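import Groth.Statements.S1128
import Mathlib.Tactic
import Mathlib.RingTheory.Flat.FaithfullyFlat.Algebra
import Mathlib.RingTheory.Flat.FaithfullyFlat.Descent
import Mathlib.AlgebraicGeometry.Morphisms.Flat

set_option autoImplicit false
open CategoryTheory CategoryTheory.Limits AlgebraicGeometry Opposite
universe u
open Desc

namespace Groth.Agent.S1128

open TensorProduct in
theorem flat_of_flat_of_faithfullyFlat_tower (A B C : Type*) [CommRing A] [CommRing B] [CommRing C]
    [Algebra A B] [Algebra B C] [Algebra A C] [IsScalarTower A B C]
    [Module.Flat A C] [Module.FaithfullyFlat B C] : Module.Flat A B := by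
  rw [Module.Flat.iff_lTensor_preserves_injective_linearMap]
  intro N P _ _ _ _ f hf
  have h1 : Function.Injective (f.baseChange B) ↔ Function.Injective (f.lTensor B) := Iff.rfl
  rw [← h1, ← Module.FaithfullyFlat.lTensor_injective_iff_injective B C]
  have hC : Function.Injective (f.lTensor C) :=
    Module.Flat.lTensor_preserves_injective_linearMap f hf
  have key : (TensorProduct.AlgebraTensorModule.cancelBaseChange A B C C P).toLinearMap.restrictScalars B ∘ₗ
      LinearMap.lTensor C (f.baseChange B) =
      ((f.baseChange C).restrictScalars B) ∘ₗ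
        (TensorProduct.AlgebraTensorModule.cancelBaseChange A B C C N).toLinearMap.restrictScalars B := by
    ext c n
    simp
  intro x y hxy
  have := congrArg (TensorProduct.AlgebraTensorModule.cancelBaseChange A B C C P) hxy
  have e1 := LinearMap.congr_fun key x
  have e2 := LinearMap.congr_fun key y
  simp only [LinearMap.coe_comp, Function.comp_apply, LinearMap.coe_restrictScalars,
    LinearEquiv.coe_coe] at e1 e2
  rw [e1, e2] at this
  exact (TensorProduct.AlgebraTensorModule.cancelBaseChange A B C C N).injective (hC this)

theorem ringHom_flat_of_comp {A B C : Type*} [CommRing A] [CommRing B] [CommRing C]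
    [IsLocalRing B] [IsLocalRing C] (φ : A →+* B) (ψ : B →+* C) [IsLocalHom ψ]
    (hψ : ψ.Flat) (hc : (ψ.comp φ).Flat) : φ.Flat := by
  letI := φ.toAlgebra
  letI := ψ.toAlgebra
  letI := (ψ.comp φ).toAlgebra
  haveI : IsScalarTower A B C := IsScalarTower.of_algebraMap_eq' rfl
  haveI : Module.Flat B C := hψ
  haveI : Module.Flat A C := hc
  haveI : IsLocalHom (algebraMap B C) := ‹IsLocalHom ψ›
  haveI : Module.FaithfullyFlat B C := Module.FaithfullyFlat.of_flat_of_isLocalHom
  exact flat_of_flat_of_faithfullyFlat_tower A B C

/-- If f is flat and surjective and the composite of f with g is flat, then g is flat; together with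
stability of flatness under composition this says flatness is fpqc local on the source. -/
theorem result {X' X Y : Scheme.{u}} (f : X' ⟶ X) (g : X ⟶ Y) [Flat f]
    [Surjective f] [Flat (f ≫ g)] : Flat g := by
  rw [Flat.iff_flat_stalkMap]
  intro x
  obtain ⟨x', rfl⟩ := f.surjective x
  have h1 : ((f ≫ g).stalkMap x').hom.Flat := Flat.stalkMap (f ≫ g) x'
  rw [Scheme.Hom.stalkMap_comp] at h1
  have h2 : (f.stalkMap x').hom.Flat := Flat.stalkMap f x'
  exact ringHom_flat_of_comp (g.stalkMap (f x')).hom (f.stalkMap x').hom h2 h1

end Groth.Agent.S1128
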