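import Groth.Statements.S5150
import Mathlib

set_option autoImplicit false
universe u
open CategoryTheory
open LocCoh

namespace Groth.Agent.S5150

/-- Let A be a commutative ring, I an ideal, M and N A-modules, and f_1, …, f_r a weakly M-regular
sequence of elements of I. If N is killed by a power of I then Ext^i_A(N, M) vanishes for all i < r.
(No Noetherian or finiteness hypothesis on A, M or N.) -/
theorem result (A : Type u) [CommRing A] (I : Ideal A) (M N : Type u) [AddCommGroup M] [Module A M] [AddCommGroup N] [Module A N] (rs : List A) (hreg : RingTheory.Sequence.IsWeaklyRegular M rs) (hI : ∀ r ∈ rs, r ∈ I) (k : ℕ) (hN : (I ^ k) • (⊤ : Submodule A N) = ⊥) (i : ℕ) (hi : i < rs.length) : Subsingleton (Abelian.Ext (ModuleCat.of A N) (ModuleCat.of A M) i) := by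
  -- general statement by induction on the list
  have key : ∀ (rs : List A) (M : Type u) [AddCommGroup M] [Module A M],
      RingTheory.Sequence.IsWeaklyRegular M rs → (∀ r ∈ rs, r ∈ I) → ∀ i : ℕ, i < rs.length →
      Subsingleton (Abelian.Ext (ModuleCat.of A N) (ModuleCat.of A M) i) := by
    intro rs
    induction rs with
    | nil => intro M _ _ _ _ i hi; simp at hi
    | cons r rs ih =>
      intro M _ _ hreg hI i hi
      rw [RingTheory.Sequence.isWeaklyRegular_cons_iff] at hreg
      obtain ⟨hr, hreg'⟩ := hreg
      have hrI : r ∈ I := hI r (List.mem_cons_self)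
      have hI' : ∀ r' ∈ rs, r' ∈ I := fun r' hr' => hI r' (List.mem_cons_of_mem _ hr')
      have hS := hr.smulShortComplex_shortExact (M := ModuleCat.of A M)
      -- r^k kills everything
      have hkill : ∀ x : Abelian.Ext (ModuleCat.of A N) (ModuleCat.of A M) i, r ^ k • x = 0 := by
        intro x
        have h0 : (r ^ k) • 𝟙 (ModuleCat.of A N) = 0 := by
          ext n
          change r ^ k • n = 0
          have : r ^ k • n ∈ (I ^ k) • (⊤ : Submodule A N) :=
            Submodule.smul_mem_smul (Ideal.pow_mem_pow hrI k) Submodule.mem_top
          rw [hN] at this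
          exact this
        have h1 : x = (Abelian.Ext.mk₀ (𝟙 (ModuleCat.of A N))).comp x (zero_add i) := by simp
        rw [h1, ← Abelian.Ext.smul_comp, ← Abelian.Ext.mk₀_smul, h0]
        simp
      -- r • is injective
      have hinj : ∀ x : Abelian.Ext (ModuleCat.of A N) (ModuleCat.of A M) i, r • x = 0 → x = 0 := by
        intro x hx
        rw [Abelian.Ext.smul_eq_comp_mk₀] at hx
        have hx' : x.comp (Abelian.Ext.mk₀ (ModuleCat.smulShortComplex (ModuleCat.of A M) r).f) (add_zero i) = 0 := hx
        rcases Nat.eq_zero_or_pos i with rfl | hipos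
        · have := hS.mono_f
          have hinj0 := Abelian.Ext.postcomp_mk₀_injective_of_mono (ModuleCat.of A N)
            (ModuleCat.smulShortComplex (ModuleCat.of A M) r).f
          apply hinj0
          refine Eq.trans ?_ (AddMonoidHom.map_zero _).symm
          exact hx'
        · obtain ⟨z, hz⟩ := Abelian.Ext.covariant_sequence_exact₁ (ModuleCat.of A N) hS x hx'
            (show (i - 1) + 1 = i by omega)
          have : Subsingleton (Abelian.Ext (ModuleCat.of A N)
              (ModuleCat.smulShortComplex (ModuleCat.of A M) r).X₃ (i - 1)) :=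
            ih (QuotSMulTop r M) hreg' hI' (i - 1) (by simp at hi; omega)
          rw [← hz, Subsingleton.elim z 0]
          exact Abelian.Ext.zero_comp _ _ hS.extClass _ _
      refine ⟨fun x y => ?_⟩
      have : ∀ (j : ℕ) (x : Abelian.Ext (ModuleCat.of A N) (ModuleCat.of A M) i), r ^ j • x = 0 → x = 0 := by
        intro j
        induction j with
        | zero => intro x hx; simpa using hx
        | succ j ihj =>
          intro x hx
          rw [pow_succ, mul_smul] at hx
          exact hinj x (ihj _ hx)
      have hx := this k x (hkill x)
      have hy := this k y (hkill y)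
      rw [hx, hy]
  exact key rs M hreg hI i hi

end Groth.Agent.S5150
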