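import Groth.Statements.S0579
import Mathlib
-- import your own Groth.Agent.* helpers here

set_option autoImplicit false
universe u
open CAlg

namespace Groth.Agent.S0579

/-- A local ring which is complete with respect to its maximal ideal and whose residue field has
characteristic zero admits a coefficient field: there is a ring homomorphism from the residue field
to the ring which is a section of the residue map. -/
theorem result (R : Type u) [CommRing R] [IsLocalRing R]
    [IsAdicComplete (IsLocalRing.maximalIdeal R) R] [CharZero (IsLocalRing.ResidueField R)] :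
    ∃ s : IsLocalRing.ResidueField R →+* R, (IsLocalRing.residue R).comp s = RingHom.id _ := by

  classical
  obtain ⟨m, hm⟩ : ∃ m : Ideal R, m = IsLocalRing.maximalIdeal R := ⟨_, rfl⟩
  obtain ⟨π, hπ⟩ : ∃ π : R →+* IsLocalRing.ResidueField R, π = IsLocalRing.residue R := ⟨_, rfl⟩
  have hπm : ∀ x : R, π x = 0 ↔ x ∈ m := by
    intro x; rw [hπ, hm]; exact IsLocalRing.residue_eq_zero_iff x
  have hπsurj : Function.Surjective π := by rw [hπ]; exact IsLocalRing.residue_surjective
  have hunit : ∀ x : R, x ∉ m → IsUnit x := by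
    intro x hx
    by_contra h
    exact hx (by rw [hm]; exact (IsLocalRing.mem_maximalIdeal x).mpr h)
  let 𝒮 : Set (Subring R) := {K | ∀ x ∈ K, x ∈ m → x = 0}
  obtain ⟨K, hKmax⟩ : ∃ K, Maximal (· ∈ 𝒮) K := by
    refine zorn_le₀ 𝒮 (fun c hc hchain => ?_)
    rcases c.eq_empty_or_nonempty with rfl | hne
    · refine ⟨⊥, ?_, by simp⟩
      intro x hx hxm
      obtain ⟨n, rfl⟩ := Subring.mem_bot.mp hx
      have h0 : π (n : R) = 0 := (hπm _).mpr hxm
      rw [map_intCast] at h0
      have : n = 0 := by exact_mod_cast h0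
      simp [this]
    · refine ⟨sSup c, ?_, fun z hz => le_sSup hz⟩
      intro x hx hxm
      obtain ⟨L, hL, hxL⟩ := (Subring.mem_sSup_of_directedOn hne hchain.directedOn).mp hx
      exact hc hL x hxL hxm
  have hKm : ∀ x ∈ K, x ∈ m → x = 0 := hKmax.prop
  obtain ⟨φ, hφ⟩ : ∃ φ : K →+* IsLocalRing.ResidueField R, φ = π.comp K.subtype := ⟨_, rfl⟩
  have hφinj : Function.Injective φ := by
    refine (injective_iff_map_eq_zero φ).mpr (fun x hx => ?_)
    rw [hφ] at hx
    exact Subtype.ext (hKm x x.2 ((hπm _).mp hx))
  have hcomp : ∀ (f : Polynomial K) (t : R), π (f.eval₂ K.subtype t) = f.eval₂ φ (π t) := by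
    intro f t
    rw [hφ]
    exact Polynomial.hom_eval₂ f K.subtype π t
  -- extension criterion
  have key : ∀ t : R,
      (∀ f : Polynomial K, f.eval₂ K.subtype t ∈ m → f.eval₂ K.subtype t = 0) → t ∈ K := by
    intro t ht
    have hK' : (Polynomial.eval₂RingHom K.subtype t).range ∈ 𝒮 := by
      rintro _ ⟨f, rfl⟩ hx
      exact ht f hx
    have hle : K ≤ (Polynomial.eval₂RingHom K.subtype t).range :=
      fun x hx => ⟨Polynomial.C ⟨x, hx⟩, by simp⟩
    have h2 := hKmax.le_of_ge hK' hle
    exact h2 ⟨Polynomial.X, by simp⟩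
  -- inverses
  have hinv : ∀ x ∈ K, x ≠ 0 → ∃ y ∈ K, x * y = 1 := by
    intro x hx hx0
    have hxm : x ∉ m := fun h => hx0 (hKm x hx h)
    obtain ⟨y, hy⟩ := (hunit x hxm).exists_right_inv
    refine ⟨y, key y (fun f hf => ?_), hy⟩
    have hsum : x ^ f.natDegree * f.eval₂ K.subtype y ∈ K := by
      rw [Polynomial.eval₂_eq_sum_range, Finset.mul_sum]
      refine Subring.sum_mem _ (fun i hi => ?_)
      have hi' : i ≤ f.natDegree := Nat.lt_succ_iff.mp (Finset.mem_range.mp hi)
      have e1 : x ^ f.natDegree * (K.subtype (f.coeff i) * y ^ i) =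
          (f.coeff i : R) * x ^ (f.natDegree - i) := by
        have e2 : x ^ f.natDegree = x ^ (f.natDegree - i) * x ^ i := by
          rw [← pow_add, Nat.sub_add_cancel hi']
        have e3 : x ^ i * y ^ i = 1 := by rw [← mul_pow, hy, one_pow]
        rw [e2, Subring.coe_subtype]
        linear_combination ((f.coeff i : R) * x ^ (f.natDegree - i)) * e3
      rw [e1]
      exact K.mul_mem (f.coeff i).2 (K.pow_mem hx _)
    have h0 := hKm _ hsum (m.mul_mem_left _ hf)
    have hxu : IsUnit (x ^ f.natDegree) := (hunit x hxm).pow _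
    exact (hxu.mul_right_eq_zero).mp h0
  -- surjectivity
  have hφsurj : Function.Surjective φ := by
    intro tb
    by_cases halg : ∃ f : Polynomial K, f ≠ 0 ∧ f.eval₂ φ tb = 0
    · -- algebraic case
      have hex : ∃ n : ℕ, ∃ f : Polynomial K, f ≠ 0 ∧ f.natDegree = n ∧ f.eval₂ φ tb = 0 := by
        obtain ⟨f, hf0, hf⟩ := halg
        exact ⟨_, f, hf0, rfl, hf⟩
      obtain ⟨f0, hf00, hf0n, hf0e⟩ := Nat.find_spec hex
      have hmin : ∀ g : Polynomial K, g ≠ 0 → g.eval₂ φ tb = 0 → Nat.find hex ≤ g.natDegree := by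
        intro g hg0 hg
        exact Nat.find_min' hex ⟨g, hg0, rfl, hg⟩
      -- make monic
      have hlc : (f0.leadingCoeff : R) ≠ 0 := by
        intro h
        exact hf00 (Polynomial.leadingCoeff_eq_zero.mp (Subtype.ext h))
      obtain ⟨y, hyK, hy⟩ := hinv _ f0.leadingCoeff.2 hlc
      have hy' : f0.leadingCoeff * (⟨y, hyK⟩ : K) = 1 := Subtype.ext hy
      obtain ⟨f, hfdef⟩ : ∃ f : Polynomial K, f = f0 * Polynomial.C (⟨y, hyK⟩ : K) := ⟨_, rfl⟩
      have hfmonic : f.Monic := by
        rw [hfdef]; exact Polynomial.monic_mul_C_of_leadingCoeff_mul_eq_one hy'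
      have hfe : f.eval₂ φ tb = 0 := by
        rw [hfdef, Polynomial.eval₂_mul, hf0e, zero_mul]
      have hfdeg_le : f.natDegree ≤ Nat.find hex := by
        rw [hfdef, ← hf0n]; exact Polynomial.natDegree_mul_C_le _ _
      have hfdeg : f.natDegree = Nat.find hex :=
        le_antisymm hfdeg_le (hmin f hfmonic.ne_zero hfe)
      have hfdeg_pos : f.natDegree ≠ 0 := by
        intro h0
        have : f = 1 := hfmonic.natDegree_eq_zero.mp h0
        rw [this, Polynomial.eval₂_one] at hfe
        exact one_ne_zero hfe
      -- derivative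
      have hder_ne : (Polynomial.derivative f).eval₂ φ tb ≠ 0 := by
        intro h
        have hd0 : Polynomial.derivative f ≠ 0 := by
          intro hd
          have hc := congrArg (fun p => p.coeff (f.natDegree - 1)) hd
          simp only [Polynomial.coeff_derivative, Polynomial.coeff_zero] at hc
          have hsub : f.natDegree - 1 + 1 = f.natDegree := Nat.sub_add_cancel (Nat.pos_of_ne_zero hfdeg_pos)
          rw [hsub, hfmonic.coeff_natDegree, one_mul] at hc
          have hc2 := congrArg φ hc
          rw [map_zero, map_add, map_one, map_natCast] at hc2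
          have hc3 : (((f.natDegree - 1 + 1 : ℕ)) : IsLocalRing.ResidueField R) = 0 := by
            push_cast; exact hc2
          rw [hsub] at hc3
          exact hfdeg_pos (by exact_mod_cast hc3)
        have h1 := hmin _ hd0 h
        have h2 := Polynomial.natDegree_derivative_lt hfdeg_pos
        omega
      -- Hensel
      obtain ⟨a₀, ha₀⟩ := hπsurj tb
      obtain ⟨F, hFdef⟩ : ∃ F : Polynomial R, F = f.map K.subtype := ⟨_, rfl⟩
      have hFmonic : F.Monic := by rw [hFdef]; exact hfmonic.map _
      have hFeval : ∀ t : R, F.eval t = f.eval₂ K.subtype t := by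
        intro t; rw [hFdef, Polynomial.eval_map]
      have hF0 : F.eval a₀ ∈ IsLocalRing.maximalIdeal R := by
        rw [← hm, ← hπm, hFeval, hcomp, ha₀, hfe]
      have hF1 : IsUnit (Ideal.Quotient.mk (IsLocalRing.maximalIdeal R)
          ((Polynomial.derivative F).eval a₀)) := by
        have e1 : (Polynomial.derivative F).eval a₀ =
            (Polynomial.derivative f).eval₂ K.subtype a₀ := by
          rw [hFdef, Polynomial.derivative_map, Polynomial.eval_map]
        have e2 : π ((Polynomial.derivative F).eval a₀) ≠ 0 := by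
          rw [e1, hcomp, ha₀]; exact hder_ne
        rw [hπ] at e2
        exact IsUnit.mk0 _ e2
      obtain ⟨t, htroot, htsub⟩ :=
        HenselianRing.is_henselian (I := IsLocalRing.maximalIdeal R) F hFmonic a₀ hF0 hF1
      have hπt : π t = tb := by
        have : π (t - a₀) = 0 := (hπm _).mpr (by rw [hm]; exact htsub)
        rw [map_sub, sub_eq_zero] at this
        rw [this, ha₀]
      have hft : f.eval₂ K.subtype t = 0 := by
        rw [← hFeval]; exact htroot
      have htK : t ∈ K := by
        refine key t (fun h hh => ?_)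
        have hhe : h.eval₂ φ tb = 0 := by
          rw [← hπt, ← hcomp]; exact (hπm _).mpr hh
        have hdiv := Polynomial.modByMonic_add_div h f
        have hr : h %ₘ f = 0 := by
          by_contra hr0
          have hre : (h %ₘ f).eval₂ φ tb = 0 := by
            have e := congrArg (fun p => p.eval₂ φ tb) hdiv
            simp only [Polynomial.eval₂_add, Polynomial.eval₂_mul, hfe, zero_mul, add_zero, hhe]
              at e
            exact e
          have h1 := hmin _ hr0 hre
          have h2 : (h %ₘ f).natDegree < f.natDegree :=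
            Polynomial.natDegree_modByMonic_lt h hfmonic (fun h1 => hfdeg_pos (by rw [h1]; simp))
          omega
        rw [hr, zero_add] at hdiv
        rw [← hdiv, Polynomial.eval₂_mul, hft, zero_mul]
      exact ⟨⟨t, htK⟩, by rw [hφ]; exact hπt⟩
    · -- transcendental case
      obtain ⟨t, ht⟩ := hπsurj tb
      have htK : t ∈ K := by
        refine key t (fun f hf => ?_)
        have hfe : f.eval₂ φ tb = 0 := by
          rw [← ht, ← hcomp]; exact (hπm _).mpr hf
        have hf0 : f = 0 := by
          by_contra h0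
          exact halg ⟨f, h0, hfe⟩
        rw [hf0, Polynomial.eval₂_zero]
      exact ⟨⟨t, htK⟩, by rw [hφ]; exact ht⟩
  -- the section
  let e : K ≃+* IsLocalRing.ResidueField R := RingEquiv.ofBijective φ ⟨hφinj, hφsurj⟩
  refine ⟨K.subtype.comp e.symm.toRingHom, ?_⟩
  ext x
  have h1 : φ (e.symm x) = x := e.apply_symm_apply x
  rw [hφ] at h1
  rw [← hπ]
  simpa using h1

end Groth.Agent.S0579
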