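import Groth.Statements.S9381
import Groth.Agent.Lib.TrdegLt_helper8
import Groth.Agent.Lib.ResQuot_helper8

set_option autoImplicit false
universe u
open FibDim

namespace Groth.Agent.S9381

open AlgebraicGeometry CategoryTheory in
/-- Let f : X → S be locally of finite type and x ⤳ x' a nontrivial specialization of points of X in the
same fibre (f x = f x'). Then trdeg_{κ(f x)} κ(x) > trdeg_{κ(f x')} κ(x'). -/
theorem result {X S : Scheme.{u}} (f : X ⟶ S) [LocallyOfFiniteType f] (x x' : X)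
    (hsp : x ⤳ x') (hne : x ≠ x') (hfx : f.base x = f.base x') :
    @Algebra.trdeg (S.residueField (f.base x')) (X.residueField x') _ _ (f.residueFieldMap x').hom.toAlgebra <
      @Algebra.trdeg (S.residueField (f.base x)) (X.residueField x) _ _ (f.residueFieldMap x).hom.toAlgebra := by
  classical
  obtain ⟨_, ⟨V, hV, rfl⟩, hfxV, -⟩ :=
    S.isBasis_affineOpens.exists_subset_of_mem_open (Set.mem_univ (f.base x')) isOpen_univ
  obtain ⟨_, ⟨U, hU, rfl⟩, hx'U, hUV⟩ :=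
    X.isBasis_affineOpens.exists_subset_of_mem_open (show x' ∈ (f ⁻¹ᵁ V : Set X) from hfxV)
      (f ⁻¹ᵁ V).2
  have e : U ≤ f ⁻¹ᵁ V := hUV
  have hxU : x ∈ U := hsp.mem_open U.2 hx'U
  have hφ : (f.appLE V U e).hom.FiniteType :=
    HasRingHomProperty.appLE (P := @LocallyOfFiniteType) f inferInstance ⟨V, hV⟩ ⟨U, hU⟩ e
  haveI : (hU.primeIdealOf ⟨x, hxU⟩).asIdeal.IsPrime := (hU.primeIdealOf ⟨x, hxU⟩).2
  haveI : (hU.primeIdealOf ⟨x', hx'U⟩).asIdeal.IsPrime := (hU.primeIdealOf ⟨x', hx'U⟩).2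
  have hle : hU.primeIdealOf ⟨x, hxU⟩ ≤ hU.primeIdealOf ⟨x', hx'U⟩ :=
    (Groth.Agent.SchFTH8.specializes_iff_primeIdealOf_le hU x x' hxU hx'U).mp hsp
  have hne' : hU.primeIdealOf ⟨x, hxU⟩ ≠ hU.primeIdealOf ⟨x', hx'U⟩ := by
    intro heq
    apply hne
    have := congrArg hU.fromSpec heq
    rw [hU.fromSpec_primeIdealOf, hU.fromSpec_primeIdealOf] at this
    exact this
  have hlt : (hU.primeIdealOf ⟨x, hxU⟩).asIdeal < (hU.primeIdealOf ⟨x', hx'U⟩).asIdeal :=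
    lt_of_le_of_ne hle (fun h => hne' (PrimeSpectrum.ext h))
  have hpp : (hV.primeIdealOf ⟨f.base x, e hxU⟩).asIdeal =
      (hV.primeIdealOf ⟨f.base x', e hx'U⟩).asIdeal := by
    have : (⟨f.base x, e hxU⟩ : V) = ⟨f.base x', e hx'U⟩ := Subtype.ext hfx
    rw [this]
  have key := Groth.Agent.TrdegLtH8.trdeg_lt_of_lt (f.appLE V U e).hom hφ
    (hU.primeIdealOf ⟨x, hxU⟩).asIdeal (hU.primeIdealOf ⟨x', hx'U⟩).asIdeal hlt
    (hV.primeIdealOf ⟨f.base x, e hxU⟩).asIdeal (hV.primeIdealOf ⟨f.base x', e hx'U⟩).asIdeal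
    (Groth.Agent.ResQuotH8.primeIdealOf_map f hU hV e x hxU)
    (Groth.Agent.ResQuotH8.primeIdealOf_map f hU hV e x' hx'U) hpp
  rw [Groth.Agent.ResQuotH8.trdeg_residueFieldMap f hU hV e x hxU,
    Groth.Agent.ResQuotH8.trdeg_residueFieldMap f hU hV e x' hx'U]
  exact key

end Groth.Agent.S9381
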