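import Groth.Statements.S9687
import Groth.Agent.Lib.DimIneqQ_helper8
import Groth.Agent.Lib.ResQuot_helper8

set_option autoImplicit false
universe u
open CategoryTheory CategoryTheory.Limits AlgebraicGeometry
open Mor

namespace Groth.Agent.S9687

/-- Let S be locally Noetherian, f : X ⟶ S locally of finite type and x a point of X with image s. Let n
be the transcendence degree of κ(x) over κ(s) and let E bound the transcendence degree of κ(ξ) over
κ(f ξ) for every generic point ξ of an irreducible component of X passing through x. Then dim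
O_{X,x} + n ≤ dim O_{S,s} + E. (The published statement takes E to be the maximum of these
transcendence degrees; the statement with any upper bound E is equivalent.) -/
theorem result {X S : Scheme.{u}} [IsLocallyNoetherian S]
    (f : X ⟶ S) [LocallyOfFiniteType f] (x : X) (n E : ℕ)
    (hn : letI := (f.residueFieldMap x).hom.toAlgebra
      Algebra.trdeg (S.residueField (f.base x)) (X.residueField x) = n)
    (hE : ∀ ξ : X, closure {ξ} ∈ irreducibleComponents ↥X → ξ ⤳ x →
      letI := (f.residueFieldMap ξ).hom.toAlgebra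
      Algebra.trdeg (S.residueField (f.base ξ)) (X.residueField ξ) ≤ E) :
    ringKrullDim (X.presheaf.stalk x) + n ≤ ringKrullDim (S.presheaf.stalk (f.base x)) + E := by
  classical
  have hn' : @Algebra.trdeg (S.residueField (f.base x)) (X.residueField x) _ _
      (f.residueFieldMap x).hom.toAlgebra = n := hn
  -- affine charts
  obtain ⟨_, ⟨V, hV, rfl⟩, hfxV, -⟩ :=
    S.isBasis_affineOpens.exists_subset_of_mem_open (Set.mem_univ (f.base x)) isOpen_univ
  obtain ⟨_, ⟨U, hU, rfl⟩, hxU, hUV⟩ :=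
    X.isBasis_affineOpens.exists_subset_of_mem_open (show x ∈ (f ⁻¹ᵁ V : Set X) from hfxV)
      (f ⁻¹ᵁ V).2
  have e : U ≤ f ⁻¹ᵁ V := hUV
  haveI hRn : IsNoetherianRing Γ(S, V) := IsLocallyNoetherian.component_noetherian ⟨V, hV⟩
  have hφ : (f.appLE V U e).hom.FiniteType :=
    HasRingHomProperty.appLE (P := @LocallyOfFiniteType) f inferInstance ⟨V, hV⟩ ⟨U, hU⟩ e
  haveI hBn : IsNoetherianRing Γ(X, U) := by
    letI := (f.appLE V U e).hom.toAlgebra
    haveI : Algebra.FiniteType Γ(S, V) Γ(X, U) := hφ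
    exact Algebra.FiniteType.isNoetherianRing Γ(S, V) Γ(X, U)
  set q := (hU.primeIdealOf ⟨x, hxU⟩).asIdeal with hq
  haveI hqp : q.IsPrime := (hU.primeIdealOf ⟨x, hxU⟩).2
  obtain ⟨q0, hq0min, hq0q, hht⟩ := Groth.Agent.DimFT2H8.exists_minimalPrimes_height_map_eq q
  haveI hq0p : q0.IsPrime := hq0min.1.1
  -- the generic point
  set ξ : X := hU.fromSpec ⟨q0, hq0p⟩ with hξ
  have hξU : ξ ∈ U := Groth.Agent.SchFTH8.fromSpec_mem hU _
  have hpξ : hU.primeIdealOf ⟨ξ, hξU⟩ = ⟨q0, hq0p⟩ :=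
    Groth.Agent.SchFTH8.primeIdealOf_fromSpec hU _ hξU
  have hξx : ξ ⤳ x := by
    rw [Groth.Agent.SchFTH8.specializes_iff_primeIdealOf_le hU ξ x hξU hxU, hpξ]
    exact hq0q
  have hξcomp : closure ({ξ} : Set X) ∈ irreducibleComponents ↥X := by
    rw [Groth.Agent.SchFTH8.closure_mem_irreducibleComponents_iff]
    intro z hz
    have hzU : z ∈ U := hz.mem_open U.2 hξU
    have h1 := (Groth.Agent.SchFTH8.specializes_iff_primeIdealOf_le hU z ξ hzU hξU).mp hz
    rw [hpξ] at h1
    have h2 : q0 ≤ (hU.primeIdealOf ⟨z, hzU⟩).asIdeal :=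
      hq0min.2 ⟨(hU.primeIdealOf ⟨z, hzU⟩).2, bot_le⟩ h1
    have h3 : hU.primeIdealOf ⟨z, hzU⟩ = hU.primeIdealOf ⟨ξ, hξU⟩ := by
      rw [hpξ]
      exact PrimeSpectrum.ext (le_antisymm h1 h2)
    have h4 := congrArg hU.fromSpec h3
    rw [hU.fromSpec_primeIdealOf, hU.fromSpec_primeIdealOf] at h4
    exact h4
  have hEξ : @Algebra.trdeg (S.residueField (f.base ξ)) (X.residueField ξ) _ _
      (f.residueFieldMap ξ).hom.toAlgebra ≤ E := hE ξ hξcomp hξx
  -- the dimension inequality
  set q0' := (hU.primeIdealOf ⟨ξ, hξU⟩).asIdeal with hq0'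
  have hq0eq : q0' = q0 := by rw [hq0', hpξ]
  haveI hq0'p : q0'.IsPrime := (hU.primeIdealOf ⟨ξ, hξU⟩).2
  have hqq : q0' ≤ q := by rw [hq0eq]; exact hq0q
  obtain ⟨a, b, r, r0, ha, hb, hr, hr0, hsum⟩ :=
    Groth.Agent.DimIneqQH8.dim_ineq_quot (f.appLE V U e).hom hφ q0' q hqq
      (hV.primeIdealOf ⟨f.base ξ, e hξU⟩).asIdeal (hV.primeIdealOf ⟨f.base x, e hxU⟩).asIdeal
      (Groth.Agent.ResQuotH8.primeIdealOf_map f hU hV e ξ hξU)
      (Groth.Agent.ResQuotH8.primeIdealOf_map f hU hV e x hxU)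
  have hrx := Groth.Agent.ResQuotH8.trdeg_residueFieldMap f hU hV e x hxU
  have hrξ := Groth.Agent.ResQuotH8.trdeg_residueFieldMap f hU hV e ξ hξU
  have hrn : r = n := by
    have h1 : ((r : ℕ) : Cardinal) = ((n : ℕ) : Cardinal) := by
      rw [← hn', hrx]; exact hr.symm
    exact_mod_cast h1
  have hr0E : r0 ≤ E := by
    have h1 : ((r0 : ℕ) : Cardinal) ≤ ((E : ℕ) : Cardinal) := by
      rw [hrξ] at hEξ
      rw [← hr0]; exact hEξ
    exact_mod_cast h1
  have hht' : (Ideal.map (Ideal.Quotient.mk q0') q).height = q.height := by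
    rw [hq0eq]; exact hht
  have hax : q.height = a := by
    rw [← ha, hht']
  rw [Groth.Agent.SchFTH8.ringKrullDim_stalk_eq_height hU x hxU,
    Groth.Agent.SchFTH8.ringKrullDim_stalk_eq_height hV (f.base x) (e hxU), ← hq, hax, hb]
  have : a + n ≤ b + E := by omega
  exact_mod_cast this

end Groth.Agent.S9687
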