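import Groth.Statements.S17756
import Mathlib
-- import your own Groth.Agent.* helpers here

set_option autoImplicit false
universe u
open Matlis


namespace Groth.Agent.S17756

/-- Let R be a Noetherian local ring with maximal ideal m and residue field k, E an injective hull of k,
and M a finitely generated R-module with Matlis dual M^v = Hom_R(M, E). Then the minimal number of
generators of M equals the k-dimension of the socle of M^v, the submodule of elements of M^v killed
by m (stated as its length as an R-module). -/
theorem result (R : Type u) [CommRing R] [IsNoetherianRing R] [IsLocalRing R] (E : Type u) [AddCommGroup E] [Module R E] (f : IsLocalRing.ResidueField R →ₗ[R] E) (hf : InjHull.IsInjectiveHull f) (M : Type u) [AddCommGroup M] [Module R M] [Module.Finite R M] : ((⊤ : Submodule R M).spanFinrank : ℕ∞) = Module.length R (LocCoh.torsionBy (IsLocalRing.maximalIdeal R) (M →ₗ[R] E)) := by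
  classical
  set 𝔪 := IsLocalRing.maximalIdeal R with h𝔪
  let k := IsLocalRing.ResidueField R
  have hsoc : ∀ x : E, (∀ a ∈ 𝔪, a • x = 0) → x ∈ LinearMap.range f := by
    intro x hx
    by_cases hx0 : x = 0
    · rw [hx0]; exact zero_mem _
    have hne : Submodule.span R {x} ≠ ⊥ := by
      rw [Ne, Submodule.span_singleton_eq_bot]; exact hx0
    have h1 := hf.essential _ hne
    obtain ⟨y, hy, hy0⟩ := (Submodule.ne_bot_iff _).1 h1
    obtain ⟨hy1, hy2⟩ := Submodule.mem_inf.1 hy
    obtain ⟨r, rfl⟩ := Submodule.mem_span_singleton.1 hy1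
    have hr : IsUnit r := by
      by_contra hr
      have : r ∈ 𝔪 := (IsLocalRing.mem_maximalIdeal r).2 hr
      exact hy0 (hx r this)
    obtain ⟨u, rfl⟩ := hr
    have : x = (↑u⁻¹ : R) • ((u : R) • x) := by rw [smul_smul]; simp
    rw [this]
    exact Submodule.smul_mem _ _ hy2
  have hrange : ∀ (c : k) (a : R), a ∈ 𝔪 → a • f c = 0 := by
    intro c a ha
    rw [← map_smul]
    have : a • c = 0 := by
      rw [Algebra.smul_def]
      have : algebraMap R k a = 0 := (IsLocalRing.residue_eq_zero_iff a).2 ha
      rw [this, zero_mul]
    rw [this, map_zero]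
  let g : (M →ₗ[R] k) →ₗ[R] (M →ₗ[R] E) := LinearMap.compRight R f
  have hg_inj : Function.Injective g := by
    intro ψ₁ ψ₂ h
    ext x
    apply hf.injective
    exact LinearMap.congr_fun h x
  have hg_range : LinearMap.range g = LocCoh.torsionBy 𝔪 (M →ₗ[R] E) := by
    ext φ
    constructor
    · rintro ⟨ψ, rfl⟩
      rw [Submodule.mem_torsionBySet_iff]
      rintro ⟨a, ha⟩
      ext x
      simp only [g, LinearMap.compRight_apply, LinearMap.smul_apply, LinearMap.comp_apply,
        LinearMap.zero_apply]
      exact hrange _ a ha
    · intro hφ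
      rw [Submodule.mem_torsionBySet_iff] at hφ
      have hφ' : ∀ x, φ x ∈ LinearMap.range f := fun x => hsoc _ (fun a ha => by
        have := LinearMap.congr_fun (hφ ⟨a, ha⟩) x
        simpa using this)
      refine ⟨((LinearEquiv.ofInjective f hf.injective).symm : _ →ₗ[R] k).comp
        (LinearMap.codRestrict _ φ hφ'), ?_⟩
      ext x
      simp only [g, LinearMap.compRight_apply, LinearMap.comp_apply, LinearEquiv.coe_coe,
        LinearMap.codRestrict_apply]
      exact congrArg Subtype.val
        ((LinearEquiv.ofInjective f hf.injective).apply_symm_apply ⟨φ x, hφ' x⟩)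
  have e1 : Module.length R (LocCoh.torsionBy 𝔪 (M →ₗ[R] E)) = Module.length R (M →ₗ[R] k) := by
    rw [← hg_range]
    exact (LinearEquiv.ofInjective g hg_inj).length_eq.symm
  let T : Submodule R M := ⊤
  have e2 : Module.length R (M →ₗ[R] k) = Module.length R (T →ₗ[R] k) :=
    (LinearEquiv.congrLeft k R (Submodule.topEquiv (R := R) (M := M)).symm).length_eq
  have e3 : Module.length R (T →ₗ[R] k) = Module.length k (T →ₗ[R] k) :=
    Module.length_eq_of_surjective IsLocalRing.residue_surjective
  let eD : (T →ₗ[R] k) ≃ₗ[k] (TensorProduct R k T →ₗ[k] k) := LinearMap.liftBaseChangeEquiv k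
  haveI : Module.Finite R T := inferInstance
  haveI : Module.Finite k (TensorProduct R k T) := inferInstance
  haveI : Module.Finite k (T →ₗ[R] k) := Module.Finite.equiv eD.symm
  have e4 : Module.length k (T →ₗ[R] k) = Module.finrank k (T →ₗ[R] k) :=
    Module.length_eq_finrank k _
  have e5 : Module.finrank k (T →ₗ[R] k) = Module.finrank k (TensorProduct R k T) := by
    rw [eD.finrank_eq]; exact Subspace.dual_finrank_eq
  have e6 : Module.finrank k (TensorProduct R k T) = T.spanFinrank := by
    rw [Module.finrank_eq_spanFinrank_of_free]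
    exact TensorProduct.spanFinrank_top_eq_of_residueField T (Module.Finite.fg_top)
  rw [e1, e2, e3, e4, e5, e6]

end Groth.Agent.S17756
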