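import Groth.Statements.S4542
import Groth.Agent.Lib.AdicSmooth_helper1

set_option autoImplicit false
universe u
open EGA41

namespace Groth.Agent.S4542

/-- The property carried by the level-`n` lifts in the proof. -/
def LiftProp {A B C : Type u} [CommRing A] [CommRing B] [CommRing C] [Algebra A B] [Algebra A C]
    (𝔟 : Ideal B) (𝔠 J : Ideal C) (u : B →ₐ[A] C ⧸ J) (n : ℕ) (w : B →ₐ[A] C ⧸ 𝔠 ^ n) : Prop :=
  (∀ b c c', u b = Ideal.Quotient.mk J c → w b = Ideal.Quotient.mk (𝔠 ^ n) c' →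
    c - c' ∈ J ⊔ 𝔠 ^ n) ∧ ∃ k : ℕ, ∀ x ∈ 𝔟 ^ k, w x = 0


/-- Let B (𝔟-adic) be formally smooth over A (𝔞-adic); let C be a topological A-algebra for the 𝔠-adic
topology (a power of 𝔞 maps into 𝔠) which is complete, and J an ideal which is closed, i.e. C/J is
Hausdorff for the 𝔠-adic topology, and whose powers tend to 0, i.e. some power of J lies in 𝔠. Then
every continuous A-algebra homomorphism u : B → C/J (a power of 𝔟 maps into the image of 𝔠) factors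
as B → C → C/J with B → C a continuous A-algebra homomorphism (a power of 𝔟 maps into 𝔠). -/
theorem result {A B C : Type u} [CommRing A] [CommRing B] [CommRing C] [Algebra A B]
    [Algebra A C] (𝔞 : Ideal A) (𝔟 : Ideal B) (𝔠 : Ideal C) (hB : EGA41.IsFormallySmoothAdic A 𝔞 B 𝔟)
    [IsAdicComplete 𝔠 C] (hAC : ∃ k : ℕ, (𝔞 ^ k).map (algebraMap A C) ≤ 𝔠)
    (J : Ideal C) (hJ : ∃ t : ℕ, J ^ t ≤ 𝔠) [IsHausdorff (𝔠.map (Ideal.Quotient.mk J)) (C ⧸ J)]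
    (u : B →ₐ[A] C ⧸ J) (hu : ∃ k : ℕ, (𝔟 ^ k).map u.toRingHom ≤ 𝔠.map (Ideal.Quotient.mk J)) :
    ∃ v : B →ₐ[A] C, (∃ k : ℕ, (𝔟 ^ k).map v.toRingHom ≤ 𝔠) ∧ (Ideal.Quotient.mkₐ A J).comp v = u := by
  classical
  obtain ⟨kA, hkA⟩ := hAC
  obtain ⟨t, ht⟩ := hJ
  obtain ⟨ku, hku⟩ := hu
  have hstep : ∀ (n : ℕ) (w : {w : B →ₐ[A] C ⧸ 𝔠 ^ n // LiftProp 𝔟 𝔠 J u n w}),
      ∃ w' : {w : B →ₐ[A] C ⧸ 𝔠 ^ (n + 1) // LiftProp 𝔟 𝔠 J u (n + 1) w},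
        (Ideal.Quotient.factorₐ A (Ideal.pow_le_pow_right (Nat.le_succ n))).comp w'.1 = w.1 := by
    rintro n ⟨w, hw1, kw, hkw⟩
    have h01 : 𝔠 ^ (n + 1) ≤ J ⊔ 𝔠 ^ (n + 1) := le_sup_right
    have h02 : 𝔠 ^ (n + 1) ≤ 𝔠 ^ n := Ideal.pow_le_pow_right (Nat.le_succ n)
    have hdisc : ∃ k : ℕ, ∀ a ∈ 𝔞 ^ k, algebraMap A C a ∈ 𝔠 ^ (n + 1) := by
      refine ⟨kA * (n + 1), fun a ha => ?_⟩
      rw [pow_mul] at ha
      have h1 : (𝔞 ^ kA) ^ (n + 1) ≤ (𝔠 ^ (n + 1)).comap (algebraMap A C) :=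
        calc (𝔞 ^ kA) ^ (n + 1) ≤ (𝔠.comap (algebraMap A C)) ^ (n + 1) :=
              Ideal.pow_right_mono (Ideal.map_le_iff_le_comap.mp hkA) _
          _ ≤ (𝔠 ^ (n + 1)).comap (algebraMap A C) := Ideal.le_comap_pow _ _
      exact h1 ha
    have hI1t : (J ⊔ 𝔠 ^ (n + 1)) ^ t ≤ 𝔠 := by
      have e1 : (𝔠 ^ (n + 1)).map (Ideal.Quotient.mk 𝔠) = ⊥ := by
        rw [Ideal.map_eq_bot_iff_le_ker, Ideal.mk_ker]
        exact Ideal.pow_le_self (Nat.succ_ne_zero n)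
      have e2 : (J ^ t).map (Ideal.Quotient.mk 𝔠) = ⊥ := by
        rw [Ideal.map_eq_bot_iff_le_ker, Ideal.mk_ker]
        exact ht
      have e3 : ((J ⊔ 𝔠 ^ (n + 1)) ^ t).map (Ideal.Quotient.mk 𝔠) = ⊥ := by
        rw [Ideal.map_pow, Ideal.map_sup, e1, sup_bot_eq, ← Ideal.map_pow, e2]
      rw [Ideal.map_eq_bot_iff_le_ker, Ideal.mk_ker] at e3
      exact e3
    have hnil : ∃ s : ℕ, ((J ⊔ 𝔠 ^ (n + 1)) ⊓ 𝔠 ^ n) ^ s ≤ 𝔠 ^ (n + 1) := by
      refine ⟨t * (n + 1), ?_⟩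
      calc ((J ⊔ 𝔠 ^ (n + 1)) ⊓ 𝔠 ^ n) ^ (t * (n + 1)) ≤ (J ⊔ 𝔠 ^ (n + 1)) ^ (t * (n + 1)) :=
            Ideal.pow_right_mono inf_le_left _
        _ = ((J ⊔ 𝔠 ^ (n + 1)) ^ t) ^ (n + 1) := pow_mul _ _ _
        _ ≤ 𝔠 ^ (n + 1) := Ideal.pow_right_mono hI1t _
    have hα : ∀ b c, u b = Ideal.Quotient.mk J c →
        ((Ideal.Quotient.factorₐ A (le_sup_left : J ≤ J ⊔ 𝔠 ^ (n + 1))).comp u) b =
          Ideal.Quotient.mk (J ⊔ 𝔠 ^ (n + 1)) c := by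
      intro b c hc
      rw [AlgHom.comp_apply, hc]
      rfl
    have hcompat : ∀ b c₁ c₂,
        ((Ideal.Quotient.factorₐ A (le_sup_left : J ≤ J ⊔ 𝔠 ^ (n + 1))).comp u) b =
          Ideal.Quotient.mk (J ⊔ 𝔠 ^ (n + 1)) c₁ →
        w b = Ideal.Quotient.mk (𝔠 ^ n) c₂ → c₁ - c₂ ∈ (J ⊔ 𝔠 ^ (n + 1)) ⊔ 𝔠 ^ n := by
      intro b c₁ c₂ h1 h2
      obtain ⟨c, hc⟩ := Ideal.Quotient.mk_surjective (u b)
      have h3 := hα b c hc.symm
      rw [h1, Ideal.Quotient.mk_eq_mk_iff_sub_mem] at h3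
      have h4 := hw1 b c c₂ hc.symm h2
      have : c₁ - c₂ = (c₁ - c) + (c - c₂) := by ring
      rw [this]
      refine add_mem (Ideal.mem_sup_left h3) ?_
      exact (sup_le (le_sup_left.trans le_sup_left) le_sup_right :
        J ⊔ 𝔠 ^ n ≤ (J ⊔ 𝔠 ^ (n + 1)) ⊔ 𝔠 ^ n) h4
    have hcont : ∃ k : ℕ, ∀ x ∈ 𝔟 ^ k,
        ((Ideal.Quotient.factorₐ A (le_sup_left : J ≤ J ⊔ 𝔠 ^ (n + 1))).comp u) x = 0 ∧
          w x = 0 := by
      refine ⟨max (ku * (n + 1)) kw, fun x hx => ⟨?_, ?_⟩⟩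
      · have hx' : x ∈ 𝔟 ^ (ku * (n + 1)) := Ideal.pow_le_pow_right (le_max_left _ _) hx
        rw [pow_mul] at hx'
        have h1 : ((𝔟 ^ ku) ^ (n + 1)).map u.toRingHom ≤
            (𝔠.map (Ideal.Quotient.mk J)) ^ (n + 1) := by
          rw [Ideal.map_pow]
          exact Ideal.pow_right_mono hku _
        have h2 := h1 (Ideal.mem_map_of_mem _ hx')
        rw [← Ideal.map_pow] at h2
        obtain ⟨c, hc, hcx⟩ :=
          (Ideal.mem_map_iff_of_surjective _ Ideal.Quotient.mk_surjective).mp h2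
        have h3 := hα x c (show u x = _ from hcx.symm)
        rw [h3, Ideal.Quotient.eq_zero_iff_mem]
        exact Ideal.mem_sup_right hc
      · exact hkw x (Ideal.pow_le_pow_right (le_max_right _ _) hx)
    obtain ⟨w', hw'1, hw'2, hw'3⟩ := Groth.Agent.Lib.AdicSmoothH1.exists_lift_inf 𝔞 𝔟 hB
      (𝔠 ^ (n + 1)) (J ⊔ 𝔠 ^ (n + 1)) (𝔠 ^ n) h01 h02 hdisc hnil _ w hcompat hcont
    refine ⟨⟨w', ⟨?_, hw'3⟩⟩, hw'2⟩
    intro b c c' hc hc'
    have h1 := AlgHom.congr_fun hw'1 b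
    rw [AlgHom.comp_apply, hc', hα b c hc] at h1
    have h3 : Ideal.Quotient.mk (J ⊔ 𝔠 ^ (n + 1)) c' = Ideal.Quotient.mk (J ⊔ 𝔠 ^ (n + 1)) c := h1
    rw [Ideal.Quotient.mk_eq_mk_iff_sub_mem] at h3
    have : c - c' = -(c' - c) := by ring
    rw [this]
    exact neg_mem h3
  have hsub : Subsingleton (C ⧸ 𝔠 ^ 0) := by
    rw [Ideal.Quotient.subsingleton_iff, pow_zero, Ideal.one_eq_top]
  let w0 : B →ₐ[A] C ⧸ 𝔠 ^ 0 :=
    { toFun := fun _ => 0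
      map_one' := Subsingleton.elim _ _
      map_mul' := fun _ _ => Subsingleton.elim _ _
      map_zero' := rfl
      map_add' := fun _ _ => Subsingleton.elim _ _
      commutes' := fun _ => Subsingleton.elim _ _ }
  have hw0 : LiftProp 𝔟 𝔠 J u 0 w0 :=
    ⟨fun b c c' _ _ => by rw [pow_zero, Ideal.one_eq_top, sup_top_eq]; trivial,
      ⟨0, fun x _ => rfl⟩⟩
  choose step hstepc using hstep
  let seq : ∀ n, {w : B →ₐ[A] C ⧸ 𝔠 ^ n // LiftProp 𝔟 𝔠 J u n w} :=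
    fun n => Nat.rec ⟨w0, hw0⟩ (fun n w => step n w) n
  have hcomp_succ : ∀ n, (Ideal.Quotient.factorₐ A
      (Ideal.pow_le_pow_right (Nat.le_succ n))).comp (seq (n + 1)).1 = (seq n).1 :=
    fun n => hstepc n (seq n)
  let f : (n : ℕ) → B →+* C ⧸ 𝔠 ^ (id n) := fun n => ((seq n).1 : B →+* C ⧸ 𝔠 ^ n)
  have hf : ∀ {m : ℕ}, (Ideal.Quotient.factorPow 𝔠
      (strictMono_id.monotone m.le_succ)).comp (f (m + 1)) = f m := by
    intro m
    ext b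
    exact AlgHom.congr_fun (hcomp_succ m) b
  have hvr : ∀ n b, Ideal.Quotient.mk (𝔠 ^ n)
      (IsAdicComplete.StrictMono.liftRingHom 𝔠 strictMono_id f hf b) = (seq n).1 b :=
    fun n b => IsAdicComplete.StrictMono.mk_liftRingHom 𝔠 strictMono_id f hf b
  let v : B →ₐ[A] C :=
    { toRingHom := IsAdicComplete.StrictMono.liftRingHom 𝔠 strictMono_id f hf
      commutes' := fun a => Groth.Agent.Lib.AdicSmoothH1.eq_of_forall_mk_pow_eq 𝔠 _ _ fun n => by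
        have := hvr n (algebraMap A B a)
        rw [AlgHom.commutes] at this
        exact this }
  have hv : ∀ n b, Ideal.Quotient.mk (𝔠 ^ n) (v b) = (seq n).1 b := hvr
  refine ⟨v, ?_, ?_⟩
  · obtain ⟨k₁, hk₁⟩ := (seq 1).2.2
    refine ⟨k₁, ?_⟩
    rw [Ideal.map_le_iff_le_comap]
    intro x hx
    rw [Ideal.mem_comap]
    have h1 := hv 1 x
    rw [hk₁ x hx, Ideal.Quotient.eq_zero_iff_mem, pow_one] at h1
    exact h1
  · ext b
    obtain ⟨c, hc⟩ := Ideal.Quotient.mk_surjective (u b)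
    have key : ∀ n, Ideal.Quotient.mk J (v b) - u b ∈ (𝔠.map (Ideal.Quotient.mk J)) ^ n := by
      intro n
      have h1 := (seq n).2.1 b c (v b) hc.symm (hv n b).symm
      rw [← hc, ← map_sub, ← Ideal.map_pow]
      have h2 : Ideal.Quotient.mk J (v b - c) ∈ (J ⊔ 𝔠 ^ n).map (Ideal.Quotient.mk J) :=
        Ideal.mem_map_of_mem _ (by
          have : v b - c = -(c - v b) := by ring
          rw [this]
          exact neg_mem h1)
      rw [Ideal.map_sup, Ideal.map_quotient_self, bot_sup_eq] at h2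
      exact h2
    have h0 := IsHausdorff.haus' (I := 𝔠.map (Ideal.Quotient.mk J))
      (Ideal.Quotient.mk J (v b) - u b) (fun n => by
        rw [SModEq.zero, smul_eq_mul, Ideal.mul_top]
        exact key n)
    exact sub_eq_zero.mp h0

end Groth.Agent.S4542
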