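import Groth.Statements.S0581
import Groth.Agent.Lib.FinitePS2_helper3
import Groth.Agent.Lib.FSFlat_helper3
-- import your own Groth.Agent.* helpers here

set_option autoImplicit false
universe u
open CAlg
set_option maxSynthPendingDepth 3

namespace Groth.Agent.S0581

/-- A complete Noetherian local domain `R` contains a subring `R₀` over which it is module-finite with
the same residue field, where `R₀` is a power series ring in finitely many variables over a field or
over a Cohen ring. Stated with `R₀` given as the image of an injective ring map. -/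
theorem result (R : Type u) [CommRing R]
    [IsDomain R] [IsLocalRing R] [IsNoetherianRing R] [IsAdicComplete (IsLocalRing.maximalIdeal R) R] :
    ∃ (Λ : Type u) (_ : CommRing Λ) (n : ℕ) (f : MvPowerSeries (Fin n) Λ →+* R),
      (IsField Λ ∨ CAlg.IsCohenRing Λ) ∧ Function.Injective f ∧ f.Finite ∧
      Function.Surjective ((IsLocalRing.residue R).comp f) := by
  classical
  obtain ⟨W, _, _, v, hW, hvsurj, hvloc⟩ := Groth.Agent.Lib.FSFlatH3.exists_cohen_to R
  rcases hW with ⟨hfield, -⟩ | hcohen
  · -- `W` is a field
    letI := hfield.toField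
    letI : Algebra W R := v.toAlgebra
    haveI : Module.Finite W (IsLocalRing.ResidueField R) :=
      Module.Finite.of_surjective (Algebra.linearMap W (IsLocalRing.ResidueField R)) hvsurj
    obtain ⟨n, w, hinj, -, hfin, -⟩ :=
      Groth.Agent.Lib.FinitePSH3.exists_powerSeries_finite (k₀ := W) (A := R)
    refine ⟨W, inferInstance, n, w.toRingHom, Or.inl hfield, hinj, hfin, ?_⟩
    intro y
    obtain ⟨c, hc⟩ := hvsurj y
    refine ⟨MvPowerSeries.C c, ?_⟩
    rw [← hc]
    show IsLocalRing.residue R (w (MvPowerSeries.C c)) = IsLocalRing.residue R (v c)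
    rw [MvPowerSeries.c_eq_algebraMap, w.commutes]
    rfl
  · obtain ⟨hdom, hdvr, hcomp, p, hp, hmax⟩ := id hcohen
    haveI := hdom
    haveI := hdvr
    haveI := hcomp
    have hpW : ((p : ℕ) : W) ∈ IsLocalRing.maximalIdeal W := by
      rw [hmax]
      exact Ideal.subset_span rfl
    by_cases hp0 : v ((p : ℕ) : W) = 0
    · -- equal characteristic `p`: the residue field of `W` is a coefficient field
      have hker : ∀ a ∈ IsLocalRing.maximalIdeal W, v a = 0 := by
        intro a ha
        rw [hmax, Ideal.mem_span_singleton'] at ha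
        obtain ⟨b, rfl⟩ := ha
        rw [map_mul, hp0, mul_zero]
      let φ : IsLocalRing.ResidueField W →+* R :=
        Ideal.Quotient.lift (IsLocalRing.maximalIdeal W) v hker
      have hφ : ∀ c : W, φ (IsLocalRing.residue W c) = v c := fun c =>
        Ideal.Quotient.lift_mk _ _ _
      letI : Algebra (IsLocalRing.ResidueField W) R := φ.toAlgebra
      have hsurj' : Function.Surjective
          (algebraMap (IsLocalRing.ResidueField W) (IsLocalRing.ResidueField R)) := by
        intro y
        obtain ⟨c, hc⟩ := hvsurj y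
        refine ⟨IsLocalRing.residue W c, ?_⟩
        rw [← hc]
        show IsLocalRing.residue R (φ (IsLocalRing.residue W c)) = IsLocalRing.residue R (v c)
        rw [hφ]
      haveI : Module.Finite (IsLocalRing.ResidueField W) (IsLocalRing.ResidueField R) :=
        Module.Finite.of_surjective
          (Algebra.linearMap (IsLocalRing.ResidueField W) (IsLocalRing.ResidueField R)) hsurj'
      obtain ⟨n, w, hinj, -, hfin, -⟩ :=
        Groth.Agent.Lib.FinitePSH3.exists_powerSeries_finite (k₀ := IsLocalRing.ResidueField W)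
          (A := R)
      refine ⟨IsLocalRing.ResidueField W, inferInstance, n, w.toRingHom,
        Or.inl (Field.toIsField _), hinj, hfin, ?_⟩
      intro y
      obtain ⟨c, hc⟩ := hsurj' y
      refine ⟨MvPowerSeries.C c, ?_⟩
      rw [← hc]
      show IsLocalRing.residue R (w (MvPowerSeries.C c)) = _
      rw [MvPowerSeries.c_eq_algebraMap, w.commutes]
      rfl
    · -- mixed characteristic
      letI : Algebra W R := v.toAlgebra
      have hπm : v ((p : ℕ) : W) ∈ IsLocalRing.maximalIdeal R := hvloc _ hpW
      have hπnzd : v ((p : ℕ) : W) ∈ nonZeroDivisors R := mem_nonZeroDivisors_of_ne_zero hp0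
      have hdimq := ringKrullDim_quotient_span_singleton_succ_eq_ringKrullDim_of_mem_nonZeroDivisors
        hπnzd hπm
      have hne : Ideal.span {v ((p : ℕ) : W)} ≠ ⊤ := by
        intro h
        have h1 : (1 : R) ∈ IsLocalRing.maximalIdeal R := by
          have h2 : Ideal.span {v ((p : ℕ) : W)} ≤ IsLocalRing.maximalIdeal R := by
            rw [Ideal.span_le, Set.singleton_subset_iff]
            exact hπm
          exact h2 (h ▸ Submodule.mem_top)
        exact (IsLocalRing.maximalIdeal.isMaximal R).ne_top
          ((Ideal.eq_top_iff_one _).2 h1)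
      haveI : Nontrivial (R ⧸ Ideal.span {v ((p : ℕ) : W)}) :=
        Ideal.Quotient.nontrivial_iff.2 hne
      haveI : IsLocalRing (R ⧸ Ideal.span {v ((p : ℕ) : W)}) :=
        IsLocalRing.of_surjective' (Ideal.Quotient.mk _) Ideal.Quotient.mk_surjective
      haveI : IsLocalHom (Ideal.Quotient.mk (Ideal.span {v ((p : ℕ) : W)})) :=
        IsLocalHom.of_surjective _ Ideal.Quotient.mk_surjective
      obtain ⟨s, hsmin, hscard⟩ := Ideal.exists_finset_card_eq_height_of_isNoetherianRing
        (IsLocalRing.maximalIdeal (R ⧸ Ideal.span {v ((p : ℕ) : W)}))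
      obtain ⟨n, hn⟩ : ∃ n : ℕ, n = s.card := ⟨_, rfl⟩
      have hdimq' : ringKrullDim (R ⧸ Ideal.span {v ((p : ℕ) : W)}) = n := by
        rw [← IsLocalRing.maximalIdeal_height_eq_ringKrullDim, ← hscard, hn]
        rfl
      let e : s ≃ Fin n := hn ▸ s.equivFin
      have hlift : ∀ i : Fin n, ∃ a : R,
          Ideal.Quotient.mk (Ideal.span {v ((p : ℕ) : W)}) a = ((e.symm i : s) : _) :=
        fun i => Ideal.Quotient.mk_surjective _
      choose x hx using hlift
      have hrange : (Ideal.Quotient.mk (Ideal.span {v ((p : ℕ) : W)})) '' (Set.range x) =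
          (s : Set (R ⧸ Ideal.span {v ((p : ℕ) : W)})) := by
        ext r
        constructor
        · rintro ⟨_, ⟨i, rfl⟩, rfl⟩
          rw [hx]
          exact (e.symm i).2
        · intro hr
          refine ⟨x (e ⟨r, hr⟩), ⟨_, rfl⟩, ?_⟩
          rw [hx]
          simp
      have hs𝔪 : Ideal.span (s : Set (R ⧸ Ideal.span {v ((p : ℕ) : W)})) ≤
          IsLocalRing.maximalIdeal _ := hsmin.1.2
      have hxm : ∀ i, x i ∈ IsLocalRing.maximalIdeal R := by
        intro i
        rw [← IsLocalRing.maximalIdeal_comap (Ideal.Quotient.mk (Ideal.span {v ((p : ℕ) : W)})),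
          Ideal.mem_comap, hx]
        exact hs𝔪 (Ideal.subset_span (e.symm i).2)
      have hrad : IsLocalRing.maximalIdeal (R ⧸ Ideal.span {v ((p : ℕ) : W)}) ≤
          (Ideal.span (s : Set (R ⧸ Ideal.span {v ((p : ℕ) : W)}))).radical := by
        rw [← Ideal.sInf_minimalPrimes]
        refine le_sInf fun P hP => ?_
        exact hsmin.2 ⟨hP.1.1, hP.1.2⟩ (IsLocalRing.le_maximalIdeal hP.1.1.ne_top)
      have hmapW : (IsLocalRing.maximalIdeal W).map (algebraMap W R) =
          Ideal.span {v ((p : ℕ) : W)} := by
        rw [hmax, Ideal.map_span, Set.image_singleton]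
        rfl
      have hxrad : IsLocalRing.maximalIdeal R ≤
          ((IsLocalRing.maximalIdeal W).map (algebraMap W R) ⊔
            Ideal.span (Set.range x)).radical := by
        intro a ha
        have h1 : Ideal.Quotient.mk (Ideal.span {v ((p : ℕ) : W)}) a ∈
            IsLocalRing.maximalIdeal (R ⧸ Ideal.span {v ((p : ℕ) : W)}) := by
          rw [← Ideal.mem_comap, IsLocalRing.maximalIdeal_comap]
          exact ha
        obtain ⟨k, hk⟩ := hrad h1
        refine ⟨k, ?_⟩
        rw [← map_pow, ← hrange, ← Ideal.map_span] at hk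
        have h2 : a ^ k ∈ Ideal.comap (Ideal.Quotient.mk (Ideal.span {v ((p : ℕ) : W)}))
            (Ideal.map (Ideal.Quotient.mk (Ideal.span {v ((p : ℕ) : W)}))
              (Ideal.span (Set.range x))) := hk
        rw [Ideal.comap_map_of_surjective _ Ideal.Quotient.mk_surjective,
          ← RingHom.ker_eq_comap_bot, Ideal.mk_ker] at h2
        rw [hmapW, sup_comm]
        exact h2
      have hspan1 : (IsLocalRing.maximalIdeal W).spanFinrank ≤ 1 := by
        rw [hmax]
        refine le_trans (Submodule.spanFinrank_span_le_ncard_of_finite (Set.finite_singleton _)) ?_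
        rw [Set.ncard_singleton]
      have hdim : (((IsLocalRing.maximalIdeal W).spanFinrank + n : ℕ) : WithBot ℕ∞) ≤
          ringKrullDim R := by
        rw [← hdimq, hdimq']
        have h1 : (IsLocalRing.maximalIdeal W).spanFinrank + n ≤ n + 1 := by omega
        exact_mod_cast h1
      obtain ⟨w, -, hinj, hfin⟩ := Groth.Agent.Lib.FinitePSH3.exists_powerSeries_finite'
        (Λ := W) (A := R) hvloc hvsurj n x hxm hxrad hdim
      refine ⟨W, inferInstance, n, w.toRingHom, Or.inr hcohen, hinj, hfin, ?_⟩
      intro y
      obtain ⟨c, hc⟩ := hvsurj y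
      refine ⟨MvPowerSeries.C c, ?_⟩
      rw [← hc]
      show IsLocalRing.residue R (w (MvPowerSeries.C c)) = IsLocalRing.residue R (v c)
      rw [MvPowerSeries.c_eq_algebraMap, w.commutes]
      rfl

end Groth.Agent.S0581
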