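import Groth.Statements.S11319
import Groth.Agent.Lib.ModPushDer_helper2

set_option autoImplicit false
universe u
open CategoryTheory AlgebraicGeometry
open Coherent

namespace Groth.Agent.S11319

/-- Let f : X → Y be a morphism of schemes, M an O_X-module and n ≥ 0. Then the underlying abelian sheaf
of the n-th higher direct image R^n f_* M computed in the category of O-modules (the n-th right
derived functor of f_* : Mod(O_X) → Mod(O_Y), which needs the stated instance that Mod(O_X) has
injective resolutions — it does) is isomorphic to the n-th higher direct image of the underlying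
abelian sheaf of M (the right derived functor of f_* on abelian sheaves). (Stated for schemes; the
published statement is for ringed spaces. Existence of an isomorphism only.) -/
theorem result {X Y : Scheme.{u}} (f : X ⟶ Y)
    [HasInjectiveResolutions X.Modules] (M : X.Modules) (n : ℕ) :
    Nonempty (Coh.toAb ((Coh.Rpush f n).obj M) ≅ (Coh.RpushAb f n).obj (Coh.toAb M)) := by
  have := Groth.Agent.Lib.ModSiteH8.toSheaf_preservesColimitsOfSize Y.ringCatSheaf
  have : Limits.PreservesFiniteColimits (SheafOfModules.toSheaf Y.ringCatSheaf) :=
    ⟨fun _ _ _ => inferInstance⟩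
  have hinj : HasInjectiveResolutions (SheafOfModules X.ringCatSheaf) :=
    ‹HasInjectiveResolutions X.Modules›
  let Fm : SheafOfModules X.ringCatSheaf ⥤ SheafOfModules Y.ringCatSheaf :=
    Scheme.Modules.pushforward f
  have hadd : Fm.Additive := inferInstanceAs ((Scheme.Modules.pushforward f).Additive)
  let e : Fm ⋙ SheafOfModules.toSheaf Y.ringCatSheaf ≅
      SheafOfModules.toSheaf X.ringCatSheaf ⋙
        CohSite.push (Opens.grothendieckTopology X) (Opens.grothendieckTopology Y)
          (TopologicalSpace.Opens.map f.base) :=
    NatIso.ofComponents (fun M => Iso.refl _) (by intros; ext; rfl)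
  exact Groth.Agent.Lib.ModFree.nonempty_toSheaf_rightDerived_iso
    (TopologicalSpace.Opens.map f.base) X.ringCatSheaf Fm
    (SheafOfModules.toSheaf Y.ringCatSheaf) e M n

end Groth.Agent.S11319
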