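import Groth.Statements.S4456
import Mathlib
import Groth.Agent.Lib.Bridge_helper9
import Groth.Agent.Lib.RpushVanish_helper9
import Groth.Agent.Lib.Leray_helper9

set_option autoImplicit false
universe u
open Coherent

namespace Groth.Agent.S4456

open AlgebraicGeometry CategoryTheory in
/-- Let f : X → Y be an affine morphism, g : Y → Z a morphism of schemes and F a quasi-coherent
O_X-module. Then for every p ≥ 0 the higher direct image R^p g_*(f_* F) is isomorphic to R^p (g ∘
f)_* F (higher direct images of the underlying abelian sheaves). The source shows that the canonical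
comparison map is an isomorphism; only the existence of an isomorphism is asserted here. -/
theorem result {X Y Z : Scheme.{u}} (f : X ⟶ Y) (g : Y ⟶ Z)
    [IsAffineHom f] (F : X.Modules) [Coh.IsQCoh F] (p : ℕ) :
    Nonempty ((Coh.RpushAb g p).obj (Coh.toAb ((Coh.push f).obj F)) ≅
      (Coh.RpushAb (f ≫ g) p).obj (Coh.toAb F)) := by
  letI : HasDerivedCategory (Sheaf (Opens.grothendieckTopology X) AddCommGrpCat.{u}) :=
    HasDerivedCategory.standard _
  letI : HasDerivedCategory (Sheaf (Opens.grothendieckTopology Y) AddCommGrpCat.{u}) :=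
    HasDerivedCategory.standard _
  letI : HasDerivedCategory (Sheaf (Opens.grothendieckTopology Z) AddCommGrpCat.{u}) :=
    HasDerivedCategory.standard _
  have hFG : ∀ I : Sheaf (Opens.grothendieckTopology X) AddCommGrpCat.{u}, Injective I →
      LerayDer.Acyclic (Coh.pushAb g) ((Coh.pushAb f).obj I) := by
    intro I hI
    haveI : Injective ((Coh.pushAb f).obj I) := Leray.injective_push f.base I hI
    exact LerayDer.acyclic_of_injective _ _
  have hX : LerayDer.Acyclic (Coh.pushAb f) (Coh.toAb F) := by
    intro i hi
    obtain ⟨q, rfl⟩ : ∃ q, i = q + 1 := ⟨i - 1, by omega⟩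
    exact RpushVanish.isZero_RpushAb_of_isAffineHom f F q
  exact Bridge.comp_acyclic (Coh.pushAb f) (Coh.pushAb g) hFG (Coh.toAb F) hX p

end Groth.Agent.S4456
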