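import Groth.Statements.S2327
import Groth.Agent.Lib.Tens6_helper8

set_option autoImplicit false
universe u
open CategoryTheory CategoryTheory.Limits AlgebraicGeometry
open EGA2

namespace Groth.Agent.S2327

/-- Let X be a quasi-compact separated scheme, L an invertible module and n > 0. Then L is ample if and
only if L^{⊗n} is ample. -/
theorem result (X : Scheme.{u}) [CompactSpace X] [X.IsSeparated] (L : X.Modules) (hL : PicF.IsInvertible L) (n : ℕ) (hn : 0 < n) :
    CohB1.IsAmple L ↔ CohB1.IsAmple (CohB1.tensorPow L n) := by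
  constructor
  · rintro ⟨_, hc, h⟩
    refine ⟨TensH8.isInvertible_tensorPow hL n, hc, fun x => ?_⟩
    obtain ⟨k, s, hxs, haff⟩ := h x
    obtain ⟨s', hs'⟩ := TensH8.Frame.transfer_pow hL (TensH8.Frame.pow L (k + 1))
      ((TensH8.Frame.pow L n).powOf (k + 1)) n hn (Nat.mul_comm n (k + 1)) s
    exact ⟨k, s', hs' ▸ hxs, hs' ▸ haff⟩
  · rintro ⟨_, hc, h⟩
    refine ⟨hL, hc, fun x => ?_⟩
    obtain ⟨k, s, hxs, haff⟩ := h x
    have hpos : 0 < n * (k + 1) := Nat.mul_pos hn (Nat.succ_pos k)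
    obtain ⟨s', hs'⟩ := TensH8.Frame.transfer_pow hL ((TensH8.Frame.pow L n).powOf (k + 1))
      (TensH8.Frame.pow L (n * (k + 1) - 1 + 1)) 1 Nat.one_pos (by omega) s
    exact ⟨n * (k + 1) - 1, s', hs' ▸ hxs, hs' ▸ haff⟩

end Groth.Agent.S2327
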