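import Groth.Statements.S1496
import Mathlib
import Groth.Agent.Lib.VAmpPn14_helper5

set_option autoImplicit false
universe u
attribute [local instance] HasDerivedCategory.standard
open FlatMor

namespace Groth.Agent.S1496

open AlgebraicGeometry CategoryTheory Limits in
/-- Let S be a scheme carrying an ample invertible sheaf and f : X → S a morphism. Then f is a closed
immersion into some projective space over S (f factors as a closed immersion X → Pⁿ_S followed by
the projection Pⁿ_S → S, for some n) if and only if f is proper and X carries an ample invertible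
sheaf; and the latter holds if and only if f is proper and some O_X-module is ample relative to f. -/
theorem result {X S : Scheme.{u}} (hS : ∃ N : S.Modules, CohB1.IsAmple N) (f : X ⟶ S) :
    ((∃ (n : ℕ) (i : X ⟶ CohB1.ProjSpaceOver n S), IsClosedImmersion i ∧ i ≫ pullback.snd (CohB1.ProjSpace.toSpec n (ULift.{u} ℤ)) (specULiftZIsTerminal.from S) = f) ↔
      (IsProper f ∧ ∃ L : X.Modules, CohB1.IsAmple L)) ∧
    ((IsProper f ∧ ∃ L : X.Modules, CohB1.IsAmple L) ↔ (IsProper f ∧ ∃ L : X.Modules, RelAmple.IsRelAmple f L)) := by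
  obtain ⟨N, hN⟩ := hS
  have h2 : (IsProper f ∧ ∃ L : X.Modules, CohB1.IsAmple L) ↔
      (IsProper f ∧ ∃ L : X.Modules, RelAmple.IsRelAmple f L) := by
    constructor
    · rintro ⟨hp, L, hL⟩
      haveI := hp
      exact ⟨hp, L, Groth.Agent.VAmpPn.isRelAmple_of_isAmple f hL⟩
    · rintro ⟨hp, L, hL⟩
      exact ⟨hp, Groth.Agent.VAmpPn.exists_isAmple_of_isRelAmple f hN hL⟩
  refine ⟨?_, h2⟩
  constructor
  · rintro ⟨n, i, hi, rfl⟩
    haveI := hi
    haveI : IsProper (CohB1.ProjSpaceOver.toBase n S) :=
      Groth.Agent.Lib.ProjSpaceProperH4.isProper_toBase n S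
    have h1 : IsProper (i ≫ CohB1.ProjSpaceOver.toBase n S) := inferInstance
    exact ⟨h1, Groth.Agent.VAmpPn.exists_isAmple_of_immersion hN i⟩
  · rintro ⟨hp, L, hL⟩
    haveI := hp
    obtain ⟨r, i, hi, hiqc, hif⟩ := Groth.Agent.VAmpPn.exists_immersion_of_isRelAmple f hN
      (Groth.Agent.VAmpPn.isRelAmple_of_isAmple f hL)
    haveI := hi
    haveI : IsProper (CohB1.ProjSpaceOver.toBase r S) :=
      Groth.Agent.Lib.ProjSpaceProperH4.isProper_toBase r S
    haveI : IsProper (i ≫ CohB1.ProjSpaceOver.toBase r S) := by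
      rw [hif]
      exact hp
    haveI : IsProper i := IsProper.of_comp i (CohB1.ProjSpaceOver.toBase r S)
    exact ⟨r, i, IsClosedImmersion.of_isPreimmersion i i.isClosedMap.isClosed_range, hif⟩

end Groth.Agent.S1496
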