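import Groth.Statements.S0347
import Mathlib
import Groth.Agent.Lib.GrpShear_helper7

set_option autoImplicit false
universe u v
open CategoryTheory MonoidalCategory CartesianMonoidalCategory MonObj GrpObj AlgebraicGeometry
open GrpSch

namespace Groth.Agent.S0347

/-- The multiplication map of a group scheme over a field is an open map of topological spaces. -/
theorem result (K : Type u) [Field K] (G : Over (Spec (CommRingCat.of K))) [GrpObj G] : IsOpenMap (μ[G].left : (G ⊗ G).left ⟶ G.left) := by
  haveI hσ : IsIso (Groth.Agent.Lib.GrpShearH7.shear μ[G]) :=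
    Groth.Agent.Lib.GrpShearH7.isIso_shear μ[G] (MonObj.one_mul G) (MonObj.mul_assoc G)
  haveI : IsIso (Groth.Agent.Lib.GrpShearH7.shear μ[G]).left :=
    inferInstanceAs (IsIso ((Over.forget _).map (Groth.Agent.Lib.GrpShearH7.shear μ[G])))
  have e : μ[G].left = (Groth.Agent.Lib.GrpShearH7.shear μ[G]).left ≫
      Limits.pullback.snd G.hom G.hom :=
    (congrArg CommaMorphism.left (Groth.Agent.Lib.GrpShearH7.shear_snd μ[G])).symm
  haveI : UniversallyOpen G.hom := inferInstance
  haveI : UniversallyOpen μ[G].left := by rw [e]; infer_instance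
  exact μ[G].left.isOpenMap

end Groth.Agent.S0347
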