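import Groth.Statements.S4537
import Mathlib.RingTheory.Ideal.Quotient.Nilpotent
import Mathlib.RingTheory.Ideal.Quotient.Operations

set_option autoImplicit false
universe u
open EGA41

namespace Groth.Agent.S4537

theorem key {A B : Type u} [CommRing A] [CommRing B] [Algebra A B] (𝔫 : Ideal B)
    (h : CAlgX.IsAdicFormallySmooth A B 𝔫) (C : Type u) [CommRing C] (J : Ideal C)
    (hJ : IsNilpotent J) :
    IsNilpotent J → ∀ [Algebra A C] (u : B →ₐ[A] C ⧸ J), (∃ k : ℕ, ∀ x ∈ 𝔫 ^ k, u x = 0) →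
      ∃ v : B →ₐ[A] C, (Ideal.Quotient.mkₐ A J).comp v = u := by
  apply Ideal.IsNilpotent.induction_on (S := C) J hJ
    (P := fun S _ J => IsNilpotent J → ∀ [Algebra A S] (u : B →ₐ[A] S ⧸ J),
      (∃ k : ℕ, ∀ x ∈ 𝔫 ^ k, u x = 0) → ∃ v : B →ₐ[A] S, (Ideal.Quotient.mkₐ A J).comp v = u)
  · intro S _ J hJ2 _ _ u hu
    exact h S J hJ2 u hu
  · intro S _ I J hIJ h₁ h₂ hJn _ u hu
    obtain ⟨n, hn⟩ := hJn
    rw [Ideal.zero_eq_bot] at hn
    let e : ((S ⧸ I) ⧸ J.map (Ideal.Quotient.mk I)) ≃ₐ[A] S ⧸ J :=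
      { (DoubleQuot.quotQuotEquivQuotSup I J).trans
          (Ideal.quotEquivOfEq (sup_eq_right.mpr hIJ)) with
        commutes' := fun x => rfl }
    have hJ'n : (J.map (Ideal.Quotient.mk I)) ^ n = ⊥ := by
      rw [← Ideal.map_pow, hn, Ideal.map_bot]
    obtain ⟨k, hk⟩ := hu
    obtain ⟨g', hg'⟩ := h₂ ⟨n, hJ'n⟩ (e.symm.toAlgHom.comp u) ⟨k, fun x hx => by
      show e.symm (u x) = 0
      rw [hk x hx, map_zero]⟩
    have hg'J : Ideal.map (g' : B →+* S ⧸ I) (𝔫 ^ k) ≤ J.map (Ideal.Quotient.mk I) := by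
      rw [Ideal.map_le_iff_le_comap]
      intro x hx
      rw [Ideal.mem_comap, ← Ideal.Quotient.eq_zero_iff_mem]
      have h1 : (Ideal.Quotient.mkₐ A (J.map (Ideal.Quotient.mk I))) (g' x) = e.symm (u x) :=
        AlgHom.congr_fun hg' x
      have h2 : Ideal.Quotient.mk (J.map (Ideal.Quotient.mk I)) (g' x) = e.symm (u x) := h1
      show Ideal.Quotient.mk (J.map (Ideal.Quotient.mk I)) (g' x) = 0
      rw [h2, hk x hx, map_zero]
    have hg'c : ∃ k' : ℕ, ∀ x ∈ 𝔫 ^ k', g' x = 0 := by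
      refine ⟨k * n, fun x hx => ?_⟩
      rw [pow_mul] at hx
      have h1 : (g' : B →+* S ⧸ I) x ∈ Ideal.map (g' : B →+* S ⧸ I) ((𝔫 ^ k) ^ n) :=
        Ideal.mem_map_of_mem _ hx
      rw [Ideal.map_pow] at h1
      have h2 := Ideal.pow_right_mono hg'J n h1
      rw [hJ'n] at h2
      exact h2
    have hIn : IsNilpotent I :=
      ⟨n, le_bot_iff.1 (le_trans (Ideal.pow_right_mono hIJ n) (le_of_eq hn))⟩
    obtain ⟨v, hv⟩ := h₁ hIn g' hg'c
    refine ⟨v, ?_⟩
    apply AlgHom.ext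
    intro b
    have h1 : Ideal.Quotient.mk I (v b) = g' b := AlgHom.congr_fun hv b
    have h2 : Ideal.Quotient.mk (J.map (Ideal.Quotient.mk I)) (g' b) = e.symm (u b) :=
      AlgHom.congr_fun hg' b
    have h3 : e (Ideal.Quotient.mk (J.map (Ideal.Quotient.mk I)) (Ideal.Quotient.mk I (v b))) =
        Ideal.Quotient.mk J (v b) := rfl
    show Ideal.Quotient.mk J (v b) = u b
    rw [← h3, h1, h2, AlgEquiv.apply_symm_apply]


/-- For a discrete base and an adic algebra: let A be a discrete ring and B an A-algebra with the 𝔫-adic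
topology. If every continuous A-algebra map from B to a quotient C/J with J² = 0 lifts to C, then
the same holds for every nilpotent J; hence the square-zero and the nilpotent forms of adic formal
smoothness agree. -/
theorem result {A B : Type u} [CommRing A] [CommRing B] [Algebra A B]
    (𝔫 : Ideal B) :
    CAlgX.IsAdicFormallySmooth A B 𝔫 ↔ EGA41.IsFormallySmoothAdic A ⊥ B 𝔫 := by
  constructor
  · intro h C _ _ J hJ _ u hu
    exact key 𝔫 h C J hJ hJ u hu
  · intro h C _ _ J hJ2 u hu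
    exact h C J ⟨2, hJ2⟩ ⟨1, by rw [pow_one, Ideal.map_bot]⟩ u hu

end Groth.Agent.S4537
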