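import Groth.Statements.S0387
import Mathlib
import Groth.Agent.Lib.FlatLocFP2_helper6

set_option autoImplicit false
universe u
open FlatMor

namespace Groth.Agent.S0387

/-- Openness of the flat locus, algebra form: for a ring map of finite presentation and a finitely
presented module over the target, the primes at which the localized module is flat over the base
ring form an open subset of the spectrum. -/
theorem result {R S M : Type u} [CommRing R] [CommRing S] [Algebra R S] [Algebra.FinitePresentation R S] [AddCommGroup M] [Module S M] [Module R M] [IsScalarTower R S M] [Module.FinitePresentation S M] :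
    IsOpen {q : PrimeSpectrum S | Module.Flat R (LocalizedModule q.asIdeal.primeCompl M)} := by

  obtain ⟨n, f, hf, hker⟩ := (inferInstance : Algebra.FinitePresentation R S).out
  letI : Algebra (MvPolynomial (Fin n) R) S := f.toRingHom.toAlgebra
  haveI : IsScalarTower R (MvPolynomial (Fin n) R) S :=
    IsScalarTower.of_algebraMap_eq' f.comp_algebraMap.symm
  letI : Module (MvPolynomial (Fin n) R) M := Module.compHom M f.toRingHom
  haveI : IsScalarTower (MvPolynomial (Fin n) R) S M :=
    IsScalarTower.of_algebraMap_smul fun r x => rfl
  haveI : IsScalarTower R (MvPolynomial (Fin n) R) M := by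
    refine IsScalarTower.of_algebraMap_smul fun r x => ?_
    show f (algebraMap R _ r) • x = r • x
    rw [f.commutes, algebraMap_smul]
  have hs : Function.Surjective (algebraMap (MvPolynomial (Fin n) R) S) := hf
  haveI : Module.FinitePresentation (MvPolynomial (Fin n) R) S := by
    refine Module.finitePresentation_of_surjective
      (Algebra.linearMap (MvPolynomial (Fin n) R) S) hs ?_
    have hkk : LinearMap.ker (Algebra.linearMap (MvPolynomial (Fin n) R) S) =
        RingHom.ker f.toRingHom := by
      ext x
      exact Iff.rfl
    rw [hkk]
    exact hker
  haveI : Module.FinitePresentation (MvPolynomial (Fin n) R) M :=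
    Module.FinitePresentation.trans (MvPolynomial (Fin n) R) M S
  exact Groth.Agent.Lib.FlatLocFP1H6.isOpen_of_surjective M hs
    (Groth.Agent.Lib.FlatLocFP2H6.isOpen_flatLocus_mvPolynomial (Fin n) M)

end Groth.Agent.S0387
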