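import Groth.Statements.S2106
import Mathlib
import Groth.Agent.Lib.FibCritC_helper6
import Groth.Agent.Lib.LocalCrit2_helper9
open TensorProduct

set_option autoImplicit false
universe u
open CAlg

namespace Groth.Agent.S2106

/-- Let `R → S → S'` be local homomorphisms of local rings with `S` and `S'` essentially of finite
presentation over `R`, and `M` a nonzero finitely presented `S'`-module which is flat over `R` and
such that `M/𝔪_R M` is flat over `S/𝔪_R S`. Then `S` is flat over `R` and `M` is flat over `S`. -/
theorem result {R S S' M : Type u} [CommRing R] [CommRing S] [CommRing S']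
    [IsLocalRing R] [IsLocalRing S] [IsLocalRing S'] [Algebra R S] [Algebra S S'] [Algebra R S'] [IsScalarTower R S S']
    [IsLocalHom (algebraMap R S)] [IsLocalHom (algebraMap S S')]
    (hS : CAlgX.IsEssFinitePresentation R S) (hS' : CAlgX.IsEssFinitePresentation R S')
    [AddCommGroup M] [Module S' M] [Module S M] [Module R M] [IsScalarTower S S' M] [IsScalarTower R S' M]
    [IsScalarTower R S M] [Module.FinitePresentation S' M] [Nontrivial M] [Module.Flat R M]
    (hfib : Module.Flat (S ⧸ (IsLocalRing.maximalIdeal R).map (algebraMap R S))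
      (M ⧸ (IsLocalRing.maximalIdeal R).map (algebraMap R S) • (⊤ : Submodule S M))) :
    Module.Flat R S ∧ Module.Flat S M := by
  classical
  -- (1) model of `S`
  obtain ⟨B, _, _, _, _, hfpB, hlocB⟩ := Groth.Agent.Lib.FibCritH6.exists_atPrime_model hS
  haveI := hfpB
  haveI := hlocB
  -- (2) model of `(S', M)`
  obtain ⟨D₁, _, _, _, _, hfpD₁, q₁, hq₁prime, hloc₁, hq₁, N₁, _, _, _, _, hfpN₁, hflatN₁, _, _,
    jN₁, hjN₁⟩ := Groth.Agent.Lib.FibInjH6.exists_good_model hS' (N := M)
  subst hq₁
  haveI := hfpD₁
  haveI := hq₁prime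
  haveI := hloc₁
  haveI := hfpN₁
  haveI := hflatN₁
  haveI := hjN₁
  -- (3) presentation of `B`
  obtain ⟨n, πB, hπ, hfg⟩ := Algebra.FinitePresentation.out (R := R) (A := B)
  obtain ⟨r, g, hg⟩ := Submodule.fg_iff_exists_fin_generating_family.mp hfg
  have hker : RingHom.ker πB.toRingHom = Ideal.span (Set.range g) := hg.symm
  -- (4) spreading the homomorphism `B → S → S'`
  let φ : B →ₐ[R] S' := (IsScalarTower.toAlgHom R S S').comp (IsScalarTower.toAlgHom R B S)
  obtain ⟨t₁, ht₁, φ₁, hφ₁⟩ := Groth.Agent.Lib.FibCritH6.exists_spread_hom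
    ((IsLocalRing.maximalIdeal S').comap (algebraMap D₁ S')) πB hπ g hker φ
  -- (5) first localization
  obtain ⟨algD₂S', towD₁D₂S', modD₂M, towD₂S'M, towD₁D₂M, jN₂, hloc₂, hjN₂, -⟩ :=
    Groth.Agent.Lib.FibCritH6.away_package jN₁ t₁ ht₁
  haveI := hloc₂
  haveI := hjN₂
  letI algBD₂ : Algebra B (Localization.Away t₁) := φ₁.toRingHom.toAlgebra
  haveI towRBD₂ : IsScalarTower R B (Localization.Away t₁) :=
    IsScalarTower.of_algebraMap_eq fun x => (φ₁.commutes x).symm
  letI algBS' : Algebra B S' := φ.toRingHom.toAlgebra
  haveI towBSS' : IsScalarTower B S S' := IsScalarTower.of_algebraMap_eq fun _ => rfl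
  haveI towBD₂S' : IsScalarTower B (Localization.Away t₁) S' :=
    IsScalarTower.of_algebraMap_eq fun b =>
      (hφ₁ (algebraMap (Localization.Away t₁) S')
        (IsScalarTower.algebraMap_eq D₁ (Localization.Away t₁) S').symm b).symm
  haveI towRD₂S' : IsScalarTower R (Localization.Away t₁) S' :=
    IsScalarTower.of_algebraMap_eq fun x => by
      rw [IsScalarTower.algebraMap_apply R D₁ S', IsScalarTower.algebraMap_apply D₁
        (Localization.Away t₁) S', ← IsScalarTower.algebraMap_apply R D₁ (Localization.Away t₁)]
  letI modBM : Module B M := Module.compHom M (algebraMap B S)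
  haveI towBSM : IsScalarTower B S M := IsScalarTower.of_algebraMap_smul fun _ _ => rfl
  haveI towBS'M : IsScalarTower B S' M := IsScalarTower.of_algebraMap_smul fun b x => by
    show algebraMap S S' (algebraMap B S b) • x = algebraMap B S b • x
    exact algebraMap_smul S' _ x
  haveI towBD₂M : IsScalarTower B (Localization.Away t₁) M :=
    IsScalarTower.of_algebraMap_smul fun b x => by
      rw [← algebraMap_smul S' (algebraMap B (Localization.Away t₁) b) x,
        ← IsScalarTower.algebraMap_apply B (Localization.Away t₁) S', algebraMap_smul]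
  letI modBN₂ : Module B (LocalizedModule (Submonoid.powers t₁) N₁) :=
    Module.compHom _ (algebraMap B (Localization.Away t₁))
  haveI towBD₂N₂ : IsScalarTower B (Localization.Away t₁)
      (LocalizedModule (Submonoid.powers t₁) N₁) :=
    IsScalarTower.of_algebraMap_smul fun _ _ => rfl
  haveI flatN₂ : Module.Flat R (LocalizedModule (Submonoid.powers t₁) N₁) :=
    GenFreeH8.flat_of_isLocalizedModule_algebra (Submonoid.powers t₁)
      (LocalizedModule.mkLinearMap (Submonoid.powers t₁) N₁)
  haveI : Algebra.FinitePresentation D₁ (Localization.Away t₁) :=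
    IsLocalization.Away.finitePresentation t₁
  haveI fpD₂ : Algebra.FinitePresentation R (Localization.Away t₁) :=
    Algebra.FinitePresentation.trans R D₁ (Localization.Away t₁)
  haveI fpBD₂ : Algebra.FinitePresentation B (Localization.Away t₁) :=
    Algebra.FinitePresentation.of_restrict_scalars_finitePresentation R B (Localization.Away t₁)
  -- (6) the fibre condition at the prime
  have hmS' : ∀ x ∈ IsLocalRing.maximalIdeal R, algebraMap R S' x ∈ IsLocalRing.maximalIdeal S' := by
    intro x hx
    rw [IsScalarTower.algebraMap_apply R S S']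
    exact map_nonunit (algebraMap S S') _ (map_nonunit (algebraMap R S) x hx)
  have hI𝔯₂ : ((IsLocalRing.maximalIdeal R).map (algebraMap R B)).map
      (algebraMap B (Localization.Away t₁)) ≤
      (IsLocalRing.maximalIdeal S').comap (algebraMap (Localization.Away t₁) S') := by
    rw [Ideal.map_map, Ideal.map_le_iff_le_comap]
    intro x hx
    rw [Ideal.mem_comap, Ideal.mem_comap, RingHom.comp_apply,
      ← IsScalarTower.algebraMap_apply R B (Localization.Away t₁),
      ← IsScalarTower.algebraMap_apply R (Localization.Away t₁) S']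
    exact hmS' x hx
  have h3 : Module.Flat (S ⧸ (IsLocalRing.maximalIdeal R).map (algebraMap R S))
      ((S ⧸ (IsLocalRing.maximalIdeal R).map (algebraMap R S)) ⊗[S] M) :=
    Module.Flat.of_linearEquiv ((TensorProduct.quotTensorEquivQuotSMul M
      ((IsLocalRing.maximalIdeal R).map (algebraMap R S))).extendScalarsOfSurjective
        Ideal.Quotient.mk_surjective)
  have hIS : ((IsLocalRing.maximalIdeal R).map (algebraMap R B)).map (algebraMap B S) =
      (IsLocalRing.maximalIdeal R).map (algebraMap R S) := by
    rw [Ideal.map_map, ← IsScalarTower.algebraMap_eq]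
  have h4 : Module.Flat
      (S ⧸ ((IsLocalRing.maximalIdeal R).map (algebraMap R B)).map (algebraMap B S))
      ((S ⧸ ((IsLocalRing.maximalIdeal R).map (algebraMap R B)).map (algebraMap B S)) ⊗[S] M) := by
    have : ∀ J : Ideal S, J = (IsLocalRing.maximalIdeal R).map (algebraMap R S) →
        Module.Flat (S ⧸ J) ((S ⧸ J) ⊗[S] M) := by
      rintro _ rfl
      exact h3
    exact this _ hIS
  haveI P : Algebra.IsPushout B (B ⧸ (IsLocalRing.maximalIdeal R).map (algebraMap R B)) S
      (S ⧸ ((IsLocalRing.maximalIdeal R).map (algebraMap R B)).map (algebraMap B S)) :=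
    Groth.Agent.Lib.FibInjH6.isPushout_quotient _
  haveI flatBS : Module.Flat B S :=
    IsLocalization.flat S ((IsLocalRing.maximalIdeal S).comap (algebraMap B S)).primeCompl
  haveI h5 : Module.Flat (B ⧸ (IsLocalRing.maximalIdeal R).map (algebraMap R B))
      (S ⧸ ((IsLocalRing.maximalIdeal R).map (algebraMap R B)).map (algebraMap B S)) :=
    Module.Flat.of_linearEquiv (Algebra.IsPushout.equiv B
      (B ⧸ (IsLocalRing.maximalIdeal R).map (algebraMap R B)) S
      (S ⧸ ((IsLocalRing.maximalIdeal R).map (algebraMap R B)).map
        (algebraMap B S))).toLinearEquiv.symm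
  haveI := h4
  haveI h6 : Module.Flat (B ⧸ (IsLocalRing.maximalIdeal R).map (algebraMap R B))
      ((S ⧸ ((IsLocalRing.maximalIdeal R).map (algebraMap R B)).map (algebraMap B S)) ⊗[S] M) :=
    Module.Flat.trans (B ⧸ (IsLocalRing.maximalIdeal R).map (algebraMap R B))
      (S ⧸ ((IsLocalRing.maximalIdeal R).map (algebraMap R B)).map (algebraMap B S)) _
  haveI h7 : Module.Flat (B ⧸ (IsLocalRing.maximalIdeal R).map (algebraMap R B))
      ((B ⧸ (IsLocalRing.maximalIdeal R).map (algebraMap R B)) ⊗[B] M) :=
    Module.Flat.of_linearEquiv (Algebra.IsPushout.cancelBaseChange B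
      (B ⧸ (IsLocalRing.maximalIdeal R).map (algebraMap R B)) S
      (S ⧸ ((IsLocalRing.maximalIdeal R).map (algebraMap R B)).map (algebraMap B S)) M).symm
  have hloc_fib : Module.Flat (B ⧸ (IsLocalRing.maximalIdeal R).map (algebraMap R B))
      ((B ⧸ (IsLocalRing.maximalIdeal R).map (algebraMap R B)) ⊗[B]
        LocalizedModule ((IsLocalRing.maximalIdeal S').comap
          (algebraMap (Localization.Away t₁) S')).primeCompl
          (LocalizedModule (Submonoid.powers t₁) N₁)) :=
    Module.Flat.of_linearEquiv (TensorProduct.AlgebraTensorModule.congr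
      (LinearEquiv.refl (B ⧸ (IsLocalRing.maximalIdeal R).map (algebraMap R B))
        (B ⧸ (IsLocalRing.maximalIdeal R).map (algebraMap R B)))
      ((IsLocalizedModule.iso ((IsLocalRing.maximalIdeal S').comap
          (algebraMap (Localization.Away t₁) S')).primeCompl jN₂).restrictScalars B))
  obtain ⟨t₂, ht₂, hglob⟩ := Groth.Agent.Lib.FibCritH6.exists_fibre_flat_away
    ((IsLocalRing.maximalIdeal R).map (algebraMap R B))
    ((IsLocalRing.maximalIdeal S').comap (algebraMap (Localization.Away t₁) S')) hI𝔯₂ hloc_fib
  -- (7) second localization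
  obtain ⟨algD₃S', towD₂D₃S', modD₃M, towD₃S'M, towD₂D₃M, jN₃, hloc₃, hjN₃, -⟩ :=
    Groth.Agent.Lib.FibCritH6.away_package jN₂ t₂ ht₂
  haveI := hloc₃
  haveI := hjN₃
  haveI flatN₃ : Module.Flat R (LocalizedModule (Submonoid.powers t₂)
      (LocalizedModule (Submonoid.powers t₁) N₁)) :=
    GenFreeH8.flat_of_isLocalizedModule_algebra (Submonoid.powers t₂)
      (LocalizedModule.mkLinearMap (Submonoid.powers t₂)
        (LocalizedModule (Submonoid.powers t₁) N₁))
  haveI : Algebra.FinitePresentation (Localization.Away t₁) (Localization.Away t₂) :=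
    IsLocalization.Away.finitePresentation t₂
  haveI fpD₃ : Algebra.FinitePresentation R (Localization.Away t₂) :=
    Algebra.FinitePresentation.trans R (Localization.Away t₁) (Localization.Away t₂)
  haveI towRD₃S' : IsScalarTower R (Localization.Away t₂) S' :=
    IsScalarTower.of_algebraMap_eq (R := R) (S := Localization.Away t₂) (A := S') fun x => by
      have e1 := IsScalarTower.algebraMap_apply R (Localization.Away t₁) S' x
      have e2 := IsScalarTower.algebraMap_apply (Localization.Away t₁) (Localization.Away t₂) S'
        (algebraMap R (Localization.Away t₁) x)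
      have e3 := IsScalarTower.algebraMap_apply R (Localization.Away t₁) (Localization.Away t₂) x
      rw [e1, e2, e3]
  have h𝔯₃ : (IsLocalRing.maximalIdeal R).map (algebraMap R (Localization.Away t₂)) ≤
      (IsLocalRing.maximalIdeal S').comap (algebraMap (Localization.Away t₂) S') := by
    rw [Ideal.map_le_iff_le_comap]
    intro x hx
    rw [Ideal.mem_comap, Ideal.mem_comap,
      ← IsScalarTower.algebraMap_apply R (Localization.Away t₂) S']
    exact hmS' x hx
  -- (8) the spread theorem
  have hB : Module.Flat B (LocalizedModule ((IsLocalRing.maximalIdeal S').comap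
      (algebraMap (Localization.Away t₂) S')).primeCompl
      (LocalizedModule (Submonoid.powers t₂) (LocalizedModule (Submonoid.powers t₁) N₁))) :=
    Groth.Agent.Lib.FibCritH6.flat_of_fibre_flat πB hπ g hker
      ((IsLocalRing.maximalIdeal S').comap (algebraMap (Localization.Away t₂) S')) h𝔯₃ hglob
  -- (9) flatness of `M` over `B` and over `S`
  haveI towBD₃M : IsScalarTower B (Localization.Away t₂) M :=
    IsScalarTower.of_algebraMap_smul (R := B) (A := Localization.Away t₂) (M := M) fun b x => by
      rw [IsScalarTower.algebraMap_apply B (Localization.Away t₁) (Localization.Away t₂),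
        algebraMap_smul (Localization.Away t₂) (algebraMap B (Localization.Away t₁) b) x,
        algebraMap_smul (Localization.Away t₁) b x]
  haveI hBM : Module.Flat B M :=
    Module.Flat.of_linearEquiv ((IsLocalizedModule.iso ((IsLocalRing.maximalIdeal S').comap
      (algebraMap (Localization.Away t₂) S')).primeCompl jN₃).restrictScalars B).symm
  have hSM : Module.Flat S M :=
    (Module.flat_iff_of_isLocalization S
      ((IsLocalRing.maximalIdeal S).comap (algebraMap B S)).primeCompl M).mpr hBM
  -- (10) flatness of `S` over `R`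
  refine ⟨?_, hSM⟩
  haveI : Module.FaithfullyFlat S M :=
    { toFlat := hSM
      submodule_ne_top := by
        intro m hm htop
        rw [IsLocalRing.eq_maximalIdeal hm] at htop
        have hle : (⊤ : Submodule S' M) ≤ (IsLocalRing.maximalIdeal S') • (⊤ : Submodule S' M) := by
          intro x _
          have hx : x ∈ (IsLocalRing.maximalIdeal S) • (⊤ : Submodule S M) := by
            rw [htop]; trivial
          refine Submodule.smul_induction_on
            (p := fun x => x ∈ (IsLocalRing.maximalIdeal S') • (⊤ : Submodule S' M)) hx ?_ ?_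
          · intro s hs y _
            rw [← algebraMap_smul S' s y]
            exact Submodule.smul_mem_smul (map_nonunit (algebraMap S S') s hs)
              Submodule.mem_top
          · intro y z hy hz
            exact add_mem hy hz
        have hbot := Submodule.eq_bot_of_le_smul_of_le_jacobson_bot (IsLocalRing.maximalIdeal S')
          (⊤ : Submodule S' M) Module.Finite.fg_top hle (IsLocalRing.maximalIdeal_le_jacobson ⊥)
        obtain ⟨x, y, hxy⟩ := exists_pair_ne M
        have hx : x ∈ (⊥ : Submodule S' M) := by rw [← hbot]; trivial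
        have hy : y ∈ (⊥ : Submodule S' M) := by rw [← hbot]; trivial
        rw [Submodule.mem_bot] at hx hy
        exact hxy (hx.trans hy.symm) }
  exact Groth.Agent.Lib.LocalCrit2.flat_of_faithfullyFlat_of_flat (M := M)

end Groth.Agent.S2106
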