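import Groth.Statements.S2453
import Groth.Agent.Lib.FSRegular_helper3
-- import your own Groth.Agent.* helpers here

set_option autoImplicit false
universe u
open EGA41
set_option maxSynthPendingDepth 3

namespace Groth.Agent.S2453

open IsLocalRing in
/-- Let k be a field and A a Noetherian local k-algebra with maximal ideal 𝔪 and residue field K
separable over k; give A the 𝔪-adic topology (k discrete). The following are equivalent: (a) A is
formally smooth over k; (b) the 𝔪-adic completion of A is isomorphic to some K[[T_1, …, T_n]] by an
isomorphism carrying the image of k in A to the image of k under k → K → K[[T]]; (b') the completion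
is isomorphic as a ring to some K[[T_1, …, T_n]]; (c) A is a regular local ring. -/
theorem result {k A : Type u} [Field k] [CommRing A] [IsLocalRing A] [IsNoetherianRing A] [Algebra k A]
    [Algebra.IsGeometricallyReduced k (ResidueField A)] :
    [CAlgX.IsAdicFormallySmooth k A (maximalIdeal A),
     ∃ (n : ℕ) (e : AdicCompletion (maximalIdeal A) A ≃+* MvPowerSeries (Fin n) (ResidueField A)),
       ∀ x : k, e (algebraMap A (AdicCompletion (maximalIdeal A) A) (algebraMap k A x)) =
         algebraMap (ResidueField A) (MvPowerSeries (Fin n) (ResidueField A)) (algebraMap k (ResidueField A) x),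
     ∃ n : ℕ, Nonempty (AdicCompletion (maximalIdeal A) A ≃+* MvPowerSeries (Fin n) (ResidueField A)),
     IsRegularLocalRing A].TFAE := by
  tfae_have 1 → 2 := fun h =>
    Groth.Agent.Lib.FSRegularH3.exists_equiv_of_formallySmooth h
  tfae_have 2 → 3 := by
    rintro ⟨n, e, -⟩
    exact ⟨n, ⟨e⟩⟩
  tfae_have 3 → 4 := by
    rintro ⟨n, ⟨e⟩⟩
    exact Groth.Agent.Lib.FSRegularH3.regular_of_equiv n e
  tfae_have 4 → 2 := fun h =>
    Groth.Agent.Lib.FSRegularH3.exists_equiv_of_regular h
  tfae_have 2 → 1 := by
    rintro ⟨n, e, he⟩
    exact Groth.Agent.Lib.FSRegularH3.formallySmooth_of_equiv n e he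
  tfae_finish

end Groth.Agent.S2453
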