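import Groth.Statements.S4535
import Mathlib.RingTheory.TensorProduct.Maps

set_option autoImplicit false
universe u
open EGA41

namespace Groth.Agent.S4535

open TensorProduct in
/-- Let B (𝔟-adic) be formally smooth over A (𝔞-adic) and let A' (𝔞'-adic) be a topological A-algebra (a
power of 𝔞 maps into 𝔞'). Then the A'-algebra A' ⊗_A B, with the tensor product topology, i.e. the
adic topology of the ideal generated by the images of 𝔞' and 𝔟, is formally smooth over A'. -/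
theorem result {A B A' : Type u} [CommRing A] [CommRing B] [CommRing A'] [Algebra A B] [Algebra A A']
    (𝔞 : Ideal A) (𝔟 : Ideal B) (𝔞' : Ideal A') (hAA' : ∃ k : ℕ, (𝔞 ^ k).map (algebraMap A A') ≤ 𝔞')
    (hB : EGA41.IsFormallySmoothAdic A 𝔞 B 𝔟) :
    EGA41.IsFormallySmoothAdic A' 𝔞' (A' ⊗[A] B)
      (𝔞'.map (algebraMap A' (A' ⊗[A] B)) ⊔
        𝔟.map (Algebra.TensorProduct.includeRight : B →ₐ[A] A' ⊗[A] B).toRingHom) := by
  intro E _ _ J hJ hA'E u hu
  obtain ⟨k₁, hk₁⟩ := hAA'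
  obtain ⟨k₂, hk₂⟩ := hA'E
  obtain ⟨m, hm⟩ := hu
  let _ : Algebra A E := ((algebraMap A' E).comp (algebraMap A A')).toAlgebra
  have : IsScalarTower A A' E := IsScalarTower.of_algebraMap_eq fun _ => rfl
  have hAE : ∃ k : ℕ, (𝔞 ^ k).map (algebraMap A E) = ⊥ := by
    refine ⟨k₁ * k₂, ?_⟩
    rw [← le_bot_iff, ← hk₂, pow_mul, IsScalarTower.algebraMap_eq A A' E, ← Ideal.map_map,
      Ideal.map_pow]
    exact Ideal.map_mono (Ideal.pow_right_mono hk₁ k₂)
  let uB : B →ₐ[A] E ⧸ J :=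
    (u.restrictScalars A).comp (Algebra.TensorProduct.includeRight : B →ₐ[A] A' ⊗[A] B)
  have huB : ∃ k : ℕ, ∀ x ∈ 𝔟 ^ k, uB x = 0 := by
    refine ⟨m, fun x hx => ?_⟩
    apply hm
    have h1 : (Algebra.TensorProduct.includeRight : B →ₐ[A] A' ⊗[A] B).toRingHom x ∈
        Ideal.map (Algebra.TensorProduct.includeRight : B →ₐ[A] A' ⊗[A] B).toRingHom (𝔟 ^ m) :=
      Ideal.mem_map_of_mem _ hx
    rw [Ideal.map_pow] at h1
    exact Ideal.pow_right_mono le_sup_right m h1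
  obtain ⟨w, hw⟩ := hB E J hJ hAE uB huB
  let v : A' ⊗[A] B →ₐ[A'] E :=
    Algebra.TensorProduct.lift (Algebra.ofId A' E) w (fun _ _ => Commute.all _ _)
  refine ⟨v, ?_⟩
  apply Algebra.TensorProduct.ext
  · apply AlgHom.ext
    intro a'
    show Ideal.Quotient.mk J (v (a' ⊗ₜ 1)) = u (a' ⊗ₜ 1)
    have h3 : (a' ⊗ₜ[A] (1 : B)) = algebraMap A' (A' ⊗[A] B) a' := rfl
    rw [h3, AlgHom.commutes, AlgHom.commutes]
    rfl
  · apply AlgHom.ext
    intro b
    have h1 : Ideal.Quotient.mk J (w b) = uB b := AlgHom.congr_fun hw b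
    show Ideal.Quotient.mk J (v (1 ⊗ₜ b)) = u (1 ⊗ₜ b)
    have h2 : v (1 ⊗ₜ[A] b) = w b := by
      show Algebra.TensorProduct.lift (Algebra.ofId A' E) w _ (1 ⊗ₜ[A] b) = w b
      rw [Algebra.TensorProduct.lift_tmul, map_one, one_mul]
    rw [h2, h1]
    rfl

end Groth.Agent.S4535
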