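import Groth.Statements.S2471
import Groth.Agent.Lib.AdicFSField_helper3
-- import your own Groth.Agent.* helpers here

set_option autoImplicit false
universe u
open EGA41
set_option maxSynthPendingDepth 3

namespace Groth.Agent.S2471

open IsLocalRing in
/-- Let k be a field and A a Noetherian local k-algebra with maximal ideal 𝔪 and residue field K. Then A
is formally smooth over k for the 𝔪-adic topology if and only if A is regular and the canonical map
Ω_{k/ℤ} ⊗_k K → Ω_{A/ℤ} ⊗_A K is injective. (The published criterion has a first condition that, for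
Noetherian A, amounts to regularity of A; it is stated here for Noetherian A only.) -/
theorem result {k A : Type u} [Field k] [CommRing A] [IsLocalRing A] [IsNoetherianRing A] [Algebra k A] :
    CAlgX.IsAdicFormallySmooth k A (maximalIdeal A) ↔
      (IsRegularLocalRing A ∧ Function.Injective ((KaehlerDifferential.mapBaseChange ℤ k A).lTensor (ResidueField A))) := by
  classical
  open Groth.Agent.Lib.AdicFSFieldH3 in
  letI alg₀ : Algebra (PrimeField k) A :=
    ((algebraMap k A).comp (algebraMap (PrimeField k) k)).toAlgebra
  haveI : IsScalarTower (Groth.Agent.Lib.AdicFSFieldH3.PrimeField k) k A :=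
    IsScalarTower.of_algebraMap_eq (fun _ => rfl)
  haveI : Algebra.IsGeometricallyReduced (Groth.Agent.Lib.AdicFSFieldH3.PrimeField k)
      (ResidueField A) :=
    Groth.Agent.Lib.PerfectGRH3.isGeometricallyReduced_of_perfectField _ (ResidueField A)
  have h2453 := Groth.Agent.S2453.result (k := Groth.Agent.Lib.AdicFSFieldH3.PrimeField k) (A := A)
  constructor
  · intro h
    refine ⟨(h2453.out 0 3).1
      (Groth.Agent.Lib.AdicFSFieldH3.isAdicFormallySmooth_of_tower _ k A _ h), ?_⟩
    apply Groth.Agent.Lib.AdicFSFieldH3.injective_of_extension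
    intro D
    exact Groth.Agent.Lib.AdicFSFieldH3.exists_derivation_extension (ResidueField A)
      (maximalIdeal A) h ⟨1, fun x hx => by
        rw [pow_one] at hx
        exact (residue_eq_zero_iff x).2 hx⟩ D
  · rintro ⟨hreg, hinj⟩
    exact Groth.Agent.Lib.AdicFSFieldH3.isAdicFormallySmooth_of_extProp
      (k₀ := Groth.Agent.Lib.AdicFSFieldH3.PrimeField k) _
      ((h2453.out 3 0).1 hreg) (Groth.Agent.Lib.AdicFSFieldH3.extProp_of_injective hinj)

end Groth.Agent.S2471
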