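import Groth.Statements.S4573
import Groth.Agent.Lib.PRootCot7_helper3
import Groth.Agent.Lib.GeomRegAdic_helper3
import Groth.Agent.S2453
import Groth.Agent.S2471
-- import your own Groth.Agent.* helpers here

set_option autoImplicit false
universe u
open TensorProduct IsLocalRing
set_option maxSynthPendingDepth 3
open Groth.Agent.Lib.PRootCotH3
open EGA41

namespace Groth.Agent.S4573

/-- Let k be a field of characteristic exponent p and A a Noetherian local k-algebra. Then A is formally
smooth over k for the adic topology of its maximal ideal if and only if, for every finite extension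
k' of k with k'^p ⊆ k, the ring k' ⊗_k A is regular. -/
theorem result {k A : Type u} [Field k] (p : ℕ)
    [ExpChar k p] [CommRing A] [IsLocalRing A] [IsNoetherianRing A] [Algebra k A] :
    CAlgX.IsAdicFormallySmooth k A (maximalIdeal A) ↔
      ∀ (k' : Type u) [Field k'] [Algebra k k'], Module.Finite k k' →
        (∀ x : k', x ^ p ∈ (algebraMap k k').range) → IsRegularRing (k' ⊗[k] A) := by
  constructor
  · intro h k' _ _ hfin _
    exact Groth.Agent.Lib.GeomRegAdicH3.isGeometricallyRegular_of_adic h k' hfin
  · intro H
    have hregA : IsRegularLocalRing A := isRegularLocalRing_of_forall_regular p H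
    rcases ‹ExpChar k p› with _ | ⟨hprime⟩
    · haveI : PerfectField k := PerfectField.ofCharZero
      haveI : Algebra.IsGeometricallyReduced k (ResidueField A) :=
        Groth.Agent.Lib.PerfectGRH3.isGeometricallyReduced_of_perfectField _ _
      exact ((Groth.Agent.S2453.result (k := k) (A := A)).out 0 3).2 hregA
    · haveI : Fact p.Prime := ⟨hprime⟩
      rw [Groth.Agent.S2471.result]
      exact ⟨hregA, injective_lTensor_of_forall_regular p H⟩

end Groth.Agent.S4573
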