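import Groth.Statements.S5762
import Mathlib
import Groth.Agent.Lib.CM_helper5

set_option autoImplicit false
universe u
open EGA41

namespace Groth.Agent.S5762

/-- Let A be a Noetherian local ring, M a nonzero finitely generated Cohen-Macaulay A-module and p a
prime ideal in the support of M. Then dim(M) = dim_A(M/pM) + dim_{A_p}(M_p). -/
theorem result (A : Type u) [CommRing A]
    [IsLocalRing A] [IsNoetherianRing A] (M : Type u) [AddCommGroup M] [Module A M] [Module.Finite A M]
    (hM : LocCoh.IsCohenMacaulayModule A M) (p : PrimeSpectrum A) (hp : p ∈ Module.support A M) :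
    Module.supportDim A M =
      Module.supportDim A (M ⧸ (p.asIdeal • (⊤ : Submodule A M))) +
        Module.supportDim (Localization.AtPrime p.asIdeal) (LocalizedModule p.asIdeal.primeCompl M) := by
  classical
  haveI := p.isPrime
  obtain ⟨h1, h2⟩ := Groth.Agent.DepthLib.supportDim_localizedModule_of_isCM M hM p.asIdeal hp
  rw [h1]
  haveI := Groth.Agent.DepthLib.nontrivial_of_isCM M hM
  have hpne : p.asIdeal ≠ ⊤ := p.isPrime.ne_top
  have hIM : p.asIdeal • (⊤ : Submodule A M) ≠ ⊤ := by
    intro htop
    have hbot : (⊤ : Submodule A M) = ⊥ :=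
      Submodule.eq_bot_of_le_smul_of_le_jacobson_bot p.asIdeal ⊤ Module.Finite.fg_top (by rw [htop])
        (le_trans (IsLocalRing.le_maximalIdeal hpne) (IsLocalRing.maximalIdeal_le_jacobson _))
    exact top_ne_bot hbot
  obtain ⟨n, hn⟩ := ENat.ne_top_iff_exists.1 (Groth.Agent.DepthLib.idealDepth_ne_top p.asIdeal M hIM)
  rw [← hn]
  exact Groth.Agent.DepthLib.supportDim_eq_add_idealDepth_of_isCM p.asIdeal hpne n M hM hn.symm

end Groth.Agent.S5762
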