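import Groth.Statements.S9128
import Mathlib
import Groth.Agent.Lib.Catenary_helper5

set_option autoImplicit false
universe u
open CAlg

namespace Groth.Agent.S9128

/-- A Noetherian local ring A is catenary if and only if the assignment sending a prime p to the Krull
dimension of A/p is a dimension function on Spec A, i.e. it decreases strictly along strict
inclusions of primes and drops by exactly one along inclusions with no prime strictly in between. -/
theorem result (A : Type u) [CommRing A] [IsNoetherianRing A]
    [IsLocalRing A] :
    CAlg.IsCatenary A ↔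
      ∀ p q : PrimeSpectrum A, p < q →
        ringKrullDim (A ⧸ q.asIdeal) < ringKrullDim (A ⧸ p.asIdeal) ∧
          (p ⋖ q → ringKrullDim (A ⧸ p.asIdeal) = ringKrullDim (A ⧸ q.asIdeal) + 1) := by
  have hdim : ∀ p : PrimeSpectrum A, ringKrullDim (A ⧸ p.asIdeal) =
      ((Order.coheight p : ℕ∞) : WithBot ℕ∞) := by
    intro p
    haveI := p.2
    exact Groth.Agent.Hartshorne.ringKrullDim_quotient_eq_coheight p.asIdeal
  have hfin : ∀ p : PrimeSpectrum A, Order.coheight p ≠ ⊤ :=
    Groth.Agent.Hartshorne.coheight_ne_top
  constructor
  · intro hc p q hpq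
    refine ⟨?_, ?_⟩
    · rw [hdim, hdim, WithBot.coe_lt_coe]
      exact Order.coheight_strictAnti hpq (lt_top_iff_ne_top.2 (hfin q))
    · intro hcov
      rw [hdim, hdim, Groth.Agent.Hartshorne.coheight_eq_of_covBy hc p q hcov]
      rfl
  · intro hδ
    have hcov : ∀ p q : PrimeSpectrum A, p ⋖ q → Order.coheight p = Order.coheight q + 1 := by
      intro p q hpq
      have h1 := (hδ p q hpq.lt).2 hpq
      rw [hdim, hdim] at h1
      have h2 : ((Order.coheight q : ℕ∞) : WithBot ℕ∞) + 1 =
          ((Order.coheight q + 1 : ℕ∞) : WithBot ℕ∞) := rfl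
      rw [h2] at h1
      exact WithBot.coe_injective h1
    have hsat : ∀ s : LTSeries (PrimeSpectrum A),
        (∀ i : Fin s.length, s (Fin.castSucc i) ⋖ s (Fin.succ i)) →
        Order.coheight s.head = Order.coheight s.last + s.length := by
      intro s hs
      have key : ∀ k : ℕ, ∀ hk : k < s.length + 1,
          Order.coheight (s 0) = Order.coheight (s ⟨k, hk⟩) + k := by
        intro k
        induction k with
        | zero =>
          intro hk
          simp
        | succ k ih =>
          intro hk
          have hk' : k < s.length := by omega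
          have h1 := hcov _ _ (hs ⟨k, hk'⟩)
          have h2 := ih (by omega)
          have e1 : Fin.castSucc (⟨k, hk'⟩ : Fin s.length) = ⟨k, by omega⟩ := rfl
          have e2 : Fin.succ (⟨k, hk'⟩ : Fin s.length) = ⟨k + 1, hk⟩ := rfl
          rw [e1, e2] at h1
          rw [h2, h1]
          push_cast
          ring
      have h3 := key s.length (by omega)
      exact h3
    refine ⟨?_, ?_⟩
    · intro p q _
      obtain ⟨n, hn⟩ := ENat.ne_top_iff_exists.1 (hfin p)
      refine ⟨n, ?_⟩
      intro s hsp _
      have h1 := Order.length_le_coheight_head (p := s)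
      rw [hsp, ← hn] at h1
      exact_mod_cast h1
    · intro s t hhead hlast hs ht
      have h1 := hsat s hs
      have h2 := hsat t ht
      rw [hhead, hlast, h2] at h1
      have h3 := (ENat.add_right_injective_of_ne_top (hfin t.last)) h1
      exact_mod_cast h3.symm

end Groth.Agent.S9128
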