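import Groth.Statements.S1653
import Groth.Agent.Lib.FibGen2_helper8
import Groth.Agent.Lib.IrrDim_helper8
import Groth.Agent.Lib.HtTrdeg_helper8
import Groth.Agent.Lib.ResTower_helper8
import Groth.Agent.Lib.Chev4_helper8

set_option autoImplicit false
universe u
open CategoryTheory CategoryTheory.Limits AlgebraicGeometry
open Variety

namespace Groth.Agent.S1653

/-- Let f : X → Y be a k-morphism of schemes locally of finite type over a field k, with X irreducible
of dimension a, and let the closure of the image of f have dimension b. Then the local fibre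
dimension of f at every point of X is at least a - b, and the set of points where it equals a - b is
open and dense. -/
theorem result (k : Type u) [Field k] (X Y : Scheme.{u}) [X.Over (Spec (CommRingCat.of k))] [Y.Over (Spec (CommRingCat.of k))]
    [LocallyOfFiniteType (X ↘ (Spec (CommRingCat.of k)))] [LocallyOfFiniteType (Y ↘ (Spec (CommRingCat.of k)))] [IrreducibleSpace X]
    (f : X ⟶ Y) (hf : f ≫ (Y ↘ (Spec (CommRingCat.of k))) = X ↘ (Spec (CommRingCat.of k))) (a b : ℕ) (ha : topologicalKrullDim X = a)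
    (hb : topologicalKrullDim (closure (Set.range f.base)) = b) :
    (∀ x : X, ((a - b : ℕ) : WithBot ℕ∞) ≤ FlatMor.fibreDimAt f x) ∧
      IsOpen {x : X | FlatMor.fibreDimAt f x = (a - b : ℕ)} ∧ Dense {x : X | FlatMor.fibreDimAt f x = (a - b : ℕ)} := by
  haveI : LocallyOfFiniteType f := by
    haveI : LocallyOfFiniteType (f ≫ (Y ↘ Spec (CommRingCat.of k))) := by
      rw [hf]; infer_instance
    exact locallyOfFiniteType_of_comp f (Y ↘ Spec (CommRingCat.of k))
  set ξ := genericPoint X with hξ
  have hξgen : ∀ x' : X, ξ ⤳ x' := fun x' => genericPoint_specializes x'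
  have hξmax : ∀ ξ' : X, ξ' ⤳ ξ → ξ' = ξ := fun ξ' h => ((hξgen ξ').antisymm h).eq.symm
  -- a = trdeg κ(ξ)
  obtain ⟨n, hn, hhn⟩ := Groth.Agent.HtTrdegH8.height_eq_trdeg k X ξ
  have han : a = n := by
    have h1 := Groth.Agent.IrrDimH8.topDim_eq_height_generic X ξ hξgen
    rw [ha, hhn] at h1
    exact_mod_cast h1
  -- b = trdeg κ(f ξ)
  have hcl : closure (Set.range f.base) = closure {f ξ} := by
    apply Set.Subset.antisymm
    · apply closure_minimal _ isClosed_closure
      rintro _ ⟨x, rfl⟩
      exact ((hξgen x).map f.continuous).mem_closure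
    · exact closure_mono (Set.singleton_subset_iff.mpr ⟨ξ, rfl⟩)
  obtain ⟨m, hm, hhm⟩ := Groth.Agent.HtTrdegH8.height_eq_trdeg k Y (f ξ)
  have hbm : b = m := by
    rw [hcl, Groth.Agent.ClosHtH8.topologicalKrullDim_closure_singleton Y (f ξ), hhm] at hb
    exact_mod_cast hb.symm
  -- tower
  obtain ⟨c, hc⟩ := Groth.Agent.ResQuot2H8.exists_trdeg_nat f ξ
  have hc' : Dual3.resTrdeg f ξ = c := hc
  have htower := Groth.Agent.ResTowerH8.trdeg_tower k f hf ξ
  have hm' : @Algebra.trdeg k (Y.residueField (f.base ξ)) _ _ (Curv2.resAlgebra k Y (f.base ξ)) = m := hm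
  rw [hm', hn] at htower
  have hc'' : @Algebra.trdeg (Y.residueField (f.base ξ)) (X.residueField ξ) _ _
      (f.residueFieldMap ξ).hom.toAlgebra = c := hc
  rw [hc''] at htower
  have hsum : m + c = n := by exact_mod_cast htower
  have hcab : c = a - b := by omega
  have hfib : FlatMor.fibreDimAt f ξ = ((a - b : ℕ) : WithBot ℕ∞) := by
    rw [FibGenH8.fibreDimAt_of_isMax f ξ hξmax, hc', Cardinal.toENat_nat, hcab]
    rfl
  have hge : ∀ x : X, ((a - b : ℕ) : WithBot ℕ∞) ≤ FlatMor.fibreDimAt f x := by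
    intro x
    rw [← hfib]
    exact FibGenH8.fibreDimAt_le_of_specializes f (hξgen x)
  have hset : {x : X | FlatMor.fibreDimAt f x = ((a - b : ℕ) : WithBot ℕ∞)} =
      {x : X | FlatMor.fibreDimAt f x ≤ ((a - b : ℕ) : WithBot ℕ∞)} := by
    ext x
    exact ⟨fun h => h.le, fun h => le_antisymm h (hge x)⟩
  refine ⟨hge, ?_, ?_⟩
  · rw [hset]; exact ChevH8.isOpen_fibreDimAt_le f (a - b)
  · rw [hset]
    have hopen := ChevH8.isOpen_fibreDimAt_le f (a - b)
    have hmem : ξ ∈ {x : X | FlatMor.fibreDimAt f x ≤ ((a - b : ℕ) : WithBot ℕ∞)} := hfib.le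
    rw [dense_iff_closure_eq]
    apply Set.eq_univ_of_univ_subset
    intro x _
    exact (hξgen x).mem_closed isClosed_closure (subset_closure hmem)

end Groth.Agent.S1653
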