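import Groth.Statements.S9218
import Mathlib
import Groth.Agent.Lib.LimBaseChange_helper7

set_option autoImplicit false
set_option backward.isDefEq.respectTransparency false
universe u
open CategoryTheory CategoryTheory.Limits AlgebraicGeometry
open Lim

namespace Groth.Agent.S9218

/-- Let S = lim S_i be a cofiltered limit of schemes with affine transition morphisms (the S_i are not
assumed quasi-compact or quasi-separated), i an index, and X_i → S_i, Y_i → S_i morphisms locally of
finite presentation with X_i, Y_i quasi-compact and quasi-separated; let X, Y be their base changes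
to S (pullback squares). Then every S-morphism f : X → Y comes from some stage: for some index j
over i there is an S_j-morphism f_j : X_i ×_{S_i} S_j → Y_i ×_{S_i} S_j whose base change to S is f,
in the sense that the canonical morphisms X → X_i ×_{S_i} S_j and Y → Y_i ×_{S_i} S_j intertwine f
and f_j. This is the fullness part of the equivalence between the colimit of the categories of
quasi-compact quasi-separated schemes locally of finite presentation over the S_i and the
corresponding category over S. -/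
theorem result {I : Type u} [SmallCategory I] [IsCofiltered I]
    (D : I ⥤ Scheme.{u}) (c : Limits.Cone D) (hc : Limits.IsLimit c)
    [∀ (i j : I) (f : i ⟶ j), IsAffineHom (D.map f)] (i : I)
    {Xi Yi : Scheme.{u}} (xi : Xi ⟶ D.obj i) (yi : Yi ⟶ D.obj i)
    [CompactSpace Xi] [QuasiSeparatedSpace Xi] [LocallyOfFinitePresentation xi]
    [CompactSpace Yi] [QuasiSeparatedSpace Yi] [LocallyOfFinitePresentation yi]
    {X Y : Scheme.{u}} (qX : X ⟶ Xi) (pX : X ⟶ c.pt) (hX : IsPullback qX pX xi (c.π.app i))
    (qY : Y ⟶ Yi) (pY : Y ⟶ c.pt) (hY : IsPullback qY pY yi (c.π.app i))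
    (f : X ⟶ Y) (hf : f ≫ pY = pX) :
    ∃ (j : I) (φ : j ⟶ i) (fj : pullback xi (D.map φ) ⟶ pullback yi (D.map φ))
      (sX : X ⟶ pullback xi (D.map φ)) (sY : Y ⟶ pullback yi (D.map φ)),
      fj ≫ pullback.snd yi (D.map φ) = pullback.snd xi (D.map φ) ∧
      sX ≫ pullback.fst xi (D.map φ) = qX ∧ sX ≫ pullback.snd xi (D.map φ) = pX ≫ c.π.app j ∧
      sY ≫ pullback.fst yi (D.map φ) = qY ∧ sY ≫ pullback.snd yi (D.map φ) = pY ≫ c.π.app j ∧
      sX ≫ fj = f ≫ sY := by
  classical
  have hcX := Groth.Agent.Lib.LimBaseChangeH7.isLimitBcCone c hX hc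
  have ha : (Groth.Agent.Lib.LimBaseChangeH7.bcCone c hX).π ≫
      Groth.Agent.Lib.LimBaseChangeH7.bcDiagramBase D i xi =
      (Functor.const _).map ((f ≫ qY) ≫ yi) := by
    ext j : 2
    simp only [NatTrans.comp_app, Groth.Agent.Lib.LimBaseChangeH7.bcDiagramBase_app,
      Functor.const_map_app, Category.assoc]
    rw [Groth.Agent.Lib.LimBaseChangeH7.bcCone_π_fst_assoc, hX.w, hY.w, reassoc_of% hf]
  obtain ⟨j, g, hg1, hg2⟩ := Scheme.exists_π_app_comp_eq_of_locallyOfFinitePresentation
    (Groth.Agent.Lib.LimBaseChangeH7.bcDiagram D i xi)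
    (Groth.Agent.Lib.LimBaseChangeH7.bcDiagramBase D i xi) yi
    (Groth.Agent.Lib.LimBaseChangeH7.bcCone c hX) hcX (f ≫ qY) ha
  have hg2' : g ≫ yi = pullback.snd xi (D.map j.hom) ≫ D.map j.hom := by
    rw [hg2, Groth.Agent.Lib.LimBaseChangeH7.bcDiagramBase_app, pullback.condition]
  have hsY : qY ≫ yi = (pY ≫ c.π.app j.left) ≫ D.map j.hom := by
    rw [hY.w, Category.assoc, c.w]
  refine ⟨j.left, j.hom, pullback.lift g (pullback.snd xi (D.map j.hom)) hg2',
    (Groth.Agent.Lib.LimBaseChangeH7.bcCone c hX).π.app j,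
    pullback.lift qY (pY ≫ c.π.app j.left) hsY, ?_, ?_, ?_, ?_, ?_, ?_⟩
  · exact pullback.lift_snd _ _ _
  · exact Groth.Agent.Lib.LimBaseChangeH7.bcCone_π_fst c hX j
  · exact Groth.Agent.Lib.LimBaseChangeH7.bcCone_π_snd c hX j
  · exact pullback.lift_fst _ _ _
  · exact pullback.lift_snd _ _ _
  · apply pullback.hom_ext
    · rw [Category.assoc, pullback.lift_fst, Category.assoc, pullback.lift_fst]
      exact hg1
    · rw [Category.assoc, pullback.lift_snd, Category.assoc, pullback.lift_snd,
        reassoc_of% hf]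
      exact Groth.Agent.Lib.LimBaseChangeH7.bcCone_π_snd c hX j

end Groth.Agent.S9218
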