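import Groth.Statements.S0012
import Mathlib
import Groth.Agent.Lib.Leray_helper9

set_option autoImplicit false
universe u
open Coherent

namespace Groth.Agent.S0012

open AlgebraicGeometry in
/-- If f : X → S is an affine morphism and F is a quasi-coherent O_X-module then the cohomology of F on
X is isomorphic to the cohomology of its direct image on S, in every degree. Stated as the existence
of an additive isomorphism (the published version has equality via the Leray spectral sequence). -/
theorem result {X S : Scheme.{u}} (f : X ⟶ S) [IsAffineHom f]
    (M : X.Modules) [Coh.IsQCoh M] (i : ℕ) :
    Nonempty (Coh.HH X M i ≃+ Coh.HH S ((Coh.push f).obj M) i) := by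
  exact Leray.nonempty_H_addEquiv_push f.base (Coh.toAb M)
    (fun q => RpushVanish.isZero_RpushAb_of_isAffineHom f M q) i

end Groth.Agent.S0012
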