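import Groth.Statements.S0027
import Groth.Agent.Lib.CohDev13_helper8

set_option autoImplicit false
universe u
open Coherent

namespace Groth.Agent.S0027

open AlgebraicGeometry CategoryTheory CategoryTheory.Limits in
/-- Let X be a nonempty Noetherian scheme and P an isomorphism-invariant property of O_X-modules such
that (1) in a short exact sequence of coherent modules, P for the two outer terms implies P for the
middle term, and (2) P holds for the direct image of every quasi-coherent ideal sheaf of every
integral closed subscheme of X. Then P holds for every coherent O_X-module. (Nonemptiness of X is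
needed for the zero module; the published statement leaves it implicit.) -/
theorem result (X : Scheme.{u}) [IsNoetherian X] [Nonempty X]
    (P : X.Modules → Prop) (hP : ∀ M N : X.Modules, Nonempty (M ≅ N) → P M → P N)
    (h₁ : ∀ S : ShortComplex X.Modules, S.ShortExact → Coh.IsCoh S.X₁ → Coh.IsCoh S.X₂ →
      Coh.IsCoh S.X₃ → P S.X₁ → P S.X₃ → P S.X₂)
    (h₂ : ∀ (Z : Scheme.{u}) (i : Z ⟶ X), IsClosedImmersion i → IsIntegral Z →
      ∀ (I : Z.Modules) (ι : I ⟶ Coh.structureModule Z), Mono ι → Coh.IsQCoh I →
        P ((Coh.push i).obj I))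
    (M : X.Modules) (hM : Coh.IsCoh M) : P M := by
  have hideal : ∀ (Z : Set X) (hZ : IsClosed Z) (y : X), closure {y} = Z →
      ∀ (I : (Scheme.IdealSheafData.vanishingIdeal ⟨Z, hZ⟩).subscheme.Modules)
        (ι : I ⟶ Coh.structureModule _), Mono ι → Coh.IsQCoh I →
        P ((Scheme.Modules.pushforward
          (Scheme.IdealSheafData.vanishingIdeal ⟨Z, hZ⟩).subschemeι).obj I) := by
    intro Z hZ y hy I ι hι hI
    obtain ⟨hint, -⟩ := CohDevH8.exists_isIntegral_subscheme Z hZ y hy
    exact h₂ _ (Scheme.IdealSheafData.vanishingIdeal ⟨Z, hZ⟩).subschemeι inferInstance hint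
      I ι hι hI
  have h0 : ∀ M : X.Modules, IsZero M → P M := by
    intro M hM
    obtain ⟨x⟩ := ‹Nonempty X›
    have hO := CohDevH8.isCoh_structureModule
      (Scheme.IdealSheafData.vanishingIdeal ⟨closure {x}, isClosed_closure⟩).subscheme
    haveI := hO.1
    have hk : (kernel (𝟙 (Coh.structureModule
        (Scheme.IdealSheafData.vanishingIdeal
          ⟨closure {x}, isClosed_closure⟩).subscheme))).IsQuasicoherent :=
      SubExt.isQuasicoherent_kernel _
    have h1 := hideal (closure {x}) isClosed_closure x rfl _ (kernel.ι (𝟙 _)) inferInstance hk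
    have hz : IsZero (kernel (𝟙 (Coh.structureModule
        (Scheme.IdealSheafData.vanishingIdeal ⟨closure {x}, isClosed_closure⟩).subscheme))) :=
      isZero_kernel_of_mono _
    exact hP _ _ ⟨((Scheme.Modules.pushforward _).map_isZero hz).iso hM⟩ h1
  have hstep : ∀ (Z : Set X) (hZ : IsClosed Z), IsIrreducible Z → Z ⊆ Set.univ →
      (∀ M : X.Modules, Coh.IsCoh M → CohB1.support M ⊆ Z → CohB1.support M ≠ Z → P M) →
      ∀ F : X.Modules, Coh.IsCoh F →
        ClSub.KilledByIdeal (Scheme.IdealSheafData.vanishingIdeal ⟨Z, hZ⟩) F → P F := by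
    intro Z hZ hZirr _ IH F hF hk
    have hy : closure {hZirr.genericPoint} = Z := hZirr.closure_genericPoint hZ
    exact CohDevH8.ideal_devissage_step P hP h₁ Z hZ _ hy (hideal Z hZ _ hy) IH F hF hk
  exact CohDevH8.induction_on_support P hP h0 h₁ Set.univ hstep M hM (Set.subset_univ _)

end Groth.Agent.S0027
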