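import Groth.Statements.S9522
import Groth.Agent.Lib.CohDev14_helper8

set_option autoImplicit false
universe u
open CategoryTheory CategoryTheory.Limits AlgebraicGeometry
attribute [local instance] HasDerivedCategory.standard
open Coherent

namespace Groth.Agent.S9522

/-- Let X be a Noetherian scheme, Z₀ ⊆ X an irreducible closed subset with generic point ξ, and P an
isomorphism-invariant property of O_X-modules that holds for every zero module and such that (1) for
every short exact sequence 0 → F₁ → F → F₂ → 0 of coherent modules, P(F₁) and P(F₂) imply P(F); (2)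
for coherent F, P(F^⊕r) for some r ≥ 1 implies P(F); (3) P holds for i_*I for every closed immersion
i : Z → X with Z integral, i(Z) a proper subset of Z₀, and every quasi-coherent ideal sheaf I ⊆ O_Z;
(4) there is a coherent module G with support equal to Z₀, whose stalk at ξ is annihilated by the
maximal ideal of O_{X,ξ}, and such that for every quasi-coherent sheaf of ideals J on X with ξ ∉
V(J) there is a quasi-coherent submodule G' ⊆ J·G whose inclusion into G induces an isomorphism on
stalks at ξ and for which P holds. Then P holds for every coherent O_X-module whose support is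
contained in Z₀. (The published statement does not ask that P hold for the zero module, although its
proof uses this for a filtration with no steps; without it the conclusion fails for the zero module
when Z₀ is a closed point: on the spectrum of a field, with P(F) meaning that F is nonzero, every
other hypothesis holds. This row assumes that P holds for every zero module.) -/
theorem result (X : Scheme.{u}) [IsNoetherian X]
    (Z₀ : Set X) (hZ₀ : IsClosed Z₀) (hirr : IsIrreducible Z₀) (ξ : X) (hξ : ξ ∈ Z₀ ∧ closure {ξ} = Z₀)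
    (P : X.Modules → Prop) (hP : ∀ M N : X.Modules, Nonempty (M ≅ N) → P M → P N)
    (h₀ : ∀ M : X.Modules, IsZero M → P M)
    (h₁ : ∀ S : ShortComplex X.Modules, S.ShortExact → Coh.IsCoh S.X₁ → Coh.IsCoh S.X₂ → Coh.IsCoh S.X₃ →
      P S.X₁ → P S.X₃ → P S.X₂)
    (h₂ : ∀ (F : X.Modules) (r : ℕ), Coh.IsCoh F → 1 ≤ r → P (∐ fun _ : Fin r => F) → P F)
    (h₃ : ∀ (Z : Scheme.{u}) (i : Z ⟶ X), IsClosedImmersion i → IsIntegral Z →
      Set.range ⇑i ⊆ Z₀ → Set.range ⇑i ≠ Z₀ →
      ∀ (I : Z.Modules) (ι : I ⟶ Coh.structureModule Z), Mono ι → Coh.IsQCoh I → P ((Coh.push i).obj I))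
    (h₄ : ∃ G : X.Modules, Coh.IsCoh G ∧ CohB1.support G = Z₀ ∧
      (∀ a ∈ IsLocalRing.maximalIdeal (X.presheaf.stalk ξ), ∀ m : ↑(G.presheaf.stalk ξ), a • m = 0) ∧
      ∀ J : X.IdealSheafData, ξ ∉ (J.support : Set X) →
        ∃ (G' : X.Modules) (ι' : G' ⟶ (Dual3.idealMul J).obj G), Mono ι' ∧ Coh.IsQCoh G' ∧
          IsIso ((TopCat.Presheaf.stalkFunctor _ ξ).map (ι' ≫ Dual3.idealMulι J G).mapPresheaf) ∧ P G')
    (F : X.Modules) (hF : Coh.IsCoh F) (hsupp : CohB1.support F ⊆ Z₀) : P F := by
  have hstep : ∀ (Z : Set X) (hZ : IsClosed Z), IsIrreducible Z → Z ⊆ Z₀ →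
      (∀ M : X.Modules, Coh.IsCoh M → CohB1.support M ⊆ Z → CohB1.support M ≠ Z → P M) →
      ∀ F : X.Modules, Coh.IsCoh F →
        ClSub.KilledByIdeal (Scheme.IdealSheafData.vanishingIdeal ⟨Z, hZ⟩) F → P F := by
    intro Z hZ hZirr hZZ₀ IH F hF hk
    by_cases hZeq : Z = Z₀
    · subst hZeq
      obtain ⟨G, hG, hGs, hGk, hGsub⟩ := h₄
      haveI := hG.1
      haveI := hG.2
      haveI := CohDevH8.finite_stalk G ξ
      obtain ⟨e', ⟨eG⟩⟩ := CohDevH8.exists_linearEquiv_fin_residueField _ _ hGk
      have hξG : ξ ∈ CohB1.support G := hGs ▸ hξ.1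
      cases e' with
      | zero =>
        exfalso
        apply hξG
        exact eG.toEquiv.subsingleton
      | succ e =>
        have hsub : ∀ J : X.IdealSheafData, ξ ∉ (J.support : Set X) →
            ∃ (G' : X.Modules) (ι' : G' ⟶ (Dual3.idealMul J).obj G), Mono ι' ∧ Coh.IsCoh G' ∧
              Nonempty (G'.presheaf.stalk ξ ≃ₗ[X.presheaf.stalk ξ] G.presheaf.stalk ξ) ∧ P G' := by
          intro J hJ
          obtain ⟨G', ι', hι', hq, hiso, hPG'⟩ := hGsub J hJ
          haveI := hι'
          exact ⟨G', ι', hι', CohDevH8.isCoh_of_mono ι' hq (CohDevH8.isCoh_idealMul J G hG),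
            CohDevH8.nonempty_stalk_equiv_of_isIso _ ξ hiso, hPG'⟩
        have hpow := CohDevH8.step_of_subgenerators P h₁ Z hZ ξ hξ.2 IH hG hGs.le e eG hsub F hF hk
        obtain ⟨ε⟩ := CohDevH8.nonempty_pow1_iso_sigma F e
        exact h₂ F (e + 1) hF (by omega) (hP _ _ ⟨ε⟩ hpow)
    · have hy : closure {hZirr.genericPoint} = Z := hZirr.closure_genericPoint hZ
      obtain ⟨hint, -⟩ := CohDevH8.exists_isIntegral_subscheme Z hZ _ hy
      have hrange : Set.range ⇑(Scheme.IdealSheafData.vanishingIdeal ⟨Z, hZ⟩).subschemeι = Z :=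
        EquidimSubH8.range_vanishingIdeal_subschemeι ⟨Z, hZ⟩
      exact CohDevH8.ideal_devissage_step P hP h₁ Z hZ _ hy
        (fun I ι hι hI => h₃ _ (Scheme.IdealSheafData.vanishingIdeal ⟨Z, hZ⟩).subschemeι
          inferInstance hint (hrange.le.trans hZZ₀) (fun h => hZeq (hrange.symm.trans h)) I ι hι hI)
        IH F hF hk
  exact CohDevH8.induction_on_support P hP h₀ h₁ Z₀ hstep F hF hsupp

end Groth.Agent.S9522
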