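import Groth.Statements.S4712
import Groth.Agent.Lib.LocClosedPt_helper8

set_option autoImplicit false
universe u
open EGA4

namespace Groth.Agent.S4712

open AlgebraicGeometry in
/-- Let X be a locally Noetherian scheme and x a point such that {x} is locally closed in X. Then the
closure of {x} has dimension at most 1, and every point of that closure other than x is a closed
point of X. -/
theorem result (X : Scheme.{u}) [IsLocallyNoetherian X] (x : X)
    (hx : IsLocallyClosed ({x} : Set X)) :
    topologicalKrullDim (closure ({x} : Set X)) ≤ 1 ∧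
      ∀ y ∈ closure ({x} : Set X), y ≠ x → IsClosed ({y} : Set X) := by
  classical
  obtain ⟨U, Z, hU, hZ, hUZ⟩ := hx
  have hxU : x ∈ U := by
    have : x ∈ U ∩ Z := hUZ ▸ Set.mem_singleton x
    exact this.1
  have hxZ : x ∈ Z := by
    have : x ∈ U ∩ Z := hUZ ▸ Set.mem_singleton x
    exact this.2
  have hUx : ∀ z ∈ U, x ⤳ z → z = x := by
    intro z hzU hsp
    have hzZ : z ∈ Z := hsp.mem_closed hZ hxZ
    have : z ∈ ({x} : Set X) := hUZ ▸ ⟨hzU, hzZ⟩
    exact this
  have hno := LocClosedPtH8.no_chain x U hU hxU hUx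
  constructor
  · rw [Groth.Agent.ClosHtH8.topologicalKrullDim_closure_singleton X x]
    have hh : Order.height x ≤ 1 := by
      apply Order.height_le
      intro p hp
      by_contra hlen
      have hlen2 : 2 ≤ p.length := by
        have : ¬ p.length ≤ 1 := by exact_mod_cast hlen
        omega
      set n := p.length with hn
      have hi1 : n - 1 < n + 1 := by omega
      have hi2 : n - 2 < n + 1 := by omega
      have hlast : p ⟨n, by omega⟩ = x := hp
      have hlt1 : p ⟨n - 1, hi1⟩ < p ⟨n, by omega⟩ := p.strictMono (by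
        show (⟨n - 1, hi1⟩ : Fin (n + 1)) < ⟨n, by omega⟩
        rw [Fin.mk_lt_mk]; omega)
      have hlt2 : p ⟨n - 2, hi2⟩ < p ⟨n - 1, hi1⟩ := p.strictMono (by
        show (⟨n - 2, hi2⟩ : Fin (n + 1)) < ⟨n - 1, hi1⟩
        rw [Fin.mk_lt_mk]; omega)
      rw [hlast] at hlt1
      exact hno (p ⟨n - 1, hi1⟩) (p ⟨n - 2, hi2⟩) hlt1.le hlt2.le (ne_of_gt hlt1) (ne_of_gt hlt2)
    exact_mod_cast hh
  · intro y hy hyx
    have hxy : x ⤳ y := specializes_iff_mem_closure.mpr hy
    rw [← closure_subset_iff_isClosed]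
    intro y' hy'
    have hyy' : y ⤳ y' := specializes_iff_mem_closure.mpr hy'
    by_contra hne
    exact hno y y' hxy hyy' (Ne.symm hyx) (fun h => hne (h ▸ Set.mem_singleton y))

end Groth.Agent.S4712
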