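import Groth.Statements.S1689
import Mathlib
import Groth.Agent.Lib.ReflFree_helper5
import Groth.Agent.Lib.TFFree_helper8

set_option autoImplicit false
universe u
open CategoryTheory CategoryTheory.Limits AlgebraicGeometry TopologicalSpace
open SDiv

namespace Groth.Agent.S1689

/-- Let X be a locally Noetherian scheme of dimension at most 2 all of whose local rings are regular,
and F a coherent module on X. Then F is reflexive (every stalk is a reflexive module over the local
ring) if and only if F is finite locally free. -/
theorem result (X : Scheme.{u}) [IsLocallyNoetherian X]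
    (hreg : ∀ x : ↥X, IsRegularLocalRing (X.presheaf.stalk x)) (hdim : topologicalKrullDim ↥X ≤ 2) (F : X.Modules)
    (hF : Coh.IsCoh F) : (∀ x : ↥X, Module.IsReflexive (X.presheaf.stalk x) (F.presheaf.stalk x)) ↔ FlatMod.IsFinLocFree F := by
  obtain ⟨hq, hft⟩ := hF
  haveI : F.IsQuasicoherent := hq
  haveI : SheafOfModules.IsFiniteType (R := X.ringCatSheaf) F := hft
  haveI := FLFH8.isFinitePresentation_of_isCoh F
  constructor
  · intro h x
    haveI := hreg x
    haveI := h x
    haveI : Module.Finite (X.presheaf.stalk x) (F.presheaf.stalk x) := FLFH8.finite_stalk F x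
    have hd : ringKrullDim (X.presheaf.stalk x) ≤ 2 :=
      (Groth.Agent.DimGenFibH8.stalk_dim_le_topDim X x).trans hdim
    exact FLFH8.exists_free_nhd F x
      (Groth.Agent.ReflFree.free_of_reflexive (X.presheaf.stalk x) hd (F.presheaf.stalk x))
  · intro h x
    haveI := FLFH8.free_stalk_of_finLocFree F h x
    haveI : Module.Finite (X.presheaf.stalk x) (F.presheaf.stalk x) := FLFH8.finite_stalk F x
    infer_instance

end Groth.Agent.S1689
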