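import Groth.Statements.S19466
import Groth.Agent.Lib.BC0Chart_helper2
import Groth.Agent.Lib.PBCAlg7_helper2

set_option autoImplicit false
universe u
open Coherent

namespace Groth.Agent.S19466

open AlgebraicGeometry CategoryTheory CategoryTheory.Limits in
/-- Let f : X → S be proper and of finite presentation, F an O_X-module of finite presentation which is
flat over S, and s a point of S such that the degree-0 base change map of the fibre square at s,
from the pullback of f_* F to Spec κ(s) to the direct image of the restriction of F to the fibre X_s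
(on global sections: f_* F ⊗ κ(s) → H^0(X_s, F_s)), is an epimorphism. Then there is an open
neighbourhood U of s such that f_* F restricted to U is finite locally free and, for every cartesian
square on a morphism g : T → S whose image lies in U, with projections f' : X' → T and g' : X' → X,
the base change map g^* f_* F → f'_* g'^* F is an isomorphism. (In degree 0 the surjectivity
condition on the comparison map one degree lower is empty, so both conclusions of the published
statement hold; the statement for higher degrees is not part of this row.) -/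
theorem result {X S : Scheme.{u}} (f : X ⟶ S)
    [IsProper f] [LocallyOfFinitePresentation f]
    (F : X.Modules) (hF : CohB1.IsFP F) (hfl : FlatMod.IsFlatOver f F) (s : S)
    (hs : Epi (CohBC.bc0 f (S.fromSpecResidueField s) (f.fiberToSpecResidueField s) (f.fiberι s)
      (f.fiber_fac s) F)) :
    ∃ U : S.Opens, s ∈ U ∧ FlatMod.IsFinLocFree (((Coh.push f).obj F).restrict U.ι) ∧
      ∀ (T X' : Scheme.{u}) (g : T ⟶ S) (f' : X' ⟶ T) (g' : X' ⟶ X) (hsq : IsPullback g' f' f g),
        Set.range g.base ⊆ (U : Set S) → IsIso (CohBC.bc0 f g f' g' hsq.w F) := by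
  haveI : SheafOfModules.IsFinitePresentation (R := X.ringCatSheaf) F := hF
  haveI hq : Coh.IsQCoh F := inferInstanceAs (F.IsQuasicoherent)
  haveI : F.IsQuasicoherent := hq
  haveI hqM : ((Scheme.Modules.pushforward f).obj F).IsQuasicoherent :=
    QcqsLoc.isQuasicoherent_pushforward_qcqs f F
  obtain ⟨_, ⟨T, hT : IsAffineOpen T, rfl⟩, hsT, -⟩ :=
    (S.isBasis_affineOpens).exists_subset_of_mem_open (Set.mem_univ s) isOpen_univ
  obtain ⟨P, hP, -, hpos, -, hB, hC, ⟨e⟩, -⟩ :=
    Groth.Agent.Lib.CBCH2.chartFacts0 f F hF hfl T hT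
  have hP' := Groth.Agent.Lib.PBCH2.hP_proj P hP
  let x : PrimeSpectrum Γ(S, T) :=
    ⟨RingHom.ker (Groth.Agent.Lib.CBCH2.evalRes T s hsT), RingHom.ker_isPrime _⟩
  have hx1 : x ∈ Module.freeLocus Γ(S, T) (P.opcycles (-((0 : ℕ) : ℤ) - 1)) := by
    letI := Groth.Agent.Lib.CBCH2.algRes T s hsT
    exact Groth.Agent.Lib.PBCH2.mem_freeLocus_of_betaT_surjective' P hP (-((0 : ℕ) : ℤ))
      (S.residueField s) (hB s hsT hs) x rfl
  have hx0 : x ∈ Module.freeLocus Γ(S, T) (P.opcycles ((1 : ℤ) - 1)) := by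
    letI := Groth.Agent.Lib.CBCH2.algRes T s hsT
    have hsub : Subsingleton ((CohIII.TFun P 1).obj
        (ModuleCat.of Γ(S, T) (S.residueField s))) :=
      ModuleCat.subsingleton_of_isZero (hpos 1 one_pos _)
    exact (Groth.Agent.Lib.PBCH2.mem_freeLocus_of_subsingleton_T P hP 1 (S.residueField s)
      hsub x rfl).2
  obtain ⟨g₁, hg₁, hsplit₁⟩ :=
    Groth.Agent.Lib.PBCH2.exists_hasGSplit_of_mem_freeLocus P hP' (-((0 : ℕ) : ℤ)) x hx1
  obtain ⟨g₂, hg₂, hsplit₂⟩ :=
    Groth.Agent.Lib.PBCH2.exists_hasGSplit_of_mem_freeLocus P hP' 1 x hx0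
  have hrel : (ComplexShape.down ℤ).Rel 1 (-((0 : ℕ) : ℤ)) := by
    simp
  obtain ⟨ψ, φ, hψφ⟩ := Groth.Agent.Lib.PBCH2.retract_of_hasGSplit P (-((0 : ℕ) : ℤ))
    1 hrel g₁ g₂ hsplit₁ hsplit₂
  obtain ⟨c, hcdef⟩ : ∃ c : Γ(S, T), c = g₂ * g₁ := ⟨_, rfl⟩
  have hcx : c ∉ x.asIdeal := by
    intro hc
    rw [hcdef] at hc
    rcases x.2.mem_or_mem hc with h2 | h2
    · exact hg₂ h2
    · exact hg₁ h2
  have hsV : s ∈ S.basicOpen c :=
    Groth.Agent.Lib.CBCH2.mem_basicOpen_of_evalRes_ne_zero T s hsT c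
      (fun h0 => hcx (RingHom.mem_ker.mpr h0))
  haveI := (hP' (-((0 : ℕ) : ℤ))).1
  haveI := (hP' (-((0 : ℕ) : ℤ))).2
  let ψ' : Γ((Scheme.Modules.pushforward f).obj F, T) →ₗ[Γ(S, T)] P.X (-((0 : ℕ) : ℤ)) :=
    ψ.hom ∘ₗ e.symm.toLinearMap
  let φ' : P.X (-((0 : ℕ) : ℤ)) →ₗ[Γ(S, T)] Γ((Scheme.Modules.pushforward f).obj F, T) :=
    e.toLinearMap ∘ₗ φ.hom
  have hc' : ∀ m, φ' (ψ' m) = c • m := by
    intro m
    have h1 : φ.hom (ψ.hom (e.symm m)) = (g₂ * g₁) • e.symm m := by
      have h2 : (ψ ≫ φ).hom (e.symm m) =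
          ((g₂ * g₁) • 𝟙 (P.homology (-((0 : ℕ) : ℤ)))).hom (e.symm m) := by rw [hψφ]
      exact h2
    show e (φ.hom (ψ.hom (e.symm m))) = c • m
    rw [h1, LinearEquiv.map_smul, e.apply_symm_apply, hcdef]
  have hle : S.basicOpen c ≤ S.basicOpen g₁ := by
    rw [hcdef, Scheme.basicOpen_mul]
    exact inf_le_right
  refine ⟨S.basicOpen c, hsV,
    Groth.Agent.Lib.CBCH2.isFinLocFree_restrict_basicOpen_of_retract _ hT ψ' φ' c hc', ?_⟩
  intro T₁ X' g f' g' hsq hrange
  refine Groth.Agent.Lib.CBCH2.isIso_bc0_of_goodAt f g g' f' hsq F (fun z => ?_)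
  have hz : g z ∈ S.basicOpen g₁ := hle (hrange ⟨z, rfl⟩)
  exact ⟨T, hT, g₁, hz, hC 0 g₁ hsplit₁⟩

end Groth.Agent.S19466
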