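import Groth.Statements.S0354
import Groth.Agent.Lib.GrpDim_helper8

set_option autoImplicit false
universe u v
open CategoryTheory MonoidalCategory CartesianMonoidalCategory MonObj GrpObj AlgebraicGeometry
open GrpSch

namespace Groth.Agent.S0354

/-- In a group scheme locally of finite type over a field, the local ring at every closed point has
Krull dimension equal to the dimension of the whole scheme. -/
theorem result (K : Type u) [Field K] (G : Over (Spec (CommRingCat.of K))) [GrpObj G] [LocallyOfFiniteType G.hom] (g : G.left) (hg : IsClosed ({g} : Set G.left)) : ringKrullDim (G.left.presheaf.stalk g) = topologicalKrullDim G.left := by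
  letI ovG : G.left.Over (Spec (CommRingCat.of K)) := ⟨G.hom⟩
  haveI : LocallyOfFiniteType (G.left ↘ Spec (CommRingCat.of K)) := ‹LocallyOfFiniteType G.hom›
  have hmin : IsMin g := by
    intro b hb
    have hsp : g ⤳ b := hb
    have hb' : b ∈ closure ({g} : Set G.left) := hsp.mem_closure
    rw [hg.closure_eq] at hb'
    rw [Set.mem_singleton_iff.mp hb']
  rw [← GrpDimH8.localDim_eq_dim K G g, LocDimProdH8.localDim_eq K G.left g,
    Order.height_eq_zero.mpr hmin, add_zero, AlgebraicGeometry.ringKrullDim_stalk_eq_coheight]

end Groth.Agent.S0354
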