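import Groth.Statements.S16102
import Groth.Agent.Lib.BC0Chart2_helper2
import Groth.Agent.Lib.PBCAlg7_helper2
import Groth.Agent.Lib.FLF8_helper8

set_option autoImplicit false
universe u
open Coherent

namespace Groth.Agent.S16102

open AlgebraicGeometry CategoryTheory Scheme.Modules in
/-- p = 2: let π : X → Y be proper of finite presentation and F a quasi-coherent O_X-module of finite
presentation, flat over Y. Suppose that for every point y of Y, H^2(X_y, F|_{X_y}) = 0 (cohomology
of the restriction of F to the scheme-theoretic fibre) and the degree-0 base change map of the fibre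
square at y, κ(y)^* π_* F → (X_y → Spec κ(y))_* (F|_{X_y}) — the adjoint of π_* of the unit F → ι_*
ι^* F for ι : X_y → X, followed by the identification π_* ι_* = (Spec κ(y) → Y)_* (X_y → Spec
κ(y))_* — is an epimorphism. Then R^1 π_* F, the first right derived functor of π_* on O_X-modules
applied to F, is a finite locally free O_Y-module. (The case p = 2 of the source's statement for an
integer p, whose surjectivity hypothesis in degree p - 2 concerns a higher base change map when p is
at least 3 and is empty when p is at most 1.) -/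
theorem result
    {X Y : Scheme.{u}} (π : X ⟶ Y) [IsProper π] [LocallyOfFinitePresentation π]
    [HasInjectiveResolutions X.Modules]
    (F : X.Modules) [Coh.IsQCoh F] (hfp : CohB1.IsFP F) (hfl : FlatMod.IsFlatOver π F)
    (h2 : ∀ y : Y, Subsingleton (CohIII.fiberH π F y 2))
    (h0 : ∀ y : Y, Epi (((pullbackPushforwardAdjunction (Y.fromSpecResidueField y)).homEquiv ((pushforward π).obj F)
            ((pushforward (π.fiberToSpecResidueField y)).obj ((pullback (π.fiberι y)).obj F))).symm
          ((pushforward π).map ((pullbackPushforwardAdjunction (π.fiberι y)).unit.app F) ≫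
            (pushforwardComp (π.fiberι y) π).hom.app ((pullback (π.fiberι y)).obj F) ≫
            (pushforwardCongr (π.fiber_fac y)).hom.app ((pullback (π.fiberι y)).obj F) ≫
            (pushforwardComp (π.fiberToSpecResidueField y) (Y.fromSpecResidueField y)).inv.app ((pullback (π.fiberι y)).obj F)))) :
    FlatMod.IsFinLocFree ((Coh.Rpush π 1).obj F) := by
  haveI : F.IsQuasicoherent := ‹Coh.IsQCoh F›
  haveI : ((Coh.Rpush π 1).obj F).IsQuasicoherent := RpushQC.isQuasicoherent_Rpush π F 1
  apply FLFH8.finLocFree_of_fp_flat_sections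
  rintro ⟨T, hT⟩
  obtain ⟨P, hP, -, -, hA, hB, -, -, -, hD⟩ :=
    Groth.Agent.Lib.CBCH2.chartFacts3 π F hfp hfl T hT
  have e1 : -((0 : ℕ) : ℤ) - 1 = -((1 : ℕ) : ℤ) := by simp
  have e2 : -((2 : ℕ) : ℤ) = -((1 : ℕ) : ℤ) - 1 := by norm_num
  have h1' : ∀ x : PrimeSpectrum Γ(Y, T),
      x ∈ Module.freeLocus Γ(Y, T) (P.opcycles (-((1 : ℕ) : ℤ))) := by
    intro x
    obtain ⟨y, hy, hker⟩ := Groth.Agent.Lib.CBCH2.exists_ker_evalRes T hT x
    letI := Groth.Agent.Lib.CBCH2.algRes T y hy
    have h0' : Epi (CohBC.bc0 π (Y.fromSpecResidueField y) (π.fiberToSpecResidueField y)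
        (π.fiberι y) (π.fiber_fac y) F) := h0 y
    have := Groth.Agent.Lib.PBCH2.mem_freeLocus_of_betaT_surjective' P hP (-((0 : ℕ) : ℤ))
      (Y.residueField y) (hB y hy h0') x hker
    rwa [e1] at this
  have h2' : ∀ x : PrimeSpectrum Γ(Y, T),
      x ∈ Module.freeLocus Γ(Y, T) (P.opcycles (-((1 : ℕ) : ℤ) - 1)) := by
    intro x
    obtain ⟨y, hy, hker⟩ := Groth.Agent.Lib.CBCH2.exists_ker_evalRes T hT x
    letI := Groth.Agent.Lib.CBCH2.algRes T y hy
    have := (Groth.Agent.Lib.PBCH2.mem_freeLocus_of_subsingleton_T P hP (-((2 : ℕ) : ℤ))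
      (Y.residueField y) ((hA 2 y hy).mp (h2 y)) x hker).1
    rwa [e2] at this
  obtain ⟨hfin, hproj⟩ := Groth.Agent.Lib.PBCH2.finite_projective_homology_of_freeLocus P hP
    (-((1 : ℕ) : ℤ)) h1' h2'
  obtain ⟨e⟩ := hD 1
  haveI := hfin
  haveI := hproj
  haveI : Module.Finite Γ(Y, T) Γ((Coh.Rpush π 1).obj F, T) := Module.Finite.equiv e
  haveI : Module.Projective Γ(Y, T) Γ((Coh.Rpush π 1).obj F, T) :=
    Module.Projective.of_equiv e
  exact ⟨Module.finitePresentation_of_projective _ _, inferInstance⟩

end Groth.Agent.S16102
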