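import Groth.Statements.S9348
import Mathlib

set_option autoImplicit false
universe u
open Dom

namespace Groth.Agent.S9348

open AlgebraicGeometry CategoryTheory in
/-- Let f : X → Y be a morphism and g : Y' → Y open and surjective. If the base change f' : X ×_Y Y' →
Y' of f is quasi-compact, then so is f. -/
theorem result {X Y X' Y' : Scheme.{u}} (f : X ⟶ Y) (g : Y' ⟶ Y) [Surjective g]
    (hg : IsOpenMap g.base) (g' : X' ⟶ X) (f' : X' ⟶ Y') (hsq : IsPullback g' f' f g) [QuasiCompact f'] :
    QuasiCompact f := by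
  rw [quasiCompact_iff]
  intro U hUo hUc
  have hsurj : Function.Surjective g.base := g.surjective
  choose s hs using hsurj
  have key : ∀ y ∈ U, ∃ V : Set ↑Y', IsOpen V ∧ IsCompact V ∧ s y ∈ V ∧ V ⊆ g.base ⁻¹' U := by
    intro y hy
    have hmem : s y ∈ (⟨g.base ⁻¹' U, hUo.preimage g.base.hom.continuous⟩ : Y'.Opens) := by
      change g.base (s y) ∈ U
      rw [hs]; exact hy
    obtain ⟨V, hV, hsV, hVU⟩ := TopologicalSpace.Opens.isBasis_iff_nbhd.mp Y'.isBasis_affineOpens hmem
    exact ⟨V, V.isOpen, IsAffineOpen.isCompact hV, hsV, hVU⟩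
  choose! V hVo hVc hsV hVU using key
  obtain ⟨t, htU, hUt⟩ := hUc.elim_nhds_subcover (fun y => g.base '' V y) (fun y hy =>
    (hg _ (hVo y hy)).mem_nhds ⟨s y, hsV y hy, hs y⟩)
  set W : Set ↑Y' := ⋃ y ∈ t, V y with hW
  have hWo : IsOpen W := isOpen_biUnion fun y hy => hVo y (htU y hy)
  have hWc : IsCompact W := t.finite_toSet.isCompact_biUnion fun y hy => hVc y (htU y hy)
  have hgW : g.base '' W = U := by
    apply subset_antisymm
    · rw [Set.image_subset_iff]
      exact Set.iUnion₂_subset fun y hy => hVU y (htU y hy)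
    · rw [hW, Set.image_iUnion₂]
      exact hUt
  have h1 := QuasiCompact.isCompact_preimage (f := f') W hWo hWc
  have h2 := Scheme.image_preimage_eq_of_isPullback hsq.flip W
  rw [hgW] at h2
  rw [← h2]
  exact h1.image g'.base.hom.continuous

end Groth.Agent.S9348
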