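import Groth.Statements.S3287
import Mathlib
import Groth.Agent.Lib.LambdaRing_helper1

set_option autoImplicit false
universe u
open Finset
open LambdaRing

namespace Groth.Agent.S3287

/-- For a line element u (positive of augmentation one) of a λ-ring with positive structure, ψ^j(u) =
u^j for every j. -/
theorem result (K : Type u) [CommRing K] [LambdaRing.LambdaOps K] (P : LambdaRing.PosStructure K) (u : K) (hu : P.IsLine u) (j : ℕ) :
    LambdaRing.adams P j u = u ^ j := by
  obtain ⟨hpos, haug⟩ := hu
  have hL : ∀ j : ℕ, 2 ≤ j → LambdaOps.lam j u = 0 := fun j hj =>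
    P.lam_eq_zero u hpos j (by rw [haug]; exact_mod_cast (by omega : 1 < j))
  have h1 : lamSeries u = 1 + PowerSeries.C u * PowerSeries.X :=
    Lib.LambdaRingH1.lamSeries_of_line hL
  have h2 : PowerSeries.rescale (-1 : K) (lamSeries u) = 1 - PowerSeries.C u * PowerSeries.X := by
    have hC : PowerSeries.rescale (-1 : K) (PowerSeries.C u) = PowerSeries.C u := by
      ext n
      rw [PowerSeries.coeff_rescale, PowerSeries.coeff_C]
      split_ifs with h
      · subst h; simp
      · simp
    rw [h1, map_add, map_one, map_mul, PowerSeries.rescale_neg_one_X, hC]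
    ring
  obtain ⟨g, hg⟩ : ∃ g : PowerSeries K, g = PowerSeries.mk fun k => u ^ k := ⟨_, rfl⟩
  have h3 : (1 - PowerSeries.C u * PowerSeries.X) * g = 1 := by
    ext n
    rw [sub_mul, one_mul, map_sub, mul_assoc, PowerSeries.coeff_C_mul]
    rcases n with _ | n
    · simp [hg]
    · rw [PowerSeries.coeff_succ_X_mul, hg, PowerSeries.coeff_mk, PowerSeries.coeff_mk,
        PowerSeries.coeff_one, if_neg (by omega), pow_succ']
      ring
  have h4 : (1 - PowerSeries.C u * PowerSeries.X).invOfUnit 1 = g := by
    have hc : PowerSeries.constantCoeff (1 - PowerSeries.C u * PowerSeries.X) = ((1 : Kˣ) : K) := by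
      simp
    have h5 := PowerSeries.mul_invOfUnit _ (1 : Kˣ) hc
    have hunit : IsUnit (1 - PowerSeries.C u * PowerSeries.X) := IsUnit.of_mul_eq_one _ h3
    exact hunit.mul_left_cancel (h5.trans h3.symm)
  have h6 : PowerSeries.derivative K (1 - PowerSeries.C u * PowerSeries.X) = - PowerSeries.C u := by
    rw [map_sub, Derivation.leibniz]
    simp
  unfold adams adamsSeries
  rw [h2, h4, haug, h6]
  have h7 : PowerSeries.C (((1 : ℤ) : K)) - PowerSeries.X * -PowerSeries.C u * g =
      PowerSeries.C (((1 : ℤ) : K)) + PowerSeries.X * (PowerSeries.C u * g) := by ring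
  rw [h7, map_add]
  rcases j with _ | j
  · simp [hg]
  · rw [PowerSeries.coeff_succ_X_mul, PowerSeries.coeff_C_mul, hg, PowerSeries.coeff_mk,
      PowerSeries.coeff_C, if_neg (by omega), zero_add, pow_succ']

end Groth.Agent.S3287
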