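import Groth.Statements.S3291
import Mathlib

set_option autoImplicit false
universe u
open Finset
open LambdaRing

namespace Groth.Agent.S3291

section aux
variable {K : Type u} [CommRing K] [LambdaOps K] (P : PosStructure K)

/-- generating monomials of weight at least `n` -/
def G (n : ℕ) : Set K :=
  {y | ∃ (l : List (ℕ × K)), (∀ p ∈ l, P.aug p.2 = 0) ∧ n ≤ (l.map Prod.fst).sum ∧
        y = (l.map fun p => gamma p.1 p.2).prod}

lemma G_mul {m n : ℕ} {x y : K} (hx : x ∈ G P m) (hy : y ∈ G P n) : x * y ∈ G P (m + n) := by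
  obtain ⟨l₁, h₁, hw₁, rfl⟩ := hx
  obtain ⟨l₂, h₂, hw₂, rfl⟩ := hy
  refine ⟨l₁ ++ l₂, ?_, ?_, ?_⟩
  · intro p hp
    rcases List.mem_append.mp hp with h | h
    · exact h₁ p h
    · exact h₂ p h
  · rw [List.map_append, List.sum_append]; omega
  · rw [List.map_append, List.prod_append]

lemma closure_mul {m n : ℕ} {x y : K} (hx : x ∈ AddSubgroup.closure (G P m))
    (hy : y ∈ AddSubgroup.closure (G P n)) : x * y ∈ AddSubgroup.closure (G P (m + n)) := by
  induction hx using AddSubgroup.closure_induction with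
  | mem x hx =>
    induction hy using AddSubgroup.closure_induction with
    | mem y hy => exact AddSubgroup.subset_closure (G_mul P hx hy)
    | zero => rw [mul_zero]; exact zero_mem _
    | add y z _ _ hy hz => rw [mul_add]; exact add_mem hy hz
    | neg y _ hy => rw [mul_neg]; exact neg_mem hy
  | zero => rw [zero_mul]; exact zero_mem _
  | add x z _ _ hx hz => rw [add_mul]; exact add_mem hx hz
  | neg x _ hx => rw [neg_mul]; exact neg_mem hx

omit P in
lemma gamma_one_arg (x : K) : gamma 1 x = x := by
  simp [gamma, Finset.sum_range_succ, LambdaOps.lam_one]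

lemma closure_G0 : AddSubgroup.closure (G P 0) = ⊤ := by
  rw [eq_top_iff]
  intro a _
  have h1 : a - ((P.aug a : ℤ) : K) ∈ G P 0 :=
    ⟨[(1, a - ((P.aug a : ℤ) : K))], by simp, by simp, by simp [gamma_one_arg]⟩
  have h2 : (1 : K) ∈ G P 0 := ⟨[], by simp, by simp, by simp⟩
  have h3 : ((P.aug a : ℤ) : K) ∈ AddSubgroup.closure (G P 0) := by
    rw [← zsmul_one]; exact zsmul_mem (AddSubgroup.subset_closure h2) _
  have := add_mem (AddSubgroup.subset_closure h1) h3
  rwa [sub_add_cancel] at this

lemma filt_eq (n : ℕ) : gammaFiltration P n = AddSubgroup.closure (G P n) := by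
  unfold gammaFiltration
  split_ifs with h
  · subst h; exact (closure_G0 P).symm
  · rfl

end aux


/-- The γ-filtration F^n K of a λ-ring with positive structure (F^0 = K, F^n for n ≥ 1 generated
additively by products γ^(r₁)(x₁)⋯γ^(r_k)(x_k) with ε(x_i) = 0 and Σ r_i ≥ n) consists of ideals,
and F^m · F^n ⊆ F^(m+n). -/
theorem result (K : Type u) [CommRing K] [LambdaRing.LambdaOps K] (P : LambdaRing.PosStructure K) :
    (∀ (n : ℕ) (a x : K), x ∈ LambdaRing.gammaFiltration P n → a * x ∈ LambdaRing.gammaFiltration P n) ∧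
    ∀ (m n : ℕ) (x y : K), x ∈ LambdaRing.gammaFiltration P m → y ∈ LambdaRing.gammaFiltration P n →
      x * y ∈ LambdaRing.gammaFiltration P (m + n) := by
  constructor
  · intro n a x hx
    rw [filt_eq] at hx ⊢
    have ha : a ∈ AddSubgroup.closure (G P 0) := by rw [closure_G0]; trivial
    have := closure_mul P ha hx
    rwa [zero_add] at this
  · intro m n x y hx hy
    rw [filt_eq] at hx hy ⊢
    exact closure_mul P hx hy

end Groth.Agent.S3291
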