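import Groth.Statements.S3779
import Mathlib
import Groth.Agent.Lib.LambdaRing_helper1
import Groth.Agent.Lib.LambdaSplit_helper1

set_option autoImplicit false
universe v u
open CategoryTheory CategoryTheory.Limits AlgebraicGeometry
attribute [local instance] HasDerivedCategory.standard
open KRR

namespace Groth.Agent.S3779

open LambdaRing Groth.Agent.Lib.LambdaRingH1 Groth.Agent.Lib.LambdaSplitH1 Polynomial

section Generic
variable {K : Type v} [CommRing K] {A : Type v} [CommRing A] [Algebra K A]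

theorem gen1 (ℓ : A) (c σ : ℕ → K) (m : ℕ)
    (hR : ∑ i ∈ Finset.range (m + 1), algebraMap K A (c i) * ℓ ^ (m - i) = 0)
    (hc0 : c 0 = 1)
    (hσ : ∀ n, m ≤ n → ∑ i ∈ Finset.range (m + 1), c i * σ (n - i) = 0)
    (f : A →ₗ[K] K) (hf : ∀ i, i < m → f (ℓ ^ i) = σ i) : ∀ i, f (ℓ ^ i) = σ i := by
  intro n
  induction n using Nat.strong_induction_on with
  | _ n ih =>
    by_cases hn : n < m
    · exact hf n hn
    · push_neg at hn
      have h1 := congrArg (fun z => f (z * ℓ ^ (n - m))) hR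
      simp only [zero_mul, map_zero, Finset.sum_mul, map_sum] at h1
      have h2 : ∀ i ∈ Finset.range (m + 1),
          f (algebraMap K A (c i) * ℓ ^ (m - i) * ℓ ^ (n - m)) = c i * f (ℓ ^ (n - i)) := by
        intro i hi
        rw [Finset.mem_range] at hi
        rw [mul_assoc, ← pow_add, ← Algebra.smul_def, map_smul, smul_eq_mul]
        have : m - i + (n - m) = n - i := by omega
        rw [this]
      rw [Finset.sum_congr rfl h2] at h1
      have hS := hσ n hn
      rw [Finset.sum_range_succ'] at h1 hS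
      rw [hc0, one_mul, Nat.sub_zero] at h1 hS
      have h3 : ∑ i ∈ Finset.range m, c (i + 1) * f (ℓ ^ (n - (i + 1))) =
          ∑ i ∈ Finset.range m, c (i + 1) * σ (n - (i + 1)) := by
        apply Finset.sum_congr rfl
        intro i hi
        rw [Finset.mem_range] at hi
        rw [ih (n - (i + 1)) (by omega)]
      rw [h3] at h1
      exact add_left_cancel (h1.trans hS.symm)

theorem gen2 (ℓ linv : A) (hl : linv * ℓ = 1) (c σ : ℕ → K) (m : ℕ)
    (hR : ∑ i ∈ Finset.range (m + 1), algebraMap K A (c i) * ℓ ^ (m - i) = 0)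
    (hσ : ∀ n, 1 ≤ n → ∑ i ∈ Finset.range (n + 1), c i * σ (n - i) = 0)
    (hcm : IsUnit (c m)) (f : A →ₗ[K] K) (hall : ∀ i, f (ℓ ^ i) = σ i) :
    ∀ n, 1 ≤ n → n < m → f (linv ^ n) = 0 := by
  let U : Aˣ := ⟨ℓ, linv, by rw [mul_comm]; exact hl, hl⟩
  have hU : ∀ a : ℕ, ((U ^ (a : ℤ) : Aˣ) : A) = ℓ ^ a := by
    intro a
    rw [zpow_natCast, Units.val_pow_eq_pow_val]
  have hUn : ∀ a : ℕ, ((U ^ (-(a : ℤ)) : Aˣ) : A) = linv ^ a := by
    intro a
    rw [zpow_neg, zpow_natCast, ← inv_pow, Units.val_pow_eq_pow_val]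
    rfl
  have hrel : ∀ t : ℤ,
      ∑ i ∈ Finset.range (m + 1), c i * f ((U ^ (t - (i : ℤ)) : Aˣ) : A) = 0 := by
    intro t
    have h1 := congrArg (fun z => f (z * ((U ^ (t - (m : ℤ)) : Aˣ) : A))) hR
    simp only [zero_mul, map_zero, Finset.sum_mul, map_sum] at h1
    rw [← h1]
    apply Finset.sum_congr rfl
    intro i hi
    rw [Finset.mem_range] at hi
    rw [mul_assoc, ← hU, ← Units.val_mul, ← zpow_add, ← Algebra.smul_def, map_smul, smul_eq_mul]
    have : ((m - i : ℕ) : ℤ) + (t - (m : ℤ)) = t - (i : ℤ) := by omega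
    rw [this]
  intro n
  induction n using Nat.strong_induction_on with
  | _ n ih =>
    intro hn1 hnm
    obtain ⟨n', rfl⟩ : ∃ n', n = n' + 1 := ⟨n - 1, by omega⟩
    obtain ⟨q, hq⟩ : ∃ q, m = q + (n' + 1) := ⟨m - (n' + 1), by omega⟩
    have hq1 : 1 ≤ q := by omega
    have h := hrel (q : ℤ)
    have e1 : m + 1 = (q + 1) + n' + 1 := by omega
    rw [e1, Finset.sum_range_succ, Finset.sum_range_add] at h
    have hA : ∑ i ∈ Finset.range (q + 1), c i * f ((U ^ ((q : ℤ) - (i : ℤ)) : Aˣ) : A) = 0 := by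
      rw [← hσ q hq1]
      apply Finset.sum_congr rfl
      intro i hi
      rw [Finset.mem_range] at hi
      have : ((q : ℤ) - (i : ℤ)) = ((q - i : ℕ) : ℤ) := by omega
      rw [this, hU, hall]
    have hB : ∑ i ∈ Finset.range n',
        c (q + 1 + i) * f ((U ^ ((q : ℤ) - ((q + 1 + i : ℕ) : ℤ)) : Aˣ) : A) = 0 := by
      apply Finset.sum_eq_zero
      intro i hi
      rw [Finset.mem_range] at hi
      have : ((q : ℤ) - ((q + 1 + i : ℕ) : ℤ)) = -((i + 1 : ℕ) : ℤ) := by push_cast; ring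
      rw [this, hUn, ih (i + 1) (by omega) (by omega) (by omega), mul_zero]
    rw [hA, hB, zero_add, zero_add] at h
    have e2 : ((q : ℤ) - ((q + 1 + n' : ℕ) : ℤ)) = -((n' + 1 : ℕ) : ℤ) := by push_cast; ring
    rw [e2, hUn] at h
    have e3 : q + 1 + n' = m := by omega
    rw [e3] at h
    exact (hcm.mul_right_eq_zero).1 h

end Generic

section Lam
variable {K : Type v} [CommRing K] [LambdaRing.LambdaOps K]

/-- `c_i = (-1)^i λ^i e` -/
def cc (e : K) (i : ℕ) : K := (-1 : K) ^ i * LambdaOps.lam i e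

theorem cc_zero (e : K) : cc e 0 = 1 := by simp [cc, LambdaOps.lam_zero]

theorem sigma_rel (e : K) (n : ℕ) (hn : 1 ≤ n) :
    ∑ i ∈ Finset.range (n + 1), cc e i * KRR.sigma (n - i) e = 0 := by
  have hc : PowerSeries.constantCoeff (PowerSeries.rescale (-1 : K) (lamSeries e)) =
      ((1 : Kˣ) : K) := by
    rw [← PowerSeries.coeff_zero_eq_constantCoeff_apply, PowerSeries.coeff_rescale,
      coeff_lamSeries, LambdaOps.lam_zero]
    simp
  have h := PowerSeries.mul_invOfUnit _ _ hc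
  have h2 := congrArg (PowerSeries.coeff n) h
  rw [PowerSeries.coeff_mul, PowerSeries.coeff_one, if_neg (by omega),
    Finset.Nat.sum_antidiagonal_eq_sum_range_succ_mk] at h2
  rw [← h2]
  apply Finset.sum_congr rfl
  intro i _
  rw [PowerSeries.coeff_rescale, coeff_lamSeries]
  rfl

theorem cc_eq_zero (P : PosStructure K) (e : K) (he : e ∈ P.pos) (i : ℕ)
    (hi : (P.aug e).toNat < i) : cc e i = 0 := by
  unfold cc
  rw [P.lam_eq_zero e he i (by omega), mul_zero]

theorem sigma_rel' (P : PosStructure K) (e : K) (he : e ∈ P.pos) (m : ℕ)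
    (hm : (P.aug e).toNat = m) (n : ℕ) (hn : 1 ≤ n) (hmn : m ≤ n) :
    ∑ i ∈ Finset.range (m + 1), cc e i * KRR.sigma (n - i) e = 0 := by
  rw [← sigma_rel e n hn]
  apply Finset.sum_subset
  · intro i hi
    rw [Finset.mem_range] at hi ⊢
    omega
  · intro i hi hi'
    rw [Finset.mem_range] at hi hi'
    rw [cc_eq_zero P e he i (by omega), zero_mul]

theorem root_rel (P : PosStructure K) (e : K) (m : ℕ) (hm : (P.aug e).toNat = m) :
    ∑ i ∈ Finset.range (m + 1), algebraMap K (AdjoinRoot (KRR.extPoly P e)) (cc e i) *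
      AdjoinRoot.root (KRR.extPoly P e) ^ (m - i) = 0 := by
  have h2 : KRR.extPoly P e = ∑ i ∈ Finset.range (m + 1), C (cc e i) * X ^ (m - i) := by
    unfold KRR.extPoly cc
    rw [hm]
  have h3 := congrArg (eval₂ (AdjoinRoot.of (KRR.extPoly P e))
    (AdjoinRoot.root (KRR.extPoly P e))) h2
  rw [AdjoinRoot.eval₂_root, eval₂_finset_sum] at h3
  refine Eq.trans ?_ h3.symm
  apply Finset.sum_congr rfl
  intro i _
  rw [eval₂_mul, eval₂_C, eval₂_pow, eval₂_X, AdjoinRoot.algebraMap_eq]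

theorem part1 (P : PosStructure K) (e : K) (he : e ∈ P.pos) (r : ℕ) (hr : P.aug e = r + 1)
    (f : AdjoinRoot (KRR.extPoly P e) →ₗ[K] K)
    (hf : ∀ i : ℕ, i ≤ r → f (AdjoinRoot.root (KRR.extPoly P e) ^ i) = KRR.sigma i e) :
    ∀ i : ℕ, f (AdjoinRoot.root (KRR.extPoly P e) ^ i) = KRR.sigma i e := by
  have hm : (P.aug e).toNat = r + 1 := by rw [hr]; omega
  exact gen1 _ (cc e) (fun i => KRR.sigma i e) (r + 1) (root_rel P e (r + 1) hm) (cc_zero e)
    (fun n hn => sigma_rel' P e he (r + 1) hm n (by omega) hn) f (fun i hi => hf i (by omega))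

end Lam


/-- Let K be a λ-ring with positive structure having the splitting property, e positive with ε(e) = r +
1, K_e = K[T]/(p_e) with canonical generator ℓ (a unit), σ^i(e) the coefficients of σ_t(e) =
λ_{-t}(e)⁻¹, and f : K_e ⟶ K a K-linear map with f(ℓ^i) = σ^i(e) for 0 ≤ i ≤ r. Then f(ℓ^i) = σ^i(e)
for all i ≥ 0, and f(ℓ^{-n}) = 0 for 1 ≤ n ≤ r (stated with any inverse linv of ℓ). -/
theorem result (K : Type v) [CommRing K] [LambdaRing.LambdaOps K] (P : LambdaRing.PosStructure K) (hK : LambdaRing.HasSplitting K P) (e : K) (he : e ∈ P.pos) (r : ℕ) (hr : P.aug e = r + 1)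
    (f : AdjoinRoot (KRR.extPoly P e) →ₗ[K] K)
    (hf : ∀ i : ℕ, i ≤ r → f (AdjoinRoot.root (KRR.extPoly P e) ^ i) = KRR.sigma i e)
    (linv : AdjoinRoot (KRR.extPoly P e)) (hlinv : linv * AdjoinRoot.root (KRR.extPoly P e) = 1) :
    (∀ i : ℕ, f (AdjoinRoot.root (KRR.extPoly P e) ^ i) = KRR.sigma i e) ∧
    ∀ n : ℕ, 1 ≤ n → n ≤ r → f (linv ^ n) = 0 := by
  have hm : (P.aug e).toNat = r + 1 := by rw [hr]; omega
  have h1 := part1 P e he r hr f hf
  refine ⟨h1, ?_⟩
  intro n hn1 hnr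
  have hunit : IsUnit (cc e (r + 1)) := by
    unfold cc
    have hu := P.isUnit_lam e he
    rw [hm] at hu
    exact ((isUnit_one.neg).pow _).mul hu
  exact gen2 _ linv hlinv (cc e) (fun i => KRR.sigma i e) (r + 1) (root_rel P e (r + 1) hm)
    (fun n hn => sigma_rel e n hn) hunit f h1 n hn1 (by omega)

end Groth.Agent.S3779
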