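import Groth.Statements.S3792
import Mathlib
import Groth.Agent.Lib.LambdaRing_helper1
import Groth.Agent.Lib.LambdaSplit_helper1

set_option autoImplicit false
universe v u
open CategoryTheory CategoryTheory.Limits AlgebraicGeometry
attribute [local instance] HasDerivedCategory.standard
open KRR

namespace Groth.Agent.S3792

open LambdaRing Groth.Agent.Lib.LambdaRingH1 Groth.Agent.Lib.LambdaSplitH1

section Aux
variable {K : Type v} [CommRing K] [LambdaRing.LambdaOps K] (P : LambdaRing.PosStructure K)

theorem lam_lines (s : Multiset K) (hs : ∀ u ∈ s, P.IsLine u) (i : ℕ) :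
    LambdaOps.lam i s.sum = s.esymm i := by
  induction s using Multiset.induction_on generalizing i with
  | empty =>
    rcases i with _ | i
    · simp [lam_zero_right, Multiset.esymm]
    · simp [lam_zero_right, Multiset.esymm]
  | cons u s ih =>
    have hu := hs u (Multiset.mem_cons_self u s)
    have ih' := ih (fun w hw => hs w (Multiset.mem_cons_of_mem hw))
    rw [Multiset.sum_cons]
    rcases i with _ | i
    · simp [LambdaOps.lam_zero, Multiset.esymm]
    · have h := congrArg (PowerSeries.coeff (i + 1)) (lamSeries_add u s.sum)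
      rw [lamSeries_of_line (lam_line_eq_zero P hu), coeff_lamSeries, add_mul, one_mul, map_add,
        mul_assoc, PowerSeries.coeff_C_mul, PowerSeries.coeff_succ_X_mul, coeff_lamSeries,
        coeff_lamSeries] at h
      rw [h, ih', ih']
      unfold Multiset.esymm
      rw [Multiset.powersetCard_cons, Multiset.map_add, Multiset.sum_add, Multiset.map_map]
      congr 1
      rw [← Multiset.sum_map_mul_left]
      apply congrArg
      apply Multiset.map_congr rfl
      intro t _
      simp

theorem sum_esymm_eq_prod (s : Multiset K) :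
    ∑ i ∈ Finset.range (Multiset.card s + 1), (-1 : K) ^ i * s.esymm i =
      (s.map (fun u => 1 - u)).prod := by
  have h := congrArg (Polynomial.eval 1) (Multiset.prod_X_sub_X_eq_sum_esymm s)
  rw [Polynomial.eval_multiset_prod, Multiset.map_map, Polynomial.eval_finset_sum] at h
  have h2 : (s.map (Polynomial.eval 1 ∘ fun t => Polynomial.X - Polynomial.C t)) =
      s.map (fun u => 1 - u) := by
    apply Multiset.map_congr rfl
    intro t _
    simp
  rw [h2] at h
  rw [h]
  apply Finset.sum_congr rfl
  intro i _
  simp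

theorem adams_prod_one_sub (hK : HasSplitting K P) (j : ℕ) (s : Multiset K)
    (hs : ∀ u ∈ s, P.IsLine u) :
    adams P j (s.map (fun u => 1 - u)).prod = (s.map (fun u => 1 - u ^ j)).prod := by
  induction s using Multiset.induction_on with
  | empty => simp [adams_one]
  | cons u s ih =>
    rw [Multiset.map_cons, Multiset.prod_cons, adams_mul P hK,
      ih (fun w hw => hs w (Multiset.mem_cons_of_mem hw)),
      adams_sub, adams_one, adams_line P (hs u (Multiset.mem_cons_self u s)), Multiset.map_cons,
      Multiset.prod_cons]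

theorem prod_one_sub_pow (j : ℕ) (s : Multiset K) :
    (s.map (fun u => 1 - u ^ j)).prod =
      (s.map (fun u => 1 - u)).prod * (s.map (fun u => ∑ k ∈ Finset.range j, u ^ k)).prod := by
  rw [← Multiset.prod_map_mul]
  apply congrArg
  apply Multiset.map_congr rfl
  intro u _
  exact (mul_neg_geom_sum u j).symm

theorem aeval_bottPoly {R : Type v} [CommRing R] (j m : ℕ) (t : Fin m → R) :
    MvPolynomial.aeval (fun i : Fin m => (Finset.univ.val.map t).esymm (i.1 + 1))
      (KRR.bottPoly j m) =
      ((Finset.univ.val.map t).map (fun u => ∑ k ∈ Finset.range j, u ^ k)).prod := by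
  have h1 : MvPolynomial.aeval (fun i : Fin m => MvPolynomial.esymm (Fin m) ℤ (i.1 + 1))
      (KRR.bottPoly j m) = KRR.bottSym j m := by
    have h0 := (MvPolynomial.esymmAlgEquiv (Fin m) ℤ (Fintype.card_fin m)).apply_symm_apply
      ⟨KRR.bottSym j m, KRR.bottSym_isSymmetric j m⟩
    have h2 := congrArg Subtype.val h0
    rw [← MvPolynomial.esymmAlgHom_apply]
    exact h2
  have h3 := congrArg (MvPolynomial.aeval t) h1
  have h4 := AlgHom.congr_fun (MvPolynomial.comp_aeval
    (f := fun i : Fin m => MvPolynomial.esymm (Fin m) ℤ (i.1 + 1))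
    (MvPolynomial.aeval t : MvPolynomial (Fin m) ℤ →ₐ[ℤ] R)) (KRR.bottPoly j m)
  rw [AlgHom.comp_apply] at h4
  rw [h4] at h3
  simp only [MvPolynomial.aeval_esymm_eq_multiset_esymm] at h3
  rw [h3, Multiset.map_map, ← Finset.prod_eq_multiset_prod]
  unfold KRR.bottSym
  simp [map_prod, map_sum, map_pow, MvPolynomial.aeval_X]

theorem map_bott' {K' : Type v} [CommRing K'] [LambdaOps K'] (P' : PosStructure K')
    (f : K →+* K') (hf : IsLambdaHom f)
    (e : K) (j m : ℕ) (l : List K') (hlen : l.length = m) (hs : ∀ u ∈ l, P'.IsLine u)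
    (hsum : l.sum = f e) :
    f (MvPolynomial.aeval (fun i : Fin m => LambdaOps.lam (i.1 + 1) e) (KRR.bottPoly j m)) =
      (l.map (fun u => ∑ k ∈ Finset.range j, u ^ k)).prod := by
  subst hlen
  have h5 := AlgHom.congr_fun (MvPolynomial.comp_aeval
    (f := fun i : Fin l.length => LambdaOps.lam (i.1 + 1) e) (f.toIntAlgHom))
    (KRR.bottPoly j l.length)
  rw [AlgHom.comp_apply] at h5
  refine (h5.trans ?_)
  have hl : Finset.univ.val.map l.get = (l : Multiset K') := by
    rw [Fin.univ_val_map, List.ofFn_get]
  have h6 : (fun i : Fin l.length => f.toIntAlgHom (LambdaOps.lam (i.1 + 1) e)) =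
      fun i : Fin l.length => (Finset.univ.val.map l.get).esymm (i.1 + 1) := by
    funext i
    rw [hl]
    show f (LambdaOps.lam (i.1 + 1) e) = _
    rw [hf (i.1 + 1) e, ← hsum, ← Multiset.sum_coe,
      lam_lines P' (l : Multiset K') (by simpa using hs)]
  rw [h6, aeval_bottPoly, hl, Multiset.map_coe, Multiset.prod_coe]

end Aux


/-- Let K be a λ-ring with positive structure having the splitting property, e a positive element and j
≥ 1. Then ψ^j(λ_{-1}(e)) = λ_{-1}(e) · θ^j(e), where λ_{-1}(e) = Σ_{i ≤ ε(e)} (-1)^i λ^i(e), ψ^j is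
the Adams operation and θ^j(e) is Bott's cannibalistic class (the universal polynomial in the λ^i(e)
which is Π (1 + u_i + ⋯ + u_i^{j-1}) on a splitting e = Σ u_i). -/
theorem result (K : Type v) [CommRing K] [LambdaRing.LambdaOps K] (P : LambdaRing.PosStructure K) (hK : LambdaRing.HasSplitting K P) (e : K) (he : e ∈ P.pos) (j : ℕ) (hj : 1 ≤ j) :
    LambdaRing.adams P j (KRR.lamAlt P e) = KRR.lamAlt P e * KRR.bott P j e := by
  obtain ⟨K', _, _, P', f, hK', hf, s, hs, hsum⟩ := exists_split P hK e he
  apply hf.injective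
  have h2 : (Multiset.card s : ℤ) = P.aug e := by
    rw [← hf.aug_comp, ← hsum, map_multiset_sum,
      Multiset.map_congr rfl (fun u hu => (hs u hu).2)]
    simp
  have hcard : Multiset.card s = (P.aug e).toNat := by rw [← h2, Int.toNat_natCast]
  have hlam : f (KRR.lamAlt P e) = (s.map (fun u => 1 - u)).prod := by
    unfold KRR.lamAlt
    rw [map_sum, ← sum_esymm_eq_prod, hcard]
    apply Finset.sum_congr rfl
    intro i _
    rw [map_mul, map_pow, map_neg, map_one, hf.isLambdaHom i e, ← hsum, lam_lines P' s hs]
  rw [adams_ext P P' f hf, map_mul, hlam, adams_prod_one_sub P' hK' j s hs, prod_one_sub_pow]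
  congr 1
  obtain ⟨l, rfl⟩ : ∃ l : List K', (l : Multiset K') = s := ⟨s.toList, Multiset.coe_toList s⟩
  rw [Multiset.map_coe, Multiset.prod_coe]
  unfold KRR.bott
  exact (map_bott' P' f hf.isLambdaHom e j _ l (by simpa using hcard) (by simpa using hs)
    (by simpa using hsum)).symm

end Groth.Agent.S3792
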