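import Groth.Statements.S8783
import Mathlib

set_option autoImplicit false
universe u
open CategoryTheory Limits
open AdeqTF

namespace Groth.Agent.S8783

section aux
variable {A : Type u} [CommRing A] (B : Adeq.Alg A)

lemma map_comp' {N N' N'' : ModuleCat.{u} B} (g : N ⟶ N') (h : N' ⟶ N'') :
    AdeqTF.map B (g ≫ h) = AdeqTF.map B g ≫ AdeqTF.map B h := by
  apply CommAlgCat.hom_ext
  refine AlgHom.ext fun x => ?_
  show TrivSqZeroExt.map (g ≫ h).hom x = TrivSqZeroExt.map h.hom (TrivSqZeroExt.map g.hom x)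
  apply TrivSqZeroExt.ext
  · rw [TrivSqZeroExt.fst_map, TrivSqZeroExt.fst_map, TrivSqZeroExt.fst_map]
  · rw [TrivSqZeroExt.snd_map, TrivSqZeroExt.snd_map, TrivSqZeroExt.snd_map]
    rfl

lemma map_id' (N : ModuleCat.{u} B) : AdeqTF.map B (𝟙 N) = 𝟙 _ := by
  apply CommAlgCat.hom_ext
  refine AlgHom.ext fun x => ?_
  show TrivSqZeroExt.map (𝟙 N : N ⟶ N).hom x = x
  apply TrivSqZeroExt.ext
  · rw [TrivSqZeroExt.fst_map]
  · rw [TrivSqZeroExt.snd_map]; rfl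

lemma map_zero' (N N' : ModuleCat.{u} B) :
    AdeqTF.map B (0 : N ⟶ N') = AdeqTF.fst B N ≫ AdeqTF.inl B N' := by
  apply CommAlgCat.hom_ext
  refine AlgHom.ext fun x => ?_
  show TrivSqZeroExt.map (0 : N ⟶ N').hom x =
    algebraMap (B : Type u) (TrivSqZeroExt (B : Type u) N') (TrivSqZeroExt.fst x)
  apply TrivSqZeroExt.ext
  · rw [TrivSqZeroExt.fst_map, TrivSqZeroExt.algebraMap_eq_inl, TrivSqZeroExt.fst_inl]
  · rw [TrivSqZeroExt.snd_map, TrivSqZeroExt.algebraMap_eq_inl, TrivSqZeroExt.snd_inl]; rfl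

variable (F : Adeq.MVF A)

lemma tangentMap_val {N N' : ModuleCat.{u} B} (g : N ⟶ N') (x : AdeqTF.tangent B N F) :
    ((AdeqTF.tangentMap B F g x : AdeqTF.tangent B N' F) :
      F.obj (Adeq.pt (AdeqTF.ext B N'))) = F.map (Adeq.ptHom (AdeqTF.map B g)) x.1 := rfl

lemma tangentMap_comp {N N' N'' : ModuleCat.{u} B} (g : N ⟶ N') (h : N' ⟶ N'')
    (x : AdeqTF.tangent B N F) :
    AdeqTF.tangentMap B F (g ≫ h) x = AdeqTF.tangentMap B F h (AdeqTF.tangentMap B F g x) := by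
  apply Subtype.ext
  rw [tangentMap_val, tangentMap_val, tangentMap_val]
  have e : Adeq.ptHom (AdeqTF.map B (g ≫ h)) =
      Adeq.ptHom (AdeqTF.map B g) ≫ Adeq.ptHom (AdeqTF.map B h) :=
    congrArg Adeq.ptHom (map_comp' B g h)
  rw [F.congr_map_apply e, F.map_comp_apply]

lemma tangentMap_id (N : ModuleCat.{u} B) (x : AdeqTF.tangent B N F) :
    AdeqTF.tangentMap B F (𝟙 N) x = x := by
  apply Subtype.ext
  rw [tangentMap_val]
  have e : Adeq.ptHom (AdeqTF.map B (𝟙 N)) = 𝟙 _ := congrArg Adeq.ptHom (map_id' B N)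
  rw [F.congr_map_apply e, F.map_id]
  rfl

lemma tangentMap_zero (N N' : ModuleCat.{u} B) (x : AdeqTF.tangent B N F) :
    AdeqTF.tangentMap B F (0 : N ⟶ N') x = 0 := by
  apply Subtype.ext
  rw [tangentMap_val]
  have e : Adeq.ptHom (AdeqTF.map B (0 : N ⟶ N')) =
      Adeq.ptHom (AdeqTF.fst B N) ≫ Adeq.ptHom (AdeqTF.inl B N') :=
    congrArg Adeq.ptHom (map_zero' B N N')
  rw [F.congr_map_apply e, F.map_comp_apply]
  have hx : F.map (Adeq.ptHom (AdeqTF.fst B N)) x.1 = 0 := x.2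
  rw [hx]
  exact map_zero (F.map (Adeq.ptHom (AdeqTF.inl B N'))).hom

end aux


/-- Let `F` be a module-valued functor on `A`-algebras with right exact tangent functors (for every
`A`-algebra `B` and short exact `0 → N₁ → N → N₂ → 0` of `B`-modules, `TF(B, N₁) → TF(B, N) → TF(B,
N₂) → 0` is exact). Then `TF(B, N₁ ⊕ N₂) = TF(B, N₁) ⊕ TF(B, N₂)`: the map from the product induced
by the two inclusions is bijective. -/
theorem result (A : Type u) [CommRing A] (F : Adeq.MVF A)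
    (hF : (∀ (B : Adeq.Alg A) (S : ShortComplex (ModuleCat.{u} B)), S.ShortExact →
        Function.Surjective (AdeqTF.tangentMap B F S.g) ∧
          (AdeqTF.tangentMap B F S.g).ker = (AdeqTF.tangentMap B F S.f).range))
    (B : Adeq.Alg A) (N₁ N₂ : ModuleCat.{u} B) :
    Function.Bijective ((AdeqTF.tangentMap B F (biprod.inl : N₁ ⟶ N₁ ⊞ N₂)).coprod
      (AdeqTF.tangentMap B F (biprod.inr : N₂ ⟶ N₁ ⊞ N₂))) := by
  constructor
  · rw [injective_iff_map_eq_zero]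
    rintro ⟨a, b⟩ hab
    have hab' : AdeqTF.tangentMap B F (biprod.inl : N₁ ⟶ N₁ ⊞ N₂) a +
        AdeqTF.tangentMap B F (biprod.inr : N₂ ⟶ N₁ ⊞ N₂) b = 0 := hab
    have ha := congrArg (AdeqTF.tangentMap B F (biprod.fst : N₁ ⊞ N₂ ⟶ N₁)) hab'
    have hb := congrArg (AdeqTF.tangentMap B F (biprod.snd : N₁ ⊞ N₂ ⟶ N₂)) hab'
    rw [map_add, map_zero, ← tangentMap_comp, ← tangentMap_comp] at ha hb
    rw [biprod.inl_fst, biprod.inr_fst, tangentMap_id, tangentMap_zero, add_zero] at ha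
    rw [biprod.inl_snd, biprod.inr_snd, tangentMap_id, tangentMap_zero, zero_add] at hb
    exact Prod.ext ha hb
  · intro x
    have hS := (ShortComplex.Splitting.ofHasBinaryBiproduct N₁ N₂).shortExact
    obtain ⟨-, hker⟩ := hF B _ hS
    have hker' : (AdeqTF.tangentMap B F (biprod.snd : N₁ ⊞ N₂ ⟶ N₂)).ker =
        (AdeqTF.tangentMap B F (biprod.inl : N₁ ⟶ N₁ ⊞ N₂)).range := hker
    obtain ⟨b, hb⟩ : ∃ b, b = AdeqTF.tangentMap B F (biprod.snd : N₁ ⊞ N₂ ⟶ N₂) x := ⟨_, rfl⟩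
    have hmem : x - AdeqTF.tangentMap B F (biprod.inr : N₂ ⟶ N₁ ⊞ N₂) b ∈
        (AdeqTF.tangentMap B F (biprod.snd : N₁ ⊞ N₂ ⟶ N₂)).ker := by
      rw [AddMonoidHom.mem_ker, map_sub, ← tangentMap_comp, biprod.inr_snd, tangentMap_id, hb,
        sub_self]
    rw [hker'] at hmem
    obtain ⟨a, ha⟩ := hmem
    refine ⟨(a, b), ?_⟩
    show AdeqTF.tangentMap B F (biprod.inl : N₁ ⟶ N₁ ⊞ N₂) a +
        AdeqTF.tangentMap B F (biprod.inr : N₂ ⟶ N₁ ⊞ N₂) b = x
    rw [ha]; abel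

end Groth.Agent.S8783
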