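import Groth.Statements.S0542
import Mathlib
import Groth.Agent.Lib.CompleteNoeth_lead

set_option autoImplicit false
universe u
open CAlg

namespace Groth.Agent.S0542

/-- If `I` is a finitely generated ideal of a ring `R` and `R/I` is Noetherian, then the `I`-adic
completion of `R` is a Noetherian ring. (The source also states completeness of the completion along
the extended ideal, which Mathlib already has; only Noetherianity is stated here.) -/
theorem result (R : Type u) [CommRing R] (I : Ideal R)
    (hI : I.FG) [IsNoetherianRing (R ⧸ I)] : IsNoetherianRing (AdicCompletion I R) := by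
  have hcomp : IsAdicComplete (I.map (algebraMap R (AdicCompletion I R))) (AdicCompletion I R) :=
    (IsAdicComplete.map_algebraMap_iff I (AdicCompletion I R)).2 (AdicCompletion.isAdicComplete hI)
  have hnoeth : IsNoetherianRing
      (AdicCompletion I R ⧸ I.map (algebraMap R (AdicCompletion I R))) := by
    have e : (AdicCompletion I R ⧸ I.map (algebraMap R (AdicCompletion I R))) ≃+* (R ⧸ I) :=
      (Ideal.quotEquivOfEq (AdicCompletion.ker_evalOneₐ_eq_map I hI).symm).trans
        (RingHom.quotientKerEquivOfSurjective (AdicCompletion.evalOneₐ_surjective I))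
    exact isNoetherianRing_of_ringEquiv _ e.symm
  obtain ⟨n, y, hy⟩ := Submodule.fg_iff_exists_fin_generating_family.1 hI
  refine Groth.Agent.Lib.CompleteNoethLead.isNoetherianRing_of_isAdicComplete
    (I.map (algebraMap R (AdicCompletion I R)))
    (fun i => algebraMap R (AdicCompletion I R) (y i)) ?_ ?_
  · intro i
    exact Ideal.mem_map_of_mem _ (hy ▸ Submodule.subset_span ⟨i, rfl⟩)
  · refine le_trans ?_ le_sup_left
    rw [Ideal.map_le_iff_le_comap]
    intro z hz
    rw [← hy] at hz
    have hle : Ideal.span (Set.range y) ≤ Ideal.comap (algebraMap R (AdicCompletion I R))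
        (Ideal.span (Set.range fun i => algebraMap R (AdicCompletion I R) (y i))) := by
      rw [Ideal.span_le]; rintro _ ⟨i, rfl⟩; exact Ideal.subset_span ⟨i, rfl⟩
    exact hle hz

end Groth.Agent.S0542
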