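import Groth.Statements.S9294
import Groth.Agent.Lib.RegHomBC_helper3
-- import your own Groth.Agent.* helpers here

set_option autoImplicit false
universe u
open CAlg
set_option maxSynthPendingDepth 3
open TensorProduct

namespace Groth.Agent.S9294

/-- If A → B and B → C are regular ring maps and every fibre ring of the composite A → C is Noetherian,
the composite is regular. -/
theorem result (A B C : Type u) [CommRing A] [CommRing B] [CommRing C]
    [Algebra A B] [Algebra B C] [Algebra A C] [IsScalarTower A B C]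
    (hAB : CAlg.IsRegularHom A B) (hBC : CAlg.IsRegularHom B C)
    (hN : ∀ (p : Ideal A) [p.IsPrime], IsNoetherianRing (p.Fiber C)) :
    CAlg.IsRegularHom A C := by
  haveI := hAB.1
  haveI := hBC.1
  apply Groth.Agent.Lib.RegFlatH3.isRegularHom_of_forall_finite A C (Module.Flat.trans A B C) hN
  intro p hp K _ _ _ _ hfin
  haveI := hfin
  haveI := hN p
  haveI := (hAB.2 p).1
  haveI : IsNoetherianRing (K ⊗[A] C) :=
    Groth.Agent.Lib.RegFlatH3.isNoetherianRing_tensor_of_finite_residueField A C p K
  haveI : IsNoetherianRing (K ⊗[A] B) :=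
    Groth.Agent.Lib.RegFlatH3.isNoetherianRing_tensor_of_finite_residueField A B p K
  haveI : IsRegularRing (K ⊗[A] B) :=
    Groth.Agent.Lib.RegFlatH3.isRegularRing_tensor_of_isRegularHom A B hAB K
  letI : Algebra B (K ⊗[A] B) := Algebra.TensorProduct.rightAlgebra
  haveI : Algebra.IsPushout A K B (K ⊗[A] B) := TensorProduct.isPushout
  let e : (K ⊗[A] B) ⊗[B] C ≃ₐ[K] K ⊗[A] C :=
    Algebra.IsPushout.cancelBaseChangeAlg A K B (K ⊗[A] B) C
  haveI : IsNoetherianRing ((K ⊗[A] B) ⊗[B] C) :=
    isNoetherianRing_of_ringEquiv _ e.symm.toRingEquiv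
  haveI := Groth.Agent.Lib.RegHomBCH3.isRegularRing_baseChange B C hBC (K ⊗[A] B)
  exact IsRegularRing.of_ringEquiv e.toRingEquiv

end Groth.Agent.S9294
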