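import Groth.Statements.S9295
import Groth.Agent.Lib.RegHomBC_helper3
import Groth.Agent.Lib.Serre2_helper5
-- import your own Groth.Agent.* helpers here

set_option autoImplicit false
universe u
open CAlg
set_option maxSynthPendingDepth 3
open TensorProduct

namespace Groth.Agent.S9295

/-- For ring maps A → B → C, if the composite A → C is a regular map and C is flat over B with every
prime of B lying under a prime of C (that is, B → C is faithfully flat), then A → B is a regular
map. -/
theorem result (A B C : Type u) [CommRing A] [CommRing B] [CommRing C]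
    [Algebra A B] [Algebra B C] [Algebra A C] [IsScalarTower A B C]
    (hAC : CAlg.IsRegularHom A C) [Module.Flat B C]
    (hsurj : Function.Surjective (PrimeSpectrum.comap (algebraMap B C))) :
    CAlg.IsRegularHom A B := by
  haveI : Module.FaithfullyFlat B C := Module.FaithfullyFlat.of_comap_surjective hsurj
  haveI := hAC.1
  haveI hflat : Module.Flat A B := Groth.Agent.Lib.RegHomBCH3.flat_of_faithfullyFlat_comp A B C
  -- the key identification
  have key : ∀ (K : Type u) [Field K] [Algebra A K],
      ∃ (_ : Algebra B (K ⊗[A] B)), Nonempty ((K ⊗[A] B) ⊗[B] C ≃+* K ⊗[A] C) := by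
    intro K _ _
    letI : Algebra B (K ⊗[A] B) := Algebra.TensorProduct.rightAlgebra
    haveI : Algebra.IsPushout A K B (K ⊗[A] B) := TensorProduct.isPushout
    exact ⟨inferInstance,
      ⟨(Algebra.IsPushout.cancelBaseChangeAlg A K B (K ⊗[A] B) C).toRingEquiv⟩⟩
  apply Groth.Agent.Lib.RegFlatH3.isRegularHom_of_forall_finite A B hflat
  · intro p hp
    obtain ⟨alg, ⟨e⟩⟩ := key p.ResidueField
    letI := alg
    haveI := (hAC.2 p).1
    haveI : IsNoetherianRing ((p.ResidueField ⊗[A] B) ⊗[B] C) :=
      isNoetherianRing_of_ringEquiv _ e.symm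
    exact Groth.Agent.DepthLib.isNoetherianRing_of_faithfullyFlat (p.ResidueField ⊗[A] B)
      ((p.ResidueField ⊗[A] B) ⊗[B] C)
  · intro p hp K _ _ _ _ hfin
    haveI := hfin
    haveI := (hAC.2 p).1
    haveI : IsNoetherianRing (K ⊗[A] C) :=
      Groth.Agent.Lib.RegFlatH3.isNoetherianRing_tensor_of_finite_residueField A C p K
    haveI : IsRegularRing (K ⊗[A] C) :=
      Groth.Agent.Lib.RegFlatH3.isRegularRing_tensor_of_isRegularHom A C hAC K
    obtain ⟨alg, ⟨e⟩⟩ := key K
    letI := alg
    haveI : IsRegularRing ((K ⊗[A] B) ⊗[B] C) := IsRegularRing.of_ringEquiv e.symm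
    exact Groth.Agent.Serre.regularRing_of_faithfullyFlat (K ⊗[A] B) ((K ⊗[A] B) ⊗[B] C)

end Groth.Agent.S9295
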