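import Groth.Statements.S11179
import Mathlib
-- import your own Groth.Agent.* helpers here

set_option autoImplicit false
universe u
open CategoryTheory

attribute [local instance] HasDerivedCategory.standard
open Goren

namespace Groth.Agent.S11179

/-- A Noetherian local ring A is Gorenstein (A has finite injective dimension as a module over itself)
if and only if the complex A[0] is a dualizing complex for A (finite injective dimension expressed
by vanishing of maps M[0] → A[i] in D(A) outside a bounded range, finite cohomology, A → End(A[0])
bijective and no self-maps of nonzero degree). -/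
theorem result (A : Type u) [CommRing A] [IsLocalRing A] [IsNoetherianRing A] : LocCoh.IsGorensteinLocalRing A ↔ Dual.IsDualizing A (Dual.inD A A) := by
  have hneg : ∀ (M N : ModuleCat.{u} A) (i : ℤ), i < 0 →
      Subsingleton ((DerivedCategory.singleFunctor (ModuleCat.{u} A) 0).obj M ⟶
        ((DerivedCategory.singleFunctor (ModuleCat.{u} A) 0).obj N)⟦i⟧) := by
    intro M N i hi
    haveI : DerivedCategory.TStructure.t.IsGE
        (((DerivedCategory.singleFunctor (ModuleCat.{u} A) 0).obj N)⟦i⟧) (-i) :=
      DerivedCategory.TStructure.t.isGE_shift _ 0 i (-i) (by lia)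
    exact ⟨fun f g => by
      rw [DerivedCategory.TStructure.t.zero f 0 (-i) (by lia),
        DerivedCategory.TStructure.t.zero g 0 (-i) (by lia)]⟩
  have hext : ∀ (M N : ModuleCat.{u} A) (n : ℕ), Subsingleton (Abelian.Ext M N n) ↔
      Subsingleton ((DerivedCategory.singleFunctor (ModuleCat.{u} A) 0).obj M ⟶
        ((DerivedCategory.singleFunctor (ModuleCat.{u} A) 0).obj N)⟦(n : ℤ)⟧) := by
    intro M N n
    exact (Abelian.Ext.homEquiv (X := M) (Y := N) (n := n)).subsingleton_congr
  constructor
  · intro hG
    obtain ⟨n, hn⟩ := hG.exists_hasInjectiveDimensionLT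
    refine ⟨inferInstance, ⟨0, n, ?_⟩, ?_, ?_, ?_⟩
    · intro M _ _ i hi
      rcases hi with hi | hi
      · exact hneg _ _ i hi
      · obtain ⟨k, rfl⟩ := Int.eq_ofNat_of_zero_le (by lia : 0 ≤ i)
        refine (hext _ _ k).1 ?_
        exact HasInjectiveDimensionLT.subsingleton _ n k (by exact_mod_cast hi.le) _
    · intro i
      by_cases hi : i = 0
      · subst hi
        let e := (DerivedCategory.singleFunctorCompHomologyFunctorIso (ModuleCat.{u} A) 0).app
          (ModuleCat.of A A)
        haveI : Module.Finite A ↑((𝟭 (ModuleCat A)).obj (ModuleCat.of A A)) :=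
          inferInstanceAs (Module.Finite A A)
        exact Module.Finite.equiv e.symm.toLinearEquiv
      · have hz : Limits.IsZero ((DerivedCategory.homologyFunctor (ModuleCat.{u} A) i).obj
            ((DerivedCategory.singleFunctor (ModuleCat.{u} A) 0).obj (ModuleCat.of A A))) := by
          rcases lt_or_gt_of_ne hi with h | h
          · exact DerivedCategory.isZero_of_isGE _ 0 i h
          · exact DerivedCategory.isZero_of_isLE _ 0 i h
        haveI : Subsingleton (Dual.HD A (Dual.inD A A) i) := ModuleCat.subsingleton_of_isZero hz
        infer_instance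
    · constructor
      · intro a b hab
        have h1 : (DerivedCategory.singleFunctor (ModuleCat.{u} A) 0).map
            (a • 𝟙 (ModuleCat.of A A)) =
            (DerivedCategory.singleFunctor (ModuleCat.{u} A) 0).map
              (b • 𝟙 (ModuleCat.of A A)) := by
          rw [Functor.map_smul, Functor.map_smul, CategoryTheory.Functor.map_id]; exact hab
        have h2 := (DerivedCategory.singleFunctor (ModuleCat.{u} A) 0).map_injective h1
        have h3 := congrArg (fun f => f.hom (1 : A)) h2
        simpa using h3
      · intro f
        obtain ⟨g, rfl⟩ := (DerivedCategory.singleFunctor (ModuleCat.{u} A) 0).map_surjective f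
        refine ⟨g.hom (1 : A), ?_⟩
        show g.hom 1 • 𝟙 _ = _
        rw [← CategoryTheory.Functor.map_id, ← Functor.map_smul]
        congr 1
        ext
        simp
    · intro i hi
      rcases lt_or_gt_of_ne hi with h | h
      · exact hneg _ _ i h
      · obtain ⟨k, rfl⟩ := Int.eq_ofNat_of_zero_le h.le
        obtain ⟨k, rfl⟩ : ∃ k', k = k' + 1 := ⟨k - 1, by lia⟩
        refine (hext _ _ (k + 1)).1 ?_
        haveI : Projective (ModuleCat.of A A) :=
          ModuleCat.projective_of_categoryTheory_projective _
        exact subsingleton_of_forall_eq 0 (fun e => Abelian.Ext.eq_zero_of_projective e)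
  · intro hD
    obtain ⟨a, b, hab⟩ := hD.finite_injective_dimension
    refine { exists_hasInjectiveDimensionLT := ⟨(b + 1).toNat, HasInjectiveDimensionLT.mk ?_⟩ }
    intro i hi Y e
    have hs := hab Y (i : ℤ) (Or.inr (by lia))
    have hs' : Subsingleton (Abelian.Ext Y (ModuleCat.of A A) i) := (hext _ _ i).2 hs
    exact Subsingleton.elim _ _

end Groth.Agent.S11179
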