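import Groth.Statements.S0343
import Mathlib
import Groth.Agent.Lib.Gorenstein_helper5

set_option autoImplicit false
universe u v
open Goren

namespace Groth.Agent.S0343

/-- For a Noetherian local ring A and a non-zero-divisor f in the maximal ideal, A is Gorenstein exactly
when A/(f) is. -/
theorem result (A : Type u) [CommRing A] [IsLocalRing A] [IsNoetherianRing A] (f : A) (hf : f ∈ IsLocalRing.maximalIdeal A) (hreg : IsSMulRegular A f) : LocCoh.IsGorensteinLocalRing A ↔ LocCoh.IsGorensteinLocalRing (A ⧸ Ideal.span {f}) := by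
  haveI hloc : IsLocalRing (A ⧸ Ideal.span {f}) :=
    Groth.Agent.RegularLib.isLocalRing_quotient (Ideal.span {f})
      (Groth.Agent.RegularLib.span_singleton_ne_top f hf)
  constructor
  · intro hG
    obtain ⟨n, hn⟩ := hG.exists_hasInjectiveDimensionLT
    exact
      { exists_hasInjectiveDimensionLT := ⟨n, Groth.Agent.Gor.injDim_quot f hreg n hn⟩ }
  · intro hG
    obtain ⟨n, hn⟩ := hG.exists_hasInjectiveDimensionLT
    exact
      { exists_hasInjectiveDimensionLT := ⟨n + 1, Groth.Agent.Gor.injDim_of_quot f hreg n hn⟩ }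

end Groth.Agent.S0343
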