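import Groth.Statements.S0342
import Mathlib
import Groth.Agent.Lib.GlDim_helper5

set_option autoImplicit false
universe u v
open Goren

namespace Groth.Agent.S0342

/-- Regular local rings have finite injective dimension over themselves, i.e. are Gorenstein. -/
theorem result (A : Type u) [CommRing A] [IsRegularLocalRing A] : LocCoh.IsGorensteinLocalRing A := by
  obtain ⟨d, hd⟩ := Groth.Agent.GlDim.exists_dim A
  exact { exists_hasInjectiveDimensionLT :=
    ⟨d + 1, Groth.Agent.GlDim.hasInjectiveDimensionLT_of_regular A d hd (ModuleCat.of A A)⟩ }

end Groth.Agent.S0342
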