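import Groth.Statements.S1683
import Groth.Agent.Lib.Cart1_helper8

set_option autoImplicit false
universe u
open CategoryTheory CategoryTheory.Limits AlgebraicGeometry TopologicalSpace
open SDiv

namespace Groth.Agent.S1683

/-- Let 𝓘, 𝓙 be quasi-coherent ideal sheaves on X, b : X' ⟶ X a blowing-up along 𝓘 and b' : X'' ⟶ X' a
blowing-up along the inverse image ideal of 𝓙. Then b' ≫ b : X'' ⟶ X is a blowing-up of X along the
product ideal 𝓘𝓙. -/
theorem result {X X' X'' : Scheme.{u}} (𝓘 𝓙 : X.IdealSheafData) (b : X' ⟶ X) (hb : BlowUp.IsBlowUp b 𝓘)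
    (b' : X'' ⟶ X') (hb' : BlowUp.IsBlowUp b' (𝓙.comap b)) : BlowUp.IsBlowUp (b' ≫ b) (𝓘 * 𝓙) := by
  refine ⟨?_, ?_⟩
  · rw [Scheme.IdealSheafData.comap_comp, CartH8.comap_mul, CartH8.comap_mul]
    exact CartH8.isEffCartier_mul _ _
      (CartH8.isEffCartier_comap_of_isBlowUp b' (𝓙.comap b) hb' (𝓘.comap b) hb.1) hb'.1
  · intro Y g hg
    rw [CartH8.comap_mul] at hg
    have hI : BlowUp.IsEffCartierIdeal (𝓘.comap g) := CartH8.isEffCartier_of_mul _ _ hg
    have hJ : BlowUp.IsEffCartierIdeal (𝓙.comap g) := by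
      rw [mul_comm] at hg
      exact CartH8.isEffCartier_of_mul _ _ hg
    obtain ⟨h₁, hh₁, hu₁⟩ := hb.2 Y g hI
    have hJ' : BlowUp.IsEffCartierIdeal ((𝓙.comap b).comap h₁) := by
      rw [← Scheme.IdealSheafData.comap_comp, hh₁]
      exact hJ
    obtain ⟨h₂, hh₂, hu₂⟩ := hb'.2 Y h₁ hJ'
    refine ⟨h₂, ?_, ?_⟩
    · show h₂ ≫ b' ≫ b = g
      rw [← Category.assoc, hh₂, hh₁]
    · intro h hh
      have hh' : (h ≫ b') ≫ b = g := by rw [Category.assoc]; exact hh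
      exact hu₂ h (hu₁ _ hh')

end Groth.Agent.S1683
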