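import Groth.Statements.S1662
import Mathlib
import Groth.Agent.Lib.ComapIdeal_helper4
import Groth.Agent.Lib.CartierFlat4_helper9

set_option autoImplicit false
universe u
open CategoryTheory CategoryTheory.Limits AlgebraicGeometry
open Divisors

namespace Groth.Agent.S1662

/-- Let f : X → S, D an effective Cartier divisor on X such that D → S is flat, and g : S' → S any
morphism. Then the inverse image of D in X ×_S S' is an effective Cartier divisor. -/
theorem result {X S S' : Scheme.{u}} (f : X ⟶ S) (D : X.IdealSheafData) (hD : BlowUp.IsEffCartierIdeal D)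
    [Flat (D.subschemeι ≫ f)] (g : S' ⟶ S) :
    BlowUp.IsEffCartierIdeal (D.comap (pullback.fst f g)) := by
  intro z
  have hxs : f ((pullback.fst f g) z) = g ((pullback.snd f g) z) := by
    rw [← Scheme.Hom.comp_apply, ← Scheme.Hom.comp_apply, pullback.condition]
  obtain ⟨V, hxV, -⟩ := Groth.Agent.Lib.CartierFlat.exists_affine_le
    (f ((pullback.fst f g) z)) ⊤ trivial
  obtain ⟨U₁, hx₁, H₁⟩ := Groth.Agent.Lib.CartierFlat.exists_affine_principal D hD
    ((pullback.fst f g) z)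
  obtain ⟨W, hxW, hW⟩ := Groth.Agent.Lib.CartierFlat.exists_affine_le ((pullback.fst f g) z)
    (U₁.1 ⊓ f ⁻¹ᵁ V.1) ⟨hx₁, hxV⟩
  obtain ⟨h, hh, e₁⟩ := H₁ W (fun y hy => (hW hy).1)
  have hWV : W.1 ≤ f ⁻¹ᵁ V.1 := fun y hy => (hW hy).2
  obtain ⟨V', hsV', hV'V⟩ := Groth.Agent.Lib.CartierFlat.exists_affine_le ((pullback.snd f g) z)
    (g ⁻¹ᵁ V.1) (by change g _ ∈ V.1; rw [← hxs]; exact hxV)
  have HP : IsPullback (pullback.fst f g) (pullback.snd f g) f g := IsPullback.of_hasPullback f g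
  have hΩ : IsAffineOpen ((pullback.fst f g) ⁻¹ᵁ W.1 ⊓ (pullback.snd f g) ⁻¹ᵁ V'.1) := by
    haveI : IsAffine ↑V.1 := V.2
    haveI : IsAffine ↑V'.1 := V'.2
    haveI : IsAffine ↑W.1 := W.2
    exact .of_isIso (Scheme.Hom.isPullback_resLE HP hV'V hWV rfl).isoPullback.hom
  have hpush := (isIso_pushoutSection_iff HP hV'V hWV rfl).mp
    (isIso_pushoutSection_of_isAffineOpen HP hV'V hWV rfl V.2 V'.2 W.2)
  refine ⟨⟨_, hΩ⟩, ⟨hxW, hsV'⟩,
    ((pullback.fst f g).appLE W.1 ((pullback.fst f g) ⁻¹ᵁ W.1 ⊓ (pullback.snd f g) ⁻¹ᵁ V'.1)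
      inf_le_left).hom h, ?_, ?_⟩
  · have k := Groth.Agent.Lib.CartierFlat.flat_quot_of_flat D f inferInstance V W hWV
    rw [e₁] at k
    exact Groth.Agent.Lib.CartierFlat4.map_mem_nonZeroDivisors_of_isPushout _ _ _ _ hpush h hh k
  · rw [Groth.Agent.Lib.ComapIdeal_helper4.comap_ideal_eq (pullback.fst f g) D W ⟨_, hΩ⟩
      inf_le_left, e₁, Ideal.map_span, Set.image_singleton]

end Groth.Agent.S1662
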