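import Groth.Statements.S18735
import Groth.Agent.Lib.Cart5_helper8

set_option autoImplicit false
universe u
open CategoryTheory CategoryTheory.Limits AlgebraicGeometry TopologicalSpace
open ModPair

namespace Groth.Agent.S18735

/-- Let (S, I_S), (T, I_T), (X, I_X) be schemes equipped with quasi-coherent ideal sheaves of effective
Cartier divisors, g : T ⟶ S a morphism satisfying the modulus condition I_T ≤ I_S.comap g, and s : X
⟶ S an abstract admissible blow-up (I_X = I_S.comap s, s proper and an isomorphism over the open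
complement of the support of I_S). Let Y be the scheme-theoretic image in X ×_S T of the open
pr₁⁻¹(X°) ∩ pr₂⁻¹(T°), where X°, T° are the open complements of the supports of I_X, I_T, with
projections q : Y ⟶ T and r : Y ⟶ X. Then I_T.comap q is the ideal sheaf of an effective Cartier
divisor on Y, q is an abstract admissible blow-up from (Y, I_T.comap q) to (T, I_T), and r satisfies
the modulus condition from (Y, I_T.comap q) to (X, I_X). -/
theorem result {S T X : Scheme.{u}} (IS : S.IdealSheafData)
    (IT : T.IdealSheafData) (IX : X.IdealSheafData) (hS : BlowUp.IsEffCartierIdeal IS)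
    (hT : BlowUp.IsEffCartierIdeal IT) (hX : BlowUp.IsEffCartierIdeal IX)
    (g : T ⟶ S) (hg : ModPair.IsAmbient IT IS g) (s : X ⟶ S) (hs : ModPair.IsAdmBlowup IX IS s) :
    BlowUp.IsEffCartierIdeal (IT.comap (ModPair.mprodι s g IX IT ≫ pullback.snd s g)) ∧
      ModPair.IsAdmBlowup (IT.comap (ModPair.mprodι s g IX IT ≫ pullback.snd s g)) IT
        (ModPair.mprodι s g IX IT ≫ pullback.snd s g) ∧
      ModPair.IsAmbient (IT.comap (ModPair.mprodι s g IX IT ≫ pullback.snd s g)) IX
        (ModPair.mprodι s g IX IT ≫ pullback.fst s g) := by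
  obtain ⟨hmin, hprop, hiso⟩ := hs
  have hmin' : IX = IS.comap s := hmin
  have hg' : IT ≤ IS.comap g := hg
  haveI : IsAffineHom (ModPair.prodInterior s g IX IT).ι :=
    CartH8.isAffineHom_prodInterior_ι s g IX IT hX hT
  have hsupp : ∀ t : T, t ∉ IT.support → g t ∉ IS.support := by
    intro t ht hS
    exact ht (Scheme.IdealSheafData.support_antitone hg'
      ((CartH8.mem_support_comap_iff g IS t).mpr hS))
  refine ⟨?_, ⟨rfl, ?_, ?_⟩, ?_⟩
  · rw [Scheme.IdealSheafData.comap_comp]
    apply CartH8.isEffCartier_comap_imageι (ModPair.prodInterior s g IX IT)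
      (IT.comap (pullback.snd s g))
    · intro z
      obtain ⟨UT, htU, τ, -, hτ⟩ := hT (pullback.snd s g z)
      obtain ⟨_, ⟨U, hU : IsAffineOpen U, rfl⟩, hzU, hUle⟩ :=
        ((pullback s g).isBasis_affineOpens).exists_subset_of_mem_open
          (show z ∈ (((pullback.snd s g) ⁻¹ᵁ UT.1 : (pullback s g).Opens) : Set _) from htU)
          ((pullback.snd s g) ⁻¹ᵁ UT.1).2
      refine ⟨⟨U, hU⟩, hzU, ((pullback.snd s g).appLE UT.1 U hUle).hom τ, ?_⟩
      rw [ComapIdH8.comap_ideal _ IT ⟨U, hU⟩ UT hUle, hτ, Ideal.map_span, Set.image_singleton]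
    · intro z hz
      rw [CartH8.mem_support_comap_iff]
      exact hz.2
  · haveI := hprop
    infer_instance
  · rw [morphismRestrict_comp]
    have hA : IsIso (ModPair.mprodι s g IX IT ∣_ pullback.snd s g ⁻¹ᵁ ModPair.interior IT) := by
      apply CartH8.isIso_imageι_restrict
      intro z hz
      refine ⟨?_, hz⟩
      show pullback.fst s g z ∉ IX.support
      have h0 : IX.support = (IS.comap s).support := by rw [← hmin']
      rw [h0, CartH8.mem_support_comap_iff]
      have h1 : s (pullback.fst s g z) = g (pullback.snd s g z) := by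
        rw [← Scheme.Hom.comp_apply, ← Scheme.Hom.comp_apply, pullback.condition]
      rw [h1]
      exact hsupp _ hz
    haveI : IsIso (s ∣_ ModPair.interior IS) := hiso
    have hB : IsIso (pullback.snd s g ∣_ ModPair.interior IT) :=
      CartH8.isIso_snd_restrict s g (ModPair.interior IS) (ModPair.interior IT)
        (fun t ht => hsupp t ht)
    exact IsIso.comp_isIso' hA hB
  · show IT.comap _ ≤ IX.comap _
    have h0 : IX.comap (ModPair.mprodι s g IX IT ≫ pullback.fst s g) =
        IS.comap ((ModPair.mprodι s g IX IT ≫ pullback.fst s g) ≫ s) :=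
      (congrArg (fun K => K.comap (ModPair.mprodι s g IX IT ≫ pullback.fst s g)) hmin').trans
        (Scheme.IdealSheafData.comap_comp IS _ s).symm
    have h1 : (ModPair.mprodι s g IX IT ≫ pullback.fst s g) ≫ s =
        (ModPair.mprodι s g IX IT ≫ pullback.snd s g) ≫ g := by
      rw [Category.assoc, Category.assoc, pullback.condition]
    calc IT.comap (ModPair.mprodι s g IX IT ≫ pullback.snd s g)
        ≤ (IS.comap g).comap (ModPair.mprodι s g IX IT ≫ pullback.snd s g) :=
          Scheme.IdealSheafData.comap_mono _ hg'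
      _ = IS.comap ((ModPair.mprodι s g IX IT ≫ pullback.snd s g) ≫ g) :=
          (Scheme.IdealSheafData.comap_comp IS _ g).symm
      _ = IS.comap ((ModPair.mprodι s g IX IT ≫ pullback.fst s g) ≫ s) :=
          congrArg (fun φ => IS.comap φ) h1.symm
      _ = IX.comap (ModPair.mprodι s g IX IT ≫ pullback.fst s g) := h0.symm

end Groth.Agent.S18735
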