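import Groth.Statements.S18738
import Groth.Agent.Lib.Cart6_helper8
import Groth.Agent.S18735

set_option autoImplicit false
universe u
open CategoryTheory CategoryTheory.Limits AlgebraicGeometry TopologicalSpace
open ModPair

namespace Groth.Agent.S18738

/-- In the category of modulus pairs and ambient morphisms, the class Σ of abstract admissible blow-ups
(minimal, proper, an isomorphism over the interior of the target) admits a calculus of right
fractions: it contains the identities and is stable under composition; every pair X' ⟶ X ⟵ Y with X'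
⟶ X in Σ can be completed to a commutative square with a morphism Y' ⟶ Y in Σ; and two ambient
morphisms f, g : X ⟶ Y equalized by some Y ⟶ Z in Σ are equalized by some X' ⟶ X in Σ. -/
theorem result :
    (ModPair.Pair.admBlowup.{u}).HasRightCalculusOfFractions := by
  haveI : (ModPair.Pair.admBlowup.{u}).IsMultiplicative :=
    { id_mem := fun P => CartH8.isAdmBlowup_id P.mod
      comp_mem := fun f g hf hg => CartH8.isAdmBlowup_comp _ _ _ f.hom g.hom hf hg }
  refine { exists_rightFraction := ?_, ext := ?_ }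
  · intro X Y φ
    obtain ⟨h1, h2, h3⟩ := Groth.Agent.S18735.result φ.Y'.mod X.mod Y.mod φ.Y'.isEffCartier
      X.isEffCartier Y.isEffCartier φ.f.hom φ.f.cond φ.s.hom φ.hs
    let X' : ModPair.Pair.{u} :=
      ⟨ModPair.mprod φ.s.hom φ.f.hom Y.mod X.mod,
        X.mod.comap (ModPair.mprodι φ.s.hom φ.f.hom Y.mod X.mod ≫ pullback.snd φ.s.hom φ.f.hom), h1⟩
    let q : X' ⟶ X :=
      ⟨ModPair.mprodι φ.s.hom φ.f.hom Y.mod X.mod ≫ pullback.snd φ.s.hom φ.f.hom, le_refl _⟩
    let r : X' ⟶ Y :=
      ⟨ModPair.mprodι φ.s.hom φ.f.hom Y.mod X.mod ≫ pullback.fst φ.s.hom φ.f.hom, h3⟩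
    refine ⟨⟨q, h2, r⟩, ?_⟩
    apply ModPair.Pair.Hom.ext
    show (ModPair.mprodι φ.s.hom φ.f.hom Y.mod X.mod ≫ pullback.snd φ.s.hom φ.f.hom) ≫ φ.f.hom =
      (ModPair.mprodι φ.s.hom φ.f.hom Y.mod X.mod ≫ pullback.fst φ.s.hom φ.f.hom) ≫ φ.s.hom
    rw [Category.assoc, Category.assoc, pullback.condition]
  · intro X Y Y' f₁ f₂ s hs h
    refine ⟨X, 𝟙 X, CartH8.isAdmBlowup_id X.mod, ?_⟩
    have h1 : f₁ = f₂ := by
      apply ModPair.Pair.Hom.ext
      exact CartH8.eq_of_comp_admBlowup X.mod X.isEffCartier Y.mod Y'.mod f₁.hom f₂.hom f₁.cond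
        f₂.cond s.hom hs (congrArg ModPair.Pair.Hom.hom h)
    rw [h1]

end Groth.Agent.S18738
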