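import Groth.Statements.S18749
import Mathlib
import Groth.Agent.Lib.Cart9_helper8

set_option autoImplicit false
universe u
open CategoryTheory CategoryTheory.Limits AlgebraicGeometry TopologicalSpace
open ModPair

namespace Groth.Agent.S18749

/-- Let (S, I_S), (T, J), (X, I) be schemes with quasi-coherent ideal sheaves of effective Cartier
divisors and f : X ⟶ S, g : T ⟶ S morphisms satisfying the modulus condition. Let Y₀ be the
scheme-theoretic image of pr₁⁻¹(X°) ∩ pr₂⁻¹(T°) in X ×_S T, let π : Y ⟶ Y₀ be a blowing up of Y₀ in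
the sum of the two ideal sheaves I, J pulled back to Y₀ (the intersection of the two pulled-back
divisors), and let K be an ideal sheaf on Y whose product with the exceptional ideal is the product
of the pull-backs of I and J to Y. Then K is the ideal sheaf of an effective Cartier divisor (the
divisor D_X + D_T − E), the projections Y ⟶ X and Y ⟶ T satisfy the modulus condition with respect
to K, and the interior of (Y, K) is the preimage of pr₁⁻¹(X°) ∩ pr₂⁻¹(T°). -/
theorem result {S T X Y : Scheme.{u}} (IS : S.IdealSheafData)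
    (J : T.IdealSheafData) (I : X.IdealSheafData) (hS : BlowUp.IsEffCartierIdeal IS)
    (hT : BlowUp.IsEffCartierIdeal J) (hX : BlowUp.IsEffCartierIdeal I)
    (f : X ⟶ S) (hf : ModPair.IsAmbient I IS f) (g : T ⟶ S) (hg : ModPair.IsAmbient J IS g)
    (π : Y ⟶ ModPair.mprod f g I J) (K : Y.IdealSheafData) (hY : ModPair.IsAmbProd f g I J π K) :
    BlowUp.IsEffCartierIdeal K ∧
      ModPair.IsAmbient K I (π ≫ ModPair.mprodι f g I J ≫ pullback.fst f g) ∧
      ModPair.IsAmbient K J (π ≫ ModPair.mprodι f g I J ≫ pullback.snd f g) ∧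
      ModPair.interior K = (π ≫ ModPair.mprodι f g I J) ⁻¹ᵁ ModPair.prodInterior f g I J := by
  haveI : IsAffineHom (ModPair.prodInterior f g I J).ι :=
    CartH8.isAffineHom_prodInterior_ι f g I J hX hT
  -- the two pulled-back moduli on the ambient product `mprod`
  have hDX₀ : BlowUp.IsEffCartierIdeal
      (I.comap (ModPair.mprodι f g I J ≫ pullback.fst f g)) := by
    rw [Scheme.IdealSheafData.comap_comp]
    apply CartH8.isEffCartier_comap_imageι (ModPair.prodInterior f g I J)
      (I.comap (pullback.fst f g))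
    · intro z
      obtain ⟨UX, hxU, τ, -, hτ⟩ := hX (pullback.fst f g z)
      obtain ⟨_, ⟨U, hU : IsAffineOpen U, rfl⟩, hzU, hUle⟩ :=
        ((pullback f g).isBasis_affineOpens).exists_subset_of_mem_open
          (show z ∈ (((pullback.fst f g) ⁻¹ᵁ UX.1 : (pullback f g).Opens) : Set _) from hxU)
          ((pullback.fst f g) ⁻¹ᵁ UX.1).2
      refine ⟨⟨U, hU⟩, hzU, ((pullback.fst f g).appLE UX.1 U hUle).hom τ, ?_⟩
      rw [ComapIdH8.comap_ideal _ I ⟨U, hU⟩ UX hUle, hτ, Ideal.map_span, Set.image_singleton]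
    · intro z hz
      rw [CartH8.mem_support_comap_iff]
      exact hz.1
  have hDT₀ : BlowUp.IsEffCartierIdeal
      (J.comap (ModPair.mprodι f g I J ≫ pullback.snd f g)) := by
    rw [Scheme.IdealSheafData.comap_comp]
    apply CartH8.isEffCartier_comap_imageι (ModPair.prodInterior f g I J)
      (J.comap (pullback.snd f g))
    · intro z
      obtain ⟨UT, htU, τ, -, hτ⟩ := hT (pullback.snd f g z)
      obtain ⟨_, ⟨U, hU : IsAffineOpen U, rfl⟩, hzU, hUle⟩ :=
        ((pullback f g).isBasis_affineOpens).exists_subset_of_mem_open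
          (show z ∈ (((pullback.snd f g) ⁻¹ᵁ UT.1 : (pullback f g).Opens) : Set _) from htU)
          ((pullback.snd f g) ⁻¹ᵁ UT.1).2
      refine ⟨⟨U, hU⟩, hzU, ((pullback.snd f g).appLE UT.1 U hUle).hom τ, ?_⟩
      rw [ComapIdH8.comap_ideal _ J ⟨U, hU⟩ UT hUle, hτ, Ideal.map_span, Set.image_singleton]
    · intro z hz
      rw [CartH8.mem_support_comap_iff]
      exact hz.2
  obtain ⟨hblow, hKE⟩ := hY
  -- the divisors on `Y`
  obtain ⟨DX, hDXdef⟩ : ∃ DX : Y.IdealSheafData,
      DX = (I.comap (ModPair.mprodι f g I J ≫ pullback.fst f g)).comap π := ⟨_, rfl⟩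
  obtain ⟨DT, hDTdef⟩ : ∃ DT : Y.IdealSheafData,
      DT = (J.comap (ModPair.mprodι f g I J ≫ pullback.snd f g)).comap π := ⟨_, rfl⟩
  obtain ⟨E, hEdef⟩ : ∃ E : Y.IdealSheafData,
      E = (ModPair.prodCentre f g I J).comap π := ⟨_, rfl⟩
  have hDX : BlowUp.IsEffCartierIdeal DX := by
    rw [hDXdef]
    exact CartH8.isEffCartier_comap_of_isBlowUp π _ hblow _ hDX₀
  have hDT : BlowUp.IsEffCartierIdeal DT := by
    rw [hDTdef]
    exact CartH8.isEffCartier_comap_of_isBlowUp π _ hblow _ hDT₀
  have hE : BlowUp.IsEffCartierIdeal E := by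
    rw [hEdef]
    exact hblow.1
  have hKE' : K * E = DX * DT := by
    rw [hEdef, hDXdef, hDTdef]
    exact hKE
  have hEsup : E = DX ⊔ DT := by
    rw [hEdef, hDXdef, hDTdef]
    unfold ModPair.prodCentre
    exact Scheme.IdealSheafData.comap_sup _ _ _
  have hDXc : I.comap (π ≫ ModPair.mprodι f g I J ≫ pullback.fst f g) = DX := by
    rw [hDXdef, Scheme.IdealSheafData.comap_comp]
  have hDTc : J.comap (π ≫ ModPair.mprodι f g I J ≫ pullback.snd f g) = DT := by
    rw [hDTdef, Scheme.IdealSheafData.comap_comp]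
  have hKX : K ≤ DX := by
    apply CartH8.le_of_mul_le_mul_cartier K DX E hE
    rw [hKE']
    exact mul_le_mul_right (hEsup ▸ le_sup_right) DX
  have hKT : K ≤ DT := by
    apply CartH8.le_of_mul_le_mul_cartier K DT E hE
    rw [hKE', mul_comm DX DT]
    exact mul_le_mul_right (hEsup ▸ le_sup_left) DT
  refine ⟨?_, ?_, ?_, ?_⟩
  · exact CartH8.isEffCartier_of_mul K E (hKE' ▸ CartH8.isEffCartier_mul DX DT hDX hDT)
  · change K ≤ _
    rw [hDXc]
    exact hKX
  · change K ≤ _
    rw [hDTc]
    exact hKT
  · ext y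
    change y ∉ K.support ↔ _
    have h1 : y ∈ K.support ↔ y ∈ DX.support ∨ y ∈ DT.support := by
      constructor
      · intro hy
        have h2 : y ∈ (K * E).support := by
          rw [Scheme.IdealSheafData.support_mul]
          exact Or.inl hy
        rw [hKE', Scheme.IdealSheafData.support_mul] at h2
        exact h2
      · rintro (hy | hy)
        · exact Scheme.IdealSheafData.support_antitone hKX hy
        · exact Scheme.IdealSheafData.support_antitone hKT hy
    rw [h1, ← hDXc, ← hDTc, CartH8.mem_support_comap_iff, CartH8.mem_support_comap_iff]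
    constructor
    · intro hy
      push Not at hy
      exact ⟨hy.1, hy.2⟩
    · rintro ⟨h3, h4⟩ (h5 | h5)
      · exact h3 h5
      · exact h4 h5

end Groth.Agent.S18749
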