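import Groth.Statements.S12289
import Mathlib

set_option autoImplicit false
universe u w m
open scoped TensorProduct
open DefT

namespace Groth.Agent.S12289

open TensorProduct

section CotTAux
variable {A : Type u} {B : Type u} {ι : Type w} {σ : Type w} [CommRing A] [CommRing B] [Algebra A B]
  (P : Algebra.Presentation A B ι σ)

lemma toCot_surjective : Function.Surjective (CotT.toCot P) := by
  intro x
  obtain ⟨y, rfl⟩ := Algebra.Extension.Cotangent.mk_surjective x
  have hy : (y : P.toExtension.Ring) ∈ LinearMap.range (CotT.jmap P) := by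
    rw [CotT.range_jmap]; exact y.2
  obtain ⟨f, hf⟩ := hy
  refine ⟨(1 : B) ⊗ₜ f, ?_⟩
  rw [CotT.toCot_tmul, one_smul]
  congr 1
  exact Subtype.ext hf

lemma exists_one_tmul (x : CotT.L1 P) : ∃ f : CotT.relMod P, (1 : B) ⊗ₜ[P.toExtension.Ring] f = x := by
  induction x using TensorProduct.induction_on with
  | zero => exact ⟨0, by simp⟩
  | tmul b f =>
    obtain ⟨r, rfl⟩ := P.toExtension.algebraMap_surjective b
    refine ⟨r • f, ?_⟩
    rw [TensorProduct.tmul_smul, TensorProduct.smul_tmul', Algebra.smul_def, mul_one]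
  | add x y hx hy =>
    obtain ⟨f, rfl⟩ := hx
    obtain ⟨g, rfl⟩ := hy
    exact ⟨f + g, TensorProduct.tmul_add _ _ _⟩

lemma ker_toCot_le_range_d2 : LinearMap.ker (CotT.toCot P) ≤ LinearMap.range (CotT.d2 P) := by
  intro x hx
  obtain ⟨f, rfl⟩ := exists_one_tmul P x
  rw [LinearMap.mem_ker, CotT.toCot_tmul, one_smul, Algebra.Extension.Cotangent.mk_eq_zero_iff] at hx
  have hI2 : CotT.jmap P f ∈ P.toExtension.ker ^ 2 := hx
  have hmap : (P.toExtension.ker • (⊤ : Submodule P.toExtension.Ring (CotT.relMod P))).map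
      (CotT.jmap P) = P.toExtension.ker ^ 2 := by
    rw [Submodule.map_smul'', Submodule.map_top, CotT.range_jmap, pow_two]; rfl
  rw [← hmap] at hI2
  obtain ⟨g, hg, hgf⟩ := hI2
  have hg0 : (1 : B) ⊗ₜ[P.toExtension.Ring] g = 0 := by
    refine Submodule.smul_induction_on hg ?_ ?_
    · intro a ha h _
      rw [TensorProduct.tmul_smul, TensorProduct.smul_tmul', Algebra.smul_def, mul_one]
      have h0 : algebraMap P.toExtension.Ring B a = 0 := ha
      rw [h0, TensorProduct.zero_tmul]
    · intro x y hx hy
      rw [TensorProduct.tmul_add, hx, hy, add_zero]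
  have hq : f - g ∈ CotT.relKer P := by
    show CotT.jmap P (f - g) = 0
    rw [map_sub, hgf, sub_self]
  refine ⟨Submodule.Quotient.mk ((1 : B) ⊗ₜ ⟨f - g, hq⟩), ?_⟩
  rw [CotT.d2_mk_tmul]
  show (1 : B) ⊗ₜ[P.toExtension.Ring] (f - g) = 1 ⊗ₜ f
  rw [TensorProduct.tmul_sub, hg0, sub_zero]

end CotTAux



/-- Let k be a commutative ring and B a k-algebra presented as R/I with R = k[x_i] a polynomial ring
(any set of variables) and chosen generators of I, and let M be a B-module; T^0(B/k, M) and T^1(B/k,
M) are computed from this presentation. Then the sequence 0 → T^0(B/k, M) → Hom_B(Ω_{R/k} ⊗_R B, M)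
→ Hom_B(I/I², M) → T^1(B/k, M) → 0 is exact, where the middle map is composition with the conormal
map d : I/I² → Ω_{R/k} ⊗_R B and the last map sends φ to the class of φ ∘ (F/IF → I/I²): the
submodule T^0(B/k, M) of Hom_B(Ω_{R/k} ⊗ B, M) is the kernel of composition with d, the kernel of
Hom_B(I/I², M) → T^1(B/k, M) is the image of composition with d, and Hom_B(I/I², M) → T^1(B/k, M) is
surjective. (The published statement takes finitely many variables over a field and adds that the
same holds over any base ring; this row allows any base ring and any set of variables.) -/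
theorem result
    (k B : Type u) [CommRing k] [CommRing B] [Algebra k B] (ι σ : Type w) (P : Algebra.Presentation k B ι σ)
    (M : Type m) [AddCommGroup M] [Module B M] :
    LinearMap.ker (CotT.d1Star P M) = LinearMap.ker (LinearMap.lcomp B M P.toExtension.cotangentComplex) ∧
    LinearMap.ker (CotT.homToT1 P M) = LinearMap.range (LinearMap.lcomp B M P.toExtension.cotangentComplex) ∧
    Function.Surjective (CotT.homToT1 P M) := by
  refine ⟨?_, ?_, ?_⟩
  · ext φ
    simp only [LinearMap.mem_ker, CotT.d1Star_apply, LinearMap.lcomp_apply']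
    constructor
    · intro h
      apply LinearMap.ext
      intro x
      obtain ⟨y, rfl⟩ := toCot_surjective P x
      exact LinearMap.congr_fun h y
    · intro h
      rw [CotT.d1, ← LinearMap.comp_assoc, h, LinearMap.zero_comp]
  · ext φ
    rw [LinearMap.mem_ker, LinearMap.mem_range]
    have hiff : CotT.homToT1 P M φ = 0 ↔
        ∃ ψ : CotT.L0 P →ₗ[B] M, ψ ∘ₗ CotT.d1 P = φ ∘ₗ CotT.toCot P := by
      unfold CotT.homToT1
      rw [LinearMap.comp_apply, Submodule.mkQ_apply, Submodule.Quotient.mk_eq_zero]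
      simp only [Submodule.mem_comap, Submodule.subtype_apply, LinearMap.mem_range,
        CotT.d1Star_apply, LinearMap.codRestrict_apply, LinearMap.lcomp_apply']
    rw [hiff]
    constructor
    · rintro ⟨ψ, hψ⟩
      refine ⟨ψ, ?_⟩
      rw [LinearMap.lcomp_apply']
      apply LinearMap.ext
      intro x
      obtain ⟨y, rfl⟩ := toCot_surjective P x
      exact LinearMap.congr_fun hψ y
    · rintro ⟨ψ, rfl⟩
      refine ⟨ψ, ?_⟩
      rw [LinearMap.lcomp_apply', CotT.d1, LinearMap.comp_assoc]
  · intro t
    obtain ⟨c, rfl⟩ := Submodule.Quotient.mk_surjective _ t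
    have hc : (c : CotT.L1 P →ₗ[B] M) ∘ₗ CotT.d2 P = 0 := c.2
    have hker : LinearMap.ker (CotT.toCot P) ≤ LinearMap.ker (c : CotT.L1 P →ₗ[B] M) := by
      intro x hx
      obtain ⟨z, rfl⟩ := ker_toCot_le_range_d2 P hx
      exact LinearMap.congr_fun hc z
    have hφ : ∃ φ : P.toExtension.Cotangent →ₗ[B] M, φ ∘ₗ CotT.toCot P = (c : CotT.L1 P →ₗ[B] M) := by
      refine ⟨(LinearMap.ker (CotT.toCot P)).liftQ (c : CotT.L1 P →ₗ[B] M) hker ∘ₗ
        ((CotT.toCot P).quotKerEquivOfSurjective (toCot_surjective P)).symm.toLinearMap, ?_⟩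
      apply LinearMap.ext
      intro y
      have h1 : ((CotT.toCot P).quotKerEquivOfSurjective (toCot_surjective P)).symm
          (CotT.toCot P y) = Submodule.Quotient.mk y := by
        rw [LinearEquiv.symm_apply_eq]; rfl
      simp only [LinearMap.comp_apply, LinearEquiv.coe_coe]
      rw [h1, Submodule.liftQ_apply]
    obtain ⟨φ, hφ⟩ := hφ
    refine ⟨φ, ?_⟩
    unfold CotT.homToT1
    rw [LinearMap.comp_apply, Submodule.mkQ_apply]
    congr 1
    apply Subtype.ext
    exact hφ

end Groth.Agent.S12289
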