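import Groth.Statements.S14950
import Mathlib

set_option autoImplicit false
universe u
open TensorProduct
open EtAlg

namespace Groth.Agent.S14950

/-- Let B' = B ×_A A' be a fibre product of commutative rings with A' → A surjective, let J be the
kernel of B' → B and L' a B'-module. The canonical map from L' to pairs in (B ⊗_{B'} L') × (A'
⊗_{B'} L') has kernel annihilated by J and contained in J L': if l ∈ L' satisfies 1 ⊗ l = 0 in B
⊗_{B'} L' and 1 ⊗ l = 0 in A' ⊗_{B'} L', then j • l = 0 for every j ∈ J, and l ∈ J L'. (Surjectivity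
of that map onto the compatible pairs is a separate result.) -/
theorem result (B' B A' A : Type u) [CommRing B'] [CommRing B] [CommRing A'] [CommRing A]
    [Algebra B' B] [Algebra B' A'] [Algebra B A] [Algebra A' A] [Algebra B' A] [IsScalarTower B' B A] [IsScalarTower B' A' A]
    (hsq : EtMil.IsFibreSquare B' B A' A)
    (L' : Type u) [AddCommGroup L'] [Module B' L'] (l : L')
    (h1 : ((1 : B) ⊗ₜ[B'] l : B ⊗[B'] L') = 0) (h2 : ((1 : A') ⊗ₜ[B'] l : A' ⊗[B'] L') = 0) :
    (∀ j : B', algebraMap B' B j = 0 → j • l = 0) ∧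
      l ∈ (RingHom.ker (algebraMap B' B)) • (⊤ : Submodule B' L') := by
  classical
  obtain ⟨hsurj, hfib⟩ := hsq
  have hcompat : ∀ c : B', algebraMap B A (algebraMap B' B c) =
      algebraMap A' A (algebraMap B' A' c) := by
    intro c
    rw [← IsScalarTower.algebraMap_apply B' B A, ← IsScalarTower.algebraMap_apply B' A' A]
  have huniq : ∀ c c' : B', algebraMap B' B c = algebraMap B' B c' →
      algebraMap B' A' c = algebraMap B' A' c' → c = c' := by
    intro c c' h1 h2
    obtain ⟨d, _, hd⟩ := hfib (algebraMap B' B c) (algebraMap B' A' c) (hcompat c)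
    rw [hd c ⟨rfl, rfl⟩, hd c' ⟨h1.symm, h2.symm⟩]
  have hfsurj : Function.Surjective (algebraMap B' B) := by
    intro b
    obtain ⟨a', ha'⟩ := hsurj (algebraMap B A b)
    obtain ⟨c, ⟨hc, _⟩, _⟩ := hfib b a' ha'.symm
    exact ⟨c, hc⟩
  constructor
  · intro j hj
    have hex : ∀ a' : A', ∃ c : B', algebraMap B' B c = 0 ∧
        algebraMap B' A' c = a' * algebraMap B' A' j := by
      intro a'
      have : algebraMap B A 0 = algebraMap A' A (a' * algebraMap B' A' j) := by
        rw [map_zero, map_mul, ← hcompat j, hj, map_zero, mul_zero]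
      obtain ⟨c, hc, _⟩ := hfib 0 _ this
      exact ⟨c, hc⟩
    choose act hact using hex
    let α : A' →ₗ[B'] B' :=
      { toFun := act
        map_add' := by
          intro x y
          apply huniq
          · rw [map_add, (hact x).1, (hact y).1, (hact (x+y)).1, add_zero]
          · rw [map_add, (hact x).2, (hact y).2, (hact (x+y)).2, add_mul]
        map_smul' := by
          intro r x
          apply huniq
          · rw [RingHom.id_apply, smul_eq_mul, map_mul, (hact x).1, (hact (r • x)).1, mul_zero]
          · rw [RingHom.id_apply, smul_eq_mul, map_mul, (hact x).2, (hact (r • x)).2,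
              Algebra.smul_def, mul_assoc] }
    have hα1 : α 1 = j := by
      apply huniq
      · show algebraMap B' B (act 1) = _
        rw [(hact 1).1, hj]
      · show algebraMap B' A' (act 1) = _
        rw [(hact 1).2, one_mul]
    have key := congrArg (TensorProduct.lift ((LinearMap.lsmul B' L').comp α)) h2
    rw [TensorProduct.lift.tmul, map_zero] at key
    simpa [hα1] using key
  · let φ : B' →ₐ[B'] B := Algebra.ofId B' B
    have hφ : Function.Surjective φ := hfsurj
    have hJ : RingHom.ker φ = RingHom.ker (algebraMap B' B) := by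
      ext x; simp [RingHom.mem_ker, φ, Algebra.ofId_apply]
    let e := Ideal.quotientKerAlgEquivOfSurjective hφ
    let T : B ⊗[B'] L' ≃ₗ[B'] (B' ⧸ RingHom.ker φ) ⊗[B'] L' :=
      TensorProduct.congr e.symm.toLinearEquiv (LinearEquiv.refl B' L')
    let Q := TensorProduct.quotTensorEquivQuotSMul L' (RingHom.ker φ)
    have h3 : Q (T ((1 : B) ⊗ₜ[B'] l)) = 0 := by rw [h1, map_zero, map_zero]
    have h4 : Q (T ((1 : B) ⊗ₜ[B'] l)) = Submodule.Quotient.mk l := by
      simp only [T, TensorProduct.congr_tmul, AlgEquiv.toLinearEquiv_apply, map_one,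
        LinearEquiv.refl_apply]
      have : ((1 : B' ⧸ RingHom.ker φ) ⊗ₜ[B'] l) =
          (Ideal.Quotient.mk (RingHom.ker φ) 1) ⊗ₜ[B'] l := by rw [map_one]
      rw [this, TensorProduct.quotTensorEquivQuotSMul_mk_tmul, one_smul]
    rw [h4, Submodule.Quotient.mk_eq_zero, hJ] at h3
    exact h3

end Groth.Agent.S14950
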