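import Groth.Statements.S14953
import Mathlib
import Groth.Agent.S14949

set_option autoImplicit false
universe u
open TensorProduct
open EtAlg

namespace Groth.Agent.S14953

/-- Let B' = B ×_A A' be a fibre product of commutative rings with A' → A surjective and L' a B'-module.
If B ⊗_{B'} L' is a finitely generated B-module and A' ⊗_{B'} L' is a finitely generated A'-module,
then L' is a finitely generated B'-module. (The published statement is about flat modules of finite
type; the finiteness conclusion does not use flatness, which descends separately.) -/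
theorem result (B' B A' A : Type u) [CommRing B'] [CommRing B] [CommRing A'] [CommRing A]
    [Algebra B' B] [Algebra B' A'] [Algebra B A] [Algebra A' A] [Algebra B' A] [IsScalarTower B' B A] [IsScalarTower B' A' A]
    (hsq : EtMil.IsFibreSquare B' B A' A)
    (L' : Type u) [AddCommGroup L'] [Module B' L']
    [Module.Finite B (B ⊗[B'] L')] [Module.Finite A' (A' ⊗[B'] L')] : Module.Finite B' L' := by
  classical
  have gen : ∀ (C : Type u) [CommRing C] [Algebra B' C] [Module.Finite C (C ⊗[B'] L')],
      ∃ t : Finset L', ∀ N : Submodule B' L', (↑t : Set L') ⊆ N →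
        Subsingleton (C ⊗[B'] (L' ⧸ N)) := by
    intro C _ _ _
    have hC : (⊤ : Submodule C (C ⊗[B'] L')) =
        Submodule.span C (Set.range fun l : L' => (1 : C) ⊗ₜ[B'] l) := by
      symm
      rw [eq_top_iff]
      intro z hz0
      clear hz0
      induction z using TensorProduct.induction_on with
      | zero => exact Submodule.zero_mem _
      | tmul b l =>
        have : b ⊗ₜ[B'] l = b • ((1 : C) ⊗ₜ[B'] l) := by
          rw [TensorProduct.smul_tmul', smul_eq_mul, mul_one]
        rw [this]
        exact Submodule.smul_mem _ _ (Submodule.subset_span ⟨l, rfl⟩)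
      | add x y hx hy => exact Submodule.add_mem _ hx hy
    have hfg : (Submodule.span C (Set.range fun l : L' => (1 : C) ⊗ₜ[B'] l)).FG := by
      rw [← hC]; exact Module.Finite.fg_top
    obtain ⟨s₁, hs₁sub, hs₁⟩ := (Submodule.fg_span_iff_fg_span_finset_subset _).mp hfg
    rw [← Set.image_univ] at hs₁sub
    obtain ⟨t₁, _, ht₁⟩ := Finset.subset_set_image_iff.mp hs₁sub
    refine ⟨t₁, fun N hN => ?_⟩
    have hsurj : Function.Surjective (LinearMap.baseChange C N.mkQ) := by
      rw [LinearMap.baseChange_eq_ltensor]
      exact LinearMap.lTensor_surjective C N.mkQ_surjective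
    have hz : ∀ z : C ⊗[B'] (L' ⧸ N), z = 0 := by
      intro z
      obtain ⟨w, rfl⟩ := hsurj z
      have hw : w ∈ Submodule.span C (Set.range fun l : L' => (1 : C) ⊗ₜ[B'] l) := by
        rw [← hC]; exact Submodule.mem_top
      rw [hs₁, ← ht₁] at hw
      induction hw using Submodule.span_induction with
      | mem x hx =>
        rw [Finset.coe_image] at hx
        obtain ⟨l, hl, rfl⟩ := hx
        rw [LinearMap.baseChange_tmul]
        have : N.mkQ l = 0 := (Submodule.Quotient.mk_eq_zero N).mpr (hN hl)
        rw [this, TensorProduct.tmul_zero]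
      | zero => exact map_zero _
      | add a b _ _ ha hb => rw [map_add, ha, hb, add_zero]
      | smul r a _ ha => rw [map_smul, ha, smul_zero]
    exact ⟨fun x y => by rw [hz x, hz y]⟩
  obtain ⟨t₁, ht₁⟩ := gen B
  obtain ⟨t₂, ht₂⟩ := gen A'
  let N : Submodule B' L' := Submodule.span B' ((t₁ ∪ t₂ : Finset L') : Set L')
  haveI : Subsingleton (B ⊗[B'] (L' ⧸ N)) := ht₁ N (by
    intro x hx
    exact Submodule.subset_span (by simp [Finset.mem_coe.mp hx]))
  haveI : Subsingleton (A' ⊗[B'] (L' ⧸ N)) := ht₂ N (by
    intro x hx
    exact Submodule.subset_span (by simp [Finset.mem_coe.mp hx]))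
  have hQ : Subsingleton (L' ⧸ N) := Groth.Agent.S14949.result B' B A' A hsq (L' ⧸ N)
  have hN : N = ⊤ := Submodule.Quotient.subsingleton_iff.mp hQ
  exact ⟨⟨t₁ ∪ t₂, hN⟩⟩

end Groth.Agent.S14953
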