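import Groth.Statements.S12286
import Mathlib
import Groth.Agent.S12289

set_option autoImplicit false
universe u w m
open scoped TensorProduct
open DefT

namespace Groth.Agent.S12286

/-- Let A → B be a ring homomorphism, P a presentation of B over A and M a B-module. The canonical
B-linear map from the A-derivations Der_A(B, M) = Hom_B(Ω_{B/A}, M) to T^0(B/A, M) (the kernel of
Hom_B(L₀, M) → Hom_B(L₁, M), L₀ = B ⊗_R Ω_{R/A}), sending a derivation D to b ⊗ dr ↦ b·D(r̄), is
bijective. -/
theorem result
    (A B : Type u) [CommRing A] [CommRing B] [Algebra A B] (ι σ : Type w) (P : Algebra.Presentation A B ι σ)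
    (M : Type m) [AddCommGroup M] [Module B M] [Module A M] [IsScalarTower A B M] :
    Function.Bijective (CotT.derToT0 P M) := by
  constructor
  · rw [injective_iff_map_eq_zero]
    intro D hD
    have h0 : CotT.derLift P M D = 0 := congrArg Subtype.val hD
    ext b
    obtain ⟨r, rfl⟩ := P.toExtension.algebraMap_surjective b
    have h1 := LinearMap.congr_fun h0 ((1 : B) ⊗ₜ KaehlerDifferential.D A P.toExtension.Ring r)
    rw [CotT.derLift_tmul_D, one_smul] at h1
    simpa using h1
  · intro φ
    have hφ2 : (φ : CotT.L0 P →ₗ[B] M) ∈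
        LinearMap.ker (LinearMap.lcomp B M P.toExtension.cotangentComplex) := by
      rw [← (S12289.result A B ι σ P M).1]; exact φ.2
    have h1 : (φ : CotT.L0 P →ₗ[B] M) ∘ₗ P.toExtension.cotangentComplex = 0 := hφ2
    have hexact := P.toExtension.exact_cotangentComplex_toKaehler
    have hsurj := P.toExtension.toKaehler_surjective
    have hker : LinearMap.ker P.toExtension.toKaehler ≤ LinearMap.ker (φ : CotT.L0 P →ₗ[B] M) := by
      intro x hx
      obtain ⟨y, rfl⟩ := (hexact x).mp hx
      exact LinearMap.congr_fun h1 y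
    obtain ⟨ψ, hψ⟩ : ∃ ψ : Ω[B⁄A] →ₗ[B] M,
        ψ ∘ₗ P.toExtension.toKaehler = (φ : CotT.L0 P →ₗ[B] M) := by
      refine ⟨(LinearMap.ker P.toExtension.toKaehler).liftQ _ hker ∘ₗ
        (P.toExtension.toKaehler.quotKerEquivOfSurjective hsurj).symm.toLinearMap, ?_⟩
      apply LinearMap.ext
      intro y
      have h2 : (P.toExtension.toKaehler.quotKerEquivOfSurjective hsurj).symm
          (P.toExtension.toKaehler y) = Submodule.Quotient.mk y := by
        rw [LinearEquiv.symm_apply_eq]; rfl
      simp only [LinearMap.comp_apply, LinearEquiv.coe_coe]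
      rw [h2, Submodule.liftQ_apply]
    refine ⟨ψ.compDer (KaehlerDifferential.D A B), ?_⟩
    apply Subtype.ext
    show CotT.derLift P M (ψ.compDer (KaehlerDifferential.D A B)) = (φ : CotT.L0 P →ₗ[B] M)
    rw [← hψ]
    refine P.cotangentSpaceBasis.ext fun i => ?_
    rw [CotT.derLift_basis, LinearMap.comp_apply, Algebra.Generators.toKaehler_cotangentSpaceBasis]
    rfl

end Groth.Agent.S12286
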