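import Groth.Statements.S12708


set_option autoImplicit false
universe u v
open CategoryTheory
open ArtFun

namespace Groth.Agent.S12708

theorem aux {Λ : Type u} {k : Type u} [CommRing Λ] [Field k] [Algebra Λ k]
    (A : Type u) [CommRing A] [Algebra Λ A] [IsLocalRing A] [Algebra A k] [IsScalarTower Λ A k]
    (hres : Function.Surjective (algebraMap A k))
    (M : Type v) [AddCommGroup M] [Module A M] (h : IsFiniteLength A M) :
    ∀ [Module Λ M] [IsScalarTower Λ A M],
      Module.length Λ k * Module.length A M = Module.length Λ M := by
  induction h with
  | @of_subsingleton M' _ _ _ =>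
    intro _ _
    have h1 : Module.length A M' = 0 := Module.length_eq_zero
    have h2 : Module.length Λ M' = 0 := Module.length_eq_zero
    rw [h1, h2, mul_zero]
  | @of_simple_quotient M _ _ N _ hN ih =>
    intro _ _
    have ihN := @ih _ _
    -- the simple quotient is `k`
    obtain ⟨I, hI, ⟨e₁⟩⟩ := isSimpleModule_iff_quot_maximal.mp (inferInstance : IsSimpleModule A (M ⧸ N))
    have hker : (RingHom.ker (Algebra.ofId A k)).IsMaximal :=
      RingHom.ker_isMaximal_of_surjective (Algebra.ofId A k) hres
    have hIeq : I = RingHom.ker (Algebra.ofId A k) := by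
      rw [IsLocalRing.eq_maximalIdeal hI, IsLocalRing.eq_maximalIdeal hker]
    subst hIeq
    let e₂ : (A ⧸ RingHom.ker (Algebra.ofId A k)) ≃ₗ[A] k :=
      (Ideal.quotientKerAlgEquivOfSurjective (f := Algebra.ofId A k) hres).toLinearEquiv
    let e : (M ⧸ N) ≃ₗ[A] k := e₁ ≪≫ₗ e₂
    have hq : Module.length Λ (M ⧸ N) = Module.length Λ k :=
      (e.restrictScalars Λ).length_eq
    have hA : Module.length A M = Module.length A N + Module.length A (M ⧸ N) :=
      Module.length_eq_add_of_exact N.subtype N.mkQ N.injective_subtype N.mkQ_surjective
        (LinearMap.exact_subtype_mkQ N)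
    have hΛ : Module.length Λ M = Module.length Λ N + Module.length Λ (M ⧸ N) :=
      Module.length_eq_add_of_exact (N.subtype.restrictScalars Λ) (N.mkQ.restrictScalars Λ)
        N.injective_subtype N.mkQ_surjective (LinearMap.exact_subtype_mkQ N)
    have h1 : Module.length A (M ⧸ N) = 1 := Module.length_eq_one _ _
    rw [hA, hΛ, mul_add, ihN, hq, h1, mul_one]


/-- For Λ Noetherian with a finite map to a field k, A a local Λ-algebra whose residue field is k
(through a surjective Λ-algebra map A → k) and M an A-module, the length of M over Λ equals the
degree of k over the image of Λ times the length of M over A. The degree is written as the length of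
k as a Λ-module, which is the same number; lengths are in ℕ∞. -/
theorem result {Λ : Type u} {k : Type u} [CommRing Λ] [Field k] [Algebra Λ k]
    [IsNoetherianRing Λ] [Module.Finite Λ k]
    (A : Type u) [CommRing A] [Algebra Λ A] [IsLocalRing A] [Algebra A k] [IsScalarTower Λ A k]
    (hres : Function.Surjective (algebraMap A k))
    (M : Type v) [AddCommGroup M] [Module A M] [Module Λ M] [IsScalarTower Λ A M] :
    Module.length Λ k * Module.length A M = Module.length Λ M := by
  by_cases hfin : IsFiniteLength A M
  · exact aux A hres M hfin
  · have h1 : Module.length A M = ⊤ := by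
      rwa [← Module.length_ne_top_iff, ne_eq, not_not] at hfin
    have h2 : Module.length Λ M = ⊤ := by
      have h3 := Submodule.length_le_length_restrictScalars Λ (⊤ : Submodule A M)
      rw [Module.length_top, h1, Submodule.restrictScalars_top, Module.length_top] at h3
      exact top_le_iff.mp h3
    have h4 : Module.length Λ k ≠ 0 := by
      rw [ne_eq, Module.length_eq_zero_iff]
      exact not_subsingleton k
    rw [h1, h2, ENat.mul_top h4]

end Groth.Agent.S12708
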