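import Groth.Statements.S12707
import Mathlib.Tactic
import Mathlib.RingTheory.HopkinsLevitzki
import Groth.Agent.Lib.ArtFun_helper1

set_option autoImplicit false
universe u v
open CategoryTheory
open ArtFun ArtFun.Art

namespace Groth.Agent.S12707

variable {Λ : Type u} {k : Type u} [CommRing Λ] [Field k] [Algebra Λ k]

theorem ker_le_maximalIdeal {A B : Art Λ k} (f : B ⟶ A) :
    RingHom.ker f.toAlgHom ≤ IsLocalRing.maximalIdeal B := by
  intro x hx
  rw [mem_maximalIdeal_iff, ← res_app f]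
  have : f.toAlgHom x = 0 := hx
  show A.res (f.toAlgHom x) = 0
  rw [this, map_zero]

/-- A bijective morphism of `Art Λ k` is an isomorphism. -/
theorem isIso_of_bijective {A B : Art Λ k} (f : B ⟶ A) (h : Function.Bijective f) : IsIso f := by
  let e : B ≃ₐ[Λ] A := AlgEquiv.ofBijective f.toAlgHom h
  have hres : B.res.comp (e.symm : A →ₐ[Λ] B) = A.res := by
    apply AlgHom.ext
    intro a
    obtain ⟨b, rfl⟩ := h.2 a
    show B.res (e.symm (e b)) = A.res (f b)
    rw [e.symm_apply_apply, res_app]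
  refine ⟨⟨homMk (e.symm : A →ₐ[Λ] B) hres, ?_, ?_⟩⟩
  · apply hom_ext
    apply AlgHom.ext
    intro b
    show e.symm (e b) = b
    exact e.symm_apply_apply b
  · apply hom_ext
    apply AlgHom.ext
    intro a
    show e (e.symm a) = a
    exact e.apply_symm_apply a

theorem quotFactor_quotMk_apply {C D : Art Λ k} {K : Ideal C} (hK : K ≤ IsLocalRing.maximalIdeal C) (p : C ⟶ D)
    (hp : K ≤ RingHom.ker p.toAlgHom) (c : C) :
    quotFactor hK p hp (quotMk C K hK c) = p c := rfl

theorem quotMk_eq_zero_iff (C : Art Λ k) (K : Ideal C) (hK : K ≤ IsLocalRing.maximalIdeal C) (c : C) :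
    quotMk C K hK c = 0 ↔ c ∈ K := by
  show Ideal.Quotient.mk K c = 0 ↔ c ∈ K
  exact Ideal.Quotient.eq_zero_iff_mem

theorem quotMk_mem_maximalIdeal_iff (C : Art Λ k) (K : Ideal C) (hK : K ≤ IsLocalRing.maximalIdeal C)
    (c : C) : quotMk C K hK c ∈ IsLocalRing.maximalIdeal (quot C K hK) ↔
      c ∈ IsLocalRing.maximalIdeal C := by
  rw [mem_maximalIdeal_iff, mem_maximalIdeal_iff, res_app]

theorem quotMk_map_add (C : Art Λ k) (K : Ideal C) (hK : K ≤ IsLocalRing.maximalIdeal C) (a b : C) :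
    quotMk C K hK (a + b) = quotMk C K hK a + quotMk C K hK b := map_add (quotMk C K hK).toAlgHom a b

theorem quotMk_map_mul (C : Art Λ k) (K : Ideal C) (hK : K ≤ IsLocalRing.maximalIdeal C) (a b : C) :
    quotMk C K hK (a * b) = quotMk C K hK a * quotMk C K hK b := map_mul (quotMk C K hK).toAlgHom a b

theorem quotMk_map_sub (C : Art Λ k) (K : Ideal C) (hK : K ≤ IsLocalRing.maximalIdeal C) (a b : C) :
    quotMk C K hK (a - b) = quotMk C K hK a - quotMk C K hK b := map_sub (quotMk C K hK).toAlgHom a b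

/-- Adding one element `t` killed by the maximal ideal modulo `J₀` gives a small extension. -/
theorem isSmallExt_quot_step (B : Art Λ k) (J₀ J₁ : Ideal B) (h₀ : J₀ ≤ IsLocalRing.maximalIdeal B)
    (h₁ : J₁ ≤ IsLocalRing.maximalIdeal B) (t : B) (ht : t ∉ J₀) (hJ : J₁ = J₀ ⊔ Ideal.span {t})
    (hmt : ∀ x ∈ IsLocalRing.maximalIdeal B, x * t ∈ J₀)
    (hle : J₀ ≤ RingHom.ker (quotMk B J₁ h₁).toAlgHom) :
    IsSmallExt (quotFactor h₀ (quotMk B J₁ h₁) hle) := by
  set π := quotFactor h₀ (quotMk B J₁ h₁) hle with hπ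
  have hker : RingHom.ker π.toAlgHom = Ideal.span {quotMk B J₀ h₀ t} := by
    ext x
    obtain ⟨b, rfl⟩ := quotMk_surjective B J₀ h₀ x
    rw [RingHom.mem_ker]
    show π (quotMk B J₀ h₀ b) = 0 ↔ _
    rw [hπ, quotFactor_quotMk_apply, quotMk_eq_zero_iff, hJ, Submodule.mem_sup,
      Ideal.mem_span_singleton']
    constructor
    · rintro ⟨j, hj, s, hs, hb⟩
      obtain ⟨c, rfl⟩ := Ideal.mem_span_singleton'.1 hs
      refine ⟨quotMk B J₀ h₀ c, ?_⟩
      rw [← hb, quotMk_map_add, quotMk_map_mul, (quotMk_eq_zero_iff B J₀ h₀ j).2 hj, zero_add]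
    · rintro ⟨c, hc⟩
      obtain ⟨c, rfl⟩ := quotMk_surjective B J₀ h₀ c
      rw [← quotMk_map_mul, ← sub_eq_zero, ← quotMk_map_sub, quotMk_eq_zero_iff] at hc
      refine ⟨b - c * t, ?_, c * t, Ideal.mem_span_singleton'.2 ⟨c, rfl⟩, by ring⟩
      have := J₀.neg_mem hc
      rwa [neg_sub] at this
  refine ⟨?_, ?_, ?_, ?_⟩
  · intro y
    obtain ⟨b, rfl⟩ := quotMk_surjective B J₁ h₁ y
    exact ⟨quotMk B J₀ h₀ b, rfl⟩
  · rw [hker]
    intro h
    rw [Ideal.span_singleton_eq_bot, quotMk_eq_zero_iff] at h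
    exact ht h
  · rw [hker]
    exact ⟨⟨_, rfl⟩⟩
  · rw [hker, eq_bot_iff, Ideal.mul_le]
    intro r hr s hs
    obtain ⟨c, rfl⟩ := Ideal.mem_span_singleton'.1 hs
    obtain ⟨x, rfl⟩ := quotMk_surjective B J₀ h₀ r
    rw [quotMk_mem_maximalIdeal_iff] at hr
    have : quotMk B J₀ h₀ x * quotMk B J₀ h₀ t = 0 := by
      rw [← quotMk_map_mul, quotMk_eq_zero_iff]
      exact hmt x hr
    rw [Ideal.mem_bot, mul_left_comm, this, mul_zero]


/-- In the category of Artinian local Λ-algebras with residue field k (Λ Noetherian, Λ → k finite),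
every surjective morphism is a composite of small extensions. Stated as the equivalent induction
principle: a property of morphisms that holds for isomorphisms and for small extensions and is
stable under composition holds for every surjective morphism. -/
theorem result {Λ : Type u} {k : Type u} [CommRing Λ] [Field k] [Algebra Λ k]
    [IsNoetherianRing Λ] [Module.Finite Λ k]
    (P : ∀ ⦃A B : ArtFun.Art Λ k⦄, (B ⟶ A) → Prop)
    (hiso : ∀ ⦃A B : ArtFun.Art Λ k⦄ (e : B ⟶ A), IsIso e → P e)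
    (hsmall : ∀ ⦃A B : ArtFun.Art Λ k⦄ (p : B ⟶ A), ArtFun.Art.IsSmallExt p → P p)
    (hcomp : ∀ ⦃A B C : ArtFun.Art Λ k⦄ (p : C ⟶ B) (q : B ⟶ A), P p → P q → P (p ≫ q))
    ⦃A B : ArtFun.Art Λ k⦄ (f : B ⟶ A) (hf : Function.Surjective f) : P f := by
  set J := RingHom.ker f.toAlgHom with hJdef
  have hJm : J ≤ IsLocalRing.maximalIdeal B := ker_le_maximalIdeal f
  -- nilpotency of the maximal ideal
  obtain ⟨N, hN⟩ : ∃ N : ℕ, IsLocalRing.maximalIdeal B ^ N = ⊥ := by
    have h1 := IsArtinianRing.isNilpotent_jacobson_bot (R := B)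
    rw [IsLocalRing.jacobson_eq_maximalIdeal ⊥ bot_ne_top] at h1
    exact h1
  have main : ∀ J₀ : Ideal B, ∀ h₀ : J₀ ≤ J, P (quotFactor (h₀.trans hJm) f h₀) := by
    intro J₀
    induction J₀ using WellFoundedGT.induction with
    | ind J₀ ih =>
      intro h₀
      by_cases hJ₀ : J₀ = J
      · -- bijective
        apply hiso
        apply isIso_of_bijective
        constructor
        · intro x y hxy
          obtain ⟨a, rfl⟩ := quotMk_surjective B J₀ (h₀.trans hJm) x
          obtain ⟨b, rfl⟩ := quotMk_surjective B J₀ (h₀.trans hJm) y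
          rw [quotFactor_quotMk_apply, quotFactor_quotMk_apply] at hxy
          rw [← sub_eq_zero, ← quotMk_map_sub, quotMk_eq_zero_iff, hJ₀, hJdef, RingHom.mem_ker,
            map_sub]
          exact sub_eq_zero.mpr hxy
        · intro a
          obtain ⟨b, rfl⟩ := hf a
          exact ⟨quotMk B J₀ (h₀.trans hJm) b, rfl⟩
      · -- find t
        have hlt : ¬ J ≤ J₀ := fun h => hJ₀ (le_antisymm h₀ h)
        have hex : ∃ n : ℕ, IsLocalRing.maximalIdeal B ^ n * J ≤ J₀ :=
          ⟨N, by rw [hN, Ideal.bot_mul]; exact bot_le⟩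
        classical
        have hn0 : Nat.find hex ≠ 0 := by
          intro h0
          have := Nat.find_spec hex
          rw [h0, pow_zero, Ideal.one_eq_top, Ideal.top_mul] at this
          exact hlt this
        obtain ⟨n, hn⟩ := Nat.exists_eq_succ_of_ne_zero hn0
        have hnot : ¬ IsLocalRing.maximalIdeal B ^ n * J ≤ J₀ :=
          Nat.find_min hex (by rw [hn]; exact Nat.lt_succ_self n)
        obtain ⟨t, htm, htJ₀⟩ := SetLike.not_le_iff_exists.1 hnot
        have htJ : t ∈ J := Ideal.mul_le_right htm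
        have hmt : ∀ x ∈ IsLocalRing.maximalIdeal B, x * t ∈ J₀ := by
          intro x hx
          have h1 : x * t ∈ IsLocalRing.maximalIdeal B * (IsLocalRing.maximalIdeal B ^ n * J) :=
            Ideal.mul_mem_mul hx htm
          rw [← mul_assoc, ← pow_succ'] at h1
          have h2 := Nat.find_spec hex
          rw [hn] at h2
          exact h2 h1
        set J₁ := J₀ ⊔ Ideal.span {t} with hJ₁
        have h₁ : J₁ ≤ J := sup_le h₀ ((Ideal.span_singleton_le_iff_mem _).2 htJ)
        have hlt₁ : J₀ < J₁ := by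
          refine lt_of_le_of_ne le_sup_left ?_
          intro h
          apply htJ₀
          rw [h]
          exact Ideal.mem_sup_right (Ideal.mem_span_singleton_self t)
        have hle : J₀ ≤ RingHom.ker (quotMk B J₁ (h₁.trans hJm)).toAlgHom := by
          intro x hx
          rw [RingHom.mem_ker]
          exact (quotMk_eq_zero_iff B J₁ (h₁.trans hJm) x).2 (le_sup_left (a := J₀) hx)
        have hsm := isSmallExt_quot_step B J₀ J₁ (h₀.trans hJm) (h₁.trans hJm) t htJ₀ hJ₁ hmt hle
        have hfac : quotFactor (h₀.trans hJm) (quotMk B J₁ (h₁.trans hJm)) hle ≫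
            quotFactor (h₁.trans hJm) f h₁ = quotFactor (h₀.trans hJm) f h₀ := by
          apply hom_ext
          apply AlgHom.ext
          intro x
          obtain ⟨b, rfl⟩ := quotMk_surjective B J₀ (h₀.trans hJm) x
          rfl
        rw [← hfac]
        exact hcomp _ _ (hsmall _ hsm) (ih J₁ hlt₁ h₁)
  have h0 := main ⊥ bot_le
  have hfac : quotMk B ⊥ ((bot_le : (⊥ : Ideal B) ≤ J).trans hJm) ≫
      quotFactor ((bot_le : (⊥ : Ideal B) ≤ J).trans hJm) f bot_le = f := quotMk_quotFactor _ f _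
  rw [← hfac]
  refine hcomp _ _ (hiso _ ?_) h0
  apply isIso_of_bijective
  constructor
  · intro x y hxy
    have : quotMk B ⊥ ((bot_le : (⊥ : Ideal B) ≤ J).trans hJm) (x - y) = 0 := by
      rw [quotMk_map_sub]; exact sub_eq_zero.mpr hxy
    rw [quotMk_eq_zero_iff, Ideal.mem_bot] at this
    exact sub_eq_zero.mp this
  · exact quotMk_surjective B ⊥ _

end Groth.Agent.S12707
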