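import Groth.Statements.S12714
import Groth.Agent.Lib.LocalSurj_helper1
import Groth.Agent.Lib.ArtFunFormal_helper1
import Mathlib.RingTheory.Nakayama

set_option autoImplicit false
universe u v
open CategoryTheory
open ArtFun ArtFun.CRing

namespace Groth.Agent.S12714

/-- For a morphism f : R → S of complete local Noetherian Λ-algebras with residue field k (compatible
with the augmentations to k), the following are equivalent: (1) f is surjective; (2) m_R/m_R² →
m_S/m_S² is surjective, written as f(m_R)S + m_S² = m_S; (3) the map of cotangent spaces relative to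
Λ is surjective, written as m_Λ S + f(m_R)S + m_S² = m_S with m_Λ the kernel of Λ → k. -/
theorem result {Λ : Type u} {k : Type u} [CommRing Λ] [Field k] [Algebra Λ k]
    [IsNoetherianRing Λ] [Module.Finite Λ k]
    (R S : ArtFun.CRing Λ k) (f : R.carrier →ₐ[Λ] S.carrier) (hf : S.res.comp f = R.res) :
    List.TFAE [Function.Surjective f,
      Ideal.map f (IsLocalRing.maximalIdeal R.carrier) ⊔ IsLocalRing.maximalIdeal S.carrier ^ 2 =
        IsLocalRing.maximalIdeal S.carrier,
      Ideal.map (algebraMap Λ S.carrier) (RingHom.ker (algebraMap Λ k)) ⊔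
        Ideal.map f (IsLocalRing.maximalIdeal R.carrier) ⊔ IsLocalRing.maximalIdeal S.carrier ^ 2 =
        IsLocalRing.maximalIdeal S.carrier] := by
  open Groth.Agent.Lib.ArtFunH1 ArtFun.Art in
  have hres : ∀ r : R.carrier, S.res (f r) = R.res r := fun r => AlgHom.congr_fun hf r
  have hloc : Ideal.map f (IsLocalRing.maximalIdeal R.carrier) ≤ IsLocalRing.maximalIdeal S.carrier := by
    rw [Ideal.map_le_iff_le_comap]
    intro a ha
    rw [Ideal.mem_comap, ArtFun.CRing.mem_maximalIdeal_iff, hres]
    exact (ArtFun.CRing.mem_maximalIdeal_iff R a).1 ha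
  have hsq : IsLocalRing.maximalIdeal S.carrier ^ 2 ≤ IsLocalRing.maximalIdeal S.carrier :=
    Ideal.pow_le_self two_ne_zero
  have hΛ : Ideal.map (algebraMap Λ S.carrier) (RingHom.ker (algebraMap Λ k)) ≤
      Ideal.map f (IsLocalRing.maximalIdeal R.carrier) := by
    rw [Ideal.map_le_iff_le_comap]
    intro c hc
    rw [Ideal.mem_comap]
    have : algebraMap Λ S.carrier c = f (algebraMap Λ R.carrier c) := (f.commutes c).symm
    rw [this]
    apply Ideal.mem_map_of_mem
    rw [ArtFun.CRing.mem_maximalIdeal_iff, AlgHom.commutes]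
    exact hc
  tfae_have 1 → 2 := by
    intro hs
    apply le_antisymm (sup_le hloc hsq)
    refine le_trans ?_ le_sup_left
    intro b hb
    obtain ⟨a, rfl⟩ := hs b
    apply Ideal.mem_map_of_mem
    rw [ArtFun.CRing.mem_maximalIdeal_iff, ← hres]
    exact (ArtFun.CRing.mem_maximalIdeal_iff S _).1 hb
  tfae_have 2 → 3 := by
    intro h2
    apply le_antisymm (sup_le (sup_le (hΛ.trans hloc) hloc) hsq)
    refine le_trans (le_of_eq h2.symm) ?_
    exact sup_le (le_sup_of_le_left le_sup_right) le_sup_right
  tfae_have 3 → 1 := by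
    intro h3
    have h2 : IsLocalRing.maximalIdeal S.carrier ≤ Ideal.map f (IsLocalRing.maximalIdeal R.carrier) ⊔
        IsLocalRing.maximalIdeal S.carrier • IsLocalRing.maximalIdeal S.carrier := by
      rw [smul_eq_mul, ← pow_two]
      conv_lhs => rw [← h3]
      exact sup_le (sup_le (le_sup_of_le_left hΛ) le_sup_left) le_sup_right
    have hfg : (IsLocalRing.maximalIdeal S.carrier).FG := IsNoetherian.noetherian _
    have hmap : Ideal.map (f : R.carrier →+* S.carrier) (IsLocalRing.maximalIdeal R.carrier) =
        IsLocalRing.maximalIdeal S.carrier :=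
      le_antisymm hloc (Submodule.le_of_le_smul_of_le_jacobson_bot hfg
        (IsLocalRing.maximalIdeal_le_jacobson ⊥) h2)
    have : IsPrecomplete (IsLocalRing.maximalIdeal R.carrier) R.carrier :=
      R.isAdicComplete.toIsPrecomplete
    have : IsHausdorff (IsLocalRing.maximalIdeal S.carrier) S.carrier :=
      S.isAdicComplete.toIsHausdorff
    apply Groth.Agent.Lib.LocalSurjH1.surjective_of_complete (f : R.carrier →+* S.carrier)
      (IsLocalRing.maximalIdeal R.carrier) (IsLocalRing.maximalIdeal S.carrier) hmap
    intro b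
    obtain ⟨a, ha⟩ := R.res_surjective (S.res b)
    refine ⟨a, ?_⟩
    rw [ArtFun.CRing.mem_maximalIdeal_iff, map_sub]
    show S.res b - S.res (f a) = 0
    rw [hres, ha, sub_self]
  tfae_finish

end Groth.Agent.S12714
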