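import Groth.Statements.S12731
import Mathlib
import Groth.Agent.Lib.ArtFunTan_helper1
import Groth.Agent.Lib.ArtFunFib_helper1

set_option autoImplicit false
universe u v
open CategoryTheory
open ArtFun

namespace Groth.Agent.S12731

open Groth.Agent.Lib.ArtFunH1

section Aux
variable {Λ : Type u} {k : Type u} [CommRing Λ] [Field k] [Algebra Λ k]

theorem add_eq' {F : ArtFun.Art Λ k ⥤ Type v} [TangentStr F] (x y : TangentSpace F)
    (z : F.obj (Art.dual2 Λ k)) (hx : x = F.map Art.pr₁ z) (hy : y = F.map Art.pr₂ z) :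
    x + y = F.map Art.plus z := by
  subst hx hy
  exact TangentStr.add_eq z

variable {R : Type u} [CommRing R] [Algebra Λ R] {resR : R →ₐ[Λ] k}

/-- the derivation part of a tangent vector -/
def dpart (φ : HomSet R resR (Art.dual Λ k)) (r : R) : k := dsnd (φ.1 r)

theorem dfst_hom (φ : HomSet R resR (Art.dual Λ k)) (r : R) : dfst (φ.1 r) = resR r := by
  rw [dfst_eq_res]
  exact AlgHom.congr_fun φ.2 r

theorem dpart_add (φ : HomSet R resR (Art.dual Λ k)) (a b : R) :
    dpart φ (a + b) = dpart φ a + dpart φ b := by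
  unfold dpart
  rw [map_add, dsnd_add]

theorem dpart_zero (φ : HomSet R resR (Art.dual Λ k)) : dpart φ 0 = 0 := by
  unfold dpart
  rw [map_zero]
  rfl

theorem dpart_mul (φ : HomSet R resR (Art.dual Λ k)) (a b : R) :
    dpart φ (a * b) = resR a * dpart φ b + resR b * dpart φ a := by
  unfold dpart
  rw [map_mul, dsnd_mul, dfst_hom, dfst_hom]

theorem dpart_smul (φ : HomSet R resR (Art.dual Λ k)) (c : Λ) (a : R) :
    dpart φ (c • a) = algebraMap Λ k c * dpart φ a := by
  unfold dpart
  rw [Algebra.smul_def, map_mul, AlgHom.commutes, dsnd_mul, dsnd_algebraMap, dfst_algebraMap,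
    mul_zero, add_zero]

def dpartHom (φ : HomSet R resR (Art.dual Λ k)) : R →+ k where
  toFun := dpart φ
  map_zero' := dpart_zero φ
  map_add' := dpart_add φ

theorem dpart_sum (φ : HomSet R resR (Art.dual Λ k)) {n : ℕ} (f : Fin n → R) :
    dpart φ (∑ i, f i) = ∑ i, dpart φ (f i) :=
  map_sum (dpartHom φ) f Finset.univ

end Aux

section Aux2
variable {Λ : Type u} {k : Type u} [CommRing Λ] [Field k] [Algebra Λ k]

theorem dpart_eq_zero_of_mem_sq (R : CRing Λ k) (φ : HomSet R.carrier R.res (Art.dual Λ k))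
    {a : R.carrier} (ha : a ∈ CRing.mpow R 1) : dpart φ a = 0 := by
  let K : Ideal R.carrier :=
    { carrier := {a | R.res a = 0 ∧ dpart φ a = 0}
      add_mem' := by
        intro x y hx hy
        refine ⟨by rw [map_add, hx.1, hy.1, add_zero], by rw [dpart_add, hx.2, hy.2, add_zero]⟩
      zero_mem' := ⟨map_zero _, dpart_zero φ⟩
      smul_mem' := by
        intro c x hx
        refine ⟨by rw [smul_eq_mul, map_mul, hx.1, mul_zero], ?_⟩
        rw [smul_eq_mul, dpart_mul, hx.1, hx.2, mul_zero, zero_mul, add_zero] }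
  have hle : IsLocalRing.maximalIdeal R.carrier * IsLocalRing.maximalIdeal R.carrier ≤ K := by
    rw [Ideal.mul_le]
    intro x hx y hy
    have hx0 := (CRing.mem_maximalIdeal_iff R x).1 hx
    have hy0 := (CRing.mem_maximalIdeal_iff R y).1 hy
    refine ⟨by rw [map_mul, hx0, zero_mul], ?_⟩
    rw [dpart_mul, hx0, hy0, zero_mul, zero_mul, add_zero]
  have ha' : a ∈ IsLocalRing.maximalIdeal R.carrier * IsLocalRing.maximalIdeal R.carrier := by
    have h1 : a ∈ IsLocalRing.maximalIdeal R.carrier ^ (1 + 1) := ha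
    rwa [pow_succ, pow_one] at h1
  exact (hle ha').2

theorem dpart_ext (R : CRing Λ k) (n : ℕ) (g : Fin n → R.carrier)
    (hg : ∀ r : R.carrier, ∃ c : Fin n → Λ, r - ∑ i, c i • g i ∈ CRing.mpow R 1)
    (φ φ' : HomSet R.carrier R.res (Art.dual Λ k)) (h : ∀ i, dpart φ (g i) = dpart φ' (g i)) :
    φ = φ' := by
  have hd : ∀ r, dpart φ r = dpart φ' r := by
    intro r
    obtain ⟨c, hc⟩ := hg r
    have e1 : ∀ ψ : HomSet R.carrier R.res (Art.dual Λ k),
        dpart ψ r = ∑ i, algebraMap Λ k (c i) * dpart ψ (g i) := by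
      intro ψ
      have e : r = (r - ∑ i, c i • g i) + ∑ i, c i • g i := by ring
      calc dpart ψ r = dpart ψ ((r - ∑ i, c i • g i) + ∑ i, c i • g i) := by rw [← e]
        _ = ∑ i, algebraMap Λ k (c i) * dpart ψ (g i) := by
          rw [dpart_add, dpart_eq_zero_of_mem_sq R ψ hc, zero_add, dpart_sum]
          exact Finset.sum_congr rfl (fun i _ => dpart_smul ψ (c i) (g i))
    rw [e1 φ, e1 φ']
    exact Finset.sum_congr rfl (fun i _ => by rw [h i])
  apply Subtype.ext
  apply AlgHom.ext
  intro r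
  apply dual_ext
  · rw [dfst_hom, dfst_hom]
  · exact hd r

theorem exists_gens [IsNoetherianRing Λ] [Module.Finite Λ k] (R : CRing Λ k) :
    ∃ (n : ℕ) (g : Fin n → R.carrier), ∀ r : R.carrier, ∃ c : Fin n → Λ,
      r - ∑ i, c i • g i ∈ CRing.mpow R 1 := by
  have hfl := isFiniteLength_art (R.trunc 1)
  have hN : IsNoetherian Λ (R.trunc 1) := (isFiniteLength_iff_isNoetherian_isArtinian.mp hfl).1
  have hfin : Module.Finite Λ (R.trunc 1) := inferInstance
  obtain ⟨n, s, hs⟩ := Module.Finite.exists_fin (R := Λ) (M := R.trunc 1)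
  choose g hg using fun i => Ideal.Quotient.mk_surjective (I := CRing.mpow R 1) (s i)
  refine ⟨n, g, fun r => ?_⟩
  have hr : ∀ x : (R.trunc 1).carrier, ∃ c : Fin n → Λ, ∑ i, c i • s i = x := by
    intro x
    have hx : x ∈ Submodule.span Λ (Set.range s) := by rw [hs]; trivial
    exact (Submodule.mem_span_range_iff_exists_fun Λ).1 hx
  obtain ⟨c, hc⟩ := hr (Ideal.Quotient.mk (CRing.mpow R 1) r)
  refine ⟨c, ?_⟩
  rw [← Ideal.Quotient.eq]
  have h2 : (Ideal.Quotient.mkₐ Λ (CRing.mpow R 1)) (∑ i, c i • g i) = ∑ i, c i • s i := by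
    rw [map_sum]
    refine Finset.sum_congr rfl (fun i _ => ?_)
    rw [map_smul]
    congr 1
    exact hg i
  exact hc.symm.trans h2.symm

end Aux2


/-- For functors, if a functor F on Artinian local Λ-algebras with residue field k with F(k) a point has
a versal family over a complete local Noetherian ring with residue field k which is bijective on
tangent spaces (a hull), then F satisfies (S1) and (S2) and has finite-dimensional tangent space. -/
theorem result {Λ : Type u} {k : Type u} [CommRing Λ] [Field k] [Algebra Λ k]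
    [IsNoetherianRing Λ] [Module.Finite Λ k]
    (F : ArtFun.Art Λ k ⥤ Type v) [ArtFun.TangentStr F] (h0 : ArtFun.H0 F) (h : ArtFun.HasHull F) :
    ArtFun.S1 F ∧ ArtFun.Heps F ∧ ArtFun.Hfin F := by
  classical
  obtain ⟨⟨R, ξ, hmini⟩⟩ := h
  have hsurj : ∀ A : Art Λ k, Function.Surjective (ξ.app A) := by
    intro A y
    obtain ⟨ψ, -, hψ⟩ := hmini.1 (Art.toBase A) A.res_surjective
      ⟨R.res, AlgHom.id_comp _⟩ y (h0.2.elim _ _)
    exact ⟨ψ, hψ⟩
  refine ⟨s1_of_isVersal_of_surjective ξ hmini.1 hsurj,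
    heps_of_isMiniversal_of_surjective ξ hmini hsurj, ?_⟩
  obtain ⟨n, g, hg⟩ := exists_gens R
  let e : HomSet R.carrier R.res (Art.dual Λ k) ≃ TangentSpace F :=
    Equiv.ofBijective (ξ.app (Art.dual Λ k)) hmini.2
  have he : ∀ φ, e φ = ξ.app (Art.dual Λ k) φ := fun _ => rfl
  have hadd : ∀ (x y : TangentSpace F) (r : R.carrier),
      dpart (e.symm (x + y)) r = dpart (e.symm x) r + dpart (e.symm y) r := by
    intro x y r
    obtain ⟨ψ, h1, h2⟩ := HomSet.exists_lift_fibreProd (Art.isFibreProd_dual2 (Λ := Λ) (k := k))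
      (e.symm x) (e.symm y) (homSet_base_eq _ _)
    have hx : x = F.map Art.pr₁ (ξ.app _ ψ) := by
      rw [← ξ.natural, h1, ← he]
      exact (e.apply_symm_apply x).symm
    have hy : y = F.map Art.pr₂ (ξ.app _ ψ) := by
      rw [← ξ.natural, h2, ← he]
      exact (e.apply_symm_apply y).symm
    have hsum : e.symm (x + y) = HomSet.map Art.plus ψ := by
      rw [Equiv.symm_apply_eq, he, ξ.natural]
      exact add_eq' x y _ hx hy
    rw [hsum, ← h1, ← h2]
    rfl
  have hsmul : ∀ (c : k) (x : TangentSpace F) (r : R.carrier),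
      dpart (e.symm (c • x)) r = c * dpart (e.symm x) r := by
    intro c x r
    have hs : e.symm (c • x) = HomSet.map (Art.scale c) (e.symm x) := by
      rw [Equiv.symm_apply_eq, he, ξ.natural, ← he, e.apply_symm_apply]
      exact TangentStr.smul_eq c x
    rw [hs]
    rfl
  let Ψ : TangentSpace F →ₗ[k] (Fin n → k) :=
    { toFun := fun x i => dpart (e.symm x) (g i)
      map_add' := fun x y => funext fun i => hadd x y (g i)
      map_smul' := fun c x => funext fun i => hsmul c x (g i) }
  have hinj : Function.Injective Ψ := by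
    intro x y hxy
    have h1 : ∀ i, dpart (e.symm x) (g i) = dpart (e.symm y) (g i) := fun i => congrFun hxy i
    exact e.symm.injective (dpart_ext R n g hg _ _ h1)
  exact Module.Finite.of_injective Ψ hinj

end Groth.Agent.S12731
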