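import Groth.Statements.S12711
import Mathlib.Tactic
import Groth.Agent.Lib.ArtFun_helper1

set_option autoImplicit false
universe u v
open CategoryTheory
open ArtFun ArtFun.Art

namespace Groth.Agent.S12711

/-- If B together with p₁ : B → A₁ and p₂ : B → A₂ is the fibre product A₁ ×_A A₂ in the category of
Artinian local Λ-algebras with residue field k, and f₂ : A₂ → A is a small extension, then the
projection p₁ : B → A₁ is a small extension. -/
theorem result {Λ : Type u} {k : Type u} [CommRing Λ] [Field k] [Algebra Λ k]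
    [IsNoetherianRing Λ] [Module.Finite Λ k]
    {B A A₁ A₂ : ArtFun.Art Λ k} {p₁ : B ⟶ A₁} {p₂ : B ⟶ A₂} {f₁ : A₁ ⟶ A} {f₂ : A₂ ⟶ A}
    (h : ArtFun.Art.IsFibreProd p₁ p₂ f₁ f₂) (hf₂ : ArtFun.Art.IsSmallExt f₂) :
    ArtFun.Art.IsSmallExt p₁ := by
  obtain ⟨hsurj, hne, hprin, hkill⟩ := hf₂
  -- generator of ker f₂
  obtain ⟨t, ht⟩ := hprin
  have htker : t ∈ RingHom.ker f₂.toAlgHom := by rw [ht]; exact Submodule.mem_span_singleton_self t
  have ht0 : t ≠ 0 := by
    intro h0
    apply hne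
    rw [ht, h0]
    exact Submodule.span_zero_singleton _
  have hft : f₂ t = 0 := htker
  -- element b₀ ∈ B with p₁ b₀ = 0, p₂ b₀ = t
  obtain ⟨b₀, hb₁, hb₂⟩ := h.surj 0 t (by
    rw [hft]; exact map_zero f₁.toAlgHom)
  have hmt : ∀ x ∈ IsLocalRing.maximalIdeal A₂, x * t = 0 := by
    intro x hx
    have : x * t ∈ IsLocalRing.maximalIdeal A₂ * RingHom.ker f₂.toAlgHom :=
      Ideal.mul_mem_mul hx htker
    rw [hkill] at this
    exact this
  have hker : RingHom.ker p₁.toAlgHom = Ideal.span {b₀} := by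
    apply le_antisymm
    · intro b hb
      have hb1 : p₁ b = 0 := hb
      have hb2 : p₂ b ∈ RingHom.ker f₂.toAlgHom := by
        rw [RingHom.mem_ker]
        show f₂ (p₂ b) = 0
        rw [← h.w_apply, hb1]
        exact map_zero f₁.toAlgHom
      rw [ht] at hb2
      obtain ⟨c, hc⟩ := Submodule.mem_span_singleton.1 hb2
      -- choose c' ∈ B with the same residue as c
      obtain ⟨c', hc'⟩ := B.res_surjective (A₂.res c)
      have hcc : p₂ c' - c ∈ IsLocalRing.maximalIdeal A₂ := by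
        rw [mem_maximalIdeal_iff, map_sub, res_app, hc', sub_self]
      have h3 : (p₂ c' - c) * t = 0 := hmt _ hcc
      have h4 : p₂ c' * t = c * t := by
        rw [sub_mul, sub_eq_zero] at h3; exact h3
      rw [Ideal.mem_span_singleton']
      refine ⟨c', ?_⟩
      apply h.inj
      · show p₁.toAlgHom (c' * b₀) = p₁ b
        rw [map_mul]
        show p₁ c' * p₁ b₀ = p₁ b
        rw [hb₁, mul_zero, hb1]
      · show p₂.toAlgHom (c' * b₀) = p₂ b
        rw [map_mul]
        show p₂ c' * p₂ b₀ = p₂ b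
        rw [hb₂, h4, ← hc]
        rfl
    · rw [Ideal.span_singleton_le_iff_mem, RingHom.mem_ker]
      exact hb₁
  refine ⟨?_, ?_, ?_, ?_⟩
  · intro a₁
    obtain ⟨a₂, ha₂⟩ := hsurj (f₁ a₁)
    obtain ⟨b, hb, -⟩ := h.surj a₁ a₂ ha₂.symm
    exact ⟨b, hb⟩
  · rw [hker]
    intro hbot
    rw [Ideal.span_singleton_eq_bot] at hbot
    apply ht0
    rw [← hb₂, hbot]
    exact map_zero p₂.toAlgHom
  · rw [hker]
    exact ⟨⟨_, rfl⟩⟩
  · rw [hker, eq_bot_iff, Ideal.mul_le]
    intro r hr s hs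
    obtain ⟨c, rfl⟩ := Ideal.mem_span_singleton'.1 hs
    rw [Ideal.mem_bot]
    apply h.inj
    · show p₁.toAlgHom (r * (c * b₀)) = p₁.toAlgHom 0
      rw [map_mul, map_mul, map_zero]
      show p₁ r * (p₁ c * p₁ b₀) = 0
      rw [hb₁, mul_zero, mul_zero]
    · show p₂.toAlgHom (r * (c * b₀)) = p₂.toAlgHom 0
      rw [map_mul, map_mul, map_zero]
      show p₂ r * (p₂ c * p₂ b₀) = 0
      rw [hb₂, mul_left_comm]
      have : p₂ r ∈ IsLocalRing.maximalIdeal A₂ := by
        rw [mem_maximalIdeal_iff, res_app]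
        exact (mem_maximalIdeal_iff B r).1 hr
      rw [hmt _ this, mul_zero]

end Groth.Agent.S12711
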