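import Groth.Statements.S12713
import Groth.Agent.Lib.ArtFunAct_helper1

set_option autoImplicit false
universe u v
open CategoryTheory
open ArtFun ArtFun.Art

namespace Groth.Agent.S12713

/-- A small extension f : B → A in the category of Artinian local Λ-algebras with residue field k is not
an essential surjection (some morphism g : C → B is non-surjective although the composite C → A is
surjective) if and only if f has a section A → B in the category. -/
theorem result {Λ : Type u} {k : Type u} [CommRing Λ] [Field k] [Algebra Λ k]
    [IsNoetherianRing Λ] [Module.Finite Λ k]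
    {A B : ArtFun.Art Λ k} (f : B ⟶ A) (hf : ArtFun.Art.IsSmallExt f) :
    (∃ (C : ArtFun.Art Λ k) (g : C ⟶ B), Function.Surjective (g ≫ f) ∧ ¬ Function.Surjective g) ↔
      ∃ s : A ⟶ B, s ≫ f = 𝟙 A := by
  open Groth.Agent.Lib.ArtFunH1 ArtFun.Art in
  obtain ⟨hsurj, hne, ⟨t, ht⟩, hm⟩ := id hf
  have hker : RingHom.ker f.toAlgHom = Ideal.span {t} := ht
  have htk : t ∈ RingHom.ker f.toAlgHom := by
    rw [hker]; exact Ideal.subset_span rfl
  have htx : ∀ x ∈ IsLocalRing.maximalIdeal B, x * t = 0 := by
    intro x hx
    have := Ideal.mul_mem_mul hx htk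
    rw [hm] at this
    exact this
  constructor
  · rintro ⟨C, g, hgf, hg⟩
    -- key: range g ∩ ker f = 0
    have key : ∀ c : C, f (g c) = 0 → g c = 0 := by
      intro c hc
      by_contra hne0
      apply hg
      have hc' : g c ∈ RingHom.ker f.toAlgHom := (RingHom.mem_ker).2 hc
      rw [hker, Ideal.mem_span_singleton'] at hc'
      obtain ⟨u, hu⟩ := hc'
      have hunit : IsUnit u := by
        by_contra hnu
        apply hne0
        rw [← hu]
        exact htx u ((IsLocalRing.mem_maximalIdeal _).2 hnu)
      obtain ⟨u', rfl⟩ := hunit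
      -- g c killed by the maximal ideal
      have hkill : ∀ x ∈ IsLocalRing.maximalIdeal B, x * g c = 0 := by
        intro x hx
        rw [← hu, ← mul_assoc, mul_comm x, mul_assoc, htx x hx, mul_zero]
      intro b
      obtain ⟨c', hc'⟩ := hgf (f b)
      have hc'' : f (g c') = f b := hc'
      have hb : b - g c' ∈ RingHom.ker f.toAlgHom := by
        rw [RingHom.mem_ker, map_sub]
        exact sub_eq_zero.mpr hc''.symm
      rw [hker, Ideal.mem_span_singleton'] at hb
      obtain ⟨v, hv⟩ := hb
      obtain ⟨c'', hc3⟩ := C.res_surjective (B.res (v * (↑u'⁻¹ : B)))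
      have h4 : (v * (↑u'⁻¹ : B) - g c'') * g c = 0 := by
        apply hkill
        rw [Art.mem_maximalIdeal_iff, map_sub, Art.res_app, hc3, sub_self]
      refine ⟨c' + c'' * c, ?_⟩
      show g (c' + c'' * c) = b
      rw [map_add, map_mul]
      rw [sub_mul, sub_eq_zero] at h4
      rw [← h4, ← hu, mul_assoc, ← mul_assoc (↑u'⁻¹ : B), Units.inv_mul, one_mul, hv]
      abel
    have wd : ∀ c c' : C, f (g c) = f (g c') → g c = g c' := by
      intro c c' h
      have := key (c - c') (by rw [map_sub, map_sub, h, sub_self])
      rw [map_sub, sub_eq_zero] at this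
      exact this
    choose σ hσ using hgf
    have hσ' : ∀ a, f (g (σ a)) = a := hσ
    let s : A →ₐ[Λ] B :=
      { toFun := fun a => g (σ a)
        map_one' := by
          rw [← map_one g.toAlgHom]
          apply wd
          rw [hσ', map_one, map_one]
        map_mul' := by
          intro a a'
          rw [← map_mul g.toAlgHom]
          apply wd
          rw [hσ', map_mul, map_mul, hσ', hσ']
        map_zero' := by
          rw [← map_zero g.toAlgHom]
          apply wd
          rw [hσ', map_zero, map_zero]
        map_add' := by
          intro a a'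
          rw [← map_add g.toAlgHom]
          apply wd
          rw [hσ', map_add, map_add, hσ', hσ']
        commutes' := by
          intro r
          rw [← g.toAlgHom.commutes r]
          apply wd
          rw [hσ']
          show algebraMap Λ A r = f (g (algebraMap Λ C r))
          rw [g.toAlgHom.commutes, f.toAlgHom.commutes] }
    refine ⟨⟨s, ?_⟩, ?_⟩
    · apply AlgHom.ext
      intro a
      show B.res (g (σ a)) = A.res a
      rw [← Art.res_app f, hσ']
    · apply Art.hom_ext
      apply AlgHom.ext
      intro a
      exact hσ' a
  · rintro ⟨s, hs⟩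
    refine ⟨A, s, ?_, ?_⟩
    · rw [hs]
      exact fun a => ⟨a, rfl⟩
    · intro hsurj'
      apply hne
      rw [eq_bot_iff]
      intro b hb
      obtain ⟨a, rfl⟩ := hsurj' b
      have h1 : f (s a) = a := congrArg (fun w : A ⟶ A => w a) hs
      have h2 : f (s a) = 0 := (RingHom.mem_ker).1 hb
      rw [h1] at h2
      rw [h2, map_zero]
      exact Ideal.zero_mem _

end Groth.Agent.S12713
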