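import Groth.Statements.S12728
import Groth.Agent.Lib.ArtFunAct_helper1

set_option autoImplicit false
universe u v
open CategoryTheory
open ArtFun

namespace Groth.Agent.S12728

/-- For functors, let F be a functor on Artinian local Λ-algebras with residue field k with F(k) a
point, satisfying (S1) and (S2), and ξ a family of F over a complete local Noetherian R with residue
field k. Then ξ is versal if and only if (1) the map h_R(k[ε]) → F(k[ε]) on tangent spaces is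
surjective, and (2) whenever μ : B → A is a small extension, φ : R → A, and y ∈ F(B) lies over ξ(φ),
the map φ lifts to some R → B. -/
theorem result {Λ : Type u} {k : Type u} [CommRing Λ] [Field k] [Algebra Λ k]
    [IsNoetherianRing Λ] [Module.Finite Λ k]
    {F : ArtFun.Art Λ k ⥤ Type v} (h0 : ArtFun.H0 F) (h1 : ArtFun.S1 F) (h2 : ArtFun.Heps F)
    (R : ArtFun.CRing Λ k) (ξ : ArtFun.Family R.carrier R.res F) :
    ArtFun.IsVersal ξ ↔
      (Function.Surjective (ArtFun.TangentSpace.ofFamily ξ) ∧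
        ∀ ⦃B A : ArtFun.Art Λ k⦄ (μ : B ⟶ A), ArtFun.Art.IsSmallExt μ →
          ∀ (φ : ArtFun.HomSet R.carrier R.res A) (y : F.obj B), F.map μ y = ξ.app A φ →
            ∃ ψ : ArtFun.HomSet R.carrier R.res B, ArtFun.HomSet.map μ ψ = φ) := by
  open Groth.Agent.Lib.ArtFunH1 ArtFun.Art in
  constructor
  · intro hv
    refine ⟨?_, ?_⟩
    · intro y
      obtain ⟨ψ, -, hψ⟩ := hv (toBase (dual Λ k)) (dual Λ k).res_surjective
        ⟨R.res, AlgHom.id_comp _⟩ y (h0.2.elim _ _)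
      exact ⟨ψ, hψ⟩
    · intro B A μ hμ φ y hy
      obtain ⟨ψ, hψ, -⟩ := hv μ hμ.1 φ y hy
      exact ⟨ψ, hψ⟩
  · rintro ⟨ht, hl⟩
    intro B A μ hμ
    refine Groth.Agent.S12707.result (Λ := Λ) (k := k)
      (fun A B μ => ∀ (φ : ArtFun.HomSet R.carrier R.res A) (y : F.obj B), F.map μ y = ξ.app A φ →
        ∃ ψ : ArtFun.HomSet R.carrier R.res B, ArtFun.HomSet.map μ ψ = φ ∧ ξ.app B ψ = y) ?_ ?_ ?_ μ hμ
    · intro A B e he φ y hy
      refine ⟨ArtFun.HomSet.map (inv e) φ, ?_, ?_⟩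
      · apply Subtype.ext
        apply AlgHom.ext
        intro r
        exact congrArg (fun w : A ⟶ A => w (φ.1 r)) (IsIso.inv_hom_id e)
      · rw [ξ.natural, ← hy, ← map_comp_apply, IsIso.hom_inv_id, map_id_apply]
    · intro A B μ hμ φ y hy
      obtain ⟨ψ₀, hψ₀⟩ := hl μ hμ φ y hy
      obtain ⟨C, p₁, p₂, α, s, hsq1, hsq2, hs1, hs2, hs3⟩ := exists_action_square μ hμ
      have hxy : F.map μ (ξ.app B ψ₀) = F.map μ y := by
        rw [← ξ.natural, hψ₀, hy]
      obtain ⟨ζ, hζ1, hζ2⟩ := (cmp_surjective_iff hsq2).1 (h1 p₁ α μ μ hsq2 hμ.1) _ _ hxy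
      obtain ⟨τ, hτ⟩ := ht (F.map p₂ ζ)
      obtain ⟨ψ', hψ'1, hψ'2⟩ := HomSet.exists_lift_fibreProd hsq1 ψ₀ τ (homSet_base_eq _ _)
      have e1 : ξ.app C ψ' = ζ := by
        apply (cmp_injective_iff hsq1).1 (h2 p₁ p₂ hsq1).1
        · rw [← ξ.natural, hψ'1, hζ1]
        · rw [← ξ.natural, hψ'2]
          exact hτ
      refine ⟨ArtFun.HomSet.map α ψ', ?_, ?_⟩
      · rw [← hψ₀, ← hψ'1]
        apply Subtype.ext
        apply AlgHom.ext
        intro r
        exact (hsq2.w_apply (ψ'.1 r)).symm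
      · rw [ξ.natural, e1, hζ2]
    · intro A B C p q hp hq φ y hy
      rw [map_comp_apply] at hy
      obtain ⟨ψ₁, hψ1, hψ2⟩ := hq φ (F.map p y) hy
      obtain ⟨ψ, hψ3, hψ4⟩ := hp ψ₁ y hψ2.symm
      refine ⟨ψ, ?_, hψ4⟩
      rw [← hψ1, ← hψ3]
      rfl

end Groth.Agent.S12728
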