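import Groth.Statements.S12729
import Mathlib
import Groth.Agent.Lib.ArtFunInd_helper1
import Groth.Agent.S12707

set_option autoImplicit false
universe u v
open CategoryTheory
open ArtFun

namespace Groth.Agent.S12729

open Groth.Agent.Lib.ArtFunH1

section Aux
variable {Λ : Type u} {k : Type u} [CommRing Λ] [Field k] [Algebra Λ k]
variable {F : ArtFun.Art Λ k ⥤ Type v} {B A : ArtFun.Art Λ k}

theorem ker_le_max (p : B ⟶ A) : RingHom.ker p.toAlgHom ≤ IsLocalRing.maximalIdeal B := by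
  intro b hb
  rw [Art.mem_maximalIdeal_iff, ← Art.res_app p]
  have h0 : p b = 0 := RingHom.mem_ker.1 hb
  rw [h0, map_zero]

/-- `x` lifts to `B/J` -/
def Lifts (F : ArtFun.Art Λ k ⥤ Type v) (p : B ⟶ A) (x : F.obj A) (J : Ideal B) : Prop :=
  ∃ (hJ : J ≤ RingHom.ker p.toAlgHom) (hJ' : J ≤ IsLocalRing.maximalIdeal B)
    (y : F.obj (Art.quot B J hJ')), F.map (Art.quotFactor hJ' p hJ) y = x

/-- transition between quotients -/
noncomputable def qq {J J' : Ideal B} (hJ : J ≤ IsLocalRing.maximalIdeal B)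
    (hJ' : J' ≤ IsLocalRing.maximalIdeal B) (h : J ≤ J') :
    Art.quot B J hJ ⟶ Art.quot B J' hJ' :=
  Art.quotFactor hJ (Art.quotMk B J' hJ') (by
    have h1 : RingHom.ker (Art.quotMk B J' hJ').toAlgHom = J' := Ideal.Quotient.mkₐ_ker Λ J'
    rw [h1]
    exact h)

theorem qq_quotFactor {J J' : Ideal B} (hJ : J ≤ IsLocalRing.maximalIdeal B)
    (hJ' : J' ≤ IsLocalRing.maximalIdeal B) (h : J ≤ J') (p : B ⟶ A)
    (hp' : J' ≤ RingHom.ker p.toAlgHom) :
    qq hJ hJ' h ≫ Art.quotFactor hJ' p hp' = Art.quotFactor hJ p (h.trans hp') := by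
  apply Art.hom_ext
  apply AlgHom.ext
  intro z
  obtain ⟨a, rfl⟩ := Ideal.Quotient.mk_surjective z
  rfl

theorem lifts_ker (p : B ⟶ A) (hp : Function.Surjective p) (x : F.obj A) :
    Lifts F p x (RingHom.ker p.toAlgHom) := by
  have hI := ker_le_max p
  have hbij : Function.Bijective (Art.quotFactor hI p le_rfl) := by
    constructor
    · intro z w hzw
      obtain ⟨a, rfl⟩ := Ideal.Quotient.mk_surjective z
      obtain ⟨b, rfl⟩ := Ideal.Quotient.mk_surjective w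
      have h1 : p a = p b := hzw
      refine (Ideal.Quotient.eq (I := RingHom.ker p.toAlgHom)).2 ?_
      rw [RingHom.mem_ker, map_sub, sub_eq_zero]
      exact h1
    · intro a
      obtain ⟨b, rfl⟩ := hp a
      exact ⟨Ideal.Quotient.mk _ b, rfl⟩
  haveI : IsIso (Art.quotFactor hI p le_rfl) := Groth.Agent.S12707.isIso_of_bijective _ hbij
  refine ⟨le_rfl, hI, F.map (inv (Art.quotFactor hI p le_rfl)) x, ?_⟩
  rw [← map_comp_apply, IsIso.inv_hom_id, map_id_apply]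

theorem lifts_mono (p : B ⟶ A) (x : F.obj A) {J J' : Ideal B} (h : J ≤ J')
    (hJ' : J' ≤ RingHom.ker p.toAlgHom) (hL : Lifts F p x J) : Lifts F p x J' := by
  obtain ⟨hJ, hJm, y, hy⟩ := hL
  have hJ'm := hJ'.trans (ker_le_max p)
  refine ⟨hJ', hJ'm, F.map (qq hJm hJ'm h) y, ?_⟩
  rw [← map_comp_apply, qq_quotFactor]
  exact hy

theorem lifts_inf_of_sup (h1 : S1 F) (p : B ⟶ A) (hp : Function.Surjective p) (x : F.obj A)
    {J₁ J₂ : Ideal B} (hsup : J₁ ⊔ J₂ = RingHom.ker p.toAlgHom)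
    (L₁ : Lifts F p x J₁) (L₂ : Lifts F p x J₂) : Lifts F p x (J₁ ⊓ J₂) := by
  obtain ⟨h₁, h₁m, y₁, hy₁⟩ := L₁
  obtain ⟨h₂, h₂m, y₂, hy₂⟩ := L₂
  have h₀ : J₁ ⊓ J₂ ≤ RingHom.ker p.toAlgHom := inf_le_left.trans h₁
  have h₀m : J₁ ⊓ J₂ ≤ IsLocalRing.maximalIdeal B := inf_le_left.trans h₁m
  have hfp : Art.IsFibreProd (qq h₀m h₁m inf_le_left) (qq h₀m h₂m inf_le_right)
      (Art.quotFactor h₁m p h₁) (Art.quotFactor h₂m p h₂) := by
    refine ⟨?_, ?_, ?_⟩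
    · rw [qq_quotFactor, qq_quotFactor]
    · intro z w e1 e2
      obtain ⟨a, rfl⟩ := Ideal.Quotient.mk_surjective z
      obtain ⟨b, rfl⟩ := Ideal.Quotient.mk_surjective w
      have e1' : Ideal.Quotient.mk J₁ a = Ideal.Quotient.mk J₁ b := e1
      have e2' : Ideal.Quotient.mk J₂ a = Ideal.Quotient.mk J₂ b := e2
      rw [Ideal.Quotient.eq] at e1' e2'
      exact (Ideal.Quotient.eq (I := J₁ ⊓ J₂)).2 ⟨e1', e2'⟩
    · intro z₁ z₂ e
      obtain ⟨a₁, rfl⟩ := Ideal.Quotient.mk_surjective z₁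
      obtain ⟨a₂, rfl⟩ := Ideal.Quotient.mk_surjective z₂
      have e' : p a₁ = p a₂ := e
      have hmem : a₁ - a₂ ∈ J₁ ⊔ J₂ := by
        rw [hsup, RingHom.mem_ker, map_sub, sub_eq_zero]
        exact e'
      obtain ⟨j₁, hj₁, j₂, hj₂, hj⟩ := Submodule.mem_sup.1 hmem
      refine ⟨Ideal.Quotient.mk _ (a₁ - j₁), ?_, ?_⟩
      · show Ideal.Quotient.mk J₁ (a₁ - j₁) = Ideal.Quotient.mk J₁ a₁
        rw [Ideal.Quotient.eq]
        have e3 : a₁ - j₁ - a₁ = -j₁ := by ring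
        rw [e3]
        exact J₁.neg_mem hj₁
      · show Ideal.Quotient.mk J₂ (a₁ - j₁) = Ideal.Quotient.mk J₂ a₂
        rw [Ideal.Quotient.eq]
        have e3 : a₁ - j₁ - a₂ = j₂ := by linear_combination (-1 : B.carrier) * hj
        rw [e3]
        exact hj₂
  have hr₂ : Function.Surjective (Art.quotFactor h₂m p h₂) := by
    intro a
    obtain ⟨b, rfl⟩ := hp a
    exact ⟨Ideal.Quotient.mk _ b, rfl⟩
  obtain ⟨z, hz1, hz2⟩ := (cmp_surjective_iff hfp).1 (h1 _ _ _ _ hfp hr₂) y₁ y₂ (by rw [hy₁, hy₂])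
  refine ⟨h₀, h₀m, z, ?_⟩
  have e4 := qq_quotFactor h₀m h₁m inf_le_left p h₁
  rw [← e4, map_comp_apply, hz1, hy₁]

theorem exists_enlarge (p : B ⟶ A)
    (hm : IsLocalRing.maximalIdeal B * RingHom.ker p.toAlgHom = ⊥) (J₁ J₂ : Ideal B)
    (h₁ : J₁ ≤ RingHom.ker p.toAlgHom) (h₂ : J₂ ≤ RingHom.ker p.toAlgHom) :
    ∃ M : Ideal B, J₂ ≤ M ∧ M ≤ RingHom.ker p.toAlgHom ∧ J₁ ⊓ M = J₁ ⊓ J₂ ∧
      J₁ ⊔ M = RingHom.ker p.toAlgHom := by
  classical
  let 𝒯 : Set (Ideal B) :=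
    {J' | J₂ ≤ J' ∧ J' ≤ RingHom.ker p.toAlgHom ∧ J₁ ⊓ J' = J₁ ⊓ J₂}
  have hne : 𝒯.Nonempty := ⟨J₂, le_rfl, h₂, rfl⟩
  have hN : IsNoetherian B B := inferInstance
  obtain ⟨M, ⟨hM1, hM2, hM3⟩, hmax⟩ := set_has_maximal_iff_noetherian.2 hN 𝒯 hne
  refine ⟨M, hM1, hM2, hM3, le_antisymm (sup_le h₁ hM2) ?_⟩
  intro t ht
  by_contra htn
  apply hmax (M ⊔ Ideal.span {t}) ?_ ?_
  · refine ⟨hM1.trans le_sup_left,
      sup_le hM2 ((Ideal.span_singleton_le_iff_mem _).2 ht), le_antisymm ?_ ?_⟩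
    · intro z hz
      obtain ⟨hz1, hz2⟩ := hz
      obtain ⟨m, hmM, s, hs, hzs⟩ := Submodule.mem_sup.1 hz2
      obtain ⟨b, rfl⟩ := Ideal.mem_span_singleton'.1 hs
      by_cases hb : b ∈ IsLocalRing.maximalIdeal B
      · have hbt : b * t = 0 := by
          have h3 : b * t ∈ IsLocalRing.maximalIdeal B * RingHom.ker p.toAlgHom :=
            Ideal.mul_mem_mul hb ht
          rw [hm] at h3
          exact Ideal.mem_bot.1 h3
        rw [hbt, add_zero] at hzs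
        rw [← hM3]
        exact ⟨hz1, hzs ▸ hmM⟩
      · exfalso
        have hu : IsUnit b := by
          by_contra hnu
          exact hb ((IsLocalRing.mem_maximalIdeal b).2 hnu)
        obtain ⟨u, rfl⟩ := hu
        apply htn
        have h5 : z - m = ↑u * t := by rw [← hzs]; ring
        have h6 : t = ↑u⁻¹ * (z - m) := by rw [h5, Units.inv_mul_cancel_left]
        rw [h6]
        exact Ideal.mul_mem_left _ _
          (Submodule.sub_mem _ (Ideal.mem_sup_left hz1) (Ideal.mem_sup_right hmM))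
    · rw [← hM3]
      exact inf_le_inf_left _ le_sup_left
  · refine lt_of_le_of_ne le_sup_left ?_
    intro heq
    apply htn
    have h7 : t ∈ M := by
      rw [heq]
      exact Ideal.mem_sup_right (Ideal.mem_span_singleton_self t)
    exact Ideal.mem_sup_right h7

theorem lifts_inf [IsNoetherianRing Λ] [Module.Finite Λ k] (h1 : S1 F) (p : B ⟶ A)
    (hp : Art.IsSemismallExt p) (x : F.obj A)
    {J₁ J₂ : Ideal B} (L₁ : Lifts F p x J₁) (L₂ : Lifts F p x J₂) : Lifts F p x (J₁ ⊓ J₂) := by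
  obtain ⟨M, hM1, hM2, hM3, hM4⟩ := exists_enlarge p hp.2 J₁ J₂ L₁.1 L₂.1
  have LM : Lifts F p x M := lifts_mono p x hM1 hM2 L₂
  have h := lifts_inf_of_sup h1 p hp.1 x hM4 L₁ LM
  rwa [hM3] at h

end Aux


/-- For functors, let F satisfy (S1), let p : B → A be a surjection in the category of Artinian local
Λ-algebras with residue field k whose kernel I is annihilated by m_B, and let x ∈ F(A). Then the set
of ideals J ⊆ I for which x lifts to F(B/J) along B/J → A has a least element. -/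
theorem result {Λ : Type u} {k : Type u} [CommRing Λ] [Field k] [Algebra Λ k]
    [IsNoetherianRing Λ] [Module.Finite Λ k]
    {F : ArtFun.Art Λ k ⥤ Type v} (h1 : ArtFun.S1 F)
    {B A : ArtFun.Art Λ k} (p : B ⟶ A) (hp : ArtFun.Art.IsSemismallExt p) (x : F.obj A) :
    ∃ (J₀ : Ideal B) (hJ₀ : J₀ ≤ RingHom.ker p.toAlgHom) (hJ₀' : J₀ ≤ IsLocalRing.maximalIdeal B),
      (∃ y : F.obj (ArtFun.Art.quot B J₀ hJ₀'), F.map (ArtFun.Art.quotFactor hJ₀' p hJ₀) y = x) ∧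
      ∀ (J : Ideal B) (hJ : J ≤ RingHom.ker p.toAlgHom) (hJ' : J ≤ IsLocalRing.maximalIdeal B),
        (∃ y : F.obj (ArtFun.Art.quot B J hJ'), F.map (ArtFun.Art.quotFactor hJ' p hJ) y = x) → J₀ ≤ J := by
  classical
  have hA : IsArtinian B B := inferInstance
  obtain ⟨J₀, hJ₀L, hmin⟩ := set_has_minimal_iff_artinian.2 hA {J | Lifts F p x J}
    ⟨_, lifts_ker p hp.1 x⟩
  have hleast : ∀ J, Lifts F p x J → J₀ ≤ J := by
    intro J hJ
    have h2 : Lifts F p x (J₀ ⊓ J) := lifts_inf h1 p hp x hJ₀L hJ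
    have h3 : ¬ (J₀ ⊓ J < J₀) := hmin _ h2
    have h4 : J₀ ⊓ J = J₀ := by
      by_contra hne
      exact h3 (lt_of_le_of_ne inf_le_left hne)
    exact inf_eq_left.1 h4
  obtain ⟨hJ₀, hJ₀', y, hy⟩ := hJ₀L
  exact ⟨J₀, hJ₀, hJ₀', ⟨y, hy⟩, fun J hJ hJ' ⟨y', hy'⟩ => hleast J ⟨hJ, hJ', y', hy'⟩⟩

end Groth.Agent.S12729
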