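import Groth.Statements.S12709
import Groth.Agent.Lib.LocalSurj_helper1
import Groth.Agent.Lib.ArtFunFormal_helper1
import Mathlib.RingTheory.HopkinsLevitzki
import Mathlib.RingTheory.Nakayama

set_option autoImplicit false
universe u v
open CategoryTheory
open ArtFun ArtFun.Art

namespace Groth.Agent.S12709

/-- Given a morphism f : A → B in the category of Artinian local Λ-algebras with residue field k, three
conditions coincide: (1) surjectivity of f; (2) f induces an onto map from the cotangent space of A
to the cotangent space of B, which in ideal-theoretic form says f(m_A)B + m_B² = m_B; (3) the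
induced map on cotangent spaces relative to Λ is surjective, written as m_Λ B + f(m_A)B + m_B² = m_B
with m_Λ the kernel of Λ → k. -/
theorem result {Λ : Type u} {k : Type u} [CommRing Λ] [Field k] [Algebra Λ k]
    [IsNoetherianRing Λ] [Module.Finite Λ k]
    {A B : ArtFun.Art Λ k} (f : A ⟶ B) :
    List.TFAE [Function.Surjective f,
      Ideal.map f.toAlgHom (IsLocalRing.maximalIdeal A) ⊔ IsLocalRing.maximalIdeal B ^ 2 = IsLocalRing.maximalIdeal B,
      Ideal.map (algebraMap Λ B) (RingHom.ker (algebraMap Λ k)) ⊔ Ideal.map f.toAlgHom (IsLocalRing.maximalIdeal A) ⊔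
        IsLocalRing.maximalIdeal B ^ 2 = IsLocalRing.maximalIdeal B] := by
  open Groth.Agent.Lib.ArtFunH1 ArtFun.Art in
  have hloc : Ideal.map f.toAlgHom (IsLocalRing.maximalIdeal A) ≤ IsLocalRing.maximalIdeal B := by
    rw [Ideal.map_le_iff_le_comap]
    intro a ha
    rw [Ideal.mem_comap, Art.mem_maximalIdeal_iff]
    show B.res (f a) = 0
    rw [Art.res_app]
    exact (Art.mem_maximalIdeal_iff A a).1 ha
  have hsq : IsLocalRing.maximalIdeal B ^ 2 ≤ IsLocalRing.maximalIdeal B := Ideal.pow_le_self two_ne_zero
  have hΛ : Ideal.map (algebraMap Λ B) (RingHom.ker (algebraMap Λ k)) ≤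
      Ideal.map f.toAlgHom (IsLocalRing.maximalIdeal A) := by
    rw [Ideal.map_le_iff_le_comap]
    intro c hc
    rw [Ideal.mem_comap]
    have : algebraMap Λ B c = f.toAlgHom (algebraMap Λ A c) := (f.toAlgHom.commutes c).symm
    rw [this]
    apply Ideal.mem_map_of_mem
    rw [Art.mem_maximalIdeal_iff, AlgHom.commutes]
    exact hc
  tfae_have 1 → 2 := by
    intro hs
    apply le_antisymm (sup_le hloc hsq)
    refine le_trans ?_ le_sup_left
    intro b hb
    obtain ⟨a, rfl⟩ := hs b
    apply Ideal.mem_map_of_mem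
    rw [Art.mem_maximalIdeal_iff, ← Art.res_app f]
    exact (Art.mem_maximalIdeal_iff B _).1 hb
  tfae_have 2 → 3 := by
    intro h2
    apply le_antisymm (sup_le (sup_le (hΛ.trans hloc) hloc) hsq)
    refine le_trans (le_of_eq h2.symm) ?_
    exact sup_le (le_sup_of_le_left le_sup_right) le_sup_right
  tfae_have 3 → 1 := by
    intro h3
    have h2 : IsLocalRing.maximalIdeal B ≤ Ideal.map f.toAlgHom (IsLocalRing.maximalIdeal A) ⊔
        IsLocalRing.maximalIdeal B • IsLocalRing.maximalIdeal B := by
      rw [smul_eq_mul, ← pow_two]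
      conv_lhs => rw [← h3]
      exact sup_le (sup_le (le_sup_of_le_left hΛ) le_sup_left) le_sup_right
    have hfg : (IsLocalRing.maximalIdeal B).FG := IsNoetherian.noetherian _
    have hmap : Ideal.map (f.toAlgHom : A →+* B) (IsLocalRing.maximalIdeal A) =
        IsLocalRing.maximalIdeal B :=
      le_antisymm hloc (Submodule.le_of_le_smul_of_le_jacobson_bot hfg
        (IsLocalRing.maximalIdeal_le_jacobson ⊥) h2)
    apply Groth.Agent.Lib.LocalSurjH1.surjective_of_nilpotent (f.toAlgHom : A →+* B)
      (IsLocalRing.maximalIdeal A) (IsLocalRing.maximalIdeal B) hmap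
    · intro b
      obtain ⟨a, ha⟩ := A.res_surjective (B.res b)
      refine ⟨a, ?_⟩
      rw [Art.mem_maximalIdeal_iff, map_sub]
      show B.res b - B.res (f a) = 0
      rw [Art.res_app, ha, sub_self]
    · exact exists_maximalIdeal_pow_eq_bot B
  tfae_finish

end Groth.Agent.S12709
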