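import Groth.Statements.S12720
import Mathlib.Tactic
import Groth.Agent.Lib.ArtFunFormal_helper1

set_option autoImplicit false
universe u v
open CategoryTheory
open ArtFun

namespace Groth.Agent.S12720

/-- For functors, let F be a functor on Artinian local Λ-algebras with residue field k with F(k) a
point, and ξ a versal family of F over a complete local Noetherian R with residue field k. Then
every formal element η of F over a complete local Noetherian S with residue field k is induced from
ξ: there is a morphism g : R → S (over Λ, compatible with the augmentations) such that the family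
obtained from ξ by composing with g has formal element η. -/
theorem result {Λ : Type u} {k : Type u} [CommRing Λ] [Field k] [Algebra Λ k]
    [IsNoetherianRing Λ] [Module.Finite Λ k]
    {F : ArtFun.Art Λ k ⥤ Type v} (h0 : ArtFun.H0 F)
    (R : ArtFun.CRing Λ k) (ξ : ArtFun.Family R.carrier R.res F) (hξ : ArtFun.IsVersal ξ)
    (S : ArtFun.CRing Λ k) (η : ArtFun.FormalElt F S) :
    ∃ (g : R.carrier →ₐ[Λ] S.carrier) (hg : S.res.comp g = R.res), (ξ.along g hg).toFormalElt = η := by
  have hsub := h0.2
  have htm : ∀ n, Function.Surjective (S.truncMap n) := by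
    intro n y
    obtain ⟨a, rfl⟩ := Ideal.Quotient.mk_surjective y
    exact ⟨Ideal.Quotient.mk _ a, rfl⟩
  let φ₀ : ArtFun.HomSet R.carrier R.res (ArtFun.Art.base Λ k) := ⟨R.res, AlgHom.id_comp _⟩
  -- recursive construction of compatible lifts
  let seq : ∀ n : ℕ, {φ : ArtFun.HomSet R.carrier R.res (S.trunc n) // ξ.app _ φ = η.elt n} :=
    fun n => Nat.rec
      (motive := fun n => {φ : ArtFun.HomSet R.carrier R.res (S.trunc n) // ξ.app _ φ = η.elt n})
      ⟨(hξ (ArtFun.Art.toBase (S.trunc 0)) (S.trunc 0).res_surjective φ₀ (η.elt 0)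
          (Subsingleton.elim _ _)).choose,
        (hξ (ArtFun.Art.toBase (S.trunc 0)) (S.trunc 0).res_surjective φ₀ (η.elt 0)
          (Subsingleton.elim _ _)).choose_spec.2⟩
      (fun n prev =>
        ⟨(hξ (S.truncMap n) (htm n) prev.1 (η.elt (n + 1)) (by rw [η.compat, prev.2])).choose,
          (hξ (S.truncMap n) (htm n) prev.1 (η.elt (n + 1))
            (by rw [η.compat, prev.2])).choose_spec.2⟩) n
  have hseq : ∀ n, ArtFun.HomSet.map (S.truncMap n) (seq (n + 1)).1 = (seq n).1 := by
    intro n
    exact (hξ (S.truncMap n) (htm n) (seq n).1 (η.elt (n + 1))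
      (by rw [η.compat, (seq n).2])).choose_spec.1
  obtain ⟨g, hg, hgφ⟩ := Groth.Agent.Lib.ArtFunH1.exists_algHom_of_compatible S
    (fun n => (seq n).1) hseq
  refine ⟨g, hg, ?_⟩
  apply ArtFun.FormalElt.ext'
  intro n
  show ξ.app _ _ = η.elt n
  rw [← (seq n).2, ← hgφ n]

end Groth.Agent.S12720
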