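import Groth.Statements.S12730
import Mathlib
import Groth.Agent.Lib.ArtFunSchl_helper1
import Groth.Agent.Lib.ArtFunKV_helper1
import Groth.Agent.Lib.ArtFunAmb_helper1

set_option autoImplicit false
universe u v
open CategoryTheory
open ArtFun

namespace Groth.Agent.S12730

/-- For functors, a functor on Artinian local Λ-algebras with residue field k with F(k) a point,
satisfying (S1) and (S2) and with finite-dimensional tangent space has a versal family over some
complete local Noetherian Λ-algebra with residue field k. -/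
theorem result {Λ : Type u} {k : Type u} [CommRing Λ] [Field k] [Algebra Λ k]
    [IsNoetherianRing Λ] [Module.Finite Λ k]
    (F : ArtFun.Art Λ k ⥤ Type v) [ArtFun.TangentStr F]
    (h0 : ArtFun.H0 F) (h1 : ArtFun.S1 F) (h2 : ArtFun.Heps F) (h3 : ArtFun.Hfin F) :
    ArtFun.HasVersal F := by
  classical
  obtain ⟨A₀, x₀, htan⟩ := Groth.Agent.Lib.SchlH1.exists_initial h0 h2 h3
  haveI : IsNoetherian Λ A₀ :=
    (isFiniteLength_iff_isNoetherian_isArtinian.mp
      (Groth.Agent.Lib.ArtFunH1.isFiniteLength_art A₀)).1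
  obtain ⟨n, f, hf⟩ := Algebra.FiniteType.iff_quotient_mvPolynomial''.1
    (inferInstance : Algebra.FiniteType Λ A₀)
  have hπ : Function.Surjective (A₀.res.comp f) := A₀.res_surjective.comp hf
  obtain ⟨ψ, hψ⟩ := Groth.Agent.Lib.ArtFunH1.amb_exists_extension (A₀.res.comp f) A₀ f rfl
  have hψs : Function.Surjective ψ.1 := fun a => by
    obtain ⟨p, rfl⟩ := hf a
    exact ⟨Groth.Agent.Lib.ArtFunH1.ambι (A₀.res.comp f) p, hψ p⟩
  obtain ⟨R, ξ, q, hq, hv, _, _⟩ := Groth.Agent.Lib.SchlH1.exists_versal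
    (S := Groth.Agent.Lib.ArtFunH1.ambient (A₀.res.comp f) hπ)
    (Groth.Agent.Lib.ArtFunH1.ambient_isSmoothFunctor (A₀.res.comp f)) h0 h1 h2
    ⟨A₀, ψ, hψs, x₀⟩ htan
  exact ⟨⟨R, ξ, hv⟩⟩

end Groth.Agent.S12730
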