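import Groth.Statements.S12758
import Groth.Agent.S12720
import Mathlib.RingTheory.Noetherian.Basic

set_option autoImplicit false
universe u v
open CategoryTheory
open ArtFun

namespace Groth.Agent.S12758

theorem injective_of_surjective_ringEnd {R : Type u} [CommRing R] [IsNoetherianRing R]
    (φ : R →+* R) (hφ : Function.Surjective φ) : Function.Injective φ := by
  let K : ℕ →o Ideal R :=
    ⟨fun n => RingHom.ker (φ ^ n), by
      apply monotone_nat_of_le_succ
      intro n x hx
      rw [RingHom.mem_ker] at hx ⊢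
      rw [pow_succ', RingHom.mul_def, RingHom.comp_apply, hx, map_zero]⟩
  obtain ⟨n, hn⟩ := monotone_stabilizes_iff_noetherian.mpr inferInstance K
  have hsurj : Function.Surjective (φ ^ n) := by
    rw [RingHom.coe_pow]
    exact hφ.iterate n
  rw [injective_iff_map_eq_zero]
  intro x hx
  obtain ⟨y, rfl⟩ := hsurj x
  have h1 : y ∈ K (n + 1) := by
    show y ∈ RingHom.ker (φ ^ (n + 1))
    rw [RingHom.mem_ker, pow_succ', RingHom.mul_def, RingHom.comp_apply, hx]
  rw [← hn (n + 1) (Nat.le_succ n)] at h1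
  exact h1

theorem push_toFormalElt {Λ : Type u} {k : Type u} [CommRing Λ] [Field k] [Algebra Λ k]
    {F : ArtFun.Art Λ k ⥤ Type v} {R' R : ArtFun.CRing Λ k}
    (ξ : ArtFun.Family R'.carrier R'.res F) (g : R'.carrier →ₐ[Λ] R.carrier)
    (hg : R.res.comp g = R'.res) :
    ξ.toFormalElt.push g hg = (ξ.along g hg).toFormalElt := by
  apply ArtFun.FormalElt.ext'
  intro n
  show F.map (ArtFun.CRing.truncMapOfHom g hg n) (ξ.app _ (R'.truncHom n)) = ξ.app _ _
  rw [← ξ.natural]
  rfl


/-- For functors, two minimal versal families of a functor F on Artinian local Λ-algebras with residue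
field k with F(k) a point — over complete local Noetherian coefficient rings R₁, R₂ with residue
field k — are isomorphic: there is an isomorphism R₁ ≅ R₂ over Λ, compatible with the augmentations,
along which the formal element of the first family pushes forward to that of the second. -/
theorem result {Λ : Type u} {k : Type u} [CommRing Λ] [Field k] [Algebra Λ k]
    [IsNoetherianRing Λ] [Module.Finite Λ k]
    {F : ArtFun.Art Λ k ⥤ Type v} (h0 : ArtFun.H0 F) {R₁ R₂ : ArtFun.CRing Λ k}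
    (ξ₁ : ArtFun.Family R₁.carrier R₁.res F) (ξ₂ : ArtFun.Family R₂.carrier R₂.res F)
    (h₁ : ξ₁.IsMinimalVersal) (h₂ : ξ₂.IsMinimalVersal) :
    ∃ (e : R₁.carrier ≃ₐ[Λ] R₂.carrier) (he : R₂.res.comp (e : R₁.carrier →ₐ[Λ] R₂.carrier) = R₁.res),
      (ξ₁.along (e : R₁.carrier →ₐ[Λ] R₂.carrier) he).toFormalElt = ξ₂.toFormalElt := by
  obtain ⟨g, hg, hgE⟩ := Groth.Agent.S12720.result h0 R₁ ξ₁ h₁.1 R₂ ξ₂.toFormalElt
  obtain ⟨g', hg', hgE'⟩ := Groth.Agent.S12720.result h0 R₂ ξ₂ h₂.1 R₁ ξ₁.toFormalElt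
  have hs : Function.Surjective g := h₂.2 R₁ ξ₁.toFormalElt g hg (by rw [push_toFormalElt, hgE])
  have hs' : Function.Surjective g' := h₁.2 R₂ ξ₂.toFormalElt g' hg' (by rw [push_toFormalElt, hgE'])
  have hinj : Function.Injective g := by
    have h1 : Function.Injective ((g'.comp g : R₁.carrier →ₐ[Λ] R₁.carrier) : R₁.carrier →+* R₁.carrier) :=
      injective_of_surjective_ringEnd _ (hs'.comp hs)
    intro x y hxy
    apply h1
    show g' (g x) = g' (g y)
    rw [hxy]
  obtain ⟨e, hcoe⟩ : ∃ e : R₁.carrier ≃ₐ[Λ] R₂.carrier, (e : R₁.carrier →ₐ[Λ] R₂.carrier) = g :=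
    ⟨AlgEquiv.ofBijective g ⟨hinj, hs⟩, AlgHom.ext fun _ => rfl⟩
  subst hcoe
  exact ⟨e, hg, hgE⟩

end Groth.Agent.S12758
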