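import Groth.Statements.S10531
import Groth.Agent.Lib.AlgSpLargestOpen_helper7
import Groth.Agent.Lib.AlgSpFpqc3_helper7

set_option autoImplicit false
universe u
open CategoryTheory CategoryTheory.Limits AlgebraicGeometry
open AlgSp

namespace Groth.Agent.S10531

/-- The property of morphisms of algebraic spaces over S given by f is an open immersion (representable
by open immersions of schemes) is fpqc local on the base: for an fpqc covering of an algebraic space
Y by algebraic spaces Y_i, a morphism f : X ⟶ Y of algebraic spaces and cartesian squares X_i = Y_i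
×_Y X, f has the property if and only if every X_i ⟶ Y_i has it. -/
theorem result (S : Scheme.{u}) :
    AlgSp.IsLocalOnBase (AlgSp.IsFpqcCover (S := S)) (AlgSp.RepWith @IsOpenImmersion) := by
  open Groth.Agent.Lib.AlgSpOpenSub_helper7 Groth.Agent.Lib.AlgSpPoints_helper7
    Groth.Agent.Lib.AlgSpPullback_helper7 Groth.Agent.Lib.AlgSpBasic_helper7
    Groth.Agent.Lib.AlgSpOpen_helper7 Groth.Agent.Lib.AlgSpQC_helper7
    Groth.Agent.Lib.AlgSpFpqc3_helper7 Groth.Agent.Lib.AlgSpUniv_helper7 in
  intro ι Y Yi g hY hYi hcov X f hX Xi p q hXi sqs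
  constructor
  · intro hf i
    exact (AlgSp.RepWith (S := S) @IsOpenImmersion).of_isPullback (sqs i) hf
  · intro h
    -- universally open
    have huo : ∀ i, AlgSp.IsUnivOpenMor (p i) := by
      intro i Z Z' hZ t fst snd sq
      exact isOpenMap_map_of_repWith snd
        (repWith_mono (fun _ _ k (hk : IsOpenImmersion k) => (inferInstance : UniversallyOpen k))
          ((AlgSp.RepWith (S := S) @IsOpenImmersion).of_isPullback sq (h i)))
    have hfo : AlgSp.IsUnivOpenMor f :=
      (Groth.Agent.Lib.AlgSpFpqc_helper7.isLocalOnBase_fpqc_isUnivOpenMor Yi g hY hYi hcov f hX Xi p q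
        hXi sqs).2 huo
    have hW : IsOpen (Set.range (AlgSp.Points.map f)) :=
      (hfo hY (𝟙 Y) (𝟙 X) f (Groth.Agent.Lib.AlgSpSmST_helper7.isPullback_id_left f)).isOpen_range
    let Y' := openSub Y (Set.range (AlgSp.Points.map f))
    let j : Y' ⟶ Y := openSubι Y _
    have hY' : AlgSp.IsAlgSpace Y' := isAlgSpace_openSub hY hW
    have hj : AlgSp.RepWith @IsOpenImmersion j := repWith_isOpenImmersion_openSubι hW
    have hrj : Set.range (AlgSp.Points.map j) = Set.range (AlgSp.Points.map f) :=
      range_map_openSubι hY hW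
    obtain ⟨f', hf'⟩ := (factors_iff_of_openImmersion j hj f).2 hrj.ge
    -- the induced covering of Y'
    have sqY : ∀ i, IsPullback (pullback.fst j (g i)) (pullback.snd j (g i)) j (g i) :=
      fun i => IsPullback.of_hasPullback j (g i)
    have hYi' : ∀ i, AlgSp.IsAlgSpace (pullback j (g i)) := fun i =>
      isAlgSpace_of_isPullback hY.diag hY' (hYi i) (sqY i)
    have hcov' : AlgSp.IsFpqcCover (fun i => pullback j (g i)) (fun i => pullback.fst j (g i)) :=
      isFpqcCover_baseChange hY hY' j Yi g hYi _ _ (fun i => pullback.snd j (g i)) sqY hcov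
    let r : ∀ i, Xi i ⟶ pullback j (g i) := fun i =>
      pullback.lift (q i ≫ f') (p i) (by rw [Category.assoc, hf', (sqs i).w])
    have hr1 : ∀ i, r i ≫ pullback.fst j (g i) = q i ≫ f' := fun i => pullback.lift_fst _ _ _
    have hr2 : ∀ i, r i ≫ pullback.snd j (g i) = p i := fun i => pullback.lift_snd _ _ _
    have sqT : ∀ i, IsPullback (q i) (r i) f' (pullback.fst j (g i)) := by
      intro i
      refine IsPullback.of_bot ?_ (hr1 i).symm (sqY i)
      rw [hr2 i, hf']
      exact sqs i
    have hb : ∀ i, AlgSp.RepWith @IsOpenImmersion (pullback.snd j (g i)) := fun i =>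
      (AlgSp.RepWith (S := S) @IsOpenImmersion).of_isPullback (sqY i) hj
    have hiso : ∀ i, IsIso (r i) := by
      intro i
      haveI : Mono (pullback.snd j (g i)) := mono_of_openImmersion _ (hb i)
      haveI : Mono j := mono_of_openImmersion _ hj
      have hro : AlgSp.RepWith @IsOpenImmersion (r i) :=
        repWith_of_comp_mono @IsOpenImmersion (r i) (pullback.snd j (g i))
          (by rw [hr2 i]; exact h i)
      refine isIso_of_openImmersion_of_surjective (r i) hro ?_
      intro z
      have h1 : AlgSp.Points.map j (AlgSp.Points.map (pullback.fst j (g i)) z) ∈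
          Set.range (AlgSp.Points.map f) := by
        rw [← hrj]
        exact ⟨_, rfl⟩
      obtain ⟨x, hx⟩ := h1
      have h2 : AlgSp.Points.map f' x = AlgSp.Points.map (pullback.fst j (g i)) z := by
        apply map_injective_of_mono j
        rw [← AlgSp.Points.map_comp, hf', hx]
      obtain ⟨xi, -, hxi⟩ := exists_of_isPullback (sqT i) x z h2
      exact ⟨xi, hxi⟩
    have hf'iso : IsIso f' :=
      (Groth.Agent.Lib.AlgSpIso_helper7.isLocalOnBase_fpqc_isomorphisms
        (fun i => pullback j (g i)) (fun i => pullback.fst j (g i)) hY' hYi' hcov' f' hX Xi r q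
        hXi sqT).2 hiso
    rw [← hf']
    exact repWith_comp @IsOpenImmersion (repWith_of_isIso @IsOpenImmersion f') hj

end Groth.Agent.S10531
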