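import Groth.Statements.S19547
import Mathlib
-- import your own Groth.Agent.* helpers here

set_option autoImplicit false
universe u
open TensorProduct
open Desc

namespace Groth.Agent.S19547

/-- Let A → A' be a faithfully flat homomorphism of commutative rings, M' an A'-module and φ : M' ⊗_A A'
→ A' ⊗_A M' an isomorphism of (A' ⊗_A A')-modules for the diagonal actions (x ⊗ y)(u ⊗ z) = xu ⊗ yz
and (x ⊗ y)(z ⊗ u) = xz ⊗ yu, satisfying the cocycle condition φ_13 = φ_23 ∘ φ_12 between the three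
pullbacks to A' ⊗_A A' ⊗_A A'. Here linearity over A' ⊗_A A' is stated on the generators x ⊗ 1 and 1
⊗ y, and the cocycle condition on pure tensors u ⊗ a ⊗ b: writing φ(u ⊗ a) = Σ a_i ⊗ u_i, it says Σ
a_i ⊗ φ(u_i ⊗ b) = Σ b_j ⊗ a ⊗ u'_j where φ(u ⊗ b) = Σ b_j ⊗ u'_j. Let M = {u ∈ M' : φ(u ⊗ 1) = 1 ⊗
u}, an A-submodule of M'. Then the canonical map λ : A' ⊗_A M → M', x ⊗ u ↦ xu, is an isomorphism. -/
theorem result (A A' : Type u) [CommRing A] [CommRing A']
    [Algebra A A'] [Module.FaithfullyFlat A A'] (M' : Type u) [AddCommGroup M'] [Module A M']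
    [Module A' M'] [IsScalarTower A A' M']
    (φ : M' ⊗[A] A' →ₗ[A] A' ⊗[A] M') (hφ : Function.Bijective φ)
    (h1 : ∀ (x : A') (u : M') (z : A'),
      φ ((x • u) ⊗ₜ[A] z) = LinearMap.rTensor M' (LinearMap.mulLeft A x) (φ (u ⊗ₜ[A] z)))
    (h2 : ∀ (y : A') (u : M') (z : A'),
      φ (u ⊗ₜ[A] (y * z)) = LinearMap.lTensor A' (Algebra.lsmul A A M' y) (φ (u ⊗ₜ[A] z)))
    (hcoc : ∀ (u : M') (a b : A'),
      LinearMap.lTensor A' φ (TensorProduct.assoc A A' M' A' (LinearMap.rTensor A' φ ((u ⊗ₜ[A] a) ⊗ₜ[A] b))) =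
        LinearMap.lTensor A' (TensorProduct.mk A A' M' a) (φ (u ⊗ₜ[A] b)))
    (M : Submodule A M') (hM : ∀ u : M', u ∈ M ↔ φ (u ⊗ₜ[A] (1 : A')) = (1 : A') ⊗ₜ[A] u) :
    Function.Bijective
      ((TensorProduct.lift (Algebra.lsmul A A M').toLinearMap) ∘ₗ (LinearMap.lTensor A' M.subtype)) := by

  haveI : Module.Flat A A' := inferInstance
  -- the two maps `M' → A' ⊗ M'`
  let α : M' →ₗ[A] A' ⊗[A] M' := TensorProduct.mk A A' M' 1
  let β : M' →ₗ[A] A' ⊗[A] M' := φ ∘ₗ ((TensorProduct.mk A M' A').flip 1)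
  have hβ : ∀ u : M', β u = φ (u ⊗ₜ[A] (1 : A')) := fun u => rfl
  have hα : ∀ u : M', α u = (1 : A') ⊗ₜ[A] u := fun u => rfl
  have hex : Function.Exact M.subtype (α - β) := by
    intro u
    constructor
    · intro hu
      have : u ∈ M := by
        rw [hM]
        rw [LinearMap.sub_apply, sub_eq_zero] at hu
        exact hu.symm
      exact ⟨⟨u, this⟩, rfl⟩
    · rintro ⟨⟨v, hv⟩, rfl⟩
      rw [LinearMap.sub_apply, sub_eq_zero]
      exact ((hM v).1 hv).symm
  have hexT : Function.Exact (M.subtype.rTensor A') ((α - β).rTensor A') :=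
    Module.Flat.rTensor_exact A' hex
  -- the comparison isomorphism
  let φe : (M' ⊗[A] A') ≃ₗ[A] (A' ⊗[A] M') := LinearEquiv.ofBijective φ hφ
  let Θ : (A' ⊗[A] M') ⊗[A] A' →ₗ[A] A' ⊗[A] (A' ⊗[A] M') :=
    (LinearMap.lTensor A' φ) ∘ₗ (TensorProduct.assoc A A' M' A').toLinearMap
  have hΘinj : Function.Injective Θ := by
    have : Θ = ((LinearEquiv.lTensor A' φe).toLinearMap) ∘ₗ
        (TensorProduct.assoc A A' M' A').toLinearMap := by
      ext; rfl
    rw [this]
    exact (LinearEquiv.lTensor A' φe).injective.comp (TensorProduct.assoc A A' M' A').injective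
  have hid1 : Θ ∘ₗ (α.rTensor A') = (TensorProduct.mk A A' (A' ⊗[A] M') 1) ∘ₗ φ := by
    apply TensorProduct.ext'
    intro u b
    simp only [LinearMap.comp_apply, LinearMap.rTensor_tmul, Θ, hα, LinearEquiv.coe_coe,
      TensorProduct.assoc_tmul, LinearMap.lTensor_tmul, TensorProduct.mk_apply]
  have hid2 : Θ ∘ₗ (β.rTensor A') = (LinearMap.lTensor A' (TensorProduct.mk A A' M' 1)) ∘ₗ φ := by
    apply TensorProduct.ext'
    intro u b
    have := hcoc u 1 b
    simp only [LinearMap.comp_apply, LinearMap.rTensor_tmul, Θ, hβ, LinearEquiv.coe_coe]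
    rw [LinearMap.rTensor_tmul] at this
    exact this
  -- `φ` on `M ⊗ A'`
  let lam : A' ⊗[A] M →ₗ[A] M' :=
    (TensorProduct.lift (Algebra.lsmul A A M').toLinearMap) ∘ₗ (LinearMap.lTensor A' M.subtype)
  have hid3 : φ ∘ₗ (M.subtype.rTensor A') = α ∘ₗ lam ∘ₗ (TensorProduct.comm A M A').toLinearMap := by
    apply TensorProduct.ext'
    intro u a
    simp only [LinearMap.comp_apply, LinearMap.rTensor_tmul, LinearEquiv.coe_coe,
      TensorProduct.comm_tmul, lam, LinearMap.lTensor_tmul, TensorProduct.lift.tmul, hα,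
      Submodule.subtype_apply]
    have h2' := h2 a (u : M') 1
    rw [mul_one, (hM u).1 u.2, LinearMap.lTensor_tmul] at h2'
    rw [h2']
    rfl
  constructor
  · -- injectivity
    rw [← LinearMap.ker_eq_bot, LinearMap.ker_eq_bot']
    intro η hη
    have hη' : lam η = 0 := hη
    have h0 : φ ((M.subtype.rTensor A') ((TensorProduct.comm A M A').symm η)) = 0 := by
      have := LinearMap.congr_fun hid3 ((TensorProduct.comm A M A').symm η)
      simp only [LinearMap.comp_apply, LinearEquiv.coe_coe, LinearEquiv.apply_symm_apply] at this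
      rw [this, hη', map_zero]
    have h1' : (M.subtype.rTensor A') ((TensorProduct.comm A M A').symm η) = 0 :=
      hφ.1 (h0.trans (map_zero φ).symm)
    have hinj : Function.Injective (M.subtype.rTensor A') :=
      Module.Flat.rTensor_preserves_injective_linearMap _ M.subtype_injective
    have h2' : (TensorProduct.comm A M A').symm η = 0 := hinj (h1'.trans (map_zero _).symm)
    exact (LinearEquiv.map_eq_zero_iff _).1 h2'
  · -- surjectivity
    intro u'
    obtain ⟨ξ, hξ⟩ := hφ.2 ((1 : A') ⊗ₜ[A] u')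
    have hker : ((α - β).rTensor A') ξ = 0 := by
      apply hΘinj
      rw [map_zero, LinearMap.rTensor_sub]
      change Θ ((α.rTensor A') ξ - (β.rTensor A') ξ) = 0
      rw [map_sub, sub_eq_zero]
      have e1 := LinearMap.congr_fun hid1 ξ
      have e2 := LinearMap.congr_fun hid2 ξ
      simp only [LinearMap.comp_apply] at e1 e2
      rw [e1, e2, hξ, LinearMap.lTensor_tmul]
      rfl
    obtain ⟨ζ, hζ⟩ := (hexT ξ).1 hker
    refine ⟨TensorProduct.comm A M A' ζ, ?_⟩
    apply Module.FaithfullyFlat.tensorProduct_mk_injective (A := A) (B := A') M'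
    have := LinearMap.congr_fun hid3 ζ
    simp only [LinearMap.comp_apply, LinearEquiv.coe_coe] at this
    rw [hζ, hξ] at this
    exact this.symm

end Groth.Agent.S19547
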