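import Groth.Statements.S4818
import Mathlib
import Groth.Agent.Lib.LimCI_helper7

set_option autoImplicit false
universe u
open CategoryTheory AlgebraicGeometry
open Lim8

namespace Groth.Agent.S4818

open CategoryTheory.Limits in
/-- Let S = lim S_i be a cofiltered limit of schemes with affine transition maps and S_{i₀} a
quasi-compact stage; let ι₀ : Z₀ ⟶ S_{i₀} be a subscheme of finite presentation (an immersion which
is locally of finite presentation and quasi-compact). Then the base change Z₀ ×_{S_{i₀}} S ⟶ S of ι₀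
is a closed immersion if and only if, for some index j over i₀, the base change Z₀ ×_{S_{i₀}} S_j ⟶
S_j is a closed immersion. This is the case of closed subschemes. -/
theorem result {I : Type u} [SmallCategory I] [IsCofiltered I]
    (D : I ⥤ Scheme.{u}) (c : Limits.Cone D) (hc : Limits.IsLimit c)
    [∀ (i j : I) (f : i ⟶ j), IsAffineHom (D.map f)] (i₀ : I) [CompactSpace (D.obj i₀)]
    {Z₀ : Scheme.{u}} (ι₀ : Z₀ ⟶ D.obj i₀) [IsImmersion ι₀] [LocallyOfFinitePresentation ι₀] [QuasiCompact ι₀] :
    IsClosedImmersion (pullback.snd ι₀ (c.π.app i₀)) ↔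
      ∃ (j : I) (φ : j ⟶ i₀), IsClosedImmersion (pullback.snd ι₀ (D.map φ)) := by
  constructor
  · intro hP
    exact Groth.Agent.Lib.LimIsoH7.exists_snd_of_compact (P := @IsClosedImmersion)
      (H := fun f => LocallyOfFiniteType f ∧ QuasiCompact f ∧ QuasiSeparated f)
      Groth.Agent.Lib.LimCIH7.affineStage_isClosedImmersion
      (fun f g h => by
        obtain ⟨h1, h2, h3⟩ := h
        exact ⟨inferInstance, inferInstance, inferInstance⟩)
      D c hc i₀ ι₀ ⟨inferInstance, inferInstance, inferInstance⟩ hP
  · rintro ⟨j, φ, hj⟩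
    rw [← c.w φ]
    exact Groth.Agent.Lib.LimIsoH7.snd_comp (P := @IsClosedImmersion) ι₀ (D.map φ) (c.π.app j) hj

end Groth.Agent.S4818
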