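import Groth.Statements.S4364
import Mathlib

set_option autoImplicit false
universe u
open FinCond

namespace Groth.Agent.S4364

set_option backward.isDefEq.respectTransparency.types false in
open AlgebraicGeometry in
open CategoryTheory in
/-- Let X and Y be S-schemes with Y locally of finite type over S, and let f, g : X -> Y be S-morphisms.
If f x = g x for some point x and the two induced homomorphisms of local rings O_{Y, f x} -> O_{X,
x} coincide, then f and g coincide on an open neighbourhood of x. No condition is imposed on X. (The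
published statement assumes Y of finite type over S; this row assumes Y only locally of finite type
over S, which is all the published proof uses.) -/
theorem result
    {X Y S : Scheme.{u}} (sX : X ⟶ S) (sY : Y ⟶ S) [LocallyOfFiniteType sY]
    (f g : X ⟶ Y) (hf : f ≫ sY = sX) (hg : g ≫ sY = sX) {x : X} (e : f x = g x)
    (H : f.stalkMap x =
      Y.presheaf.stalkSpecializes (Inseparable.of_eq e.symm).specializes ≫ g.stalkMap x) :
    ∃ U : X.Opens, x ∈ U ∧ U.ι ≫ f = U.ι ≫ g := by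
  subst hf
  obtain ⟨W, hW, hxW⟩ : ∃ W : S.Opens, IsAffineOpen W ∧ sY (f x) ∈ W := by
    obtain ⟨_, ⟨W, hW, rfl⟩, hxW, -⟩ := S.isBasis_affineOpens.exists_subset_of_mem_open
      (Set.mem_univ (sY (f x))) isOpen_univ
    exact ⟨W, hW, hxW⟩
  obtain ⟨V, hV, hxV, hVW⟩ : ∃ V : Y.Opens, IsAffineOpen V ∧ f x ∈ V ∧ V ≤ sY ⁻¹ᵁ W := by
    obtain ⟨_, ⟨V, hV, rfl⟩, hxV, hVW⟩ := Y.isBasis_affineOpens.exists_subset_of_mem_open
      (show f x ∈ sY ⁻¹ᵁ W from hxW) (sY ⁻¹ᵁ W).2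
    exact ⟨V, hV, hxV, fun y hy => hVW hy⟩
  have hxV' : g x ∈ V := e ▸ hxV
  obtain ⟨U₀, hU₀, hxU₀, hU₀V⟩ :
      ∃ U₀ : X.Opens, IsAffineOpen U₀ ∧ x ∈ U₀ ∧ U₀ ≤ f ⁻¹ᵁ V ⊓ g ⁻¹ᵁ V := by
    obtain ⟨_, ⟨U₀, hU₀, rfl⟩, hxU₀, hU₀V⟩ := X.isBasis_affineOpens.exists_subset_of_mem_open
      (show x ∈ f ⁻¹ᵁ V ⊓ g ⁻¹ᵁ V from ⟨hxV, hxV'⟩) (f ⁻¹ᵁ V ⊓ g ⁻¹ᵁ V).2
    exact ⟨U₀, hU₀, hxU₀, fun y hy => hU₀V hy⟩
  have hft := sY.finiteType_appLE hW hV hVW
  letI algWV : Algebra Γ(S, W) Γ(Y, V) := (sY.appLE W V hVW).hom.toAlgebra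
  obtain ⟨T, hT⟩ := (show Algebra.FiniteType Γ(S, W) Γ(Y, V) from hft).out
  have hgermHom : f.appLE V U₀ (hU₀V.trans inf_le_left) ≫ X.presheaf.germ U₀ x hxU₀ =
      g.appLE V U₀ (hU₀V.trans inf_le_right) ≫ X.presheaf.germ U₀ x hxU₀ := by
    simp only [Scheme.Hom.appLE, Category.assoc, X.presheaf.germ_res', ← Scheme.Hom.germ_stalkMap, H]
    simp only [TopCat.Presheaf.germ_stalkSpecializes_assoc, Scheme.Hom.germ_stalkMap]
  have res_res : ∀ {A B C : X.Opens} (i : A ⟶ B) (j : B ⟶ C) (k : A ⟶ C) (s : Γ(X, C)),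
      (X.presheaf.map i.op).hom ((X.presheaf.map j.op).hom s) = (X.presheaf.map k.op).hom s := by
    intro A B C i j k s
    have : k = i ≫ j := Subsingleton.elim _ _
    rw [this, op_comp, Functor.map_comp]; rfl
  have hex : ∀ T' : Finset Γ(Y, V), ∃ U' : X.Opens, x ∈ U' ∧ ∃ hle : U' ≤ U₀, ∀ t ∈ T',
      (X.presheaf.map (homOfLE hle).op).hom ((f.appLE V U₀ (hU₀V.trans inf_le_left)).hom t) =
      (X.presheaf.map (homOfLE hle).op).hom ((g.appLE V U₀ (hU₀V.trans inf_le_right)).hom t) := by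
    intro T'
    classical
    induction T' using Finset.induction_on with
    | empty => exact ⟨U₀, hxU₀, le_rfl, by simp⟩
    | insert a T' ha ih =>
      obtain ⟨U₁, hxU₁, hle₁, h₁⟩ := ih
      obtain ⟨U₂, hxU₂, i₁, i₂, h₂⟩ := X.presheaf.germ_eq x hxU₀ hxU₀ _ _
        (congrArg (fun φ : Γ(Y, V) ⟶ X.presheaf.stalk x => φ.hom a) hgermHom)
      refine ⟨U₁ ⊓ U₂, ⟨hxU₁, hxU₂⟩, inf_le_left.trans hle₁, ?_⟩
      intro t ht
      rcases Finset.mem_insert.mp ht with rfl | ht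
      · have := congrArg (X.presheaf.map (homOfLE (inf_le_right : U₁ ⊓ U₂ ≤ U₂)).op).hom h₂
        exact (res_res _ _ _ _).symm.trans (this.trans (res_res _ _ _ _))
      · have := congrArg (X.presheaf.map (homOfLE (inf_le_left : U₁ ⊓ U₂ ≤ U₁)).op).hom (h₁ t ht)
        exact (res_res _ _ _ _).symm.trans (this.trans (res_res _ _ _ _))
  obtain ⟨U', hxU', hle, hT'⟩ := hex T
  have hU'V : U' ≤ f ⁻¹ᵁ V ⊓ g ⁻¹ᵁ V := hle.trans hU₀V
  refine ⟨U', hxU', ?_⟩
  have appLE_eq : ∀ {h₁ h₂ : X ⟶ S} (eq : h₁ = h₂) (e₁ : U' ≤ h₁ ⁻¹ᵁ W) (e₂ : U' ≤ h₂ ⁻¹ᵁ W),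
      h₁.appLE W U' e₁ = h₂.appLE W U' e₂ := by
    rintro _ _ rfl _ _; rfl
  have happ : f.appLE V U' (hU'V.trans inf_le_left) = g.appLE V U' (hU'V.trans inf_le_right) := by
    letI algWU : Algebra Γ(S, W) Γ(X, U') :=
      (sY.appLE W V hVW ≫ f.appLE V U' (hU'V.trans inf_le_left)).hom.toAlgebra
    let F : Γ(Y, V) →ₐ[Γ(S, W)] Γ(X, U') :=
      { (f.appLE V U' (hU'V.trans inf_le_left)).hom with commutes' := fun r => rfl }
    let G : Γ(Y, V) →ₐ[Γ(S, W)] Γ(X, U') :=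
      { (g.appLE V U' (hU'V.trans inf_le_right)).hom with
        commutes' := fun r => by
          have h1 := Scheme.Hom.appLE_comp_appLE g sY W V U' hVW (hU'V.trans inf_le_right)
          have h2 := Scheme.Hom.appLE_comp_appLE f sY W V U' hVW (hU'V.trans inf_le_left)
          have h3 : sY.appLE W V hVW ≫ g.appLE V U' (hU'V.trans inf_le_right) =
              sY.appLE W V hVW ≫ f.appLE V U' (hU'V.trans inf_le_left) :=
            h1.trans ((appLE_eq hg _ _).trans h2.symm)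
          exact congrArg (fun φ : Γ(S, W) ⟶ Γ(X, U') => φ.hom r) h3 }
    have hFG : F = G := by
      apply AlgHom.ext_of_adjoin_eq_top hT
      intro t ht
      have h1 := hT' t ht
      have e1 : (X.presheaf.map (homOfLE hle).op).hom
          ((f.appLE V U₀ (hU₀V.trans inf_le_left)).hom t) =
          (f.appLE V U' (hU'V.trans inf_le_left)).hom t :=
        congrArg (fun φ : Γ(Y, V) ⟶ Γ(X, U') => φ.hom t)
          (Scheme.Hom.appLE_map f (hU₀V.trans inf_le_left) (homOfLE hle).op)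
      have e2 : (X.presheaf.map (homOfLE hle).op).hom
          ((g.appLE V U₀ (hU₀V.trans inf_le_right)).hom t) =
          (g.appLE V U' (hU'V.trans inf_le_right)).hom t :=
        congrArg (fun φ : Γ(Y, V) ⟶ Γ(X, U') => φ.hom t)
          (Scheme.Hom.appLE_map g (hU₀V.trans inf_le_right) (homOfLE hle).op)
      exact e1.symm.trans (h1.trans e2)
    ext1
    exact congrArg (fun φ : Γ(Y, V) →ₐ[Γ(S, W)] Γ(X, U') => (φ : Γ(Y, V) →+* Γ(X, U'))) hFG
  rw [← Scheme.Hom.resLE_comp_ι _ (hU'V.trans inf_le_left),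
    ← Scheme.Hom.resLE_comp_ι _ (hU'V.trans inf_le_right)]
  congr 1
  have : IsAffine V := hV
  suffices hsuff : ∀ (U₁ : X.Opens) (V₁ : Y.Opens) (eU : U' = U₁) (eV : V = V₁),
      f.appLE V₁ U₁ (eU ▸ eV ▸ hU'V.trans inf_le_left) =
        g.appLE V₁ U₁ (eU ▸ eV ▸ hU'V.trans inf_le_right) by
    rw [← cancel_mono V.toScheme.isoSpec.hom]
    simp only [Scheme.isoSpec, asIso_hom, Scheme.toSpecΓ_naturality,
      Scheme.Hom.app_eq_appLE, Scheme.Hom.resLE_appLE]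
    congr 2
    apply hsuff <;> simp
  rintro U₁ V₁ rfl rfl
  exact happ

end Groth.Agent.S4364
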