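import Groth.Statements.S6370
import Mathlib
import Groth.Agent.Lib.KrullAkizuki5_helper6
-- import your own Groth.Agent.* helpers here

set_option autoImplicit false
universe u
open CAlg

namespace Groth.Agent.S6370

/-- For a one-dimensional Noetherian domain A with fraction field K, a finite field extension L of K
(separable or not) and B the integral closure of A in L: B is a Dedekind domain, Spec B → Spec A is
surjective and has finite fibres, and at every maximal ideal Q of B the residue field B/Q is finite
over A/(Q ∩ A). -/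
theorem result (A K L B : Type u) [CommRing A] [IsDomain A]
    [IsNoetherianRing A] (hdim : ringKrullDim A = 1) [Field K] [Algebra A K] [IsFractionRing A K]
    [Field L] [Algebra K L] [FiniteDimensional K L] [Algebra A L] [IsScalarTower A K L]
    [CommRing B] [IsDomain B] [Algebra A B] [Algebra B L] [IsScalarTower A B L] [IsIntegralClosure B A L] :
    IsDedekindDomain B ∧ Function.Surjective (PrimeSpectrum.comap (algebraMap A B)) ∧
      (∀ p : PrimeSpectrum A, (PrimeSpectrum.comap (algebraMap A B) ⁻¹' {p}).Finite) ∧
      ∀ Q : Ideal B, Q.IsMaximal → Module.Finite (A ⧸ Q.comap (algebraMap A B)) (B ⧸ Q) := by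

  have hdim' : ringKrullDim A ≤ 1 := le_of_eq hdim
  have hBL : Function.Injective (algebraMap B L) := IsIntegralClosure.algebraMap_injective B A L
  haveI hint : Algebra.IsIntegral A B := IsIntegralClosure.isIntegral_algebra A L
  have hAL : Function.Injective (algebraMap A L) := by
    rw [IsScalarTower.algebraMap_eq A K L]
    exact (algebraMap K L).injective.comp (IsFractionRing.injective A K)
  have hAB : Function.Injective (algebraMap A B) := by
    have : (algebraMap A L : A → L) = (algebraMap B L) ∘ (algebraMap A B) := by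
      funext a
      exact IsScalarTower.algebraMap_apply A B L a
    rw [this] at hAL
    exact Function.Injective.of_comp hAL
  haveI hfrac : IsFractionRing B L := IsIntegralClosure.isFractionRing_of_finite_extension A K L B
  haveI hNoeth : IsNoetherianRing B := Groth.Agent.Lib.KA.krull_akizuki K L hdim' hBL
  haveI hKD : Ring.KrullDimLE 1 A := Ring.krullDimLE_iff.2 hdim'
  haveI hdimA : Ring.DimensionLEOne A :=
    ⟨fun {p} hp hprime => Ring.krullDimLE_one_iff_of_noZeroDivisors.1 hKD p hp hprime⟩
  haveI hdimB : Ring.DimensionLEOne B := Ring.DimensionLEOne.of_isIntegral A B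
  have hnotfield : ¬ IsField A := by
    intro hf
    rw [ringKrullDim_eq_zero_of_isField hf] at hdim
    exact zero_ne_one hdim
  refine ⟨?_, ?_, ?_, ?_⟩
  · rw [isDedekindDomain_iff B L]
    refine ⟨inferInstance, hNoeth, hdimB, ?_⟩
    intro x hx
    have hxA : IsIntegral A x := isIntegral_trans (R := A) x hx
    exact (IsIntegralClosure.isIntegral_iff (A := B) (R := A) (B := L)).1 hxA
  · intro p
    have hker : RingHom.ker (algebraMap A B) ≤ p.asIdeal := by
      rw [(RingHom.injective_iff_ker_eq_bot _).1 hAB]; exact bot_le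
    obtain ⟨Q, hQ, hQp⟩ :=
      Ideal.exists_ideal_over_prime_of_isIntegral_of_isDomain (S := B) p.asIdeal hker
    exact ⟨⟨Q, hQ⟩, PrimeSpectrum.ext hQp⟩
  · intro p
    by_cases hp : p.asIdeal = ⊥
    · apply Set.Subsingleton.finite
      intro Q hQ Q' hQ'
      have h1 : Q.asIdeal.comap (algebraMap A B) = ⊥ := by
        have := congrArg PrimeSpectrum.asIdeal (Set.mem_singleton_iff.1 hQ)
        rw [← hp, ← this]; rfl
      have h2 : Q'.asIdeal.comap (algebraMap A B) = ⊥ := by
        have := congrArg PrimeSpectrum.asIdeal (Set.mem_singleton_iff.1 hQ')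
        rw [← hp, ← this]; rfl
      apply PrimeSpectrum.ext
      rw [Ideal.eq_bot_of_comap_eq_bot h1, Ideal.eq_bot_of_comap_eq_bot h2]
    · obtain ⟨x, hxp, hx0⟩ := Submodule.exists_mem_ne_zero_of_ne_bot hp
      have hfin := Groth.Agent.Lib.KA.finite_primes_of_mem (A := B) K L hdim' hBL x hx0
      refine (hfin.preimage (f := PrimeSpectrum.asIdeal) ?_).subset ?_
      · intro Q _ Q' _ h
        exact PrimeSpectrum.ext h
      · intro Q hQ
        refine ⟨Q.isPrime, ?_⟩
        have := congrArg PrimeSpectrum.asIdeal (Set.mem_singleton_iff.1 hQ)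
        have h1 : Q.asIdeal.comap (algebraMap A B) = p.asIdeal := this
        rw [← h1, Ideal.mem_comap] at hxp
        exact hxp
  · intro Q hQ
    have hQ0 : Q ≠ ⊥ := by
      intro h
      rw [h] at hQ
      have hfB : IsField B := Ring.isField_iff_maximal_bot.2 hQ
      exact hnotfield (isField_of_isIntegral_of_isField hAB hfB)
    obtain ⟨x, hx0, hxQ⟩ := Groth.Agent.Lib.KA.exists_ne_zero_mem (R := A) K L hBL Q hQ0
    haveI : Module.Finite A (B ⧸ Q) :=
      Groth.Agent.Lib.KA.finite_quotient_of_mem K L hdim' hBL x hx0 Q hxQ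
    exact Module.Finite.of_restrictScalars_finite A (A ⧸ Q.comap (algebraMap A B)) (B ⧸ Q)

end Groth.Agent.S6370
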