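import Groth.Statements.S1640
import Mathlib
import Groth.Agent.Lib.GlueDimOne2_helper6
-- import your own Groth.Agent.* helpers here

set_option autoImplicit false
universe u
open Variety

namespace Groth.Agent.S1640

/-- Let K be a field, A ⊆ K a subring with fraction field K, and B_1, …, B_r ⊆ K Noetherian
one-dimensional subrings with finitely many maximal ideals and fraction field K, such that for each
i the subring generated by A and B_i is all of K. Then some nonzero x ∈ A has x⁻¹ lying in B_i and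
in the Jacobson radical of B_i for every i. -/
theorem result (K : Type u) [Field K] (A : Subring K) [IsFractionRing A K]
    (r : ℕ) (B : Fin r → Subring K) [∀ i, IsNoetherianRing (B i)] [∀ i, IsFractionRing (B i) K]
    (hdim : ∀ i, ringKrullDim (B i) = 1) (hsl : ∀ i, Finite (MaximalSpectrum (B i)))
    (hgen : ∀ i, A ⊔ B i = ⊤) :
    ∃ x : K, x ∈ A ∧ x ≠ 0 ∧ ∀ i, ∃ hx : x⁻¹ ∈ B i, (⟨x⁻¹, hx⟩ : B i) ∈ (⊥ : Ideal (B i)).jacobson := by

  classical
  haveI hDed : ∀ i, IsDedekindDomain (integralClosure (B i) K) := fun i =>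
    Groth.Agent.Lib.GlueDimOne.isDedekindDomain_integralClosure (B i) K (hdim i)
  haveI hfrac : ∀ i, IsFractionRing (integralClosure (B i) K) K := fun i =>
    Groth.Agent.Lib.GlueDimOne.isFractionRing_integralClosure (B i) K
  haveI hfin : ∀ i, Finite (IsDedekindDomain.HeightOneSpectrum (integralClosure (B i) K)) :=
    fun i => Groth.Agent.Lib.GlueDimOne.finite_heightOneSpectrum_integralClosure (B i) K
      (hdim i) (hsl i)
  let ι := Σ i : Fin r, IsDedekindDomain.HeightOneSpectrum (integralClosure (B i) K)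
  haveI : Finite ι := inferInstance
  haveI : Fintype ι := Fintype.ofFinite ι
  let v : ι → Valuation K (WithZero (Multiplicative ℤ)) := fun j => j.2.valuation K
  have hrange : ∀ i, (algebraMap (B i) K).range = B i := fun i => Subring.range_subtype (B i)
  have hex : ∀ j ∈ (Finset.univ : Finset ι), ∃ y ∈ A, 1 < v j y := by
    rintro ⟨i, w⟩ -
    exact Groth.Agent.Lib.GlueDimOne.exists_mem_one_lt_valuation (B i) K (hdim i) A
      (by rw [hrange i]; exact hgen i) (hDed i) (hfrac i) w
  obtain ⟨x₀, hx₀A, hx₀⟩ := Groth.Agent.Lib.ValAvoid.exists_mem_forall_one_lt A v Finset.univ hex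
  obtain ⟨x, hxA, hx0, hx⟩ : ∃ x ∈ A, x ≠ 0 ∧ ∀ j : ι, 1 < v j x := by
    by_cases h0 : x₀ = 0
    · refine ⟨1, A.one_mem, one_ne_zero, fun j => ?_⟩
      exfalso
      have := hx₀ j (Finset.mem_univ j)
      rw [h0, map_zero] at this
      exact not_lt_of_ge zero_le this
    · exact ⟨x₀, hx₀A, h0, fun j => hx₀ j (Finset.mem_univ j)⟩
  have hN : ∀ i, ∃ N : ℕ, ∀ n ≥ N, ∃ b : B i, algebraMap (B i) K b = (x⁻¹) ^ n ∧
      b ∈ (⊥ : Ideal (B i)).jacobson := fun i =>
    Groth.Agent.Lib.GlueDimOne.exists_forall_inv_pow_mem_jacobson (B i) K (hdim i) (hDed i)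
      (hfrac i) x (fun w => hx ⟨i, w⟩)
  choose N hN using hN
  let n := Finset.univ.sup N
  refine ⟨x ^ n, A.pow_mem hxA n, pow_ne_zero n hx0, fun i => ?_⟩
  obtain ⟨b, hb, hbj⟩ := hN i n (Finset.le_sup (Finset.mem_univ i))
  have hbx : (b : K) = (x ^ n)⁻¹ := by
    rw [← inv_pow]
    exact hb
  refine ⟨hbx ▸ b.2, ?_⟩
  have : (⟨(x ^ n)⁻¹, hbx ▸ b.2⟩ : B i) = b := Subtype.ext hbx.symm
  rw [this]
  exact hbj

end Groth.Agent.S1640
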