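import Groth.Statements.S7665
import Mathlib
import Groth.Agent.Lib.GlueDimOne6_helper6
import Groth.Agent.Lib.GlueDimOne8_helper6
import Groth.Agent.Lib.GlueDimOne9_helper6
-- import your own Groth.Agent.* helpers here

set_option autoImplicit false
universe u
open CategoryTheory CategoryTheory.Limits AlgebraicGeometry
open Variety

namespace Groth.Agent.S7665

/-- Let K be a field and A_1, …, A_r ⊆ K (r ≥ 1) Noetherian semi-local rings of dimension one with
fraction field K, and assume A_i and A_j generate K as a ring whenever i ≠ j. Then A = A_1 ∩ … ∩ A_r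
is a Noetherian semi-local domain of dimension one with fraction field K contained in every A_i,
each Spec A_i → Spec A is an open immersion, Spec A is the union of their images, and every closed
point of Spec A belongs to the image of exactly one Spec A_i. (The published statement asserts only
that some such subring A exists; this row takes A to be the intersection A_1 ∩ … ∩ A_r.) -/
theorem result (K : Type u) [Field K] (r : ℕ) (hr : 1 ≤ r)
    (A : Fin r → Subring K) [∀ i, IsNoetherianRing (A i)] [∀ i, IsFractionRing (A i) K]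
    (hdim : ∀ i, ringKrullDim (A i) = 1) (hsl : ∀ i, Finite (MaximalSpectrum (A i)))
    (hgen : ∀ i j, i ≠ j → A i ⊔ A j = ⊤) :
    IsNoetherianRing ↥(⨅ i, A i) ∧ ringKrullDim ↥(⨅ i, A i) = 1 ∧ Finite (MaximalSpectrum ↥(⨅ i, A i)) ∧
      IsFractionRing ↥(⨅ i, A i) K ∧
      (∀ i, IsOpenImmersion (Spec.map (CommRingCat.ofHom (Subring.inclusion (iInf_le A i))))) ∧
      (⋃ i, Set.range (Spec.map (CommRingCat.ofHom (Subring.inclusion (iInf_le A i)))).base) = Set.univ ∧
      (∀ m : PrimeSpectrum ↥(⨅ i, A i), m.asIdeal.IsMaximal →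
        ∃! i, m ∈ Set.range (Spec.map (CommRingCat.ofHom (Subring.inclusion (iInf_le A i)))).base) := by

  classical
  haveI : Nonempty (Fin r) := ⟨⟨0, by omega⟩⟩
  have hX := Groth.Agent.Lib.GlueDimOne.exists_poles K r A hdim hsl hgen
  choose x hxA hx0 hx using hX
  obtain ⟨f, hsum, hf⟩ := Groth.Agent.Lib.GlueDimOne.exists_partition K A x hxA hx0
    (fun i j hj => hx i j hj)
  have hfmem : ∀ i j, f i ∈ A j := by
    intro i j
    by_cases h : j = i
    · rw [h]; exact (hf i).2.1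
    · exact ((hf i).2.2.2 j h).mem
  obtain ⟨fR, hfR⟩ : ∃ fR : Fin r → ↥(⨅ i, A i), fR = fun i =>
      ⟨f i, Subring.mem_iInf.2 (hfmem i)⟩ := ⟨_, rfl⟩
  letI alg : ∀ i, Algebra ↥(⨅ i, A i) (A i) := fun i =>
    (Subring.inclusion (iInf_le A i)).toAlgebra
  haveI loc : ∀ i, IsLocalization.Away (fR i) (A i) := by
    intro i
    rw [hfR]
    refine Groth.Agent.Lib.GlueDimOne.isLocalization_away_iInf K A i (f i) (hfmem i) (hf i).2.2.1
      (hf i).1 (fun a ha j => ?_)
    by_cases h : j = i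
    · refine ⟨0, ?_⟩
      rw [h, pow_zero, one_mul]; exact ha
    · exact Groth.Agent.Lib.GlueDimOne.exists_pow_mul_mem K (A j) (le_of_eq (hdim j)) (f i) _
        ((hf i).2.2.2 j h).2 a
  have hspan : Ideal.span (Set.range fR) = ⊤ := by
    rw [Ideal.eq_top_iff_one]
    have h1 : (1 : ↥(⨅ i, A i)) = ∑ i, fR i := by
      apply Subtype.ext
      rw [hfR]
      push_cast
      exact hsum.symm
    rw [h1]
    exact Ideal.sum_mem _ (fun i _ => Ideal.subset_span ⟨i, rfl⟩)
  have hDLO : ∀ i, Ring.DimensionLEOne (A i) := by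
    intro i
    have hKD : Ring.KrullDimLE 1 (A i) := Ring.krullDimLE_iff.2 (le_of_eq (hdim i))
    exact ⟨fun {p} hp hprime => Ring.krullDimLE_one_iff_of_noZeroDivisors.1 hKD p hp hprime⟩
  have hNoeth : IsNoetherianRing ↥(⨅ i, A i) :=
    Groth.Agent.Lib.GlueDimOne.isNoetherianRing_of_away_cover fR hspan (fun i => A i)
  have hDim1 : Ring.DimensionLEOne ↥(⨅ i, A i) :=
    Groth.Agent.Lib.GlueDimOne.dimensionLEOne_of_away_cover fR (fun i => A i) hspan hDLO
  have i₀ : Fin r := ⟨0, by omega⟩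
  have hnotfield : ¬ IsField ↥(⨅ i, A i) := by
    intro hfield
    have hA0 : ¬ IsField (A i₀) := by
      intro h
      have := hdim i₀
      rw [ringKrullDim_eq_zero_of_isField h] at this
      exact zero_ne_one this
    obtain ⟨P, hP0, hPprime⟩ := Ring.not_isField_iff_exists_prime.1 hA0
    apply hP0
    have h1 := IsLocalization.map_comap (Submonoid.powers (fR i₀)) (A i₀) P
    have h2 : P.comap (algebraMap ↥(⨅ i, A i) (A i₀)) = ⊥ := by
      have hmax : (⊥ : Ideal ↥(⨅ i, A i)).IsMaximal := Ring.isField_iff_maximal_bot.1 hfield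
      haveI := hPprime
      have hprime : (P.comap (algebraMap ↥(⨅ i, A i) (A i₀))).IsPrime := Ideal.comap_isPrime _ P
      exact (hmax.eq_of_le hprime.ne_top bot_le).symm
    have h1' : Ideal.map (algebraMap ↥(⨅ i, A i) (A i₀))
        (P.comap (algebraMap ↥(⨅ i, A i) (A i₀))) = P := h1
    rw [h2, Ideal.map_bot] at h1'
    exact h1'.symm
  have hdimR : ringKrullDim ↥(⨅ i, A i) = 1 :=
    Groth.Agent.Lib.GlueDimOne.ringKrullDim_eq_one_of_dimensionLEOne hnotfield hDim1
  haveI := hsl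
  have hfinR : Finite (MaximalSpectrum ↥(⨅ i, A i)) :=
    Groth.Agent.Lib.GlueDimOne.finite_maximalSpectrum_of_away_cover fR (fun i => A i) hnotfield
      hspan hDLO
  have hA : ∀ k, ∀ a ∈ A k, ∃ n : ℕ, ((fR k : ↥(⨅ i, A i)) : K) ^ n * a ∈ ⨅ i, A i := by
    intro k a ha
    obtain ⟨⟨ρ, s⟩, hρ⟩ := IsLocalization.surj (Submonoid.powers (fR k)) (⟨a, ha⟩ : A k)
    obtain ⟨n, hn⟩ := s.2
    refine ⟨n, ?_⟩
    have h1 : (a : K) * ((s : ↥(⨅ i, A i)) : K) = (ρ : K) := congrArg Subtype.val hρ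
    rw [← hn] at h1
    push_cast at h1
    rw [mul_comm, h1]
    exact ρ.2
  have hfR0 : ∀ k, ((fR k : ↥(⨅ i, A i)) : K) ≠ 0 := by
    intro k
    rw [hfR]
    exact (hf k).1
  have hfracR : IsFractionRing ↥(⨅ i, A i) K := by
    apply Groth.Agent.Lib.GlueDimOne.isFractionRing_of_le K (⨅ i, A i) (A i₀)
    intro a ha
    obtain ⟨n, hn⟩ := hA i₀ a ha
    exact ⟨_, ((fR i₀) ^ n).2, pow_ne_zero n (hfR0 i₀), hn⟩
  have hopen : ∀ i, IsOpenImmersion (Spec.map (CommRingCat.ofHom
      (Subring.inclusion (iInf_le A i)))) := fun i =>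
    IsOpenImmersion.of_isLocalization (R := ↥(⨅ i, A i)) (S := A i) (fR i)
  have hrange : ∀ i (P : PrimeSpectrum ↥(⨅ i, A i)),
      P ∈ Set.range (PrimeSpectrum.comap (algebraMap ↥(⨅ i, A i) (A i))) ↔
        fR i ∉ P.asIdeal := by
    intro i P
    rw [PrimeSpectrum.localization_away_comap_range (R := ↥(⨅ i, A i)) (A i) (fR i)]
    rfl
  have hcover : ∀ P : PrimeSpectrum ↥(⨅ i, A i), ∃ i, fR i ∉ P.asIdeal := fun P =>
    Groth.Agent.Lib.GlueDimOne.exists_notMem_of_span_eq_top fR hspan P.asIdeal P.isPrime.ne_top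
  refine ⟨hNoeth, hdimR, hfinR, hfracR, hopen, ?_, ?_⟩
  · apply Set.eq_univ_of_forall
    intro P
    obtain ⟨i, hi⟩ := hcover P
    exact Set.mem_iUnion.2 ⟨i, (hrange i P).2 hi⟩
  · intro m hm
    obtain ⟨i, hi⟩ := hcover m
    refine ⟨i, (hrange i m).2 hi, fun j hj => ?_⟩
    by_contra hji
    have hj' : fR j ∉ m.asIdeal := (hrange j m).1 hj
    have hm0 : m.asIdeal ≠ ⊥ := by
      intro h
      rw [h] at hm
      exact hnotfield (Ring.isField_iff_maximal_bot.2 hm)
    exact Groth.Agent.Lib.GlueDimOne.false_of_two_charts K (⨅ i, A i) (A j) (A i)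
      (hgen j i hji) m.asIdeal m.isPrime hm0 (fR j) (fR i) hj' hi (hA j) (hA i)

end Groth.Agent.S7665
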