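import Groth.Statements.S13709
import Mathlib

set_option autoImplicit false
universe u
open CategoryTheory CategoryTheory.Limits AlgebraicGeometry
open ZeroCyc

namespace Groth.Agent.S13709

/-- Let f : X → Y be a quasi-compact morphism of schemes and g : Y' → Y a faithfully flat morphism, i.e.
flat and surjective, with no quasi-compactness assumption on g. If the base change X ×_Y Y' → Y' of
f along g is a homeomorphism on underlying spaces, then so is f. -/
theorem result {X Y Y' : Scheme.{u}} (f : X ⟶ Y) (g : Y' ⟶ Y)
    [Flat g] [Surjective g] [QuasiCompact f] (h : IsHomeomorph (pullback.snd f g).base) :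
    IsHomeomorph f.base := by
  have hcond := pullback.condition (f := f) (g := g)
  have hc : ∀ z : ↑(pullback f g), f (pullback.fst f g z) = g (pullback.snd f g z) := fun z => by
    simp only [← Scheme.Hom.comp_apply, hcond]
  have hinj' : Function.Injective (pullback.snd f g) := h.injective
  have hinj : Function.Injective f := by
    intro x₁ x₂ hx
    obtain ⟨y', hy'⟩ := Surjective.surj (f := g) (f x₁)
    obtain ⟨z₁, hz₁, hz₁'⟩ := Scheme.Pullback.exists_preimage_pullback (f := f) (g := g) x₁ y' hy'.symm
    obtain ⟨z₂, hz₂, hz₂'⟩ := Scheme.Pullback.exists_preimage_pullback (f := f) (g := g) x₂ y'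
      (hx ▸ hy'.symm)
    have : z₁ = z₂ := hinj' (hz₁'.trans hz₂'.symm)
    rw [← hz₁, ← hz₂, this]
  have hsurj : Function.Surjective f := by
    intro y
    obtain ⟨y', hy'⟩ := Surjective.surj (f := g) y
    obtain ⟨z, hz⟩ := h.surjective y'
    exact ⟨pullback.fst f g z, by rw [hc, hz, hy']⟩
  have hspec : SpecializingMap f := by
    intro x y hxy
    obtain ⟨y', hy'⟩ := Surjective.surj (f := g) y
    obtain ⟨y'', hy''s, hy''⟩ := Flat.generalizingMap g (a := y') (b := f x) (by rw [hy']; exact hxy)
    obtain ⟨z'', hz''1, hz''2⟩ :=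
      Scheme.Pullback.exists_preimage_pullback (f := f) (g := g) x y'' hy''.symm
    have hsp' : SpecializingMap (pullback.snd f g) := h.isClosedMap.specializingMap
    obtain ⟨z', hz's, hz'⟩ := hsp' (a := z'') (b := y') (by rw [hz''2]; exact hy''s)
    refine ⟨pullback.fst f g z', ?_, ?_⟩
    · show x ⤳ _
      rw [← hz''1]
      exact hz's.map (pullback.fst f g).continuous
    · rw [hc, hz', hy']
  have hcl : IsClosedMap f := (isClosedMap_iff_specializingMap f).mpr hspec
  exact (isHomeomorph_iff_continuous_isClosedMap_bijective).mpr ⟨f.continuous, hcl, hinj, hsurj⟩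

end Groth.Agent.S13709
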