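import Groth.Statements.S19396
import Mathlib
import Groth.Agent.Lib.FunFldW_helper2

set_option autoImplicit false
universe u v
open FunFld

namespace Groth.Agent.S19396

/-- On an elliptic curve with base point 0, if f has a double pole at 0 and no other pole and g a triple
pole at 0 and no other pole, then for n ≥ 2 the functions 1, f, …, f^[n/2], g, fg, …, f^[(n−3)/2] g
form a basis of the space of functions with at most an n-fold pole at 0. Stated for a function field
K/k of one variable of genus 1 with a place P of degree 1 in the role of the curve and its base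
point: the family indexed by Fin (n/2 + 1) ⊕ Fin ((n − 1)/2), sending i on the left to f^i and i on
the right to f^i g, is linearly independent over k and spans L(nP). -/
theorem result (k : Type u) (K : Type v) [Field k] [Field K]
    [Algebra k K] (hK : FunFld.IsFunctionField k K) (hgen : FunFld.genus k K = 1)
    (P : FunFld.Place k K) (hP : P.deg = 1) (f g : K)
    (hf : f ∈ FunFld.L (Finsupp.single P 2)) (hf2 : P.ord f = -2)
    (hg : g ∈ FunFld.L (Finsupp.single P 3)) (hg3 : P.ord g = -3) (n : ℕ) (hn : 2 ≤ n) :
    LinearIndependent k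
        (Sum.elim (fun i : Fin (n / 2 + 1) => f ^ (i : ℕ)) (fun i : Fin ((n - 1) / 2) => f ^ (i : ℕ) * g)) ∧
      Submodule.span k (Set.range
        (Sum.elim (fun i : Fin (n / 2 + 1) => f ^ (i : ℕ)) (fun i : Fin ((n - 1) / 2) => f ^ (i : ℕ) * g))) =
        FunFld.L (Finsupp.single P (n : ℤ)) := by
  classical
  have hf0 : f ≠ 0 := by
    rintro rfl
    rw [FunFld.Place.ord_zero] at hf2
    omega
  have hg0 : g ≠ 0 := by
    rintro rfl
    rw [FunFld.Place.ord_zero] at hg3
    omega
  have hordL : ∀ i : ℕ, P.ord (f ^ i) = -2 * (i : ℤ) := by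
    intro i
    rw [FunFld.Place.ord_pow, hf2]; ring
  have hordR : ∀ i : ℕ, P.ord (f ^ i * g) = -2 * (i : ℤ) - 3 := by
    intro i
    rw [FunFld.Place.ord_mul P (pow_ne_zero i hf0) hg0, hordL, hg3]; ring
  have hord_of_val : ∀ x y : K, P.1 x = P.1 y → P.ord x = P.ord y := by
    intro x y h
    unfold FunFld.Place.ord
    rw [h]
  have hpowmem : ∀ i : ℕ, f ^ i ∈ FunFld.L (Finsupp.single P (2 * (i : ℤ)) : FunFld.Divisor k K) := by
    intro i
    induction i with
    | zero =>
      rw [pow_zero]
      exact FunFld.one_mem_L (Finsupp.single_nonneg.mpr (by norm_num))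
    | succ i ih =>
      rw [pow_succ]
      have := FunFld.mul_mem_L_single P ih hf
      have e : 2 * ((i + 1 : ℕ) : ℤ) = 2 * (i : ℤ) + 2 := by push_cast; ring
      rwa [e]
  obtain ⟨φ, hφ⟩ : ∃ φ : Fin (n / 2 + 1) ⊕ Fin ((n - 1) / 2) → K,
      φ = Sum.elim (fun i : Fin (n / 2 + 1) => f ^ (i : ℕ))
        (fun i : Fin ((n - 1) / 2) => f ^ (i : ℕ) * g) := ⟨_, rfl⟩
  rw [← hφ]
  have hφne : ∀ i, φ i ≠ 0 := by
    intro i
    rw [hφ]
    rcases i with i | i
    · exact pow_ne_zero _ hf0
    · exact mul_ne_zero (pow_ne_zero _ hf0) hg0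
  have hφinj : ∀ i j, P.ord (φ i) = P.ord (φ j) → i = j := by
    intro i j h
    rw [hφ] at h
    rcases i with i | i <;> rcases j with j | j
    · simp only [Sum.elim_inl] at h
      rw [hordL, hordL] at h
      exact congrArg Sum.inl (Fin.ext (by omega))
    · simp only [Sum.elim_inl, Sum.elim_inr] at h
      rw [hordL, hordR] at h
      omega
    · simp only [Sum.elim_inl, Sum.elim_inr] at h
      rw [hordL, hordR] at h
      omega
    · simp only [Sum.elim_inr] at h
      rw [hordR, hordR] at h
      exact congrArg Sum.inr (Fin.ext (by omega))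
  have hli : LinearIndependent k φ := by
    rw [Fintype.linearIndependent_iff]
    intro c hsum i
    have key := FunFld.eq_zero_of_sum_eq_zero_of_val P.1 Finset.univ (fun i => c i • φ i) hsum (by
      intro i _ j _ hi hj hv
      have hci : c i ≠ 0 := fun h0 => hi (by rw [h0, zero_smul])
      have hcj : c j ≠ 0 := fun h0 => hj (by rw [h0, zero_smul])
      simp only [Algebra.smul_def, map_mul, P.val_algebraMap hci, P.val_algebraMap hcj,
        one_mul] at hv
      exact hφinj i j (hord_of_val _ _ hv)) i (Finset.mem_univ i)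
    rcases smul_eq_zero.mp key with h | h
    · exact h
    · exact absurd h (hφne i)
  refine ⟨hli, ?_⟩
  haveI := FunFld.finiteDimensional_L hK (Finsupp.single P (n : ℤ) : FunFld.Divisor k K)
  apply Submodule.eq_of_le_of_finrank_eq
  · rw [Submodule.span_le]
    rintro _ ⟨i, rfl⟩
    rw [hφ]
    rcases i with i | i
    · simp only [Sum.elim_inl]
      have hi := i.2
      exact FunFld.L_single_mono P (by omega) (hpowmem i)
    · simp only [Sum.elim_inr]
      have hi := i.2
      have := FunFld.mul_mem_L_single P (hpowmem i) hg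
      exact FunFld.L_single_mono P (by omega) this
  · rw [finrank_span_eq_card hli, Fintype.card_sum, Fintype.card_fin, Fintype.card_fin]
    have := FunFld.ell_single_of_genus_one hK hgen P hP (n : ℤ) (by exact_mod_cast (by omega : 1 ≤ n))
    have h2 : Module.finrank k ↥(FunFld.L (Finsupp.single P (n : ℤ) : FunFld.Divisor k K)) =
        FunFld.ell (Finsupp.single P (n : ℤ) : FunFld.Divisor k K) := rfl
    omega

end Groth.Agent.S19396
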