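import Groth.Statements.S1535
import Groth.Agent.Lib.SmoothRegField_helper3
-- import your own Groth.Agent.* helpers here

set_option autoImplicit false
universe u
open CategoryTheory CategoryTheory.Limits AlgebraicGeometry
set_option maxSynthPendingDepth 3
open Variety

namespace Groth.Agent.S1535

/-- If X is smooth over a field then every local ring of X is a regular local ring. -/
theorem result (k : Type u) [Field k] (X : Scheme.{u}) [X.Over (Spec (CommRingCat.of k))] [Smooth (X ↘ (Spec (CommRingCat.of k)))] (x : X) :
    IsRegularLocalRing (X.presheaf.stalk x) := by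
  haveI : IsLocallyNoetherian X :=
    LocallyOfFiniteType.isLocallyNoetherian (X ↘ (Spec (CommRingCat.of k)))
  have hx : x ∈ (X ↘ (Spec (CommRingCat.of k))).smoothLocus := by
    rw [Scheme.Hom.smoothLocus_eq_top]
    trivial
  letI alg : Algebra ((Spec (CommRingCat.of k)).presheaf.stalk ((X ↘ (Spec (CommRingCat.of k))) x))
      (X.presheaf.stalk x) := ((X ↘ (Spec (CommRingCat.of k))).stalkMap x).hom.toAlgebra
  haveI : Algebra.FormallySmooth
      ((Spec (CommRingCat.of k)).presheaf.stalk ((X ↘ (Spec (CommRingCat.of k))) x))
      (X.presheaf.stalk x) := hx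
  obtain ⟨φ, hφ⟩ := Groth.Agent.Lib.SmoothRegFieldH3.exists_bijective_stalk_spec_field k
    ((X ↘ (Spec (CommRingCat.of k))) x)
  exact Groth.Agent.Lib.SmoothRegFieldH3.regular_of_formallySmooth_of_bijective φ hφ

end Groth.Agent.S1535
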