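import Groth.Statements.S10945
import Groth.Agent.Lib.GlobSec_helper3
-- import your own Groth.Agent.* helpers here

set_option autoImplicit false
universe u
open CategoryTheory AlgebraicGeometry Opposite

open Coherent

namespace Groth.Agent.S10945

/-- Let X be a scheme and 0 → F' → F → F'' → 0 a short exact sequence of O_X-modules whose map on global
sections Γ(X, F) → Γ(X, F'') is surjective. If F' and F'' are generated by global sections (each is
a quotient of a free O_X-module), then F is generated by global sections. -/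
theorem result (X : Scheme.{u})
    (S : ShortComplex X.Modules) (hS : S.ShortExact)
    (hsurj : Function.Surjective (S.g.val.app (op ⊤)).hom)
    (h1 : Curv2.IsGloballyGenerated S.X₁) (h3 : Curv2.IsGloballyGenerated S.X₃) :
    Curv2.IsGloballyGenerated S.X₂ := by
  classical
  obtain ⟨ι₁, p₁, hp₁⟩ := h1
  obtain ⟨ι₃, p₃, hp₃⟩ := h3
  haveI := hS.epi_g
  have hlift : ∀ j : ι₃, ∃ m : S.X₂.val.obj (op ⊤),
      S.g.val.app (op ⊤) m = (S.X₃.freeHomEquiv p₃ j).1 (op ⊤) := fun j => hsurj _
  choose m hm using hlift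
  let s : ι₁ ⊕ ι₃ → S.X₂.sections :=
    Sum.elim (fun i => SheafOfModules.sectionsMap S.f (S.X₁.freeHomEquiv p₁ i))
      (fun j => Groth.Agent.Lib.GlobSec_helper3.sectionOfTop S.X₂ (m j))
  let r : (SheafOfModules.free (ι₁ ⊕ ι₃) : X.Modules) ⟶ S.X₂ := S.X₂.freeHomEquiv.symm s
  have h1' : SheafOfModules.freeMap Sum.inl ≫ r = p₁ ≫ S.f := by
    apply S.X₂.freeHomEquiv.injective
    ext1 i
    rw [SheafOfModules.freeHomEquiv_comp_apply, SheafOfModules.freeHomEquiv_comp_apply,
      SheafOfModules.freeHomEquiv_freeMap]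
    exact SheafOfModules.sectionsMap_freeHomEquiv_symm_freeSection s (Sum.inl i)
  have h3' : SheafOfModules.freeMap Sum.inr ≫ r ≫ S.g = p₃ := by
    apply S.X₃.freeHomEquiv.injective
    ext1 j
    rw [← Category.assoc, SheafOfModules.freeHomEquiv_comp_apply,
      SheafOfModules.freeHomEquiv_comp_apply, SheafOfModules.freeHomEquiv_freeMap]
    have h2 : SheafOfModules.sectionsMap r (SheafOfModules.freeSection (Sum.inr j)) =
        Groth.Agent.Lib.GlobSec_helper3.sectionOfTop S.X₂ (m j) :=
      SheafOfModules.sectionsMap_freeHomEquiv_symm_freeSection s (Sum.inr j)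
    show SheafOfModules.sectionsMap S.g
      (SheafOfModules.sectionsMap r (SheafOfModules.freeSection (Sum.inr j))) = _
    rw [h2, Groth.Agent.Lib.GlobSec_helper3.sectionsMap_sectionOfTop, hm j]
    exact (Groth.Agent.Lib.GlobSec_helper3.eq_sectionOfTop _ _).symm
  refine ⟨ι₁ ⊕ ι₃, r, ?_⟩
  exact Groth.Agent.Lib.GlobSec_helper3.epi_of_shortExact (C := X.Modules) hS p₁ hp₁ p₃ hp₃ r
    (SheafOfModules.freeMap Sum.inl) (SheafOfModules.freeMap Sum.inr) h1' h3'

end Groth.Agent.S10945
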