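import Groth.Statements.S1026
import Groth.Agent.Lib.EulerLoc_helper2

set_option autoImplicit false
universe u
open CategoryTheory AlgebraicGeometry
open Perf

namespace Groth.Agent.S1026

/-- Let f : X ⟶ S be proper and of finite presentation and F an O_X-module of finite presentation which
is flat over S. Then the Euler characteristic s ↦ χ(X_s, F_s) = Σᵢ (-1)ⁱ dim_{κ(s)} Hⁱ(X_s, F_s) is
a locally constant function on S. (The source adds that its formation commutes with base change.) -/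
theorem result {X S : Scheme.{u}} (f : X ⟶ S) [IsProper f] [LocallyOfFinitePresentation f]
    (F : X.Modules) (hF : CohB1.IsFP F) (hflat : FlatMod.IsFlatOver f F) :
    IsLocallyConstant (fun s : S => PerfAux.eulerChar f F s) := by
  haveI : SheafOfModules.IsFinitePresentation (R := X.ringCatSheaf) F := hF
  haveI hq : Coh.IsQCoh F := inferInstanceAs (F.IsQuasicoherent)
  rw [IsLocallyConstant.iff_eventually_eq]
  intro s
  obtain ⟨_, ⟨V, hV : IsAffineOpen V, rfl⟩, hsV, -⟩ :=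
    (S.isBasis_affineOpens).exists_subset_of_mem_open (Set.mem_univ s) isOpen_univ
  haveI : IsAffine (V : Scheme.{u}) := hV
  obtain ⟨P, hP, ⟨b, hb⟩, hpos, hrk, -, -⟩ := Groth.Agent.Lib.PBCH2.locPackage' f F hF hflat V hV
  have hP' : ∀ i, Module.Finite Γ((V : Scheme.{u}), ⊤) (P.X i) ∧
      Module.Projective Γ((V : Scheme.{u}), ⊤) (P.X i) := fun i =>
    ⟨(hP i).1, haveI := (hP i).2; inferInstance⟩
  have hN : ∀ i : ℕ, (1 - b).toNat ≤ i → Limits.IsZero (P.X (-(i : ℤ))) := fun i hi =>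
    hb (-(i : ℤ)) (by omega)
  have hev := Groth.Agent.Lib.PBCH2.chi_eventually_eq P hP' (1 - b).toNat hN
    (fun y => hpos 1 one_pos y) ((V : Scheme.{u}).toSpecΓ ⟨s, hsV⟩)
  obtain ⟨O, hO, hOopen, hx₀O⟩ := eventually_nhds_iff.mp hev
  let O' : (Spec (CommRingCat.of Γ((V : Scheme.{u}), ⊤))).Opens := ⟨O, hOopen⟩
  let U : S.Opens := (Scheme.Opens.ι V) ''ᵁ ((V : Scheme.{u}).toSpecΓ ⁻¹ᵁ O')
  have key : ∀ y' : V, PerfAux.eulerChar f F y'.1 =
      ∑ᶠ i : ℕ, (-1 : ℤ) ^ i * (CohIII.dRank P (-(i : ℤ)) ((V : Scheme.{u}).toSpecΓ y') : ℤ) := by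
    intro y'
    unfold PerfAux.eulerChar
    refine finsum_congr (fun i => ?_)
    have h := hrk i y'.1 y'.2
    have h' : PerfAux.betti f F y'.1 i =
        CohIII.dRank P (-(i : ℤ)) ((V : Scheme.{u}).toSpecΓ y') := h
    rw [h']
  refine Filter.mem_of_superset (U.2.mem_nhds ⟨⟨s, hsV⟩, hx₀O, rfl⟩) ?_
  rintro _ ⟨y', hy', rfl⟩
  have h1 := hO _ hy'
  show PerfAux.eulerChar f F _ = PerfAux.eulerChar f F s
  exact (key y').trans (h1.trans (key ⟨s, hsV⟩).symm)

end Groth.Agent.S1026
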