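import Groth.Statements.S0386
import Mathlib
import Groth.Agent.Lib.GenFlatSch_helper8
import Groth.Agent.Lib.FlatLocFP1_helper6
import Groth.Agent.S0387

set_option autoImplicit false
universe u
open FlatMor

namespace Groth.Agent.S0386

open AlgebraicGeometry CategoryTheory Limits in
/-- Openness of the flat locus: for a morphism f : X ⟶ S locally of finite presentation, the set of
points x of X at which the local ring O_{X,x} is flat over O_{S,f(x)} is open in X. (The published
statement also treats the flat locus of a finitely presented quasi-coherent module; stated here for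
the structure sheaf.) -/
theorem result {X S : Scheme.{u}} (f : X ⟶ S) [LocallyOfFinitePresentation f] :
    IsOpen {x : X | (f.stalkMap x).hom.Flat} := by

  classical
  rw [isOpen_iff_forall_mem_open]
  intro x hx
  obtain ⟨V, hV, hyV, -⟩ := TopologicalSpace.Opens.isBasis_iff_nbhd.mp S.isBasis_affineOpens
    (show f.base x ∈ (⊤ : S.Opens) from trivial)
  obtain ⟨U, hU, hxU, e⟩ := TopologicalSpace.Opens.isBasis_iff_nbhd.mp X.isBasis_affineOpens
    (show x ∈ f ⁻¹ᵁ V from hyV)
  letI algAB : Algebra Γ(S, V) Γ(X, U) := (f.appLE V U e).hom.toAlgebra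
  haveI : Algebra.FinitePresentation Γ(S, V) Γ(X, U) :=
    HasRingHomProperty.appLE (P := @LocallyOfFinitePresentation) f inferInstance ⟨V, hV⟩ ⟨U, hU⟩ e
  have hW := Groth.Agent.S0387.result (R := Γ(S, V)) (S := Γ(X, U)) (M := Γ(X, U))
  have key : ∀ (y : X) (hyU : y ∈ U), (f.stalkMap y).hom.Flat ↔
      Module.Flat Γ(S, V)
        (LocalizedModule (hU.primeIdealOf ⟨y, hyU⟩).asIdeal.primeCompl Γ(X, U)) := by
    intro y hyU
    have hyV' : f.base y ∈ V := e hyU
    letI aY := TopCat.Presheaf.algebra_section_stalk S.presheaf (⟨f.base y, hyV'⟩ : V)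
    letI aX := TopCat.Presheaf.algebra_section_stalk X.presheaf (⟨y, hyU⟩ : U)
    haveI : IsLocalization.AtPrime (S.presheaf.stalk (f.base y))
        (hV.primeIdealOf ⟨f.base y, hyV'⟩).asIdeal := hV.isLocalization_stalk ⟨f.base y, hyV'⟩
    haveI : IsLocalization.AtPrime (X.presheaf.stalk y)
        (hU.primeIdealOf ⟨y, hyU⟩).asIdeal := hU.isLocalization_stalk ⟨y, hyU⟩
    letI mY : Module (S.presheaf.stalk (f.base y)) (X.presheaf.stalk y) :=
      (f.stalkMap y).hom.toModule
    letI mR : Module Γ(S, V) (X.presheaf.stalk y) :=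
      Module.compHom _ ((X.presheaf.germ U y hyU).hom.comp (f.appLE V U e).hom)
    haveI : IsScalarTower Γ(S, V) (S.presheaf.stalk (f.base y)) (X.presheaf.stalk y) := by
      refine IsScalarTower.of_algebraMap_smul (fun r m => ?_)
      change (f.stalkMap y).hom ((S.presheaf.germ V (f.base y) hyV').hom r) * m =
        (X.presheaf.germ U y hyU).hom ((f.appLE V U e).hom r) * m
      rw [GenFlatSchH8.stalkMap_germ_appLE f e hyU r]
    haveI : IsScalarTower Γ(S, V) Γ(X, U) (X.presheaf.stalk y) :=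
      IsScalarTower.of_algebraMap_smul (fun _ _ => rfl)
    have h1 : (f.stalkMap y).hom.Flat ↔ Module.Flat Γ(S, V) (X.presheaf.stalk y) :=
      Module.flat_iff_of_isLocalization (S.presheaf.stalk (f.base y))
        (hV.primeIdealOf ⟨f.base y, hyV'⟩).asIdeal.primeCompl (X.presheaf.stalk y)
    rw [h1]
    exact Groth.Agent.Lib.FlatLocFP1H6.flat_iff_of_isLocalizedModule (A := Γ(S, V))
      (C := Γ(X, U)) (hU.primeIdealOf ⟨y, hyU⟩).asIdeal.primeCompl
      (Algebra.linearMap Γ(X, U) (X.presheaf.stalk y))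
  refine ⟨(fun 𝔭 : PrimeSpectrum Γ(X, U) => (hU.fromSpec 𝔭 : X)) ''
    {q : PrimeSpectrum Γ(X, U) |
      Module.Flat Γ(S, V) (LocalizedModule q.asIdeal.primeCompl Γ(X, U))}, ?_,
    hU.fromSpec.isOpenEmbedding.isOpenMap _ hW,
    ⟨hU.primeIdealOf ⟨x, hxU⟩, (key x hxU).mp hx, hU.fromSpec_primeIdealOf ⟨x, hxU⟩⟩⟩
  rintro _ ⟨𝔭, h𝔭, rfl⟩
  have hyU : (hU.fromSpec 𝔭 : X) ∈ U := by
    have : (hU.fromSpec 𝔭 : X) ∈ hU.fromSpec.opensRange := ⟨𝔭, rfl⟩
    rwa [hU.opensRange_fromSpec] at this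
  have hprime : hU.primeIdealOf ⟨hU.fromSpec 𝔭, hyU⟩ = 𝔭 := by
    apply hU.fromSpec.isOpenEmbedding.injective
    rw [hU.fromSpec_primeIdealOf]
  show (f.stalkMap (hU.fromSpec 𝔭)).hom.Flat
  rw [key _ hyU, hprime]
  exact h𝔭

end Groth.Agent.S0386
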