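import Groth.Statements.S1386
import Mathlib
import Groth.Agent.Lib.FibCrit3_helper8
import Groth.Agent.Lib.FibCrit8_helper8
import Groth.Agent.Lib.FibInjF_helper6
import Groth.Agent.Lib.EtQuot2_helper8
import Groth.Agent.S0386

set_option autoImplicit false
universe u
open FlatMor

namespace Groth.Agent.S1386

open AlgebraicGeometry CategoryTheory Limits in
/-- Fibrewise flatness criterion (critère de platitude par fibres), for the structure sheaf: let f : X →
Y and g : Y → S be morphisms of schemes with X locally of finite presentation over S (via g ∘ f) and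
Y locally of finite type over S. For a point x of X with images y = f(x) and s = g(y) the following
are equivalent: (1) X → S is flat at x and the induced morphism of fibres X_s → Y_s is flat at x;
(2) Y → S is flat at y and f is flat at x. Moreover the set of points x at which (2) holds is open
in X. The published statement treats a finitely presented quasi-coherent O_X-module; here the module
is O_X. -/
theorem result {X Y S : Scheme.{u}} (f : X ⟶ Y) (g : Y ⟶ S) [LocallyOfFinitePresentation (f ≫ g)] [LocallyOfFiniteType g] :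
    (∀ x : X, ((f ≫ g).stalkMap x).hom.Flat ∧ ((MoreMor.fiberMap f g (g (f x))).stalkMap ((f ≫ g).asFiber x)).hom.Flat ↔
        (g.stalkMap (f x)).hom.Flat ∧ (f.stalkMap x).hom.Flat) ∧
      IsOpen {x : ↑X | (g.stalkMap (f x)).hom.Flat ∧ (f.stalkMap x).hom.Flat} := by
  classical
  haveI hlfp : LocallyOfFinitePresentation f := FibMorConsH8.lfp_of_comp f g
  -- pointwise statement
  have hpt : ∀ x : X, ((f ≫ g).stalkMap x).hom.Flat ∧
      ((MoreMor.fiberMap f g (g (f x))).stalkMap ((f ≫ g).asFiber x)).hom.Flat ↔
        (g.stalkMap (f x)).hom.Flat ∧ (f.stalkMap x).hom.Flat := by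
    intro x
    letI algAB : Algebra (S.presheaf.stalk (g (f x))) (Y.presheaf.stalk (f x)) :=
      (g.stalkMap (f x)).hom.toAlgebra
    letI algBC : Algebra (Y.presheaf.stalk (f x)) (X.presheaf.stalk x) :=
      (f.stalkMap x).hom.toAlgebra
    letI algAC : Algebra (S.presheaf.stalk (g (f x))) (X.presheaf.stalk x) :=
      ((f ≫ g).stalkMap x).hom.toAlgebra
    haveI : IsScalarTower (S.presheaf.stalk (g (f x))) (Y.presheaf.stalk (f x))
        (X.presheaf.stalk x) := by
      refine IsScalarTower.of_algebraMap_eq (fun a => ?_)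
      show ((f ≫ g).stalkMap x).hom a = (f.stalkMap x).hom ((g.stalkMap (f x)).hom a)
      rw [Scheme.Hom.stalkMap_comp]
      rfl
    haveI : IsLocalHom (algebraMap (S.presheaf.stalk (g (f x))) (Y.presheaf.stalk (f x))) :=
      inferInstanceAs (IsLocalHom (g.stalkMap (f x)).hom)
    haveI : IsLocalHom (algebraMap (Y.presheaf.stalk (f x)) (X.presheaf.stalk x)) :=
      inferInstanceAs (IsLocalHom (f.stalkMap x).hom)
    haveI : Algebra.EssFiniteType (S.presheaf.stalk (g (f x))) (Y.presheaf.stalk (f x)) :=
      LocallyOfFiniteType.stalkMap g (f x)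
    have hC : CAlgX.IsEssFinitePresentation (S.presheaf.stalk (g (f x))) (X.presheaf.stalk x) :=
      Groth.Agent.Lib.FibInjH6.isEssFinitePresentation_stalkMap (f ≫ g) x
    rw [Groth.Agent.Lib.FibCritH8.fiberMap_stalkMap_flat_iff f g x]
    constructor
    · rintro ⟨h1, h2⟩
      haveI : Module.Flat (S.presheaf.stalk (g (f x))) (X.presheaf.stalk x) := h1
      exact Groth.Agent.Lib.FibCritH8.crit_essFiniteType hC h2
    · rintro ⟨h1, h2⟩
      refine ⟨?_, ?_⟩
      · have hcomp : ((f ≫ g).stalkMap x).hom =
            (f.stalkMap x).hom.comp (g.stalkMap (f x)).hom := by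
          rw [Scheme.Hom.stalkMap_comp]; rfl
        rw [hcomp]
        exact RingHom.Flat.comp h1 h2
      · haveI : Module.Flat (Y.presheaf.stalk (f x)) (X.presheaf.stalk x) := h2
        exact Module.Flat.of_linearEquiv
          ((TensorProduct.quotTensorEquivQuotSMul (X.presheaf.stalk x)
            ((IsLocalRing.maximalIdeal (S.presheaf.stalk (g (f x)))).map
              (algebraMap (S.presheaf.stalk (g (f x))) (Y.presheaf.stalk (f x))))).extendScalarsOfSurjective
            (Ideal.Quotient.mk_surjective (I := (IsLocalRing.maximalIdeal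
              (S.presheaf.stalk (g (f x)))).map
              (algebraMap (S.presheaf.stalk (g (f x))) (Y.presheaf.stalk (f x)))))).symm
  refine ⟨hpt, ?_⟩
  have hset : {x : ↑X | (g.stalkMap (f x)).hom.Flat ∧ (f.stalkMap x).hom.Flat} =
      {x : X | ((f ≫ g).stalkMap x).hom.Flat} ∩ {x : X | (f.stalkMap x).hom.Flat} := by
    ext x
    simp only [Set.mem_ofPred_eq, Set.mem_inter_iff]
    constructor
    · rintro ⟨h1, h2⟩
      refine ⟨?_, h2⟩
      have hcomp : ((f ≫ g).stalkMap x).hom =
          (f.stalkMap x).hom.comp (g.stalkMap (f x)).hom := by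
        rw [Scheme.Hom.stalkMap_comp]; rfl
      rw [hcomp]
      exact RingHom.Flat.comp h1 h2
    · rintro ⟨h1, h2⟩
      refine ⟨?_, h2⟩
      letI algAB : Algebra (S.presheaf.stalk (g (f x))) (Y.presheaf.stalk (f x)) :=
        (g.stalkMap (f x)).hom.toAlgebra
      letI algBC : Algebra (Y.presheaf.stalk (f x)) (X.presheaf.stalk x) :=
        (f.stalkMap x).hom.toAlgebra
      letI algAC : Algebra (S.presheaf.stalk (g (f x))) (X.presheaf.stalk x) :=
        ((f ≫ g).stalkMap x).hom.toAlgebra
      haveI : IsScalarTower (S.presheaf.stalk (g (f x))) (Y.presheaf.stalk (f x))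
          (X.presheaf.stalk x) := by
        refine IsScalarTower.of_algebraMap_eq (fun a => ?_)
        show ((f ≫ g).stalkMap x).hom a = (f.stalkMap x).hom ((g.stalkMap (f x)).hom a)
        rw [Scheme.Hom.stalkMap_comp]
        rfl
      haveI : IsLocalHom (algebraMap (Y.presheaf.stalk (f x)) (X.presheaf.stalk x)) :=
        inferInstanceAs (IsLocalHom (f.stalkMap x).hom)
      haveI : Module.Flat (Y.presheaf.stalk (f x)) (X.presheaf.stalk x) := h2
      haveI : Module.Flat (S.presheaf.stalk (g (f x))) (X.presheaf.stalk x) := h1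
      haveI : Module.FaithfullyFlat (Y.presheaf.stalk (f x)) (X.presheaf.stalk x) :=
        Module.FaithfullyFlat.of_flat_of_isLocalHom
      exact EtQuotH8.flat_of_faithfullyFlat (R := S.presheaf.stalk (g (f x)))
        (A := Y.presheaf.stalk (f x)) (B := X.presheaf.stalk x)
  rw [hset]
  exact (Groth.Agent.S0386.result (f ≫ g)).inter (Groth.Agent.S0386.result f)

end Groth.Agent.S1386
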