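import Groth.Statements.S10426
import Groth.Agent.Lib.AlgSpUBF2_helper4

set_option autoImplicit false
universe u
open CategoryTheory CategoryTheory.Limits AlgebraicGeometry Topology TopologicalSpace
open AlgSp

namespace Groth.Agent.S10426

/-- Let S be a scheme, X and Y algebraic spaces over S, and g : Y ⟶ X a representable morphism; let U be
a scheme, f : U ⟶ X a morphism, and f′ : U ×_X Y ⟶ Y its base change. Assume the image of |U| → |X|
is contained in the image of |Y| → |X| and that f′ has universally bounded fibres. Then the morphism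
f also has universally bounded fibres. -/
theorem result {S : Scheme.{u}} {X Y : AlgSp.Space S} (g : Y ⟶ X)
    (hg : AlgSp.Representable g.hom) {U V : Over S} (f : (AlgSp.yon S).obj U ⟶ X.obj)
    (fst : (AlgSp.yon S).obj V ⟶ (AlgSp.yon S).obj U) (f' : (AlgSp.yon S).obj V ⟶ Y.obj) (h : IsPullback fst f' f g.hom)
    (him : Set.range (AlgSp.Points.ofPt f) ⊆ Set.range (AlgSp.Points.map g.hom)) (hf' : W4dec.HasUnivBddFibres f') :
    W4dec.HasUnivBddFibres f := by
  obtain ⟨n, hn⟩ := hf'
  refine ⟨n, ?_⟩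
  intro q T c snd hsq
  obtain ⟨b, rfl⟩ := (AlgSp.yon S).map_surjective snd
  rcases isEmpty_or_nonempty ↥T.left with hT | ⟨⟨t⟩⟩
  · have hfin : IsFinite c.left := inferInstance
    refine ⟨hfin, fun s => ?_⟩
    rw [Groth.Agent.Lib.AlgSpUBF2_helper4.finrank_eq_finrank_strHom (K := q.K) c.left s]
    letI := (Groth.Agent.Lib.AlgSpUBF2_helper4.strHom (K := q.K) c.left).toAlgebra
    rw [Module.finrank_zero_of_subsingleton]
    exact Nat.zero_le _
  · -- the point of `X` defined by `q` is in the image of `U`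
    have h1 : AlgSp.Points.ofPt f (b.left t) = AlgSp.Points.mk q := by
      rw [← Groth.Agent.Lib.AlgSpPoints_helper7.ofPt_comp, ← hsq.w,
        Groth.Agent.Lib.AlgSpPoints_helper7.ofPt_comp, AlgSp.Points.ofPt_toHom]
    obtain ⟨y, hy⟩ := him ⟨_, h1⟩
    obtain ⟨r, rfl⟩ := AlgSp.Points.mk_surjective y
    rw [AlgSp.Points.map_mk, AlgSp.Points.mk_eq_mk_iff,
      Groth.Agent.Lib.AlgSpPoints_helper7.rel_iff] at hy
    obtain ⟨Ω, _, w, a0, b0, hab⟩ := hy
    rw [AlgSp.FieldPt.toHom_map] at hab
    have hab' : ((AlgSp.yon S).map (a0 : Over.mk w ⟶ r.pt) ≫ r.toHom) ≫ g.hom =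
        (AlgSp.yon S).map b0 ≫ q.toHom := by
      rw [Category.assoc]; exact hab
    -- the base change of `T` to `Ω`
    have sq0 := IsPullback.of_hasPullback c b0
    have sqA : IsPullback ((AlgSp.yon S).map (pullback.fst c b0)) ((AlgSp.yon S).map (pullback.snd c b0))
        ((AlgSp.yon S).map c) ((AlgSp.yon S).map b0) := sq0.map (AlgSp.yon S)
    have sqB := sqA.flip.paste_vert hsq
    rw [← hab'] at sqB
    have sqC := IsPullback.of_bot' sqB h.flip
    have key := hn (Groth.Agent.Lib.AlgSpPoints_helper7.ofHom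
        ((AlgSp.yon S).map (a0 : Over.mk w ⟶ r.pt) ≫ r.toHom))
      (pullback c b0) (pullback.snd c b0) _
      (by rw [Groth.Agent.Lib.AlgSpPoints_helper7.toHom_ofHom]; exact sqC)
    obtain ⟨hfin, hrk⟩ := key
    have hfin' : IsFinite (pullback.snd c b0).left := hfin
    have sq3 : IsPullback (pullback.fst c b0).left (pullback.snd c b0).left c.left b0.left :=
      sq0.map (Over.forget S)
    obtain ⟨s0'⟩ : Nonempty ↥(Spec (CommRingCat.of Ω)) := inferInstance
    have key2 := fun s => Groth.Agent.Lib.AlgSpUBF2_helper4.isFinite_of_isPullback_field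
      (K := q.K) (L := Ω) c.left b0.left (pullback.fst c b0).left (pullback.snd c b0).left sq3 s s0'
    obtain ⟨s0⟩ : Nonempty ↥(Spec (CommRingCat.of q.K)) := inferInstance
    exact ⟨(key2 s0).1, fun s => (key2 s).2.trans_le (hrk s0')⟩

end Groth.Agent.S10426
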