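import Groth.Statements.S10587
import Groth.Agent.Lib.AlgSpThick_helper7

set_option autoImplicit false
universe u
open CategoryTheory CategoryTheory.Limits AlgebraicGeometry
open AlgSp

namespace Groth.Agent.S10587

/-- Consider a morphism (f, f') from the thickening X ⊂ X' to the thickening Y ⊂ Y' of algebraic spaces
over S, meaning: i : X ⟶ X' and j : Y ⟶ Y' are thickenings (representable, every base change to a
scheme a surjective closed immersion) and i ≫ f' = f ≫ j. Then f is surjective, resp. quasi-compact,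
universally closed, universally injective, universally open, if and only if f' is. -/
theorem result {S : Scheme.{u}} {X X' Y Y' : AlgSp.Space S} (i : X ⟶ X') (j : Y ⟶ Y')
    (f : X ⟶ Y) (f' : X' ⟶ Y')
    (hi : AlgSp.IsThickMor i.hom)
    (hj : AlgSp.IsThickMor j.hom) (w : i ≫ f' = f ≫ j) :
    (AlgSp.IsSurjectiveMor f.hom ↔ AlgSp.IsSurjectiveMor f'.hom) ∧
    (AlgSp.IsQuasiCompactMor f.hom ↔ AlgSp.IsQuasiCompactMor f'.hom) ∧
    (AlgSp.IsUnivClosedMor f.hom ↔ AlgSp.IsUnivClosedMor f'.hom) ∧
    (AlgSp.IsUnivInjectiveMor f.hom ↔ AlgSp.IsUnivInjectiveMor f'.hom) ∧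
    (AlgSp.IsUnivOpenMor f.hom ↔ AlgSp.IsUnivOpenMor f'.hom) := by
  have w' : i.hom ≫ f'.hom = f.hom ≫ j.hom := congrArg (·.hom) w
  have hHi := Groth.Agent.Lib.AlgSpThick_helper7.isHomeomorph_map_of_isThickMor i.hom hi
  have hHj := Groth.Agent.Lib.AlgSpThick_helper7.isHomeomorph_map_of_isThickMor j.hom hj
  have hw : ∀ x, AlgSp.Points.map f'.hom (AlgSp.Points.map i.hom x) =
      AlgSp.Points.map j.hom (AlgSp.Points.map f.hom x) := fun x => by
    rw [← AlgSp.Points.map_comp, ← AlgSp.Points.map_comp, w']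
  refine ⟨?_, ?_, ?_, ?_, ?_⟩
  · constructor
    · intro h y'
      obtain ⟨y, rfl⟩ := hHj.surjective y'
      obtain ⟨x, rfl⟩ := h y
      exact ⟨AlgSp.Points.map i.hom x, hw x⟩
    · intro h y
      obtain ⟨x', hx'⟩ := h (AlgSp.Points.map j.hom y)
      obtain ⟨x, rfl⟩ := hHi.surjective x'
      refine ⟨x, hHj.injective ?_⟩
      rw [← hw, hx']
  · exact Groth.Agent.Lib.AlgSpThick_helper7.isQuasiCompactMor_iff_of_thickenings i.hom j.hom f.hom
      f'.hom hi hj X.property X'.property Y.property Y'.property w'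
  · show AlgSp.UnivSp (Groth.Agent.Lib.AlgSpThick_helper7.PT (@IsClosedMap)) f.hom ↔
      AlgSp.UnivSp (Groth.Agent.Lib.AlgSpThick_helper7.PT (@IsClosedMap)) f'.hom
    refine Groth.Agent.Lib.AlgSpThick_helper7.univSp_iff_of_thickenings (@IsClosedMap) ?_ ?_
      i.hom j.hom f.hom f'.hom hi hj Y.property Y'.property w'
    · intro α β γ _ _ _ a b ha
      refine ⟨fun h C hC => ?_, fun h => h.comp ha.isClosedMap⟩
      have : b '' C = (b ∘ a) '' (a ⁻¹' C) := by
        rw [Set.image_comp, Set.image_preimage_eq _ ha.surjective]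
      rw [this]
      exact h _ (hC.preimage ha.continuous)
    · intro α β γ _ _ _ a b hb
      refine ⟨fun h C hC => ?_, fun h => hb.isClosedMap.comp h⟩
      have : a '' C = b ⁻¹' ((b ∘ a) '' C) := by
        rw [Set.image_comp, Set.preimage_image_eq _ hb.injective]
      rw [this]
      exact (h _ hC).preimage hb.continuous
  · show AlgSp.UnivSp (Groth.Agent.Lib.AlgSpThick_helper7.PT
        (fun {α β} _ _ (g : α → β) => Function.Injective g)) f.hom ↔
      AlgSp.UnivSp (Groth.Agent.Lib.AlgSpThick_helper7.PT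
        (fun {α β} _ _ (g : α → β) => Function.Injective g)) f'.hom
    refine Groth.Agent.Lib.AlgSpThick_helper7.univSp_iff_of_thickenings
      (fun {α β} _ _ (g : α → β) => Function.Injective g) ?_ ?_
      i.hom j.hom f.hom f'.hom hi hj Y.property Y'.property w'
    · intro α β γ _ _ _ a b ha
      refine ⟨fun h x y hxy => ?_, fun h => h.comp ha.injective⟩
      obtain ⟨x', rfl⟩ := ha.surjective x
      obtain ⟨y', rfl⟩ := ha.surjective y
      rw [h hxy]
    · intro α β γ _ _ _ a b hb
      exact ⟨fun h => Function.Injective.of_comp h, fun h => hb.injective.comp h⟩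
  · show AlgSp.UnivSp (Groth.Agent.Lib.AlgSpThick_helper7.PT (@IsOpenMap)) f.hom ↔
      AlgSp.UnivSp (Groth.Agent.Lib.AlgSpThick_helper7.PT (@IsOpenMap)) f'.hom
    refine Groth.Agent.Lib.AlgSpThick_helper7.univSp_iff_of_thickenings (@IsOpenMap) ?_ ?_
      i.hom j.hom f.hom f'.hom hi hj Y.property Y'.property w'
    · intro α β γ _ _ _ a b ha
      exact ha.homeomorph.comp_isOpenMap_iff' (f := b)
    · intro α β γ _ _ _ a b hb
      exact hb.homeomorph.comp_isOpenMap_iff (f := a)

end Groth.Agent.S10587
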