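import Groth.Statements.S10589
import Groth.Agent.Lib.AlgSpThickSep_helper7

set_option autoImplicit false
universe u
open CategoryTheory CategoryTheory.Limits AlgebraicGeometry
open AlgSp

namespace Groth.Agent.S10589

open Groth.Agent.Lib.AlgSpThickSepH7 Groth.Agent.Lib.AlgSpThick_helper7
  Groth.Agent.Lib.AlgSpPoints_helper7 Groth.Agent.Lib.AlgSpProper_helper7
  Groth.Agent.Lib.AlgSpQC2_helper7

/-- Consider a morphism (f, f') from the thickening X ⊂ X' to the thickening Y ⊂ Y' of algebraic spaces
over S, meaning: i : X ⟶ X' and j : Y ⟶ Y' are thickenings (representable, every base change to a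
scheme a surjective closed immersion) and i ≫ f' = f ≫ j. Then f is separated if and only if f' is
separated, and f is quasi-separated if and only if f' is quasi-separated. -/
theorem result {S : Scheme.{u}} {X X' Y Y' : AlgSp.Space S} (i : X ⟶ X') (j : Y ⟶ Y')
    (f : X ⟶ Y) (f' : X' ⟶ Y')
    (hi : AlgSp.IsThickMor i.hom)
    (hj : AlgSp.IsThickMor j.hom) (w : i ≫ f' = f ≫ j) :
    (AlgSp.IsSeparatedMor f.hom ↔ AlgSp.IsSeparatedMor f'.hom) ∧
    (AlgSp.IsQuasiSeparatedMor f.hom ↔ AlgSp.IsQuasiSeparatedMor f'.hom) := by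
  have hicl : RepWith @IsClosedImmersion i.hom := repWith_mono (fun _ _ _ h => h.1) hi
  have his : IsSurjectiveMor i.hom :=
    isSurjectiveMor_of_repWith _ (repWith_mono thick_le_surjective hi)
  haveI hjm : Mono j.hom := mono_of_isThickMor j.hom hj
  haveI him : Mono i.hom := mono_of_isThickMor i.hom hi
  have w' : i.hom ≫ f'.hom = f.hom ≫ j.hom := congrArg (fun k => k.hom) w
  refine ⟨⟨fun h => ?_, fun h' => ?_⟩, ⟨fun h => ?_, fun h' => ?_⟩⟩
  · apply isSeparatedMor_of_thick_comp X'.property i.hom f'.hom hicl his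
    rw [w']
    exact isSeparatedMor_comp _ _ h (isSeparatedMor_of_mono j.hom)
  · apply repWith_diagonal_of_comp @IsClosedImmersion f.hom j.hom
    have h3 : IsSeparatedMor (f.hom ≫ j.hom) := by
      rw [← w']
      exact isSeparatedMor_comp _ _ (isSeparatedMor_of_mono i.hom) h'
    exact h3
  · apply isQuasiSeparatedMor_of_thick_comp X'.property Y'.property i.hom f'.hom hicl his
    rw [w']
    exact isQuasiSeparatedMor_comp _ _ h (repWith_diagonal_of_mono @QuasiCompact j.hom)
  · apply repWith_diagonal_of_comp @QuasiCompact f.hom j.hom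
    have h3 : IsQuasiSeparatedMor (f.hom ≫ j.hom) := by
      rw [← w']
      exact isQuasiSeparatedMor_comp _ _ (repWith_diagonal_of_mono @QuasiCompact i.hom) h'
    exact h3

end Groth.Agent.S10589
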