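import Groth.Statements.S10271
import Groth.Agent.Lib.AlgSpLocP5_helper7

set_option autoImplicit false
universe u
open CategoryTheory CategoryTheory.Limits AlgebraicGeometry
open AlgSp

namespace Groth.Agent.S10271

/-- A morphism of algebraic spaces is finite if and only if it is affine and proper. -/
theorem result {S : Scheme.{u}} {X Y : AlgSp.Space S} (f : X ⟶ Y) :
    AlgSp.IsFiniteMor f.hom ↔ (AlgSp.IsAffineMor f.hom ∧ AlgSp.IsProperMor f.hom) := by
  open Groth.Agent.Lib.AlgSpLocP4_helper7 Groth.Agent.Lib.AlgSpLocP5_helper7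
    Groth.Agent.Lib.AlgSpProper_helper7 Groth.Agent.Lib.AlgSpPullback_helper7
    Groth.Agent.Lib.AlgSpUniv_helper7 Groth.Agent.Lib.AlgSpQC_helper7 in
  constructor
  · intro h
    refine ⟨fun Z hZ g => ?_, ?_⟩
    · obtain ⟨W, i, fst, sq, hW, hi⟩ := h hZ g
      exact ⟨W, i, fst, sq, hW⟩
    · refine isProperMor_of_forall_affine X.property Y.property f.hom fun Z hZ g P fst snd sq => ?_
      obtain ⟨W, i, fst', sq', hW, hi⟩ := h hZ g
      have hp : IsProperMor ((yon S).map i) :=
        isProperMor_of_repWith _ ((repWith_yon_map_iff _ _).2 (inferInstance : IsProper i.left))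
      let e := sq.isoIsPullback _ _ sq'
      have sqe : IsPullback e.hom snd ((yon S).map i) (𝟙 _) :=
        IsPullback.of_horiz_isIso ⟨by simp [e]⟩
      exact isProperMor_of_isPullback (IsAlgSpace.yon_obj W) (IsAlgSpace.yon_obj Z)
        (IsAlgSpace.yon_obj Z) sqe hp
  · rintro ⟨ha, hp⟩ Z hZ g
    obtain ⟨W, i, fst, sq, hW⟩ := ha hZ g
    refine ⟨W, i, fst, sq, hW, ?_⟩
    have h1 : IsProperMor ((yon S).map i) :=
      isProperMor_of_isPullback X.property Y.property (IsAlgSpace.yon_obj Z) sq hp
    have h2 : RepWith @IsProper ((yon S).map i) :=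
      repWith_isProper_of_isProperMor (IsAlgSpace.yon_obj Z) _ (representable_yon_map i) h1
    have : IsProper i.left := (repWith_yon_map_iff _ _).1 h2
    have : IsAffineHom i.left := by
      have : IsAffine W.left := hW
      have : IsAffine Z.left := hZ
      infer_instance
    rw [IsFinite.iff_isProper_and_isAffineHom]
    exact ⟨inferInstance, inferInstance⟩

end Groth.Agent.S10271
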