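import Groth.Statements.S10649
import Groth.Agent.Lib.AlgSpFinTfae_helper6
import Groth.Agent.S10271

set_option autoImplicit false
universe u
open CategoryTheory CategoryTheory.Limits AlgebraicGeometry
open AlgSp

namespace Groth.Agent.S10649

/-- The following conditions on a morphism f : X ⟶ Y of algebraic spaces over S are equivalent: (1)
finiteness of f; (2) f is locally quasi-finite as well as proper (locally quasi-finite and locally
of finite type etale locally); (3) f is proper and for every field k and every k-point Spec k ⟶ Y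
the fibre X_k (any pullback of f along it in fppf sheaves) has discrete space of points; (4) f is
universally closed, separated and locally of finite type, and every such fibre X_k has discrete
space of points. -/
theorem result {S : Scheme.{u}} {X Y : AlgSp.Space S} (f : X ⟶ Y) :
    [AlgSp.IsFiniteMor f.hom,
      AlgSp.IsProperMor f.hom ∧ AlgSp.LocP (@LocallyQuasiFinite ⊓ @LocallyOfFiniteType) f.hom,
      AlgSp.IsProperMor f.hom ∧
        ∀ (k : AlgSp.FieldPt Y.obj) (Xk : AlgSp.Sp S) (fst : Xk ⟶ X.obj) (snd : Xk ⟶ (AlgSp.yon S).obj k.pt),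
          IsPullback fst snd f.hom k.toHom → DiscreteTopology (AlgSp.Points Xk),
      AlgSp.IsUnivClosedMor f.hom ∧ AlgSp.IsSeparatedMor f.hom ∧ AlgSp.LocP @LocallyOfFiniteType f.hom ∧
        ∀ (k : AlgSp.FieldPt Y.obj) (Xk : AlgSp.Sp S) (fst : Xk ⟶ X.obj) (snd : Xk ⟶ (AlgSp.yon S).obj k.pt),
          IsPullback fst snd f.hom k.toHom → DiscreteTopology (AlgSp.Points Xk)].TFAE := by
  open Groth.Agent.Lib.AlgSpFinTfaeH6 in
  have h31 : (AlgSp.IsProperMor f.hom ∧
        ∀ (k : AlgSp.FieldPt Y.obj) (Xk : AlgSp.Sp S) (fst : Xk ⟶ X.obj)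
          (snd : Xk ⟶ (AlgSp.yon S).obj k.pt),
          IsPullback fst snd f.hom k.toHom → DiscreteTopology (AlgSp.Points Xk)) →
      AlgSp.IsFiniteMor f.hom := by
    rintro ⟨hp, hd⟩
    exact isFiniteMor_of_proper_of_hasAtMor f hp
      (fun x => hasAtMor_of_discrete_fibres f hp.2.1.1 hd x)
  tfae_have 1 → 2 := fun h =>
    ⟨((Groth.Agent.S10271.result f).1 h).2,
      Groth.Agent.Lib.AlgSpFinTfaeH6.locP_of_isFiniteMor f h⟩
  tfae_have 2 → 3 := fun ⟨hp, hl⟩ =>
    ⟨hp, fun k Xk fst snd sq =>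
      Groth.Agent.Lib.AlgSpFinTfaeH6.discrete_fibre_of_locP f hl k Xk fst snd sq⟩
  tfae_have 3 → 4 := fun ⟨hp, hd⟩ => ⟨hp.2.2, hp.1, hp.2.1.1, hd⟩
  tfae_have 4 → 1 := fun ⟨huc, hs, hl, hd⟩ =>
    h31 ⟨⟨hs, ⟨hl, Groth.Agent.Lib.AlgSpUCQC.isQuasiCompactMor_of_isUnivClosedMor X.property
      Y.property f.hom huc⟩, huc⟩, hd⟩
  tfae_finish

end Groth.Agent.S10649
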