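import Groth.Statements.S15344
import Mathlib
import Groth.Agent.Lib.MonoVal_helper7
import Groth.Agent.Lib.BiratMor_helper7

set_option autoImplicit false
universe u
open CategoryTheory CategoryTheory.Limits AlgebraicGeometry
open Mor

namespace Groth.Agent.S15344

/-- Let f : Y ⟶ X be a monomorphism of schemes, X quasi-separated. Then the projection Y ×_X X' ⟶ X'
reflects specializations (if the image of y₁ specializes to the image of y₀ then y₁ specializes to
y₀) after every base change X' ⟶ X if and only if, for every valuation ring A with fraction field K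
and every commutative square Spec K ⟶ Y, Spec A ⟶ X over f such that, in addition, some morphism
from the spectrum of the residue field of A to Y lies over Spec A ⟶ X, the square admits a lift Spec
A ⟶ Y. -/
theorem result {X Y : Scheme.{u}} [QuasiSeparatedSpace ↥X]
    (f : Y ⟶ X) [Mono f] :
    (∀ (X' : Scheme.{u}) (g : X' ⟶ X) (y₀ y₁ : ↥(pullback f g)),
        (pullback.snd f g).base y₁ ⤳ (pullback.snd f g).base y₀ → y₁ ⤳ y₀) ↔
      ∀ S : ValuativeCommSq f,
        (∃ l₀ : Spec (CommRingCat.of (IsLocalRing.ResidueField S.R)) ⟶ Y,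
            l₀ ≫ f = Spec.map (CommRingCat.ofHom (IsLocalRing.residue S.R)) ≫ S.i₂) →
          S.commSq.HasLift := by
  constructor
  · -- reflecting specializations ⇒ valuative lifting
    intro Hrefl S hl₀
    obtain ⟨l₀, hl₀⟩ := hl₀
    obtain ⟨p₂, hp₂⟩ : ∃ p₂ : pullback f S.i₂ ⟶ Spec (.of S.R), p₂ = pullback.snd f S.i₂ := ⟨_, rfl⟩
    haveI : Mono p₂ := by rw [hp₂]; infer_instance
    obtain ⟨t₁, ht₁f, ht₁s⟩ : ∃ t₁ : Spec (.of S.K) ⟶ pullback f S.i₂,
        t₁ ≫ pullback.fst f S.i₂ = S.i₁ ∧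
          t₁ ≫ p₂ = Spec.map (CommRingCat.ofHom (algebraMap S.R S.K)) :=
      ⟨pullback.lift S.i₁ _ S.commSq.w, pullback.lift_fst _ _ _, by rw [hp₂, pullback.lift_snd]⟩
    obtain ⟨t₀, ht₀f, ht₀s⟩ : ∃ t₀ : Spec (.of (IsLocalRing.ResidueField S.R)) ⟶ pullback f S.i₂,
        t₀ ≫ pullback.fst f S.i₂ = l₀ ∧
          t₀ ≫ p₂ = Spec.map (CommRingCat.ofHom (IsLocalRing.residue S.R)) :=
      ⟨pullback.lift l₀ _ hl₀, pullback.lift_fst _ _ _, by rw [hp₂, pullback.lift_snd]⟩
    obtain ⟨y₁, hy₁⟩ : ∃ y₁, y₁ = t₁ (IsLocalRing.closedPoint S.K) := ⟨_, rfl⟩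
    obtain ⟨y₀, hy₀⟩ : ∃ y₀, y₀ = t₀ (IsLocalRing.closedPoint (IsLocalRing.ResidueField S.R)) :=
      ⟨_, rfl⟩
    have hp₂y₀ : p₂ y₀ = IsLocalRing.closedPoint S.R := by
      rw [hy₀, ← Scheme.Hom.comp_apply, ht₀s]
      exact IsLocalRing.comap_closedPoint (IsLocalRing.residue S.R)
    have hsp : y₁ ⤳ y₀ := by
      apply Hrefl _ S.i₂ y₀ y₁
      rw [← hp₂, hp₂y₀]
      exact IsLocalRing.specializes_closedPoint _
    -- the local ring at `y₀`
    obtain ⟨φ, hφ⟩ : ∃ φ : CommRingCat.of S.R ⟶ (pullback f S.i₂).presheaf.stalk y₀,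
        Spec.map φ = (pullback f S.i₂).fromSpecStalk y₀ ≫ p₂ :=
      ⟨Spec.preimage _, Spec.map_preimage _⟩
    haveI : Mono (Spec.map φ) := by rw [hφ]; infer_instance
    haveI hepi : Epi φ := Groth.Agent.Lib.MonoValH7.epi_of_mono_SpecMap φ
    haveI hloc : IsLocalHom φ.hom := by
      refine ((IsLocalRing.local_hom_TFAE φ.hom).out 0 4).mpr ?_
      have h1 : Spec.map φ (IsLocalRing.closedPoint _) = IsLocalRing.closedPoint S.R := by
        rw [hφ, Scheme.Hom.comp_apply, Scheme.fromSpecStalk_closedPoint, hp₂y₀]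
      exact congrArg PrimeSpectrum.asIdeal h1
    obtain ⟨h', hh'⟩ := Groth.Agent.Lib.BiratMorH7.exists_lift_fromSpecStalk t₁ y₀ (by
      intro t
      obtain rfl : t = IsLocalRing.closedPoint S.K := Subsingleton.elim _ _
      rw [← hy₁]; exact hsp)
    obtain ⟨ψ, hψ⟩ : ∃ ψ : (pullback f S.i₂).presheaf.stalk y₀ ⟶ CommRingCat.of S.K,
        Spec.map ψ = h' := ⟨Spec.preimage _, Spec.map_preimage _⟩
    have hφψ : φ ≫ ψ = CommRingCat.ofHom (algebraMap S.R S.K) := by
      apply Spec.map_injective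
      rw [Spec.map_comp, hψ, hφ, ← Category.assoc, hh', ht₁s]
    have hφψ' : ∀ r : S.R, ψ.hom (φ.hom r) = algebraMap S.R S.K r := fun r =>
      congr($hφψ r)
    have hker : RingHom.ker ψ.hom ≤ IsLocalRing.maximalIdeal _ :=
      IsLocalRing.le_maximalIdeal (RingHom.ker_ne_top _)
    have hrange : ∀ b, ψ.hom b ∈ (algebraMap S.R S.K).range := by
      intro b
      rcases ValuationRing.isInteger_or_isInteger S.R (ψ.hom b) with ⟨r, hr⟩ | ⟨r, hr⟩
      · exact ⟨r, hr⟩
      · by_cases hb : ψ.hom b = 0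
        · exact ⟨0, by rw [hb, map_zero]⟩
        · have h1 : ψ.hom (b * φ.hom r) = 1 := by
            rw [map_mul, hφψ', hr, mul_inv_cancel₀ hb]
          have h2 : b * φ.hom r - 1 ∈ RingHom.ker ψ.hom := by
            rw [RingHom.mem_ker, map_sub, h1, map_one, sub_self]
          have h3 : b * φ.hom r ∉ IsLocalRing.maximalIdeal _ := by
            intro h4
            have h5 := Ideal.sub_mem _ h4 (hker h2)
            rw [sub_sub_cancel] at h5
            exact (IsLocalRing.maximalIdeal.isMaximal _).ne_top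
              ((Ideal.eq_top_iff_one _).mpr h5)
          have h4 : IsUnit (b * φ.hom r) := IsLocalRing.notMem_maximalIdeal.mp h3
          have h5 : IsUnit (φ.hom r) := isUnit_of_mul_isUnit_right h4
          have h6 : IsUnit r := hloc.map_nonunit r h5
          obtain ⟨u, rfl⟩ := h6
          refine ⟨((u⁻¹ : S.Rˣ) : S.R), ?_⟩
          have h7 : algebraMap S.R S.K ((u⁻¹ : S.Rˣ) : S.R) * algebraMap S.R S.K (u : S.R) = 1 := by
            rw [← map_mul, Units.inv_mul, map_one]
          rw [hr] at h7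
          calc algebraMap S.R S.K ((u⁻¹ : S.Rˣ) : S.R)
              = algebraMap S.R S.K ((u⁻¹ : S.Rˣ) : S.R) * ((ψ.hom b)⁻¹ * ψ.hom b) := by
                rw [inv_mul_cancel₀ hb, mul_one]
            _ = ψ.hom b := by rw [← mul_assoc, h7, one_mul]
    have hinj : Function.Injective (algebraMap S.R S.K) := IsFractionRing.injective S.R S.K
    let e : S.R ≃+* (algebraMap S.R S.K).range :=
      RingEquiv.ofBijective (algebraMap S.R S.K).rangeRestrict
        ⟨fun a b hab => hinj (congrArg Subtype.val hab), (algebraMap S.R S.K).rangeRestrict_surjective⟩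
    let ρ : (pullback f S.i₂).presheaf.stalk y₀ →+* S.R :=
      e.symm.toRingHom.comp (ψ.hom.codRestrict (algebraMap S.R S.K).range hrange)
    have hρ : ∀ b, algebraMap S.R S.K (ρ b) = ψ.hom b := by
      intro b
      have h1 : e (ρ b) = ψ.hom.codRestrict (algebraMap S.R S.K).range hrange b :=
        e.apply_symm_apply _
      exact congrArg Subtype.val h1
    obtain ⟨ρ', hρ'⟩ : ∃ ρ' : (pullback f S.i₂).presheaf.stalk y₀ ⟶ CommRingCat.of S.R,
        ρ'.hom = ρ := ⟨CommRingCat.ofHom ρ, rfl⟩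
    have hφρ : φ ≫ ρ' = 𝟙 _ := by
      ext r
      apply hinj
      show algebraMap S.R S.K (ρ'.hom (φ.hom r)) = algebraMap S.R S.K r
      rw [hρ', hρ, hφψ']
    have hρφ : ρ' ≫ φ = 𝟙 _ := by
      rw [← cancel_epi φ, ← Category.assoc, hφρ, Category.id_comp, Category.comp_id]
    have hfac : (Spec.map ρ' ≫ (pullback f S.i₂).fromSpecStalk y₀ ≫
        pullback.fst f S.i₂) ≫ f = S.i₂ := by
      rw [Category.assoc, Category.assoc, pullback.condition, ← hp₂, ← Category.assoc,
        ← Category.assoc, Category.assoc (Spec.map _), ← hφ, ← Spec.map_comp, hφρ, Spec.map_id,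
        Category.id_comp]
    refine ⟨⟨{ l := Spec.map ρ' ≫ (pullback f S.i₂).fromSpecStalk y₀ ≫
        pullback.fst f S.i₂, fac_left := ?_, fac_right := hfac }⟩⟩
    rw [← cancel_mono f, Category.assoc, hfac, S.commSq.w]
  · -- valuative lifting ⇒ reflecting specializations
    intro H X' g y₀ y₁ hsp
    obtain ⟨p₂, hp₂⟩ : ∃ p₂ : pullback f g ⟶ X', p₂ = pullback.snd f g := ⟨_, rfl⟩
    haveI : Mono p₂ := by rw [hp₂]; infer_instance
    rw [← hp₂] at hsp
    have hinjp := Groth.Agent.Lib.MonoValH7.injective_of_mono p₂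
    let φ : X'.presheaf.stalk (p₂ y₀) ⟶ (pullback f g).residueField y₁ :=
      X'.presheaf.stalkSpecializes hsp ≫ p₂.stalkMap y₁ ≫ (pullback f g).residue y₁
    obtain ⟨A, hA, hA_local⟩ := IsLocalRing.exists_factor_valuationRing φ.hom
    let ψ : X'.presheaf.stalk (p₂ y₀) ⟶ .of A := CommRingCat.ofHom (φ.hom.codRestrict _ hA)
    haveI : IsLocalHom ψ.hom := hA_local
    have w : (pullback f g).fromSpecResidueField y₁ ≫ p₂ =
        Spec.map (CommRingCat.ofHom (algebraMap A ((pullback f g).residueField y₁))) ≫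
          Spec.map ψ ≫ X'.fromSpecStalk (p₂ y₀) := by
      rw [Scheme.fromSpecResidueField, Category.assoc, ← Scheme.SpecMap_stalkMap_fromSpecStalk,
        ← Scheme.SpecMap_stalkSpecializes_fromSpecStalk hsp]
      simp_rw [← Spec.map_comp_assoc]
      rfl
    let S : ValuativeCommSq f :=
      { R := A
        K := (pullback f g).residueField y₁
        i₁ := (pullback f g).fromSpecResidueField y₁ ≫ pullback.fst f g
        i₂ := Spec.map ψ ≫ X'.fromSpecStalk (p₂ y₀) ≫ g
        commSq := ⟨by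
          rw [Category.assoc, pullback.condition, ← hp₂, ← Category.assoc, w]
          simp only [Category.assoc]⟩ }
    haveI := Groth.Agent.Lib.MonoValH7.isIso_residueFieldMap_of_mono p₂ y₀
    have hl₀ : ∃ l₀ : Spec (CommRingCat.of (IsLocalRing.ResidueField S.R)) ⟶ Y,
        l₀ ≫ f = Spec.map (CommRingCat.ofHom (IsLocalRing.residue S.R)) ≫ S.i₂ := by
      obtain ⟨κ, hκ⟩ : ∃ κ : X'.residueField (p₂ y₀) ⟶ CommRingCat.of (IsLocalRing.ResidueField A),
          X'.residue (p₂ y₀) ≫ κ = ψ ≫ CommRingCat.ofHom (IsLocalRing.residue A) :=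
        ⟨CommRingCat.ofHom (IsLocalRing.ResidueField.map ψ.hom), rfl⟩
      refine ⟨Spec.map κ ≫
        Spec.map (inv (p₂.residueFieldMap y₀)) ≫ (pullback f g).fromSpecResidueField y₀ ≫
          pullback.fst f g, ?_⟩
      have h1 : (pullback f g).fromSpecResidueField y₀ ≫ p₂ =
          Spec.map (p₂.residueFieldMap y₀) ≫ X'.fromSpecResidueField (p₂ y₀) :=
        (Scheme.Hom.SpecMap_residueFieldMap_fromSpecResidueField p₂ y₀).symm
      have h2 : Spec.map (inv (p₂.residueFieldMap y₀)) ≫ Spec.map (p₂.residueFieldMap y₀) = 𝟙 _ := by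
        rw [← Spec.map_comp, IsIso.hom_inv_id, Spec.map_id]
      have h3 : Spec.map κ ≫ X'.fromSpecResidueField (p₂ y₀) =
          Spec.map (CommRingCat.ofHom (IsLocalRing.residue A)) ≫ Spec.map ψ ≫
            X'.fromSpecStalk (p₂ y₀) := by
        rw [Scheme.fromSpecResidueField, ← Spec.map_comp_assoc, hκ, Spec.map_comp_assoc]
      simp only [Category.assoc]
      rw [pullback.condition, ← hp₂, reassoc_of% h1, reassoc_of% h2, reassoc_of% h3]
    obtain ⟨⟨l⟩⟩ := H S hl₀
    have hlr : l.l ≫ f = Spec.map ψ ≫ X'.fromSpecStalk (p₂ y₀) ≫ g := l.fac_right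
    obtain ⟨s, hs⟩ : ∃ s : Spec (.of A) ⟶ pullback f g,
        s ≫ p₂ = Spec.map ψ ≫ X'.fromSpecStalk (p₂ y₀) :=
      ⟨pullback.lift l.l (Spec.map ψ ≫ X'.fromSpecStalk (p₂ y₀)) (by rw [hlr, Category.assoc]),
        by subst hp₂; exact pullback.lift_snd _ _ _⟩
    have hc : s (IsLocalRing.closedPoint A) = y₀ := by
      apply hinjp
      rw [← Scheme.Hom.comp_apply, hs, Scheme.Hom.comp_apply]
      have : Spec.map ψ (IsLocalRing.closedPoint A) =
          IsLocalRing.closedPoint (X'.presheaf.stalk (p₂ y₀)) :=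
        IsLocalRing.comap_closedPoint (S := A) (φ.hom.codRestrict A.toSubring hA)
      rw [this, Scheme.fromSpecStalk_closedPoint]
    have hη : s (Spec.map (CommRingCat.ofHom (algebraMap A ((pullback f g).residueField y₁)))
        (IsLocalRing.closedPoint _)) = y₁ := by
      apply hinjp
      rw [← Scheme.Hom.comp_apply, ← Scheme.Hom.comp_apply, hs, ← w,
        Scheme.Hom.comp_apply, Scheme.fromSpecResidueField_apply]
    have hfin := (IsLocalRing.specializes_closedPoint
      (Spec.map (CommRingCat.ofHom (algebraMap A ((pullback f g).residueField y₁)))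
        (IsLocalRing.closedPoint _))).map s.continuous
    rw [hc, hη] at hfin
    exact hfin

end Groth.Agent.S15344
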