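import Groth.Statements.S10311
import Groth.Agent.Lib.BCChart_helper8
import Groth.Agent.Lib.FieldExt3_helper8

set_option autoImplicit false
universe u
open CategoryTheory CategoryTheory.Limits AlgebraicGeometry
open AlgSp

namespace Groth.Agent.S10311

/-- The relative dimension at a point of a morphism locally of finite type is preserved by base change. -/
theorem result {S : Scheme.{u}} {X Y Y' X' : AlgSp.Space S} (f : X ⟶ Y) (g : Y' ⟶ Y)
    (g' : X' ⟶ X) (f' : X' ⟶ Y') (sq : IsPullback g'.hom f'.hom f.hom g.hom)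
    (hf : AlgSp.LocP @LocallyOfFiniteType f.hom) (x' : AlgSp.Points X'.obj) (d : WithBot ℕ∞)
    (hd : AlgSp.HasAtMor (fun _ _ h u => FlatMor.fibreDimAt h u = d) f.hom (AlgSp.Points.map g'.hom x')) :
    AlgSp.HasAtMor (fun _ _ h u => FlatMor.fibreDimAt h u = d) f'.hom x' := by
  obtain ⟨U, V, a, b, h, u, hae, hbe, comm, hu, hdu⟩ := hd
  obtain ⟨W, V'', r, b'', κ, aW, φ, w, hre, hb''e, comm', hw, hwu, sqL, -, -⟩ :=
    BCChartH8.exists_bc_chart f g g' f' sq x' a b h u hae hbe comm hu
  haveI : LocallyOfFiniteType h.left := hf a b h hae hbe comm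
  refine ⟨W, V'', r, b'', κ, w, hre, hb''e, comm', hw, ?_⟩
  show FlatMor.fibreDimAt κ.left w = d
  rw [FieldExtH8.fibreDimAt_baseChange h.left φ.left aW.left κ.left sqL w, hwu]
  exact hdu

end Groth.Agent.S10311
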