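import Groth.Statements.S9884
import Groth.Agent.Lib.AlgSpOpenSub_helper7

set_option autoImplicit false
universe u
open CategoryTheory CategoryTheory.Limits AlgebraicGeometry Opposite
open AlgSp
open Groth.Agent.Lib.AlgSpOpenSub_helper7 Groth.Agent.Lib.AlgSpUniv_helper7

namespace Groth.Agent.S9884

instance : MorphismProperty.IsMultiplicative @LocallyOfFinitePresentation where
  id_mem _ := inferInstance

theorem result (S : Scheme.{u}) (F G H : AlgSp.Sp S) (a : F ⟶ G)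
    (ha : AlgSp.Representable a) (b : H ⟶ G) [Sheaf.IsLocallySurjective b] (Q : AlgSp.Sp S) (b' : Q ⟶ F)
    (a' : Q ⟶ H) (sq : IsPullback b' a' a b) (P : MorphismProperty Scheme.{u}) [P.IsStableUnderBaseChange]
    [P.IsLocalAtTarget Scheme.fppfPrecoverage] (h : AlgSp.RepWith P a') : AlgSp.RepWith P a := by
  refine ⟨ha, ?_⟩
  intro U V g fst snd sqg
  have hmem : Presheaf.imageSieve b.hom (yE g) ∈ J S U :=
    Presheaf.imageSieve_mem (J S) b.hom (U := op U) (yE g)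
  rw [J_eq, GrothendieckTopology.mem_over_iff] at hmem
  obtain ⟨𝒰, h𝒰⟩ := (Scheme.mem_grothendieckTopology_iff
    (P := @Flat ⊓ @LocallyOfFinitePresentation)).1 hmem
  refine MorphismProperty.IsLocalAtTarget.of_zeroHypercover (P := P)
    (K := Scheme.fppfPrecoverage) 𝒰 (fun i => ?_)
  have h1 := h𝒰 _ _ (Presieve.ofArrows.mk i)
  rw [Sieve.overEquiv_iff] at h1
  obtain ⟨t, ht⟩ := h1
  obtain ⟨gi, hgi⟩ : ∃ gi : (yon S).obj (Over.mk (𝒰.f i ≫ U.hom)) ⟶ H, gi = yE.symm t :=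
    ⟨_, rfl⟩
  have hgib : gi ≫ b =
      (yon S).map (Over.homMk (𝒰.f i) rfl : Over.mk (𝒰.f i ≫ U.hom) ⟶ U) ≫ g := by
    apply yE.injective
    rw [yE_comp, hgi, Equiv.apply_symm_apply]
    have e1 := yE_symm_map (X := G) (Over.homMk (𝒰.f i) rfl : Over.mk (𝒰.f i ≫ U.hom) ⟶ U) (yE g)
    rw [Equiv.symm_apply_apply] at e1
    rw [e1, Equiv.apply_symm_apply]
    exact ht
  have sq2 := isPullback_of_scheme_isPullback sqg
    (IsPullback.of_hasPullback snd.left (𝒰.f i)).flip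
  rw [← hgib] at sq2
  obtain ⟨l, hl1, hl2⟩ : ∃ l : (yon S).obj (Over.mk (pullback.fst snd.left (𝒰.f i) ≫ V.hom)) ⟶ Q,
      l ≫ b' = (yon S).map (Over.homMk (pullback.fst snd.left (𝒰.f i)) rfl :
        Over.mk (pullback.fst snd.left (𝒰.f i) ≫ V.hom) ⟶ V) ≫ fst ∧
      l ≫ a' = (yon S).map (Over.homMk (pullback.snd snd.left (𝒰.f i)) (by
        change pullback.snd snd.left (𝒰.f i) ≫ 𝒰.f i ≫ U.hom =
          pullback.fst snd.left (𝒰.f i) ≫ V.hom
        rw [← Over.w snd, ← Category.assoc, ← pullback.condition, Category.assoc]) :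
          Over.mk (pullback.fst snd.left (𝒰.f i) ≫ V.hom) ⟶ Over.mk (𝒰.f i ≫ U.hom)) ≫ gi :=
    ⟨sq.lift _ _ sq2.w, sq.lift_fst _ _ _, sq.lift_snd _ _ _⟩
  have sqL := IsPullback.of_right (by rw [hl1]; exact sq2) hl2 sq
  exact h.property _ _ _ sqL

end Groth.Agent.S9884
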