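import Groth.Statements.S9407
import Groth.Agent.Lib.EtaleReduced_helper7
-- import your own Groth.Agent.* helpers here

set_option autoImplicit false
universe u
open CAlg
set_option maxSynthPendingDepth 3

namespace Groth.Agent.S9407

/-- Reducedness ascends along smooth ring maps: if R is reduced and S is smooth over R then S is
reduced. -/
theorem result (R : Type u) [CommRing R] (S : Type u) [CommRing S]
    [Algebra R S] [Algebra.Smooth R S] [IsReduced R] : IsReduced S := by
  have h : AlgebraicGeometry.Smooth
      (AlgebraicGeometry.Spec.map (CommRingCat.ofHom (algebraMap R S))) := by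
    rw [AlgebraicGeometry.HasRingHomProperty.Spec_iff (P := @AlgebraicGeometry.Smooth)]
    exact RingHom.smooth_algebraMap.2 inferInstance
  haveI : AlgebraicGeometry.IsReduced (AlgebraicGeometry.Spec (CommRingCat.of R)) :=
    (AlgebraicGeometry.affine_isReduced_iff _).2 inferInstance
  have := Groth.Agent.Lib.EtaleReduced_helper7.isReduced_of_smooth_scheme
    (AlgebraicGeometry.Spec.map (CommRingCat.ofHom (algebraMap R S)))
  exact (AlgebraicGeometry.affine_isReduced_iff (CommRingCat.of S)).1 this

end Groth.Agent.S9407
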