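import Groth.Statements.S2107
import Mathlib
import Groth.Agent.Lib.FibInjE_helper6

set_option autoImplicit false
universe u
open CAlg

namespace Groth.Agent.S2107

/-- Let `R → S` be a local homomorphism of local rings with `S` essentially of finite presentation over
`R`, `M`, `N` finitely presented `S`-modules with `N` flat over `R`, and `u : M → N` an `S`-linear
map which is injective modulo `𝔪_R`. Then `u` is injective and its cokernel is flat over `R`. -/
theorem result {R S M N : Type u} [CommRing R] [CommRing S] [IsLocalRing R]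
    [IsLocalRing S] [Algebra R S] [IsLocalHom (algebraMap R S)] (hS : CAlgX.IsEssFinitePresentation R S)
    [AddCommGroup M] [Module S M] [Module R M] [IsScalarTower R S M] [Module.FinitePresentation S M]
    [AddCommGroup N] [Module S N] [Module R N] [IsScalarTower R S N] [Module.FinitePresentation S N] [Module.Flat R N]
    (u : M →ₗ[S] N)
    (hu : ∀ x : M, u x ∈ (IsLocalRing.maximalIdeal R).map (algebraMap R S) • (⊤ : Submodule S N) →
      x ∈ (IsLocalRing.maximalIdeal R).map (algebraMap R S) • (⊤ : Submodule S M)) :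
    Function.Injective u ∧ Module.Flat R (N ⧸ LinearMap.range u) := by
  obtain ⟨S₂, _, _, _, _, _, q, _, _, hq, N₂, _, _, _, _, _, _, _, _, jN, hjN⟩ :=
    Groth.Agent.Lib.FibInjH6.exists_good_model hS (N := N)
  letI : Module S₂ M := Module.compHom M (algebraMap S₂ S)
  haveI : IsScalarTower S₂ S M := IsScalarTower.of_algebraMap_smul fun r x => rfl
  obtain ⟨M₂, _, _, _, jM, hjM⟩ :=
    Groth.Agent.Lib.FibInjH6.exists_fp_model_of_isLocalization (A := S₂) (A' := S) q.primeCompl M
  obtain ⟨u₂, s, hs⟩ := Module.FinitePresentation.exists_lift_of_isLocalizedModule q.primeCompl jN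
    ((u.restrictScalars S₂).comp jM)
  have hc : ∀ x, jN (u₂ x) = s.1 • u (jM x) := fun x => by
    have := LinearMap.congr_fun hs x
    exact this
  have hqle : (IsLocalRing.maximalIdeal R).map (algebraMap R S₂) ≤ q := by
    rw [Ideal.map_le_iff_le_comap]
    intro r hr
    rw [hq]
    show algebraMap S₂ S (algebraMap R S₂ r) ∈ IsLocalRing.maximalIdeal S
    rw [← IsScalarTower.algebraMap_apply]
    exact map_nonunit (algebraMap R S) r hr
  have H := Groth.Agent.Lib.FibInjH6.transfer_fibre q jM jN u u₂ s.1 s.2 hc
    (IsLocalRing.maximalIdeal R) hu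
  obtain ⟨K1, K2⟩ := Groth.Agent.Lib.FibInjH6.injective_and_flat_of_flat_target u₂ q hqle H
  exact ⟨Groth.Agent.Lib.FibInjH6.transfer_injective q jM jN u u₂ s.1 s.2 hc K1,
    Groth.Agent.Lib.FibInjH6.transfer_flat q jM jN u u₂ s.1 s.2 hc K2⟩

end Groth.Agent.S2107
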