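import Groth.Statements.S10399
import Groth.Agent.Lib.CodimZero_helper8
import Groth.Agent.Lib.ResTrdeg3_helper8
import Groth.Agent.Lib.ChartIndep_helper8
import Groth.Agent.Lib.AlgSpPoints_helper7

set_option autoImplicit false
universe u
open CategoryTheory CategoryTheory.Limits AlgebraicGeometry Topology TopologicalSpace
open AlgSp

namespace Groth.Agent.S10399

open Groth.Agent.Lib.AlgSpPoints_helper7

/-- Let f : X ⟶ Y be a morphism locally of finite type of algebraic spaces over a scheme S and y a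
codimension 0 point of Y. The following are equivalent: (1) every point of |X| over y has
codimension 0 on X; (2) f is quasi-finite at all points over y; (3) f is quasi-finite at all
codimension 0 points of X over y. Stated as (1) ⇔ (2) together with (3) ⇒ (1). -/
theorem result {S : Scheme.{u}} {X Y : AlgSp.Space S} (f : X ⟶ Y)
    (hf : AlgSp.LocP @LocallyOfFiniteType f.hom) (y : AlgSp.Points Y.obj) (hy : AlgSp.HasAt (fun U u => ringKrullDim ↥(U.presheaf.stalk u) = 0) Y.obj y) :
    ((∀ x : AlgSp.Points X.obj, AlgSp.Points.map f.hom x = y → AlgSp.HasAt (fun U u => ringKrullDim ↥(U.presheaf.stalk u) = 0) X.obj x) ↔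
        (∀ x : AlgSp.Points X.obj, AlgSp.Points.map f.hom x = y → AlgSp.HasAtMor (fun U _ h u => ∃ W : U.Opens, u ∈ W ∧ LocallyQuasiFinite (W.ι ≫ h) ∧ LocallyOfFiniteType (W.ι ≫ h)) f.hom x)) ∧
      ((∀ x : AlgSp.Points X.obj, AlgSp.Points.map f.hom x = y → AlgSp.HasAt (fun U u => ringKrullDim ↥(U.presheaf.stalk u) = 0) X.obj x → AlgSp.HasAtMor (fun U _ h u => ∃ W : U.Opens, u ∈ W ∧ LocallyQuasiFinite (W.ι ≫ h) ∧ LocallyOfFiniteType (W.ι ≫ h)) f.hom x) →
        ∀ x : AlgSp.Points X.obj, AlgSp.Points.map f.hom x = y → AlgSp.HasAt (fun U u => ringKrullDim ↥(U.presheaf.stalk u) = 0) X.obj x) := by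
  have map_pt : ∀ {U V : Over S} (a : (yon S).obj U ⟶ X.obj) (b : (yon S).obj V ⟶ Y.obj)
      (h : U ⟶ V) (_ : a ≫ f.hom = (yon S).map h ≫ b) (u : ↥U.left),
      Points.map f.hom (Points.ofPt a u) = Points.ofPt b (h.left u) := by
    intro U V a b h comm u
    rw [Points.map_ofPt, comm, ofPt_comp]
  obtain ⟨V0, b0, v0, hb0e, hv0, hdim0⟩ := hy
  have hcoh0 : Order.coheight v0 = 0 := by
    rw [AlgebraicGeometry.ringKrullDim_stalk_eq_coheight] at hdim0
    exact_mod_cast hdim0
  have base : ∀ {U V : Over S} (a : (yon S).obj U ⟶ X.obj) (b : (yon S).obj V ⟶ Y.obj)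
      (h : U ⟶ V) (_ : RepWith @Etale b) (_ : a ≫ f.hom = (yon S).map h ≫ b) (u : ↥U.left),
      Points.map f.hom (Points.ofPt a u) = y → Order.coheight (h.left u) = 0 := by
    intro U V a b h hbe comm u hu
    rw [map_pt a b h comm u] at hu
    rw [ResTrdegH8.coheight_chart_indep b b0 hbe hb0e (h.left u) v0 (hu.trans hv0.symm)]
    exact hcoh0
  refine ⟨⟨?_, ?_⟩, ?_⟩
  · intro H x hx
    rw [LqfLocusH8.hasAtMor_exists_opens_iff f hf]
    obtain ⟨U, V, a, b, h, u, hae, hbe, comm, hu⟩ := ResTrdegH8.exists_chart_diagram f x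
    haveI : LocallyOfFiniteType h.left := hf a b h hae hbe comm
    refine ⟨U, V, a, b, h, u, hae, hbe, comm, hu, ?_⟩
    show FlatMor.fibreDimAt h.left u = 0
    refine CodimZeroH8.fibreDimAt_eq_zero_of_forall_coheight h.left (h.left u)
      (base a b h hbe comm u (by rw [hu]; exact hx)) ?_ u rfl
    intro u' hu'
    have hx' : Points.map f.hom (Points.ofPt a u') = y := by
      rw [map_pt a b h comm u', hu', ← map_pt a b h comm u, hu]; exact hx
    obtain ⟨U1, a1, u1, ha1e, hu1, hd1⟩ := H _ hx'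
    rw [ResTrdegH8.coheight_chart_indep a a1 hae ha1e u' u1 hu1.symm]
    rw [AlgebraicGeometry.ringKrullDim_stalk_eq_coheight] at hd1
    exact_mod_cast hd1
  · intro H x hx
    obtain ⟨U, V, a, b, h, u, hae, hbe, comm, hu, hd⟩ := H x hx
    haveI : LocallyOfFiniteType h.left := hf a b h hae hbe comm
    have h0 := LqfLocusH8.fibreDimAt_eq_zero_of_exists_opens h.left u hd
    have hc := CodimZeroH8.coheight_eq_zero_of_fibreDimAt_eq_zero h.left u
      (base a b h hbe comm u (by rw [hu]; exact hx)) h0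
    refine ⟨U, a, u, hae, hu, ?_⟩
    show ringKrullDim ↑(U.left.presheaf.stalk u) = 0
    rw [AlgebraicGeometry.ringKrullDim_stalk_eq_coheight, hc]; rfl
  · intro H x hx
    obtain ⟨U, V, a, b, h, u, hae, hbe, comm, hu⟩ := ResTrdegH8.exists_chart_diagram f x
    haveI : LocallyOfFiniteType h.left := hf a b h hae hbe comm
    have hv := base a b h hbe comm u (by rw [hu]; exact hx)
    have hc := CodimZeroH8.coheight_eq_zero_of_forall_max h.left (h.left u) hv ?_ u rfl
    · refine ⟨U, a, u, hae, hu, ?_⟩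
      show ringKrullDim ↑(U.left.presheaf.stalk u) = 0
      rw [AlgebraicGeometry.ringKrullDim_stalk_eq_coheight, hc]; rfl
    intro u' hu' hcu'
    have hx' : Points.map f.hom (Points.ofPt a u') = y := by
      rw [map_pt a b h comm u', hu', ← map_pt a b h comm u, hu]; exact hx
    obtain ⟨U2, V2, a2, b2, h2, u2, ha2e, hb2e, comm2, hu2, hd2⟩ :=
      H _ hx' ⟨U, a, u', hae, rfl, by
        show ringKrullDim ↑(U.left.presheaf.stalk u') = 0
        rw [AlgebraicGeometry.ringKrullDim_stalk_eq_coheight, hcu']; rfl⟩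
    have h0 := LqfLocusH8.fibreDimAt_eq_zero_of_exists_opens h2.left u2 hd2
    rw [ChartIndepH8.fibreDimAt_chart_indep f.hom hf a b h u' a2 b2 h2 u2 hae hbe ha2e hb2e comm
      comm2 hu2.symm]
    exact h0

end Groth.Agent.S10399
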