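import Groth.Statements.S6035
import Mathlib
import Groth.Agent.Lib.Matlis2_helper5
import Groth.Agent.Lib.InjHull3_helper3

set_option autoImplicit false
universe u
open Matlis

namespace Groth.Agent.S6035

/-- The case of the dualizing functor Hom_A(−, E). Let A be a Noetherian local ring, E an injective hull
of its residue field and M an A-module of finite length. Then the evaluation map M → Hom_A(Hom_A(M,
E), E) is bijective. -/
theorem result (A : Type u) [CommRing A] [IsLocalRing A] [IsNoetherianRing A]
    (E : Type u) [AddCommGroup E] [Module A E] (f : IsLocalRing.ResidueField A →ₗ[A] E)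
    (hf : InjHull.IsInjectiveHull f) (M : Type u) [AddCommGroup M] [Module A M] (hM : IsFiniteLength A M) :
    Function.Bijective (LinearMap.applyₗ : M →ₗ[A] (M →ₗ[A] E) →ₗ[A] E) := by
  haveI := hf.isInjective
  have hy := Groth.Agent.Matlis.isSocleGen_of_isEssentialInj hf.toIsEssentialInj
  have hinj : Function.Injective (LinearMap.applyₗ : M →ₗ[A] (M →ₗ[A] E) →ₗ[A] E) := by
    rw [injective_iff_map_eq_zero]
    intro x hx
    by_contra hne
    obtain ⟨φ, hφ⟩ := Groth.Agent.Lib.InjHull3_helper3.exists_hom_ne_zero f hf x hne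
    exact hφ (LinearMap.congr_fun hx φ)
  refine ⟨hinj, ?_⟩
  have h1 : Module.length A (M →ₗ[A] E) = Module.length A M :=
    Groth.Agent.Matlis.length_hom hy M hM
  have hMtop : Module.length A M ≠ ⊤ := Module.length_ne_top_iff.mpr hM
  have hM' : IsFiniteLength A (M →ₗ[A] E) := by
    rw [← Module.length_ne_top_iff, h1]; exact hMtop
  have h2 : Module.length A ((M →ₗ[A] E) →ₗ[A] E) = Module.length A (M →ₗ[A] E) :=
    Groth.Agent.Matlis.length_hom hy _ hM'
  have hadd := Module.length_eq_add_of_exact
    (LinearMap.applyₗ : M →ₗ[A] (M →ₗ[A] E) →ₗ[A] E)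
    (LinearMap.range (LinearMap.applyₗ : M →ₗ[A] (M →ₗ[A] E) →ₗ[A] E)).mkQ hinj
    (Submodule.mkQ_surjective _) (LinearMap.exact_map_mkQ_range _)
  have hzero := Groth.Agent.Matlis.enat_cancel hMtop (by rw [← hadd, h2, h1])
  rw [← LinearMap.range_eq_top, ← Submodule.Quotient.subsingleton_iff]
  exact Module.length_eq_zero_iff.mp hzero

end Groth.Agent.S6035
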