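import Groth.Statements.S4548
import Groth.Agent.Lib.PSFrobFamily_helper3
import Groth.Agent.Lib.PBasisFamily_helper3
-- import your own Groth.Agent.* helpers here

set_option autoImplicit false
universe u
open EGA41


namespace Groth.Agent.S4548

/-- Let k be a field of characteristic p > 0, A = k[[T_1, …, T_r]] and K its field of fractions. Then
there is a decreasing filtered family (A_α) of Noetherian subrings of A (rendered: a nonempty
family, directed downwards for inclusion) such that A is a free A_α-module of finite type for every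
α and, K_α denoting the subfield of K generated by A_α (its field of fractions inside K), ⋂_α K_α =
K^p. -/
theorem result (p : ℕ) [Fact p.Prime] (k : Type u) [Field k] [CharP k p]
    (r : ℕ) :
    ∃ (ι : Type u) (_ : Nonempty ι) (S : ι → Subring (MvPowerSeries (Fin r) k)),
      (∀ a b : ι, ∃ c, S c ≤ S a ⊓ S b) ∧
      (∀ i, IsNoetherianRing (S i) ∧ Module.Free (S i) (MvPowerSeries (Fin r) k) ∧ Module.Finite (S i) (MvPowerSeries (Fin r) k)) ∧
      ((⨅ i, Subfield.closure (algebraMap (MvPowerSeries (Fin r) k) (FractionRing (MvPowerSeries (Fin r) k)) '' (S i)) :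
          Set (FractionRing (MvPowerSeries (Fin r) k)))) =
        Set.range fun x : FractionRing (MvPowerSeries (Fin r) k) => x ^ p := by
  classical
  obtain ⟨B, hB⟩ := Groth.Agent.Lib.SepSmoothH3.exists_pBasis_field p
    (Groth.Agent.Lib.AdicFSFieldH3.PrimeField k) k
  let F : Finset B → Subfield k := fun J =>
    (Groth.Agent.Lib.PBasisH3.kJ (k₀ := Groth.Agent.Lib.AdicFSFieldH3.PrimeField k) p B J).toSubfield
  refine ⟨Finset B, ⟨∅⟩, fun J => Groth.Agent.Lib.PSFrobFamilyH3.frobSubring p (F J), ?_, ?_, ?_⟩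
  · intro J J'
    refine ⟨J ∪ J', le_inf ?_ ?_⟩
    · apply Groth.Agent.Lib.PSFrobFamilyH3.frobSubring_mono
      exact Groth.Agent.Lib.PBasisH3.kJ_anti p B Finset.subset_union_left
    · apply Groth.Agent.Lib.PSFrobFamilyH3.frobSubring_mono
      exact Groth.Agent.Lib.PBasisH3.kJ_anti p B Finset.subset_union_right
  · intro J
    haveI : Module.Finite (F J) k := Groth.Agent.Lib.PBasisH3.finite_kJ p B hB J
    obtain ⟨h1, h2⟩ := Groth.Agent.Lib.PSFrobFamilyH3.free_finite (σ := Fin r) p (F J)
    exact ⟨Groth.Agent.Lib.PSFrobFamilyH3.isNoetherianRing_frobSubring (σ := Fin r) p (F J), h1, h2⟩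
  · ext x
    rw [Set.iInf_eq_iInter, Set.mem_iInter, Set.mem_range]
    exact Groth.Agent.Lib.PSFrobFamilyH3.forall_mem_closure_iff p (Fin r) F
      (fun J y => Groth.Agent.Lib.PBasisH3.pow_mem_kJ p B J y)
      (fun y hy => (Groth.Agent.Lib.PBasisH3.mem_PK_primeField_iff p y).1
        (Groth.Agent.Lib.PBasisH3.mem_PK_of_forall_mem_kJ p B hB y hy)) x

end Groth.Agent.S4548
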