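import Groth.Statements.S0341
import Mathlib
import Groth.Agent.Lib.Gorenstein_helper5

set_option autoImplicit false
universe u v
open Goren

namespace Groth.Agent.S0341

/-- A Gorenstein local ring is Cohen–Macaulay. -/
theorem result (A : Type u) [CommRing A] [LocCoh.IsGorensteinLocalRing A] : LocCoh.IsCohenMacaulayLocalRing A := by
  haveI : IsNoetherianRing A := inferInstance
  haveI : IsLocalRing A := inferInstance
  obtain ⟨t, ht⟩ := Groth.Agent.Gor.depth_exists A
  have hdim := Groth.Agent.Gor.dim_eq_depth t A
    LocCoh.IsGorensteinLocalRing.exists_hasInjectiveDimensionLT ht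
  exact
    { supportDim_eq_depth := by
        rw [Module.supportDim_self_eq_ringKrullDim, hdim]
        unfold LocCoh.depth
        rw [ht] }

end Groth.Agent.S0341
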