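import Groth.Statements.S9833
import Mathlib
import Groth.Agent.Lib.Japanese3_helper9
import Groth.Agent.Lib.Japanese4_helper9

set_option autoImplicit false
universe u
open CategoryTheory AlgebraicGeometry TopologicalSpace
open Props

open Groth.Agent.Lib.Japanese
namespace Groth.Agent.S9833

/-- If a scheme has an affine open covering by spectra of Nagata rings, then the coordinate ring of
every affine open is Nagata. -/
theorem result (X : Scheme.{u}) {ι : Type u} (U : ι → X.Opens)
    (hU : iSup U = ⊤) (haff : ∀ i, IsAffineOpen (U i)) (hN : ∀ i, CAlg.IsNagata Γ(X, U i))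
    (V : X.Opens) (hV : IsAffineOpen V) : CAlg.IsNagata Γ(X, V) := by
  let P : X.affineOpens → Prop := fun W => CAlg.IsNagata Γ(X, W)
  refine of_affine_open_cover (P := P) (fun i => (⟨U i, haff i⟩ : X.affineOpens)) (by simpa using hU)
    ⟨V, hV⟩ ?_ ?_ (fun i => hN i)
  · intro W f hW
    haveI : IsLocalization.Away f Γ(X, X.basicOpen f) := W.2.isLocalization_basicOpen f
    show CAlg.IsNagata Γ(X, X.basicOpen f)
    exact isNagata_of_isLocalization _ hW (Submonoid.powers f) _
  · intro W s hs hP
    haveI : ∀ f : s, IsLocalization.Away f.1 Γ(X, X.basicOpen f.1) :=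
      fun f => W.2.isLocalization_basicOpen f.1
    exact isNagata_of_span_eq_top Γ(X, W) (fun f : s => f.1) (by simpa using hs)
      (fun f => Γ(X, X.basicOpen f.1)) (fun f => hP f)

end Groth.Agent.S9833
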