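import Groth.Statements.S9359
import Groth.Agent.Lib.RelDim3Old_helper8
import Groth.Agent.Lib.WBE_helper8

set_option autoImplicit false
universe u
open FibDim

namespace Groth.Agent.S9359

open AlgebraicGeometry CategoryTheory in
/-- Let f : X → Y be flat, locally of finite type and of relative dimension d, with X and Y locally
Noetherian. Then dim_x(X) = dim_y(Y) + d for every x ∈ X with image y. -/
theorem result {X Y : Scheme.{u}} [IsLocallyNoetherian X] [IsLocallyNoetherian Y] (f : X ⟶ Y)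
    [Flat f] [LocallyOfFiniteType f] (d : ℕ) (hd : Cyc.HasRelDim f d) (x : X) :
    FlatMor.localDim ↑X x = FlatMor.localDim ↑Y (f.base x) + (d : WithBot ℕ∞) := by
  classical
  have hd' : ∀ y : Y, ∀ T ∈ irreducibleComponents ↥(f.fiber y), topologicalKrullDim T = d := hd
  have hco : ∀ (Z : Scheme.{u}) (z : Z), ((Order.coheight z : ℕ∞) : WithBot ℕ∞) =
      ringKrullDim (Z.presheaf.stalk z) := fun Z z =>
    (AlgebraicGeometry.ringKrullDim_stalk_eq_coheight z).symm
  unfold FlatMor.localDim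
  apply le_antisymm
  · -- `≤`
    haveI : Nonempty {V : TopologicalSpace.Opens ↥Y // f.base x ∈ V} := ⟨⟨⊤, trivial⟩⟩
    obtain ⟨Vstar, hVstar⟩ := ciInf_mem
      (fun V : {V : TopologicalSpace.Opens ↥Y // f.base x ∈ V} =>
        topologicalKrullDim ↥(V.1 : Set ↥Y))
    simp only at hVstar
    rw [← hVstar]
    refine (iInf_le _ ⟨f ⁻¹ᵁ Vstar.1, Vstar.2⟩).trans ?_
    rw [EtDimH8.topDim_open_eq_iSup]
    refine iSup_le fun w => ?_
    rw [hco]
    refine (RelDimLocH8.stalk_dim_le_add f d hd' w.1).trans ?_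
    gcongr
    rw [EtDimH8.topDim_open_eq_iSup, ← hco]
    exact le_iSup (fun v : ↥(Vstar.1 : Set ↥Y) => ((Order.coheight (v : Y) : ℕ∞) : WithBot ℕ∞))
      ⟨f.base w.1, w.2⟩
  · -- `≥`
    refine le_iInf fun U => ?_
    have hopen : IsOpen (f.base '' (U.1 : Set ↥X)) := f.isOpenMap _ U.1.2
    have h1 : (⨅ V : {V : TopologicalSpace.Opens ↥Y // f.base x ∈ V},
        topologicalKrullDim ↥(V.1 : Set ↥Y)) ≤
        topologicalKrullDim ↥(f.base '' (U.1 : Set ↥X)) :=
      iInf_le (fun V : {V : TopologicalSpace.Opens ↥Y // f.base x ∈ V} =>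
        topologicalKrullDim ↥(V.1 : Set ↥Y)) ⟨⟨f.base '' (U.1 : Set ↥X), hopen⟩, ⟨x, U.2, rfl⟩⟩
    refine (add_le_add_left h1 _).trans ?_
    have h2 := EtDimH8.topDim_open_eq_iSup Y ⟨f.base '' (U.1 : Set ↥X), hopen⟩
    simp only [TopologicalSpace.Opens.coe_mk] at h2
    rw [h2]
    apply Groth.Agent.WBEH8.iSup_add_nat_le
    intro v
    obtain ⟨x'', hx''U, hx''v⟩ := v.2
    obtain ⟨x', hx'U, hfx', hdim⟩ := RelDimLocH8.exists_stalk_dim_eq_add f d hd' U.1 x'' hx''U
    rw [hco, ← hx''v, ← hdim, ← hco, EtDimH8.topDim_open_eq_iSup]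
    exact le_iSup (fun w : ↥(U.1 : Set ↥X) => ((Order.coheight (w : X) : ℕ∞) : WithBot ℕ∞))
      ⟨x', hx'U⟩

end Groth.Agent.S9359
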