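import Groth.Statements.S2470
import Groth.Agent.Lib.RegFlat_helper3
import Groth.Agent.Lib.MiracleFlat_helper5
import Groth.Agent.Lib.ExtTop_helper5
import Groth.Agent.Lib.Serre2_helper5
-- import your own Groth.Agent.* helpers here

set_option autoImplicit false
universe u
open EGA41
set_option maxSynthPendingDepth 3

namespace Groth.Agent.S2470

open IsLocalRing in
/-- Let A → B be a local homomorphism of Noetherian local rings with maximal ideals 𝔪, 𝔫 and residue
fields k, k', and let B₀ = B/𝔪B be the closed fibre. The following are equivalent: (a) B is regular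
and the canonical map (𝔪/𝔪²) ⊗_k k' → 𝔫/𝔫² is injective — stated here through dimensions, as
rank_{k'} 𝔫/𝔫² = rank_k 𝔪/𝔪² + rank_{k'} of the cotangent space of B₀, which is equivalent since the
cokernel of that map is the cotangent space of B₀; (c) B and B₀ are regular and B is flat over A;
(d) A and B₀ are regular and B is flat over A; (e) A and B₀ are regular and dim B = dim A + dim B₀.
(Condition (b) of the source, on regular systems of parameters, is not stated.) -/
theorem result {A B : Type u} [CommRing A] [IsLocalRing A] [IsNoetherianRing A] [CommRing B] [IsLocalRing B] [IsNoetherianRing B]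
    [Algebra A B] [IsLocalHom (algebraMap A B)] [IsLocalRing (B ⧸ (maximalIdeal A).map (algebraMap A B))] :
    [IsRegularLocalRing B ∧
       Module.finrank (ResidueField B) (CotangentSpace B) =
         Module.finrank (ResidueField A) (CotangentSpace A) +
           Module.finrank (ResidueField (B ⧸ (maximalIdeal A).map (algebraMap A B))) (CotangentSpace (B ⧸ (maximalIdeal A).map (algebraMap A B))),
     IsRegularLocalRing B ∧ IsRegularLocalRing (B ⧸ (maximalIdeal A).map (algebraMap A B)) ∧ Module.Flat A B,
     IsRegularLocalRing A ∧ IsRegularLocalRing (B ⧸ (maximalIdeal A).map (algebraMap A B)) ∧ Module.Flat A B,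
     IsRegularLocalRing A ∧ IsRegularLocalRing (B ⧸ (maximalIdeal A).map (algebraMap A B)) ∧
       ringKrullDim B = ringKrullDim A + ringKrullDim (B ⧸ (maximalIdeal A).map (algebraMap A B))].TFAE := by
  classical
  set I : Ideal B := (maximalIdeal A).map (algebraMap A B) with hI
  -- numerical data
  have hnat : ∀ (X : Type u) [CommRing X] [IsLocalRing X] [IsNoetherianRing X],
      ∃ n : ℕ, ringKrullDim X = n ∧ n ≤ (maximalIdeal X).spanFinrank := by
    intro X _ _ _
    have h1 := ringKrullDim_le_spanFinrank_maximalIdeal X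
    have h0 : (0 : WithBot ℕ∞) ≤ ringKrullDim X := ringKrullDim_nonneg_of_nontrivial
    generalize ringKrullDim X = x at h0 h1
    induction x using WithBot.recBotCoe with
    | bot => simp at h0
    | coe y =>
      have h2 : y ≤ ((maximalIdeal X).spanFinrank : ℕ∞) := by exact_mod_cast h1
      lift y to ℕ using (ne_top_of_le_ne_top (ENat.coe_ne_top _) h2)
      exact ⟨y, rfl, by exact_mod_cast h2⟩
  obtain ⟨nA, hnA, hleA⟩ := hnat A
  obtain ⟨nB, hnB, hleB⟩ := hnat B
  obtain ⟨n0, hn0, hle0⟩ := hnat (B ⧸ I)
  have heB := Groth.Agent.Lib.RegFlatH3.spanFinrank_maximalIdeal_le_add (A := A) I rfl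
  have hdB : nB ≤ nA + n0 := by
    have := Groth.Agent.Lib.RegFlatH3.ringKrullDim_le_add (A := A) I rfl
    rw [hnA, hnB, hn0] at this
    exact_mod_cast this
  have hregiff : ∀ (X : Type u) [CommRing X] [IsLocalRing X] [IsNoetherianRing X] (n : ℕ),
      ringKrullDim X = n → (IsRegularLocalRing X ↔ (maximalIdeal X).spanFinrank = n) := by
    intro X _ _ _ n hn
    rw [isRegularLocalRing_iff, hn]
    exact_mod_cast Iff.rfl
  have hrA := hregiff A nA hnA
  have hrB := hregiff B nB hnB
  have hr0 := hregiff (B ⧸ I) n0 hn0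
  have hcotA := IsLocalRing.spanFinrank_maximalIdeal_eq_finrank_cotangentSpace A
  have hcotB := IsLocalRing.spanFinrank_maximalIdeal_eq_finrank_cotangentSpace B
  have hcot0 := IsLocalRing.spanFinrank_maximalIdeal_eq_finrank_cotangentSpace (B ⧸ I)
  have hdimiff : ringKrullDim B = ringKrullDim A + ringKrullDim (B ⧸ I) ↔ nB = nA + n0 := by
    rw [hnA, hnB, hn0]
    exact_mod_cast Iff.rfl
  tfae_have 1 → 2 := by
    rintro ⟨hB, hfin⟩
    rw [← hcotA, ← hcotB, ← hcot0] at hfin
    have hB' := hrB.mp hB
    have hA : IsRegularLocalRing A := hrA.mpr (by omega)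
    have h0 : IsRegularLocalRing (B ⧸ I) := hr0.mpr (by omega)
    refine ⟨hB, h0, ?_⟩
    haveI : LocCoh.IsCohenMacaulayLocalRing B := by
      refine @LocCoh.IsCohenMacaulayLocalRing.mk _ _ inferInstance inferInstance ?_
      rw [Module.supportDim_self_eq_ringKrullDim, hnB]
      have := Groth.Agent.ExtTop.regular_depth B nB hnB
      show ((nB : ℕ) : WithBot ℕ∞) = ((LocCoh.idealDepth (maximalIdeal B) B : ℕ∞) : WithBot ℕ∞)
      rw [this]
      rfl
    exact Groth.Agent.MiracleFlat.flat_of_isCMRing (R := A) (S := B) (hdimiff.mpr (by omega))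
  tfae_have 2 → 3 := by
    rintro ⟨hB, h0, hflat⟩
    haveI := hflat
    haveI := hB
    exact ⟨Groth.Agent.Serre.regular_of_flat_local A B, h0, hflat⟩
  tfae_have 3 → 4 := by
    rintro ⟨hA, h0, hflat⟩
    haveI := hflat
    exact ⟨hA, h0, Groth.Agent.Lib.RegFlatH3.ringKrullDim_eq_add_of_flat (A := A) I rfl⟩
  tfae_have 4 → 1 := by
    rintro ⟨hA, h0, hdim⟩
    have hA' := hrA.mp hA
    have h0' := hr0.mp h0
    have hd := hdimiff.mp hdim
    refine ⟨hrB.mpr (by omega), ?_⟩
    rw [← hcotA, ← hcotB, ← hcot0]
    omega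
  tfae_finish

end Groth.Agent.S2470
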