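import Groth.Statements.S4536
import Mathlib

set_option autoImplicit false
universe u
open EGA41

namespace Groth.Agent.S4536

/-- Let A carry the 𝔞-adic and B the 𝔟-adic topology, A → B being continuous (a power of 𝔞 maps into 𝔟).
Then B is formally smooth over A if and only if for every n the (A/𝔞ⁿ)-algebra B/𝔞ⁿB, with the adic
topology of the image of 𝔟, is formally smooth over the discrete ring A/𝔞ⁿ. -/
theorem result {A B : Type u} [CommRing A] [CommRing B] [Algebra A B]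
    (𝔞 : Ideal A) (𝔟 : Ideal B) (hAB : ∃ k : ℕ, (𝔞 ^ k).map (algebraMap A B) ≤ 𝔟) :
    EGA41.IsFormallySmoothAdic A 𝔞 B 𝔟 ↔
      ∀ n : ℕ, EGA41.IsFormallySmoothAdic (A ⧸ 𝔞 ^ n) ⊥ (B ⧸ (𝔞 ^ n).map (algebraMap A B))
        (𝔟.map (Ideal.Quotient.mk ((𝔞 ^ n).map (algebraMap A B)))) := by
  constructor
  · intro h n C _ _ J hJ _ u hu
    obtain ⟨m, hu⟩ := hu
    let _ : Algebra A C := Algebra.compHom C (Ideal.Quotient.mk (𝔞 ^ n))
    have hzero : ∀ a ∈ 𝔞 ^ n, algebraMap A C a = 0 := by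
      intro a ha
      show algebraMap (A ⧸ 𝔞 ^ n) C (Ideal.Quotient.mk (𝔞 ^ n) a) = 0
      rw [Ideal.Quotient.eq_zero_iff_mem.mpr ha, map_zero]
    let u' : B →ₐ[A] C ⧸ J :=
      { toRingHom := u.toRingHom.comp (Ideal.Quotient.mk ((𝔞 ^ n).map (algebraMap A B)))
        commutes' := fun a => u.commutes (Ideal.Quotient.mk (𝔞 ^ n) a) }
    have hu' : ∀ x ∈ 𝔟 ^ m, u' x = 0 := by
      intro x hx
      refine hu (Ideal.Quotient.mk _ x) ?_
      rw [← Ideal.map_pow]
      exact Ideal.mem_map_of_mem _ hx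
    have hk : (𝔞 ^ n).map (algebraMap A C) = ⊥ := by
      rw [Ideal.map_eq_bot_iff_le_ker]
      intro a ha
      exact hzero a ha
    obtain ⟨v', hv'⟩ := h C J hJ ⟨n, hk⟩ u' ⟨m, hu'⟩
    have hker : ∀ b ∈ (𝔞 ^ n).map (algebraMap A B), v'.toRingHom b = 0 := by
      have : (𝔞 ^ n).map (algebraMap A B) ≤ RingHom.ker v'.toRingHom := by
        rw [Ideal.map_le_iff_le_comap]
        intro a ha
        show v' (algebraMap A B a) = 0
        rw [v'.commutes]
        exact hzero a ha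
      exact fun b hb => this hb
    let v : (B ⧸ (𝔞 ^ n).map (algebraMap A B)) →ₐ[A ⧸ 𝔞 ^ n] C :=
      { toRingHom := Ideal.Quotient.lift _ v'.toRingHom hker
        commutes' := fun r => by
          obtain ⟨a, rfl⟩ := Ideal.Quotient.mk_surjective r
          exact v'.commutes a }
    refine ⟨v, ?_⟩
    ext x
    obtain ⟨b, rfl⟩ := Ideal.Quotient.mk_surjective x
    exact DFunLike.congr_fun hv' b
  · intro h C _ _ J hJ hk u hu
    obtain ⟨k, hk⟩ := hk
    obtain ⟨m, hu⟩ := hu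
    have hzero : ∀ a ∈ 𝔞 ^ k, algebraMap A C a = 0 := by
      intro a ha
      have := Ideal.mem_map_of_mem (algebraMap A C) ha
      rw [hk] at this
      exact this
    let _ : Algebra (A ⧸ 𝔞 ^ k) C :=
      (Ideal.Quotient.lift (𝔞 ^ k) (algebraMap A C) hzero).toAlgebra
    have hker : ∀ b ∈ (𝔞 ^ k).map (algebraMap A B), u.toRingHom b = 0 := by
      have : (𝔞 ^ k).map (algebraMap A B) ≤ RingHom.ker u.toRingHom := by
        rw [Ideal.map_le_iff_le_comap]
        intro a ha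
        show u (algebraMap A B a) = 0
        rw [u.commutes]
        show Ideal.Quotient.mk J (algebraMap A C a) = 0
        rw [hzero a ha, map_zero]
      exact fun b hb => this hb
    let uk : (B ⧸ (𝔞 ^ k).map (algebraMap A B)) →ₐ[A ⧸ 𝔞 ^ k] C ⧸ J :=
      { toRingHom := Ideal.Quotient.lift _ u.toRingHom hker
        commutes' := fun r => by
          obtain ⟨a, rfl⟩ := Ideal.Quotient.mk_surjective r
          exact u.commutes a }
    have huk : ∀ x ∈ (𝔟.map (Ideal.Quotient.mk ((𝔞 ^ k).map (algebraMap A B)))) ^ m,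
        uk x = 0 := by
      intro x hx
      rw [← Ideal.map_pow] at hx
      obtain ⟨b, hb, rfl⟩ :=
        (Ideal.mem_map_iff_of_surjective _ Ideal.Quotient.mk_surjective).mp hx
      exact hu b hb
    have hk' : ∃ k' : ℕ, ((⊥ : Ideal (A ⧸ 𝔞 ^ k)) ^ k').map (algebraMap (A ⧸ 𝔞 ^ k) C) = ⊥ :=
      ⟨1, by rw [pow_one, Ideal.map_bot]⟩
    obtain ⟨vk, hvk⟩ := h k C J hJ hk' uk ⟨m, huk⟩
    let v : B →ₐ[A] C :=
      { toRingHom := vk.toRingHom.comp (Ideal.Quotient.mk ((𝔞 ^ k).map (algebraMap A B)))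
        commutes' := fun a => vk.commutes (Ideal.Quotient.mk (𝔞 ^ k) a) }
    refine ⟨v, ?_⟩
    ext b
    exact DFunLike.congr_fun hvk (Ideal.Quotient.mk _ b)

end Groth.Agent.S4536
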