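import Groth.Statements.S10423
import Groth.Agent.Lib.FieldQuot3_helper6
import Groth.Agent.Lib.AlgSpDecent6_helper6
import Groth.Agent.Lib.AlgSpSep_helper7

set_option autoImplicit false
universe u
open CategoryTheory CategoryTheory.Limits AlgebraicGeometry Topology TopologicalSpace
open AlgSp

namespace Groth.Agent.S10423

/-- A morphism of algebraic spaces over a scheme S which is representable, or which is quasi-separated,
is decent (all its base changes to schemes are decent algebraic spaces). The implications through
reasonable and very reasonable morphisms are not part of this row. -/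
theorem result {S : Scheme.{u}} {X Y : AlgSp.Space S} (f : X ⟶ Y) :
    (AlgSp.Representable f.hom → AlgSp.IsDecentMor f.hom) ∧
      (AlgSp.IsQuasiSeparatedMor f.hom → AlgSp.IsDecentMor f.hom) := by
  constructor
  · intro hf
    exact Groth.Agent.Lib.AlgSpDecent6_helper6.isDecentMor_of_representable f.hom hf
  · intro hqs T F' g fst snd sq
    have hF' : IsAlgSpace F' :=
      Groth.Agent.Lib.AlgSpPullback_helper7.isAlgSpace_of_isPullback Y.property.diag X.property
        (IsAlgSpace.yon_obj T) sq
    have hsnd : IsQuasiSeparatedMor snd :=
      Groth.Agent.Lib.AlgSpSep_helper7.isQuasiSeparatedMor_of_isPullback sq hqs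
    intro x
    obtain ⟨q, rfl⟩ := Points.mk_surjective x
    have hq : RepWith @QuasiCompact q.toHom := by
      apply Groth.Agent.Lib.AlgSpQC_helper7.repWith_quasiCompact_of_isQuasiCompactMor _
        (hF'.representable_from_yon _)
      apply Groth.Agent.Lib.AlgSpQC2_helper7.isQuasiCompactMor_of_comp_of_isQuasiSeparatedMor
        q.toHom snd _ hsnd
      obtain ⟨c, hc⟩ := (yon S).map_surjective (q.toHom ≫ snd)
      rw [← hc]
      apply Groth.Agent.Lib.AlgSpQC_helper7.isQuasiCompactMor_of_repWith
      rw [repWith_yon_map_iff]
      haveI := Groth.Agent.Lib.FieldQuot3H6.subsingleton_spec_field q.K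
      exact Groth.Agent.Lib.AlgSpDecent4_helper6.quasiCompact_of_subsingleton
        (X := Spec (CommRingCat.of q.K)) c.left
    exact Groth.Agent.Lib.FieldQuot3H6.exists_qc_mono_point hF' q hq

end Groth.Agent.S10423
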