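import Groth.Statements.S4196
import Mathlib

set_option autoImplicit false
open CategoryTheory AlgebraicGeometry Topology TopologicalSpace
open An

namespace Groth.Agent.S4196

open TopologicalSpace Opposite in
lemma basicSet_congr {X : Scheme.{0}} [X.Over An.SC] {U U' : X.Opens} (h : U = U') (σ : Γ(X, U))
    (σ' : Γ(X, U')) (hσ : X.presheaf.map (eqToHom h).op σ' = σ) (V : Set ℂ) :
    An.Pts.basicSet U' σ' V = An.Pts.basicSet U σ V := by
  subst h
  simp only [eqToHom_refl, op_id, CategoryTheory.Functor.map_id] at hσ
  have h2 : σ' = σ := hσ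
  rw [h2]



/-- The direction from schemes to spaces: an open immersion f : X → Y of schemes locally of finite type
over ℂ, compatible with the structure morphisms, induces an open embedding X(ℂ) → Y(ℂ) of the
associated spaces of complex points. (The published converse concerns analytic spaces, not bare
topological spaces, and is not stated here.) -/
theorem result (X Y : Scheme.{0}) [X.Over An.SC] [LocallyOfFiniteType (X ↘ An.SC)]
    [Y.Over An.SC] [LocallyOfFiniteType (Y ↘ An.SC)] (f : X ⟶ Y) [f.IsOver An.SC] [IsOpenImmersion f] :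
    Topology.IsOpenEmbedding (An.Pts.map f) := by
  have hinj : Function.Injective (An.Pts.map f) := by
    intro x x' h
    apply Subtype.ext
    have := congrArg Subtype.val h
    simp only [An.Pts.map_val] at this
    exact (cancel_mono f).mp this
  have hind : Topology.IsInducing (An.Pts.map f) := by
    constructor
    apply le_antisymm
    · exact (An.Pts.continuous_map f).le_induced
    · refine le_generateFrom ?_
      rintro _ ⟨U, σ, V, hV, rfl⟩
      refine isOpen_induced_iff.mpr
        ⟨An.Pts.basicSet (f ''ᵁ U) ((f.appIso U).inv σ) V, An.Pts.isOpen_basicSet _ _ hV, ?_⟩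
      rw [An.Pts.preimage_basicSet]
      refine basicSet_congr (f.preimage_image_eq U).symm σ _ ?_ V
      have e1 : (f.appIso U).inv ≫ f.app (f ''ᵁ U) ≫
          X.presheaf.map (eqToHom (f.preimage_image_eq U).symm).op = 𝟙 _ := by
        rw [← f.appIso_hom U, Iso.inv_hom_id]
      have e2 := congrArg (fun φ => φ.hom σ) e1
      exact e2
  have hrange : Set.range (An.Pts.map f) = An.Pts.pt ⁻¹' (f.opensRange : Set Y) := by
    ext y
    constructor
    · rintro ⟨x, rfl⟩
      rw [Set.mem_preimage, An.Pts.pt_map]
      exact ⟨x.pt, rfl⟩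
    · intro hy
      have H : Set.range y.1.base ⊆ Set.range f.base := by
        rintro _ ⟨p, rfl⟩
        rw [An.eq_cpt p]
        exact hy
      refine ⟨⟨IsOpenImmersion.lift f y.1 H, ?_⟩, Subtype.ext (IsOpenImmersion.lift_fac f y.1 H)⟩
      rw [← comp_over f, ← Category.assoc, IsOpenImmersion.lift_fac, y.2]
  exact ⟨⟨hind, hinj⟩, by rw [hrange]; exact An.Pts.isOpen_preimage_pt _⟩

end Groth.Agent.S4196
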