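import Groth.Statements.S4198
import Mathlib

set_option autoImplicit false
open CategoryTheory AlgebraicGeometry Topology TopologicalSpace
open An

namespace Groth.Agent.S4198

lemma exists_locallyClosed_of_isConstructible {T : Type*} [TopologicalSpace T] {s : Set T}
    (hs : IsConstructible s) :
    (∀ x ∈ s, ∃ A, IsLocallyClosed A ∧ x ∈ A ∧ A ⊆ s) ∧
      (∀ x ∈ sᶜ, ∃ A, IsLocallyClosed A ∧ x ∈ A ∧ A ⊆ sᶜ) := by
  induction hs using IsConstructible.empty_union_induction with
  | open_retrocompact U hUo hUc =>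
    exact ⟨fun x hx => ⟨U, hUo.isLocallyClosed, hx, subset_rfl⟩,
      fun x hx => ⟨Uᶜ, hUo.isClosed_compl.isLocallyClosed, hx, subset_rfl⟩⟩
  | union s hs t ht ihs iht =>
    refine ⟨?_, ?_⟩
    · rintro x (hx | hx)
      · obtain ⟨A, hA, hxA, hAs⟩ := ihs.1 x hx
        exact ⟨A, hA, hxA, hAs.trans Set.subset_union_left⟩
      · obtain ⟨A, hA, hxA, hAs⟩ := iht.1 x hx
        exact ⟨A, hA, hxA, hAs.trans Set.subset_union_right⟩
    · intro x hx
      rw [Set.compl_union] at hx
      obtain ⟨A, hA, hxA, hAs⟩ := ihs.2 x hx.1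
      obtain ⟨B, hB, hxB, hBs⟩ := iht.2 x hx.2
      refine ⟨A ∩ B, hA.inter hB, ⟨hxA, hxB⟩, ?_⟩
      rw [Set.compl_union]
      exact Set.inter_subset_inter hAs hBs
  | compl s hs ih =>
    refine ⟨ih.2, ?_⟩
    rw [compl_compl]
    exact ih.1



/-- Let f : X → Y be a morphism of finite type (here: quasi-compact, X and Y being locally of finite
type over ℂ). Then f is surjective if and only if the induced map on complex points X(ℂ) → Y(ℂ) is
surjective. (The finite-type hypothesis cannot be dropped.) -/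
theorem result (X Y : Scheme.{0}) [X.Over An.SC] [LocallyOfFiniteType (X ↘ An.SC)]
    [Y.Over An.SC] [LocallyOfFiniteType (Y ↘ An.SC)] (f : X ⟶ Y) [f.IsOver An.SC] [QuasiCompact f] :
    Function.Surjective f.base ↔ Function.Surjective (An.Pts.map f) := by
  have hJX : JacobsonSpace X := LocallyOfFiniteType.jacobsonSpace (X ↘ An.SC)
  have hJY : JacobsonSpace Y := LocallyOfFiniteType.jacobsonSpace (Y ↘ An.SC)
  have hft : LocallyOfFiniteType f := by
    have : LocallyOfFiniteType (f ≫ (Y ↘ An.SC)) := by rw [comp_over f]; infer_instance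
    exact locallyOfFiniteType_of_comp f (Y ↘ An.SC)
  constructor
  · intro hsurj y
    obtain ⟨x0, hx0⟩ := hsurj y.pt
    have e2 : y.1 (IsLocalRing.closedPoint ℂ) = y.pt := by
      show y.1 _ = y.1 An.cpt
      rw [An.eq_cpt (IsLocalRing.closedPoint ℂ)]
    have hyc : IsClosed ({y.pt} : Set Y) := by
      have h1 := ((pointEquivClosedPoint (Y ↘ An.SC)) y).2
      have e : y.pt = ((pointEquivClosedPoint (Y ↘ An.SC)) y).1 := e2.symm
      rw [e]; exact h1
    have hZ : IsClosed (f.base ⁻¹' {y.pt}) := hyc.preimage f.continuous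
    obtain ⟨x, hxZ, hxc⟩ := nonempty_inter_closedPoints (X := X) (Z := f.base ⁻¹' {y.pt})
      ⟨x0, hx0⟩ hZ.isLocallyClosed
    refine ⟨(pointEquivClosedPoint (X ↘ An.SC)).symm ⟨x, hxc⟩, ?_⟩
    apply Subtype.ext
    refine ext_of_apply_closedPoint_eq (Y ↘ An.SC) (An.Pts.map f _).2 y.2 ?_
    show (((pointEquivClosedPoint (X ↘ An.SC)).symm ⟨x, hxc⟩).1 ≫ f) (IsLocalRing.closedPoint ℂ) =
      y.1 (IsLocalRing.closedPoint ℂ)
    rw [Scheme.Hom.comp_apply]
    have e1 : ((pointEquivClosedPoint (X ↘ An.SC)).symm ⟨x, hxc⟩).1 (IsLocalRing.closedPoint ℂ) = x :=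
      pointOfClosedPoint_apply _ _ _ _
    rw [e1, e2]
    exact hxZ
  · intro hsurj
    have hnoeth : IsLocallyNoetherian Y := LocallyOfFiniteType.isLocallyNoetherian (Y ↘ An.SC)
    have hfp : LocallyOfFinitePresentation f :=
      LocallyOfFinitePresentation.iff_locallyOfFiniteType.mpr hft
    have hlc : IsLocallyConstructible (Set.range f.base) := by
      have := f.isLocallyConstructible_image (s := Set.univ)
        (IsConstructible.univ.isLocallyConstructible)
      rwa [Set.image_univ] at this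
    intro y
    by_contra hy
    obtain ⟨U, hU, hUo, hUc⟩ := hlc y
    have hyU : y ∈ U := mem_of_mem_nhds hU
    obtain ⟨A, hA, hyA, hAs⟩ := (exists_locallyClosed_of_isConstructible hUc).2 ⟨y, hyU⟩
      (by simpa using hy)
    have hJU : JacobsonSpace U := JacobsonSpace.of_isOpenEmbedding hUo.isOpenEmbedding_subtypeVal
    obtain ⟨a, haA, hac⟩ := nonempty_inter_closedPoints (X := U) ⟨_, hyA⟩ hA
    have hac' : (a : Y) ∈ closedPoints Y := by
      have h1 := hUo.isOpenEmbedding_subtypeVal.preimage_closedPoints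
      rw [← h1] at hac
      exact hac
    have hnr : (a : Y) ∉ Set.range f.base := by
      have := hAs haA
      simpa using this
    apply hnr
    obtain ⟨px, hpx⟩ := hsurj ((pointEquivClosedPoint (Y ↘ An.SC)).symm ⟨a, hac'⟩)
    refine ⟨px.pt, ?_⟩
    have h3 := An.Pts.pt_map f px
    rw [hpx] at h3
    rw [← h3]
    show ((pointEquivClosedPoint (Y ↘ An.SC)).symm ⟨a, hac'⟩).1 An.cpt = a
    exact pointOfClosedPoint_apply _ _ _ _

end Groth.Agent.S4198
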