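import Groth.Statements.S6593

set_option autoImplicit false
universe w v u
open CategoryTheory CategoryTheory.Limits
open CohDer

namespace Groth.Agent.S6593

open CategoryTheory.Pretriangulated in
/-- Let D be a pretriangulated category and (X_i → Y_i → Z_i → X_i⟦1⟧)_{i ∈ I} a family of distinguished
triangles. If the direct sums ⨁ X_i, ⨁ Y_i, ⨁ Z_i exist, then ⨁ X_i → ⨁ Y_i → ⨁ Z_i → (⨁ X_i)⟦1⟧ is
a distinguished triangle (the last map is induced by the composites Z_i → X_i⟦1⟧ → (⨁ X_i)⟦1⟧). -/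
theorem result {D : Type u} [Category.{v} D] [Preadditive D] [HasZeroObject D] [HasShift D ℤ]
    [∀ n : ℤ, (shiftFunctor D n).Additive] [Pretriangulated D]
    {J : Type w} (T : J → Triangle D) (hT : ∀ j, T j ∈ distinguishedTriangles)
    [HasCoproduct (fun j => (T j).obj₁)] [HasCoproduct (fun j => (T j).obj₂)] [HasCoproduct (fun j => (T j).obj₃)] :
    Triangle.mk (Limits.Sigma.map (fun j => (T j).mor₁)) (Limits.Sigma.map (fun j => (T j).mor₂))
      (Sigma.desc (fun j => (T j).mor₃ ≫ (shiftFunctor D (1 : ℤ)).map (Sigma.ι (fun j => (T j).obj₁) j))) ∈ distinguishedTriangles := by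
  -- colimit cofans for the shifted coproducts
  have hX1 : IsColimit (Cofan.mk _ fun j : J => (shiftFunctor D (1 : ℤ)).map (Sigma.ι (fun j => (T j).obj₁) j)) :=
    isColimitOfHasCoproductOfPreservesColimit (shiftFunctor D (1 : ℤ)) (fun j => (T j).obj₁)
  have hY1 : IsColimit (Cofan.mk _ fun j : J => (shiftFunctor D (1 : ℤ)).map (Sigma.ι (fun j => (T j).obj₂) j)) :=
    isColimitOfHasCoproductOfPreservesColimit (shiftFunctor D (1 : ℤ)) (fun j => (T j).obj₂)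
  let f₁ := Limits.Sigma.map (fun j => (T j).mor₁)
  let s₂ := Limits.Sigma.map (fun j => (T j).mor₂)
  let s₃ := Sigma.desc (fun j => (T j).mor₃ ≫ (shiftFunctor D (1 : ℤ)).map (Sigma.ι (fun j => (T j).obj₁) j))
  have hf₁ : ∀ j, Sigma.ι (fun j => (T j).obj₁) j ≫ f₁ = (T j).mor₁ ≫ Sigma.ι (fun j => (T j).obj₂) j :=
    fun j => Sigma.ι_map _ j
  have hs₂ : ∀ j, Sigma.ι (fun j => (T j).obj₂) j ≫ s₂ = (T j).mor₂ ≫ Sigma.ι (fun j => (T j).obj₃) j :=
    fun j => Sigma.ι_map _ j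
  have hs₃ : ∀ j, Sigma.ι (fun j => (T j).obj₃) j ≫ s₃ =
      (T j).mor₃ ≫ (shiftFunctor D (1 : ℤ)).map (Sigma.ι (fun j => (T j).obj₁) j) :=
    fun j => Sigma.ι_desc _ j
  show Triangle.mk f₁ s₂ s₃ ∈ distTriang D
  obtain ⟨Z, f₂, f₃, hT'⟩ := distinguished_cocone_triangle f₁
  let φ : ∀ j, T j ⟶ Triangle.mk f₁ f₂ f₃ := fun j => completeDistinguishedTriangleMorphism _ _
    (hT j) hT' (Sigma.ι (fun j => (T j).obj₁) j) (Sigma.ι (fun j => (T j).obj₂) j)
    (hf₁ j).symm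
  let c : ∐ (fun j => (T j).obj₃) ⟶ Z := Sigma.desc (fun j => (φ j).hom₃)
  have hc : ∀ j, Sigma.ι (fun j => (T j).obj₃) j ≫ c = (φ j).hom₃ := fun j => Sigma.ι_desc _ j
  have hc₂ : s₂ ≫ c = f₂ := by
    apply Sigma.hom_ext
    intro j
    have := (φ j).comm₂
    rw [reassoc_of% (hs₂ j), hc j]
    exact this
  have hc₃ : s₃ = c ≫ f₃ := by
    apply Sigma.hom_ext
    intro j
    have := (φ j).comm₃
    rw [reassoc_of% (hc j), hs₃ j]
    exact this
  let φ' : Triangle.mk f₁ s₂ s₃ ⟶ Triangle.mk f₁ f₂ f₃ :=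
    { hom₁ := 𝟙 (∐ fun j => (T j).obj₁)
      hom₂ := 𝟙 (∐ fun j => (T j).obj₂)
      hom₃ := c
      comm₁ := by
        show f₁ ≫ 𝟙 (∐ fun j => (T j).obj₂) = 𝟙 (∐ fun j => (T j).obj₁) ≫ f₁
        rw [Category.comp_id, Category.id_comp]
      comm₂ := by
        show s₂ ≫ c = 𝟙 (∐ fun j => (T j).obj₂) ≫ f₂
        rw [Category.id_comp, hc₂]
      comm₃ := by
        show s₃ ≫ (shiftFunctor D (1 : ℤ)).map (𝟙 (∐ fun j => (T j).obj₁)) = c ≫ f₃
        rw [CategoryTheory.Functor.map_id, Category.comp_id, hc₃] }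
  have : IsIso φ'.hom₁ := by
    show IsIso (𝟙 (∐ fun j => (T j).obj₁)); infer_instance
  have : IsIso φ'.hom₂ := by
    show IsIso (𝟙 (∐ fun j => (T j).obj₂)); infer_instance
  suffices IsIso φ'.hom₃ by
    have : IsIso φ' := by
      apply Triangle.isIso_of_isIsos
      all_goals infer_instance
    exact isomorphic_distinguished _ hT' _ (asIso φ')
  show IsIso c
  have zero₁₂ : f₁ ≫ s₂ = 0 := by
    apply Sigma.hom_ext
    intro j
    rw [reassoc_of% (hf₁ j), hs₂ j, reassoc_of% (comp_distTriang_mor_zero₁₂ _ (hT j)), zero_comp,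
      comp_zero]
  refine isIso_of_coyoneda_map_bijective _ (fun A => ⟨?_, ?_⟩)
  · -- injectivity: c is epi
    suffices Epi c from fun a₁ a₂ h => by simpa only [cancel_epi] using h
    rw [Preadditive.epi_iff_cancel_zero]
    intro A a ha
    have h2 : f₂ ≫ a = 0 := by rw [← hc₂, Category.assoc, ha, comp_zero]
    obtain ⟨b, hb⟩ : ∃ b : (shiftFunctor D (1 : ℤ)).obj (∐ fun j => (T j).obj₁) ⟶ A, a = f₃ ≫ b :=
      Triangle.yoneda_exact₃ _ hT' a h2
    have h3 : ∀ j, (T j).mor₃ ≫ ((shiftFunctor D (1 : ℤ)).map (Sigma.ι (fun j => (T j).obj₁) j) ≫ b) = 0 := by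
      intro j
      have h4 : s₃ ≫ b = 0 := by rw [hc₃, Category.assoc, ← hb, ha]
      rw [← Category.assoc, ← hs₃ j, Category.assoc, h4, comp_zero]
    have h6 : ∀ j, ∃ e : (shiftFunctor D (1 : ℤ)).obj (T j).obj₂ ⟶ A,
        (shiftFunctor D (1 : ℤ)).map (Sigma.ι (fun j => (T j).obj₁) j) ≫ b =
        (-(shiftFunctor D (1 : ℤ)).map (T j).mor₁) ≫ e :=
      fun j => Triangle.yoneda_exact₃ _ (rot_of_distTriang _ (hT j)) _ (h3 j)
    let e := fun j => (h6 j).choose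
    have he : ∀ j, (shiftFunctor D (1 : ℤ)).map (Sigma.ι (fun j => (T j).obj₁) j) ≫ b =
        (-(shiftFunctor D (1 : ℤ)).map (T j).mor₁) ≫ e j := fun j => (h6 j).choose_spec
    let E : (shiftFunctor D (1 : ℤ)).obj (∐ fun j => (T j).obj₂) ⟶ A :=
      Cofan.IsColimit.desc hY1 (fun j => - e j)
    have hE : ∀ j, (shiftFunctor D (1 : ℤ)).map (Sigma.ι (fun j => (T j).obj₂) j) ≫ E = - e j :=
      fun j => Cofan.IsColimit.fac hY1 _ j
    have hbE : b = (shiftFunctor D (1 : ℤ)).map f₁ ≫ E := by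
      apply Cofan.IsColimit.hom_ext hX1
      intro j
      simp only [Cofan.mk_pt, cofan_mk_inj]
      rw [he j, ← Functor.map_comp_assoc, hf₁ j, Functor.map_comp, Category.assoc, hE j]
      simp
    rw [hb, hbE]
    have : f₃ ≫ (shiftFunctor D (1 : ℤ)).map f₁ = 0 := comp_distTriang_mor_zero₃₁ _ hT'
    rw [reassoc_of% this, zero_comp]
  · -- surjectivity
    intro (a : (∐ fun j => (T j).obj₃) ⟶ A)
    show ∃ a' : Z ⟶ A, c ≫ a' = a
    obtain ⟨a'', ha''⟩ : ∃ a'' : Z ⟶ A, s₂ ≫ a = f₂ ≫ a'' :=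
      Triangle.yoneda_exact₂ _ hT' (s₂ ≫ a) (by
        show f₁ ≫ s₂ ≫ a = 0
        rw [reassoc_of% zero₁₂, zero_comp])
    have h1 : ∀ j, (T j).mor₂ ≫ (Sigma.ι (fun j => (T j).obj₃) j ≫ (a - c ≫ a'')) = 0 := by
      intro j
      have : s₂ ≫ (a - c ≫ a'') = 0 := by
        rw [Preadditive.comp_sub, reassoc_of% hc₂, ha'', sub_self]
      rw [← Category.assoc, ← hs₂ j, Category.assoc, this, comp_zero]
    have h3 : ∀ j, ∃ b : (shiftFunctor D (1 : ℤ)).obj (T j).obj₁ ⟶ A,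
        Sigma.ι (fun j => (T j).obj₃) j ≫ (a - c ≫ a'') = (T j).mor₃ ≫ b :=
      fun j => Triangle.yoneda_exact₃ _ (hT j) _ (h1 j)
    let b := fun j => (h3 j).choose
    have hb : ∀ j, Sigma.ι (fun j => (T j).obj₃) j ≫ (a - c ≫ a'') = (T j).mor₃ ≫ b j :=
      fun j => (h3 j).choose_spec
    let B : (shiftFunctor D (1 : ℤ)).obj (∐ fun j => (T j).obj₁) ⟶ A :=
      Cofan.IsColimit.desc hX1 b
    have hB : ∀ j, (shiftFunctor D (1 : ℤ)).map (Sigma.ι (fun j => (T j).obj₁) j) ≫ B = b j :=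
      fun j => Cofan.IsColimit.fac hX1 _ j
    have hb' : a - c ≫ a'' = s₃ ≫ B := by
      apply Sigma.hom_ext
      intro j
      rw [hb j, reassoc_of% (hs₃ j), hB j]
    refine ⟨a'' + f₃ ≫ B, ?_⟩
    rw [Preadditive.comp_add, ← Category.assoc, ← hc₃, ← hb', add_sub_cancel]

end Groth.Agent.S6593
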