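import Groth.Statements.S4511
import Groth.Agent.Lib.RegPS_helper3
import Groth.Agent.Lib.CoeffFieldP_helper3
import Groth.Agent.S11740
-- import your own Groth.Agent.* helpers here

set_option autoImplicit false
universe u
open EGA41
set_option maxSynthPendingDepth 3

namespace Groth.Agent.S4511

open IsLocalRing in
/-- Let A be a complete Noetherian local ring whose residue field has characteristic p (p = 0 allowed).
The following are equivalent: (a) A contains a field, i.e. there is a ring homomorphism from a field
into A; (b) p·1 = 0 in A; (c) A is isomorphic to a quotient of a power series ring K[[T_1, …, T_n]]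
over a field K. Moreover, when they hold, the surjection in (c) may be chosen with kernel contained
in the square of the maximal ideal of K[[T_1, …, T_n]]. -/
theorem result (A : Type u) [CommRing A] [IsLocalRing A] [IsNoetherianRing A]
    [IsAdicComplete (maximalIdeal A) A] (p : ℕ) [CharP (ResidueField A) p] :
    [∃ (K : Type u) (_ : Field K), Nonempty (K →+* A),
     (p : A) = 0,
     ∃ (K : Type u) (_ : Field K) (n : ℕ) (f : MvPowerSeries (Fin n) K →+* A), Function.Surjective f].TFAE ∧
    ((p : A) = 0 → ∃ (K : Type u) (_ : Field K) (n : ℕ) (f : MvPowerSeries (Fin n) K →+* A),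
      Function.Surjective f ∧ RingHom.ker f ≤ maximalIdeal (MvPowerSeries (Fin n) K) ^ 2) := by
  classical
  have key : (p : A) = 0 → ∃ (K : Type u) (_ : Field K) (n : ℕ)
      (f : MvPowerSeries (Fin n) K →+* A),
      Function.Surjective f ∧ RingHom.ker f ≤ maximalIdeal (MvPowerSeries (Fin n) K) ^ 2 := by
    intro hp0
    obtain ⟨s, hs⟩ := Groth.Agent.Lib.CoeffFieldPH3.exists_section_of_natCast_eq_zero A p hp0
    letI : Algebra (ResidueField A) A := s.toAlgebra
    have hR : Function.Surjective ((residue A).comp (algebraMap (ResidueField A) A)) :=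
      fun y => ⟨y, RingHom.congr_fun hs y⟩
    let b := Module.finBasis (ResidueField A) (CotangentSpace A)
    have hx : ∀ i : Fin (Module.finrank (ResidueField A) (CotangentSpace A)),
        ∃ x : maximalIdeal A, (maximalIdeal A).toCotangent x = b i :=
      fun i => Ideal.toCotangent_surjective _ (b i)
    choose x hx using hx
    haveI : IsAdicComplete (maximalIdeal (ResidueField A)) (ResidueField A) := by
      rw [IsLocalRing.maximalIdeal_eq_bot]
      infer_instance
    obtain ⟨ψ, hψX⟩ := Groth.Agent.Lib.RegPSH3.exists_algHom_X (Λ := ResidueField A)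
      (Module.finrank (ResidueField A) (CotangentSpace A)) (fun i => (x i : A)) (fun i => (x i).2)
    have hψ : ∀ i, ψ (MvPowerSeries.X i) ∈ maximalIdeal A := fun i => by
      rw [hψX]
      exact (x i).2
    have hfun : (fun i => (maximalIdeal A).toCotangent ⟨ψ (MvPowerSeries.X i), hψ i⟩) = b := by
      funext i
      rw [← hx i]
      congr 1
      exact Subtype.ext (hψX i)
    have hb : LinearIndependent (ResidueField A)
        (fun i => (maximalIdeal A).toCotangent ⟨ψ (MvPowerSeries.X i), hψ i⟩) := by
      rw [hfun]
      exact b.linearIndependent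
    have hsp : Submodule.span (ResidueField A)
        (Set.range (fun i => (maximalIdeal A).toCotangent ⟨ψ (MvPowerSeries.X i), hψ i⟩)) = ⊤ := by
      rw [hfun]
      exact b.span_eq
    obtain ⟨hsurj, hker⟩ := Groth.Agent.S11740.result (ResidueField A) A hR _ ψ hψ hb hsp
    exact ⟨ResidueField A, inferInstance, _, ψ.toRingHom, hsurj, hker⟩
  refine ⟨?_, key⟩
  tfae_have 1 → 2 := by
    rintro ⟨K, _, ⟨φ⟩⟩
    haveI : CharP K p := RingHom.charP ((residue A).comp φ) ((residue A).comp φ).injective p
    rw [← map_natCast φ, CharP.cast_eq_zero, map_zero]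
  tfae_have 2 → 3 := by
    intro h
    obtain ⟨K, i, n, f, hf, -⟩ := key h
    exact ⟨K, i, n, f, hf⟩
  tfae_have 3 → 1 := by
    rintro ⟨K, _, n, f, -⟩
    exact ⟨K, inferInstance, ⟨f.comp MvPowerSeries.C⟩⟩
  tfae_finish

end Groth.Agent.S4511
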