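import Groth.Statements.S1638
import Mathlib
-- import your own Groth.Agent.* helpers here

set_option autoImplicit false
universe u
open Brauer

namespace Groth.Agent.S1638


open TensorProduct in
/-- centralizer of `B ⊗ B'` in `A ⊗ A'` is `C ⊗ C'` (universe-general version) -/
theorem centralizer_tensor (k : Type*) [Field k] (A A' : Type*) [Ring A] [Ring A'] [Algebra k A]
    [Algebra k A'] (B : Subalgebra k A) (B' : Subalgebra k A') :
    Subalgebra.centralizer k
        ((Algebra.TensorProduct.map B.val B'.val).range : Set (A ⊗[k] A')) =
      (Algebra.TensorProduct.map (Subalgebra.centralizer k (B : Set A)).val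
        (Subalgebra.centralizer k (B' : Set A')).val).range := by
  classical
  apply le_antisymm
  · intro x hx
    rw [Subalgebra.mem_centralizer_iff] at hx
    have h1 : x ∈ Subalgebra.centralizer k
        (Algebra.TensorProduct.includeLeft (S := k) '' (B : Set A) : Set (A ⊗[k] A')) := by
      rw [Subalgebra.mem_centralizer_iff]
      rintro _ ⟨b, hb, rfl⟩
      exact hx _ ⟨(⟨b, hb⟩ : B) ⊗ₜ (1 : B'), by simp⟩
    rw [Subalgebra.centralizer_coe_image_includeLeft_eq_center_tensorProduct k A A' (B : Set A)]
      at h1
    obtain ⟨y, rfl⟩ := h1
    have hfun : ∀ t, Algebra.TensorProduct.map (Subalgebra.centralizer k (B : Set A)).val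
        (AlgHom.id k A') t =
        ((Subalgebra.centralizer k (B : Set A)).val.toLinearMap.rTensor A') t := by
      intro t
      induction t using TensorProduct.induction_on with
      | zero => simp
      | tmul c a' => simp
      | add t₁ t₂ h₁ h₂ => rw [map_add, map_add, h₁, h₂]
    have hinj : Function.Injective (Algebra.TensorProduct.map
        (Subalgebra.centralizer k (B : Set A)).val (AlgHom.id k A')) := by
      intro s t hst
      rw [hfun, hfun] at hst
      exact Module.Flat.rTensor_preserves_injective_linearMap _ Subtype.val_injective hst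
    have h2 : y ∈ Subalgebra.centralizer k
        (Algebra.TensorProduct.includeRight '' (B' : Set A') :
          Set (↥(Subalgebra.centralizer k (B : Set A)) ⊗[k] A')) := by
      rw [Subalgebra.mem_centralizer_iff]
      rintro _ ⟨b', hb', rfl⟩
      apply hinj
      rw [map_mul, map_mul]
      have h3 := hx ((1 : A) ⊗ₜ b') ⟨(1 : B) ⊗ₜ (⟨b', hb'⟩ : B'), by simp⟩
      simpa using h3
    rw [Subalgebra.centralizer_coe_image_includeRight_eq_center_tensorProduct k
      ↥(Subalgebra.centralizer k (B : Set A)) A' (B' : Set A')] at h2
    obtain ⟨z, rfl⟩ := h2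
    have hcomp : ∀ z : ↥(Subalgebra.centralizer k (B : Set A)) ⊗[k]
        ↥(Subalgebra.centralizer k (B' : Set A')),
        Algebra.TensorProduct.map (Subalgebra.centralizer k (B : Set A)).val
          (Subalgebra.centralizer k (B' : Set A')).val z =
        Algebra.TensorProduct.map (Subalgebra.centralizer k (B : Set A)).val (AlgHom.id k A')
          (Algebra.TensorProduct.map (AlgHom.id k ↥(Subalgebra.centralizer k (B : Set A)))
            (Subalgebra.centralizer k (B' : Set A')).val z) := by
      intro z
      induction z using TensorProduct.induction_on with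
      | zero => simp
      | tmul c c' => simp
      | add z₁ z₂ h₁ h₂ => rw [map_add, map_add, map_add, h₁, h₂]
    exact ⟨z, hcomp z⟩
  · rintro _ ⟨z, rfl⟩
    rw [Subalgebra.mem_centralizer_iff]
    rintro _ ⟨w, rfl⟩
    induction z using TensorProduct.induction_on with
    | zero => simp
    | add z₁ z₂ h₁ h₂ => rw [map_add, mul_add, add_mul, h₁, h₂]
    | tmul c c' =>
      induction w using TensorProduct.induction_on with
      | zero => simp
      | add w₁ w₂ h₁ h₂ => rw [map_add, add_mul, mul_add, h₁, h₂]
      | tmul b b' =>
        show ((b : A) ⊗ₜ[k] (b' : A')) * ((c : A) ⊗ₜ[k] (c' : A')) =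
          ((c : A) ⊗ₜ[k] (c' : A')) * ((b : A) ⊗ₜ[k] (b' : A'))
        rw [Algebra.TensorProduct.tmul_mul_tmul, Algebra.TensorProduct.tmul_mul_tmul]
        have e1 : (b : A) * (c : A) = c * b := (Subalgebra.mem_centralizer_iff k).1 c.2 b b.2
        have e2 : (b' : A') * (c' : A') = c' * b' :=
          (Subalgebra.mem_centralizer_iff k).1 c'.2 b' b'.2
        rw [e1, e2]



/-- Let A and A' be algebras over a field k with subalgebras B ⊆ A and B' ⊆ A' having centralizers C and
C'. Then the centralizer of the image of B ⊗ B' in A ⊗_k A' is the image of C ⊗_k C'. -/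
theorem result (k : Type u) [Field k] (A A' : Type u) [Ring A] [Ring A'] [Algebra k A] [Algebra k A']
    (B : Subalgebra k A) (B' : Subalgebra k A') :
    Subalgebra.centralizer k ((Algebra.TensorProduct.map B.val B'.val).range : Set (TensorProduct k A A')) =
      (Algebra.TensorProduct.map (Subalgebra.centralizer k (B : Set A)).val (Subalgebra.centralizer k (B' : Set A')).val).range := by

  exact centralizer_tensor k A A' B B'

end Groth.Agent.S1638
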