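import Groth.Statements.S0195
import Mathlib
import Groth.Agent.Lib.CSAModule_helper6
import Groth.Agent.Lib.CSABaseChange_helper6
import Groth.Agent.Lib.CSAUnique_helper6
open Matrix.Module
-- import your own Groth.Agent.* helpers here

set_option autoImplicit false
universe u v w
open scoped TensorProduct
open Curves

namespace Groth.Agent.S0195


open Module in
/-- a simple algebra acting on a space of the right dimension is a matrix algebra -/
theorem algEquiv_matrix_of_hom {K T W : Type*} [Field K] [Ring T] [Algebra K T] [IsSimpleRing T]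
    [FiniteDimensional K T] [AddCommGroup W] [Module K W] [FiniteDimensional K W] [Nontrivial W]
    (Ψ : T →ₐ[K] Module.End K W) (n : ℕ) (hW : finrank K W = n) (hT : finrank K T = n * n) :
    Nonempty (T ≃ₐ[K] Matrix (Fin n) (Fin n) K) := by
  classical
  obtain ⟨b, -⟩ : ∃ b : Module.Basis (Fin n) K W, True := ⟨Module.finBasisOfFinrankEq K W hW, trivial⟩
  obtain ⟨Ψ', hΨ'⟩ : ∃ Ψ' : T →ₐ[K] Matrix (Fin n) (Fin n) K,
      Ψ' = (algEquivMatrix b).toAlgHom.comp Ψ := ⟨_, rfl⟩
  have hn : n ≠ 0 := by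
    rintro rfl
    have : 0 < finrank K W := Module.finrank_pos
    omega
  haveI : Nonempty (Fin n) := ⟨⟨0, Nat.pos_of_ne_zero hn⟩⟩
  have hinj : Function.Injective Ψ' := (Ψ' : T →+* Matrix (Fin n) (Fin n) K).injective
  have hfr : finrank K T = finrank K (Matrix (Fin n) (Fin n) K) := by
    rw [hT, Module.finrank_matrix, Module.finrank_self, Fintype.card_fin, mul_one]
  have hsurj : Function.Surjective Ψ' :=
    (LinearMap.injective_iff_surjective_of_finrank_eq_finrank hfr (f := Ψ'.toLinearMap)).1 hinj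
  exact ⟨AlgEquiv.ofBijective Ψ' ⟨hinj, hsurj⟩⟩

/-- `K ≃ M₁(K)` -/
noncomputable def oneByOne (K : Type*) [Field K] : K ≃ₐ[K] Matrix (Fin 1) (Fin 1) K :=
  AlgEquiv.ofBijective (Algebra.ofId K _) ⟨(algebraMap K _).injective, by
    intro M
    refine ⟨M 0 0, ?_⟩
    ext i j
    fin_cases i; fin_cases j
    simp [Algebra.ofId_apply, Matrix.algebraMap_matrix_apply]⟩

/-- base change commutes with matrices -/
noncomputable def baseChangeMatrix (k k' A : Type*) [Field k] [Field k'] [Algebra k k'] [Ring A]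
    [Algebra k A] (a : ℕ) :
    k' ⊗[k] Matrix (Fin a) (Fin a) A ≃ₐ[k'] Matrix (Fin a) (Fin a) (k' ⊗[k] A) :=
  (Algebra.TensorProduct.congr
      (oneByOne k')
      (AlgEquiv.refl : Matrix (Fin a) (Fin a) A ≃ₐ[k] Matrix (Fin a) (Fin a) A)).trans
    ((Matrix.kroneckerTMulAlgEquiv (Fin 1) (Fin a) k k' k' A).trans
      (Matrix.reindexAlgEquiv k' (k' ⊗[k] A) (Equiv.uniqueProd (Fin a) (Fin 1))))

theorem isCentral_of_matrix (k X : Type*) [Field k] [Ring X] [Algebra k X] (n : ℕ) (hn : n ≠ 0)
    [h : Algebra.IsCentral k (Matrix (Fin n) (Fin n) X)] : Algebra.IsCentral k X := by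
  haveI : NeZero n := ⟨hn⟩
  constructor
  intro x hx
  have h1 : Matrix.scalarAlgHom (Fin n) k x ∈ Subalgebra.center k (Matrix (Fin n) (Fin n) X) := by
    rw [Matrix.subalgebraCenter_eq_scalarAlgHom_map]
    exact ⟨x, hx, rfl⟩
  obtain ⟨a, ha⟩ := (Algebra.IsCentral.mem_center_iff k).1 h1
  have h2 := congrFun (congrFun ha 0) 0
  rw [Algebra.mem_bot]
  refine ⟨a, ?_⟩
  simpa [Matrix.algebraMap_matrix_apply] using h2.symm

open Module Groth.Agent.Lib.CSAModule in
/-- if `B ⊇ k'` has dimension `[k':k]^2` then `k'` splits `B`. -/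
theorem splits_of_subfield (k : Type u) [Field k] (B : Type v) [Ring B] [Algebra k B]
    [Algebra.IsCentral k B] [IsSimpleRing B] [FiniteDimensional k B]
    (k' : Type w) [Field k'] [Algebra k k'] [FiniteDimensional k k'] (ι : k' →ₐ[k] B)
    (hfin : finrank k B = finrank k k' ^ 2) :
    Nonempty (k' ⊗[k] B ≃ₐ[k'] Matrix (Fin (finrank k k')) (Fin (finrank k k')) k') := by
  classical
  obtain ⟨m, hm⟩ : ∃ m, m = finrank k k' := ⟨_, rfl⟩
  have hm0 : 0 < m := hm ▸ Module.finrank_pos
  rw [← hm] at hfin ⊢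
  obtain ⟨ρ', hρ'⟩ : ∃ ρ' : k' →ₐ[k] Module.End k B, ∀ c x, ρ' c x = x * ι c := by
    refine ⟨{ toFun := fun c => LinearMap.mulRight k (ι c), map_one' := ?_, map_mul' := ?_,
              map_zero' := ?_, map_add' := ?_, commutes' := ?_ }, fun c x => rfl⟩
    · ext x; simp
    · intro c d; ext x
      simp only [LinearMap.mulRight_apply, Module.End.mul_apply]
      rw [mul_comm c d, map_mul, mul_assoc]
    · ext x; simp
    · intro c d; ext x; simp [mul_add]
    · intro r; ext x
      simp only [LinearMap.mulRight_apply, Module.algebraMap_end_apply]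
      rw [AlgHom.commutes, ← Algebra.commutes, ← Algebra.smul_def]
  have hsmul : ∀ (c : k') (x : RepMod ρ'), c • x = (show B from (show B from x) * ι c) :=
    fun c x => hρ' c x
  have hW : finrank k' (RepMod ρ') = m := by
    have h1 := Module.finrank_mul_finrank k k' (RepMod ρ')
    rw [RepMod.finrank_eq, hfin, ← hm, pow_two] at h1
    exact Nat.eq_of_mul_eq_mul_left hm0 h1
  obtain ⟨gL, hgL⟩ : ∃ gL : B →ₐ[k] Module.End k' (RepMod ρ'),
      ∀ b x, gL b x = (show B from b * (show B from x)) := by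
    refine ⟨{ toFun := fun b =>
                { toFun := fun x => (show B from b * (show B from x))
                  map_add' := fun x y => mul_add b _ _
                  map_smul' := fun c x => ?_ },
              map_one' := ?_, map_mul' := ?_, map_zero' := ?_, map_add' := ?_, commutes' := ?_ },
            fun b x => rfl⟩
    · show b * (show B from c • x) = c • (show RepMod ρ' from b * (show B from x))
      rw [hsmul, hsmul]
      exact (mul_assoc b _ _).symm
    · exact LinearMap.ext fun x => one_mul (show B from x)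
    · intro b b'
      exact LinearMap.ext fun x => mul_assoc b b' (show B from x)
    · exact LinearMap.ext fun x => zero_mul (show B from x)
    · intro b b'
      exact LinearMap.ext fun x => add_mul b b' (show B from x)
    · intro r
      refine LinearMap.ext fun x => ?_
      rw [Module.algebraMap_end_apply]
      exact (Algebra.smul_def r (show B from x)).symm
  obtain ⟨Ψ, -⟩ : ∃ Ψ : k' ⊗[k] B →ₐ[k'] Module.End k' (RepMod ρ'), True :=
    ⟨Algebra.TensorProduct.lift (Algebra.ofId k' _) gL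
      (fun c b => Algebra.commute_algebraMap_left c (gL b)), trivial⟩
  haveI : IsSimpleRing (k' ⊗[k] B) := Groth.Agent.Lib.CSABaseChange.isSimpleRing_baseChange
  refine algEquiv_matrix_of_hom Ψ m hW ?_
  rw [Module.finrank_baseChange, hfin, pow_two]



/-- A finite extension k' of k splits a finite central simple algebra A exactly when some algebra
similar to A contains k' with dim equal to [k':k]^2. Uses Mathlib's bundled CSA and Brauer
equivalence. -/
theorem result (k : Type u) [Field k] (A : CSA.{u, u} k)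
    (k' : Type u) [Field k'] [Algebra k k'] [FiniteDimensional k k'] :
    Curves.Splits k A k' ↔ ∃ (B : CSA.{u, u} k) (_ : k' →ₐ[k] B), IsBrauerEquivalent A B ∧
      Module.finrank k B = Module.finrank k k' ^ 2 := by

  classical
  constructor
  · -- forward
    rintro ⟨n, hn, ⟨e⟩⟩
    have hA : Module.finrank k A = n * n := by
      have h1 : Module.finrank k' (k' ⊗[k] A) = n * n := by
        rw [e.toLinearEquiv.finrank_eq, Module.finrank_matrix, Module.finrank_self,
          Fintype.card_fin, mul_one]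
      rwa [Module.finrank_baseChange] at h1
    obtain ⟨m, hm⟩ : ∃ m, m = Module.finrank k k' := ⟨_, rfl⟩
    have hm0 : 0 < m := hm ▸ Module.finrank_pos
    haveI : Nonempty (Fin n) := ⟨⟨0, Nat.pos_of_ne_zero hn⟩⟩
    obtain ⟨g, hg⟩ : ∃ g : (A : Type u)ᵐᵒᵖ →ₐ[k] Module.End k (Fin n → k'),
        g = (Algebra.lsmul k k (Fin n → k')).comp
          (((Matrix.transposeAlgEquiv (Fin n) k k').symm :
              (Matrix (Fin n) (Fin n) k')ᵐᵒᵖ ≃ₐ[k] Matrix (Fin n) (Fin n) k').toAlgHom.comp
            (AlgHom.op (((e.restrictScalars k) :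
              k' ⊗[k] A ≃ₐ[k] Matrix (Fin n) (Fin n) k').toAlgHom.comp
                (Algebra.TensorProduct.includeRight : A →ₐ[k] k' ⊗[k] A)))) := ⟨_, rfl⟩
    have hglin : ∀ (r : (A : Type u)ᵐᵒᵖ) (c : k') (v : Fin n → k'), g r (c • v) = c • g r v := by
      intro r c v
      rw [hg]
      simp only [AlgHom.comp_apply, Algebra.lsmul_coe]
      ext i
      simp only [Matrix.Module.smul_apply, Pi.smul_apply, smul_eq_mul, Finset.mul_sum]
      exact Finset.sum_congr rfl fun j _ => mul_left_comm _ _ _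
    -- the module
    have hMfin : Module.finrank k (Groth.Agent.Lib.CSAModule.RepMod g) = n * m := by
      rw [Groth.Agent.Lib.CSAModule.RepMod.finrank_eq, Groth.Agent.Lib.CSAModule.finrank_fun, hm]
    have hRfin : Module.finrank k (A : Type u)ᵐᵒᵖ = n * n := by
      rw [← (MulOpposite.opLinearEquiv k : A ≃ₗ[k] (A : Type u)ᵐᵒᵖ).finrank_eq, hA]
    haveI : FiniteDimensional k (A : Type u)ᵐᵒᵖ := Module.Finite.equiv (MulOpposite.opLinearEquiv k)
    obtain ⟨hsimple, hfinrank⟩ := Groth.Agent.Lib.CSAModule.end_isSimpleRing_and_finrank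
      (k := k) (E := (A : Type u)ᵐᵒᵖ) (Groth.Agent.Lib.CSAModule.RepMod g)
    have hXfin : Module.finrank k
        (Module.End (A : Type u)ᵐᵒᵖ (Groth.Agent.Lib.CSAModule.RepMod g)) = m ^ 2 := by
      rw [hMfin, hRfin] at hfinrank
      have h1 : n * n * Module.finrank k
          (Module.End (A : Type u)ᵐᵒᵖ (Groth.Agent.Lib.CSAModule.RepMod g)) = n * n * m ^ 2 := by
        rw [mul_comm, hfinrank]; ring
      exact Nat.eq_of_mul_eq_mul_left
        (Nat.mul_pos (Nat.pos_of_ne_zero hn) (Nat.pos_of_ne_zero hn)) h1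
    haveI hXfd : FiniteDimensional k
        (Module.End (A : Type u)ᵐᵒᵖ (Groth.Agent.Lib.CSAModule.RepMod g)) :=
      Module.finite_of_finrank_pos (by rw [hXfin]; positivity)
    -- embedding of k'
    obtain ⟨ι', -⟩ : ∃ ι' : k' →ₐ[k]
        Module.End (A : Type u)ᵐᵒᵖ (Groth.Agent.Lib.CSAModule.RepMod g), True := by
      refine ⟨{ toFun := fun c =>
                  { toFun := fun v => (show Fin n → k' from c • (show Fin n → k' from v))
                    map_add' := fun v w => smul_add c (show Fin n → k' from v) _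
                    map_smul' := fun r v => (hglin r c v).symm },
                map_one' := ?_, map_mul' := ?_, map_zero' := ?_, map_add' := ?_,
                commutes' := ?_ }, trivial⟩
      · exact LinearMap.ext fun v => one_smul k' (show Fin n → k' from v)
      · intro c d
        exact LinearMap.ext fun v => mul_smul c d (show Fin n → k' from v)
      · exact LinearMap.ext fun v => zero_smul k' (show Fin n → k' from v)
      · intro c d
        exact LinearMap.ext fun v => add_smul c d (show Fin n → k' from v)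
      · intro r
        refine LinearMap.ext fun v => ?_
        rw [Module.algebraMap_end_apply]
        exact algebraMap_smul k' r (show Fin n → k' from v)
    -- the Brauer equivalence
    have hdim : Module.finrank k (Fin n → Groth.Agent.Lib.CSAModule.RepMod g) =
        Module.finrank k (Fin m → (A : Type u)ᵐᵒᵖ) := by
      rw [Groth.Agent.Lib.CSAModule.finrank_fun, Groth.Agent.Lib.CSAModule.finrank_fun,
        hMfin, hRfin]
      ring
    obtain ⟨eM⟩ := Groth.Agent.Lib.CSAModule.nonempty_linearEquiv_of_finrank_eq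
      (k := k) (E := (A : Type u)ᵐᵒᵖ) (Fin n → Groth.Agent.Lib.CSAModule.RepMod g)
      (Fin m → (A : Type u)ᵐᵒᵖ) hdim
    obtain ⟨iso, -⟩ : ∃ iso : Matrix (Fin m) (Fin m) A ≃ₐ[k] Matrix (Fin n) (Fin n)
        (Module.End (A : Type u)ᵐᵒᵖ (Groth.Agent.Lib.CSAModule.RepMod g)), True :=
      ⟨((AlgEquiv.opOp k A).mapMatrix).trans
        (((AlgEquiv.moduleEndSelf k (A := (A : Type u)ᵐᵒᵖ)).mapMatrix).trans
          ((endVecAlgEquivMatrixEnd (Fin m) k (A : Type u)ᵐᵒᵖ (A : Type u)ᵐᵒᵖ).symm.trans
            ((eM.symm.conjAlgEquiv k).trans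
              (endVecAlgEquivMatrixEnd (Fin n) k (A : Type u)ᵐᵒᵖ
                (Groth.Agent.Lib.CSAModule.RepMod g))))), trivial⟩
    haveI hcM : Algebra.IsCentral k (Matrix (Fin n) (Fin n)
        (Module.End (A : Type u)ᵐᵒᵖ (Groth.Agent.Lib.CSAModule.RepMod g))) :=
      Algebra.IsCentral.of_algEquiv k _ _ iso
    have hXc : Algebra.IsCentral k
        (Module.End (A : Type u)ᵐᵒᵖ (Groth.Agent.Lib.CSAModule.RepMod g)) :=
      isCentral_of_matrix k _ n hn
    refine ⟨@CSA.mk k _ (AlgCat.of k
      (Module.End (A : Type u)ᵐᵒᵖ (Groth.Agent.Lib.CSAModule.RepMod g))) hXc hsimple hXfd,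
      ι', ⟨m, n, hm0.ne', hn, ⟨iso⟩⟩, ?_⟩
    rw [← hm]
    exact hXfin
  · -- backward
    rintro ⟨B, ι, ⟨a, b, ha, hb, ⟨iso⟩⟩, hfin⟩
    obtain ⟨eB⟩ := splits_of_subfield k B k' ι hfin
    obtain ⟨m, hm⟩ : ∃ m, m = Module.finrank k k' := ⟨_, rfl⟩
    have hm0 : 0 < m := hm ▸ Module.finrank_pos
    rw [← hm] at eB
    haveI : IsSimpleRing (k' ⊗[k] A) := Groth.Agent.Lib.CSABaseChange.isSimpleRing_baseChange
    haveI := IsArtinianRing.of_finite k' (k' ⊗[k] A)
    obtain ⟨r, hr, D', hD', hAlg', hfin', ⟨e₁⟩⟩ :=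
      IsSimpleRing.exists_algEquiv_matrix_divisionRing_finite k' (k' ⊗[k] A)
    have hr0 : r ≠ 0 := hr.out
    obtain ⟨E₁, -⟩ : ∃ E₁ : Matrix (Fin a) (Fin a) (k' ⊗[k] A) ≃ₐ[k']
        Matrix (Fin (a * r)) (Fin (a * r)) D', True :=
      ⟨(AlgEquiv.mapMatrix e₁).trans ((Matrix.compAlgEquiv (Fin a) (Fin r) D' k').trans
        (Matrix.reindexAlgEquiv k' D' finProdFinEquiv)), trivial⟩
    obtain ⟨E₂, -⟩ : ∃ E₂ : Matrix (Fin a) (Fin a) (k' ⊗[k] A) ≃ₐ[k']
        Matrix (Fin (b * m)) (Fin (b * m)) k', True :=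
      ⟨(baseChangeMatrix k k' A a).symm.trans
        ((Algebra.TensorProduct.congr (AlgEquiv.refl : k' ≃ₐ[k'] k') iso).trans
          ((baseChangeMatrix k k' B b).trans
            ((AlgEquiv.mapMatrix eB).trans
              ((Matrix.compAlgEquiv (Fin b) (Fin m) k' k').trans
                (Matrix.reindexAlgEquiv k' k' finProdFinEquiv))))), trivial⟩
    obtain ⟨φ⟩ := Groth.Agent.Lib.CSAUnique.nonempty_algEquiv (a * r) (b * m)
      (Nat.mul_ne_zero ha hr0) (Nat.mul_ne_zero hb hm0.ne') (E₁.symm.trans E₂)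
    exact ⟨r, hr0, ⟨e₁.trans (AlgEquiv.mapMatrix φ)⟩⟩

end Groth.Agent.S0195
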