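import Groth.Statements.S0196
import Mathlib
import Groth.Agent.Lib.CSACentralizer_helper6
-- import your own Groth.Agent.* helpers here

set_option autoImplicit false
universe u v w
open scoped TensorProduct
open Curves

namespace Groth.Agent.S0196

/-- In a finite central skew field D over k, a maximal commutative k-subalgebra L satisfies dim D = (dim
L)^2. -/
theorem result (k : Type u) [Field k]
    (D : Type v) [DivisionRing D] [Algebra k D] [Algebra.IsCentral k D] [FiniteDimensional k D]
    (L : Subalgebra k D) (hcomm : ∀ x ∈ L, ∀ y ∈ L, x * y = y * x)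
    (hmax : ∀ L' : Subalgebra k D, (∀ x ∈ L', ∀ y ∈ L', x * y = y * x) → L ≤ L' → L' = L) :
    Module.finrank k D = Module.finrank k L ^ 2 := by

  classical
  haveI : IsSimpleRing ↥L := by
    letI : DivisionRing ↥L := divisionRingOfFiniteDimensional k ↥L
    exact DivisionRing.isSimpleRing ↥L
  have hCL : Subalgebra.centralizer k (L : Set D) = L := by
    apply le_antisymm
    · intro x hx
      rw [Subalgebra.mem_centralizer_iff] at hx
      have hs : ∀ a ∈ (L : Set D) ∪ {x}, ∀ b ∈ (L : Set D) ∪ {x}, a * b = b * a := by
        rintro a (ha | ha) b (hb | hb)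
        · exact hcomm a ha b hb
        · rw [Set.mem_singleton_iff] at hb
          subst hb
          exact hx a ha
        · rw [Set.mem_singleton_iff] at ha
          subst ha
          exact (hx b hb).symm
        · rw [Set.mem_singleton_iff] at ha hb
          rw [ha, hb]
      have hL' := hmax (Algebra.adjoin k ((L : Set D) ∪ {x}))
        (fun a ha b hb => congrArg Subtype.val
          ((Algebra.adjoinCommRingOfComm k hs).mul_comm ⟨a, ha⟩ ⟨b, hb⟩))
        (fun a ha => Algebra.subset_adjoin (Or.inl ha))
      rw [← hL']
      exact Algebra.subset_adjoin (Or.inr rfl)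
    · intro x hx
      rw [Subalgebra.mem_centralizer_iff]
      intro g hg
      exact hcomm g hg x hx
  obtain ⟨-, hdim⟩ := Groth.Agent.Lib.CSACentralizer.centralizer_subalgebra L
  rw [hCL] at hdim
  rw [hdim, pow_two]

end Groth.Agent.S0196
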