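import Groth.Statements.S0198
import Mathlib
import Groth.Agent.Lib.CSACentralizer_helper6
-- import your own Groth.Agent.* helpers here

set_option autoImplicit false
universe u v w
open scoped TensorProduct
open Curves

namespace Groth.Agent.S0198


open Polynomial in
/-- abstract tower step: a noncentral separable element of a central division algebra `C` over `L`
generates, together with `L`, a commutative `k`-subalgebra all of whose elements are separable
over `k` (when `L/k` is separable). -/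
theorem step (k : Type u) [Field k] (L : Type v) [Field L] [Algebra k L] [Algebra.IsSeparable k L]
    (C : Type w) [DivisionRing C] [Algebra k C] [Algebra L C] [IsScalarTower k L C]
    [Algebra.IsCentral L C] [Algebra.IsAlgebraic L C]
    (hneq : (⊥ : Subalgebra L C) ≠ ⊤) :
    ∃ T : Subalgebra k C, (∀ a ∈ T, ∀ b ∈ T, a * b = b * a) ∧ (∀ z ∈ T, IsSeparable k z) ∧
      (∀ l : L, algebraMap L C l ∈ T) ∧ ∃ x ∈ T, x ∉ Set.range (algebraMap L C) := by
  obtain ⟨x, hx, hsep⟩ := JacobsonNoether.exists_separable_and_not_isCentral' hneq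
  have hint : IsIntegral L x := (Algebra.IsAlgebraic.isAlgebraic x).isIntegral
  obtain ⟨f, hf⟩ : ∃ f, f = minpoly L x := ⟨_, rfl⟩
  have hirr : Irreducible f := hf ▸ minpoly.irreducible hint
  haveI : Fact (Irreducible f) := ⟨hirr⟩
  let φ : AdjoinRoot f →ₐ[L] C := Ideal.Quotient.liftₐ (Ideal.span {f}) (Polynomial.aeval x) (by
    intro p hp
    obtain ⟨q, rfl⟩ := Ideal.mem_span_singleton.1 hp
    rw [map_mul, hf, minpoly.aeval, zero_mul])
  have hφr : φ (AdjoinRoot.root f) = x := by
    show Ideal.Quotient.liftₐ (Ideal.span {f}) (Polynomial.aeval x) _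
      (Ideal.Quotient.mk (Ideal.span {f}) Polynomial.X) = x
    rw [Ideal.Quotient.liftₐ_apply, Ideal.Quotient.lift_mk]
    simp
  have hφinj : Function.Injective φ := (φ : AdjoinRoot f →+* C).injective
  have hr : IsSeparable L (AdjoinRoot.root f) := by
    have h1 := minpoly.algHom_eq φ hφinj (AdjoinRoot.root f)
    rw [hφr] at h1
    unfold IsSeparable at hsep ⊢
    rw [← h1]; exact hsep
  haveI hsepr : Algebra.IsSeparable L (IntermediateField.adjoin L {AdjoinRoot.root f}) :=
    (IntermediateField.isSeparable_adjoin_simple_iff_isSeparable L (AdjoinRoot f)).2 hr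
  have hall : ∀ z : AdjoinRoot f, IsSeparable k z := by
    intro z
    have hz : z ∈ IntermediateField.adjoin L {AdjoinRoot.root f} := by
      have h1 : z ∈ Algebra.adjoin L ({AdjoinRoot.root f} : Set (AdjoinRoot f)) := by
        rw [AdjoinRoot.adjoinRoot_eq_top]; exact Algebra.mem_top
      exact IntermediateField.algebra_adjoin_le_adjoin L _ h1
    have hzL : IsSeparable L z := IntermediateField.isSeparable_of_mem_isSeparable L (AdjoinRoot f) hz
    exact IsSeparable.of_algebra_isSeparable_of_isSeparable k hzL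
  refine ⟨(φ.restrictScalars k).range, ?_, ?_, ?_, ?_⟩
  · rintro _ ⟨a, rfl⟩ _ ⟨b, rfl⟩
    show φ a * φ b = φ b * φ a
    rw [← map_mul, ← map_mul, mul_comm]
  · rintro _ ⟨z, rfl⟩
    have h1 := minpoly.algHom_eq (φ.restrictScalars k) hφinj z
    have h2 := hall z
    unfold IsSeparable at h2
    have h3 : (minpoly k ((φ.restrictScalars k) z)).Separable := by rw [h1]; exact h2
    exact h3
  · intro l
    exact ⟨algebraMap L (AdjoinRoot f) l, φ.commutes l⟩
  · refine ⟨x, ⟨AdjoinRoot.root f, hφr⟩, ?_⟩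
    intro hxr
    exact hx (Algebra.mem_bot.2 hxr)



/-- A finite central skew field over k contains a maximal commutative subalgebra that is separable over
k. -/
theorem result (k : Type u) [Field k]
    (D : Type v) [DivisionRing D] [Algebra k D] [Algebra.IsCentral k D] [FiniteDimensional k D] :
    ∃ L : Subalgebra k D, (∀ x ∈ L, ∀ y ∈ L, x * y = y * x) ∧
      (∀ L' : Subalgebra k D, (∀ x ∈ L', ∀ y ∈ L', x * y = y * x) → L ≤ L' → L' = L) ∧
      Algebra.IsSeparable k L := by

  classical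
  obtain ⟨P, hP⟩ : ∃ P : Subalgebra k D → Prop, P = fun L =>
      (∀ x ∈ L, ∀ y ∈ L, x * y = y * x) ∧ ∀ x ∈ L, IsSeparable k x := ⟨_, rfl⟩
  have hbot : P ⊥ := by
    rw [hP]
    refine ⟨?_, ?_⟩
    · intro x hx y hy
      obtain ⟨a, rfl⟩ := Algebra.mem_bot.1 hx
      exact Algebra.commutes a y
    · intro x hx
      obtain ⟨a, rfl⟩ := Algebra.mem_bot.1 hx
      exact isSeparable_algebraMap a
  -- a maximal element for `P`
  obtain ⟨L, hPL, hmax⟩ : ∃ L, P L ∧ ∀ L', P L' → L ≤ L' → L' = L := by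
    have wf : WellFounded ((· > ·) : Submodule k D → Submodule k D → Prop) := wellFounded_gt
    obtain ⟨M, ⟨L, hPL, rfl⟩, hM⟩ :=
      wf.has_min {M | ∃ L, P L ∧ Subalgebra.toSubmodule L = M} ⟨_, ⊥, hbot, rfl⟩
    refine ⟨L, hPL, fun L' hPL' hle => ?_⟩
    by_contra hne
    refine hM _ ⟨L', hPL', rfl⟩ (lt_of_le_of_ne ?_ ?_)
    · exact Subalgebra.toSubmodule.monotone hle
    · intro h
      exact hne (Subalgebra.toSubmodule_injective h).symm
  rw [hP] at hPL
  obtain ⟨hcomm, hsepL⟩ := hPL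
  have hsepAlg : Algebra.IsSeparable k ↥L := by
    refine ⟨fun x => ?_⟩
    have h := hsepL x.1 x.2
    have h1 := minpoly.algHom_eq L.val Subtype.val_injective x
    unfold IsSeparable at h ⊢
    rw [← h1]; exact h
  refine ⟨L, hcomm, ?_, hsepAlg⟩
  intro L' hL' hle
  by_contra hne
  obtain ⟨y, hyL', hyL⟩ := SetLike.exists_of_lt (lt_of_le_of_ne hle (Ne.symm hne))
  -- the centralizer
  obtain ⟨C, hC⟩ : ∃ C, C = Subalgebra.centralizer k (L : Set D) := ⟨_, rfl⟩
  have hmemC : ∀ z, z ∈ C ↔ ∀ g ∈ L, g * z = z * g := by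
    intro z; rw [hC]; exact (Subalgebra.mem_centralizer_iff k)
  have hLC : L ≤ C := fun a ha => (hmemC a).2 (fun b hb => hcomm b hb a ha)
  have hyC : y ∈ C := (hmemC y).2 (fun b hb => hL' b (hle hb) y hyL')
  letI instCR : CommRing ↥L :=
    { (inferInstance : Ring ↥L) with
      mul_comm := fun a b => Subtype.ext (hcomm a.1 a.2 b.1 b.2) }
  letI instF : Field ↥L := fieldOfFiniteDimensional k ↥L
  letI instDC : DivisionRing ↥C := divisionRingOfFiniteDimensional k ↥C
  letI instAlg : Algebra ↥L ↥C :=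
    RingHom.toAlgebra' (Subalgebra.inclusion hLC).toRingHom
      (fun a c => Subtype.ext ((hmemC c.1).1 c.2 a.1 a.2))
  have halgmap : ∀ a : ↥L, ((algebraMap ↥L ↥C a : ↥C) : D) = (a : D) := fun a => rfl
  haveI hTower : IsScalarTower k ↥L ↥C := IsScalarTower.of_algebraMap_eq (fun a => rfl)
  haveI hAlgk : Algebra.IsAlgebraic k ↥C := Algebra.IsAlgebraic.of_finite k ↥C
  haveI hAlg : Algebra.IsAlgebraic ↥L ↥C := Algebra.IsAlgebraic.tower_top (K := k) ↥L
  haveI hsimp : IsSimpleRing ↥L := DivisionRing.isSimpleRing ↥L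
  have hdc : Subalgebra.centralizer k (C : Set D) = L := by
    rw [hC]; exact Groth.Agent.Lib.CSACentralizer.double_centralizer L
  haveI hCentral : Algebra.IsCentral ↥L ↥C := by
    refine ⟨fun z hz => ?_⟩
    have hz' : ∀ b : ↥C, b * z = z * b := Subalgebra.mem_center_iff.1 hz
    have hzL : (z : D) ∈ L := by
      rw [← hdc]
      exact (Subalgebra.mem_centralizer_iff k).2 (fun c hc => congrArg Subtype.val (hz' ⟨c, hc⟩))
    exact Algebra.mem_bot.2 ⟨⟨z.1, hzL⟩, Subtype.ext rfl⟩
  have hneq : (⊥ : Subalgebra ↥L ↥C) ≠ ⊤ := by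
    intro h
    have h1 : (⟨y, hyC⟩ : ↥C) ∈ (⊥ : Subalgebra ↥L ↥C) := h ▸ Algebra.mem_top
    obtain ⟨a, ha⟩ := Algebra.mem_bot.1 h1
    apply hyL
    have h2 : (a : D) = y := by rw [← halgmap a, ha]
    rw [← h2]; exact a.2
  obtain ⟨T, hT1, hT2, hT3, x, hxT, hxL⟩ := step k ↥L ↥C hneq
  -- the bigger subalgebra
  have hPL₂ : P (T.map C.val) := by
    rw [hP]
    refine ⟨?_, ?_⟩
    · rintro _ ⟨a, ha, rfl⟩ _ ⟨b, hb, rfl⟩
      have := hT1 a ha b hb
      exact congrArg Subtype.val this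
    · rintro _ ⟨z, hz, rfl⟩
      have h := hT2 z hz
      have h1 := minpoly.algHom_eq C.val Subtype.val_injective z
      unfold IsSeparable at h
      have h3 : (minpoly k (C.val z)).Separable := by rw [h1]; exact h
      exact h3
  have hle₂ : L ≤ T.map C.val := by
    intro a ha
    exact ⟨algebraMap ↥L ↥C ⟨a, ha⟩, hT3 ⟨a, ha⟩, rfl⟩
  have heq := hmax _ hPL₂ hle₂
  apply hxL
  have hxL' : (x : D) ∈ L := by
    rw [← heq]; exact ⟨x, hxT, rfl⟩
  exact ⟨⟨x.1, hxL'⟩, Subtype.ext rfl⟩

end Groth.Agent.S0198
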