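import Groth.Statements.S5705
import Mathlib
import Groth.Agent.Lib.AzumayaFibre_helper6
import Groth.Agent.Lib.CSACentralizer_helper6
-- import your own Groth.Agent.* helpers here

set_option autoImplicit false
universe u v
open TensorProduct
open Dix

namespace Groth.Agent.S5705


open MulOpposite

section aux

variable (R : Type u) [CommRing R] [IsLocalRing R] (A : Type v) [Ring A] [Algebra R A]
  [IsAzumaya R A]

theorem exists_retraction : ∃ t : A →ₗ[R] R, t 1 = 1 := by
  by_contra hcon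
  have h1 : ∀ f : A →ₗ[R] R, f 1 ∈ IsLocalRing.maximalIdeal R := by
    intro f
    by_contra hf
    have hu : IsUnit (f 1) := by
      by_contra hnu
      exact hf ((IsLocalRing.mem_maximalIdeal _).2 hnu)
    obtain ⟨c, hc⟩ := hu
    apply hcon
    refine ⟨(↑c⁻¹ : R) • f, ?_⟩
    rw [LinearMap.smul_apply, ← hc, smul_eq_mul, Units.inv_mul]
  have h2 : ∀ (f : Module.Dual R A) (a : A), f a ∈ IsLocalRing.maximalIdeal R := by
    intro f a
    have := h1 (f ∘ₗ LinearMap.mulRight R a)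
    simpa using this
  have h3 := Groth.Agent.Lib.AzumayaBaseChange.trace_ideal_eq_top R A _ h2
  exact (IsLocalRing.maximalIdeal.isMaximal R).ne_top h3

variable {R A}

theorem mulLeftRight_central (z : A) (hz : ∀ x, z * x = x * z) (w : A ⊗[R] Aᵐᵒᵖ) :
    AlgHom.mulLeftRight R A w z = z * AlgHom.mulLeftRight R A w 1 := by
  induction w using TensorProduct.induction_on with
  | zero => simp
  | tmul a b =>
    rw [AlgHom.mulLeftRight_apply, AlgHom.mulLeftRight_apply, mul_one, ← hz a, mul_assoc]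
  | add x y hx hy => rw [map_add, LinearMap.add_apply, LinearMap.add_apply, hx, hy, mul_add]

theorem exists_sep (t : A →ₗ[R] R) :
    ∃ e : A ⊗[R] Aᵐᵒᵖ, ∀ x, AlgHom.mulLeftRight R A e x = t x • (1 : A) := by
  obtain ⟨e, he⟩ := (IsAzumaya.bij (R := R) (A := A)).2 ((LinearMap.toSpanSingleton R A 1) ∘ₗ t)
  exact ⟨e, fun x => by rw [he]; simp⟩

theorem central_eq (t : A →ₗ[R] R) (ht : t 1 = 1) (z : A) (hz : ∀ x, z * x = x * z) :
    z = algebraMap R A (t z) := by
  obtain ⟨e, he⟩ := exists_sep t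
  have h := mulLeftRight_central (R := R) z hz e
  rw [he, he, ht, one_smul, mul_one] at h
  rw [Algebra.algebraMap_eq_smul_one]
  exact h.symm

theorem sep_comm (t : A →ₗ[R] R) (e : A ⊗[R] Aᵐᵒᵖ)
    (he : ∀ x, AlgHom.mulLeftRight R A e x = t x • (1 : A)) (a : A) :
    (a ⊗ₜ[R] (1 : Aᵐᵒᵖ)) * e = ((1 : A) ⊗ₜ[R] op a) * e := by
  apply (IsAzumaya.bij (R := R) (A := A)).1
  refine LinearMap.ext fun x => ?_
  rw [map_mul, map_mul, Module.End.mul_apply, Module.End.mul_apply, he,
    AlgHom.mulLeftRight_apply, AlgHom.mulLeftRight_apply]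
  simp

variable (R)

theorem isUnit_of_tmul (c : A)
    (h : IsUnit ((1 : IsLocalRing.ResidueField R) ⊗ₜ[R] c : IsLocalRing.ResidueField R ⊗[R] A)) :
    IsUnit c := by
  have hsurj : Function.Surjective (TensorProduct.mk R (IsLocalRing.ResidueField R) A 1) :=
    TensorProduct.mk_surjective R A (IsLocalRing.ResidueField R) Ideal.Quotient.mk_surjective
  obtain ⟨v, hv⟩ := h
  have h1 : LinearMap.range (LinearMap.mulLeft R c) = ⊤ := by
    rw [← IsLocalRing.map_tensorProduct_mk_eq_top (R := R), eq_top_iff]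
    intro z _
    obtain ⟨d, hd⟩ := hsurj (↑v⁻¹ * z)
    refine ⟨c * d, ⟨d, rfl⟩, ?_⟩
    have hd' : (1 : IsLocalRing.ResidueField R) ⊗ₜ[R] d = ↑v⁻¹ * z := hd
    show (1 : IsLocalRing.ResidueField R) ⊗ₜ[R] (c * d) = z
    have : (1 : IsLocalRing.ResidueField R) ⊗ₜ[R] (c * d) =
        ((1 : IsLocalRing.ResidueField R) ⊗ₜ[R] c) * ((1 : IsLocalRing.ResidueField R) ⊗ₜ[R] d) := by
      rw [Algebra.TensorProduct.tmul_mul_tmul, mul_one]
    rw [this, hd', ← hv, ← mul_assoc, Units.mul_inv, one_mul]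
  have h2 : LinearMap.range (LinearMap.mulRight R c) = ⊤ := by
    rw [← IsLocalRing.map_tensorProduct_mk_eq_top (R := R), eq_top_iff]
    intro z _
    obtain ⟨d, hd⟩ := hsurj (z * ↑v⁻¹)
    refine ⟨d * c, ⟨d, rfl⟩, ?_⟩
    have hd' : (1 : IsLocalRing.ResidueField R) ⊗ₜ[R] d = z * ↑v⁻¹ := hd
    show (1 : IsLocalRing.ResidueField R) ⊗ₜ[R] (d * c) = z
    have : (1 : IsLocalRing.ResidueField R) ⊗ₜ[R] (d * c) =
        ((1 : IsLocalRing.ResidueField R) ⊗ₜ[R] d) * ((1 : IsLocalRing.ResidueField R) ⊗ₜ[R] c) := by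
      rw [Algebra.TensorProduct.tmul_mul_tmul, mul_one]
    rw [this, hd', ← hv, mul_assoc, Units.inv_mul, mul_one]
  obtain ⟨d, hd⟩ : ∃ d, c * d = 1 := LinearMap.range_eq_top.1 h1 1
  obtain ⟨d', hd'⟩ : ∃ d', d' * c = 1 := LinearMap.range_eq_top.1 h2 1
  have hdd : d' = d := by
    calc d' = d' * (c * d) := by rw [hd, mul_one]
      _ = (d' * c) * d := by rw [mul_assoc]
      _ = d := by rw [hd', one_mul]
  exact ⟨⟨c, d, hd, by rw [← hdd]; exact hd'⟩, rfl⟩

end aux



/-- Over a local base, where the Zariski-local conclusion becomes global. Let R be a local ring and A an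
Azumaya algebra over R. Then every R-algebra automorphism u of A is inner, u(x) = a x a⁻¹ for some
unit a of A, and the unit a is determined up to multiplication by a unit of R. -/
theorem result (R : Type u) [CommRing R] [IsLocalRing R] (A : Type v) [Ring A] [Algebra R A] [IsAzumaya R A] (u : A ≃ₐ[R] A) : (∃ a : Aˣ, ∀ x : A, u x = (a : A) * x * (a⁻¹ : Aˣ)) ∧ (∀ a a' : Aˣ, (∀ x : A, u x = (a : A) * x * (a⁻¹ : Aˣ)) → (∀ x : A, u x = (a' : A) * x * (a'⁻¹ : Aˣ)) → ∃ c : Rˣ, (a' : A) = algebraMap R A (c : R) * (a : A)) := by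

  classical
  obtain ⟨t, ht⟩ := exists_retraction R A
  refine ⟨?_, ?_⟩
  · obtain ⟨k, hk⟩ : ∃ k : Type u, k = IsLocalRing.ResidueField R := ⟨_, rfl⟩
    subst hk
    haveI : IsAzumaya (IsLocalRing.ResidueField R) (IsLocalRing.ResidueField R ⊗[R] A) :=
      Groth.Agent.Lib.AzumayaBaseChange.isAzumaya_baseChange R (IsLocalRing.ResidueField R) A
    haveI : IsSimpleRing (IsLocalRing.ResidueField R ⊗[R] A) :=
      Groth.Agent.Lib.AzumayaFibre.isSimpleRing_of_isAzumaya (IsLocalRing.ResidueField R) _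
    haveI : Algebra.IsCentral (IsLocalRing.ResidueField R) (IsLocalRing.ResidueField R ⊗[R] A) := by
      obtain ⟨t', ht'⟩ := exists_retraction (IsLocalRing.ResidueField R)
        (IsLocalRing.ResidueField R ⊗[R] A)
      refine ⟨fun z hz => ?_⟩
      rw [Subalgebra.mem_center_iff] at hz
      have := central_eq t' ht' z (fun x => (hz x).symm)
      rw [this]
      exact Subalgebra.algebraMap_mem _ _
    haveI : FiniteDimensional (IsLocalRing.ResidueField R) (IsLocalRing.ResidueField R ⊗[R] A) :=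
      inferInstance
    obtain ⟨cbar, hcbar⟩ := Groth.Agent.Lib.CSACentralizer.skolem_noether
      (Algebra.TensorProduct.map (AlgHom.id (IsLocalRing.ResidueField R) (IsLocalRing.ResidueField R))
        u.toAlgHom)
      (AlgHom.id (IsLocalRing.ResidueField R) (IsLocalRing.ResidueField R ⊗[R] A))
    have hsurj : Function.Surjective (TensorProduct.mk R (IsLocalRing.ResidueField R) A 1) :=
      TensorProduct.mk_surjective R A (IsLocalRing.ResidueField R) Ideal.Quotient.mk_surjective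
    obtain ⟨y, hy⟩ := hsurj (cbar : IsLocalRing.ResidueField R ⊗[R] A)
    have hy' : (1 : IsLocalRing.ResidueField R) ⊗ₜ[R] y = (cbar : IsLocalRing.ResidueField R ⊗[R] A) :=
      hy
    obtain ⟨e, he⟩ := exists_sep t
    obtain ⟨Tu, hTu⟩ : ∃ Tu : A ⊗[R] Aᵐᵒᵖ →ₐ[R] Module.End R A,
        ∀ (a : A) (b : Aᵐᵒᵖ) (x : A), Tu (a ⊗ₜ[R] b) x = u a * x * b.unop := by
      refine ⟨(AlgHom.mulLeftRight R A).comp
        (Algebra.TensorProduct.map u.toAlgHom (AlgHom.id R Aᵐᵒᵖ)), fun a b x => ?_⟩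
      simp
    have claim1 : ∀ a, u a * Tu e y = Tu e y * a := by
      intro a
      have h := congrArg (fun w => Tu w y) (sep_comm t e he a)
      simp only [map_mul, Module.End.mul_apply] at h
      rw [hTu, hTu] at h
      simpa using h
    have claim2 : ∀ w : A ⊗[R] Aᵐᵒᵖ,
        (1 : IsLocalRing.ResidueField R) ⊗ₜ[R] (Tu w y) =
          (cbar : IsLocalRing.ResidueField R ⊗[R] A) *
            ((1 : IsLocalRing.ResidueField R) ⊗ₜ[R] (AlgHom.mulLeftRight R A w 1)) := by
      intro w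
      induction w using TensorProduct.induction_on with
      | zero => simp
      | tmul a b =>
        rw [hTu, AlgHom.mulLeftRight_apply, mul_one]
        have e1 : (1 : IsLocalRing.ResidueField R) ⊗ₜ[R] (u a * y * b.unop) =
            ((1 : IsLocalRing.ResidueField R) ⊗ₜ[R] u a) * ((1 : IsLocalRing.ResidueField R) ⊗ₜ[R] y) *
              ((1 : IsLocalRing.ResidueField R) ⊗ₜ[R] b.unop) := by
          simp [Algebra.TensorProduct.tmul_mul_tmul]
        have e2 : (1 : IsLocalRing.ResidueField R) ⊗ₜ[R] (a * b.unop) =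
            ((1 : IsLocalRing.ResidueField R) ⊗ₜ[R] a) *
              ((1 : IsLocalRing.ResidueField R) ⊗ₜ[R] b.unop) := by
          simp [Algebra.TensorProduct.tmul_mul_tmul]
        have e3 := hcbar ((1 : IsLocalRing.ResidueField R) ⊗ₜ[R] a)
        rw [Algebra.TensorProduct.map_tmul] at e3
        simp only [AlgHom.coe_id, id_eq, AlgEquiv.toAlgHom_eq_coe, AlgHom.coe_coe] at e3
        have e3' : (1 : IsLocalRing.ResidueField R) ⊗ₜ[R] (u a) =
            (cbar : IsLocalRing.ResidueField R ⊗[R] A) * ((1 : IsLocalRing.ResidueField R) ⊗ₜ[R] a) *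
              (↑cbar⁻¹ : IsLocalRing.ResidueField R ⊗[R] A) := e3
        rw [e1, e2, e3', hy', mul_assoc _ (↑cbar⁻¹ : IsLocalRing.ResidueField R ⊗[R] A),
          Units.inv_mul, mul_one, mul_assoc]
      | add x z hx hz =>
        rw [map_add, map_add, LinearMap.add_apply, LinearMap.add_apply, TensorProduct.tmul_add,
          TensorProduct.tmul_add, hx, hz, mul_add]
    have claim3 : IsUnit (Tu e y) := by
      apply isUnit_of_tmul R
      rw [claim2 e, he, ht, one_smul]
      have : ((1 : IsLocalRing.ResidueField R) ⊗ₜ[R] (1 : A) : IsLocalRing.ResidueField R ⊗[R] A) = 1 :=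
        rfl
      rw [this, mul_one]
      exact cbar.isUnit
    obtain ⟨cu, hcu⟩ := claim3
    refine ⟨cu, fun x => ?_⟩
    have h := claim1 x
    rw [← hcu] at h
    calc u x = u x * cu * (cu⁻¹ : Aˣ) := by rw [mul_assoc, Units.mul_inv, mul_one]
      _ = cu * x * (cu⁻¹ : Aˣ) := by rw [h]
  · intro a a' ha ha'
    have hz : ∀ x, ((a⁻¹ * a' : Aˣ) : A) * x = x * ((a⁻¹ * a' : Aˣ) : A) := by
      intro x
      have h := (ha x).symm.trans (ha' x)
      have h2 : (↑a⁻¹ : A) * ((a : A) * x * (↑a⁻¹ : A)) * (a' : A) =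
          (↑a⁻¹ : A) * ((a' : A) * x * (↑a'⁻¹ : A)) * (a' : A) := by rw [h]
      have l : (↑a⁻¹ : A) * ((a : A) * x * (↑a⁻¹ : A)) * (a' : A) = x * ((↑a⁻¹ : A) * a') := by
        rw [← mul_assoc, ← mul_assoc, Units.inv_mul, one_mul, mul_assoc]
      have r : (↑a⁻¹ : A) * ((a' : A) * x * (↑a'⁻¹ : A)) * (a' : A) = ((↑a⁻¹ : A) * a') * x := by
        rw [mul_assoc, mul_assoc, mul_assoc, Units.inv_mul, mul_one, mul_assoc]
      rw [l, r] at h2
      rw [Units.val_mul]
      exact h2.symm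
    have hz' : ∀ x, ((a'⁻¹ * a : Aˣ) : A) * x = x * ((a'⁻¹ * a : Aˣ) : A) := by
      intro x
      have h := (ha' x).symm.trans (ha x)
      have h2 : (↑a'⁻¹ : A) * ((a' : A) * x * (↑a'⁻¹ : A)) * (a : A) =
          (↑a'⁻¹ : A) * ((a : A) * x * (↑a⁻¹ : A)) * (a : A) := by rw [h]
      have l : (↑a'⁻¹ : A) * ((a' : A) * x * (↑a'⁻¹ : A)) * (a : A) = x * ((↑a'⁻¹ : A) * a) := by
        rw [← mul_assoc, ← mul_assoc, Units.inv_mul, one_mul, mul_assoc]
      have r : (↑a'⁻¹ : A) * ((a : A) * x * (↑a⁻¹ : A)) * (a : A) = ((↑a'⁻¹ : A) * a) * x := by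
        rw [mul_assoc, mul_assoc, mul_assoc, Units.inv_mul, mul_one, mul_assoc]
      rw [l, r] at h2
      rw [Units.val_mul]
      exact h2.symm
    have h1 := central_eq t ht _ hz
    have h2 := central_eq t ht _ hz'
    have hinj : Function.Injective (algebraMap R A) := FaithfulSMul.algebraMap_injective R A
    have hrs : t ((a⁻¹ * a' : Aˣ) : A) * t ((a'⁻¹ * a : Aˣ) : A) = 1 := by
      apply hinj
      rw [map_mul, ← h1, ← h2, map_one, ← Units.val_mul]
      simp
    have hsr : t ((a'⁻¹ * a : Aˣ) : A) * t ((a⁻¹ * a' : Aˣ) : A) = 1 := by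
      rw [mul_comm]; exact hrs
    refine ⟨⟨_, _, hrs, hsr⟩, ?_⟩
    show (a' : A) = algebraMap R A (t ((a⁻¹ * a' : Aˣ) : A)) * (a : A)
    rw [← h1]
    have h3 := hz (a : A)
    rw [h3, Units.val_mul, ← mul_assoc, Units.mul_inv, one_mul]

end Groth.Agent.S5705
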