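import Groth.Statements.S15586
import Mathlib
-- import your own Groth.Agent.* helpers here

set_option autoImplicit false
universe u v w
open scoped TensorProduct
open RInv

namespace Groth.Agent.S15586

/-- Let `R` be a commutative ring with an involution `lam` and fixed ring `S`, and let `S'` be a
commutative `S`-algebra. If `S'` is flat over `S`, or if `2` is invertible in `S`, then `S'` is the
fixed ring of the base-changed involution `id ⊗ lam` of `S' ⊗_S R`: the structure map `S' → S' ⊗_S
R` is injective with image the fixed elements. (In general the fixed ring does not commute with base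
change.) -/
theorem result (S : Type u) (R : Type v) (S' : Type w)
    [CommRing S] [CommRing R] [Algebra S R] [CommRing S'] [Algebra S S']
    (lam : R ≃ₐ[S] R) (hlam : Function.Involutive lam)
    (hS : RInv.IsFixedRing S R lam.toRingEquiv)
    (h : Module.Flat S S' ∨ IsUnit (2 : S)) :
    RInv.IsFixedRing S' (S' ⊗[S] R)
      (Algebra.TensorProduct.congr (AlgEquiv.refl : S' ≃ₐ[S] S') lam).toRingEquiv := by

  obtain ⟨Λ, hΛ⟩ : ∃ Λ : S' ⊗[S] R ≃ₐ[S] S' ⊗[S] R, Λ =
      Algebra.TensorProduct.congr (AlgEquiv.refl : S' ≃ₐ[S] S') lam := ⟨_, rfl⟩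
  rw [← hΛ]
  have hΛt : ∀ (a : S') (r : R), Λ (a ⊗ₜ[S] r) = a ⊗ₜ[S] lam r := by
    intro a r; rw [hΛ]; simp
  have hS1 : Function.Injective (algebraMap S R) := hS.1
  have hS2 : ∀ r : R, lam r = r ↔ r ∈ Set.range (algebraMap S R) := hS.2
  obtain ⟨ι, hι⟩ : ∃ ι : S →ₗ[S] R, ι = Algebra.linearMap S R := ⟨_, rfl⟩
  have hιa : ∀ s, ι s = algebraMap S R s := by intro s; rw [hι]; rfl
  -- image of lTensor ι lies in the image of S'
  have hrange : ∀ w : S' ⊗[S] S, (LinearMap.lTensor S' ι) w ∈
      Set.range (algebraMap S' (S' ⊗[S] R)) := by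
    intro w
    induction w using TensorProduct.induction_on with
    | zero => exact ⟨0, by simp⟩
    | tmul a s =>
      refine ⟨s • a, ?_⟩
      rw [LinearMap.lTensor_tmul, hιa, Algebra.TensorProduct.algebraMap_apply,
        Algebra.algebraMap_self_apply, Algebra.algebraMap_eq_smul_one, TensorProduct.tmul_smul,
        TensorProduct.smul_tmul']
    | add z w hz hw =>
      obtain ⟨a, ha⟩ := hz
      obtain ⟨b, hb⟩ := hw
      exact ⟨a + b, by rw [map_add, map_add, ha, hb]⟩
  have halg : ∀ a : S', algebraMap S' (S' ⊗[S] R) a =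
      (LinearMap.lTensor S' ι) ((TensorProduct.rid S S').symm a) := by
    intro a
    rw [TensorProduct.rid_symm_apply, LinearMap.lTensor_tmul, hιa, map_one,
      Algebra.TensorProduct.algebraMap_apply, Algebra.algebraMap_self_apply]
  -- reduction
  suffices hmain : Function.Injective (LinearMap.lTensor S' ι) ∧
      ∀ z : S' ⊗[S] R, Λ z = z → z ∈ LinearMap.range (LinearMap.lTensor S' ι) by
    refine ⟨?_, ?_⟩
    · intro a b hab
      rw [halg, halg] at hab
      exact (TensorProduct.rid S S').symm.injective (hmain.1 hab)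
    · intro z
      constructor
      · intro hz
        obtain ⟨w, hw⟩ := hmain.2 z hz
        rw [← hw]; exact hrange w
      · rintro ⟨a, rfl⟩
        show Λ _ = _
        rw [Algebra.TensorProduct.algebraMap_apply, Algebra.algebraMap_self_apply, hΛt, map_one]
  have hΛlin : ∀ z, Λ z = (LinearMap.lTensor S' lam.toLinearMap) z := by
    intro z
    induction z using TensorProduct.induction_on with
    | zero => simp
    | tmul a r => rw [hΛt, LinearMap.lTensor_tmul]; rfl
    | add z w hz hw => rw [map_add, map_add, hz, hw]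
  rcases h with hflat | h2
  · refine ⟨Module.Flat.lTensor_preserves_injective_linearMap ι (by rw [hι]; exact hS1), ?_⟩
    intro z hz
    have hex : Function.Exact ι (lam.toLinearMap - (LinearMap.id : R →ₗ[S] R)) := by
      intro r
      rw [LinearMap.sub_apply, sub_eq_zero, LinearMap.id_apply, AlgEquiv.toLinearMap_apply, hS2 r]
      constructor
      · rintro ⟨s, hs⟩; exact ⟨s, by rw [hιa, hs]⟩
      · rintro ⟨s, hs⟩; exact ⟨s, by rw [← hιa, hs]⟩
    have hex2 := Module.Flat.lTensor_exact S' hex
    have h3 : (LinearMap.lTensor S' (lam.toLinearMap - LinearMap.id)) z = 0 := by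
      rw [LinearMap.lTensor_sub, LinearMap.sub_apply, ← hΛlin, hz, LinearMap.lTensor_id,
        LinearMap.id_apply, sub_self]
    exact (hex2 z).mp h3
  · obtain ⟨u, hu⟩ := h2
    obtain ⟨hf, hhf⟩ : ∃ hf : S, hf = (↑u⁻¹ : S) := ⟨_, rfl⟩
    have h2h : (2 : S) * hf = 1 := by rw [hhf, ← hu]; exact Units.mul_inv u
    have hfixP : ∀ r, lam (hf • (r + lam r)) = hf • (r + lam r) := by
      intro r; rw [map_smul, map_add, hlam r, add_comm]
    choose π0 hπ0 using fun r => (hS2 _).mp (hfixP r)
    obtain ⟨π, hπ⟩ : ∃ π : R →ₗ[S] S, ∀ r, π r = π0 r := by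
      refine ⟨{ toFun := π0, map_add' := ?_, map_smul' := ?_ }, fun r => rfl⟩
      · intro a b
        apply hS1
        rw [map_add, hπ0, hπ0, hπ0, map_add]
        simp only [smul_add]; abel
      · intro c a
        apply hS1
        rw [hπ0, RingHom.id_apply, smul_eq_mul, map_mul, hπ0, map_smul, ← smul_add,
          smul_comm, Algebra.smul_def c]
    have hπι : π ∘ₗ ι = LinearMap.id := by
      ext
      simp only [LinearMap.comp_apply, LinearMap.id_apply]
      apply hS1
      rw [hπ, hπ0, hιa, map_one, map_one]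
      have : (algebraMap S R) (2 * hf) = 1 := by rw [h2h, map_one]
      rw [Algebra.smul_def]
      rw [map_mul, map_ofNat] at this
      linear_combination this
    have hιπ : ∀ r, ι (π r) = hf • (r + lam r) := by
      intro r; rw [hιa, hπ, hπ0]
    refine ⟨?_, ?_⟩
    · have hcomp : (LinearMap.lTensor S' π) ∘ₗ (LinearMap.lTensor S' ι) = LinearMap.id := by
        rw [← LinearMap.lTensor_comp, hπι, LinearMap.lTensor_id]
      intro a b hab
      have := congrArg (LinearMap.lTensor S' π) hab
      rw [← LinearMap.comp_apply, ← LinearMap.comp_apply, hcomp] at this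
      exact this
    · intro z hz
      refine ⟨(LinearMap.lTensor S' π) z, ?_⟩
      rw [← LinearMap.comp_apply, ← LinearMap.lTensor_comp]
      have hP : ι ∘ₗ π = hf • (LinearMap.id + lam.toLinearMap) := by
        ext r
        simp only [LinearMap.comp_apply, hιπ, LinearMap.smul_apply, LinearMap.add_apply,
          LinearMap.id_apply, AlgEquiv.toLinearMap_apply]
      rw [hP, LinearMap.lTensor_smul, LinearMap.lTensor_add, LinearMap.smul_apply,
        LinearMap.add_apply, LinearMap.lTensor_id, LinearMap.id_apply, ← hΛlin, hz, ← two_smul S z,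
        smul_smul, mul_comm, h2h, one_smul]

end Groth.Agent.S15586
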