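import Groth.Statements.S15580
import Mathlib
import Groth.Agent.Lib.RInv3_helper6
-- import your own Groth.Agent.* helpers here

set_option autoImplicit false
universe u v
open RInv

namespace Groth.Agent.S15580

/-- Let `S` be a local ring, `R` a quadratic etale `S`-algebra and `lam` an involution of `R` with fixed
ring `S`. Then every unit `r` of `R` with `lam r * r = 1` can be written `a⁻¹ * lam a` for a unit
`a` of `R`. -/
theorem result (S : Type u) (R : Type v) [CommRing S] [CommRing R]
    [Algebra S R] (lam : R ≃+* R) (hlam : Function.Involutive lam) (hS : RInv.IsFixedRing S R lam)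
    [IsLocalRing S] (hq : RInv.IsQuadEtale S R) (r : Rˣ) (hr : lam r * r = 1) :
    ∃ a : Rˣ, (r : R) = (a⁻¹ : Rˣ) * lam a := by

  have hnt : Nontrivial R := hS.1.nontrivial
  have hA := Groth.Agent.Lib.RInv3.map_maximalIdeal_le_jacobson hlam hS
  obtain ⟨t, ht⟩ := Groth.Agent.Lib.RInv3.exists_sub_isUnit_of_isQuadEtale hlam hS hq
  have hr' : (r : R) * lam r = 1 := by rw [mul_comm]; exact hr
  -- the candidate elements
  have hlama : ∀ x : R, lam (x + lam (r * x)) = r * (x + lam (r * x)) := by
    intro x
    rw [map_add, hlam, map_mul]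
    linear_combination (-(lam x)) * hr'
  have hdich : ∀ x : R, IsUnit (x + lam (r * x)) ∨ x + lam (r * x) ∈ Ring.jacobson R := by
    intro x
    obtain ⟨a, ha⟩ : ∃ a, a = x + lam (r * x) := ⟨_, rfl⟩
    rw [← ha]
    have hla : lam a = r * a := by rw [ha]; exact hlama x
    have hfix : lam (a * lam a) = a * lam a := by rw [map_mul, hlam a, mul_comm]
    obtain ⟨s, hs⟩ := (hS.2 _).mp hfix
    by_cases hsu : IsUnit s
    · left
      have h1 : IsUnit (a * lam a) := by rw [← hs]; exact hsu.map _
      exact isUnit_of_mul_isUnit_left h1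
    · right
      have hsm : s ∈ IsLocalRing.maximalIdeal S := (IsLocalRing.mem_maximalIdeal _).mpr hsu
      have h1 : a * lam a ∈ Ring.jacobson R := by
        rw [← hs]; exact hA (Ideal.mem_map_of_mem _ hsm)
      have h2 : a * a ∈ Ring.jacobson R := by
        have h3 : (↑r⁻¹ : R) * (a * lam a) ∈ Ring.jacobson R := Ideal.mul_mem_left _ _ h1
        have e : (↑r⁻¹ : R) * (a * lam a) = a * a := by
          rw [hla]
          have : (↑r⁻¹ : R) * r = 1 := Units.inv_mul r
          linear_combination (a * a) * this
        rwa [e] at h3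
      rw [Ring.jacobson_eq_sInf_isMaximal, Ideal.mem_sInf] at h2 ⊢
      intro n hn
      have hnm : n.IsMaximal := hn
      rcases hnm.isPrime.mem_or_mem (h2 hn) with h5 | h5 <;> exact h5
  have hfinish : ∀ x : R, IsUnit (x + lam (r * x)) → ∃ a : Rˣ, (r : R) = (a⁻¹ : Rˣ) * lam a := by
    intro x hx
    obtain ⟨a, ha⟩ := hx
    refine ⟨a, ?_⟩
    have hla : lam (a : R) = r * a := by rw [ha]; exact hlama x
    rw [hla]
    have : (↑a⁻¹ : R) * a = 1 := Units.inv_mul a
    linear_combination (-(r : R)) * this
  rcases hdich 1 with h1 | h1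
  · exact hfinish 1 h1
  · rcases hdich t with h2 | h2
    · exact hfinish t h2
    · exfalso
      have e : t - lam t = (t + lam (r * t)) - lam t * (1 + lam (r * 1)) := by
        rw [map_mul, map_mul, map_one]; ring
      have h3 : t - lam t ∈ Ring.jacobson R := by
        rw [e]
        exact Ideal.sub_mem _ h2 (Ideal.mul_mem_left _ _ h1)
      exact Groth.Agent.Lib.RInv_helper6.not_isUnit_of_mem_jacobson h3 ht

end Groth.Agent.S15580
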