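import Groth.Statements.S15583
import Groth.Agent.Lib.HermDiag_helper3
-- import your own Groth.Agent.* helpers here

set_option autoImplicit false
universe u v
open RInv
open Groth.Agent.Lib.HermDiagH3

namespace Groth.Agent.S15583

/-- Let `A` be a commutative ring with an involution `lam` whose fixed ring `B` is local, let `ε = ±1`,
and let `h` be an invertible `n × n` matrix over `A` that is `(ε, lam)`-hermitian: `h` equals `ε`
times the transpose of `lam` applied entrywise to `h`. If `lam` is not the identity modulo the
Jacobson radical of `A`, or `ε ≠ -1` modulo that radical, or `n` is odd, then `h` is congruent to a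
diagonal matrix: there is an invertible `v` with `(lam v)ᵀ h v` diagonal. -/
theorem result (B : Type u) (A : Type v) [CommRing B] [CommRing A]
    [Algebra B A] (lam : A ≃+* A) (hlam : Function.Involutive lam) (hB : RInv.IsFixedRing B A lam)
    [IsLocalRing B] (n : ℕ) (ε : A) (hε : ε = 1 ∨ ε = -1) (h : Matrix (Fin n) (Fin n) A)
    (hh : IsUnit h) (herm : ε • (h.map lam).transpose = h)
    (hcase : (∃ a : A, lam a - a ∉ Ring.jacobson A) ∨ ε + 1 ∉ Ring.jacobson A ∨ Odd n) :
    ∃ v : Matrix (Fin n) (Fin n) A, IsUnit v ∧
      ∃ d : Fin n → A, (v.map lam).transpose * h * v = Matrix.diagonal d := by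
  classical
  haveI : Nontrivial A := hB.1.nontrivial
  have hdet : IsUnit h.det := (Matrix.isUnit_iff_isUnit_det h).mp hh
  have hhinv : h * h⁻¹ = 1 := Matrix.mul_nonsing_inv h hdet
  have hent : ∀ i j, ε * lam (h i j) = h j i := by
    intro i j
    have := congrFun (congrFun herm j) i
    simpa [Matrix.smul_apply, Matrix.transpose_apply, Matrix.map_apply] using this
  let b : Fin n → (Fin n → A) := fun i => Pi.single i 1
  let z : Fin n → (Fin n → A) := fun j => fun i => h⁻¹ i j
  have hipb : ∀ i y, ip lam h (b i) y = (h.mulVec y) i := by
    intro i y
    unfold ip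
    have : (fun k => lam ((b i) k)) = Pi.single i 1 := by
      funext k
      by_cases hk : k = i
      · subst hk
        simp [b]
      · simp [b, hk]
    rw [this, single_dotProduct, one_mul]
  have hdual : IsDual lam h b z := by
    intro i j
    rw [hipb]
    have : (h.mulVec (z j)) i = (h * h⁻¹) i j := by
      simp [Matrix.mulVec, dotProduct, Matrix.mul_apply, z]
    rw [this, hhinv, Matrix.one_apply]
  have hqb : ∀ i, ip lam h (b i) (b i) = h i i := by
    intro i
    rw [hipb]
    simp [b, Matrix.mulVec_single_one]
  have hyp : (∃ a : A, a + ε * lam a ∉ Ring.jacobson A) ∨ n = 0 ∨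
      ∃ i, IsUnit (ip lam h (b i) (b i)) ∨ IsUnit (ip lam h (z i) (z i)) := by
    by_cases hH : ∃ a : A, a + ε * lam a ∉ Ring.jacobson A
    · exact Or.inl hH
    · push Not at hH
      right
      have hodd : Odd n := by
        rcases hcase with ⟨a, ha⟩ | h2 | h3
        · exfalso
          rcases hε with rfl | rfl
          · by_cases h2J : (2 : A) ∈ Ring.jacobson A
            · apply ha
              have h1 := hH a
              have : lam a - a = (a + 1 * lam a) - 2 * a := by ring
              rw [this]
              exact Ideal.sub_mem _ h1 (Ideal.mul_mem_right _ _ h2J)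
            · apply h2J
              have h1 := hH 1
              have : (2 : A) = 1 + 1 * lam 1 := by rw [map_one]; ring
              rw [this]
              exact h1
          · apply ha
            have h1 := hH a
            have : lam a - a = -(a + (-1) * lam a) := by ring
            rw [this]
            exact Ideal.neg_mem_iff _ |>.mpr h1
        · exfalso
          apply h2
          have h1 := hH 1
          rw [map_one, mul_one, add_comm] at h1
          exact h1
        · exact h3
      by_cases hu : ∃ i, IsUnit (h i i)
      · obtain ⟨i, hi⟩ := hu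
        right
        exact ⟨i, Or.inl (by rw [hqb]; exact hi)⟩
      · exfalso
        push Not at hu
        have hdiagJ : ∀ i, h i i ∈ Ring.jacobson A := fun i => by
          have := norm_unit_or_jac lam hlam hB ε hε h herm (b i)
          rw [hqb] at this
          exact this.resolve_left (hu i)
        have hdet0 : (h.map (Ideal.Quotient.mk (Ring.jacobson A))).det = 0 := by
          refine QuadDisc9.det_eq_zero_of_alternating n hodd _ (fun i => ?_) (fun i j => ?_)
          · rw [Matrix.map_apply, Ideal.Quotient.eq_zero_iff_mem]
            exact hdiagJ i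
          · rw [Matrix.map_apply, Matrix.map_apply, ← map_neg, Ideal.Quotient.eq, sub_neg_eq_add,
              ← hent j i, add_comm]
            exact hH (h j i)
        have hmem : h.det ∈ Ring.jacobson A := by
          rw [← Ideal.Quotient.eq_zero_iff_mem, RingHom.map_det]
          exact hdet0
        exact not_mem_jac_of_isUnit hdet hmem
  obtain ⟨x, _, hxu, hxo⟩ := main lam hlam hB ε hε h herm n b z hdual hyp
  let v : Matrix (Fin n) (Fin n) A := Matrix.of fun i j => x j i
  have hentry : ∀ i j, ((v.map lam).transpose * h * v) i j = ip lam h (x i) (x j) := by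
    intro i j
    rw [Matrix.mul_assoc, Matrix.mul_apply]
    unfold ip dotProduct
    refine Finset.sum_congr rfl fun l _ => ?_
    simp [v, Matrix.mul_apply, Matrix.mulVec, dotProduct]
  have hdiag : (v.map lam).transpose * h * v =
      Matrix.diagonal (fun i => ip lam h (x i) (x i)) := by
    ext i j
    rw [hentry]
    by_cases hij : i = j
    · subst hij
      rw [Matrix.diagonal_apply_eq]
    · rw [Matrix.diagonal_apply_ne _ hij]
      exact hxo i j hij
  refine ⟨v, ?_, _, hdiag⟩
  rw [Matrix.isUnit_iff_isUnit_det]
  have hd : IsUnit ((v.map lam).transpose * h * v).det := by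
    rw [hdiag, Matrix.det_diagonal]
    exact IsUnit.prod_univ_iff.mpr hxu
  rw [Matrix.det_mul] at hd
  exact isUnit_of_mul_isUnit_right hd

end Groth.Agent.S15583
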