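import Groth.Statements.S15584
import Groth.Agent.Lib.HermDiag2_helper3
-- import your own Groth.Agent.* helpers here

set_option autoImplicit false
universe u v
open RInv
open Groth.Agent.Lib.HermDiagH3 Groth.Agent.Lib.HermDiag2H3

namespace Groth.Agent.S15584

/-- Let `A` be a commutative ring with an involution `lam` whose fixed ring `B` is local; assume `lam`
is the identity modulo the Jacobson radical of `A`, that `2` is invertible in `A`, and that `h` is
an invertible `n × n` matrix with `h = -(lam h)ᵀ`. Then `n` is even and there is an invertible `v`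
such that `(lam v)ᵀ h v` is a block sum of `2 × 2` blocks on the index pairs `{2k, 2k+1}`, each
congruent to `[[0,1],[-1,0]]` modulo the Jacobson radical. (The published statement writes the
congruence with the plain transpose `vᵀ h v`; its proof computes the Gram matrix of the hermitian
form `(x, y) ↦ (lam x)ᵀ h y` in a new basis, which is `(lam v)ᵀ h v`, and that is what is stated
here.) -/
theorem result (B : Type u) (A : Type v) [CommRing B] [CommRing A]
    [Algebra B A] (lam : A ≃+* A) (hlam : Function.Involutive lam) (hB : RInv.IsFixedRing B A lam)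
    [IsLocalRing B] (n : ℕ) (hid : ∀ a : A, lam a - a ∈ Ring.jacobson A) (h2 : IsUnit (2 : A))
    (h : Matrix (Fin n) (Fin n) A) (hh : IsUnit h) (herm : -(h.map lam).transpose = h) :
    Even n ∧ ∃ v : Matrix (Fin n) (Fin n) A, IsUnit v ∧
      ∀ i j : Fin n,
        (i.val / 2 ≠ j.val / 2 → ((v.map lam).transpose * h * v) i j = 0) ∧
        (i.val / 2 = j.val / 2 → (Even i.val ↔ Even j.val) →
          ((v.map lam).transpose * h * v) i j ∈ Ring.jacobson A) ∧
        (i.val / 2 = j.val / 2 → Even i.val → ¬ Even j.val →
          ((v.map lam).transpose * h * v) i j - 1 ∈ Ring.jacobson A) ∧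
        (i.val / 2 = j.val / 2 → ¬ Even i.val → Even j.val →
          ((v.map lam).transpose * h * v) i j + 1 ∈ Ring.jacobson A) := by
  classical
  haveI : Nontrivial A := hB.1.nontrivial
  have herm' : (-1 : A) • (h.map lam).transpose = h := by rw [neg_one_smul]; exact herm
  have hdet : IsUnit h.det := (Matrix.isUnit_iff_isUnit_det h).mp hh
  have hhinv : h * h⁻¹ = 1 := Matrix.mul_nonsing_inv h hdet
  have hent : ∀ i j, -1 * lam (h i j) = h j i := by
    intro i j
    have := congrFun (congrFun herm' j) i
    simpa [Matrix.smul_apply, Matrix.transpose_apply, Matrix.map_apply] using this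
  let b : Fin n → (Fin n → A) := fun i => Pi.single i 1
  let z : Fin n → (Fin n → A) := fun j => fun i => h⁻¹ i j
  have hipb : ∀ i y, ip lam h (b i) y = (h.mulVec y) i := by
    intro i y
    unfold ip
    have : (fun k => lam ((b i) k)) = Pi.single i 1 := by
      funext k
      by_cases hk : k = i
      · subst hk
        simp [b]
      · simp [b, hk]
    rw [this, single_dotProduct, one_mul]
  have hdual : IsDual lam h b z := by
    intro i j
    rw [hipb]
    have : (h.mulVec (z j)) i = (h * h⁻¹) i j := by
      simp [Matrix.mulVec, dotProduct, Matrix.mul_apply, z]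
    rw [this, hhinv, Matrix.one_apply]
  have hqb : ∀ i, ip lam h (b i) (b i) = h i i := by
    intro i
    rw [hipb]
    simp [b, Matrix.mulVec_single_one]
  have heven : Even n := by
    by_contra hne
    have hodd : Odd n := Nat.not_even_iff_odd.mp hne
    have hdet0 : (h.map (Ideal.Quotient.mk (Ring.jacobson A))).det = 0 := by
      refine QuadDisc9.det_eq_zero_of_alternating n hodd _ (fun i => ?_) (fun i j => ?_)
      · rw [Matrix.map_apply, Ideal.Quotient.eq_zero_iff_mem, ← hqb]
        exact norm_mem_jac lam hlam h herm' hid h2 (b i)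
      · rw [Matrix.map_apply, Matrix.map_apply, ← map_neg, Ideal.Quotient.eq, sub_neg_eq_add,
          ← hent j i]
        have : -1 * lam (h j i) + h j i = -(lam (h j i) - h j i) := by ring
        rw [this]
        exact Ideal.neg_mem_iff _ |>.mpr (hid (h j i))
    have hmem : h.det ∈ Ring.jacobson A := by
      rw [← Ideal.Quotient.eq_zero_iff_mem, RingHom.map_det]
      exact hdet0
    exact not_mem_jac_of_isUnit hdet hmem
  refine ⟨heven, ?_⟩
  obtain ⟨x, y, _, _, hxy, hxc⟩ := main2 lam hlam hB h herm' hid h2 n heven b z hdual
  let v : Matrix (Fin n) (Fin n) A := Matrix.of fun i j => x j i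
  let Y : Matrix (Fin n) (Fin n) A := Matrix.of fun i j => y j i
  have hentry : ∀ i j, ((v.map lam).transpose * h * v) i j = ip lam h (x i) (x j) := by
    intro i j
    rw [Matrix.mul_assoc, Matrix.mul_apply]
    unfold ip dotProduct
    refine Finset.sum_congr rfl fun l _ => ?_
    simp [v, Matrix.mul_apply, Matrix.mulVec, dotProduct]
  have hentryY : ∀ i j, ((v.map lam).transpose * (h * Y)) i j = ip lam h (x i) (y j) := by
    intro i j
    rw [Matrix.mul_apply]
    unfold ip dotProduct
    refine Finset.sum_congr rfl fun l _ => ?_
    simp [v, Y, Matrix.mul_apply, Matrix.mulVec, dotProduct]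
  have hone : (v.map lam).transpose * (h * Y) = 1 := by
    ext i j
    rw [hentryY, hxy, Matrix.one_apply]
  refine ⟨v, ?_, fun i j => ?_⟩
  · rw [Matrix.isUnit_iff_isUnit_det]
    have h1 : IsUnit ((v.map lam).transpose).det := Matrix.isUnit_det_of_right_inverse hone
    rw [Matrix.det_transpose] at h1
    have h3 : (v.map lam).det = lam v.det := by
      have := RingHom.map_det lam.toRingHom v
      exact this.symm
    rw [h3] at h1
    exact (isUnit_map_iff lam _).mp h1
  · rw [hentry]
    exact hxc i j

end Groth.Agent.S15584
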