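import Groth.Statements.S15577
import Mathlib
import Groth.Agent.Lib.RInv3_helper6
-- import your own Groth.Agent.* helpers here

set_option autoImplicit false
universe u v
open RInv

namespace Groth.Agent.S15577

/-- Let `R` be a commutative ring with an involution `lam` whose fixed ring `S` is local. If `lam`
induces the identity on `R` modulo its Jacobson radical, then `R` is a local ring and is not a
quadratic etale `S`-algebra. -/
theorem result (S : Type u) (R : Type v) [CommRing S] [CommRing R]
    [Algebra S R] (lam : R ≃+* R) (hlam : Function.Involutive lam) (hS : RInv.IsFixedRing S R lam)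
    [IsLocalRing S] (h : ∀ r : R, lam r - r ∈ Ring.jacobson R) :
    IsLocalRing R ∧ ¬ RInv.IsQuadEtale S R := by

  have hnt : Nontrivial R := hS.1.nontrivial
  have hA := Groth.Agent.Lib.RInv3.map_maximalIdeal_le_jacobson hlam hS
  refine ⟨?_, ?_⟩
  · apply IsLocalRing.of_isUnit_or_isUnit_one_sub_self
    intro x
    have hfix : lam (x * lam x) = x * lam x := by rw [map_mul, hlam x, mul_comm]
    obtain ⟨s, hs⟩ := (hS.2 _).mp hfix
    by_cases hsu : IsUnit s
    · left
      have h1 : IsUnit (x * lam x) := by rw [← hs]; exact hsu.map _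
      exact isUnit_of_mul_isUnit_left h1
    · right
      have hsm : s ∈ IsLocalRing.maximalIdeal S := (IsLocalRing.mem_maximalIdeal _).mpr hsu
      have h1 : x * lam x ∈ Ring.jacobson R := by
        rw [← hs]; exact hA (Ideal.mem_map_of_mem _ hsm)
      have h2 : x * x ∈ Ring.jacobson R := by
        have h3 : x * (lam x - x) ∈ Ring.jacobson R := Ideal.mul_mem_left _ _ (h x)
        have := Ideal.sub_mem _ h1 h3
        have e : x * lam x - x * (lam x - x) = x * x := by ring
        rwa [e] at this
      have h4 : x ∈ Ring.jacobson R := by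
        rw [Ring.jacobson_eq_sInf_isMaximal, Ideal.mem_sInf] at h2 ⊢
        intro n hn
        have hnm : n.IsMaximal := hn
        rcases hnm.isPrime.mem_or_mem (h2 hn) with h5 | h5 <;> exact h5
      rw [Groth.Agent.Lib.RInv_helper6.mem_jacobson_iff'] at h4
      have := h4 (-1)
      have e : x * (-1) + 1 = 1 - x := by ring
      rwa [e] at this
  · intro hq
    obtain ⟨r, hr⟩ := Groth.Agent.Lib.RInv3.exists_sub_isUnit_of_isQuadEtale hlam hS hq
    have h1 : r - lam r ∈ Ring.jacobson R := by
      have : r - lam r = -(lam r - r) := by ring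
      rw [this]; exact Ideal.neg_mem_iff _ |>.mpr (h r)
    exact Groth.Agent.Lib.RInv_helper6.not_isUnit_of_mem_jacobson h1 hr

end Groth.Agent.S15577
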