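import Groth.Statements.S17362
import Groth.Agent.Lib.AzInv20_helper6

set_option autoImplicit false
universe u v w
open scoped TensorProduct
open AzInv

namespace Groth.Agent.S17362

/-- Let `R` be a commutative ring with an involution `lam` whose fixed ring is exactly `S`, with `2` a
unit in `S`, and let `(A, t)` be an Azumaya `R`-algebra of degree `n ≥ 1` with a `lam`-involution.
For a prime `q` of `R` in the ramification locus (`lam` is the identity modulo `q`) call `t`
orthogonal at `q` when the images of the `t`-symmetric elements of `A` span a subspace of `k(q) ⊗_R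
A` of dimension `n (n + 1) / 2` over `k(q)` (the induced involution of the central simple algebra
`k(q) ⊗_R A` is then orthogonal, and symplectic otherwise). Then this orthogonal/symplectic sign is
locally constant on the ramification locus: every such `q` has a basic open neighbourhood `D(f)`
such that at every prime of the ramification locus inside `D(f)` the sign is the same as at `q`.
(The source states this for a good quotient of schemes by an involution with `2` invertible, as
local constancy of a sign function on the ramification locus; the row is the affine case with the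
sign spelled out by dimensions of symmetric elements.) -/
theorem result (S : Type u) (R : Type v) [CommRing S] [CommRing R] [Algebra S R]
    (lam : R ≃ₐ[S] R) (hlam : ∀ r, lam (lam r) = r) (hfix : RInv.IsFixedRing S R lam.toRingEquiv)
    (h2 : IsUnit (2 : S))
    (A : Type w) [Ring A] [Algebra S A] [Algebra R A] [IsScalarTower S R A]
    (n : ℕ) (hn : 0 < n) (hA : AzInv.IsAzumayaDeg R A n) (t : AzInv.LamInv R A lam)
    (q : PrimeSpectrum R) (hq : ∀ r : R, lam r - r ∈ q.asIdeal) :
    ∃ f : R, f ∉ q.asIdeal ∧ ∀ q' : PrimeSpectrum R, (∀ r : R, lam r - r ∈ q'.asIdeal) → f ∉ q'.asIdeal →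
      (Module.finrank q'.asIdeal.ResidueField
          (Submodule.span q'.asIdeal.ResidueField
            (Set.range fun a : {a : A // t a = a} => (1 : q'.asIdeal.ResidueField) ⊗ₜ[R] (a : A))) = Nat.choose (n + 1) 2 ↔
        Module.finrank q.asIdeal.ResidueField
            (Submodule.span q.asIdeal.ResidueField
              (Set.range fun a : {a : A // t a = a} => (1 : q.asIdeal.ResidueField) ⊗ₜ[R] (a : A))) = Nat.choose (n + 1) 2) := by
  classical
  obtain ⟨hAz, hrk⟩ := hA
  haveI := hAz
  obtain ⟨s', hs'⟩ := h2.exists_right_inv
  have hs : (2 : R) * algebraMap S R s' = 1 := by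
    rw [← map_ofNat (algebraMap S R) 2, ← map_mul, hs', map_one]
  have hls : lam (algebraMap S R s') = algebraMap S R s' := lam.commutes s'
  obtain ⟨f₁, hf₁, hf₁'⟩ := Groth.Agent.Lib.AzInvH6.exists_nbhd_le_finrank_span (R := R) (M := A)
    (fun a => t a = a) q.asIdeal
  obtain ⟨f₂, hf₂, hf₂'⟩ := Groth.Agent.Lib.AzInvH6.exists_nbhd_le_finrank_span (R := R) (M := A)
    (fun a => t a = -a) q.asIdeal
  refine ⟨f₁ * f₂, ?_, ?_⟩
  · intro h
    rcases q.isPrime.mem_or_mem h with h | h
    · exact hf₁ h
    · exact hf₂ h
  intro q' hq' hfq'
  have h1 := hf₁' q'.asIdeal (fun h => hfq' (Ideal.mul_mem_right _ _ h))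
  have h2' := hf₂' q'.asIdeal (fun h => hfq' (Ideal.mul_mem_left _ _ h))
  have e1 := Groth.Agent.Lib.AzInvH6.finrank_sym_add_finrank_skew t q.asIdeal hq _ hs hls
  have e2 := Groth.Agent.Lib.AzInvH6.finrank_sym_add_finrank_skew t q'.asIdeal hq' _ hs hls
  have r1 : Module.finrank q.asIdeal.ResidueField (q.asIdeal.ResidueField ⊗[R] A) = n ^ 2 := by
    rw [← hrk q, Module.rankAtStalk_eq]
  have r2 : Module.finrank q'.asIdeal.ResidueField (q'.asIdeal.ResidueField ⊗[R] A) = n ^ 2 := by
    rw [← hrk q', Module.rankAtStalk_eq]
  have key : Module.finrank q'.asIdeal.ResidueField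
          (Submodule.span q'.asIdeal.ResidueField
            (Set.range fun a : {a : A // t a = a} => (1 : q'.asIdeal.ResidueField) ⊗ₜ[R] (a : A))) =
      Module.finrank q.asIdeal.ResidueField
            (Submodule.span q.asIdeal.ResidueField
              (Set.range fun a : {a : A // t a = a} => (1 : q.asIdeal.ResidueField) ⊗ₜ[R] (a : A))) := by
    omega
  rw [key]

end Groth.Agent.S17362
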