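import Groth.Statements.S11268
import Mathlib

set_option autoImplicit false
open W4bk4grassmannian

namespace Groth.Agent.S11268

theorem idx_val_le {d n : ℕ} (a : Fin d → Fin n) (ha : StrictMono a) :
    ∀ (m : ℕ) (t : Fin d), t.val = m → m ≤ (a t).val := by
  intro m
  induction m with
  | zero => intro t _; exact Nat.zero_le _
  | succ m ih =>
    intro t ht
    have hlt : m < d := by have := t.isLt; omega
    have h1 := ih ⟨m, hlt⟩ rfl
    have h2 : a ⟨m, hlt⟩ < a t := ha (by rw [Fin.lt_def]; simp [ht])
    rw [Fin.lt_def] at h2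
    omega

open W4bk4grassmannian in
/-- Let τ < w in I(d,n), the strictly increasing maps Fin d → Fin n ordered entrywise. Then there is a
Schubert divisor φ of w, i.e. φ < w with Σ_t (φ_t - t) + 1 = Σ_t (w_t - t), such that τ ≤ φ: every
proper Schubert subvariety of X(w) lies in a Schubert divisor of X(w). -/
theorem result (d n : ℕ) (τ w : Idx d n) (h : τ < w) :
    ∃ φ ∈ divisors w, τ ≤ φ := by
  classical
  obtain ⟨τ, hτ⟩ := τ
  obtain ⟨w, hw⟩ := w
  have hle : ∀ t, τ t ≤ w t := fun t => (le_of_lt h) t
  have hex : ∃ t, τ t < w t := by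
    by_contra hcon
    push Not at hcon
    exact (not_le_of_gt h) (fun t => hcon t)
  set S : Finset (Fin d) := Finset.univ.filter (fun t => τ t < w t) with hS
  have hSne : S.Nonempty := by
    obtain ⟨t, ht⟩ := hex
    exact ⟨t, by simp [hS, ht]⟩
  set t₀ := S.min' hSne with ht₀
  have ht₀S : τ t₀ < w t₀ := by
    have := Finset.min'_mem S hSne
    exact (Finset.mem_filter.1 this).2
  have hmin : ∀ t, t < t₀ → τ t = w t := by
    intro t ht
    by_contra hne
    have hlt : τ t < w t := lt_of_le_of_ne (hle t) hne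
    have hmem : t ∈ S := by simp [hS, hlt]
    exact absurd (Finset.min'_le S t hmem) (not_le_of_gt ht)
  have hpos : 0 < (w t₀).val := by
    have := ht₀S; rw [Fin.lt_def] at this; omega
  have hbound : (w t₀).val - 1 < n := by have := (w t₀).isLt; omega
  set φ : Fin d → Fin n := Function.update w t₀ ⟨(w t₀).val - 1, hbound⟩ with hφ
  have hφt₀ : (φ t₀).val = (w t₀).val - 1 := by simp [hφ]
  have hφne : ∀ t, t ≠ t₀ → φ t = w t := fun t ht => by simp [hφ, Function.update_of_ne ht]
  have hφmono : StrictMono φ := by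
    intro a b hab
    rw [Fin.lt_def]
    by_cases hb : b = t₀
    · have ha : a ≠ t₀ := by rw [← hb]; exact ne_of_lt hab
      rw [hφne a ha, hb, hφt₀]
      have h1 : τ a = w a := hmin a (by rw [← hb]; exact hab)
      have h2 : τ a < τ t₀ := hτ (by rw [← hb]; exact hab)
      rw [h1] at h2
      rw [Fin.lt_def] at h2 ht₀S
      omega
    · by_cases ha : a = t₀
      · rw [hφne b hb, ha, hφt₀]
        have : w t₀ < w b := hw (by rw [← ha]; exact hab)
        rw [Fin.lt_def] at this
        omega
      · rw [hφne a ha, hφne b hb]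
        exact hw hab
  have hτφ : ∀ t, τ t ≤ φ t := by
    intro t
    by_cases ht : t = t₀
    · rw [ht, Fin.le_def, hφt₀]
      have := ht₀S; rw [Fin.lt_def] at this; omega
    · rw [hφne t ht]; exact hle t
  have hφw : ∀ t, φ t ≤ w t := by
    intro t
    by_cases ht : t = t₀
    · rw [ht, Fin.le_def, hφt₀]; omega
    · rw [hφne t ht]
  refine ⟨⟨φ, hφmono⟩, ⟨?_, ?_⟩, fun t => hτφ t⟩
  · refine lt_of_le_of_ne (fun t => hφw t) ?_
    intro heq
    have := congrArg (fun x : Idx d n => (x.1 t₀).val) heq
    simp only [hφt₀] at this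
    omega
  · unfold codeg
    rw [← Finset.add_sum_erase Finset.univ _ (Finset.mem_univ t₀),
      ← Finset.add_sum_erase Finset.univ (fun t : Fin d => (w t).val - t.val) (Finset.mem_univ t₀)]
    have hsum : ∑ x ∈ Finset.univ.erase t₀, ((φ x).val - x.val) =
        ∑ x ∈ Finset.univ.erase t₀, ((w x).val - x.val) := by
      apply Finset.sum_congr rfl
      intro x hx
      rw [hφne x (Finset.ne_of_mem_erase hx)]
    have hge : t₀.val ≤ (τ t₀).val := idx_val_le τ hτ t₀.val t₀ rfl
    have := ht₀S; rw [Fin.lt_def] at this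
    simp only [hsum, hφt₀]
    omega

end Groth.Agent.S11268
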