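import Groth.Statements.S19391
import Mathlib

set_option autoImplicit false
universe u
open InvQ

namespace Groth.Agent.S19391

/-- For a binary quartic written as a product of four linear forms μ_i X₀ − λ_i X₁, with coefficients
a_0, …, a_4, the discriminant D = ∏_{i<j} (λ_j μ_i − λ_i μ_j)² is a constant multiple of P³ − 6Q²
for the two basic invariants P, Q. With the integral normalisation I = 6P = 12a₀a₄ − 3a₁a₃ + a₂², J
= 72Q = 72a₀a₂a₄ + 9a₁a₂a₃ − 27a₀a₃² − 27a₁²a₄ − 2a₂³ used here, the identity reads 27 D = 4 I³ − J²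
(so the constant is 32: D = 32 (P³ − 6Q²)); it is stated over an arbitrary commutative ring. -/
theorem result (R : Type u) [CommRing R] (la mu : Fin 4 → R) :
    27 * W4c6intromoduli.disc la mu =
      4 * W4c6intromoduli.invI (W4c6intromoduli.coef la mu) ^ 3
        - W4c6intromoduli.invJ (W4c6intromoduli.coef la mu) ^ 2 := by
  have hroot : W4c6intromoduli.rootPoly la mu =
      Polynomial.C (mu 0 * mu 1 * mu 2 * mu 3)
      + Polynomial.C (-(la 0 * mu 1 * mu 2 * mu 3 + mu 0 * la 1 * mu 2 * mu 3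
          + mu 0 * mu 1 * la 2 * mu 3 + mu 0 * mu 1 * mu 2 * la 3)) * Polynomial.X
      + Polynomial.C (la 0 * la 1 * mu 2 * mu 3 + la 0 * mu 1 * la 2 * mu 3
          + la 0 * mu 1 * mu 2 * la 3 + mu 0 * la 1 * la 2 * mu 3 + mu 0 * la 1 * mu 2 * la 3
          + mu 0 * mu 1 * la 2 * la 3) * Polynomial.X ^ 2
      + Polynomial.C (-(la 0 * la 1 * la 2 * mu 3 + la 0 * la 1 * mu 2 * la 3
          + la 0 * mu 1 * la 2 * la 3 + mu 0 * la 1 * la 2 * la 3)) * Polynomial.X ^ 3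
      + Polynomial.C (la 0 * la 1 * la 2 * la 3) * Polynomial.X ^ 4 := by
    unfold W4c6intromoduli.rootPoly
    rw [Fin.prod_univ_four]
    simp only [map_add, map_mul, map_neg]
    ring
  have hcoef0 : ∀ a0 a1 a2 a3 a4 : R, (Polynomial.C a0 + Polynomial.C a1 * Polynomial.X
      + Polynomial.C a2 * Polynomial.X ^ 2 + Polynomial.C a3 * Polynomial.X ^ 3
      + Polynomial.C a4 * Polynomial.X ^ 4).coeff 0 = a0 := by
    intros; simp [Polynomial.coeff_X, Polynomial.coeff_X_pow, Polynomial.coeff_C]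
  have hcoef1 : ∀ a0 a1 a2 a3 a4 : R, (Polynomial.C a0 + Polynomial.C a1 * Polynomial.X
      + Polynomial.C a2 * Polynomial.X ^ 2 + Polynomial.C a3 * Polynomial.X ^ 3
      + Polynomial.C a4 * Polynomial.X ^ 4).coeff 1 = a1 := by
    intros; simp [Polynomial.coeff_X, Polynomial.coeff_X_pow, Polynomial.coeff_C]
  have hcoef2 : ∀ a0 a1 a2 a3 a4 : R, (Polynomial.C a0 + Polynomial.C a1 * Polynomial.X
      + Polynomial.C a2 * Polynomial.X ^ 2 + Polynomial.C a3 * Polynomial.X ^ 3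
      + Polynomial.C a4 * Polynomial.X ^ 4).coeff 2 = a2 := by
    intros; simp [Polynomial.coeff_X, Polynomial.coeff_X_pow, Polynomial.coeff_C]
  have hcoef3 : ∀ a0 a1 a2 a3 a4 : R, (Polynomial.C a0 + Polynomial.C a1 * Polynomial.X
      + Polynomial.C a2 * Polynomial.X ^ 2 + Polynomial.C a3 * Polynomial.X ^ 3
      + Polynomial.C a4 * Polynomial.X ^ 4).coeff 3 = a3 := by
    intros; simp [Polynomial.coeff_X, Polynomial.coeff_X_pow, Polynomial.coeff_C]
  have hcoef4 : ∀ a0 a1 a2 a3 a4 : R, (Polynomial.C a0 + Polynomial.C a1 * Polynomial.X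
      + Polynomial.C a2 * Polynomial.X ^ 2 + Polynomial.C a3 * Polynomial.X ^ 3
      + Polynomial.C a4 * Polynomial.X ^ 4).coeff 4 = a4 := by
    intros; simp [Polynomial.coeff_X, Polynomial.coeff_X_pow, Polynomial.coeff_C]
  have hc0 : W4c6intromoduli.coef la mu 0 = mu 0 * mu 1 * mu 2 * mu 3 := by
    unfold W4c6intromoduli.coef
    rw [hroot]
    exact hcoef0 _ _ _ _ _
  have hc1 : W4c6intromoduli.coef la mu 1 = -(la 0 * mu 1 * mu 2 * mu 3 + mu 0 * la 1 * mu 2 * mu 3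
          + mu 0 * mu 1 * la 2 * mu 3 + mu 0 * mu 1 * mu 2 * la 3) := by
    unfold W4c6intromoduli.coef
    rw [hroot]
    exact hcoef1 _ _ _ _ _
  have hc2 : W4c6intromoduli.coef la mu 2 = la 0 * la 1 * mu 2 * mu 3 + la 0 * mu 1 * la 2 * mu 3
          + la 0 * mu 1 * mu 2 * la 3 + mu 0 * la 1 * la 2 * mu 3 + mu 0 * la 1 * mu 2 * la 3
          + mu 0 * mu 1 * la 2 * la 3 := by
    unfold W4c6intromoduli.coef
    rw [hroot]
    exact hcoef2 _ _ _ _ _
  have hc3 : W4c6intromoduli.coef la mu 3 = -(la 0 * la 1 * la 2 * mu 3 + la 0 * la 1 * mu 2 * la 3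
          + la 0 * mu 1 * la 2 * la 3 + mu 0 * la 1 * la 2 * la 3) := by
    unfold W4c6intromoduli.coef
    rw [hroot]
    exact hcoef3 _ _ _ _ _
  have hc4 : W4c6intromoduli.coef la mu 4 = la 0 * la 1 * la 2 * la 3 := by
    unfold W4c6intromoduli.coef
    rw [hroot]
    exact hcoef4 _ _ _ _ _
  have hdisc : W4c6intromoduli.disc la mu =
      (la 1 * mu 0 - la 0 * mu 1) ^ 2 * (la 2 * mu 0 - la 0 * mu 2) ^ 2
      * (la 3 * mu 0 - la 0 * mu 3) ^ 2 * (la 2 * mu 1 - la 1 * mu 2) ^ 2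
      * (la 3 * mu 1 - la 1 * mu 3) ^ 2 * (la 3 * mu 2 - la 2 * mu 3) ^ 2 := by
    unfold W4c6intromoduli.disc
    rw [Finset.prod_filter, Fintype.prod_prod_type]
    simp [Fin.prod_univ_four]
    ring
  unfold W4c6intromoduli.invI W4c6intromoduli.invJ
  rw [hc0, hc1, hc2, hc3, hc4, hdisc]
  ring

end Groth.Agent.S19391
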