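import Groth.Statements.S9753
import Groth.Agent.Lib.BrEtNbhd5_helper3
import Groth.Agent.Lib.BrEtNbhd1_helper3
-- import your own Groth.Agent.* helpers here

set_option autoImplicit false
universe u
open Brnch


namespace Groth.Agent.S9753

open AlgebraicGeometry CategoryTheory Limits in
/-- Let X be a scheme and x ∈ X. Over all étale neighbourhoods (U, u) of (X, x) (g : U ⟶ X étale with g
u = x), take the count (in ℕ∞) of irreducible components of U containing u; the supremum of these
counts is the geometric branch number of X at x. -/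
theorem result (X : Scheme.{u}) (x : X) :
    Brnch.numGeomBranchesAt X x = ⨆ (U : Scheme.{u}) (g : U ⟶ X) (u : U) (_ : Etale g ∧ g u = x),
      {Z : Set ↑U | Z ∈ irreducibleComponents ↑U ∧ u ∈ Z}.encard := by
  apply le_antisymm
  · show Brnch.numGeomBranches (X.presheaf.stalk x) ≤ _
    rw [Groth.Agent.Lib.BrEtNbhdH3.numGeomBranches_eq_iSup]
    refine iSup_le fun k => ?_
    haveI : (RingHom.ker k.pt).IsPrime := Groth.Agent.Lib.StrictHens.ker_isPrime k.pt
    obtain ⟨U, g, u, hEt, hgu, hcount, -⟩ :=
      Groth.Agent.Lib.BrEtNbhdH3.exists_etale_nbhd_of_etale_algebra X x k.C (RingHom.ker k.pt)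
        (Groth.Agent.Lib.StrictHens.ker_comap k.pt)
    exact le_iSup_of_le U (le_iSup_of_le g (le_iSup_of_le u (le_iSup_of_le ⟨hEt, hgu⟩
      (le_of_eq hcount.symm))))
  · refine iSup_le fun U => iSup_le fun g => iSup_le fun u => iSup_le ?_
    rintro ⟨hEt, rfl⟩
    exact Groth.Agent.Lib.BrEtNbhdH3.count_le_numGeomBranchesAt g u

end Groth.Agent.S9753
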