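import Groth.Statements.S4615
import Groth.Agent.Lib.RedStab2_helper3
import Groth.Agent.Lib.AnUnram_helper3
-- import your own Groth.Agent.* helpers here

set_option autoImplicit false
universe u
open TensorProduct AlgebraicGeometry

open CAlg

namespace Groth.Agent.S4615

/-- Let A be a Noetherian local domain with fraction field K, Â its completion and K' a finite extension
of K; among the sub-A-algebras C of K' finite over A with fraction field K' (whose completions are C
⊗_A Â) there is C_α such that for every such C ⊇ C_α the map (C_α ⊗_A Â)_red → (C ⊗_A Â)_red is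
bijective, and Spec A' → Spec C_α is radicial, A' the integral closure of A in K'. -/
theorem result {A K' : Type u} [CommRing A] [IsDomain A]
    [IsLocalRing A] [IsNoetherianRing A] [Field K'] [Algebra A K'] [Algebra (FractionRing A) K']
    [IsScalarTower A (FractionRing A) K'] [FiniteDimensional (FractionRing A) K'] :
    let Ah := AdicCompletion (IsLocalRing.maximalIdeal A) A
    let P : Subalgebra A K' → Prop := fun C : Subalgebra A K' => Module.Finite A C ∧ ∀ x : K', ∃ a b : C, (b : K') ≠ 0 ∧ x * b = a
    ∃ Cα : Subalgebra A K', P Cα ∧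
      (∀ C : Subalgebra A K', P C → ∀ hle : Cα ≤ C,
        (∀ x : ↥Cα ⊗[A] Ah, IsNilpotent (Algebra.TensorProduct.map (Subalgebra.inclusion hle) (AlgHom.id A Ah) x) →
          IsNilpotent x) ∧
        (∀ y : ↥C ⊗[A] Ah, ∃ x : ↥Cα ⊗[A] Ah,
          IsNilpotent (Algebra.TensorProduct.map (Subalgebra.inclusion hle) (AlgHom.id A Ah) x - y))) ∧
      (∀ hint : Cα ≤ integralClosure A K',
        UniversallyInjective (Spec.map (CommRingCat.ofHom (Subalgebra.inclusion hint).toRingHom))) := by
  intro Ah P
  obtain ⟨hloc, hnoeth, -, hff, -, -⟩ := Groth.Agent.Lib.AnUnramH3.completion_facts A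
  haveI := hnoeth
  haveI := hff
  have hNag := Groth.Agent.Lib.AnUnramH3.isNagata_completion A
  have hJ : ∀ (q : Ideal (AdicCompletion (IsLocalRing.maximalIdeal A) A)) [q.IsPrime],
      q ∈ minimalPrimes (AdicCompletion (IsLocalRing.maximalIdeal A) A) →
      CAlg.IsN2 (AdicCompletion (IsLocalRing.maximalIdeal A) A ⧸ q) := fun q _ _ => hNag.2 q
  obtain ⟨Cα, hCα, h1, h2⟩ := Groth.Agent.Lib.RedStabH3.main (A := A)
    (B := AdicCompletion (IsLocalRing.maximalIdeal A) A) (K' := K') hJ
  exact ⟨Cα, hCα, h1, h2 hff⟩

end Groth.Agent.S4615
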