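import Groth.Statements.S12736
import Mathlib

set_option autoImplicit false
universe u v
open CategoryTheory
open ArtFun

namespace Groth.Agent.S12736

/-- For functors, let φ : F → G be a morphism of functors on Artinian local Λ-algebras with residue
field k whose values at k are points and which satisfy (S2), with the natural vector space
structures on their tangent spaces. Then the differential dφ : F(k[ε]) → G(k[ε]) is k-linear. -/
theorem result {Λ : Type u} {k : Type u} [CommRing Λ] [Field k] [Algebra Λ k]
    [IsNoetherianRing Λ] [Module.Finite Λ k]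
    {F G : ArtFun.Art Λ k ⥤ Type v} [ArtFun.TangentStr F] [ArtFun.TangentStr G]
    (hF0 : ArtFun.H0 F) (hF2 : ArtFun.Heps F) (hG0 : ArtFun.H0 G) (hG2 : ArtFun.Heps G) (φ : F ⟶ G) :
    ∃ f : ArtFun.TangentSpace F →ₗ[k] ArtFun.TangentSpace G, ⇑f = ArtFun.TangentSpace.map φ := by
  classical
  have a1 : ∀ (x y : TangentSpace F) (z : F.obj (Art.dual2 Λ k)), x = F.map Art.pr₁ z →
      y = F.map Art.pr₂ z → x + y = F.map Art.plus z := by
    intro x y z hx hy
    subst hx hy
    exact TangentStr.add_eq z
  have a2 : ∀ (u v : TangentSpace G) (w : G.obj (Art.dual2 Λ k)), u = G.map Art.pr₁ w →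
      v = G.map Art.pr₂ w → u + v = G.map Art.plus w := by
    intro u v w hu hv
    subst hu hv
    exact TangentStr.add_eq w
  have hadd : ∀ x y : TangentSpace F,
      TangentSpace.map φ (x + y) = TangentSpace.map φ x + TangentSpace.map φ y := by
    intro x y
    have hs := (hF2 (Art.pr₁ : Art.dual2 Λ k ⟶ Art.dual Λ k) Art.pr₂ Art.isFibreProd_dual2).2
    have hxy : F.map (Art.toBase (Art.dual Λ k)) x = F.map (Art.toBase (Art.dual Λ k)) y :=
      hF0.2.elim _ _
    obtain ⟨z, hz⟩ := hs ⟨(x, y), hxy⟩
    have hz1 : x = F.map Art.pr₁ z := (congrArg (fun t => t.1.1) hz).symm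
    have hz2 : y = F.map Art.pr₂ z := (congrArg (fun t => t.1.2) hz).symm
    have n0 : TangentSpace.map φ (F.map Art.plus z) = G.map Art.plus (φ.app _ z) :=
      NatTrans.naturality_apply φ Art.plus z
    have n1 : TangentSpace.map φ x = G.map Art.pr₁ (φ.app _ z) := by
      rw [hz1]; exact NatTrans.naturality_apply φ Art.pr₁ z
    have n2 : TangentSpace.map φ y = G.map Art.pr₂ (φ.app _ z) := by
      rw [hz2]; exact NatTrans.naturality_apply φ Art.pr₂ z
    rw [a1 x y z hz1 hz2, n0, a2 _ _ _ n1 n2]
  have hsmul : ∀ (c : k) (x : TangentSpace F),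
      TangentSpace.map φ (c • x) = c • TangentSpace.map φ x := by
    intro c x
    have s1 : c • x = F.map (Art.scale c) x := TangentStr.smul_eq c x
    have s2 : c • TangentSpace.map φ x = G.map (Art.scale c) (TangentSpace.map φ x) :=
      TangentStr.smul_eq c _
    rw [s1, s2]
    exact NatTrans.naturality_apply φ (Art.scale c) x
  exact ⟨{ toFun := TangentSpace.map φ, map_add' := hadd, map_smul' := hsmul }, rfl⟩

end Groth.Agent.S12736
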