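import Groth.Statements.S8852
import Groth.Agent.Lib.WeakAssSch_helper4

set_option autoImplicit false
universe u
open CategoryTheory CategoryTheory.Limits AlgebraicGeometry TopologicalSpace
open SDiv

namespace Groth.Agent.S8852

open Groth.Agent.Lib.WeakAssSch_helper4

theorem factor_lemma {R : Type*} [CommRing R] (I J : Ideal R) (f : R)
    (hf : f ∈ nonZeroDivisors R) (hIJ : I * J = Ideal.span {f}) (p : Ideal R) [hp : p.IsPrime] :
    ∃ a ∈ I, ∃ b ∈ J, ∃ c, c ∉ p ∧ a * b = c * f ∧ ∀ a' ∈ I, ∃ d, c * a' = a * d := by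
  set C : Ideal R := Ideal.span {c | ∃ a ∈ I, ∃ b ∈ J, a * b = c * f} with hC
  have hrep : ∀ z ∈ I * J, ∃ c ∈ C, z = c * f := by
    intro z hz
    refine Submodule.mul_induction_on hz ?_ ?_
    · intro a ha b hb
      have hab : a * b ∈ Ideal.span {f} := hIJ ▸ Ideal.mul_mem_mul ha hb
      obtain ⟨c, hc⟩ := Ideal.mem_span_singleton'.mp hab
      exact ⟨c, Ideal.subset_span ⟨a, ha, b, hb, hc.symm⟩, hc.symm⟩
    · rintro z₁ z₂ ⟨c₁, hc₁, rfl⟩ ⟨c₂, hc₂, rfl⟩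
      exact ⟨c₁ + c₂, C.add_mem hc₁ hc₂, by ring⟩
  have hfIJ : f ∈ I * J := hIJ ▸ Ideal.mem_span_singleton_self f
  obtain ⟨c, hcC, hc⟩ := hrep f hfIJ
  have hc1 : c = 1 := by
    have h0 : (c - 1) * f = 0 := by rw [sub_mul, one_mul, ← hc, sub_self]
    exact sub_eq_zero.mp (mem_nonZeroDivisors_iff_right.mp hf _ h0)
  have hCtop : C = ⊤ := (Ideal.eq_top_iff_one C).mpr (hc1 ▸ hcC)
  have hex : ∃ c, (∃ a ∈ I, ∃ b ∈ J, a * b = c * f) ∧ c ∉ p := by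
    by_contra hcon
    push_neg at hcon
    have hle : C ≤ p := Ideal.span_le.mpr fun c hc => hcon c hc
    exact hp.ne_top (top_le_iff.mp (hCtop ▸ hle))
  obtain ⟨c, ⟨a, ha, b, hb, hab⟩, hcp⟩ := hex
  refine ⟨a, ha, b, hb, c, hcp, hab, ?_⟩
  intro a' ha'
  have ha'b : a' * b ∈ Ideal.span {f} := hIJ ▸ Ideal.mul_mem_mul ha' hb
  obtain ⟨d, hd⟩ := Ideal.mem_span_singleton'.mp ha'b
  refine ⟨d, ?_⟩
  have h0 : (c * a' - a * d) * f = 0 := by linear_combination (-a') * hab - a * hd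
  exact sub_eq_zero.mp (mem_nonZeroDivisors_iff_right.mp hf _ h0)

theorem aux {X : Scheme.{u}} (𝓘 𝓙 : X.IdealSheafData)
    (h : ∀ x : X, ∃ U : X.affineOpens, x ∈ U.1 ∧
      ∃ f : Γ(X, U.1), f ∈ nonZeroDivisors Γ(X, U.1) ∧ 𝓘.ideal U * 𝓙.ideal U = Ideal.span {f}) :
    BlowUp.IsEffCartierIdeal 𝓘 := by
  intro x
  obtain ⟨U, hxU, f, hf, hIJ⟩ := h x
  obtain ⟨a, ha, b, hb, c, hc, hab, hall⟩ :=
    factor_lemma (𝓘.ideal U) (𝓙.ideal U) f hf hIJ (U.2.primeIdealOf ⟨x, hxU⟩).asIdeal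
  have hxc : x ∈ X.basicOpen c := (notMem_primeIdealOf_iff U.2 hxU c).mp hc
  haveI := U.2.isLocalization_basicOpen c
  let ρ : Γ(X, U.1) →+* Γ(X, X.basicOpen c) := algebraMap Γ(X, U.1) Γ(X, X.basicOpen c)
  have hρ : ρ = (X.presheaf.map (homOfLE (X.basicOpen_le c)).op).hom := rfl
  have hcu : IsUnit (ρ c) :=
    IsLocalization.map_units Γ(X, X.basicOpen c) (⟨c, Submonoid.mem_powers c⟩ : Submonoid.powers c)
  have hρf : ρ f ∈ nonZeroDivisors Γ(X, X.basicOpen c) :=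
    IsLocalization.map_nonZeroDivisors_le (Submonoid.powers c) Γ(X, X.basicOpen c)
      (Submonoid.mem_map_of_mem _ hf)
  refine ⟨X.affineBasicOpen c, hxc, ρ a, ?_, ?_⟩
  · have h1 : ρ a * ρ b ∈ nonZeroDivisors Γ(X, X.basicOpen c) := by
      rw [← map_mul, hab, map_mul]
      exact Submonoid.mul_mem _ hcu.mem_nonZeroDivisors hρf
    show ρ a ∈ nonZeroDivisors Γ(X, X.basicOpen c)
    rw [mem_nonZeroDivisors_iff_right]
    intro y hy
    refine mem_nonZeroDivisors_iff_right.mp h1 y ?_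
    rw [← mul_assoc, hy, zero_mul]
  · rw [← 𝓘.map_ideal_basicOpen U c, ← hρ]
    show Ideal.map ρ (𝓘.ideal U) = (Ideal.span {ρ a} : Ideal Γ(X, X.basicOpen c))
    refine le_antisymm (Ideal.map_le_iff_le_comap.mpr ?_) ?_
    · intro a' ha'
      obtain ⟨d, hd⟩ := hall a' ha'
      have h1 : ρ c * ρ a' = ρ a * ρ d := by rw [← map_mul, ← map_mul, hd]
      obtain ⟨u, hu⟩ := hcu
      show ρ a' ∈ Ideal.span {ρ a}
      refine Ideal.mem_span_singleton'.mpr ⟨↑u⁻¹ * ρ d, ?_⟩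
      have h2 : (↑u⁻¹ * ρ d) * ρ a = ↑u⁻¹ * (ρ c * ρ a') := by rw [h1]; ring
      rw [h2, ← hu, Units.inv_mul_cancel_left]
    · refine Ideal.span_le.mpr (Set.singleton_subset_iff.mpr ?_)
      exact Ideal.mem_map_of_mem ρ ha

/-- Let 𝓘, 𝓙 be quasi-coherent ideal sheaves on a scheme X (closed subschemes Z, Y). If the product 𝓘𝓙
is the ideal sheaf of an effective Cartier divisor D, then 𝓘 and 𝓙 are ideal sheaves of effective
Cartier divisors (and D is their sum, D having ideal 𝓘𝓙 by assumption). -/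
theorem result {X : Scheme.{u}} (𝓘 𝓙 : X.IdealSheafData)
    (h : BlowUp.IsEffCartierIdeal (𝓘 * 𝓙)) : BlowUp.IsEffCartierIdeal 𝓘 ∧ BlowUp.IsEffCartierIdeal 𝓙 := by
  refine ⟨aux 𝓘 𝓙 (fun x => h x), aux 𝓙 𝓘 (fun x => ?_)⟩
  obtain ⟨U, hxU, f, hf, hIJ⟩ := h x
  exact ⟨U, hxU, f, hf, (mul_comm _ _).trans hIJ⟩

end Groth.Agent.S8852
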