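import Groth.Statements.S12447
import Groth.Agent.Lib.CatSp5_helper8
import Groth.Agent.Lib.CatSp3_helper8
import Groth.Agent.Lib.CatSp2_helper8
import Groth.Agent.S7577

set_option autoImplicit false
universe u
open CategoryTheory AlgebraicGeometry
open Props

namespace Groth.Agent.S12447

/-- Let S be a locally Noetherian scheme. Then the underlying topological space of S is catenary if and
only if locally in the Zariski topology there is a dimension function, i.e. every point has an open
neighbourhood U carrying a function δ : U → ℤ which strictly decreases along nontrivial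
specializations and drops by exactly one along immediate specializations. -/
theorem result (S : Scheme.{u}) [IsLocallyNoetherian S] :
    PtTop.IsCatenarySpace S ↔
      ∀ s : S, ∃ U : S.Opens, s ∈ U ∧ ∃ δ : U → ℤ, PtTop.IsDimensionFunction δ := by
  constructor
  · intro h s
    have hcat := (Groth.Agent.CatSp3H8.isCatenarySpace_iff_stalk S).mp h
    exact Groth.Agent.CatSp5H8.exists_dimFun S hcat s
  · intro h
    rw [Groth.Agent.CatSp1H8.isCatenarySpace_iff_cat]
    apply Groth.Agent.CatSp2H8.cat_of_open_cover
    intro x
    obtain ⟨U, hxU, δ, hδ⟩ := h x
    haveI : QuasiSober ↥U := U.2.isOpenEmbedding_subtypeVal.quasiSober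
    have := (Groth.Agent.S7577.result δ hδ).1
    exact ⟨(U : Set S), U.2, hxU, (Groth.Agent.CatSp1H8.isCatenarySpace_iff_cat _).mp this⟩

end Groth.Agent.S12447
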