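import Groth.Statements.S9126
import Groth.Agent.Lib.Catenary_helper4

set_option autoImplicit false
universe u
open CAlg

namespace Groth.Agent.S9126

open Groth.Agent.Lib.Catenary_helper4 in
/-- A surjective image of a catenary ring is catenary. -/
theorem isCatenary_of_surjective {R S : Type u} [CommRing R] [CommRing S] (f : R →+* S)
    (hf : Function.Surjective f) (hR : CAlg.IsCatenary R) : CAlg.IsCatenary S := by
  rw [isCatenary_iff_cat] at hR ⊢
  let e : PrimeSpectrum S ↪o PrimeSpectrum R :=
    { toFun := PrimeSpectrum.comap f
      inj' := PrimeSpectrum.comap_injective_of_surjective f hf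
      map_rel_iff' := by
        intro p q
        change Ideal.comap f p.asIdeal ≤ Ideal.comap f q.asIdeal ↔ p.asIdeal ≤ q.asIdeal
        exact Ideal.comap_le_comap_iff_of_surjective f hf _ _ }
  refine cat_of_orderEmbedding e ?_ hR
  have hr : Set.range e = PrimeSpectrum.zeroLocus (RingHom.ker f : Set R) :=
    range_comap_of_surjective _ f hf
  rw [hr]
  refine ⟨fun x hx y _ z hz => ?_⟩
  exact fun a ha => hz.1 (hx ha)

/-- An algebra essentially of finite type over a Noetherian universally catenary ring is universally
catenary. -/
theorem result (A : Type u) [CommRing A] (B : Type u) [CommRing B]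
    [Algebra A B] [Algebra.EssFiniteType A B]
    (hA : CAlg.IsUniversallyCatenary A) : CAlg.IsUniversallyCatenary B := by
  obtain ⟨hAN, hA⟩ := hA
  let B₀ := Algebra.EssFiniteType.subalgebra A B
  let M := Algebra.EssFiniteType.submonoid A B
  have hft : Algebra.FiniteType A B₀ := inferInstance
  have hloc : IsLocalization M B := inferInstance
  have : IsNoetherianRing B₀ := Algebra.FiniteType.isNoetherianRing A B₀
  refine ⟨IsLocalization.isNoetherianRing M B inferInstance, ?_⟩
  intro C _ _ hC
  obtain ⟨n, f, hf⟩ := Algebra.FiniteType.iff_quotient_mvPolynomial''.mp hC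
  have h1 : CAlg.IsCatenary (MvPolynomial (Fin n) B₀) :=
    hA _ (Algebra.FiniteType.trans hft inferInstance)
  have h2 : CAlg.IsCatenary (MvPolynomial (Fin n) B) := by
    let _ := MvPolynomial.algebraMvPolynomial (σ := Fin n) (R := B₀) (S := B)
    exact Groth.Agent.Lib.Catenary_helper4.isCatenary_of_isLocalization
      (MvPolynomial (Fin n) B₀) (M.map MvPolynomial.C) _ h1
  exact isCatenary_of_surjective f.toRingHom hf h2

end Groth.Agent.S9126
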