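import Groth.Statements.S12459
import Groth.Agent.Lib.CatSp4_helper8
import Groth.Agent.S9126

set_option autoImplicit false
universe u
open CategoryTheory AlgebraicGeometry
open Props

namespace Groth.Agent.S12459

/-- For a locally Noetherian scheme S, the scheme S is universally catenary — every scheme X locally of
finite type over S has catenary underlying topological space — if and only if all local rings
O_{S,s} are universally catenary rings. (Schemes X over S are taken in the universe of S.) -/
theorem result (S : Scheme.{u}) [IsLocallyNoetherian S] :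
    (∀ (X : Scheme.{u}) (f : X ⟶ S), LocallyOfFiniteType f → PtTop.IsCatenarySpace X) ↔
      ∀ s : S, CAlg.IsUniversallyCatenary (S.presheaf.stalk s) := by
  constructor
  · intro h s
    refine ⟨inferInstance, fun B _ _ hB => ?_⟩
    obtain ⟨_, ⟨U, hU, rfl⟩, hsU, -⟩ :=
      S.isBasis_affineOpens.exists_subset_of_mem_open (Set.mem_univ s) isOpen_univ
    letI algAR : Algebra Γ(S, U) (S.presheaf.stalk s) :=
      TopCat.Presheaf.algebra_section_stalk S.presheaf (⟨s, hsU⟩ : U)
    haveI : IsLocalization (hU.primeIdealOf ⟨s, hsU⟩).asIdeal.primeCompl (S.presheaf.stalk s) :=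
      hU.isLocalization_stalk ⟨s, hsU⟩
    letI algAB : Algebra Γ(S, U) B :=
      ((algebraMap (S.presheaf.stalk s) B).comp
        (algebraMap Γ(S, U) (S.presheaf.stalk s))).toAlgebra
    haveI : IsScalarTower Γ(S, U) (S.presheaf.stalk s) B :=
      IsScalarTower.of_algebraMap_eq (fun _ => rfl)
    haveI : Algebra.EssFiniteType Γ(S, U) (S.presheaf.stalk s) :=
      Algebra.EssFiniteType.of_isLocalization _ (hU.primeIdealOf ⟨s, hsU⟩).asIdeal.primeCompl
    haveI : Algebra.FiniteType (S.presheaf.stalk s) B := hB
    haveI : Algebra.EssFiniteType Γ(S, U) B :=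
      Algebra.EssFiniteType.comp Γ(S, U) (S.presheaf.stalk s) B
    have hB₀ : CAlg.IsCatenary (Algebra.EssFiniteType.subalgebra Γ(S, U) B) := by
      haveI : LocallyOfFiniteType (Spec.map (CommRingCat.ofHom
          (algebraMap Γ(S, U) (Algebra.EssFiniteType.subalgebra Γ(S, U) B)))) := by
        rw [HasRingHomProperty.Spec_iff (P := @LocallyOfFiniteType)]
        exact RingHom.finiteType_algebraMap.mpr inferInstance
      have := h _ (Spec.map (CommRingCat.ofHom
          (algebraMap Γ(S, U) (Algebra.EssFiniteType.subalgebra Γ(S, U) B))) ≫ hU.fromSpec)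
        inferInstance
      exact (Groth.Agent.CatSp4H8.isCatenarySpace_primeSpectrum_iff _).mp this
    exact Groth.Agent.Lib.Catenary_helper4.isCatenary_of_isLocalization
      (Algebra.EssFiniteType.subalgebra Γ(S, U) B)
      (Algebra.EssFiniteType.submonoid Γ(S, U) B) B hB₀
  · intro h X f hf
    haveI := hf
    rw [Groth.Agent.CatSp3H8.isCatenarySpace_iff_stalk]
    intro x
    algebraize [(f.stalkMap x).hom]
    have h2 : Algebra.EssFiniteType (S.presheaf.stalk (f x)) (X.presheaf.stalk x) := by
      rw [← RingHom.essFiniteType_algebraMap, RingHom.algebraMap_toAlgebra]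
      exact LocallyOfFiniteType.stalkMap f x
    have hUC := Groth.Agent.S9126.result (S.presheaf.stalk (f x)) (X.presheaf.stalk x) (h (f x))
    exact hUC.2 (X.presheaf.stalk x) inferInstance

end Groth.Agent.S12459
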