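import Groth.Statements.S7404
import Mathlib
import Groth.Agent.Lib.UnivHomeo1_helper6
-- import your own Groth.Agent.* helpers here

set_option autoImplicit false
universe u
open CategoryTheory AlgebraicGeometry
open Mor

namespace Groth.Agent.S7404

/-- Let `A → B` be a ring map and `B' ⊆ B` an `A`-subalgebra, with `f : Spec B → Spec A` and `f' : Spec
B' → Spec A` the induced morphisms. Each of the following properties passes from `f` to `f'`: being
a universal homeomorphism; being a universal homeomorphism with trivial residue field extensions;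
being universally closed; being both universally closed and universally injective. -/
theorem result {A B : Type u} [CommRing A] [CommRing B] [Algebra A B]
    (B' : Subalgebra A B) :
    (FlatMor.IsUnivHomeo (Spec.map (CommRingCat.ofHom (algebraMap A B))) →
      FlatMor.IsUnivHomeo (Spec.map (CommRingCat.ofHom (algebraMap A B')))) ∧
    ((FlatMor.IsUnivHomeo (Spec.map (CommRingCat.ofHom (algebraMap A B))) ∧
      ∀ x : Spec (CommRingCat.of B),
        Function.Surjective ((Spec.map (CommRingCat.ofHom (algebraMap A B))).residueFieldMap x)) →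
      FlatMor.IsUnivHomeo (Spec.map (CommRingCat.ofHom (algebraMap A B'))) ∧
      ∀ x : Spec (CommRingCat.of B'),
        Function.Surjective ((Spec.map (CommRingCat.ofHom (algebraMap A B'))).residueFieldMap x)) ∧
    (UniversallyClosed (Spec.map (CommRingCat.ofHom (algebraMap A B))) →
      UniversallyClosed (Spec.map (CommRingCat.ofHom (algebraMap A B')))) ∧
    (UniversallyClosed (Spec.map (CommRingCat.ofHom (algebraMap A B))) →
      UniversallyInjective (Spec.map (CommRingCat.ofHom (algebraMap A B))) →
      UniversallyClosed (Spec.map (CommRingCat.ofHom (algebraMap A B'))) ∧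
      UniversallyInjective (Spec.map (CommRingCat.ofHom (algebraMap A B')))) := by

  have hfac : CommRingCat.ofHom (algebraMap A B) =
      CommRingCat.ofHom (algebraMap A B') ≫ CommRingCat.ofHom (algebraMap B' B) := by
    ext a; rfl
  have hfacS : Spec.map (CommRingCat.ofHom (algebraMap A B)) =
      Spec.map (CommRingCat.ofHom (algebraMap B' B)) ≫
        Spec.map (CommRingCat.ofHom (algebraMap A B')) := by
    rw [hfac, Spec.map_comp]
  have hinj : Function.Injective (algebraMap B' B) := Subtype.val_injective
  -- universally closed passes to the subalgebra, and Spec B → Spec B' is surjective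
  have K1 : UniversallyClosed (Spec.map (CommRingCat.ofHom (algebraMap A B))) →
      UniversallyClosed (Spec.map (CommRingCat.ofHom (algebraMap A B'))) ∧
        Surjective (Spec.map (CommRingCat.ofHom (algebraMap B' B))) := by
    intro h
    rw [Groth.Agent.Lib.UnivHomeo.universallyClosed_SpecMap_iff] at h
    have hint : (algebraMap A B).IsIntegral := h
    constructor
    · rw [Groth.Agent.Lib.UnivHomeo.universallyClosed_SpecMap_iff]
      intro b
      obtain ⟨p, hp, hp0⟩ := hint (b : B)
      refine ⟨p, hp, ?_⟩
      apply hinj
      rw [Polynomial.hom_eval₂, map_zero]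
      exact hp0
    · have hint2 : (algebraMap B' B).IsIntegral := by
        intro b
        obtain ⟨p, hp, hp0⟩ := hint b
        refine ⟨p.map (algebraMap A B'), hp.map _, ?_⟩
        rw [Polynomial.eval₂_map]
        exact hp0
      exact ⟨hint2.comap_surjective hinj⟩
  have K2 : UniversallyClosed (Spec.map (CommRingCat.ofHom (algebraMap A B))) →
      UniversallyInjective (Spec.map (CommRingCat.ofHom (algebraMap A B))) →
      UniversallyInjective (Spec.map (CommRingCat.ofHom (algebraMap A B'))) := by
    intro h1 h2
    haveI := (K1 h1).2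
    rw [hfacS] at h2
    haveI := h2
    exact Groth.Agent.Lib.UnivHomeo.universallyInjective_of_comp_of_surjective
      (Spec.map (CommRingCat.ofHom (algebraMap B' B))) _
  have K3 : FlatMor.IsUnivHomeo (Spec.map (CommRingCat.ofHom (algebraMap A B))) →
      FlatMor.IsUnivHomeo (Spec.map (CommRingCat.ofHom (algebraMap A B'))) := by
    intro h
    rw [Groth.Agent.Lib.UnivHomeo.isUnivHomeo_iff] at h ⊢
    obtain ⟨h1, h2, h3⟩ := h
    refine ⟨(K1 h1).1, K2 h1 h2, ?_⟩
    rw [hfacS] at h3
    haveI := h3
    exact Surjective.of_comp (Spec.map (CommRingCat.ofHom (algebraMap B' B))) _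
  refine ⟨K3, ?_, fun h => (K1 h).1, fun h1 h2 => ⟨(K1 h1).1, K2 h1 h2⟩⟩
  rintro ⟨h, hres⟩
  refine ⟨K3 h, ?_⟩
  have h1 := ((Groth.Agent.Lib.UnivHomeo.isUnivHomeo_iff _).mp h).1
  haveI := (K1 h1).2
  refine Groth.Agent.Lib.UnivHomeo.residueFieldMap_surjective_of_comp
    (Spec.map (CommRingCat.ofHom (algebraMap B' B))) _ ?_
  intro x
  have := hres x
  rw [Scheme.Hom.residueFieldMap_congr hfacS] at this
  exact this

end Groth.Agent.S7404
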