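import Groth.Statements.S7402
import Mathlib
import Groth.Agent.Lib.UnivHomeo2_helper6
-- import your own Groth.Agent.* helpers here

set_option autoImplicit false
universe u
open CategoryTheory AlgebraicGeometry
open Polynomial
open Mor

namespace Groth.Agent.S7402

/-- Let `A` be a ring and `x, y ∈ A` with `x^3 = y^2`. Then `A → B = A[t]/(t^2 - x, t^3 - y)` induces a
universal homeomorphism on spectra and isomorphisms on residue fields. -/
theorem result (A : Type u) [CommRing A] (x y : A) (h : x ^ 3 = y ^ 2) :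
    FlatMor.IsUnivHomeo (Spec.map (CommRingCat.ofHom (algebraMap A
      (A[X] ⧸ Ideal.span ({X ^ 2 - C x, X ^ 3 - C y} : Set A[X]))))) ∧
    ∀ q : Spec (CommRingCat.of (A[X] ⧸ Ideal.span ({X ^ 2 - C x, X ^ 3 - C y} : Set A[X]))),
      Function.Surjective ((Spec.map (CommRingCat.ofHom (algebraMap A
        (A[X] ⧸ Ideal.span ({X ^ 2 - C x, X ^ 3 - C y} : Set A[X]))))).residueFieldMap q) := by

  have hmem2 : (X ^ 2 - C x : A[X]) ∈ Ideal.span ({X ^ 2 - C x, X ^ 3 - C y} : Set A[X]) :=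
    Ideal.subset_span (by simp)
  have hmem3 : (X ^ 3 - C y : A[X]) ∈ Ideal.span ({X ^ 2 - C x, X ^ 3 - C y} : Set A[X]) :=
    Ideal.subset_span (by simp)
  have ht2 : (Ideal.Quotient.mk (Ideal.span ({X ^ 2 - C x, X ^ 3 - C y} : Set A[X])) X) ^ 2 =
      algebraMap A (A[X] ⧸ Ideal.span ({X ^ 2 - C x, X ^ 3 - C y} : Set A[X])) x := by
    have := Ideal.Quotient.eq_zero_iff_mem.mpr hmem2
    rw [map_sub, map_pow, sub_eq_zero] at this
    exact this
  have ht3 : (Ideal.Quotient.mk (Ideal.span ({X ^ 2 - C x, X ^ 3 - C y} : Set A[X])) X) ^ 3 =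
      algebraMap A (A[X] ⧸ Ideal.span ({X ^ 2 - C x, X ^ 3 - C y} : Set A[X])) y := by
    have := Ideal.Quotient.eq_zero_iff_mem.mpr hmem3
    rw [map_sub, map_pow, sub_eq_zero] at this
    exact this
  have hint : (CommRingCat.ofHom (algebraMap A
      (A[X] ⧸ Ideal.span ({X ^ 2 - C x, X ^ 3 - C y} : Set A[X])))).hom.IsIntegral :=
    Groth.Agent.Lib.UnivHomeo.isIntegral_algebraMap_quotient _ (X ^ 2 - C x)
      (Polynomial.monic_X_pow_sub_C x (by norm_num)) hmem2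
  have huniq : ∀ (K : Type u) [Field K]
      (ψ₁ ψ₂ : (A[X] ⧸ Ideal.span ({X ^ 2 - C x, X ^ 3 - C y} : Set A[X])) →+* K),
      ψ₁.comp (algebraMap A _) = ψ₂.comp (algebraMap A _) → ψ₁ = ψ₂ := by
    intro K _ ψ₁ ψ₂ h12
    apply Groth.Agent.Lib.UnivHomeo.quotient_ringHom_ext _ ψ₁ ψ₂ h12
    have hx12 : ψ₁ (algebraMap A _ x) = ψ₂ (algebraMap A _ x) := congr($h12 x)
    have hy12 : ψ₁ (algebraMap A _ y) = ψ₂ (algebraMap A _ y) := congr($h12 y)
    have key : ∀ ψ : (A[X] ⧸ Ideal.span ({X ^ 2 - C x, X ^ 3 - C y} : Set A[X])) →+* K,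
        ψ (algebraMap A _ x) ≠ 0 →
        ψ (Ideal.Quotient.mk _ X) = ψ (algebraMap A _ y) / ψ (algebraMap A _ x) := by
      intro ψ hne
      rw [eq_div_iff hne, ← ht2, ← ht3, ← map_mul]
      congr 1
      ring
    have key0 : ∀ ψ : (A[X] ⧸ Ideal.span ({X ^ 2 - C x, X ^ 3 - C y} : Set A[X])) →+* K,
        ψ (algebraMap A _ x) = 0 → ψ (Ideal.Quotient.mk _ X) = 0 := by
      intro ψ h0
      rw [← ht2, map_pow] at h0
      exact (pow_eq_zero_iff two_ne_zero).mp h0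
    by_cases h0 : ψ₁ (algebraMap A _ x) = 0
    · rw [key0 ψ₁ h0, key0 ψ₂ (hx12 ▸ h0)]
    · rw [key ψ₁ h0, key ψ₂ (hx12 ▸ h0), hx12, hy12]
  have hex : ∀ (K : Type u) [Field K] (χ : A →+* K),
      ∃ ψ : (A[X] ⧸ Ideal.span ({X ^ 2 - C x, X ^ 3 - C y} : Set A[X])) →+* K,
        ψ.comp (algebraMap A _) = χ := by
    intro K _ χ
    have hχ : χ x ^ 3 = χ y ^ 2 := by rw [← map_pow, ← map_pow, h]
    obtain ⟨τ, hτ2, hτ3⟩ : ∃ τ : K, τ ^ 2 = χ x ∧ τ ^ 3 = χ y := by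
      by_cases h0 : χ x = 0
      · have hy0 : χ y = 0 := by
          rw [h0] at hχ
          have h2 : χ y ^ 2 = 0 := by rw [← hχ]; ring
          exact (pow_eq_zero_iff two_ne_zero).mp h2
        exact ⟨0, by rw [h0]; ring, by rw [hy0]; ring⟩
      · refine ⟨χ y / χ x, ?_, ?_⟩
        · rw [div_pow, ← hχ]
          field_simp
        · rw [div_pow, div_eq_iff (pow_ne_zero 3 h0), hχ]
          ring
    obtain ⟨ψ, hψ, -⟩ := Groth.Agent.Lib.UnivHomeo.exists_quotient_ringHom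
      ({X ^ 2 - C x, X ^ 3 - C y} : Set A[X]) χ τ (by
        intro g hg
        rcases hg with rfl | rfl
        · simp [hτ2]
        · simp [hτ3])
    exact ⟨ψ, hψ⟩
  refine ⟨Groth.Agent.Lib.UnivHomeo.isUnivHomeo_SpecMap_of _ hint huniq ?_,
    Groth.Agent.Lib.UnivHomeo.residueFieldMap_surjective_SpecMap_of _ huniq hex⟩
  intro K _ χ
  obtain ⟨ψ, hψ⟩ := hex K χ
  exact ⟨K, inferInstance, RingHom.id K, ψ, by rw [RingHom.id_comp]; exact hψ⟩

end Groth.Agent.S7402
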