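import Groth.Statements.S7403
import Mathlib
import Groth.Agent.Lib.UnivHomeo2_helper6
-- import your own Groth.Agent.* helpers here

set_option autoImplicit false
universe u
open CategoryTheory AlgebraicGeometry
open Polynomial
open Mor

namespace Groth.Agent.S7403

/-- Let `A` be a ring, `p` a prime number and `x, y ∈ A` with `p^p x = y^p`. Then `A → B = A[t]/(t^p -
x, p t - y)` induces a universal homeomorphism on spectra. -/
theorem result (A : Type u) [CommRing A] (p : ℕ) (hp : p.Prime) (x y : A)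
    (h : (p : A) ^ p * x = y ^ p) :
    FlatMor.IsUnivHomeo (Spec.map (CommRingCat.ofHom (algebraMap A
      (A[X] ⧸ Ideal.span ({X ^ p - C x, C (p : A) * X - C y} : Set A[X]))))) := by

  haveI : Fact p.Prime := ⟨hp⟩
  have hmemp : (X ^ p - C x : A[X]) ∈
      Ideal.span ({X ^ p - C x, C (p : A) * X - C y} : Set A[X]) :=
    Ideal.subset_span (by simp)
  have hmem1 : (C (p : A) * X - C y : A[X]) ∈
      Ideal.span ({X ^ p - C x, C (p : A) * X - C y} : Set A[X]) :=
    Ideal.subset_span (by simp)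
  have htp : (Ideal.Quotient.mk (Ideal.span ({X ^ p - C x, C (p : A) * X - C y} : Set A[X])) X) ^ p =
      algebraMap A (A[X] ⧸ Ideal.span ({X ^ p - C x, C (p : A) * X - C y} : Set A[X])) x := by
    have := Ideal.Quotient.eq_zero_iff_mem.mpr hmemp
    rw [map_sub, map_pow, sub_eq_zero] at this
    exact this
  have ht1 : algebraMap A (A[X] ⧸ Ideal.span ({X ^ p - C x, C (p : A) * X - C y} : Set A[X])) (p : A) *
      (Ideal.Quotient.mk (Ideal.span ({X ^ p - C x, C (p : A) * X - C y} : Set A[X])) X) =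
      algebraMap A (A[X] ⧸ Ideal.span ({X ^ p - C x, C (p : A) * X - C y} : Set A[X])) y := by
    have := Ideal.Quotient.eq_zero_iff_mem.mpr hmem1
    rw [map_sub, map_mul, sub_eq_zero] at this
    exact this
  have hint : (CommRingCat.ofHom (algebraMap A
      (A[X] ⧸ Ideal.span ({X ^ p - C x, C (p : A) * X - C y} : Set A[X])))).hom.IsIntegral :=
    Groth.Agent.Lib.UnivHomeo.isIntegral_algebraMap_quotient _ (X ^ p - C x)
      (Polynomial.monic_X_pow_sub_C x hp.ne_zero) hmemp
  refine Groth.Agent.Lib.UnivHomeo.isUnivHomeo_SpecMap_of _ hint ?_ ?_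
  · intro K _ ψ₁ ψ₂ h12
    apply Groth.Agent.Lib.UnivHomeo.quotient_ringHom_ext _ ψ₁ ψ₂ h12
    have hx12 : ψ₁ (algebraMap A _ x) = ψ₂ (algebraMap A _ x) := congr($h12 x)
    have hy12 : ψ₁ (algebraMap A _ y) = ψ₂ (algebraMap A _ y) := congr($h12 y)
    have hp12 : ∀ ψ : (A[X] ⧸ Ideal.span ({X ^ p - C x, C (p : A) * X - C y} : Set A[X])) →+* K,
        ψ (algebraMap A _ (p : A)) = (p : K) := by
      intro ψ
      have h1 : algebraMap A (A[X] ⧸ Ideal.span ({X ^ p - C x, C (p : A) * X - C y} : Set A[X]))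
          (p : A) = ((p : ℕ) : A[X] ⧸ Ideal.span ({X ^ p - C x, C (p : A) * X - C y} : Set A[X])) :=
        map_natCast _ p
      rw [h1]
      exact map_natCast ψ p
    by_cases h0 : (p : K) = 0
    · haveI : CharP K p := (CharP.charP_iff_prime_eq_zero hp).mpr h0
      apply frobenius_inj K p
      change ψ₁ _ ^ p = ψ₂ _ ^ p
      rw [← map_pow ψ₁, ← map_pow ψ₂, htp, hx12]
    · have key : ∀ ψ : (A[X] ⧸ Ideal.span ({X ^ p - C x, C (p : A) * X - C y} : Set A[X])) →+* K,
          ψ (Ideal.Quotient.mk _ X) = ψ (algebraMap A _ y) / (p : K) := by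
        intro ψ
        rw [eq_div_iff h0, ← ht1, map_mul, hp12, mul_comm]
      rw [key ψ₁, key ψ₂, hy12]
  · intro K _ χ
    have hχ : ((p : AlgebraicClosure K)) ^ p * algebraMap K (AlgebraicClosure K) (χ x) =
        algebraMap K (AlgebraicClosure K) (χ y) ^ p := by
      have h2 := congrArg ((algebraMap K (AlgebraicClosure K)).comp χ) h
      simpa [map_mul, map_pow, map_natCast] using h2
    obtain ⟨τ, hτp, hτ1⟩ : ∃ τ : AlgebraicClosure K,
        τ ^ p = algebraMap K (AlgebraicClosure K) (χ x) ∧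
          (p : AlgebraicClosure K) * τ = algebraMap K (AlgebraicClosure K) (χ y) := by
      by_cases h0 : (p : AlgebraicClosure K) = 0
      · have hy0 : algebraMap K (AlgebraicClosure K) (χ y) = 0 := by
          rw [h0, zero_pow hp.ne_zero, zero_mul] at hχ
          exact (pow_eq_zero_iff hp.ne_zero).mp hχ.symm
        obtain ⟨τ, hτ⟩ := IsAlgClosed.exists_pow_nat_eq
          (algebraMap K (AlgebraicClosure K) (χ x)) hp.pos
        exact ⟨τ, hτ, by rw [h0, zero_mul, hy0]⟩
      · refine ⟨algebraMap K (AlgebraicClosure K) (χ y) / (p : AlgebraicClosure K), ?_, ?_⟩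
        · rw [div_pow, ← hχ, mul_comm, mul_div_assoc, div_self (pow_ne_zero p h0), mul_one]
        · rw [mul_div_cancel₀ _ h0]
    obtain ⟨ψ, hψ, -⟩ := Groth.Agent.Lib.UnivHomeo.exists_quotient_ringHom
      ({X ^ p - C x, C (p : A) * X - C y} : Set A[X])
      ((algebraMap K (AlgebraicClosure K)).comp χ) τ (by
        intro g hg
        rcases hg with rfl | rfl
        · simp [hτp]
        · simp [hτ1])
    exact ⟨AlgebraicClosure K, inferInstance, algebraMap K (AlgebraicClosure K), ψ, hψ⟩

end Groth.Agent.S7403
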