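import Groth.Statements.S8926

set_option autoImplicit false
universe u
open InjHull

namespace Groth.Agent.S8926

open TensorProduct in
/-- For an epimorphism `R → S`, every `R`-linear map from `S` to an `S`-module is `S`-linear. -/
lemma linear_of_epi (R S : Type u) [CommRing R] [CommRing S] [Algebra R S] [Algebra.IsEpi R S]
    (E : Type u) [AddCommGroup E] [Module S E] [Module R E] [IsScalarTower R S E]
    (h : S →ₗ[R] E) (s x : S) : h (s * x) = s • h x := by
  let ψ : S ⊗[R] S →ₗ[R] E := TensorProduct.lift
    (LinearMap.mk₂ R (fun a t => a • h (t * x))
      (fun a a' t => by simp only [add_smul])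
      (fun r a t => by simp only [smul_assoc])
      (fun a t t' => by simp only [add_mul, map_add, smul_add])
      (fun r a t => by
        simp only [Algebra.smul_mul_assoc, map_smul]
        rw [smul_comm]))
  have h1 : ψ ((1 : S) ⊗ₜ[R] s) = h (s * x) := by
    simp only [ψ, TensorProduct.lift.tmul, LinearMap.mk₂_apply, one_smul]
  have h2 : ψ (s ⊗ₜ[R] (1 : S)) = s • h x := by
    simp only [ψ, TensorProduct.lift.tmul, LinearMap.mk₂_apply, one_mul]
  rw [← h1, ← h2, (Algebra.isEpi_iff_forall_one_tmul_eq R S).mp inferInstance s]


/-- Suppose R → S is an epimorphism of rings and E is an S-module whose underlying R-module (via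
restriction of scalars) is injective; then E is injective as an S-module as well. -/
theorem result (R S : Type u) [CommRing R] [CommRing S] [Algebra R S] [Algebra.IsEpi R S] (E : Type u) [AddCommGroup E] [Module S E] [Module R E] [IsScalarTower R S E] [Module.Injective R E] : Module.Injective S E := by
  apply Module.Baer.injective
  intro I g
  let ι : I →ₗ[R] S := I.subtype.restrictScalars R
  have hι : Function.Injective ι := Subtype.val_injective
  obtain ⟨h, hh⟩ := Module.Injective.out (R := R) (Q := E) ι hι (g.restrictScalars R)
  refine ⟨{ toFun := h, map_add' := h.map_add, map_smul' := fun s x => ?_ }, fun x mem => ?_⟩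
  · rw [RingHom.id_apply, smul_eq_mul]
    exact linear_of_epi R S E h s x
  · exact hh ⟨x, mem⟩

end Groth.Agent.S8926
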