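import Groth.Statements.S6366
import Mathlib

set_option autoImplicit false
universe u
open CAlg

namespace Groth.Agent.S6366

/-- Let R be a coherent ring, i.e. every finitely generated ideal of R is finitely presented. Then an
R-module is coherent (finitely generated, and every finitely generated submodule is finitely
presented) if and only if it is finitely presented. -/
theorem result (R : Type u) [CommRing R]
    (hR : ∀ I : Ideal R, I.FG → Module.FinitePresentation R I) (M : Type u) [AddCommGroup M] [Module R M] :
    (Module.Finite R M ∧ ∀ N : Submodule R M, N.FG → Module.FinitePresentation R N) ↔ Module.FinitePresentation R M := by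
  classical
  have hext : ∀ {X Y : Type u} [AddCommGroup X] [Module R X] [AddCommGroup Y] [Module R Y]
      (g : X →ₗ[R] Y),
      (∀ N : Submodule R Y, N.FG → Module.FinitePresentation R N) →
      (∀ N : Submodule R X, N ≤ LinearMap.ker g → N.FG → Module.FinitePresentation R N) →
      ∀ N : Submodule R X, N.FG → Module.FinitePresentation R N := by
    intro X Y _ _ _ _ g hY hK N hN
    haveI : Module.Finite R N := Module.Finite.iff_fg.mpr hN
    let l : N →ₗ[R] ↥(N.map g) := g.submoduleMap N
    have hl : Function.Surjective l := LinearMap.submoduleMap_surjective g N
    haveI : Module.FinitePresentation R ↥(N.map g) := hY _ (hN.map g)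
    have hker : (LinearMap.ker l).FG := Module.FinitePresentation.fg_ker l hl
    let K : Submodule R X := (LinearMap.ker l).map N.subtype
    have hKle : K ≤ LinearMap.ker g := by
      rintro x ⟨y, hy, rfl⟩
      have h1 : l y = 0 := hy
      have h2 := congrArg Subtype.val h1
      rw [LinearMap.mem_ker]
      exact h2
    haveI : Module.FinitePresentation R ↥K := hK K hKle (hker.map _)
    haveI : Module.FinitePresentation R ↥(LinearMap.ker l) :=
      Module.FinitePresentation.of_equiv
        (Submodule.equivMapOfInjective N.subtype N.injective_subtype (LinearMap.ker l)).symm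
    exact Module.finitePresentation_of_ker l hl
  have hA : ∀ n : ℕ, ∀ N : Submodule R (Fin n → R), N.FG → Module.FinitePresentation R N := by
    intro n
    induction n with
    | zero =>
      intro N _
      haveI : Subsingleton ↥N := ⟨fun a b => Subtype.ext (Subsingleton.elim _ _)⟩
      exact Module.FinitePresentation.of_subsingleton _
    | succ n ih =>
      apply hext (LinearMap.funLeft R R (Fin.succ : Fin n → Fin (n+1))) ih
      intro N hNle hN
      let h : N →ₗ[R] R := (LinearMap.proj (0 : Fin (n+1))).domRestrict N
      have hinj : Function.Injective h := by
        intro x y hxy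
        apply Subtype.ext
        funext j
        have hx := hNle x.2
        have hy := hNle y.2
        rw [LinearMap.mem_ker] at hx hy
        refine Fin.cases ?_ (fun i => ?_) j
        · exact hxy
        · have h1 := congrFun hx i
          have h2 := congrFun hy i
          exact h1.trans h2.symm
      have hfg : (LinearMap.range h).FG := by
        haveI : Module.Finite R N := Module.Finite.iff_fg.mpr hN
        rw [LinearMap.range_eq_map]
        exact Module.Finite.fg_top.map h
      haveI : Module.FinitePresentation R ↥(LinearMap.range h) := hR _ hfg
      exact Module.FinitePresentation.of_equiv (LinearEquiv.ofInjective h hinj).symm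
  constructor
  · rintro ⟨hfin, hP⟩
    haveI := hP ⊤ Module.Finite.fg_top
    exact Module.FinitePresentation.of_equiv (Submodule.topEquiv : (⊤ : Submodule R M) ≃ₗ[R] M)
  · intro hfp
    refine ⟨inferInstance, ?_⟩
    obtain ⟨n, K, e, hK⟩ := Module.FinitePresentation.exists_fin R M
    let π : (Fin n → R) →ₗ[R] M := e.symm.toLinearMap ∘ₗ K.mkQ
    have hπ : Function.Surjective π := e.symm.surjective.comp K.mkQ_surjective
    have hkerπ : LinearMap.ker π = K := by
      rw [LinearEquiv.ker_comp, Submodule.ker_mkQ]
    intro N hN
    let N' : Submodule R (Fin n → R) := N.comap π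
    have hmap : N'.map π = N := Submodule.map_comap_eq_of_surjective hπ N
    have hKN' : LinearMap.ker π ≤ N' := LinearMap.ker_le_comap π
    have hN' : N'.FG := by
      apply Submodule.fg_of_fg_map_of_fg_inf_ker π
      · rw [hmap]; exact hN
      · rw [inf_eq_right.mpr hKN', hkerπ]; exact hK
    haveI : Module.FinitePresentation R ↥N' := hA n N' hN'
    let l : N' →ₗ[R] N := (π.domRestrict N').codRestrict N (fun x => x.2)
    have hl : Function.Surjective l := by
      rintro ⟨y, hy⟩
      obtain ⟨x, rfl⟩ := hπ y
      exact ⟨⟨x, hy⟩, rfl⟩
    have hkerl : (LinearMap.ker l).FG := by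
      have h1 : LinearMap.ker l = (LinearMap.ker π).comap N'.subtype := by
        rw [LinearMap.ker_codRestrict, LinearMap.ker_domRestrict]
      apply Submodule.fg_of_fg_map_injective N'.subtype N'.injective_subtype
      rw [h1, Submodule.map_comap_subtype, inf_eq_right.mpr hKN', hkerπ]
      exact hK
    exact Module.finitePresentation_of_surjective l hl hkerl

end Groth.Agent.S6366
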