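import Groth.Statements.S4515
import Mathlib

set_option autoImplicit false
universe u
open EGA41

namespace Groth.Agent.S4515

/-- Let A be a ring, J an ideal of A, and M, N two A-modules which are Hausdorff for the J-adic
topology; suppose moreover that N is J-adically complete and M is flat. Let u : N → M be A-linear.
If the induced map N/JN → M/JM is bijective (surjectivity and injectivity written out below), then u
is bijective. -/
theorem result {A : Type u} [CommRing A] (J : Ideal A)
    {M N : Type u} [AddCommGroup M] [Module A M] [AddCommGroup N] [Module A N]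
    [IsHausdorff J M] [IsAdicComplete J N] [Module.Flat A M] (u : N →ₗ[A] M)
    (hsurj : ∀ m : M, ∃ n : N, m - u n ∈ (J • ⊤ : Submodule A M))
    (hinj : ∀ n : N, u n ∈ (J • ⊤ : Submodule A M) → n ∈ (J • ⊤ : Submodule A N)) :
    Function.Bijective u := by
  classical
  have hmapJ : ∀ (k : ℕ) (n : N), n ∈ (J ^ k • ⊤ : Submodule A N) →
      u n ∈ (J ^ k • ⊤ : Submodule A M) := by
    intro k n hn
    refine Submodule.smul_induction_on hn ?_ ?_
    · intro a ha x _
      rw [map_smul]
      exact Submodule.smul_mem_smul ha Submodule.mem_top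
    · intro x y hx hy
      rw [map_add]; exact add_mem hx hy
  have hle : ∀ {a b : ℕ}, a ≤ b → (J ^ b • ⊤ : Submodule A N) ≤ J ^ a • ⊤ := fun h =>
    Submodule.smul_mono_left (Ideal.pow_le_pow_right h)
  constructor
  · rw [injective_iff_map_eq_zero]
    intro n hn
    have hall : ∀ k : ℕ, ∀ n : N, u n = 0 → n ∈ (J ^ k • ⊤ : Submodule A N) := by
      intro k
      induction k with
      | zero => intro n _; simp
      | succ k ih =>
        intro n hn
        have hmem : n ∈ (J ^ k) • Submodule.span A (Set.range (id : N → N)) := by
          simpa using ih n hn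
        obtain ⟨a, ha, hsum⟩ :=
          (Submodule.mem_ideal_smul_span_iff_exists_sum (J ^ k) id n).mp hmem
        have hn_eq : n = ∑ i : a.support, a i • (i : N) := by
          rw [Finset.sum_coe_sort a.support (fun i => a i • i), ← hsum]
          rfl
        have h0 : ∑ i : a.support, a i • u (i : N) = 0 := by
          have := congrArg u hn_eq
          rw [hn, map_sum] at this
          simpa using this.symm
        obtain ⟨κ, b, y, hxy, hab⟩ := Module.Flat.isTrivialRelation_of_sum_smul_eq_zero h0
        have hxy : ∀ i : a.support, u (i : N) = ∑ j, b i j • y j := hxy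
        have hab : ∀ j, ∑ i : a.support, a i * b i j = 0 := hab
        choose n' hn' using fun j => hsurj (y j)
        have hi : ∀ i : a.support,
            (i : N) - ∑ j, b i j • n' j ∈ (J • ⊤ : Submodule A N) := by
          intro i
          apply hinj
          rw [map_sub, map_sum, hxy i, ← Finset.sum_sub_distrib]
          refine Submodule.sum_mem _ fun j _ => ?_
          rw [map_smul, ← smul_sub]
          exact Submodule.smul_mem _ _ (hn' j)
        have hswap : ∑ i : a.support, a i • ∑ j, b i j • n' j =
            ∑ j, (∑ i : a.support, a i * b i j) • n' j := by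
          simp only [Finset.smul_sum, Finset.sum_smul, mul_smul]
          exact Finset.sum_comm
        have hdecomp : n = ∑ i : a.support, a i • ((i : N) - ∑ j, b i j • n' j) +
            ∑ j, (∑ i : a.support, a i * b i j) • n' j := by
          rw [← hswap]
          simp only [smul_sub, Finset.sum_sub_distrib]
          rw [← hn_eq]
          abel
        rw [hdecomp]
        refine add_mem (Submodule.sum_mem _ fun i _ => ?_) ?_
        · rw [pow_succ, Submodule.mul_smul]
          exact Submodule.smul_mem_smul (ha i) (hi i)
        · simp only [hab, zero_smul, Finset.sum_const_zero]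
          exact zero_mem _
    apply IsHausdorff.haus' (I := J) n
    intro k
    rw [SModEq.zero]
    exact hall k n hn
  · intro m
    have hstep0 : ∀ (k : ℕ) (z : M), z ∈ (J ^ k • ⊤ : Submodule A M) →
        ∃ d : N, d ∈ (J ^ k • ⊤ : Submodule A N) ∧
          z - u d ∈ (J ^ (k + 1) • ⊤ : Submodule A M) := by
      intro k z hz
      refine Submodule.smul_induction_on hz ?_ ?_
      · intro a ha m' _
        obtain ⟨n', hn'⟩ := hsurj m'
        refine ⟨a • n', Submodule.smul_mem_smul ha Submodule.mem_top, ?_⟩
        rw [map_smul, ← smul_sub, pow_succ, Submodule.mul_smul]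
        exact Submodule.smul_mem_smul ha hn'
      · rintro x y ⟨d₁, hd₁, h₁⟩ ⟨d₂, hd₂, h₂⟩
        refine ⟨d₁ + d₂, add_mem hd₁ hd₂, ?_⟩
        have : x + y - u (d₁ + d₂) = (x - u d₁) + (y - u d₂) := by rw [map_add]; abel
        rw [this]; exact add_mem h₁ h₂
    have hstep : ∀ (k : ℕ) (n : N), m - u n ∈ (J ^ k • ⊤ : Submodule A M) →
        ∃ n' : N, m - u n' ∈ (J ^ (k + 1) • ⊤ : Submodule A M) ∧
          n' - n ∈ (J ^ k • ⊤ : Submodule A N) := by
      intro k n hn
      obtain ⟨d, hd, hd'⟩ := hstep0 k _ hn
      refine ⟨n + d, ?_, by simpa using hd⟩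
      have : m - u (n + d) = m - u n - u d := by rw [map_add]; abel
      rw [this]; exact hd'
    choose! g hg using hstep
    let f : ℕ → N := fun k => Nat.rec (0 : N) (fun k n => g k n) k
    have hfs : ∀ k, f (k + 1) = g k (f k) := fun k => rfl
    have hP : ∀ k, m - u (f k) ∈ (J ^ k • ⊤ : Submodule A M) := by
      intro k
      induction k with
      | zero => simp
      | succ k ih => rw [hfs]; exact (hg k (f k) ih).1
    have hQ : ∀ k, f (k + 1) - f k ∈ (J ^ k • ⊤ : Submodule A N) := fun k => by
      rw [hfs]; exact (hg k (f k) (hP k)).2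
    have hcauchy : ∀ {a b : ℕ}, a ≤ b → f a ≡ f b [SMOD (J ^ a • ⊤ : Submodule A N)] := by
      intro a b hab
      induction b, hab using Nat.le_induction with
      | base => rfl
      | succ b hab ih =>
        refine ih.trans ?_
        rw [SModEq.sub_mem]
        have := hle hab (hQ b)
        rw [← neg_sub]; exact neg_mem this
    obtain ⟨L, hL⟩ := IsPrecomplete.prec' (I := J) f (fun {a b} hab => hcauchy hab)
    refine ⟨L, ?_⟩
    symm
    rw [← sub_eq_zero]
    apply IsHausdorff.haus' (I := J) (m - u L)
    intro k
    rw [SModEq.zero]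
    have h1 : f k - L ∈ (J ^ k • ⊤ : Submodule A N) := SModEq.sub_mem.mp (hL k)
    have h2 := hmapJ k _ h1
    have : m - u L = (m - u (f k)) + u (f k - L) := by rw [map_sub]; abel
    rw [this]; exact add_mem (hP k) h2

end Groth.Agent.S4515
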