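import Groth.Statements.S4543
import Groth.Agent.S4542
import Groth.Agent.S4515

set_option autoImplicit false
universe u
open EGA41

namespace Groth.Agent.S4543

open IsLocalRing in
/-- Let A be a Noetherian ring, J an ideal of A, B and B' two A-algebras which are Noetherian local
rings, the structure maps being continuous for the J-adic topology on A (JB and JB' lie in the
maximal ideals); suppose B and B' are complete for the J-adic topologies, B is a formally smooth
A-algebra for the J-adic topology on A and the JB-adic topology on B (nilpotent test ideals, test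
algebras killed by a power of J, test maps killing a power of JB), and B' is a flat A-module. Then
every (A/J)-algebra isomorphism u₀ : B/JB ≅ B'/JB' comes from an A-algebra isomorphism u : B ≅ B' by
passing to quotients. (B is taken formally smooth for the JB-adic topology, the topology along which
the argument lifts B → B'/JB' to B'; read with the convention that a local ring carries the adic
topology of its maximal ideal, the published hypothesis would be formal smoothness for the
maximal-ideal topology on B, a weaker condition when JB is strictly smaller than the maximal ideal,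
and that reading is not what the argument establishes.) -/
theorem result {A B B' : Type u} [CommRing A] [IsNoetherianRing A] (J : Ideal A)
    [CommRing B] [IsLocalRing B] [IsNoetherianRing B] [Algebra A B]
    [CommRing B'] [IsLocalRing B'] [IsNoetherianRing B'] [Algebra A B']
    (hB : J.map (algebraMap A B) ≤ maximalIdeal B) (hB' : J.map (algebraMap A B') ≤ maximalIdeal B')
    [IsAdicComplete (J.map (algebraMap A B)) B] [IsAdicComplete (J.map (algebraMap A B')) B']
    (hfs : EGA41.IsFormallySmoothAdic A J B (J.map (algebraMap A B))) [Module.Flat A B']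
    (u₀ : (B ⧸ J.map (algebraMap A B)) ≃ₐ[A ⧸ J] (B' ⧸ J.map (algebraMap A B'))) :
    ∃ u : B ≃ₐ[A] B', ∀ b : B,
      Ideal.Quotient.mk (J.map (algebraMap A B')) (u b) = u₀ (Ideal.Quotient.mk (J.map (algebraMap A B)) b) := by
  classical
  have h1 : ∃ k : ℕ, (J ^ k).map (algebraMap A B') ≤ J.map (algebraMap A B') :=
    ⟨1, by rw [pow_one]⟩
  have h2 : ∃ t : ℕ, (J.map (algebraMap A B')) ^ t ≤ J.map (algebraMap A B') :=
    ⟨1, by rw [pow_one]⟩
  have : IsHausdorff ((J.map (algebraMap A B')).map
      (Ideal.Quotient.mk (J.map (algebraMap A B')))) (B' ⧸ J.map (algebraMap A B')) := by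
    rw [Ideal.map_quotient_self]
    infer_instance
  let u : B →ₐ[A] B' ⧸ J.map (algebraMap A B') :=
    (u₀.toAlgHom.restrictScalars A).comp (Ideal.Quotient.mkₐ A _)
  have hu_apply : ∀ b, u b = u₀ (Ideal.Quotient.mk _ b) := fun b => rfl
  have hu : ∃ k : ℕ, ((J.map (algebraMap A B)) ^ k).map u.toRingHom ≤
      (J.map (algebraMap A B')).map (Ideal.Quotient.mk (J.map (algebraMap A B'))) := by
    refine ⟨1, ?_⟩
    rw [pow_one, Ideal.map_le_iff_le_comap]
    intro x hx
    rw [Ideal.mem_comap]
    have h0 : u x = 0 := by
      rw [hu_apply, Ideal.Quotient.eq_zero_iff_mem.mpr hx, map_zero]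
    show u x ∈ _
    rw [h0]
    exact zero_mem _
  obtain ⟨v, -, hv⟩ := Groth.Agent.S4542.result J (J.map (algebraMap A B))
    (J.map (algebraMap A B')) hfs h1 (J.map (algebraMap A B')) h2 u hu
  have hv' : ∀ b, Ideal.Quotient.mk (J.map (algebraMap A B')) (v b) =
      u₀ (Ideal.Quotient.mk _ b) := fun b => AlgHom.congr_fun hv b
  have : IsHausdorff J B' :=
    (IsHausdorff.map_algebraMap_iff (I := J) (S := B') (M := B')).mp inferInstance
  have : IsAdicComplete J B :=
    (IsAdicComplete.map_algebraMap_iff (I := J) (S := B) (M := B)).mp inferInstance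
  have hsmulB' : ∀ x : B', x ∈ (J • ⊤ : Submodule A B') ↔ x ∈ J.map (algebraMap A B') := by
    intro x
    rw [Ideal.smul_top_eq_map]
    rfl
  have hsmulB : ∀ x : B, x ∈ (J • ⊤ : Submodule A B) ↔ x ∈ J.map (algebraMap A B) := by
    intro x
    rw [Ideal.smul_top_eq_map]
    rfl
  have hbij : Function.Bijective v.toLinearMap := by
    apply Groth.Agent.S4515.result J v.toLinearMap
    · intro m
      obtain ⟨y, hy⟩ := u₀.surjective (Ideal.Quotient.mk _ m)
      obtain ⟨n, rfl⟩ := Ideal.Quotient.mk_surjective y
      refine ⟨n, ?_⟩
      rw [hsmulB', ← Ideal.Quotient.eq_zero_iff_mem, map_sub]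
      show _ - Ideal.Quotient.mk _ (v n) = 0
      rw [hv', hy, sub_self]
    · intro n hn
      rw [hsmulB'] at hn
      rw [hsmulB]
      have h3 : Ideal.Quotient.mk (J.map (algebraMap A B')) (v n) = 0 :=
        Ideal.Quotient.eq_zero_iff_mem.mpr hn
      rw [hv'] at h3
      have h0 : Ideal.Quotient.mk (J.map (algebraMap A B)) n = 0 := by
        apply u₀.injective
        rw [h3, map_zero]
      exact Ideal.Quotient.eq_zero_iff_mem.mp h0
  exact ⟨AlgEquiv.ofBijective v hbij, fun b => hv' b⟩

end Groth.Agent.S4543
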