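import Groth.Statements.S1232
import Mathlib
import Groth.Agent.Lib.WeakAssLoc_helper4

set_option autoImplicit false
universe u
open FlatMor

namespace Groth.Agent.S1232

section
open TensorProduct FlatCA Groth.Agent.Lib.WeakAss_helper4 Groth.Agent.Lib.WeakAssLoc_helper4

theorem minimal_of_forall {R : Type*} [CommRing R] {I p : Ideal R} [hp : p.IsPrime] (hI : I ≤ p)
    (h : ∀ f ∈ p, ∃ s ∉ p, ∃ k : ℕ, s * f ^ k ∈ I) : p ∈ I.minimalPrimes := by
  refine ⟨⟨hp, hI⟩, ?_⟩
  rintro q ⟨hq, hIq⟩ hqp f hf
  obtain ⟨s, hs, k, hk⟩ := h f hf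
  have h1 : s * f ^ k ∈ q := hIq hk
  rcases hq.mem_or_mem h1 with h2 | h2
  · exact absurd (hqp h2) hs
  · exact hq.mem_of_pow_mem k h2

theorem weakAss_finsupp {R : Type*} [CommRing R] {N : Type*} [AddCommGroup N] [Module R N]
    {ι : Type*} [Fintype ι] (p : Ideal R) (h : p ∈ weakAss R (ι →₀ N)) : p ∈ weakAss R N := by
  classical
  obtain ⟨w, hw⟩ := h
  have hw' : p ∈ (ann R w).minimalPrimes := hw
  haveI : p.IsPrime := hw'.1.1
  have hle : (Finset.univ.inf fun i => ann R (w i)) ≤ p := by
    refine le_trans ?_ hw'.1.2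
    intro r hr
    rw [mem_ann]
    ext i
    rw [Finsupp.smul_apply, Finsupp.zero_apply]
    have : r ∈ ann R (w i) := by
      rw [Submodule.mem_finsetInf] at hr
      exact hr i (Finset.mem_univ i)
    exact mem_ann.mp this
  obtain ⟨i, -, hi⟩ := (Ideal.IsPrime.inf_le' ‹p.IsPrime›).mp hle
  refine ⟨w i, mem_minimalPrimes_of_le hw' ?_ hi⟩
  intro r hr
  rw [mem_ann] at hr ⊢
  rw [← Finsupp.smul_apply, hr, Finsupp.zero_apply]

theorem weakAss_atPrime {R : Type u} [CommRing R] {X : Type u} [AddCommGroup X] [Module R X]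
    (p : Ideal R) [hp : p.IsPrime] :
    p ∈ weakAss R X ↔ p ∈ weakAss R (LocalizedModule p.primeCompl X) := by
  have hS : Disjoint (p.primeCompl : Set R) (p : Set R) := by
    show Disjoint ((p : Set R)ᶜ) (p : Set R)
    exact disjoint_compl_left
  have hunder : (p.map (algebraMap R (Localization p.primeCompl))).comap
      (algebraMap R (Localization p.primeCompl)) = p :=
    IsLocalization.under_map_of_isPrime_disjoint p.primeCompl (Localization p.primeCompl) hp hS
  constructor
  · intro h
    have h1 := (map_mem_weakAss_iff p.primeCompl (M := X) p hS).mpr h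
    rw [weakAss_localizedModule_eq]
    exact ⟨_, h1, hunder⟩
  · intro h
    rw [weakAss_localizedModule_eq] at h
    obtain ⟨P, hP, hPp⟩ := h
    have h2 : P = p.map (algebraMap R (Localization p.primeCompl)) := by
      have h3 := IsLocalization.map_comap p.primeCompl (Localization p.primeCompl) P
      have hPp' : Ideal.under R P = p := hPp
      rw [hPp'] at h3
      exact h3.symm
    rw [h2] at hP
    exact (map_mem_weakAss_iff p.primeCompl (M := X) p hS).mp hP

variable {A : Type u} [CommRing A]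

theorem exists_iso (B : Type u) [AddCommGroup B] [Module A B] [Module.Finite A B]
    [Module.Flat A B] (M : Type u) [AddCommGroup M] [Module A M] (p : Ideal A) [p.IsPrime] :
    ∃ (ι : Type u) (_ : Fintype ι),
      Nonempty (LocalizedModule p.primeCompl (B ⊗[A] M) ≃ₗ[A]
        (ι →₀ LocalizedModule p.primeCompl M)) := by
  classical
  haveI : IsLocalRing (Localization p.primeCompl) := Localization.AtPrime.isLocalRing p
  haveI : Module.Free (Localization p.primeCompl) (LocalizedModule p.primeCompl B) :=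
    Module.free_of_flat_of_isLocalRing
  refine ⟨Module.Free.ChooseBasisIndex (Localization p.primeCompl)
    (LocalizedModule p.primeCompl B), inferInstance, ⟨?_⟩⟩
  let e1 : LocalizedModule p.primeCompl (B ⊗[A] M) ≃ₗ[A]
      (Localization p.primeCompl) ⊗[A] (B ⊗[A] M) :=
    ((LocalizedModule.isBaseChange p.primeCompl (B ⊗[A] M)).equiv.restrictScalars A).symm
  let e2 : (Localization p.primeCompl) ⊗[A] (B ⊗[A] M) ≃ₗ[A]
      ((Localization p.primeCompl) ⊗[A] B) ⊗[A] M :=
    (TensorProduct.assoc A (Localization p.primeCompl) B M).symm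
  let e3 : ((Localization p.primeCompl) ⊗[A] B) ≃ₗ[A] LocalizedModule p.primeCompl B :=
    (LocalizedModule.isBaseChange p.primeCompl B).equiv.restrictScalars A
  let e4 : LocalizedModule p.primeCompl B ≃ₗ[A]
      (Module.Free.ChooseBasisIndex (Localization p.primeCompl)
        (LocalizedModule p.primeCompl B) →₀ Localization p.primeCompl) :=
    (Module.Free.chooseBasis (Localization p.primeCompl)
      (LocalizedModule p.primeCompl B)).repr.restrictScalars A
  let e5 := TensorProduct.finsuppLeft A A (Localization p.primeCompl) M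
    (Module.Free.ChooseBasisIndex (Localization p.primeCompl) (LocalizedModule p.primeCompl B))
  let e6 : (Module.Free.ChooseBasisIndex (Localization p.primeCompl)
        (LocalizedModule p.primeCompl B) →₀ ((Localization p.primeCompl) ⊗[A] M)) ≃ₗ[A]
      (Module.Free.ChooseBasisIndex (Localization p.primeCompl)
        (LocalizedModule p.primeCompl B) →₀ LocalizedModule p.primeCompl M) :=
    Finsupp.mapRange.linearEquiv
      ((LocalizedModule.isBaseChange p.primeCompl M).equiv.restrictScalars A)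
  exact e1.trans (e2.trans (((e3.trans e4).rTensor M).trans (e5.trans e6)))

variable {B : Type u} [CommRing B] [Algebra A B]

theorem tmul_eq_zero_mem [Module.Flat A B] {M : Type u} [AddCommGroup M] [Module A M] (m : M)
    (b : B) (h : b ⊗ₜ[A] m = 0) : b ∈ (ann A m).map (algebraMap A B) := by
  obtain ⟨I, hI⟩ : ∃ I : Ideal A, I = ann A m := ⟨_, rfl⟩
  rw [← hI]
  have hle : I ≤ LinearMap.ker (LinearMap.toSpanSingleton A M m) := by
    intro r hr
    rw [LinearMap.mem_ker, LinearMap.toSpanSingleton_apply]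
    rw [hI] at hr
    exact mem_ann.mp hr
  have hge : LinearMap.ker (LinearMap.toSpanSingleton A M m) ≤ I := by
    intro r hr
    rw [LinearMap.mem_ker, LinearMap.toSpanSingleton_apply] at hr
    rw [hI]
    exact mem_ann.mpr hr
  have hψ : Function.Injective (Submodule.liftQ I (LinearMap.toSpanSingleton A M m) hle) := by
    rw [← LinearMap.ker_eq_bot]
    exact Submodule.ker_liftQ_eq_bot _ _ _ hge
  have hinj := Module.Flat.lTensor_preserves_injective_linearMap (M := B) _ hψ
  have h0 : b ⊗ₜ[A] (Ideal.Quotient.mk I 1) = 0 := by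
    apply hinj
    rw [LinearMap.lTensor_tmul, map_zero]
    have : Submodule.liftQ I (LinearMap.toSpanSingleton A M m) hle (Ideal.Quotient.mk I 1) = m := by
      show Submodule.liftQ I _ hle (Submodule.Quotient.mk 1) = m
      rw [Submodule.liftQ_apply, LinearMap.toSpanSingleton_apply, one_smul]
    rw [this]; exact h
  have h1 := congrArg (TensorProduct.tensorQuotEquivQuotSMul B I) h0
  rw [TensorProduct.tensorQuotEquivQuotSMul_tmul_mk, map_zero, one_smul,
    Submodule.Quotient.mk_eq_zero, Ideal.smul_top_eq_map] at h1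
  exact h1

theorem mpr_dir [Module.Finite A B] [Module.Flat A B] {M : Type u} [AddCommGroup M] [Module A M]
    (p : Ideal A) [p.IsPrime] (t : Ideal B) [ht : t.IsPrime] [t.LiesOver p]
    (h : p ∈ weakAss A M) : t ∈ weakAss B (B ⊗[A] M) := by
  obtain ⟨m, hm⟩ := h
  have hm' : p ∈ (ann A m).minimalPrimes := hm
  refine ⟨(1 : B) ⊗ₜ[A] m, ?_⟩
  show t ∈ (ann B ((1 : B) ⊗ₜ[A] m)).minimalPrimes
  have hann : ann B ((1 : B) ⊗ₜ[A] m) = (ann A m).map (algebraMap A B) := by
    apply le_antisymm
    · intro b hb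
      rw [mem_ann, TensorProduct.smul_tmul', smul_eq_mul, mul_one] at hb
      exact tmul_eq_zero_mem m b hb
    · rw [Ideal.map_le_iff_le_comap]
      intro r hr
      rw [Ideal.mem_comap, mem_ann, algebraMap_smul, ← TensorProduct.tmul_smul, mem_ann.mp hr,
        TensorProduct.tmul_zero]
  rw [hann]
  have htp : t.comap (algebraMap A B) = p := (t.over_def p).symm
  refine ⟨⟨ht, ?_⟩, ?_⟩
  · rw [Ideal.map_le_iff_le_comap, htp]; exact hm'.1.2
  · rintro t' ⟨ht', hle'⟩ ht't
    haveI := ht'
    have h1 : ann A m ≤ t'.comap (algebraMap A B) := Ideal.map_le_iff_le_comap.mp hle'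
    have h2 : t'.comap (algebraMap A B) ≤ p := by rw [← htp]; exact Ideal.comap_mono ht't
    have h3 : p ≤ t'.comap (algebraMap A B) := hm'.2 ⟨Ideal.comap_isPrime _ _, h1⟩ h2
    have h4 : t'.under A = t.under A := by
      show t'.comap (algebraMap A B) = t.comap (algebraMap A B)
      rw [htp]; exact le_antisymm h2 h3
    have := Algebra.QuasiFinite.eq_of_le_of_under_eq (R := A) t' t ht't h4
    exact this.ge

theorem step1 [Module.Finite A B] {N : Type u} [AddCommGroup N] [Module B N] [Module A N]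
    [IsScalarTower A B N] (p : Ideal A) [p.IsPrime] (t : Ideal B) [ht : t.IsPrime] [t.LiesOver p]
    (h : t ∈ weakAss B N) : p ∈ weakAss A N := by
  classical
  obtain ⟨z, hz⟩ := h
  have hz' : t ∈ (ann B z).minimalPrimes := hz
  have htp : t.comap (algebraMap A B) = p := (t.over_def p).symm
  have hfin : (p.primesOver B).Finite := Algebra.QuasiFinite.finite_primesOver p
  obtain ⟨F, hFdef⟩ : ∃ F : Finset (Ideal B), F = hfin.toFinset.erase t := ⟨_, rfl⟩
  have hF : ∀ Q ∈ F, Q.IsPrime ∧ Q.comap (algebraMap A B) = p ∧ Q ≠ t := by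
    intro Q hQ
    rw [hFdef, Finset.mem_erase, Set.Finite.mem_toFinset] at hQ
    exact ⟨hQ.2.1, (hQ.2.2.over).symm, hQ.1⟩
  have hF' : ∀ Q : Ideal B, Q.IsPrime → Q.comap (algebraMap A B) = p → Q ≠ t → Q ∈ F := by
    intro Q hQ hQp hQt
    rw [hFdef, Finset.mem_erase, Set.Finite.mem_toFinset]
    exact ⟨hQt, hQ, ⟨hQp.symm⟩⟩
  obtain ⟨x, hxt, hxF⟩ : ∃ x ∈ t, ∀ Q ∈ F, x ∉ Q := by
    by_contra hcon
    push Not at hcon
    have hsub : (t : Set B) ⊆ ⋃ Q ∈ (↑F : Set (Ideal B)), (Q : Set B) := by
      intro x hx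
      obtain ⟨Q, hQ, hxQ⟩ := hcon x hx
      exact Set.mem_biUnion (Finset.mem_coe.mpr hQ) hxQ
    obtain ⟨Q, hQ, htQ⟩ := (Ideal.subset_union_prime (f := fun Q : Ideal B => Q) t t
      (fun Q hQ _ _ => (hF Q hQ).1)).mp hsub
    obtain ⟨hQp, hQc, hQt⟩ := hF Q hQ
    haveI := hQp
    apply hQt
    refine (Algebra.QuasiFinite.eq_of_le_of_under_eq (R := A) t Q htQ ?_).symm
    show t.comap (algebraMap A B) = Q.comap (algebraMap A B)
    rw [htp, hQc]
  obtain ⟨y, hyt, n, hyn⟩ := exists_mul_pow_mem hz' hxt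
  refine ⟨y • z, ?_⟩
  show p ∈ (ann A (y • z)).minimalPrimes
  refine minimal_of_forall ?_ ?_
  · intro r hr
    rw [mem_ann] at hr
    have h1 : algebraMap A B r * y ∈ ann B z := by
      rw [mem_ann, mul_smul, algebraMap_smul]; exact hr
    have h2 : algebraMap A B r * y ∈ t := hz'.1.2 h1
    have h3 : algebraMap A B r ∈ t := (ht.mem_or_mem h2).resolve_right hyt
    rw [← htp]; exact h3
  · intro f hf
    have hft : algebraMap A B f ∈ t := by
      have : f ∈ t.comap (algebraMap A B) := by rw [htp]; exact hf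
      exact this
    obtain ⟨g, hgt, k, hgk⟩ := exists_mul_pow_mem hz' hft
    obtain ⟨K, hK⟩ : ∃ K : Ideal B, K = ann B ((algebraMap A B f) ^ k • (y • z)) := ⟨_, rfl⟩
    have hgK : g ∈ K := by
      rw [hK, mem_ann, smul_smul, smul_smul]
      have : g * (algebraMap A B f) ^ k * y = y * (g * (algebraMap A B f) ^ k) := by ring
      rw [this, mul_smul, mem_ann.mp hgk, smul_zero]
    have hxK : x ^ n ∈ K := by
      rw [hK, mem_ann, smul_smul, smul_smul]
      have : x ^ n * (algebraMap A B f) ^ k * y = (algebraMap A B f) ^ k * (y * x ^ n) := by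
        ring
      rw [this, mul_smul, mem_ann.mp hyn, smul_zero]
    have hnot : ¬ K.comap (algebraMap A B) ≤ p := by
      intro hle
      obtain ⟨Q, hKQ, hQp, hQc⟩ := Ideal.exists_ideal_over_prime_of_isIntegral p K hle
      by_cases hQt : Q = t
      · exact hgt (hQt ▸ hKQ hgK)
      · have hQF := hF' Q hQp hQc hQt
        have : x ^ n ∈ Q := hKQ hxK
        exact hxF Q hQF (hQp.mem_of_pow_mem n this)
    obtain ⟨s, hsK, hsp⟩ := SetLike.not_le_iff_exists.mp hnot
    refine ⟨s, hsp, k, ?_⟩
    rw [mem_ann]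
    have h5 : algebraMap A B s ∈ K := hsK
    rw [hK, mem_ann] at h5
    rw [mul_smul, ← algebraMap_smul B s, ← algebraMap_smul B (f ^ k), map_pow]
    exact h5

theorem step2 [Module.Finite A B] [Module.Flat A B] {M : Type u} [AddCommGroup M] [Module A M]
    (p : Ideal A) [p.IsPrime] (h : p ∈ weakAss A (B ⊗[A] M)) : p ∈ weakAss A M := by
  obtain ⟨ι, hι, ⟨e⟩⟩ := exists_iso (A := A) B M p
  rw [weakAss_atPrime] at h ⊢
  have h1 : p ∈ weakAss A (ι →₀ LocalizedModule p.primeCompl M) :=
    weakAss_subset_of_injective e.toLinearMap e.injective h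
  exact weakAss_finsupp p h1

theorem main [Module.Finite A B] [Module.Flat A B]
    (M : Type u) [AddCommGroup M] [Module A M] (p : Ideal A) [p.IsPrime] (t : Ideal B)
    [t.IsPrime] [t.LiesOver p] :
    t ∈ FlatCA.weakAss B (B ⊗[A] M) ↔ p ∈ FlatCA.weakAss A M :=
  ⟨fun h => step2 p (step1 p t h), fun h => mpr_dir p t h⟩
end

open TensorProduct in
/-- Let A → B be a finite flat ring map, M an A-module and t a prime of B lying over the prime p of A.
Then t is a weakly associated prime of the B-module B ⊗_A M if and only if p is a weakly associated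
prime of M. -/
theorem result {A B : Type u} [CommRing A] [CommRing B] [Algebra A B] [Module.Finite A B] [Module.Flat A B]
    (M : Type u) [AddCommGroup M] [Module A M] (p : Ideal A) [p.IsPrime] (t : Ideal B) [t.IsPrime] [t.LiesOver p] :
    t ∈ FlatCA.weakAss B (B ⊗[A] M) ↔ p ∈ FlatCA.weakAss A M := by
  exact main M p t

end Groth.Agent.S1232
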