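import Groth.Statements.S1233
import Mathlib
import Groth.Agent.S1232

set_option autoImplicit false
universe u
open FlatMor

namespace Groth.Agent.S1233

section
open TensorProduct FlatCA Groth.Agent.Lib.WeakAss_helper4 Polynomial

theorem weakAss_isLocalizedModule {R : Type u} [CommRing R] (S : Submonoid R) (R' : Type u)
    [CommRing R'] [Algebra R R'] [IsLocalization S R']
    {N N' : Type u} [AddCommGroup N] [Module R N] [AddCommGroup N'] [Module R N'] [Module R' N']
    [IsScalarTower R R' N'] (ℓ : N →ₗ[R] N') [IsLocalizedModule S ℓ] (q : Ideal R') :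
    q ∈ weakAss R' N' ↔ q.comap (algebraMap R R') ∈ weakAss R N := by
  have hann : ∀ n : N, ann R' (ℓ n) = (ann R n).map (algebraMap R R') := by
    intro n
    ext z
    obtain ⟨a, s, rfl⟩ := IsLocalization.exists_mk'_eq S z
    rw [IsLocalization.mk'_mem_map_algebraMap_iff, mem_ann]
    constructor
    · intro h
      have h1 : (algebraMap R R' a) • ℓ n = 0 := by
        rw [← IsLocalization.mk'_spec' R' a s, mul_smul, h, smul_zero]
      rw [algebraMap_smul, ← map_smul] at h1
      obtain ⟨t, ht⟩ := (IsLocalizedModule.eq_zero_iff S ℓ).mp h1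
      refine ⟨t, t.2, mem_ann.mpr ?_⟩
      rw [mul_smul]; exact ht
    · rintro ⟨t, ht, h⟩
      have hu : IsUnit (algebraMap R R' ((s : R) * t)) :=
        IsLocalization.map_units R' (s * ⟨t, ht⟩ : S)
      rw [← hu.smul_eq_zero, smul_smul, map_mul, mul_comm (algebraMap R R' (s : R)), mul_assoc,
        IsLocalization.mk'_spec', ← map_mul, algebraMap_smul, ← map_smul, mem_ann.mp h, map_zero]
  constructor
  · rintro ⟨z', hz'⟩
    obtain ⟨⟨n, s⟩, hns⟩ := IsLocalizedModule.surj S ℓ z'
    have hns' : (s : R) • z' = ℓ n := hns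
    have h1 : ann R' z' = ann R' (ℓ n) := by
      rw [← hns']
      ext z
      rw [mem_ann, mem_ann]
      have hu : IsUnit (algebraMap R R' (s : R)) := IsLocalization.map_units R' s
      have : z • ((s : R) • z') = (algebraMap R R' (s : R)) • (z • z') := by
        rw [← algebraMap_smul R' (s : R) z', smul_comm]
      rw [this, hu.smul_eq_zero]
    have h2 : q ∈ ((ann R n).map (algebraMap R R')).minimalPrimes := by
      rw [← hann, ← h1]; exact hz'
    rw [IsLocalization.minimalPrimes_map S R'] at h2
    exact ⟨n, h2⟩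
  · rintro ⟨n, hn⟩
    refine ⟨ℓ n, ?_⟩
    show q ∈ (ann R' (ℓ n)).minimalPrimes
    rw [hann, IsLocalization.minimalPrimes_map S R']
    exact hn

theorem weakAss_away {A C D : Type u} [CommRing A] [CommRing C] [CommRing D] [Algebra A C]
    [Algebra A D] [Algebra C D] [IsScalarTower A C D] (g : C) [IsLocalization.Away g D]
    (M : Type u) [AddCommGroup M] [Module A M] (q : Ideal D) :
    q ∈ weakAss D (D ⊗[A] M) ↔ q.comap (algebraMap C D) ∈ weakAss C (C ⊗[A] M) := by
  haveI : IsLocalizedModule (Submonoid.powers g) (Algebra.linearMap C D) := inferInstance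
  exact weakAss_isLocalizedModule (Submonoid.powers g) D
    (TensorProduct.AlgebraTensorModule.rTensor A M (Algebra.linearMap C D)) q

theorem aux {A B D : Type u} [CommRing A] [CommRing B] [CommRing D] [Algebra A B] [Algebra A D]
    [Algebra B D] [IsScalarTower A B D]
    (M : Type u) [AddCommGroup M] [Module A M] (p : Ideal A) [p.IsPrime] (u : Ideal B)
    [hu : u.IsPrime] [u.LiesOver p] (f : B) (hfu : f ∉ u) [IsLocalization.Away f D]
    (P : StandardEtalePresentation A D) :
    u ∈ weakAss B (B ⊗[A] M) ↔ p ∈ weakAss A M := by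
  let e : D ≃ₐ[A] Localization.Away (AdjoinRoot.mk P.f P.g) :=
    P.equivRing.trans P.equivAwayAdjoinRoot
  letI algCD : Algebra (AdjoinRoot P.f) D :=
    (e.symm.toRingEquiv.toRingHom.comp
      (algebraMap (AdjoinRoot P.f) (Localization.Away (AdjoinRoot.mk P.f P.g)))).toAlgebra
  have halg : ∀ c : AdjoinRoot P.f, algebraMap (AdjoinRoot P.f) D c =
      e.symm (algebraMap (AdjoinRoot P.f) (Localization.Away (AdjoinRoot.mk P.f P.g)) c) :=
    fun c => rfl
  haveI : IsScalarTower A (AdjoinRoot P.f) D := IsScalarTower.of_algebraMap_eq (fun a => by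
    rw [halg, ← IsScalarTower.algebraMap_apply A (AdjoinRoot P.f)
      (Localization.Away (AdjoinRoot.mk P.f P.g)), e.symm.commutes])
  haveI : IsLocalization.Away (AdjoinRoot.mk P.f P.g) D := by
    let e' : Localization.Away (AdjoinRoot.mk P.f P.g) ≃ₐ[AdjoinRoot P.f] D :=
      AlgEquiv.ofRingEquiv (f := e.symm.toRingEquiv) (fun c => rfl)
    exact IsLocalization.isLocalization_of_algEquiv (Submonoid.powers (AdjoinRoot.mk P.f P.g)) e'
  haveI : Module.Finite A (AdjoinRoot P.f) := P.monic_f.finite_adjoinRoot
  haveI : Module.Free A (AdjoinRoot P.f) := P.monic_f.free_adjoinRoot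
  have hdisj : Disjoint (Submonoid.powers f : Set B) (u : Set B) :=
    (Ideal.disjoint_powers_iff_notMem_of_isPrime _).mpr hfu
  obtain ⟨q, hqdef⟩ : ∃ q : Ideal D, q = u.map (algebraMap B D) := ⟨_, rfl⟩
  haveI hq : q.IsPrime := by
    rw [hqdef]
    exact IsLocalization.isPrime_of_isPrime_disjoint (Submonoid.powers f) D u hu hdisj
  have hqu : q.comap (algebraMap B D) = u := by
    rw [hqdef]
    exact IsLocalization.under_map_of_isPrime_disjoint (Submonoid.powers f) D hu hdisj
  haveI : (q.comap (algebraMap (AdjoinRoot P.f) D)).LiesOver p := ⟨by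
    show p = (q.comap (algebraMap (AdjoinRoot P.f) D)).comap (algebraMap A (AdjoinRoot P.f))
    rw [Ideal.comap_comap, ← IsScalarTower.algebraMap_eq, IsScalarTower.algebraMap_eq A B D,
      ← Ideal.comap_comap, hqu]
    exact u.over_def p⟩
  rw [← Groth.Agent.S1232.result M p (q.comap (algebraMap (AdjoinRoot P.f) D))]
  rw [← weakAss_away (A := A) (C := AdjoinRoot P.f) (D := D) (AdjoinRoot.mk P.f P.g) M q]
  rw [weakAss_away (A := A) (C := B) (D := D) f M q, hqu]

theorem main {A B : Type u} [CommRing A] [CommRing B] [Algebra A B] [Algebra.Etale A B]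
    (M : Type u) [AddCommGroup M] [Module A M] (p : Ideal A) [p.IsPrime] (u : Ideal B)
    [hu : u.IsPrime] [u.LiesOver p] :
    u ∈ FlatCA.weakAss B (B ⊗[A] M) ↔ p ∈ FlatCA.weakAss A M := by
  haveI : Algebra.FinitePresentation A B := Algebra.Etale.finitePresentation
  haveI : Algebra.IsEtaleAt A u := by
    haveI : Algebra.FormallyEtale B (Localization.AtPrime u) :=
      Algebra.FormallyEtale.of_isLocalization u.primeCompl
    exact Algebra.FormallyEtale.comp A B (Localization.AtPrime u)
  obtain ⟨f, hfu, hstd⟩ := Algebra.IsEtaleAt.exists_isStandardEtale (R := A) u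
  obtain ⟨P⟩ := hstd.nonempty_standardEtalePresentation
  exact aux (D := Localization.Away f) M p u f hfu P
end

open TensorProduct in
/-- Let A → B be an étale ring map, M an A-module and u a prime of B lying over the prime p of A. Then u
is a weakly associated prime of the B-module B ⊗_A M if and only if p is a weakly associated prime
of M. -/
theorem result {A B : Type u} [CommRing A] [CommRing B] [Algebra A B] [Algebra.Etale A B]
    (M : Type u) [AddCommGroup M] [Module A M] (p : Ideal A) [p.IsPrime] (u : Ideal B) [u.IsPrime] [u.LiesOver p] :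
    u ∈ FlatCA.weakAss B (B ⊗[A] M) ↔ p ∈ FlatCA.weakAss A M := by
  exact main M p u

end Groth.Agent.S1233
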