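import Groth.Statements.S6585
import Mathlib.CategoryTheory.Triangulated.Orthogonal
import Mathlib.CategoryTheory.Triangulated.Generators

set_option autoImplicit false
universe v u
open CategoryTheory CategoryTheory.Limits
open CohDer

namespace Groth.Agent.S6585

/-- The left orthogonal of any property is stable under retracts. -/
lemma leftOrthogonal_stableUnderRetracts {D : Type u} [Category.{v} D] [HasZeroMorphisms D]
    (P : ObjectProperty D) : P.leftOrthogonal.IsStableUnderRetracts where
  of_retract := by
    intro X Y r hY Z f hZ
    have h : r.r ≫ f = 0 := hY _ hZ
    have : f = r.i ≫ r.r ≫ f := by rw [← Category.assoc, r.retract, Category.id_comp]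
    rw [this, h, comp_zero]

open CategoryTheory.Pretriangulated in
/-- Let D be a triangulated category and E, K objects of D. Then Hom(E, K⟦i⟧) = 0 for all integers i if
and only if Hom(E', K) = 0 for every E' in ⟨E⟩, the smallest strictly full saturated triangulated
subcategory of D containing E (the objects obtained from E by shifts, finite direct sums, direct
summands and extensions). -/
theorem result {D : Type u} [Category.{v} D] [Preadditive D] [HasZeroObject D] [HasShift D ℤ]
    [∀ n : ℤ, (shiftFunctor D n).Additive] [Pretriangulated D] [IsTriangulated D]
    (E K : D) :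
    (∀ (i : ℤ) (f : E ⟶ (shiftFunctor D i).obj K), f = 0) ↔
      ∀ (E' : D), (ObjectProperty.singleton E).triangEnvelope E' → ∀ f : E' ⟶ K, f = 0 := by
  constructor
  · intro h E' hE' f
    let Q : ObjectProperty D := ((ObjectProperty.singleton K).shiftClosure ℤ).leftOrthogonal
    have : Q.IsStableUnderRetracts := leftOrthogonal_stableUnderRetracts _
    have hle : ObjectProperty.singleton E ≤ Q := by
      intro X hX
      rw [ObjectProperty.singleton_iff] at hX
      subst hX
      intro Y g hY
      obtain ⟨Z, a, e, hZ⟩ := hY
      rw [ObjectProperty.singleton_iff] at hZ
      subst hZ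
      have := h a (g ≫ e.hom)
      rw [← cancel_mono e.hom, zero_comp]
      exact this
    have := (ObjectProperty.triangEnvelope_le_iff (P := ObjectProperty.singleton E) (Q := Q)).2 hle
    exact this _ hE' f (ObjectProperty.le_shiftClosure _ _ (by simp))
  · intro h i f
    have hE : (ObjectProperty.singleton E).triangEnvelope E :=
      ObjectProperty.le_triangEnvelope _ _ (by simp)
    have hK : (ObjectProperty.singleton E).triangEnvelope.rightOrthogonal K :=
      fun X g hX => h X hX g
    have hK' : (ObjectProperty.singleton E).triangEnvelope.rightOrthogonal
        ((shiftFunctor D i).obj K) :=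
      ObjectProperty.le_shift _ i _ hK
    exact hK' f hE

end Groth.Agent.S6585
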