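import Groth.Statements.S11277
import Mathlib

set_option autoImplicit false
universe u v
open W4bk4grassmannian

namespace Groth.Agent.S11277

/-- Let K be a field, R = ⊕_{i ≥ 0} R_i an ℕ-graded commutative K-algebra which is an integral domain,
and s ∈ R_e a homogeneous element of degree e > 0. Let R_(s) ⊆ R[1/s] be the homogeneous
localization (fractions f / s^k with f homogeneous of degree k e). Then the image of s in R[1/s] is
transcendental over R_(s). -/
theorem result (K : Type u) [Field K] (R : Type v) [CommRing R]
    [IsDomain R] [Algebra K R] (𝒜 : ℕ → Submodule K R) [GradedAlgebra 𝒜] (e : ℕ) (he : 0 < e) (s : R)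
    (hs : s ∈ 𝒜 e) :
    Transcendental (HomogeneousLocalization.Away 𝒜 s) (algebraMap R (Localization.Away s) s) := by
  classical
  by_cases hs0 : s = 0
  · -- degenerate case: the coefficient ring is trivial
    haveI : Subsingleton (HomogeneousLocalization.Away 𝒜 s) :=
      HomogeneousLocalization.subsingleton 𝒜 (x := Submonoid.powers s) ⟨1, by simp [hs0]⟩
    rintro ⟨p, hp, -⟩
    exact hp (Subsingleton.elim _ _)
  rintro ⟨p, hp, hpe⟩
  apply hp
  set L := Localization.Away s with hL
  set s' : L := algebraMap R L s with hs'
  have hunit : IsUnit s' := IsLocalization.map_units L (⟨s, Submonoid.mem_powers s⟩ : Submonoid.powers s)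
  have hinj : Function.Injective (algebraMap R L) :=
    IsLocalization.injective L (powers_le_nonZeroDivisors_of_noZeroDivisors hs0)
  -- common denominator
  have hev : ∀ᶠ N in Filter.atTop, ∀ i ∈ Finset.range (p.natDegree + 1),
      s ^ N • (p.coeff i).val ∈ algebraMap R L '' (𝒜 (N • e) : Set R) := by
    rw [Filter.eventually_all_finset]
    intro i _
    exact HomogeneousLocalization.Away.eventually_smul_mem hs (p.coeff i)
  obtain ⟨N, hN⟩ := hev.exists
  have hN' : ∀ i ∈ Finset.range (p.natDegree + 1), ∃ g : R, g ∈ 𝒜 (N • e) ∧
      algebraMap R L g = s ^ N • (p.coeff i).val := by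
    intro i hi
    obtain ⟨g, hg, hg'⟩ := hN i hi
    exact ⟨g, hg, hg'⟩
  choose! g hg using hN'
  -- the relation in R
  have hrel : ∑ i ∈ Finset.range (p.natDegree + 1), g i * s ^ i = 0 := by
    apply hinj
    rw [map_sum, map_zero]
    have h1 : s' ^ N * Polynomial.aeval s' p = 0 := by rw [hpe, mul_zero]
    rw [Polynomial.aeval_eq_sum_range, Finset.mul_sum] at h1
    rw [← h1]
    apply Finset.sum_congr rfl
    intro i hi
    rw [map_mul, (hg i hi).2, Algebra.smul_def, Algebra.smul_def,
      HomogeneousLocalization.algebraMap_apply, map_pow, map_pow, mul_assoc]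
  -- each homogeneous component vanishes
  have hdeg : ∀ i, i ∈ Finset.range (p.natDegree + 1) → g i * s ^ i ∈ 𝒜 (N • e + i • e) :=
    fun i hi => SetLike.mul_mem_graded (hg i hi).1 (SetLike.pow_mem_graded i hs)
  have hzero : ∀ j ∈ Finset.range (p.natDegree + 1), g j * s ^ j = 0 := by
    intro j hj
    have h2 := congrArg (GradedRing.proj 𝒜 (N • e + j • e)) hrel
    rw [map_sum, map_zero, Finset.sum_eq_single j] at h2
    · rw [GradedRing.proj_apply, DirectSum.decompose_of_mem_same 𝒜 (hdeg j hj)] at h2
      exact h2
    · intro i hi hij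
      rw [GradedRing.proj_apply]
      apply DirectSum.decompose_of_mem_ne 𝒜 (hdeg i hi)
      intro heq
      apply hij
      have h3 : i • e = j • e := by omega
      rw [smul_eq_mul, smul_eq_mul] at h3
      exact Nat.eq_of_mul_eq_mul_right he h3
    · intro hj'; exact absurd hj hj'
  -- hence all coefficients vanish
  apply Polynomial.ext
  intro i
  rw [Polynomial.coeff_zero]
  by_cases hi : i ∈ Finset.range (p.natDegree + 1)
  · have hgi : g i = 0 := by
      rcases mul_eq_zero.1 (hzero i hi) with h | h
      · exact h
      · exact absurd h (pow_ne_zero i hs0)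
    have h4 := (hg i hi).2
    rw [hgi, map_zero, Algebra.smul_def, map_pow] at h4
    have h5 : (p.coeff i).val = 0 := by
      have := (hunit.pow N).mul_right_eq_zero.1 h4.symm
      exact this
    apply HomogeneousLocalization.val_injective
    rw [h5, HomogeneousLocalization.val_zero]
  · apply Polynomial.coeff_eq_zero_of_natDegree_lt
    rw [Finset.mem_range] at hi
    omega

end Groth.Agent.S11277
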