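import Groth.Statements.S9161
import Mathlib

set_option autoImplicit false
universe u
open CAlg

namespace Groth.Agent.S9161

/-- If two two-term complexes of R-modules A₁ → A₀ and B₁ → B₀ are homotopy equivalent (maps of
complexes both ways whose composites are homotopic to the identity maps), then A₁ ⊕ B₀ and B₁ ⊕ A₀
are isomorphic R-modules. -/
theorem result (R : Type u) [CommRing R]
    (A₁ A₀ B₁ B₀ : Type u) [AddCommGroup A₁] [Module R A₁] [AddCommGroup A₀] [Module R A₀]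
    [AddCommGroup B₁] [Module R B₁] [AddCommGroup B₀] [Module R B₀]
    (dA : A₁ →ₗ[R] A₀) (dB : B₁ →ₗ[R] B₀) (φ₁ : A₁ →ₗ[R] B₁) (φ₀ : A₀ →ₗ[R] B₀)
    (ψ₁ : B₁ →ₗ[R] A₁) (ψ₀ : B₀ →ₗ[R] A₀) (hφ : dB ∘ₗ φ₁ = φ₀ ∘ₗ dA) (hψ : dA ∘ₗ ψ₁ = ψ₀ ∘ₗ dB)
    (h : A₀ →ₗ[R] A₁) (hh₁ : LinearMap.id - ψ₁ ∘ₗ φ₁ = h ∘ₗ dA) (hh₀ : LinearMap.id - ψ₀ ∘ₗ φ₀ = dA ∘ₗ h)
    (h' : B₀ →ₗ[R] B₁) (hh'₁ : LinearMap.id - φ₁ ∘ₗ ψ₁ = h' ∘ₗ dB)
    (hh'₀ : LinearMap.id - φ₀ ∘ₗ ψ₀ = dB ∘ₗ h') :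
    Nonempty ((A₁ × B₀) ≃ₗ[R] (B₁ × A₀)) := by
  have e1 : ∀ a₁, ψ₁ (φ₁ a₁) = a₁ - h (dA a₁) := fun a₁ => by
    have := LinearMap.congr_fun hh₁ a₁
    simp only [LinearMap.sub_apply, LinearMap.id_apply, LinearMap.comp_apply] at this
    rw [← this]; abel
  have e2 : ∀ a₀, ψ₀ (φ₀ a₀) = a₀ - dA (h a₀) := fun a₀ => by
    have := LinearMap.congr_fun hh₀ a₀
    simp only [LinearMap.sub_apply, LinearMap.id_apply, LinearMap.comp_apply] at this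
    rw [← this]; abel
  have e3 : ∀ b₁, φ₁ (ψ₁ b₁) = b₁ - h' (dB b₁) := fun b₁ => by
    have := LinearMap.congr_fun hh'₁ b₁
    simp only [LinearMap.sub_apply, LinearMap.id_apply, LinearMap.comp_apply] at this
    rw [← this]; abel
  have e4 : ∀ b₀, φ₀ (ψ₀ b₀) = b₀ - dB (h' b₀) := fun b₀ => by
    have := LinearMap.congr_fun hh'₀ b₀
    simp only [LinearMap.sub_apply, LinearMap.id_apply, LinearMap.comp_apply] at this
    rw [← this]; abel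
  have c1 : ∀ a₁, dB (φ₁ a₁) = φ₀ (dA a₁) := fun a₁ => LinearMap.congr_fun hφ a₁
  have c2 : ∀ b₁, dA (ψ₁ b₁) = ψ₀ (dB b₁) := fun b₁ => LinearMap.congr_fun hψ b₁
  let F : (A₁ × B₀) →ₗ[R] (B₁ × A₀) :=
    LinearMap.prod (φ₁ ∘ₗ LinearMap.fst R A₁ B₀ + h' ∘ₗ LinearMap.snd R A₁ B₀)
      (-(dA ∘ₗ LinearMap.fst R A₁ B₀) + ψ₀ ∘ₗ LinearMap.snd R A₁ B₀)
  have hF : ∀ a₁ b₀, F (a₁, b₀) = (φ₁ a₁ + h' b₀, -dA a₁ + ψ₀ b₀) := fun a₁ b₀ => rfl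
  refine ⟨LinearEquiv.ofBijective F ⟨?_, ?_⟩⟩
  · rw [injective_iff_map_eq_zero]
    rintro ⟨a₁, b₀⟩ hz
    rw [hF, Prod.mk_eq_zero] at hz
    obtain ⟨hz1, hz2⟩ := hz
    have hb : b₀ = 0 := by
      have := congrArg dB hz1
      have h2 := congrArg φ₀ hz2
      simp only [map_add, map_neg, map_zero] at this h2
      rw [c1] at this
      rw [e4] at h2
      have : b₀ = (φ₀ (dA a₁) + dB (h' b₀)) + (-φ₀ (dA a₁) + (b₀ - dB (h' b₀))) := by abel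
      rw [this, ‹φ₀ (dA a₁) + dB (h' b₀) = 0›, h2, add_zero]
    subst hb
    simp only [map_zero, add_zero] at hz1 hz2
    have ha : a₁ = 0 := by
      have h3 := e1 a₁
      rw [hz1, map_zero] at h3
      have h4 : dA a₁ = 0 := neg_eq_zero.mp hz2
      rw [h4, map_zero, sub_zero] at h3
      exact h3.symm
    rw [ha]; rfl
  · rintro ⟨b₁, a₀⟩
    let c := h' (φ₀ a₀) - φ₁ (h a₀)
    refine ⟨(-h a₀ + ψ₁ (b₁ - c), φ₀ a₀ + dB (b₁ - c)), ?_⟩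
    rw [hF]
    apply Prod.ext
    · simp only [map_add, map_neg, map_sub]
      rw [e3 b₁, e3 c]
      simp only [c, map_sub]
      abel
    · simp only [map_add, map_neg, map_sub, neg_neg]
      rw [e2 a₀, c2 b₁, c2 c]
      abel

end Groth.Agent.S9161
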