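import Groth.Statements.S2579
import Mathlib
import Groth.Agent.Lib.LimDiag_helper7

set_option autoImplicit false
universe u
open CategoryTheory AlgebraicGeometry
open EGA43

namespace Groth.Agent.S2579

/-- Let S = lim S_i be a cofiltered limit of schemes with affine transition morphisms, S_{i₀} a
quasi-compact quasi-separated stage (the source needs S_{i₀} only quasi-compact; quasi-separatedness
is assumed here), f₀ : X₀ ⟶ Y₀ an S_{i₀}-morphism between schemes of finite presentation over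
S_{i₀}, and f : X ⟶ Y its base change to S (base changes expressed by pullback squares). If f is a
monomorphism, then the base change f_i : X_i ⟶ Y_i of f₀ to some stage S_i is a monomorphism. -/
theorem result {I : Type u} [SmallCategory I] [IsCofiltered I]
    (D : I ⥤ Scheme.{u}) (c : Limits.Cone D) (hc : Limits.IsLimit c)
    [∀ (i j : I) (f : i ⟶ j), IsAffineHom (D.map f)] (i₀ : I) [CompactSpace (D.obj i₀)]
    [QuasiSeparatedSpace (D.obj i₀)] {X₀ Y₀ : Scheme.{u}} (f₀ : X₀ ⟶ Y₀) (g₀ : Y₀ ⟶ D.obj i₀)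
    [LocallyOfFinitePresentation g₀] [QuasiCompact g₀] [QuasiSeparated g₀]
    [LocallyOfFinitePresentation (f₀ ≫ g₀)] [QuasiCompact (f₀ ≫ g₀)] [QuasiSeparated (f₀ ≫ g₀)]
    {X Y : Scheme.{u}} (f : X ⟶ Y) (g : Y ⟶ c.pt) (qY : Y ⟶ Y₀) (qX : X ⟶ X₀)
    (hY : IsPullback qY g g₀ (c.π.app i₀)) (hX : IsPullback qX f f₀ qY) [Mono f] :
    ∃ (i : I) (φ : i ⟶ i₀) (Xi Yi : Scheme.{u}) (fi : Xi ⟶ Yi) (gi : Yi ⟶ D.obj i) (pY : Yi ⟶ Y₀)
      (pX : Xi ⟶ X₀), IsPullback pY gi g₀ (D.map φ) ∧ IsPullback pX fi f₀ pY ∧ Mono fi := by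
  haveI : QuasiCompact f₀ := QuasiCompact.of_comp f₀ g₀
  haveI : QuasiSeparated f₀ := QuasiSeparated.of_comp f₀ g₀
  haveI : LocallyOfFinitePresentation f₀ := Groth.Agent.Lib.LimDiagH7.lfp_of_comp f₀ g₀
  haveI : LocallyOfFinitePresentation (Limits.pullback.diagonal f₀) :=
    Groth.Agent.Lib.LimDiagH7.lfp_diagonal f₀
  haveI : QuasiCompact (Limits.pullback.diagonal f₀) := QuasiSeparated.quasiCompact_diagonal
  haveI : CompactSpace X₀ := QuasiCompact.compactSpace_of_compactSpace (f₀ ≫ g₀)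
  haveI : CompactSpace ↑(Limits.pullback f₀ f₀) :=
    QuasiCompact.compactSpace_of_compactSpace (Limits.pullback.fst f₀ f₀)
  have hiso : IsIso (Limits.pullback.diagonal f) := (Limits.pullback.isIso_diagonal_iff f).mpr inferInstance
  obtain ⟨i, φ, hi⟩ := Groth.Agent.Lib.LimDiagH7.exists_descend_diagonal
    (P := MorphismProperty.isomorphisms Scheme.{u})
    (H := fun f => LocallyOfFinitePresentation f ∧ QuasiCompact f ∧ QuasiSeparated f)
    Groth.Agent.Lib.LimDiagH7.affineStage_isIso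
    (fun f g h => Groth.Agent.Lib.LimDiagH7.hH_lfp f g h)
    D c hc i₀ f₀ g₀ ⟨inferInstance, inferInstance, inferInstance⟩ f g qY qX hY hX hiso
  exact ⟨i, φ, _, _, Limits.pullback.snd f₀ (Limits.pullback.fst g₀ (D.map φ)),
    Limits.pullback.snd g₀ (D.map φ), Limits.pullback.fst g₀ (D.map φ),
    Limits.pullback.fst f₀ _, IsPullback.of_hasPullback _ _, IsPullback.of_hasPullback _ _,
    (Limits.pullback.isIso_diagonal_iff _).mp hi⟩

end Groth.Agent.S2579
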