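import Groth.Statements.S4805
import Mathlib
import Groth.Agent.Lib.LimIso_helper7
import Groth.Agent.Lib.AlgSpLocP9_helper7

set_option autoImplicit false
set_option backward.isDefEq.respectTransparency false
universe u
open CategoryTheory AlgebraicGeometry
open Lim8

namespace Groth.Agent.S4805

/-- Let S = lim S_i be a cofiltered limit of schemes with affine transition maps and S_{i₀} a
quasi-compact stage; let Y₀ ⟶ S_{i₀} be of finite type and quasi-separated, X₀ ⟶ S_{i₀} of finite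
presentation (locally of finite presentation, quasi-compact and quasi-separated), f₀ : X₀ ⟶ Y₀ an
S_{i₀}-morphism, and f : X ⟶ Y its base change along S ⟶ S_{i₀} (base changes are expressed by
pullback squares). If f is an isomorphism, then for some index j over i₀ the base change f_j : X_j ⟶
Y_j of f₀ along S_j ⟶ S_{i₀} is an isomorphism. (Note the hypotheses: the stage S_{i₀} is only
assumed quasi-compact, and Y₀ only of finite type and quasi-separated over it.) -/
theorem result {I : Type u} [SmallCategory I] [IsCofiltered I]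
    (D : I ⥤ Scheme.{u}) (c : Limits.Cone D) (hc : Limits.IsLimit c)
    [∀ (i j : I) (f : i ⟶ j), IsAffineHom (D.map f)] (i₀ : I) [CompactSpace (D.obj i₀)]
    {X₀ Y₀ : Scheme.{u}} (f₀ : X₀ ⟶ Y₀) (g₀ : Y₀ ⟶ D.obj i₀)
    [LocallyOfFiniteType g₀] [QuasiCompact g₀] [QuasiSeparated g₀]
    [LocallyOfFinitePresentation (f₀ ≫ g₀)] [QuasiCompact (f₀ ≫ g₀)] [QuasiSeparated (f₀ ≫ g₀)]
    {X Y : Scheme.{u}} (f : X ⟶ Y) (g : Y ⟶ c.pt) (qY : Y ⟶ Y₀) (qX : X ⟶ X₀)
    (hY : IsPullback qY g g₀ (c.π.app i₀)) (hX : IsPullback qX f f₀ qY) [IsIso f] :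
    ∃ (j : I) (φ : j ⟶ i₀) (Xj Yj : Scheme.{u}) (fj : Xj ⟶ Yj) (gj : Yj ⟶ D.obj j) (pY : Yj ⟶ Y₀)
      (pX : Xj ⟶ X₀), IsPullback pY gj g₀ (D.map φ) ∧ IsPullback pX fj f₀ pY ∧ IsIso fj := by
  classical
  haveI : LocallyOfFinitePresentation f₀ :=
    Groth.Agent.Lib.AlgSpLocP9_helper7.locallyOfFinitePresentation_of_comp f₀ g₀
  haveI : QuasiCompact f₀ :=
    MorphismProperty.of_postcomp (W := @QuasiCompact) (W' := @QuasiSeparated) f₀ g₀
      inferInstance inferInstance
  haveI : QuasiSeparated f₀ := QuasiSeparated.of_comp f₀ g₀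
  haveI : CompactSpace Y₀ := QuasiCompact.compactSpace_of_compactSpace g₀
  have hcY := Groth.Agent.Lib.LimBaseChangeH7.isLimitBcCone c hY hc
  let j₀ : Over i₀ := Over.mk (𝟙 i₀)
  let pr : (Groth.Agent.Lib.LimBaseChangeH7.bcDiagram D i₀ g₀).obj j₀ ⟶ Y₀ :=
    Limits.pullback.fst g₀ (D.map j₀.hom)
  have hqY : (Groth.Agent.Lib.LimBaseChangeH7.bcCone c hY).π.app j₀ ≫ pr = qY :=
    Groth.Agent.Lib.LimBaseChangeH7.bcCone_π_fst c hY j₀
  have hiso0 : IsIso (Limits.pullback.snd f₀ qY) := by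
    have h : hX.isoPullback.hom ≫ Limits.pullback.snd f₀ qY = f := hX.isoPullback_hom_snd
    have h' : Limits.pullback.snd f₀ qY = hX.isoPullback.inv ≫ f :=
      (Iso.inv_comp_eq _).mpr h.symm |>.symm
    rw [h']
    infer_instance
  have hiso : IsIso (Limits.pullback.snd (Limits.pullback.snd f₀ pr)
      ((Groth.Agent.Lib.LimBaseChangeH7.bcCone c hY).π.app j₀)) := by
    have := (Groth.Agent.Lib.LimIsoH7.snd_snd_iff
      (P := MorphismProperty.isomorphisms Scheme.{u}) f₀ pr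
      ((Groth.Agent.Lib.LimBaseChangeH7.bcCone c hY).π.app j₀)).mpr (by rw [hqY]; exact hiso0)
    exact this
  obtain ⟨j', φ', hj'⟩ := Groth.Agent.Lib.LimIsoH7.exists_isIso_snd_of_compact
    (Groth.Agent.Lib.LimBaseChangeH7.bcDiagram D i₀ g₀)
    (Groth.Agent.Lib.LimBaseChangeH7.bcCone c hY) hcY j₀ (Limits.pullback.snd f₀ pr) hiso
  have hj'' : IsIso (Limits.pullback.snd f₀ (Limits.pullback.fst g₀ (D.map j'.hom))) := by
    have := (Groth.Agent.Lib.LimIsoH7.snd_snd_iff
      (P := MorphismProperty.isomorphisms Scheme.{u}) f₀ pr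
      ((Groth.Agent.Lib.LimBaseChangeH7.bcDiagram D i₀ g₀).map φ')).mp hj'
    rw [Groth.Agent.Lib.LimBaseChangeH7.bcDiagram_map_fst] at this
    exact this
  exact ⟨j'.left, j'.hom, Limits.pullback f₀ (Limits.pullback.fst g₀ (D.map j'.hom)),
    Limits.pullback g₀ (D.map j'.hom), Limits.pullback.snd f₀ (Limits.pullback.fst g₀ (D.map j'.hom)),
    Limits.pullback.snd g₀ (D.map j'.hom), Limits.pullback.fst g₀ (D.map j'.hom),
    Limits.pullback.fst f₀ (Limits.pullback.fst g₀ (D.map j'.hom)),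
    IsPullback.of_hasPullback g₀ (D.map j'.hom),
    IsPullback.of_hasPullback f₀ (Limits.pullback.fst g₀ (D.map j'.hom)), hj''⟩

end Groth.Agent.S4805
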