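import Groth.Statements.S12688
import Mathlib
import Groth.Agent.Lib.FTSys3_helper5
import Groth.Agent.Lib.VA91d_helper5
import Groth.Agent.S12686
import Groth.Agent.Lib.RelProj_helper3
import Groth.Agent.Lib.QcqsLoc_helper9

set_option autoImplicit false
universe u
open CategoryTheory CategoryTheory.Limits AlgebraicGeometry TopologicalSpace Opposite
open scoped HomogeneousIdeal
noncomputable section
open EGA2

namespace Groth.Agent.S12688

/-- Let Y be a scheme which is either quasi-compact and separated or has Noetherian underlying space, q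
: X → Y a morphism of finite type, L an invertible O_X-module with graded symmetric algebra 𝒮L =
⊕_{n≥0} L^{⊗n} (whose relative Proj PL, given with its charts, is identified with X by its structure
morphism). If L is very ample relative to q, then there are a quasi-coherent O_Y-module E of finite
type with an injective map ι : E → q_*L, its graded symmetric algebra 𝒯 = Sym(E) (structure map jE),
and the graded q-morphism u : 𝒯 → q_*𝒮L extending ι (adjoint to Sym(φ) for φ : q^*E → L the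
restriction of the canonical map q^*q_*L → L), such that φ is surjective — every point of X has an
affine neighbourhood V over which the image of a single section of E generates L — and, for the
projective bundle P(E) = Proj(𝒯) → Y (with its charts) and the induced r = r_{L,φ} : G(φ) → P(E), r
is everywhere defined (G(φ) is all of PL) and an immersion. (The published statement reads 'coherent
of finite type' for E; over an affine base whose ring is not coherent, with q the identity and L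
trivial, the only possible E is O_Y itself, which is not coherent, while the published proof,
through the finite-type criterion for immersions, yields E quasi-coherent of finite type, which is
what this row asserts.) -/
theorem result {X Y PL : Scheme.{u}}
    (hYs : (CompactSpace Y ∧ Y.IsSeparated) ∨ NoetherianSpace Y) (q : X ⟶ Y) [QuasiCompact q] [LocallyOfFiniteType q]
    (L : X.Modules) (hL : PicF.IsInvertible L) (hLq : Coh.IsQCoh L)
    (𝒮L : RelProj.QCGrAlg X) (jL : L ⟶ 𝒮L.toModule) (hjL : RelProj.IsGrSymAlg L 𝒮L jL)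
    (pL : PL ⟶ X) (chartL : ∀ (U : X.Opens) (hU : IsAffineOpen U), (((pL ⁻¹ᵁ U : PL.Opens) : Scheme.{u}) ≅ Proj (𝒮L.deg U hU)))
    (hPL : RelProj.IsRelProj 𝒮L pL chartL)
    (h : RelProj.IsRelVeryAmple q L) :
    ∃ (E : Y.Modules) (_ : Coh.IsQCoh E) (_ : CohB1.IsFT E) (ι : E ⟶ (Scheme.Modules.pushforward q).obj L)
      (_ : ∀ U : Y.Opens, Function.Injective (ι.app U))
      (𝒯 : RelProj.QCGrAlg Y) (jE : E ⟶ 𝒯.toModule) (_ : RelProj.IsGrSymAlg E 𝒯 jE)
      (u : RelProj.QGrHom q 𝒯 𝒮L)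
      (_ : ∀ (U : Y.Opens) (x : Γ(E, U)), (u.app U).hom ((jE.app U) x) = (jL.app (q ⁻¹ᵁ U)) ((ι.app U) x)),
      (∀ x : X, ∃ (U : Y.Opens) (hU : IsAffineOpen U) (e : Γ(E, U)) (V : X.Opens) (hV : IsAffineOpen V)
          (hVU : V ≤ q ⁻¹ᵁ U), x ∈ V ∧
            ((𝒮L.deg V hV 1 : AddSubgroup (𝒮L.presheaf.obj (op V))) : Set (𝒮L.presheaf.obj (op V))) ⊆
              (Ideal.span {(u.appLE U V hVU).hom ((jE.app U) e)} : Set (𝒮L.presheaf.obj (op V)))) ∧
      ∀ (P : Scheme.{u}) (p : P ⟶ Y)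
          (chart : ∀ (U : Y.Opens) (hU : IsAffineOpen U), (((p ⁻¹ᵁ U : P.Opens) : Scheme.{u}) ≅ Proj (𝒯.deg U hU)))
          (_ : RelProj.IsRelProj 𝒯 p chart)
          (r : ((RelProj.domQ u pL chartL : PL.Opens) : Scheme.{u}) ⟶ P)
          (_ : RelProj.IsProjQMapOn u p chart pL chartL (RelProj.domQ u pL chartL) r),
        RelProj.domQ u pL chartL = ⊤ ∧ IsImmersion r := by
  haveI hc : CompactSpace Y := by
    rcases hYs with ⟨h, -⟩ | h
    · exact h
    · exact inferInstance
  haveI hqs : QuasiSeparatedSpace Y := by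
    rcases hYs with ⟨-, h⟩ | h
    · haveI := h
      exact inferInstance
    · refine ⟨fun U V _ _ _ _ => ?_⟩
      exact TopologicalSpace.NoetherianSpace.isCompact _
  haveI hq : L.IsQuasicoherent := hLq
  -- `q` is separated
  haveI hsep : IsSeparated q := by
    obtain ⟨E₀, hE₀, 𝒮₀, j₀, hj₀, P₀, p₀, chart₀, hP₀, O1₀, lam₀, hO1₀, i₀, hi₀, hip₀, -⟩ := h
    haveI := hi₀
    haveI : IsSeparated p₀ :=
      Groth.Agent.Lib.RelProj_helper3.of_chart @IsSeparated hP₀ fun U hU => inferInstance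
    rw [← hip₀]
    infer_instance
  haveI hE : ((Scheme.Modules.pushforward q).obj L).IsQuasicoherent :=
    QcqsLoc.isQuasicoherent_pushforward_qcqs q L
  obtain ⟨𝒜, jE, h𝒜⟩ := Groth.Agent.SymDeg.exists_grSymAlg ((Scheme.Modules.pushforward q).obj L)
  let σ : (Scheme.Modules.pullback q).obj ((Scheme.Modules.pushforward q).obj L) ⟶ L :=
    ((Scheme.Modules.pullbackPushforwardAdjunction q).homEquiv _ L).symm (𝟙 _)
  have hu : ∀ (U : Y.Opens) (x : Γ((Scheme.Modules.pushforward q).obj L, U)),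
      ((Groth.Agent.UPB.uOf q _ 𝒜 jE h𝒜 𝒮L L jL hjL σ).app U).hom ((jE.app U) x) =
        (jL.app (q ⁻¹ᵁ U)) x := by
    intro U x
    have h1 := Groth.Agent.UPB.uOf_j q _ 𝒜 jE h𝒜 𝒮L L jL hjL σ U (q ⁻¹ᵁ U) le_rfl x
    have h2 : QCohExtn.ap σ (q ⁻¹ᵁ U) (PBH8.cUV q _ le_rfl x) = x :=
      Groth.Agent.GrTw.adj_symm_cUV q (𝟙 ((Scheme.Modules.pushforward q).obj L)) U x
    rw [h2] at h1
    refine Eq.trans ?_ h1
    show _ = (𝒮L.presheaf.map (homOfLE (le_refl (q ⁻¹ᵁ U))).op).hom _
    have : (homOfLE (le_refl (q ⁻¹ᵁ U))).op = 𝟙 (op (q ⁻¹ᵁ U)) := rfl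
    rw [this, CategoryTheory.Functor.map_id]
    rfl
  obtain ⟨P, p, chart, hP⟩ := Groth.Agent.RelProjEx.exists_relProj 𝒜
  obtain ⟨r, hr⟩ := Groth.Agent.ProjQ.exists_projQMapOn
    (Groth.Agent.UPB.uOf q _ 𝒜 jE h𝒜 𝒮L L jL hjL σ) hP hPL
  obtain ⟨hdom, himm⟩ := Groth.Agent.S12686.result q L hL hLq 𝒮L jL hjL pL chartL hPL hE 𝒜 jE h𝒜
    _ hu p chart hP r hr h
  haveI : IsIso pL := Groth.Agent.SymInv.isIso_pL L 𝒮L jL hL hjL hPL
  have hsurj := Groth.Agent.VA91.hsurj_of_domQ_eq_top q _ 𝒜 jE h𝒜 L hL 𝒮L jL hjL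
    (Groth.Agent.UPB.uOf q _ 𝒜 jE h𝒜 𝒮L L jL hjL σ) hPL hdom
  obtain ⟨E, hEq, hEft, ι, hι, 𝒯', jE', hjE', u', hcompat, hsurj', hmod⟩ :=
    Groth.Agent.FTSys.exists_ft_sub_of_isImmersion q L hL hLq 𝒮L jL hjL pL chartL hPL _ hE 𝒜 jE
      h𝒜 _ hsurj p chart hP r hr himm
  exact ⟨E, hEq, hEft, ι, hι, 𝒯', jE', hjE', u', fun U x => (hcompat U x).trans (hu U _), hsurj',
    hmod⟩

end Groth.Agent.S12688
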