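import Groth.Statements.S12486
import Mathlib
import Groth.Agent.Lib.VA91e_helper5
import Groth.Agent.S12688

set_option autoImplicit false
universe u
open CategoryTheory CategoryTheory.Limits AlgebraicGeometry TopologicalSpace Opposite
open scoped HomogeneousIdeal
open EGA2

namespace Groth.Agent.S12486

/-- Let Y be a scheme which is either quasi-compact and separated or has Noetherian underlying space, q
: X → Y a morphism of finite type and L an invertible O_X-module which is very ample relative to q.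
Then the quasi-coherent module of the definition can be taken of finite type: there are a
quasi-coherent O_Y-module E of finite type, its graded symmetric algebra 𝒯 with projective bundle p
: P(E) = Proj(𝒯) → Y (given with its charts over affine opens) and fundamental sheaf O(1) (given
with its chart identifications), and an immersion i : X → P(E) with i ≫ p = q and L isomorphic to
i^*O(1). (The published statement phrases this condition through the morphism to P(E) attached to an
epimorphism q^*E → L, and adds a variant in which E is a submodule of q_*L; those forms are not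
stated here.) -/
theorem result {X Y : Scheme.{u}}
    (hY : (CompactSpace Y ∧ Y.IsSeparated) ∨ TopologicalSpace.NoetherianSpace Y) (q : X ⟶ Y) [QuasiCompact q]
    [LocallyOfFiniteType q] (L : X.Modules) (hL : PicF.IsInvertible L) (h : RelProj.IsRelVeryAmple q L) :
    ∃ (E : Y.Modules) (𝒯 : RelProj.QCGrAlg Y) (j : E ⟶ 𝒯.toModule) (P : Scheme.{u}) (p : P ⟶ Y)
      (chart : ∀ (U : Y.Opens) (hU : IsAffineOpen U), ((p ⁻¹ᵁ U : P.Opens) : Scheme.{u}) ≅ Proj (𝒯.deg U hU))
      (O1 : P.Modules)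
      (lam : ∀ (U : Y.Opens) (hU : IsAffineOpen U),
        O1 ⟶ (Scheme.Modules.pushforward (RelProj.emb p chart U hU)).obj (GrTwist.twist (𝒯.deg U hU) 1))
      (i : X ⟶ P),
      Coh.IsQCoh E ∧ CohB1.IsFT E ∧ RelProj.IsGrSymAlg E 𝒯 j ∧ RelProj.IsRelProj 𝒯 p chart ∧
        RelProj.IsRelTwist 𝒯 p chart 1 O1 lam ∧ IsImmersion i ∧ i ≫ p = q ∧
        Nonempty (L ≅ (Scheme.Modules.pullback i).obj O1) := by
  haveI hq : L.IsQuasicoherent := TensH8.isQuasicoherent_of_isInvertible hL
  obtain ⟨𝒮L, jL, hjL, PL, pL, chartL, hPL, -, -, -, -, -, -, -⟩ :=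
    Groth.Agent.PBundle.exists_projBundle L
  obtain ⟨E, hEq, hEft, ι, hι, 𝒯, jE, hjE, u, hcompat, hsurj, hmod⟩ :=
    Groth.Agent.S12688.result hY q L hL hq 𝒮L jL hjL pL chartL hPL h
  haveI : E.IsQuasicoherent := hEq
  obtain ⟨P, p, chart, hP⟩ := Groth.Agent.RelProjEx.exists_relProj 𝒯
  obtain ⟨r, hr⟩ := Groth.Agent.ProjQ.exists_projQMapOn u hP hPL
  obtain ⟨hdom, himm⟩ := hmod P p chart hP r hr
  have hsurjA : ∀ x : X, ∃ (U : Y.Opens) (hU : IsAffineOpen U) (e : 𝒯.presheaf.obj (op U))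
      (_ : e ∈ 𝒯.deg U hU 1) (V : X.Opens) (hV : IsAffineOpen V) (hVU : V ≤ q ⁻¹ᵁ U), x ∈ V ∧
        ((𝒮L.deg V hV 1 : AddSubgroup (𝒮L.presheaf.obj (op V))) :
          Set (𝒮L.presheaf.obj (op V))) ⊆
          (Ideal.span {(u.appLE U V hVU).hom e} : Set (𝒮L.presheaf.obj (op V))) := by
    intro x
    obtain ⟨U, hU, e, V, hV, hVU, hx, hsp⟩ := hsurj x
    exact ⟨U, hU, (jE.app U) e, hjE.2 U hU e, V, hV, hVU, hx, hsp⟩
  obtain ⟨𝒯', jT, hjT, PT, pT, chartT, hPT, O1T, lamT, hO1T, i, hi, hip, hiso⟩ :=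
    Groth.Agent.VA91.exists_data_of_isImmersion q L hL 𝒮L jL hjL pL chartL hPL 𝒯
      (Groth.Agent.PBProj.isGenDegOne_of_isGrSymAlg E 𝒯 jE hjE) u hsurjA p chart hP r hr himm
  exact ⟨Groth.Agent.PBProj.degMod 𝒯 1, 𝒯', jT, PT, pT, chartT, O1T, lamT, i,
    Groth.Agent.PBProj.isQuasicoherent_degMod 𝒯 1,
    Groth.Agent.PBProj.isFiniteType_degMod 𝒯 1
      (Groth.Agent.PBProj.isFTDeg_one_of_isGrSymAlg E 𝒯 jE hjE hEft),
    hjT, hPT, hO1T, hi, hip, hiso⟩

end Groth.Agent.S12486
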