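import Groth.Statements.S4419
import Mathlib
import Groth.Agent.S12484
import Groth.Agent.Lib.PBProj2_helper5
import Groth.Agent.Lib.ClProj4_helper5
import Groth.Agent.Lib.RelProj_helper3

set_option autoImplicit false
universe u
open CategoryTheory CategoryTheory.Limits AlgebraicGeometry
open EGA2

namespace Groth.Agent.S4419

/-- Let Y be a scheme which is either quasi-compact and separated or has a Noetherian underlying space,
and f : X → Y a morphism which is quasi-projective and proper. Then f is projective. -/
theorem result {X Y : Scheme.{u}}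
    (hY : (CompactSpace Y ∧ Y.IsSeparated) ∨ TopologicalSpace.NoetherianSpace Y) (f : X ⟶ Y)
    (hq : RelProj.IsQuasiProjective f) [IsProper f] : RelProj.IsProjective f := by
  obtain ⟨E, 𝒯, j, P, p, chart, i, hE, hFT, hj, hP, hi, hip⟩ :=
    Groth.Agent.S12484.result hY f hq
  haveI : E.IsQuasicoherent := hE
  have hproj : RelProj.IsProjective p :=
    ⟨𝒯, P, p, chart, Iso.refl P, Groth.Agent.PBProj.isGenDegOne_of_isGrSymAlg E 𝒯 j hj,
      Groth.Agent.PBProj.isFTDeg_one_of_isGrSymAlg E 𝒯 j hj hFT, hP, Category.id_comp _⟩
  haveI : IsSeparated p :=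
    Groth.Agent.Lib.RelProj_helper3.of_chart @IsSeparated hP fun U hU => inferInstance
  haveI := hi
  haveI : IsProper (i ≫ p) := by rw [hip]; infer_instance
  haveI : IsProper i := IsProper.of_comp i p
  haveI : IsClosedImmersion i := IsClosedImmersion.of_isPreimmersion i i.isClosedMap.isClosed_range
  rw [← hip]
  exact Groth.Agent.ClProj.isProjective_comp_of_isClosedImmersion i p hproj

end Groth.Agent.S4419
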