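import Groth.Statements.S4578
import Groth.Agent.Lib.JacLoc2_helper3
import Groth.Agent.Lib.GeomRegAdic_helper3
import Groth.Agent.S4573
-- import your own Groth.Agent.* helpers here

set_option autoImplicit false
universe u
open IsLocalRing

open EGA41

namespace Groth.Agent.S4578

/-- Let k₀ be a field, k an extension field of k₀ which is separable (formally smooth) over k₀, C a
k-algebra of finite type and p a prime ideal of C. The following are equivalent: C_p is formally
smooth over k₀ (discrete topologies); C_p is formally smooth over k₀ for the adic topology of its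
maximal ideal; C_f is formally smooth over k₀ for some f ∉ p; C_p is geometrically regular over k₀.
(The published statement adds that the set of primes p having these properties is open in Spec C;
that openness is not stated here.) -/
theorem result {k₀ k C : Type u} [Field k₀] [Field k] [Algebra k₀ k]
    [Algebra.FormallySmooth k₀ k] [CommRing C] [Algebra k C] [Algebra k₀ C] [IsScalarTower k₀ k C]
    [Algebra.FiniteType k C]
    (p : Ideal C) [p.IsPrime] :
    [Algebra.FormallySmooth k₀ (Localization.AtPrime p),
     CAlgX.IsAdicFormallySmooth k₀ (Localization.AtPrime p) (maximalIdeal (Localization.AtPrime p)),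
     ∃ f : C, f ∉ p ∧ Algebra.FormallySmooth k₀ (Localization.Away f),
     CAlg.IsGeometricallyRegular k₀ (Localization.AtPrime p)].TFAE := by
  classical
  obtain ⟨n, f, hf⟩ := Algebra.FiniteType.iff_quotient_mvPolynomial''.1 ‹Algebra.FiniteType k C›
  letI : Algebra (MvPolynomial (Fin n) k) C := f.toRingHom.toAlgebra
  haveI : IsScalarTower k (MvPolynomial (Fin n) k) C :=
    IsScalarTower.of_algebraMap_eq' f.comp_algebraMap.symm
  haveI : IsScalarTower k₀ (MvPolynomial (Fin n) k) C := IsScalarTower.of_algebraMap_eq' (by
    rw [IsScalarTower.algebraMap_eq k₀ k C, IsScalarTower.algebraMap_eq k₀ k (MvPolynomial (Fin n) k),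
      ← RingHom.comp_assoc, ← IsScalarTower.algebraMap_eq k (MvPolynomial (Fin n) k) C])
  haveI : Algebra.FormallySmooth k₀ (MvPolynomial (Fin n) k) :=
    Algebra.FormallySmooth.comp k₀ k _
  have hsurj : Function.Surjective (algebraMap (MvPolynomial (Fin n) k) C) := hf
  haveI : Module.Finite (MvPolynomial (Fin n) k)
      (RingHom.ker (algebraMap (MvPolynomial (Fin n) k) C)).Cotangent :=
    Module.Finite.of_surjective _
      (RingHom.ker (algebraMap (MvPolynomial (Fin n) k) C)).toCotangent_surjective
  have T := Groth.Agent.Lib.JacLocH3.tfae_main (A := k₀) hsurj p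
  haveI : IsNoetherianRing C := Algebra.FiniteType.isNoetherianRing k C
  haveI : IsNoetherianRing (Localization.AtPrime p) :=
    IsLocalization.isNoetherianRing p.primeCompl _ inferInstance
  tfae_have 1 → 2 := by
    intro h D _ _ N hN ψ _
    obtain ⟨χ, hχ⟩ := Algebra.FormallySmooth.comp_surjective k₀ (Localization.AtPrime p) N hN ψ
    exact ⟨χ, hχ⟩
  tfae_have 2 → 1 := fun h =>
    (T.out 1 0).1 (Groth.Agent.Lib.JacLoc2H3.injective_of_adic_localization hsurj p h)
  tfae_have 1 ↔ 3 := T.out 0 2
  tfae_have 2 → 4 := Groth.Agent.Lib.GeomRegAdicH3.isGeometricallyRegular_of_adic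
  tfae_have 4 → 2 := by
    intro h
    obtain ⟨q, hq⟩ := ExpChar.exists k₀
    haveI := hq
    exact (Groth.Agent.S4573.result q).2 (fun k' _ _ hfin _ => h k' hfin)
  tfae_finish

end Groth.Agent.S4578
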