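import Groth.Statements.S7014
import Mathlib
import Groth.Agent.Lib.DerCoprod2_helper9
import Groth.Agent.Lib.CompactFam_helper9
import Groth.Agent.Lib.HocolimCompact_helper9
import Groth.Agent.Lib.HocolimColim_helper9

set_option autoImplicit false
universe u
open CategoryTheory CategoryTheory.Limits
attribute [local instance] HasDerivedCategory.standard
open DRing

namespace Groth.Agent.S7014

/-- Let R be a commutative ring and K an object of D(R) such that for every sequence (E_n) of objects of
D(R) the canonical map from the direct sum of the Hom(K, E_n) to Hom(K, ⊕_n E_n) is bijective. Let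
L_0 → L_1 → L_2 → ... be a sequence of cochain complexes of R-modules with colimit L (computed
termwise). Then every morphism K → L in D(R) factors through L_n → L for some n, and a morphism K →
L_n in D(R) whose composite with L_n → L vanishes already has vanishing composite with L_n → L_m for
some m ≥ n. -/
theorem result (R : Type u) [CommRing R] (K : Dual.D R)
    (hK : ∀ (E : ℕ → Dual.D R) [HasCoproduct fun i : ULift.{u + 1} ℕ => E i.down],
      Function.Bijective (CohDer.homSumToHomCoprod K (fun i : ULift.{u + 1} ℕ => E i.down)))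
    (L : ℕ ⥤ DRing.Cx R) (c : Cocone L) (hc : IsColimit c) :
    (∀ x : K ⟶ DRing.toD c.pt, ∃ (n : ℕ) (y : K ⟶ DRing.toD (L.obj n)),
        y ≫ DerivedCategory.Q.map (c.ι.app n) = x) ∧
      (∀ (n : ℕ) (y : K ⟶ DRing.toD (L.obj n)), y ≫ DerivedCategory.Q.map (c.ι.app n) = 0 →
        ∃ (m : ℕ) (h : n ≤ m), y ≫ DerivedCategory.Q.map (L.map (homOfLE h)) = 0) := by
  haveI : HasExactColimitsOfShape ℕ (ModuleCat.{u} R) := by
    let e := ULiftHomULiftCategory.equiv.{u, u} ℕ
    haveI : IsFiltered (ULiftHom.{u} (ULift.{u} ℕ)) := IsFiltered.of_equivalence e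
    exact HasExactColimitsOfShape.of_domain_equivalence _ e.symm
  haveI : HasColimitsOfShape (Discrete ℕ) (Dual.D R) := DerCoprod.hasColimitsOfShape
  haveI : HasColimitsOfShape (Discrete (ULift.{u + 1} ℕ)) (Dual.D R) :=
    hasColimitsOfShape_of_equivalence (Discrete.equivalence Equiv.ulift.{u + 1}.symm)
  haveI : PreservesColimitsOfShape (Discrete (ULift.{u + 1} ℕ))
      (preadditiveCoyoneda.obj (Opposite.op K)) := by
    haveI : ∀ X : ULift.{u + 1} ℕ → Dual.D R, PreservesColimit (Discrete.functor X)
        (preadditiveCoyoneda.obj (Opposite.op K)) := fun X =>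
      CompactFam.preservesColimit X (hK (fun n => X ⟨n⟩))
    exact preservesColimitsOfShape_of_discrete _
  haveI : PreservesColimitsOfShape (Discrete ℕ) (preadditiveCoyoneda.obj (Opposite.op K)) :=
    preservesColimitsOfShape_of_equiv (Discrete.equivalence Equiv.ulift.{u + 1}) _
  haveI : PreservesColimit (Discrete.functor L.obj)
      (DerivedCategory.Q (C := ModuleCat.{u} R)) := DerCoprod.preservesColimit_Q L.obj
  have hL := HocolimColim.isHocolim L
  let ε : colimit L ≅ c.pt := (colimit.isColimit L).coconePointUniqueUpToIso hc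
  have hε : ∀ n, colimit.ι L n ≫ ε.hom = c.ι.app n := fun n =>
    (colimit.isColimit L).comp_coconePointUniqueUpToIso_hom hc n
  obtain ⟨h1, h2⟩ := HocolimCompact.colim_hom (C := K) (L ⋙ DerivedCategory.Q)
    (DerivedCategory.Q.obj (colimit L)) (fun n => DerivedCategory.Q.map (colimit.ι L n)) hL
  constructor
  · intro x
    obtain ⟨n, y, hy⟩ := h1 (x ≫ DerivedCategory.Q.map ε.inv)
    refine ⟨n, y, ?_⟩
    rw [← hε n, Functor.map_comp, ← Category.assoc, hy, Category.assoc, ← Functor.map_comp,
      ε.inv_hom_id, CategoryTheory.Functor.map_id, Category.comp_id]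
  · intro n y hy
    have hy' : y ≫ DerivedCategory.Q.map (colimit.ι L n) = 0 := by
      have : colimit.ι L n = c.ι.app n ≫ ε.inv := by
        rw [← hε n, Category.assoc, ε.hom_inv_id, Category.comp_id]
      rw [this, Functor.map_comp, ← Category.assoc, hy, zero_comp]
    obtain ⟨m, h, hm⟩ := h2 n y hy'
    exact ⟨m, h, hm⟩

end Groth.Agent.S7014
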