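import Groth.Statements.S18404
import Mathlib.Tactic
import Mathlib.LinearAlgebra.LinearIndependent.Lemmas

set_option autoImplicit false
universe u
open Cubic

namespace Groth.Agent.S18404


open MvPolynomial in
theorem eval_form (k : ℂ) (v : Fin 3 → ℂ) :
    eval v (HesseCubic.form k) = v 0 ^ 3 + v 1 ^ 3 + v 2 ^ 3 - 3 * k * (v 0 * v 1 * v 2) := by
  simp [HesseCubic.form]

/-- The key algebraic identity: squares of the minors of `[v w]` times `(1 - k^3) a b c` lie in the
ideal generated by the three flex equations. -/
theorem key_abc (k a b c p q r : ℂ)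
    (hE0 : a ^ 3 + b ^ 3 + c ^ 3 - 3 * k * (a * b * c) = 0)
    (hL : 3 * a ^ 2 * p + 3 * b ^ 2 * q + 3 * c ^ 2 * r - 3 * k * (b * c * p + a * c * q + a * b * r) = 0)
    (hQ : 3 * a * p ^ 2 + 3 * b * q ^ 2 + 3 * c * r ^ 2 - 3 * k * (a * q * r + b * p * r + c * p * q) = 0) :
    (b * r - c * q) ^ 2 * ((1 - k ^ 3) * (a * b * c)) = 0 ∧
    (c * p - a * r) ^ 2 * ((1 - k ^ 3) * (a * b * c)) = 0 ∧
    (a * q - b * p) ^ 2 * ((1 - k ^ 3) * (a * b * c)) = 0 := by
  refine ⟨?_, ?_, ?_⟩
  · linear_combination (1 / 216 : ℂ) * ((6 * ((2 * (3 * a * p ^ 2 + 3 * b * q ^ 2 + 3 * c * r ^ 2 - 3 * k * (a * q * r + b * p * r + c * p * q))) * (6 * a) - (6 * a * p - 3 * k * c * q - 3 * k * b * r) ^ 2) + 54 * k ^ 2 * (b * r - c * q) ^ 2) * hE0 + 2 * (2 * (6 * a ^ 2 - 6 * k * b * c) * (6 * a * p - 3 * k * c * q - 3 * k * b * r) - (2 * (3 * a ^ 2 * p + 3 * b ^ 2 * q + 3 * c ^ 2 * r - 3 * k * (b * c * p + a * c * q + a * b * r))) * (6 * a)) * hL - 2 * (6 * a ^ 2 - 6 * k * b * c) ^ 2 * hQ)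
  · linear_combination (1 / 216 : ℂ) * ((6 * ((2 * (3 * a * p ^ 2 + 3 * b * q ^ 2 + 3 * c * r ^ 2 - 3 * k * (a * q * r + b * p * r + c * p * q))) * (6 * b) - (-3 * k * c * p + 6 * b * q - 3 * k * a * r) ^ 2) + 54 * k ^ 2 * (c * p - a * r) ^ 2) * hE0 + 2 * (2 * (6 * b ^ 2 - 6 * k * a * c) * (-3 * k * c * p + 6 * b * q - 3 * k * a * r) - (2 * (3 * a ^ 2 * p + 3 * b ^ 2 * q + 3 * c ^ 2 * r - 3 * k * (b * c * p + a * c * q + a * b * r))) * (6 * b)) * hL - 2 * (6 * b ^ 2 - 6 * k * a * c) ^ 2 * hQ)
  · linear_combination (1 / 216 : ℂ) * ((6 * ((2 * (3 * a * p ^ 2 + 3 * b * q ^ 2 + 3 * c * r ^ 2 - 3 * k * (a * q * r + b * p * r + c * p * q))) * (6 * c) - (-3 * k * b * p - 3 * k * a * q + 6 * c * r) ^ 2) + 54 * k ^ 2 * (a * q - b * p) ^ 2) * hE0 + 2 * (2 * (6 * c ^ 2 - 6 * k * a * b) * (-3 * k * b * p - 3 * k * a * q + 6 * c * r) - (2 * (3 * a ^ 2 * p + 3 * b ^ 2 * q + 3 * c ^ 2 * r - 3 * k * (b * c * p + a * c * q + a * b * r))) * (6 * c)) * hL - 2 * (6 * c ^ 2 - 6 * k * a * b) ^ 2 * hQ)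

open MvPolynomial in
/-- Let k ∈ ℂ with k³ ≠ 1 and let h = X₀³ + X₁³ + X₂³ − 3k·X₀X₁X₂ be the Hesse cubic. For a nonzero
vector v with h(v) = 0, the corresponding point is a flex of the plane curve of h — some line
through it meets the curve there with multiplicity three, i.e. there is a vector w linearly
independent from v with h(v + t·w) = t³·h(w) for every t — exactly when v is a scalar multiple of
one of the nine vectors (0, 1, −γ), (−γ, 0, 1), (1, −γ, 0) with γ³ = 1. -/
theorem result (k : ℂ) (hk : k ^ 3 ≠ 1) (v : Fin 3 → ℂ) (hv : v ≠ 0)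
    (hCv : eval v (HesseCubic.form k) = 0) :
    (∃ w : Fin 3 → ℂ, LinearIndependent ℂ ![v, w] ∧
        ∀ t : ℂ, eval (v + t • w) (HesseCubic.form k) = t ^ 3 * eval w (HesseCubic.form k)) ↔
      ∃ γ c : ℂ, γ ^ 3 = 1 ∧ (v = c • ![0, 1, -γ] ∨ v = c • ![-γ, 0, 1] ∨ v = c • ![1, -γ, 0]) := by
  classical
  rw [eval_form] at hCv
  constructor
  · rintro ⟨w, hind, hflex⟩
    -- extract the linear and quadratic conditions from t = 1 and t = -1
    have h1 := hflex 1
    have hm1 := hflex (-1)
    rw [eval_form, eval_form] at h1 hm1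
    simp only [Pi.add_apply, Pi.smul_apply, smul_eq_mul] at h1 hm1
    set a := v 0 with ha
    set b := v 1 with hb
    set c := v 2 with hc
    set p := w 0 with hp
    set q := w 1 with hq
    set r := w 2 with hr
    have hL : 3 * a ^ 2 * p + 3 * b ^ 2 * q + 3 * c ^ 2 * r - 3 * k * (b * c * p + a * c * q + a * b * r) = 0 := by
      linear_combination (1 / 2 : ℂ) * h1 - (1 / 2 : ℂ) * hm1
    have hQ : 3 * a * p ^ 2 + 3 * b * q ^ 2 + 3 * c * r ^ 2 - 3 * k * (a * q * r + b * p * r + c * p * q) = 0 := by
      linear_combination (1 / 2 : ℂ) * h1 + (1 / 2 : ℂ) * hm1 - hCv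
    obtain ⟨k0, k1, k2⟩ := key_abc k a b c p q r hCv hL hQ
    have hk' : (1 - k ^ 3) ≠ 0 := fun h => hk (by linear_combination -h)
    -- some minor is nonzero
    have hminor : (b * r - c * q) ≠ 0 ∨ (c * p - a * r) ≠ 0 ∨ (a * q - b * p) ≠ 0 := by
      by_contra hall
      push Not at hall
      obtain ⟨m0, m1, m2⟩ := hall
      have hpair := LinearIndependent.pair_iff.mp hind
      have hvne : a ≠ 0 ∨ b ≠ 0 ∨ c ≠ 0 := by
        by_contra h0
        push Not at h0
        apply hv
        ext i
        fin_cases i
        · exact h0.1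
        · exact h0.2.1
        · exact h0.2.2
      rcases hvne with h | h | h
      · have := hpair p (-a) (by
          ext i
          fin_cases i
          · simp only [Pi.add_apply, Pi.smul_apply, smul_eq_mul, Pi.zero_apply]
            show p * v 0 + -a * w 0 = 0
            rw [← ha, ← hp]; ring
          · simp only [Pi.add_apply, Pi.smul_apply, smul_eq_mul, Pi.zero_apply]
            show p * v 1 + -a * w 1 = 0
            rw [← hb, ← hq]; linear_combination -m2
          · simp only [Pi.add_apply, Pi.smul_apply, smul_eq_mul, Pi.zero_apply]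
            show p * v 2 + -a * w 2 = 0
            rw [← hc, ← hr]; linear_combination m1)
        exact h (neg_eq_zero.mp this.2)
      · have := hpair q (-b) (by
          ext i
          fin_cases i
          · simp only [Pi.add_apply, Pi.smul_apply, smul_eq_mul, Pi.zero_apply]
            show q * v 0 + -b * w 0 = 0
            rw [← ha, ← hp]; linear_combination m2
          · simp only [Pi.add_apply, Pi.smul_apply, smul_eq_mul, Pi.zero_apply]
            show q * v 1 + -b * w 1 = 0
            rw [← hb, ← hq]; ring
          · simp only [Pi.add_apply, Pi.smul_apply, smul_eq_mul, Pi.zero_apply]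
            show q * v 2 + -b * w 2 = 0
            rw [← hc, ← hr]; linear_combination -m0)
        exact h (neg_eq_zero.mp this.2)
      · have := hpair r (-c) (by
          ext i
          fin_cases i
          · simp only [Pi.add_apply, Pi.smul_apply, smul_eq_mul, Pi.zero_apply]
            show r * v 0 + -c * w 0 = 0
            rw [← ha, ← hp]; linear_combination -m1
          · simp only [Pi.add_apply, Pi.smul_apply, smul_eq_mul, Pi.zero_apply]
            show r * v 1 + -c * w 1 = 0
            rw [← hb, ← hq]; linear_combination m0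
          · simp only [Pi.add_apply, Pi.smul_apply, smul_eq_mul, Pi.zero_apply]
            show r * v 2 + -c * w 2 = 0
            rw [← hc, ← hr]; ring)
        exact h (neg_eq_zero.mp this.2)
    have habc : a * b * c = 0 := by
      rcases hminor with h | h | h
      · have := mul_eq_zero.mp k0
        rcases this with h' | h'
        · exact absurd ((pow_eq_zero_iff (two_ne_zero)).mp h') h
        · exact (mul_eq_zero.mp h').resolve_left hk'
      · have := mul_eq_zero.mp k1
        rcases this with h' | h'
        · exact absurd ((pow_eq_zero_iff (two_ne_zero)).mp h') h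
        · exact (mul_eq_zero.mp h').resolve_left hk'
      · have := mul_eq_zero.mp k2
        rcases this with h' | h'
        · exact absurd ((pow_eq_zero_iff (two_ne_zero)).mp h') h
        · exact (mul_eq_zero.mp h').resolve_left hk'
    have hvext : ∀ x : Fin 3 → ℂ, x 0 = a → x 1 = b → x 2 = c → v = x := by
      intro x h0 h1 h2
      ext i
      fin_cases i
      · exact h0.symm
      · exact h1.symm
      · exact h2.symm
    rcases mul_eq_zero.mp habc with hab | hc0
    · rcases mul_eq_zero.mp hab with ha0 | hb0
      · -- a = 0 : v = b • (0, 1, -γ), γ = -c / b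
        have hbc : b ^ 3 + c ^ 3 = 0 := by rw [ha0] at hCv; linear_combination hCv
        have hb0 : b ≠ 0 := by
          intro hb0
          rw [hb0] at hbc
          have hc0 : c = 0 := by
            have : c ^ 3 = 0 := by linear_combination hbc
            exact pow_eq_zero_iff (three_ne_zero) |>.mp this
          apply hv
          rw [hvext 0 (by simp [ha0]) (by simp [hb0]) (by simp [hc0])]
        refine ⟨-c / b, b, ?_, Or.inl ?_⟩
        · field_simp
          linear_combination -hbc
        · apply hvext
          · simp [ha0]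
          · simp
          · simp; field_simp
      · -- b = 0 : v = c • (-γ, 0, 1), γ = -a / c
        have hac : a ^ 3 + c ^ 3 = 0 := by rw [hb0] at hCv; linear_combination hCv
        have hc0 : c ≠ 0 := by
          intro hc0
          rw [hc0] at hac
          have ha0 : a = 0 := by
            have : a ^ 3 = 0 := by linear_combination hac
            exact pow_eq_zero_iff (three_ne_zero) |>.mp this
          apply hv
          rw [hvext 0 (by simp [ha0]) (by simp [hb0]) (by simp [hc0])]
        refine ⟨-a / c, c, ?_, Or.inr (Or.inl ?_)⟩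
        · field_simp
          linear_combination -hac
        · apply hvext
          · simp; field_simp
          · simp [hb0]
          · simp
    · -- c = 0 : v = a • (1, -γ, 0), γ = -b / a
      have hab : a ^ 3 + b ^ 3 = 0 := by rw [hc0] at hCv; linear_combination hCv
      have ha0 : a ≠ 0 := by
        intro ha0
        rw [ha0] at hab
        have hb0 : b = 0 := by
          have : b ^ 3 = 0 := by linear_combination hab
          exact pow_eq_zero_iff (three_ne_zero) |>.mp this
        apply hv
        rw [hvext 0 (by simp [ha0]) (by simp [hb0]) (by simp [hc0])]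
      refine ⟨-b / a, a, ?_, Or.inr (Or.inr ?_)⟩
      · field_simp
        linear_combination -hab
      · apply hvext
        · simp
        · simp; field_simp
        · simp [hc0]
  · rintro ⟨γ, s, hγ, hcase⟩
    have hs : s ≠ 0 := by
      rintro rfl
      apply hv
      rcases hcase with h | h | h <;> simpa using h
    rcases hcase with h | h | h
    · refine ⟨![1, -k * γ, 0], ?_, ?_⟩
      · rw [LinearIndependent.pair_iff]
        intro x y hxy
        have h0 := congrFun hxy 0
        have h1 := congrFun hxy 1
        rw [h] at h0 h1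
        simp at h0 h1
        subst h0
        simp at h1
        exact ⟨h1.resolve_right hs, rfl⟩
      · intro t
        rw [eval_form, eval_form, h]
        simp
        linear_combination (-(s ^ 3)) * hγ
    · refine ⟨![0, 1, -k * γ], ?_, ?_⟩
      · rw [LinearIndependent.pair_iff]
        intro x y hxy
        have h1 := congrFun hxy 1
        have h2 := congrFun hxy 2
        rw [h] at h1 h2
        simp at h1 h2
        subst h1
        simp at h2
        exact ⟨h2.resolve_right hs, rfl⟩
      · intro t
        rw [eval_form, eval_form, h]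
        simp
        linear_combination (-(s ^ 3)) * hγ
    · refine ⟨![-k * γ, 0, 1], ?_, ?_⟩
      · rw [LinearIndependent.pair_iff]
        intro x y hxy
        have h0 := congrFun hxy 0
        have h2 := congrFun hxy 2
        rw [h] at h0 h2
        simp at h0 h2
        subst h2
        simp at h0
        exact ⟨h0.resolve_right hs, rfl⟩
      · intro t
        rw [eval_form, eval_form, h]
        simp
        linear_combination (-(s ^ 3)) * hγ

end Groth.Agent.S18404
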