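import Groth.Statements.S4442
import Groth.Agent.Lib.SchFT_helper8
import Groth.Agent.Lib.DimFT2_helper8

set_option autoImplicit false
universe u
open CategoryTheory CategoryTheory.Limits AlgebraicGeometry
attribute [local instance] Curv2.resAlgebra
open EGA2

namespace Groth.Agent.S4442

/-- (a) ⇔ (b): let X be a scheme of finite type over a field k. The residue fields of the generic points
of the irreducible components of X all have transcendence degree one over k if and only if the local
ring of X at every closed point has dimension one. (The published statement has a third equivalent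
condition: the irreducible closed subsets of X other than the irreducible components are exactly the
closed points of X. This row states only the equivalence of the first two.) -/
theorem result (k : Type u) [Field k] (X : Scheme.{u})
    [X.Over (Spec (CommRingCat.of k))] [LocallyOfFiniteType (X ↘ (Spec (CommRingCat.of k)))]
    [QuasiCompact (X ↘ (Spec (CommRingCat.of k)))] :
    (∀ x : X, closure ({x} : Set X) ∈ irreducibleComponents (X : Type u) → Algebra.trdeg k (X.residueField x) = 1) ↔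
      ∀ x : X, IsClosed ({x} : Set X) → ringKrullDim (X.presheaf.stalk x) = 1 := by
  classical
  haveI : CompactSpace X :=
    QuasiCompact.compactSpace_of_compactSpace (X ↘ (Spec (CommRingCat.of k)))
  -- maximal points in an affine open correspond to minimal primes
  have key : ∀ (U : X.Opens) (hU : IsAffineOpen U) (η : X) (hηU : η ∈ U),
      (∀ z : X, z ⤳ η → z = η) ↔ (hU.primeIdealOf ⟨η, hηU⟩).asIdeal ∈ minimalPrimes Γ(X, U) := by
    intro U hU η hηU
    constructor
    · intro hmax
      refine ⟨⟨(hU.primeIdealOf ⟨η, hηU⟩).2, bot_le⟩, ?_⟩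
      rintro q' ⟨hq'p, -⟩ hle
      have hzU : hU.fromSpec ⟨q', hq'p⟩ ∈ U := Groth.Agent.SchFTH8.fromSpec_mem hU _
      have hpz := Groth.Agent.SchFTH8.primeIdealOf_fromSpec hU ⟨q', hq'p⟩ hzU
      have hsp : hU.fromSpec ⟨q', hq'p⟩ ⤳ η := by
        rw [Groth.Agent.SchFTH8.specializes_iff_primeIdealOf_le hU _ _ hzU hηU, hpz]
        exact hle
      have hz := hmax _ hsp
      have h3 : hU.primeIdealOf ⟨η, hηU⟩ = ⟨q', hq'p⟩ := by
        rw [← hpz]
        congr 1
        exact Subtype.ext hz.symm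
      rw [h3]
    · intro hmin z hz
      have hzU : z ∈ U := hz.mem_open U.2 hηU
      have hle := (Groth.Agent.SchFTH8.specializes_iff_primeIdealOf_le hU z η hzU hηU).mp hz
      have hge : (hU.primeIdealOf ⟨η, hηU⟩).asIdeal ≤ (hU.primeIdealOf ⟨z, hzU⟩).asIdeal :=
        hmin.2 ⟨(hU.primeIdealOf ⟨z, hzU⟩).2, bot_le⟩ hle
      have heq : hU.primeIdealOf ⟨z, hzU⟩ = hU.primeIdealOf ⟨η, hηU⟩ :=
        PrimeSpectrum.ext (le_antisymm hle hge)
      have := congrArg hU.fromSpec heq
      rw [hU.fromSpec_primeIdealOf, hU.fromSpec_primeIdealOf] at this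
      exact this
  constructor
  · intro H x hxc
    obtain ⟨_, ⟨U, hU, rfl⟩, hxU, -⟩ :=
      X.isBasis_affineOpens.exists_subset_of_mem_open (Set.mem_univ x) isOpen_univ
    letI := Groth.Agent.SchFTH8.secAlgebra k X U
    haveI := Groth.Agent.SchFTH8.finiteType_sec k X U hU
    haveI hm : (hU.primeIdealOf ⟨x, hxU⟩).asIdeal.IsMaximal :=
      hU.primeIdealOf_isMaximal_of_isClosed ⟨x, hxU⟩ hxc
    obtain ⟨q, hqmin, hqm, hqp, n, h1, h2⟩ :=
      Groth.Agent.DimFT2H8.exists_minimalPrimes_trdeg_eq_height k Γ(X, U)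
        (hU.primeIdealOf ⟨x, hxU⟩).asIdeal
    have hηU : hU.fromSpec ⟨q, hqp⟩ ∈ U := Groth.Agent.SchFTH8.fromSpec_mem hU _
    have hpη := Groth.Agent.SchFTH8.primeIdealOf_fromSpec hU ⟨q, hqp⟩ hηU
    have hηmax : ∀ z : X, z ⤳ hU.fromSpec ⟨q, hqp⟩ → z = hU.fromSpec ⟨q, hqp⟩ := by
      rw [key U hU _ hηU, hpη]
      exact hqmin
    have hcomp := (Groth.Agent.SchFTH8.closure_mem_irreducibleComponents_iff _).mpr hηmax
    have htr := H _ hcomp
    have htr2 := Groth.Agent.SchFTH8.trdeg_residueField k hU _ hηU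
    rw [htr, hpη] at htr2
    have hn : n = 1 := by
      have : ((n : ℕ) : Cardinal) = 1 := by rw [← h1]; exact htr2.symm
      exact_mod_cast this
    rw [Groth.Agent.SchFTH8.ringKrullDim_stalk_eq_height hU x hxU, h2, hn]
    rfl
  · intro H η hcomp
    have hηmax := (Groth.Agent.SchFTH8.closure_mem_irreducibleComponents_iff η).mp hcomp
    obtain ⟨x, hxη, hxc⟩ := (isClosed_closure (s := ({η} : Set X))).exists_closed_singleton
      ⟨η, subset_closure rfl⟩
    have hsp : η ⤳ x := specializes_iff_mem_closure.mpr hxη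
    obtain ⟨_, ⟨U, hU, rfl⟩, hxU, -⟩ :=
      X.isBasis_affineOpens.exists_subset_of_mem_open (Set.mem_univ x) isOpen_univ
    have hηU : η ∈ U := hsp.mem_open U.2 hxU
    letI := Groth.Agent.SchFTH8.secAlgebra k X U
    haveI := Groth.Agent.SchFTH8.finiteType_sec k X U hU
    haveI hm : (hU.primeIdealOf ⟨x, hxU⟩).asIdeal.IsMaximal :=
      hU.primeIdealOf_isMaximal_of_isClosed ⟨x, hxU⟩ hxc
    have hqm : (hU.primeIdealOf ⟨η, hηU⟩).asIdeal ≤ (hU.primeIdealOf ⟨x, hxU⟩).asIdeal :=
      (Groth.Agent.SchFTH8.specializes_iff_primeIdealOf_le hU η x hηU hxU).mp hsp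
    obtain ⟨n, h1, h2⟩ := Groth.Agent.DimFT2H8.exists_trdeg_le_height k Γ(X, U)
      (hU.primeIdealOf ⟨η, hηU⟩).asIdeal (hU.primeIdealOf ⟨x, hxU⟩).asIdeal hqm
    have hdim := H x hxc
    rw [Groth.Agent.SchFTH8.ringKrullDim_stalk_eq_height hU x hxU] at hdim
    have hdim' : (hU.primeIdealOf ⟨x, hxU⟩).asIdeal.height = 1 := by exact_mod_cast hdim
    rw [Groth.Agent.SchFTH8.trdeg_residueField k hU η hηU, h1]
    rw [hdim'] at h2
    have hn1 : n ≤ 1 := by exact_mod_cast h2
    have hn0 : n ≠ 0 := by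
      rintro rfl
      obtain ⟨n', h1', h2'⟩ := Groth.Agent.DimFT2H8.exists_trdeg_eq_height_map k Γ(X, U)
        (hU.primeIdealOf ⟨η, hηU⟩).asIdeal (hU.primeIdealOf ⟨x, hxU⟩).asIdeal hqm
      have hn' : n' = 0 := by
        have : ((n' : ℕ) : Cardinal) = ((0 : ℕ) : Cardinal) := by rw [← h1', ← h1]
        exact_mod_cast this
      rw [hn'] at h2'
      have hbot : ((hU.primeIdealOf ⟨x, hxU⟩).asIdeal.map
          (Ideal.Quotient.mk (hU.primeIdealOf ⟨η, hηU⟩).asIdeal)) = ⊥ :=
        Ideal.height_eq_zero_iff_eq_bot.mp (by exact_mod_cast h2')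
      rw [Ideal.map_eq_bot_iff_le_ker, Ideal.mk_ker] at hbot
      have heq : (hU.primeIdealOf ⟨x, hxU⟩).asIdeal = (hU.primeIdealOf ⟨η, hηU⟩).asIdeal :=
        le_antisymm hbot hqm
      have hmin := (key U hU η hηU).mp hηmax
      have h0 : (hU.primeIdealOf ⟨η, hηU⟩).asIdeal.height = 0 := Ideal.height_eq_zero_iff.mpr hmin
      rw [heq, h0] at hdim'
      exact zero_ne_one hdim'
    have : n = 1 := by omega
    rw [this]
    rfl

end Groth.Agent.S4442
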