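import Groth.Statements.S2344
import Mathlib
import Groth.Agent.Lib.RatExt2_helper7
import Groth.Agent.Lib.ProperBirat2_helper7

set_option autoImplicit false
universe u
open CategoryTheory CategoryTheory.Limits AlgebraicGeometry
open EGA2

namespace Groth.Agent.S2344

/-- Let X be a normal algebraic curve over k (separated, of finite type, nonempty, local rings at closed
points of dimension one, all local rings integrally closed domains), Y proper over k, U a dense open
of X and g : U → Y a k-morphism. Then g extends uniquely to a k-morphism X → Y. -/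
theorem result (k : Type u) [Field k] (X Y : Scheme.{u}) [X.Over (Spec (CommRingCat.of k))] [Y.Over (Spec (CommRingCat.of k))]
    [LocallyOfFiniteType (X ↘ (Spec (CommRingCat.of k)))] [QuasiCompact (X ↘ (Spec (CommRingCat.of k)))] [IsSeparated (X ↘ (Spec (CommRingCat.of k)))] [Nonempty X] (hcurve : (∀ x : X, IsClosed ({x} : Set X) → ringKrullDim (X.presheaf.stalk x) = 1)) (hnorm : Pi1.IsNormalScheme X)
    [IsProper (Y ↘ (Spec (CommRingCat.of k)))] (U : X.Opens) (hU : Dense (U : Set X)) (g : (U : Scheme.{u}) ⟶ Y)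
    (hg : g ≫ (Y ↘ (Spec (CommRingCat.of k))) = U.ι ≫ (X ↘ (Spec (CommRingCat.of k)))) :
    ∃! g' : X ⟶ Y, U.ι ≫ g' = g ∧ g' ≫ (Y ↘ (Spec (CommRingCat.of k))) = X ↘ (Spec (CommRingCat.of k)) := by
  haveI : IsLocallyNoetherian X :=
    LocallyOfFiniteType.isLocallyNoetherian (X ↘ (Spec (CommRingCat.of k)))
  haveI : CompactSpace X :=
    QuasiCompact.compactSpace_of_compactSpace (X ↘ (Spec (CommRingCat.of k)))
  haveI : ∀ x : X, _root_.IsReduced (X.presheaf.stalk x) := fun x => by
    haveI := (hnorm x).1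
    infer_instance
  haveI : IsReduced X := isReduced_of_isReduced_stalk X
  haveI : IsDominant U.ι := by
    constructor
    change Dense (Set.range U.ι)
    rw [Scheme.Opens.range_ι]
    exact hU
  obtain ⟨U', hUU', g', hg'p, hg'ext, hcl⟩ :=
    Groth.Agent.Lib.RatExt2H7.exists_extension_of_forall_valuationRing
      (Y ↘ (Spec (CommRingCat.of k))) (X ↘ (Spec (CommRingCat.of k)))
      (fun x => IsClosed ({x} : Set X))
      (fun x hx => by
        haveI := (hnorm x).1
        haveI := (hnorm x).2
        exact ⟨(hnorm x).1,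
          Groth.Agent.Lib.ProperBirat2H7.valuationRing_of_ringKrullDim_le_one _
            (le_of_eq (hcurve x hx))⟩)
      U hU g hg
  have hU'top : U' = ⊤ := by
    by_contra hne
    have hne' : ((U' : Set X)ᶜ).Nonempty := by
      rw [Set.nonempty_compl]
      intro h
      exact hne (TopologicalSpace.Opens.ext h)
    obtain ⟨x, hx1, hx2⟩ := U'.2.isClosed_compl.exists_closed_singleton hne'
    exact hx1 (hcl x hx2)
  subst hU'top
  have hUι : X.homOfLE hUU' ≫ (⊤ : X.Opens).ι = U.ι := Scheme.homOfLE_ι _ _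
  haveI : IsIso (⊤ : X.Opens).ι := by
    change IsIso X.topIso.hom
    infer_instance
  refine ⟨inv (⊤ : X.Opens).ι ≫ g', ⟨?_, ?_⟩, ?_⟩
  · rw [← hUι, Category.assoc, IsIso.hom_inv_id_assoc, hg'ext]
  · rw [Category.assoc, hg'p, IsIso.inv_hom_id_assoc]
  · rintro g₂ ⟨h3, h4⟩
    apply ext_of_isDominant_of_isSeparated (Y ↘ (Spec (CommRingCat.of k))) ?_ U.ι ?_
    · rw [h4, Category.assoc, hg'p, IsIso.inv_hom_id_assoc]
    · rw [h3, ← hUι, Category.assoc, IsIso.hom_inv_id_assoc, hg'ext]

end Groth.Agent.S2344
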