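import Groth.Statements.S4445
import Mathlib
import Groth.Agent.Lib.OverField_helper7
import Groth.Agent.S2344

set_option autoImplicit false
universe u
open CategoryTheory CategoryTheory.Limits AlgebraicGeometry
attribute [local instance] Curv2.stalkAlgebra
open EGA2

namespace Groth.Agent.S4445

/-- Let X be a normal irreducible algebraic curve over a field k with field of rational functions K, and
Y an integral complete (proper over k) algebraic curve with field of rational functions L. Dominant
k-morphisms X ⟶ Y correspond bijectively to k-embeddings L → K: for every k-algebra homomorphism φ :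
L → K there is exactly one k-morphism u : X ⟶ Y mapping the generic point of X to the generic point
of Y and inducing φ on the stalks at the generic points. -/
theorem result (k : Type u) [Field k] (X Y : Scheme.{u})
    [X.Over (Spec (CommRingCat.of k))] [LocallyOfFiniteType (X ↘ (Spec (CommRingCat.of k)))]
    [QuasiCompact (X ↘ (Spec (CommRingCat.of k)))] [IsSeparated (X ↘ (Spec (CommRingCat.of k)))] [IsIntegral X]
    (hX : ∀ x : X, IsClosed ({x} : Set X) → ringKrullDim (X.presheaf.stalk x) = 1) (hnorm : Pi1.IsNormalScheme X)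
    [Y.Over (Spec (CommRingCat.of k))] [IsProper (Y ↘ (Spec (CommRingCat.of k)))] [IsIntegral Y]
    (hY : ∀ y : Y, IsClosed ({y} : Set Y) → ringKrullDim (Y.presheaf.stalk y) = 1)
    (φ : Y.functionField →ₐ[k] X.functionField) :
    ∃! u : X ⟶ Y, u ≫ (Y ↘ (Spec (CommRingCat.of k))) = X ↘ (Spec (CommRingCat.of k)) ∧
      ∃ hu : u.base (genericPoint X) = genericPoint Y,
        (Y.presheaf.stalkSpecializes (specializes_of_eq hu) ≫ u.stalkMap (genericPoint X)).hom = (φ : Y.functionField →+* X.functionField) := by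
  haveI : Nonempty X := inferInstance
  haveI : IsDominant (X.fromSpecStalk (genericPoint X)) :=
    Groth.Agent.Lib.OverFieldH7.isDominant_fromSpecStalk_genericPoint X
  let φ' : Y.presheaf.stalk (genericPoint Y) ⟶ X.presheaf.stalk (genericPoint X) :=
    CommRingCat.ofHom (φ : Y.functionField →+* X.functionField)
  have hg₀ : (Spec.map φ' ≫ Y.fromSpecStalk (genericPoint Y)) ≫ (Y ↘ (Spec (CommRingCat.of k))) =
      X.fromSpecStalk (genericPoint X) ≫ (X ↘ (Spec (CommRingCat.of k))) := by
    rw [Category.assoc, Groth.Agent.Lib.OverFieldH7.fromSpecStalk_over,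
      Groth.Agent.Lib.OverFieldH7.fromSpecStalk_over, ← Spec.map_comp]
    congr 1
    ext c
    exact φ.commutes c
  obtain ⟨U, hξU, f, hf1, hf2⟩ := spread_out_of_isGermInjective'
    (X ↘ (Spec (CommRingCat.of k))) (Y ↘ (Spec (CommRingCat.of k))) (x := genericPoint X)
    (Spec.map φ' ≫ Y.fromSpecStalk (genericPoint Y)) hg₀
  have hUd : Dense (U : Set X) := U.2.dense ⟨genericPoint X, hξU⟩
  obtain ⟨u, ⟨hu1, hu2⟩, -⟩ := Groth.Agent.S2344.result k X Y hX hnorm U hUd f hf2
  have hkey : X.fromSpecStalk (genericPoint X) ≫ u =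
      Spec.map φ' ≫ Y.fromSpecStalk (genericPoint Y) := by
    rw [hf1, ← hu1, ← Category.assoc, Scheme.Opens.fromSpecStalkOfMem_ι]
  have hiff := fun (v : X ⟶ Y) => Groth.Agent.Lib.OverFieldH7.generic_stalk_iff v φ'
  refine ⟨u, ⟨hu2, ?_⟩, ?_⟩
  · obtain ⟨hu, hst⟩ := (hiff u).mpr hkey
    exact ⟨hu, by rw [hst]; rfl⟩
  · rintro v ⟨hv2, hv, hvst⟩
    have hkeyv : X.fromSpecStalk (genericPoint X) ≫ v =
        Spec.map φ' ≫ Y.fromSpecStalk (genericPoint Y) :=
      (hiff v).mp ⟨hv, CommRingCat.hom_ext hvst⟩
    exact ext_of_isDominant_of_isSeparated (Y ↘ (Spec (CommRingCat.of k))) (hv2.trans hu2.symm)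
      (X.fromSpecStalk (genericPoint X)) (hkeyv.trans hkey.symm)

end Groth.Agent.S4445
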