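import Groth.Statements.S1497
import Mathlib
import Groth.Agent.Lib.VAmpPn14_helper5

set_option autoImplicit false
universe u
attribute [local instance] HasDerivedCategory.standard
open FlatMor

namespace Groth.Agent.S1497

open AlgebraicGeometry CategoryTheory Limits in
/-- Let S be a scheme with an ample invertible sheaf and f : X → S a morphism. Then f is a quasi-compact
immersion into some projective space P^n_S over S if and only if f is of finite type and X has an
ample invertible sheaf. -/
theorem result {X S : Scheme.{u}} (hS : ∃ N : S.Modules, CohB1.IsAmple N) (f : X ⟶ S) :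
    (∃ (n : ℕ) (i : X ⟶ CohB1.ProjSpaceOver n S), IsImmersion i ∧ QuasiCompact i ∧ i ≫ pullback.snd (CohB1.ProjSpace.toSpec n (ULift.{u} ℤ)) (specULiftZIsTerminal.from S) = f) ↔
      (LocallyOfFiniteType f ∧ QuasiCompact f ∧ ∃ L : X.Modules, CohB1.IsAmple L) := by
  obtain ⟨N, hN⟩ := hS
  constructor
  · rintro ⟨n, i, hi, hqc, rfl⟩
    haveI := hi
    haveI := hqc
    haveI : IsProper (CohB1.ProjSpaceOver.toBase n S) :=
      Groth.Agent.Lib.ProjSpaceProperH4.isProper_toBase n S
    have h1 : LocallyOfFiniteType (i ≫ CohB1.ProjSpaceOver.toBase n S) := inferInstance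
    have h2 : QuasiCompact (i ≫ CohB1.ProjSpaceOver.toBase n S) := inferInstance
    exact ⟨h1, h2, Groth.Agent.VAmpPn.exists_isAmple_of_immersion hN i⟩
  · rintro ⟨hlft, hqc, L, hL⟩
    haveI := hlft
    haveI := hqc
    obtain ⟨r, i, hi, hiqc, hif⟩ := Groth.Agent.VAmpPn.exists_immersion_of_isRelAmple f hN
      (Groth.Agent.VAmpPn.isRelAmple_of_isAmple f hL)
    exact ⟨r, i, hi, hiqc, hif⟩

end Groth.Agent.S1497
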