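import Groth.Statements.S5082
import Mathlib
import Groth.Agent.Lib.Mero_helper4
import Groth.Agent.Lib.MeroDepth_helper5
import Groth.Agent.Lib.Depth_helper5

set_option autoImplicit false
universe u
open CategoryTheory CategoryTheory.Limits AlgebraicGeometry TopologicalSpace
open Mero

namespace Groth.Agent.S5082

open Groth.Agent.Lib.Mero_helper4 in
theorem nzd_equiv {R S : Type u} [CommRing R] [CommRing S] (e : R ≃+* S) {r : R}
    (hr : r ∈ nonZeroDivisors R) : e r ∈ nonZeroDivisors S := by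
  have := MulEquivClass.map_nonZeroDivisors (M₀ := R) (S := S) e
  rw [← this]
  exact ⟨r, hr, rfl⟩

theorem depth_zero_iff (A : Type u) [CommRing A] [IsLocalRing A] :
    LocCoh.depth A A = 0 ↔ ∀ t ∈ nonZeroDivisors A, IsUnit t := by
  have hm : IsLocalRing.maximalIdeal A • (⊤ : Submodule A A) ≠ ⊤ := by
    intro h
    have h1 : IsLocalRing.maximalIdeal A • (⊤ : Submodule A A) = IsLocalRing.maximalIdeal A := by
      show IsLocalRing.maximalIdeal A • (⊤ : Ideal A) = IsLocalRing.maximalIdeal A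
      rw [smul_eq_mul, Ideal.mul_top]
    rw [h1] at h
    exact (IsLocalRing.maximalIdeal.isMaximal A).ne_top h
  have key : (1 ≤ LocCoh.depth A A) ↔ ∃ x ∈ IsLocalRing.maximalIdeal A, IsSMulRegular A x := by
    unfold LocCoh.depth
    rw [Groth.Agent.DepthLib.one_le_idealDepth_iff]
    constructor
    · rintro (h | h)
      · exact absurd h hm
      · exact h
    · intro h
      exact Or.inr h
  constructor
  · intro h0 t ht
    by_contra hu
    have h1 : 1 ≤ LocCoh.depth A A :=
      key.mpr ⟨t, (IsLocalRing.mem_maximalIdeal t).mpr hu,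
        Groth.Agent.MeroDepth.isSMulRegular_of_mem_nzd ht⟩
    rw [h0] at h1
    exact absurd h1 (by norm_num)
  · intro h
    by_contra h0
    have h1 : 1 ≤ LocCoh.depth A A := ENat.one_le_iff_ne_zero.mpr h0
    obtain ⟨x, hx, hreg⟩ := key.mp h1
    have hnzd : x ∈ nonZeroDivisors A := by
      rw [mem_nonZeroDivisors_iff_left]
      intro c hc
      exact hreg (show x • c = x • 0 by rw [smul_eq_mul, smul_eq_mul, hc, mul_zero])
    exact ((IsLocalRing.mem_maximalIdeal x).mp hx) (h x hnzd)

theorem eq_top_of_mem (A : Type u) [CommRing A] [IsLocalRing A]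
    (U : (Spec (CommRingCat.of A)).Opens)
    (h : (IsLocalRing.closedPoint A : Spec (CommRingCat.of A)) ∈ U) : U = ⊤ :=
  (IsLocalRing.closedPoint_mem_iff (R := A) U).mp h

open Groth.Agent.Lib.Mero_helper4 in
theorem exists_toK (A : Type u) [CommRing A] [IsLocalRing A]
    (hA : ∀ t ∈ nonZeroDivisors A, IsUnit t)
    (φ : Γ(Mero.kmod (Spec (CommRingCat.of A)), ⊤)) :
    ∃ c : Γ(Spec (CommRingCat.of A), ⊤), φ = Mero.toK (Spec (CommRingCat.of A)) ⊤ c := by
  obtain ⟨V, hxV, i, a, b, hab⟩ := φ.2 ⟨(IsLocalRing.closedPoint A : Spec (CommRingCat.of A)),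
    Opens.mem_top _⟩
  obtain rfl := eq_top_of_mem A V hxV
  have hb : IsUnit (b : Γ(Spec (CommRingCat.of A), ⊤)) := by
    have h1 := Groth.Agent.MeroDepth.nzd_of_mem_regSub b.2
    have h2 := nzd_equiv (Scheme.ΓSpecIso (CommRingCat.of A)).commRingCatIsoToRingEquiv h1
    have h3 := hA _ h2
    exact (isUnit_map_iff (Scheme.ΓSpecIso (CommRingCat.of A)).commRingCatIsoToRingEquiv _).mp h3
  obtain ⟨b', hb'⟩ := hb.exists_right_inv
  refine ⟨a * b', ?_⟩
  apply kmod_ext
  intro y
  have h1 := hab y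
  have h2 : φ.1 y = LocalizedModule.mk ((Spec (CommRingCat.of A)).presheaf.germ ⊤ y.1 y.2 a)
      (Mero.regGerm y b) := h1
  rw [h2, Mero.toK_apply, mk_eq_mk_iff]
  show _ * (1 : (Spec (CommRingCat.of A)).presheaf.stalk y.1) =
    _ * (Spec (CommRingCat.of A)).presheaf.germ ⊤ y.1 y.2 b.1
  rw [mul_one, ← map_mul, mul_assoc, mul_comm b', hb', mul_one]

/-- Let A be a Noetherian local ring. Then the group of divisors of Spec A is trivial (every divisor
equals the unit divisor, divisors being written multiplicatively) if and only if A has depth 0, that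
is, if and only if every element of the maximal ideal of A is a zero-divisor. -/
theorem result (A : Type u) [CommRing A] [IsNoetherianRing A] [IsLocalRing A] :
    (∀ D : Mero.Divisor (Spec (CommRingCat.of A)), D = 1) ↔ LocCoh.depth A A = 0 := by
  rw [depth_zero_iff]
  constructor
  · -- all divisors trivial ⇒ every nonzerodivisor is a unit
    intro hD t ht
    have hs : (Scheme.ΓSpecIso (CommRingCat.of A)).commRingCatIsoToRingEquiv.symm t ∈
        nonZeroDivisors Γ(Spec (CommRingCat.of A), ⊤) := nzd_equiv _ ht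
    have hreg := Groth.Agent.Lib.Mero_helper4.mem_regSub_of_mem_nonZeroDivisors
      (isAffineOpen_top (Spec (CommRingCat.of A))) hs
    set s := (Scheme.ΓSpecIso (CommRingCat.of A)).commRingCatIsoToRingEquiv.symm t with hsdef
    let f : (Γ(Mero.kmod (Spec (CommRingCat.of A)), ⊤))ˣ :=
      ⟨Mero.toK _ ⊤ s, Groth.Agent.Lib.Mero_helper4.invK ⟨s, hreg⟩,
        Groth.Agent.Lib.Mero_helper4.toK_mul_invK ⟨s, hreg⟩,
        by rw [mul_comm]; exact Groth.Agent.Lib.Mero_helper4.toK_mul_invK ⟨s, hreg⟩⟩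
    have h1 := congrArg (fun D : Mero.Divisor (Spec (CommRingCat.of A)) =>
      D.1 (IsLocalRing.closedPoint A : Spec (CommRingCat.of A))) (hD (Mero.div f))
    have h2 : (QuotientGroup.mk (Units.map (Mero.evalK (Spec (CommRingCat.of A)) ⊤
        ⟨(IsLocalRing.closedPoint A : Spec (CommRingCat.of A)), Opens.mem_top _⟩).toMonoidHom f) :
        Mero.Germ (Spec (CommRingCat.of A)) (IsLocalRing.closedPoint A)) = 1 := h1
    rw [QuotientGroup.eq_one_iff] at h2
    obtain ⟨v, hv⟩ := h2
    have h3 := congrArg Units.val hv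
    rw [Units.coe_map, Units.coe_map] at h3
    have h4 : algebraMap _ (Mero.KStalk (Spec (CommRingCat.of A)) (IsLocalRing.closedPoint A))
        (v : (Spec (CommRingCat.of A)).presheaf.stalk (IsLocalRing.closedPoint A)) =
        algebraMap _ (Mero.KStalk (Spec (CommRingCat.of A)) (IsLocalRing.closedPoint A))
        ((Spec (CommRingCat.of A)).presheaf.germ ⊤ (IsLocalRing.closedPoint A : Spec (CommRingCat.of A))
          (Opens.mem_top _) s) := by
      rw [← Groth.Agent.Lib.Mero_helper4.mk_one_eq_algebraMap]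
      exact h3
    have h5 := Mero.algebraMap_KStalk_injective _ h4
    have h6 : (IsLocalRing.closedPoint A : Spec (CommRingCat.of A)) ∈
        (Spec (CommRingCat.of A)).basicOpen s := by
      refine (Scheme.mem_basicOpen (Spec (CommRingCat.of A)) s _ (Opens.mem_top _)).mpr ?_
      rw [← h5]
      exact v.isUnit
    rw [basicOpen_eq_of_affine'] at h6
    have h7 : (Scheme.ΓSpecIso (CommRingCat.of A)).hom s = t :=
      (Scheme.ΓSpecIso (CommRingCat.of A)).commRingCatIsoToRingEquiv.apply_symm_apply t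
    rw [h7] at h6
    by_contra hu
    exact h6 ((IsLocalRing.mem_maximalIdeal t).mpr hu)
  · -- every nonzerodivisor a unit ⇒ all divisors trivial
    intro hA D
    obtain ⟨U, hx0, f, hf⟩ := D.2 (IsLocalRing.closedPoint A : Spec (CommRingCat.of A))
    obtain rfl := eq_top_of_mem A U hx0
    obtain ⟨c, hc⟩ := exists_toK A hA (f : Γ(Mero.kmod (Spec (CommRingCat.of A)), ⊤))
    obtain ⟨c', hc'⟩ := exists_toK A hA ((f⁻¹ : (Γ(Mero.kmod (Spec (CommRingCat.of A)), ⊤))ˣ) :
      Γ(Mero.kmod (Spec (CommRingCat.of A)), ⊤))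
    have hcc : c * c' = 1 := by
      apply Groth.Agent.Lib.Mero_helper4.toK_injective
      rw [map_mul, ← hc, ← hc', map_one, Units.mul_inv]
    let u : (Γ(Spec (CommRingCat.of A), ⊤))ˣ := ⟨c, c', hcc, by rw [mul_comm]; exact hcc⟩
    apply Subtype.ext
    funext y
    have h1 : D.1 y = Mero.germOf f ⟨y, Opens.mem_top y⟩ := hf ⟨y, Opens.mem_top y⟩
    rw [h1]
    show _ = (1 : Mero.Germ (Spec (CommRingCat.of A)) y)
    rw [QuotientGroup.eq_one_iff]
    refine ⟨Units.map ((Spec (CommRingCat.of A)).presheaf.germ ⊤ y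
      (Opens.mem_top y)).hom.toMonoidHom u, Units.ext ?_⟩
    rw [Units.coe_map, Units.coe_map, Units.coe_map]
    show algebraMap _ (Mero.KStalk (Spec (CommRingCat.of A)) y)
      ((Spec (CommRingCat.of A)).presheaf.germ ⊤ y (Opens.mem_top y) c) =
      (f : Γ(Mero.kmod (Spec (CommRingCat.of A)), ⊤)).1 ⟨y, Opens.mem_top y⟩
    rw [hc, Mero.toK_apply, Groth.Agent.Lib.Mero_helper4.mk_one_eq_algebraMap]

end Groth.Agent.S5082
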