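import Groth.Statements.S9684
import Groth.Agent.Lib.DimEqQ_helper8
import Groth.Agent.Lib.DimFunChart_helper8
import Groth.Agent.Lib.ResQuot_helper8

set_option autoImplicit false
universe u
open CategoryTheory CategoryTheory.Limits AlgebraicGeometry
open Cyc

namespace Groth.Agent.S9684

/-- Let S be a locally Noetherian scheme whose local rings are universally catenary, δ a dimension
function on S, and f : X ⟶ S locally of finite type. Then the function δ_X(x) = δ(f x) + trdeg_{κ(f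
x)} κ(x) is a dimension function on X. -/
theorem result {X S : Scheme.{u}} (f : X ⟶ S)
    [LocallyOfFiniteType f] (δ : ↥S → ℤ) (hS : Cyc.IsSetup S δ) (δX : ↥X → ℤ)
    (hδ : Cyc.DeltaCompat f δX δ) : Cyc.IsDimFun X δX := by
  classical
  obtain ⟨hSn, hSuc, hSδ⟩ := hS
  haveI := hSn
  intro x y hxy hne
  -- affine charts
  obtain ⟨_, ⟨V, hV, rfl⟩, hfyV, -⟩ :=
    S.isBasis_affineOpens.exists_subset_of_mem_open (Set.mem_univ (f.base y)) isOpen_univ
  obtain ⟨_, ⟨U, hU, rfl⟩, hyU, hUV⟩ :=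
    X.isBasis_affineOpens.exists_subset_of_mem_open (show y ∈ (f ⁻¹ᵁ V : Set X) from hfyV)
      (f ⁻¹ᵁ V).2
  have e : U ≤ f ⁻¹ᵁ V := hUV
  have hxU : x ∈ U := hxy.mem_open U.2 hyU
  haveI hRn : IsNoetherianRing Γ(S, V) := IsLocallyNoetherian.component_noetherian ⟨V, hV⟩
  have hφ : (f.appLE V U e).hom.FiniteType :=
    HasRingHomProperty.appLE (P := @LocallyOfFiniteType) f inferInstance ⟨V, hV⟩ ⟨U, hU⟩ e
  haveI hBn : IsNoetherianRing Γ(X, U) := by
    letI := (f.appLE V U e).hom.toAlgebra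
    haveI : Algebra.FiniteType Γ(S, V) Γ(X, U) := hφ
    exact Algebra.FiniteType.isNoetherianRing Γ(S, V) Γ(X, U)
  haveI hqxp : (hU.primeIdealOf ⟨x, hxU⟩).asIdeal.IsPrime := (hU.primeIdealOf ⟨x, hxU⟩).2
  haveI hqyp : (hU.primeIdealOf ⟨y, hyU⟩).asIdeal.IsPrime := (hU.primeIdealOf ⟨y, hyU⟩).2
  haveI hpsp : (hV.primeIdealOf ⟨f.base x, e hxU⟩).asIdeal.IsPrime :=
    (hV.primeIdealOf ⟨f.base x, e hxU⟩).2
  haveI hptp : (hV.primeIdealOf ⟨f.base y, e hyU⟩).asIdeal.IsPrime :=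
    (hV.primeIdealOf ⟨f.base y, e hyU⟩).2
  have hle : hU.primeIdealOf ⟨x, hxU⟩ ≤ hU.primeIdealOf ⟨y, hyU⟩ :=
    (Groth.Agent.SchFTH8.specializes_iff_primeIdealOf_le hU x y hxU hyU).mp hxy
  have hne' : hU.primeIdealOf ⟨x, hxU⟩ ≠ hU.primeIdealOf ⟨y, hyU⟩ := by
    intro heq
    apply hne
    have := congrArg hU.fromSpec heq
    rw [hU.fromSpec_primeIdealOf, hU.fromSpec_primeIdealOf] at this
    exact this
  have hlt : (hU.primeIdealOf ⟨x, hxU⟩).asIdeal < (hU.primeIdealOf ⟨y, hyU⟩).asIdeal :=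
    lt_of_le_of_ne hle (fun h => hne' (PrimeSpectrum.ext h))
  -- the dimension formula
  letI : Algebra Γ(S, V) (S.presheaf.stalk (f.base y)) :=
    TopCat.Presheaf.algebra_section_stalk S.presheaf (⟨f.base y, e hyU⟩ : V)
  haveI : IsLocalization.AtPrime (S.presheaf.stalk (f.base y))
      (hV.primeIdealOf ⟨f.base y, e hyU⟩).asIdeal := hV.isLocalization_stalk ⟨f.base y, e hyU⟩
  obtain ⟨a, b, r, r0, ha, hb, hr, hr0, hsum⟩ :=
    Groth.Agent.DimEqQH8.dim_eq_quot (f.appLE V U e).hom hφ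
      (hU.primeIdealOf ⟨x, hxU⟩).asIdeal (hU.primeIdealOf ⟨y, hyU⟩).asIdeal hlt.le
      (hV.primeIdealOf ⟨f.base x, e hxU⟩).asIdeal (hV.primeIdealOf ⟨f.base y, e hyU⟩).asIdeal
      (Groth.Agent.ResQuotH8.primeIdealOf_map f hU hV e x hxU)
      (Groth.Agent.ResQuotH8.primeIdealOf_map f hU hV e y hyU)
      (S.presheaf.stalk (f.base y)) (hSuc (f.base y))
  -- the dimension function on the base
  obtain ⟨b', hb', hδst⟩ := Groth.Agent.DimFunChartH8.delta_eq_add_height δ hSδ hV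
    (f.base x) (f.base y) (e hxU) (e hyU) (hxy.map f.continuous)
  have hbb : b' = b := by
    have : ((b' : ℕ) : ℕ∞) = ((b : ℕ) : ℕ∞) := by rw [← hb', ← hb]
    exact_mod_cast this
  -- the transcendence degrees
  obtain ⟨nx, hnx, hδx⟩ := hδ x
  obtain ⟨ny, hny, hδy⟩ := hδ y
  have hnx' : @Algebra.trdeg (S.residueField (f.base x)) (X.residueField x) _ _
      (f.residueFieldMap x).hom.toAlgebra = nx := hnx
  have hny' : @Algebra.trdeg (S.residueField (f.base y)) (X.residueField y) _ _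
      (f.residueFieldMap y).hom.toAlgebra = ny := hny
  have hr0n : r0 = nx := by
    have h1 : ((r0 : ℕ) : Cardinal) = ((nx : ℕ) : Cardinal) := by
      rw [← hnx', Groth.Agent.ResQuotH8.trdeg_residueFieldMap f hU hV e x hxU]
      exact hr0.symm
    exact_mod_cast h1
  have hrn : r = ny := by
    have h1 : ((r : ℕ) : Cardinal) = ((ny : ℕ) : Cardinal) := by
      rw [← hny', Groth.Agent.ResQuotH8.trdeg_residueFieldMap f hU hV e y hyU]
      exact hr.symm
    exact_mod_cast h1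
  -- positivity of the relative height
  have ha1 : 1 ≤ a := by
    set q' := (hU.primeIdealOf ⟨y, hyU⟩).asIdeal.map
      (Ideal.Quotient.mk (hU.primeIdealOf ⟨x, hxU⟩).asIdeal) with hq'
    haveI hq'p : q'.IsPrime :=
      Ideal.map_isPrime_of_surjective Ideal.Quotient.mk_surjective
        (by rw [Ideal.mk_ker]; exact hlt.le)
    have hne0 : q' ≠ ⊥ := by
      intro h0
      obtain ⟨z, hzy, hzx⟩ := SetLike.exists_of_lt hlt
      have : Ideal.Quotient.mk (hU.primeIdealOf ⟨x, hxU⟩).asIdeal z ∈ q' :=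
        Ideal.mem_map_of_mem _ hzy
      rw [h0, Ideal.mem_bot, Ideal.Quotient.eq_zero_iff_mem] at this
      exact hzx this
    haveI : (⊥ : Ideal (Γ(X, U) ⧸ (hU.primeIdealOf ⟨x, hxU⟩).asIdeal)).IsPrime :=
      Ideal.isPrime_bot
    have h1 := Ideal.height_add_one_le_of_lt_of_isPrime (bot_lt_iff_ne_bot.mpr hne0)
    rw [ha] at h1
    have h2 : (1 : ℕ∞) ≤ (a : ℕ∞) := le_trans le_add_self h1
    exact_mod_cast h2
  subst hbb hr0n hrn
  constructor
  · rw [hδx, hδy, hδst]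
    have : (a : ℤ) + r = b' + r0 := by exact_mod_cast hsum
    have : (1 : ℤ) ≤ a := by exact_mod_cast ha1
    omega
  · intro himm
    have hcov := Groth.Agent.DimFunChartH8.covBy_of_immediate hU x y hxU hyU hxy hne himm
    obtain ⟨k, c, hk, hch, hcl, hcn, hcs⟩ := Groth.Agent.CatHtH8.exists_saturated_between
      (hU.primeIdealOf ⟨x, hxU⟩).asIdeal (hU.primeIdealOf ⟨y, hyU⟩).asIdeal hlt.le
    have hka : k = a := by
      have : ((k : ℕ) : ℕ∞) = ((a : ℕ) : ℕ∞) := by rw [← hk, ← ha]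
      exact_mod_cast this
    have hk1 : k ≤ 1 := by
      by_contra hcon
      have hk2 : 2 ≤ c.length := by omega
      have h01 : c ⟨0, by omega⟩ < c ⟨1, by omega⟩ := c.strictMono (by simp [Fin.lt_def])
      have h1l : c ⟨1, by omega⟩ < c (Fin.last _) := c.strictMono (by
        simp only [Fin.lt_def, Fin.val_last]; omega)
      have e0 : c ⟨0, by omega⟩ = hU.primeIdealOf ⟨x, hxU⟩ := hch
      have el : c (Fin.last _) = hU.primeIdealOf ⟨y, hyU⟩ := hcl
      rw [e0] at h01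
      rw [el] at h1l
      exact hcov.2 h01 h1l
    have ha_eq : a = 1 := by omega
    rw [hδx, hδy, hδst]
    have : (a : ℤ) + r = b' + r0 := by exact_mod_cast hsum
    omega

end Groth.Agent.S9684
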