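import Groth.Statements.S4585
import Groth.Agent.Lib.GenImg_helper8
import Groth.Agent.Lib.FlatFibDim_helper8
import Groth.Agent.Lib.FibRes2_helper8
import Groth.Agent.Lib.ResQuot_helper8
import Groth.Agent.Lib.SchFT_helper8

set_option autoImplicit false
universe u
open AlgebraicGeometry CategoryTheory
open EGA41

namespace Groth.Agent.S4585

/-- Let Y be an irreducible scheme with generic point η and f : X → Y locally of finite type with
nonempty fibre over η. Then some open neighbourhood of η is contained in f(X). (The second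
assertion, on fibres of a quasi-coherent module of finite type, is not stated.) -/
theorem result {X Y : Scheme.{u}} (f : X ⟶ Y)
    [LocallyOfFiniteType f] [IrreducibleSpace Y] (h : genericPoint Y ∈ Set.range f.base) :
    genericPoint Y ∈ interior (Set.range f.base) := by
  obtain ⟨x₀, hx₀⟩ := h
  -- Step 1: a point of height 0 in the fibre over η
  obtain ⟨n, hn, hh⟩ := Groth.Agent.FibRes2H8.height_asFiber f x₀
  obtain ⟨p, hplast, hplen⟩ := Order.exists_series_of_height_eq_coe (f.asFiber x₀) hh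
  have hlen : (p.length : ℕ∞) = Order.height p.last := by rw [hplast, hh, hplen]
  have h0 : Order.height (p 0) = 0 := by
    have := Order.height_eq_index_of_length_eq_height_last hlen 0
    simpa using this
  set z := p 0 with hz
  set x := (f.fiberι (f.base x₀)).base z with hx
  have hfx : f.base x = f.base x₀ := Groth.Agent.FibRes2H8.fiberι_mem f (f.base x₀) z
  obtain ⟨m, hm⟩ := Groth.Agent.ResQuot2H8.exists_trdeg_nat f x
  have hm0 : m = 0 := by
    have := Groth.Agent.FlatFibDimH8.height_fiber_eq f x (f.base x₀) hfx z rfl m hm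
    rw [h0] at this
    exact_mod_cast this.symm
  subst hm0
  -- Step 2: affine charts
  obtain ⟨_, ⟨V, hV, rfl⟩, hfxV, -⟩ :=
    Y.isBasis_affineOpens.exists_subset_of_mem_open (Set.mem_univ (f.base x)) isOpen_univ
  obtain ⟨_, ⟨U, hU, rfl⟩, hxU, hUV⟩ :=
    X.isBasis_affineOpens.exists_subset_of_mem_open (show x ∈ (f ⁻¹ᵁ V : Set X) from hfxV)
      (f ⁻¹ᵁ V).2
  have e : U ≤ f ⁻¹ᵁ V := hUV
  have hφ : (f.appLE V U e).hom.FiniteType :=
    HasRingHomProperty.appLE (P := @LocallyOfFiniteType) f inferInstance ⟨V, hV⟩ ⟨U, hU⟩ e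
  have hpe := Groth.Agent.ResQuotH8.primeIdealOf_map f hU hV e x hxU
  have htr := Groth.Agent.ResQuotH8.trdeg_residueFieldMap f hU hV e x hxU
  rw [hm] at htr
  have halg : @Algebra.IsAlgebraic (Γ(Y, V) ⧸ (hV.primeIdealOf ⟨f.base x, e hxU⟩).asIdeal)
      (Γ(X, U) ⧸ (hU.primeIdealOf ⟨x, hxU⟩).asIdeal) _ _
      (Ideal.quotientMap _ (f.appLE V U e).hom (le_of_eq hpe)).toAlgebra := by
    letI := (Ideal.quotientMap (hU.primeIdealOf ⟨x, hxU⟩).asIdeal (f.appLE V U e).hom
      (le_of_eq hpe)).toAlgebra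
    exact _root_.trdeg_eq_zero_iff.mp (by exact_mod_cast htr.symm)
  obtain ⟨a, ha, hlift⟩ := GenImgH8.exists_notMem_forall_prime_lifts (f.appLE V U e).hom hφ
    (hV.primeIdealOf ⟨f.base x, e hxU⟩).asIdeal (hU.primeIdealOf ⟨x, hxU⟩).asIdeal hpe halg
  -- Step 3: the basic open
  have hmemW : ∀ (y : Y) (hy : y ∈ V), y ∈ Y.basicOpen a ↔ a ∉ (hV.primeIdealOf ⟨y, hy⟩).asIdeal := by
    intro y hy
    have h1 : y = hV.fromSpec (hV.primeIdealOf ⟨y, hy⟩) := (hV.fromSpec_primeIdealOf ⟨y, hy⟩).symm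
    have h2 : y ∈ Y.basicOpen a ↔ hV.primeIdealOf ⟨y, hy⟩ ∈ hV.fromSpec ⁻¹ᵁ Y.basicOpen a := by
      conv_lhs => rw [h1]
      rfl
    rw [h2, hV.fromSpec_preimage_basicOpen]
    rfl
  have hWV : Y.basicOpen a ≤ V := Y.basicOpen_le a
  have hηx : f.base x = genericPoint Y := by rw [hfx, hx₀]
  rw [mem_interior]
  refine ⟨Y.basicOpen a, ?_, (Y.basicOpen a).2, ?_⟩
  · intro y hy
    have hyV : y ∈ V := hWV hy
    have hsp : f.base x ⤳ y := by
      rw [hηx]
      exact genericPoint_specializes y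
    have hle := (Groth.Agent.SchFTH8.specializes_iff_primeIdealOf_le hV (f.base x) y (e hxU) hyV).mp hsp
    obtain ⟨Q, hQ, hQP⟩ := hlift (hV.primeIdealOf ⟨y, hyV⟩).asIdeal inferInstance hle
      ((hmemW y hyV).mp hy)
    refine ⟨hU.fromSpec ⟨Q, hQ⟩, ?_⟩
    have hcomm := hV.SpecMap_appLE_fromSpec f hU e
    have h3 : f.base (hU.fromSpec ⟨Q, hQ⟩) = hV.fromSpec ((Spec.map (f.appLE V U e)).base ⟨Q, hQ⟩) := by
      have := congrArg (fun g => g.base ⟨Q, hQ⟩) hcomm
      simpa using this.symm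
    rw [h3]
    have h4 : (Spec.map (f.appLE V U e)).base ⟨Q, hQ⟩ = hV.primeIdealOf ⟨y, hyV⟩ := by
      apply PrimeSpectrum.ext
      exact hQP
    rw [h4]
    exact hV.fromSpec_primeIdealOf ⟨y, hyV⟩
  · rw [← hηx]
    exact (hmemW (f.base x) (e hxU)).mpr ha

end Groth.Agent.S4585
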