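import Groth.Statements.S1332
import Groth.Agent.S4585
import Groth.Agent.S2255
import Groth.Agent.Lib.FibGen2_helper8
import Groth.Agent.Lib.DimGenFib_helper8
import Groth.Agent.Lib.ProdGen_helper8
import Groth.Agent.Lib.SubComp_helper8
import Groth.Agent.Lib.Chev4_helper8
import Groth.Agent.Lib.TopDimLoc_helper8

set_option autoImplicit false
universe u
open FlatMor

namespace Groth.Agent.S1332

open AlgebraicGeometry CategoryTheory Limits in
/-- Let f be of finite type with irreducible target. If the generic fibre has dimension n, then over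
some nonempty open of the target every fibre has dimension n. -/
theorem result {X Y : Scheme.{u}} (f : X ⟶ Y) [IrreducibleSpace ↑Y] [LocallyOfFiniteType f] [QuasiCompact f] (n : ℕ)
    (h : topologicalKrullDim ↑(f.fiber (genericPoint ↑Y)) = n) :
    ∃ V : Y.Opens, (V : Set ↑Y).Nonempty ∧ ∀ y ∈ V, topologicalKrullDim ↑(f.fiber y) = n := by
  set η := genericPoint Y with hη
  -- fibre dimension at a point of a fibre
  have key : ∀ (x' : X) (y : Y) (_ : f.base x' = y) (z : f.fiber y)
      (_ : (f.fiberι y).base z = x'),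
      FlatMor.fibreDimAt f x' = FlatMor.localDim (f.fiber y) z := by
    intro x' y h z hz
    subst h
    have : z = f.asFiber x' := by
      apply (f.fiberι (f.base x')).isEmbedding.injective
      rw [hz, Scheme.Hom.fiberι_asFiber]
    rw [this]; rfl
  have key' : ∀ (y : Y) (z : f.fiber y),
      FlatMor.fibreDimAt f ((f.fiberι y).base z) = FlatMor.localDim (f.fiber y) z :=
    fun y z => key _ y (Groth.Agent.FibRes2H8.fiberι_mem f y z) z rfl
  -- points of the generic fibre
  have hgenfib : ∀ z : X, f z = η → FlatMor.fibreDimAt f z ≤ (n : WithBot ℕ∞) := by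
    intro z hz
    have h3 : topologicalKrullDim ↥(f.fiber (f z)) = n := by rw [hz]; exact h
    rw [← h3]
    exact TopDimLocH8.localDim_le_topDim (f.fiber (f z)) (f.asFiber z)
  set C : Set X := {z : X | FlatMor.fibreDimAt f z ≤ (n : WithBot ℕ∞)}ᶜ with hC
  have hCc : IsClosed C := (ChevH8.isOpen_fibreDimAt_le f n).isClosed_compl
  have hηC : η ∉ closure (⇑f '' C) := by
    intro hcon
    obtain ⟨C'', i, hi, hrange⟩ := ProdGenH8.exists_closedImmersion_range X C hCc
    have hrg : Set.range ⇑(i ≫ f) = ⇑f '' C := by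
      rw [Scheme.Hom.comp_base, TopCat.coe_comp, Set.range_comp, hrange]
    haveI : IsDominant (i ≫ f) := by
      constructor
      rw [DenseRange, dense_iff_closure_eq, hrg]
      apply Set.eq_univ_of_univ_subset
      intro s _
      have hs : η ⤳ s := genericPoint_specializes s
      exact hs.mem_closed isClosed_closure hcon
    have hcompη : closure ({η} : Set Y) ∈ irreducibleComponents ↥Y := by
      rw [SubCompH8.closure_mem_irreducibleComponents_iff]
      intro z hz
      exact ((genericPoint_specializes z).antisymm hz).eq.symm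
    obtain ⟨x, -, hx⟩ := (Groth.Agent.S2255.result (i ≫ f)).mp inferInstance η hcompη
    have hixC : i x ∈ C := hrange ▸ Set.mem_range_self x
    exact hixC (hgenfib (i x) hx)
  -- a point of the generic fibre of coheight n
  haveI : Nonempty ↥(f.fiber η) := by
    by_contra hne
    rw [not_nonempty_iff] at hne
    have := TopDimLocH8.topDim_eq_bot_of_isEmpty (f.fiber η)
    rw [h] at this
    exact absurd this (by simp)
  obtain ⟨z₀, hz₀⟩ : ∃ z₀ : ↥(f.fiber η), Order.coheight z₀ = (n : ℕ∞) := by
    have h1 := Groth.Agent.DimGenFibH8.topDim_eq_krullDim (f.fiber η)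
    rw [h, Order.krullDim_eq_iSup_coheight_of_nonempty] at h1
    have h2 : (⨆ a : ↥(f.fiber η), Order.coheight a) = (n : ℕ∞) := by
      have : ((n : ℕ∞) : WithBot ℕ∞) = ((⨆ a : ↥(f.fiber η), Order.coheight a : ℕ∞) : WithBot ℕ∞) := by
        exact_mod_cast h1
      exact (WithBot.coe_inj.mp this).symm
    have h3 : (⨆ a : ↥(f.fiber η), Order.coheight a) < ⊤ := by rw [h2]; exact ENat.natCast_lt_top n
    obtain ⟨z₀, hz₀⟩ := ENat.exists_eq_iSup_of_lt_top h3
    exact ⟨z₀, hz₀.trans h2⟩
  set ξ₀ := (f.fiberι η).base z₀ with hξ₀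
  have hfξ₀ : f ξ₀ = η := Groth.Agent.FibRes2H8.fiberι_mem f η z₀
  have hξ₀dim : (n : WithBot ℕ∞) ≤ FlatMor.fibreDimAt f ξ₀ := by
    rw [hξ₀, key' η z₀]
    refine le_trans ?_ (TopDimLocH8.coheight_le_localDim (f.fiber η) z₀)
    rw [hz₀]; rfl
  -- the closure of ξ₀ as a closed subscheme
  obtain ⟨X', i, hi, hrange⟩ := ProdGenH8.exists_closedImmersion_range X (closure {ξ₀}) isClosed_closure
  obtain ⟨w₀, hw₀⟩ : ξ₀ ∈ Set.range i := by rw [hrange]; exact subset_closure rfl
  have hint : η ∈ interior (Set.range (i ≫ f).base) := by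
    apply Groth.Agent.S4585.result (i ≫ f)
    exact ⟨w₀, by rw [Scheme.Hom.comp_base, TopCat.coe_comp, Function.comp_apply]; erw [hw₀]; exact hfξ₀⟩
  refine ⟨⟨interior (Set.range (i ≫ f).base) ∩ (closure (⇑f '' C))ᶜ,
    isOpen_interior.inter isClosed_closure.isOpen_compl⟩, ⟨η, hint, hηC⟩, ?_⟩
  rintro y ⟨hy1, hy2⟩
  apply le_antisymm
  · rw [TopDimLocH8.topDim_le_iff_forall_localDim]
    intro u
    rw [← key' y u]
    by_contra hcon
    apply hy2
    apply subset_closure
    exact ⟨(f.fiberι y).base u, hcon, Groth.Agent.FibRes2H8.fiberι_mem f y u⟩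
  · obtain ⟨w, hw⟩ := interior_subset hy1
    have hiw : i w ∈ closure ({ξ₀} : Set X) := hrange ▸ Set.mem_range_self w
    have hsp : ξ₀ ⤳ i w := specializes_iff_mem_closure.mpr hiw
    have h5 := FibGenH8.fibreDimAt_le_of_specializes f hsp
    have h6 : f (i w) = y := by
      rw [← hw, Scheme.Hom.comp_base, TopCat.coe_comp, Function.comp_apply]
    have h7 : FlatMor.fibreDimAt f (i w) ≤ topologicalKrullDim ↥(f.fiber (f (i w))) :=
      TopDimLocH8.localDim_le_topDim (f.fiber (f (i w))) (f.asFiber (i w))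
    rw [h6] at h7
    exact hξ₀dim.trans (h5.trans h7)

end Groth.Agent.S1332
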