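import Groth.Statements.S1717
import Mathlib
import Groth.Agent.Lib.Catenary_helper5
import Groth.Agent.Lib.DepthRefl_helper5

set_option autoImplicit false
universe u
open LocCoh

namespace Groth.Agent.S1717

/-- Let A be a catenary Noetherian local ring satisfying Serre's condition (S_2). Then Spec A is
equidimensional: for every minimal prime p of A the dimension of A/p equals the dimension of A. -/
theorem result (A : Type u) [CommRing A] [IsLocalRing A] [IsNoetherianRing A] (hc : CAlg.IsCatenary A) (hS : LocCoh.HasSk 2 A A) (p : Ideal A) (hp : p ∈ minimalPrimes A) : ringKrullDim (A ⧸ p) = ringKrullDim A := by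
  haveI hpre : PreconnectedSpace (PrimeSpectrum A) := by
    refine ⟨?_⟩
    rw [isPreconnected_closed_iff]
    intro t t' ht ht' _ hne1 hne2
    obtain ⟨x, _, hxt⟩ := hne1
    obtain ⟨y, _, hyt'⟩ := hne2
    have hx : x ⤳ IsLocalRing.closedPoint A :=
      (PrimeSpectrum.le_iff_specializes _ _).1 (IsLocalRing.le_maximalIdeal x.2.ne_top)
    have hy : y ⤳ IsLocalRing.closedPoint A :=
      (PrimeSpectrum.le_iff_specializes _ _).1 (IsLocalRing.le_maximalIdeal y.2.ne_top)
    exact ⟨IsLocalRing.closedPoint A, Set.mem_univ _, hx.mem_closed ht hxt,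
      hy.mem_closed ht' hyt'⟩
  refine Groth.Agent.Hartshorne.ringKrullDim_quotient_minimalPrimes hc ?_ p hp
  intro P hP hht
  have h3 := hS P
  rw [Groth.Agent.DepthLib.supportDim_locSelf, Groth.Agent.DepthLib.depth_locSelf] at h3
  have h5 : (((2 : ℕ) : ℕ∞) : WithBot ℕ∞) ≤
      min ((2 : ℕ) : WithBot ℕ∞) (P.height : WithBot ℕ∞) := by
    apply le_min
    · exact le_rfl
    · exact WithBot.coe_le_coe.2 (by exact_mod_cast hht)
  have h6 := WithBot.coe_le_coe.1 (le_trans h5 h3)
  exact_mod_cast h6

end Groth.Agent.S1717
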