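import Groth.Statements.S7652
import Mathlib
import Groth.Agent.Lib.RedNorm3_helper6
import Groth.Agent.Lib.RedNorm4_helper6
-- import your own Groth.Agent.* helpers here

set_option autoImplicit false
universe u
open CategoryTheory CategoryTheory.Limits AlgebraicGeometry
open Variety

namespace Groth.Agent.S7652

/-- For a reduced local Nagata ring (A, m) of Krull dimension one, write A' for the integral closure of
A in its total fraction ring. Then A' is a finite A-module, every localization of A' at a prime is
an integrally closed domain, and the quotient A'/A is an A-module of finite length. (The published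
statement also says that A' is Nagata, which follows from the finiteness of A' over A; this row does
not restate it.) -/
theorem result (A : Type u) [CommRing A] [IsLocalRing A]
    [IsReduced A] (hN : CAlg.IsNagata A) (hdim : ringKrullDim A = 1) :
    Module.Finite A (integralClosure A (FractionRing A)) ∧
      (∀ p : PrimeSpectrum (integralClosure A (FractionRing A)),
        IsDomain (Localization.AtPrime p.asIdeal) ∧ IsIntegrallyClosed (Localization.AtPrime p.asIdeal)) ∧
      Curv2.deltaInv A < ⊤ := by

  haveI : IsNoetherianRing A := hN.1
  have hfin : Module.Finite A (integralClosure A (FractionRing A)) := by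
    apply Groth.Agent.Lib.RedNorm.finite_integralClosure
    intro p _ _
    exact hN.2 p (FractionRing (A ⧸ p)) inferInstance
  refine ⟨hfin, fun p => ?_, ?_⟩
  · exact Groth.Agent.Lib.RedNorm.localization_isDomain_isIntegrallyClosed
      (minimalPrimes.finite_of_isNoetherianRing A) p.asIdeal
  · rw [lt_top_iff_ne_top]
    exact Groth.Agent.Lib.RedNorm.length_quotient_ne_top_of_finite (le_of_eq hdim)

end Groth.Agent.S7652
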