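import Groth.Statements.S2219
import Mathlib
import Groth.Agent.Lib.TraceLocal_helper2

set_option autoImplicit false
universe u
open Disc

namespace Groth.Agent.S2219

/-- Equivalence of (1) and (3): let k be a field and A a finite-dimensional local k-algebra with residue
field k'. Then the trace map Tr_{A/k} is not identically zero if and only if k' is separable over k
and the length of A as a module over itself is not divisible by the characteristic of k (no
condition in characteristic zero). -/
theorem result (k A : Type u) [Field k] [CommRing A]
    [Algebra k A] [FiniteDimensional k A] [IsLocalRing A] :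
    Algebra.trace k A ≠ 0 ↔
      (Algebra.IsSeparable k (IsLocalRing.ResidueField A) ∧
        ∀ p : ℕ, p.Prime → CharP k p → ¬ p ∣ (Module.length A A).toNat) := by
  have hform := TraceLocalH2.trace_eq_length_mul k (A := A)
  haveI : FiniteDimensional k (IsLocalRing.ResidueField A) :=
    Module.Finite.of_surjective
      (IsScalarTower.toAlgHom k A (IsLocalRing.ResidueField A)).toLinearMap
      IsLocalRing.residue_surjective
  haveI : IsArtinian A A := isArtinian_of_tower k inferInstance
  haveI : IsNoetherian A A := isNoetherian_of_tower k inferInstance
  constructor
  · intro h
    have hex : ∃ a, Algebra.trace k A a ≠ 0 := by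
      by_contra hne
      push Not at hne
      exact h (LinearMap.ext hne)
    obtain ⟨a, ha⟩ := hex
    rw [hform] at ha
    have h1 := left_ne_zero_of_mul ha
    have h2 := right_ne_zero_of_mul ha
    constructor
    · by_contra hsep
      rw [Algebra.trace_eq_zero_of_not_isSeparable hsep] at h2
      exact h2 rfl
    · intro p hp hcp hdvd
      apply h1
      rw [CharP.cast_eq_zero_iff k p]
      exact hdvd
  · rintro ⟨hsep, hp⟩
    have hne : Algebra.trace k (IsLocalRing.ResidueField A) ≠ 0 := Algebra.trace_ne_zero k _
    obtain ⟨b, hb⟩ : ∃ b, Algebra.trace k (IsLocalRing.ResidueField A) b ≠ 0 := by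
      by_contra hne'
      push Not at hne'
      exact hne (LinearMap.ext hne')
    obtain ⟨a, rfl⟩ := IsLocalRing.residue_surjective b
    intro h0
    have h3 := hform a
    rw [h0] at h3
    simp only [LinearMap.zero_apply] at h3
    rcases mul_eq_zero.mp h3.symm with h | h
    · obtain ⟨p, hcp⟩ := CharP.exists k
      rcases CharP.char_is_prime_or_zero k p with hpp | hp0
      · exact hp p hpp hcp ((CharP.cast_eq_zero_iff k p _).mp h)
      · subst hp0
        haveI : CharZero k := CharP.charP_to_charZero k
        have h4 : (Module.length A A).toNat = 0 := by exact_mod_cast h
        have hpos : 0 < Module.length A A := Module.length_pos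
        have hfin : Module.length A A ≠ ⊤ := Module.length_ne_top
        rw [ENat.toNat_eq_zero] at h4
        rcases h4 with h | h
        · exact hpos.ne' h
        · exact hfin h
    · exact hb h

end Groth.Agent.S2219
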