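import Groth.Statements.S10837
import Mathlib

set_option autoImplicit false
universe u
open CategoryTheory AlgebraicGeometry Topology
open Mor

namespace Groth.Agent.S10837

theorem generalizingMap_comap_of_isOpenMap {A B : Type u} [CommRing A] [CommRing B] (φ : A →+* B)
    (h : IsOpenMap (PrimeSpectrum.comap φ)) : GeneralizingMap (PrimeSpectrum.comap φ) := by
  intro q p' hp'
  rw [← PrimeSpectrum.le_iff_specializes] at hp'
  set M : Submonoid B := q.asIdeal.primeCompl ⊔ Submonoid.map φ p'.asIdeal.primeCompl with hM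
  set J : Ideal B := p'.asIdeal.map φ with hJ
  have hdisj : Disjoint (J : Set B) M := by
    rw [Set.disjoint_left]
    intro x hxJ hxM
    rw [SetLike.mem_coe, hM, Submonoid.mem_sup] at hxM
    obtain ⟨g, hg, z, hz, rfl⟩ := hxM
    obtain ⟨a, ha, rfl⟩ := hz
    have hopen : IsOpen (PrimeSpectrum.comap φ '' (PrimeSpectrum.basicOpen g : Set (PrimeSpectrum B))) :=
      h _ (PrimeSpectrum.basicOpen g).isOpen
    have hmem : PrimeSpectrum.comap φ q ∈
        PrimeSpectrum.comap φ '' (PrimeSpectrum.basicOpen g : Set (PrimeSpectrum B)) :=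
      ⟨q, hg, rfl⟩
    have hp'mem := ((PrimeSpectrum.le_iff_specializes _ _).mp hp').mem_open hopen hmem
    obtain ⟨q'', hq'', hq''eq⟩ := hp'mem
    have hJle : J ≤ q''.asIdeal := by
      rw [hJ, Ideal.map_le_iff_le_comap, ← hq''eq]
      exact le_of_eq rfl
    have := hJle hxJ
    rcases q''.2.mem_or_mem this with h1 | h1
    · exact hq'' h1
    · apply ha
      rw [← hq''eq]
      exact h1
  obtain ⟨Q, hQprime, hJQ, hQdisj⟩ := Ideal.exists_le_prime_disjoint J M hdisj
  rw [Set.disjoint_left] at hQdisj
  refine ⟨⟨Q, hQprime⟩, ?_, ?_⟩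
  · change (⟨Q, hQprime⟩ : PrimeSpectrum B) ⤳ q
    rw [← PrimeSpectrum.le_iff_specializes]
    intro x hx
    by_contra hxq
    exact hQdisj hx (Submonoid.mem_sup_left hxq)
  · ext a
    constructor
    · intro ha
      by_contra hap
      exact hQdisj ha (Submonoid.mem_sup_right ⟨a, hap, rfl⟩)
    · intro ha
      exact hJQ (Ideal.mem_map_of_mem φ ha)

/-- For a morphism of schemes f : X → Y which is open as a map of topological spaces, generalizations
lift along f: every generalization of f(x) is the image of a generalization of x. -/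
theorem result {X Y : Scheme.{u}} (f : X ⟶ Y) (hf : IsOpenMap f.base) :
    GeneralizingMap f.base := by
  change topologically GeneralizingMap f
  replace hf : topologically IsOpenMap f := hf
  wlog hY : ∃ R, Y = Spec R
  · rw [IsZariskiLocalAtTarget.iff_of_openCover (P := topologically GeneralizingMap) Y.affineCover]
    intro i
    dsimp only [Scheme.Cover.pullbackHom]
    refine this _ ?_ ⟨_, rfl⟩
    exact IsZariskiLocalAtTarget.of_isPullback (P := topologically IsOpenMap)
      (iY := Y.affineCover.f i) (IsPullback.of_hasPullback ..) hf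
  obtain ⟨R, rfl⟩ := hY
  wlog hX : ∃ S, X = Spec S
  · rw [IsZariskiLocalAtSource.iff_of_openCover (P := topologically GeneralizingMap) X.affineCover]
    intro i
    refine this _ _ ?_ ⟨_, rfl⟩
    exact IsZariskiLocalAtSource.comp (P := topologically IsOpenMap) hf _
  obtain ⟨S, rfl⟩ := hX
  obtain ⟨φ, rfl⟩ := Spec.map_surjective f
  exact generalizingMap_comap_of_isOpenMap φ.hom hf

end Groth.Agent.S10837
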