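import Groth.Statements.S4433
import Mathlib
import Groth.Agent.Lib.DomDimOne4_helper6
-- import your own Groth.Agent.* helpers here

set_option autoImplicit false
universe u
open EGA2

namespace Groth.Agent.S4433

/-- Let A be a Noetherian local domain that is not a field, K its field of fractions and L a finitely
generated field extension of K. Then there is a discrete valuation subring of L, with fraction field
L, which contains the image of A and dominates A (elements of the maximal ideal of A have valuation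
less than one). -/
theorem result (A : Type u) [CommRing A] [IsDomain A] [IsNoetherianRing A]
    [IsLocalRing A] (hA : ¬ IsField A) (K : Type u) [Field K] [Algebra A K] [IsFractionRing A K]
    (L : Type u) [Field L] [Algebra K L] [Algebra A L] [IsScalarTower A K L] (hfg : (⊤ : IntermediateField K L).FG) :
    ∃ R : ValuationSubring L, IsDiscreteValuationRing R ∧ (∀ a : A, algebraMap A L a ∈ R) ∧
      ∀ a ∈ IsLocalRing.maximalIdeal A, R.valuation (algebraMap A L a) < 1 := by

  classical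
  obtain ⟨V, hV, hloc⟩ := IsLocalRing.exists_factor_valuationRing (algebraMap A L)
  have hinjAL : Function.Injective (algebraMap A L) := by
    rw [IsScalarTower.algebraMap_eq A K L]
    exact (algebraMap K L).injective.comp (IsFractionRing.injective A K)
  have hvm : ∀ a ∈ IsLocalRing.maximalIdeal A, V.valuation (algebraMap A L a) < 1 := by
    intro a ha
    have hnu : ¬ IsUnit (⟨algebraMap A L a, hV a⟩ : V) := by
      intro h
      exact ((IsLocalRing.mem_maximalIdeal a).1 ha) (hloc.map_nonunit a h)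
    have hmem : (⟨algebraMap A L a, hV a⟩ : V) ∈ IsLocalRing.maximalIdeal V :=
      (IsLocalRing.mem_maximalIdeal (R := V) _).2 hnu
    exact (V.valuation_lt_one_iff _).1 hmem
  obtain ⟨t, ht⟩ := hfg
  obtain ⟨t', ht'def⟩ : ∃ t' : Finset L, t' = t.image (fun y => if y ∈ V then y else y⁻¹) :=
    ⟨_, rfl⟩
  obtain ⟨B₀, hB₀def⟩ : ∃ B₀ : Subalgebra A L, B₀ = Algebra.adjoin A (t' : Set L) := ⟨_, rfl⟩
  have hB₀fg : B₀.FG := by rw [hB₀def]; exact Subalgebra.fg_adjoin_finset _
  let VA : Subalgebra A L := { V.toSubring.toSubsemiring with algebraMap_mem' := hV }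
  have hB₀V : B₀ ≤ VA := by
    rw [hB₀def]
    apply Algebra.adjoin_le
    intro y hy
    rw [ht'def, Finset.coe_image] at hy
    obtain ⟨y₀, hy₀, rfl⟩ := hy
    show (if y₀ ∈ V then y₀ else y₀⁻¹) ∈ V
    split_ifs with h
    · exact h
    · exact (V.mem_or_inv_mem y₀).resolve_left h
  have htB₀ : ∀ y ∈ (t : Set L), y ∈ B₀ ∨ y⁻¹ ∈ B₀ := by
    intro y hy
    by_cases h : y ∈ V
    · left
      rw [hB₀def]
      apply Algebra.subset_adjoin
      rw [ht'def, Finset.coe_image]
      exact ⟨y, hy, if_pos h⟩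
    · right
      rw [hB₀def]
      apply Algebra.subset_adjoin
      rw [ht'def, Finset.coe_image]
      exact ⟨y, hy, if_neg h⟩
  have hdiv : ∀ z : L, ∃ x y : L, x ∈ B₀ ∧ y ∈ B₀ ∧ y ≠ 0 ∧ z = x / y := fun z =>
    Groth.Agent.Lib.DomDimOne.exists_div_of_mem_adjoin K B₀ (t : Set L) htB₀ z
      (by rw [ht]; trivial)
  haveI hB₀frac : IsFractionRing B₀ L := IsFractionRing.of_field B₀ L (fun z => by
    obtain ⟨x, y, hx, hy, hy0, rfl⟩ := hdiv z
    exact ⟨⟨x, hx⟩, ⟨y, hy⟩, rfl⟩)
  haveI hFT : Algebra.FiniteType A B₀ := (Subalgebra.fg_iff_finiteType B₀).1 hB₀fg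
  haveI hB₀N : IsNoetherianRing B₀ := Algebra.FiniteType.isNoetherianRing A B₀
  let φ : B₀ →+* V := (B₀.val.toRingHom).codRestrict V.toSubring (fun b => hB₀V b.2)
  obtain ⟨𝔫, h𝔫def⟩ : ∃ 𝔫 : Ideal B₀, 𝔫 = Ideal.comap φ (IsLocalRing.maximalIdeal V) := ⟨_, rfl⟩
  haveI h𝔫prime : 𝔫.IsPrime := by rw [h𝔫def]; exact Ideal.comap_isPrime _ _
  have h𝔫mem : ∀ a ∈ IsLocalRing.maximalIdeal A, algebraMap A B₀ a ∈ 𝔫 := by
    intro a ha
    rw [h𝔫def, Ideal.mem_comap]
    exact (V.valuation_lt_one_iff _).2 (hvm a ha)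
  haveI := Groth.Agent.Lib.DomDimOne.isNoetherianRing_locAtPrime L B₀ 𝔫
  have hA₂nf : ¬ IsField (Groth.Agent.Lib.DomDimOne.locAtPrime L B₀ 𝔫) := by
    intro hf
    have hm : IsLocalRing.maximalIdeal A ≠ ⊥ := by
      intro h
      exact hA (IsLocalRing.isField_iff_maximalIdeal_eq.2 h)
    obtain ⟨a, ham, ha0⟩ := Submodule.exists_mem_ne_zero_of_ne_bot hm
    have h1 := Groth.Agent.Lib.DomDimOne.mem_maximalIdeal_locAtPrime_of_mem L B₀ 𝔫 _ (h𝔫mem a ham)
    rw [IsLocalRing.isField_iff_maximalIdeal_eq.1 hf, Ideal.mem_bot] at h1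
    have h2 : algebraMap A L a = 0 := congrArg Subtype.val h1
    exact ha0 ((map_eq_zero_iff _ hinjAL).1 h2)
  obtain ⟨R, hR, hmem, hlt⟩ := Groth.Agent.Lib.DomDimOne.exists_dvr_dominating
    (Groth.Agent.Lib.DomDimOne.locAtPrime L B₀ 𝔫) hA₂nf L
  refine ⟨R, hR, fun a => hmem (algebraMap B₀ _ (algebraMap A B₀ a)), fun a ha => ?_⟩
  exact hlt _ (Groth.Agent.Lib.DomDimOne.mem_maximalIdeal_locAtPrime_of_mem L B₀ 𝔫 _ (h𝔫mem a ha))

end Groth.Agent.S4433
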