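import Groth.Statements.S9235
import Mathlib
import Groth.Agent.Lib.Branches8_helper6
-- import your own Groth.Agent.* helpers here

set_option autoImplicit false
universe u
open Brnch

namespace Groth.Agent.S9235

/-- A local ring A has exactly one branch if and only if it is unibranch. Here the number of branches is
computed as the number of maximal ideals of the integral closure of A_red in its total ring of
fractions (infinity when A has infinitely many minimal primes). -/
theorem result (A : Type u) [CommRing A] [IsLocalRing A] :
    Brnch.numBranches A = 1 ↔ CAlg2.IsUnibranch A := by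

  unfold Brnch.numBranches CAlg2.IsUnibranch
  constructor
  · intro h
    by_cases hfin : (minimalPrimes A).Finite
    · rw [if_pos hfin, ENat.card_eq_one_iff_unique] at h
      obtain ⟨hu⟩ := h
      haveI : Subsingleton (MaximalSpectrum (CAlg2.normRed A)) := inferInstance
      haveI : Nonempty (MaximalSpectrum (CAlg2.normRed A)) := ⟨hu.default⟩
      haveI hloc : IsLocalRing (CAlg2.normRed A) := IsLocalRing.of_singleton_maximalSpectrum
      haveI : Nontrivial (CAlg2.red A) := Groth.Agent.Lib.Branches.nontrivial_red A
      haveI : IsReduced (CAlg2.red A) := Groth.Agent.Lib.Branches.isReduced_red A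
      refine ⟨?_, hloc⟩
      exact Groth.Agent.Lib.Branches.isDomain_of_isLocalRing_integralClosure
        ((Groth.Agent.Lib.Branches.finite_minimalPrimes_red_iff A).2 hfin)
    · rw [if_neg hfin] at h
      exact absurd h (by simp)
  · rintro ⟨hdom, hloc⟩
    have hfin : (minimalPrimes A).Finite := by
      rw [← Groth.Agent.Lib.Branches.finite_minimalPrimes_red_iff A,
        IsDomain.minimalPrimes_eq_singleton_bot]
      exact Set.finite_singleton _
    rw [if_pos hfin, ENat.card_eq_one_iff_unique]
    exact ⟨inferInstance⟩

end Groth.Agent.S9235
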