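import Groth.Statements.S9752
import Groth.Agent.Lib.BrEtNbhd5_helper3
import Groth.Agent.Lib.BrEtNbhd1_helper3
-- import your own Groth.Agent.* helpers here

set_option autoImplicit false
universe u
open Brnch


namespace Groth.Agent.S9752

open AlgebraicGeometry CategoryTheory Limits in
/-- For a point x of a scheme X, the branch count of X at x (in ℕ∞) is the least upper bound, taken over
all elementary étale neighbourhoods (U, u) → (X, x) (g : U ⟶ X étale with g u = x and trivial
residue field extension), of how many irreducible components of U contain u. -/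
theorem result (X : Scheme.{u}) (x : X) :
    Brnch.numBranchesAt X x = ⨆ (U : Scheme.{u}) (g : U ⟶ X) (u : U) (_ : Hens2.IsEtaleNbhd g u x),
      {Z : Set ↑U | Z ∈ irreducibleComponents ↑U ∧ u ∈ Z}.encard := by
  apply le_antisymm
  · show Brnch.numBranches (X.presheaf.stalk x) ≤ _
    rw [Groth.Agent.Lib.BrEtNbhdH3.numBranches_eq_iSup]
    refine iSup_le fun k => ?_
    haveI : (RingHom.ker k.pt).IsPrime := Groth.Agent.Lib.HenselizationH3.ker_isPrime k.pt
    obtain ⟨U, g, u, hEt, hgu, hcount, hres⟩ :=
      Groth.Agent.Lib.BrEtNbhdH3.exists_etale_nbhd_of_etale_algebra X x k.C (RingHom.ker k.pt)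
        (Groth.Agent.Lib.HenselizationH3.ker_comap k.pt)
    have hnb : Hens2.IsEtaleNbhd g u x :=
      ⟨hEt, hgu, hres (Groth.Agent.Lib.HenselizationH3.exists_sub_mem_maximalIdeal k.pt)⟩
    exact le_iSup_of_le U (le_iSup_of_le g (le_iSup_of_le u (le_iSup_of_le hnb
      (le_of_eq hcount.symm))))
  · refine iSup_le fun U => iSup_le fun g => iSup_le fun u => iSup_le ?_
    rintro ⟨hEt, rfl, hres⟩
    exact Groth.Agent.Lib.BrEtNbhdH3.count_le_numBranchesAt g u hres

end Groth.Agent.S9752
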