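import Groth.Statements.S7157
import Mathlib
import Groth.Agent.Lib.EisExt1_helper8
import Groth.Agent.Lib.EisExt2_helper8
import Groth.Agent.Lib.EisExt3_helper8
import Groth.Agent.Lib.EisExt4_helper8

set_option autoImplicit false
universe u
open EtAlg

namespace Groth.Agent.S7157

/-- Let A be a discrete valuation ring, π a uniformizer, K its field of fractions, and suppose the
residue field of A has characteristic p > 0. For every n > 1 and every power q of p there is a
separable degree-q extension L/K that is totally ramified with respect to A and whose ring of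
integers B (the integral closure of A in L) contains elements π_B, b, b' with π_B^q = π + πⁿ·b and
π_B^q = π + π_B^(nq)·b' (π_B is then a uniformizer of B and the ramification index is q). -/
theorem result (p : ℕ) (hp : p.Prime) (A K : Type u)
    [CommRing A] [IsDomain A] [IsDiscreteValuationRing A] [Field K] [Algebra A K] [IsFractionRing A K]
    [CharP (IsLocalRing.ResidueField A) p] (π : A) (hπ : IsLocalRing.maximalIdeal A = Ideal.span {π})
    (n : ℕ) (hn : 1 < n) (k : ℕ) :
    ∃ (L : Type u) (_ : Field L) (_ : Algebra K L) (_ : Algebra A L) (_ : IsScalarTower A K L),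
      Module.finrank K L = p ^ k ∧ Algebra.IsSeparable K L ∧ EtRam.IsTotallyRamified A (algebraMap A L) ∧
      ∃ πB b b' : L, πB ∈ integralClosure A L ∧ b ∈ integralClosure A L ∧ b' ∈ integralClosure A L ∧
        πB ^ (p ^ k) = algebraMap A L π + algebraMap A L π ^ n * b ∧
        πB ^ (p ^ k) = algebraMap A L π + πB ^ (n * p ^ k) * b' := by
  classical
  rcases Nat.eq_zero_or_pos k with hk | hk
  · -- degree one: `L = K`
    subst hk
    refine ⟨K, inferInstance, Algebra.id K, inferInstance, inferInstance, ?_, inferInstance,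
      EisExtH8.isTotallyRamified_self, algebraMap A K π, 0, 0,
      (integralClosure A K).algebraMap_mem π, Subalgebra.zero_mem _, Subalgebra.zero_mem _, ?_, ?_⟩
    · simp
    · simp
    · simp
  · -- degree `q = p ^ k ≥ 2`
    have hq : 2 ≤ p ^ k := by
      calc 2 ≤ p := hp.two_le
        _ = p ^ 1 := (pow_one p).symm
        _ ≤ p ^ k := Nat.pow_le_pow_right hp.pos hk
    obtain ⟨q, hqdef⟩ : ∃ q, q = p ^ k := ⟨_, rfl⟩
    rw [← hqdef] at hq ⊢
    have hinjK : Function.Injective (algebraMap A K) := IsFractionRing.injective A K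
    have hπ0 : π ≠ 0 := by
      rintro rfl
      apply IsDiscreteValuationRing.not_a_field A
      rw [hπ, Ideal.span_singleton_eq_bot]
    have hπm : π ∈ IsLocalRing.maximalIdeal A := by
      rw [hπ]; exact Ideal.mem_span_singleton_self π
    have hmonic := EisExtH8.eisPoly_monic π q n hq
    have hdeg := EisExtH8.eisPoly_natDegree π q n hq
    have hn' : 2 ≤ n := hn
    haveI hirr : Fact (Irreducible ((EisExtH8.eisPoly π q n).map (algebraMap A K))) :=
      ⟨EisExtH8.eisPoly_map_irreducible π hπ q n hq hn'⟩
    obtain ⟨PK, hPK⟩ : ∃ PK : Polynomial K, PK = (EisExtH8.eisPoly π q n).map (algebraMap A K) :=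
      ⟨_, rfl⟩
    rw [← hPK] at hirr
    have hPKmonic : PK.Monic := hPK ▸ hmonic.map _
    have hPKdeg : PK.natDegree = q := by rw [hPK, hmonic.natDegree_map, hdeg]
    have hPKsep : PK.Separable := hPK ▸ EisExtH8.eisPoly_map_separable π hπ q n hq hn'
    have hPK0 : PK ≠ 0 := hPKmonic.ne_zero
    -- the root
    have hxeq : (AdjoinRoot.root PK) ^ q + (algebraMap A (AdjoinRoot PK) π ^ n * AdjoinRoot.root PK
        - algebraMap A (AdjoinRoot PK) π) = 0 := by
      have h1 : Polynomial.aeval (AdjoinRoot.root PK) (EisExtH8.eisPoly π q n) = 0 := by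
        rw [← Polynomial.aeval_map_algebraMap K, ← hPK, AdjoinRoot.aeval_eq, AdjoinRoot.mk_self]
      rw [EisExtH8.aeval_eisPoly] at h1
      exact h1
    have hinjL : Function.Injective (algebraMap A (AdjoinRoot PK)) := by
      rw [IsScalarTower.algebraMap_eq A K (AdjoinRoot PK)]
      exact (algebraMap K (AdjoinRoot PK)).injective.comp hinjK
    have hfrac : ∀ y : AdjoinRoot PK, ∃ a : A, a ≠ 0 ∧
        algebraMap A (AdjoinRoot PK) a * y ∈ Algebra.adjoin A {AdjoinRoot.root PK} := by
      intro y
      obtain ⟨Q, rfl⟩ := AdjoinRoot.mk_surjective y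
      obtain ⟨b, hb⟩ := IsLocalization.integerNormalization_map_to_map (nonZeroDivisors A) Q
      refine ⟨b, nonZeroDivisors.ne_zero b.2, ?_⟩
      have h1 : algebraMap A (AdjoinRoot PK) b * AdjoinRoot.mk PK Q =
          Polynomial.aeval (AdjoinRoot.root PK)
            (IsLocalization.integerNormalization (nonZeroDivisors A) Q) := by
        rw [← Polynomial.aeval_map_algebraMap K, hb, AdjoinRoot.aeval_eq, ← Algebra.smul_def,
          AdjoinRoot.smul_mk]
      rw [h1, Algebra.adjoin_singleton_eq_range_aeval]
      exact ⟨_, rfl⟩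
    have hxint : IsIntegral A (AdjoinRoot.root PK) :=
      EisExtH8.isIntegral_x π (AdjoinRoot.root PK) q n hq hxeq
    have hadj : Algebra.adjoin A {AdjoinRoot.root PK} ≤ integralClosure A (AdjoinRoot PK) :=
      Algebra.adjoin_le (Set.singleton_subset_iff.mpr hxint)
    obtain ⟨u, hu, hπu⟩ := EisExtH8.exists_unit_factor π hπ (AdjoinRoot.root PK) q n hq hn' hxeq
    refine ⟨AdjoinRoot PK, inferInstance, inferInstance, inferInstance, inferInstance, ?_, ?_,
      EisExtH8.isTotallyRamified_adjoin π hπ (AdjoinRoot.root PK) q n hq hn' hxeq hinjL hfrac,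
      AdjoinRoot.root PK, - AdjoinRoot.root PK, - (u ^ n * AdjoinRoot.root PK),
      hxint, Subalgebra.neg_mem _ hxint,
      Subalgebra.neg_mem _ (Subalgebra.mul_mem _ (Subalgebra.pow_mem _ (hadj hu) n) hxint), ?_, ?_⟩
    · rw [(AdjoinRoot.powerBasis hPK0).finrank, AdjoinRoot.powerBasis_dim, hPKdeg]
    · have h1 : IsSeparable K (AdjoinRoot.root PK) := by
        unfold IsSeparable
        rw [AdjoinRoot.minpoly_root hPK0, hPKmonic.leadingCoeff, inv_one, map_one, mul_one]
        exact hPKsep
      have h2 : Algebra.IsSeparable K (IntermediateField.adjoin K {AdjoinRoot.root PK}) :=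
        (IntermediateField.isSeparable_adjoin_simple_iff_isSeparable K (AdjoinRoot PK)).mpr h1
      rw [IntermediateField.adjoin_root_eq_top] at h2
      exact (IntermediateField.isSeparable_top K (AdjoinRoot PK)).mp h2
    · linear_combination hxeq
    · have h3 : (AdjoinRoot.root PK) ^ (n * q) * u ^ n = algebraMap A (AdjoinRoot PK) π ^ n := by
        rw [hπu, mul_pow, ← pow_mul, mul_comm q n]
      linear_combination hxeq + AdjoinRoot.root PK * h3

end Groth.Agent.S7157
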