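import Groth.Statements.S7156
import Mathlib
import Groth.Agent.Lib.InsepStep2_helper8
import Groth.Agent.Lib.InsepStep3_helper8
import Groth.Agent.Lib.InsepStep4_helper8
import Groth.Agent.Lib.InsepStep7_helper8
import Groth.Agent.Lib.N2QuasiFinite_helper3
import Groth.Agent.Lib.Japanese_helper9

set_option autoImplicit false
universe u
open EtAlg

namespace Groth.Agent.S7156

open TensorProduct in
/-- Let A → B → C be injective local homomorphisms of discrete valuation rings whose fields of fractions
are K ⊆ L ⊆ M, and let π be a uniformizer of A; suppose B is a Nagata ring, A → B is weakly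
unramified, and M/L is purely inseparable of prime degree p. Then one of the following holds: the
extension A → C is itself weakly unramified; or else C = B[π^(1/p)]; or else there is a separable
degree-p extension K₁/K, totally ramified with respect to A, for which L ⊗_K K₁ and M ⊗_K K₁ are
fields and the integral closures A₁ → B₁ → C₁ are weakly unramified extensions, i.e. K₁ is a weak
solution for A ⊆ B and for A ⊆ C. -/
theorem result (p : ℕ) (hp : p.Prime) (A B C K L M : Type u)
    [CommRing A] [IsDomain A] [IsDiscreteValuationRing A] [CommRing B] [IsDomain B] [IsDiscreteValuationRing B]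
    [CommRing C] [IsDomain C] [IsDiscreteValuationRing C]
    [Algebra A B] [Algebra B C] [Algebra A C] [IsScalarTower A B C]
    (hAB : Function.Injective (algebraMap A B)) (hBC : Function.Injective (algebraMap B C))
    [IsLocalHom (algebraMap A B)] [IsLocalHom (algebraMap B C)]
    [Field K] [Field L] [Field M] [Algebra A K] [IsFractionRing A K] [Algebra B L] [IsFractionRing B L]
    [Algebra C M] [IsFractionRing C M] [Algebra K L] [Algebra L M] [Algebra K M] [IsScalarTower K L M]
    [Algebra A L] [IsScalarTower A K L] [IsScalarTower A B L] [Algebra B M] [IsScalarTower B L M] [IsScalarTower B C M]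
    [Algebra A M] [IsScalarTower A K M] [IsScalarTower A C M]
    (π : A) (hπ : IsLocalRing.maximalIdeal A = Ideal.span {π}) (hB : CAlg.IsNagata B)
    (hw : EtRam.IsWeaklyUnramified A B) [IsPurelyInseparable L M] (hdeg : Module.finrank L M = p) :
    EtRam.IsWeaklyUnramified A C ∨
      (∃ c : C, c ^ p = algebraMap A C π ∧ Algebra.adjoin B {c} = ⊤) ∨
      ∃ (K₁ : Type u) (_ : Field K₁) (_ : Algebra K K₁),
        Module.finrank K K₁ = p ∧ Algebra.IsSeparable K K₁ ∧
          EtRam.IsTotallyRamified A ((algebraMap K K₁).comp (algebraMap A K)) ∧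
          IsField (L ⊗[K] K₁) ∧ IsField (M ⊗[K] K₁) ∧
          EtRam.IsWeakSolution B K L K₁ ∧ EtRam.IsWeakSolution C K M K₁ := by
  classical
  have hπB : IsLocalRing.maximalIdeal B = Ideal.span {algebraMap A B π} := by
    unfold EtRam.IsWeaklyUnramified at hw
    rw [← hw, hπ, Ideal.map_span, Set.image_singleton]
  have hπBirr : Irreducible (algebraMap A B π) :=
    (IsDiscreteValuationRing.irreducible_iff_uniformizer _).mpr hπB
  rcases InsepStepH8.dichotomy (L := L) (M := M) p hp hdeg (algebraMap A B π) hπBirr hBC with
    h1 | ⟨πC, u, hπC, hu, hπCp⟩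
  · left
    show Ideal.map (algebraMap A C) (IsLocalRing.maximalIdeal A) = IsLocalRing.maximalIdeal C
    rw [hπ, Ideal.map_span, Set.image_singleton, IsScalarTower.algebraMap_apply A B C]
    exact ((IsDiscreteValuationRing.irreducible_iff_uniformizer _).mp h1).symm
  · rcases InsepStepH8.split (algebraMap A B π) u hπB p with ⟨m, b, c, hbc, hc⟩ | hall
    · right; right
      exact InsepStepH8.third_case p hp A B C K L M hBC π hπ hw hdeg πC u hu hπCp m b c hbc hc
    · right; left
      obtain ⟨hchar, -⟩ := InsepStepH8.charP_and_pow_mem (L := L) (M := M) p hp hdeg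
      haveI := hchar
      haveI : FiniteDimensional L M := Module.finite_of_finrank_pos (hdeg ▸ hp.pos)
      have hN : ∀ (M' : Type u) [Field M'] [Algebra B M'] [Algebra L M'] [IsScalarTower B L M'],
          FiniteDimensional L M' → Module.Finite B (integralClosure B M') := by
        haveI : (⊥ : Ideal B).IsPrime := Ideal.isPrime_bot
        have hN2 : CAlg.IsN2 B :=
          Groth.Agent.Lib.N2QuasiFiniteH3.isN2_of_ringEquiv (RingEquiv.quotientBot B) (hB.2 ⊥)
        rw [Groth.Agent.Lib.Japanese.isN2_iff_isN2'] at hN2
        intro M' _ _ _ _ hfin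
        exact hN2 L M' hfin
      obtain ⟨c₀, hc₀⟩ := InsepStepH8.exists_root_of_forall (L := L) (M := M) p hp hN
        (algebraMap A B π) u hπB πC hπC hu hπCp hall
      obtain ⟨c, hcp, hadj⟩ := InsepStepH8.adjoin_eq_top (L := L) (M := M) (C := C) p hp hdeg
        (algebraMap A B π) hπBirr c₀ hc₀
      exact ⟨c, by rw [hcp, ← IsScalarTower.algebraMap_apply A B C], hadj⟩

end Groth.Agent.S7156
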