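import Groth.Statements.S9839
import Groth.Agent.Lib.AlgSpFpqc_helper7

set_option autoImplicit false
open CategoryTheory CategoryTheory.Limits AlgebraicGeometry Opposite
universe u
open Desc

namespace Groth.Agent.S9839

/-- Openness can be tested on an fpqc covering family. -/
theorem isOpen_of_fpqc {ι : Type u} {T : Scheme.{u}} {Ti : ι → Scheme.{u}}
    (f : ∀ i, Ti i ⟶ T) (hf : Presieve.ofArrows Ti f ∈ Scheme.fpqcPrecoverage T)
    (A : Set T) (hA : ∀ i, IsOpen ((f i) ⁻¹' A)) : IsOpen A := by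
  let E : PreZeroHypercover.{u} T := ⟨ι, Ti, f⟩
  have hqc : QuasiCompactCover E := by
    rw [← Scheme.presieve₀_mem_qcPrecoverage_iff]
    exact hf.1
  have hfl : ∀ i, Flat (f i) := by
    have := hf.2
    rw [Scheme.ofArrows_mem_precoverage_iff] at this
    exact this.2
  rw [isOpen_iff_forall_mem_open]
  intro x hx
  obtain ⟨U, hU, hxU, -⟩ : ∃ U : T.Opens, U ∈ T.affineOpens ∧ x ∈ U ∧ U ≤ ⊤ :=
    TopologicalSpace.Opens.isBasis_iff_nbhd.mp T.isBasis_affineOpens
      (show x ∈ (⊤ : T.Opens) from trivial)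
  obtain ⟨n, a, V, hV, hVU⟩ := QuasiCompactCover.exists_isAffineOpen_of_isCompact E hU.isCompact
  have hVU' : ∀ k, Set.range ((V k).ι ≫ f (a k)) ⊆ Set.range U.ι := by
    intro k
    rintro _ ⟨v, rfl⟩
    rw [Scheme.Opens.range_ι, ← hVU]
    exact Set.mem_iUnion.2 ⟨k, v.1, v.2, by rw [Scheme.Hom.comp_apply]; rfl⟩
  let c : ∀ k, (V k).toScheme ⟶ U.toScheme := fun k =>
    IsOpenImmersion.lift U.ι ((V k).ι ≫ f (a k)) (hVU' k)
  have hc : ∀ k, c k ≫ U.ι = (V k).ι ≫ f (a k) := fun k => IsOpenImmersion.lift_fac _ _ _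
  haveI : IsAffine U.toScheme := hU
  haveI : ∀ k, IsAffine (V k).toScheme := fun k => hV k
  haveI : ∀ k, Flat (c k) := fun k => by
    haveI := hfl (a k)
    have : Flat (c k ≫ U.ι) := by rw [hc k]; infer_instance
    exact MorphismProperty.of_postcomp (W := @Flat) (W' := @IsOpenImmersion) (c k) U.ι
      inferInstance this
  have hs : ∀ z : U.toScheme, ∃ k, z ∈ Set.range (c k) := by
    intro z
    have hz : (U.ι z) ∈ (U : Set T) := z.2
    rw [← hVU] at hz
    obtain ⟨k, v, hv, hvz⟩ := Set.mem_iUnion.1 hz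
    refine ⟨k, ⟨v, hv⟩, ?_⟩
    apply U.ι.isOpenEmbedding.injective
    rw [← Scheme.Hom.comp_apply, hc k, Scheme.Hom.comp_apply]
    exact hvz
  have hopen : IsOpen (U.ι ⁻¹' A) := by
    refine Groth.Agent.Lib.AlgSpFpqc_helper7.isOpen_of_forall_preimage_of_flat_cover
      (fun k => (V k).toScheme) c hs _ fun k => ?_
    have : (c k) ⁻¹' (U.ι ⁻¹' A) = (V k).ι ⁻¹' ((f (a k)) ⁻¹' A) := by
      ext v
      simp only [Set.mem_preimage]
      rw [← Scheme.Hom.comp_apply, hc k, Scheme.Hom.comp_apply]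
    rw [this]
    exact (hA (a k)).preimage (V k).ι.continuous
  refine ⟨U.ι '' (U.ι ⁻¹' A), ?_, U.ι.isOpenEmbedding.isOpenMap _ hopen, ⟨⟨x, hxU⟩, hx, rfl⟩⟩
  rintro _ ⟨z, hz, rfl⟩
  exact hz

/-- Let f i : T i ⟶ T be an fpqc covering family of a scheme T (a family in the fpqc precoverage) and W
i ⊆ T i open subsets such that for all i, j the inverse images of W i and W j under the two
projections of T i ×_T T j coincide. Then there is a unique open subset W ⊆ T with (f i)⁻¹(W) = W i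
for every i. -/
theorem result {ι : Type u} {T : Scheme.{u}} {Ti : ι → Scheme.{u}}
    (f : ∀ i, Ti i ⟶ T) (hf : Presieve.ofArrows Ti f ∈ Scheme.fpqcPrecoverage T)
    (W : ∀ i, (Ti i).Opens)
    (hW : ∀ i j, (pullback.fst (f i) (f j)) ⁻¹ᵁ (W i) = (pullback.snd (f i) (f j)) ⁻¹ᵁ (W j)) :
    ∃! V : T.Opens, ∀ i, (f i) ⁻¹ᵁ V = W i := by
  have hsurj : ∀ t : T, ∃ i, t ∈ Set.range (f i) := by
    have := hf.2
    rw [Scheme.ofArrows_mem_precoverage_iff] at this
    exact this.1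
  have key : ∀ j, (f j) ⁻¹' (⋃ i, (f i) '' (W i : Set (Ti i))) = (W j : Set (Ti j)) := by
    intro j
    ext y
    constructor
    · intro hy
      obtain ⟨i, x, hx, hxy⟩ := Set.mem_iUnion.1 hy
      obtain ⟨z, hz1, hz2⟩ := Scheme.Pullback.exists_preimage_pullback (f := f i) (g := f j) x y hxy
      have h1 : z ∈ (pullback.fst (f i) (f j)) ⁻¹ᵁ (W i) := by
        show pullback.fst (f i) (f j) z ∈ W i
        rw [hz1]; exact hx
      rw [hW i j] at h1
      have h2 : pullback.snd (f i) (f j) z ∈ W j := h1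
      rwa [hz2] at h2
    · intro hy
      exact Set.mem_iUnion.2 ⟨j, y, hy, rfl⟩
  have hopen : IsOpen (⋃ i, (f i) '' (W i : Set (Ti i))) :=
    isOpen_of_fpqc f hf _ fun j => by rw [key j]; exact (W j).2
  refine ⟨⟨_, hopen⟩, fun j => TopologicalSpace.Opens.ext (key j), fun V' hV' => ?_⟩
  apply TopologicalSpace.Opens.ext
  ext t
  obtain ⟨i, x, rfl⟩ := hsurj t
  have h1 : f i x ∈ (V' : Set T) ↔ x ∈ (W i : Set (Ti i)) := by
    rw [← hV' i]; rfl
  have h2 : f i x ∈ (⋃ i, (f i) '' (W i : Set (Ti i))) ↔ x ∈ (W i : Set (Ti i)) := by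
    rw [← key i]; rfl
  exact h1.trans h2.symm

end Groth.Agent.S9839
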