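import Groth.Statements.S1131
import Mathlib.Tactic
import Mathlib.AlgebraicGeometry.Sites.Fpqc

set_option autoImplicit false
open CategoryTheory CategoryTheory.Limits AlgebraicGeometry Opposite
universe u
open Desc

namespace Groth.Agent.S1131

/-- If p : X ⟶ S is surjective, flat and quasi-compact, then the functor sending a scheme over S to its
canonical descent datum relative to p is full. (Faithfulness, which needs no quasi-compactness, is a
companion statement.) (Descent data are taken in functor-of-points form, equivalent by the Yoneda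
lemma to the usual form of an isomorphism over X ×_S X satisfying the cocycle condition.) -/
theorem result {X S : Scheme.{u}} (p : X ⟶ S) [Surjective p] [Flat p] [QuasiCompact p] :
    (Desc.toDD p).Full := by
  constructor
  intro U U' F
  -- notation
  let q : pullback p U.hom ⟶ U.left := pullback.snd p U.hom
  let FL : pullback p U.hom ⟶ pullback p U'.hom := F.hom.left
  have hFL : FL ≫ pullback.fst p U'.hom = pullback.fst p U.hom := Over.w F.hom
  let h : pullback p U.hom ⟶ U'.left := FL ≫ pullback.snd p U'.hom
  haveI : EffectiveEpi q := inferInstance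
  have hdesc : ∀ {Z : Scheme.{u}} (a b : Z ⟶ pullback p U.hom), a ≫ q = b ≫ q → a ≫ h = b ≫ h := by
    intro T a b hab
    have hx : (a ≫ pullback.fst p U.hom) ≫ p = (b ≫ pullback.fst p U.hom) ≫ p := by
      rw [Category.assoc, Category.assoc, pullback.condition, ← Category.assoc, ← Category.assoc]
      exact congrArg (· ≫ U.hom) hab
    let v : Desc.Lifts (Desc.canonicalDD p U).obj (a ≫ pullback.fst p U.hom) := ⟨a, rfl⟩
    let w : Desc.Lifts (Desc.canonicalDD p U').obj (a ≫ pullback.fst p U.hom) :=
      ⟨a ≫ FL, by
        show (a ≫ FL) ≫ pullback.fst p U'.hom = a ≫ pullback.fst p U.hom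
        rw [Category.assoc, hFL]⟩
    have hc : (Desc.canMap p U' _ _ hx w).1 = (Desc.canMap p U _ _ hx v).1 ≫ FL :=
      F.comm (a ≫ pullback.fst p U.hom) (b ≫ pullback.fst p U.hom) hx v w rfl
    have hb : (Desc.canMap p U _ _ hx v).1 = b := by
      rw [Desc.canMap_val]
      apply pullback.hom_ext
      · rw [pullback.lift_fst]
      · rw [pullback.lift_snd]
        exact hab
    rw [hb, Desc.canMap_val] at hc
    have hc2 := congrArg (· ≫ pullback.snd p U'.hom) hc
    simp only [pullback.lift_snd] at hc2
    have hc3 : (a ≫ FL) ≫ pullback.snd p U'.hom = b ≫ FL ≫ pullback.snd p U'.hom := hc2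
    exact (Category.assoc _ _ _).symm.trans hc3
  let g : U.left ⟶ U'.left := EffectiveEpi.desc q h hdesc
  have hg : q ≫ g = h := EffectiveEpi.fac q h hdesc
  haveI : Epi q := inferInstance
  have hgS : g ≫ U'.hom = U.hom := by
    rw [← cancel_epi q, ← Category.assoc, hg]
    show (FL ≫ pullback.snd p U'.hom) ≫ U'.hom = pullback.snd p U.hom ≫ U.hom
    rw [Category.assoc, ← pullback.condition, ← Category.assoc, hFL, pullback.condition]
  refine ⟨Over.homMk g hgS, ?_⟩
  apply Desc.SchDD.hom_ext
  apply Over.OverMorphism.ext
  apply pullback.hom_ext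
  · have e1 : ((Desc.toDD p).map (Over.homMk g hgS)).hom.left ≫ pullback.fst p U'.hom =
        pullback.fst p U.hom ≫ 𝟙 X := pullback.lift_fst _ _ _
    exact e1.trans ((Category.comp_id _).trans hFL.symm)
  · have e2 : ((Desc.toDD p).map (Over.homMk g hgS)).hom.left ≫ pullback.snd p U'.hom =
        pullback.snd p U.hom ≫ g := pullback.lift_snd _ _ _
    exact e2.trans hg

end Groth.Agent.S1131
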