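import Groth.Statements.S1134
import Groth.Agent.Lib.DescAff_helper6
import Groth.Agent.Lib.QAffDesc4_helper6
import Groth.Agent.Lib.QuasiAffine_helper3

set_option autoImplicit false
open CategoryTheory CategoryTheory.Limits AlgebraicGeometry Opposite
universe u
open Desc

namespace Groth.Agent.S1134

/-- Let p : X → S be a surjective, flat and quasi-compact morphism of schemes. Every descent datum
relative to p whose underlying scheme is quasi-affine over X is effective: it is isomorphic to the
canonical descent datum of some scheme over S. Descent data are taken in functor-of-points form,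
equivalent by the Yoneda lemma to the usual form of an isomorphism over X ×_S X satisfying the
cocycle condition. -/
theorem result {X S : Scheme.{u}} (p : X ⟶ S) [Surjective p] [Flat p] [QuasiCompact p]
    (D : Desc.SchDD p) (hD : Mor2.IsQuasiAffine D.obj.hom) : ∃ U : Over S, Nonempty ((Desc.toDD p).obj U ≅ D) := by
  have hu : Presieve.ofArrows (fun _ : PUnit.{u+1} => X) (fun _ => p) ∈
      Scheme.fpqcPrecoverage S := by
    rw [Presieve.ofArrows_pUnit]
    exact p.singleton_mem_fpqcPrecoverage
  have hD' := (Groth.Agent.Lib.QuasiAffine_helper3.mor2_iff D.obj.hom).mp hD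
  have heff := Groth.Agent.Lib.ZarDescH6.isEffective_of_fpqc
    (@QuasiCompact ⊓ Groth.Agent.Lib.QuasiAffine_helper3.PQA : MorphismProperty Scheme.{u})
    (fun m Y V q hq =>
      ⟨Groth.Agent.Lib.AffDescH6.sigmaMap_of_isZariskiLocalAtTarget @QuasiCompact m Y V q
          (fun j => (hq j).1),
        Groth.Agent.Lib.AffDescH6.sigmaMap_of_isZariskiLocalAtTarget
          Groth.Agent.Lib.QuasiAffine_helper3.PQA m Y V q (fun j => (hq j).2)⟩)
    (fun X S p hX hS hf hs D hD => by
      haveI := hX; haveI := hS; haveI := hf; haveI := hs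
      haveI : QuasiCompact D.obj.hom := hD.1
      haveI : D.obj.left.IsQuasiAffine :=
        Groth.Agent.Lib.QuasiAffine_helper3.isQuasiAffine_of_PQA D.obj.hom hD.2
      exact Groth.Agent.Lib.AffDescH6.exists_descent_of_isQuasiAffine p D)
    (fun _ : PUnit.{u+1} => p) hu ((Desc.SchDDFam.ofSchDD p).obj D) (fun _ => hD')
  obtain ⟨U, ⟨e⟩⟩ := heff
  exact ⟨U, ⟨(Desc.SchDDFam.toSchDD p).mapIso e⟩⟩

end Groth.Agent.S1134
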