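import Groth.Statements.S0346
import Mathlib
import Groth.Agent.Lib.GrpShear_helper7

set_option autoImplicit false
universe u v
open CategoryTheory MonoidalCategory CartesianMonoidalCategory MonObj GrpObj AlgebraicGeometry
open GrpSch

namespace Groth.Agent.S0346

/-- A group scheme over any base scheme is separated over the base exactly when its unit section is a
closed immersion, and quasi-separated exactly when the unit section is quasi-compact. -/
theorem result (S : Scheme.{u}) (G : Over S) [GrpObj G] : (IsSeparated G.hom ↔ IsClosedImmersion η[G].left) ∧ (QuasiSeparated G.hom ↔ QuasiCompact η[G].left) := by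
  have hpb := (Groth.Agent.Lib.GrpShearH7.isPullback_diag_unit G).map (Over.forget S)
  have hdiag : (lift (𝟙 G) (𝟙 G)).left = Limits.pullback.diagonal G.hom := rfl
  have hη : (η[G]).left ≫ G.hom = 𝟙 S := Over.w η[G]
  refine ⟨⟨?_, ?_⟩, ⟨?_, ?_⟩⟩
  · intro h
    haveI : IsClosedImmersion ((η[G]).left ≫ G.hom) := by
      have h0 : IsClosedImmersion (𝟙 S) := inferInstance
      rw [hη]; exact h0
    exact IsClosedImmersion.of_comp (η[G]).left G.hom
  · intro h
    refine ⟨?_⟩
    rw [← hdiag]
    exact MorphismProperty.of_isPullback (P := @IsClosedImmersion) hpb h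
  · intro h
    haveI : QuasiCompact ((η[G]).left ≫ G.hom) := by
      have h0 : QuasiCompact (𝟙 S) := inferInstance
      rw [hη]; exact h0
    exact QuasiCompact.of_comp (η[G]).left G.hom
  · intro h
    refine ⟨?_⟩
    rw [← hdiag]
    exact MorphismProperty.of_isPullback (P := @QuasiCompact) hpb h

end Groth.Agent.S0346
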