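import Groth.Statements.S2045
import Groth.Agent.Lib.HensGRing_helper3
import Groth.Agent.Lib.GRingIso_helper3
import Groth.Agent.Lib.Henselization13_helper3
import Groth.Agent.Lib.Henselization12_helper3
-- import your own Groth.Agent.* helpers here

set_option autoImplicit false
universe u
open CAlg


namespace Groth.Agent.S2045

/-- If `R` is a Noetherian local G-ring then its henselization is a G-ring. -/
theorem result {R S : Type u} [CommRing R] [IsLocalRing R] [IsNoetherianRing R]
    (hR : CAlg.IsGRing R) [CommRing S] [IsLocalRing S] [Algebra R S] [IsLocalHom (algebraMap R S)]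
    [Hensel.IsHenselization R S] : CAlg.IsGRing S := by
  haveI hN : IsNoetherianRing S := by
    obtain ⟨e, -⟩ := Groth.Agent.Lib.HenselizationH3.exists_ringEquiv_hens (R := R) S
    exact isNoetherianRing_of_ringEquiv _ e.symm
  have hie : EtPBC.IsIndEtale R S := by
    obtain ⟨e, he⟩ := Groth.Agent.Lib.HenselizationH3.exists_ringEquiv_hens (R := R) S
    exact Groth.Agent.Lib.IndEtaleH3.isIndEtale_of_ringEquiv e.symm (fun r => by
      rw [← he r, RingEquiv.symm_apply_apply]) Groth.Agent.Lib.HenselizationH3.isIndEtale_hens
  haveI : Module.Flat R S := Groth.Agent.Lib.IndEtaleH3.flat_of_isIndEtale hie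
  have hm := Groth.Agent.Lib.HenselizationH3.map_maximalIdeal_of_isHenselization (R := R) S
  have hk := Groth.Agent.Lib.HenselizationH3.residueField_map_bijective_of_isHenselization (R := R) S
  have hbij : Function.Bijective (Groth.Agent.Lib.FFTransferH3.psi R S) :=
    Groth.Agent.Lib.ComplMapIsoH3.bijective_of_comp R S hm hk (Groth.Agent.Lib.FFTransferH3.psi R S) (by
      refine RingHom.ext fun a => ?_
      exact Groth.Agent.Lib.FFTransferH3.psi_of R S a)
  apply Groth.Agent.Lib.GRingIsoH3.isGRing_of_isRegularHom_cpl
  exact Groth.Agent.Lib.HensGRingH3.isRegularHom_cpl_of_isIndEtale R S hie hbij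
    (Groth.Agent.Lib.GRingIsoH3.isRegularHom_cpl_of_isGRing R hR)

end Groth.Agent.S2045
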