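import Groth.Statements.S13598
import Mathlib

set_option autoImplicit false
universe u
open Hensel

namespace Groth.Agent.S13598

/-- For a local ring A, a henselization A ⟶ S of A (S a henselian local ring, the structure map local,
and initial among local homomorphisms from A to henselian local rings) and an ideal I of A inside
the maximal ideal, the quotient S/IS with its induced algebra structure over A/I is a henselization
of A/I. (The local-ring and local-homomorphism instances on the quotients hold automatically; they
are taken as hypotheses only so that the conclusion can be stated.) -/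
theorem result {A S : Type u} [CommRing A] [IsLocalRing A] [CommRing S]
    [IsLocalRing S] [Algebra A S] [IsLocalHom (algebraMap A S)] [Hensel.IsHenselization A S]
    (I : Ideal A) (hI : I ≤ IsLocalRing.maximalIdeal A)
    [IsLocalRing (A ⧸ I)] [IsLocalRing (S ⧸ I.map (algebraMap A S))]
    [IsLocalHom (algebraMap (A ⧸ I) (S ⧸ I.map (algebraMap A S)))] :
    Hensel.IsHenselization (A ⧸ I) (S ⧸ I.map (algebraMap A S)) := by
  classical
  have hS : HenselianLocalRing S := IsHenselization.henselian (R := A)
  have hmk_surj : Function.Surjective (Ideal.Quotient.mk (I.map (algebraMap A S))) :=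
    Ideal.Quotient.mk_surjective
  have hloc : IsLocalHom (Ideal.Quotient.mk (I.map (algebraMap A S))) :=
    IsLocalHom.of_surjective _ hmk_surj
  have hlocA : IsLocalHom (Ideal.Quotient.mk I) :=
    IsLocalHom.of_surjective _ Ideal.Quotient.mk_surjective
  have hcomm : ∀ a : A, algebraMap (A ⧸ I) (S ⧸ I.map (algebraMap A S)) (Ideal.Quotient.mk I a)
      = Ideal.Quotient.mk _ (algebraMap A S a) := fun a => rfl
  have hcomap : (IsLocalRing.maximalIdeal (S ⧸ I.map (algebraMap A S))).comap
      (Ideal.Quotient.mk (I.map (algebraMap A S))) = IsLocalRing.maximalIdeal S :=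
    IsLocalRing.maximalIdeal_comap _
  refine ⟨⟨?_⟩, ?_⟩
  · intro f hf a₀ h₁ h₂
    obtain ⟨F, hF, -, hFm⟩ := Polynomial.lifts_and_natDegree_eq_and_monic
      (f := Ideal.Quotient.mk (I.map (algebraMap A S))) (p := f)
      (by rw [Polynomial.mem_lifts]; exact Polynomial.map_surjective _ hmk_surj f) hf
    obtain ⟨b₀, rfl⟩ := hmk_surj a₀
    subst hF
    rw [Polynomial.eval_map_apply] at h₁
    rw [Polynomial.derivative_map, Polynomial.eval_map_apply] at h₂
    have h₁' : F.eval b₀ ∈ IsLocalRing.maximalIdeal S := by
      rw [← hcomap]; exact h₁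
    have h₂' : IsUnit (F.derivative.eval b₀) := hloc.map_nonunit _ h₂
    obtain ⟨b, hb, hbb⟩ := hS.is_henselian F hFm b₀ h₁' h₂'
    refine ⟨Ideal.Quotient.mk _ b, ?_, ?_⟩
    · rw [Polynomial.IsRoot.def, Polynomial.eval_map_apply, hb.eq_zero, map_zero]
    · rw [← map_sub]
      rw [← hcomap] at hbb
      exact hbb
  · intro T _ _ f hf
    have hfl : IsLocalHom (f.comp (Ideal.Quotient.mk I)) :=
      RingHom.isLocalHom_comp f (Ideal.Quotient.mk I)
    obtain ⟨g, hg, hgu⟩ := IsHenselization.universal (R := A) (S := S) T
      (f.comp (Ideal.Quotient.mk I)) hfl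
    have hg' : ∀ a : A, g (algebraMap A S a) = f (Ideal.Quotient.mk I a) := fun a =>
      congrArg (fun φ : A →+* T => φ a) hg
    have hker : ∀ s ∈ I.map (algebraMap A S), g s = 0 := by
      intro s hs
      have hle : I.map (algebraMap A S) ≤ RingHom.ker g := by
        rw [Ideal.map_le_iff_le_comap]
        intro a ha
        rw [Ideal.mem_comap, RingHom.mem_ker, hg' a, Ideal.Quotient.eq_zero_iff_mem.mpr ha,
          map_zero]
      exact hle hs
    refine ⟨Ideal.Quotient.lift _ g hker, ?_, ?_⟩
    · apply Ideal.Quotient.ringHom_ext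
      ext a
      simp only [RingHom.comp_apply]
      rw [hcomm, Ideal.Quotient.lift_mk]
      exact hg' a
    · intro g₂ hg₂
      have h2 : g₂.comp (Ideal.Quotient.mk (I.map (algebraMap A S))) = g := by
        apply hgu
        ext a
        simp only [RingHom.comp_apply]
        rw [← hcomm, ← hg₂]
        rfl
      apply Ideal.Quotient.ringHom_ext
      ext s
      simp only [RingHom.comp_apply, Ideal.Quotient.lift_mk]
      rw [← h2]
      rfl

end Groth.Agent.S13598
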