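import Groth.Statements.S0532
import Groth.Agent.Lib.EtLiftGlobal_lead
import Groth.Agent.Lib.FinitePart_lead

set_option autoImplicit false
universe u
open Hensel

namespace Groth.Agent.S0532

/-- If `A` is Henselian at `I`, every finite étale `A/I`-algebra is the base change of a finite étale
`A`-algebra. -/
theorem result (A : Type u) [CommRing A] (I : Ideal A) [HenselianRing A I]
    (C : Type u) [CommRing C] [Algebra (A ⧸ I) C] [Module.Finite (A ⧸ I) C] [Algebra.Etale (A ⧸ I) C] :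
    ∃ (B : Type u) (_ : CommRing B) (_ : Algebra A B), Module.Finite A B ∧ Algebra.Etale A B ∧
      Nonempty (TensorProduct A (A ⧸ I) B ≃ₐ[A ⧸ I] C) := by
  classical
  obtain ⟨S, _, _, hSet, ⟨ε⟩⟩ := Groth.Agent.Lib.EtLiftGlobal.exists_etale_lift A I C
  haveI : Module.Finite (A ⧸ I) (TensorProduct A (A ⧸ I) S) := Module.Finite.equiv ε.symm.toLinearEquiv
  haveI : Module.Finite A (TensorProduct A (A ⧸ I) S) := Module.Finite.trans (A ⧸ I) _
  let θS := Algebra.TensorProduct.quotIdealMapEquivQuotTensor S I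
  have hfin : Module.Finite A (S ⧸ I.map (algebraMap A S)) :=
    Module.Finite.equiv ((θS.restrictScalars A).symm.toLinearEquiv)
  haveI : Algebra.FiniteType A S := inferInstance
  haveI : Algebra.QuasiFinite A S := inferInstance
  obtain ⟨e, he, h1e, hBfin⟩ :=
    Groth.Agent.Lib.FinitePart.exists_finite_part (‹HenselianRing A I›) S hfin
  haveI : IsLocalization.Away e (S ⧸ Ideal.span {1 - e}) :=
    IsLocalization.Away.quotient_of_isIdempotentElem he
  haveI : Algebra.Etale S (S ⧸ Ideal.span {1 - e}) := Algebra.Etale.of_isLocalizationAway e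
  haveI : Algebra.Etale A (S ⧸ Ideal.span {1 - e}) := Algebra.Etale.comp A S _
  have hmap : (I.map (algebraMap A S)).map (Ideal.Quotient.mk (Ideal.span {1 - e})) =
      I.map (algebraMap A (S ⧸ Ideal.span {1 - e})) := by
    rw [Ideal.map_map]; rfl
  let f : (S ⧸ I.map (algebraMap A S)) →ₐ[A]
      ((S ⧸ Ideal.span {1 - e}) ⧸ I.map (algebraMap A (S ⧸ Ideal.span {1 - e}))) :=
    Ideal.quotientMapₐ (I.map (algebraMap A (S ⧸ Ideal.span {1 - e})))
      (Ideal.Quotient.mkₐ A (Ideal.span {1 - e})) (by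
        rw [← hmap]; exact Ideal.le_comap_map)
  have hfmk : ∀ s : S, f (Ideal.Quotient.mk _ s) =
      Ideal.Quotient.mk _ (Ideal.Quotient.mk (Ideal.span {1 - e}) s) := fun s => rfl
  have hinj : Function.Injective f := by
    rw [injective_iff_map_eq_zero]
    intro x hx
    obtain ⟨s, rfl⟩ := Ideal.Quotient.mk_surjective x
    rw [hfmk, Ideal.Quotient.eq_zero_iff_mem, ← hmap,
      Ideal.mem_map_iff_of_surjective _ Ideal.Quotient.mk_surjective] at hx
    obtain ⟨t, ht, hts⟩ := hx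
    rw [Ideal.Quotient.eq, Ideal.mem_span_singleton] at hts
    obtain ⟨w, hw⟩ := hts
    rw [Ideal.Quotient.eq_zero_iff_mem]
    have : s = t - (1 - e) * w := by rw [← hw]; ring
    rw [this]
    exact sub_mem ht (Ideal.mul_mem_right _ _ h1e)
  have hsurj : Function.Surjective f := by
    intro y
    obtain ⟨b, rfl⟩ := Ideal.Quotient.mk_surjective y
    obtain ⟨s, rfl⟩ := Ideal.Quotient.mk_surjective b
    exact ⟨Ideal.Quotient.mk _ s, hfmk s⟩
  let Ψ₀ : (S ⧸ I.map (algebraMap A S)) ≃ₐ[A]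
      ((S ⧸ Ideal.span {1 - e}) ⧸ I.map (algebraMap A (S ⧸ Ideal.span {1 - e}))) :=
    AlgEquiv.ofBijective f ⟨hinj, hsurj⟩
  have hs : Function.Surjective (algebraMap A (A ⧸ I)) := Ideal.Quotient.mk_surjective
  let Ψ : (S ⧸ I.map (algebraMap A S)) ≃ₐ[A ⧸ I]
      ((S ⧸ Ideal.span {1 - e}) ⧸ I.map (algebraMap A (S ⧸ Ideal.span {1 - e}))) :=
    AlgEquiv.extendScalarsOfSurjective hs Ψ₀
  let θB := Algebra.TensorProduct.quotIdealMapEquivQuotTensor (S ⧸ Ideal.span {1 - e}) I
  exact ⟨S ⧸ Ideal.span {1 - e}, inferInstance, inferInstance, hBfin, inferInstance,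
    ⟨θB.symm.trans (Ψ.symm.trans (θS.trans ε))⟩⟩

end Groth.Agent.S0532
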