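import Groth.Statements.S17971
import Groth.Agent.Lib.ClopenLift_helper3
-- import your own Groth.Agent.* helpers here

set_option autoImplicit false
open CategoryTheory CategoryTheory.Limits AlgebraicGeometry

universe u
open Hensel

namespace Groth.Agent.S17971

/-- For a commutative ring A and an ideal I, the pair (A, I) is henselian if and only if the couple
(Spec A, Spec (A/I)) is henselian, i.e. if and only if for every finite morphism g : Y ⟶ Spec A
every open-closed subset of Y ×_{Spec A} Spec (A/I) is the inverse image under the first projection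
of exactly one open-closed subset of Y. -/
theorem result (A : Type u) [CommRing A] (I : Ideal A) :
    HenselianRing A I ↔
    ∀ (Y : Scheme.{u}) (g : Y ⟶ Spec (CommRingCat.of A)), IsFinite g →
      ∀ V : Set ↥(pullback g (Spec.map (CommRingCat.ofHom (Ideal.Quotient.mk I)))), IsClopen V →
        ∃! U : Set ↥Y, IsClopen U ∧ (pullback.fst g (Spec.map (CommRingCat.ofHom (Ideal.Quotient.mk I)))).base ⁻¹' U = V := by
  constructor
  · intro hI Y g hfin
    haveI := hfin
    haveI : IsAffine Y := isAffine_of_isAffineHom g
    set ψ := (Scheme.ΓSpecIso (CommRingCat.of A)).inv ≫ g.appTop with hψ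
    have hgeq := Groth.Agent.Lib.ClopenLiftH3.eq_isoSpec_comp g
    have h1 : IsFinite (Spec.map ψ) := by
      have : IsFinite (Y.isoSpec.hom ≫ Spec.map ψ) := by rw [← hgeq]; infer_instance
      exact (MorphismProperty.cancel_left_of_respectsIso @IsFinite _ _).mp this
    have h2 : ψ.hom.Finite := (IsFinite.SpecMap_iff _).mp h1
    letI : Algebra A Γ(Y, ⊤) := ψ.hom.toAlgebra
    haveI : Module.Finite A Γ(Y, ⊤) := h2
    haveI : Algebra.IsIntegral A Γ(Y, ⊤) := Algebra.IsIntegral.of_finite A _
    have h3 := Groth.Agent.Lib.GabberIdem.bijOn_of_integral hI Γ(Y, ⊤)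
    have h4 := (Groth.Agent.Lib.ClopenLiftH3.clopenLift_fst_iff I g Γ(Y, ⊤) ψ.hom
      (Scheme.homeoOfIso Y.isoSpec) (fun y => by
        have := congrArg (fun f : Y ⟶ Spec (CommRingCat.of A) => f.base y) hgeq
        exact this)).2 h3
    exact h4
  · intro H
    refine Groth.Agent.Lib.GabberIdem.henselian_of_bijOn I (fun B _ _ hfin => ?_)
    have hfin' : IsFinite (Spec.map (CommRingCat.ofHom (algebraMap A B))) :=
      (IsFinite.SpecMap_iff _).mpr (RingHom.finite_algebraMap.2 hfin)
    exact (Groth.Agent.Lib.ClopenLiftH3.clopenLift_fst_iff I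
      (Spec.map (CommRingCat.ofHom (algebraMap A B))) B (algebraMap A B)
      (Homeomorph.refl _) (fun y => rfl)).1
      (H (Spec (CommRingCat.of B)) (Spec.map (CommRingCat.ofHom (algebraMap A B))) hfin')

end Groth.Agent.S17971
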