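import Groth.Statements.S9289
import Groth.Agent.Lib.GRingQF_helper3
-- import your own Groth.Agent.* helpers here

set_option autoImplicit false
universe u
open CAlg


namespace Groth.Agent.S9289

/-- Let R and R' be Noetherian rings with R' of finite type over R and quasi-finite at the prime p' of
R', lying over p. If R_p has geometrically regular formal fibres, so does R'_{p'}; stated as: if the
completion map of R_p is regular, so is that of R'_{p'}. -/
theorem result (R R' : Type u) [CommRing R]
    [CommRing R'] [IsNoetherianRing R] [IsNoetherianRing R'] [Algebra R R'] [Algebra.FiniteType R R']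
    (p' : Ideal R') [p'.IsPrime] [Algebra.QuasiFiniteAt R p']
    (h : CAlg.IsRegularHom (Localization.AtPrime (Ideal.comap (algebraMap R R') p'))
      (AdicCompletion (IsLocalRing.maximalIdeal (Localization.AtPrime (Ideal.comap (algebraMap R R') p')))
        (Localization.AtPrime (Ideal.comap (algebraMap R R') p')))) :
    CAlg.IsRegularHom (Localization.AtPrime p')
      (AdicCompletion (IsLocalRing.maximalIdeal (Localization.AtPrime p')) (Localization.AtPrime p')) := by
  obtain ⟨hloc, hnoeth, hcompl, hff, hlh, hmap⟩ :=
    Groth.Agent.Lib.AnUnramH3.completion_facts (Localization.AtPrime p')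
  haveI := hnoeth
  haveI := hff
  haveI : Module.Flat (Localization.AtPrime p')
      (AdicCompletion (IsLocalRing.maximalIdeal (Localization.AtPrime p'))
        (Localization.AtPrime p')) := inferInstance
  refine ⟨inferInstance, fun Q' _ =>
    ⟨Groth.Agent.Lib.RegFlatH3.isNoetherianRing_fiber _ _ Q', ?_⟩⟩
  have hf : (p'.comap (algebraMap R R')) = p'.comap (algebraMap R R') := rfl
  have hQ : Ideal.comap (algebraMap R (Localization.AtPrime (Ideal.comap (algebraMap R R') p')))
      (Q'.comap (Localization.localRingHom (p'.comap (algebraMap R R')) p' (algebraMap R R') hf)) =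
      Ideal.comap (algebraMap R (Localization.AtPrime p')) Q' := by
    ext x
    simp only [Ideal.mem_comap]
    rw [Localization.localRingHom_to_map, ← IsScalarTower.algebraMap_apply R R']
  exact Groth.Agent.Lib.GRingQFH3.isGeometricallyRegular_formalFibre_of_quasiFiniteAt R R' p' Q'
    (Q'.comap (Localization.localRingHom (p'.comap (algebraMap R R')) p' (algebraMap R R') hf))
    hQ (h.2 _).2

end Groth.Agent.S9289
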