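import Groth.Statements.S6338
-- import your own Groth.Agent.* helpers here

set_option autoImplicit false
universe u
open CAlg

namespace Groth.Agent.S6338

/-- Let M₁ → M₂ be a universally injective map of modules over a commutative ring (equivalently the
first map of a universally exact short exact sequence). If M₂ is Mittag-Leffler then so is M₁. -/
theorem result (R : Type u) [CommRing R] {M₁ M₂ : Type u}
    [AddCommGroup M₁] [Module R M₁] [AddCommGroup M₂] [Module R M₂] (f : M₁ →ₗ[R] M₂)
    (hf : CAlgX.UniversallyInjective R f) (h₂ : CAlg.IsMittagLeffler R M₂) :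
    CAlg.IsMittagLeffler R M₁ := by
  intro ι Q _ _
  have hnat : (LinearMap.pi fun i => (f.rTensor (Q i)) ∘ₗ LinearMap.proj i) ∘ₗ
      (TensorProduct.piRightHom R R M₁ Q) =
      (TensorProduct.piRightHom R R M₂ Q) ∘ₗ f.rTensor (∀ i, Q i) := by
    ext x q i
    simp
  have hinj : Function.Injective ((TensorProduct.piRightHom R R M₂ Q) ∘ₗ f.rTensor (∀ i, Q i)) := by
    rw [LinearMap.coe_comp]
    exact (h₂ ι Q).comp (hf _)
  rw [← hnat, LinearMap.coe_comp] at hinj
  exact Function.Injective.of_comp hinj

end Groth.Agent.S6338
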