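import Groth.Statements.S6340
import Groth.Agent.Lib.PiTensor_lead
-- import your own Groth.Agent.* helpers here

set_option autoImplicit false
universe u
open CAlg

namespace Groth.Agent.S6340

/-- Let M₁ → M₂ → M₃ → 0 be exact with M₁ finitely generated; if M₂ is Mittag-Leffler then so is M₃.
Equivalently, as stated here: the quotient of a Mittag-Leffler module by a finitely generated
submodule is Mittag-Leffler. -/
theorem result (R : Type u) [CommRing R] {M : Type u} [AddCommGroup M] [Module R M]
    (N : Submodule R M) (hN : N.FG) (hM : CAlg.IsMittagLeffler R M) :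
    CAlg.IsMittagLeffler R (M ⧸ N) := by
  intro ι Q _ _
  have : Module.Finite R N := Module.Finite.of_fg hN
  have hex : Function.Exact N.subtype N.mkQ := LinearMap.exact_subtype_mkQ N
  have hsurj : Function.Surjective N.mkQ := N.mkQ_surjective
  have hnat₁ : ∀ y, (fun i => N.subtype.rTensor (Q i) (TensorProduct.piRightHom R R N Q y i)) =
      TensorProduct.piRightHom R R M Q (N.subtype.rTensor (∀ i, Q i) y) := by
    intro y
    induction y using TensorProduct.induction_on with
    | zero => simp; rfl
    | tmul x q => ext i; simp
    | add a b ha hb =>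
      simp only [map_add, Pi.add_apply]
      rw [← ha, ← hb]
      rfl
  have hnat₂ : ∀ y, (fun i => N.mkQ.rTensor (Q i) (TensorProduct.piRightHom R R M Q y i)) =
      TensorProduct.piRightHom R R (M ⧸ N) Q (N.mkQ.rTensor (∀ i, Q i) y) := by
    intro y
    induction y using TensorProduct.induction_on with
    | zero => simp; rfl
    | tmul x q => ext i; simp
    | add a b ha hb =>
      simp only [map_add, Pi.add_apply]
      rw [← ha, ← hb]
      rfl
  rw [injective_iff_map_eq_zero]
  intro z hz
  obtain ⟨x, rfl⟩ := LinearMap.rTensor_surjective (∀ i, Q i) hsurj z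
  -- `b x` lies componentwise in the kernel, hence in the image of `∏ ι ⊗ Q`
  have hker : ∀ i, ∃ w : TensorProduct R N (Q i),
      N.subtype.rTensor (Q i) w = TensorProduct.piRightHom R R M Q x i := by
    intro i
    apply (rTensor_exact (Q i) hex hsurj _).mp
    have := congrFun (hnat₂ x) i
    rw [this, hz]
    rfl
  choose w hw using hker
  obtain ⟨y, hy⟩ := Groth.Agent.Lib.PiTensor_lead.piRightHom_surjective_of_finite N Q w
  have hxy : N.subtype.rTensor (∀ i, Q i) y = x := by
    apply hM ι Q
    rw [← hnat₁, hy]
    ext i
    exact hw i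
  rw [← hxy, ← LinearMap.comp_apply, ← LinearMap.rTensor_comp, hex.linearMap_comp_eq_zero,
    LinearMap.rTensor_zero, LinearMap.zero_apply]

end Groth.Agent.S6340
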