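import Groth.Statements.S0584
import Groth.Agent.Lib.CountableProj_helper3
import Groth.Agent.S0583
import Groth.Agent.Lib.MittagLeffler_lead
-- import your own Groth.Agent.* helpers here

set_option autoImplicit false
universe u
open scoped Classical
open Groth.Agent.Lib
open CAlg

namespace Groth.Agent.S0584

/-- Projectivity of a module is equivalent to the conjunction of three conditions — flatness, the
Mittag-Leffler property, and being an internal direct sum of countably generated submodules. -/
theorem result (R : Type u) [CommRing R] (M : Type u)
    [AddCommGroup M] [Module R M] :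
    Module.Projective R M ↔ (Module.Flat R M ∧ CAlg.IsMittagLeffler R M ∧
      ∃ (ι : Type u) (N : ι → Submodule R M), DirectSum.IsInternal N ∧
        ∀ i, CAlg.IsCountablyGenerated R (N i)) := by
  constructor
  · intro hproj
    obtain ⟨s, hs⟩ := Module.projective_def'.1 hproj
    let π : (M →₀ R) →ₗ[R] M := Finsupp.linearCombination R (id : M → M)
    have hπs : ∀ m, π (s m) = m := fun m => LinearMap.congr_fun hs m
    refine ⟨inferInstance, MittagLeffler_lead.of_split s π hs (MittagLeffler_lead.of_free _), ?_⟩
    -- the coordinate lines of the free module
    let v : M → (M →₀ R) := fun z => Finsupp.single z 1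
    have hv : v = ⇑(Finsupp.basisSingleOne (R := R) (ι := M)) := by
      rw [Finsupp.coe_basisSingleOne]
    let N : M → Submodule R (M →₀ R) := fun z => Submodule.span R {v z}
    have hNint : DirectSum.IsInternal N := by
      apply DirectSum.isInternal_submodule_of_iSupIndep_of_iSup_eq_top
      · have hli : LinearIndependent R v := by
          rw [hv]
          exact (Finsupp.basisSingleOne (R := R) (ι := M)).linearIndependent
        exact hli.iSupIndep_span_singleton
      · show ⨆ z, Submodule.span R {v z} = ⊤
        rw [← Submodule.span_range_eq_iSup, hv]
        exact (Finsupp.basisSingleOne (R := R) (ι := M)).span_eq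
    have hNc : ∀ z, CAlg.IsCountablyGenerated R (N z) := fun z =>
      Kaplansky.isCountablyGenerated_of_span (N z) {v z} (Set.countable_singleton _) rfl
    have hcompl : IsCompl (LinearMap.range s) (LinearMap.ker π) := by
      constructor
      · rw [disjoint_iff, eq_bot_iff]
        rintro x ⟨⟨m, rfl⟩, hx⟩
        have h0 : π (s m) = 0 := hx
        rw [hπs] at h0
        rw [h0, map_zero]
        exact Submodule.zero_mem _
      · rw [codisjoint_iff, eq_top_iff]
        intro x _
        have hx : x = s (π x) + (x - s (π x)) := by abel
        rw [hx]
        refine Submodule.add_mem_sup ⟨π x, rfl⟩ ?_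
        rw [LinearMap.mem_ker, map_sub, hπs, sub_self]
    obtain ⟨κ, L, hLint, hLc⟩ := Groth.Agent.S0583.result R (M →₀ R) M N hNint hNc
      (LinearMap.range s) (LinearMap.ker π) hcompl
    have hsinj : Function.Injective s := fun a b hab => by
      rw [← hπs a, ← hπs b, hab]
    let e : M ≃ₗ[R] ↥(LinearMap.range s) := LinearEquiv.ofInjective s hsinj
    refine ⟨κ, fun k => (L k).map e.symm.toLinearMap, ?_, ?_⟩
    · have hind := hLint.submodule_iSupIndep
      have htop := hLint.submodule_iSup_eq_top
      apply DirectSum.isInternal_submodule_of_iSupIndep_of_iSup_eq_top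
      · exact hind.map_orderIso (Submodule.orderIsoMapComap e.symm)
      · rw [← Submodule.map_iSup, htop, Submodule.map_top]
        exact LinearEquiv.range e.symm
    · intro k
      obtain ⟨t, ht, htspan⟩ := hLc k
      have h1 : L k = Submodule.span R ((L k).subtype '' t) := by
        rw [← Submodule.map_span, htspan, Submodule.map_subtype_top]
      refine Kaplansky.isCountablyGenerated_of_span _
        (e.symm.toLinearMap '' ((L k).subtype '' t)) ((ht.image _).image _) ?_
      rw [← Submodule.map_span, ← h1]
  · rintro ⟨hflat, hML, ι, N, hN, hc⟩
    let E : (DirectSum ι fun i => N i) ≃ₗ[R] M :=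
      LinearEquiv.ofBijective (DirectSum.coeLinearMap N) hN
    have hE : ∀ (i : ι) (n : N i), E.symm (n : M) = DirectSum.of (fun i => N i) i n := by
      intro i n
      rw [LinearEquiv.symm_apply_eq]
      show (n : M) = DirectSum.coeLinearMap N (DirectSum.of (fun i => N i) i n)
      rw [DirectSum.coeLinearMap_of]
    have hproj : ∀ i, Module.Projective R (N i) := by
      intro i
      let r : M →ₗ[R] N i := DirectSum.component R ι (fun i => N i) i ∘ₗ E.symm.toLinearMap
      have hr : r ∘ₗ (N i).subtype = LinearMap.id := by
        refine LinearMap.ext fun n => ?_
        show DirectSum.component R ι (fun i => N i) i (E.symm (n : M)) = n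
        rw [hE, ← DirectSum.lof_eq_of R, DirectSum.component.of]
        simp
      haveI : Module.Flat R (N i) := Module.Flat.of_retract (N i).subtype r hr
      exact CountableProjH3.projective_of_flat_of_isMittagLeffler_of_isCountablyGenerated
        (MittagLeffler_lead.of_split (N i).subtype r hr hML) (hc i)
    haveI : Module.Projective R (Π₀ i, N i) := inferInstance
    haveI : Module.Projective R (DirectSum ι fun i => N i) :=
      (inferInstance : Module.Projective R (Π₀ i, N i))
    exact Module.Projective.of_equiv E

end Groth.Agent.S0584
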