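import Groth.Statements.S0585
import Groth.Agent.Lib.ProjDescent_helper3
import Groth.Agent.S0584
-- import your own Groth.Agent.* helpers here

set_option autoImplicit false
universe u
open CAlg
open Groth.Agent.Lib

namespace Groth.Agent.S0585

/-- Let `R → S` be faithfully flat and `M` an `R`-module. If `S ⊗ M` is a projective `S`-module then `M`
is a projective `R`-module. -/
theorem result (R : Type u) [CommRing R] (S : Type u) [CommRing S]
    [Algebra R S] [Module.FaithfullyFlat R S] (M : Type u) [AddCommGroup M] [Module R M]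
    [Module.Projective S (TensorProduct R S M)] : Module.Projective R M := by
  classical
  obtain ⟨hflatS, hMLS, ι, Q, hQint, hQcg⟩ :=
    (Groth.Agent.S0584.result S (TensorProduct R S M)).1 inferInstance
  have hind : iSupIndep Q := hQint.submodule_iSupIndep
  have htop : iSup Q = ⊤ := hQint.submodule_iSup_eq_top
  have hQc : ∀ i, ∃ t : Set (TensorProduct R S M), t.Countable ∧ Submodule.span S t = Q i := by
    intro i
    obtain ⟨s, hs, hspan⟩ := hQcg i
    refine ⟨(Q i).subtype '' s, hs.image _, ?_⟩
    rw [← Submodule.map_span, hspan, Submodule.map_subtype_top]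
  obtain ⟨PP, hindep, hcg, hsup⟩ := ProjDescentH3.exists_indep_family Q hind htop hQc
  haveI : Module.Flat R M := Module.Flat.of_flat_tensorProduct R M S
  have hML : CAlg.IsMittagLeffler R M :=
    MLDescentH3.isMittagLeffler_of_baseChange (S := S) M hMLS
  refine (Groth.Agent.S0584.result R M).2 ⟨inferInstance, hML, ↥PP, fun P => P.1, ?_, ?_⟩
  · have h1 : iSupIndep (fun P : ↥PP => P.1) := (sSupIndep_iff PP).1 hindep
    have h2 : (⨆ P : ↥PP, P.1) = ⊤ := by rw [← sSup_eq_iSup', hsup]
    exact DirectSum.isInternal_submodule_of_iSupIndep_of_iSup_eq_top (dec_ι := _) h1 h2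
  · intro P
    obtain ⟨s, hs, hspan⟩ := hcg P.1 P.2
    exact Kaplansky.isCountablyGenerated_of_span P.1 s hs hspan.symm

end Groth.Agent.S0585
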