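import Groth.Statements.S6414
-- import your own Groth.Agent.* helpers here

set_option autoImplicit false
open CategoryTheory
universe v₁ u₁ v₂ u₂ v₃ u₃
open FibCat

namespace Groth.Agent.S6414

/-- A morphism that is strongly cartesian with respect to `F : 𝒜 ⥤ ℬ` and whose image is strongly
cartesian with respect to `G : ℬ ⥤ 𝒞` is strongly cartesian with respect to `F ⋙ G`. -/
theorem result {𝒜 : Type u₁} [Category.{v₁} 𝒜] {ℬ : Type u₂} [Category.{v₂} ℬ] {𝒞 : Type u₃} [Category.{v₃} 𝒞] (F : 𝒜 ⥤ ℬ) (G : ℬ ⥤ 𝒞) {x y : 𝒜} (φ : x ⟶ y)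
    [F.IsStronglyCartesian (F.map φ) φ] [G.IsStronglyCartesian (G.map (F.map φ)) (F.map φ)] :
    (F ⋙ G).IsStronglyCartesian ((F ⋙ G).map φ) φ := by
  refine { toIsHomLift := inferInstance, universal_property' := ?_ }
  intro a' g φ' hφ'
  -- the lift in ℬ
  have h1 : G.IsHomLift (g ≫ G.map (F.map φ)) (F.map φ') := by
    have := hφ'
    have e := IsHomLift.fac' (F ⋙ G) (g ≫ (F ⋙ G).map φ) φ'
    apply IsHomLift.of_fac' G _ _ rfl rfl
    simpa using e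
  obtain ⟨χ', ⟨hχ'1, hχ'2⟩, hχ'u⟩ :=
    Functor.IsStronglyCartesian.universal_property' (p := G) (f := G.map (F.map φ)) (φ := F.map φ) g (F.map φ')
  have h2 : F.IsHomLift (χ' ≫ F.map φ) φ' := by
    rw [hχ'2]; infer_instance
  obtain ⟨χ, ⟨hχ1, hχ2⟩, hχu⟩ :=
    Functor.IsStronglyCartesian.universal_property' (p := F) (f := F.map φ) (φ := φ) χ' φ'
  refine ⟨χ, ⟨?_, hχ2⟩, ?_⟩
  · have e1 : F.map χ = χ' := (IsHomLift.eq_of_isHomLift F χ' χ).symm
    have e2 : G.map χ' = g := (IsHomLift.eq_of_isHomLift G g χ').symm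
    have : (F ⋙ G).map χ = g := by simp [e1, e2]
    rw [← this]; infer_instance
  · rintro χ₂ ⟨hχ₂1, hχ₂2⟩
    have e3 : g = (F ⋙ G).map χ₂ := IsHomLift.eq_of_isHomLift (F ⋙ G) g χ₂
    have h3 : G.IsHomLift g (F.map χ₂) := by
      rw [e3]; exact IsHomLift.map G (F.map χ₂)
    have e4 : F.map χ₂ = χ' := hχ'u (F.map χ₂) ⟨h3, by rw [← F.map_comp, hχ₂2]⟩
    have h4 : F.IsHomLift χ' χ₂ := by rw [← e4]; infer_instance
    exact hχu χ₂ ⟨h4, hχ₂2⟩

end Groth.Agent.S6414
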