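import Groth.Statements.S1483
import Mathlib
import Groth.Agent.Lib.FibCritD_helper6
import Groth.Agent.Lib.FibInjF_helper6
import Groth.Agent.Lib.FreeLocBC_helper6

set_option autoImplicit false
universe u
open FlatMor

namespace Groth.Agent.S1483

open AlgebraicGeometry CategoryTheory Limits in
/-- Fibrewise flatness criterion (critère de platitude par fibres), pointwise equivalence for a module:
let f : X → Y and g : Y → S be morphisms of schemes with X locally of finite presentation over S
(via g ∘ f) and Y locally of finite type over S, F a finitely presented quasi-coherent O_X-module,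
and x a point of X with images y = f(x) and s = g(y) at which the stalk F_x is nonzero. The
following are equivalent: (a) F is flat over S at x and F_x / 𝔪_s F_x is flat over O_{Y,y} / 𝔪_s
O_{Y,y}; (b) the morphism g is flat at the point y and F is Y-flat at x. The published statement
also asserts that the locus of such x is open in the support of F; that is not restated here (the
companion statement for F = O_X carries it). -/
theorem result {X Y S : Scheme.{u}} (f : X ⟶ Y) (g : Y ⟶ S) [LocallyOfFinitePresentation (f ≫ g)] [LocallyOfFiniteType g]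
    (F : X.Modules) (hq : Coh.IsQCoh F) (hfp : CohB1.IsFP F) (x : X) (hx : Nontrivial ↑(F.presheaf.stalk x)) :
    letI := FlatMod.moduleStalkOver f F x
    (FlatMod.IsFlatOverAt (f ≫ g) F x ∧
      Module.Flat (↑(Y.presheaf.stalk (f x)) ⧸ Ideal.map (g.stalkMap (f x)).hom (IsLocalRing.maximalIdeal ↑(S.presheaf.stalk (g (f x)))))
        (↑(F.presheaf.stalk x) ⧸ (Ideal.map (g.stalkMap (f x)).hom (IsLocalRing.maximalIdeal ↑(S.presheaf.stalk (g (f x)))) •
          (⊤ : Submodule ↑(Y.presheaf.stalk (f x)) ↑(F.presheaf.stalk x))))) ↔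
    ((g.stalkMap (f x)).hom.Flat ∧ FlatMod.IsFlatOverAt f F x) := by
  letI inst := FlatMod.moduleStalkOver f F x
  haveI : F.IsQuasicoherent := hq
  haveI := hx
  letI algRB : Algebra (S.presheaf.stalk (g (f x))) (Y.presheaf.stalk (f x)) :=
    (g.stalkMap (f x)).hom.toAlgebra
  letI algBC : Algebra (Y.presheaf.stalk (f x)) (X.presheaf.stalk x) :=
    (f.stalkMap x).hom.toAlgebra
  letI algRC : Algebra (S.presheaf.stalk (g (f x))) (X.presheaf.stalk x) :=
    ((f ≫ g).stalkMap x).hom.toAlgebra
  have e : ((f ≫ g).stalkMap x).hom = (f.stalkMap x).hom.comp (g.stalkMap (f x)).hom := by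
    rw [Scheme.Hom.stalkMap_comp]; rfl
  haveI : IsScalarTower (S.presheaf.stalk (g (f x))) (Y.presheaf.stalk (f x))
      (X.presheaf.stalk x) := IsScalarTower.of_algebraMap_eq' e
  letI modRM : Module (S.presheaf.stalk (g (f x))) (F.presheaf.stalk x) :=
    Module.compHom _ ((f ≫ g).stalkMap x).hom
  haveI : IsScalarTower (Y.presheaf.stalk (f x)) (X.presheaf.stalk x) (F.presheaf.stalk x) :=
    IsScalarTower.of_algebraMap_smul fun _ _ => rfl
  haveI : IsScalarTower (S.presheaf.stalk (g (f x))) (X.presheaf.stalk x) (F.presheaf.stalk x) :=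
    IsScalarTower.of_algebraMap_smul fun _ _ => rfl
  haveI : IsScalarTower (S.presheaf.stalk (g (f x))) (Y.presheaf.stalk (f x))
      (F.presheaf.stalk x) := IsScalarTower.of_algebraMap_smul fun r m => by
    show (f.stalkMap x).hom ((g.stalkMap (f x)).hom r) • m = ((f ≫ g).stalkMap x).hom r • m
    rw [e]
    rfl
  haveI : IsLocalHom (algebraMap (S.presheaf.stalk (g (f x))) (Y.presheaf.stalk (f x))) :=
    inferInstanceAs (IsLocalHom (g.stalkMap (f x)).hom)
  haveI : IsLocalHom (algebraMap (Y.presheaf.stalk (f x)) (X.presheaf.stalk x)) :=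
    inferInstanceAs (IsLocalHom (f.stalkMap x).hom)
  haveI : Module.FinitePresentation (X.presheaf.stalk x) (F.presheaf.stalk x) :=
    Groth.Agent.Lib.FreeLocBCH6.finitePresentation_stalk F hfp x
  haveI : Algebra.EssFiniteType (S.presheaf.stalk (g (f x))) (Y.presheaf.stalk (f x)) :=
    LocallyOfFiniteType.stalkMap (f := g) (f x)
  have hS' : CAlgX.IsEssFinitePresentation (S.presheaf.stalk (g (f x))) (X.presheaf.stalk x) :=
    Groth.Agent.Lib.FibInjH6.isEssFinitePresentation_stalkMap (f ≫ g) x
  have e1 : FlatMod.IsFlatOverAt (f ≫ g) F x ↔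
      Module.Flat (S.presheaf.stalk (g (f x))) (F.presheaf.stalk x) := Iff.rfl
  have e2 : FlatMod.IsFlatOverAt f F x ↔
      Module.Flat (Y.presheaf.stalk (f x)) (F.presheaf.stalk x) := Iff.rfl
  have e3 : (g.stalkMap (f x)).hom.Flat ↔
      Module.Flat (S.presheaf.stalk (g (f x))) (Y.presheaf.stalk (f x)) := Iff.rfl
  obtain ⟨I, hI⟩ : ∃ I : Ideal (Y.presheaf.stalk (f x)), I = Ideal.map (g.stalkMap (f x)).hom
    (IsLocalRing.maximalIdeal ↑(S.presheaf.stalk (g (f x)))) := ⟨_, rfl⟩
  rw [← hI, e1, e2, e3]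
  let eq : TensorProduct (Y.presheaf.stalk (f x)) ((Y.presheaf.stalk (f x)) ⧸ I) (F.presheaf.stalk x)
      ≃ₗ[(Y.presheaf.stalk (f x)) ⧸ I]
      ((F.presheaf.stalk x) ⧸ (I • (⊤ : Submodule (Y.presheaf.stalk (f x)) (F.presheaf.stalk x)))) :=
    (TensorProduct.quotTensorEquivQuotSMul (F.presheaf.stalk x) I).extendScalarsOfSurjective
      Ideal.Quotient.mk_surjective
  constructor
  · rintro ⟨h1, h2⟩
    haveI := h1
    exact Groth.Agent.Lib.FibCritH6.fibre_criterion_essFiniteType
      (R := S.presheaf.stalk (g (f x)))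
      (S := Y.presheaf.stalk (f x)) (S' := X.presheaf.stalk x) (M := F.presheaf.stalk x)
      hS' (hI ▸ h2)
  · rintro ⟨h1, h2⟩
    haveI := h1
    haveI := h2
    refine ⟨Module.Flat.trans _ (Y.presheaf.stalk (f x)) _, ?_⟩
    exact Module.Flat.of_linearEquiv eq.symm

end Groth.Agent.S1483
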