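import Groth.Statements.S4863
import Mathlib
import Groth.Agent.Lib.FlatSec_helper8
import Groth.Agent.Lib.QCohFP2_helper9
import Groth.Agent.Lib.FlatLocFP1_helper6
import Groth.Agent.S0387

set_option autoImplicit false
universe u
open EGA43

namespace Groth.Agent.S4863

open AlgebraicGeometry CategoryTheory Limits in
/-- First assertion, for a module: let f : X ⟶ Y be locally of finite presentation and F a
quasi-coherent O_X-module of finite presentation. Then the set of points of X at which F is f-flat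
is open. -/
theorem result {X Y : Scheme.{u}} (f : X ⟶ Y)
    [LocallyOfFinitePresentation f] (F : X.Modules) [Coh.IsQCoh F] (hF : CohB1.IsFP F) :
    IsOpen {x : X | FlatMod.IsFlatOverAt f F x} := by

  classical
  haveI : F.IsQuasicoherent := ‹Coh.IsQCoh F›
  haveI : SheafOfModules.IsFinitePresentation (R := X.ringCatSheaf) F := hF
  rw [isOpen_iff_forall_mem_open]
  intro x hx
  obtain ⟨V, hV, hyV, -⟩ := TopologicalSpace.Opens.isBasis_iff_nbhd.mp Y.isBasis_affineOpens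
    (show f.base x ∈ (⊤ : Y.Opens) from trivial)
  obtain ⟨U, hU, hxU, e⟩ := TopologicalSpace.Opens.isBasis_iff_nbhd.mp X.isBasis_affineOpens
    (show x ∈ f ⁻¹ᵁ V from hyV)
  letI algAB : Algebra Γ(Y, V) Γ(X, U) := (f.appLE V U e).hom.toAlgebra
  letI mA : Module Γ(Y, V) Γ(F, U) := Module.compHom Γ(F, U) (f.appLE V U e).hom
  haveI : IsScalarTower Γ(Y, V) Γ(X, U) Γ(F, U) :=
    IsScalarTower.of_algebraMap_smul (fun _ _ => rfl)
  haveI : Algebra.FinitePresentation Γ(Y, V) Γ(X, U) :=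
    HasRingHomProperty.appLE (P := @LocallyOfFinitePresentation) f inferInstance ⟨V, hV⟩ ⟨U, hU⟩ e
  haveI : Module.FinitePresentation Γ(X, U) Γ(F, U) :=
    QCohFP2.finitePresentation_of_isFinitePresentation F hU
  have hW := Groth.Agent.S0387.result (R := Γ(Y, V)) (S := Γ(X, U)) (M := Γ(F, U))
  have key : ∀ (y : X) (hyU : y ∈ U), FlatMod.IsFlatOverAt f F y ↔
      Module.Flat Γ(Y, V)
        (LocalizedModule (hU.primeIdealOf ⟨y, hyU⟩).asIdeal.primeCompl Γ(F, U)) := by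
    intro y hyU
    rw [FlatSecH8.isFlatOverAt_iff_flat_stalk f F hV e hyU]
    letI mB : Module Γ(X, U) (F.presheaf.stalk y) := StalkLocH8.modSec F hyU
    letI mR : Module Γ(Y, V) (F.presheaf.stalk y) :=
      Module.compHom _ ((X.presheaf.germ U y hyU).hom.comp (f.appLE V U e).hom)
    haveI : IsScalarTower Γ(Y, V) Γ(X, U) (F.presheaf.stalk y) :=
      IsScalarTower.of_algebraMap_smul (fun _ _ => rfl)
    haveI := StalkLocH8.isLocalizedModule_germLin F hU hyU
    exact Groth.Agent.Lib.FlatLocFP1H6.flat_iff_of_isLocalizedModule (A := Γ(Y, V))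
      (C := Γ(X, U)) (hU.primeIdealOf ⟨y, hyU⟩).asIdeal.primeCompl (StalkLocH8.germLin F hyU)
  refine ⟨(fun 𝔭 : PrimeSpectrum Γ(X, U) => (hU.fromSpec 𝔭 : X)) ''
    {q : PrimeSpectrum Γ(X, U) |
      Module.Flat Γ(Y, V) (LocalizedModule q.asIdeal.primeCompl Γ(F, U))}, ?_,
    hU.fromSpec.isOpenEmbedding.isOpenMap _ hW,
    ⟨hU.primeIdealOf ⟨x, hxU⟩, (key x hxU).mp hx, hU.fromSpec_primeIdealOf ⟨x, hxU⟩⟩⟩
  rintro _ ⟨𝔭, h𝔭, rfl⟩
  have hyU : (hU.fromSpec 𝔭 : X) ∈ U := by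
    have : (hU.fromSpec 𝔭 : X) ∈ hU.fromSpec.opensRange := ⟨𝔭, rfl⟩
    rwa [hU.opensRange_fromSpec] at this
  have hprime : hU.primeIdealOf ⟨hU.fromSpec 𝔭, hyU⟩ = 𝔭 := by
    apply hU.fromSpec.isOpenEmbedding.injective
    rw [hU.fromSpec_primeIdealOf]
  show FlatMod.IsFlatOverAt f F (hU.fromSpec 𝔭)
  rw [key _ hyU, hprime]
  exact h𝔭

end Groth.Agent.S4863
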