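import Groth.Statements.S4599
import Mathlib.AlgebraicGeometry.Morphisms.FinitePresentation

set_option autoImplicit false
universe u
open AlgebraicGeometry CategoryTheory CategoryTheory.Limits
open EGA41

namespace Groth.Agent.S4599

section

variable {P P' : MorphismProperty Scheme.{u}} {Q Q' : ∀ {R S : Type u} [CommRing R] [CommRing S], (R →+* S) → Prop}
variable [HasRingHomProperty P Q] [HasRingHomProperty P' Q']

theorem of_comp' 
    (H : ∀ {R S T : Type u} [CommRing R] [CommRing S] [CommRing T],
      ∀ (f : R →+* S) (g : S →+* T), Q (g.comp f) → Q' f → Q g)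
    {X Y Z : Scheme.{u}} {f : X ⟶ Y} {g : Y ⟶ Z} (h : P (f ≫ g)) (hg : P' g) : P f := by
  wlog hZ : IsAffine Z generalizing X Y Z
  · rw [IsZariskiLocalAtTarget.iff_of_iSup_eq_top (P := P) _
      (g.iSup_preimage_eq_top (iSup_affineOpens_eq_top Z))]
    intro U
    have H1 := IsZariskiLocalAtTarget.restrict h U.1
    rw [morphismRestrict_comp] at H1
    have H2 := IsZariskiLocalAtTarget.restrict hg U.1
    exact this H1 H2 inferInstance
  wlog hY : IsAffine Y generalizing X Y
  · rw [IsZariskiLocalAtTarget.iff_of_iSup_eq_top (P := P) _ (iSup_affineOpens_eq_top Y)]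
    intro U
    have H1 := HasRingHomProperty.comp_of_isOpenImmersion P (f ⁻¹ᵁ U.1).ι (f ≫ g) h
    rw [← morphismRestrict_ι_assoc] at H1
    have H2 := HasRingHomProperty.comp_of_isOpenImmersion P' U.1.ι g hg
    exact this H1 H2 inferInstance
  wlog hX : IsAffine X generalizing X
  · rw [IsZariskiLocalAtSource.iff_of_iSup_eq_top (P := P) _ (iSup_affineOpens_eq_top X)]
    intro U
    have H1 := HasRingHomProperty.comp_of_isOpenImmersion P U.1.ι (f ≫ g) h
    rw [← Category.assoc] at H1
    exact this H1 inferInstance
  rw [HasRingHomProperty.iff_of_isAffine (P := P)] at h ⊢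
  rw [HasRingHomProperty.iff_of_isAffine (P := P')] at hg
  exact H _ _ h hg

end

theorem lfp_of_comp {X Y Z : Scheme.{u}} (f : X ⟶ Y) (g : Y ⟶ Z)
    [h : LocallyOfFinitePresentation (f ≫ g)] [hg : LocallyOfFiniteType g] :
    LocallyOfFinitePresentation f :=
  of_comp' (P := @LocallyOfFinitePresentation) (P' := @LocallyOfFiniteType)
    (fun f _ h1 h2 => RingHom.FinitePresentation.of_comp_finiteType f h1 h2) h hg


/-- The diagonal of a morphism locally of finite type is locally of finite presentation. -/
theorem result {Y Z : Scheme.{u}} (g : Y ⟶ Z)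
    [LocallyOfFiniteType g] : LocallyOfFinitePresentation (pullback.diagonal g) := by
  have : LocallyOfFinitePresentation (pullback.diagonal g ≫ pullback.fst g g) := by
    rw [pullback.diagonal_fst]
    infer_instance
  exact lfp_of_comp (pullback.diagonal g) (pullback.fst g g)

end Groth.Agent.S4599
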