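import Groth.Statements.S12597
import Mathlib
import Groth.Agent.Lib.FunFldJump_helper2

set_option autoImplicit false
open FunFld

namespace Groth.Agent.S12597

/-- Over an algebraically closed constant field, multiplying a projective map `φ = (φ₀, …, φₙ)` by a
nonzero function `y` does not change its `τ`-order sequence `J`, and multiplies the Wronskian `det
[τ(φ) | D^(j₁) φ | ⋯ | D^(jₙ) φ]` taken at that sequence by `τ(y) yⁿ`. -/
theorem result
    (k K : Type*) [Field k] [IsAlgClosed k] [Field K] [Algebra k K]
    (hK : FunFld.IsFunctionField k K) {n : ℕ} (φ : Fin (n + 1) → K) (hφ : LinearIndependent k φ)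
    (τ : K →ₐ[k] K) (s : K) (H : K →ₐ[k] PowerSeries K) (hH : LocRes.IsHasseFamily s H) (y : K) (hy : y ≠ 0) :
    (∀ J : Fin n → ℕ, FunFld.IsOrders K (FunFld.hcol τ H (y • φ)) J ↔ FunFld.IsOrders K (FunFld.hcol τ H φ) J) ∧
    ∀ J : Fin n → ℕ, FunFld.IsOrders K (FunFld.hcol τ H φ) J →
      (FunFld.wrMat τ H (y • φ) J).det = τ y * y ^ n * (FunFld.wrMat τ H φ J).det := by
  classical
  have hτy : τ y ≠ 0 := (map_ne_zero τ).mpr hy
  have h0c : FunFld.hcol τ H (y • φ) 0 = τ y • FunFld.hcol τ H φ 0 := by
    funext i
    show τ ((y • φ) i) = τ y * τ (φ i)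
    rw [Pi.smul_apply, smul_eq_mul, map_mul]
  have hSc : ∀ j, FunFld.hcol τ H (y • φ) (j + 1) - y • FunFld.hcol τ H φ (j + 1) ∈
      FunFld.spanLt K (FunFld.hcol τ H φ) (j + 1) := by
    intro j
    have hexp : FunFld.hcol τ H (y • φ) (j + 1) =
        ∑ p ∈ Finset.HasAntidiagonal.antidiagonal j,
          LocRes.hasseD H p.1 y • FunFld.hcol τ H φ (p.2 + 1) := by
      funext i
      show LocRes.hasseD H j ((y • φ) i) = _
      rw [Pi.smul_apply, smul_eq_mul, FunFld.hasseD_mul, Finset.sum_apply]
      rfl
    have hmem0 : ((0, j) : ℕ × ℕ) ∈ Finset.HasAntidiagonal.antidiagonal j := by simp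
    rw [hexp, ← Finset.add_sum_erase _ _ hmem0]
    simp only [FunFld.hasseD_zero_apply hH]
    rw [add_sub_cancel_left]
    apply Submodule.sum_mem
    intro p hp
    rw [Finset.mem_erase, Finset.HasAntidiagonal.mem_antidiagonal] at hp
    apply Submodule.smul_mem
    apply FunFld.mem_spanLt
    have hne : p.2 ≠ j := fun h => hp.1 (Prod.ext (by simp only; omega) (by simp only; exact h))
    omega
  have htri : ∀ m, ∃ u : K, u ≠ 0 ∧ FunFld.hcol τ H (y • φ) m - u • FunFld.hcol τ H φ m ∈
      FunFld.spanLt K (FunFld.hcol τ H φ) m := by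
    intro m
    cases m with
    | zero =>
      refine ⟨τ y, hτy, ?_⟩
      rw [h0c, sub_self]
      exact Submodule.zero_mem _
    | succ j => exact ⟨y, hy, hSc j⟩
  have hjump : ∀ j, FunFld.IsJump K (FunFld.hcol τ H (y • φ)) j ↔
      FunFld.IsJump K (FunFld.hcol τ H φ) j :=
    FunFld.isJump_congr_of_triangular _ _ htri
  refine ⟨fun J => ?_, fun J hJ => ?_⟩
  · unfold FunFld.IsOrders
    simp only [hjump]
  · let g : Fin (n + 1) → ℕ := Fin.cases 0 (fun a => J a + 1)
    have hcolg : ∀ (ψ : Fin (n + 1) → K) (q : Fin (n + 1)),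
        (FunFld.wrMat τ H ψ J).col q = FunFld.hcol τ H ψ (g q) := by
      intro ψ q
      funext i
      induction q using Fin.cases with
      | zero =>
        show FunFld.wrMat τ H ψ J i 0 = _
        simp [FunFld.wrMat, g, FunFld.hcol]
      | succ a =>
        show FunFld.wrMat τ H ψ J i a.succ = _
        simp [FunFld.wrMat, g, FunFld.hcol]
    have hkey := FunFld.det_of_cols_triangular (FunFld.wrMat τ H φ J) (FunFld.wrMat τ H (y • φ) J)
      (Fin.cases (τ y) (fun _ => y)) ?_
    · rw [hkey, Fin.prod_univ_succ]
      simp only [Fin.cases_zero, Fin.cases_succ, Finset.prod_const, Finset.card_univ,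
        Fintype.card_fin]
      ring
    · intro q
      induction q using Fin.cases with
      | zero =>
        refine ⟨Pi.single 0 (τ y), fun r hr => ?_, ?_, ?_⟩
        · rw [Pi.single_apply, if_neg (ne_of_gt hr)]
        · simp
        · have h1 := FunFld.mulVec_add_single (FunFld.wrMat τ H φ J) 0 0 (τ y)
          rw [zero_add, Matrix.mulVec_zero, zero_add] at h1
          rw [h1, hcolg, hcolg]
          exact h0c
      | succ l =>
        -- the lower-order part lies in the span of the earlier columns
        have hsub : FunFld.spanLt K (FunFld.hcol τ H φ) (J l + 1) ≤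
            Submodule.map (FunFld.wrMat τ H φ J).mulVecLin (FunFld.lowVec K l.succ) := by
          rw [FunFld.spanLt_eq_span_jumps, Submodule.span_le]
          rintro _ ⟨j, ⟨hj1, hj2⟩, rfl⟩
          rcases j with _ | i
          · refine ⟨Pi.single 0 1, ?_, ?_⟩
            · intro r hr
              rw [Pi.single_apply, if_neg]
              intro h
              rw [h] at hr
              exact absurd hr (by simp [Fin.le_def])
            · rw [Matrix.mulVecLin_apply, Matrix.mulVec_single_one, hcolg]
              rfl
          · obtain ⟨a, ha⟩ := (hJ.2 i).mpr hj2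
            have hal : a < l := by
              apply hJ.1.lt_iff_lt.mp
              omega
            refine ⟨Pi.single a.succ 1, ?_, ?_⟩
            · intro r hr
              rw [Pi.single_apply, if_neg]
              intro h
              rw [h] at hr
              have := Fin.succ_le_succ_iff.mp hr
              exact absurd hal (not_lt.mpr this)
            · rw [Matrix.mulVecLin_apply, Matrix.mulVec_single_one, hcolg]
              simp only [g, Fin.cases_succ, ha]
        obtain ⟨w, hw, hws⟩ := hsub (hSc (J l))
        rw [Matrix.mulVecLin_apply] at hws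
        refine ⟨w + Pi.single l.succ y, fun r hr => ?_, ?_, ?_⟩
        · rw [Pi.add_apply, hw r (le_of_lt hr), Pi.single_apply, if_neg (ne_of_gt hr), add_zero]
        · rw [Pi.add_apply, hw l.succ le_rfl, Pi.single_apply, if_pos rfl, zero_add]
          simp
        · rw [FunFld.mulVec_add_single, hws, hcolg, hcolg]
          simp only [g, Fin.cases_succ]
          rw [sub_add_cancel]

end Groth.Agent.S12597
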