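import Groth.Statements.S12598
import Mathlib
import Groth.Agent.Lib.FunFldHasseF_helper2

set_option autoImplicit false
open FunFld

namespace Groth.Agent.S12598

open WithZero Matrix


/-- Over an algebraically closed constant field, the `τ`-order sequence `J = (j₁, …, jₙ)` of a
projective map `φ` does not depend on the separating variable used for the Hasse derivatives, and
the Wronskians with respect to `t` and to `s` differ by the factor `(ds/dt)^(j₁ + ⋯ + jₙ)`, where
`ds/dt` is the first Hasse derivative of `s` with respect to `t`. -/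
theorem result
    (k K : Type*) [Field k] [IsAlgClosed k] [Field K] [Algebra k K]
    (hK : FunFld.IsFunctionField k K) {n : ℕ} (φ : Fin (n + 1) → K) (hφ : LinearIndependent k φ)
    (τ : K →ₐ[k] K) (s : K) (Hs : K →ₐ[k] PowerSeries K) (hHs : LocRes.IsHasseFamily s Hs)
    (t : K) (Ht : K →ₐ[k] PowerSeries K) (hHt : LocRes.IsHasseFamily t Ht) :
    (∀ J : Fin n → ℕ, FunFld.IsOrders K (FunFld.hcol τ Ht φ) J ↔ FunFld.IsOrders K (FunFld.hcol τ Hs φ) J) ∧
    ∀ J : Fin n → ℕ, FunFld.IsOrders K (FunFld.hcol τ Hs φ) J →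
      (FunFld.wrMat τ Ht φ J).det =
        LocRes.hasseD Ht 1 s ^ (∑ l, J l) * (FunFld.wrMat τ Hs φ J).det := by
  classical
  obtain ⟨a, hadef⟩ : ∃ a : K, a = LocRes.hasseD Ht 1 s := ⟨_, rfl⟩
  have ha0 : a ≠ 0 := by
    rw [hadef]
    intro h0
    have := FunFld.hasseD_one_mul_hasseD_one hK hHs hHt
    rw [h0, zero_mul] at this
    exact zero_ne_one this
  have hS : ∀ m, FunFld.hcol τ Ht φ m - FunFld.chgU a m • FunFld.hcol τ Hs φ m ∈
      FunFld.spanLt K (FunFld.hcol τ Hs φ) m := by
    intro m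
    rw [hadef]
    exact FunFld.hcol_change hK φ τ hHs hHt m
  have hune : ∀ m, FunFld.chgU a m ≠ 0 := by
    intro m
    cases m with
    | zero => rw [FunFld.chgU_zero]; exact one_ne_zero
    | succ j => rw [FunFld.chgU_succ]; exact pow_ne_zero _ ha0
  have hjump : ∀ j, FunFld.IsJump K (FunFld.hcol τ Ht φ) j ↔
      FunFld.IsJump K (FunFld.hcol τ Hs φ) j :=
    FunFld.isJump_congr_of_triangular _ _ (fun m => ⟨FunFld.chgU a m, hune m, hS m⟩)
  refine ⟨fun J => ?_, fun J hJ => ?_⟩
  · unfold FunFld.IsOrders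
    simp only [hjump]
  · rw [FunFld.det_wrMat_of_triangular τ τ Hs Ht φ φ (FunFld.chgU a) hS J hJ, ← hadef]
    simp only [FunFld.chgU_zero, FunFld.chgU_succ]
    rw [Finset.prod_pow_eq_pow_sum]
    ring

end Groth.Agent.S12598
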