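import Groth.Statements.S12596
import Mathlib
import Groth.Agent.Lib.FunFldJump_helper2

set_option autoImplicit false
open FunFld

namespace Groth.Agent.S12596

/-- Over an algebraically closed constant field, replacing a projective map `φ` by `Aφ` for an
invertible matrix `A` over `k` does not change the `τ`-order sequence, and multiplies every
generalized Wronskian determinant `det [τ(φ) | D^(I₁) φ | ⋯ | D^(Iₙ) φ]` (Hasse derivatives taken
with `H`) by `det A`. -/
theorem result
    (k K : Type*) [Field k] [IsAlgClosed k] [Field K] [Algebra k K]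
    (hK : FunFld.IsFunctionField k K) {n : ℕ} (φ : Fin (n + 1) → K) (hφ : LinearIndependent k φ)
    (τ : K →ₐ[k] K) (s : K) (H : K →ₐ[k] PowerSeries K) (hH : LocRes.IsHasseFamily s H)
    (A : Matrix (Fin (n + 1)) (Fin (n + 1)) k) (hA : A.det ≠ 0)
    (φ' : Fin (n + 1) → K) (hφ' : ∀ i, φ' i = ∑ j, A i j • φ j) :
    (∀ J : Fin n → ℕ, FunFld.IsOrders K (FunFld.hcol τ H φ') J ↔ FunFld.IsOrders K (FunFld.hcol τ H φ) J) ∧
    ∀ I : Fin n → ℕ, (FunFld.wrMat τ H φ' I).det = algebraMap k K A.det * (FunFld.wrMat τ H φ I).det := by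
  classical
  obtain ⟨A', hA'⟩ : ∃ A' : Matrix (Fin (n + 1)) (Fin (n + 1)) K, A' = A.map (algebraMap k K) :=
    ⟨_, rfl⟩
  have hdetA' : A'.det = algebraMap k K A.det := by
    rw [hA', ← RingHom.mapMatrix_apply, ← RingHom.map_det]
  have hdet0 : A'.det ≠ 0 := by
    rw [hdetA']
    exact (map_ne_zero_iff _ (algebraMap k K).injective).mpr hA
  have hlin : ∀ (L : K →ₗ[k] K) (i : Fin (n + 1)), L (φ' i) = ∑ j, A' i j * L (φ j) := by
    intro L i
    rw [hφ' i, map_sum]
    apply Finset.sum_congr rfl
    intro j _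
    rw [map_smul, Algebra.smul_def, hA']
    rfl
  have hcolA : ∀ m, FunFld.hcol τ H φ' m = A'.mulVecLin (FunFld.hcol τ H φ m) := by
    intro m
    funext i
    cases m with
    | zero => exact hlin τ.toLinearMap i
    | succ j => exact hlin (FunFld.hasseDL H j) i
  have hinj : Function.Injective A'.mulVecLin := by
    rw [Matrix.coe_mulVecLin, Matrix.mulVec_injective_iff_isUnit, Matrix.isUnit_iff_isUnit_det]
    exact isUnit_iff_ne_zero.mpr hdet0
  have hjump : ∀ j, FunFld.IsJump K (FunFld.hcol τ H φ') j ↔ FunFld.IsJump K (FunFld.hcol τ H φ) j := by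
    intro j
    have heq : FunFld.hcol τ H φ' = fun m => A'.mulVecLin (FunFld.hcol τ H φ m) := funext hcolA
    rw [heq]
    exact FunFld.isJump_comp_injective A'.mulVecLin hinj _ j
  refine ⟨fun J => ?_, fun I => ?_⟩
  · unfold FunFld.IsOrders
    simp only [hjump]
  · have hmul : FunFld.wrMat τ H φ' I = A' * FunFld.wrMat τ H φ I := by
      ext i q
      rw [Matrix.mul_apply]
      induction q using Fin.cases with
      | zero =>
        have := hlin τ.toLinearMap i
        simpa [FunFld.wrMat] using this
      | succ l =>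
        have := hlin (FunFld.hasseDL H (I l)) i
        simpa [FunFld.wrMat, FunFld.hasseDL_apply] using this
    rw [hmul, Matrix.det_mul, hdetA']

end Groth.Agent.S12596
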