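import Groth.Statements.S12614
import Mathlib
import Groth.Agent.Lib.FunFldHasseG_helper2
import Groth.Agent.S12596
import Groth.Agent.S12597
import Groth.Agent.S12598

set_option autoImplicit false
open FunFld

namespace Groth.Agent.S12614

open WithZero Matrix


/-- Over an algebraically closed constant field, the Weierstrass divisor `W_s(φ, τ) = [w_s(φ, τ)] +
[τ(φ)] + n[φ] + j(φ, τ)[ds]` does not depend on the separating variable `s` and does not change when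
`φ` is replaced by an equivalent map `y · Aφ` (`A` invertible over `k`, `y ≠ 0`). Divisors of
differentials are read through a fixed family of Laurent expansions. -/
theorem result
    (k K : Type*) [Field k] [IsAlgClosed k] [Field K] [Algebra k K]
    (hK : FunFld.IsFunctionField k K) {n : ℕ} (φ : Fin (n + 1) → K) (hφ : LinearIndependent k φ)
    (τ : K →ₐ[k] K) (s : K) (Hs : K →ₐ[k] PowerSeries K) (hHs : LocRes.IsHasseFamily s Hs)
    (t : K) (Ht : K →ₐ[k] PowerSeries K) (hHt : LocRes.IsHasseFamily t Ht)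
    (J : Fin n → ℕ) (hJ : FunFld.IsOrders K (FunFld.hcol τ Hs φ) J)
    (A : Matrix (Fin (n + 1)) (Fin (n + 1)) k) (hA : A.det ≠ 0) (y : K) (hy : y ≠ 0)
    (φ' : Fin (n + 1) → K) (hφ' : ∀ i, φ' i = y * ∑ j, A i j • φ j)
    (Φ : FunFld.Place k K → (K →ₐ[k] LaurentSeries k))
    (hΦ : ∀ P : FunFld.Place k K, LocRes.IsExpansionAt P.1 (Φ P)) :
    FunFld.wDiv τ Ht Φ t φ' J = FunFld.wDiv τ Hs Φ s φ J := by
  classical
  obtain ⟨ψ, hψdef⟩ : ∃ ψ : Fin (n + 1) → K, ψ = fun i => ∑ j, A i j • φ j := ⟨_, rfl⟩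
  have hψi : ∀ i, ψ i = ∑ j, A i j • φ j := fun i => by rw [hψdef]
  have hψLI : LinearIndependent k ψ := by
    rw [hψdef]
    exact FunFld.linearIndependent_matrix_smul hφ A hA
  have hφ'ψ : φ' = y • ψ := by
    funext i
    rw [hφ' i, Pi.smul_apply, smul_eq_mul, hψi]
  have h98all := Groth.Agent.S12598.result k K hK φ hφ τ s Hs hHs t Ht hHt
  have hJt : FunFld.IsOrders K (FunFld.hcol τ Ht φ) J := (h98all.1 J).2 hJ
  have h96 := Groth.Agent.S12596.result k K hK φ hφ τ t Ht hHt A hA ψ hψi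
  have hJψ : FunFld.IsOrders K (FunFld.hcol τ Ht ψ) J := (h96.1 J).2 hJt
  have h97 := (Groth.Agent.S12597.result k K hK ψ hψLI τ t Ht hHt y hy).2 J hJψ
  have h98 := h98all.2 J hJ
  obtain ⟨d, hd⟩ : ∃ d : K, d = (FunFld.wrMat τ Hs φ J).det := ⟨_, rfl⟩
  obtain ⟨a, ha⟩ : ∃ a : K, a = LocRes.hasseD Ht 1 s := ⟨_, rfl⟩
  obtain ⟨b, hb⟩ : ∃ b : K, b = LocRes.hasseD Hs 1 t := ⟨_, rfl⟩
  have hdet : (FunFld.wrMat τ Ht φ' J).det =
      τ y * y ^ n * (algebraMap k K A.det * (a ^ (∑ l, J l) * d)) := by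
    rw [hφ'ψ, h97, h96.2 J, h98, ← ha, ← hd]
  have hd0 : d ≠ 0 := by
    rw [hd]
    exact FunFld.det_wrMat_ne_zero_of_isOrders τ Hs φ ⟨0, hφ.ne_zero 0⟩ J hJ
  have hab : a * b = 1 := by
    rw [ha, hb]
    exact FunFld.hasseD_one_mul_hasseD_one hK hHs hHt
  have ha0 : a ≠ 0 := left_ne_zero_of_mul_eq_one hab
  have hb0 : b ≠ 0 := right_ne_zero_of_mul_eq_one hab
  have hτy : τ y ≠ 0 := (map_ne_zero τ).2 hy
  have hdA : algebraMap k K A.det ≠ 0 :=
    (map_ne_zero_iff _ (algebraMap k K).injective).2 hA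
  ext P
  unfold FunFld.wDiv
  simp only [Finsupp.add_apply, Finsupp.smul_apply]
  rw [FunFld.div_apply hK, FunFld.div_apply hK, hdet, ← hd]
  have hord : P.ord (τ y * y ^ n * (algebraMap k K A.det * (a ^ (∑ l, J l) * d))) =
      P.ord (τ y) + n * P.ord y + ((∑ l, J l : ℕ) : ℤ) * P.ord a + P.ord d := by
    rw [P.ord_mul (mul_ne_zero hτy (pow_ne_zero _ hy))
        (mul_ne_zero hdA (mul_ne_zero (pow_ne_zero _ ha0) hd0)),
      P.ord_mul hτy (pow_ne_zero _ hy),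
      P.ord_mul hdA (mul_ne_zero (pow_ne_zero _ ha0) hd0),
      P.ord_mul (pow_ne_zero _ ha0) hd0, FunFld.Place.ord_pow, FunFld.Place.ord_pow,
      P.ord_algebraMap]
    ring
  have hm1 : FunFld.mapDiv k φ' P = FunFld.mapDiv k φ P - P.ord y :=
    FunFld.mapDiv_equiv hK P φ φ' hφ A hA hy hφ'
  have hτLI : LinearIndependent k (⇑τ ∘ φ) :=
    hφ.map' τ.toLinearMap (LinearMap.ker_eq_bot.2 τ.toRingHom.injective)
  have hm2 : FunFld.mapDiv k (⇑τ ∘ φ') P = FunFld.mapDiv k (⇑τ ∘ φ) P - P.ord (τ y) := by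
    apply FunFld.mapDiv_equiv hK P (⇑τ ∘ φ) (⇑τ ∘ φ') hτLI A hA hτy
    intro i
    show τ (φ' i) = τ y * ∑ j, A i j • τ (φ j)
    rw [hφ' i, map_mul, map_sum]
    congr 1
    apply Finset.sum_congr rfl
    intro j _
    rw [map_smul]
  have hdd : FunFld.divDiff Φ 1 t P = P.ord b + FunFld.divDiff Φ 1 s P := by
    rw [FunFld.divDiff_one_apply hK hHt Φ hΦ P, FunFld.divDiff_one_apply hK hHs Φ hΦ P, hb]
    exact FunFld.ordDiff_change hK hHs hHt P (Φ P) (hΦ P)
  have hab' : P.ord a + P.ord b = 0 := by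
    rw [← P.ord_mul ha0 hb0, hab]
    exact FunFld.ord_one P
  rw [hord, hm1, hm2, hdd]
  simp only [smul_eq_mul]
  push_cast
  linear_combination (∑ l, (J l : ℤ)) * hab'

end Groth.Agent.S12614
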