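import Groth.Statements.S12606
import Mathlib
import Groth.Agent.Lib.FunFldHasseC_helper2
import Groth.Agent.S12596

set_option autoImplicit false
open FunFld

namespace Groth.Agent.S12606

open WithZero Matrix


/-- Over an algebraically closed constant field, let `P` be a strong fixed point of the `k`-endomorphism
`τ`, `φ = (φ₀, …, φₙ)` (`n ≥ 1`) an effective projective map normalized at `P` with `τ(φ)` not a
`K`-multiple of `φ`, `t` a local parameter at `P`, `j₁, …, jₙ` the `τ`-orders of `φ` and `j'₁, …,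
j'ₙ` the orders of `φ` at `P`. Then `jₗ ≤ j'ₗ - j'₁` for `1 ≤ l ≤ n`. -/
theorem result
    (k K : Type*) [Field k] [IsAlgClosed k] [Field K] [Algebra k K]
    (hK : FunFld.IsFunctionField k K) (τ : K →ₐ[k] K) (P : FunFld.Place k K) (hP : FunFld.IsStrongFixedPt τ P)
    {n : ℕ} (hn : 0 < n) (φ : Fin (n + 1) → K) (hφ : LinearIndependent k φ)
    (heff : (1 : K) ∈ Submodule.span k (Set.range φ)) (hnorm : ∀ i, P.1 (φ i) ≤ 1)
    (hτφ : ¬ ∃ y : K, ∀ i, τ (φ i) = y * φ i)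
    (t : K) (ht : P.1 t = WithZero.exp (-1))
    (Ht : K →ₐ[k] PowerSeries K) (hHt : LocRes.IsHasseFamily t Ht)
    (J : Fin n → ℕ) (hJ : FunFld.IsOrders K (FunFld.hcol τ Ht φ) J)
    (J' : Fin n → ℕ) (hJ' : FunFld.IsOrders (IsLocalRing.ResidueField P.O) (FunFld.hcolAt P Ht φ) J') :
    ∀ l, J l + J' ⟨0, hn⟩ ≤ J' l := by
  classical
  intro l
  obtain ⟨ψ, A, hA, hindep, hψA, hψ0, hψl⟩ :=
    FunFld.exists_adapted_basis hK P ht hHt φ heff hnorm J' hJ'
  have hJψ : FunFld.IsOrders K (FunFld.hcol τ Ht ψ) J :=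
    ((Groth.Agent.S12596.result k K hK φ hφ τ t Ht hHt A hA ψ hψA).1 J).mpr hJ
  have hmono : J' ⟨0, hn⟩ ≤ J' l := hJ'.1.monotone (Fin.mk_le_of_le_val (Nat.zero_le _))
  obtain ⟨m, hm⟩ : ∃ m : ℕ, m = J' l - J' ⟨0, hn⟩ := ⟨_, rfl⟩
  suffices hsuff : J l ≤ m by omega
  have hc0 : FunFld.hcol τ Ht ψ 0 ≠ 0 := by
    intro h
    have h1 := congrFun h 0
    have h2 : FunFld.hcol τ Ht ψ 0 0 = τ (ψ 0) := rfl
    rw [h2, hψ0, map_one] at h1
    exact one_ne_zero h1
  apply FunFld.le_of_lt_card_filter J hJψ.1 l m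
  have hfin := FunFld.finrank_spanLt_of_isOrders (FunFld.hcol τ Ht ψ) J hJψ hc0 m
  suffices hrank : (l : ℕ) + 2 ≤
      Module.finrank K (FunFld.spanLt K (FunFld.hcol τ Ht ψ) (m + 2)) by omega
  have ht0 := FunFld.uniformizer_ne_zero P ht
  have hle : (l : ℕ) + 2 ≤ n + 1 := by
    have := l.isLt
    omega
  have hle' : (l : ℕ) + 1 ≤ n := by
    have := l.isLt
    omega
  obtain ⟨e, hedef⟩ : ∃ e : Fin ((l : ℕ) + 2) → Fin (n + 1), e = Fin.castLE hle := ⟨_, rfl⟩
  obtain ⟨ι, hιdef⟩ : ∃ ι : Fin ((l : ℕ) + 1) → Fin n, ι = Fin.castLE hle' := ⟨_, rfl⟩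
  have he0 : e 0 = 0 := by
    rw [hedef]
    exact Fin.ext rfl
  have hes : ∀ r' : Fin ((l : ℕ) + 1), e r'.succ = (ι r').succ := by
    intro r'
    rw [hedef, hιdef]
    exact Fin.ext (by simp)
  obtain ⟨j, hjdef⟩ : ∃ j : Fin ((l : ℕ) + 2) → ℕ, j = Fin.cases 0 (fun r' => J' (ι r')) :=
    ⟨_, rfl⟩
  have hj0 : j 0 = 0 := by rw [hjdef]; rfl
  have hjs : ∀ r' : Fin ((l : ℕ) + 1), j r'.succ = J' (ι r') := fun r' => by rw [hjdef]; rfl
  obtain ⟨ψ', hψ'def⟩ : ∃ ψ' : Fin ((l : ℕ) + 2) → K, ψ' = fun r => ψ (e r) := ⟨_, rfl⟩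
  have hψ'r : ∀ r, ψ' r = ψ (e r) := fun r => by rw [hψ'def]
  have hψ'0 : ψ' 0 = 1 := by rw [hψ'r, he0, hψ0]
  have hψ'v : ∀ r, P.1 (ψ' r) = exp (-(j r : ℤ)) := by
    intro r
    induction r using Fin.cases with
    | zero => rw [hψ'0, hj0, map_one, Nat.cast_zero, neg_zero, exp_zero]
    | succ r' =>
      rw [hψ'r, hes, hjs]
      exact (hψl (ι r')).1
  obtain ⟨u, hudef⟩ : ∃ u : Fin ((l : ℕ) + 2) → K, u = fun r => ψ' r * (t ^ j r)⁻¹ := ⟨_, rfl⟩
  obtain ⟨γ, hγdef⟩ : ∃ γ : Fin ((l : ℕ) + 2) → K, γ = fun r => τ (ψ' r) * (t ^ j r)⁻¹ :=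
    ⟨_, rfl⟩
  have hur : ∀ r, u r = ψ' r * (t ^ j r)⁻¹ := fun r => by rw [hudef]
  have hγr : ∀ r, γ r = τ (ψ' r) * (t ^ j r)⁻¹ := fun r => by rw [hγdef]
  have hu1 : ∀ r, P.1 (u r) = 1 := by
    intro r
    rw [hur, map_mul, map_inv₀, FunFld.val_uniformizer_pow P ht, hψ'v]
    exact mul_inv_cancel₀ exp_ne_zero
  have hψ'u : ∀ r, ψ' r = t ^ j r * u r := by
    intro r
    rw [hur]
    field_simp
  have hγ1 : ∀ r, P.1 (γ r) ≤ 1 := by
    intro r
    rw [hγr, map_mul, map_inv₀, FunFld.val_uniformizer_pow P ht]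
    calc P.1 (τ (ψ' r)) * (exp (-(j r : ℤ)))⁻¹ ≤ exp (-(j r : ℤ)) * (exp (-(j r : ℤ)))⁻¹ :=
          mul_le_mul' (FunFld.val_map_le_of_isFixedPt hK hP.isFixedPt ht (hψ'v r).le) le_rfl
      _ = 1 := mul_inv_cancel₀ exp_ne_zero
  have heu : ∀ r, FunFld.evalP P (u r) = 1 := by
    intro r
    induction r using Fin.cases with
    | zero =>
      rw [hur, hψ'0, hj0, pow_zero, inv_one, mul_one]
      exact FunFld.evalP_one P
    | succ r' =>
      rw [hur, hψ'r, hes, hjs]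
      exact (hψl (ι r')).2
  have hJ'pos : ∀ l, 1 ≤ J' l := FunFld.isOrders_at_pos P hHt φ hJ'
  have heγ0 : FunFld.evalP P (γ 0) = 1 := by
    rw [hγr, hψ'0, map_one, hj0, pow_zero, inv_one, mul_one]
    exact FunFld.evalP_one P
  have heγs : ∀ r' : Fin ((l : ℕ) + 1), FunFld.evalP P (γ r'.succ) = 0 := by
    intro r'
    have hv : P.1 (τ (ψ' r'.succ) * (t ^ j r'.succ)⁻¹) < 1 := by
      rw [map_mul, map_inv₀, FunFld.val_uniformizer_pow P ht]
      have h1 := FunFld.val_map_le_of_isStrongFixedPt hK hP ht (hψ'v r'.succ).le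
      calc P.1 (τ (ψ' r'.succ)) * (exp (-(j r'.succ : ℤ)))⁻¹
          ≤ exp (-(2 * (j r'.succ : ℤ))) * (exp (-(j r'.succ : ℤ)))⁻¹ := mul_le_mul' h1 le_rfl
        _ = exp (-(j r'.succ : ℤ)) := by
            rw [← WithZero.exp_neg, ← exp_add]
            congr 1
            ring
        _ < 1 := by
            rw [← exp_zero (M := ℤ), exp_lt_exp, hjs]
            have := hJ'pos (ι r')
            omega
    rw [hγr]
    exact (FunFld.evalP_eq_zero_iff P hv.le).mpr hv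
  obtain ⟨C, hCdef⟩ : ∃ C : Matrix (Fin ((l : ℕ) + 2)) (Fin (m + 2)) K,
      C = Matrix.of fun (r : Fin ((l : ℕ) + 2)) (b : Fin (m + 2)) =>
        FunFld.hcol τ Ht ψ (b : ℕ) (e r) := ⟨_, rfl⟩
  have hC0 : ∀ r (h0 : 0 < m + 2), C r ⟨0, h0⟩ = τ (ψ' r) := by
    intro r h0
    rw [hCdef, hψ'r]
    rfl
  have hCs : ∀ r (b : ℕ) (hb : b + 1 < m + 2),
      C r ⟨b + 1, hb⟩ = LocRes.hasseD Ht b (ψ' r) := by
    intro r b hb
    rw [hCdef, hψ'r]
    rfl
  have hrows : LinearIndependent K C.row := by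
    rw [Fintype.linearIndependent_iff]
    intro a ha
    have hrel : ∀ b : Fin (m + 2), ∑ r, a r * C r b = 0 := by
      intro b
      have h1 := congrFun ha b
      rw [Finset.sum_apply] at h1
      simpa only [Pi.smul_apply, Matrix.row_apply, smul_eq_mul, Pi.zero_apply] using h1
    by_contra hne
    push Not at hne
    obtain ⟨r₁, hr₁⟩ := hne
    obtain ⟨r₀, -, hmax⟩ := Finset.exists_max_image Finset.univ
      (fun r => P.1 (a r * t ^ j r)) ⟨0, Finset.mem_univ _⟩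
    obtain ⟨s, hsdef⟩ : ∃ s : K, s = a r₀ * t ^ j r₀ := ⟨_, rfl⟩
    have hmax' : ∀ r, P.1 (a r * t ^ j r) ≤ P.1 s := by
      intro r
      rw [hsdef]
      exact hmax r (Finset.mem_univ _)
    have hs0 : s ≠ 0 := by
      intro h0
      have h1 := hmax' r₁
      rw [h0, map_zero] at h1
      have h2 : a r₁ * t ^ j r₁ = 0 := (P.1.zero_iff).mp (le_antisymm h1 zero_le)
      exact (mul_ne_zero hr₁ (pow_ne_zero _ ht0)) h2
    obtain ⟨α, hαdef⟩ : ∃ α : Fin ((l : ℕ) + 2) → K, α = fun r => a r * t ^ j r * s⁻¹ :=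
      ⟨_, rfl⟩
    have hαr : ∀ r, α r = a r * t ^ j r * s⁻¹ := fun r => by rw [hαdef]
    have hα1 : ∀ r, P.1 (α r) ≤ 1 := by
      intro r
      rw [hαr, map_mul, map_inv₀]
      have hs' : P.1 s ≠ 0 := (P.1.ne_zero_iff).mpr hs0
      calc P.1 (a r * t ^ j r) * (P.1 s)⁻¹ ≤ P.1 s * (P.1 s)⁻¹ := mul_le_mul' (hmax' r) le_rfl
        _ = 1 := mul_inv_cancel₀ hs'
    have hαr₀ : α r₀ = 1 := by
      rw [hαr, ← hsdef]
      exact mul_inv_cancel₀ hs0
    have hrelb : ∀ b : ℕ, b ≤ m → ∑ r, FunFld.evalP P (α r) *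
        ((j r).choose b : IsLocalRing.ResidueField P.O) = 0 := by
      intro b hb
      have hb' : b + 1 < m + 2 := by omega
      have h1 := hrel ⟨b + 1, hb'⟩
      have h2 : ∑ r, α r * FunFld.wlead t Ht (j r) b (u r) = 0 := by
        calc ∑ r, α r * FunFld.wlead t Ht (j r) b (u r)
            = ∑ r, (s⁻¹ * t ^ b) * (a r * C r ⟨b + 1, hb'⟩) := by
              apply Finset.sum_congr rfl
              intro r _
              rw [hCs r b hb', hαr]
              have h3 := FunFld.pow_mul_hasseD_pow_mul hHt (j r) b (u r)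
              rw [← hψ'u r] at h3
              calc a r * t ^ j r * s⁻¹ * FunFld.wlead t Ht (j r) b (u r)
                  = s⁻¹ * a r * (t ^ j r * FunFld.wlead t Ht (j r) b (u r)) := by ring
                _ = s⁻¹ * a r * (t ^ b * LocRes.hasseD Ht b (ψ' r)) := by rw [h3]
                _ = s⁻¹ * t ^ b * (a r * LocRes.hasseD Ht b (ψ' r)) := by ring
          _ = (s⁻¹ * t ^ b) * ∑ r, a r * C r ⟨b + 1, hb'⟩ := (Finset.mul_sum _ _ _).symm
          _ = 0 := by rw [h1, mul_zero]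
      have hterm : ∀ r ∈ Finset.univ,
          P.1 (α r * FunFld.wlead t Ht (j r) b (u r)) ≤ 1 := fun r _ => by
        rw [map_mul]
        exact mul_le_one' (hα1 r) (FunFld.val_wlead_le_one hK P ht hHt (j r) b (hu1 r).le)
      have h5 : ∑ r, FunFld.evalP P (α r * FunFld.wlead t Ht (j r) b (u r)) = 0 := by
        rw [← (FunFld.evalP_sum P _ _ hterm).2, h2, FunFld.evalP_zero]
      rw [← h5]
      apply Finset.sum_congr rfl
      intro r _
      rw [FunFld.evalP_mul P (hα1 r) (FunFld.val_wlead_le_one hK P ht hHt (j r) b (hu1 r).le),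
        FunFld.evalP_wlead hK P ht hHt (j r) b (hu1 r).le, heu, mul_one]
    have hx0 : FunFld.evalP P (α 0) = 0 := by
      have h0' : 0 < m + 2 := by omega
      have h1 := hrel ⟨0, h0'⟩
      have h2 : ∑ r, α r * γ r = 0 := by
        calc ∑ r, α r * γ r = ∑ r, s⁻¹ * (a r * C r ⟨0, h0'⟩) := by
              apply Finset.sum_congr rfl
              intro r _
              rw [hC0 r h0', hαr, hγr]
              have := pow_ne_zero (j r) ht0
              field_simp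
          _ = s⁻¹ * ∑ r, a r * C r ⟨0, h0'⟩ := (Finset.mul_sum _ _ _).symm
          _ = 0 := by rw [h1, mul_zero]
      have hterm : ∀ r ∈ Finset.univ, P.1 (α r * γ r) ≤ 1 := fun r _ => by
        rw [map_mul]
        exact mul_le_one' (hα1 r) (hγ1 r)
      have h5 : ∑ r, FunFld.evalP P (α r * γ r) = 0 := by
        rw [← (FunFld.evalP_sum P _ _ hterm).2, h2, FunFld.evalP_zero]
      rw [Fin.sum_univ_succ, Finset.sum_eq_zero, add_zero,
        FunFld.evalP_mul P (hα1 0) (hγ1 0), heγ0, mul_one] at h5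
      · exact h5
      · intro r' _
        rw [FunFld.evalP_mul P (hα1 _) (hγ1 _), heγs, mul_zero]
    have hx' : (fun r' : Fin ((l : ℕ) + 1) => FunFld.evalP P (α r'.succ)) = 0 := by
      apply FunFld.binom_rows_indep (fun r' => J' (ι r')) ?_ (J' ⟨0, hn⟩) m ?_ ?_ _ ?_
      · intro x y hxy
        apply hJ'.1
        rw [hιdef, Fin.lt_def, Fin.val_castLE, Fin.val_castLE]
        exact hxy
      · intro r'
        exact hJ'.1.monotone (Fin.mk_le_of_le_val (Nat.zero_le _))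
      · intro r'
        have h1 : ι r' ≤ l := by
          rw [hιdef, Fin.le_def, Fin.val_castLE]
          have := r'.isLt
          omega
        have h2 := hJ'.1.monotone h1
        omega
      · intro b hb
        have h1 := hrelb b hb
        rw [Fin.sum_univ_succ, hx0, zero_mul, zero_add] at h1
        simpa only [hjs] using h1
    have hxr₀ : FunFld.evalP P (α r₀) = 1 := by
      rw [hαr₀]
      exact FunFld.evalP_one P
    rcases Fin.eq_zero_or_eq_succ r₀ with h | ⟨r', h⟩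
    · rw [h, hx0] at hxr₀
      exact zero_ne_one hxr₀
    · have h1 := congrFun hx' r'
      simp only [Pi.zero_apply] at h1
      rw [h, h1] at hxr₀
      exact zero_ne_one hxr₀
  have hrk := hrows.rank_matrix
  rw [Matrix.rank_eq_finrank_span_cols, Fintype.card_fin] at hrk
  obtain ⟨π, hπ⟩ : ∃ π : (Fin (n + 1) → K) →ₗ[K] (Fin ((l : ℕ) + 2) → K),
      ∀ v r, π v r = v (e r) := ⟨LinearMap.funLeft K K e, fun v r => rfl⟩
  have hsub : Submodule.span K (Set.range C.col) ≤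
      (FunFld.spanLt K (FunFld.hcol τ Ht ψ) (m + 2)).map π := by
    rw [Submodule.span_le]
    rintro _ ⟨b, rfl⟩
    refine Submodule.mem_map.mpr ⟨FunFld.hcol τ Ht ψ b, FunFld.mem_spanLt _ b.isLt, ?_⟩
    funext r
    rw [hπ, Matrix.col_apply, hCdef]
    rfl
  calc (l : ℕ) + 2 = Module.finrank K (Submodule.span K (Set.range C.col)) := hrk.symm
    _ ≤ Module.finrank K ((FunFld.spanLt K (FunFld.hcol τ Ht ψ) (m + 2)).map π) :=
        Submodule.finrank_mono hsub
    _ ≤ Module.finrank K (FunFld.spanLt K (FunFld.hcol τ Ht ψ) (m + 2)) :=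
        Submodule.finrank_map_le _ _

end Groth.Agent.S12606
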