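import Groth.Statements.S12605
import Mathlib
import Groth.Agent.Lib.FunFldHasseC_helper2
import Groth.Agent.S12596

set_option autoImplicit false
open FunFld

namespace Groth.Agent.S12605

open WithZero Matrix


/-- Over an algebraically closed constant field, let `τ` be a `k`-endomorphism of `K`, `P` a fixed point
of `τ`, `φ = (φ₀, …, φₙ)` an effective projective map normalized at `P`, `t` a local parameter at
`P`, `J = (j₁ < ⋯ < jₙ)` the orders of `φ` at `P` and `I = (i₁ < ⋯ < iₙ)` strictly increasing. Then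
the order at `P` of `det [τ(φ) | D_t^(i₁) φ | ⋯ | D_t^(iₙ) φ]` is at least `Σ (jₗ - iₗ)`; if all `iₗ
> 0` or `P` is a strong fixed point of `τ`, it equals `Σ (jₗ - iₗ)` exactly when the matrix of
binomial coefficients `(j_r choose i_s)`, read in `k`, has nonzero determinant. -/
theorem result
    (k K : Type*) [Field k] [IsAlgClosed k] [Field K] [Algebra k K]
    (hK : FunFld.IsFunctionField k K) (τ : K →ₐ[k] K) (P : FunFld.Place k K) (hP : FunFld.IsFixedPt τ P)
    {n : ℕ} (φ : Fin (n + 1) → K) (hφ : LinearIndependent k φ)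
    (heff : (1 : K) ∈ Submodule.span k (Set.range φ)) (hnorm : ∀ i, P.1 (φ i) ≤ 1)
    (t : K) (ht : P.1 t = WithZero.exp (-1))
    (Ht : K →ₐ[k] PowerSeries K) (hHt : LocRes.IsHasseFamily t Ht)
    (J : Fin n → ℕ) (hJ : FunFld.IsOrders (IsLocalRing.ResidueField P.O) (FunFld.hcolAt P Ht φ) J)
    (I : Fin n → ℕ) (hI : StrictMono I) :
    P.1 (FunFld.wrMat τ Ht φ I).det ≤ WithZero.exp (-(∑ l, ((J l : ℤ) - I l))) ∧
    (((∀ l, 0 < I l) ∨ FunFld.IsStrongFixedPt τ P) →
      (P.1 (FunFld.wrMat τ Ht φ I).det = WithZero.exp (-(∑ l, ((J l : ℤ) - I l))) ↔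
        (FunFld.binomMat k J I).det ≠ 0)) := by
  classical
  obtain ⟨ψ, A, hA, hindep, hψA, hψ0, hψl⟩ :=
    FunFld.exists_adapted_basis hK P ht hHt φ heff hnorm J hJ
  have hdetrel : (FunFld.wrMat τ Ht ψ I).det =
      algebraMap k K A.det * (FunFld.wrMat τ Ht φ I).det :=
    (Groth.Agent.S12596.result k K hK φ hφ τ t Ht hHt A hA ψ hψA).2 I
  have hvA : P.1 (algebraMap k K A.det) = 1 := P.val_algebraMap hA
  have hvdet : P.1 (FunFld.wrMat τ Ht φ I).det = P.1 (FunFld.wrMat τ Ht ψ I).det := by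
    rw [hdetrel, map_mul, hvA, one_mul]
  rw [hvdet]
  have ht0 := FunFld.uniformizer_ne_zero P ht
  obtain ⟨j, hjdef⟩ : ∃ j : Fin (n + 1) → ℕ, j = Fin.cases 0 J := ⟨_, rfl⟩
  have hj0 : j 0 = 0 := by rw [hjdef]; rfl
  have hjs : ∀ l : Fin n, j l.succ = J l := fun l => by rw [hjdef]; rfl
  have hψv : ∀ r, P.1 (ψ r) = exp (-(j r : ℤ)) := by
    intro r
    induction r using Fin.cases with
    | zero => rw [hψ0, hj0, map_one, Nat.cast_zero, neg_zero, exp_zero]
    | succ l => rw [hjs]; exact (hψl l).1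
  obtain ⟨u, hudef⟩ : ∃ u : Fin (n + 1) → K, u = fun r => ψ r * (t ^ j r)⁻¹ := ⟨_, rfl⟩
  obtain ⟨γ, hγdef⟩ : ∃ γ : Fin (n + 1) → K, γ = fun r => τ (ψ r) * (t ^ j r)⁻¹ := ⟨_, rfl⟩
  have hur : ∀ r, u r = ψ r * (t ^ j r)⁻¹ := fun r => by rw [hudef]
  have hγr : ∀ r, γ r = τ (ψ r) * (t ^ j r)⁻¹ := fun r => by rw [hγdef]
  have hu1 : ∀ r, P.1 (u r) = 1 := by
    intro r
    rw [hur, map_mul, map_inv₀, FunFld.val_uniformizer_pow P ht, hψv]
    exact mul_inv_cancel₀ exp_ne_zero
  have hψu : ∀ r, ψ r = t ^ j r * u r := by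
    intro r
    rw [hur]
    field_simp
  have hτγ : ∀ r, τ (ψ r) = t ^ j r * γ r := by
    intro r
    rw [hγr]
    field_simp
  have hγ1 : ∀ r, P.1 (γ r) ≤ 1 := by
    intro r
    rw [hγr, map_mul, map_inv₀, FunFld.val_uniformizer_pow P ht]
    calc P.1 (τ (ψ r)) * (exp (-(j r : ℤ)))⁻¹ ≤ exp (-(j r : ℤ)) * (exp (-(j r : ℤ)))⁻¹ :=
          mul_le_mul' (FunFld.val_map_le_of_isFixedPt hK hP ht (hψv r).le) le_rfl
      _ = 1 := mul_inv_cancel₀ exp_ne_zero
  have heu : ∀ r, FunFld.evalP P (u r) = 1 := by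
    intro r
    induction r using Fin.cases with
    | zero =>
      rw [hur, hψ0, hj0, pow_zero, inv_one, mul_one]
      exact FunFld.evalP_one P
    | succ l =>
      rw [hur, hjs]
      exact (hψl l).2
  obtain ⟨W, hW1, hWdet, hW0, hWs⟩ :=
    FunFld.det_leading hK P ht hHt j u γ (fun r => (hu1 r).le) hγ1 I
  have hMeq : (Matrix.of fun r q => Fin.cases (motive := fun _ => K) (t ^ j r * γ r)
      (fun l => LocRes.hasseD Ht (I l) (t ^ j r * u r)) q) = FunFld.wrMat τ Ht ψ I := by
    ext r q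
    unfold FunFld.wrMat
    simp only [Matrix.of_apply]
    rw [← hτγ r, ← hψu r]
  rw [hMeq] at hWdet
  obtain ⟨hWd1, hWde⟩ := FunFld.evalP_det P W hW1
  have hsumj : ∑ r, j r = ∑ l, J l := by
    rw [Fin.sum_univ_succ, hj0, zero_add]
    exact Finset.sum_congr rfl (fun l _ => hjs l)
  have hvals : P.1 (FunFld.wrMat τ Ht ψ I).det * exp (-((∑ l, I l : ℕ) : ℤ)) =
      exp (-((∑ l, J l : ℕ) : ℤ)) * P.1 W.det := by
    have h1 := congrArg P.1 hWdet
    rwa [map_mul, map_mul, FunFld.val_uniformizer_pow P ht, FunFld.val_uniformizer_pow P ht,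
      hsumj] at h1
  have hmain : P.1 (FunFld.wrMat τ Ht ψ I).det =
      exp (-(∑ l, ((J l : ℤ) - I l))) * P.1 W.det := by
    have h2 : P.1 (FunFld.wrMat τ Ht ψ I).det =
        (exp (-((∑ l, J l : ℕ) : ℤ)) * P.1 W.det) * (exp (-((∑ l, I l : ℕ) : ℤ)))⁻¹ := by
      rw [← hvals, mul_assoc, mul_inv_cancel₀ exp_ne_zero, mul_one]
    rw [h2, ← WithZero.exp_neg, mul_right_comm, ← exp_add]
    congr 2
    push_cast
    rw [Finset.sum_sub_distrib]
    ring
  rw [hmain]
  refine ⟨?_, fun hcond => ?_⟩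
  · calc exp (-(∑ l, ((J l : ℤ) - I l))) * P.1 W.det
        ≤ exp (-(∑ l, ((J l : ℤ) - I l))) * 1 := mul_le_mul' le_rfl hWd1
      _ = exp (-(∑ l, ((J l : ℤ) - I l))) := mul_one _
  · have hiff1 : exp (-(∑ l, ((J l : ℤ) - I l))) * P.1 W.det =
        exp (-(∑ l, ((J l : ℤ) - I l))) ↔ P.1 W.det = 1 := by
      constructor
      · intro h
        exact mul_left_cancel₀ exp_ne_zero (h.trans (mul_one _).symm)
      · intro h
        rw [h, mul_one]
    rw [hiff1, ← FunFld.evalP_ne_zero_iff P hWd1, hWde]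
    have hJpos : ∀ l, 1 ≤ J l := FunFld.isOrders_at_pos P hHt φ hJ
    have hW00 : FunFld.evalP P (W 0 0) = 1 := by
      rw [hW0 0, hγr, hψ0, map_one, hj0, pow_zero, inv_one, mul_one]
      exact FunFld.evalP_one P
    have hminor : ((Matrix.of fun r q => FunFld.evalP P (W r q)).submatrix Fin.succ Fin.succ) =
        (FunFld.binomMat k J I).map (FunFld.resk P) := by
      ext r s
      simp only [Matrix.submatrix_apply, Matrix.of_apply, Matrix.map_apply, FunFld.binomMat]
      rw [hWs, heu, mul_one, hjs, map_natCast]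
    have hdetminor : (Matrix.of fun r q => FunFld.evalP P (W r q)).det =
        ((FunFld.binomMat k J I).map (FunFld.resk P)).det := by
      rcases hcond with hIpos | hstrong
      · rw [Matrix.det_succ_row_zero, Fin.sum_univ_succ, Finset.sum_eq_zero]
        · simp only [Fin.val_zero, pow_zero, one_mul, Matrix.of_apply, Fin.succAbove_zero,
            add_zero]
          rw [hW00, one_mul, hminor]
        · intro s _
          simp only [Matrix.of_apply]
          rw [hWs, hj0, Nat.choose_eq_zero_of_lt (hIpos s)]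
          simp
      · rw [Matrix.det_succ_column_zero, Fin.sum_univ_succ, Finset.sum_eq_zero]
        · simp only [Fin.val_zero, pow_zero, one_mul, Matrix.of_apply, Fin.succAbove_zero,
            add_zero]
          rw [hW00, one_mul, hminor]
        · intro r _
          simp only [Matrix.of_apply]
          have hv : P.1 (τ (ψ r.succ) * (t ^ j r.succ)⁻¹) < 1 := by
            rw [map_mul, map_inv₀, FunFld.val_uniformizer_pow P ht]
            have h1 := FunFld.val_map_le_of_isStrongFixedPt hK hstrong ht (hψv r.succ).le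
            calc P.1 (τ (ψ r.succ)) * (exp (-(j r.succ : ℤ)))⁻¹
                ≤ exp (-(2 * (j r.succ : ℤ))) * (exp (-(j r.succ : ℤ)))⁻¹ :=
                  mul_le_mul' h1 le_rfl
              _ = exp (-(j r.succ : ℤ)) := by
                  rw [← WithZero.exp_neg, ← exp_add]
                  congr 1
                  ring
              _ < 1 := by
                  rw [← exp_zero (M := ℤ), exp_lt_exp, hjs]
                  have := hJpos r
                  omega
          have hz : FunFld.evalP P (W r.succ 0) = 0 := by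
            rw [hW0, hγr]
            exact (FunFld.evalP_eq_zero_iff P hv.le).mpr hv
          rw [hz]
          simp
    rw [hdetminor, ← RingHom.mapMatrix_apply, ← RingHom.map_det]
    exact map_ne_zero_iff _ (FunFld.resk_injective P)

end Groth.Agent.S12605
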