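import Groth.Statements.S12615
import Mathlib
import Groth.Agent.Lib.FunFldHasseD_helper2
import Groth.Agent.S12605

set_option autoImplicit false
open FunFld

namespace Groth.Agent.S12615

open WithZero Matrix


/-- Over an algebraically closed constant field, let `P` be a fixed point of the `k`-endomorphism `τ`,
`φ` an effective projective map normalized at `P` with `τ`-orders `j₁, …, jₙ` and orders `j'₁, …,
j'ₙ` at `P`. Then the coefficient of the Weierstrass divisor `W(φ, τ)` at `P` is at least `Σ (j'ₗ -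
jₗ)`; if `τ = 1` or `P` is a strong fixed point, it equals `Σ (j'ₗ - jₗ)` exactly when the matrix of
binomial coefficients `(j'_r choose j_s)`, read in `k`, has nonzero determinant. The divisor of `dt`
in `W` is read through a family of Laurent expansions. -/
theorem result
    (k K : Type*) [Field k] [IsAlgClosed k] [Field K] [Algebra k K]
    (hK : FunFld.IsFunctionField k K) (τ : K →ₐ[k] K) (P : FunFld.Place k K) (hP : FunFld.IsFixedPt τ P)
    {n : ℕ} (φ : Fin (n + 1) → K) (hφ : LinearIndependent k φ)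
    (heff : (1 : K) ∈ Submodule.span k (Set.range φ)) (hnorm : ∀ i, P.1 (φ i) ≤ 1)
    (t : K) (ht : P.1 t = WithZero.exp (-1))
    (Ht : K →ₐ[k] PowerSeries K) (hHt : LocRes.IsHasseFamily t Ht)
    (J : Fin n → ℕ) (hJ : FunFld.IsOrders K (FunFld.hcol τ Ht φ) J)
    (J' : Fin n → ℕ) (hJ' : FunFld.IsOrders (IsLocalRing.ResidueField P.O) (FunFld.hcolAt P Ht φ) J')
    (Φ : FunFld.Place k K → (K →ₐ[k] LaurentSeries k))
    (hΦ : ∀ P : FunFld.Place k K, LocRes.IsExpansionAt P.1 (Φ P)) :
    (∑ l, ((J' l : ℤ) - J l)) ≤ FunFld.wDiv τ Ht Φ t φ J P ∧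
    ((τ = AlgHom.id k K ∨ FunFld.IsStrongFixedPt τ P) →
      (FunFld.wDiv τ Ht Φ t φ J P = ∑ l, ((J' l : ℤ) - J l) ↔ (FunFld.binomMat k J' J).det ≠ 0)) := by
  classical
  have hS := Groth.Agent.S12605.result k K hK τ P hP φ hφ heff hnorm t ht Ht hHt J' hJ' J hJ.1
  obtain ⟨d, hd⟩ : ∃ d : K, d = (FunFld.wrMat τ Ht φ J).det := ⟨_, rfl⟩
  rw [← hd] at hS
  have hd0 : d ≠ 0 := by
    rw [hd]
    exact FunFld.det_wrMat_ne_zero_of_isOrders τ Ht φ ⟨0, hφ.ne_zero 0⟩ J hJ
  have hw : FunFld.wDiv τ Ht Φ t φ J P = P.ord d := by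
    unfold FunFld.wDiv
    rw [Finsupp.add_apply, Finsupp.add_apply, Finsupp.add_apply, Finsupp.smul_apply,
      Finsupp.smul_apply, FunFld.div_apply hK, ← hd,
      FunFld.mapDiv_comp_apply_eq_zero hK hP φ hnorm heff,
      FunFld.mapDiv_apply_eq_zero P φ hnorm
        (FunFld.exists_val_eq_one_of_one_mem_span P φ hnorm heff),
      FunFld.divDiff_apply_uniformizer Φ P (hΦ P) ht]
    simp
  rw [hw]
  refine ⟨?_, ?_⟩
  · have h1 := (P.val_le_exp_iff hd0 _).1 hS.1
    omega
  · intro hor
    have hcond : (∀ l, 0 < J l) ∨ FunFld.IsStrongFixedPt τ P := by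
      rcases hor with h | h
      · left
        intro l
        subst h
        exact FunFld.isOrders_id_pos hHt φ hJ l
      · exact Or.inr h
    rw [← hS.2 hcond, P.val_eq_exp_neg_ord hd0]
    constructor
    · intro h; rw [h]
    · intro h
      have := exp_injective h
      omega

end Groth.Agent.S12615
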