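import Groth.Statements.S12601
import Mathlib
import Groth.Agent.Lib.FunFldJump_helper2

set_option autoImplicit false
open FunFld

namespace Groth.Agent.S12601

/-- Over an algebraically closed constant field, if `j'₁ < ⋯ < j'ₙ` is a strictly increasing sequence
with `det [τ(φ) | D^(j'₁) φ | ⋯ | D^(j'ₙ) φ] ≠ 0`, then the `τ`-orders `j₁ < ⋯ < jₙ` of `φ` satisfy
`jₗ ≤ j'ₗ` for all `l`. -/
theorem result
    (k K : Type*) [Field k] [IsAlgClosed k] [Field K] [Algebra k K]
    (hK : FunFld.IsFunctionField k K) {n : ℕ} (φ : Fin (n + 1) → K) (hφ : LinearIndependent k φ)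
    (τ : K →ₐ[k] K) (s : K) (H : K →ₐ[k] PowerSeries K) (hH : LocRes.IsHasseFamily s H)
    (J : Fin n → ℕ) (hJ : FunFld.IsOrders K (FunFld.hcol τ H φ) J)
    (J' : Fin n → ℕ) (hJ' : StrictMono J') (hdet : (FunFld.wrMat τ H φ J').det ≠ 0) :
    ∀ l, J l ≤ J' l := by
  classical
  intro l
  let g : Fin (n + 1) → ℕ := Fin.cases 0 (fun a => J' a + 1)
  have hcolg : ∀ q, (FunFld.wrMat τ H φ J').col q = FunFld.hcol τ H φ (g q) := by
    intro q
    funext i
    induction q using Fin.cases with
    | zero =>
      show FunFld.wrMat τ H φ J' i 0 = _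
      simp [FunFld.wrMat, g, FunFld.hcol]
    | succ a =>
      show FunFld.wrMat τ H φ J' i a.succ = _
      simp [FunFld.wrMat, g, FunFld.hcol]
  have hcols : LinearIndependent K (fun q => FunFld.hcol τ H φ (g q)) := by
    have h1 := Matrix.linearIndependent_cols_of_det_ne_zero hdet
    have heq : (FunFld.wrMat τ H φ J').col = fun q => FunFld.hcol τ H φ (g q) := funext hcolg
    rwa [heq] at h1
  have hc0 : FunFld.hcol τ H φ 0 ≠ 0 := by
    have h1 := hcols.ne_zero 0
    simpa [g] using h1
  have hg_mono : StrictMono g := by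
    intro p q hpq
    induction p using Fin.cases with
    | zero =>
      induction q using Fin.cases with
      | zero => exact absurd hpq (lt_irrefl _)
      | succ b => simp [g]
    | succ a =>
      induction q using Fin.cases with
      | zero => exact absurd hpq (Fin.not_lt_zero _)
      | succ b =>
        have h1 : a < b := Fin.succ_lt_succ_iff.mp hpq
        have h2 := hJ' h1
        simp only [g, Fin.cases_succ]
        omega
  have hle : (l : ℕ) + 2 ≤ n + 1 := by
    have := l.isLt
    omega
  have hv := hcols.comp (Fin.castLE hle) (Fin.castLE_injective hle)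
  have hsp : Submodule.span K (Set.range ((fun q => FunFld.hcol τ H φ (g q)) ∘ Fin.castLE hle)) ≤
      FunFld.spanLt K (FunFld.hcol τ H φ) (J' l + 2) := by
    rw [Submodule.span_le]
    rintro _ ⟨r, rfl⟩
    apply FunFld.mem_spanLt
    have h1 : Fin.castLE hle r ≤ l.succ := by
      rw [Fin.le_def, Fin.val_castLE, Fin.val_succ]
      have := r.isLt
      omega
    have h2 := hg_mono.monotone h1
    have h3 : g l.succ = J' l + 1 := by simp [g]
    omega
  have h4 := Submodule.finrank_mono hsp
  rw [finrank_span_eq_card hv, Fintype.card_fin,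
    FunFld.finrank_spanLt_of_isOrders (FunFld.hcol τ H φ) J hJ hc0 (J' l)] at h4
  exact FunFld.le_of_lt_card_filter J hJ.1 l (J' l) (by omega)

end Groth.Agent.S12601
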