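import Groth.Statements.S12609
import Mathlib
import Groth.Agent.Lib.FunFldHasseE_helper2

set_option autoImplicit false
open FunFld

namespace Groth.Agent.S12609

/-- Over an algebraically closed constant field, let `φ` be the canonical map (a basis of `L(C)`, `C`
canonical), normalized at the place `P` after multiplication by `y ≠ 0`, and `t` a local parameter
at `P`. For `j ≥ 1`: the canonical orders at `P` include `j` exactly when `j + 1` is a gap number at
`P`, i.e. `L((j+1)P) = L(jP)`. -/
theorem result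
    (k K : Type*) [Field k] [IsAlgClosed k] [Field K] [Algebra k K]
    (hK : FunFld.IsFunctionField k K) (C : FunFld.Divisor k K) (hC : FunFld.IsCanonical k K C)
    {n : ℕ} (φ : Fin (n + 1) → K) (hφ : LinearIndependent k φ)
    (hspan : Submodule.span k (Set.range φ) = FunFld.L C)
    (P : FunFld.Place k K) (y : K) (hy : y ≠ 0)
    (heff : (1 : K) ∈ Submodule.span k (Set.range (y • φ))) (hnorm : ∀ i, P.1 (y * φ i) ≤ 1)
    (t : K) (ht : P.1 t = WithZero.exp (-1))
    (Ht : K →ₐ[k] PowerSeries K) (hHt : LocRes.IsHasseFamily t Ht) (j : ℕ) (hj : 1 ≤ j) :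
    FunFld.IsJump (IsLocalRing.ResidueField P.O) (FunFld.hcolAt P Ht (y • φ)) (j + 1) ↔
      FunFld.L (Finsupp.single P ((j : ℤ) + 1)) = FunFld.L (Finsupp.single P (j : ℤ)) := by
  classical
  have hP1 := FunFld.Place.deg_eq_one hK P
  have hfd := fun D : FunFld.Divisor k K => FunFld.finiteDimensional_L hK D
  have hellC : FunFld.ell C = FunFld.genus k K := FunFld.ell_of_isCanonical hK hC
  have hg : 0 < FunFld.genus k K := by
    rw [← hellC]
    have h1 : Module.finrank k (Submodule.span k (Set.range φ)) = n + 1 := by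
      rw [finrank_span_eq_card hφ, Fintype.card_fin]
    unfold FunFld.ell
    rw [← hspan, h1]
    omega
  have hnorm' : ∀ i, P.1 ((y • φ) i) ≤ 1 := hnorm
  have hy1 : ∀ f ∈ FunFld.L C, P.1 (y * f) ≤ 1 := by
    intro f hf
    rw [← hspan] at hf
    obtain ⟨a, rfl⟩ := (Submodule.mem_span_range_iff_exists_fun k).mp hf
    rw [Finset.mul_sum]
    apply Valuation.map_sum_le
    intro i _
    rw [mul_smul_comm]
    exact FunFld.val_smul_le_one P _ (hnorm i)
  have hordy : P.ord y = C P := by
    apply le_antisymm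
    · obtain ⟨i, hi⟩ := FunFld.exists_val_eq_one_of_one_mem_span P (y • φ) hnorm' heff
      have hi' : P.1 (y * φ i) = 1 := hi
      have hφi : φ i ≠ 0 := hφ.ne_zero i
      have hmem : φ i ∈ FunFld.L C := by rw [← hspan]; exact Submodule.subset_span ⟨i, rfl⟩
      have h2 := (P.val_le_exp_iff hφi (C P)).1 (hmem P)
      have h3 := (P.ord_eq_zero_iff (mul_ne_zero hy hφi)).2 hi'
      rw [P.ord_mul hy hφi] at h3
      omega
    · have hlt := FunFld.ell_sub_single_lt hK hg C (Or.inr hC) P
      have hnle : ¬ FunFld.L C ≤ FunFld.L (C - Finsupp.single P 1) := by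
        intro hle
        haveI := hfd (C - Finsupp.single P 1)
        have := Submodule.finrank_mono hle
        unfold FunFld.ell at hlt
        omega
      obtain ⟨f₀, hf₀, hnf₀⟩ := SetLike.not_le_iff_exists.1 hnle
      obtain ⟨hf₀0, hord⟩ := FunFld.ord_eq_of_mem_L_not_mem hf₀ hnf₀
      have h2 := (P.ord_nonneg_iff (mul_ne_zero hy hf₀0)).2 (hy1 f₀ hf₀)
      rw [P.ord_mul hy hf₀0] at h2
      omega
  have hjump : FunFld.IsJump (IsLocalRing.ResidueField P.O) (FunFld.hcolAt P Ht (y • φ)) (j + 1) ↔
      ∃ f ∈ Submodule.span k (Set.range (y • φ)), P.1 f = WithZero.exp (-(j : ℤ)) := by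
    constructor
    · intro h; exact FunFld.exists_val_eq_of_isJump hK P ht hHt (y • φ) hnorm' h
    · rintro ⟨f, hf, hfv⟩; exact FunFld.isJump_of_val_eq hK P ht hHt (y • φ) hnorm' hj hf hfv
  have hspan_y : ∀ f, f ∈ Submodule.span k (Set.range (y • φ)) ↔ ∃ h ∈ FunFld.L C, f = y * h := by
    intro f
    constructor
    · intro hf
      obtain ⟨a, rfl⟩ := (Submodule.mem_span_range_iff_exists_fun k).mp hf
      refine ⟨∑ i, a i • φ i, ?_, ?_⟩
      · rw [← hspan]
        exact Submodule.sum_mem _
          (fun i _ => Submodule.smul_mem _ _ (Submodule.subset_span ⟨i, rfl⟩))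
      · rw [Finset.mul_sum]
        apply Finset.sum_congr rfl
        intro i _
        rw [mul_smul_comm]
        rfl
    · rintro ⟨h, hh, rfl⟩
      rw [← hspan] at hh
      obtain ⟨a, rfl⟩ := (Submodule.mem_span_range_iff_exists_fun k).mp hh
      rw [Finset.mul_sum]
      refine Submodule.sum_mem _ (fun i _ => ?_)
      rw [mul_smul_comm]
      show a i • (y • φ) i ∈ _
      exact Submodule.smul_mem _ _ (Submodule.subset_span ⟨i, rfl⟩)
  have hDj1 : C - Finsupp.single P ((j : ℤ) + 1) =
      (C - Finsupp.single P (j : ℤ)) - Finsupp.single P 1 := by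
    rw [Finsupp.single_add, sub_sub]
  have hDjP : (C - Finsupp.single P (j : ℤ)) P = C P - j := by
    rw [Finsupp.sub_apply, Finsupp.single_eq_same]
  have hDj1P : (C - Finsupp.single P ((j : ℤ) + 1)) P = C P - j - 1 := by
    rw [Finsupp.sub_apply, Finsupp.single_eq_same]
    ring
  have hDjle : C - Finsupp.single P (j : ℤ) ≤ C := by
    have := FunFld.sub_single_le_sub_single C P (m := 0) (n := (j : ℤ)) (by omega)
    rwa [Finsupp.single_zero, sub_zero] at this
  have hyv : P.1 y = WithZero.exp (-(C P)) := by rw [P.val_eq_exp_neg_ord hy, hordy]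
  have hexists : (∃ f ∈ Submodule.span k (Set.range (y • φ)), P.1 f = WithZero.exp (-(j : ℤ))) ↔
      ∃ h ∈ FunFld.L (C - Finsupp.single P (j : ℤ)),
        h ∉ FunFld.L (C - Finsupp.single P ((j : ℤ) + 1)) := by
    constructor
    · rintro ⟨f, hf, hv⟩
      obtain ⟨h, hh, rfl⟩ := (hspan_y f).1 hf
      have hPh : P.1 h = WithZero.exp (C P - j) := by
        rw [map_mul, hyv] at hv
        have h1 : P.1 h = WithZero.exp (C P) * (WithZero.exp (-(C P)) * P.1 h) := by
          rw [← mul_assoc, ← WithZero.exp_add, add_neg_cancel, WithZero.exp_zero, one_mul]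
        rw [h1, hv, ← WithZero.exp_add]
        congr 1
      refine ⟨h, ?_, ?_⟩
      · intro Q
        by_cases hQ : Q = P
        · rw [hQ, hDjP, hPh]
        · rw [Finsupp.sub_apply, FunFld.single_apply_ne (Ne.symm hQ), sub_zero]
          exact hh Q
      · intro hmem
        have h2 := hmem P
        rw [hDj1P, hPh, WithZero.exp_le_exp] at h2
        omega
    · rintro ⟨h, hh, hnh⟩
      rw [hDj1] at hnh
      obtain ⟨h0, hord⟩ := FunFld.ord_eq_of_mem_L_not_mem hh hnh
      refine ⟨y * h, (hspan_y _).2 ⟨h, FunFld.L_mono hDjle hh, rfl⟩, ?_⟩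
      rw [P.val_eq_exp_neg_ord (mul_ne_zero hy h0), P.ord_mul hy h0, hordy, hord, hDjP]
      congr 1
      ring
  have hLle' : FunFld.L (C - Finsupp.single P ((j : ℤ) + 1)) ≤
      FunFld.L (C - Finsupp.single P (j : ℤ)) :=
    FunFld.L_mono (FunFld.sub_single_le_sub_single C P (by omega))
  have hlt_iff : (∃ h ∈ FunFld.L (C - Finsupp.single P (j : ℤ)),
        h ∉ FunFld.L (C - Finsupp.single P ((j : ℤ) + 1))) ↔
      FunFld.ell (C - Finsupp.single P ((j : ℤ) + 1)) <
        FunFld.ell (C - Finsupp.single P (j : ℤ)) := by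
    constructor
    · rintro ⟨h, hh, hnh⟩
      by_contra hnlt
      push Not at hnlt
      haveI := hfd (C - Finsupp.single P (j : ℤ))
      have h1 := Submodule.eq_of_le_of_finrank_le hLle' hnlt
      rw [h1] at hnh
      exact hnh hh
    · intro hlt
      by_contra hne
      push Not at hne
      haveI := hfd (C - Finsupp.single P ((j : ℤ) + 1))
      have h1 := Submodule.finrank_mono (fun h hh => hne h hh :
        FunFld.L (C - Finsupp.single P (j : ℤ)) ≤ FunFld.L (C - Finsupp.single P ((j : ℤ) + 1)))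
      unfold FunFld.ell at hlt
      omega
  have hrr1 := FunFld.riemann_roch hK C hC (Finsupp.single P (j : ℤ))
  have hrr2 := FunFld.riemann_roch hK C hC (Finsupp.single P ((j : ℤ) + 1))
  rw [FunFld.deg_single, hP1] at hrr1 hrr2
  have hLle : FunFld.L (Finsupp.single P (j : ℤ) : FunFld.Divisor k K) ≤
      FunFld.L (Finsupp.single P ((j : ℤ) + 1)) := FunFld.L_single_mono P (by omega)
  have hmono : FunFld.ell (Finsupp.single P (j : ℤ) : FunFld.Divisor k K) ≤
      FunFld.ell (Finsupp.single P ((j : ℤ) + 1) : FunFld.Divisor k K) := by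
    haveI := hfd (Finsupp.single P ((j : ℤ) + 1))
    exact Submodule.finrank_mono hLle
  have hmono' : FunFld.ell (C - Finsupp.single P ((j : ℤ) + 1)) ≤
      FunFld.ell (C - Finsupp.single P (j : ℤ)) := by
    haveI := hfd (C - Finsupp.single P (j : ℤ))
    exact Submodule.finrank_mono hLle'
  have hLiff : FunFld.L (Finsupp.single P ((j : ℤ) + 1) : FunFld.Divisor k K) =
        FunFld.L (Finsupp.single P (j : ℤ)) ↔
      FunFld.ell (Finsupp.single P ((j : ℤ) + 1) : FunFld.Divisor k K) =
        FunFld.ell (Finsupp.single P (j : ℤ) : FunFld.Divisor k K) := by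
    constructor
    · intro h; unfold FunFld.ell; rw [h]
    · intro h
      haveI := hfd (Finsupp.single P ((j : ℤ) + 1))
      exact (Submodule.eq_of_le_of_finrank_le hLle (le_of_eq h)).symm
  rw [hjump, hexists, hlt_iff, hLiff]
  push_cast at hrr1 hrr2
  constructor
  · intro h; omega
  · intro h; omega

end Groth.Agent.S12609
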