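import Groth.Statements.S7343
import Mathlib
import Groth.Agent.Lib.Models2_helper5

set_option autoImplicit false
open Finset
open Models Models.NumericalType

namespace Groth.Agent.S7343

/-- Let T be a numerical type on n > 7 indices. Then no seven (-2)-indices of T, pairwise distinct and
named f, g, h, i, j, k, l, have a_fg, a_gh, a_ij, a_jh, a_kl and a_lh all nonzero (three chains of
length two attached to h). -/
theorem result {n : ℕ} (T : Models.NumericalType n) (hn : 7 < n)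
    (v : Fin 7 ↪ Fin n) (hv : ∀ j, T.IsMinusTwo (v j))
    (h01 : T.a (v 0) (v 1) ≠ 0) (h12 : T.a (v 1) (v 2) ≠ 0) (h34 : T.a (v 3) (v 4) ≠ 0)
    (h42 : T.a (v 4) (v 2) ≠ 0) (h56 : T.a (v 5) (v 6) ≠ 0) (h62 : T.a (v 6) (v 2) ≠ 0) : False := by
  have hne : ∀ j k : Fin 7, j ≠ k → v j ≠ v k := fun j k h e => h (v.injective e)
  have hnn : ∀ j k : Fin 7, j ≠ k → 0 ≤ T.a (v j) (v k) :=
    fun j k h => Groth.Agent.Lib.ModelsH5.emb_offDiag_nonneg T v j k h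
  have hs : ∀ j k : Fin 7, T.a (v k) (v j) = T.a (v j) (v k) :=
    fun j k => Groth.Agent.Lib.ModelsH5.emb_symm T v j k
  have hd : ∀ j : Fin 7, T.a (v j) (v j) = -2 * T.w (v j) := fun j => (hv j).2
  have nz_0_1 : T.a (v 0) (v 1) ≠ 0 := h01
  have nz_1_0 : T.a (v 1) (v 0) ≠ 0 := by rw [hs 0 1]; exact nz_0_1
  have E_0_1 : T.w (v 0) ≤ T.a (v 0) (v 1) := Groth.Agent.Lib.ModelsH5.w_le_of_ne_zero T _ _ (hne 0 1 (by decide)) nz_0_1
  have E_1_0 : T.w (v 1) ≤ T.a (v 1) (v 0) := Groth.Agent.Lib.ModelsH5.w_le_of_ne_zero T _ _ (hne 1 0 (by decide)) nz_1_0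
  have nz_1_2 : T.a (v 1) (v 2) ≠ 0 := h12
  have nz_2_1 : T.a (v 2) (v 1) ≠ 0 := by rw [hs 1 2]; exact nz_1_2
  have E_1_2 : T.w (v 1) ≤ T.a (v 1) (v 2) := Groth.Agent.Lib.ModelsH5.w_le_of_ne_zero T _ _ (hne 1 2 (by decide)) nz_1_2
  have E_2_1 : T.w (v 2) ≤ T.a (v 2) (v 1) := Groth.Agent.Lib.ModelsH5.w_le_of_ne_zero T _ _ (hne 2 1 (by decide)) nz_2_1
  have nz_3_4 : T.a (v 3) (v 4) ≠ 0 := h34
  have nz_4_3 : T.a (v 4) (v 3) ≠ 0 := by rw [hs 3 4]; exact nz_3_4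
  have E_3_4 : T.w (v 3) ≤ T.a (v 3) (v 4) := Groth.Agent.Lib.ModelsH5.w_le_of_ne_zero T _ _ (hne 3 4 (by decide)) nz_3_4
  have E_4_3 : T.w (v 4) ≤ T.a (v 4) (v 3) := Groth.Agent.Lib.ModelsH5.w_le_of_ne_zero T _ _ (hne 4 3 (by decide)) nz_4_3
  have nz_4_2 : T.a (v 4) (v 2) ≠ 0 := h42
  have nz_2_4 : T.a (v 2) (v 4) ≠ 0 := by rw [hs 4 2]; exact nz_4_2
  have E_4_2 : T.w (v 4) ≤ T.a (v 4) (v 2) := Groth.Agent.Lib.ModelsH5.w_le_of_ne_zero T _ _ (hne 4 2 (by decide)) nz_4_2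
  have E_2_4 : T.w (v 2) ≤ T.a (v 2) (v 4) := Groth.Agent.Lib.ModelsH5.w_le_of_ne_zero T _ _ (hne 2 4 (by decide)) nz_2_4
  have nz_5_6 : T.a (v 5) (v 6) ≠ 0 := h56
  have nz_6_5 : T.a (v 6) (v 5) ≠ 0 := by rw [hs 5 6]; exact nz_5_6
  have E_5_6 : T.w (v 5) ≤ T.a (v 5) (v 6) := Groth.Agent.Lib.ModelsH5.w_le_of_ne_zero T _ _ (hne 5 6 (by decide)) nz_5_6
  have E_6_5 : T.w (v 6) ≤ T.a (v 6) (v 5) := Groth.Agent.Lib.ModelsH5.w_le_of_ne_zero T _ _ (hne 6 5 (by decide)) nz_6_5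
  have nz_6_2 : T.a (v 6) (v 2) ≠ 0 := h62
  have nz_2_6 : T.a (v 2) (v 6) ≠ 0 := by rw [hs 6 2]; exact nz_6_2
  have E_6_2 : T.w (v 6) ≤ T.a (v 6) (v 2) := Groth.Agent.Lib.ModelsH5.w_le_of_ne_zero T _ _ (hne 6 2 (by decide)) nz_6_2
  have E_2_6 : T.w (v 2) ≤ T.a (v 2) (v 6) := Groth.Agent.Lib.ModelsH5.w_le_of_ne_zero T _ _ (hne 2 6 (by decide)) nz_2_6
  refine Groth.Agent.Lib.ModelsH5.no_superharmonic T v (by omega) ![1, 2, 3, 1, 2, 1, 2] ?_ ⟨0, by simp⟩ ?_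
  · intro k; fin_cases k <;> simp
  · intro j hj
    fin_cases j <;> simp [Fin.sum_univ_succ] at hj ⊢
    · linarith [hd 0, E_0_1, hnn 0 2 (by decide), hnn 0 3 (by decide), hnn 0 4 (by decide), hnn 0 5 (by decide), hnn 0 6 (by decide)]
    · linarith [hd 1, E_1_0, E_1_2, hnn 1 3 (by decide), hnn 1 4 (by decide), hnn 1 5 (by decide), hnn 1 6 (by decide)]
    · linarith [hd 2, hnn 2 0 (by decide), E_2_1, hnn 2 3 (by decide), E_2_4, hnn 2 5 (by decide), E_2_6]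
    · linarith [hd 3, hnn 3 0 (by decide), hnn 3 1 (by decide), hnn 3 2 (by decide), E_3_4, hnn 3 5 (by decide), hnn 3 6 (by decide)]
    · linarith [hd 4, hnn 4 0 (by decide), hnn 4 1 (by decide), E_4_2, E_4_3, hnn 4 5 (by decide), hnn 4 6 (by decide)]
    · linarith [hd 5, hnn 5 0 (by decide), hnn 5 1 (by decide), hnn 5 2 (by decide), hnn 5 3 (by decide), hnn 5 4 (by decide), E_5_6]
    · linarith [hd 6, hnn 6 0 (by decide), hnn 6 1 (by decide), E_6_2, hnn 6 3 (by decide), hnn 6 4 (by decide), E_6_5]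

end Groth.Agent.S7343
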