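import Groth.Statements.S7345
import Mathlib
import Groth.Agent.Lib.Models2_helper5

set_option autoImplicit false
open Finset
open Models Models.NumericalType

namespace Groth.Agent.S7345

/-- Let T be a numerical type on n > 9 indices. Then no nine (-2)-indices of T, pairwise distinct and
named d, e, f, g, h, i, j, k, l, have a_de, a_ef, a_fg, a_gh, a_hi, a_ij, a_jk and a_li all nonzero
(a chain of eight, d to k, with l joined to its sixth vertex i). (The published list of nonzero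
entries ends with a_lh, joining l to the fifth vertex h; that configuration already contains the
completed E7 configuration on eight of the indices and is impossible for that reason alone. The
pictured graph and the argument for it join l to the sixth vertex i, and this row states that case.) -/
theorem result {n : ℕ} (T : Models.NumericalType n) (hn : 9 < n)
    (v : Fin 9 ↪ Fin n) (hv : ∀ j, T.IsMinusTwo (v j))
    (h01 : T.a (v 0) (v 1) ≠ 0) (h12 : T.a (v 1) (v 2) ≠ 0) (h23 : T.a (v 2) (v 3) ≠ 0)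
    (h34 : T.a (v 3) (v 4) ≠ 0) (h45 : T.a (v 4) (v 5) ≠ 0) (h56 : T.a (v 5) (v 6) ≠ 0)
    (h67 : T.a (v 6) (v 7) ≠ 0) (h85 : T.a (v 8) (v 5) ≠ 0) : False := by
  have hne : ∀ j k : Fin 9, j ≠ k → v j ≠ v k := fun j k h e => h (v.injective e)
  have hnn : ∀ j k : Fin 9, j ≠ k → 0 ≤ T.a (v j) (v k) :=
    fun j k h => Groth.Agent.Lib.ModelsH5.emb_offDiag_nonneg T v j k h
  have hs : ∀ j k : Fin 9, T.a (v k) (v j) = T.a (v j) (v k) :=
    fun j k => Groth.Agent.Lib.ModelsH5.emb_symm T v j k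
  have hd : ∀ j : Fin 9, T.a (v j) (v j) = -2 * T.w (v j) := fun j => (hv j).2
  have nz_0_1 : T.a (v 0) (v 1) ≠ 0 := h01
  have nz_1_0 : T.a (v 1) (v 0) ≠ 0 := by rw [hs 0 1]; exact nz_0_1
  have E_0_1 : T.w (v 0) ≤ T.a (v 0) (v 1) := Groth.Agent.Lib.ModelsH5.w_le_of_ne_zero T _ _ (hne 0 1 (by decide)) nz_0_1
  have E_1_0 : T.w (v 1) ≤ T.a (v 1) (v 0) := Groth.Agent.Lib.ModelsH5.w_le_of_ne_zero T _ _ (hne 1 0 (by decide)) nz_1_0
  have nz_1_2 : T.a (v 1) (v 2) ≠ 0 := h12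
  have nz_2_1 : T.a (v 2) (v 1) ≠ 0 := by rw [hs 1 2]; exact nz_1_2
  have E_1_2 : T.w (v 1) ≤ T.a (v 1) (v 2) := Groth.Agent.Lib.ModelsH5.w_le_of_ne_zero T _ _ (hne 1 2 (by decide)) nz_1_2
  have E_2_1 : T.w (v 2) ≤ T.a (v 2) (v 1) := Groth.Agent.Lib.ModelsH5.w_le_of_ne_zero T _ _ (hne 2 1 (by decide)) nz_2_1
  have nz_2_3 : T.a (v 2) (v 3) ≠ 0 := h23
  have nz_3_2 : T.a (v 3) (v 2) ≠ 0 := by rw [hs 2 3]; exact nz_2_3
  have E_2_3 : T.w (v 2) ≤ T.a (v 2) (v 3) := Groth.Agent.Lib.ModelsH5.w_le_of_ne_zero T _ _ (hne 2 3 (by decide)) nz_2_3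
  have E_3_2 : T.w (v 3) ≤ T.a (v 3) (v 2) := Groth.Agent.Lib.ModelsH5.w_le_of_ne_zero T _ _ (hne 3 2 (by decide)) nz_3_2
  have nz_3_4 : T.a (v 3) (v 4) ≠ 0 := h34
  have nz_4_3 : T.a (v 4) (v 3) ≠ 0 := by rw [hs 3 4]; exact nz_3_4
  have E_3_4 : T.w (v 3) ≤ T.a (v 3) (v 4) := Groth.Agent.Lib.ModelsH5.w_le_of_ne_zero T _ _ (hne 3 4 (by decide)) nz_3_4
  have E_4_3 : T.w (v 4) ≤ T.a (v 4) (v 3) := Groth.Agent.Lib.ModelsH5.w_le_of_ne_zero T _ _ (hne 4 3 (by decide)) nz_4_3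
  have nz_4_5 : T.a (v 4) (v 5) ≠ 0 := h45
  have nz_5_4 : T.a (v 5) (v 4) ≠ 0 := by rw [hs 4 5]; exact nz_4_5
  have E_4_5 : T.w (v 4) ≤ T.a (v 4) (v 5) := Groth.Agent.Lib.ModelsH5.w_le_of_ne_zero T _ _ (hne 4 5 (by decide)) nz_4_5
  have E_5_4 : T.w (v 5) ≤ T.a (v 5) (v 4) := Groth.Agent.Lib.ModelsH5.w_le_of_ne_zero T _ _ (hne 5 4 (by decide)) nz_5_4
  have nz_5_6 : T.a (v 5) (v 6) ≠ 0 := h56
  have nz_6_5 : T.a (v 6) (v 5) ≠ 0 := by rw [hs 5 6]; exact nz_5_6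
  have E_5_6 : T.w (v 5) ≤ T.a (v 5) (v 6) := Groth.Agent.Lib.ModelsH5.w_le_of_ne_zero T _ _ (hne 5 6 (by decide)) nz_5_6
  have E_6_5 : T.w (v 6) ≤ T.a (v 6) (v 5) := Groth.Agent.Lib.ModelsH5.w_le_of_ne_zero T _ _ (hne 6 5 (by decide)) nz_6_5
  have nz_6_7 : T.a (v 6) (v 7) ≠ 0 := h67
  have nz_7_6 : T.a (v 7) (v 6) ≠ 0 := by rw [hs 6 7]; exact nz_6_7
  have E_6_7 : T.w (v 6) ≤ T.a (v 6) (v 7) := Groth.Agent.Lib.ModelsH5.w_le_of_ne_zero T _ _ (hne 6 7 (by decide)) nz_6_7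
  have E_7_6 : T.w (v 7) ≤ T.a (v 7) (v 6) := Groth.Agent.Lib.ModelsH5.w_le_of_ne_zero T _ _ (hne 7 6 (by decide)) nz_7_6
  have nz_8_5 : T.a (v 8) (v 5) ≠ 0 := h85
  have nz_5_8 : T.a (v 5) (v 8) ≠ 0 := by rw [hs 8 5]; exact nz_8_5
  have E_8_5 : T.w (v 8) ≤ T.a (v 8) (v 5) := Groth.Agent.Lib.ModelsH5.w_le_of_ne_zero T _ _ (hne 8 5 (by decide)) nz_8_5
  have E_5_8 : T.w (v 5) ≤ T.a (v 5) (v 8) := Groth.Agent.Lib.ModelsH5.w_le_of_ne_zero T _ _ (hne 5 8 (by decide)) nz_5_8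
  refine Groth.Agent.Lib.ModelsH5.no_superharmonic T v (by omega) ![1, 2, 3, 4, 5, 6, 4, 2, 3] ?_ ⟨0, by simp⟩ ?_
  · intro k; fin_cases k <;> simp
  · intro j hj
    fin_cases j <;> simp [Fin.sum_univ_succ] at hj ⊢
    · linarith [hd 0, E_0_1, hnn 0 2 (by decide), hnn 0 3 (by decide), hnn 0 4 (by decide), hnn 0 5 (by decide), hnn 0 6 (by decide), hnn 0 7 (by decide), hnn 0 8 (by decide)]
    · linarith [hd 1, E_1_0, E_1_2, hnn 1 3 (by decide), hnn 1 4 (by decide), hnn 1 5 (by decide), hnn 1 6 (by decide), hnn 1 7 (by decide), hnn 1 8 (by decide)]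
    · linarith [hd 2, hnn 2 0 (by decide), E_2_1, E_2_3, hnn 2 4 (by decide), hnn 2 5 (by decide), hnn 2 6 (by decide), hnn 2 7 (by decide), hnn 2 8 (by decide)]
    · linarith [hd 3, hnn 3 0 (by decide), hnn 3 1 (by decide), E_3_2, E_3_4, hnn 3 5 (by decide), hnn 3 6 (by decide), hnn 3 7 (by decide), hnn 3 8 (by decide)]
    · linarith [hd 4, hnn 4 0 (by decide), hnn 4 1 (by decide), hnn 4 2 (by decide), E_4_3, E_4_5, hnn 4 6 (by decide), hnn 4 7 (by decide), hnn 4 8 (by decide)]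
    · linarith [hd 5, hnn 5 0 (by decide), hnn 5 1 (by decide), hnn 5 2 (by decide), hnn 5 3 (by decide), E_5_4, E_5_6, hnn 5 7 (by decide), E_5_8]
    · linarith [hd 6, hnn 6 0 (by decide), hnn 6 1 (by decide), hnn 6 2 (by decide), hnn 6 3 (by decide), hnn 6 4 (by decide), E_6_5, E_6_7, hnn 6 8 (by decide)]
    · linarith [hd 7, hnn 7 0 (by decide), hnn 7 1 (by decide), hnn 7 2 (by decide), hnn 7 3 (by decide), hnn 7 4 (by decide), hnn 7 5 (by decide), E_7_6, hnn 7 8 (by decide)]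
    · linarith [hd 8, hnn 8 0 (by decide), hnn 8 1 (by decide), hnn 8 2 (by decide), hnn 8 3 (by decide), hnn 8 4 (by decide), E_8_5, hnn 8 6 (by decide), hnn 8 7 (by decide)]

end Groth.Agent.S7345
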