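import Groth.Statements.S7346
import Mathlib
import Groth.Agent.Lib.Models2_helper5

set_option autoImplicit false
open Finset
open Models Models.NumericalType

namespace Groth.Agent.S7346

/-- Classification of proper subgraphs of type D4 (one vertex joined to three others): let T be a
numerical type on n > 4 indices and i_1, …, i_4 distinct (-2)-indices with a_{12}, a_{13}, a_{14}
nonzero. Then for some integer w all w_{i_j} equal w, these intersection numbers equal w, all other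
a_{i_j i_k} (j ≠ k) vanish, and 2 m_1 ≥ m_2 + m_3 + m_4, 2 m_2 ≥ m_1, 2 m_3 ≥ m_1, 2 m_4 ≥ m_1. -/
theorem result {n : ℕ} (T : Models.NumericalType n) (hn : 4 < n)
    (v : Fin 4 ↪ Fin n) (hv : ∀ j, T.IsMinusTwo (v j)) (h01 : T.a (v 0) (v 1) ≠ 0) (h02 : T.a (v 0) (v 2) ≠ 0) (h03 : T.a (v 0) (v 3) ≠ 0) :
    ∃ w : ℤ, (∀ j : Fin 4, T.w (v j) = w) ∧
      T.a (v 0) (v 1) = w ∧
      T.a (v 0) (v 2) = w ∧
      T.a (v 0) (v 3) = w ∧
      T.a (v 1) (v 2) = 0 ∧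
      T.a (v 1) (v 3) = 0 ∧
      T.a (v 2) (v 3) = 0 ∧
      T.m (v 1) + T.m (v 2) + T.m (v 3) ≤ 2 * T.m (v 0) ∧
      T.m (v 0) ≤ 2 * T.m (v 1) ∧
      T.m (v 0) ≤ 2 * T.m (v 2) ∧
      T.m (v 0) ≤ 2 * T.m (v 3) := by
  have hne : ∀ j k : Fin 4, j ≠ k → v j ≠ v k := fun j k h e => h (v.injective e)
  have hnn : ∀ j k : Fin 4, j ≠ k → 0 ≤ T.a (v j) (v k) :=
    fun j k h => Groth.Agent.Lib.ModelsH5.emb_offDiag_nonneg T v j k h
  have hs : ∀ j k : Fin 4, T.a (v k) (v j) = T.a (v j) (v k) :=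
    fun j k => Groth.Agent.Lib.ModelsH5.emb_symm T v j k
  have hd : ∀ j : Fin 4, T.a (v j) (v j) = -2 * T.w (v j) := fun j => (hv j).2
  have nz_0_1 : T.a (v 0) (v 1) ≠ 0 := h01
  have nz_1_0 : T.a (v 1) (v 0) ≠ 0 := by rw [hs 0 1]; exact nz_0_1
  have E_0_1 : T.w (v 0) ≤ T.a (v 0) (v 1) := Groth.Agent.Lib.ModelsH5.w_le_of_ne_zero T _ _ (hne 0 1 (by decide)) nz_0_1
  have E_1_0 : T.w (v 1) ≤ T.a (v 1) (v 0) := Groth.Agent.Lib.ModelsH5.w_le_of_ne_zero T _ _ (hne 1 0 (by decide)) nz_1_0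
  have nz_0_2 : T.a (v 0) (v 2) ≠ 0 := h02
  have nz_2_0 : T.a (v 2) (v 0) ≠ 0 := by rw [hs 0 2]; exact nz_0_2
  have E_0_2 : T.w (v 0) ≤ T.a (v 0) (v 2) := Groth.Agent.Lib.ModelsH5.w_le_of_ne_zero T _ _ (hne 0 2 (by decide)) nz_0_2
  have E_2_0 : T.w (v 2) ≤ T.a (v 2) (v 0) := Groth.Agent.Lib.ModelsH5.w_le_of_ne_zero T _ _ (hne 2 0 (by decide)) nz_2_0
  have nz_0_3 : T.a (v 0) (v 3) ≠ 0 := h03
  have nz_3_0 : T.a (v 3) (v 0) ≠ 0 := by rw [hs 0 3]; exact nz_0_3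
  have E_0_3 : T.w (v 0) ≤ T.a (v 0) (v 3) := Groth.Agent.Lib.ModelsH5.w_le_of_ne_zero T _ _ (hne 0 3 (by decide)) nz_0_3
  have E_3_0 : T.w (v 3) ≤ T.a (v 3) (v 0) := Groth.Agent.Lib.ModelsH5.w_le_of_ne_zero T _ _ (hne 3 0 (by decide)) nz_3_0
  have z_1_2 : T.a (v 1) (v 2) = 0 := by
    by_contra hnz
    have hnz' : T.a (v 2) (v 1) ≠ 0 := by rw [hs 1 2]; exact hnz
    have B1 : T.w (v 1) ≤ T.a (v 1) (v 2) := Groth.Agent.Lib.ModelsH5.w_le_of_ne_zero T _ _ (hne 1 2 (by decide)) hnz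
    have B2 : T.w (v 2) ≤ T.a (v 2) (v 1) := Groth.Agent.Lib.ModelsH5.w_le_of_ne_zero T _ _ (hne 2 1 (by decide)) hnz'
    refine Groth.Agent.Lib.ModelsH5.no_superharmonic T v (by omega) ![1, 1, 1, 0] ?_ ⟨0, by simp⟩ ?_
    · intro k; fin_cases k <;> simp
    · intro j hj
      fin_cases j <;> simp [Fin.sum_univ_succ] at hj ⊢
      · linarith [hd 0, E_0_1, E_0_2]
      · linarith [hd 1, E_1_0, B1]
      · linarith [hd 2, E_2_0, B2]
  have z_1_3 : T.a (v 1) (v 3) = 0 := by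
    by_contra hnz
    have hnz' : T.a (v 3) (v 1) ≠ 0 := by rw [hs 1 3]; exact hnz
    have B1 : T.w (v 1) ≤ T.a (v 1) (v 3) := Groth.Agent.Lib.ModelsH5.w_le_of_ne_zero T _ _ (hne 1 3 (by decide)) hnz
    have B2 : T.w (v 3) ≤ T.a (v 3) (v 1) := Groth.Agent.Lib.ModelsH5.w_le_of_ne_zero T _ _ (hne 3 1 (by decide)) hnz'
    refine Groth.Agent.Lib.ModelsH5.no_superharmonic T v (by omega) ![1, 1, 0, 1] ?_ ⟨0, by simp⟩ ?_
    · intro k; fin_cases k <;> simp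
    · intro j hj
      fin_cases j <;> simp [Fin.sum_univ_succ] at hj ⊢
      · linarith [hd 0, E_0_1, E_0_3]
      · linarith [hd 1, E_1_0, B1]
      · linarith [hd 3, E_3_0, B2]
  have z_2_3 : T.a (v 2) (v 3) = 0 := by
    by_contra hnz
    have hnz' : T.a (v 3) (v 2) ≠ 0 := by rw [hs 2 3]; exact hnz
    have B1 : T.w (v 2) ≤ T.a (v 2) (v 3) := Groth.Agent.Lib.ModelsH5.w_le_of_ne_zero T _ _ (hne 2 3 (by decide)) hnz
    have B2 : T.w (v 3) ≤ T.a (v 3) (v 2) := Groth.Agent.Lib.ModelsH5.w_le_of_ne_zero T _ _ (hne 3 2 (by decide)) hnz'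
    refine Groth.Agent.Lib.ModelsH5.no_superharmonic T v (by omega) ![1, 0, 1, 1] ?_ ⟨0, by simp⟩ ?_
    · intro k; fin_cases k <;> simp
    · intro j hj
      fin_cases j <;> simp [Fin.sum_univ_succ] at hj ⊢
      · linarith [hd 0, E_0_2, E_0_3]
      · linarith [hd 2, E_2_0, B1]
      · linarith [hd 3, E_3_0, B2]
  have p_0_1 : T.a (v 0) (v 1) = T.w (v 0) := by
    rcases Groth.Agent.Lib.ModelsH5.eq_or_two_le T (v 0) (v 1) (hne 0 1 (by decide)) nz_0_1 with h | h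
    · exact h
    · exfalso
      refine Groth.Agent.Lib.ModelsH5.no_superharmonic T v (by omega) ![2, 1, 1, 1] ?_ ⟨0, by simp⟩ ?_
      · intro k; fin_cases k <;> simp
      · intro j hj
        fin_cases j <;> simp [Fin.sum_univ_succ] at hj ⊢
        · linarith [hd 0, h, E_0_2, E_0_3]
        · linarith [hd 1, E_1_0, hnn 1 2 (by decide), hnn 1 3 (by decide)]
        · linarith [hd 2, E_2_0, hnn 2 1 (by decide), hnn 2 3 (by decide)]
        · linarith [hd 3, E_3_0, hnn 3 1 (by decide), hnn 3 2 (by decide)]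
  have p_1_0 : T.a (v 1) (v 0) = T.w (v 1) := by
    rcases Groth.Agent.Lib.ModelsH5.eq_or_two_le T (v 1) (v 0) (hne 1 0 (by decide)) nz_1_0 with h | h
    · exact h
    · exfalso
      refine Groth.Agent.Lib.ModelsH5.no_superharmonic T v (by omega) ![2, 2, 1, 1] ?_ ⟨0, by simp⟩ ?_
      · intro k; fin_cases k <;> simp
      · intro j hj
        fin_cases j <;> simp [Fin.sum_univ_succ] at hj ⊢
        · linarith [hd 0, E_0_1, E_0_2, E_0_3]
        · linarith [hd 1, h, hnn 1 2 (by decide), hnn 1 3 (by decide)]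
        · linarith [hd 2, E_2_0, hnn 2 1 (by decide), hnn 2 3 (by decide)]
        · linarith [hd 3, E_3_0, hnn 3 1 (by decide), hnn 3 2 (by decide)]
  have p_0_2 : T.a (v 0) (v 2) = T.w (v 0) := by
    rcases Groth.Agent.Lib.ModelsH5.eq_or_two_le T (v 0) (v 2) (hne 0 2 (by decide)) nz_0_2 with h | h
    · exact h
    · exfalso
      refine Groth.Agent.Lib.ModelsH5.no_superharmonic T v (by omega) ![2, 1, 1, 1] ?_ ⟨0, by simp⟩ ?_
      · intro k; fin_cases k <;> simp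
      · intro j hj
        fin_cases j <;> simp [Fin.sum_univ_succ] at hj ⊢
        · linarith [hd 0, E_0_1, h, E_0_3]
        · linarith [hd 1, E_1_0, hnn 1 2 (by decide), hnn 1 3 (by decide)]
        · linarith [hd 2, E_2_0, hnn 2 1 (by decide), hnn 2 3 (by decide)]
        · linarith [hd 3, E_3_0, hnn 3 1 (by decide), hnn 3 2 (by decide)]
  have p_2_0 : T.a (v 2) (v 0) = T.w (v 2) := by
    rcases Groth.Agent.Lib.ModelsH5.eq_or_two_le T (v 2) (v 0) (hne 2 0 (by decide)) nz_2_0 with h | h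
    · exact h
    · exfalso
      refine Groth.Agent.Lib.ModelsH5.no_superharmonic T v (by omega) ![2, 1, 2, 1] ?_ ⟨0, by simp⟩ ?_
      · intro k; fin_cases k <;> simp
      · intro j hj
        fin_cases j <;> simp [Fin.sum_univ_succ] at hj ⊢
        · linarith [hd 0, E_0_1, E_0_2, E_0_3]
        · linarith [hd 1, E_1_0, hnn 1 2 (by decide), hnn 1 3 (by decide)]
        · linarith [hd 2, h, hnn 2 1 (by decide), hnn 2 3 (by decide)]
        · linarith [hd 3, E_3_0, hnn 3 1 (by decide), hnn 3 2 (by decide)]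
  have p_0_3 : T.a (v 0) (v 3) = T.w (v 0) := by
    rcases Groth.Agent.Lib.ModelsH5.eq_or_two_le T (v 0) (v 3) (hne 0 3 (by decide)) nz_0_3 with h | h
    · exact h
    · exfalso
      refine Groth.Agent.Lib.ModelsH5.no_superharmonic T v (by omega) ![2, 1, 1, 1] ?_ ⟨0, by simp⟩ ?_
      · intro k; fin_cases k <;> simp
      · intro j hj
        fin_cases j <;> simp [Fin.sum_univ_succ] at hj ⊢
        · linarith [hd 0, E_0_1, E_0_2, h]
        · linarith [hd 1, E_1_0, hnn 1 2 (by decide), hnn 1 3 (by decide)]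
        · linarith [hd 2, E_2_0, hnn 2 1 (by decide), hnn 2 3 (by decide)]
        · linarith [hd 3, E_3_0, hnn 3 1 (by decide), hnn 3 2 (by decide)]
  have p_3_0 : T.a (v 3) (v 0) = T.w (v 3) := by
    rcases Groth.Agent.Lib.ModelsH5.eq_or_two_le T (v 3) (v 0) (hne 3 0 (by decide)) nz_3_0 with h | h
    · exact h
    · exfalso
      refine Groth.Agent.Lib.ModelsH5.no_superharmonic T v (by omega) ![2, 1, 1, 2] ?_ ⟨0, by simp⟩ ?_
      · intro k; fin_cases k <;> simp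
      · intro j hj
        fin_cases j <;> simp [Fin.sum_univ_succ] at hj ⊢
        · linarith [hd 0, E_0_1, E_0_2, E_0_3]
        · linarith [hd 1, E_1_0, hnn 1 2 (by decide), hnn 1 3 (by decide)]
        · linarith [hd 2, E_2_0, hnn 2 1 (by decide), hnn 2 3 (by decide)]
        · linarith [hd 3, h, hnn 3 1 (by decide), hnn 3 2 (by decide)]
  have W_1 : T.w (v 1) = T.w (v 0) := by linarith [p_0_1, p_1_0, hs 0 1, p_0_2, p_2_0, hs 0 2, p_0_3, p_3_0, hs 0 3]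
  have W_2 : T.w (v 2) = T.w (v 0) := by linarith [p_0_1, p_1_0, hs 0 1, p_0_2, p_2_0, hs 0 2, p_0_3, p_3_0, hs 0 3]
  have W_3 : T.w (v 3) = T.w (v 0) := by linarith [p_0_1, p_1_0, hs 0 1, p_0_2, p_2_0, hs 0 2, p_0_3, p_3_0, hs 0 3]
  have A_0_1 : T.a (v 0) (v 1) = T.w (v 0) := by linarith [p_0_1, p_1_0, hs 0 1, p_0_2, p_2_0, hs 0 2, p_0_3, p_3_0, hs 0 3]
  have A_0_2 : T.a (v 0) (v 2) = T.w (v 0) := by linarith [p_0_1, p_1_0, hs 0 1, p_0_2, p_2_0, hs 0 2, p_0_3, p_3_0, hs 0 3]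
  have A_0_3 : T.a (v 0) (v 3) = T.w (v 0) := by linarith [p_0_1, p_1_0, hs 0 1, p_0_2, p_2_0, hs 0 2, p_0_3, p_3_0, hs 0 3]
  have A_1_0 : T.a (v 1) (v 0) = T.w (v 0) := by linarith [p_0_1, p_1_0, hs 0 1, p_0_2, p_2_0, hs 0 2, p_0_3, p_3_0, hs 0 3]
  have A_1_2 : T.a (v 1) (v 2) = 0 := z_1_2
  have A_1_3 : T.a (v 1) (v 3) = 0 := z_1_3
  have A_2_0 : T.a (v 2) (v 0) = T.w (v 0) := by linarith [p_0_1, p_1_0, hs 0 1, p_0_2, p_2_0, hs 0 2, p_0_3, p_3_0, hs 0 3]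
  have A_2_1 : T.a (v 2) (v 1) = 0 := by rw [hs 1 2]; exact z_1_2
  have A_2_3 : T.a (v 2) (v 3) = 0 := z_2_3
  have A_3_0 : T.a (v 3) (v 0) = T.w (v 0) := by linarith [p_0_1, p_1_0, hs 0 1, p_0_2, p_2_0, hs 0 2, p_0_3, p_3_0, hs 0 3]
  have A_3_1 : T.a (v 3) (v 1) = 0 := by rw [hs 1 3]; exact z_1_3
  have A_3_2 : T.a (v 3) (v 2) = 0 := by rw [hs 2 3]; exact z_2_3
  refine ⟨T.w (v 0), ?_, A_0_1, A_0_2, A_0_3, A_1_2, A_1_3, A_2_3, ?_, ?_, ?_, ?_⟩
  · intro j; fin_cases j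
    exacts [rfl, W_1, W_2, W_3]
  · have r := Groth.Agent.Lib.ModelsH5.emb_row_nonpos T v 0
    rw [Fin.sum_univ_four] at r
    simp only [A_0_1, A_0_2, A_0_3, hd 0] at r
    by_contra hcon
    push Not at hcon
    have := mul_pos (T.w_pos (v 0)) (sub_pos.2 hcon)
    linarith
  · have r := Groth.Agent.Lib.ModelsH5.emb_row_nonpos T v 1
    rw [Fin.sum_univ_four] at r
    simp only [A_1_0, A_1_2, A_1_3, hd 1, W_1] at r
    by_contra hcon
    push Not at hcon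
    have := mul_pos (T.w_pos (v 0)) (sub_pos.2 hcon)
    linarith
  · have r := Groth.Agent.Lib.ModelsH5.emb_row_nonpos T v 2
    rw [Fin.sum_univ_four] at r
    simp only [A_2_0, A_2_1, A_2_3, hd 2, W_2] at r
    by_contra hcon
    push Not at hcon
    have := mul_pos (T.w_pos (v 0)) (sub_pos.2 hcon)
    linarith
  · have r := Groth.Agent.Lib.ModelsH5.emb_row_nonpos T v 3
    rw [Fin.sum_univ_four] at r
    simp only [A_3_0, A_3_1, A_3_2, hd 3, W_3] at r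
    by_contra hcon
    push Not at hcon
    have := mul_pos (T.w_pos (v 0)) (sub_pos.2 hcon)
    linarith

end Groth.Agent.S7346
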