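import Groth.Statements.S7351
import Mathlib
import Groth.Agent.Lib.Models2_helper5

set_option autoImplicit false
open Finset
open Models Models.NumericalType

namespace Groth.Agent.S7351

/-- Let T be a numerical type on n > 5 indices. There do not exist five distinct (-2)-indices h, i, j,
k, l with a_hi > 0, a_hj > 0, a_hk > 0 and a_hl > 0. -/
theorem result {n : ℕ} (T : Models.NumericalType n) (hn : 5 < n)
    (v : Fin 5 ↪ Fin n) (hv : ∀ j, T.IsMinusTwo (v j))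
    (h01 : 0 < T.a (v 0) (v 1)) (h02 : 0 < T.a (v 0) (v 2)) (h03 : 0 < T.a (v 0) (v 3)) (h04 : 0 < T.a (v 0) (v 4)) : False := by
  have hne : ∀ j k : Fin 5, j ≠ k → v j ≠ v k := fun j k h e => h (v.injective e)
  have hnn : ∀ j k : Fin 5, j ≠ k → 0 ≤ T.a (v j) (v k) :=
    fun j k h => Groth.Agent.Lib.ModelsH5.emb_offDiag_nonneg T v j k h
  have hs : ∀ j k : Fin 5, T.a (v k) (v j) = T.a (v j) (v k) :=
    fun j k => Groth.Agent.Lib.ModelsH5.emb_symm T v j k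
  have hd : ∀ j : Fin 5, T.a (v j) (v j) = -2 * T.w (v j) := fun j => (hv j).2
  have nz_0_1 : T.a (v 0) (v 1) ≠ 0 := h01.ne'
  have nz_1_0 : T.a (v 1) (v 0) ≠ 0 := by rw [hs 0 1]; exact nz_0_1
  have E_0_1 : T.w (v 0) ≤ T.a (v 0) (v 1) := Groth.Agent.Lib.ModelsH5.w_le_of_ne_zero T _ _ (hne 0 1 (by decide)) nz_0_1
  have E_1_0 : T.w (v 1) ≤ T.a (v 1) (v 0) := Groth.Agent.Lib.ModelsH5.w_le_of_ne_zero T _ _ (hne 1 0 (by decide)) nz_1_0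
  have nz_0_2 : T.a (v 0) (v 2) ≠ 0 := h02.ne'
  have nz_2_0 : T.a (v 2) (v 0) ≠ 0 := by rw [hs 0 2]; exact nz_0_2
  have E_0_2 : T.w (v 0) ≤ T.a (v 0) (v 2) := Groth.Agent.Lib.ModelsH5.w_le_of_ne_zero T _ _ (hne 0 2 (by decide)) nz_0_2
  have E_2_0 : T.w (v 2) ≤ T.a (v 2) (v 0) := Groth.Agent.Lib.ModelsH5.w_le_of_ne_zero T _ _ (hne 2 0 (by decide)) nz_2_0
  have nz_0_3 : T.a (v 0) (v 3) ≠ 0 := h03.ne'
  have nz_3_0 : T.a (v 3) (v 0) ≠ 0 := by rw [hs 0 3]; exact nz_0_3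
  have E_0_3 : T.w (v 0) ≤ T.a (v 0) (v 3) := Groth.Agent.Lib.ModelsH5.w_le_of_ne_zero T _ _ (hne 0 3 (by decide)) nz_0_3
  have E_3_0 : T.w (v 3) ≤ T.a (v 3) (v 0) := Groth.Agent.Lib.ModelsH5.w_le_of_ne_zero T _ _ (hne 3 0 (by decide)) nz_3_0
  have nz_0_4 : T.a (v 0) (v 4) ≠ 0 := h04.ne'
  have nz_4_0 : T.a (v 4) (v 0) ≠ 0 := by rw [hs 0 4]; exact nz_0_4
  have E_0_4 : T.w (v 0) ≤ T.a (v 0) (v 4) := Groth.Agent.Lib.ModelsH5.w_le_of_ne_zero T _ _ (hne 0 4 (by decide)) nz_0_4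
  have E_4_0 : T.w (v 4) ≤ T.a (v 4) (v 0) := Groth.Agent.Lib.ModelsH5.w_le_of_ne_zero T _ _ (hne 4 0 (by decide)) nz_4_0
  refine Groth.Agent.Lib.ModelsH5.no_superharmonic T v (by omega) ![2, 1, 1, 1, 1] ?_ ⟨0, by simp⟩ ?_
  · intro k; fin_cases k <;> simp
  · intro j hj
    fin_cases j <;> simp [Fin.sum_univ_succ] at hj ⊢
    · linarith [hd 0, E_0_1, E_0_2, E_0_3, E_0_4]
    · linarith [hd 1, E_1_0, hnn 1 2 (by decide), hnn 1 3 (by decide), hnn 1 4 (by decide)]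
    · linarith [hd 2, E_2_0, hnn 2 1 (by decide), hnn 2 3 (by decide), hnn 2 4 (by decide)]
    · linarith [hd 3, E_3_0, hnn 3 1 (by decide), hnn 3 2 (by decide), hnn 3 4 (by decide)]
    · linarith [hd 4, E_4_0, hnn 4 1 (by decide), hnn 4 2 (by decide), hnn 4 3 (by decide)]

end Groth.Agent.S7351
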