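import Groth.Statements.S0056
import Groth.Agent.Lib.GAlg1_helper2
import Groth.Agent.Lib.GAlg2_helper2
import Groth.Agent.Lib.GAlg3_helper2
import Groth.Agent.Lib.GAlg4_helper2
import Groth.Agent.S2330
import Groth.Agent.Lib.AmpleFin1_helper2
import Groth.Agent.Lib.TensPowApi_helper9

set_option autoImplicit false
universe u
open Coherent

namespace Groth.Agent.S0056

open AlgebraicGeometry CategoryTheory CategoryTheory.Limits in
/-- Grothendieck's algebraization Theorem, with a slightly weaker conclusion. Let A be a Noetherian ring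
complete for an ideal I, and S_n = Spec(A/I^(n+1)). Given schemes X_n over S_n with transition maps
X_n → X_(n+1) making each X_n the base change of X_(n+1) to S_n, with X_0 → S_0 proper, and
invertible modules L_n on X_n with L_n ≅ (pullback of L_(n+1)) and L_0 ample, there exist a proper Y
→ Spec A, an ample invertible module M on Y and maps X_n → Y, compatible with the transition maps,
identifying X_n with Y ×_A S_n, under which L_n is isomorphic to the pullback of M. (The published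
statement also makes these isomorphisms compatible with the given ones L_n ≅ (pullback of L_(n+1));
that compatibility is not asserted here.) -/
theorem result (A : Type u) [CommRing A]
    [IsNoetherianRing A] (I : Ideal A) [IsAdicComplete I A]
    (Xs : ℕ → Scheme.{u}) (p : (n : ℕ) → (Xs n ⟶ Spec (CommRingCat.of (A ⧸ I ^ (n + 1)))))
    (i : (n : ℕ) → (Xs n ⟶ Xs (n + 1)))
    (hcart : ∀ n, IsPullback (i n) (p n) (p (n + 1)) (CohB1.specQuotTrans I n)) (hp : IsProper (p 0))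
    (L : (n : ℕ) → (Xs n).Modules) (hL : ∀ n, PicF.IsInvertible (L n))
    (φ : ∀ n, Nonempty ((Scheme.Modules.pullback (i n)).obj (L (n + 1)) ≅ L n)) (ha : CohB1.IsAmple (L 0)) :
    ∃ (Y : Scheme.{u}) (g : Y ⟶ Spec (CommRingCat.of A)) (M : Y.Modules) (e : (n : ℕ) → (Xs n ⟶ Y)),
      IsProper g ∧ PicF.IsInvertible M ∧ CohB1.IsAmple M ∧
      (∀ n, IsPullback (e n) (p n) g (CohB1.specQuot I n)) ∧ (∀ n, e n = i n ≫ e (n + 1)) ∧
      ∀ n, Nonempty ((Scheme.Modules.pullback (e n)).obj M ≅ L n) := by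
  classical
  have φ' : ∀ n, (Scheme.Modules.pullback (i n)).obj (L (n + 1)) ≅ L n := fun n => (φ n).some
  obtain ⟨d₀, hd₀⟩ := Groth.Agent.Lib.GAlgH2.exists_uniform_lift A I Xs p i hcart hp L hL φ ha
  haveI : IsProper (p 0) := hp
  obtain ⟨n₀, hn₀⟩ := (Groth.Agent.S2330.result (p 0) (L 0) (hL 0)).2 ha
  obtain ⟨N, ι₀, hι₀, hι₀p, ⟨τ⟩⟩ := hn₀ (max d₀ n₀) (le_max_right _ _)
  haveI := hι₀
  have hMk : ∀ k, PicF.IsInvertible (CohB1.tensorPow (L k) (max d₀ n₀)) := fun k =>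
    TensH8.isInvertible_tensorPow (hL k) (max d₀ n₀)
  have θ : ∀ k, (Scheme.Modules.pullback (i k)).obj (CohB1.tensorPow (L (k + 1)) (max d₀ n₀)) ≅
      CohB1.tensorPow (L k) (max d₀ n₀) := fun k =>
    (Groth.Agent.Lib.AmpleFinH2.pullback_tensorPow (i k) (hL (k + 1)) (max d₀ n₀)).some.symm ≪≫
      (TensPowH9.tensorPow_congr (φ' k) (max d₀ n₀)).some
  have hsurj := fun k => Groth.Agent.Lib.GAlgH2.surjective_i A I Xs p i hcart k
  have τ₀ : (Scheme.Modules.pullback (ι₀ ≫ Groth.Agent.Lib.GAlgH2.prZ N _)).obj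
      (Groth.Agent.Lib.GAlgH2.TZ.{u} N) ≅ CohB1.tensorPow (L 0) (max d₀ n₀) :=
    ((Scheme.Modules.pullbackComp ι₀ (Groth.Agent.Lib.GAlgH2.prZ N _)).app
      (Groth.Agent.Lib.GAlgH2.TZ.{u} N)).symm ≪≫ τ.symm
  obtain ⟨r, hr0, hr⟩ := Groth.Agent.Lib.GAlgH2.exists_compatible_maps Xs i
    (fun k => CohB1.tensorPow (L k) (max d₀ n₀)) hMk θ hsurj
    (fun k s => hd₀ k (max d₀ n₀) (le_max_left _ _) s)
    (ι₀ ≫ Groth.Agent.Lib.GAlgH2.prZ N _) τ₀
  obtain ⟨Y, g, e, hg, hpb, he⟩ := Groth.Agent.Lib.GAlgH2.exists_algebraization_scheme A I Xs p i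
    hcart N r hr hp ι₀ hr0.symm hι₀p
  letI : Y.Over (Spec (CommRingCat.of A)) := ⟨g⟩
  haveI : IsProper (Y ↘ Spec (CommRingCat.of A)) := hg
  obtain ⟨M, hM, hiso⟩ := Groth.Agent.Lib.GAlgH2.exists_module A I Xs p i hcart Y e hpb he L hL φ'
  haveI : ∀ n, IsClosedImmersion (e n) := Groth.Agent.Lib.GAlgH2.isClosedImmersion_e A I Xs p Y e hpb
  have hM1 : FlatMod.IsFinLocFreeOfRank 1 M :=
    Groth.Agent.Lib.GAlgH2.isFinLocFreeOfRank_of_levels A I Y g M hM 1 Xs e
      (Groth.Agent.Lib.GAlgH2.ker_e A I Xs p Y e hpb)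
      (fun n => FLFH8.finLocFreeOfRank_one_of_isInvertible
        (TensH8.isInvertible_of_iso' (hiso n).some.symm (hL n)))
  have hinv := Groth.Agent.Lib.GAlgH2.isInvertible_of_rank_one hM1
  have hamp : CohB1.IsAmple M := Groth.Agent.Lib.GAlgH2.isAmple_of_level0 A I Y (e 0) (p 0) (hpb 0)
    M hinv ((TensH8.isAmple_congr (hiso 0).some).mpr ha)
  exact ⟨Y, g, M, e, hg, hinv, hamp, hpb, he, hiso⟩

end Groth.Agent.S0056
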