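import Groth.Statements.S13606
import Mathlib

set_option autoImplicit false
universe u
open CategoryTheory AlgebraicGeometry
open SGA1

namespace Groth.Agent.S13606

lemma isIso_appLE_of_image_eq {X Y : Scheme.{u}} (f : X ⟶ Y) [IsOpenImmersion f] (N : X.Opens)
    (T : Y.Opens) (hT : f ''ᵁ N = T) (h : N ≤ f ⁻¹ᵁ T) : IsIso (f.appLE T N h) := by
  subst hT
  have : f.appLE (f ''ᵁ N) N h = (f.appIso N).hom := (f.appIso_hom' N).symm
  rw [this]; infer_instance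

lemma appLE_congr_hom {X Y : Scheme.{u}} {f g : X ⟶ Y} (hfg : f = g) (U : Y.Opens) (V : X.Opens)
    (e : V ≤ f ⁻¹ᵁ U) (e' : V ≤ g ⁻¹ᵁ U) : f.appLE U V e = g.appLE U V e' := by
  subst hfg; rfl



/-- Let a finite group G act on a scheme X and let p : X ⟶ Y be a quotient of X by G (affine,
G-invariant, sections of O_Y over every open = G-invariant sections of O_X over its preimage). Then
for every open U ⊆ Y, U is the quotient of p⁻¹U by G: the restriction p⁻¹U ⟶ U of p is again a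
quotient in the same sense, for the action ρU of G on the G-stable open p⁻¹U induced by ρ (pinned by
compatibility with the inclusion p⁻¹U ⟶ X). -/
theorem result {X Y : Scheme.{u}} {G : Type u} [Group G] [Finite G]
    (ρ : G →* Aut X) (p : X ⟶ Y) (hp : SGA1.IsQuot ρ p) (U : Y.Opens)
    (ρU : G →* Aut (p ⁻¹ᵁ U).toScheme)
    (hρU : ∀ g : G, (ρU g).hom ≫ (p ⁻¹ᵁ U).ι = (p ⁻¹ᵁ U).ι ≫ (ρ g).hom) :
    SGA1.IsQuot ρU (p ∣_ U) := by
  have hinv : ∀ g : G, (ρU g).hom ≫ (p ∣_ U) = p ∣_ U := by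
    intro g
    rw [← cancel_mono U.ι, Category.assoc, morphismRestrict_ι, ← Category.assoc, hρU,
      Category.assoc, hp.inv]
  have key : ∀ W : U.toScheme.Opens,
      ∃ (j : Γ(X, p ⁻¹ᵁ (U.ι ''ᵁ W)) ≅ Γ((p ⁻¹ᵁ U).toScheme, (p ∣_ U) ⁻¹ᵁ W))
        (k : Γ(Y, U.ι ''ᵁ W) ≅ Γ(U.toScheme, W)),
      k.hom ≫ (p ∣_ U).app W = p.app (U.ι ''ᵁ W) ≫ j.hom ∧
      ∀ g : G, j.hom ≫ (ρU g).hom.appLE ((p ∣_ U) ⁻¹ᵁ W) ((p ∣_ U) ⁻¹ᵁ W)
          (SGA1.preimage_le_of_inv ρU (p ∣_ U) hinv g W)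
        = (ρ g).hom.appLE _ _ (SGA1.preimage_le_of_inv ρ p hp.inv g (U.ι ''ᵁ W)) ≫ j.hom := by
    intro W
    have hTN : (p ⁻¹ᵁ U).ι ''ᵁ ((p ∣_ U) ⁻¹ᵁ W) = p ⁻¹ᵁ (U.ι ''ᵁ W) :=
      image_morphismRestrict_preimage p U W
    have hNT : (p ∣_ U) ⁻¹ᵁ W ≤ (p ⁻¹ᵁ U).ι ⁻¹ᵁ (p ⁻¹ᵁ (U.ι ''ᵁ W)) := by
      rw [← hTN]; exact ((p ⁻¹ᵁ U).ι.preimage_image_eq _).ge
    have hWW' : W ≤ U.ι ⁻¹ᵁ (U.ι ''ᵁ W) := (U.ι.preimage_image_eq W).ge
    have ij := isIso_appLE_of_image_eq (p ⁻¹ᵁ U).ι _ _ hTN hNT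
    have ik := isIso_appLE_of_image_eq U.ι W _ rfl hWW'
    refine ⟨asIso ((p ⁻¹ᵁ U).ι.appLE _ _ hNT), asIso (U.ι.appLE _ W hWW'), ?_, ?_⟩
    · simp only [asIso_hom]
      rw [Scheme.Hom.app_eq_appLE (p ∣_ U), Scheme.Hom.appLE_comp_appLE,
        Scheme.Hom.app_eq_appLE p, Scheme.Hom.appLE_comp_appLE]
      exact appLE_congr_hom (morphismRestrict_ι p U) _ _ _ _
    · intro g
      simp only [asIso_hom]
      rw [Scheme.Hom.appLE_comp_appLE, Scheme.Hom.appLE_comp_appLE]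
      exact appLE_congr_hom (hρU g) _ _ _ _
  refine ⟨IsZariskiLocalAtTarget.restrict (P := @IsAffineHom) hp.affine U, hinv, ?_, ?_⟩
  · intro W
    obtain ⟨j, k, h1, -⟩ := key W
    have h3 : (p ∣_ U).app W = k.inv ≫ p.app (U.ι ''ᵁ W) ≫ j.hom := by
      rw [← h1, Iso.inv_hom_id_assoc]
    rw [h3]
    simp only [CommRingCat.hom_comp, RingHom.coe_comp]
    exact ((ConcreteCategory.bijective_of_isIso j.hom).1.comp (hp.injective _)).comp
      (ConcreteCategory.bijective_of_isIso k.inv).1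
  · intro W s
    obtain ⟨j, k, h1, h2⟩ := key W
    have hj1 : ∀ s, j.hom.hom (j.inv.hom s) = s := fun s => by
      have := congrArg (fun f => f.hom s) j.inv_hom_id
      simpa using this
    have hk1 : ∀ s, k.hom.hom (k.inv.hom s) = s := fun s => by
      have := congrArg (fun f => f.hom s) k.inv_hom_id
      simpa using this
    have hjinj : Function.Injective j.hom.hom := (ConcreteCategory.bijective_of_isIso j.hom).1
    have ha : ∀ a, ((p ∣_ U).app W).hom (k.hom.hom a) = j.hom.hom ((p.app (U.ι ''ᵁ W)).hom a) :=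
      fun a => by
        have := congrArg (fun f => f.hom a) h1
        simpa using this
    have hb : ∀ (g : G) t, ((ρU g).hom.appLE ((p ∣_ U) ⁻¹ᵁ W) ((p ∣_ U) ⁻¹ᵁ W)
          (SGA1.preimage_le_of_inv ρU (p ∣_ U) hinv g W)).hom (j.hom.hom t) =
        j.hom.hom (((ρ g).hom.appLE _ _
          (SGA1.preimage_le_of_inv ρ p hp.inv g (U.ι ''ᵁ W))).hom t) := fun g t => by
        have := congrArg (fun f => f.hom t) (h2 g)
        simpa using this
    constructor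
    · rintro ⟨b, rfl⟩ g
      rw [← hk1 b, ha, hb]
      congr 1
      exact (hp.range_iff (U.ι ''ᵁ W) _).mp ⟨_, rfl⟩ g
    · intro hs
      have hs' : ∀ g : G, ((ρ g).hom.appLE _ _
          (SGA1.preimage_le_of_inv ρ p hp.inv g (U.ι ''ᵁ W))).hom (j.inv.hom s) = j.inv.hom s := by
        intro g
        apply hjinj
        rw [← hb, hj1]
        exact hs g
      obtain ⟨a, ha'⟩ := (hp.range_iff (U.ι ''ᵁ W) _).mpr hs'
      refine ⟨k.hom.hom a, ?_⟩
      rw [ha, ha', hj1]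

end Groth.Agent.S13606
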