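import Groth.Statements.S2908
import Mathlib
import Groth.Agent.Lib.GrpQuot_helper6
-- import your own Groth.Agent.* helpers here

set_option autoImplicit false
open CategoryTheory CategoryTheory.Limits AlgebraicGeometry
universe u
open SGA1

namespace Groth.Agent.S2908

/-- Let a finite group G act on a scheme X and let p : X ⟶ Y be a quotient of X by G. Then p is
surjective, two points of X have the same image exactly when they lie in one G-orbit, and the
topology of Y is the quotient topology. -/
theorem result {X Y : Scheme.{u}} {G : Type u} [Group G] [Finite G] (ρ : G →* Aut X)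
    (p : X ⟶ Y) (hp : SGA1.IsQuot ρ p) :
    Function.Surjective p.base ∧ (∀ x x' : X, p.base x = p.base x' ↔ ∃ g : G, (ρ g).hom.base x = x') ∧
      Topology.IsQuotientMap p.base := by

  haveI := hp.affine
  have key := fun U => Lib.GrpQuot.isQuot_affine_data ρ p hp U
  haveI hint : IsIntegralHom p :=
    { toIsAffineHom := hp.affine, isIntegral_app := fun U _ => (key U).1 }
  have hclosed : IsClosedMap p.base := p.isClosedMap
  have hsq : ∀ (U : Y.Opens) (hU : IsAffineOpen U),
      Spec.map (p.app U) ≫ hU.fromSpec = (hU.preimage p).fromSpec ≫ p := by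
    intro U hU
    rw [Scheme.Hom.app_eq_appLE]
    exact IsAffineOpen.SpecMap_appLE_fromSpec p hU (hU.preimage p) le_rfl
  have hsurj : Function.Surjective p.base := by
    intro y
    obtain ⟨U, hU, hyU, -⟩ := exists_isAffineOpen_mem_and_subset (x := y) (U := ⊤) trivial
    obtain ⟨y', hy'⟩ : y ∈ Set.range hU.fromSpec.base := by
      rw [hU.range_fromSpec]; exact hyU
    obtain ⟨x', hx'⟩ := (key U).1.comap_surjective (hp.injective U) y'
    refine ⟨(hU.preimage p).fromSpec.base x', ?_⟩
    have e2 := congrArg (fun f => f.base x') (hsq U hU)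
    simp only [Scheme.Hom.comp_base, TopCat.comp_app] at e2
    rw [← e2, ← hy', ← hx']
    rfl
  refine ⟨hsurj, ?_, hclosed.isQuotientMap p.base.hom.continuous hsurj⟩
  intro x x'
  constructor
  · intro hxx
    obtain ⟨U, hU, hyU, -⟩ :=
      exists_isAffineOpen_mem_and_subset (x := p.base x) (U := ⊤) trivial
    have hVaff : IsAffineOpen (p ⁻¹ᵁ U) := hU.preimage p
    have hxV : x ∈ p ⁻¹ᵁ U := hyU
    have hx'V : x' ∈ p ⁻¹ᵁ U := by
      show p.base x' ∈ U
      rw [← hxx]; exact hyU
    obtain ⟨P, hP⟩ : x ∈ Set.range hVaff.fromSpec.base := by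
      rw [hVaff.range_fromSpec]; exact hxV
    obtain ⟨Q, hQ⟩ : x' ∈ Set.range hVaff.fromSpec.base := by
      rw [hVaff.range_fromSpec]; exact hx'V
    have hPQ : PrimeSpectrum.comap (p.app U).hom P = PrimeSpectrum.comap (p.app U).hom Q := by
      have inj : Function.Injective hU.fromSpec.base :=
        hU.fromSpec.isOpenEmbedding.injective
      apply inj
      have e1 := congrArg (fun f => f.base P) (hsq U hU)
      have e2 := congrArg (fun f => f.base Q) (hsq U hU)
      simp only [Scheme.Hom.comp_base, TopCat.comp_app] at e1 e2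
      have e3 : p.base (hVaff.fromSpec.base P) = p.base (hVaff.fromSpec.base Q) := by
        rw [hP, hQ, hxx]
      exact e1.trans (e3.trans e2.symm)
    obtain ⟨g, hg⟩ := (key U).2 P Q hPQ
    refine ⟨g, ?_⟩
    have e3 := IsAffineOpen.SpecMap_appLE_fromSpec (ρ g).hom hVaff hVaff
      (SGA1.preimage_le_of_inv ρ p hp.inv g U)
    have e4 := congrArg (fun f => f.base P) e3
    simp only [Scheme.Hom.comp_base, TopCat.comp_app] at e4
    rw [← hP, ← e4, ← hQ]
    congr 1
  · rintro ⟨g, rfl⟩
    have := congrArg (fun f => f.base x) (hp.inv g)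
    simp only [Scheme.Hom.comp_base, TopCat.comp_app] at this
    exact this.symm

end Groth.Agent.S2908
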