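import Groth.Statements.S12059
import Mathlib
import Groth.Agent.Lib.IsQuot4_helper8

set_option autoImplicit false
universe u
open CategoryTheory CategoryTheory.Limits AlgebraicGeometry
open SGA1

namespace Groth.Agent.S12059

/-- Let a finite group G act on a commutative ring A by ring automorphisms σ_g, and let B → A be
injective, G-equivariant for the trivial action on B, with image containing all G-invariants (so B
is the ring of invariants A^G). Let ρ be an action of G on Spec A by scheme automorphisms whose
automorphisms are exactly the maps Spec(σ_g). Then Spec A ⟶ Spec B is a quotient of Spec A by G, and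
the structure sheaf of Spec B is the sheaf of G-invariants of the direct image of the structure
sheaf of Spec A: the map is affine and G-invariant, and for every open U of Spec B the sections of
the structure sheaf of Spec B over U map injectively onto the G-invariant sections of the structure
sheaf of Spec A over the inverse image of U. -/
theorem result (G : Type u) [Group G] [Finite G] (A B : Type u) [CommRing A] [CommRing B]
    [Algebra B A] [MulSemiringAction G A] [SMulCommClass G B A] [Algebra.IsInvariant B A G] [FaithfulSMul B A]
    (ρ : G →* Aut (Spec (CommRingCat.of A)))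
    (hρ : Set.range (fun g : G => (ρ g).hom) =
      Set.range (fun g : G => Spec.map (CommRingCat.ofHom (MulSemiringAction.toRingHom G A g)))) :
    SGA1.IsQuot ρ (Spec.map (CommRingCat.ofHom (algebraMap B A))) := by
  have hσ : ∀ g' : G, CommRingCat.ofHom (algebraMap B A) ≫
      CommRingCat.ofHom (MulSemiringAction.toRingHom G A g') = CommRingCat.ofHom (algebraMap B A) := by
    intro g'
    ext b
    change g' • algebraMap B A b = algebraMap B A b
    exact smul_algebraMap g' b
  have hinv : ∀ g : G, (ρ g).hom ≫ Spec.map (CommRingCat.ofHom (algebraMap B A)) =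
      Spec.map (CommRingCat.ofHom (algebraMap B A)) := by
    intro g
    have h1 : (ρ g).hom ∈ Set.range (fun g : G => (ρ g).hom) := ⟨g, rfl⟩
    rw [hρ] at h1
    obtain ⟨g', hg'⟩ := h1
    rw [← hg', ← Spec.map_comp, hσ g']
  have hnat : ∀ {R S : CommRingCat.{u}} (φ : R ⟶ S) (s : Γ(Spec R, ⊤)),
      (Scheme.ΓSpecIso S).hom.hom ((Spec.map φ).appTop.hom s) =
        φ.hom ((Scheme.ΓSpecIso R).hom.hom s) := by
    intro R S φ s
    exact congrArg (fun m => m.hom s) (Scheme.ΓSpecIso_naturality φ)
  refine IsQuotH8.isQuot_of_affine ρ _ hinv ?_ ?_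
  · intro a b hab
    have h1 := hnat (CommRingCat.ofHom (algebraMap B A)) a
    have h2 := hnat (CommRingCat.ofHom (algebraMap B A)) b
    have h3 : (Spec.map (CommRingCat.ofHom (algebraMap B A))).appTop.hom a =
        (Spec.map (CommRingCat.ofHom (algebraMap B A))).appTop.hom b := hab
    rw [h3, h2] at h1
    have h4 := FaithfulSMul.algebraMap_injective B A h1
    exact (ConcreteCategory.bijective_of_isIso (Scheme.ΓSpecIso (CommRingCat.of B)).hom).1 h4.symm
  · intro s hs
    have hfix : ∀ g' : G, g' • ((Scheme.ΓSpecIso (CommRingCat.of A)).hom.hom s) =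
        (Scheme.ΓSpecIso (CommRingCat.of A)).hom.hom s := by
      intro g'
      have h1 : Spec.map (CommRingCat.ofHom (MulSemiringAction.toRingHom G A g')) ∈
          Set.range (fun g : G => Spec.map (CommRingCat.ofHom (MulSemiringAction.toRingHom G A g))) :=
        ⟨g', rfl⟩
      rw [← hρ] at h1
      obtain ⟨g, hg⟩ := h1
      have h2 := hs g
      have h3 : ((ρ g).hom.appTop).hom s = s := h2
      have h4 : (ρ g).hom.appTop =
          (Spec.map (CommRingCat.ofHom (MulSemiringAction.toRingHom G A g'))).appTop := by
        have : (ρ g).hom = Spec.map (CommRingCat.ofHom (MulSemiringAction.toRingHom G A g')) := hg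
        rw [this]
      rw [h4] at h3
      have h5 := hnat (CommRingCat.ofHom (MulSemiringAction.toRingHom G A g')) s
      rw [h3] at h5
      exact h5.symm
    obtain ⟨b, hb⟩ := Algebra.IsInvariant.isInvariant (A := B) (G := G) _ hfix
    refine ⟨(Scheme.ΓSpecIso (CommRingCat.of B)).inv.hom b, ?_⟩
    apply (ConcreteCategory.bijective_of_isIso (Scheme.ΓSpecIso (CommRingCat.of A)).hom).1
    have h6 := hnat (CommRingCat.ofHom (algebraMap B A))
      ((Scheme.ΓSpecIso (CommRingCat.of B)).inv.hom b)
    have h7 : (Scheme.ΓSpecIso (CommRingCat.of B)).hom.hom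
        ((Scheme.ΓSpecIso (CommRingCat.of B)).inv.hom b) = b := by
      have := congrArg (fun m => m.hom b) (Scheme.ΓSpecIso (CommRingCat.of B)).inv_hom_id
      exact this
    rw [h7] at h6
    exact h6.trans hb

end Groth.Agent.S12059
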