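import Groth.Statements.S6409
import Groth.Agent.Lib.FibCatYoneda_helper6

set_option autoImplicit false
open CategoryTheory
universe v u
open FibCat

namespace Groth.Agent.S6409

/-- For `𝒳` fibred in groupoids over `C`, evaluation at `𝟙_U` is an equivalence of categories from the
category of functors `C/U ⟶ 𝒳` over `C` to the fibre category `𝒳_U`. -/
theorem result {C : Type u} [Category.{v} C] {𝒳 : BasedCategory.{v, max u v} C} (h𝒳 : FibCat.IsFibGrpd 𝒳.p) (U : C) :
    (FibCat.evalAtId 𝒳 U).IsEquivalence := by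
  have hfib : 𝒳.p.IsFibered := Lib.FibCat_helper6.isFibered_of_isFibGrpd h𝒳
  have hP : ∀ H : FibCat.overCat U ⥤ᵇ 𝒳, FibCat.PreservesStronglyCartesian H := by
    intro H R S f A B h hh
    have : (FibCat.overCat U).p.IsHomLift f h := hh.toIsHomLift
    exact Lib.FibCat_helper6.isStronglyCartesian_of_isFibGrpd h𝒳 f (H.map h)
  have hfaithful : (FibCat.evalAtId 𝒳 U).Faithful := by
    refine ⟨fun {G H} α β h => ?_⟩
    apply Lib.FibCatYoneda_helper6.basedNatTrans_ext_of_app_id (hP H)
    exact congrArg Subtype.val h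
  have hfull : (FibCat.evalAtId 𝒳 U).Full := by
    refine ⟨fun {G H} τ => ?_⟩
    refine ⟨Lib.FibCatYoneda_helper6.liftNatTrans (hP H) τ.1 τ.2, ?_⟩
    apply Subtype.ext
    exact Lib.FibCatYoneda_helper6.liftNatTrans_app_id (hP H) τ.1 τ.2
  have hess : (FibCat.evalAtId 𝒳 U).EssSurj := by
    refine ⟨fun x => ?_⟩
    exact ⟨Lib.FibCatYoneda_helper6.yonedaFunctor x.2,
      ⟨Lib.FibCatYoneda_helper6.yonedaFunctorIso x.2⟩⟩
  exact { }

end Groth.Agent.S6409
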