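import Groth.Statements.S7065
import Mathlib
-- import your own Groth.Agent.* helpers here

set_option autoImplicit false
universe u
open EtGlue

namespace Groth.Agent.S7065

/-- Let R → R' be a homomorphism of commutative rings and f an element of R such that the induced map
R/fR → R'/fR' is bijective. Then Spec(R') ⊔ Spec(R_f) → Spec(R) is surjective: every prime of R is
the contraction of a prime of R' or of a prime of R_f. -/
theorem result {R R' : Type u} [CommRing R] [CommRing R']
    [Algebra R R'] (f : R)
    (hq : Function.Bijective
      (Ideal.quotientMap (Ideal.map (algebraMap R R') (Ideal.span {f})) (algebraMap R R') Ideal.le_comap_map))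
    (p : PrimeSpectrum R) :
    (∃ q : PrimeSpectrum R', PrimeSpectrum.comap (algebraMap R R') q = p) ∨
      ∃ q : PrimeSpectrum (Localization.Away f), PrimeSpectrum.comap (algebraMap R (Localization.Away f)) q = p := by
  by_cases hf : f ∈ p.asIdeal
  · left
    let e := RingEquiv.ofBijective _ hq
    have hle : Ideal.span {f} ≤ p.asIdeal := (Ideal.span_singleton_le_iff_mem _).mpr hf
    let pbar : Ideal (R ⧸ Ideal.span {f}) := p.asIdeal.map (Ideal.Quotient.mk _)
    haveI hpbar : pbar.IsPrime :=
      Ideal.map_isPrime_of_surjective Ideal.Quotient.mk_surjective (by simpa using hle)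
    let qbar : Ideal (R' ⧸ Ideal.map (algebraMap R R') (Ideal.span {f})) := pbar.comap e.symm
    haveI : qbar.IsPrime := Ideal.comap_isPrime _ _
    refine ⟨⟨qbar.comap (Ideal.Quotient.mk _), Ideal.comap_isPrime _ _⟩, ?_⟩
    ext1
    show Ideal.comap (algebraMap R R') (Ideal.comap (Ideal.Quotient.mk _) qbar) = p.asIdeal
    rw [Ideal.comap_comap]
    have hcomp : (Ideal.Quotient.mk (Ideal.map (algebraMap R R') (Ideal.span {f}))).comp
        (algebraMap R R') = (e : _ →+* _).comp (Ideal.Quotient.mk (Ideal.span {f})) := by
      ext r
      simp [e]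
    rw [hcomp, ← Ideal.comap_comap]
    have h1 : Ideal.comap (e : _ →+* _) qbar = pbar := by
      ext x
      simp [qbar, Ideal.mem_comap]
    rw [h1]
    show Ideal.comap (Ideal.Quotient.mk _) (Ideal.map (Ideal.Quotient.mk _) p.asIdeal) = _
    rw [Ideal.comap_map_of_surjective _ Ideal.Quotient.mk_surjective]
    simpa [← RingHom.ker_eq_comap_bot] using hle
  · right
    have hmem : p ∈ Set.range (PrimeSpectrum.comap (algebraMap R (Localization.Away f))) := by
      rw [PrimeSpectrum.localization_away_comap_range (Localization.Away f) f]
      exact hf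
    exact hmem


end Groth.Agent.S7065
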