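import Groth.Statements.S5216
import Mathlib

set_option autoImplicit false
open CategoryTheory CategoryTheory.Limits
universe w v₁ u₁
open ShfCat

namespace Groth.Agent.S5216


section PS
variable {C : Type u₁} [Category.{v₁} C] {R X : Cᵒᵖ ⥤ Type w} (p₁ p₂ : R ⟶ X)

/-- pairs of sections of `R` with the same images -/
def KObj : Cᵒᵖ ⥤ Type w where
  obj U := {q : R.obj U × R.obj U //
    p₁.app U q.1 = p₁.app U q.2 ∧ p₂.app U q.1 = p₂.app U q.2}
  map {U V} f := ↾(fun q => ⟨(R.map f q.1.1, R.map f q.1.2), by
    refine ⟨?_, ?_⟩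
    · have h1 := NatTrans.naturality_apply p₁ f q.1.1
      have h2 := NatTrans.naturality_apply p₁ f q.1.2
      simp only at h1 h2 ⊢
      rw [h1, h2, q.2.1]
    · have h1 := NatTrans.naturality_apply p₂ f q.1.1
      have h2 := NatTrans.naturality_apply p₂ f q.1.2
      simp only at h1 h2 ⊢
      rw [h1, h2, q.2.2]⟩)
  map_id U := by
    ext q <;> simp
  map_comp f g := by
    ext q <;> simp

theorem joint_inj [JointlyMono₂ p₁ p₂] (U : Cᵒᵖ) (r r' : R.obj U)
    (h1 : p₁.app U r = p₁.app U r') (h2 : p₂.app U r = p₂.app U r') : r = r' := by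
  let a : KObj p₁ p₂ ⟶ R :=
    { app := fun V => ↾(fun q => q.1.1)
      naturality := by intro V W f; ext q; rfl }
  let b : KObj p₁ p₂ ⟶ R :=
    { app := fun V => ↾(fun q => q.1.2)
      naturality := by intro V W f; ext q; rfl }
  have hab : a = b := JointlyMono₂.right_cancellation (p₁ := p₁) (p₂ := p₂) a b
    (by ext V q; exact q.2.1) (by ext V q; exact q.2.2)
  have := congrArg (fun t => t.app U ⟨(r, r'), h1, h2⟩) hab
  exact this

/-- the relation on sections over `U` -/
def relU (U : Cᵒᵖ) (x y : X.obj U) : Prop := ∃ r : R.obj U, p₁.app U r = x ∧ p₂.app U r = y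

theorem relU_equiv (er : EquivalenceRelation p₁ p₂) (U : Cᵒᵖ) : Equivalence (relU p₁ p₂ U) := by
  refine ⟨?_, ?_, ?_⟩
  · intro x
    refine ⟨er.r.app U x, ?_, ?_⟩
    · have := congrArg (fun t => t.app U x) er.reflexivity₁
      exact this
    · have := congrArg (fun t => t.app U x) er.reflexivity₂
      exact this
  · rintro x y ⟨r, rfl, rfl⟩
    refine ⟨er.s.app U r, ?_, ?_⟩
    · have := congrArg (fun t => t.app U r) er.symmetry₁
      exact this
    · have := congrArg (fun t => t.app U r) er.symmetry₂
      exact this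
  · rintro x y z ⟨r, rfl, rfl⟩ ⟨r', h1, rfl⟩
    have hpb : IsPullback er.c.fst er.c.snd p₂ p₁ := IsPullback.of_isLimit er.isLimit
    obtain ⟨c, hc1, hc2⟩ := Types.exists_of_isPullback (hpb.app U) r r' h1.symm
    refine ⟨er.t.app U c, ?_, ?_⟩
    · have := congrArg (fun t => t.app U c) er.transitivity₁
      simp only [NatTrans.comp_app, types_comp_apply] at this
      rw [this, hc1]
    · have := congrArg (fun t => t.app U c) er.transitivity₂
      simp only [NatTrans.comp_app, types_comp_apply] at this
      rw [this, hc2]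

/-- the quotient presheaf -/
def QObj : Cᵒᵖ ⥤ Type w where
  obj U := Quot (relU p₁ p₂ U)
  map {U V} f := ↾(Quot.map (X.map f) (by
    rintro x y ⟨r, rfl, rfl⟩
    refine ⟨R.map f r, ?_, ?_⟩
    · exact NatTrans.naturality_apply p₁ f r
    · exact NatTrans.naturality_apply p₂ f r))
  map_id U := by
    ext q
    induction q using Quot.ind
    simp [Quot.map]
  map_comp f g := by
    ext q
    induction q using Quot.ind
    simp [Quot.map]

/-- the quotient map -/
def πQ : X ⟶ QObj p₁ p₂ where
  app U := ↾(Quot.mk _)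
  naturality := by intro U V f; ext x; rfl

theorem πQ_eq_iff (er : EquivalenceRelation p₁ p₂) (U : Cᵒᵖ) (x y : X.obj U) :
    (πQ p₁ p₂).app U x = (πQ p₁ p₂).app U y ↔ relU p₁ p₂ U x y := by
  constructor
  · intro h
    have h' : Quot.mk (relU p₁ p₂ U) x = Quot.mk (relU p₁ p₂ U) y := h
    exact (relU_equiv p₁ p₂ er U).eqvGen_iff.mp (Quot.eqvGen_exact h')
  · intro h
    exact Quot.sound h

end PS

/-- The case of the chaotic topology, i.e. for presheaves of sets on an arbitrary category: every
equivalence relation is universally effective (its quotient exists, the relation is the kernel pair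
of the quotient map, and that map is a universal effective epimorphism). -/
theorem result (C : Type u₁) [Category.{v₁} C]
    {R X : Cᵒᵖ ⥤ Type w} (p₁ p₂ : R ⟶ X) [IsEquivalenceRelation p₁ p₂] :
    IsUniversallyEffectiveEquivalenceRelation p₁ p₂ := by
  obtain ⟨er⟩ := (inferInstance : IsEquivalenceRelation p₁ p₂).nonempty_equivalenceRelation
  have : JointlyMono₂ p₁ p₂ := er.toJointlyMono₂
  have hw : p₁ ≫ πQ p₁ p₂ = p₂ ≫ πQ p₁ p₂ := by
    ext U r
    exact Quot.sound ⟨r, rfl, rfl⟩
  have hk : IsKernelPair (πQ p₁ p₂) p₁ p₂ := by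
    apply IsPullback.of_forall_isPullback_app
    intro U
    rw [Types.isPullback_iff]
    refine ⟨?_, ?_, ?_⟩
    · exact congrArg (fun t => t.app U) hw
    · rintro r r' ⟨h1, h2⟩
      exact joint_inj p₁ p₂ U r r' h1 h2
    · intro x y hxy
      exact (πQ_eq_iff p₁ p₂ er U x y).mp hxy
  have hp : IsPushout p₁ p₂ (πQ p₁ p₂) (πQ p₁ p₂) := by
    apply IsPushout.of_forall_isPushout_app
    intro U
    have hwU : p₁.app U ≫ (πQ p₁ p₂).app U = p₂.app U ≫ (πQ p₁ p₂).app U :=
      congrArg (fun t => t.app U) hw
    have hinl : ∀ s : PushoutCocone (p₁.app U) (p₂.app U), s.inl = s.inr := by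
      intro s
      ext x
      have h1 := congrArg (fun t => t.app U x) er.reflexivity₁
      have h2 := congrArg (fun t => t.app U x) er.reflexivity₂
      simp only [NatTrans.comp_app, types_comp_apply, NatTrans.id_app, types_id_apply] at h1 h2
      have := congrArg (fun t => t (er.r.app U x)) s.condition
      simp only [types_comp_apply, h1, h2] at this
      exact this
    have hresp : ∀ (s : PushoutCocone (p₁.app U) (p₂.app U)) (x y : X.obj U),
        relU p₁ p₂ U x y → s.inl x = s.inl y := by
      rintro s x y ⟨r, rfl, rfl⟩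
      have := congrArg (fun t => t r) s.condition
      simp only [types_comp_apply] at this
      rw [this, hinl s]
    refine IsPushout.mk ⟨hwU⟩ ⟨PushoutCocone.IsColimit.mk _
      (fun s => ↾(Quot.lift (fun x => s.inl x) (hresp s))) ?_ ?_ ?_⟩
    · intro s
      ext x
      rfl
    · intro s
      ext x
      exact congrArg (fun t => t x) (hinl s)
    · intro s m h1 h2
      ext q
      induction q using Quot.ind with
      | mk x =>
        have := congrArg (fun t => t x) h1
        exact this
  let ee : EffectiveEquivalenceRelation p₁ p₂ :=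
    { er with
      B := QObj p₁ p₂
      π := πQ p₁ p₂
      isKernelPair := hk
      isPushout := hp }
  refine ⟨⟨⟨ee, ?_⟩⟩⟩
  intro X' Y' i₁ i₂ f' H
  have hsurj : ∀ U, Epi (f'.app U) := by
    intro U
    rw [epi_iff_surjective]
    intro y
    obtain ⟨x, hx⟩ := Quot.exists_rep (i₂.app U y)
    have hU := H.app U
    obtain ⟨x', hx1, hx2⟩ := Types.exists_of_isPullback hU y x hx.symm
    exact ⟨x', hx1⟩
  have : Epi f' := NatTrans.epi_of_epi_app f'
  have := IsRegularEpiCategory.regularEpiOfEpi f'
  infer_instance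

end Groth.Agent.S5216
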