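import Groth.Statements.S5217
import Mathlib
import Groth.Agent.Lib.SheafEpi_helper8
import Groth.Agent.S5216

set_option autoImplicit false
open CategoryTheory CategoryTheory.Limits
universe w v₁ u₁
open ShfCat

namespace Groth.Agent.S5217


section PS
variable {C : Type u₁} [Category.{v₁} C] (J : GrothendieckTopology C) [HasSheafify J (Type w)]

theorem jm_presheaf {R X : Sheaf J (Type w)} (p₁ p₂ : R ⟶ X) [JointlyMono₂ p₁ p₂] :
    JointlyMono₂ p₁.hom p₂.hom := by
  constructor
  intro T a b h1 h2
  have key : ((sheafificationAdjunction J (Type w)).homEquiv T R).symm a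
      = ((sheafificationAdjunction J (Type w)).homEquiv T R).symm b := by
    apply JointlyMono₂.right_cancellation (p₁ := p₁) (p₂ := p₂)
    · rw [← Adjunction.homEquiv_naturality_right_symm, ← Adjunction.homEquiv_naturality_right_symm]
      exact congrArg _ h1
    · rw [← Adjunction.homEquiv_naturality_right_symm, ← Adjunction.homEquiv_naturality_right_symm]
      exact congrArg _ h2
  exact ((sheafificationAdjunction J (Type w)).homEquiv T R).symm.injective key

end PS

/-- In the category of sheaves of sets on a site, every equivalence relation is universally effective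
(its quotient sheaf exists, the relation is the kernel pair of the quotient map, and that map is a
universal effective epimorphism). Stated for sheaves valued in `Type w` whenever sheafification
exists. -/
theorem result {C : Type u₁} [Category.{v₁} C]
    (J : GrothendieckTopology C) [HasSheafify J (Type w)]
    {R X : Sheaf J (Type w)} (p₁ p₂ : R ⟶ X) [IsEquivalenceRelation p₁ p₂] :
    IsUniversallyEffectiveEquivalenceRelation p₁ p₂ := by
  obtain ⟨er⟩ := (inferInstance : IsEquivalenceRelation p₁ p₂).nonempty_equivalenceRelation
  have hjm : JointlyMono₂ p₁ p₂ := er.toJointlyMono₂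
  have hjm' : JointlyMono₂ ((sheafToPresheaf J (Type w)).map p₁)
      ((sheafToPresheaf J (Type w)).map p₂) := jm_presheaf J p₁ p₂
  let er' : EquivalenceRelation ((sheafToPresheaf J (Type w)).map p₁)
      ((sheafToPresheaf J (Type w)).map p₂) :=
    { er.toReflexiveRelation.map (sheafToPresheaf J (Type w)),
      er.toSymmetricRelation.map (sheafToPresheaf J (Type w)),
      er.toTransitiveRelation.map (sheafToPresheaf J (Type w)) with }
  have hie : IsEquivalenceRelation p₁.hom p₂.hom := er'.isEquivalenceRelation
  obtain ⟨e₀⟩ :=
    (Groth.Agent.S5216.result C p₁.hom p₂.hom).nonempty_universallyEffectiveEquivalenceRelation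
  have nat1 : (presheafToSheaf J (Type w)).map p₁.hom ≫
      (sheafificationAdjunction J (Type w)).counit.app X
      = (sheafificationAdjunction J (Type w)).counit.app R ≫ p₁ :=
    (sheafificationAdjunction J (Type w)).counit.naturality p₁
  have nat2 : (presheafToSheaf J (Type w)).map p₂.hom ≫
      (sheafificationAdjunction J (Type w)).counit.app X
      = (sheafificationAdjunction J (Type w)).counit.app R ≫ p₂ :=
    (sheafificationAdjunction J (Type w)).counit.naturality p₂
  have hk : IsKernelPair (inv ((sheafificationAdjunction J (Type w)).counit.app X) ≫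
      (presheafToSheaf J (Type w)).map e₀.π) p₁ p₂ := by
    have h0 : IsPullback ((presheafToSheaf J (Type w)).map p₁.hom)
        ((presheafToSheaf J (Type w)).map p₂.hom)
        ((presheafToSheaf J (Type w)).map e₀.π) ((presheafToSheaf J (Type w)).map e₀.π) :=
      e₀.isKernelPair.map (presheafToSheaf J (Type w))
    exact h0.of_iso (asIso ((sheafificationAdjunction J (Type w)).counit.app R))
      (asIso ((sheafificationAdjunction J (Type w)).counit.app X))
      (asIso ((sheafificationAdjunction J (Type w)).counit.app X)) (Iso.refl _)
      nat1 nat2 (by simp) (by simp)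
  have hp : IsPushout p₁ p₂ (inv ((sheafificationAdjunction J (Type w)).counit.app X) ≫
      (presheafToSheaf J (Type w)).map e₀.π) (inv ((sheafificationAdjunction J (Type w)).counit.app X) ≫
      (presheafToSheaf J (Type w)).map e₀.π) := by
    have h0 : IsPushout ((presheafToSheaf J (Type w)).map p₁.hom)
        ((presheafToSheaf J (Type w)).map p₂.hom)
        ((presheafToSheaf J (Type w)).map e₀.π) ((presheafToSheaf J (Type w)).map e₀.π) :=
      e₀.isPushout.map (presheafToSheaf J (Type w))
    exact h0.of_iso (asIso ((sheafificationAdjunction J (Type w)).counit.app R))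
      (asIso ((sheafificationAdjunction J (Type w)).counit.app X))
      (asIso ((sheafificationAdjunction J (Type w)).counit.app X)) (Iso.refl _)
      nat1 nat2 (by simp) (by simp)
  let ee : EffectiveEquivalenceRelation p₁ p₂ :=
    { er with
      B := (presheafToSheaf J (Type w)).obj e₀.B
      π := inv ((sheafificationAdjunction J (Type w)).counit.app X) ≫
        (presheafToSheaf J (Type w)).map e₀.π
      isKernelPair := hk
      isPushout := hp }
  have hre : IsRegularEpi ee.π := inferInstance
  have hepi : Epi ee.π := inferInstance
  exact ⟨⟨⟨ee, Groth.Agent.Lib.SheafEpiH8.epi_uee J ee.π⟩⟩⟩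

end Groth.Agent.S5217
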