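import Groth.Statements.S7490
import Mathlib

set_option autoImplicit false
open CategoryTheory CategoryTheory.Limits AlgebraicGeometry
universe u
open QuotSh

open CategoryTheory.Limits
namespace Groth.Agent.S7490

/-- Let K be a precoverage on schemes (the topology τ), S a scheme, s, t : R -> U morphisms of schemes
over S (a pre-relation) and q : U -> M a morphism over S such that (1) q coequalizes s and t, (2)
the induced map of τ-sheaves h_U -> h_M is an epimorphism, and (3) the map h_R -> h_(U x_M U)
induced by (t, s) is an epimorphism of τ-sheaves. Then M, through q, represents the quotient sheaf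
U/R: the canonical map from the coequalizer of h_s, h_t to h_M is an isomorphism. (The published
statement takes τ to be the Zariski, étale, fppf, smooth or syntomic topology; this row allows the
topology generated by any precoverage K.) -/
theorem result (K : Precoverage Scheme.{u}) {S : Scheme.{u}} {R U M : Over S} (s t : R ⟶ U) (q : U ⟶ M) (w : s ≫ q = t ≫ q) (w' : t.left ≫ q.left = s.left ≫ q.left) (h₂ : Epi (QuotSh.repMap K q)) (h₃ : Epi (QuotSh.repMap K (Over.homMk (pullback.lift t.left s.left w') (((Category.assoc _ _ _).symm.trans (congrArg (fun k => k ≫ U.hom) (pullback.lift_fst t.left s.left w'))).trans (Over.w t)) : R ⟶ Over.mk (pullback.fst q.left q.left ≫ U.hom)))) : QuotSh.IsQuotient K s t q := by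
  classical
  -- the functor `V ↦ h_V`
  let L : Over S ⥤ QuotSh.Sh K S :=
    yoneda ⋙ (Functor.whiskeringRight _ _ _).obj uliftFunctor.{u + 1, u} ⋙
      presheafToSheaf (QuotSh.J K S) (Type (u + 1))
  have hLmap : ∀ {V W : Over S} (g : V ⟶ W), L.map g = QuotSh.repMap K g := fun g => rfl
  haveI : PreservesFiniteLimits L := by
    dsimp only [L]
    infer_instance
  -- the fibre product `U ×_M U` over `S`
  let P : Over S := Over.mk (pullback.fst q.left q.left ≫ U.hom)
  have hUM : U.hom = q.left ≫ M.hom := (Over.w q).symm
  let p1 : P ⟶ U := Over.homMk (pullback.fst q.left q.left) rfl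
  let p2 : P ⟶ U := Over.homMk (pullback.snd q.left q.left) (by
    show pullback.snd q.left q.left ≫ U.hom = pullback.fst q.left q.left ≫ U.hom
    rw [hUM, ← Category.assoc, ← Category.assoc, pullback.condition])
  have hP : IsPullback p1 p2 q q := by
    have e : p1 ≫ q = p2 ≫ q := by
      ext
      exact pullback.condition
    refine IsPullback.of_map (Over.forget S) e ?_
    exact IsPullback.of_hasPullback q.left q.left
  have hk : IsKernelPair (QuotSh.repMap K q) (QuotSh.repMap K p1) (QuotSh.repMap K p2) := by
    have := hP.map L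
    simpa only [hLmap] using this
  haveI : IsRegularEpi (QuotSh.repMap K q) := IsRegularEpiCategory.regularEpiOfEpi _
  have hcol := hk.toCoequalizer'
  -- the map `R ⟶ U ×_M U`
  let r : R ⟶ P := Over.homMk (pullback.lift t.left s.left w')
    (((Category.assoc _ _ _).symm.trans (congrArg (fun k => k ≫ U.hom)
      (pullback.lift_fst t.left s.left w'))).trans (Over.w t))
  haveI : Epi (QuotSh.repMap K r) := h₃
  have hr1 : r ≫ p1 = t := by
    ext
    exact pullback.lift_fst _ _ _
  have hr2 : r ≫ p2 = s := by
    ext
    exact pullback.lift_snd _ _ _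
  have ht : QuotSh.repMap K r ≫ QuotSh.repMap K p1 = QuotSh.repMap K t := by
    rw [← hLmap r, ← hLmap p1, ← L.map_comp, hr1, hLmap]
  have hs : QuotSh.repMap K r ≫ QuotSh.repMap K p2 = QuotSh.repMap K s := by
    rw [← hLmap r, ← hLmap p2, ← L.map_comp, hr2, hLmap]
  have hcol2 := isCoequalizerEpiComp hcol (QuotSh.repMap K r)
  refine ⟨w, ?_⟩
  -- `rep M` is a coequalizer of `repMap t, repMap s`, hence of `repMap s, repMap t`
  have hcond : QuotSh.repMap K s ≫ QuotSh.repMap K q = QuotSh.repMap K t ≫ QuotSh.repMap K q := by
    rw [← hLmap, ← hLmap, ← hLmap, ← L.map_comp, ← L.map_comp, w]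
  have hcol3 : IsColimit (Cofork.ofπ (QuotSh.repMap K q) hcond) := by
    refine Cofork.IsColimit.mk _ (fun c => Cofork.IsColimit.desc hcol2 c.π ?_) ?_ ?_
    · rw [ht, hs]; exact c.condition.symm
    · intro c
      exact Cofork.IsColimit.π_desc' hcol2 _ _
    · intro c m hm
      refine Cofork.IsColimit.hom_ext hcol2 ?_
      exact hm.trans (Cofork.IsColimit.π_desc' hcol2 _ _).symm
  have : QuotSh.quotDesc K q w =
      ((colimit.isColimit _).coconePointUniqueUpToIso hcol3).hom := by
    apply coequalizer.hom_ext
    rfl
  rw [this]
  infer_instance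

end Groth.Agent.S7490
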