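import Groth.Statements.S9870
import Groth.Agent.Lib.AlgSpQuotOpen_helper7

set_option autoImplicit false
universe u
open CategoryTheory CategoryTheory.Limits AlgebraicGeometry
open AlgSp

namespace Groth.Agent.S9870

/-- Let `s, t : R ⟶ U` be a pre-relation on a scheme `U` over `S` which is an equivalence relation (on
`T`-points, for every scheme `T` over `S`), with `s` and `t` surjective, flat and locally of finite
presentation, and let `g : U' ⟶ U` be flat and locally of finite presentation. Let `s', t' : R' ⟶
U'` be the restriction of the pre-relation to `U'`, i.e. `R'` with `(t', s')` and `R' ⟶ R` is the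
fibre product of `U' ×_S U'` and `R` over `U ×_S U`. Then the map of fppf quotient sheaves `U'/R' ⟶
U/R` induced by `g` (the unique map under the quotient maps compatible with `h_g`) is representable
and an open immersion. -/
theorem result (S : Scheme.{u}) {R U R' U' : Over S} (s t : R ⟶ U)
    (g : U' ⟶ U) (s' t' : R' ⟶ U') (r : R' ⟶ R)
    (hsq : IsPullback (prod.lift t' s') r (prod.map g g) (prod.lift t s))
    (hR : AlgSp.IsEqvRel s t)
    [Surjective s.left] [Flat s.left] [LocallyOfFinitePresentation s.left]
    [Surjective t.left] [Flat t.left] [LocallyOfFinitePresentation t.left]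
    [Flat g.left] [LocallyOfFinitePresentation g.left]
    (φ : QuotSh.quot Scheme.fppfPrecoverage s' t' ⟶ QuotSh.quot Scheme.fppfPrecoverage s t)
    (hφ : QuotSh.quotπ Scheme.fppfPrecoverage s' t' ≫ φ = QuotSh.repMap Scheme.fppfPrecoverage g ≫ QuotSh.quotπ Scheme.fppfPrecoverage s t) :
    AlgSp.RepWith @IsOpenImmersion φ := by
  open Groth.Agent.Lib.AlgSpQuotEffH7 Groth.Agent.Lib.AlgSpQuotOpenH7 AlgSp in
  have hφ' : quotP s' t' ≫ φ = (yon S).map g ≫ quotP s t := by
    unfold quotP
    rw [Category.assoc, hφ, ← Category.assoc, ← yon_map_comp_repIso_inv, Category.assoc]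
  have pbq := isPullback_quot s t hR
  have hrel : ∀ (T : Over S) (a b : T ⟶ U),
      (yon S).map a ≫ quotP s t = (yon S).map b ≫ quotP s t →
      ∃ r : T ⟶ R, r ≫ t = a ∧ r ≫ s = b := by
    intro T a b hab
    refine ⟨(yon S).preimage (pbq.lift _ _ hab), ?_, ?_⟩
    · apply (yon S).map_injective
      rw [Functor.map_comp, Functor.map_preimage, pbq.lift_fst]
    · apply (yon S).map_injective
      rw [Functor.map_comp, Functor.map_preimage, pbq.lift_snd]
  haveI : Mono φ := by
    refine mono_of_local φ (quotP s' t') (isLocallySurjective_quotP s' t') ?_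
    intro Y u₁ u₂ h12
    rw [hφ', ← Functor.map_comp_assoc, ← Functor.map_comp_assoc] at h12
    obtain ⟨r, hr1, hr2⟩ := hrel Y _ _ h12
    have hw : prod.lift u₁ u₂ ≫ prod.map g g = r ≫ prod.lift t s := by
      rw [prod.lift_map, prod.comp_lift, hr1, hr2]
    obtain ⟨r', h1⟩ : ∃ r' : Y ⟶ R', r' ≫ prod.lift t' s' = prod.lift u₁ u₂ :=
      ⟨hsq.lift _ _ hw, hsq.lift_fst _ _ _⟩
    have h1a : r' ≫ t' = u₁ := by
      have h2 : (r' ≫ prod.lift t' s') ≫ prod.fst = prod.lift u₁ u₂ ≫ prod.fst := by rw [h1]
      rw [Category.assoc, prod.lift_fst, prod.lift_fst] at h2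
      exact h2
    have h1b : r' ≫ s' = u₂ := by
      have h2 : (r' ≫ prod.lift t' s') ≫ prod.snd = prod.lift u₁ u₂ ≫ prod.snd := by rw [h1]
      rw [Category.assoc, prod.lift_snd, prod.lift_snd] at h2
      exact h2
    rw [← h1a, ← h1b, Functor.map_comp, Functor.map_comp, Category.assoc, Category.assoc,
      quotP_condition]
  have sqP := (IsPullback.of_hasPullback t g).map (Over.forget S)
  haveI hfl1 : Flat (pullback.fst t g).left :=
    MorphismProperty.of_isPullback (P := @Flat) sqP.flip (inferInstanceAs (Flat g.left))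
  haveI hfp1 : LocallyOfFinitePresentation (pullback.fst t g).left :=
    MorphismProperty.of_isPullback (P := @LocallyOfFinitePresentation) sqP.flip
      (inferInstanceAs (LocallyOfFinitePresentation g.left))
  haveI : Flat (pullback.fst t g ≫ s).left :=
    inferInstanceAs (Flat ((pullback.fst t g).left ≫ s.left))
  haveI : LocallyOfFinitePresentation (pullback.fst t g ≫ s).left :=
    inferInstanceAs (LocallyOfFinitePresentation ((pullback.fst t g).left ≫ s.left))
  refine repWith_isOpenImmersion_of_local φ (quotP s' t') (isLocallySurjective_quotP s' t')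
    (quotP s t) (isLocallySurjective_quotP s t) (pullback.fst t g ≫ s) (pullback.snd t g) ?_ ?_
  · rw [hφ', Functor.map_comp, Category.assoc, quotP_condition, ← Functor.map_comp_assoc,
      pullback.condition, Functor.map_comp, Category.assoc]
  · intro T b d hbd
    rw [hφ', ← Functor.map_comp_assoc] at hbd
    obtain ⟨r, hr1, hr2⟩ := hrel T _ _ hbd.symm
    exact ⟨pullback.lift r d hr1, by rw [← Category.assoc, pullback.lift_fst, hr2]⟩

end Groth.Agent.S9870
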