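import Groth.Statements.S17595
import Groth.Agent.Lib.ZeroLocusNbhd_lead
import Groth.Agent.Lib.QuasiFiniteLocus_lead

set_option autoImplicit false
universe u
open Hensel

namespace Groth.Agent.S17595

/-- Suppose (A, I) is a Henselian pair, and R is an A-algebra of finite presentation for which A → R is
quasi-finite at each prime of R that contains IR. Then there is an étale R-algebra R' such that R/IR
→ R'/IR' is bijective and A → R' is quasi-finite. -/
theorem result (A : Type u) [CommRing A] (I : Ideal A) [HenselianRing A I]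
    (R : Type u) [CommRing R] [Algebra A R] [Algebra.FinitePresentation A R]
    (h : ∀ (p : Ideal R) [p.IsPrime], I.map (algebraMap A R) ≤ p → Algebra.QuasiFiniteAt A p)
    : ∃ (R' : Type u) (_ : CommRing R') (_ : Algebra R R') (_ : Algebra A R') (_ : IsScalarTower A R R'),
      Algebra.Etale R R' ∧
      Function.Bijective (Ideal.quotientMap ((I.map (algebraMap A R)).map (algebraMap R R'))
        (algebraMap R R') Ideal.le_comap_map) ∧ Algebra.QuasiFinite A R' := by
  classical
  have hUopen : IsOpen {q : PrimeSpectrum R | ∃ r : R, r ∉ q.asIdeal ∧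
      Algebra.QuasiFinite A (Localization.Away r)} := by
    rw [isOpen_iff_forall_mem_open]
    rintro q ⟨r, hr, hQ⟩
    exact ⟨↑(PrimeSpectrum.basicOpen r),
      fun q' hq' => ⟨r, (PrimeSpectrum.mem_basicOpen _ _).1 hq', hQ⟩,
      (PrimeSpectrum.basicOpen r).isOpen, (PrimeSpectrum.mem_basicOpen _ _).2 hr⟩
  have hU : PrimeSpectrum.zeroLocus ((I.map (algebraMap A R) : Ideal R) : Set R)
      ⊆ {q : PrimeSpectrum R | ∃ r : R, r ∉ q.asIdeal ∧
        Algebra.QuasiFinite A (Localization.Away r)} := by
    intro p hp
    have hle : I.map (algebraMap A R) ≤ p.asIdeal := (PrimeSpectrum.mem_zeroLocus _ _).1 hp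
    haveI : Algebra.QuasiFiniteAt A p.asIdeal := h p.asIdeal hle
    exact Groth.Agent.Lib.QuasiFiniteLocus.exists_away_quasiFinite (R := A) p.asIdeal
  obtain ⟨i, hi, hD⟩ := Groth.Agent.Lib.ZeroLocusNbhd.exists_basicOpen_subset
    (I.map (algebraMap A R)) _ hUopen hU
  haveI hfpR' : Algebra.FinitePresentation R (Localization.Away (1 - i)) :=
    IsLocalization.Away.finitePresentation (1 - i)
  haveI hfpA : Algebra.FinitePresentation A (Localization.Away (1 - i)) :=
    Algebra.FinitePresentation.trans A R (Localization.Away (1 - i))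
  have hQF : Algebra.QuasiFinite A (Localization.Away (1 - i)) := by
    apply Groth.Agent.Lib.QuasiFiniteLocus.quasiFinite_of_forall
    intro q'
    have hmem : PrimeSpectrum.comap (algebraMap R (Localization.Away (1 - i))) q'
        ∈ (↑(PrimeSpectrum.basicOpen (1 - i)) : Set (PrimeSpectrum R)) := by
      rw [SetLike.mem_coe, PrimeSpectrum.mem_basicOpen]
      intro hmem
      have hmem' : algebraMap R (Localization.Away (1 - i)) (1 - i) ∈ q'.asIdeal := hmem
      have hu : IsUnit (algebraMap R (Localization.Away (1 - i)) (1 - i)) :=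
        IsLocalization.Away.algebraMap_isUnit (1 - i)
      exact q'.isPrime.ne_top (Ideal.eq_top_of_isUnit_mem _ hmem' hu)
    obtain ⟨r, hr, hQ⟩ := hD hmem
    haveI := hQ
    haveI hq : Algebra.QuasiFiniteAt A
        (PrimeSpectrum.comap (algebraMap R (Localization.Away (1 - i))) q').asIdeal :=
      Groth.Agent.Lib.QuasiFiniteLocus.quasiFiniteAt_of_away (R := A) r _ hr
    haveI : q'.asIdeal.LiesOver
        (PrimeSpectrum.comap (algebraMap R (Localization.Away (1 - i))) q').asIdeal := ⟨rfl⟩
    exact Algebra.QuasiFiniteAt.of_surjectiveOnStalks_of_liesOver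
      (PrimeSpectrum.comap (algebraMap R (Localization.Away (1 - i))) q').asIdeal
      (RingHom.surjectiveOnStalks_of_isLocalization (Submonoid.powers (1 - i)) _) q'.asIdeal
  exact ⟨Localization.Away (1 - i), inferInstance, inferInstance, inferInstance, inferInstance,
    Algebra.Etale.of_isLocalizationAway (1 - i),
    Groth.Agent.Lib.ZeroLocusNbhd.away_one_sub_bijective (I.map (algebraMap A R)) i hi, hQF⟩

end Groth.Agent.S17595
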