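import Groth.Statements.S17596
import Groth.Agent.S17595
import Groth.Agent.Lib.HensUnique_lead
import Groth.Agent.Lib.HfpCore_lead
import Groth.Agent.Lib.FinitePart_lead
import Groth.Agent.Lib.PairHensQuot_lead
import Groth.Agent.Lib.GabberIdem_lead

set_option autoImplicit false
universe u
open Hensel

namespace Groth.Agent.S17596

/-- Let (A, I) be a Henselian pair and let B be a Henselization of the pair (R, IR) for a finitely
presented A-algebra R (that is, A → B is a Henselian finitely presented map of Henselian pairs). If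
the induced map A/I → B/IB is module-finite, then B is module-finite and finitely presented over A. -/
theorem result (A : Type u) [CommRing A] (I : Ideal A)
    [HenselianRing A I] (R : Type u) [CommRing R] [Algebra A R] [Algebra.FinitePresentation A R]
    (B : Type u) [CommRing B] [Algebra R B] [Algebra A B] [IsScalarTower A R B]
    (hB : Hens2.IsPairHenselization R (I.map (algebraMap A R)) B)
    (hfin : (Ideal.quotientMap (I.map (algebraMap A B)) (algebraMap A B) Ideal.le_comap_map).Finite) :
    Module.Finite A B ∧ Algebra.FinitePresentation A B := by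
  classical
  have hI : HenselianRing A I := inferInstance
  -- (1) `B/IB` is a finite `A`-module
  have h1 : Module.Finite A (B ⧸ I.map (algebraMap A B)) := by
    have hmk : (Ideal.Quotient.mk I).Finite :=
      RingHom.Finite.of_surjective _ Ideal.Quotient.mk_surjective
    have hcomp := hfin.comp hmk
    have heq : (Ideal.quotientMap (I.map (algebraMap A B)) (algebraMap A B)
        Ideal.le_comap_map).comp (Ideal.Quotient.mk I)
        = algebraMap A (B ⧸ I.map (algebraMap A B)) := by
      ext a
      show Ideal.quotientMap (I.map (algebraMap A B)) (algebraMap A B) Ideal.le_comap_map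
        (Ideal.Quotient.mk I a) = _
      rw [Ideal.quotientMap_mk]
      rfl
    rw [heq] at hcomp
    exact RingHom.finite_algebraMap.1 hcomp
  -- (2) transfer to `R/IR`
  have hbijRB : Function.Bijective (Ideal.quotientMap
      ((I.map (algebraMap A R)).map (algebraMap R B)) (algebraMap R B) Ideal.le_comap_map) :=
    Groth.Agent.Lib.PairHensQuot.quotientMap_bijective B (I.map (algebraMap A R)) hB.1 hB.2
  have h2 : Module.Finite A (R ⧸ I.map (algebraMap A R)) :=
    (Groth.Agent.Lib.HensUnique.finite_quotient_iff I R B hbijRB).2 h1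
  -- (3) quasi-finite at the primes of `V(IR)`
  have h3 : ∀ (q : Ideal R) [q.IsPrime], I.map (algebraMap A R) ≤ q →
      Algebra.QuasiFiniteAt A q := by
    intro q _ hq
    have hle : I.map (algebraMap A R) ≤ (q.under A).map (algebraMap A R) := by
      apply Ideal.map_mono
      intro a ha
      exact Ideal.mem_comap.2 (hq (Ideal.mem_map_of_mem _ ha))
    haveI : Module.Finite A (R ⧸ (q.under A).map (algebraMap A R)) :=
      Module.Finite.of_surjective (Ideal.Quotient.factorₐ A hle).toLinearMap
        (Ideal.Quotient.factor_surjective hle)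
    haveI : Algebra.WeaklyQuasiFiniteAt A q := by
      show Algebra.QuasiFiniteAt A
        (q.map (Ideal.Quotient.mk ((q.under A).map (algebraMap A R))))
      infer_instance
    exact Algebra.QuasiFiniteAt.of_weaklyQuasiFiniteAt q
  -- (4) the quasi-finite étale neighbourhood
  obtain ⟨R', _, _, _, _, hEt, hbij', hQF⟩ := Groth.Agent.S17595.result A I R h3
  haveI : Algebra.Etale R R' := hEt
  haveI : Algebra.QuasiFinite A R' := hQF
  haveI : Algebra.FinitePresentation A R' := Algebra.FinitePresentation.trans A R R'
  -- (5) `B` is the henselization of `R'`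
  obtain ⟨hU⟩ := Groth.Agent.Lib.EtaleNbhd.unique_algHom hB R' hbij'
  obtain ⟨φ, -⟩ : ∃ φ : R' →ₐ[R] B, True := ⟨hU.default, trivial⟩
  letI algR'B : Algebra R' B := φ.toRingHom.toAlgebra
  haveI towRR'B : IsScalarTower R R' B := by
    refine IsScalarTower.of_algebraMap_eq (R := R) (S := R') (A := B) (fun r => ?_)
    exact (φ.commutes r).symm
  obtain ⟨hS', -⟩ := (Groth.Agent.Lib.EtaleNbhd.bijective_iff (I.map (algebraMap A R)) R').1 hbij'
  have hB' : Hens2.IsPairHenselization R' ((I.map (algebraMap A R)).map (algebraMap R R')) B :=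
    Groth.Agent.Lib.HfpCore.recenter hB R' hS'
  -- (6) the finite part of `R'`
  have hfin' : Module.Finite A (R' ⧸ I.map (algebraMap A R')) :=
    (Groth.Agent.Lib.HensUnique.finite_quotient_iff I R R' hbij').1 h2
  obtain ⟨e, he, h1e, hFfin⟩ := Groth.Agent.Lib.FinitePart.exists_finite_part hI R' hfin'
  haveI : Module.Finite A (R' ⧸ Ideal.span {1 - e}) := hFfin
  -- (7) `F = R'/(1-e)` is henselian along `I`
  have hJ' : (I.map (algebraMap A R)).map (algebraMap R R') = I.map (algebraMap A R') := by
    rw [Ideal.map_map, ← IsScalarTower.algebraMap_eq]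
  have hJF : (I.map (algebraMap A R')).map (algebraMap R' (R' ⧸ Ideal.span {1 - e}))
      = I.map (algebraMap A (R' ⧸ Ideal.span {1 - e})) := by
    rw [Ideal.map_map, ← IsScalarTower.algebraMap_eq]
  haveI : Algebra.IsIntegral A (R' ⧸ Ideal.span {1 - e}) := Algebra.IsIntegral.of_finite A _
  have hFh : HenselianRing (R' ⧸ Ideal.span {1 - e})
      (I.map (algebraMap A (R' ⧸ Ideal.span {1 - e}))) :=
    Groth.Agent.Lib.GabberIdem.henselian_of_integral hI (R' ⧸ Ideal.span {1 - e})
  have hF' : Hens2.IsPairHenselization R' ((I.map (algebraMap A R)).map (algebraMap R R'))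
      (R' ⧸ Ideal.span {1 - e}) := by
    apply Groth.Agent.Lib.HensUnique.quotient_idem_hens _ e he
    · rw [hJ']; exact h1e
    · rw [hJ', hJF]; exact hFh
  -- (8) compare
  obtain ⟨eqv, heqv⟩ := Groth.Agent.Lib.HensUnique.hens_unique hB' hF'
  have hcomm : ∀ a : A, eqv (algebraMap A B a) = algebraMap A (R' ⧸ Ideal.span {1 - e}) a := by
    intro a
    have e1 : algebraMap A B a = algebraMap R' B (algebraMap A R' a) := by
      rw [IsScalarTower.algebraMap_apply A R B, IsScalarTower.algebraMap_apply R R' B,
        ← IsScalarTower.algebraMap_apply A R R']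
    rw [e1, heqv]
    exact (IsScalarTower.algebraMap_apply A R' (R' ⧸ Ideal.span {1 - e}) a).symm
  obtain ⟨eA, -⟩ : ∃ eA : B ≃ₐ[A] (R' ⧸ Ideal.span {1 - e}), True :=
    ⟨AlgEquiv.ofRingEquiv (f := eqv) hcomm, trivial⟩
  haveI : Algebra.FinitePresentation A (R' ⧸ Ideal.span {1 - e}) :=
    Algebra.FinitePresentation.quotient ⟨{1 - e}, by simp⟩
  exact ⟨Module.Finite.equiv eA.symm.toLinearEquiv, Algebra.FinitePresentation.equiv eA.symm⟩

end Groth.Agent.S17596
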