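import Groth.Statements.S17609
import Groth.Agent.Lib.HfpCore_lead

set_option autoImplicit false
universe u
open Hensel

namespace Groth.Agent.S17609

/-- Let (A, I) be a Henselian pair and let B, C be Henselizations of the pairs (R, IR), (S, IS) for
finitely presented A-algebras R and S, with their induced A-algebra structures (so A → B and A → C
are Henselian finitely presented). Then every A-algebra map B → C (encoded as a B-algebra structure
on C compatible with that of A) is Henselian finitely presented: there are a finitely presented
B-algebra T and a T-algebra structure on C compatible with that of B for which C is a Henselization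
of the pair (T, IBT). -/
theorem result (A : Type u) [CommRing A] (I : Ideal A) [HenselianRing A I]
    (R : Type u) [CommRing R] [Algebra A R] [Algebra.FinitePresentation A R]
    (B : Type u) [CommRing B] [Algebra R B] [Algebra A B] [IsScalarTower A R B]
    (hB : Hens2.IsPairHenselization R (I.map (algebraMap A R)) B)
    (S : Type u) [CommRing S] [Algebra A S] [Algebra.FinitePresentation A S]
    (C : Type u) [CommRing C] [Algebra S C] [Algebra A C] [IsScalarTower A S C]
    (hC : Hens2.IsPairHenselization S (I.map (algebraMap A S)) C)
    [Algebra B C] [IsScalarTower A B C] :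
    ∃ (T : Type u) (_ : CommRing T) (_ : Algebra B T) (_ : Algebra T C) (_ : IsScalarTower B T C),
      Algebra.FinitePresentation B T ∧
      Hens2.IsPairHenselization T ((I.map (algebraMap A B)).map (algebraMap B T)) C := by
  classical
  obtain ⟨S', _, _, _, _, _, hsurj, hhens, ρ, hρA, hρC⟩ :=
    Groth.Agent.Lib.HfpCore.fp_factor (A := A) hC R
      ((IsScalarTower.toAlgHom A B C).comp (IsScalarTower.toAlgHom A R B))
  have hρC' : ∀ r, algebraMap S' C (ρ r) = algebraMap B C (algebraMap R B r) := fun r => hρC r
  letI algAS' : Algebra A S' := ((algebraMap S S').comp (algebraMap A S)).toAlgebra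
  haveI twASS' : IsScalarTower A S S' := IsScalarTower.of_algebraMap_eq (fun _ => rfl)
  letI algRS' : Algebra R S' := ρ.toAlgebra
  haveI twARS' : IsScalarTower A R S' := IsScalarTower.of_algebraMap_eq (fun a => (hρA a).symm)
  haveI fpSS' : Algebra.FinitePresentation S S' := inferInstance
  haveI fpAS' : Algebra.FinitePresentation A S' := Algebra.FinitePresentation.trans A S S'
  haveI fpRS' : Algebra.FinitePresentation R S' :=
    Algebra.FinitePresentation.of_restrict_scalars_finitePresentation A R S'
  letI algRC : Algebra R C := ((algebraMap B C).comp (algebraMap R B)).toAlgebra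
  haveI twRBC : IsScalarTower R B C := IsScalarTower.of_algebraMap_eq (fun _ => rfl)
  haveI twRS'C : IsScalarTower R S' C :=
    IsScalarTower.of_algebraMap_eq (fun r => (hρC' r).symm)
  obtain ⟨θ, hθdef⟩ : ∃ θ : TensorProduct R B S' →ₐ[R] C, θ =
      Algebra.TensorProduct.productMap (IsScalarTower.toAlgHom R B C)
        (IsScalarTower.toAlgHom R S' C) := ⟨_, rfl⟩
  have hθ : ∀ (b : B) (s : S'), θ (b ⊗ₜ[R] s) = algebraMap B C b * algebraMap S' C s :=
    fun b s => by
    rw [hθdef, Algebra.TensorProduct.productMap_apply_tmul]; rfl
  letI algTC : Algebra (TensorProduct R B S') C := θ.toRingHom.toAlgebra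
  have halgTC : ∀ t, algebraMap (TensorProduct R B S') C t = θ t := fun _ => rfl
  have halgBT : ∀ b : B, algebraMap B (TensorProduct R B S') b = b ⊗ₜ[R] (1 : S') := fun _ => rfl
  haveI twBTC : IsScalarTower B (TensorProduct R B S') C :=
    IsScalarTower.of_algebraMap_eq (fun b => by
      rw [halgBT, halgTC, hθ, map_one, mul_one])
  haveI fpBT : Algebra.FinitePresentation B (TensorProduct R B S') := inferInstance
  have htmul : ∀ r : R, (1 : B) ⊗ₜ[R] (ρ r) = (algebraMap R B r) ⊗ₜ[R] (1 : S') := fun r => by
    have h1 : ρ r = r • (1 : S') := Algebra.algebraMap_eq_smul_one r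
    rw [h1, TensorProduct.tmul_smul, Algebra.algebraMap_eq_smul_one (A := B) r,
      ← TensorProduct.smul_tmul']
  refine ⟨TensorProduct R B S', inferInstance, inferInstance, algTC, twBTC, fpBT, ?_, ?_⟩
  · have e1 : (((I.map (algebraMap A B)).map (algebraMap B (TensorProduct R B S'))).map
        (algebraMap (TensorProduct R B S') C)) = I.map (algebraMap A C) := by
      rw [Ideal.map_map, Ideal.map_map]
      congr 1
      refine RingHom.ext (fun a => ?_)
      show algebraMap (TensorProduct R B S') C (algebraMap B (TensorProduct R B S')
        (algebraMap A B a)) = algebraMap A C a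
      rw [← IsScalarTower.algebraMap_apply B (TensorProduct R B S') C,
        ← IsScalarTower.algebraMap_apply A B C]
    have e2 : (I.map (algebraMap A S)).map (algebraMap S C) = I.map (algebraMap A C) := by
      rw [Ideal.map_map, ← IsScalarTower.algebraMap_eq]
    rw [e1, ← e2]
    exact hC.1
  · intro E _ K f hE hfK
    have key : ∀ a ∈ I, f (algebraMap B (TensorProduct R B S') (algebraMap A B a)) ∈ K :=
      fun a ha => hfK (Ideal.mem_map_of_mem _ (Ideal.mem_map_of_mem _
        (Ideal.mem_map_of_mem _ ha)))
    obtain ⟨fS', hfS'def⟩ : ∃ fS' : S' →+* E, fS' = f.comp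
        (Algebra.TensorProduct.includeRight : S' →ₐ[R] TensorProduct R B S').toRingHom :=
      ⟨_, rfl⟩
    have hfS' : ∀ s, fS' s = f ((1 : B) ⊗ₜ[R] s) := fun s => by rw [hfS'def]; rfl
    have hfS'K : ((I.map (algebraMap A S)).map (algebraMap S S')).map fS' ≤ K := by
      rw [Ideal.map_map, Ideal.map_map, Ideal.map_le_iff_le_comap]
      intro a ha
      show fS' (algebraMap S S' (algebraMap A S a)) ∈ K
      rw [hfS', ← hρA a, htmul, ← IsScalarTower.algebraMap_apply A R B]
      exact key a ha
    obtain ⟨h, hh, hhuniq⟩ := hhens.2 E K fS' hE hfS'K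
    have hh' : ∀ s, h (algebraMap S' C s) = fS' s := fun s => RingHom.congr_fun hh s
    have h0 : (I.map (algebraMap A R)).map
        ((f.comp (algebraMap B (TensorProduct R B S'))).comp (algebraMap R B)) ≤ K := by
      rw [Ideal.map_map, Ideal.map_le_iff_le_comap]
      intro a ha
      show f (algebraMap B (TensorProduct R B S') (algebraMap R B (algebraMap A R a))) ∈ K
      rw [← IsScalarTower.algebraMap_apply A R B]
      exact key a ha
    obtain ⟨g, hg, hguniq⟩ := hB.2 E K
      ((f.comp (algebraMap B (TensorProduct R B S'))).comp (algebraMap R B)) hE h0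
    have e1 : f.comp (algebraMap B (TensorProduct R B S')) = g := hguniq _ rfl
    have e2 : h.comp (algebraMap B C) = g := by
      apply hguniq
      show (h.comp (algebraMap B C)).comp (algebraMap R B) =
        (f.comp (algebraMap B (TensorProduct R B S'))).comp (algebraMap R B)
      refine RingHom.ext (fun r => ?_)
      show h (algebraMap B C (algebraMap R B r)) =
        f (algebraMap B (TensorProduct R B S') (algebraMap R B r))
      rw [← hρC' r, hh', hfS', htmul, halgBT]
    have e3 : ∀ b : B, h (algebraMap B C b) = f (b ⊗ₜ[R] (1 : S')) := fun b => by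
      have := RingHom.congr_fun (e2.trans e1.symm) b
      exact this
    have hcomp : h.comp (algebraMap (TensorProduct R B S') C) = f := by
      refine RingHom.ext (fun t => ?_)
      show h (algebraMap (TensorProduct R B S') C t) = f t
      induction t using TensorProduct.induction_on with
      | zero => rw [map_zero, map_zero, map_zero]
      | tmul b s =>
        rw [halgTC, hθ, map_mul, e3, hh', hfS', ← map_mul,
          Algebra.TensorProduct.tmul_mul_tmul, mul_one, one_mul]
      | add x y hx hy => rw [map_add, map_add, map_add, hx, hy]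
    refine ⟨h, hcomp, fun h' hh'' => ?_⟩
    apply hhuniq
    show h'.comp (algebraMap S' C) = fS'
    refine RingHom.ext (fun s => ?_)
    show h' (algebraMap S' C s) = fS' s
    have h3 : h'.comp (algebraMap (TensorProduct R B S') C) = f := hh''
    have h4 : algebraMap S' C s = algebraMap (TensorProduct R B S') C ((1 : B) ⊗ₜ[R] s) := by
      rw [halgTC, hθ, map_one, one_mul]
    rw [h4, hfS']
    exact RingHom.congr_fun h3 _

end Groth.Agent.S17609
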