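import Groth.Statements.S0380
import Mathlib
import Groth.Agent.Lib.LocCohFlatBC_helper7

set_option autoImplicit false
universe u v
open LocCoh

namespace Groth.Agent.S0380

/-- Local cohomology with support in I vanishes above degree d on all modules exactly when, for every
prime p, local cohomology over A_p with support in I A_p vanishes above degree d on all A_p-modules. -/
theorem result (R : Type u) [CommRing R] [IsNoetherianRing R] (I : Ideal R) (d : ℕ) : LocCoh.CdLE R I d ↔ ∀ (p : Ideal R) [p.IsPrime], LocCoh.CdLE (Localization.AtPrime p) (I.map (algebraMap R (Localization.AtPrime p))) d := by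
  constructor
  · intro h p _ N _ _ i hi
    letI : Module R N := Module.compHom N (algebraMap R (Localization.AtPrime p))
    haveI : IsScalarTower R (Localization.AtPrime p) N :=
      IsScalarTower.of_algebraMap_smul fun r x => rfl
    haveI : IsNoetherianRing (Localization.AtPrime p) :=
      IsLocalization.isNoetherianRing p.primeCompl _ inferInstance
    obtain ⟨φ, -⟩ := Groth.Agent.Lib.LocCohBaseIndepH7.main (Localization.AtPrime p) I i N
    haveI : Subsingleton (LocCoh.H I i N) := h N i hi
    exact φ.toEquiv.subsingleton
  · intro h M _ _ i hi
    apply Module.subsingleton_of_localization_maximal (R := R)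
      (fun P => LocalizedModule P.primeCompl (LocCoh.H I i M))
      (fun P => LocalizedModule.mkLinearMap P.primeCompl (LocCoh.H I i M))
    intro P hP
    haveI : P.IsPrime := hP.isPrime
    haveI : IsNoetherianRing (Localization P.primeCompl) :=
      IsLocalization.isNoetherianRing P.primeCompl _ inferInstance
    haveI : Module.Flat R (Localization P.primeCompl) := IsLocalization.flat _ P.primeCompl
    obtain ⟨e⟩ := Groth.Agent.Lib.LocCohFlatBCH7.main (Localization P.primeCompl) I i M
    let e1 := LocalizedModule.equivTensorProduct P.primeCompl (LocCoh.H I i M)
    haveI : Subsingleton (LocCoh.H (I.map (algebraMap R (Localization P.primeCompl))) i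
        (TensorProduct R (Localization P.primeCompl) M)) :=
      h P (TensorProduct R (Localization P.primeCompl) M) i hi
    exact (e1.trans e).toEquiv.subsingleton

end Groth.Agent.S0380
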