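import Groth.Statements.S15795
import Mathlib
-- import your own Groth.Agent.* helpers here

set_option autoImplicit false
universe u v
open WildQuot


namespace Groth.Agent.S15795

/-- Let `A` be a regular local ring of Krull dimension `n` with maximal ideal `m`, let a finite group
`G` act on `A` by ring automorphisms inducing the identity on the residue field, and let `u_1, …,
u_n` generate `m`. Suppose that for every `σ ∈ G` and every `i`, `σ u_i ∈ (u_1, …, u_i) + m ^ 2`,
i.e. the induced linear maps of `m / m ^ 2` are upper triangular in the basis given by the `u_i`.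
Then the system `u` is admissible: for every choice `σ_1, …, σ_n ∈ G` the elements `σ_1 u_1, …, σ_n
u_n` generate `m`. (The published statement is for a complete regular local ring containing a
`G`-fixed field of representatives; this row drops completeness and asks only that `G` act trivially
on the residue field.) -/
theorem result
    (A : Type u) [CommRing A] [IsRegularLocalRing A]
    (G : Type v) [Group G] [Finite G] [MulSemiringAction G A]
    (hres : ∀ (σ : G) (a : A), σ • a - a ∈ IsLocalRing.maximalIdeal A)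
    (n : ℕ) (hn : ringKrullDim A = n) (u : Fin n → A)
    (hu : Ideal.span (Set.range u) = IsLocalRing.maximalIdeal A)
    (htri : ∀ (σ : G) (i : Fin n),
      σ • u i ∈ Ideal.span (u '' {j | j ≤ i}) ⊔ IsLocalRing.maximalIdeal A ^ 2) :
    ∀ τ : Fin n → G,
      Ideal.span (Set.range fun i => τ i • u i) = IsLocalRing.maximalIdeal A := by
  classical
  intro τ
  set 𝔪 := IsLocalRing.maximalIdeal A with h𝔪
  set I : Ideal A := Ideal.span (Set.range fun i => τ i • u i) with hI
  have h𝔪fg : (𝔪 : Submodule A A).FG := IsNoetherian.noetherian 𝔪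
  have hjac : 𝔪 ≤ Ideal.jacobson ⊥ := IsLocalRing.maximalIdeal_le_jacobson _
  -- Nakayama in the form we need
  have naka : ∀ N : Ideal A, 𝔪 ≤ N ⊔ 𝔪 ^ 2 → 𝔪 ≤ N := by
    intro N hN
    refine Submodule.le_of_le_smul_of_le_jacobson_bot (I := 𝔪) (N := N) (N' := 𝔪) h𝔪fg hjac ?_
    rw [smul_eq_mul, ← pow_two]; exact hN
  -- the action preserves 𝔪 and 𝔪 ^ 2
  have hσ𝔪 : ∀ (σ : G) (x : A), x ∈ 𝔪 → σ • x ∈ 𝔪 := by
    intro σ x hx
    rw [h𝔪, IsLocalRing.mem_maximalIdeal] at hx ⊢
    intro hunit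
    apply hx
    have := hunit.map (MulSemiringAction.toRingHom G A σ⁻¹)
    simpa using this
  have hmap𝔪 : ∀ σ : G, Ideal.map (MulSemiringAction.toRingHom G A σ) 𝔪 ≤ 𝔪 := by
    intro σ
    rw [Ideal.map_le_iff_le_comap]
    intro x hx
    exact hσ𝔪 σ x hx
  have hσ𝔪2 : ∀ (σ : G) (x : A), x ∈ 𝔪 ^ 2 → σ • x ∈ 𝔪 ^ 2 := by
    intro σ x hx
    have h1 : MulSemiringAction.toRingHom G A σ x ∈
        Ideal.map (MulSemiringAction.toRingHom G A σ) (𝔪 ^ 2) := Ideal.mem_map_of_mem _ hx
    rw [Ideal.map_pow] at h1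
    exact Ideal.pow_right_mono (hmap𝔪 σ) 2 h1
  have hu𝔪 : ∀ i, u i ∈ 𝔪 := fun i => by rw [← hu]; exact Ideal.subset_span ⟨i, rfl⟩
  have hI𝔪 : I ≤ 𝔪 := by
    rw [hI, Ideal.span_le]
    rintro _ ⟨i, rfl⟩
    exact hσ𝔪 _ _ (hu𝔪 i)
  -- height argument: no u i lies in the span of the others plus 𝔪 ^ 2
  have hnot : ∀ i : Fin n, u i ∉ Ideal.span (u '' {j | j < i}) ⊔ 𝔪 ^ 2 := by
    intro i hmem
    set S : Set A := u '' {j | j ≠ i} with hS
    have hlt : Ideal.span (u '' {j | j < i}) ≤ Ideal.span S :=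
      Ideal.span_mono (Set.image_mono (fun j (hj : j < i) => ne_of_lt hj))
    have h1 : 𝔪 ≤ Ideal.span S ⊔ 𝔪 ^ 2 := by
      refine hu.ge.trans (Ideal.span_le.mpr ?_)
      rintro _ ⟨l, rfl⟩
      by_cases hl : l = i
      · subst hl
        exact (sup_le_sup_right hlt _) hmem
      · exact (le_sup_left : Ideal.span S ≤ _) (Ideal.subset_span ⟨l, hl, rfl⟩)
    have h2 : 𝔪 ≤ Ideal.span S := naka _ h1
    have hSm : Ideal.span S ≤ 𝔪 := by
      rw [Ideal.span_le]; rintro _ ⟨j, _, rfl⟩; exact hu𝔪 j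
    have hmin : 𝔪 ∈ (Ideal.span S).minimalPrimes := by
      refine ⟨⟨inferInstance, hSm⟩, ?_⟩
      rintro q ⟨hq, hSq⟩ _
      exact h2.trans hSq
    have hfin : S.Finite := (Set.toFinite _).image _
    have hht := Ideal.height_le_card_of_mem_minimalPrimes_span hfin hmin
    have hcard : S.ncard ≤ n - 1 := by
      calc S.ncard ≤ ({j | j ≠ i} : Set (Fin n)).ncard := Set.ncard_image_le (Set.toFinite _)
        _ = n - 1 := by
          have : ({j | j ≠ i} : Set (Fin n)) = {i}ᶜ := by ext; simp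
          rw [this, Set.ncard_compl, Set.ncard_singleton, Nat.card_eq_fintype_card,
            Fintype.card_fin]
    have hdim : 𝔪.height = (n : ℕ∞) := by
      have := IsLocalRing.maximalIdeal_height_eq_ringKrullDim (R := A)
      rw [hn] at this
      exact_mod_cast this
    have hpos : 0 < n := i.pos
    rw [hdim] at hht
    have h3 : (n : ℕ∞) ≤ ((n - 1 : ℕ) : ℕ∞) := hht.trans (by exact_mod_cast hcard)
    have h4 : n ≤ n - 1 := by exact_mod_cast h3
    omega
  -- key: σ maps span(u_j, j<i) ⊔ 𝔪^2 into itself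
  have hstab : ∀ (σ : G) (i : Fin n) (x : A), x ∈ Ideal.span (u '' {j | j < i}) ⊔ 𝔪 ^ 2 →
      σ • x ∈ Ideal.span (u '' {j | j < i}) ⊔ 𝔪 ^ 2 := by
    intro σ i x hx
    have hle : Ideal.span (u '' {j | j < i}) ⊔ 𝔪 ^ 2 ≤
        Ideal.comap (MulSemiringAction.toRingHom G A σ)
          (Ideal.span (u '' {j | j < i}) ⊔ 𝔪 ^ 2) := by
      refine sup_le ?_ ?_
      · rw [Ideal.span_le]
        rintro _ ⟨j, hj, rfl⟩
        rw [SetLike.mem_coe, Ideal.mem_comap, MulSemiringAction.toRingHom_apply]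
        have h1 := htri σ j
        have h2 : Ideal.span (u '' {l | l ≤ j}) ≤ Ideal.span (u '' {l | l < i}) :=
          Ideal.span_mono (Set.image_mono (fun l (hl : l ≤ j) => lt_of_le_of_lt hl hj))
        exact (sup_le_sup_right h2 _) h1
      · intro y hy
        exact (le_sup_right : 𝔪 ^ 2 ≤ _) (hσ𝔪2 σ y hy)
    exact hle hx
  -- main induction
  have main : ∀ k : ℕ, ∀ i : Fin n, i.val < k → u i ∈ I ⊔ 𝔪 ^ 2 := by
    intro k
    induction k with
    | zero => intro i hi; omega
    | succ k ih =>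
      intro i hi
      by_cases hik : i.val < k
      · exact ih i hik
      have hlow : Ideal.span (u '' {j | j < i}) ≤ I ⊔ 𝔪 ^ 2 := by
        rw [Ideal.span_le]
        rintro _ ⟨j, hj, rfl⟩
        exact ih j (by have : j.val < i.val := hj; omega)
      have hτ : τ i • u i ∈ I := Ideal.subset_span ⟨i, rfl⟩
      have h1 := htri (τ i) i
      have hsplit : ({j | j ≤ i} : Set (Fin n)) = insert i {j | j < i} := by
        ext j; simp [le_iff_eq_or_lt]
      rw [hsplit, Set.image_insert_eq, Ideal.span_insert, sup_assoc] at h1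
      obtain ⟨x, hx, y, hy, hxy⟩ := Submodule.mem_sup.mp h1
      obtain ⟨c, rfl⟩ := Ideal.mem_span_singleton'.mp hx
      by_cases hc : IsUnit c
      · have h2 : c * u i ∈ I ⊔ 𝔪 ^ 2 := by
          have : c * u i = τ i • u i - y := by rw [← hxy]; ring
          rw [this]
          refine Ideal.sub_mem _ ((le_sup_left : I ≤ _) hτ) ?_
          exact (sup_le hlow le_sup_right) hy
        obtain ⟨c', hc'⟩ := hc.exists_left_inv
        have : u i = c' * (c * u i) := by rw [← mul_assoc, hc', one_mul]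
        rw [this]
        exact Ideal.mul_mem_left _ _ h2
      · exfalso
        have hcm : c ∈ 𝔪 := (IsLocalRing.mem_maximalIdeal _).mpr hc
        have h3 : τ i • u i ∈ Ideal.span (u '' {j | j < i}) ⊔ 𝔪 ^ 2 := by
          rw [← hxy]
          refine Ideal.add_mem _ ?_ hy
          refine (le_sup_right : 𝔪 ^ 2 ≤ _) ?_
          rw [pow_two]
          exact Ideal.mul_mem_mul hcm (hu𝔪 i)
        have h4 := hstab (τ i)⁻¹ i _ h3
        rw [inv_smul_smul] at h4
        exact hnot i h4
  have hle : 𝔪 ≤ I ⊔ 𝔪 ^ 2 := by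
    refine hu.ge.trans (Ideal.span_le.mpr ?_)
    rintro _ ⟨i, rfl⟩
    exact main (i.val + 1) i (Nat.lt_succ_self _)
  exact le_antisymm hI𝔪 (naka I hle)

end Groth.Agent.S15795
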