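import Groth.Statements.S5370
import Mathlib
import Groth.Agent.Lib.SchFlatInj_helper7
import Groth.Agent.Lib.SchSrcLocal_helper7

set_option autoImplicit false
universe u
open CategoryTheory CategoryTheory.Limits MonoidalCategory CartesianMonoidalCategory MonObj GrpObj AlgebraicGeometry
open SGA3

namespace Groth.Agent.S5370

/-- Let u : G' → G be a monomorphism of S-group schemes and p : G → G'' a morphism of S-schemes which is
covering for the fpqc topology (some Z → G'' which is flat, surjective, with every affine open of
G'' the image of a quasi-compact open of Z, factors through p) and such that the square (g, h) ↦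
g·u(h), first projection G ×_S G' → G, p, p is cartesian, so that G'' represents the fpqc quotient
sheaf G/G'. Then: (ix) if G is reduced, G'' is reduced; (xi) G' is flat over S if and only if p is
flat, and in that case G'' is flat over S if and only if G is flat over S. -/
theorem result (S : Scheme.{u}) (G G' G'' : Over S) [GrpObj G] [GrpObj G']
    (u : G' ⟶ G) [IsMonHom u] [Mono u] (p : G ⟶ G'')
    (hcov : (∃ (Z : Scheme.{u}) (q : Z ⟶ G''.left) (r : Z ⟶ G.left), r ≫ p.left = q ∧ Surjective q ∧ Flat q ∧
        ∀ V : G''.left.Opens, IsAffineOpen V → ∃ W : Z.Opens, IsCompact (W : Set Z) ∧ q.base '' (W : Set Z) = (V : Set G''.left)))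
    (hsq : IsPullback ((G ◁ u) ≫ μ[G]) (fst G G') p p) :
    (IsReduced G.left → IsReduced G''.left) ∧
    (Flat G'.hom ↔ Flat p.left) ∧ (Flat p.left → (Flat G''.hom ↔ Flat G.hom)) := by
  obtain ⟨Z, q, r, hrq, hqs, hqf, hqc⟩ := hcov
  subst hrq
  haveI : Surjective (r ≫ p.left) := hqs
  haveI : Flat (r ≫ p.left) := hqf
  haveI hps : Surjective p.left := Surjective.of_comp r p.left
  have hsq' : IsPullback ((G ◁ u) ≫ μ[G]).left (fst G G').left p.left p.left :=
    hsq.map (Over.forget S)
  have hη : (η[G]).left ≫ G.hom = 𝟙 S := Over.w η[G]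
  refine ⟨fun hG => ?_, ⟨fun hG' => ?_, fun hp => ?_⟩, fun hp => ⟨fun h => ?_, fun h => ?_⟩⟩
  · haveI := hG
    exact SchFlatInjH7.isReduced_of_comp r p.left
  · -- Flat G'.hom → Flat p.left
    haveI := hG'
    haveI hK : Flat (fst G G').left := by
      show Flat (pullback.fst G.hom G'.hom); infer_instance
    have hpaste := IsPullback.paste_horiz (IsPullback.of_hasPullback (fst G G').left r) hsq'
    have hflip := hpaste.flip
    haveI h1 : Flat (pullback.snd (fst G G').left r) := inferInstance
    haveI h2 : Flat (pullback.fst (fst G G').left r ≫ ((G ◁ u) ≫ μ[G]).left) :=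
      MorphismProperty.of_isPullback (P := @Flat) hflip hqf
    haveI h3 : Surjective (pullback.fst (fst G G').left r ≫ ((G ◁ u) ≫ μ[G]).left) :=
      MorphismProperty.of_isPullback (P := @Surjective) hflip hqs
    haveI h4 : Flat ((pullback.fst (fst G G').left r ≫ ((G ◁ u) ≫ μ[G]).left) ≫ p.left) := by
      have hw := hpaste.w
      rw [hw]
      infer_instance
    exact Groth.Agent.Lib.SchSrcLocal_helper7.flat_of_comp_surjective
      (pullback.fst (fst G G').left r ≫ ((G ◁ u) ≫ μ[G]).left) p.left
  · -- Flat p.left → Flat G'.hom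
    have hK : Flat (fst G G').left := MorphismProperty.of_isPullback (P := @Flat) hsq' hp
    let e : G' ⟶ G ⊗ G' := lift (toUnit G' ≫ η[G]) (𝟙 G')
    have hpb : IsPullback e.left G'.hom (fst G G').left (η[G]).left := by
      apply IsPullback.of_right (h₁₂ := (snd G G').left) (h₂₂ := G.hom) (v₁₃ := G'.hom)
      · have h1 : e.left ≫ (snd G G').left = 𝟙 _ :=
          congrArg (fun k => k.left) (lift_snd (toUnit G' ≫ η[G]) (𝟙 G'))
        rw [h1, hη]
        exact IsPullback.id_horiz G'.hom
      · exact congrArg (fun k => k.left) (lift_fst (toUnit G' ≫ η[G]) (𝟙 G'))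
      · exact (IsPullback.of_hasPullback G.hom G'.hom).flip
    exact MorphismProperty.of_isPullback (P := @Flat) hpb hK
  · haveI := hp; haveI := h
    rw [← Over.w p]; infer_instance
  · haveI := hp
    haveI : Flat (p.left ≫ G''.hom) := by rw [Over.w p]; exact h
    exact Groth.Agent.Lib.SchSrcLocal_helper7.flat_of_comp_surjective p.left G''.hom

end Groth.Agent.S5370
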