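import Groth.Statements.S13596
import Mathlib

set_option autoImplicit false
universe u
open CategoryTheory AlgebraicGeometry
open SGA1

namespace Groth.Agent.S13596

lemma appLE_of_eq_id {X : Scheme.{u}} (f : X ⟶ X) (hf : f = 𝟙 X) (V : X.Opens) (h : V ≤ f ⁻¹ᵁ V) :
    f.appLE V V h = 𝟙 _ := by
  subst hf
  simp only [Scheme.Hom.appLE, Scheme.Hom.id_app, Category.id_comp]
  exact X.presheaf.map_id _

lemma appLE_of_eq_comp {X : Scheme.{u}} (f g k : X ⟶ X) (hk : k = f ≫ g) (V : X.Opens)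
    (hf : V ≤ f ⁻¹ᵁ V) (hg : V ≤ g ⁻¹ᵁ V) (hk' : V ≤ k ⁻¹ᵁ V) :
    k.appLE V V hk' = g.appLE V V hg ≫ f.appLE V V hf := by
  subst hk
  rw [Scheme.Hom.appLE_comp_appLE]



/-- Let a finite group G act on a scheme X and let p : X ⟶ Y be a quotient of X by G (affine,
G-invariant, and identifying the sections of O_Y over every open with the G-invariant sections of
O_X over its preimage). Then p is an integral morphism. -/
theorem result {X Y : Scheme.{u}} {G : Type u} [Group G] [Finite G]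
    (ρ : G →* Aut X) (p : X ⟶ Y) (hp : SGA1.IsQuot ρ p) :
    IsIntegralHom p := by
  have haff : IsAffineHom p := hp.affine
  refine { toIsAffineHom := haff, isIntegral_app := ?_ }
  intro U hU
  let σ : G → (Γ(X, p ⁻¹ᵁ U) →+* Γ(X, p ⁻¹ᵁ U)) := fun g =>
    ((ρ g).hom.appLE (p ⁻¹ᵁ U) (p ⁻¹ᵁ U) (SGA1.preimage_le_of_inv ρ p hp.inv g U)).hom
  have σ_one : ∀ s, σ 1 s = s := by
    intro s
    have h1 : (ρ 1).hom = 𝟙 X := by rw [map_one]; rfl
    have h2 := appLE_of_eq_id (ρ 1).hom h1 (p ⁻¹ᵁ U) (SGA1.preimage_le_of_inv ρ p hp.inv 1 U)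
    show ((ρ 1).hom.appLE (p ⁻¹ᵁ U) (p ⁻¹ᵁ U) _).hom s = s
    rw [h2]; rfl
  have σ_mul : ∀ g h s, σ (g * h) s = σ h (σ g s) := by
    intro g h s
    have h1 : (ρ (g * h)).hom = (ρ h).hom ≫ (ρ g).hom := by rw [map_mul]; rfl
    have h2 := appLE_of_eq_comp (ρ h).hom (ρ g).hom (ρ (g * h)).hom h1 (p ⁻¹ᵁ U)
      (SGA1.preimage_le_of_inv ρ p hp.inv h U) (SGA1.preimage_le_of_inv ρ p hp.inv g U)
      (SGA1.preimage_le_of_inv ρ p hp.inv (g * h) U)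
    show ((ρ (g * h)).hom.appLE (p ⁻¹ᵁ U) (p ⁻¹ᵁ U) _).hom s = _
    rw [h2]; rfl
  let φ : Γ(Y, U) →+* Γ(X, p ⁻¹ᵁ U) := (p.app U).hom
  let alg : Algebra Γ(Y, U) Γ(X, p ⁻¹ᵁ U) := φ.toAlgebra
  let act : MulSemiringAction G Γ(X, p ⁻¹ᵁ U) :=
    { smul := fun g s => σ g⁻¹ s
      one_smul := fun s => by show σ (1:G)⁻¹ s = s; rw [inv_one]; exact σ_one s
      mul_smul := fun g h s => by
        show σ (g * h)⁻¹ s = σ g⁻¹ (σ h⁻¹ s)
        rw [mul_inv_rev]; exact σ_mul _ _ s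
      smul_zero := fun g => map_zero (σ g⁻¹)
      smul_add := fun g => map_add (σ g⁻¹)
      smul_one := fun g => map_one (σ g⁻¹)
      smul_mul := fun g => map_mul (σ g⁻¹) }
  have hfix : ∀ g a, σ g (φ a) = φ a := fun g a => (hp.range_iff U (φ a)).mp ⟨a, rfl⟩ g
  have scc : SMulCommClass G Γ(Y, U) Γ(X, p ⁻¹ᵁ U) := ⟨fun g a b => by
    show σ g⁻¹ (φ a * b) = φ a * σ g⁻¹ b
    rw [map_mul, hfix]⟩
  have hinv : Algebra.IsInvariant Γ(Y, U) Γ(X, p ⁻¹ᵁ U) G := ⟨fun b hb => by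
    have hb' : b ∈ Set.range φ := (hp.range_iff U b).mpr (fun g => by
      have h3 : σ (g⁻¹)⁻¹ b = b := hb g⁻¹
      rw [inv_inv] at h3
      exact h3)
    exact hb'⟩
  have hint : Algebra.IsIntegral Γ(Y, U) Γ(X, p ⁻¹ᵁ U) :=
    Algebra.IsInvariant.isIntegral Γ(Y, U) Γ(X, p ⁻¹ᵁ U) G
  exact fun s => hint.isIntegral s

end Groth.Agent.S13596
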