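import Groth.Statements.S9315
import Groth.Agent.Lib.CohenLift2_helper3
-- import your own Groth.Agent.* helpers here

set_option autoImplicit false
universe u
open CAlg
set_option maxSynthPendingDepth 3

namespace Groth.Agent.S9315

open IsLocalRing in
/-- Let `R → S` be a local homomorphism of local rings (no Noetherian hypothesis). Then `R → S` is
formally smooth for the adic topology of the maximal ideal of `S` if and only if the following
lifting property holds: for every local ring `A` with a local structure map `R → A`, every ideal `J`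
of `A` of square zero such that some power of the maximal ideal of `A` is zero, and every local
`R`-algebra homomorphism `ψ : S → A/J` inducing a bijection on residue fields, there is an
`R`-algebra homomorphism `S → A` lifting `ψ`. -/
theorem result {R S : Type u} [CommRing R] [CommRing S]
    [IsLocalRing R] [IsLocalRing S] [Algebra R S] [IsLocalHom (algebraMap R S)] :
    CAlgX.IsAdicFormallySmooth R S (maximalIdeal S) ↔
      ∀ (A : Type u) [CommRing A] [IsLocalRing A] [Algebra R A] [IsLocalHom (algebraMap R A)]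
        (J : Ideal A), J ^ 2 = ⊥ → (∃ n : ℕ, maximalIdeal A ^ n = ⊥) →
        ∀ [IsLocalRing (A ⧸ J)] (ψ : S →ₐ[R] A ⧸ J) [IsLocalHom ψ.toRingHom],
          Function.Bijective (ResidueField.map ψ.toRingHom) →
          ∃ χ : S →ₐ[R] A, (Ideal.Quotient.mkₐ R J).comp χ = ψ := by
  classical
  constructor
  · intro h A _ _ _ _ J hJ hn _ ψ _ _
    obtain ⟨n, hn⟩ := hn
    refine h A J hJ ψ ⟨n, fun x hx => ?_⟩
    have h1 : (maximalIdeal S).map ψ.toRingHom ≤ maximalIdeal (A ⧸ J) :=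
      ((local_hom_TFAE ψ.toRingHom).out 0 2).1 ‹IsLocalHom ψ.toRingHom›
    have h2 : ψ.toRingHom x ∈ ((maximalIdeal S) ^ n).map ψ.toRingHom :=
      Ideal.mem_map_of_mem _ hx
    rw [Ideal.map_pow] at h2
    have h3 := Ideal.pow_right_mono h1 n h2
    rw [← Groth.Agent.Lib.CohenLiftH3.map_mk_maximalIdeal, ← Ideal.map_pow, hn, Ideal.map_bot] at h3
    exact h3
  · intro H C _ _ J hJ ψ ⟨k, hk⟩
    -- the Artinian quotient of `S`
    set 𝔮 : Ideal S := maximalIdeal S ^ (k + 1) with h𝔮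
    have h𝔮le : 𝔮 ≤ maximalIdeal S := Ideal.pow_le_self (Nat.succ_ne_zero k)
    have h𝔮top : 𝔮 ≠ ⊤ := fun htop =>
      (maximalIdeal.isMaximal S).ne_top (top_le_iff.1 (htop ▸ h𝔮le))
    haveI : Nontrivial (S ⧸ 𝔮) := Ideal.Quotient.nontrivial_iff.2 h𝔮top
    haveI : IsLocalRing (S ⧸ 𝔮) :=
      IsLocalRing.of_surjective' (Ideal.Quotient.mk 𝔮) Ideal.Quotient.mk_surjective
    haveI hmkloc : IsLocalHom (Ideal.Quotient.mk 𝔮) :=
      IsLocalHom.of_surjective _ Ideal.Quotient.mk_surjective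
    have hψ𝔮 : ∀ x ∈ 𝔮, ψ x = 0 := fun x hx =>
      hk x (Ideal.pow_le_pow_right (Nat.le_succ k) hx)
    let ψbar : S ⧸ 𝔮 →ₐ[R] C ⧸ J := Ideal.Quotient.liftₐ 𝔮 ψ hψ𝔮
    have hψbar : ∀ s : S, ψbar (Ideal.Quotient.mk 𝔮 s) = ψ s := fun s => rfl
    -- the fibre product
    let f₁ : C × (S ⧸ 𝔮) →ₐ[R] C ⧸ J := (Ideal.Quotient.mkₐ R J).comp (AlgHom.fst R C (S ⧸ 𝔮))
    let f₂ : C × (S ⧸ 𝔮) →ₐ[R] C ⧸ J := ψbar.comp (AlgHom.snd R C (S ⧸ 𝔮))
    let A : Subalgebra R (C × (S ⧸ 𝔮)) := AlgHom.equalizer f₁ f₂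
    have hA : ∀ x : C × (S ⧸ 𝔮), x ∈ A ↔ Ideal.Quotient.mk J x.1 = ψbar x.2 := fun x =>
      AlgHom.mem_equalizer f₁ f₂ x
    let π : A →ₐ[R] S ⧸ 𝔮 := (AlgHom.snd R C (S ⧸ 𝔮)).comp A.val
    have hπ : ∀ x : A, π x = x.1.2 := fun x => rfl
    have hπsurj : Function.Surjective π := by
      intro s
      obtain ⟨c, hc⟩ := Ideal.Quotient.mk_surjective (ψbar s)
      exact ⟨⟨(c, s), (hA _).2 hc⟩, rfl⟩
    let J' : Ideal A := RingHom.ker π
    have hJ'mem : ∀ x : A, x ∈ J' → x.1.1 ∈ J := by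
      intro x hx
      have h1 : π x = 0 := hx
      rw [hπ] at h1
      have h2 := (hA x.1).1 x.2
      rw [h1, map_zero] at h2
      exact Ideal.Quotient.eq_zero_iff_mem.1 h2
    have hJ'2 : J' ^ 2 = ⊥ := by
      rw [eq_bot_iff, pow_two, Ideal.mul_le]
      intro x hx y hy
      rw [Ideal.mem_bot]
      apply Subtype.ext
      apply Prod.ext
      · show x.1.1 * y.1.1 = 0
        have h1 : x.1.1 * y.1.1 ∈ J ^ 2 := by
          rw [sq]
          exact Ideal.mul_mem_mul (hJ'mem x hx) (hJ'mem y hy)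
        rwa [hJ, Ideal.mem_bot] at h1
      · show x.1.2 * y.1.2 = 0
        have h1 : π x = 0 := hx
        rw [hπ] at h1
        rw [h1, zero_mul]
    let eπ : (A ⧸ J') ≃ₐ[R] S ⧸ 𝔮 := Ideal.quotientKerAlgEquivOfSurjective hπsurj
    have heπ : ∀ x : A, eπ (Ideal.Quotient.mk J' x) = π x := fun x => rfl
    have hunit : ∀ x : A, IsUnit (π x) → IsUnit x := by
      intro x hx
      rw [← IsNilpotent.isUnit_quotient_mk_iff (I := J') ⟨2, hJ'2⟩]
      have h1 : Ideal.Quotient.mk J' x = eπ.symm (π x) := by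
        rw [← heπ, AlgEquiv.symm_apply_apply]
      rw [h1]
      exact hx.map eπ.symm
    haveI : Nontrivial A := ⟨⟨0, 1, fun h01 => by
      have h1 := congrArg π h01
      rw [map_zero, map_one] at h1
      exact zero_ne_one h1⟩⟩
    haveI : IsLocalRing A := IsLocalRing.of_nonunits_add (by
      intro a b ha hb
      have ha' : π a ∈ nonunits (S ⧸ 𝔮) := fun hu => ha (hunit a hu)
      have hb' : π b ∈ nonunits (S ⧸ 𝔮) := fun hu => hb (hunit b hu)
      intro hab
      have h1 : IsUnit (π (a + b)) := hab.map π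
      rw [map_add] at h1
      exact IsLocalRing.nonunits_add ha' hb' h1)
    haveI : IsLocalHom (algebraMap R A) := ⟨fun r hr => by
      have h1 : IsUnit (π (algebraMap R A r)) := hr.map π
      rw [AlgHom.commutes, IsScalarTower.algebraMap_apply R S (S ⧸ 𝔮)] at h1
      exact isUnit_of_map_unit (algebraMap R S) r
        (isUnit_of_map_unit (Ideal.Quotient.mk 𝔮) _ h1)⟩
    have hmA : ∀ x ∈ maximalIdeal A, π x ∈ maximalIdeal (S ⧸ 𝔮) := by
      intro x hx
      rw [mem_maximalIdeal, mem_nonunits_iff]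
      exact fun hu => ((mem_maximalIdeal x).1 hx) (hunit x hu)
    have hmS : maximalIdeal (S ⧸ 𝔮) ^ (k + 1) = ⊥ := by
      rw [← Groth.Agent.Lib.CohenLiftH3.map_mk_maximalIdeal, ← Ideal.map_pow, Ideal.map_quotient_self]
    have hmAJ : maximalIdeal A ^ (k + 1) ≤ J' := by
      intro x hx
      have h1 : π.toRingHom x ∈ (maximalIdeal A ^ (k + 1)).map π.toRingHom :=
        Ideal.mem_map_of_mem _ hx
      rw [Ideal.map_pow] at h1
      have h2 : (maximalIdeal A).map π.toRingHom ≤ maximalIdeal (S ⧸ 𝔮) :=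
        Ideal.map_le_iff_le_comap.2 (fun y hy => hmA y hy)
      have h3 := Ideal.pow_right_mono h2 (k + 1) h1
      rw [hmS] at h3
      exact h3
    have hmA0 : maximalIdeal A ^ ((k + 1) * 2) = ⊥ := by
      rw [eq_bot_iff, pow_mul, ← hJ'2]
      exact Ideal.pow_right_mono hmAJ 2
    haveI : IsLocalRing (A ⧸ J') := eπ.symm.toRingEquiv.isLocalRing
    let ψA : S →ₐ[R] A ⧸ J' := (eπ.symm : S ⧸ 𝔮 →ₐ[R] A ⧸ J').comp (Ideal.Quotient.mkₐ R 𝔮)
    have hψA : ∀ s : S, eπ (ψA s) = Ideal.Quotient.mk 𝔮 s := fun s => by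
      show eπ (eπ.symm (Ideal.Quotient.mk 𝔮 s)) = _
      rw [AlgEquiv.apply_symm_apply]
    haveI : IsLocalHom ψA.toRingHom := ⟨fun s hs => by
      have h1 : IsUnit (eπ (ψA s)) := hs.map eπ
      rw [hψA] at h1
      exact isUnit_of_map_unit (Ideal.Quotient.mk 𝔮) s h1⟩
    have hψAsurj : Function.Surjective ψA := by
      intro y
      obtain ⟨s, hs⟩ := Ideal.Quotient.mk_surjective (eπ y)
      refine ⟨s, eπ.injective ?_⟩
      rw [hψA, hs]
    have hbij : Function.Bijective (ResidueField.map ψA.toRingHom) := by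
      refine ⟨RingHom.injective _, fun y => ?_⟩
      obtain ⟨z, rfl⟩ := residue_surjective y
      obtain ⟨s, rfl⟩ := hψAsurj z
      exact ⟨residue S s, ResidueField.map_residue _ _⟩
    obtain ⟨χA, hχA⟩ := H A J' hJ'2 ⟨(k + 1) * 2, hmA0⟩ ψA hbij
    have hπχ : ∀ s : S, π (χA s) = Ideal.Quotient.mk 𝔮 s := fun s => by
      have h1 : Ideal.Quotient.mk J' (χA s) = ψA s := AlgHom.congr_fun hχA s
      rw [← heπ, h1, hψA]
    refine ⟨(AlgHom.fst R C (S ⧸ 𝔮)).comp (A.val.comp χA), ?_⟩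
    ext s
    show Ideal.Quotient.mk J (χA s).1.1 = ψ s
    rw [(hA (χA s).1).1 (χA s).2, ← hπ, hπχ, hψbar]

end Groth.Agent.S9315
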