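import Groth.Statements.S14444
import Groth.Agent.Lib.BC0Chart_helper2
import Groth.Agent.Lib.PBCAlg7_helper2
import Groth.Agent.Lib.FLF8_helper8

set_option autoImplicit false
universe u
open Coherent

namespace Groth.Agent.S14444

open AlgebraicGeometry CategoryTheory Scheme.Modules in
/-- Let η : Y → V be a proper morphism of finite presentation and L a quasi-coherent O_Y-module of
finite presentation, flat over V, with H^1(Y_v, L_v) = 0 for every point v of V (cohomology of the
restriction of L to the fibre Y_v). Then η_* L is finite locally free, and for every cartesian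
square with vertex X = U ×_V Y, projections f : X → Y and ζ : X → U, over a morphism φ : U → V, the
base change map φ^* η_* L → ζ_* f^* L — the map adjoint to η_*(ρ) : η_* L → η_* f_* f^* L = φ_* ζ_*
f^* L, where ρ : L → f_* f^* L is the unit — is an isomorphism. -/
theorem result {Y V : Scheme.{u}} (η : Y ⟶ V)
    [IsProper η] [LocallyOfFinitePresentation η] (L : Y.Modules) [Coh.IsQCoh L] (hfp : CohB1.IsFP L)
    (hfl : FlatMod.IsFlatOver η L) (h1 : ∀ v : V, Subsingleton (CohIII.fiberH η L v 1)) :
    FlatMod.IsFinLocFree ((pushforward η).obj L) ∧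
      ∀ ⦃X U : Scheme.{u}⦄ (f : X ⟶ Y) (ζ : X ⟶ U) (φ : U ⟶ V) (h : IsPullback f ζ η φ),
        IsIso (((pullbackPushforwardAdjunction φ).homEquiv ((pushforward η).obj L)
            ((pushforward ζ).obj ((pullback f).obj L))).symm
          ((pushforward η).map ((pullbackPushforwardAdjunction f).unit.app L) ≫
            (pushforwardComp f η).hom.app ((pullback f).obj L) ≫
            (pushforwardCongr h.w).hom.app ((pullback f).obj L) ≫
            (pushforwardComp ζ φ).inv.app ((pullback f).obj L))) := by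
  haveI : L.IsQuasicoherent := ‹Coh.IsQCoh L›
  haveI hqM : ((Scheme.Modules.pushforward η).obj L).IsQuasicoherent :=
    QcqsLoc.isQuasicoherent_pushforward_qcqs η L
  refine ⟨?_, ?_⟩
  · apply FLFH8.finLocFree_of_fp_flat_sections
    rintro ⟨T, hT⟩
    obtain ⟨P, hP, -, hpos, hA, -, -, ⟨e⟩, -⟩ :=
      Groth.Agent.Lib.CBCH2.chartFacts0 η L hfp hfl T hT
    have e0 : (1 : ℤ) - 1 = -((0 : ℕ) : ℤ) := by simp
    have e1 : -((1 : ℕ) : ℤ) = -((0 : ℕ) : ℤ) - 1 := by simp
    have hx0 : ∀ x : PrimeSpectrum Γ(V, T),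
        x ∈ Module.freeLocus Γ(V, T) (P.opcycles (-((0 : ℕ) : ℤ))) := by
      intro x
      obtain ⟨v, hv, hker⟩ := Groth.Agent.Lib.CBCH2.exists_ker_evalRes T hT x
      letI := Groth.Agent.Lib.CBCH2.algRes T v hv
      have hsub : Subsingleton ((CohIII.TFun P 1).obj
          (ModuleCat.of Γ(V, T) (V.residueField v))) :=
        ModuleCat.subsingleton_of_isZero (hpos 1 one_pos _)
      have := (Groth.Agent.Lib.PBCH2.mem_freeLocus_of_subsingleton_T P hP 1 (V.residueField v)
        hsub x hker).2
      rwa [e0] at this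
    have hx1 : ∀ x : PrimeSpectrum Γ(V, T),
        x ∈ Module.freeLocus Γ(V, T) (P.opcycles (-((0 : ℕ) : ℤ) - 1)) := by
      intro x
      obtain ⟨v, hv, hker⟩ := Groth.Agent.Lib.CBCH2.exists_ker_evalRes T hT x
      letI := Groth.Agent.Lib.CBCH2.algRes T v hv
      have := (Groth.Agent.Lib.PBCH2.mem_freeLocus_of_subsingleton_T P hP (-((1 : ℕ) : ℤ))
        (V.residueField v) ((hA 1 v hv).mp (h1 v)) x hker).1
      rwa [e1] at this
    obtain ⟨hfin, hproj⟩ := Groth.Agent.Lib.PBCH2.finite_projective_homology_of_freeLocus P hP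
      (-((0 : ℕ) : ℤ)) hx0 hx1
    haveI := hfin
    haveI := hproj
    haveI : Module.Finite Γ(V, T) Γ((Scheme.Modules.pushforward η).obj L, T) :=
      Module.Finite.equiv e
    haveI : Module.Projective Γ(V, T) Γ((Scheme.Modules.pushforward η).obj L, T) :=
      Module.Projective.of_equiv e
    exact ⟨Module.finitePresentation_of_projective _ _, inferInstance⟩
  · intro X U f ζ φ h
    show IsIso (CohBC.bc0 η φ ζ f h.w L)
    refine Groth.Agent.Lib.CBCH2.isIso_bc0_of_goodAt η φ f ζ h L (fun z => ?_)
    exact (Groth.Agent.Lib.CBCH2.goodAt_of_subsingleton_fiberH η L hfp hfl 1 (φ z)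
      (h1 (φ z))).2 0 rfl

end Groth.Agent.S14444
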