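import Groth.Statements.S15985
import Groth.Agent.Lib.PBCLoc1_helper2
import Groth.Agent.Lib.WeakAssSch_helper4

set_option autoImplicit false
universe u
open Coherent

namespace Groth.Agent.S15985

open AlgebraicGeometry CategoryTheory Scheme.Modules in
/-- Let π : X → Y be proper of finite presentation, F a quasi-coherent O_X-module of finite
presentation, flat over Y, and p a natural number such that H^p(X_y, F|_{X_y}) = 0 for every point y
of Y (cohomology of the restriction of F to the scheme-theoretic fibre at y). Then the higher direct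
image R^p π_* F (the p-th right derived functor of π_* on O_X-modules, applied to F) is zero. -/
theorem result
    {X Y : Scheme.{u}} (π : X ⟶ Y) [IsProper π] [LocallyOfFinitePresentation π]
    [HasInjectiveResolutions X.Modules]
    (F : X.Modules) [Coh.IsQCoh F] (hfp : CohB1.IsFP F) (hfl : FlatMod.IsFlatOver π F) (p : ℕ)
    (h0 : ∀ y : Y, Subsingleton (CohIII.fiberH π F y p)) :
    Limits.IsZero ((Coh.Rpush π p).obj F) := by
  haveI : F.IsQuasicoherent := ‹Coh.IsQCoh F›
  apply Groth.Agent.Lib.WeakAssSch_helper4.isZero_of_forall_affine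
  intro V hV s
  haveI : AlgebraicGeometry.IsAffine (V : AlgebraicGeometry.Scheme.{u}) := hV
  obtain ⟨P, hP, -, -, hrk, -, hsec⟩ := Groth.Agent.Lib.PBCH2.locPackage' π F hfp hfl V hV
  obtain ⟨e⟩ := hsec p
  have hP' : ∀ i, Module.Finite Γ((V : AlgebraicGeometry.Scheme.{u}), ⊤) (P.X i) ∧
      Module.Projective Γ((V : AlgebraicGeometry.Scheme.{u}), ⊤) (P.X i) := fun i =>
    ⟨(hP i).1, haveI := (hP i).2; inferInstance⟩
  have hd : ∀ x : PrimeSpectrum Γ((V : AlgebraicGeometry.Scheme.{u}), ⊤),
      CohIII.dRank P (-(p : ℤ)) x = 0 := by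
    intro x
    obtain ⟨y', rfl⟩ := (AlgebraicGeometry.Scheme.Hom.homeomorph
      (V : AlgebraicGeometry.Scheme.{u}).toSpecΓ).surjective x
    have h1 := hrk p y'.1 y'.2
    haveI := h0 y'.1
    have h2 : CohIII.fiberRank π F p y'.1 = 0 := by
      unfold CohIII.fiberRank
      exact Module.finrank_zero_of_subsingleton
    exact h1.symm.trans h2
  obtain ⟨hsub, -⟩ := Groth.Agent.Lib.PBCH2.isZero_T_of_dRank_zero P hP' _ hd
  haveI : Subsingleton Γ(((Coh.Rpush π p).obj F).restrict V.ι, ⊤) := e.toEquiv.subsingleton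
  have key : ∀ W₂ : Y.Opens, V.ι ''ᵁ ⊤ = W₂ → ∀ t : Γ((Coh.Rpush π p).obj F, W₂), t = 0 := by
    rintro _ rfl t
    exact Subsingleton.elim (α := Γ(((Coh.Rpush π p).obj F).restrict V.ι, ⊤)) t 0
  exact key V (AlgebraicGeometry.Scheme.Opens.ι_image_top V) s

end Groth.Agent.S15985
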