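import Groth.Statements.S19429
import Mathlib
import Groth.Agent.Lib.RegGG_helper9
import Groth.Agent.Lib.KRRReg3_helper9

set_option autoImplicit false
universe u
open KRR

namespace Groth.Agent.S19429

open CategoryTheory CategoryTheory.Limits AlgebraicGeometry in
/-- Let T be any scheme, p : P^n_T ⟶ T the projection, and F a quasi-coherent O-module on P^n_T which is
regular relative to p (R^i p_*(F(-i)) = 0 for every i ≥ 1, higher direct images of the underlying
abelian sheaves). Then the canonical homomorphism p^* p_* F ⟶ F, the counit of the adjunction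
between pullback and pushforward of O-modules, is an epimorphism. Stated for the trivial bundle,
i.e. for P^n_T; no Noetherian, separatedness or finiteness hypothesis on T or F. -/
theorem result (n : ℕ) (T : Scheme.{u}) (F : (KRR.PY n T).Modules)
    (hF : Coh.IsQCoh F) (hreg : KRR.IsRegSheaf n T F) :
    Epi ((Scheme.Modules.pullbackPushforwardAdjunction (KRR.pr n T)).counit.app F) := by
  haveI : F.IsQuasicoherent := hF
  haveI := (KRRRegH9.qcqs_pr n T).1
  haveI := (KRRRegH9.qcqs_pr n T).2
  rw [TensH8.epi_counit_iff_isGloballyGenerated]
  intro V hV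
  apply TensH8.isGloballyGenerated_restrict_of_span
  intro W hW z x hx
  have hgg : Curv2.IsGloballyGenerated (F.restrict (Groth.Agent.PnOver.sigma n V hV)) := by
    haveI : (F.restrict (Groth.Agent.PnOver.sigma n V hV)).IsQuasicoherent := inferInstance
    exact RegGGH9.isGloballyGenerated_of_regular n Γ(T, V)
      (KRRRegH9.cmreg_hyp n F hF hreg V hV)
  exact RegGGH9.exists_span_of_isGloballyGenerated_restrict' (Groth.Agent.PnOver.sigma n V hV) F
    hgg _ (Groth.Agent.PnOver.opensRange_sigma n V hV) W hW z x hx

end Groth.Agent.S19429
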