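import Groth.Statements.S0549
import Mathlib
import Groth.Agent.Lib.CompletionRegular_helper5

set_option autoImplicit false
universe u
open CAlg

namespace Groth.Agent.S0549

theorem dvr_iff (R : Type u) [CommRing R] [IsLocalRing R] [IsNoetherianRing R] :
    (∃ _ : IsDomain R, IsDiscreteValuationRing R) ↔
      (IsRegularLocalRing R ∧ ringKrullDim R = 1) := by
  constructor
  · rintro ⟨hdom, hdvr⟩
    exact ⟨inferInstance, IsDiscreteValuationRing.ringKrullDim_eq_one R⟩
  · rintro ⟨hreg, hdim⟩
    have hdom : IsDomain R := Groth.Agent.RegularLib.isDomain R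
    refine ⟨hdom, ?_⟩
    have hnf : ¬ IsField R := by
      intro hf
      have := ringKrullDim_eq_zero_of_isField hf
      rw [hdim] at this
      exact one_ne_zero this
    have h5 : Module.finrank (IsLocalRing.ResidueField R) (IsLocalRing.CotangentSpace R) = 1 := by
      have := (IsRegularLocalRing.iff_finrank_cotangentSpace R).mp hreg
      rw [hdim] at this
      exact_mod_cast this
    exact ((IsDiscreteValuationRing.TFAE R hnf).out 0 5).mpr h5

/-- A Noetherian local ring is a discrete valuation ring exactly when its completion at the maximal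
ideal is a discrete valuation ring. -/
theorem result (A : Type u) [CommRing A] [IsLocalRing A]
    [IsNoetherianRing A] :
    (∃ _ : IsDomain A, IsDiscreteValuationRing A) ↔
      ∃ _ : IsDomain (AdicCompletion (IsLocalRing.maximalIdeal A) A),
        IsDiscreteValuationRing (AdicCompletion (IsLocalRing.maximalIdeal A) A) := by
  have hne : IsLocalRing.maximalIdeal A ≠ ⊤ := (IsLocalRing.maximalIdeal.isMaximal A).ne_top
  haveI := Groth.Agent.RegularLib.isNoetherianRing_adicCompletion A (IsLocalRing.maximalIdeal A)
  rw [dvr_iff A, dvr_iff (AdicCompletion (IsLocalRing.maximalIdeal A) A),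
    Groth.Agent.RegularLib.ringKrullDim_adicCompletion A _ hne,
    ← Groth.Agent.RegularLib.isRegularLocalRing_adicCompletion_iff A _ hne]

end Groth.Agent.S0549
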