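import Groth.Statements.S13576
import Mathlib

set_option autoImplicit false
universe u
open CategoryTheory CategoryTheory.Limits MonoidalCategory
attribute [local instance] HasDerivedCategory.standard
open DTen

namespace Groth.Agent.S13576

open CategoryTheory MonoidalCategory

lemma braidCx_comp {A : Type u} [CommRing A] (K L : DRing.Cx A) :
    (DTen.braidCx K L).hom ≫ (DTen.braidCx L K).hom = 𝟙 _ := by
  refine HomologicalComplex.hom_ext _ _ (fun n => HomologicalComplex.mapBifunctor.hom_ext (fun p q h => ?_))
  rw [HomologicalComplex.comp_f]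
  erw [DTen.ι_braidCx_hom_assoc K L p q n h]
  rw [Linear.units_smul_comp, Category.assoc]
  erw [DTen.ι_braidCx_hom L K q p n (by dsimp at h; omega)]
  simp only [Linear.comp_units_smul, smul_smul, SymmetricCategory.symmetry_assoc,
    mul_comm q p, Int.units_mul_self, one_smul, HomologicalComplex.id_f]
  erw [Category.comp_id]



/-- For a commutative ring `A` and objects `K`, `L` of `D(A)`, the canonical symmetry morphism `L ⊗^L K
⟶ K ⊗^L L` of the derived tensor product, the one compatible with the swap of complexes carrying the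
sign `(-1)^{pq}` on `K^p ⊗ L^q`, is an isomorphism. -/
theorem result (A : Type u) [CommRing A] [DTen.HasLTen A] (K L : Dual.D A) :
    IsIso ((DTen.symm A).app (K, L)) := by
  let τ := DTen.symm A
  let θ : DTen.LTen₂ A ⟶ DTen.LTen₂ A :=
    (Functor.leftUnitor (DTen.LTen₂ A)).inv ≫
      Functor.whiskerRight (CategoryTheory.Prod.symmetry _ _).inv (DTen.LTen₂ A) ≫
      (Functor.associator _ _ _).hom ≫
      Functor.whiskerLeft (CategoryTheory.Prod.swap _ _) τ ≫ τ
  have hθapp : ∀ X, θ.app X = τ.app ((CategoryTheory.Prod.swap _ _).obj X) ≫ τ.app X := by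
    intro X
    simp [θ]
  have hθ : θ = 𝟙 _ := by
    apply (DTen.LTen₂ A).leftDerived_ext (DTen.ε A) (DTen.qis₂ A)
    ext ⟨K', L'⟩
    simp only [NatTrans.comp_app, Functor.whiskerLeft_app, NatTrans.id_app, Category.id_comp, hθapp]
    have e1 := DTen.symm_fac A K' L'
    have e2 := DTen.symm_fac A L' K'
    dsimp at e1 e2 ⊢
    rw [Category.assoc, e1, ← Category.assoc, e2, Category.assoc, ← Functor.map_comp, braidCx_comp,
      CategoryTheory.Functor.map_id, Category.comp_id, Category.id_comp]
  have key : ∀ X, τ.app ((CategoryTheory.Prod.swap _ _).obj X) ≫ τ.app X = 𝟙 _ := by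
    intro X
    rw [← hθapp, hθ]
    rfl
  exact ⟨⟨τ.app (L, K), key (L, K), key (K, L)⟩⟩

end Groth.Agent.S13576
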