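import Groth.Statements.S13057
import Mathlib

set_option autoImplicit false
universe u
open Zeta

namespace Groth.Agent.S13057

/-- A power series f = ∑_{m ≥ 0} a_m t^m over a field L lies in L(t), i.e. f · Q = P for some
polynomials P, Q with Q ≠ 0, if and only if there are natural numbers M, N such that the vectors
(a_i, a_{i+1}, …, a_{i+N}) ∈ L^{N+1}, i ≥ M, span a proper subspace. -/
theorem result {L : Type u} [Field L]
    (f : PowerSeries L) :
    (∃ P Q : Polynomial L, Q ≠ 0 ∧ f * (Q : PowerSeries L) = (P : PowerSeries L)) ↔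
      ∃ M N : ℕ, Submodule.span L
          {v : Fin (N + 1) → L | ∃ i : ℕ, M ≤ i ∧ v = fun j : Fin (N + 1) => PowerSeries.coeff (i + (j : ℕ)) f} ≠ ⊤ := by
  classical
  have key : ∀ (c : ℕ → L) (N n : ℕ), N ≤ n →
      PowerSeries.coeff n
          (f * ∑ q ∈ Finset.range (N + 1), PowerSeries.C (c q) * PowerSeries.X ^ q) =
        ∑ j ∈ Finset.range (N + 1), c (N - j) * PowerSeries.coeff (n - N + j) f := by
    intro c N n hNn
    calc PowerSeries.coeff n
          (f * ∑ q ∈ Finset.range (N + 1), PowerSeries.C (c q) * PowerSeries.X ^ q)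
        = ∑ q ∈ Finset.range (N + 1), c q * PowerSeries.coeff (n - q) f := by
          rw [Finset.mul_sum, map_sum]
          apply Finset.sum_congr rfl
          intro q hq
          rw [Finset.mem_range] at hq
          have e : f * (PowerSeries.C (c q) * PowerSeries.X ^ q) =
              PowerSeries.C (c q) * (f * PowerSeries.X ^ q) := by ring
          rw [e, PowerSeries.coeff_C_mul, PowerSeries.coeff_mul_X_pow', if_pos (by omega)]
      _ = ∑ j ∈ Finset.range (N + 1),
            c (N + 1 - 1 - j) * PowerSeries.coeff (n - (N + 1 - 1 - j)) f :=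
          (Finset.sum_range_reflect (fun q => c q * PowerSeries.coeff (n - q) f) (N + 1)).symm
      _ = ∑ j ∈ Finset.range (N + 1), c (N - j) * PowerSeries.coeff (n - N + j) f := by
          apply Finset.sum_congr rfl
          intro j hj
          rw [Finset.mem_range] at hj
          have e1 : N + 1 - 1 - j = N - j := by omega
          have e2 : n - (N - j) = n - N + j := by omega
          rw [e1, e2]
  constructor
  · rintro ⟨P, Q, hQ, h⟩
    refine ⟨P.natDegree + 1, Q.natDegree, ?_⟩
    have hQsum : (Q : PowerSeries L) = ∑ q ∈ Finset.range (Q.natDegree + 1),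
        PowerSeries.C (Q.coeff q) * PowerSeries.X ^ q := by
      ext n
      rw [Polynomial.coeff_coe, map_sum]
      simp only [PowerSeries.coeff_C_mul, PowerSeries.coeff_X_pow, mul_ite, mul_one, mul_zero]
      rw [Finset.sum_ite_eq]
      split_ifs with hn
      · rfl
      · rw [Finset.mem_range, not_lt] at hn
        exact Polynomial.coeff_eq_zero_of_natDegree_lt (by omega)
    let φ : (Fin (Q.natDegree + 1) → L) →ₗ[L] L :=
      ∑ j : Fin (Q.natDegree + 1), (Q.coeff (Q.natDegree - j)) •
        (LinearMap.proj j : (Fin (Q.natDegree + 1) → L) →ₗ[L] L)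
    have hφ : ∀ v, φ v = ∑ j : Fin (Q.natDegree + 1), Q.coeff (Q.natDegree - j) * v j := by
      intro v
      simp [φ, LinearMap.sum_apply]
    have hle : Submodule.span L {v : Fin (Q.natDegree + 1) → L | ∃ i : ℕ, P.natDegree + 1 ≤ i ∧
        v = fun j : Fin (Q.natDegree + 1) => PowerSeries.coeff (i + (j : ℕ)) f} ≤
          LinearMap.ker φ := by
      rw [Submodule.span_le]
      rintro v ⟨i, hi, rfl⟩
      rw [SetLike.mem_coe, LinearMap.mem_ker, hφ]
      rw [Fin.sum_univ_eq_sum_range
        (fun j => Q.coeff (Q.natDegree - j) * PowerSeries.coeff (i + j) f) (Q.natDegree + 1)]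
      have hk := key (fun q => Q.coeff q) Q.natDegree (i + Q.natDegree) (by omega)
      rw [← hQsum, h, Polynomial.coeff_coe] at hk
      have e : ∀ j, i + Q.natDegree - Q.natDegree + j = i + j := by intro j; omega
      simp only [e] at hk
      rw [← hk]
      exact Polynomial.coeff_eq_zero_of_natDegree_lt (by omega)
    intro htop
    rw [htop, top_le_iff] at hle
    have hz : φ (Pi.single 0 1) = 0 := by
      have : (Pi.single 0 1 : Fin (Q.natDegree + 1) → L) ∈ LinearMap.ker φ := by
        rw [hle]; trivial
      exact this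
    rw [hφ] at hz
    have hz' : Q.coeff Q.natDegree = 0 := by
      simpa [Pi.single_apply, Finset.sum_ite_eq'] using hz
    exact hQ (Polynomial.leadingCoeff_eq_zero.mp hz')
  · rintro ⟨M, N, hne⟩
    obtain ⟨φ, hφ0, hle⟩ := Submodule.exists_le_ker_of_lt_top _ (lt_top_iff_ne_top.mpr hne)
    let d : ℕ → L := fun j => if h : j < N + 1 then
      φ (fun k => if (⟨j, h⟩ : Fin (N + 1)) = k then 1 else 0) else 0
    have hφv : ∀ v : Fin (N + 1) → L, φ v = ∑ j : Fin (N + 1), d j * v j := by
      intro v
      rw [LinearMap.pi_apply_eq_sum_univ φ v]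
      apply Finset.sum_congr rfl
      intro j _
      simp only [d, dif_pos j.2, Fin.eta, smul_eq_mul, mul_comm]
    let c : ℕ → L := fun q => d (N - q)
    let Q : Polynomial L := ∑ q ∈ Finset.range (N + 1), Polynomial.C (c q) * Polynomial.X ^ q
    have hQsum : (Q : PowerSeries L) =
        ∑ q ∈ Finset.range (N + 1), PowerSeries.C (c q) * PowerSeries.X ^ q := by
      rw [← Polynomial.coeToPowerSeries.ringHom_apply, map_sum]
      apply Finset.sum_congr rfl
      intro q _
      rw [map_mul, map_pow, Polynomial.coeToPowerSeries.ringHom_apply,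
        Polynomial.coeToPowerSeries.ringHom_apply, Polynomial.coe_C, Polynomial.coe_X]
    have hcoef : ∀ n, M + N ≤ n → PowerSeries.coeff n (f * (Q : PowerSeries L)) = 0 := by
      intro n hn
      rw [hQsum, key c N n (by omega)]
      have hmem : (fun j : Fin (N + 1) => PowerSeries.coeff (n - N + (j : ℕ)) f) ∈
          LinearMap.ker φ := hle (Submodule.subset_span ⟨n - N, by omega, rfl⟩)
      rw [LinearMap.mem_ker, hφv, Fin.sum_univ_eq_sum_range
        (fun j => d j * PowerSeries.coeff (n - N + j) f) (N + 1)] at hmem
      rw [← hmem]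
      apply Finset.sum_congr rfl
      intro j hj
      rw [Finset.mem_range] at hj
      simp only [c]
      congr 2
      omega
    have hQ0 : Q ≠ 0 := by
      intro hQ
      apply hφ0
      have hd : ∀ j, j < N + 1 → d j = 0 := by
        intro j hj
        have h1 : Q.coeff (N - j) = 0 := by rw [hQ]; simp
        have h2 : Q.coeff (N - j) = c (N - j) := by
          simp only [Q, Polynomial.finsetSum_coeff, Polynomial.coeff_C_mul,
            Polynomial.coeff_X_pow, mul_ite, mul_one, mul_zero]
          rw [Finset.sum_ite_eq, if_pos (Finset.mem_range.mpr (by omega))]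
        rw [h2] at h1
        simp only [c] at h1
        rwa [show N - (N - j) = j by omega] at h1
      apply LinearMap.ext
      intro v
      rw [hφv]
      simp only [LinearMap.zero_apply]
      apply Finset.sum_eq_zero
      intro j _
      rw [hd j j.2, zero_mul]
    refine ⟨PowerSeries.trunc (M + N) (f * (Q : PowerSeries L)), Q, hQ0, ?_⟩
    ext n
    rw [Polynomial.coeff_coe, PowerSeries.coeff_trunc]
    split_ifs with hn
    · rfl
    · exact hcoef n (by omega)

end Groth.Agent.S13057
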