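import Groth.Statements.S13058
import Mathlib
import Groth.Agent.S13057

set_option autoImplicit false
universe u v
open Zeta

namespace Groth.Agent.S13058

/-- If L'/L is a field extension, a power series f ∈ L⟦t⟧ belongs to L(t) exactly when it belongs to
L'(t); here membership in L(t) means f · Q = P for polynomials P, Q over the field in question with
Q ≠ 0. -/
theorem result {L : Type u} {L' : Type v} [Field L] [Field L']
    [Algebra L L'] (f : PowerSeries L) :
    (∃ P Q : Polynomial L', Q ≠ 0 ∧
        PowerSeries.map (algebraMap L L') f * (Q : PowerSeries L') = (P : PowerSeries L')) ↔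
      ∃ P Q : Polynomial L, Q ≠ 0 ∧ f * (Q : PowerSeries L) = (P : PowerSeries L) := by
  classical
  constructor
  · intro h
    rw [Groth.Agent.S13057.result] at h ⊢
    obtain ⟨M, N, hne⟩ := h
    refine ⟨M, N, ?_⟩
    intro htop
    apply hne
    let ι : (Fin (N + 1) → L) →ₗ[L] (Fin (N + 1) → L') :=
      (Algebra.linearMap L L').compLeft (Fin (N + 1))
    have hιS : ∀ v ∈ {v : Fin (N + 1) → L | ∃ i : ℕ, M ≤ i ∧
          v = fun j : Fin (N + 1) => PowerSeries.coeff (i + (j : ℕ)) f},
        ι v ∈ {v : Fin (N + 1) → L' | ∃ i : ℕ, M ≤ i ∧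
          v = fun j : Fin (N + 1) =>
            PowerSeries.coeff (i + (j : ℕ)) (PowerSeries.map (algebraMap L L') f)} := by
      rintro v ⟨i, hi, rfl⟩
      refine ⟨i, hi, ?_⟩
      funext j
      simp [ι]
    have hall : ∀ v : Fin (N + 1) → L, ι v ∈ Submodule.span L'
        {v : Fin (N + 1) → L' | ∃ i : ℕ, M ≤ i ∧
          v = fun j : Fin (N + 1) =>
            PowerSeries.coeff (i + (j : ℕ)) (PowerSeries.map (algebraMap L L') f)} := by
      intro v
      have hv : v ∈ Submodule.span L {v : Fin (N + 1) → L | ∃ i : ℕ, M ≤ i ∧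
          v = fun j : Fin (N + 1) => PowerSeries.coeff (i + (j : ℕ)) f} := by
        rw [htop]; trivial
      have h1 : ι v ∈ Submodule.map ι (Submodule.span L {v : Fin (N + 1) → L | ∃ i : ℕ, M ≤ i ∧
          v = fun j : Fin (N + 1) => PowerSeries.coeff (i + (j : ℕ)) f}) :=
        Submodule.mem_map_of_mem hv
      rw [Submodule.map_span] at h1
      have h2 : Submodule.span L (ι '' {v : Fin (N + 1) → L | ∃ i : ℕ, M ≤ i ∧
          v = fun j : Fin (N + 1) => PowerSeries.coeff (i + (j : ℕ)) f}) ≤
          (Submodule.span L' {v : Fin (N + 1) → L' | ∃ i : ℕ, M ≤ i ∧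
            v = fun j : Fin (N + 1) =>
              PowerSeries.coeff (i + (j : ℕ))
                (PowerSeries.map (algebraMap L L') f)}).restrictScalars L := by
        rw [Submodule.span_le]
        rintro _ ⟨v, hv, rfl⟩
        exact Submodule.subset_span (hιS v hv)
      exact h2 h1
    rw [eq_top_iff]
    intro w _
    have hw : w = ∑ j, w j • ι (Pi.single j 1) := by
      funext k
      simp [ι, Pi.single_apply, Finset.sum_apply]
    rw [hw]
    exact Submodule.sum_mem _ (fun j _ => Submodule.smul_mem _ _ (hall _))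
  · rintro ⟨P, Q, hQ, h⟩
    refine ⟨P.map (algebraMap L L'), Q.map (algebraMap L L'), Polynomial.map_ne_zero hQ, ?_⟩
    rw [Polynomial.polynomial_map_coe, Polynomial.polynomial_map_coe, ← map_mul, h]

end Groth.Agent.S13058
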