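import Groth.Statements.S6127
import Mathlib

set_option autoImplicit false
open CategoryTheory CategoryTheory.Limits Opposite
universe u
open SGA4

namespace Groth.Agent.S6127


section aux

variable {C : Type u} [SmallCategory C] (P : ObjectProperty (Cᵒᵖ ⥤ Type u))
    [Reflective P.ι]

/-- Orthogonality: `L m` is an isomorphism iff every object of `P` sees `m` as an isomorphism. -/
lemma iso_iff {A B : Cᵒᵖ ⥤ Type u} (m : A ⟶ B) :
    IsIso ((reflector P.ι).map m) ↔
      ∀ F, P F → Function.Bijective (fun (g : B ⟶ F) => m ≫ g) := by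
  rw [isIso_iff_coyoneda_map_bijective]
  constructor
  · intro h F hF
    have h1 := h ⟨F, hF⟩
    have h2 : (fun (g : B ⟶ F) => m ≫ g) =
        ((reflectorAdjunction P.ι).homEquiv A ⟨F, hF⟩) ∘
          (fun x => (reflector P.ι).map m ≫ x) ∘
          ((reflectorAdjunction P.ι).homEquiv B ⟨F, hF⟩).symm := by
      funext g
      simp only [Function.comp_apply]
      rw [Adjunction.homEquiv_naturality_left, Equiv.apply_symm_apply]
    rw [h2]
    exact (Equiv.bijective _).comp (h1.comp (Equiv.bijective _))
  · intro h T
    have h1 := h T.obj T.property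
    have h2 : (fun (x : (reflector P.ι).obj B ⟶ T) => (reflector P.ι).map m ≫ x) =
        ((reflectorAdjunction P.ι).homEquiv A T).symm ∘
          (fun (g : B ⟶ T.obj) => m ≫ g) ∘
          ((reflectorAdjunction P.ι).homEquiv B T) := by
      funext x
      simp only [Function.comp_apply]
      rw [← Adjunction.homEquiv_naturality_left, Equiv.symm_apply_apply]
    rw [h2]
    exact (Equiv.bijective _).comp (h1.comp (Equiv.bijective _))

lemma isSheafFor_iff_bij {X : C} (S : Sieve X) (F : Cᵒᵖ ⥤ Type u) :
    Presieve.IsSheafFor F S.arrows ↔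
      Function.Bijective (fun (g : yoneda.obj X ⟶ F) => S.functorInclusion ≫ g) := by
  rw [Presieve.isSheafFor_iff_yonedaSheafCondition, Function.bijective_iff_existsUnique]
  rfl

lemma iso_incl_iff {X : C} (S : Sieve X) :
    IsIso ((reflector P.ι).map S.functorInclusion) ↔
      ∀ F, P F → Presieve.IsSheafFor F S.arrows := by
  rw [iso_iff]
  exact forall_congr' (fun F => forall_congr' (fun _ => (isSheafFor_iff_bij S F).symm))


variable [PreservesFiniteLimits (reflector P.ι)]

/-- The canonical map from the functor of a pulled back sieve. -/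
def pullbackTop {X Y : C} (S : Sieve X) (f : Y ⟶ X) : (S.pullback f).functor ⟶ S.functor where
  app Z := ↾(fun g => ⟨g.1 ≫ f, g.2⟩)
  naturality := by
    intro Z W k
    ext g
    apply Subtype.ext
    exact Category.assoc k.unop g.1 f

lemma isPullback_sieve {X Y : C} (S : Sieve X) (f : Y ⟶ X) :
    IsPullback (pullbackTop S f) (S.pullback f).functorInclusion S.functorInclusion
      (yoneda.map f) := by
  apply IsPullback.of_forall_isPullback_app
  intro Z
  rw [Types.isPullback_iff]
  refine ⟨?_, ?_, ?_⟩
  · ext g
    rfl
  · rintro ⟨g₁, h₁⟩ ⟨g₂, h₂⟩ ⟨-, h⟩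
    exact Subtype.ext h
  · rintro ⟨g, hg⟩ k hk
    have hk' : g = k ≫ f := hk
    subst hk'
    exact ⟨⟨k, hg⟩, rfl, rfl⟩

include P in
lemma iso_pullback {X Y : C} (S : Sieve X) (f : Y ⟶ X)
    (h : IsIso ((reflector P.ι).map S.functorInclusion)) :
    IsIso ((reflector P.ι).map (S.pullback f).functorInclusion) := by
  have := (isPullback_sieve S f).map (reflector P.ι)
  exact this.isIso_snd_of_isIso h

lemma iso_imageSieve {A B : Cᵒᵖ ⥤ Type u} (m : A ⟶ B)
    (hm : IsIso ((reflector P.ι).map m)) {X : C} (b : B.obj (op X)) :
    IsIso ((reflector P.ι).map (Presheaf.imageSieve m b).functorInclusion) := by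
  have HP : IsPullback (pullback.fst m (yonedaEquiv.symm b)) (pullback.snd m (yonedaEquiv.symm b))
      m (yonedaEquiv.symm b) := IsPullback.of_hasPullback m (yonedaEquiv.symm b)
  have HP' := HP.map (reflector P.ι)
  have h1 : IsIso ((reflector P.ι).map (pullback.snd m (yonedaEquiv.symm b))) :=
    HP'.isIso_snd_of_isIso hm
  have hmem : ∀ (Z : Cᵒᵖ) (t : (pullback m (yonedaEquiv.symm b)).obj Z),
      (Presheaf.imageSieve m b) ((pullback.snd m (yonedaEquiv.symm b)).app Z t) := by
    intro Z t
    refine ⟨(pullback.fst m (yonedaEquiv.symm b)).app Z t, ?_⟩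
    have h2 := congrArg (fun φ => φ.app Z t) HP.w
    simp only [NatTrans.comp_app, types_comp_apply] at h2
    rw [h2]
    rfl
  let q : pullback m (yonedaEquiv.symm b) ⟶ (Presheaf.imageSieve m b).functor :=
    { app := fun Z => ↾(fun t => ⟨(pullback.snd m (yonedaEquiv.symm b)).app Z t, hmem Z t⟩)
      naturality := by
        intro Z W k
        ext t
        apply Subtype.ext
        exact NatTrans.naturality_apply (pullback.snd m (yonedaEquiv.symm b)) k t }
  have hq : q ≫ (Presheaf.imageSieve m b).functorInclusion =
      pullback.snd m (yonedaEquiv.symm b) := by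
    ext Z t
    rfl
  have h2 : (reflector P.ι).map q ≫
      (reflector P.ι).map (Presheaf.imageSieve m b).functorInclusion =
      (reflector P.ι).map (pullback.snd m (yonedaEquiv.symm b)) := by
    rw [← Functor.map_comp, hq]
  haveI : Mono ((reflector P.ι).map (Presheaf.imageSieve m b).functorInclusion) := inferInstance
  haveI : IsSplitEpi ((reflector P.ι).map (Presheaf.imageSieve m b).functorInclusion) :=
    ⟨⟨⟨inv ((reflector P.ι).map (pullback.snd m (yonedaEquiv.symm b))) ≫ (reflector P.ι).map q, by
      rw [Category.assoc, h2, IsIso.inv_hom_id]⟩⟩⟩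
  exact isIso_of_mono_of_isSplitEpi _

lemma iso_equalizerSieve {A B : Cᵒᵖ ⥤ Type u} (m : A ⟶ B)
    (hm : IsIso ((reflector P.ι).map m)) {X : Cᵒᵖ} (a a' : A.obj X)
    (h : m.app X a = m.app X a') :
    IsIso ((reflector P.ι).map (Presheaf.equalizerSieve (F := A) a a').functorInclusion) := by
  have w : (Presheaf.equalizerSieve (F := A) a a').functorInclusion ≫ yonedaEquiv.symm a =
      (Presheaf.equalizerSieve (F := A) a a').functorInclusion ≫ yonedaEquiv.symm a' := by
    ext Z ⟨g, hg⟩
    have e1 : (yonedaEquiv.symm a).app Z g = A.map g.op a := rfl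
    have e2 : (yonedaEquiv.symm a').app Z g = A.map g.op a' := rfl
    simp only [NatTrans.comp_app, types_comp_apply, Sieve.functorInclusion_app]
    exact e1.trans (hg.trans e2.symm)
  have hl : IsLimit (Fork.ofι _ w) := Fork.IsLimit.mk' _ (fun s => by
    have hmem : ∀ (Z : Cᵒᵖ) (t : s.pt.obj Z), (Presheaf.equalizerSieve (F := A) a a') (s.ι.app Z t) := by
      intro Z t
      have h2 := congrArg (fun φ => φ.app Z t) s.condition
      simp only [NatTrans.comp_app, types_comp_apply] at h2
      have e1 : (yonedaEquiv.symm a).app Z (s.ι.app Z t) = A.map (s.ι.app Z t).op a := rfl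
      have e2 : (yonedaEquiv.symm a').app Z (s.ι.app Z t) = A.map (s.ι.app Z t).op a' := rfl
      exact e1.symm.trans (h2.trans e2)
    refine ⟨{ app := fun Z => ↾(fun t => ⟨s.ι.app Z t, hmem Z t⟩)
              naturality := by
                intro Z W k
                ext t
                apply Subtype.ext
                exact NatTrans.naturality_apply s.ι k t }, ?_, ?_⟩
    · ext Z t
      rfl
    · intro m' hm'
      ext Z t
      apply Subtype.ext
      exact congrArg (fun φ => φ.app Z t) hm')
  have hl' := isLimitForkMapOfIsLimit (reflector P.ι) w hl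
  have heq : (reflector P.ι).map (yonedaEquiv.symm a) =
      (reflector P.ι).map (yonedaEquiv.symm a') := by
    haveI := hm
    rw [← cancel_mono ((reflector P.ι).map m), ← Functor.map_comp, ← Functor.map_comp]
    congr 1
    apply yonedaEquiv.injective
    rw [yonedaEquiv_comp, yonedaEquiv_comp, Equiv.apply_symm_apply, Equiv.apply_symm_apply]
    exact h
  exact isIso_limit_cone_parallelPair_of_eq heq hl'

end aux

/-- Let `C` be a small category and `P` a strictly full subcategory of the category of presheaves of
sets on `C` whose inclusion admits a left adjoint (a reflector) preserving finite limits. Call a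
sieve `S` on `X` covering when the reflector inverts the inclusion of `S`, viewed as a subpresheaf,
into the presheaf represented by `X`. Then these covering sieves form a Grothendieck topology `J` on
`C`, and a presheaf lies in `P` if and only if it is a sheaf for `J`. (This is the half of the
correspondence between topologies on `C` and such reflective subcategories that produces the
topology; the topology is pinned down by its covering sieves.) -/
theorem result
    {C : Type u} [SmallCategory C] (P : ObjectProperty (Cᵒᵖ ⥤ Type u))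
    [P.IsClosedUnderIsomorphisms] [Reflective P.ι] [PreservesFiniteLimits (reflector P.ι)] :
    ∃ J : GrothendieckTopology C,
      (∀ (X : C) (S : Sieve X), S ∈ J X ↔ IsIso ((reflector P.ι).map S.functorInclusion)) ∧
      ∀ F : Cᵒᵖ ⥤ Type u, P F ↔ Presieve.IsSheaf J F := by
  have hJ : ∀ (X : C) (S : Sieve X), S ∈ Sheaf.finestTopology {F | P F} X ↔
      IsIso ((reflector P.ι).map S.functorInclusion) := by
    intro X S
    constructor
    · intro hS
      rw [iso_incl_iff]
      intro F hF
      exact Sheaf.sheaf_for_finestTopology _ hF S hS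
    · intro hiso
      exact Sheaf.mem_finestTopology_of_forall_isSheafFor
        (fun F hF Y f => (iso_incl_iff P _).1 (iso_pullback P S f hiso) F hF)
  refine ⟨Sheaf.finestTopology {F | P F}, hJ, ?_⟩
  intro F
  constructor
  · intro hF
    exact Sheaf.sheaf_for_finestTopology _ hF
  · intro hF
    have hLη : IsIso ((reflector P.ι).map ((reflectorAdjunction P.ι).unit.app F)) := by
      have h1 := (reflectorAdjunction P.ι).left_triangle_components F
      haveI : IsIso ((reflector P.ι).map ((reflectorAdjunction P.ι).unit.app F) ≫
          (reflectorAdjunction P.ι).counit.app ((reflector P.ι).obj F)) := by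
        rw [h1]
        exact IsIso.id _
      exact IsIso.of_isIso_comp_right _ ((reflectorAdjunction P.ι).counit.app ((reflector P.ι).obj F))
    let F' : Sheaf (Sheaf.finestTopology {F | P F}) (Type u) :=
      ⟨F, (isSheaf_iff_isSheaf_of_type _ _).2 hF⟩
    let G' : Sheaf (Sheaf.finestTopology {F | P F}) (Type u) :=
      ⟨((reflector P.ι).obj F).obj, (isSheaf_iff_isSheaf_of_type _ _).2
        (Sheaf.sheaf_for_finestTopology _ ((reflector P.ι).obj F).property)⟩
    let η' : F' ⟶ G' := ObjectProperty.homMk ((reflectorAdjunction P.ι).unit.app F)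
    have hinj : Sheaf.IsLocallyInjective η' :=
      ⟨fun x y h => (hJ _ _).2 (iso_equalizerSieve P _ hLη x y h)⟩
    have hsurj : Sheaf.IsLocallySurjective η' :=
      ⟨fun s => (hJ _ _).2 (iso_imageSieve P _ hLη s)⟩
    have hiso : IsIso η' := (Sheaf.isLocallyBijective_iff_isIso η').1 ⟨hinj, hsurj⟩
    have hiso' : IsIso ((reflectorAdjunction P.ι).unit.app F) := by
      have := Functor.map_isIso (sheafToPresheaf _ _) η'
      exact this
    exact P.prop_of_iso (asIso ((reflectorAdjunction P.ι).unit.app F)).symm
      ((reflector P.ι).obj F).property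

end Groth.Agent.S6127
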