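import Groth.Statements.S9200
import Mathlib

set_option autoImplicit false
set_option backward.isDefEq.respectTransparency false
universe u
open CategoryTheory AlgebraicGeometry
open Lim

namespace Groth.Agent.S9200

/-- Let S be a scheme and X = lim X_i a cofiltered limit of S-schemes X_i (a diagram with a compatible
family of structure maps to S) with affine transition morphisms, every X_i quasi-compact and
quasi-separated; the structure map X → S is the composite X → X_{i₀} → S for any index i₀. Assume S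
is quasi-compact and quasi-separated. If X → S is affine, then X_i → S is affine for all i beyond
some index i₁. -/
theorem result {I : Type u} [SmallCategory I] [IsCofiltered I] (S : Scheme.{u}) [CompactSpace S] [QuasiSeparatedSpace S]
    (D : I ⥤ Scheme.{u}) (t : D ⟶ (Functor.const I).obj S) (c : Limits.Cone D) (hc : Limits.IsLimit c)
    [∀ (i j : I) (a : i ⟶ j), IsAffineHom (D.map a)]
    [∀ i, CompactSpace (D.obj i)] [∀ i, QuasiSeparatedSpace (D.obj i)] (i₀ : I)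
    [IsAffineHom (c.π.app i₀ ≫ t.app i₀)] :
    ∃ i₁ : I, ∀ (i : I) (_ : i ⟶ i₁), IsAffineHom (t.app i) := by
  classical
  let ti : ∀ i, D.obj i ⟶ S := fun i => t.app i
  have hnat : ∀ {i j : I} (a : i ⟶ j), D.map a ≫ ti j = ti i := fun {i j} a => by
    have h := t.naturality a
    simp only [Functor.const_obj_obj, Functor.const_obj_map, Category.comp_id] at h
    exact h
  haveI hqc : ∀ i, QuasiCompact (ti i) := fun i => inferInstance
  haveI haff : IsAffineHom (c.π.app i₀ ≫ ti i₀) := ‹IsAffineHom (c.π.app i₀ ≫ t.app i₀)›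
  -- (b)
  have hb : ∀ U : S.Opens, IsAffineOpen U → ∃ j : I, ∀ (i : I) (_ : i ⟶ j),
      IsAffineOpen (ti i ⁻¹ᵁ U) := by
    intro U hU
    have hpt : IsAffineOpen (c.π.app i₀ ⁻¹ᵁ (ti i₀ ⁻¹ᵁ U)) := by
      rw [← Scheme.Hom.comp_preimage]
      exact hU.preimage (c.π.app i₀ ≫ ti i₀)
    haveI : IsAffine (Limits.Cone.pt (opensCone D c i₀ (ti i₀ ⁻¹ᵁ U))) := hpt
    have hstage : ∀ j : Over i₀, D.map j.hom ⁻¹ᵁ (ti i₀ ⁻¹ᵁ U) = ti j.left ⁻¹ᵁ U := fun j => by
      rw [← Scheme.Hom.comp_preimage, hnat]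
    haveI : ∀ j : Over i₀, CompactSpace ((opensDiagram D i₀ (ti i₀ ⁻¹ᵁ U)).obj j) := fun j => by
      show CompactSpace ↥(D.map j.hom ⁻¹ᵁ (ti i₀ ⁻¹ᵁ U))
      rw [hstage j]
      exact isCompact_iff_compactSpace.mp
        (QuasiCompact.isCompact_preimage (f := ti j.left) _ U.isOpen hU.isCompact)
    haveI : ∀ j : Over i₀, QuasiSeparatedSpace ((opensDiagram D i₀ (ti i₀ ⁻¹ᵁ U)).obj j) :=
      fun j => quasiSeparatedSpace_of_quasiSeparated (D.map j.hom ⁻¹ᵁ (ti i₀ ⁻¹ᵁ U)).ι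
    obtain ⟨j, hj⟩ := Scheme.exists_isAffine_of_isLimit (opensDiagram D i₀ (ti i₀ ⁻¹ᵁ U))
      (opensCone D c i₀ (ti i₀ ⁻¹ᵁ U)) (isLimitOpensCone D c hc i₀ (ti i₀ ⁻¹ᵁ U))
    have hj' : IsAffineOpen (ti j.left ⁻¹ᵁ U) := by
      rw [← hstage j]
      exact hj
    refine ⟨j.left, fun i φ => ?_⟩
    rw [← hnat φ, Scheme.Hom.comp_preimage]
    exact hj'.preimage (D.map φ)
  -- finite affine cover of S
  have hcov : ∀ x : S, ∃ V : S.Opens, IsAffineOpen V ∧ x ∈ V := fun x => by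
    obtain ⟨_, ⟨(V : S.Opens), hV, rfl⟩, hxV, -⟩ :=
      S.isBasis_affineOpens.exists_subset_of_mem_open (Set.mem_univ x) isOpen_univ
    exact ⟨V, hV, hxV⟩
  choose V hVaff hxV using hcov
  obtain ⟨s, hs⟩ := isCompact_univ.elim_finite_subcover (fun x => (V x : Set S))
    (fun x => (V x).isOpen) (fun x _ => Set.mem_iUnion.mpr ⟨x, hxV x⟩)
  choose jU hjU using fun x => hb (V x) (hVaff x)
  obtain ⟨i₁, hi₁⟩ := IsCofiltered.inf_objs_exists (s.image jU)
  refine ⟨i₁, fun i ψ => ?_⟩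
  refine isAffineHom_of_forall_exists_isAffineOpen (f := ti i) fun x => ?_
  obtain ⟨y, hy⟩ := Set.mem_iUnion.mp (hs (Set.mem_univ x))
  obtain ⟨hys, hxy⟩ := Set.mem_iUnion.mp hy
  obtain ⟨χ⟩ := hi₁ (Finset.mem_image_of_mem jU hys)
  exact ⟨V y, hxy, hVaff y, hjU y i (ψ ≫ χ)⟩

end Groth.Agent.S9200
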