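import Groth.Statements.S0594
import Mathlib
import Groth.Agent.S9200
import Groth.Agent.Lib.LimSections_helper7

set_option autoImplicit false
set_option backward.isDefEq.respectTransparency false
universe u
open CategoryTheory AlgebraicGeometry
open Lim

namespace Groth.Agent.S0594

/-- Over a quasi-compact quasi-separated base `S`, let `X` be the limit of a cofiltered system of
quasi-compact quasi-separated `S`-schemes, locally of finite type over `S`, whose transition
morphisms are closed immersions. If `X → S` is a closed immersion then so is `Xᵢ → S` for some index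
`i`. -/
theorem result {I : Type u} [SmallCategory I] [IsCofiltered I]
    (S : Scheme.{u}) [CompactSpace S] [QuasiSeparatedSpace S]
    (D : I ⥤ Scheme.{u}) (t : D ⟶ (Functor.const I).obj S) (c : Limits.Cone D)
    (hc : Limits.IsLimit c) [∀ (i j : I) (f : i ⟶ j), IsClosedImmersion (D.map f)]
    [∀ i, CompactSpace (D.obj i)] [∀ i, QuasiSeparatedSpace (D.obj i)]
    [∀ i, LocallyOfFiniteType (t.app i)] (i₀ : I) [IsClosedImmersion (c.π.app i₀ ≫ t.app i₀)] :
    ∃ i : I, IsClosedImmersion (t.app i) := by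
  classical
  haveI : ∀ (i j : I) (f : i ⟶ j), IsAffineHom (D.map f) := fun _ _ _ => inferInstance
  let ti : ∀ i, D.obj i ⟶ S := fun i => t.app i
  have hnat : ∀ {i j : I} (a : i ⟶ j), D.map a ≫ ti j = ti i := fun {i j} a => by
    have h := t.naturality a
    simp only [Functor.const_obj_obj, Functor.const_obj_map, Category.comp_id] at h
    exact h
  haveI hlft : ∀ i, LocallyOfFiniteType (ti i) := fun i => ‹∀ i, LocallyOfFiniteType (t.app i)› i
  haveI hcl : IsClosedImmersion (c.π.app i₀ ≫ ti i₀) :=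
    ‹IsClosedImmersion (c.π.app i₀ ≫ t.app i₀)›
  have hp : ∀ i, c.π.app i ≫ ti i = c.π.app i₀ ≫ ti i₀ := fun i => by
    rw [← c.w (IsCofiltered.minToLeft i i₀), Category.assoc, hnat,
      ← c.w (IsCofiltered.minToRight i i₀), Category.assoc, hnat]
  haveI : IsAffineHom (c.π.app i₀ ≫ t.app i₀) := inferInstance
  obtain ⟨i₁, hi₁⟩ := Groth.Agent.S9200.result S D t c hc i₀
  have haff : ∀ (i : I) (_ : i ⟶ i₁), IsAffineHom (ti i) := hi₁
  -- Claim A
  have claimA : ∀ U : S.Opens, IsAffineOpen U →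
      ∃ k : Over i₁, Function.Surjective ((ti k.left).app U) := by
    intro U hU
    haveI := haff i₁ (𝟙 i₁)
    have hV : IsAffineOpen (ti i₁ ⁻¹ᵁ U) := hU.preimage (ti i₁)
    have hft : RingHom.FiniteType ((ti i₁).app U).hom := by
      rw [Scheme.Hom.app_eq_appLE]
      exact HasRingHomProperty.appLE (P := @LocallyOfFiniteType) (ti i₁) inferInstance
        ⟨U, hU⟩ ⟨_, hV⟩ le_rfl
    letI : Algebra Γ(S, U) Γ(D.obj i₁, ti i₁ ⁻¹ᵁ U) := ((ti i₁).app U).hom.toAlgebra
    obtain ⟨s, hs⟩ := (show Algebra.FiniteType Γ(S, U) Γ(D.obj i₁, ti i₁ ⁻¹ᵁ U) from hft).out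
    let Q : ∀ {Z : Scheme.{u}} (_ : Z ⟶ D.obj i₁), Γ(D.obj i₁, ti i₁ ⁻¹ᵁ U) → Prop := fun e b =>
      ∃ r : Γ(S, U), e.app (ti i₁ ⁻¹ᵁ U) ((ti i₁).app U r) = e.app (ti i₁ ⁻¹ᵁ U) b
    have Qcomp : ∀ {Z Z' : Scheme.{u}} (g : Z' ⟶ Z) (e : Z ⟶ D.obj i₁) (b), Q e b →
        Q (g ≫ e) b := by
      rintro Z Z' g e b ⟨r, hr⟩
      exact ⟨r, by
        rw [Groth.Agent.Lib.LimSectionsH7.comp_app_apply,
          Groth.Agent.Lib.LimSectionsH7.comp_app_apply, hr]⟩
    have Qcongr : ∀ {Z : Scheme.{u}} {e e' : Z ⟶ D.obj i₁} (_ : e = e') (b), Q e b → Q e' b := by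
      rintro Z e e' rfl b h
      exact h
    have single : ∀ b, ∃ k : Over i₁, Q (D.map k.hom) b := by
      intro b
      haveI : IsClosedImmersion (c.π.app i₁ ≫ ti i₁) := by rw [hp]; exact hcl
      obtain ⟨r, hr⟩ := Scheme.Hom.app_surjective (c.π.app i₁ ≫ ti i₁) U hU
        ((c.π.app i₁).app (ti i₁ ⁻¹ᵁ U) b)
      rw [Groth.Agent.Lib.LimSectionsH7.comp_app_apply] at hr
      obtain ⟨j, f, hf⟩ := exists_app_map_eq_map_of_isLimit D c hc hV.isCompact _ _ hr
      exact ⟨Over.mk f, r, hf⟩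
    have all : ∀ s : Finset Γ(D.obj i₁, ti i₁ ⁻¹ᵁ U),
        ∃ k : Over i₁, ∀ b ∈ s, Q (D.map k.hom) b := by
      intro s
      induction s using Finset.induction_on with
      | empty => exact ⟨Over.mk (𝟙 i₁), fun b hb => absurd hb (Finset.notMem_empty b)⟩
      | insert b s hbs ih =>
        obtain ⟨k, hk⟩ := ih
        obtain ⟨kb, hkb⟩ := single b
        refine ⟨IsCofiltered.min k kb, fun b' hb' => ?_⟩
        rcases Finset.mem_insert.mp hb' with rfl | hb'
        · refine Qcongr ?_ _ (Qcomp (D.map (IsCofiltered.minToRight k kb).left) _ _ hkb)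
          rw [← D.map_comp, Over.w]
        · refine Qcongr ?_ _ (Qcomp (D.map (IsCofiltered.minToLeft k kb).left) _ _ (hk b' hb'))
          rw [← D.map_comp, Over.w]
    obtain ⟨k, hk⟩ := all s
    refine ⟨k, ?_⟩
    have hall : ∀ b, Q (D.map k.hom) b := by
      intro b
      have hb : b ∈ Algebra.adjoin Γ(S, U) (↑s : Set Γ(D.obj i₁, ti i₁ ⁻¹ᵁ U)) := by
        rw [hs]; trivial
      induction hb using Algebra.adjoin_induction with
      | mem x hx => exact hk x (Finset.mem_coe.mp hx)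
      | algebraMap r => exact ⟨r, rfl⟩
      | add x y _ _ hx hy =>
        obtain ⟨r1, h1⟩ := hx
        obtain ⟨r2, h2⟩ := hy
        exact ⟨r1 + r2, by rw [map_add, map_add, map_add, h1, h2]⟩
      | mul x y _ _ hx hy =>
        obtain ⟨r1, h1⟩ := hx
        obtain ⟨r2, h2⟩ := hy
        exact ⟨r1 * r2, by rw [map_mul, map_mul, map_mul, h1, h2]⟩
    refine Groth.Agent.Lib.LimSectionsH7.surjective_app_of_eq (hnat k.hom) U ?_
    intro z
    obtain ⟨b, hb⟩ := Scheme.Hom.app_surjective (D.map k.hom) (ti i₁ ⁻¹ᵁ U) hV z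
    obtain ⟨r, hr⟩ := hall b
    exact ⟨r, by rw [Groth.Agent.Lib.LimSectionsH7.comp_app_apply, hr, hb]⟩
  -- Claim B: persistence
  have claimB : ∀ (U : S.Opens), IsAffineOpen U → ∀ (k : I) (_ : k ⟶ i₁),
      Function.Surjective ((ti k).app U) → ∀ (k' : I) (g : k' ⟶ k),
      Function.Surjective ((ti k').app U) := by
    intro U hU k f h k' g
    haveI := haff k f
    exact Groth.Agent.Lib.LimSectionsH7.surjective_app_of_eq (hnat g) U
      (Groth.Agent.Lib.LimSectionsH7.surjective_comp_app (D.map g) (ti k) U h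
        (Scheme.Hom.app_surjective (D.map g) (ti k ⁻¹ᵁ U) (hU.preimage (ti k))))
  -- finite affine cover of S
  have hcov : ∀ x : S, ∃ V : S.Opens, IsAffineOpen V ∧ x ∈ V := fun x => by
    obtain ⟨_, ⟨(V : S.Opens), hV, rfl⟩, hxV, -⟩ :=
      S.isBasis_affineOpens.exists_subset_of_mem_open (Set.mem_univ x) isOpen_univ
    exact ⟨V, hV, hxV⟩
  choose V hVaff hxV using hcov
  obtain ⟨sf, hsf⟩ := isCompact_univ.elim_finite_subcover (fun x => (V x : Set S))
    (fun x => (V x).isOpen) (fun x _ => Set.mem_iUnion.mpr ⟨x, hxV x⟩)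
  choose kx hkx using fun x => claimA (V x) (hVaff x)
  obtain ⟨i, hi⟩ := IsCofiltered.inf_objs_exists (insert i₁ (sf.image fun x => (kx x).left))
  obtain ⟨φ₁⟩ := hi (Finset.mem_insert_self i₁ _)
  haveI := haff i φ₁
  refine ⟨i, Groth.Agent.Lib.LimSectionsH7.isClosedImmersion_of_surjective_app (ti i) fun y => ?_⟩
  obtain ⟨x, hx⟩ := Set.mem_iUnion.mp (hsf (Set.mem_univ y))
  obtain ⟨hxs, hyx⟩ := Set.mem_iUnion.mp hx
  obtain ⟨φx⟩ := hi (Finset.mem_insert_of_mem (Finset.mem_image_of_mem (fun x => (kx x).left) hxs))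
  exact ⟨V x, hyx, hVaff x, claimB (V x) (hVaff x) (kx x).left (kx x).hom (hkx x) i φx⟩

end Groth.Agent.S0594
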