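import Groth.Statements.S4851
import Mathlib
import Groth.Agent.Lib.StalkInj_helper6
import Groth.Agent.Lib.FlatSec_helper8
import Groth.Agent.Lib.KerFP_helper6
import Groth.Agent.S4863

set_option autoImplicit false
universe u
open EGA43

namespace Groth.Agent.S4851

open AlgebraicGeometry CategoryTheory Limits in
/-- Let f : X ⟶ Y be locally of finite presentation, F and F' quasi-coherent O_X-modules of finite
presentation and u : F' ⟶ F a homomorphism. Then the set of points x of X at which the stalk map u_x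
is injective and Coker u is f-flat at x is open in X. (No flatness hypothesis on F is made; the form
of this openness statement in which F is moreover assumed f-flat is a special case.) -/
theorem result {X Y : Scheme.{u}} (f : X ⟶ Y)
    [LocallyOfFinitePresentation f] (F F' : X.Modules) [Coh.IsQCoh F] [Coh.IsQCoh F']
    (hF : CohB1.IsFP F) (hF' : CohB1.IsFP F') (u : F' ⟶ F) :
    IsOpen {x : X | Function.Injective ((TopCat.Presheaf.stalkFunctor Ab x).map (Scheme.Modules.Hom.mapPresheaf u)) ∧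
      FlatMod.IsFlatOverAt f (cokernel u) x} := by
  classical
  haveI : F.IsQuasicoherent := ‹Coh.IsQCoh F›
  haveI : F'.IsQuasicoherent := ‹Coh.IsQCoh F'›
  haveI : SheafOfModules.IsFinitePresentation (R := X.ringCatSheaf) F := hF
  haveI : SheafOfModules.IsFinitePresentation (R := X.ringCatSheaf) F' := hF'
  haveI hGq : (cokernel u).IsQuasicoherent := FComplH8.isQuasicoherent_cokernel u
  have hGfp : CohB1.IsFP (cokernel u) := Groth.Agent.Lib.StalkInjH6.isFP_cokernel u
  haveI : Coh.IsQCoh (cokernel u) := hGq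
  have hopen := Groth.Agent.S4863.result f (cokernel u) hGfp
  rw [isOpen_iff_forall_mem_open]
  rintro x ⟨hinj0, hflat⟩
  have hinj : Function.Injective (Groth.Agent.IsoCrit.stalkAdd u x) := hinj0
  obtain ⟨V, hV, hyV, -⟩ := TopologicalSpace.Opens.isBasis_iff_nbhd.mp Y.isBasis_affineOpens
    (show f.base x ∈ (⊤ : Y.Opens) from trivial)
  let W : X.Opens := ⟨_, hopen⟩
  obtain ⟨U, hU, hxU, eU⟩ := TopologicalSpace.Opens.isBasis_iff_nbhd.mp X.isBasis_affineOpens
    (show x ∈ f ⁻¹ᵁ V ⊓ W from ⟨hyV, hflat⟩)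
  have e : U ≤ f ⁻¹ᵁ V := eU.trans inf_le_left
  have hUW : ∀ y ∈ U, FlatMod.IsFlatOverAt f (cokernel u) y := fun y hy => (eU hy).2
  letI algAB : Algebra Γ(Y, V) Γ(X, U) := (f.appLE V U e).hom.toAlgebra
  letI mA : Module Γ(Y, V) Γ(cokernel u, U) := Module.compHom _ (f.appLE V U e).hom
  haveI : IsScalarTower Γ(Y, V) Γ(X, U) Γ(cokernel u, U) :=
    IsScalarTower.of_algebraMap_smul (fun _ _ => rfl)
  haveI : Algebra.FinitePresentation Γ(Y, V) Γ(X, U) :=
    HasRingHomProperty.appLE (P := @LocallyOfFinitePresentation) f inferInstance ⟨V, hV⟩ ⟨U, hU⟩ e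
  haveI : Module.FinitePresentation Γ(X, U) Γ(F, U) :=
    QCohFP2.finitePresentation_of_isFinitePresentation F hU
  haveI : Module.FinitePresentation Γ(X, U) Γ(F', U) :=
    QCohFP2.finitePresentation_of_isFinitePresentation F' hU
  haveI : Module.FinitePresentation Γ(X, U) Γ(cokernel u, U) :=
    Groth.Agent.Lib.StalkInjH6.finitePresentation_sections_cokernel u hU
  haveI : Module.Flat Γ(Y, V) Γ(cokernel u, U) :=
    FlatSecH8.flat_sections_of_flat_stalks f (cokernel u) hU e
      (fun y hy => (FlatSecH8.isFlatOverAt_iff_flat_stalk f (cokernel u) hV e hy).mp (hUW y hy))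
  set π := Groth.Agent.Lib.StalkInjH6.apLin (cokernel.π u) U with hπdef
  have hπ : Function.Surjective π := QCohExact.app_surjective_of_epi (cokernel.π u) hU
  haveI : Module.FinitePresentation Γ(X, U) (LinearMap.ker π) :=
    Groth.Agent.Lib.KerFPH6.finitePresentation_ker_of_flat (A := Γ(Y, V)) π hπ
  set φ := Groth.Agent.Lib.StalkInjH6.apLin u U with hφdef
  have hφπ : ∀ m, φ m ∈ LinearMap.ker π := fun m =>
    LinearMap.mem_ker.mpr (Groth.Agent.Lib.StalkInjH6.cokernel_π_app_app u U m)
  let φ' : Γ(F', U) →ₗ[Γ(X, U)] LinearMap.ker π := φ.codRestrict _ hφπ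
  have hφ' : Function.Surjective φ' := by
    rintro ⟨z, hz⟩
    obtain ⟨m, hm⟩ := Groth.Agent.Lib.StalkInjH6.exists_app_eq_of_cokernel_π_app_eq_zero u hU z
      (show (cokernel.π u).app U z = 0 from hz)
    exact ⟨m, Subtype.ext hm⟩
  have hK : (LinearMap.ker φ').FG := Module.FinitePresentation.fg_ker φ' hφ'
  obtain ⟨S, hS⟩ := hK
  set T := (hU.primeIdealOf ⟨x, hxU⟩).asIdeal.primeCompl with hT
  have hker_iff : ∀ k : Γ(F', U), k ∈ LinearMap.ker φ' ↔ u.app U k = 0 := by
    intro k
    rw [LinearMap.mem_ker]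
    constructor
    · intro h
      exact congrArg Subtype.val h
    · intro h
      exact Subtype.ext h
  have hkill : ∀ k ∈ S, ∃ t ∈ T, t • k = 0 := by
    intro k hk
    have hk' : k ∈ LinearMap.ker φ' := hS ▸ Submodule.subset_span hk
    exact Groth.Agent.Lib.StalkInjH6.exists_smul_eq_zero_of_injective_stalkAdd u hU hxU hinj k
      ((hker_iff k).mp hk')
  choose! t ht using hkill
  have hgT : (∏ k ∈ S, t k) ∈ T := Submonoid.prod_mem T (fun k hk => (ht k hk).1)
  have hgk : ∀ k ∈ LinearMap.ker φ', (∏ k ∈ S, t k) • k = 0 := by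
    intro k hk
    rw [← hS] at hk
    refine Submodule.span_induction ?_ ?_ ?_ ?_ hk
    · intro k hkS
      rw [← Finset.mul_prod_erase S t hkS, mul_comm, mul_smul, (ht k hkS).2, smul_zero]
    · exact smul_zero _
    · intro a b _ _ ha hb
      rw [smul_add, ha, hb, add_zero]
    · intro r a _ ha
      rw [smul_comm, ha, smul_zero]
  refine ⟨(X.basicOpen (∏ k ∈ S, t k) : Set X), ?_, (X.basicOpen _).isOpen,
    Groth.Agent.Lib.StalkInjH6.mem_basicOpen_of_mem_primeCompl hU hxU hgT⟩
  intro y hy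
  have hyU : y ∈ U := X.basicOpen_le _ hy
  refine ⟨?_, hUW y hyU⟩
  show Function.Injective (Groth.Agent.IsoCrit.stalkAdd u y)
  apply Groth.Agent.Lib.StalkInjH6.injective_stalkAdd_of_forall u hU hyU
  intro m hm
  exact ⟨_, StalkLocH8.notMem_prime_of_mem_basicOpen hU hyU hy, hgk m ((hker_iff m).mpr hm)⟩

end Groth.Agent.S4851
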