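import Groth.Statements.S2076
import Mathlib
import Groth.Agent.Lib.LimCI_helper7

set_option autoImplicit false
set_option backward.isDefEq.respectTransparency false
universe u
open CategoryTheory AlgebraicGeometry
open Lim

namespace Groth.Agent.S2076

/-- Let `X = lim X_i` be a cofiltered limit of quasi-compact schemes over `S` with affine transition
morphisms and `h : Y → X` a closed immersion with `Y → S` locally of finite type. Then `Y → X_i` is
a closed immersion for some `i`. -/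
theorem result {I : Type u} [SmallCategory I] [IsCofiltered I] (S : Scheme.{u})
    (D : I ⥤ Over S) (c : Limits.Cone D) (hc : Limits.IsLimit c)
    [∀ (i j : I) (f : i ⟶ j), IsAffineHom (D.map f).left] [∀ i, CompactSpace (D.obj i).left]
    {Y : Scheme.{u}} (h : Y ⟶ c.pt.left) [IsClosedImmersion h] [LocallyOfFiniteType (h ≫ c.pt.hom)] :
    ∃ i : I, IsClosedImmersion (h ≫ (c.π.app i).left) := by
  classical
  haveI : IsConnected I := IsCofiltered.isConnected I
  let D' : I ⥤ Scheme.{u} := D ⋙ Over.forget S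
  let c' : Limits.Cone D' := (Over.forget S).mapCone c
  have hc' : Limits.IsLimit c' := Limits.isLimitOfPreserves (Over.forget S) hc
  haveI : ∀ (i j : I) (f : i ⟶ j), IsAffineHom (D'.map f) := fun i j f =>
    ‹∀ (i j : I) (f : i ⟶ j), IsAffineHom (D.map f).left› i j f
  haveI : ∀ i, CompactSpace (D'.obj i) := fun i => ‹∀ i, CompactSpace (D.obj i).left› i
  obtain ⟨i₀⟩ := IsCofiltered.nonempty (C := I)
  let π : ∀ i, c.pt.left ⟶ D'.obj i := fun i => c'.π.app i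
  have hπw : ∀ {i j : I} (a : i ⟶ j), π i ≫ D'.map a = π j := fun {i j} a => c'.w a
  haveI hπaff : ∀ i, IsAffineHom (π i) := fun i => isAffineHom_π_app D' c' hc' i
  haveI hlft : LocallyOfFiniteType (h ≫ π i₀) := by
    haveI : LocallyOfFiniteType ((h ≫ π i₀) ≫ (D.obj i₀).hom) := by
      have h1 : π i₀ ≫ (D.obj i₀).hom = c.pt.hom := Over.w (c.π.app i₀)
      rw [Category.assoc, h1]
      infer_instance
    exact locallyOfFiniteType_of_comp (h ≫ π i₀) (D.obj i₀).hom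
  -- the local claim
  have claim : ∀ U : (D'.obj i₀).Opens, IsAffineOpen U → ∃ k : Over i₀,
      ∀ (k' : Over i₀) (_ : k' ⟶ k),
        IsClosedImmersion ((h ≫ π k'.left) ∣_ (D'.map k'.hom ⁻¹ᵁ U)) := by
    intro U hU
    haveI : ∀ k : Over i₀, IsAffine ((opensDiagram D' i₀ U).obj k) := fun k =>
      hU.preimage (D'.map k.hom)
    have hUc := isLimitOpensCone D' c' hc' i₀ U
    haveI hVaff : IsAffine (opensCone D' c' i₀ U).pt := hU.preimage (π i₀)
    haveI : IsAffine ((π i₀ ⁻¹ᵁ U : c.pt.left.Opens) : Scheme.{u}) := hU.preimage (π i₀)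
    -- the restricted closed immersion
    let hU' : ((h ⁻¹ᵁ (π i₀ ⁻¹ᵁ U) : Y.Opens) : Scheme.{u}) ⟶ (opensCone D' c' i₀ U).pt :=
      h ∣_ (π i₀ ⁻¹ᵁ U)
    haveI : IsClosedImmersion hU' := by
      show IsClosedImmersion (h ∣_ (π i₀ ⁻¹ᵁ U))
      infer_instance
    haveI hWaff : IsAffine ((h ⁻¹ᵁ (π i₀ ⁻¹ᵁ U) : Y.Opens) : Scheme.{u}) :=
      isAffine_of_isAffineHom hU'
    have hsurjh : Function.Surjective hU'.appTop :=
      (IsClosedImmersion.isAffine_surjective_of_isAffine hU').2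
    let G : ∀ k : Over i₀, ((h ⁻¹ᵁ (π i₀ ⁻¹ᵁ U) : Y.Opens) : Scheme.{u}) ⟶
        (opensDiagram D' i₀ U).obj k := fun k => hU' ≫ (opensCone D' c' i₀ U).π.app k
    have hG : ∀ {k' k : Over i₀} (χ : k' ⟶ k), G k' ≫ (opensDiagram D' i₀ U).map χ = G k :=
      fun {k' k} χ => by
        show (hU' ≫ (opensCone D' c' i₀ U).π.app k') ≫ (opensDiagram D' i₀ U).map χ = _
        rw [Category.assoc, (opensCone D' c' i₀ U).w]
    have hGres : ∀ k : Over i₀, ∃ hle : h ⁻¹ᵁ (π i₀ ⁻¹ᵁ U) ≤ (h ≫ π k.left) ⁻¹ᵁ (D'.map k.hom ⁻¹ᵁ U),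
        G k = (h ≫ π k.left).resLE (D'.map k.hom ⁻¹ᵁ U) (h ⁻¹ᵁ (π i₀ ⁻¹ᵁ U)) hle := by
      intro k
      have hle : h ⁻¹ᵁ (π i₀ ⁻¹ᵁ U) ≤ (h ≫ π k.left) ⁻¹ᵁ (D'.map k.hom ⁻¹ᵁ U) := by
        rw [Scheme.Hom.comp_preimage, ← Scheme.Hom.comp_preimage (π k.left), hπw]
      refine ⟨hle, ?_⟩
      show (h ∣_ (π i₀ ⁻¹ᵁ U)) ≫ (c'.π.app k.left).resLE _ _ _ = _
      rw [← Scheme.Hom.resLE_eq_morphismRestrict, Scheme.Hom.resLE_comp_resLE]
    let k₀ : Over i₀ := Over.mk (𝟙 i₀)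
    haveI hlftG : LocallyOfFiniteType (G k₀) := by
      obtain ⟨hle, hGk⟩ := hGres k₀
      haveI : LocallyOfFiniteType (G k₀ ≫ (D'.map k₀.hom ⁻¹ᵁ U).ι) := by
        rw [hGk, Scheme.Hom.resLE_comp_ι]
        have h2 : h ≫ π k₀.left = h ≫ π i₀ := rfl
        rw [h2]
        infer_instance
      exact locallyOfFiniteType_of_comp (G k₀) (D'.map k₀.hom ⁻¹ᵁ U).ι
    have hft : RingHom.FiniteType (G k₀).appTop.hom :=
      HasRingHomProperty.appTop (P := @LocallyOfFiniteType) _ inferInstance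
    letI : Algebra Γ((opensDiagram D' i₀ U).obj k₀, ⊤)
        Γ(((h ⁻¹ᵁ (π i₀ ⁻¹ᵁ U) : Y.Opens) : Scheme.{u}), ⊤) := (G k₀).appTop.hom.toAlgebra
    obtain ⟨s, hs⟩ := (show Algebra.FiniteType Γ((opensDiagram D' i₀ U).obj k₀, ⊤)
        Γ(((h ⁻¹ᵁ (π i₀ ⁻¹ᵁ U) : Y.Opens) : Scheme.{u}), ⊤) from hft).out
    have single : ∀ y : Γ(((h ⁻¹ᵁ (π i₀ ⁻¹ᵁ U) : Y.Opens) : Scheme.{u}), ⊤),
        ∃ k : Over i₀, y ∈ Set.range (G k).appTop := by
      intro y
      obtain ⟨x, hx⟩ := hsurjh y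
      obtain ⟨k, tt, ht⟩ := exists_appTop_π_eq_of_isAffine_of_isLimit (opensDiagram D' i₀ U)
        (opensCone D' c' i₀ U) hUc x
      exact ⟨k, tt, (Groth.Agent.Lib.LimCIH7.appTop_comp_apply hU' _ tt).trans
        ((congrArg _ ht).trans hx)⟩
    have persist : ∀ (y : Γ(((h ⁻¹ᵁ (π i₀ ⁻¹ᵁ U) : Y.Opens) : Scheme.{u}), ⊤)) (k : Over i₀),
        y ∈ Set.range (G k).appTop → ∀ (k' : Over i₀) (_ : k' ⟶ k),
        y ∈ Set.range (G k').appTop := by
      rintro y k ⟨tt, htt⟩ k' χ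
      refine ⟨((opensDiagram D' i₀ U).map χ).appTop tt, ?_⟩
      rw [← Groth.Agent.Lib.LimCIH7.appTop_comp_apply,
        Groth.Agent.Lib.LimCIH7.appTop_congr (hG χ), htt]
    have all : ∀ s : Finset Γ(((h ⁻¹ᵁ (π i₀ ⁻¹ᵁ U) : Y.Opens) : Scheme.{u}), ⊤),
        ∃ k : Over i₀, ∀ y ∈ s, y ∈ Set.range (G k).appTop := by
      intro s
      induction s using Finset.induction_on with
      | empty => exact ⟨k₀, fun y hy => absurd hy (Finset.notMem_empty y)⟩
      | insert y s hys ih =>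
        obtain ⟨k, hk⟩ := ih
        obtain ⟨ky, hky⟩ := single y
        refine ⟨IsCofiltered.min k ky, fun y' hy' => ?_⟩
        rcases Finset.mem_insert.mp hy' with rfl | hy'
        · exact persist _ ky hky _ (IsCofiltered.minToRight k ky)
        · exact persist _ k (hk y' hy') _ (IsCofiltered.minToLeft k ky)
    obtain ⟨k, hk⟩ := all s
    refine ⟨k, fun k' χ => ?_⟩
    -- surjectivity at stage k'
    have hsurj : Function.Surjective (G k').appTop := by
      intro y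
      have hy : y ∈ Algebra.adjoin Γ((opensDiagram D' i₀ U).obj k₀, ⊤)
          (↑s : Set Γ(((h ⁻¹ᵁ (π i₀ ⁻¹ᵁ U) : Y.Opens) : Scheme.{u}), ⊤)) := by
        rw [hs]; trivial
      have key : y ∈ (G k').appTop.hom.range := by
        induction hy using Algebra.adjoin_induction with
        | mem x hx => exact persist x k (hk x (Finset.mem_coe.mp hx)) k' χ
        | algebraMap r =>
          refine ⟨((opensDiagram D' i₀ U).map (Over.mkIdTerminal.from k')).appTop r, ?_⟩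
          show (G k').appTop (((opensDiagram D' i₀ U).map (Over.mkIdTerminal.from k')).appTop r) =
            (G k₀).appTop r
          rw [← Groth.Agent.Lib.LimCIH7.appTop_comp_apply,
            Groth.Agent.Lib.LimCIH7.appTop_congr (hG (Over.mkIdTerminal.from k'))]
        | add x y _ _ hx hy => exact Subring.add_mem _ hx hy
        | mul x y _ _ hx hy => exact Subring.mul_mem _ hx hy
      exact key
    have hCI : IsClosedImmersion (G k') := IsClosedImmersion.of_surjective_of_isAffine (G k') hsurj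
    obtain ⟨hle, hGk⟩ := hGres k'
    rw [hGk] at hCI
    have e₂ : h ⁻¹ᵁ (π i₀ ⁻¹ᵁ U) = (h ≫ π k'.left) ⁻¹ᵁ (D'.map k'.hom ⁻¹ᵁ U) := by
      rw [Scheme.Hom.comp_preimage, ← Scheme.Hom.comp_preimage (π k'.left), hπw]
    rw [← Scheme.Hom.resLE_eq_morphismRestrict]
    exact (Scheme.Hom.resLE_congr (h ≫ π k'.left) hle rfl e₂ @IsClosedImmersion).mp hCI
  -- finite affine cover of the stage
  have hcov : ∀ x : D'.obj i₀, ∃ V : (D'.obj i₀).Opens, IsAffineOpen V ∧ x ∈ V := fun x => by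
    obtain ⟨_, ⟨(V : (D'.obj i₀).Opens), hV, rfl⟩, hxV, -⟩ :=
      (D'.obj i₀).isBasis_affineOpens.exists_subset_of_mem_open (Set.mem_univ x) isOpen_univ
    exact ⟨V, hV, hxV⟩
  choose V hVaff hxV using hcov
  obtain ⟨sf, hsf⟩ := isCompact_univ.elim_finite_subcover (fun x => (V x : Set (D'.obj i₀)))
    (fun x => (V x).isOpen) (fun x _ => Set.mem_iUnion.mpr ⟨x, hxV x⟩)
  have hUtop : (⨆ x : sf, V x.1) = ⊤ := by
    rw [eq_top_iff]
    intro x _
    obtain ⟨y, hy⟩ := Set.mem_iUnion.mp (hsf (Set.mem_univ x))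
    obtain ⟨hys, hxy⟩ := Set.mem_iUnion.mp hy
    exact TopologicalSpace.Opens.mem_iSup.mpr ⟨⟨y, hys⟩, hxy⟩
  choose kx hkx using fun x => claim (V x) (hVaff x)
  obtain ⟨k, hk⟩ := IsCofiltered.inf_objs_exists (sf.image kx)
  refine ⟨k.left, ?_⟩
  show IsClosedImmersion (h ≫ π k.left)
  refine IsZariskiLocalAtTarget.of_iSup_eq_top (fun x : sf => D'.map k.hom ⁻¹ᵁ V x.1)
    ((D'.map k.hom).iSup_preimage_eq_top hUtop) fun x => ?_
  obtain ⟨χ⟩ := hk (Finset.mem_image_of_mem kx x.2)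
  exact hkx x.1 k χ

end Groth.Agent.S2076
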