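import Groth.Statements.S6433
-- import your own Groth.Agent.* helpers here

set_option autoImplicit false
open CategoryTheory
universe v u v' u'
open CatLoc

namespace Groth.Agent.S6433

theorem common_denominator_finset {C : Type u} [Category.{v} C] (W : MorphismProperty C)
    [W.HasLeftCalculusOfFractions] {ι : Type} (Y : C) (Z : ι → C) (s : ∀ i, Y ⟶ Z i)
    (hs : ∀ i, W (s i)) (S : Finset ι) :
    ∃ (Y' : C) (t : Y ⟶ Y') (_ : W t), ∀ i ∈ S, ∃ u : Z i ⟶ Y', s i ≫ u = t := by
  classical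
  induction S using Finset.induction_on with
  | empty => exact ⟨Y, 𝟙 Y, W.id_mem Y, by simp⟩
  | insert a S _ ih =>
    obtain ⟨Y', t, ht, hu⟩ := ih
    obtain ⟨ψ, hψ⟩ := (MorphismProperty.RightFraction.mk (s a) (hs a) t).exists_leftFraction
    dsimp at hψ
    refine ⟨ψ.Y', t ≫ ψ.s, W.comp_mem _ _ ht ψ.hs, ?_⟩
    intro i hi
    rw [Finset.mem_insert] at hi
    by_cases hia : i = a
    · subst hia
      exact ⟨ψ.f, hψ.symm⟩
    · obtain ⟨u, hu'⟩ := hu i (hi.resolve_left hia)
      exact ⟨u ≫ ψ.s, by rw [← Category.assoc, hu']⟩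

/-- For a left multiplicative system `W` and a localization functor `L`, any finite family of morphisms
`L X_i ⟶ L Y` admits a common denominator: some `s : Y ⟶ Y'` in `W` and morphisms `f_i : X_i ⟶ Y'`
with `g_i = L(s)⁻¹ L(f_i)`. -/
theorem result {C : Type u} [Category.{v} C] {D : Type u'} [Category.{v'} D] (W : MorphismProperty C) (L : C ⥤ D) [L.IsLocalization W] [W.HasLeftCalculusOfFractions]
    {ι : Type} [Finite ι] (X : ι → C) (Y : C) (g : ∀ i, L.obj (X i) ⟶ L.obj Y) :
    ∃ (Y' : C) (s : Y ⟶ Y') (_ : W s) (f : ∀ i, X i ⟶ Y'), ∀ i, g i ≫ L.map s = L.map (f i) := by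
  classical
  have := Fintype.ofFinite ι
  choose φ hφ using fun i => Localization.exists_leftFraction L W (g i)
  obtain ⟨Y', t, ht, hu⟩ := common_denominator_finset W Y (fun i => (φ i).Y') (fun i => (φ i).s)
    (fun i => (φ i).hs) Finset.univ
  choose u hu using fun i => hu i (Finset.mem_univ i)
  refine ⟨Y', t, ht, fun i => (φ i).f ≫ u i, ?_⟩
  intro i
  rw [hφ i, ← hu i, L.map_comp, L.map_comp, MorphismProperty.LeftFraction.map_comp_map_s_assoc]

end Groth.Agent.S6433
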