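import Groth.Statements.S0460
import Groth.Agent.Lib.KillClass_helper2

set_option autoImplicit false
universe u
open CategoryTheory
open CohTop

namespace Groth.Agent.S0460

open TopologicalSpace in
/-- Given an abelian sheaf F, an open U and a class ξ in H^(n+1)(U, F), there is an open covering of U
on each member of which ξ restricts to zero. -/
theorem result {X : TopCat.{u}} (F : CohTop.Ab X) (U : Opens X) (n : ℕ)
    (ξ : CohTop.HU F (n + 1) U) :
    ∃ (ι : Type u) (V : ι → Opens X) (hV : ∀ i, V i ≤ U), iSup V = U ∧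
      ∀ i, CohTop.res F (n + 1) (hV i) ξ = 0 := by
  obtain ⟨S, hS, h⟩ := Groth.Agent.Lib.KillClass.exists_sieve_comp_eq_zero
    (Opens.grothendieckTopology X) n F U ξ
  refine ⟨{V : Opens X // ∃ h : V ≤ U, S (homOfLE h)}, fun i => i.1, fun i => i.2.choose, ?_, ?_⟩
  · apply le_antisymm
    · exact iSup_le fun i => i.2.choose
    · intro x hx
      obtain ⟨V, f, hf, hxV⟩ := hS x hx
      have hmem : S (homOfLE (leOfHom f)) := by
        have : homOfLE (leOfHom f) = f := Subsingleton.elim _ _
        rw [this]
        exact hf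
      exact (Opens.mem_iSup).2 ⟨⟨V, leOfHom f, hmem⟩, hxV⟩
  · intro i
    exact h _ i.2.choose_spec

end Groth.Agent.S0460
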