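import Groth.Statements.S6022
import Mathlib
import Groth.Agent.Lib.HZsh_helper2

set_option autoImplicit false
universe u
open CategoryTheory CategoryTheory.Limits TopologicalSpace
open LocCohZ

namespace Groth.Agent.S6022

open Groth.Agent.Lib.HZsh


/-- Consider a topological space X carrying a sheaf of abelian groups F, a natural number n, and a
closed subset Y of X whose complement is the open set U. The local cohomology sheaves ℋ^i_Y(F) are
zero for every i < n exactly when, for each open V of X, the groups H^i_{Y∩V}(V, F) are zero for
every i < n. -/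
theorem result {X : TopCat.{u}} (F : CohTop.Ab X) (U : Opens X) (n : ℕ) :
    (∀ i : ℕ, i < n → IsZero ((LocCohZ.HZsh U i).obj F)) ↔
      ∀ (V : Opens X) (i : ℕ), i < n → Subsingleton (LocCohZ.HZ F i (inf_le_left : V ⊓ U ≤ V)) := by
  obtain ⟨R⟩ : Nonempty (InjectiveResolution F) := ⟨injectiveResolution F⟩
  constructor
  · intro h V i hi
    have hex : ∀ j, j < n → (KZ U R).ExactAt j := fun j hj => (isZero_HZsh_iff U R j).1 (h j hj)
    have hK := isFlasque_KZ U R
    have key : ∀ ξ : LocCohZ.HZ F i (inf_le_left : V ⊓ U ≤ V), ξ = 0 := by
      cases i with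
      | zero =>
        intro ξ
        exact HZ_zero_eq_zero U R V
          (fun c hc => eq_zero_of_exactAt_zero (KZ U R) n hex hi V c hc) ξ
      | succ q =>
        intro ξ
        exact HZ_succ_eq_zero U R q V
          (fun c hc => exists_primitive_of_flasque (KZ U R) n hK hex q hi V c hc) ξ
    refine ⟨fun a b => ?_⟩
    rw [key a, key b]
  · intro h i hi
    rw [isZero_HZsh_iff U R]
    cases i with
    | zero =>
      exact exactAt_zero_of U R (fun V ξ => by
        haveI := h V 0 hi
        exact Subsingleton.elim _ _)
    | succ q =>
      apply exactAt_succ_of_local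
      intro V ξ x hx
      refine ⟨V, le_rfl, hx, ?_⟩
      haveI := h V (q + 1) hi
      exact Subsingleton.elim _ _

end Groth.Agent.S6022
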