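import Groth.Statements.S14020
import Mathlib

set_option autoImplicit false
universe u
open CAlg

namespace Groth.Agent.S14020

/-- Let R be a commutative ring and I a finitely generated ideal such that the quotient ring R/I is
artinian. Then R/I^n is artinian for every n. -/
theorem result
    (R : Type u) [CommRing R] (I : Ideal R) (hI : I.FG) [IsArtinianRing (R ⧸ I)] (n : ℕ) :
    IsArtinianRing (R ⧸ I ^ n) := by
  classical
  have gen : ∀ (n : ℕ) (M : Type u) [AddCommGroup M] [Module R M] [Module.Finite R M],
      (I ^ n • (⊤ : Submodule R M) = ⊥) → IsArtinian R M := by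
    intro n
    induction n with
    | zero =>
      intro M _ _ _ h
      have : Subsingleton M := by
        rw [pow_zero, Ideal.one_eq_top, Submodule.top_smul] at h
        refine ⟨fun a b => ?_⟩
        have ha : a ∈ (⊤ : Submodule R M) := trivial
        have hb : b ∈ (⊤ : Submodule R M) := trivial
        rw [h, Submodule.mem_bot] at ha hb
        rw [ha, hb]
      infer_instance
    | succ n ih =>
      intro M _ _ _ h
      have hNfg : (I • (⊤ : Submodule R M)).FG := Submodule.FG.smul hI Module.Finite.fg_top
      haveI : Module.Finite R (I • (⊤ : Submodule R M) : Submodule R M) :=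
        Module.Finite.iff_fg.mpr hNfg
      have hN : IsArtinian R (I • (⊤ : Submodule R M) : Submodule R M) := by
        apply ih
        apply Submodule.map_injective_of_injective (I • (⊤ : Submodule R M)).injective_subtype
        rw [Submodule.map_smul'', Submodule.map_top, Submodule.range_subtype, Submodule.map_bot,
          ← Submodule.mul_smul, ← pow_succ, h]
      have hQ : IsArtinian R (M ⧸ (I • (⊤ : Submodule R M))) := by
        haveI : IsArtinian R (TensorProduct R (R ⧸ I) M) :=
          isArtinian_of_surjective_algebraMap (R := R ⧸ I) Ideal.Quotient.mk_surjective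
        exact isArtinian_of_linearEquiv (TensorProduct.quotTensorEquivQuotSMul M I)
      exact (isArtinian_iff_submodule_quotient (I • (⊤ : Submodule R M))).mpr ⟨hN, hQ⟩
  have h1 : IsArtinian R (R ⧸ I ^ n) := by
    apply gen n
    rw [eq_bot_iff, Submodule.smul_le]
    intro r hr m _
    obtain ⟨m, rfl⟩ := Ideal.Quotient.mk_surjective m
    rw [Submodule.mem_bot, Algebra.smul_def, Ideal.Quotient.algebraMap_eq, ← map_mul,
      Ideal.Quotient.eq_zero_iff_mem]
    exact Ideal.mul_mem_right _ _ hr
  exact isArtinian_of_tower R h1

end Groth.Agent.S14020
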