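import Groth.Statements.S3350
import Mathlib
import Groth.Agent.Lib.Models3_helper5

set_option autoImplicit false
open Finset
open Models Models.NumericalType

namespace Groth.Agent.S3350

/-- Classification of proper subgraphs with two vertices: Let T be a numerical type on n > 2 indices and
i ≠ j two (-2)-indices (g = 0 and a_ii = -2 w_i, a_jj = -2 w_j) with a_ij > 0. Then, after possibly
exchanging i and j, one of the following holds with w = w_i: (A2) w_j = w, a_ij = w, 2 m_i ≥ m_j and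
2 m_j ≥ m_i; (B2) w_j = 2w, a_ij = 2w, m_i ≥ m_j and 2 m_j ≥ m_i; (G2) w_j = 3w, a_ij = 3w, 2 m_i ≥
3 m_j and 2 m_j ≥ m_i. -/
theorem result {n : ℕ} (T : Models.NumericalType n) (hn : 2 < n) (i j : Fin n)
    (hij : i ≠ j) (hi : T.IsMinusTwo i) (hj : T.IsMinusTwo j) (hpos : 0 < T.a i j) :
    ∃ i' j' : Fin n, ((i' = i ∧ j' = j) ∨ (i' = j ∧ j' = i)) ∧
      ((T.w j' = T.w i' ∧ T.a i' j' = T.w i' ∧ T.m j' ≤ 2 * T.m i' ∧ T.m i' ≤ 2 * T.m j') ∨
        (T.w j' = 2 * T.w i' ∧ T.a i' j' = 2 * T.w i' ∧ T.m j' ≤ T.m i' ∧ T.m i' ≤ 2 * T.m j') ∨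
        (T.w j' = 3 * T.w i' ∧ T.a i' j' = 3 * T.w i' ∧ 3 * T.m j' ≤ 2 * T.m i' ∧ T.m i' ≤ 2 * T.m j')) := by
  classical
  obtain ⟨v, hv0, hv1⟩ : ∃ v : Fin 2 ↪ Fin n, v 0 = i ∧ v 1 = j := by
    refine ⟨⟨![i, j], ?_⟩, rfl, rfl⟩
    intro a b hab
    fin_cases a <;> fin_cases b <;> simp at hab ⊢ <;> first | exact hij hab | exact hij hab.symm
  subst hv0 hv1
  have hv : ∀ j, T.IsMinusTwo (v j) := by
    intro j; fin_cases j
    exacts [hi, hj]
  have h01 : T.a (v 0) (v 1) ≠ 0 := hpos.ne'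
  have hne : ∀ j k : Fin 2, j ≠ k → v j ≠ v k := fun j k h e => h (v.injective e)
  have hnn : ∀ j k : Fin 2, j ≠ k → 0 ≤ T.a (v j) (v k) :=
    fun j k h => Groth.Agent.Lib.ModelsH5.emb_offDiag_nonneg T v j k h
  have hs : ∀ j k : Fin 2, T.a (v k) (v j) = T.a (v j) (v k) :=
    fun j k => Groth.Agent.Lib.ModelsH5.emb_symm T v j k
  have hd : ∀ j : Fin 2, T.a (v j) (v j) = -2 * T.w (v j) := fun j => (hv j).2
  have nz_0_1 : T.a (v 0) (v 1) ≠ 0 := h01
  have nz_1_0 : T.a (v 1) (v 0) ≠ 0 := by rw [hs 0 1]; exact nz_0_1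
  have E_0_1 : T.w (v 0) ≤ T.a (v 0) (v 1) := Groth.Agent.Lib.ModelsH5.w_le_of_ne_zero T _ _ (hne 0 1 (by decide)) nz_0_1
  have E_1_0 : T.w (v 1) ≤ T.a (v 1) (v 0) := Groth.Agent.Lib.ModelsH5.w_le_of_ne_zero T _ _ (hne 1 0 (by decide)) nz_1_0
  have t_0_1 : T.a (v 0) (v 1) = T.w (v 0) ∨ T.a (v 0) (v 1) = 2 * T.w (v 0) ∨ T.a (v 0) (v 1) = 3 * T.w (v 0) := by
    rcases Groth.Agent.Lib.ModelsH5.eq_or_four_le T (v 0) (v 1) (hne 0 1 (by decide)) nz_0_1 with h | h | h | h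
    · exact Or.inl h
    · exact Or.inr (Or.inl h)
    · exact Or.inr (Or.inr h)
    · exfalso
      refine Groth.Agent.Lib.ModelsH5.no_superharmonic T v (by omega) ![2, 1] ?_ ⟨0, by simp⟩ ?_
      · intro k; fin_cases k <;> simp
      · intro j hj
        fin_cases j <;> simp [Fin.sum_univ_succ] at hj ⊢
        · linarith [hd 0, h]
        · linarith [hd 1, E_1_0]
  have t_1_0 : T.a (v 1) (v 0) = T.w (v 1) ∨ T.a (v 1) (v 0) = 2 * T.w (v 1) ∨ T.a (v 1) (v 0) = 3 * T.w (v 1) := by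
    rcases Groth.Agent.Lib.ModelsH5.eq_or_four_le T (v 1) (v 0) (hne 1 0 (by decide)) nz_1_0 with h | h | h | h
    · exact Or.inl h
    · exact Or.inr (Or.inl h)
    · exact Or.inr (Or.inr h)
    · exfalso
      refine Groth.Agent.Lib.ModelsH5.no_superharmonic T v (by omega) ![1, 2] ?_ ⟨0, by simp⟩ ?_
      · intro k; fin_cases k <;> simp
      · intro j hj
        fin_cases j <;> simp [Fin.sum_univ_succ] at hj ⊢
        · linarith [hd 0, E_0_1]
        · linarith [hd 1, h]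
  have np_2_2 : T.a (v 0) (v 1) = 2 * T.w (v 0) → T.a (v 1) (v 0) = 2 * T.w (v 1) → False := by
    intro h1 h2
    refine Groth.Agent.Lib.ModelsH5.no_superharmonic T v (by omega) ![1, 1] ?_ ⟨0, by simp⟩ ?_
    · intro k; fin_cases k <;> simp
    · intro j hj
      fin_cases j <;> simp [Fin.sum_univ_succ] at hj ⊢
      · linarith [hd 0, h1]
      · linarith [hd 1, h2]
  have np_2_3 : T.a (v 0) (v 1) = 2 * T.w (v 0) → T.a (v 1) (v 0) = 3 * T.w (v 1) → False := by
    intro h1 h2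
    refine Groth.Agent.Lib.ModelsH5.no_superharmonic T v (by omega) ![1, 1] ?_ ⟨0, by simp⟩ ?_
    · intro k; fin_cases k <;> simp
    · intro j hj
      fin_cases j <;> simp [Fin.sum_univ_succ] at hj ⊢
      · linarith [hd 0, h1]
      · linarith [hd 1, h2]
  have np_3_2 : T.a (v 0) (v 1) = 3 * T.w (v 0) → T.a (v 1) (v 0) = 2 * T.w (v 1) → False := by
    intro h1 h2
    refine Groth.Agent.Lib.ModelsH5.no_superharmonic T v (by omega) ![1, 1] ?_ ⟨0, by simp⟩ ?_
    · intro k; fin_cases k <;> simp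
    · intro j hj
      fin_cases j <;> simp [Fin.sum_univ_succ] at hj ⊢
      · linarith [hd 0, h1]
      · linarith [hd 1, h2]
  have np_3_3 : T.a (v 0) (v 1) = 3 * T.w (v 0) → T.a (v 1) (v 0) = 3 * T.w (v 1) → False := by
    intro h1 h2
    refine Groth.Agent.Lib.ModelsH5.no_superharmonic T v (by omega) ![1, 1] ?_ ⟨0, by simp⟩ ?_
    · intro k; fin_cases k <;> simp
    · intro j hj
      fin_cases j <;> simp [Fin.sum_univ_succ] at hj ⊢
      · linarith [hd 0, h1]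
      · linarith [hd 1, h2]
  rcases t_0_1 with f01 | f01 | f01 <;> rcases t_1_0 with f10 | f10 | f10
  · have f01 : T.a (v 0) (v 1) = 1 * T.w (v 0) := by linarith
    have r0 := Groth.Agent.Lib.ModelsH5.emb_row_nonpos T v 0
    have r1 := Groth.Agent.Lib.ModelsH5.emb_row_nonpos T v 1
    rw [Fin.sum_univ_two] at r0 r1
    have W1 : T.w (v 1) = T.w (v 0) := by linarith [f01, f10, hs 0 1]
    have A01 : T.a (v 0) (v 1) = T.w (v 0) := by linarith [f01]
    have A10 : T.a (v 1) (v 0) = T.w (v 0) := by linarith [f01, hs 0 1]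
    simp only [A01, A10, hd 0, hd 1, W1] at r0 r1
    have I1 : T.m (v 1) ≤ 2 * T.m (v 0) := by
      by_contra hcon
      push Not at hcon
      have := mul_pos (T.w_pos (v 0)) (sub_pos.2 hcon)
      linarith
    have I2 : T.m (v 0) ≤ 2 * T.m (v 1) := by
      by_contra hcon
      push Not at hcon
      have := mul_pos (T.w_pos (v 0)) (sub_pos.2 hcon)
      linarith
    exact ⟨v 0, v 1, Or.inl ⟨rfl, rfl⟩, Or.inl ⟨W1, A01, I1, I2⟩⟩
  · have f01 : T.a (v 0) (v 1) = 1 * T.w (v 0) := by linarith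
    have r0 := Groth.Agent.Lib.ModelsH5.emb_row_nonpos T v 0
    have r1 := Groth.Agent.Lib.ModelsH5.emb_row_nonpos T v 1
    rw [Fin.sum_univ_two] at r0 r1
    have W0 : T.w (v 0) = 2 * T.w (v 1) := by linarith [f01, f10, hs 0 1]
    have A10 : T.a (v 1) (v 0) = 2 * T.w (v 1) := by linarith [f10]
    have A01 : T.a (v 0) (v 1) = 2 * T.w (v 1) := by linarith [f10, hs 0 1]
    simp only [A01, A10, hd 0, hd 1, W0] at r0 r1
    have I1 : T.m (v 0) ≤ T.m (v 1) := by
      by_contra hcon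
      push Not at hcon
      have := mul_pos (T.w_pos (v 1)) (sub_pos.2 hcon)
      linarith
    have I2 : T.m (v 1) ≤ 2 * T.m (v 0) := by
      by_contra hcon
      push Not at hcon
      have := mul_pos (T.w_pos (v 1)) (sub_pos.2 hcon)
      linarith
    exact ⟨v 1, v 0, Or.inr ⟨rfl, rfl⟩, Or.inr (Or.inl ⟨W0, A10, I1, I2⟩)⟩
  · have f01 : T.a (v 0) (v 1) = 1 * T.w (v 0) := by linarith
    have r0 := Groth.Agent.Lib.ModelsH5.emb_row_nonpos T v 0
    have r1 := Groth.Agent.Lib.ModelsH5.emb_row_nonpos T v 1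
    rw [Fin.sum_univ_two] at r0 r1
    have W0 : T.w (v 0) = 3 * T.w (v 1) := by linarith [f01, f10, hs 0 1]
    have A10 : T.a (v 1) (v 0) = 3 * T.w (v 1) := by linarith [f10]
    have A01 : T.a (v 0) (v 1) = 3 * T.w (v 1) := by linarith [f10, hs 0 1]
    simp only [A01, A10, hd 0, hd 1, W0] at r0 r1
    have I1 : 3 * T.m (v 0) ≤ 2 * T.m (v 1) := by
      by_contra hcon
      push Not at hcon
      have := mul_pos (T.w_pos (v 1)) (sub_pos.2 hcon)
      linarith
    have I2 : T.m (v 1) ≤ 2 * T.m (v 0) := by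
      by_contra hcon
      push Not at hcon
      have := mul_pos (T.w_pos (v 1)) (sub_pos.2 hcon)
      linarith
    exact ⟨v 1, v 0, Or.inr ⟨rfl, rfl⟩, Or.inr (Or.inr ⟨W0, A10, I1, I2⟩)⟩
  · have f10 : T.a (v 1) (v 0) = 1 * T.w (v 1) := by linarith
    have r0 := Groth.Agent.Lib.ModelsH5.emb_row_nonpos T v 0
    have r1 := Groth.Agent.Lib.ModelsH5.emb_row_nonpos T v 1
    rw [Fin.sum_univ_two] at r0 r1
    have W1 : T.w (v 1) = 2 * T.w (v 0) := by linarith [f01, f10, hs 0 1]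
    have A01 : T.a (v 0) (v 1) = 2 * T.w (v 0) := by linarith [f01]
    have A10 : T.a (v 1) (v 0) = 2 * T.w (v 0) := by linarith [f01, hs 0 1]
    simp only [A01, A10, hd 0, hd 1, W1] at r0 r1
    have I1 : T.m (v 1) ≤ T.m (v 0) := by
      by_contra hcon
      push Not at hcon
      have := mul_pos (T.w_pos (v 0)) (sub_pos.2 hcon)
      linarith
    have I2 : T.m (v 0) ≤ 2 * T.m (v 1) := by
      by_contra hcon
      push Not at hcon
      have := mul_pos (T.w_pos (v 0)) (sub_pos.2 hcon)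
      linarith
    exact ⟨v 0, v 1, Or.inl ⟨rfl, rfl⟩, Or.inr (Or.inl ⟨W1, A01, I1, I2⟩)⟩
  · exact absurd f10 (fun hh => np_2_2 f01 hh)
  · exact absurd f10 (fun hh => np_2_3 f01 hh)
  · have f10 : T.a (v 1) (v 0) = 1 * T.w (v 1) := by linarith
    have r0 := Groth.Agent.Lib.ModelsH5.emb_row_nonpos T v 0
    have r1 := Groth.Agent.Lib.ModelsH5.emb_row_nonpos T v 1
    rw [Fin.sum_univ_two] at r0 r1
    have W1 : T.w (v 1) = 3 * T.w (v 0) := by linarith [f01, f10, hs 0 1]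
    have A01 : T.a (v 0) (v 1) = 3 * T.w (v 0) := by linarith [f01]
    have A10 : T.a (v 1) (v 0) = 3 * T.w (v 0) := by linarith [f01, hs 0 1]
    simp only [A01, A10, hd 0, hd 1, W1] at r0 r1
    have I1 : 3 * T.m (v 1) ≤ 2 * T.m (v 0) := by
      by_contra hcon
      push Not at hcon
      have := mul_pos (T.w_pos (v 0)) (sub_pos.2 hcon)
      linarith
    have I2 : T.m (v 0) ≤ 2 * T.m (v 1) := by
      by_contra hcon
      push Not at hcon
      have := mul_pos (T.w_pos (v 0)) (sub_pos.2 hcon)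
      linarith
    exact ⟨v 0, v 1, Or.inl ⟨rfl, rfl⟩, Or.inr (Or.inr ⟨W1, A01, I1, I2⟩)⟩
  · exact absurd f10 (fun hh => np_3_2 f01 hh)
  · exact absurd f10 (fun hh => np_3_3 f01 hh)

end Groth.Agent.S3350
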