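import Groth.Statements.S2171
import Mathlib
import Groth.Agent.Lib.Models_helper5

set_option autoImplicit false
open Finset
open Models

namespace Groth.Agent.S2171

/-- Let A be a symmetric real n by n matrix with non-negative off-diagonal entries, m a vector with
positive entries such that A m = 0, and assume no proper non-empty index set I has A i j = 0 for all
i in I and j outside I. Then x^t A x is at most 0 for every real vector x, with equality exactly
when x is a real multiple of m. -/
theorem result {n : ℕ} (A : Matrix (Fin n) (Fin n) ℝ)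
    (m : Fin n → ℝ) (hsymm : A.IsSymm) (hA : ∀ i j, i ≠ j → 0 ≤ A i j) (hm : ∀ i, 0 < m i)
    (hAm : A.mulVec m = 0)
    (hconn : ∀ I : Finset (Fin n), I.Nonempty → I ≠ univ → ∃ i ∈ I, ∃ j ∉ I, A i j ≠ 0)
    (x : Fin n → ℝ) :
    dotProduct x (A.mulVec x) ≤ 0 ∧ (dotProduct x (A.mulVec x) = 0 ↔ ∃ q : ℝ, x = q • m) := by
  classical
  have hs : ∀ i, ∑ j, A i j * m j = 0 := fun i => by
    have := congrFun hAm i
    simpa [Matrix.mulVec, dotProduct] using this
  obtain ⟨y, hxy⟩ : ∃ y : Fin n → ℝ, x = fun i => m i * y i :=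
    ⟨fun i => x i / m i, funext fun i => by have := (hm i).ne'; field_simp⟩
  have hq := Groth.Agent.Lib.ModelsH5.quad_nonpos A m hsymm hA hm (fun i => (hs i).le) y
  rw [← hxy] at hq
  refine ⟨hq.1, ⟨fun h0 => ?_, ?_⟩⟩
  · obtain ⟨-, h2⟩ := hq.2 h0
    rcases Nat.eq_zero_or_pos n with hn | hn
    · subst hn; exact ⟨0, funext fun i => i.elim0⟩
    · let i0 : Fin n := ⟨0, hn⟩
      refine ⟨y i0, ?_⟩
      have hconst : ∀ i, y i = y i0 := by
        by_contra hne
        push Not at hne
        obtain ⟨k, hk⟩ := hne
        have hIne : (univ.filter (fun i => y i = y i0)).Nonempty := ⟨i0, by simp⟩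
        have hIu : univ.filter (fun i => y i = y i0) ≠ univ := fun h => hk (by
          have := h ▸ mem_univ k
          simpa using this)
        obtain ⟨i, hi, j, hj, hij⟩ := hconn _ hIne hIu
        simp only [mem_filter, mem_univ, true_and] at hi hj
        rcases h2 i j with h | h
        · exact hij h
        · exact hj (h ▸ hi)
      rw [hxy]; funext i; simp [hconst i, mul_comm]
  · rintro ⟨q, rfl⟩
    rw [Matrix.mulVec_smul, hAm, smul_zero, dotProduct_zero]

end Groth.Agent.S2171
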