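import Groth.Statements.S9835
import Mathlib
import Groth.Agent.Lib.Japanese_helper9

set_option autoImplicit false
universe u
open CategoryTheory AlgebraicGeometry TopologicalSpace
open Props

open Groth.Agent.Lib.Japanese
namespace Groth.Agent.S9835

/-- If an integral scheme has an affine open covering by spectra of Japanese (N-2) domains, then the
coordinate ring of every nonempty affine open is a Japanese domain. -/
theorem result (X : Scheme.{u}) [IsIntegral X] {ι : Type u}
    (U : ι → X.Opens) [∀ i, Nonempty (U i)] (hU : iSup U = ⊤) (haff : ∀ i, IsAffineOpen (U i))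
    (hJ : ∀ i, CAlg.IsN2 Γ(X, U i)) (V : X.Opens) [Nonempty V] (hV : IsAffineOpen V) :
    CAlg.IsN2 Γ(X, V) := by
  let P : X.affineOpens → Prop := fun W => ∀ [IsDomain Γ(X, W)], CAlg.IsN2 Γ(X, W)
  have key : P ⟨V, hV⟩ := by
    refine of_affine_open_cover (P := P) (fun i => (⟨U i, haff i⟩ : X.affineOpens))
      (by simpa using hU) ⟨V, hV⟩ ?_ ?_ (fun i => ?_)
    · intro W f hW hdom
      have hdom' : IsDomain Γ(X, X.basicOpen f) := hdom
      have hne : Nonempty W.1 := by
        by_contra hemp
        rw [not_nonempty_iff] at hemp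
        have hW0 : W.1 = ⊥ := by
          ext x
          simp only [Opens.coe_bot, Set.mem_empty_iff_false, iff_false]
          exact fun hx => hemp.false ⟨x, hx⟩
        have hb : X.basicOpen f = ⊥ := le_bot_iff.mp (hW0 ▸ X.basicOpen_le f)
        have : Subsingleton Γ(X, X.basicOpen f) := by rw [hb]; infer_instance
        exact not_subsingleton Γ(X, X.basicOpen f) this
      haveI := hne
      haveI : IsLocalization.Away f Γ(X, X.basicOpen f) := W.2.isLocalization_basicOpen f
      show @CAlg.IsN2 Γ(X, X.basicOpen f) _ hdom'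
      exact isN2_of_isLocalization Γ(X, W) (Submonoid.powers f) Γ(X, X.basicOpen f) hW
    · intro W s hs hP hdom
      let ι' : Type u := {f : s // f.1 ≠ 0}
      have hspan : Ideal.span (Set.range (fun f : ι' => f.1.1)) = ⊤ := by
        rw [eq_top_iff, ← hs, Ideal.span_le]
        intro g hg
        by_cases h0 : g = 0
        · rw [h0]; exact zero_mem _
        · exact Ideal.subset_span ⟨⟨⟨g, hg⟩, h0⟩, rfl⟩
      haveI : ∀ f : ι', IsLocalization.Away f.1.1 Γ(X, X.basicOpen f.1.1) :=
        fun f => W.2.isLocalization_basicOpen f.1.1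
      haveI hd : ∀ f : ι', IsDomain Γ(X, X.basicOpen f.1.1) := fun f =>
        IsLocalization.isDomain_of_le_nonZeroDivisors (M := Submonoid.powers f.1.1) _
          (powers_le_nonZeroDivisors_of_noZeroDivisors f.2)
      exact isN2_of_span_eq_top Γ(X, W) (fun f : ι' => f.1.1) hspan
        (fun f => Γ(X, X.basicOpen f.1.1)) (fun f => @hP f.1 (hd f))
    · intro _
      exact hJ i
  exact key

end Groth.Agent.S9835
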