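import Groth.Statements.S15315
import Mathlib

set_option autoImplicit false
universe u
open ArLef

namespace Groth.Agent.S15315

/-- For a Noetherian commutative ring A, elements a, b with a a non-zero-divisor on A/(b), and an ideal
I, one has length(A/(aI + bA)) = length(A/(a, b)) + length(A/(I + bA)) as extended natural numbers;
in particular when two of the three quotients have finite length so does the third. -/
theorem result (A : Type u) [CommRing A] [IsNoetherianRing A] (a b : A) (I : Ideal A)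
    (ha : IsSMulRegular (A ⧸ Ideal.span ({b} : Set A)) a) :
    Module.length A (A ⧸ (Ideal.span {a} * I ⊔ Ideal.span {b})) =
      Module.length A (A ⧸ Ideal.span ({a, b} : Set A)) + Module.length A (A ⧸ (I ⊔ Ideal.span {b})) := by
  classical
  have hb2 : b ∈ Ideal.span {a} * I ⊔ Ideal.span {b} :=
    Ideal.mem_sup_right (Ideal.subset_span rfl)
  have h12 : (I ⊔ Ideal.span {b} : Ideal A) ≤
      Submodule.comap (LinearMap.lsmul A A a) (Ideal.span {a} * I ⊔ Ideal.span {b}) := by
    intro x hx
    obtain ⟨i, hi, z, hz, rfl⟩ := Submodule.mem_sup.mp hx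
    obtain ⟨c, rfl⟩ := Ideal.mem_span_singleton'.mp hz
    show a • (i + c * b) ∈ Ideal.span {a} * I ⊔ Ideal.span {b}
    rw [smul_add, smul_eq_mul, smul_eq_mul]
    exact Ideal.add_mem _ (Ideal.mem_sup_left (Ideal.mul_mem_mul (Ideal.subset_span rfl) hi))
      (Ideal.mul_mem_left _ _ (Ideal.mul_mem_left _ _ hb2))
  have h23 : (Ideal.span {a} * I ⊔ Ideal.span {b} : Ideal A) ≤
      Submodule.comap (LinearMap.id : A →ₗ[A] A) (Ideal.span ({a, b} : Set A)) := by
    intro x hx
    obtain ⟨y, hy, z, hz, rfl⟩ := Submodule.mem_sup.mp hx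
    obtain ⟨i, hi, rfl⟩ := Ideal.mem_span_singleton_mul.mp hy
    obtain ⟨c, rfl⟩ := Ideal.mem_span_singleton'.mp hz
    show a * i + c * b ∈ Ideal.span ({a, b} : Set A)
    exact Ideal.add_mem _ (Ideal.mul_mem_right _ _ (Ideal.subset_span (by simp)))
      (Ideal.mul_mem_left _ _ (Ideal.subset_span (by simp)))
  let f : (A ⧸ (I ⊔ Ideal.span {b} : Ideal A)) →ₗ[A]
      (A ⧸ (Ideal.span {a} * I ⊔ Ideal.span {b} : Ideal A)) :=
    Submodule.mapQ _ _ (LinearMap.lsmul A A a) h12
  let g : (A ⧸ (Ideal.span {a} * I ⊔ Ideal.span {b} : Ideal A)) →ₗ[A]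
      (A ⧸ (Ideal.span ({a, b} : Set A))) :=
    Submodule.mapQ _ _ LinearMap.id h23
  have hfmk : ∀ x : A, f (Submodule.Quotient.mk x) = Submodule.Quotient.mk (a * x) := fun x => rfl
  have hgmk : ∀ x : A, g (Submodule.Quotient.mk x) = Submodule.Quotient.mk x := fun x => rfl
  have hf : Function.Injective f := by
    rw [← LinearMap.ker_eq_bot, LinearMap.ker_eq_bot']
    intro y hy
    obtain ⟨x, rfl⟩ := Submodule.Quotient.mk_surjective _ y
    rw [hfmk, Submodule.Quotient.mk_eq_zero] at hy
    rw [Submodule.Quotient.mk_eq_zero]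
    obtain ⟨y', hy', z, hz, hyz⟩ := Submodule.mem_sup.mp hy
    obtain ⟨i, hi, rfl⟩ := Ideal.mem_span_singleton_mul.mp hy'
    have h1 : (Ideal.Quotient.mk (Ideal.span {b})) (x - i) = 0 := by
      apply ha
      show a • (Ideal.Quotient.mk (Ideal.span {b})) (x - i) = a • 0
      have e : a • (Ideal.Quotient.mk (Ideal.span {b})) (x - i) =
          (Ideal.Quotient.mk (Ideal.span {b})) (a * (x - i)) := rfl
      rw [e, smul_zero, Ideal.Quotient.eq_zero_iff_mem]
      have e2 : a * (x - i) = z := by rw [mul_sub, ← hyz]; ring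
      rw [e2]; exact hz
    have h2 : x - i ∈ Ideal.span {b} := Ideal.Quotient.eq_zero_iff_mem.mp h1
    have e3 : x = i + (x - i) := by ring
    rw [e3]; exact Ideal.add_mem _ (Ideal.mem_sup_left hi) (Ideal.mem_sup_right h2)
  have hg : Function.Surjective g := by
    intro y
    obtain ⟨x, rfl⟩ := Submodule.Quotient.mk_surjective _ y
    exact ⟨Submodule.Quotient.mk x, rfl⟩
  have hexact : Function.Exact f g := by
    intro y
    obtain ⟨x, rfl⟩ := Submodule.Quotient.mk_surjective _ y
    rw [hgmk, Submodule.Quotient.mk_eq_zero]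
    constructor
    · intro hx
      obtain ⟨c, d, rfl⟩ := Ideal.mem_span_pair.mp hx
      refine ⟨Submodule.Quotient.mk c, ?_⟩
      rw [hfmk, Submodule.Quotient.eq]
      have e : a * c - (c * a + d * b) = -(d * b) := by ring
      rw [e]; exact Submodule.neg_mem _ (Ideal.mul_mem_left _ _ hb2)
    · rintro ⟨y', hy'⟩
      obtain ⟨r, rfl⟩ := Submodule.Quotient.mk_surjective _ y'
      rw [hfmk, Submodule.Quotient.eq] at hy'
      have h1 : a * r - x ∈ Ideal.span ({a, b} : Set A) := h23 hy'
      have h2 : a * r ∈ Ideal.span ({a, b} : Set A) :=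
        Ideal.mul_mem_right _ _ (Ideal.subset_span (by simp))
      have e : x = a * r - (a * r - x) := by ring
      rw [e]; exact Ideal.sub_mem _ h2 h1
  rw [Module.length_eq_add_of_exact f g hf hg hexact, add_comm]

end Groth.Agent.S15315
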