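import Groth.Statements.S1556
import Mathlib
import Groth.Agent.Lib.GenSmoothGR2_helper6
import Groth.Agent.Lib.StalkSmooth_helper3
import Groth.Agent.Lib.SmoothRegField_helper3
import Groth.Agent.Lib.StalkDim_helper7
import Groth.Agent.Lib.AlgSpCodim0_helper6
import Groth.Agent.Lib.Regular5_helper5
-- import your own Groth.Agent.* helpers here

set_option autoImplicit false
universe u
open CategoryTheory CategoryTheory.Limits AlgebraicGeometry
attribute [local instance] Curv2.resAlgebra
open Variety

namespace Groth.Agent.S1556

attribute [local instance] Curv2.stalkAlgebra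

theorem eq_one_of {d : WithBot ℕ∞} (h0 : 0 ≤ d) (h1 : d ≤ 1) (hne : d ≠ 0) : d = 1 := by
  induction d using WithBot.recBotCoe with
  | bot => simp at h0
  | coe n =>
    induction n using ENat.recTopCoe with
    | top =>
      exfalso
      have h2 : ((⊤ : ℕ∞) : WithBot ℕ∞) ≤ ((1 : ℕ∞) : WithBot ℕ∞) := h1
      rw [WithBot.coe_le_coe, top_le_iff] at h2
      exact ENat.one_ne_top h2
    | coe m =>
      norm_cast at *
      omega


/-- Let X be a curve over k (integral, separated, of finite type, of dimension one) and x a closed point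
whose residue field is separable over k. Then the local ring at x is a discrete valuation ring if
and only if x lies in the smooth locus of X → Spec k. -/
theorem result (k : Type u) [Field k] (X : Scheme.{u}) [X.Over (Spec (CommRingCat.of k))] [IsIntegral X]
    [IsSeparated (X ↘ (Spec (CommRingCat.of k)))] [LocallyOfFinitePresentation (X ↘ (Spec (CommRingCat.of k)))] [QuasiCompact (X ↘ (Spec (CommRingCat.of k)))]
    (hdim : topologicalKrullDim X = 1) (x : X) (hx : IsClosed ({x} : Set X))
    [Algebra.IsSeparable k (X.residueField x)] :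
    IsDiscreteValuationRing (X.presheaf.stalk x) ↔ x ∈ (X ↘ (Spec (CommRingCat.of k))).smoothLocus := by

  classical
  haveI : IsLocallyNoetherian X :=
    LocallyOfFiniteType.isLocallyNoetherian (X ↘ (Spec (CommRingCat.of k)))
  constructor
  · intro hdvr
    have hreg : IsRegularLocalRing (X.presheaf.stalk x) :=
      ((Groth.Agent.RegularLib.dvr_iff (X.presheaf.stalk x)).1 ⟨inferInstance, hdvr⟩).1
    rw [Scheme.Hom.mem_smoothLocus]
    obtain ⟨ε, hεdef⟩ : ∃ ε : k →+* (Spec (CommRingCat.of k)).presheaf.stalk
        ((X ↘ (Spec (CommRingCat.of k))) x),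
        ε = ((Scheme.ΓSpecIso (CommRingCat.of k)).inv ≫
          (Spec (CommRingCat.of k)).presheaf.germ ⊤ ((X ↘ (Spec (CommRingCat.of k))) x)
            trivial).hom := ⟨_, rfl⟩
    have hεbij : Function.Bijective ε := by
      rw [hεdef]; exact Groth.Agent.Lib.GenSmoothGRH6.bijective_toStalk_field _
    have hσ : ((X ↘ (Spec (CommRingCat.of k))).stalkMap x).hom.comp ε = Curv2.stalkMap k X x := by
      rw [hεdef]
      ext r
      exact Scheme.Hom.germ_stalkMap_apply (X ↘ Spec (CommRingCat.of k)) ⊤ x trivial _
    letI alg : Algebra ((Spec (CommRingCat.of k)).presheaf.stalk ((X ↘ (Spec (CommRingCat.of k))) x))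
        (X.presheaf.stalk x) := ((X ↘ (Spec (CommRingCat.of k))).stalkMap x).hom.toAlgebra
    letI algk : Algebra k ((Spec (CommRingCat.of k)).presheaf.stalk
        ((X ↘ (Spec (CommRingCat.of k))) x)) := ε.toAlgebra
    haveI : IsScalarTower k
        ((Spec (CommRingCat.of k)).presheaf.stalk ((X ↘ (Spec (CommRingCat.of k))) x))
        (X.presheaf.stalk x) := IsScalarTower.of_algebraMap_eq (fun r => by
          have := congrArg (fun φ : k →+* X.presheaf.stalk x => φ r) hσ
          exact this.symm)
    haveI hGRres : Algebra.IsGeometricallyReduced k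
        (IsLocalRing.ResidueField (X.presheaf.stalk x)) := by
      have halg : (Curv2.resAlgebra k X x : Algebra k (X.residueField x)) =
          (inferInstance : Algebra k (IsLocalRing.ResidueField (X.presheaf.stalk x))) :=
        Algebra.algebra_ext _ _ (fun r => rfl)
      haveI hsep' : Algebra.IsSeparable k (IsLocalRing.ResidueField (X.presheaf.stalk x)) := by
        have h := ‹Algebra.IsSeparable k (X.residueField x)›
        rw [halg] at h
        exact h
      haveI : Algebra.FormallyEtale k (IsLocalRing.ResidueField (X.presheaf.stalk x)) :=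
        Algebra.FormallyEtale.of_isSeparable k _
      exact (Groth.Agent.Lib.FSGRH3.formallySmooth_iff_isGeometricallyReduced k _).1 inferInstance
    obtain ⟨n, g, hg⟩ := Groth.Agent.Lib.StalkSmoothH3.exists_poly_stalk
      (X ↘ (Spec (CommRingCat.of k))) x
    exact Groth.Agent.Lib.SmoothRegFieldH3.formallySmooth_of_regular_of_bijective (k := k)
      hεbij.2 n g hg hreg
  · intro hsm
    have hfs : Algebra.FormallySmooth k (X.presheaf.stalk x) :=
      (Groth.Agent.Lib.GenSmoothGR2H6.mem_smoothLocus_iff k X x).1 hsm
    haveI := hfs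
    have hreg : IsRegularLocalRing (X.presheaf.stalk x) :=
      Groth.Agent.Lib.SmoothRegFieldH3.regular_of_formallySmooth_field (k := k)
    have hle : ringKrullDim (X.presheaf.stalk x) ≤ 1 := by
      rw [← hdim]
      exact Groth.Agent.Lib.StalkDimH7.ringKrullDim_stalk_le_topologicalKrullDim X x
    have hne0 : ringKrullDim (X.presheaf.stalk x) ≠ 0 := by
      intro h0
      rw [Groth.Agent.Lib.AlgSpCodim0_helper6.ringKrullDim_stalk_eq_zero_iff] at h0
      have hξ : genericPoint X = x :=
        h0 _ ((genericPoint_spec X).specializes (Set.mem_univ x))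
      have huniv : (Set.univ : Set X) = {x} := by
        have h := (genericPoint_spec X).def
        rw [hξ, hx.closure_eq] at h
        exact h.symm
      haveI : Subsingleton X := ⟨fun a b => by
        have ha : a ∈ ({x} : Set X) := huniv ▸ Set.mem_univ a
        have hb : b ∈ ({x} : Set X) := huniv ▸ Set.mem_univ b
        rw [Set.mem_singleton_iff] at ha hb
        rw [ha, hb]⟩
      have h := topologicalKrullDim_zero_of_discreteTopology X
      rw [hdim] at h
      exact absurd h (by norm_num)
    have hd1 : ringKrullDim (X.presheaf.stalk x) = 1 :=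
      eq_one_of ringKrullDim_nonneg_of_nontrivial hle hne0
    obtain ⟨_, h⟩ := (Groth.Agent.RegularLib.dvr_iff (X.presheaf.stalk x)).2 ⟨hreg, hd1⟩
    exact h

end Groth.Agent.S1556
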