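import Groth.Statements.S19394
import Mathlib
-- import your own Groth.Agent.* helpers here

set_option autoImplicit false
universe u
open InvQ

namespace Groth.Agent.S19394

section aux

open Polynomial in
theorem eval_aeval_line {k σ : Type*} [Field k] (F : MvPolynomial σ k) (D E : σ → k) (t : k) :
    Polynomial.eval t (MvPolynomial.aeval
      (fun i => Polynomial.C (D i) + Polynomial.X * Polynomial.C (E i)) F) =
      MvPolynomial.eval (fun i => D i + t * E i) F := by
  induction F using MvPolynomial.induction_on with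
  | C a => simp
  | add p q hp hq => rw [map_add, Polynomial.eval_add, hp, hq, map_add]
  | mul_X p i hp =>
    rw [map_mul, Polynomial.eval_mul, hp, MvPolynomial.aeval_X, map_mul, MvPolynomial.eval_X,
      Polynomial.eval_add, Polynomial.eval_C, Polynomial.eval_mul, Polynomial.eval_X,
      Polynomial.eval_C]

theorem conj_identity {k R : Type*} [Field k] [Ring R] [Algebra k R] (e f S N : R) (t : k)
    (ht : t ≠ 0) (hee : e * e = e) (hef : e * f = 0) (hfe : f * e = 0) (hff : f * f = f)
    (hef1 : e + f = 1) (heS : e * S = S * e) (hfS : f * S = S * f) (hNe : N * e = 0)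
    (hNf : N * f = N) :
    (t • e + f) * (S + N) * (t⁻¹ • e + f) = S + f * N + t • (e * N) ∧
      (t • e + f) * (t⁻¹ • e + f) = 1 := by
  constructor
  · have h1 : (S + N) * (t⁻¹ • e + f) = t⁻¹ • (S * e) + S * f + N := by
      rw [add_mul, mul_add, mul_add, mul_smul_comm, mul_smul_comm, hNe, smul_zero, hNf, zero_add]
    have c1 : (t • e) * (t⁻¹ • (S * e)) = S * e := by
      rw [smul_mul_assoc, mul_smul_comm, smul_smul, mul_inv_cancel₀ ht, one_smul, ← mul_assoc,
        heS, mul_assoc, hee]
    have c2 : (t • e) * (S * f) = 0 := by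
      rw [smul_mul_assoc, ← mul_assoc, heS, mul_assoc, hef, mul_zero, smul_zero]
    have c3 : (t • e) * N = t • (e * N) := smul_mul_assoc _ _ _
    have c4 : f * (t⁻¹ • (S * e)) = 0 := by
      rw [mul_smul_comm, ← mul_assoc, hfS, mul_assoc, hfe, mul_zero, smul_zero]
    have c5 : f * (S * f) = S * f := by
      rw [← mul_assoc, hfS, mul_assoc, hff]
    have hS' : S * e + S * f = S := by rw [← mul_add, hef1, mul_one]
    rw [mul_assoc, h1, add_mul, mul_add, mul_add, mul_add, mul_add, c1, c2, c3, c4, c5]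
    conv_rhs => rw [← hS']
    abel
  · rw [add_mul, mul_add, mul_add, smul_mul_assoc, mul_smul_comm, smul_smul, mul_inv_cancel₀ ht,
      one_smul, hee, smul_mul_assoc, hef, smul_zero, mul_smul_comm, hfe, smul_zero, hff, add_zero,
      zero_add, hef1]

variable {k : Type*} [Field k] {n : ℕ}

theorem exists_proj (S N : Matrix (Fin n) (Fin n) k)
    (hS : Module.End.IsSemisimple (Matrix.toLin' S)) (hSN : Commute S N) :
    ∃ e : Matrix (Fin n) (Fin n) k, e * e = e ∧ e * S = S * e ∧ N * e = 0 ∧
      ∀ X : Matrix (Fin n) (Fin n) k, N * X = 0 → e * X = X := by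
  have hSN' : ∀ v, Matrix.toLin' S (Matrix.toLin' N v) = Matrix.toLin' N (Matrix.toLin' S v) := by
    intro v
    have h := congrArg (fun M => Matrix.toLin' M v) hSN.eq
    simp only [Matrix.toLin'_mul, LinearMap.comp_apply] at h
    exact h
  have hW : LinearMap.ker (Matrix.toLin' N) ∈ Module.End.invtSubmodule (Matrix.toLin' S) := by
    rw [Module.End.mem_invtSubmodule]
    intro v hv
    rw [Submodule.mem_comap, LinearMap.mem_ker] at *
    rw [← hSN', hv, map_zero]
  obtain ⟨U, hU, hWU⟩ := Module.End.isSemisimple_iff.1 hS _ hW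
  rw [Module.End.mem_invtSubmodule] at hW hU
  obtain ⟨E, hE⟩ : ∃ E : (Fin n → k) →ₗ[k] (Fin n → k),
      E = (LinearMap.ker (Matrix.toLin' N)).projection U hWU := ⟨_, rfl⟩
  have hEmem : ∀ v, E v ∈ LinearMap.ker (Matrix.toLin' N) := fun v => by
    rw [hE]; exact Submodule.projection_apply_mem hWU v
  have hEl : ∀ v ∈ LinearMap.ker (Matrix.toLin' N), E v = v := fun v hv => by
    rw [hE]; exact Submodule.projection_apply_of_mem_left hWU hv
  have hEr : ∀ v ∈ U, E v = 0 := fun v hv => by
    rw [hE]; exact Submodule.projection_apply_of_mem_right hWU hv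
  have hES : ∀ v, E (Matrix.toLin' S v) = Matrix.toLin' S (E v) := by
    intro v
    have hv : v ∈ LinearMap.ker (Matrix.toLin' N) ⊔ U := by rw [hWU.sup_eq_top]; trivial
    obtain ⟨w, hw, u, hu, rfl⟩ := Submodule.mem_sup.1 hv
    rw [map_add, map_add, map_add, map_add, hEl _ (hW hw), hEr _ (hU hu), hEl w hw, hEr u hu,
      map_zero]
  refine ⟨LinearMap.toMatrix' E, ?_, ?_, ?_, ?_⟩
  · apply Matrix.toLin'.injective
    rw [Matrix.toLin'_mul, Matrix.toLin'_toMatrix']
    apply LinearMap.ext
    intro v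
    rw [LinearMap.comp_apply, hEl _ (hEmem v)]
  · apply Matrix.toLin'.injective
    rw [Matrix.toLin'_mul, Matrix.toLin'_mul, Matrix.toLin'_toMatrix']
    apply LinearMap.ext
    intro v
    rw [LinearMap.comp_apply, LinearMap.comp_apply, hES]
  · apply Matrix.toLin'.injective
    rw [Matrix.toLin'_mul, Matrix.toLin'_toMatrix', map_zero]
    apply LinearMap.ext
    intro v
    rw [LinearMap.comp_apply, LinearMap.zero_apply]
    exact LinearMap.mem_ker.1 (hEmem v)
  · intro X hX
    apply Matrix.toLin'.injective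
    rw [Matrix.toLin'_mul, Matrix.toLin'_toMatrix']
    apply LinearMap.ext
    intro v
    rw [LinearMap.comp_apply]
    apply hEl
    rw [LinearMap.mem_ker]
    have h := congrArg (fun M => Matrix.toLin' M v) hX
    simp only [Matrix.toLin'_mul, LinearMap.comp_apply, map_zero, LinearMap.zero_apply] at h
    exact h

theorem step [IsAlgClosed k] (F : MvPolynomial (Fin n × Fin n) k)
    (S N e : Matrix (Fin n) (Fin n) k) (hee : e * e = e) (heS : e * S = S * e) (hNe : N * e = 0)
    (hF : ∀ A : Matrix (Fin n) (Fin n) k, IsUnit A.det →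
      MvPolynomial.eval (fun p => (A * (S + N) * A⁻¹) p.1 p.2) F = 0)
    (A₀ : Matrix (Fin n) (Fin n) k) (hA₀ : IsUnit A₀.det) :
    MvPolynomial.eval (fun p => (A₀ * (S + (1 - e) * N) * A₀⁻¹) p.1 p.2) F = 0 := by
  obtain ⟨f, hf⟩ : ∃ f : Matrix (Fin n) (Fin n) k, f = 1 - e := ⟨_, rfl⟩
  rw [← hf]
  have hef : e * f = 0 := by rw [hf, mul_sub, mul_one, hee, sub_self]
  have hfe : f * e = 0 := by rw [hf, sub_mul, one_mul, hee, sub_self]
  have hff : f * f = f := by rw [hf, mul_sub, mul_one, sub_mul, one_mul, hee, sub_self, sub_zero]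
  have hef1 : e + f = 1 := by rw [hf]; abel
  have hfS : f * S = S * f := by rw [hf, sub_mul, one_mul, mul_sub, mul_one, heS]
  have hNf : N * f = N := by rw [hf, mul_sub, mul_one, hNe, sub_zero]
  obtain ⟨D, hD⟩ : ∃ D : Matrix (Fin n) (Fin n) k, D = A₀ * (S + f * N) * A₀⁻¹ := ⟨_, rfl⟩
  obtain ⟨E, hE⟩ : ∃ E : Matrix (Fin n) (Fin n) k, E = A₀ * (e * N) * A₀⁻¹ := ⟨_, rfl⟩
  rw [← hD]
  obtain ⟨p, hp⟩ : ∃ p : Polynomial k, p = MvPolynomial.aeval
      (fun ij : Fin n × Fin n => Polynomial.C (D ij.1 ij.2) + Polynomial.X * Polynomial.C (E ij.1 ij.2)) F :=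
    ⟨_, rfl⟩
  have hpe : ∀ t : k, p.eval t = MvPolynomial.eval (fun ij => (D + t • E) ij.1 ij.2) F := by
    intro t
    rw [hp, eval_aeval_line]
    rfl
  have hroot : ∀ t : k, t ≠ 0 → p.eval t = 0 := by
    intro t ht
    obtain ⟨h1, h2⟩ := conj_identity e f S N t ht hee hef hfe hff hef1 heS hfS hNe hNf
    have hinv : (t • e + f)⁻¹ = t⁻¹ • e + f := Matrix.inv_eq_right_inv h2
    have hdet : IsUnit (A₀ * (t • e + f)).det := by
      rw [Matrix.det_mul]
      exact hA₀.mul (Matrix.isUnit_det_of_right_inverse h2)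
    have hmat : (A₀ * (t • e + f)) * (S + N) * (A₀ * (t • e + f))⁻¹ = D + t • E := by
      rw [Matrix.mul_inv_rev, hinv, hD, hE]
      calc A₀ * (t • e + f) * (S + N) * ((t⁻¹ • e + f) * A₀⁻¹)
          = A₀ * ((t • e + f) * (S + N) * (t⁻¹ • e + f)) * A₀⁻¹ := by
            simp only [mul_assoc]
        _ = A₀ * (S + f * N) * A₀⁻¹ + t • (A₀ * (e * N) * A₀⁻¹) := by
            rw [h1, mul_add, add_mul, mul_smul_comm, smul_mul_assoc]
    rw [hpe, ← hmat]
    exact hF _ hdet
  have hp0 : p = 0 := by
    apply Polynomial.eq_zero_of_infinite_isRoot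
    apply Set.Infinite.mono (s := ({0} : Set k)ᶜ)
    · intro t ht
      exact hroot t ht
    · exact (Set.finite_singleton (0 : k)).infinite_compl
  have h0 := hpe 0
  rw [hp0, Polynomial.eval_zero, zero_smul, add_zero] at h0
  exact h0.symm

theorem main [IsAlgClosed k] (F : MvPolynomial (Fin n × Fin n) k) :
    ∀ (m : ℕ) (S N : Matrix (Fin n) (Fin n) k), Module.End.IsSemisimple (Matrix.toLin' S) →
      N ^ (m + 1) = 0 → Commute S N →
      (∀ A : Matrix (Fin n) (Fin n) k, IsUnit A.det →
        MvPolynomial.eval (fun p => (A * (S + N) * A⁻¹) p.1 p.2) F = 0) →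
      MvPolynomial.eval (fun p => S p.1 p.2) F = 0 := by
  intro m
  induction m with
  | zero =>
    intro S N _ hN _ hF
    rw [zero_add, pow_one] at hN
    have h := hF 1 (by rw [Matrix.det_one]; exact isUnit_one)
    rw [hN, add_zero, one_mul, inv_one, mul_one] at h
    exact h
  | succ m ih =>
    intro S N hS hN hSN hF
    obtain ⟨e, hee, heS, hNe, heX⟩ := exists_proj S N hS hSN
    have hNpow : ∀ j : ℕ, N ^ (j + 1) * e = 0 := fun j => by
      rw [pow_succ, mul_assoc, hNe, mul_zero]
    have hN'pow : ∀ j : ℕ, ((1 - e) * N) ^ (j + 1) = (1 - e) * N ^ (j + 1) := by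
      intro j
      induction j with
      | zero => rw [zero_add, pow_one, pow_one]
      | succ j ihj =>
        rw [pow_succ, ihj, mul_assoc, ← mul_assoc (N ^ (j + 1)), mul_sub, mul_one, hNpow j,
          sub_zero, ← pow_succ]
    have hzero : ((1 - e) * N) ^ (m + 1) = 0 := by
      rw [hN'pow m, sub_mul, one_mul, heX _ (by rw [← pow_succ']; exact hN), sub_self]
    have hcomm : Commute S ((1 - e) * N) := by
      have h1 : S * (1 - e) = (1 - e) * S := by rw [mul_sub, mul_one, sub_mul, one_mul, heS]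
      show S * ((1 - e) * N) = (1 - e) * N * S
      rw [← mul_assoc, h1, mul_assoc, hSN.eq, mul_assoc]
    exact ih S ((1 - e) * N) hS hzero hcomm (fun A₀ hA₀ => step F S N e hee heS hNe hF A₀ hA₀)

end aux


/-- Over an algebraically closed field, the semisimple part of a square matrix B lies in the Zariski
closure of the orbit of B under conjugation by the general linear group. The semisimple part is
given as S with B = S + N, S semisimple, N nilpotent and SN = NS; membership in the Zariski closure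
is spelled out as: every polynomial in the n² matrix entries vanishing at all conjugates A B A⁻¹ (A
invertible) vanishes at S. -/
theorem result (k : Type u) [Field k] [IsAlgClosed k] (n : ℕ)
    (B S N : Matrix (Fin n) (Fin n) k) (hS : Module.End.IsSemisimple (Matrix.toLin' S))
    (hN : IsNilpotent N) (hSN : Commute S N) (hB : B = S + N)
    (F : MvPolynomial (Fin n × Fin n) k)
    (hF : ∀ A : Matrix (Fin n) (Fin n) k, IsUnit A.det →
      MvPolynomial.eval (fun p => (A * B * A⁻¹) p.1 p.2) F = 0) :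
    MvPolynomial.eval (fun p => S p.1 p.2) F = 0 := by

  obtain ⟨m, hm⟩ := hN
  subst hB
  exact main F m S N hS (by rw [pow_succ, hm, zero_mul]) hSN hF

end Groth.Agent.S19394
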