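import Groth.Statements.S12099
import Mathlib.CategoryTheory.Abelian.Refinements
import Mathlib.Algebra.Homology.ShortComplex.ExactFunctor

set_option autoImplicit false
universe v u
open CategoryTheory CategoryTheory.Limits
open PCoh

namespace Groth.Agent.S12099

/-- Punctual site: let C be an abelian category and C₀ a strictly full additive subcategory,
quasi-liftable in C. For an exact sequence F → G → H → 0 with F of C₀-finite type and G precoherent
relative to C₀ (every morphism from a C₀-object into G has kernel of C₀-finite type), H is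
precoherent relative to C₀. -/
theorem result {C : Type u} [Category.{v} C] [Abelian C]
    (P : ObjectProperty C) [P.IsClosedUnderIsomorphisms] [P.ContainsZero] (hsum : ∀ X Y : C, P X → P Y → P (X ⨯ Y))
    (hql : PCoh.IsQuasiLiftable P)
    (S : ShortComplex C) (hS : S.Exact) (hg : Epi S.g)
    (hF : PCoh.IsOfFiniteType P S.X₁) (hG : ∀ (E : C) (u : E ⟶ S.X₂), P E → PCoh.IsOfFiniteType P (kernel u)) :
    ∀ (E : C) (u : E ⟶ S.X₃), P E → PCoh.IsOfFiniteType P (kernel u) := by
  intro E u hE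
  obtain ⟨E₁, π₁, hE₁, hπ₁⟩ := hF
  -- lift `u` through `g` up to a cover from `C₀`
  have hepi' : Epi (pullback.snd S.g u) := inferInstance
  obtain ⟨E', v, hE', hv⟩ := hql _ _ (pullback.snd S.g u) hepi' hE
  let ũ : E' ⟶ S.X₂ := v ≫ pullback.fst S.g u
  let p : E' ⟶ E := v ≫ pullback.snd S.g u
  have hũ : ũ ≫ S.g = p ≫ u := by
    simp only [ũ, p, Category.assoc, pullback.condition]
  let w : E₁ ⨯ E' ⟶ S.X₂ := prod.fst ≫ π₁ ≫ S.f + prod.snd ≫ ũ
  obtain ⟨E₂, π₂, hE₂, hπ₂⟩ := hG (E₁ ⨯ E') w (hsum _ _ hE₁ hE')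
  have hψz : (kernel.ι w ≫ prod.snd ≫ p) ≫ u = 0 := by
    have h1 : prod.snd ≫ ũ = w - prod.fst ≫ π₁ ≫ S.f := by
      simp only [w]; abel
    rw [Category.assoc, Category.assoc, ← hũ, ← Category.assoc prod.snd, h1,
      Preadditive.sub_comp, Preadditive.comp_sub, kernel.condition_assoc, zero_comp,
      Category.assoc, Category.assoc, S.zero, comp_zero, comp_zero, comp_zero, sub_zero]
  let ψ : kernel w ⟶ kernel u := kernel.lift u _ hψz
  have hψ : ψ ≫ kernel.ι u = kernel.ι w ≫ prod.snd ≫ p := kernel.lift_ι _ _ _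
  have hψepi : Epi ψ := by
    rw [epi_iff_surjective_up_to_refinements]
    intro A a
    obtain ⟨A₁, p₁, hp₁, y, hy⟩ := surjective_up_to_refinements_of_epi p (a ≫ kernel.ι u)
    have hyz : (y ≫ ũ) ≫ S.g = 0 := by
      rw [Category.assoc, hũ, ← Category.assoc, ← hy, Category.assoc, Category.assoc,
        kernel.condition, comp_zero, comp_zero]
    obtain ⟨A₂, p₂, hp₂, x₁, hx₁⟩ := hS.exact_up_to_refinements (y ≫ ũ) hyz
    obtain ⟨A₃, p₃, hp₃, x', hx'⟩ := surjective_up_to_refinements_of_epi π₁ x₁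
    have hzw : prod.lift (-x') (p₃ ≫ p₂ ≫ y) ≫ w = 0 := by
      simp only [w]
      rw [Preadditive.comp_add, prod.lift_fst_assoc, prod.lift_snd_assoc, Preadditive.neg_comp,
        ← Category.assoc x', ← hx', Category.assoc, ← hx₁, Category.assoc, Category.assoc]
      abel
    refine ⟨A₃, p₃ ≫ p₂ ≫ p₁, epi_comp _ _, kernel.lift w _ hzw, ?_⟩
    rw [← cancel_mono (kernel.ι u)]
    simp only [Category.assoc]
    rw [hψ, kernel.lift_ι_assoc, prod.lift_snd_assoc, hy]
    simp only [Category.assoc]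
  exact ⟨E₂, π₂ ≫ ψ, hE₂, epi_comp _ _⟩

end Groth.Agent.S12099
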