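import Groth.Statements.S8992
import Mathlib

set_option autoImplicit false
universe u
open HTop

namespace Groth.Agent.S8992

/-- An algebra over the prime field with p elements is absolutely weakly normal if and only if its p-th
power map is bijective (the algebra is perfect). -/
theorem result (p : ℕ) [Fact p.Prime] (A : Type u) [CommRing A] [Algebra (ZMod p) A] : HTop.IsAWNRing A ↔ PerfectRing A p := by
  have hp : p.Prime := Fact.out
  have hp0 : ((p : ℕ) : A) = 0 := by
    rw [← map_natCast (algebraMap (ZMod p) A) p, ZMod.natCast_self, map_zero]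
  have hpne : p ≠ 0 := hp.ne_zero
  have hzp : (0 : A) ^ p = 0 := zero_pow hpne
  constructor
  · rintro ⟨-, h2⟩
    have h2p := h2 p hp
    refine ⟨⟨?_, ?_⟩⟩
    · intro a b hab
      have hab' : a ^ p = b ^ p := hab
      obtain ⟨c, -, huniq⟩ := h2p (a ^ p) 0 (by rw [hp0, hzp, zero_mul])
      have ha : a = c := huniq a ⟨rfl, by rw [hp0, zero_mul]⟩
      have hb : b = c := huniq b ⟨hab', by rw [hp0, zero_mul]⟩
      rw [ha, hb]
    · intro x
      obtain ⟨a, ⟨ha, -⟩, -⟩ := h2p x 0 (by rw [hp0, hzp, zero_mul])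
      exact ⟨a, ha.symm⟩
  · rintro ⟨hinj, hsurj⟩
    have hinj' : ∀ a b : A, a ^ p = b ^ p → a = b := fun a b h => hinj h
    refine ⟨?_, ?_⟩
    · intro x y hxy
      obtain ⟨i', j', hij⟩ : ∃ i' j' : ℕ, 2 * i' + 3 * j' = p := by
        have h2le := hp.two_le
        rcases Nat.even_or_odd' p with ⟨k, hk | hk⟩
        · exact ⟨k, 0, by omega⟩
        · exact ⟨k - 1, 1, by omega⟩
      obtain ⟨a, ha⟩ := hsurj (x ^ i' * y ^ j')
      have ha' : a ^ p = x ^ i' * y ^ j' := ha
      refine ⟨a, ⟨?_, ?_⟩, ?_⟩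
      · apply hinj'
        calc x ^ p = x ^ (2 * i') * (x ^ 3) ^ j' := by rw [← hij]; ring
          _ = x ^ (2 * i') * (y ^ 2) ^ j' := by rw [hxy]
          _ = (x ^ i' * y ^ j') ^ 2 := by ring
          _ = (a ^ 2) ^ p := by rw [← ha']; ring
      · apply hinj'
        calc y ^ p = (y ^ 2) ^ i' * y ^ (3 * j') := by rw [← hij]; ring
          _ = (x ^ 3) ^ i' * y ^ (3 * j') := by rw [hxy]
          _ = (x ^ i' * y ^ j') ^ 3 := by ring
          _ = (a ^ 3) ^ p := by rw [← ha']; ring
      · rintro b ⟨hb2, hb3⟩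
        apply hinj'
        calc b ^ p = (b ^ 2) ^ i' * (b ^ 3) ^ j' := by rw [← hij]; ring
          _ = x ^ i' * y ^ j' := by rw [← hb2, ← hb3]
          _ = a ^ p := ha'.symm
    · intro ℓ hℓ x y hxy
      by_cases hℓp : ℓ = p
      · rw [hℓp] at hxy ⊢
        rw [hp0, hzp, zero_mul] at hxy
        have hy : y = 0 := hinj' y 0 (by rw [← hxy, hzp])
        obtain ⟨a, ha⟩ := hsurj x
        have ha' : a ^ p = x := ha
        refine ⟨a, ⟨ha'.symm, by rw [hy, hp0, zero_mul]⟩, ?_⟩
        rintro b ⟨hb, -⟩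
        exact hinj' b a (by rw [← hb, ha'])
      · have hu : IsUnit ((ℓ : ℕ) : A) := by
          have hne : ((ℓ : ℕ) : ZMod p) ≠ 0 := by
            intro h0
            rw [ZMod.natCast_eq_zero_iff] at h0
            exact hℓp ((Nat.prime_dvd_prime_iff_eq hp hℓ).mp h0).symm
          have := (IsUnit.mk0 _ hne).map (algebraMap (ZMod p) A)
          rwa [map_natCast] at this
        obtain ⟨v, hv⟩ := hu.exists_right_inv
        refine ⟨v * y, ⟨?_, ?_⟩, ?_⟩
        · calc x = (((ℓ : ℕ) : A) * v) ^ ℓ * x := by rw [hv, one_pow, one_mul]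
            _ = v ^ ℓ * (((ℓ : ℕ) : A) ^ ℓ * x) := by ring
            _ = (v * y) ^ ℓ := by rw [hxy]; ring
        · calc y = (((ℓ : ℕ) : A) * v) * y := by rw [hv, one_mul]
            _ = ((ℓ : ℕ) : A) * (v * y) := by ring
        · rintro b ⟨-, hb⟩
          calc b = (((ℓ : ℕ) : A) * v) * b := by rw [hv, one_mul]
            _ = v * (((ℓ : ℕ) : A) * b) := by ring
            _ = v * y := by rw [hb]

end Groth.Agent.S8992
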