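import Groth.Statements.S4715
import Groth.Agent.Lib.ClosHt_helper8

set_option autoImplicit false
universe u
open EGA4

namespace Groth.Agent.S4715

open AlgebraicGeometry CategoryTheory in
/-- Let f : X → Y be a quasi-finite morphism (of finite type with discrete fibres) of locally Noetherian
schemes. Then dim X is at most the dimension of the closure of f(X), which is at most dim Y. -/
theorem result {X Y : Scheme.{u}} (f : X ⟶ Y) [IsLocallyNoetherian X] [IsLocallyNoetherian Y]
    [LocallyQuasiFinite f] [LocallyOfFiniteType f] [QuasiCompact f] :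
    topologicalKrullDim X ≤ topologicalKrullDim (closure (Set.range f.base)) ∧
      topologicalKrullDim (closure (Set.range f.base)) ≤ topologicalKrullDim Y := by
  classical
  have hmono : StrictMono (f.base : X → Y) := by
    intro a b hab
    have h1 : b ⤳ a := hab.le
    have h2 : ¬ a ⤳ b := fun h => (not_le_of_gt hab) h
    have h3 : f.base b ⤳ f.base a := h1.map f.continuous
    refine lt_of_le_not_ge h3 ?_
    intro h4
    have h5 : f.base a ⤳ f.base b := h4
    have heq : f.base a = f.base b := (h5.antisymm h3).eq
    have hdisc : _root_.IsDiscrete (f.base ⁻¹' {f.base b}) := f.isDiscrete_preimage_singleton (f.base b)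
    haveI := hdisc.to_subtype
    have ha : a ∈ f.base ⁻¹' {f.base b} := heq
    have hb : b ∈ f.base ⁻¹' {f.base b} := rfl
    have h6 : (⟨b, hb⟩ : ↥(f.base ⁻¹' {f.base b})) ⤳ ⟨a, ha⟩ :=
      (Topology.IsInducing.subtypeVal.specializes_iff).mp h1
    have h7 : (⟨b, hb⟩ : ↥(f.base ⁻¹' {f.base b})) = ⟨a, ha⟩ := h6.eq
    have h8 : b = a := congrArg Subtype.val h7
    exact h2 (h8 ▸ specializes_rfl)
  constructor
  · rw [Groth.Agent.ClosHtH8.topologicalKrullDim_eq_iSup_height]
    refine iSup_le fun x => ?_
    have h1 : Order.height x ≤ Order.height (f.base x) :=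
      Order.height_le_height_apply_of_strictMono _ hmono x
    have h2 := Groth.Agent.ClosHtH8.topologicalKrullDim_closure_singleton Y (f.base x)
    have hsub : closure ({f.base x} : Set Y) ⊆ closure (Set.range f.base) :=
      closure_mono (Set.singleton_subset_iff.mpr ⟨x, rfl⟩)
    have h3 : topologicalKrullDim ↥(closure ({f.base x} : Set Y)) ≤
        topologicalKrullDim ↥(closure (Set.range f.base)) :=
      (Topology.IsInducing.subtypeVal.codRestrict (s := closure (Set.range f.base))
        (fun z => hsub z.2)).topologicalKrullDim_le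
    calc ((Order.height x : ℕ∞) : WithBot ℕ∞) ≤ ((Order.height (f.base x) : ℕ∞) : WithBot ℕ∞) := by
          exact_mod_cast WithBot.coe_le_coe.mpr h1
      _ = topologicalKrullDim ↥(closure ({f.base x} : Set Y)) := h2.symm
      _ ≤ _ := h3
  · exact Topology.IsInducing.subtypeVal.topologicalKrullDim_le

end Groth.Agent.S4715
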