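import Groth.Statements.S4717
import Groth.Agent.S4715
import Groth.Agent.Lib.SubDimOld_helper8

set_option autoImplicit false
universe u
open EGA4

namespace Groth.Agent.S4717

open AlgebraicGeometry CategoryTheory in
/-- Let f : X → Y be a finite morphism of locally Noetherian schemes. Then dim X equals the dimension of
the image f(X); in particular if f is surjective then dim X = dim Y. -/
theorem result {X Y : Scheme.{u}} (f : X ⟶ Y) [IsLocallyNoetherian X] [IsLocallyNoetherian Y]
    [IsFinite f] :
    topologicalKrullDim X = topologicalKrullDim (Set.range f.base) ∧
      (Function.Surjective f.base → topologicalKrullDim X = topologicalKrullDim Y) := by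
  classical
  have hcm : IsClosedMap f.base := f.isClosedMap
  have hclosed : IsClosed (Set.range f.base) := hcm.isClosed_range
  have hs : SpecializingMap f.base := hcm.specializingMap
  have h1 := (Groth.Agent.S4715.result f).1
  have hceq : closure (Set.range f.base) = Set.range f.base := hclosed.closure_eq
  have hle : topologicalKrullDim X ≤ topologicalKrullDim ↥(Set.range f.base) := by
    have h2 : topologicalKrullDim ↥(closure (Set.range f.base)) ≤
        topologicalKrullDim ↥(Set.range f.base) :=
      (Topology.IsInducing.subtypeVal.codRestrict (s := Set.range f.base)
        (fun z => hceq.le z.2)).topologicalKrullDim_le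
    exact h1.trans h2
  have hge : topologicalKrullDim ↥(Set.range f.base) ≤ topologicalKrullDim X :=
    SubDimH8.topDim_range_le f hs hclosed
  refine ⟨le_antisymm hle hge, fun hsurj => ?_⟩
  refine le_antisymm (hle.trans Topology.IsInducing.subtypeVal.topologicalKrullDim_le) ?_
  have h3 : topologicalKrullDim Y ≤ topologicalKrullDim ↥(Set.range f.base) :=
    ((Topology.IsInducing.id (X := Y)).codRestrict (s := Set.range f.base)
      (fun z => hsurj z)).topologicalKrullDim_le
  exact h3.trans hge

end Groth.Agent.S4717
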