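import Groth.Statements.S15293
import Mathlib.Tactic
import Groth.Agent.Lib.DeRham_helper1

set_option autoImplicit false
universe u
open DeRham

namespace Groth.Agent.S15293

open exteriorPower in
/-- The additive map `⋀[A]^p Ω[A⁄R] → ⋀[B]^p Ω[B⁄S]` induced by a square. -/
theorem exists_psi (R S A B : Type u) [CommRing R] [CommRing S] [CommRing A] [CommRing B]
    [Algebra R S] [Algebra R A] [Algebra R B] [Algebra A B] [Algebra S B]
    [IsScalarTower R A B] [IsScalarTower R S B] (p : ℕ) :
    ∃ ψ : ↥(⋀[A]^p (Ω[A⁄R])) →+ ↥(⋀[B]^p (Ω[B⁄S])), ∀ (b₀ : A) (b : Fin p → A),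
      ψ (DeRham.gen (KaehlerDifferential.D R A) p b₀ b) =
        DeRham.gen (KaehlerDifferential.D S B) p (algebraMap A B b₀) (fun i => algebraMap A B (b i)) := by
  let _ : Module A ↥(⋀[B]^p (Ω[B⁄S])) := Module.compHom _ (algebraMap A B)
  have hsm : ∀ (a : A) (x : ↥(⋀[B]^p (Ω[B⁄S]))), a • x = algebraMap A B a • x := fun _ _ => rfl
  let Φ : Ω[A⁄R] →ₗ[A] Ω[B⁄S] := KaehlerDifferential.map R S A B
  have hupd : ∀ (inst : DecidableEq (Fin p)) (m : Fin p → Ω[A⁄R]) (i : Fin p) (z : Ω[A⁄R]),
      (fun j => Φ (@Function.update _ _ inst m i z j)) =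
        @Function.update _ _ inst (fun j => Φ (m j)) i (Φ z) := by
    intro inst m i z
    funext j
    by_cases h : j = i
    · subst h; simp
    · simp [Function.update_of_ne h]
  let alt : (Ω[A⁄R]) [⋀^Fin p]→ₗ[A] ↥(⋀[B]^p (Ω[B⁄S])) :=
    { toFun := fun m => ιMulti B p (fun i => Φ (m i))
      map_update_add' := by
        intro inst m i x y
        rw [hupd, hupd, hupd, map_add]
        exact (ιMulti B p).map_update_add _ i _ _
      map_update_smul' := by
        intro inst m i c x
        rw [hupd, hupd, map_smul, ← algebraMap_smul B c (Φ x)]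
        exact ((ιMulti B p).map_update_smul _ i _ _).trans (hsm c _).symm
      map_eq_zero_of_eq' := by
        intro m i j hij hne
        exact (ιMulti B p).map_eq_zero_of_eq _ (by simp only [hij]) hne }
  refine ⟨(alternatingMapLinearEquiv alt).toAddMonoidHom, ?_⟩
  intro b₀ b
  unfold DeRham.gen
  show alternatingMapLinearEquiv alt (b₀ • ιMulti A p _) = _
  rw [map_smul, alternatingMapLinearEquiv_apply_ιMulti, hsm]
  show algebraMap A B b₀ • ιMulti B p (fun i => Φ (KaehlerDifferential.D R A (b i))) = _
  congr 2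
  funext i
  exact KaehlerDifferential.map_D R S A B (b i)


open exteriorPower in
/-- For a commutative square of ring maps R → A → B, R → S → B (B an algebra over R, A and S
compatibly), there is a family of additive maps ψ_p from the p-forms of A over R to the p-forms of B
over S, p ≥ 0, which is the map of de Rham complexes induced by the square: ψ_p sends b₀ db₁ ∧ … ∧
db_p to g(b₀) d(g b₁) ∧ … ∧ d(g b_p), where g : A → B is the structure map. In degree 0 this is g
and in degree 1 the induced map on Kähler differentials. -/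
theorem result (R S A B : Type u) [CommRing R] [CommRing S] [CommRing A] [CommRing B]
    [Algebra R S] [Algebra R A] [Algebra R B] [Algebra A B] [Algebra S B]
    [IsScalarTower R A B] [IsScalarTower R S B] :
    ∃ ψ : ∀ p : ℕ, ↥(⋀[A]^p (Ω[A⁄R])) →+ ↥(⋀[B]^p (Ω[B⁄S])),
      DeRham.IsCxMap (KaehlerDifferential.D R A) (KaehlerDifferential.D S B) (algebraMap A B) ψ := by
  choose ψ hψ using exists_psi R S A B
  exact ⟨ψ, fun p b₀ b => hψ p b₀ b⟩

end Groth.Agent.S15293
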