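import Groth.Statements.S6587

set_option autoImplicit false
universe v u
open CategoryTheory CategoryTheory.Limits Opposite
open CohDer

namespace Groth.Agent.S6587

lemma tr_comp {C : Type*} [Category C] (X : ARSys.PS C) {n m k : ℕ} (h₁ : n ≤ m) (h₂ : m ≤ k) :
    ARSys.tr X h₂ ≫ ARSys.tr X h₁ = ARSys.tr X (h₁.trans h₂) := by
  dsimp only [ARSys.tr]
  rw [← X.map_comp]
  rfl

lemma tr_naturality {C : Type*} [Category C] {X Y : ARSys.PS C} (f : X ⟶ Y) {n m : ℕ} (h : n ≤ m) :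
    ARSys.tr X h ≫ f.app (op n) = f.app (op m) ≫ ARSys.tr Y h :=
  f.naturality _

open CategoryTheory.Pretriangulated in
/-- Let D be a triangulated category and let X_n → Y_n → Z_n → X_n⟦1⟧ be an inverse system of
distinguished triangles of D indexed by ℕ (levelwise maps f, g, h of inverse systems, each level
distinguished). If the inverse system (Z_n) is pro-zero, then the levelwise map f : (X_n) → (Y_n) is
a pro-isomorphism. -/
theorem result {D : Type u} [Category.{v} D] [Preadditive D] [HasZeroObject D] [HasShift D ℤ]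
    [∀ n : ℤ, (shiftFunctor D n).Additive] [Pretriangulated D] [IsTriangulated D]
    (X Y Z : ARSys.PS D) (f : X ⟶ Y) (g : Y ⟶ Z) (h : Z ⟶ X ⋙ shiftFunctor D (1 : ℤ))
    (hT : ∀ n : ℕ, Triangle.mk (f.app (op n)) (g.app (op n)) (h.app (op n)) ∈ distinguishedTriangles)
    (hZ : DerCA.IsProZero Z) :
    DerCA.IsProIso f := by
  intro n
  obtain ⟨m₁, h₁, hz₁⟩ := hZ n
  obtain ⟨m₂, h₂, hz₂⟩ := hZ m₁
  have e1 : ARSys.tr Y h₂ ≫ g.app (op m₁) = 0 := by
    rw [tr_naturality g h₂, hz₂, comp_zero]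
  obtain ⟨b₂, hb₂⟩ : ∃ b₂ : Y.obj (op m₂) ⟶ X.obj (op m₁), ARSys.tr Y h₂ = b₂ ≫ f.app (op m₁) :=
    Triangle.coyoneda_exact₂ _ (hT m₁) (ARSys.tr Y h₂) e1
  refine ⟨m₂, h₁.trans h₂, b₂ ≫ ARSys.tr X h₁, ?_, ?_⟩
  · -- `δ = f_{m₂} ≫ b₂ - tr X` is killed by `f_{m₁}`
    have e2 : (f.app (op m₂) ≫ b₂ - ARSys.tr X h₂) ≫ f.app (op m₁) = 0 := by
      rw [Preadditive.sub_comp, Category.assoc, ← hb₂, tr_naturality f h₂, sub_self]
    have e3 : (shiftFunctor D (1 : ℤ)).map (f.app (op m₂) ≫ b₂ - ARSys.tr X h₂) ≫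
        (shiftFunctor D (1 : ℤ)).map (f.app (op m₁)) = 0 := by
      rw [← Functor.map_comp, e2, Functor.map_zero]
    obtain ⟨ε, hε⟩ : ∃ ε : (shiftFunctor D (1 : ℤ)).obj (X.obj (op m₂)) ⟶ Z.obj (op m₁),
        (shiftFunctor D (1 : ℤ)).map (f.app (op m₂) ≫ b₂ - ARSys.tr X h₂) = ε ≫ h.app (op m₁) :=
      Triangle.coyoneda_exact₁ _ (hT m₁) _ e3
    have e4 : (f.app (op m₂) ≫ b₂ - ARSys.tr X h₂) ≫ ARSys.tr X h₁ = 0 := by
      apply (shiftFunctor D (1 : ℤ)).map_injective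
      rw [Functor.map_comp, hε, Functor.map_zero, Category.assoc]
      have nat := h.naturality (homOfLE h₁).op
      dsimp only [Functor.comp_map] at nat
      change ε ≫ h.app (op m₁) ≫ (shiftFunctor D (1 : ℤ)).map (X.map (homOfLE h₁).op) = 0
      rw [← nat]
      change ε ≫ ARSys.tr Z h₁ ≫ h.app (op n) = 0
      rw [hz₁, zero_comp, comp_zero]
    rw [Preadditive.sub_comp, sub_eq_zero, Category.assoc, tr_comp] at e4
    exact e4
  · rw [Category.assoc, tr_naturality f h₁, ← Category.assoc, ← hb₂, tr_comp]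

end Groth.Agent.S6587
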