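import Groth.Statements.S13055
import Mathlib
import Groth.Agent.Lib.ZetaPS_helper8

set_option autoImplicit false
universe u
open CategoryTheory AlgebraicGeometry
open Zeta

namespace Groth.Agent.S13055

/-- Let X be a scheme of finite type over a finite field k with q elements and P = a_d y^d + ⋯ + a_0 ∈
ℤ[y] with N_m = P(q^m) for every m ≥ 1 (X is of polynomial count). Then Z(X, t) = ∏_{i = 0}^{d} (1 −
q^i t)^{−a_i}; stated cleared of denominators, with the factors of positive exponent moved to the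
left. -/
theorem result {k : Type u} [Field k] [Finite k] {X : Scheme.{u}}
    (f : X ⟶ Spec (CommRingCat.of k)) [LocallyOfFiniteType f] [QuasiCompact f] (P : Polynomial ℤ)
    (hP : ∀ m : ℕ, 1 ≤ m → (Zeta.nPts f m : ℤ) = P.eval ((Nat.card k : ℤ) ^ m)) :
    Zeta.zetaFun f * ∏ i ∈ Finset.range (P.natDegree + 1),
        (1 - PowerSeries.C ((Nat.card k : ℚ) ^ i) * PowerSeries.X) ^ (P.coeff i).toNat =
      ∏ i ∈ Finset.range (P.natDegree + 1),
        (1 - PowerSeries.C ((Nat.card k : ℚ) ^ i) * PowerSeries.X) ^ (-P.coeff i).toNat := by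
  classical
  set L := Zeta.logZeta f with hLdef
  have hL0 : PowerSeries.constantCoeff L = 0 := by
    rw [← PowerSeries.coeff_zero_eq_constantCoeff_apply, hLdef, Zeta.logZeta,
      PowerSeries.coeff_mk]
    simp
  have hL' : ∀ j, PowerSeries.coeff j (PowerSeries.derivative ℚ L) =
      (Zeta.nPts f (j + 1) : ℚ) := by
    intro j
    rw [PowerSeries.coeff_derivative, hLdef, Zeta.logZeta, PowerSeries.coeff_mk]
    have : ((j : ℚ) + 1) ≠ 0 := by positivity
    push_cast
    field_simp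
  have hZ : Zeta.zetaFun f = PowerSeries.subst L (PowerSeries.exp ℚ) := rfl
  have hZ' := Groth.Agent.ZetaPS.derivative_exp_subst hL0
  have hZ0 := Groth.Agent.ZetaPS.constantCoeff_exp_subst hL0
  obtain ⟨q, hq⟩ : ∃ q : ℚ, q = (Nat.card k : ℚ) := ⟨_, rfl⟩
  rw [← hq]
  have hfac : ∀ i : ℕ, (1 - PowerSeries.C (q ^ i) * PowerSeries.X : PowerSeries ℚ) =
      1 - PowerSeries.C (q ^ i) * PowerSeries.X ^ 1 := by
    intro i; rw [pow_one]
  simp only [hfac]
  obtain ⟨h, hh⟩ : ∃ h : ℕ → PowerSeries ℚ, h = fun i : ℕ =>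
      -(PowerSeries.C (q ^ i) * (((1 : ℕ) : PowerSeries ℚ) * PowerSeries.X ^ (1 - 1))) *
        Groth.Agent.ZetaPS.geom (q ^ i) 1 := ⟨_, rfl⟩
  have hu : ∀ i ∈ Finset.range (P.natDegree + 1),
      PowerSeries.derivative ℚ (1 - PowerSeries.C (q ^ i) * PowerSeries.X ^ 1) =
        (1 - PowerSeries.C (q ^ i) * PowerSeries.X ^ 1) * h i := by
    intro i _
    rw [hh]
    exact Groth.Agent.ZetaPS.derivative_one_sub (q ^ i) le_rfl
  have hcoeffh : ∀ i j, PowerSeries.coeff j (h i) = -((q ^ i) ^ (j + 1)) := by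
    intro i j
    rw [hh]
    dsimp only
    rw [Groth.Agent.ZetaPS.coeff_logDeriv (q ^ i) le_rfl j, if_pos (one_dvd _), Nat.div_one]
    simp
  have hP1' := Groth.Agent.ZetaPS.derivative_prod_pow (Finset.range (P.natDegree + 1))
    (fun i => 1 - PowerSeries.C (q ^ i) * PowerSeries.X ^ 1) h
    (fun i => (P.coeff i).toNat) hu
  have hP2' := Groth.Agent.ZetaPS.derivative_prod_pow (Finset.range (P.natDegree + 1))
    (fun i => 1 - PowerSeries.C (q ^ i) * PowerSeries.X ^ 1) h
    (fun i => (-P.coeff i).toNat) hu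
  have hDeq : PowerSeries.derivative ℚ L +
      ∑ i ∈ Finset.range (P.natDegree + 1), (((P.coeff i).toNat : ℕ) : PowerSeries ℚ) * h i =
      ∑ i ∈ Finset.range (P.natDegree + 1), (((-P.coeff i).toNat : ℕ) : PowerSeries ℚ) * h i := by
    ext j
    rw [map_add, hL' j, map_sum, map_sum]
    have hc : ∀ (c : ℕ) i, PowerSeries.coeff j ((c : PowerSeries ℚ) * h i) =
        -((c : ℚ) * (q ^ i) ^ (j + 1)) := by
      intro c i
      rw [show (c : PowerSeries ℚ) = PowerSeries.C (c : ℚ) from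
        (map_natCast (PowerSeries.C (R := ℚ)) c).symm, PowerSeries.coeff_C_mul, hcoeffh]
      ring
    simp only [hc]
    have hN : (Zeta.nPts f (j + 1) : ℚ) =
        ∑ i ∈ Finset.range (P.natDegree + 1), (P.coeff i : ℚ) * (q ^ (j + 1)) ^ i := by
      have h2 := congrArg (Int.cast : ℤ → ℚ) (hP (j + 1) (by omega))
      rw [Polynomial.eval_eq_sum_range] at h2
      push_cast at h2
      rw [← hq] at h2
      exact h2
    rw [hN, ← Finset.sum_add_distrib]
    apply Finset.sum_congr rfl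
    intro i _
    have hAB : (P.coeff i : ℚ) = ((P.coeff i).toNat : ℚ) - ((-P.coeff i).toNat : ℚ) := by
      have h3 := congrArg (Int.cast : ℤ → ℚ) (Int.toNat_sub_toNat_neg (P.coeff i))
      push_cast at h3
      exact h3.symm
    rw [hAB, ← pow_mul, ← pow_mul, mul_comm i (j + 1)]
    ring
  apply Groth.Agent.ZetaPS.ode_unique
    (D := ∑ i ∈ Finset.range (P.natDegree + 1),
      (((-P.coeff i).toNat : ℕ) : PowerSeries ℚ) * h i)
  · rw [Derivation.leibniz, hP1', hZ, hZ', smul_eq_mul, smul_eq_mul, ← hDeq]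
    ring
  · exact hP2'
  · have hcc : ∀ (i m : ℕ), PowerSeries.constantCoeff
        ((1 - PowerSeries.C (q ^ i) * PowerSeries.X ^ 1 : PowerSeries ℚ) ^ m) = 1 := by
      intro i m
      simp
    rw [map_mul, hZ, hZ0, one_mul, map_prod, map_prod]
    rw [Finset.prod_congr rfl (fun i _ => hcc i _), Finset.prod_congr rfl (fun i _ => hcc i _)]

end Groth.Agent.S13055
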