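import Groth.Statements.S0927
import Mathlib
import Groth.Agent.Lib.PForm4_helper9
import Groth.Agent.Lib.FAcyc_helper9

set_option autoImplicit false
universe u
open CategoryTheory
open Coh

namespace Groth.Agent.S0927
attribute [local instance] HasDerivedCategory.standard

open AlgebraicGeometry CategoryTheory.Limits in
/-- Projection formula, for schemes and one degree at a time: let f : X → Y be a morphism of schemes, F
an O_X-module and E a finite locally free O_Y-module. Then for every q the O_Y-module E ⊗ R^q f_* F
is isomorphic to R^q f_* (f^* E ⊗ F). The higher direct images are the right derived functors of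
f_*, under the instance argument recording that O_X-modules have injective resolutions. (The
published statement treats ringed spaces and also gives a version for bounded-below complexes.) -/
theorem result {X Y : Scheme.{u}} (f : X ⟶ Y) [HasInjectiveResolutions X.Modules]
    (F : X.Modules) (E : Y.Modules) (hE : FlatMod.IsFinLocFree E) (q : ℕ) :
    Nonempty (CohB1.tensorMod E ((Coh.Rpush f q).obj F) ≅
      (Coh.Rpush f q).obj (CohB1.tensorMod ((Scheme.Modules.pullback f).obj E) F)) := by
  have hE' := PBH8.isFinLocFree_pullback f hE
  haveI := (PFormH9.preserves_TL hE).1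
  haveI := (PFormH9.preserves_TL hE).2
  haveI := (PFormH9.preserves_TL hE').1
  haveI := (PFormH9.preserves_TL hE').2
  haveI : EnoughInjectives X.Modules := Groth.Agent.Lib.FAcyc.enoughInjectives
  haveI : (Scheme.Modules.pushforward f).IsRightAdjoint :=
    (Scheme.Modules.pullbackPushforwardAdjunction f).isRightAdjoint
  obtain ⟨e₃⟩ := Bridge.comp_acyclic (PFormH9.TL ((Scheme.Modules.pullback f).obj E))
    (Scheme.Modules.pushforward f)
    (fun I hI i hi => by
      obtain ⟨k, rfl⟩ : ∃ k, i = k + 1 := ⟨i - 1, by omega⟩
      haveI := hI
      exact PFormH9.isZero_Rpush_TL f E hE I k) F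
    (Groth.Agent.Lib.ModFree.acyclic_of_exact _ F) q
  exact ⟨(Groth.Agent.Lib.ModFree.rightDerivedCompExactIso (Scheme.Modules.pushforward f)
      (PFormH9.TL E) F q).symm ≪≫
    (ExtDer.rightDerivedIso (PFormH9.projIso f E hE) q).app F ≪≫ e₃.symm⟩

end Groth.Agent.S0927
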