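import Groth.Statements.S0249
import Mathlib

set_option autoImplicit false
universe u
open Pi1

namespace Groth.Agent.S0249

open AlgebraicGeometry CategoryTheory CategoryTheory.Limits in
/-- Let A be a Noetherian local ring of dimension at least 1 and f an element of its maximal ideal. Then
some prime ideal of height exactly 1 contains f. -/
theorem result (A : Type u) [CommRing A] [IsNoetherianRing A] [IsLocalRing A]
    (h : (1 : WithBot ℕ∞) ≤ ringKrullDim A) (f : A) (hf : f ∈ IsLocalRing.maximalIdeal A) :
    ∃ p : Ideal A, p.IsPrime ∧ f ∈ p ∧ p.height = 1 := by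
  by_contra hcon
  push Not at hcon
  have key : ∀ n : ℕ, ∀ p : Ideal A, p.IsPrime → f ∈ p → p.height = n → 1 ≤ n → False := by
    intro n
    induction n using Nat.strong_induction_on with
    | _ n IH =>
      intro p hp hfp hpn hn1
      have hn2 : ¬ p.height ≤ ((1 : ℕ) : ℕ∞) := by
        intro hle
        apply hcon p hp hfp
        apply le_antisymm (by exact_mod_cast hle)
        rw [hpn]; exact_mod_cast hn1
      rw [Ideal.height_le_iff] at hn2
      push Not at hn2
      obtain ⟨q, hq, hqp, hq1⟩ := hn2
      have hq0 : ¬ q.height ≤ ((0 : ℕ) : ℕ∞) := by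
        intro hle
        have : q.height < ((1 : ℕ) : ℕ∞) := lt_of_le_of_lt hle (by exact_mod_cast Nat.zero_lt_one)
        exact absurd hq1 (not_le.mpr this)
      rw [Ideal.height_le_iff] at hq0
      push Not at hq0
      obtain ⟨q0, hq0p, hq0q, -⟩ := hq0
      have hqlt : q.height < p.height := Ideal.height_strict_mono_of_isPrime_of_isPrime hqp
      by_cases hfq : f ∈ q
      · obtain ⟨k, hk⟩ := ENat.ne_top_iff_exists.mp (Ideal.height_ne_top_of_isPrime (I := q))
        have hkn : k < n := by
          have : (k : ℕ∞) < n := by rw [hk, ← hpn]; exact hqlt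
          exact_mod_cast this
        have hk1 : 1 ≤ k := by
          have : ((1 : ℕ) : ℕ∞) ≤ k := by rw [hk]; exact hq1
          exact_mod_cast this
        exact IH k hkn q hq hfq hk.symm hk1
      · have hfq0 : f ∉ q0 := fun hh => hfq (hq0q.le hh)
        have hIp : Ideal.span (insert f (q0 : Set A)) ≤ p := by
          rw [Ideal.span_le, Set.insert_subset_iff]
          exact ⟨hfp, fun x hx => hqp.le (hq0q.le hx)⟩
        obtain ⟨p', hp'min, hp'p⟩ := Ideal.exists_minimalPrimes_le hIp
        have hp' : p'.IsPrime := hp'min.1.1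
        have hfp' : f ∈ p' := hp'min.1.2 (Ideal.subset_span (Set.mem_insert _ _))
        have hq0p' : q0 ≤ p' := fun x hx =>
          hp'min.1.2 (Ideal.subset_span (Set.mem_insert_of_mem _ hx))
        have hq0p'lt : q0 < p' := lt_of_le_of_ne hq0p' (fun e => hfq0 (e ▸ hfp'))
        have hne : p' ≠ p := by
          rintro rfl
          have hmin := Ideal.mem_minimalPrimes_span_of_mem_minimalPrimes_span_insert hqp f
            (q0 : Set A) hp'min (q0 : Set A) (fun x hx => hq0q.le hx)
            (fun x hx => Ideal.le_radical (Ideal.subset_span (Set.mem_insert_of_mem _ hx)))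
          have : q ≤ q0 := hmin.2 ⟨hq0p, (Ideal.span_eq q0).le⟩ hq0q.le
          exact absurd this (not_le_of_gt hq0q)
        have hp'lt : p' < p := lt_of_le_of_ne hp'p hne
        have h1 : p'.height < p.height := Ideal.height_strict_mono_of_isPrime_of_isPrime hp'lt
        have h2 : q0.height < p'.height := Ideal.height_strict_mono_of_isPrime_of_isPrime hq0p'lt
        obtain ⟨k, hk⟩ := ENat.ne_top_iff_exists.mp (Ideal.height_ne_top_of_isPrime (I := p'))
        have hkn : k < n := by
          have : (k : ℕ∞) < n := by rw [hk, ← hpn]; exact h1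
          exact_mod_cast this
        have hk1 : 1 ≤ k := by
          have : (0 : ℕ∞) < k := by rw [hk]; exact lt_of_le_of_lt bot_le h2
          exact_mod_cast this
        exact IH k hkn p' hp' hfp' hk.symm hk1
  have hm : (IsLocalRing.maximalIdeal A).IsPrime := inferInstance
  obtain ⟨k, hk⟩ := ENat.ne_top_iff_exists.mp
    (Ideal.height_ne_top_of_isPrime (I := IsLocalRing.maximalIdeal A))
  have hdim : ((IsLocalRing.maximalIdeal A).height : WithBot ℕ∞) = ringKrullDim A :=
    IsLocalRing.maximalIdeal_height_eq_ringKrullDim
  have hk1 : 1 ≤ k := by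
    rw [← hdim, ← hk] at h
    exact_mod_cast h
  exact key k _ hm hf hk.symm hk1

end Groth.Agent.S0249
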