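import Groth.Statements.S5924
import Groth.Agent.Lib.SubComp_helper8
import Groth.Agent.Lib.SchFT_helper8
import Groth.Agent.Lib.FibRes2_helper8

set_option autoImplicit false
open CategoryTheory AlgebraicGeometry
universe u
open EGA43

namespace Groth.Agent.S5924

/-- Let Y be an irreducible locally Noetherian scheme, f : X ⟶ Y a morphism locally of finite type which
is equidimensional at the point x, and suppose that x is not a maximal point of its fibre f⁻¹(f x),
i.e. some point of the fibre other than x specializes to x. Then there exist an affine open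
neighbourhood U of x and a section g of O_X over U such that g vanishes at x (x is not in the basic
open set of g) while every maximal point of f⁻¹(f x) lying in U is in the basic open set of g. -/
theorem result {X Y : Scheme.{u}} [IrreducibleSpace Y]
    [IsLocallyNoetherian Y] (f : X ⟶ Y) [LocallyOfFiniteType f] (x : X) (hf : EGA43.IsEquidimAt f x)
    (hx : ∃ x' : X, f.base x' = f.base x ∧ x' ≠ x ∧ x ∈ closure ({x'} : Set X)) :
    ∃ U : X.Opens, IsAffineOpen U ∧ x ∈ U ∧ ∃ g : Γ(X, U), x ∉ X.basicOpen g ∧
      ∀ z : X, f.base z = f.base x → (∀ z' : X, f.base z' = f.base x → z ∈ closure ({z'} : Set X) → z' = z) →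
        z ∈ U → z ∈ X.basicOpen g := by
  classical
  haveI : IsLocallyNoetherian X := LocallyOfFiniteType.isLocallyNoetherian f
  obtain ⟨U, hU, hxU⟩ : ∃ U : X.Opens, IsAffineOpen U ∧ x ∈ U := by
    obtain ⟨_, ⟨U, hU, rfl⟩, hxU, -⟩ :=
      X.isBasis_affineOpens.exists_subset_of_mem_open (Set.mem_univ x) isOpen_univ
    exact ⟨U, hU, hxU⟩
  haveI : IsNoetherianRing Γ(X, U) := IsLocallyNoetherian.component_noetherian ⟨U, hU⟩
  haveI hNS : TopologicalSpace.NoetherianSpace ↥U := noetherianSpace_of_isAffineOpen U hU
  set S : Set X := {z | z ∈ U ∧ f.base z = f.base x ∧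
    ∀ z' : X, f.base z' = f.base x → z ∈ closure ({z'} : Set X) → z' = z} with hS
  -- finiteness of S
  have hSfin : S.Finite := by
    set j := f.fiberι (f.base x) with hj
    let W : Set ↥(f.fiber (f.base x)) := j.base ⁻¹' (U : Set X)
    have hWo : IsOpen W := U.2.preimage j.continuous
    let g : W → U := fun v => ⟨j.base v.1, v.2⟩
    have hg : Topology.IsInducing g := by
      have h1 : Topology.IsInducing (fun v : W => j.base v.1) :=
        j.isEmbedding.isInducing.comp Topology.IsInducing.subtypeVal
      have h2 : (Subtype.val : U → X) ∘ g = fun v : W => j.base v.1 := rfl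
      exact Topology.IsInducing.of_comp (by
        apply Continuous.subtype_mk
        exact j.continuous.comp continuous_subtype_val) continuous_subtype_val (h2 ▸ h1)
    haveI : TopologicalSpace.NoetherianSpace W := hg.noetherianSpace
    haveI : QuasiSober W := hWo.isOpenEmbedding_subtypeVal.quasiSober
    let M : Set W := {w | ∀ w' : W, w' ⤳ w → w' = w}
    have hMfin : M.Finite := by
      apply Set.Finite.of_finite_image (f := fun w : W => closure ({w} : Set W))
      · apply Set.Finite.subset
          (TopologicalSpace.NoetherianSpace.finite_irreducibleComponents (α := W))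
        rintro _ ⟨w, hw, rfl⟩
        exact (SubCompH8.closure_mem_irreducibleComponents_iff w).mpr hw
      · intro w _ w' _ hww'
        have hww'' : closure ({w} : Set W) = closure ({w'} : Set W) := hww'
        have h1 : w ⤳ w' := by
          rw [specializes_iff_mem_closure, hww'']; exact subset_closure rfl
        have h2 : w' ⤳ w := by
          rw [specializes_iff_mem_closure, ← hww'']; exact subset_closure rfl
        exact (h1.antisymm h2).eq
    apply Set.Finite.subset (hMfin.image (fun w : W => j.base w.1))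
    rintro z ⟨hzU, hfz, hzmax⟩
    set v : ↥(f.fiber (f.base x)) := (f.fiberHomeo (f.base x)).symm ⟨z, hfz⟩ with hv
    have hιv : j.base v = z := f.fiberι_fiberHomeo_symm _ _
    have hvW : v ∈ W := by show j.base v ∈ (U : Set X); rw [hιv]; exact hzU
    refine ⟨⟨v, hvW⟩, ?_, hιv⟩
    intro w' hw'
    have h1 : j.base w'.1 ⤳ j.base v := by
      have := hw'.map (continuous_subtype_val)
      exact this.map j.continuous
    rw [hιv] at h1
    have h2 := hzmax (j.base w'.1) (Groth.Agent.FibRes2H8.fiberι_mem f (f.base x) w'.1)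
      (specializes_iff_mem_closure.mp h1)
    apply Subtype.ext
    apply j.isEmbedding.injective
    rw [h2, hιv]
  -- prime avoidance
  let P : X → Ideal Γ(X, U) := fun z =>
    if h : z ∈ U then (hU.primeIdealOf ⟨z, h⟩).asIdeal else ⊤
  have hP : ∀ z (h : z ∈ U), P z = (hU.primeIdealOf ⟨z, h⟩).asIdeal := fun z h => dif_pos h
  have key : ¬ (((hU.primeIdealOf ⟨x, hxU⟩).asIdeal : Set Γ(X, U)) ⊆
      ⋃ z ∈ (hSfin.toFinset : Set X), (P z : Set Γ(X, U))) := by
    rw [Ideal.subset_union_prime (f := P) x x]
    · rintro ⟨z, hz, hle⟩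
      rw [Set.Finite.mem_toFinset] at hz
      obtain ⟨hzU, hfz, hzmax⟩ := hz
      rw [hP z hzU] at hle
      have hsp : x ⤳ z :=
        (Groth.Agent.SchFTH8.specializes_iff_primeIdealOf_le hU x z hxU hzU).mpr hle
      have hxz : x = z := hzmax x rfl (specializes_iff_mem_closure.mp hsp)
      obtain ⟨x', hfx', hne, hcl⟩ := hx
      apply hne
      rw [hxz]
      apply hzmax x' hfx'
      rw [← hxz]; exact hcl
    · intro z hz _ _
      rw [Set.Finite.mem_toFinset] at hz
      rw [hP z hz.1]
      exact (hU.primeIdealOf ⟨z, hz.1⟩).2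
  rw [Set.not_subset] at key
  obtain ⟨g, hgx, hgS⟩ := key
  have hmemW : ∀ (z : X) (hz : z ∈ U), z ∈ X.basicOpen g ↔ g ∉ (hU.primeIdealOf ⟨z, hz⟩).asIdeal := by
    intro z hz
    have h1 : z = hU.fromSpec (hU.primeIdealOf ⟨z, hz⟩) := (hU.fromSpec_primeIdealOf ⟨z, hz⟩).symm
    have h2 : z ∈ X.basicOpen g ↔ hU.primeIdealOf ⟨z, hz⟩ ∈ hU.fromSpec ⁻¹ᵁ X.basicOpen g := by
      conv_lhs => rw [h1]
      rfl
    rw [h2, hU.fromSpec_preimage_basicOpen]
    rfl
  refine ⟨U, hU, hxU, g, ?_, ?_⟩
  · rw [hmemW x hxU]
    exact fun h => h hgx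
  · intro z hfz hzmax hzU
    rw [hmemW z hzU]
    intro hgz
    apply hgS
    simp only [Set.mem_iUnion]
    refine ⟨z, ?_, ?_⟩
    · rw [Finset.mem_coe, Set.Finite.mem_toFinset]
      exact ⟨hzU, hfz, hzmax⟩
    · rw [hP z hzU]
      exact hgz

end Groth.Agent.S5924
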