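import Groth.Statements.S5925
import Groth.Agent.Lib.EquidimSub3_helper8
import Groth.Agent.Lib.ZeroLocKrull_helper8

set_option autoImplicit false
open CategoryTheory AlgebraicGeometry
universe u
open EGA43

namespace Groth.Agent.S5925

/-- Let Y be an irreducible locally Noetherian scheme, f : X ⟶ Y a morphism locally of finite type which
is equidimensional at the point x, y = f x and e = dim_x(f⁻¹(y)). Let g be a global section of O_X
vanishing at x whose zero set X' contains no maximal point of f⁻¹(y). Then X', with its reduced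
closed subscheme structure, is equidimensional over Y at x; dim_x(X' ∩ f⁻¹(y)) = e − 1; and every
irreducible component of X' containing x has codimension 1 in X, i.e. the local ring of X at its
generic point has Krull dimension 1. (Stated for a global section; the published statement takes g
on an affine open neighbourhood of x, to which this applies after restriction, and its codimension
assertion codim(X', X) = 1 is read for the components of X' through x: a component of the zero set
not passing through x can be a whole irreducible component of X disjoint from the fibre, of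
codimension 0.) -/
theorem result {X Y : Scheme.{u}} [IrreducibleSpace Y]
    [IsLocallyNoetherian Y] (f : X ⟶ Y) [LocallyOfFiniteType f] (x : X) (hf : EGA43.IsEquidimAt f x)
    (g : Γ(X, ⊤)) (hgx : x ∈ X.zeroLocus ({g} : Set Γ(X, ⊤)))
    (hmax : ∀ z : X, f.base z = f.base x → (∀ z' : X, f.base z' = f.base x → z ∈ closure ({z'} : Set X) → z' = z) →
      z ∉ X.zeroLocus ({g} : Set Γ(X, ⊤))) :
    (∀ w : ↥(Scheme.IdealSheafData.vanishingIdeal ⟨X.zeroLocus ({g} : Set Γ(X, ⊤)), X.zeroLocus_isClosed _⟩).subscheme,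
        (Scheme.IdealSheafData.vanishingIdeal ⟨X.zeroLocus ({g} : Set Γ(X, ⊤)), X.zeroLocus_isClosed _⟩).subschemeι.base w = x →
        EGA43.IsEquidimAt ((Scheme.IdealSheafData.vanishingIdeal ⟨X.zeroLocus ({g} : Set Γ(X, ⊤)), X.zeroLocus_isClosed _⟩).subschemeι ≫ f) w) ∧
      FlatMor.localDim ↥(X.zeroLocus ({g} : Set Γ(X, ⊤)) ∩ f.base ⁻¹' {f.base x}) ⟨x, ⟨hgx, rfl⟩⟩ + 1 = FlatMor.fibreDimAt f x ∧
      ∀ Z ∈ irreducibleComponents ↥(X.zeroLocus ({g} : Set Γ(X, ⊤))), (⟨x, hgx⟩ : ↥(X.zeroLocus ({g} : Set Γ(X, ⊤)))) ∈ Z →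
        ∀ ξ : ↥(X.zeroLocus ({g} : Set Γ(X, ⊤))), closure ({ξ} : Set ↥(X.zeroLocus ({g} : Set Γ(X, ⊤)))) = Z →
          ringKrullDim (X.presheaf.stalk (ξ : X)) = 1 := by
  classical
  haveI : IsLocallyNoetherian X := LocallyOfFiniteType.isLocallyNoetherian f
  set X' : TopologicalSpace.Closeds X :=
    ⟨X.zeroLocus ({g} : Set Γ(X, ⊤)), X.zeroLocus_isClosed _⟩ with hX'
  set i := (AlgebraicGeometry.Scheme.IdealSheafData.vanishingIdeal X').subschemeι with hi
  have hrange : Set.range i.base = X.zeroLocus ({g} : Set Γ(X, ⊤)) :=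
    EquidimSubH8.range_vanishingIdeal_subschemeι X'
  have hemb : Topology.IsEmbedding i.base := i.isEmbedding
  have hind := hemb.isInducing
  obtain ⟨e, U, hxU, hconst, hdom⟩ := EquidimCharH8.exists_of_isEquidimAt f x hf
  have he : FlatMor.fibreDimAt f x = (e : WithBot ℕ∞) := hconst x hxU
  have hA : ∀ (w x'' : ↥(AlgebraicGeometry.Scheme.IdealSheafData.vanishingIdeal X').subscheme),
      (∀ a : ↥(AlgebraicGeometry.Scheme.IdealSheafData.vanishingIdeal X').subscheme, a ⤳ x'' → a = x'') →
      x'' ⤳ w → ringKrullDim (X.presheaf.stalk (i.base x'')) ≤ ((1 : ℕ) : WithBot ℕ∞) := by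
    intro w x'' hm _
    have h1 : i.base x'' ∈ X.zeroLocus ({g} : Set Γ(X, ⊤)) := hrange ▸ ⟨x'', rfl⟩
    have := ZeroLocKrullH8.ringKrullDim_stalk_le_one g (i.base x'') h1 (by
      intro a ha hsp
      obtain ⟨a'', rfl⟩ : a ∈ Set.range i.base := hrange ▸ ha
      rw [hind.specializes_iff] at hsp
      rw [hm a'' hsp])
    exact_mod_cast this
  have hB : ∀ w : ↥(AlgebraicGeometry.Scheme.IdealSheafData.vanishingIdeal X').subscheme, i.base w = x →
      FlatMor.fibreDimAt (i ≫ f) w + ((1 : ℕ) : WithBot ℕ∞) ≤ FlatMor.fibreDimAt f x := by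
    intro w hw
    rw [he]
    refine EquidimSubH8.add_one_le f e U hconst i w (hw ▸ hxU) ?_
    intro x'' h1 h2
    have hζ : i.base x'' ∈ X.zeroLocus ({g} : Set Γ(X, ⊤)) := hrange ▸ ⟨x'', rfl⟩
    have hfζ : f.base (i.base x'') = f.base x := by rw [← hw]; exact h1
    have h3 := hmax (i.base x'') hfζ
    by_contra hcon
    push Not at hcon
    exact h3 (fun z' hz' hcl => hcon z' (hz'.trans hfζ.symm)
      (specializes_iff_mem_closure.mpr hcl)) hζ
  obtain ⟨w₀, hw₀⟩ : x ∈ Set.range i.base := hrange ▸ hgx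
  obtain ⟨m1, m2, -⟩ := EquidimSubH8.main f x hf i w₀ hw₀ 1 (hA w₀) (hB w₀ hw₀)
  refine ⟨?_, ?_, ?_⟩
  · intro w hw
    exact (EquidimSubH8.main f x hf i w hw 1 (hA w) (hB w hw)).2.2
  · rw [EquidimSubH8.bridge f i hemb w₀ x hw₀ (X.zeroLocus ({g} : Set Γ(X, ⊤))) hrange
      ⟨hgx, rfl⟩] at m2
    exact_mod_cast m2
  · intro Z hZ hxZ ξ hξZ
    obtain ⟨x'', hx''⟩ : (ξ : X) ∈ Set.range i.base := by rw [hrange]; exact ξ.2
    have hx''max : ∀ a : ↥(AlgebraicGeometry.Scheme.IdealSheafData.vanishingIdeal X').subscheme,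
        a ⤳ x'' → a = x'' := by
      intro a ha
      have ha' : i.base a ⤳ (ξ : X) := hx'' ▸ ha.map i.base.hom.continuous
      have hamem : i.base a ∈ X.zeroLocus ({g} : Set Γ(X, ⊤)) := hrange ▸ ⟨a, rfl⟩
      let a' : ↥(X.zeroLocus ({g} : Set Γ(X, ⊤))) := ⟨i.base a, hamem⟩
      have ha'' : a' ⤳ ξ := (subtype_specializes_iff a' ξ).mpr ha'
      have hsub : Z ⊆ closure ({a'} : Set ↥(X.zeroLocus ({g} : Set Γ(X, ⊤)))) := by
        rw [← hξZ]
        exact closure_minimal (Set.singleton_subset_iff.mpr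
          (specializes_iff_mem_closure.mp ha'')) isClosed_closure
      have heq : closure ({a'} : Set ↥(X.zeroLocus ({g} : Set Γ(X, ⊤)))) = Z :=
        (hZ.2 isIrreducible_singleton.closure hsub |>.antisymm hsub)
      have hξa : ξ ⤳ a' := by
        rw [specializes_iff_mem_closure, hξZ, ← heq]
        exact subset_closure rfl
      have h5 : a' = ξ := (ha''.antisymm hξa).eq
      have h6 : i.base a = i.base x'' := by
        rw [hx'']
        exact congrArg Subtype.val h5
      exact hemb.injective h6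
    have hx''w : x'' ⤳ w₀ := by
      rw [← hind.specializes_iff, hx'', hw₀]
      have h7 : ξ ⤳ (⟨x, hgx⟩ : ↥(X.zeroLocus ({g} : Set Γ(X, ⊤)))) := by
        rw [specializes_iff_mem_closure, hξZ]
        exact hxZ
      exact (subtype_specializes_iff _ _).mp h7
    have := m1 x'' hx''max hx''w
    rw [hx''] at this
    exact_mod_cast this

end Groth.Agent.S5925
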