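import Groth.Statements.S2090
import Mathlib
import Groth.Agent.Lib.DepthSk_helper5

set_option autoImplicit false
universe u
open CAlg

namespace Groth.Agent.S2090

/-- Let `R` be Noetherian and `φ : M → N` a map of `R`-modules with `M` finite. Suppose that for every
prime `𝔭` either `φ_𝔭` is bijective, or `M_𝔭` has depth at least two and `𝔭` is not an associated
prime of `N`. Then `φ` is bijective. -/
theorem result {R M N : Type u} [CommRing R] [IsNoetherianRing R] [AddCommGroup M]
    [Module R M] [Module.Finite R M] [AddCommGroup N] [Module R N] (φ : M →ₗ[R] N)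
    (h : ∀ (p : Ideal R) [p.IsPrime],
      Function.Bijective (LocalizedModule.map p.primeCompl φ) ∨
        (2 ≤ LocCoh.depth (Localization.AtPrime p) (LocalizedModule p.primeCompl M) ∧
          p ∉ associatedPrimes R N)) :
    Function.Bijective φ := by
  classical
  -- injectivity
  have hinj : Function.Injective φ := by
    rw [← LinearMap.ker_eq_bot, eq_bot_iff]
    intro k hk
    rw [Submodule.mem_bot]
    by_contra hkne
    have hKne : (⟨k, hk⟩ : LinearMap.ker φ) ≠ 0 := by
      intro h0
      exact hkne (congrArg Subtype.val h0)
    obtain ⟨P, hP, -⟩ := exists_le_isAssociatedPrime_of_isNoetherianRing R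
      (⟨k, hk⟩ : LinearMap.ker φ) hKne
    haveI := hP.isPrime
    have hPM : P ∈ associatedPrimes R M :=
      associatedPrimes.subset_of_injective (f := (LinearMap.ker φ).subtype)
        (Submodule.injective_subtype _) hP
    obtain ⟨_, k', hk'⟩ := isAssociatedPrime_iff.1 hP
    have hPk : ∀ a : R, a • k' = 0 → a ∈ P := by
      intro a ha
      rw [hk', Submodule.mem_colon_singleton, Submodule.mem_bot]
      exact ha
    rcases h P with hb | ⟨h2, _⟩
    · have h1 : LocalizedModule.map P.primeCompl φ (LocalizedModule.mk (k' : M) 1) = 0 := by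
        rw [LocalizedModule.map_mk, LinearMap.mem_ker.1 k'.2, LocalizedModule.zero_mk]
      have h0 := hb.1 (h1.trans (map_zero _).symm)
      rw [← LocalizedModule.mkLinearMap_apply,
        IsLocalizedModule.eq_zero_iff P.primeCompl (LocalizedModule.mkLinearMap P.primeCompl M)] at h0
      obtain ⟨s, hs⟩ := h0
      apply s.2
      show (s : R) ∈ P
      apply hPk
      apply Subtype.ext
      exact hs
    · exact (Groth.Agent.DepthLib.not_one_le_depth_localization_iff M P).2 hPM
        (le_trans (by norm_num) h2)
  refine ⟨hinj, ?_⟩
  -- surjectivity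
  intro n₀
  by_contra hn₀
  have hQne : (LinearMap.range φ).mkQ n₀ ≠ 0 := by
    intro h0
    rw [Submodule.mkQ_apply, Submodule.Quotient.mk_eq_zero] at h0
    exact hn₀ h0
  obtain ⟨P, hP, -⟩ := exists_le_isAssociatedPrime_of_isNoetherianRing R _ hQne
  haveI hPprime := hP.isPrime
  obtain ⟨_, q, hq⟩ := isAssociatedPrime_iff.1 hP
  obtain ⟨n, rfl⟩ := Submodule.mkQ_surjective _ q
  have hPn : ∀ a : R, a ∈ P ↔ a • n ∈ LinearMap.range φ := by
    intro a
    rw [hq, Submodule.mem_colon_singleton, Submodule.mem_bot, ← map_smul, Submodule.mkQ_apply,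
      Submodule.Quotient.mk_eq_zero]
  rcases h P with hb | ⟨h2, hPN⟩
  · -- φ_P surjective gives a contradiction
    obtain ⟨y, hy⟩ := hb.2 (LocalizedModule.mk n 1)
    induction y using LocalizedModule.induction_on with
    | h m s =>
      rw [LocalizedModule.map_mk, LocalizedModule.mk_eq] at hy
      obtain ⟨t, ht⟩ := hy
      rw [one_smul] at ht
      have h3 : ((t : R) * (s : R)) • n ∈ LinearMap.range φ := by
        refine ⟨(t : R) • m, ?_⟩
        rw [map_smul, mul_smul]
        exact ht
      have h4 := (hPn _).2 h3
      rcases hPprime.mem_or_mem h4 with h5 | h5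
      · exact t.2 h5
      · exact s.2 h5
  · apply hPN
    -- the finite submodule N' = range φ + R n
    set N' : Submodule R N := LinearMap.range φ ⊔ Submodule.span R {n} with hN'
    haveI : Module.Finite R N' := by
      rw [Module.Finite.iff_fg]
      apply Submodule.FG.sup
      · rw [LinearMap.range_eq_map]
        exact Submodule.FG.map _ Module.Finite.fg_top
      · exact Submodule.fg_span_singleton n
    have hφN' : ∀ m, φ m ∈ N' := fun m => Submodule.mem_sup_left ⟨m, rfl⟩
    set φ' : M →ₗ[R] N' := φ.codRestrict N' hφN' with hφ'
    have hφ'inj : Function.Injective φ' := by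
      intro a b hab
      apply hinj
      exact congrArg Subtype.val hab
    set C := N' ⧸ LinearMap.range φ' with hC
    have hnN' : n ∈ N' := Submodule.mem_sup_right (Submodule.mem_span_singleton_self n)
    -- P is associated to C
    have hPC : P ∈ associatedPrimes R C := by
      rw [associatedPrimes, Set.mem_setOf_eq, isAssociatedPrime_iff]
      refine ⟨hPprime, (LinearMap.range φ').mkQ ⟨n, hnN'⟩, ?_⟩
      ext a
      rw [Submodule.mem_colon_singleton, Submodule.mem_bot, ← map_smul, Submodule.mkQ_apply,
        Submodule.Quotient.mk_eq_zero, hPn]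
      constructor
      · rintro ⟨m, hm⟩
        exact ⟨m, Subtype.ext hm⟩
      · rintro ⟨m, hm⟩
        exact ⟨m, congrArg Subtype.val hm⟩
    have hC0 := (Groth.Agent.DepthLib.not_one_le_depth_localization_iff C P).2 hPC
    -- localized exact sequence
    have hex : Function.Exact φ' (LinearMap.range φ').mkQ := by
      rw [LinearMap.exact_iff, Submodule.ker_mkQ]
    have hses := Groth.Agent.DepthLib.depth_ses
      (IsLocalRing.maximalIdeal (Localization.AtPrime P))
      (LocalizedModule P.primeCompl M) (LocalizedModule P.primeCompl N')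
      (LocalizedModule P.primeCompl C)
      (LocalizedModule.map P.primeCompl φ') (LocalizedModule.map P.primeCompl (LinearMap.range φ').mkQ)
      (LocalizedModule.map_injective _ _ hφ'inj)
      (LocalizedModule.map_surjective _ _ (Submodule.mkQ_surjective _))
      (LocalizedModule.map_exact _ _ _ hex)
    have hN'0 : ¬ 1 ≤ LocCoh.depth (Localization.AtPrime P) (LocalizedModule P.primeCompl N') := by
      intro h1
      apply hC0
      refine le_trans ?_ hses.2.1
      rw [le_min_iff]
      refine ⟨h1, ?_⟩
      apply ENat.le_sub_of_add_le_right (by simp)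
      exact le_trans (by norm_num) h2
    have hPN' := (Groth.Agent.DepthLib.not_one_le_depth_localization_iff N' P).1 hN'0
    exact associatedPrimes.subset_of_injective (f := N'.subtype) (Submodule.injective_subtype _) hPN'

end Groth.Agent.S2090
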