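import Groth.Statements.S6879
import Mathlib
import Groth.Agent.Lib.DepthRefl_helper5
import Groth.Agent.S2090

set_option autoImplicit false
universe u
open CAlg

namespace Groth.Agent.S6879

/-- Let `R` be a Noetherian domain and `M` a finite `R`-module. Then `M` is reflexive if and only if for
every prime `𝔭` of `R` either `M_𝔭` is a reflexive `R_𝔭`-module or `depth(M_𝔭) ≥ 2`. -/
theorem result (R : Type u) [CommRing R] [IsDomain R]
    [IsNoetherianRing R] (M : Type u) [AddCommGroup M] [Module R M] [Module.Finite R M] :
    Module.IsReflexive R M ↔ ∀ (p : Ideal R) [p.IsPrime],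
      Module.IsReflexive (Localization.AtPrime p) (LocalizedModule p.primeCompl M) ∨
        2 ≤ LocCoh.depth (Localization.AtPrime p) (LocalizedModule p.primeCompl M) := by
  classical
  haveI : Module.FinitePresentation R M := Module.finitePresentation_of_finite R M
  haveI : Module.Finite R (Module.Dual R M) := Groth.Agent.DepthLib.finite_hom M R
  haveI : Module.FinitePresentation R (Module.Dual R M) := Module.finitePresentation_of_finite R _
  constructor
  · intro hM p hp
    exact Or.inl (Groth.Agent.DepthLib.isReflexive_localizedModule M p)
  · intro h
    refine ⟨Groth.Agent.S2090.result (Module.Dual.eval R M) ?_⟩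
    intro p hp
    by_cases hrefl : Module.IsReflexive (Localization.AtPrime p) (LocalizedModule p.primeCompl M)
    · exact Or.inl (Groth.Agent.ReflexiveLoc.bijective_map_eval M p)
    · have h2 := (h p).resolve_left hrefl
      refine Or.inr ⟨h2, ?_⟩
      intro hass
      -- p = ⊥
      obtain ⟨hpprime, x, hx⟩ := isAssociatedPrime_iff.1 hass
      have hxne : x ≠ 0 := by
        rintro rfl
        apply hpprime.ne_top
        rw [hx, Ideal.eq_top_iff_one, Submodule.mem_colon_singleton]
        simp
      have hpbot : p = ⊥ := by
        rw [eq_bot_iff]
        intro a ha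
        rw [hx, Submodule.mem_colon_singleton, Submodule.mem_bot] at ha
        by_contra ha0
        rw [Submodule.mem_bot] at ha0
        have hreg : IsSMulRegular (Module.Dual R (Module.Dual R M)) a :=
          Module.IsTorsionFree.isSMulRegular (isRegular_of_ne_zero ha0)
        apply hxne
        apply hreg
        show a • x = a • 0
        rw [ha, smul_zero]
      -- then dim M_p ≤ 0
      have hsub : ¬ Subsingleton (LocalizedModule p.primeCompl M) := by
        intro hs
        exact hrefl inferInstance
      rw [not_subsingleton_iff_nontrivial] at hsub
      have h3 := Groth.Agent.DepthLib.depth_le_supportDim (Localization.AtPrime p)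
        (LocalizedModule p.primeCompl M)
      have h4 := Groth.Agent.DepthLib.supportDim_localizedModule_le_height M p
      have h5 : p.height = 0 := by
        rw [hpbot]
        exact Ideal.height_bot
      rw [h5] at h4
      have h6 : ((LocCoh.depth (Localization.AtPrime p) (LocalizedModule p.primeCompl M) : ℕ∞) :
          WithBot ℕ∞) ≤ ((0 : ℕ∞) : WithBot ℕ∞) := le_trans h3 h4
      have h7 := WithBot.coe_le_coe.1 h6
      have h8 : (2 : ℕ∞) ≤ 0 := le_trans h2 h7
      exact absurd h8 (by norm_num)

end Groth.Agent.S6879
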