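import Groth.Statements.S14103
-- import your own Groth.Agent.* helpers here

set_option autoImplicit false
universe u
open CategoryTheory CategoryTheory.Limits AlgebraicGeometry Opposite TopologicalSpace
open CInt

namespace Groth.Agent.S14103

open AlgebraicGeometry CategoryTheory in
/-- The local ring of the fibre through `x` is a quotient of the local ring of `X` at `x`, hence has
smaller Krull dimension. -/
theorem fiberStalk_dim_le {X S : Scheme.{u}} (f : X ⟶ S) (x : X) :
    ringKrullDim ↑(CInt.fiberStalk f x) ≤ ringKrullDim ↑(X.presheaf.stalk x) := by
  have h1 : Function.Surjective ((f.fiberι (f x)).stalkMap (f.asFiber x)).hom :=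
    (f.fiberι (f x)).stalkMap_surjective (f.asFiber x)
  have h2 := ringKrullDim_le_of_surjective _ h1
  have h3 : ringKrullDim ↑(X.presheaf.stalk ((f.fiberι (f x)) (f.asFiber x))) =
      ringKrullDim ↑(X.presheaf.stalk x) :=
    congrArg (fun z => ringKrullDim ↑(X.presheaf.stalk z)) (f.fiberι_asFiber x)
  exact h2.trans h3.le

/-- Let f : X → S be a morphism of locally Noetherian schemes and Y a closed subset of X. The
codimension of Y in X relative to f, namely the infimum over the points y of Y of the Krull
dimension of the local ring at y of the fibre of f through y, is at most the codimension of Y in X,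
the infimum over y ∈ Y of the Krull dimension of O_{X,y}. -/
theorem result {X S : Scheme.{u}} [IsLocallyNoetherian X] [IsLocallyNoetherian S]
    (f : X ⟶ S) (Y : Set ↥X) (hY : IsClosed Y) :
    (⨅ y : Y, ringKrullDim ↑(CInt.fiberStalk f y.1)) ≤ ⨅ y : Y, ringKrullDim ↑(X.presheaf.stalk y.1) := by
  exact iInf_mono fun y => fiberStalk_dim_le f y.1

end Groth.Agent.S14103
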