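import Groth.Statements.S1549
import Mathlib
import Groth.Agent.Lib.GenSmoothGR2_helper6
import Groth.Agent.Lib.GeomRedGenPts_helper4
-- import your own Groth.Agent.* helpers here

set_option autoImplicit false
universe u
open CategoryTheory CategoryTheory.Limits AlgebraicGeometry
open Variety

namespace Groth.Agent.S1549

attribute [local instance] Curv2.stalkAlgebra

/-- For a reduced scheme locally of finite type over k, being geometrically reduced is equivalent to
having a dense open subscheme that is smooth over k. -/
theorem result (k : Type u) [Field k] (X : Scheme.{u}) [X.Over (Spec (CommRingCat.of k))] [IsReduced X] [LocallyOfFiniteType (X ↘ (Spec (CommRingCat.of k)))] :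
    GeometricallyReduced (X ↘ (Spec (CommRingCat.of k))) ↔ ∃ U : X.Opens, Dense (U : Set X) ∧ Smooth (U.ι ≫ (X ↘ (Spec (CommRingCat.of k)))) := by

  classical
  haveI : IsLocallyNoetherian X :=
    LocallyOfFiniteType.isLocallyNoetherian (X ↘ (Spec (CommRingCat.of k)))
  haveI : LocallyOfFinitePresentation (X ↘ (Spec (CommRingCat.of k))) := inferInstance
  constructor
  · intro hGR
    haveI := hGR
    refine ⟨(X ↘ (Spec (CommRingCat.of k))).smoothLocus, ?_, ?_⟩
    · intro x
      have hZ := irreducibleComponent_mem_irreducibleComponents x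
      obtain ⟨η, hη⟩ := QuasiSober.sober (isIrreducible_irreducibleComponent (x := x))
        isClosed_irreducibleComponent
      have hηmem : η ∈ (X ↘ (Spec (CommRingCat.of k))).smoothLocus :=
        Groth.Agent.Lib.GenSmoothGRH6.mem_smoothLocus_of_geometricallyReduced
          (X ↘ (Spec (CommRingCat.of k))) η (by rw [hη.def]; exact hZ)
      have hx : x ∈ closure ({η} : Set X) := by rw [hη.def]; exact mem_irreducibleComponent
      exact closure_mono (Set.singleton_subset_iff.mpr hηmem) hx
    · rw [← Scheme.Hom.smoothLocus_eq_top_iff, ← Scheme.Hom.preimage_smoothLocus_eq]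
      exact Scheme.Opens.ι_preimage_self _
  · rintro ⟨U, hUd, hUs⟩
    apply Groth.Agent.Lib.GeomRedGenPtsH4.main1543 k X
    intro Z hZ η hη
    have hηU : η ∈ U :=
      Groth.Agent.Lib.GenSmoothGR2H6.mem_of_dense_of_isGenericPoint U hUd Z hZ η hη
    have hηsm : η ∈ (X ↘ (Spec (CommRingCat.of k))).smoothLocus := by
      have h := Scheme.Hom.preimage_smoothLocus_eq U.ι (X ↘ (Spec (CommRingCat.of k)))
      have htop : (U.ι ≫ (X ↘ (Spec (CommRingCat.of k)))).smoothLocus = ⊤ :=
        Scheme.Hom.smoothLocus_eq_top _
      have hmem : (⟨η, hηU⟩ : U.toScheme) ∈ U.ι ⁻¹ᵁ (X ↘ (Spec (CommRingCat.of k))).smoothLocus := by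
        rw [h, htop]; trivial
      exact hmem
    rw [Groth.Agent.Lib.StalkDict2H4.main1541]
    have hfield : IsField (X.presheaf.stalk η) :=
      isField_stalk_of_closure_mem_irreducibleComponents X η (by rw [hη.def]; exact hZ)
    have hfs : Algebra.FormallySmooth k (X.presheaf.stalk η) :=
      (Groth.Agent.Lib.GenSmoothGR2H6.mem_smoothLocus_iff k X η).1 hηsm
    exact Groth.Agent.Lib.GenSmoothGR2H6.isGeometricallyReduced_of_isField hfield hfs

end Groth.Agent.S1549
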