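import Groth.Statements.S16283
import Groth.Agent.Lib.ModPushAcyc_helper2
import Groth.Agent.Lib.ModHom_helper2
import Groth.Agent.Lib.GrothSS_helper2
import Groth.Agent.Lib.PushTot_helper2

set_option autoImplicit false
universe u
open CategoryTheory CategoryTheory.Limits AlgebraicGeometry ZeroObject
open Coherent

namespace Groth.Agent.S16283

/-- Let f : X → Y and g : Y → Z be morphisms of schemes, h = g ∘ f, and F, G O_X-modules. For a morphism
u out of X write Ext^b_u(F, -) for the b-th right derived functor of the left exact functor G ↦ u_*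
Hom_{O_X}(F, G) from O_X-modules. Then there is an E₂ spectral sequence of O_Z-modules with E₂^{a,b}
≅ R^a g_*(Ext^b_f(F, G)) for a, b ≥ 0 (and 0 otherwise), bounded, abutting with finite filtrations
to Ext^n_h(F, G) (n ≥ 0; 0 for n < 0). (Stated for schemes, the published statement being for ringed
spaces. Existence only: the E₂ identifications and the abutment are some isomorphisms. The internal
Hom functor of F, injective resolutions on X and Y and additivity of the composite functors are the
stated instance hypotheses, all true.) -/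
theorem result (X Y Z : Scheme.{u}) (f : X ⟶ Y) (g : Y ⟶ Z)
    (F G : X.Modules)
    [ModSite.HasSheafHom (O := X.sheaf) F] [HasInjectiveResolutions (ModSite.Mod X.sheaf)] [HasInjectiveResolutions Y.Modules]
    [(ModSite.sheafHom (O := X.sheaf) F ⋙ Scheme.Modules.pushforward f).Additive]
    [(ModSite.sheafHom (O := X.sheaf) F ⋙ Scheme.Modules.pushforward (f ≫ g)).Additive] :
    ∃ (E : E₂CohomologicalSpectralSequence Z.Modules)
      (a : SpSeq.Abutment E (fun n : ℤ =>
        if 0 ≤ n then ((ModSite.sheafHom (O := X.sheaf) F ⋙ Scheme.Modules.pushforward (f ≫ g)).rightDerived n.toNat).obj G else (0 : Z.Modules))),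
      (∀ n : ℤ, a.IsFinite n) ∧ SpSeq.IsBounded E ∧
      ∀ p q : ℤ, Nonempty ((E.page 2 le_rfl).X (p, q) ≅
        (if 0 ≤ p ∧ 0 ≤ q then (Coh.Rpush g p.toNat).obj (((ModSite.sheafHom (O := X.sheaf) F ⋙ Scheme.Modules.pushforward f).rightDerived q.toNat).obj G)
          else (0 : Z.Modules))) := by
  -- instances
  have hcolZ := Groth.Agent.Lib.ModSiteH8.toSheaf_preservesColimitsOfSize Z.ringCatSheaf
  have hfcZ : Limits.PreservesFiniteColimits (SheafOfModules.toSheaf Z.ringCatSheaf) :=
    ⟨fun _ _ _ => inferInstance⟩
  have hinjY : HasInjectiveResolutions (SheafOfModules Y.ringCatSheaf) :=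
    ‹HasInjectiveResolutions Y.Modules›
  let Gm : SheafOfModules Y.ringCatSheaf ⥤ SheafOfModules Z.ringCatSheaf :=
    Scheme.Modules.pushforward g
  have haddG : Gm.Additive := inferInstanceAs ((Scheme.Modules.pushforward g).Additive)
  let eG : Gm ⋙ SheafOfModules.toSheaf Z.ringCatSheaf ≅
      SheafOfModules.toSheaf Y.ringCatSheaf ⋙
        CohSite.push (Opens.grothendieckTopology Y) (Opens.grothendieckTopology Z)
          (TopologicalSpace.Opens.map g.base) :=
    NatIso.ofComponents (fun M => Iso.refl _) (by intros; ext; rfl)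
  -- pushforward along `f` preserves total acyclicity
  have hflat : ∀ n : ℕ, Limits.PreservesLimitsOfShape (Limits.WidePullbackShape (Fin (n + 1)))
      ((TopologicalSpace.Opens.map f.base).sheafPullback (Type u)
        (Opens.grothendieckTopology Y) (Opens.grothendieckTopology X)) := by
    haveI : Limits.PreservesFiniteLimits ((TopologicalSpace.Opens.map f.base).op.lan :
        ((TopologicalSpace.Opens Y)ᵒᵖ ⥤ Type u) ⥤ _) := inferInstance
    haveI : Limits.PreservesFiniteLimits ((TopologicalSpace.Opens.map f.base).sheafPullback (Type u)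
        (Opens.grothendieckTopology Y) (Opens.grothendieckTopology X)) := by
      apply Functor.sheafPullbackConstruction.preservesFiniteLimits
    exact fun n => inferInstance
  have hT : ∀ Q : ModSite.Mod X.sheaf, Injective Q → ∀ q : ℕ, 0 < q →
      Limits.IsZero (((Scheme.Modules.pushforward g).rightDerived q).obj
        ((ModSite.sheafHom (O := X.sheaf) F ⋙ Scheme.Modules.pushforward f).obj Q)) := by
    intro Q hQ q hq
    have h1 : CohCx.IsTotallyAcyclic (ModSite.toAb ((ModSite.sheafHom (O := X.sheaf) F).obj Q)) :=
      Groth.Agent.Lib.ModFree.totallyAcyclic_sheafHom_injective X.sheaf F Q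
    have h2 := Groth.Agent.Lib.PushTot.push_totallyAcyclic (Opens.grothendieckTopology X)
      (Opens.grothendieckTopology Y) (TopologicalSpace.Opens.map f.base) _ h1
    exact Groth.Agent.Lib.ModFree.isZero_rightDerived_of_totallyAcyclic
      (TopologicalSpace.Opens.map g.base) Y.ringCatSheaf Gm
      (SheafOfModules.toSheaf Z.ringCatSheaf) eG
      ((Scheme.Modules.pushforward f).obj ((ModSite.sheafHom (O := X.sheaf) F).obj Q)) h2 q hq
  apply Groth.Agent.Lib.GrothSS.grothendieck_ss_flex
    (ModSite.sheafHom (O := X.sheaf) F ⋙ Scheme.Modules.pushforward f)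
    (Scheme.Modules.pushforward g) hT G
  · intro n
    rw [if_pos (by omega)]
    simp only [Int.toNat_natCast]
    let T₁ : ModSite.Mod X.sheaf ⥤ Z.Modules :=
      (ModSite.sheafHom (O := X.sheaf) F ⋙ Scheme.Modules.pushforward f) ⋙
        Scheme.Modules.pushforward g
    let T₂ : ModSite.Mod X.sheaf ⥤ Z.Modules :=
      ModSite.sheafHom (O := X.sheaf) F ⋙ Scheme.Modules.pushforward (f ≫ g)
    have i1 : T₁.Additive := by dsimp only [T₁]; infer_instance
    have i2 : T₂.Additive := by dsimp only [T₂]; infer_instance
    let ι : T₁ ≅ T₂ := Functor.isoWhiskerLeft (ModSite.sheafHom (O := X.sheaf) F)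
        (Scheme.Modules.pushforwardComp f g)
    exact ⟨(ExtDer.rightDerivedIso ι n).app G⟩
  · intro n hn
    rw [if_neg (by omega)]
    exact Limits.isZero_zero _
  · intro p q
    rw [if_pos ⟨by omega, by omega⟩]
    simp only [Int.toNat_natCast]
    exact ⟨Iso.refl _⟩
  · intro p q h
    rw [if_neg (by omega)]
    exact Limits.isZero_zero _

end Groth.Agent.S16283
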