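import Groth.Statements.S17979
import Mathlib

set_option autoImplicit false
universe u
open Hensel

namespace Groth.Agent.S17979

/-- Let A be a local ring with residue field k and Q, R polynomials over A with Q monic. If the images
of Q and R in k[T] generate the unit ideal, then Q and R already generate the unit ideal of A[T]. -/
theorem result (A : Type u) [CommRing A] [IsLocalRing A]
    (Q R : Polynomial A) (hQ : Q.Monic)
    (h : IsCoprime (Polynomial.map (IsLocalRing.residue A) Q) (Polynomial.map (IsLocalRing.residue A) R)) :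
    IsCoprime Q R := by
  classical
  obtain ⟨a, b, hab⟩ := h
  obtain ⟨a', rfl⟩ := Polynomial.map_surjective (IsLocalRing.residue A)
    IsLocalRing.residue_surjective a
  obtain ⟨b', rfl⟩ := Polynomial.map_surjective (IsLocalRing.residue A)
    IsLocalRing.residue_surjective b
  have hP : ∀ n, (a' * Q + b' * R - 1).coeff n ∈ IsLocalRing.maximalIdeal A := by
    intro n
    rw [← IsLocalRing.residue_eq_zero_iff, ← Polynomial.coeff_map]
    simp only [Polynomial.map_sub, Polynomial.map_add, Polynomial.map_mul, Polynomial.map_one,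
      hab, sub_self, Polynomial.coeff_zero]
  have : Module.Finite A (AdjoinRoot Q) := hQ.finite_adjoinRoot
  have : Algebra.IsIntegral A (AdjoinRoot Q) := Algebra.IsIntegral.of_finite A _
  have hunit : IsUnit (AdjoinRoot.mk Q R) := by
    by_contra hnu
    obtain ⟨n', hmax, hmem⟩ := exists_max_ideal_of_mem_nonunits hnu
    have hcomap : (n'.comap (algebraMap A (AdjoinRoot Q))).IsMaximal :=
      Ideal.isMaximal_comap_of_isIntegral_of_isMaximal n'
    have hcm : n'.comap (algebraMap A (AdjoinRoot Q)) = IsLocalRing.maximalIdeal A :=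
      IsLocalRing.eq_maximalIdeal hcomap
    have hle : Ideal.map Polynomial.C (IsLocalRing.maximalIdeal A)
        ≤ n'.comap (AdjoinRoot.mk Q) := by
      rw [Ideal.map_le_iff_le_comap]
      intro c hc
      rw [← hcm] at hc
      exact hc
    have hPmem : AdjoinRoot.mk Q (a' * Q + b' * R - 1) ∈ n' :=
      hle (Ideal.mem_map_C_iff.mpr hP)
    rw [map_sub, map_add, map_mul, map_mul, AdjoinRoot.mk_self, mul_zero, zero_add,
      map_one] at hPmem
    have h1 : (1 : AdjoinRoot Q) ∈ n' := by
      have h2 := n'.sub_mem (n'.mul_mem_left (AdjoinRoot.mk Q b') hmem) hPmem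
      simpa using h2
    exact hmax.ne_top ((Ideal.eq_top_iff_one _).mpr h1)
  obtain ⟨s, hs⟩ := hunit.exists_right_inv
  obtain ⟨S, rfl⟩ := AdjoinRoot.mk_surjective s
  have h3 : AdjoinRoot.mk Q (R * S - 1) = 0 := by
    rw [map_sub, map_mul, hs, map_one, sub_self]
  rw [AdjoinRoot.mk_eq_zero] at h3
  obtain ⟨c, hc⟩ := h3
  exact ⟨-c, S, by linear_combination hc⟩

end Groth.Agent.S17979
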