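import Groth.Statements.S0560
import Mathlib

set_option autoImplicit false
universe u
open CAlg

namespace Groth.Agent.S0560

/-- Regularity of a Noetherian local ring can be checked after dividing out one nonzerodivisor lying in
the maximal ideal: if that quotient is a regular local ring, so is the original ring. -/
theorem result (R : Type u) [CommRing R] [IsLocalRing R]
    [IsNoetherianRing R] (x : R) (hx : x ∈ IsLocalRing.maximalIdeal R) (hreg : x ∈ nonZeroDivisors R)
    [IsRegularLocalRing (R ⧸ Ideal.span ({x} : Set R))] : IsRegularLocalRing R := by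
  classical
  apply IsRegularLocalRing.of_spanFinrank_maximalIdeal_le
  have hdim : ringKrullDim (R ⧸ Ideal.span {x}) + 1 = ringKrullDim R :=
    ringKrullDim_quotient_span_singleton_succ_eq_ringKrullDim_of_mem_nonZeroDivisors hreg hx
  have hreg' : ((IsLocalRing.maximalIdeal (R ⧸ Ideal.span {x})).spanFinrank : WithBot ℕ∞) =
      ringKrullDim (R ⧸ Ideal.span {x}) := IsRegularLocalRing.spanFinrank_maximalIdeal
  obtain ⟨s, hscard, hsspan⟩ := Submodule.FG.exists_span_finset_card_eq_spanFinrank
    (IsNoetherian.noetherian (IsLocalRing.maximalIdeal (R ⧸ Ideal.span {x})))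
  choose lift hlift using (Ideal.Quotient.mk_surjective (I := Ideal.span ({x} : Set R)))
  obtain ⟨t, ht0⟩ : ∃ t : Finset R, t = insert x (s.image lift) := ⟨_, rfl⟩
  have hxt : x ∈ (t : Set R) := by rw [ht0]; simp
  have hst : ∀ q ∈ s, lift q ∈ (t : Set R) := by
    intro q hq
    rw [ht0]
    simp only [Finset.coe_insert, Finset.coe_image, Set.mem_insert_iff, Set.mem_image,
      Finset.mem_coe]
    exact Or.inr ⟨q, hq, rfl⟩
  have ht : IsLocalRing.maximalIdeal R = Ideal.span (t : Set R) := by
    apply le_antisymm
    · intro y hy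
      have hy' : Ideal.Quotient.mk (Ideal.span {x}) y ∈
          IsLocalRing.maximalIdeal (R ⧸ Ideal.span {x}) := by
        rw [IsLocalRing.mem_maximalIdeal, mem_nonunits_iff]
        intro hu
        obtain ⟨z, hz⟩ := hu.exists_right_inv
        obtain ⟨z', rfl⟩ := Ideal.Quotient.mk_surjective z
        have hz' : Ideal.Quotient.mk (Ideal.span {x}) (y * z') =
            Ideal.Quotient.mk (Ideal.span {x}) 1 := by
          rw [map_mul, map_one]; exact hz
        have hz'' := Ideal.Quotient.eq.mp hz'
        have h1 : y * z' - 1 ∈ IsLocalRing.maximalIdeal R :=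
          (Ideal.span_le.mpr (by simpa using hx)) hz''
        have h2 : y * z' ∈ IsLocalRing.maximalIdeal R := Ideal.mul_mem_right _ _ hy
        have h3 : (1 : R) ∈ IsLocalRing.maximalIdeal R := by
          have := Ideal.sub_mem _ h2 h1; simpa using this
        exact (Ideal.ne_top_iff_one _).mp (IsLocalRing.maximalIdeal.isMaximal R).ne_top h3
      have hspan : Ideal.span (s : Set (R ⧸ Ideal.span {x})) ≤
          (Ideal.span (t : Set R)).map (Ideal.Quotient.mk (Ideal.span {x})) := by
        rw [Ideal.span_le]
        intro q hq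
        rw [← hlift q]
        exact Ideal.mem_map_of_mem _ (Ideal.subset_span (hst q hq))
      rw [← hsspan] at hy'
      have hy'' := hspan (show _ ∈ Ideal.span _ from hy')
      rw [Ideal.mem_map_iff_of_surjective _ Ideal.Quotient.mk_surjective] at hy''
      obtain ⟨w, hw, hwy⟩ := hy''
      have hd : y - w ∈ Ideal.span {x} := Ideal.Quotient.eq.mp hwy.symm
      have hyw : y = (y - w) + w := by ring
      rw [hyw]
      apply Ideal.add_mem _ _ hw
      exact Ideal.span_mono (Set.singleton_subset_iff.mpr hxt) hd
    · rw [Ideal.span_le]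
      intro y hy
      rw [ht0] at hy
      simp only [Finset.coe_insert, Finset.coe_image, Set.mem_insert_iff, Set.mem_image,
        Finset.mem_coe] at hy
      rcases hy with rfl | ⟨q, hq, rfl⟩
      · exact hx
      · by_contra hnot
        have hu : IsUnit (lift q) := by
          rwa [SetLike.mem_coe, IsLocalRing.mem_maximalIdeal, mem_nonunits_iff, not_not] at hnot
        have hu' : IsUnit (Ideal.Quotient.mk (Ideal.span {x}) (lift q)) := hu.map _
        rw [hlift q] at hu'
        have hqm : q ∈ IsLocalRing.maximalIdeal (R ⧸ Ideal.span {x}) :=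
          hsspan ▸ Submodule.subset_span hq
        exact (IsLocalRing.mem_maximalIdeal _).mp hqm hu'
  have hcard : (IsLocalRing.maximalIdeal R).spanFinrank ≤ s.card + 1 := by
    rw [ht]
    calc (Ideal.span (t : Set R)).spanFinrank ≤ (t : Set R).ncard :=
          Submodule.spanFinrank_span_le_ncard_of_finite (Finset.finite_toSet t)
      _ = t.card := Set.ncard_coe_finset t
      _ ≤ (s.image lift).card + 1 := by rw [ht0]; exact Finset.card_insert_le _ _
      _ ≤ s.card + 1 := by gcongr; exact Finset.card_image_le
  rw [← hdim, ← hreg', ← hscard]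
  exact_mod_cast hcard

end Groth.Agent.S0560
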