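import Groth.Statements.S15610
import Groth.Agent.Lib.SpecConn_helper3
-- import your own Groth.Agent.* helpers here

set_option autoImplicit false
universe u
open SchFin SchFin.RSpace


namespace Groth.Agent.S15610

open SchFin in
/-- A schematic finite space is well-connected (the prime spectrum of its ring of global sections is
connected and the prime spectrum of the ring of each point is connected) if and only if its poset of
points is non-empty and connected and the prime spectrum of the ring of each point is connected. -/
theorem result (X : RSpace.{u})
    (hX : X.IsSchematic) : X.IsWellConnected ↔ (X.IsTopConnected ∧ X.IsPwConnected) := by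
  classical
  have key : X.IsPwConnected → (X.IsConnected ↔ X.IsTopConnected) := by
    intro hpw
    have hnt : ∀ p : X.pt, Nontrivial (X.ring p) := fun p =>
      ((Groth.Agent.Lib.SpecConn_helper3.connectedSpace_iff_idem _).1 (hpw p)).1
    have hid : ∀ (p : X.pt) (e : X.ring p), IsIdempotentElem e → e = 0 ∨ e = 1 := fun p =>
      ((Groth.Agent.Lib.SpecConn_helper3.connectedSpace_iff_idem _).1 (hpw p)).2
    unfold RSpace.IsConnected
    rw [Groth.Agent.Lib.SpecConn_helper3.connectedSpace_iff_idem]
    constructor
    · rintro ⟨hn, hidem⟩
      have hne : Nonempty X.pt := by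
        by_contra hemp
        rw [not_nonempty_iff] at hemp
        obtain ⟨a, b, hab⟩ := hn
        apply hab
        apply Subtype.ext
        funext q
        exact (hemp.false q.1).elim
      refine ⟨hne, fun p q => ?_⟩
      -- the idempotent of the component of `p`
      have hC : ∀ a b : X.pt, a ≤ b →
          (Relation.EqvGen (fun a b : X.pt => a ≤ b) p a ↔
            Relation.EqvGen (fun a b : X.pt => a ≤ b) p b) := by
        intro a b hab
        constructor
        · intro h
          exact Relation.EqvGen.trans _ _ _ h (Relation.EqvGen.rel _ _ hab)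
        · intro h
          exact Relation.EqvGen.trans _ _ _ h
            (Relation.EqvGen.symm _ _ (Relation.EqvGen.rel _ _ hab))
      let e : X.sectRing Set.univ :=
        ⟨fun a => if Relation.EqvGen (fun a b : X.pt => a ≤ b) p a.1 then 1 else 0, by
          intro a b hab
          by_cases ha : Relation.EqvGen (fun a b : X.pt => a ≤ b) p a.1
          · have hb := (hC a.1 b.1 hab).1 ha
            simp only [ha, hb, if_true, map_one]
          · have hb : ¬ Relation.EqvGen (fun a b : X.pt => a ≤ b) p b.1 :=
              fun hb => ha ((hC a.1 b.1 hab).2 hb)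
            simp only [ha, hb, if_false, map_zero]⟩
      have he : IsIdempotentElem e := by
        apply Subtype.ext
        funext a
        change (if Relation.EqvGen (fun a b : X.pt => a ≤ b) p a.1 then (1 : X.ring a.1) else 0) *
          (if Relation.EqvGen (fun a b : X.pt => a ≤ b) p a.1 then (1 : X.ring a.1) else 0) =
          (if Relation.EqvGen (fun a b : X.pt => a ≤ b) p a.1 then (1 : X.ring a.1) else 0)
        split_ifs <;> simp
      have hep : e.1 ⟨p, trivial⟩ = 1 := by
        change (if Relation.EqvGen (fun a b : X.pt => a ≤ b) p p then (1 : X.ring p) else 0) = 1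
        rw [if_pos (Relation.EqvGen.refl p)]
      rcases hidem e he with h0 | h1
      · exfalso
        have : e.1 ⟨p, trivial⟩ = 0 := by rw [h0]; rfl
        rw [hep] at this
        exact (hnt p).exists_pair_ne.elim fun a ⟨b, hab⟩ => hab (by
          rw [← mul_one a, ← mul_one b, this, mul_zero, mul_zero])
      · have : e.1 ⟨q, trivial⟩ = 1 := by rw [h1]; rfl
        change (if Relation.EqvGen (fun a b : X.pt => a ≤ b) p q then (1 : X.ring q) else 0) = 1
          at this
        by_contra hq
        rw [if_neg hq] at this
        exact (hnt q).exists_pair_ne.elim fun a ⟨b, hab⟩ => hab (by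
          rw [← mul_one a, ← mul_one b, ← this, mul_zero, mul_zero])
    · rintro ⟨⟨p0⟩, hconn⟩
      constructor
      · refine ⟨0, 1, fun h01 => ?_⟩
        have : (0 : X.sectRing Set.univ).1 ⟨p0, trivial⟩ = (1 : X.sectRing Set.univ).1 ⟨p0, trivial⟩ := by
          rw [h01]
        change (0 : X.ring p0) = 1 at this
        exact (hnt p0).exists_pair_ne.elim fun a ⟨b, hab⟩ => hab (by
          rw [← mul_one a, ← mul_one b, ← this, mul_zero, mul_zero])
      · intro e he
        have hcomp : ∀ a : X.pt, IsIdempotentElem (e.1 ⟨a, trivial⟩) := fun a =>
          congrArg (fun s : X.sectRing Set.univ => s.1 ⟨a, trivial⟩) he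
        have hstep : ∀ a b : X.pt, a ≤ b → (e.1 ⟨a, trivial⟩ = 0 ↔ e.1 ⟨b, trivial⟩ = 0) := by
          intro a b hab
          have hres : X.res hab (e.1 ⟨a, trivial⟩) = e.1 ⟨b, trivial⟩ :=
            e.2 ⟨a, trivial⟩ ⟨b, trivial⟩ hab
          constructor
          · intro h
            rw [← hres, h, map_zero]
          · intro h
            rcases hid a _ (hcomp a) with h0 | h1
            · exact h0
            · exfalso
              rw [h1, map_one, h] at hres
              exact (hnt b).exists_pair_ne.elim fun c ⟨d, hcd⟩ => hcd (by
                rw [← mul_one c, ← mul_one d, hres, mul_zero, mul_zero])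
        have hall : ∀ a b : X.pt, Relation.EqvGen (fun a b : X.pt => a ≤ b) a b →
            (e.1 ⟨a, trivial⟩ = 0 ↔ e.1 ⟨b, trivial⟩ = 0) := by
          intro a b hab
          induction hab with
          | rel a b h => exact hstep a b h
          | refl a => exact Iff.rfl
          | symm a b _ ih => exact ih.symm
          | trans a b c _ _ ih1 ih2 => exact ih1.trans ih2
        by_cases h0 : e.1 ⟨p0, trivial⟩ = 0
        · left
          apply Subtype.ext
          funext a
          exact (hall p0 a.1 (hconn p0 a.1)).1 h0
        · right
          apply Subtype.ext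
          funext a
          have ha : e.1 ⟨a.1, trivial⟩ ≠ 0 := fun h => h0 ((hall p0 a.1 (hconn p0 a.1)).2 h)
          rcases hid a.1 _ (hcomp a.1) with h | h
          · exact absurd h ha
          · exact h
  unfold RSpace.IsWellConnected
  constructor
  · rintro ⟨h1, h2⟩
    exact ⟨(key h2).1 h1, h2⟩
  · rintro ⟨h1, h2⟩
    exact ⟨(key h2).2 h1, h2⟩

end Groth.Agent.S15610
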