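import Groth.Statements.S9966
import Mathlib
import Groth.Agent.Lib.RedFactor_helper7

set_option autoImplicit false
universe u
open CategoryTheory CategoryTheory.Limits AlgebraicGeometry
open AlgSp

namespace Groth.Agent.S9966

/-- The scheme theoretic image of a morphism from a reduced algebraic space is the reduced induced
structure on the closure of its image. -/
theorem result {S : Scheme.{u}} {X Y Z : AlgSp.Space S} (f : X ⟶ Y) (i : Z ⟶ Y)
    (hX : AlgSp.IsReducedSp X.obj) (hZ : AlgSp.IsSchImage f.hom i.hom) :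
    AlgSp.IsRedInduced (closure (Set.range (AlgSp.Points.map f.hom))) i.hom := by
  open Groth.Agent.Lib.AlgSpPoints_helper7 Groth.Agent.Lib.AlgSpPullback_helper7 Groth.Agent.Lib.AlgSpBasic_helper7 Groth.Agent.Lib.SchImageH7 Groth.Agent.Lib.AlgSpUniv_helper7 Groth.Agent.Lib.RedInducedH7 Groth.Agent.Lib.RedFactorH7 in
  obtain ⟨hci, ⟨f', hf'⟩, hmin⟩ := hZ
  obtain ⟨Z₀, i₀, hi₀, hr₀, hred₀⟩ := exists_isRedInduced Y
    (closure (Set.range (AlgSp.Points.map f.hom))) isClosed_closure
  obtain ⟨f₀, hf₀⟩ := exists_factor_of_reduced X.property hX i₀.hom hi₀ f.hom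
    (by rw [hr₀]; exact subset_closure)
  obtain ⟨k, hk⟩ := hmin i₀.hom Z₀.property hi₀ ⟨f₀, hf₀⟩
  have huc : RepWith @UniversallyClosed i.hom :=
    repWith_mono (fun _ _ g hg => by
      haveI : IsClosedImmersion g := hg
      exact (inferInstance : UniversallyClosed g)) hci
  have hcl : IsClosed (Set.range (Points.map i.hom)) := by
    rw [← Set.image_univ]
    exact isClosedMap_map_of_repWith _ huc _ isClosed_univ
  have hsub : closure (Set.range (Points.map f.hom)) ⊆ Set.range (Points.map i.hom) := by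
    refine closure_minimal ?_ hcl
    rintro _ ⟨x, rfl⟩
    exact ⟨Points.map f' x, by rw [← Points.map_comp, hf']⟩
  obtain ⟨k', hk'⟩ := exists_factor_of_reduced Z₀.property hred₀ i.hom hci i₀.hom
    (by rw [hr₀]; exact hsub)
  haveI : Mono i.hom := mono_of_closedImmersion i.hom hci
  haveI : Mono i₀.hom := mono_of_closedImmersion i₀.hom hi₀
  have h1 : k ≫ k' = 𝟙 _ := by
    rw [← cancel_mono i.hom, Category.assoc, hk', hk, Category.id_comp]
  have h2 : k' ≫ k = 𝟙 _ := by
    rw [← cancel_mono i₀.hom, Category.assoc, hk, hk', Category.id_comp]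
  haveI : IsIso k' := ⟨⟨k, h2, h1⟩⟩
  refine ⟨hci, subset_antisymm ?_ hsub, ?_⟩
  · rintro _ ⟨z, rfl⟩
    rw [← hr₀, ← hk, Points.map_comp]
    exact ⟨_, rfl⟩
  · obtain ⟨U, p, hpe, hps, hUr⟩ := hred₀
    exact ⟨U, p ≫ k', repWith_comp @Etale hpe (repWith_of_isIso @Etale k'),
      repWith_comp @Surjective hps (repWith_of_isIso @Surjective k'), hUr⟩

end Groth.Agent.S9966
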