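import Groth.Statements.S5061
import Groth.Agent.Lib.PInsepDescent_helper3
-- import your own Groth.Agent.* helpers here

set_option autoImplicit false
open scoped TensorProduct
set_option maxSynthPendingDepth 3
universe u
open EGA418

namespace Groth.Agent.S5061

/-- a) iff c): let k be a field of characteristic p > 0, P a perfect closure of k (a perfect field
purely inseparable over k) and K an extension field of k. Then the ring K ⊗_k P is Artinian if and
only if there exists a finite purely inseparable extension k' of k such that (k' ⊗_k K) modulo its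
nilradical is geometrically reduced over k'. -/
theorem result (p : ℕ) [Fact p.Prime]
    (k K : Type u) [Field k] [CharP k p] [Field K] [Algebra k K]
    (P : Type u) [Field P] [Algebra k P] [PerfectRing P p] [IsPRadical (algebraMap k P) p] :
    IsArtinianRing (K ⊗[k] P) ↔
      ∃ (k' : Type u) (_ : Field k') (_ : Algebra k k'), Module.Finite k k' ∧ IsPurelyInseparable k k' ∧
        Algebra.IsGeometricallyReduced k' ((k' ⊗[k] K) ⧸ nilradical (k' ⊗[k] K)) := by
  haveI : ExpChar k p := ExpChar.prime Fact.out
  haveI : ExpChar P p := expChar_of_injective_algebraMap (algebraMap k P).injective p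
  haveI : IsPurelyInseparable k P := IsPRadical.isPurelyInseparable k P p
  haveI : PerfectField P := PerfectRing.toPerfectField P p
  constructor
  · intro hart
    haveI : IsArtinianRing (P ⊗[k] K) :=
      (Algebra.TensorProduct.comm k K P).toRingEquiv.isArtinianRing
    haveI : IsNoetherianRing (P ⊗[k] K) := inferInstance
    obtain ⟨G, hG⟩ : (nilradical (P ⊗[k] K)).FG := IsNoetherian.noetherian _
    obtain ⟨F, hFfin, hFG⟩ :=
      Groth.Agent.Lib.PInsepDescentH3.exists_finite_forall_mem_range k K P G
    haveI : IsPurelyInseparable k F := IsPurelyInseparable.tower_bot k F P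
    haveI : IsPurelyInseparable F P := IsPurelyInseparable.tower_top k F P
    have hmax : (nilradical (F ⊗[k] K)).IsMaximal :=
      Groth.Agent.Lib.PInsepDescentH3.nilradical_isMaximal k K F
    refine ⟨F, inferInstance, inferInstance, hFfin, inferInstance, ?_⟩
    haveI := hmax
    letI : Field ((F ⊗[k] K) ⧸ nilradical (F ⊗[k] K)) := Ideal.Quotient.field _
    haveI h1 : IsReduced (P ⊗[F] ((F ⊗[k] K) ⧸ nilradical (F ⊗[k] K))) :=
      Groth.Agent.Lib.PInsepDescentH3.isReduced_tensor_quotient k K P F G hG hFG
    exact (Algebra.isGeometricallyReduced_field_iff _ _).mpr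
      (Groth.Agent.Lib.PInsepDescentH3.isReduced_algebraicClosure_tensor_of_perfect F P _)
  · rintro ⟨k', _, _, hfin, hpi, hgr⟩
    haveI := hfin
    haveI := hpi
    haveI : ExpChar k' p := expChar_of_injective_algebraMap (algebraMap k k').injective p
    let σ : k' →+* P := PerfectRing.lift (algebraMap k k') (algebraMap k P) p
    have hσ : ∀ x, σ (algebraMap k k' x) = algebraMap k P x :=
      PerfectRing.lift_comp_apply (algebraMap k k') (algebraMap k P) p
    letI : Algebra k' P := σ.toAlgebra
    haveI : IsScalarTower k k' P := IsScalarTower.of_algebraMap_eq fun x => (hσ x).symm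
    haveI : IsPurelyInseparable k' P := IsPurelyInseparable.tower_top k k' P
    haveI : Module.Finite K (K ⊗[k] k') := inferInstance
    haveI : IsNoetherianRing (K ⊗[k] k') := Algebra.FiniteType.isNoetherianRing K _
    haveI : IsNoetherianRing (k' ⊗[k] K) :=
      isNoetherianRing_of_ringEquiv _ (Algebra.TensorProduct.comm k K k').toRingEquiv
    have hNfg : (nilradical (k' ⊗[k] K)).FG := IsNoetherian.noetherian _
    have hmaxN : (nilradical (k' ⊗[k] K)).IsMaximal :=
      Groth.Agent.Lib.PInsepDescentH3.nilradical_isMaximal k K k'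
    haveI := hmaxN
    letI : Field ((k' ⊗[k] K) ⧸ nilradical (k' ⊗[k] K)) := Ideal.Quotient.field _
    let π' : P ⊗[k'] (k' ⊗[k] K) →ₐ[k'] P ⊗[k'] ((k' ⊗[k] K) ⧸ nilradical (k' ⊗[k] K)) :=
      Algebra.TensorProduct.map (AlgHom.id k' P) (Ideal.Quotient.mkₐ k' (nilradical (k' ⊗[k] K)))
    have hπsurj : Function.Surjective π' :=
      Algebra.TensorProduct.map_surjective _ _ Function.surjective_id
        (Ideal.Quotient.mkₐ_surjective k' _)
    have hker : RingHom.ker π' = (nilradical (k' ⊗[k] K)).map
        (Algebra.TensorProduct.includeRight : k' ⊗[k] K →ₐ[k'] P ⊗[k'] (k' ⊗[k] K)) := by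
      have := Algebra.TensorProduct.lTensor_ker (A := P)
        (Ideal.Quotient.mkₐ k' (nilradical (k' ⊗[k] K))) (Ideal.Quotient.mkₐ_surjective k' _)
      have hk : RingHom.ker (Ideal.Quotient.mkₐ k' (nilradical (k' ⊗[k] K))) =
          nilradical (k' ⊗[k] K) := by
        ext x
        rw [RingHom.mem_ker, Ideal.Quotient.mkₐ_eq_mk, Ideal.Quotient.eq_zero_iff_mem]
      rw [hk] at this
      exact this
    haveI : IsReduced (P ⊗[k'] ((k' ⊗[k] K) ⧸ nilradical (k' ⊗[k] K))) := inferInstance
    have hQmax : (nilradical (P ⊗[k'] ((k' ⊗[k] K) ⧸ nilradical (k' ⊗[k] K)))).IsMaximal :=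
      Groth.Agent.Lib.PInsepDescentH3.nilradical_isMaximal k'
        ((k' ⊗[k] K) ⧸ nilradical (k' ⊗[k] K)) P
    rw [nilradical_eq_zero (P ⊗[k'] ((k' ⊗[k] K) ⧸ nilradical (k' ⊗[k] K))),
      Ideal.zero_eq_bot] at hQmax
    have hJmax : (RingHom.ker π').IsMaximal := by
      have := Ideal.comap_isMaximal_of_surjective π'.toRingHom hπsurj (K := ⊥)
      exact this
    have hJnil : RingHom.ker π' ≤ nilradical (P ⊗[k'] (k' ⊗[k] K)) := by
      rw [hker, Ideal.map_le_iff_le_comap]
      intro n hn
      rw [Ideal.mem_comap, mem_nilradical]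
      exact (mem_nilradical.mp hn).map _
    have hJfg : (RingHom.ker π').FG := by
      rw [hker]
      exact hNfg.map _
    have hprime : ∀ I : Ideal (P ⊗[k'] (k' ⊗[k] K)), I.IsPrime → I = RingHom.ker π' := by
      intro I hI
      exact (hJmax.eq_of_le hI.ne_top (hJnil.trans (nilradical_le_prime I))).symm
    haveI : IsNoetherianRing (P ⊗[k'] (k' ⊗[k] K)) :=
      IsNoetherianRing.of_prime fun I hI => hprime I hI ▸ hJfg
    haveI : Ring.KrullDimLE 0 (P ⊗[k'] (k' ⊗[k] K)) :=
      Ring.krullDimLE_zero_iff.mpr fun I hI => hprime I hI ▸ hJmax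
    haveI : IsArtinianRing (P ⊗[k'] (k' ⊗[k] K)) :=
      isArtinianRing_iff_isNoetherianRing_krullDimLE_zero.mpr ⟨inferInstance, inferInstance⟩
    haveI : IsArtinianRing (P ⊗[k] K) :=
      (Algebra.TensorProduct.cancelBaseChange k k' P P K).toRingEquiv.isArtinianRing
    exact (Algebra.TensorProduct.comm k P K).toRingEquiv.isArtinianRing

end Groth.Agent.S5061
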