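import Groth.Statements.S3561
import Mathlib
import Groth.Agent.Lib.GrTiMono_helper5

set_option autoImplicit false
universe u
open CategoryTheory CategoryTheory.Limits AlgebraicGeometry
open EGA2

namespace Groth.Agent.S3561

/-- Let S be a graded ring whose irrelevant ideal S_+ is finitely generated, and M a graded S-module
satisfying (TF): for some n the submodule generated by the homogeneous elements of degree at least n
is a finitely generated S-module. Then the O_X-module M~ on X = Proj S is of finite type. -/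
theorem result {R A : Type u} [CommRing R] [CommRing A] [Algebra R A] (𝒜 : ℕ → Submodule R A) [GradedAlgebra 𝒜]
    (hfg : (HomogeneousIdeal.irrelevant 𝒜).toIdeal.FG)
    {M : Type u} [AddCommGroup M] [Module R M] [Module A M] [IsScalarTower R A M] (ℳ : ℕ → Submodule R M) [DirectSum.Decomposition ℳ] [SetLike.GradedSMul 𝒜 ℳ]
    (hTF : ∃ n : ℕ, (Submodule.span A (⋃ k ∈ Set.Ici n, (ℳ k : Set M))).FG) :
    CohB1.IsFT (GrTilde.tilde 𝒜 ℳ 0) := by
  classical
  obtain ⟨E, hE, hspan⟩ := Groth.Agent.Lib.GradedGen_helper3.exists_finset_homogeneous_of_fg 𝒜 hfg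
  haveI : (GrMod.tilde 𝒜 ℳ 0).IsQuasicoherent := Groth.Agent.GrTi.isQuasicoherent_tilde 𝒜 ℳ 0
  show SheafOfModules.IsFiniteType (R := (Proj 𝒜).ringCatSheaf) (GrMod.tilde 𝒜 ℳ 0)
  have hdegE : ∀ e : {e : A // e ∈ E}, ∃ d : ℕ, 0 < d ∧ (e : A) ∈ 𝒜 d := fun e => hE e.1 e.2
  choose dE hdE using hdegE
  refine QCohCrit.isFiniteType_of_sections_cover (GrMod.tilde 𝒜 ℳ 0)
    (fun e : {e : A // e ∈ E} => Proj.basicOpen 𝒜 (e : A))
    (fun e => Proj.isAffineOpen_basicOpen 𝒜 (e : A) (hdE e).2 (hdE e).1) ?_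
    (fun e => Groth.Agent.GrTi.finite_sections_basicOpen_of_fg 𝒜 ℳ E hE hspan hTF (hdE e).1 (hdE e).2)
  rw [eq_top_iff]
  intro x _
  have h1 := x.not_irrelevant_le
  have h2 : ∃ e ∈ E, e ∉ x.asHomogeneousIdeal := by
    by_contra hcon
    push Not at hcon
    apply h1
    intro a ha
    have ha' : a ∈ (HomogeneousIdeal.irrelevant 𝒜).toIdeal := ha
    rw [hspan] at ha'
    exact (Ideal.span_le.mpr (fun b hb => hcon b (Finset.mem_coe.mp hb))) ha'
  obtain ⟨e, heE, hex⟩ := h2
  exact TopologicalSpace.Opens.mem_iSup.mpr ⟨⟨e, heE⟩, hex⟩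

end Groth.Agent.S3561
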