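import Groth.Statements.S6818
import Groth.Agent.Lib.ARHilb_helper4
import Groth.Agent.Lib.ARFsub_helper4
import Groth.Agent.Lib.AbSubobj_helper4

set_option autoImplicit false
open CategoryTheory CategoryTheory.Limits Opposite
universe v u
open CategoryTheory CategoryTheory.Abelian

namespace Groth.Agent.S6818

/-- For a simplicial object `U` of an abelian category and `n ≥ 0`, the subobjects `U'_m ⊆ U_m`
generated by the images of all `U_i ⟶ U_m` induced by maps `[m] ⟶ [i]` with `i ≤ n` form a
simplicial subobject equal to `U` in dimensions `≤ n` whose normalized part vanishes in dimensions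
`> n`. Here the normalized subobject of `U_m` is the joint kernel of the faces `d_1, …, d_m`; the
published statement uses the faces `d_0, …, d_{m-1}`, the mirror-image convention, and both versions
hold. -/
theorem result {A : Type u} [Category.{v} A] [Abelian A] (U : SimplicialObject A) (n : ℕ) (U' : ∀ m : ℕ, Subobject (U.obj (op (SimplexCategory.mk m)))) (hU' : ∀ m : ℕ, IsLUB (Set.range (fun φ : Σ i : Fin (n + 1), (SimplexCategory.mk m ⟶ SimplexCategory.mk i) => imageSubobject (U.map φ.2.op))) (U' m)) : (∀ (m m' : ℕ) (ψ : SimplexCategory.mk m' ⟶ SimplexCategory.mk m), imageSubobject ((U' m).arrow ≫ U.map ψ.op) ≤ U' m') ∧ (∀ i : ℕ, i ≤ n → U' i = ⊤) ∧ (∀ m : ℕ, n < m → U' m ⊓ AlgebraicTopology.NormalizedMooreComplex.objX U m = ⊥) := by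
  refine ⟨?_, ?_, ?_⟩
  · intro m m' ψ
    rw [Groth.Agent.Lib.ARHilbH4.gal]
    refine (hU' m).2 ?_
    rintro _ ⟨⟨i, φ⟩, rfl⟩
    rw [← Groth.Agent.Lib.ARHilbH4.gal, Groth.Agent.Lib.ARHilbH4.image_image]
    have e : U.map φ.op ≫ U.map ψ.op = U.map (ψ ≫ φ).op := by
      rw [← U.map_comp]; rfl
    rw [e]
    exact (hU' m').1 ⟨⟨i, ψ ≫ φ⟩, rfl⟩
  · intro i hi
    apply top_le_iff.mp
    have h := (hU' i).1 ⟨⟨⟨i, Nat.lt_succ_of_le hi⟩, 𝟙 _⟩, rfl⟩
    have e : imageSubobject (U.map (𝟙 (SimplexCategory.mk i)).op) = ⊤ := by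
      rw [op_id, U.map_id, imageSubobject_mono, Subobject.top_eq_id]
    rw [← e]; exact h
  · intro m hm
    obtain ⟨p, hp⟩ : ∃ p : U.obj (op (SimplexCategory.mk m)) ⟶ U.obj (op (SimplexCategory.mk m)),
        p = (AlgebraicTopology.DoldKan.PInfty (X := U)).f m := ⟨_, rfl⟩
    have h1 : U' m ≤ kernelSubobject p := by
      refine (hU' m).2 ?_
      rintro _ ⟨⟨i, φ⟩, rfl⟩
      apply image_le_kernel
      have hφ : ¬ Mono φ := by
        intro hmono
        have h3 := SimplexCategory.len_le_of_mono φ
        simp only [SimplexCategory.len_mk] at h3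
        have h4 := i.isLt
        omega
      rw [hp]
      exact AlgebraicTopology.DoldKan.degeneracy_comp_PInfty U m φ hφ
    have h2 : (AlgebraicTopology.NormalizedMooreComplex.objX U m).arrow ≫ p =
        (AlgebraicTopology.NormalizedMooreComplex.objX U m).arrow := by
      have h5 := HomologicalComplex.congr_hom
        (AlgebraicTopology.DoldKan.inclusionOfMooreComplexMap_comp_PInfty U) m
      rw [HomologicalComplex.comp_f, AlgebraicTopology.inclusionOfMooreComplexMap_f] at h5
      rw [hp]; exact h5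
    rw [eq_bot_iff]
    obtain ⟨T, hT⟩ : ∃ T, T = U' m ⊓ AlgebraicTopology.NormalizedMooreComplex.objX U m := ⟨_, rfl⟩
    rw [← hT]
    have hl : T ≤ kernelSubobject p := by rw [hT]; exact inf_le_left.trans h1
    have hr : T ≤ AlgebraicTopology.NormalizedMooreComplex.objX U m := by rw [hT]; exact inf_le_right
    have a1 : T.arrow ≫ p = 0 := by
      rw [← Subobject.ofLE_arrow hl, Category.assoc, kernelSubobject_arrow_comp, comp_zero]
    have a2 : T.arrow ≫ p = T.arrow := by
      rw [← Subobject.ofLE_arrow hr, Category.assoc, h2]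
    have hz : T.arrow = 0 := by rw [← a2, a1]
    rw [← AbSubobjH4.image_arrow T, ARFsubH4.le_bot_iff']
    exact hz

end Groth.Agent.S6818
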