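import Groth.Statements.S1561
import Groth.Agent.Lib.SmoothRegField_helper3
-- import your own Groth.Agent.* helpers here

set_option autoImplicit false
universe u
open CategoryTheory CategoryTheory.Limits AlgebraicGeometry
set_option maxSynthPendingDepth 3
open Variety

namespace Groth.Agent.S1561

/-- Let X be reduced and locally of finite type over a perfect field k. Then a point lies in the smooth
locus of X → Spec k exactly when its local ring is regular, and this locus is dense in X. -/
theorem result (k : Type u) [Field k] (X : Scheme.{u}) [X.Over (Spec (CommRingCat.of k))] [PerfectField k] [IsReduced X]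
    [LocallyOfFinitePresentation (X ↘ (Spec (CommRingCat.of k)))] :
    (∀ x : X, x ∈ (X ↘ (Spec (CommRingCat.of k))).smoothLocus ↔ IsRegularLocalRing (X.presheaf.stalk x)) ∧
      Dense ((X ↘ (Spec (CommRingCat.of k))).smoothLocus : Set X) := by
  haveI : IsLocallyNoetherian X :=
    LocallyOfFiniteType.isLocallyNoetherian (X ↘ (Spec (CommRingCat.of k)))
  refine ⟨fun x => ?_, Scheme.Hom.dense_smoothLocus_of_perfectField _⟩
  letI alg : Algebra ((Spec (CommRingCat.of k)).presheaf.stalk ((X ↘ (Spec (CommRingCat.of k))) x))
      (X.presheaf.stalk x) := ((X ↘ (Spec (CommRingCat.of k))).stalkMap x).hom.toAlgebra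
  obtain ⟨φ, hφ⟩ := Groth.Agent.Lib.SmoothRegFieldH3.exists_bijective_stalk_spec_field k
    ((X ↘ (Spec (CommRingCat.of k))) x)
  rw [Scheme.Hom.mem_smoothLocus]
  constructor
  · intro hx
    haveI : Algebra.FormallySmooth
        ((Spec (CommRingCat.of k)).presheaf.stalk ((X ↘ (Spec (CommRingCat.of k))) x))
        (X.presheaf.stalk x) := hx
    exact Groth.Agent.Lib.SmoothRegFieldH3.regular_of_formallySmooth_of_bijective φ hφ
  · intro hreg
    letI := φ.toAlgebra
    letI : Algebra k (X.presheaf.stalk x) :=
      ((algebraMap ((Spec (CommRingCat.of k)).presheaf.stalk ((X ↘ (Spec (CommRingCat.of k))) x))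
        (X.presheaf.stalk x)).comp φ).toAlgebra
    haveI : IsScalarTower k
        ((Spec (CommRingCat.of k)).presheaf.stalk ((X ↘ (Spec (CommRingCat.of k))) x))
        (X.presheaf.stalk x) := IsScalarTower.of_algebraMap_eq (fun _ => rfl)
    haveI : Algebra.IsGeometricallyReduced k (IsLocalRing.ResidueField (X.presheaf.stalk x)) :=
      Groth.Agent.Lib.PerfectGRH3.isGeometricallyReduced_of_perfectField _ _
    obtain ⟨n, g, hg⟩ := Groth.Agent.Lib.StalkSmoothH3.exists_poly_stalk
      (X ↘ (Spec (CommRingCat.of k))) x
    exact Groth.Agent.Lib.SmoothRegFieldH3.formallySmooth_of_regular_of_bijective (k := k)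
      hφ.2 n g hg hreg

end Groth.Agent.S1561
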