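import Groth.Statements.S5767
import Mathlib.RingTheory.KrullDimension.Regular
import Mathlib.RingTheory.Ideal.KrullsHeightTheorem
import Mathlib.Tactic.Linarith

set_option autoImplicit false
universe u
open EGA41
open Pointwise

namespace Groth.Agent.S5767

/-- Let A be a semi-local Noetherian ring, M a finitely generated A-module and x an element of the
Jacobson radical of A. One always has dim(M/xM) ≥ dim(M) - 1; equality dim(M/xM) = dim(M) - 1 holds
if and only if x belongs to none of the prime ideals p of Supp(M) with dim(A/p) = dim(M). Stated as: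
dim(M/xM) + 1 = dim(M) iff x avoids those primes. -/
theorem result (A : Type u) [CommRing A] [IsNoetherianRing A]
    [Finite (MaximalSpectrum A)] (M : Type u) [AddCommGroup M] [Module A M] [Module.Finite A M] (x : A)
    (hx : x ∈ Ring.jacobson A) :
    Module.supportDim A (QuotSMulTop x M) + 1 = Module.supportDim A M ↔
      ∀ p : PrimeSpectrum A, p ∈ Module.support A M →
        ringKrullDim (A ⧸ p.asIdeal) = Module.supportDim A M → x ∉ p.asIdeal := by
  classical
  have hfinA : ringKrullDim A < ⊤ := by
    rcases isEmpty_or_nonempty (MaximalSpectrum A) with hE | hNE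
    · refine lt_of_le_of_lt ((ringKrullDim_le_iff_isMaximal_height_le
        (((0 : ℕ) : ℕ∞) : WithBot ℕ∞)).mpr ?_)
        (lt_of_lt_of_eq (WithBot.coe_lt_coe.mpr (ENat.natCast_lt_top 0)) WithBot.coe_top)
      intro m hm
      exact (hE.false ⟨m, hm⟩).elim
    · obtain ⟨m₀, hm₀⟩ := Finite.exists_max (fun m : MaximalSpectrum A => m.asIdeal.height)
      refine lt_of_le_of_lt ((ringKrullDim_le_iff_isMaximal_height_le
        ((m₀.asIdeal.height : ℕ∞) : WithBot ℕ∞)).mpr ?_)
        (lt_of_lt_of_eq (WithBot.coe_lt_coe.mpr (Ideal.height_lt_top m₀.isMaximal.ne_top))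
          WithBot.coe_top)
      intro m hm
      exact WithBot.coe_le_coe.mpr (hm₀ ⟨m, hm⟩)
  have hfinM : Module.supportDim A M < ⊤ :=
    lt_of_le_of_lt (Module.supportDim_le_ringKrullDim A M) hfinA
  have hquot : ∀ (N : Type u) [AddCommGroup N] [Module A N] (p : PrimeSpectrum A),
      p ∈ Module.support A N → ringKrullDim (A ⧸ p.asIdeal) ≤ Module.supportDim A N := by
    intro N _ _ p hp
    rw [ringKrullDim_quotient]
    unfold Module.supportDim
    let f : PrimeSpectrum.zeroLocus (p.asIdeal : Set A) → Module.support A N := fun q =>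
      ⟨q.1, Module.mem_support_mono
        (show p.asIdeal ≤ q.1.asIdeal from fun a ha => (PrimeSpectrum.mem_zeroLocus _ _).mp q.2 ha) hp⟩
    exact Order.krullDim_le_of_strictMono f (fun a b hab => hab)
  have hnat : Nontrivial M → ∃ n : ℕ, Module.supportDim A M = (n : WithBot ℕ∞) := by
    intro _
    have hbot : Module.supportDim A M ≠ ⊥ := Module.supportDim_ne_bot_of_nontrivial A M
    obtain ⟨e, he⟩ := WithBot.ne_bot_iff_exists.mp hbot
    have : e ≠ ⊤ := by rintro rfl; exact (ne_of_lt hfinM) he.symm
    obtain ⟨n, rfl⟩ := ENat.ne_top_iff_exists.mp this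
    exact ⟨n, he.symm⟩
  constructor
  · intro heq p hp hdim hxp
    have hp' : p ∈ Module.support A (QuotSMulTop x M) := by
      rw [Module.support_quotSMulTop]
      exact ⟨hp, by rw [PrimeSpectrum.mem_zeroLocus, Set.singleton_subset_iff]; exact hxp⟩
    have h1 := hquot (QuotSMulTop x M) p hp'
    rw [hdim] at h1
    have h2 : Module.supportDim A M + 1 ≤ Module.supportDim A M := by
      calc Module.supportDim A M + 1 ≤ Module.supportDim A (QuotSMulTop x M) + 1 :=
            add_le_add h1 le_rfl
        _ = _ := heq
    have hnt : Nontrivial M := Module.nonempty_support_iff.mp ⟨p, hp⟩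
    obtain ⟨n, hn⟩ := hnat hnt
    rw [hn] at h2
    have : n + 1 ≤ n := by exact_mod_cast h2
    omega
  · intro h
    apply le_antisymm
    · by_cases hN : Subsingleton (QuotSMulTop x M)
      · rw [Module.supportDim_eq_bot_of_subsingleton, WithBot.bot_add]; exact bot_le
      rw [not_subsingleton_iff_nontrivial] at hN
      haveI : Nonempty (Module.support A (QuotSMulTop x M)) :=
        Module.nonempty_support_of_nontrivial.to_subtype
      have hnt : Nontrivial M :=
        Function.Surjective.nontrivial (Submodule.mkQ_surjective (x • (⊤ : Submodule A M)))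
      obtain ⟨n, hn⟩ := hnat hnt
      have key : ∀ l : LTSeries (Module.support A (QuotSMulTop x M)), l.length + 1 ≤ n := by
        intro l
        have hmem : l.head.1 ∈ Module.support A M ∩ PrimeSpectrum.zeroLocus {x} :=
          Module.support_quotSMulTop (M := M) x ▸ l.head.2
        obtain ⟨hs, hxz⟩ := hmem
        have hxp : x ∈ l.head.1.asIdeal := by
          rw [PrimeSpectrum.mem_zeroLocus, Set.singleton_subset_iff] at hxz; exact hxz
        have h1 : (l.length : WithBot ℕ∞) ≤ ringKrullDim (A ⧸ l.head.1.asIdeal) := by
          rw [ringKrullDim_quotient]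
          let l' : LTSeries (PrimeSpectrum.zeroLocus (l.head.1.asIdeal : Set A)) :=
            { length := l.length
              toFun := fun i => ⟨(l i).1, by
                rw [PrimeSpectrum.mem_zeroLocus]
                have h5 : (l 0).1.asIdeal ≤ (l i).1.asIdeal := l.monotone (Fin.zero_le i)
                exact fun a ha => h5 ha⟩
              step := fun i => l.step i }
          exact Order.LTSeries.length_le_krullDim l'
        have h2 : ringKrullDim (A ⧸ l.head.1.asIdeal) ≤ Module.supportDim A M := hquot M l.head.1 hs
        have h3 : ringKrullDim (A ⧸ l.head.1.asIdeal) ≠ Module.supportDim A M :=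
          fun he => h l.head.1 hs he hxp
        have h4 : (l.length : WithBot ℕ∞) < (n : WithBot ℕ∞) :=
          hn ▸ lt_of_le_of_lt h1 (lt_of_le_of_ne h2 h3)
        have h5 : l.length < n := by exact_mod_cast h4
        omega
      obtain ⟨k, rfl⟩ : ∃ k, n = k + 1 := by
        have := key (RelSeries.singleton _ (Classical.arbitrary _))
        exact ⟨n - 1, by simp at this; omega⟩
      rw [hn]
      have h6 : Module.supportDim A (QuotSMulTop x M) ≤ (k : WithBot ℕ∞) := by
        unfold Module.supportDim Order.krullDim
        refine iSup_le fun l => ?_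
        have := key l
        have h7 : l.length ≤ k := by omega
        exact_mod_cast h7
      calc Module.supportDim A (QuotSMulTop x M) + 1 ≤ (k : WithBot ℕ∞) + 1 :=
            add_le_add h6 le_rfl
        _ = ((k + 1 : ℕ) : WithBot ℕ∞) := by push_cast; rfl
    · exact Module.supportDim_le_supportDim_quotSMulTop_succ_of_mem_jacobson
        (Ideal.ringJacobson_le_jacobson hx)

end Groth.Agent.S5767
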