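import Groth.Statements.S14280
import Mathlib.LinearAlgebra.Eigenspace.Charpoly
import Mathlib.Analysis.Normed.Ring.InfiniteSum
import Mathlib.Analysis.Complex.Polynomial.Basic
import Mathlib.FieldTheory.IsAlgClosed.Basic

set_option autoImplicit false
universe u
open SpSeq

namespace Groth.Agent.S14280

/-- Let E^{p,q} (p, q ≥ 0) be finite-dimensional complex vector spaces each carrying an endomorphism Φ,
and suppose that for a natural number N and functions a, c ≥ 0 (real) and b, d (natural numbers) one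
has E^{p,q} = 0 for q > N, |μ| ≤ a(q)c(p) for every eigenvalue μ of Φ on E^{p,q}, and dim E^{p,q} ≤
b(q)d(p). If Σ_p c(p)d(p) converges then the family of traces tr(Φ | E^{p,q}) is absolutely summable
over all pairs (p, q). (The published statement takes a and b defined on {0, …, N} only; here they
are functions on all natural numbers, which changes nothing since E^{p,q} = 0 for q > N.) -/
theorem result
    (E : ℕ → ℕ → Type u) [∀ p q, AddCommGroup (E p q)] [∀ p q, Module ℂ (E p q)]
    [∀ p q, FiniteDimensional ℂ (E p q)] (Φ : ∀ p q, E p q →ₗ[ℂ] E p q)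
    (N : ℕ) (a c : ℕ → ℝ) (b d : ℕ → ℕ) (ha : ∀ q, 0 ≤ a q) (hc : ∀ p, 0 ≤ c p)
    (h1 : ∀ p q, N < q → Subsingleton (E p q))
    (h2 : ∀ p q (μ : ℂ), Module.End.HasEigenvalue (Φ p q) μ → ‖μ‖ ≤ a q * c p)
    (h3 : ∀ p q, Module.finrank ℂ (E p q) ≤ b q * d p)
    (hsum : Summable fun p : ℕ => c p * (d p : ℝ)) :
    Summable fun pq : ℕ × ℕ => ‖LinearMap.trace ℂ (E pq.1 pq.2) (Φ pq.1 pq.2)‖ := by
  have hbound : ∀ p q, ‖LinearMap.trace ℂ (E p q) (Φ p q)‖ ≤
      (Module.finrank ℂ (E p q) : ℝ) * (a q * c p) := by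
    intro p q
    have hsp : (LinearMap.charpoly (Φ p q)).Splits := IsAlgClosed.splits _
    rw [Module.End.trace_eq_sum_roots_charpoly_of_splits hsp]
    refine (norm_multiset_sum_le _).trans ?_
    have h1 : ((LinearMap.charpoly (Φ p q)).roots.map fun x => ‖x‖).sum ≤
        Multiset.card ((LinearMap.charpoly (Φ p q)).roots.map fun x => ‖x‖) • (a q * c p) := by
      apply Multiset.sum_le_card_nsmul
      intro x hx
      obtain ⟨μ, hμ, rfl⟩ := Multiset.mem_map.1 hx
      exact h2 p q μ ((Module.End.hasEigenvalue_iff_isRoot_charpoly (Φ p q) μ).2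
        (Polynomial.isRoot_of_mem_roots hμ))
    refine h1.trans ?_
    rw [Multiset.card_map, nsmul_eq_mul]
    apply mul_le_mul_of_nonneg_right _ (mul_nonneg (ha q) (hc p))
    have h5 := Polynomial.card_roots' (LinearMap.charpoly (Φ p q))
    rw [LinearMap.charpoly_natDegree] at h5
    exact_mod_cast h5
  have hg2 : Summable (fun q : ℕ => if q ≤ N then a q * (b q : ℝ) else 0) := by
    apply summable_of_ne_finset_zero (s := Finset.range (N + 1))
    intro q hq
    rw [Finset.mem_range] at hq
    rw [if_neg (by omega)]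
  have hprod := hsum.mul_of_nonneg hg2 (fun p => mul_nonneg (hc p) (Nat.cast_nonneg _))
    (fun q => by
      show (0 : ℝ) ≤ if q ≤ N then a q * (b q : ℝ) else 0
      split_ifs
      · exact mul_nonneg (ha q) (Nat.cast_nonneg _)
      · exact le_rfl)
  refine Summable.of_nonneg_of_le (fun _ => norm_nonneg _) ?_ hprod
  rintro ⟨p, q⟩
  refine (hbound p q).trans ?_
  by_cases hq : q ≤ N
  · simp only [if_pos hq]
    have h3' : (Module.finrank ℂ (E p q) : ℝ) ≤ (b q : ℝ) * (d p : ℝ) := by exact_mod_cast h3 p q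
    calc (Module.finrank ℂ (E p q) : ℝ) * (a q * c p)
        ≤ ((b q : ℝ) * (d p : ℝ)) * (a q * c p) :=
          mul_le_mul_of_nonneg_right h3' (mul_nonneg (ha q) (hc p))
      _ = c p * (d p : ℝ) * (a q * (b q : ℝ)) := by ring
  · simp only [if_neg hq]
    haveI := h1 p q (by omega)
    rw [Module.finrank_zero_of_subsingleton]
    simp

end Groth.Agent.S14280
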