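import Groth.Statements.S8355
import Mathlib

set_option autoImplicit false
universe v u
open CategoryTheory CategoryTheory.Limits
open SpSeq

namespace Groth.Agent.S8355

/-- Let E be a spectral sequence in an abelian category and suppose E_r^{p,q} = 0. Then E_k^{p,q} = 0
for every k ≥ r, and E_∞^{p,q} = 0: for any abutment data (H^n) of E, the graded piece gr^p H^{p+q},
identified by the abutment with the limit term at (p, q), is zero. -/
theorem result {C : Type u} [Category.{v} C] [Abelian C] {r₀ : ℤ}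
    (E : CohomologicalSpectralSequence C r₀) (r : ℤ) (hr : r₀ ≤ r) (pq : ℤ × ℤ)
    (h : IsZero ((E.page r hr).X pq)) :
    (∀ (k : ℤ) (hk : r ≤ k), IsZero ((E.page k (hr.trans hk)).X pq)) ∧
      ∀ (H : ℤ → C) (a : SpSeq.Abutment E H),
        IsZero (SpSeq.grPiece (a.fil (pq.1 + pq.2)) (a.anti (pq.1 + pq.2)) pq.1) := by
  have part1 : ∀ (k : ℤ) (hk : r ≤ k) (hk0 : r₀ ≤ k), IsZero ((E.page k hk0).X pq) := by
    intro k hk
    refine Int.le_induction (motive := fun k _ => ∀ hk0 : r₀ ≤ k, IsZero ((E.page k hk0).X pq))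
      ?_ ?_ k hk
    · intro _
      exact h
    · intro n hn ih hk0
      have hn0 : r₀ ≤ n := hr.trans hn
      have hz : IsZero ((E.page n hn0).homology pq) :=
        ShortComplex.isZero_homology_of_isZero_X₂ _ (ih hn0)
      exact IsZero.of_iso hz (E.iso n (n + 1) pq rfl hn0).symm
  refine ⟨fun k hk => part1 k hk _, ?_⟩
  intro H a
  obtain ⟨hrk0, hstat⟩ := a.stat pq
  have key : ∀ (k : ℤ) (hk : a.rk pq ≤ k) (hk0 : r₀ ≤ k),
      Nonempty ((E.page k hk0).X pq ≅ (E.page (a.rk pq) hrk0).X pq) := by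
    intro k hk
    refine Int.le_induction (motive := fun k _ => ∀ hk0 : r₀ ≤ k,
      Nonempty ((E.page k hk0).X pq ≅ (E.page (a.rk pq) hrk0).X pq)) ?_ ?_ k hk
    · intro _
      exact ⟨Iso.refl _⟩
    · intro n hn ih hk0
      have hn0 : r₀ ≤ n := hrk0.trans hn
      obtain ⟨e⟩ := ih hn0
      obtain ⟨hd1, hd2⟩ := hstat n hn0 hn
      have hrel1 : (ComplexShape.up' ((n, 1 - n) : ℤ × ℤ)).Rel (pq - (n, 1 - n)) pq :=
        sub_add_cancel pq _
      have hrel2 : (ComplexShape.up' ((n, 1 - n) : ℤ × ℤ)).Rel pq (pq + (n, 1 - n)) := rfl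
      have hf : ((E.page n hn0).sc pq).f = 0 := by
        show (E.page n hn0).dTo pq = 0
        rw [(E.page n hn0).dTo_eq hrel1, hd1, comp_zero]
      have hg : ((E.page n hn0).sc pq).g = 0 := by
        show (E.page n hn0).dFrom pq = 0
        rw [(E.page n hn0).dFrom_eq hrel2, hd2, zero_comp]
      have e2 : (E.page n hn0).homology pq ≅ (E.page n hn0).X pq :=
        (ShortComplex.LeftHomologyData.ofZeros ((E.page n hn0).sc pq) hf hg).homologyIso
      exact ⟨(E.iso n (n + 1) pq rfl hn0).symm ≪≫ e2 ≪≫ e⟩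
  have hmax0 : r₀ ≤ max r (a.rk pq) := hr.trans (le_max_left _ _)
  obtain ⟨e⟩ := key (max r (a.rk pq)) (le_max_right _ _) hmax0
  have hz : IsZero ((E.page (a.rk pq) hrk0).X pq) :=
    IsZero.of_iso (part1 _ (le_max_left _ _) hmax0) e.symm
  exact IsZero.of_iso hz (a.β pq).symm

end Groth.Agent.S8355
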