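import Groth.Statements.S5727
import Mathlib
import Groth.Agent.Lib.RelSerre3_helper5
import Groth.Agent.S5721

set_option autoImplicit false
universe u
open CategoryTheory CategoryTheory.Limits AlgebraicGeometry TopologicalSpace Opposite
open scoped HomogeneousIdeal
open EGA2

namespace Groth.Agent.S5727

/-- Let Z be a scheme which is either quasi-compact and separated or has Noetherian underlying space, g
: Y → Z a quasi-compact morphism, K an invertible O_Y-module which is very ample relative to g, and
E a quasi-coherent O_Y-module of finite type. Then there is m₀ such that for every m ≥ m₀ there are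
a quasi-coherent O_Z-module F of finite type (depending on m) and an epimorphism g^*F → E ⊗ K^{⊗m}.
(The published statement says that E is isomorphic to a quotient of g^*F ⊗ K^{⊗(-m)}; for invertible
K this is the same as E ⊗ K^{⊗m} being a quotient of g^*F, the form used here, which avoids negative
tensor powers.) -/
theorem result {Y Z : Scheme.{u}}
    (hZ : (CompactSpace Z ∧ Z.IsSeparated) ∨ TopologicalSpace.NoetherianSpace Z) (g : Y ⟶ Z) [QuasiCompact g]
    (K : Y.Modules) (hK : PicF.IsInvertible K) (hKva : RelProj.IsRelVeryAmple g K)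
    (E : Y.Modules) (hE : Coh.IsQCoh E) (hEft : CohB1.IsFT E) :
    ∃ m₀ : ℕ, ∀ m : ℕ, m₀ ≤ m →
      ∃ (F : Z.Modules) (φ : (Scheme.Modules.pullback g).obj F ⟶ CohB1.tensorMod E (CohB1.tensorPow K m)),
        Coh.IsQCoh F ∧ CohB1.IsFT F ∧ Epi φ := by
  haveI hc : CompactSpace Z := by
    rcases hZ with ⟨h, -⟩ | h
    · exact h
    · exact inferInstance
  haveI hqs : QuasiSeparatedSpace Z := by
    rcases hZ with ⟨-, h⟩ | h
    · haveI := h
      exact inferInstance
    · refine ⟨fun U V _ _ _ _ => ?_⟩
      exact TopologicalSpace.NoetherianSpace.isCompact _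
  have hamp : RelAmple.IsRelAmple g K := Groth.Agent.S5721.result g K hK hKva
  haveI : IsSeparated g := TensH8.isSeparated_of_isRelAmple g hamp
  exact Groth.Agent.RelSerre.exists_quotient_of_isAmpleOn g hK
    (fun V hV => ((TensH8.isRelAmple_iff g hK).mp hamp).2 ⟨V, hV⟩) E hE hEft

end Groth.Agent.S5727
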