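import Groth.Statements.S7471
import Mathlib
import Groth.Agent.Lib.VCover_helper9

set_option autoImplicit false
universe w u
open HTop

namespace Groth.Agent.S7471

open CategoryTheory CategoryTheory.Limits AlgebraicGeometry in
/-- If E is a V covering of T and T' -> T is any morphism of schemes, then the family of base changes T'
x_T T_i -> T' is a V covering of T'. -/
theorem result {T T' : Scheme.{u}} (g : T' ⟶ T) (E : PreZeroHypercover.{w} T) (hE : HTop.IsVCover E) : HTop.IsVCover (E.pullback₁ g) := by
  intro U'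
  haveI : IsAffine (U' : T'.Opens).toScheme := U'.2
  obtain ⟨G, hG, hGR⟩ := Groth.Agent.Lib.VCover.exists_standardV_refinesOver
    ((U' : T'.Opens).ι ≫ g) E hE
  refine ⟨G, hG, ?_⟩
  intro j
  obtain ⟨i, h, hh⟩ := hGR j
  refine ⟨i, CategoryTheory.Limits.pullback.lift (G.f j ≫ (U' : T'.Opens).ι) h ?_, ?_⟩
  · rw [hh, CategoryTheory.Category.assoc]
  · show CategoryTheory.Limits.pullback.lift (G.f j ≫ (U' : T'.Opens).ι) h _ ≫
      CategoryTheory.Limits.pullback.fst g (E.f i) = G.f j ≫ (U' : T'.Opens).ι
    exact CategoryTheory.Limits.pullback.lift_fst _ _ _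

end Groth.Agent.S7471
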