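import Groth.Statements.S7473
import Mathlib
import Groth.Agent.Lib.ValLift_helper6
-- import your own Groth.Agent.* helpers here

set_option autoImplicit false
universe u
open HTop

namespace Groth.Agent.S7473

open CategoryTheory CategoryTheory.Limits AlgebraicGeometry in
/-- An fpqc covering of a scheme T is a V covering. (Here an fpqc covering is a family in Mathlib's fpqc
precoverage: flat, jointly surjective, and every affine open of T is the union of the images of
finitely many quasi-compact opens of the members. The further clauses for fppf, syntomic, smooth,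
étale and Zariski coverings follow because those coverings are fpqc coverings; the clause for ph
coverings is the standard ph statement applied over each affine open.) -/
theorem result {T : Scheme.{u}} : ∀ 𝒰 : Scheme.Cover Scheme.fpqcPrecoverage T, HTop.IsVCover 𝒰.toPreZeroHypercover := by

  intro 𝒰 U
  have hmem : 𝒰.presieve₀ ∈ Scheme.propQCPrecoverage @Flat T := 𝒰.mem₀
  haveI hqc : QuasiCompactCover 𝒰.toPreZeroHypercover := by
    rw [← Scheme.presieve₀_mem_qcPrecoverage_iff]
    exact hmem.1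
  have hflat : ∀ i, Flat (𝒰.f i) := ((Scheme.presieve₀_mem_precoverage_iff _).mp hmem.2).2
  obtain ⟨n, a, W, hW, hU⟩ :=
    QuasiCompactCover.exists_isAffineOpen_of_isCompact 𝒰.toPreZeroHypercover U.2.isCompact
  have hsub : ∀ i, Set.range ((W i).ι ≫ 𝒰.f (a i)) ⊆ Set.range (U.1.ι) := by
    intro i
    rintro _ ⟨w, rfl⟩
    rw [Scheme.Opens.range_ι, ← hU]
    exact Set.mem_iUnion.mpr ⟨i, ⟨(W i).ι w, w.2, rfl⟩⟩
  let F : PreZeroHypercover.{0} (U.1 : Scheme.{u}) :=
    { I₀ := Fin n
      X := fun i => ((W i : (𝒰.X (a i)).Opens) : Scheme.{u})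
      f := fun i => IsOpenImmersion.lift U.1.ι ((W i).ι ≫ 𝒰.f (a i)) (hsub i) }
  have hFfac : ∀ i : Fin n, F.f i ≫ U.1.ι = (W i).ι ≫ 𝒰.f (a i) :=
    fun i => IsOpenImmersion.lift_fac _ _ _
  refine ⟨F, ⟨U.2, inferInstanceAs (Finite (Fin n)), fun i => hW i, ?_⟩,
    fun j => ⟨a j, (W j).ι, (hFfac j).symm⟩⟩
  intro V _ _ g
  have ht : U.1.ι (g (IsLocalRing.closedPoint V)) ∈ (U.1 : Set T) :=
    (g (IsLocalRing.closedPoint V)).2
  rw [← hU] at ht
  obtain ⟨i, x, hxW, hx⟩ := Set.mem_iUnion.mp ht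
  haveI := hflat (a i)
  obtain ⟨W', i1, i2, φ, hext, g', hg', hcp⟩ :=
    Groth.Agent.Lib.ValLift.exists_valLift_of_flat (𝒰.f (a i)) V (g ≫ U.1.ι) x hx
  have hmemW : g' (IsLocalRing.closedPoint W') ∈ Set.range (W i).ι := by
    rw [hcp, Scheme.Opens.range_ι]
    exact hxW
  obtain ⟨l, hl⟩ := Groth.Agent.Lib.ValLift.exists_lift_of_closedPoint_mem g' (W i).ι hmemW
  refine ⟨W', i1, i2, φ, hext, i, l, ?_⟩
  rw [← cancel_mono U.1.ι, Category.assoc, Category.assoc]
  show l ≫ F.f i ≫ U.1.ι = _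
  rw [hFfac i, ← Category.assoc, hl, hg']

end Groth.Agent.S7473
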