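import Groth.Statements.S4363
import Mathlib

set_option autoImplicit false
universe u v
open RedSep

namespace Groth.Agent.S4363

open AlgebraicGeometry CategoryTheory Limits TensorProduct in
lemma closure_eq_top_of_isPushout {R A B P : CommRingCat.{u}} {φ : R ⟶ A} {ψ : R ⟶ B}
    {inl : A ⟶ P} {inr : B ⟶ P} (h : IsPushout φ ψ inl inr) :
    Subring.closure (Set.range inl.hom ∪ Set.range inr.hom) = ⊤ := by
  letI := φ.hom.toAlgebra
  letI := ψ.hom.toAlgebra
  have h' : IsPushout φ ψ
      (CommRingCat.ofHom (S := A ⊗[R] B) Algebra.TensorProduct.includeLeftRingHom)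
      (CommRingCat.ofHom (S := A ⊗[R] B) Algebra.TensorProduct.includeRight.toRingHom) :=
    CommRingCat.isPushout_tensorProduct R A B
  let e := h'.isoIsPushout _ _ h
  have hl : ∀ a : A, e.hom.hom (a ⊗ₜ 1) = inl.hom a := fun a =>
    congr($(IsPushout.inl_isoIsPushout_hom _ _ h' h).hom a)
  have hr : ∀ b : B, e.hom.hom (1 ⊗ₜ b) = inr.hom b := fun b =>
    congr($(IsPushout.inr_isoIsPushout_hom _ _ h' h).hom b)
  rw [eq_top_iff]
  rintro x -
  obtain ⟨t, rfl⟩ : ∃ t, e.hom.hom t = x := ⟨e.inv.hom x, by simp⟩
  induction t using TensorProduct.induction_on with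
  | zero => rw [map_zero]; exact Subring.zero_mem _
  | tmul a b =>
    have : (a ⊗ₜ[R] b : A ⊗[R] B) = (a ⊗ₜ 1) * (1 ⊗ₜ b) := by simp
    rw [this, map_mul, hl, hr]
    exact Subring.mul_mem _ (Subring.subset_closure (Or.inl ⟨a, rfl⟩))
      (Subring.subset_closure (Or.inr ⟨b, rfl⟩))
  | add x y hx hy => rw [map_add]; exact Subring.add_mem _ hx hy

open AlgebraicGeometry in
open CategoryTheory in
/-- Let Y be an affine scheme, f : X -> Y a morphism and (U i) a cover of X by affine open subschemes.
Then f is separated if and only if, for every pair of indices i, j, the intersection of U i and U j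
is an affine open and its ring of sections is generated, as a ring, by the images of the rings of
sections of U i and of U j under the restriction maps. -/
theorem result
    {X Y : Scheme.{u}} [IsAffine Y] (f : X ⟶ Y) {ι : Type v} (U : ι → X.Opens)
    (hU : ∀ i, IsAffineOpen (U i)) (hcov : ⨆ i, U i = ⊤) :
    IsSeparated f ↔ ∀ i j, IsAffineOpen (U i ⊓ U j) ∧
      Subring.closure (Set.range (X.presheaf.map (homOfLE (inf_le_left : U i ⊓ U j ≤ U i)).op).hom ∪
        Set.range (X.presheaf.map (homOfLE (inf_le_right : U i ⊓ U j ≤ U j)).op).hom) = ⊤ := by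
  let Q : AffineTargetMorphismProperty :=
    fun X _ f _ ↦ IsAffine X ∧ Function.Surjective (f.appTop)
  haveI hQ : HasAffineProperty @IsClosedImmersion Q := IsClosedImmersion.hasAffineProperty
  haveI : Q.IsLocal := HasAffineProperty.isLocal_affineProperty @IsClosedImmersion
  have hsep : IsSeparated f ↔ Q.diagonal f := by
    rw [HasAffineProperty.diagonal_iff @IsClosedImmersion,
      IsSeparated.isSeparated_eq_diagonal_isClosedImmersion]
  haveI hUi : ∀ i, IsAffine (U i).toScheme := hU
  have key : ∀ i j, Q (Limits.pullback.mapDesc (U i).ι (U j).ι f) ↔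
      (IsAffineOpen (U i ⊓ U j) ∧
      Subring.closure (Set.range (X.presheaf.map (homOfLE (inf_le_left : U i ⊓ U j ≤ U i)).op).hom ∪
        Set.range (X.presheaf.map (homOfLE (inf_le_right : U i ⊓ U j ≤ U j)).op).hom) = ⊤) := by
    intro i j
    haveI : IsAffine (U i).toScheme := hU i
    haveI : IsAffine (U j).toScheme := hU j
    let V := U i ⊓ U j
    let e : V.toScheme ≅ Limits.pullback (U i).ι (U j).ι :=
      (isPullback_opens_inf (U i) (U j)).isoPullback
    let m' : V.toScheme ⟶ Limits.pullback ((U i).ι ≫ f) ((U j).ι ≫ f) :=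
      Limits.pullback.lift (X.homOfLE inf_le_left) (X.homOfLE inf_le_right) (by simp)
    have hm' : e.hom ≫ Limits.pullback.mapDesc (U i).ι (U j).ι f = m' := by
      apply Limits.pullback.hom_ext
      · simp only [e, m', Limits.pullback.mapDesc, Limits.pullback.map, Category.assoc,
          Limits.pullback.lift_fst]
        erw [Limits.pullback.lift_fst]
        simp
      · simp only [e, m', Limits.pullback.mapDesc, Limits.pullback.map, Category.assoc,
          Limits.pullback.lift_snd]
        erw [Limits.pullback.lift_snd]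
        simp
    rw [← Q.cancel_left_of_respectsIso e.hom, hm']
    show (IsAffine V.toScheme ∧ Function.Surjective m'.appTop) ↔ _
    refine and_congr Iff.rfl ?_
    let a₁ := (Limits.pullback.fst ((U i).ι ≫ f) ((U j).ι ≫ f)).appTop
    let b₁ := (Limits.pullback.snd ((U i).ι ≫ f) ((U j).ι ≫ f)).appTop
    have hpo : Subring.closure (Set.range a₁.hom ∪ Set.range b₁.hom) = ⊤ :=
      closure_eq_top_of_isPushout (isPushout_appTop_of_isPullback (IsPullback.of_hasPullback _ _))
    let μ : Γ(Limits.pullback ((U i).ι ≫ f) ((U j).ι ≫ f), ⊤) ⟶ Γ(X, V) :=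
      m'.appTop ≫ V.topIso.hom
    have hbij := ConcreteCategory.bijective_of_isIso V.topIso.hom
    have hμ : Function.Surjective m'.appTop ↔ Function.Surjective μ := by
      constructor
      · intro h
        exact hbij.2.comp h
      · intro h y
        obtain ⟨x, hx⟩ := h (V.topIso.hom y)
        exact ⟨x, hbij.1 hx⟩
    have aux : ∀ {A B C D : X.Opens} (p : A ⟶ B) (q : B ⟶ D) (r : A ⟶ C) (s : C ⟶ D),
        X.presheaf.map q.op ≫ X.presheaf.map p.op =
          X.presheaf.map s.op ≫ X.presheaf.map r.op := by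
      intro A B C D p q r s
      rw [← Functor.map_comp, ← Functor.map_comp]
      congr 1
    have hμl : a₁ ≫ μ = (U i).topIso.hom ≫
        X.presheaf.map (homOfLE (inf_le_left : V ≤ U i)).op := by
      have h1 : a₁ ≫ m'.appTop = (X.homOfLE (inf_le_left : V ≤ U i)).appTop := by
        rw [← Scheme.Hom.comp_appTop, Limits.pullback.lift_fst]
      simp only [μ, ← Category.assoc, h1]
      rw [Scheme.homOfLE_appTop, Scheme.Opens.topIso_hom, Scheme.Opens.topIso_hom]
      exact aux _ _ _ _
    have hμr : b₁ ≫ μ = (U j).topIso.hom ≫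
        X.presheaf.map (homOfLE (inf_le_right : V ≤ U j)).op := by
      have h1 : b₁ ≫ m'.appTop = (X.homOfLE (inf_le_right : V ≤ U j)).appTop := by
        rw [← Scheme.Hom.comp_appTop, Limits.pullback.lift_snd]
      simp only [μ, ← Category.assoc, h1]
      rw [Scheme.homOfLE_appTop, Scheme.Opens.topIso_hom, Scheme.Opens.topIso_hom]
      exact aux _ _ _ _
    have hrange : μ.hom.range = Subring.closure
        (Set.range (X.presheaf.map (homOfLE (inf_le_left : U i ⊓ U j ≤ U i)).op).hom ∪
        Set.range (X.presheaf.map (homOfLE (inf_le_right : U i ⊓ U j ≤ U j)).op).hom) := by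
      rw [RingHom.range_eq_map, ← hpo, RingHom.map_closure, Set.image_union, ← Set.range_comp,
        ← Set.range_comp]
      have e1 : ⇑μ.hom ∘ ⇑a₁.hom = ⇑(X.presheaf.map (homOfLE (inf_le_left : V ≤ U i)).op).hom ∘
          ⇑(U i).topIso.hom.hom := by
        ext x; exact congr($hμl x)
      have e2 : ⇑μ.hom ∘ ⇑b₁.hom = ⇑(X.presheaf.map (homOfLE (inf_le_right : V ≤ U j)).op).hom ∘
          ⇑(U j).topIso.hom.hom := by
        ext x; exact congr($hμr x)
      rw [e1, e2, Set.range_comp, Set.range_comp _ ⇑(U j).topIso.hom.hom,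
        (ConcreteCategory.bijective_of_isIso (U i).topIso.hom).2.range_eq,
        (ConcreteCategory.bijective_of_isIso (U j).topIso.hom).2.range_eq,
        Set.image_univ, Set.image_univ]
    rw [hμ, ← hrange, RingHom.range_eq_top]
  rw [hsep]
  constructor
  · intro h i j
    haveI : IsAffine (U i).toScheme := hU i
    haveI : IsAffine (U j).toScheme := hU j
    exact (key i j).mp (h (U i).ι (U j).ι)
  · intro h
    let 𝒰 : X.OpenCover := X.openCoverOfIsOpenCover U hcov
    haveI : ∀ i, IsAffine (𝒰.X i) := fun i => hU i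
    exact AffineTargetMorphismProperty.diagonal_of_openCover_source f 𝒰
      (fun i j => (key i j).mpr (h i j))

end Groth.Agent.S4363
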