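import Groth.Statements.S0704
import Mathlib
import Groth.Agent.Lib.SpectralProd_helper8

set_option autoImplicit false
open Topology
universe u
open ProEtW

namespace Groth.Agent.S0704

/-- With X, T, g and the fibre product Y of X and T over pi_0(X) as in the first part, if X is moreover
w-local then Y is w-local, the projection Y -> X is w-local, and the closed points of Y are exactly
the points mapping to closed points of X. -/
theorem result (X T : Type u) [TopologicalSpace X]
    [TopologicalSpace T] [CompactSpace T] [T2Space T] [TotallyDisconnectedSpace T]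
    (hX : ProEtW.IsWLocal X) (g : C(T, _root_.ConnectedComponents X)) :
    ProEtW.IsWLocal {p : X × T // _root_.ConnectedComponents.mk p.1 = g p.2} ∧
      ProEtW.IsWLocalMap (fun y : {p : X × T // _root_.ConnectedComponents.mk p.1 = g p.2} => y.1.1) ∧
      ProEtW.closedPoints {p : X × T // _root_.ConnectedComponents.mk p.1 = g p.2} =
        (fun y : {p : X × T // _root_.ConnectedComponents.mk p.1 = g p.2} => y.1.1) ⁻¹' ProEtW.closedPoints X := by
  obtain ⟨hS, hC, hU⟩ := hX
  haveI := hS
  haveI hYS := Groth.Agent.Lib.SpectralProdH8.spectralSpace_fib g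
  haveI : T2Space (_root_.ConnectedComponents X) :=
    Groth.Agent.Lib.SpectralProdH8.t2Space_connectedComponents
  have hYcl := Groth.Agent.Lib.SpectralProdH8.isClosed_fib g
  have hemb : Topology.IsClosedEmbedding
      (Subtype.val : {p : X × T // _root_.ConnectedComponents.mk p.1 = g p.2} → X × T) :=
    hYcl.isClosedEmbedding_subtypeVal
  have hcp : ∀ y : {p : X × T // _root_.ConnectedComponents.mk p.1 = g p.2},
      IsClosed ({y} : Set {p : X × T // _root_.ConnectedComponents.mk p.1 = g p.2}) ↔
        IsClosed ({y.1.1} : Set X) := by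
    intro y
    rw [hemb.isClosed_iff_image_isClosed, Set.image_singleton]
    constructor
    · intro h
      have h2 := h.preimage (Continuous.prodMk_left (X := X) y.1.2)
      convert h2 using 1
      ext x
      simp only [Set.mem_singleton_iff, Set.mem_preimage]
      constructor
      · intro hx
        rw [hx]
      · intro hx
        exact congrArg Prod.fst hx
    · intro h
      have : ({y.1} : Set (X × T)) = ({y.1.1} : Set X) ×ˢ ({y.1.2} : Set T) := by
        rw [Set.singleton_prod_singleton]
      rw [this]
      exact h.prod isClosed_singleton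
  have hspec : ∀ y z : {p : X × T // _root_.ConnectedComponents.mk p.1 = g p.2},
      y ⤳ z ↔ (y.1.1 ⤳ z.1.1 ∧ y.1.2 = z.1.2) := by
    intro y z
    rw [subtype_specializes_iff]
    have : (y.1 ⤳ z.1) ↔ ((y.1.1, y.1.2) ⤳ (z.1.1, z.1.2)) := Iff.rfl
    rw [this, specializes_prod, specializes_iff_eq (X := T)]
  refine ⟨⟨hYS, ?_, ?_⟩, ⟨?_, ?_⟩, ?_⟩
  · have : {y : {p : X × T // _root_.ConnectedComponents.mk p.1 = g p.2} | IsClosed ({y} : Set _)} =
        (fun y : {p : X × T // _root_.ConnectedComponents.mk p.1 = g p.2} => y.1.1) ⁻¹'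
          {x : X | IsClosed ({x} : Set X)} := by
      ext y
      exact hcp y
    rw [this]
    exact hC.preimage (continuous_fst.comp continuous_subtype_val)
  · intro y
    obtain ⟨x, ⟨hx1, hx2⟩, hx3⟩ := hU y.1.1
    have hmem : _root_.ConnectedComponents.mk x = g y.1.2 := by
      rw [← y.2]
      exact ((hx2.map _root_.ConnectedComponents.continuous_coe).eq).symm
    refine ⟨⟨(x, y.1.2), hmem⟩, ⟨(hcp _).mpr hx1, (hspec _ _).mpr ⟨hx2, rfl⟩⟩, ?_⟩
    rintro z ⟨hz1, hz2⟩
    obtain ⟨hz3, hz4⟩ := (hspec _ _).mp hz2
    have := hx3 z.1.1 ⟨(hcp z).mp hz1, hz3⟩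
    exact Subtype.ext (Prod.ext this hz4.symm)
  · have h1 : IsSpectralMap
        (Subtype.val : {p : X × T // _root_.ConnectedComponents.mk p.1 = g p.2} → X × T) :=
      hemb.isProperMap.isSpectralMap
    have h2 : IsSpectralMap (Prod.fst : X × T → X) :=
      isProperMap_fst_of_compactSpace.isSpectralMap
    exact h2.comp h1
  · intro y hy
    exact (hcp y).mp hy
  · ext y
    exact hcp y

end Groth.Agent.S0704
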