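import Groth.Statements.S0701
import Mathlib
import Groth.Agent.Lib.SpectralT1_helper8

set_option autoImplicit false
open CategoryTheory CategoryTheory.Limits AlgebraicGeometry Opposite Topology
universe u
open ProEtW

namespace Groth.Agent.S0701

/-- Let Spec A be profinite (quasi-compact, Hausdorff, totally disconnected) and A -> B a ring map such
that two distinct primes of B over the same prime of A are never comparable. Then Spec B is
profinite. -/
theorem result (A B : Type u) [CommRing A] [CommRing B]
    [Algebra A B] [T2Space (PrimeSpectrum A)] [TotallyDisconnectedSpace (PrimeSpectrum A)]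
    (h : ∀ q q' : PrimeSpectrum B, q.asIdeal.comap (algebraMap A B) = q'.asIdeal.comap (algebraMap A B) →
      q.asIdeal ≤ q'.asIdeal → q = q') :
    ProEtW.IsProfinite (PrimeSpectrum B) := by
  have hB : ∀ q : PrimeSpectrum B, IsClosed ({q} : Set (PrimeSpectrum B)) := by
    intro q
    rw [PrimeSpectrum.isClosed_singleton_iff_isMaximal]
    obtain ⟨m, hm, hqm⟩ := Ideal.exists_le_maximal q.asIdeal q.2.ne_top
    have hpmax : (q.asIdeal.comap (algebraMap A B)).IsMaximal :=
      (PrimeSpectrum.isClosed_singleton_iff_isMaximal
        (PrimeSpectrum.comap (algebraMap A B) q)).mp isClosed_singleton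
    have heq : q.asIdeal.comap (algebraMap A B) = m.comap (algebraMap A B) :=
      hpmax.eq_of_le (Ideal.comap_ne_top _ hm.ne_top) (Ideal.comap_mono hqm)
    have := h q ⟨m, hm.isPrime⟩ heq hqm
    rw [this]; exact hm
  exact ⟨inferInstance, Groth.Agent.Lib.SpectralT1H8.t2Space_of_closed_points hB,
    Groth.Agent.Lib.SpectralT1H8.totallyDisconnectedSpace_of_closed_points hB⟩

end Groth.Agent.S0701
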