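import Groth.Statements.S4850
import Mathlib
import Groth.Agent.S2107
import Groth.Agent.Lib.FibInjF_helper6

set_option autoImplicit false
universe u
open EGA43

namespace Groth.Agent.S4850

open AlgebraicGeometry CategoryTheory Limits in
/-- Equivalence of a: and b)): let f : X ⟶ Y be locally of finite presentation, F and F' quasi-coherent
O_X-modules of finite presentation, u : F' ⟶ F a homomorphism and x a point with y = f x, such that
F is f-flat at x. Then the stalk map u_x is injective and Coker u is f-flat at x, if and only if u_x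
induces an injective map F'_x / m_y F'_x → F_x / m_y F_x. The second condition is written out: an
element of F'_x whose image under u_x lies in m_y F_x already lies in m_y F'_x. (The vanishing of
the stalk (Ker u)_x is expressed as injectivity of u_x.) -/
theorem result {X Y : Scheme.{u}} (f : X ⟶ Y)
    [LocallyOfFinitePresentation f] (F F' : X.Modules) [Coh.IsQCoh F] [Coh.IsQCoh F']
    (hF : CohB1.IsFP F) (hF' : CohB1.IsFP F') (u : F' ⟶ F) (x : X) (hflat : FlatMod.IsFlatOverAt f F x) :
    letI J : Ideal ↑(X.presheaf.stalk x) :=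
      Ideal.map (f.stalkMap x).hom (IsLocalRing.maximalIdeal ↑(Y.presheaf.stalk (f x)))
    letI ux := (TopCat.Presheaf.stalkFunctor Ab x).map (Scheme.Modules.Hom.mapPresheaf u)
    (Function.Injective ux ∧ FlatMod.IsFlatOverAt f (cokernel u) x) ↔
      ∀ m : ↑(F'.presheaf.stalk x),
        ux m ∈ (J • (⊤ : Submodule ↑(X.presheaf.stalk x) ↑(F.presheaf.stalk x))) →
          m ∈ (J • (⊤ : Submodule ↑(X.presheaf.stalk x) ↑(F'.presheaf.stalk x))) := by
  classical
  haveI : F.IsQuasicoherent := ‹Coh.IsQCoh F›
  haveI : F'.IsQuasicoherent := ‹Coh.IsQCoh F'›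
  letI algRS : Algebra (Y.presheaf.stalk (f x)) (X.presheaf.stalk x) :=
    (f.stalkMap x).hom.toAlgebra
  haveI : IsLocalHom (algebraMap (Y.presheaf.stalk (f x)) (X.presheaf.stalk x)) :=
    (inferInstance : IsLocalHom (f.stalkMap x).hom)
  letI mRN : Module (Y.presheaf.stalk (f x)) (F.presheaf.stalk x) :=
    FlatMod.moduleStalkOver f F x
  letI mRM : Module (Y.presheaf.stalk (f x)) (F'.presheaf.stalk x) :=
    FlatMod.moduleStalkOver f F' x
  letI mRC : Module (Y.presheaf.stalk (f x)) ((cokernel u).presheaf.stalk x) :=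
    FlatMod.moduleStalkOver f (cokernel u) x
  haveI : IsScalarTower (Y.presheaf.stalk (f x)) (X.presheaf.stalk x) (F.presheaf.stalk x) :=
    IsScalarTower.of_algebraMap_smul fun _ _ => rfl
  haveI : IsScalarTower (Y.presheaf.stalk (f x)) (X.presheaf.stalk x) (F'.presheaf.stalk x) :=
    IsScalarTower.of_algebraMap_smul fun _ _ => rfl
  haveI : IsScalarTower (Y.presheaf.stalk (f x)) (X.presheaf.stalk x)
      ((cokernel u).presheaf.stalk x) :=
    IsScalarTower.of_algebraMap_smul fun _ _ => rfl
  haveI : Module.FinitePresentation (X.presheaf.stalk x) (F.presheaf.stalk x) :=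
    Groth.Agent.Lib.FreeLocBCH6.finitePresentation_stalk F hF x
  haveI : Module.FinitePresentation (X.presheaf.stalk x) (F'.presheaf.stalk x) :=
    Groth.Agent.Lib.FreeLocBCH6.finitePresentation_stalk F' hF' x
  have hess : CAlgX.IsEssFinitePresentation (Y.presheaf.stalk (f x)) (X.presheaf.stalk x) :=
    Groth.Agent.Lib.FibInjH6.isEssFinitePresentation_stalkMap f x
  haveI : Module.Flat (Y.presheaf.stalk (f x)) (F.presheaf.stalk x) := hflat
  obtain ⟨hex, hsurj⟩ := Groth.Agent.Lib.FibInjH6.exact_stalk_cokernel u x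
  have hflat_iff : FlatMod.IsFlatOverAt f (cokernel u) x ↔
      Module.Flat (Y.presheaf.stalk (f x))
        ((F.presheaf.stalk x) ⧸ LinearMap.range (Algz.stalkMapₗ u x)) :=
    (Module.Flat.equiv_iff
      ((hex.linearEquivOfSurjective hsurj).restrictScalars (Y.presheaf.stalk (f x)))).symm
  constructor
  · rintro ⟨hinj, hC⟩ m hm
    exact Groth.Agent.Lib.FibInjH6.fibre_of_injective_of_flat_coker (Algz.stalkMapₗ u x) hinj
      (hflat_iff.mp hC) (IsLocalRing.maximalIdeal (Y.presheaf.stalk (f x))) m hm
  · intro h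
    have key := Groth.Agent.S2107.result hess (Algz.stalkMapₗ u x) (fun m hm => h m hm)
    exact ⟨key.1, hflat_iff.mpr key.2⟩

end Groth.Agent.S4850
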