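import Groth.Statements.S7128
import Groth.Agent.Lib.FlatMul_lead

set_option autoImplicit false
universe u
open EtAlg

namespace Groth.Agent.S7128

/-- A weakly étale algebra over a reduced ring is itself reduced. -/
theorem result (A B : Type u) [CommRing A] [CommRing B] [Algebra A B] [IsReduced A]
    [Algebra.WeaklyEtale A B] : IsReduced B := by
  exact Groth.Agent.Lib.FlatMul.isReduced_of_weaklyEtale A B

end Groth.Agent.S7128
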