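import Groth.Statements.S0008
import Mathlib
import Groth.Agent.Lib.CechAffine_helper2

set_option autoImplicit false
universe u
open Coherent

namespace Groth.Agent.S0008

open AlgebraicGeometry in
/-- For a ring A, an A-module M and elements f_1, …, f_n generating the unit ideal, the Čech cohomology
of the associated module on Spec A with respect to the covering by the basic opens D(f_i) vanishes
in every positive degree. -/
theorem result (A : Type u) [CommRing A] (M : ModuleCat.{u} A)
    (n : ℕ) (f : ULift.{u} (Fin n) → A) (hf : Ideal.span (Set.range f) = ⊤) (p : ℕ) (hp : 0 < p) :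
    CategoryTheory.Limits.IsZero (CohB1.cechH (fun i => PrimeSpectrum.basicOpen (f i)) (tilde (R := CommRingCat.of A) M) p) := by
  classical
  obtain ⟨q, rfl⟩ : ∃ q, p = q + 1 := ⟨p - 1, by omega⟩
  have hU : ∀ s : Finset (ULift.{u} (Fin n)), s.Nonempty →
      IsAffineOpen (X := Spec (CommRingCat.of A)) (⨅ i ∈ s, PrimeSpectrum.basicOpen (f i)) := by
    intro s _
    have h1 : ∀ s : Finset (ULift.{u} (Fin n)),
        (⨅ i ∈ s, PrimeSpectrum.basicOpen (f i)) = PrimeSpectrum.basicOpen (∏ i ∈ s, f i) := by
      intro s
      induction s using Finset.induction_on with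
      | empty => simp
      | insert a s ha ih =>
        rw [Finset.iInf_insert, Finset.prod_insert ha, PrimeSpectrum.basicOpen_mul, ih]
    have h2 := IsAffineOpen.Spec_basicOpen (R := CommRingCat.of A) (∏ i ∈ s, f i)
    rw [← h1 s] at h2
    exact h2
  obtain ⟨e⟩ := Groth.Agent.Lib.Cech.nonempty_cech_addEquiv (X := Spec (CommRingCat.of A))
    (fun i => PrimeSpectrum.basicOpen (f i)) hU (tilde (R := CommRingCat.of A) M) (q + 1)
  have htop : ((⨆ i, PrimeSpectrum.basicOpen (f i) : TopologicalSpace.Opens (PrimeSpectrum A)) :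
      (Spec (CommRingCat.of A)).Opens) = ⊤ :=
    PrimeSpectrum.iSup_basicOpen_eq_top_iff.mpr hf
  have haff : IsAffineOpen (X := Spec (CommRingCat.of A)) (⨆ i, PrimeSpectrum.basicOpen (f i)) := by
    have key : ∀ V : (Spec (CommRingCat.of A)).Opens, V = ⊤ → IsAffineOpen V := by
      rintro _ rfl
      exact isAffineOpen_top _
    exact key _ htop
  have hz := Groth.Agent.Lib.Cech.ext_fr_eq_zero_of_isAffineOpen (tilde (R := CommRingCat.of A) M) _ haff q
  have hsub : Subsingleton (CohB1.cechH (fun i => PrimeSpectrum.basicOpen (f i))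
      (tilde (R := CommRingCat.of A) M) (q + 1)) :=
    ⟨fun a b => e.injective ((hz _).trans (hz _).symm)⟩
  exact AddCommGrpCat.isZero_of_subsingleton _

end Groth.Agent.S0008
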