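import Groth.Statements.S0015
-- import your own Groth.Agent.* helpers here

set_option autoImplicit false
universe u
open Coherent

namespace Groth.Agent.S0015

open AlgebraicGeometry in
/-- Let X be quasi-compact and quasi-separated and P a property of opens of X. If P holds for affine
opens, and P(U ∪ V) follows from P(U), P(V), P(U ∩ V) whenever U is quasi-compact open and V affine
open, then P holds for every quasi-compact open, in particular for X. -/
theorem result (X : Scheme.{u}) [CompactSpace X] [QuasiSeparatedSpace X]
    (P : X.Opens → Prop) (h₁ : ∀ U : X.Opens, IsAffineOpen U → P U)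
    (h₂ : ∀ U V : X.Opens, IsCompact (U : Set X) → IsAffineOpen V → P U → P V → P (U ⊓ V) →
      P (U ⊔ V))
    (U : X.Opens) (hU : IsCompact (U : Set X)) : P U := by
  -- Step A: finite unions of basic opens inside a fixed affine open `W`.
  have keyA : ∀ (W : X.Opens) (hW : IsAffineOpen W) (n : ℕ) (s : Finset Γ(X, W)),
      s.card ≤ n → P (⨆ f ∈ s, X.basicOpen f) := by
    intro W hW n
    induction n with
    | zero =>
      intro s hs
      have : s = ∅ := by simpa using hs
      subst this
      simpa using h₁ ⊥ (isAffineOpen_bot X)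
    | succ n ih =>
      intro s hs
      classical
      induction s using Finset.induction_on with
      | empty => simpa using h₁ ⊥ (isAffineOpen_bot X)
      | insert f t hft _ =>
        rw [Finset.card_insert_of_notMem hft] at hs
        have ht : t.card ≤ n := by omega
        have hcompact : IsCompact ((⨆ g ∈ t, X.basicOpen g : X.Opens) : Set X) := by
          have : ((⨆ g ∈ t, X.basicOpen g : X.Opens) : Set X) = ⋃ g ∈ t, (X.basicOpen g : Set X) := by
            simp
          rw [this]
          exact t.finite_toSet.isCompact_biUnion fun g _ => (hW.basicOpen g).isCompact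
        have hinter : (⨆ g ∈ t, X.basicOpen g) ⊓ X.basicOpen f
            = ⨆ h ∈ t.image (· * f), X.basicOpen h := by
          rw [Finset.iSup_finset_image]
          simp only [Scheme.basicOpen_mul]
          rw [iSup_inf_eq]
          congr 1
          ext g
          rw [iSup_inf_eq]
        have hP := h₂ (⨆ g ∈ t, X.basicOpen g) (X.basicOpen f) hcompact (hW.basicOpen f)
          (ih t ht) (h₁ _ (hW.basicOpen f))
          (by rw [hinter]; exact ih _ (Finset.card_image_le.trans ht))
        rw [Finset.iSup_insert, sup_comm]
        exact hP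
  -- Step B: every compact open inside an affine open.
  have keyB : ∀ (W : X.Opens) (hW : IsAffineOpen W) (V : X.Opens), V ≤ W →
      IsCompact (V : Set X) → P V := by
    intro W hW V hVW hV
    have hcov : ∀ x : V, ∃ f : Γ(X, W), X.basicOpen f ≤ V ∧ (x : X) ∈ X.basicOpen f :=
      fun x => hW.exists_basicOpen_le x (hVW x.2)
    choose f hf₁ hf₂ using hcov
    obtain ⟨t, ht⟩ := hV.elim_finite_subcover (fun x : V => (X.basicOpen (f x) : Set X))
      (fun x => (X.basicOpen (f x)).2) (fun x hx => Set.mem_iUnion.mpr ⟨⟨x, hx⟩, hf₂ ⟨x, hx⟩⟩)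
    classical
    have hEq : V = ⨆ g ∈ t.image f, X.basicOpen g := by
      apply le_antisymm
      · intro x hx
        obtain ⟨i, hi, hxi⟩ := Set.mem_iUnion₂.mp (ht hx)
        rw [Finset.iSup_finset_image]
        exact (le_iSup₂ (f := fun i (_ : i ∈ t) => X.basicOpen (f i)) i hi) hxi
      · rw [Finset.iSup_finset_image]
        exact iSup₂_le fun i _ => hf₁ i
    rw [hEq]
    exact keyA W hW _ _ le_rfl
  -- Step C: general compact opens.
  refine compact_open_induction_on (P := P) U hU (h₁ ⊥ (isAffineOpen_bot X)) ?_
  intro S hS V hPS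
  have hcap : IsCompact ((S ⊓ V.1 : X.Opens) : Set X) :=
    QuasiSeparatedSpace.inter_isCompact (S : Set X) (V.1 : Set X) S.2 hS V.1.2 V.2.isCompact
  exact h₂ S V.1 hS V.2 hPS (h₁ _ V.2) (keyB V.1 V.2 _ inf_le_right hcap)

end Groth.Agent.S0015
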