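import Groth.Statements.S0018
import Mathlib
import Groth.Agent.Lib.QCohFP_helper9

set_option autoImplicit false
universe u
open Coherent

namespace Groth.Agent.S0018

open AlgebraicGeometry in
/-- On a locally Noetherian scheme an O_X-module is quasi-coherent of finite type if and only if it is
of finite presentation. (Either condition is what 'coherent' means there.) -/
theorem result (X : Scheme.{u}) [IsLocallyNoetherian X] (M : X.Modules) :
    Coh.IsCoh M ↔ CohB1.IsFP M := by
  constructor
  · rintro ⟨hq, hft⟩
    haveI : M.IsQuasicoherent := hq
    haveI : SheafOfModules.IsFiniteType (R := X.ringCatSheaf) M := hft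
    apply QCohFP.isFinitePresentation_of_sections
    intro U
    haveI : IsNoetherianRing Γ(X, (U : X.Opens)) := IsLocallyNoetherian.component_noetherian U
    haveI : Module.Finite Γ(X, (U : X.Opens)) Γ(M, (U : X.Opens)) :=
      QCohFT.finite_of_isFiniteType M U.2
    exact Module.finitePresentation_of_finite _ _
  · intro h
    haveI : SheafOfModules.IsFinitePresentation (R := X.ringCatSheaf) M := h
    exact ⟨inferInstance, inferInstance⟩

end Groth.Agent.S0018
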