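import Groth.Statements.S0019
import Mathlib
import Groth.Agent.Lib.QCohCrit_helper9

set_option autoImplicit false
universe u
open Coherent

namespace Groth.Agent.S0019

open AlgebraicGeometry in
/-- If f : X → Y is a finite morphism of schemes with Y locally Noetherian and F is a coherent
O_X-module, then the direct image f_*F is a coherent O_Y-module. -/
theorem result {X Y : Scheme.{u}} (f : X ⟶ Y) [IsFinite f] [IsLocallyNoetherian Y]
    (M : X.Modules) (hM : Coh.IsCoh M) : Coh.IsCoh ((Coh.push f).obj M) := by
  obtain ⟨hq, hft⟩ := hM
  haveI : M.IsQuasicoherent := hq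
  haveI : SheafOfModules.IsFiniteType (R := X.ringCatSheaf) M := hft
  exact ⟨QCohCrit.isQuasicoherent_pushforward f M, QCohCrit.isFiniteType_pushforward f M⟩

end Groth.Agent.S0019
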