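import Groth.Statements.S0037
import Groth.Agent.Lib.StalkRpush1_helper8

set_option autoImplicit false
universe u
open Coherent

namespace Groth.Agent.S0037

open AlgebraicGeometry CategoryTheory in
/-- Let Y be locally Noetherian, f : X → Y proper and y a point whose fibre f⁻¹{y} is finite. Then for
every coherent F on X and every p > 0 the stalk of R^p f_* F at y vanishes. -/
theorem result {X Y : Scheme.{u}} (f : X ⟶ Y) [IsProper f]
    [IsLocallyNoetherian Y] (y : Y) (hy : (f.base ⁻¹' {y}).Finite) (M : X.Modules) (hM : Coh.IsCoh M)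
    (p : ℕ) (hp : 0 < p) :
    Limits.IsZero (TopCat.Presheaf.stalk ((Coh.RpushAb f p).obj (Coh.toAb M)).obj y) := by
  obtain ⟨q, rfl⟩ := Nat.exists_eq_succ_of_ne_zero (Nat.pos_iff_ne_zero.mp hp)
  obtain ⟨V₀, hyV₀, hfin⟩ := exists_isFinite_morphismRestrict_of_finite_preimage_singleton f y hy
  haveI := hM.1
  haveI := hfin
  refine StalkRpushH8.isZero_stalk_Rpush_succ_of_basis f.base (Coh.toAb M) q y
    (fun W => IsAffineOpen (X := Y) W ∧ W ≤ V₀) ?_ ?_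
  · intro V hyV
    obtain ⟨W, hW, hyW, hWV⟩ := TopologicalSpace.Opens.isBasis_iff_nbhd.mp Y.isBasis_affineOpens
      (show y ∈ V ⊓ V₀ from ⟨hyV, hyV₀⟩)
    exact ⟨W, ⟨hW, hWV.trans inf_le_right⟩, hyW, hWV.trans inf_le_left⟩
  · rintro W ⟨hW, hWV₀⟩ ξ
    have e1 : V₀.ι ''ᵁ (V₀.ι ⁻¹ᵁ W) = W := by
      rw [Scheme.Hom.image_preimage_eq_opensRange_inf, Scheme.Opens.opensRange_ι]
      exact inf_eq_right.mpr hWV₀
    have h1 : IsAffineOpen (V₀.ι ⁻¹ᵁ W) := by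
      apply V₀.ι.isAffineOpen_iff_of_isOpenImmersion.mp
      rw [e1]
      exact hW
    have h2 : IsAffineOpen ((f ∣_ V₀) ⁻¹ᵁ (V₀.ι ⁻¹ᵁ W)) := h1.preimage (f ∣_ V₀)
    have h3 : IsAffineOpen ((f ⁻¹ᵁ V₀).ι ''ᵁ ((f ∣_ V₀) ⁻¹ᵁ (V₀.ι ⁻¹ᵁ W))) :=
      h2.image_of_isOpenImmersion _
    rw [image_morphismRestrict_preimage, e1] at h3
    exact AffVanish.ext_freeSheaf_eq_zero_of_MV (Coh.toAb M) (AffVanish.MV_toAb M) (f ⁻¹ᵁ W) h3 q ξ

end Groth.Agent.S0037
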