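import Groth.Statements.S0046
import Mathlib
import Groth.Agent.Lib.QCohFP_helper9
import Groth.Agent.Lib.RelFPAff4_helper9

set_option autoImplicit false
universe u
open Coherent

namespace Groth.Agent.S0046

open AlgebraicGeometry CategoryTheory in
/-- On a locally Noetherian scheme, a quasi-coherent submodule of a coherent module is coherent. (The
statement about quotients is omitted.) -/
theorem result (X : Scheme.{u}) [IsLocallyNoetherian X]
    (M N : X.Modules) (i : N ⟶ M) [Mono i] (hM : Coh.IsCoh M) (hN : Coh.IsQCoh N) : Coh.IsCoh N := by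
  obtain ⟨hq, hft⟩ := hM
  haveI : M.IsQuasicoherent := hq
  haveI : SheafOfModules.IsFiniteType (R := X.ringCatSheaf) M := hft
  haveI : N.IsQuasicoherent := hN
  haveI : SheafOfModules.IsFinitePresentation (R := X.ringCatSheaf) N := by
    apply QCohFP.isFinitePresentation_of_sections
    intro U
    haveI : IsNoetherianRing Γ(X, (U : X.Opens)) := IsLocallyNoetherian.component_noetherian U
    haveI : Module.Finite Γ(X, (U : X.Opens)) Γ(M, (U : X.Opens)) :=
      QCohFT.finite_of_isFiniteType M U.2
    haveI : IsNoetherian Γ(X, (U : X.Opens)) Γ(M, (U : X.Opens)) := isNoetherian_of_isNoetherianRing_of_finite _ _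
    haveI : Module.Finite Γ(X, (U : X.Opens)) Γ(N, (U : X.Opens)) :=
      Module.Finite.of_injective (RelFPAff.appₗ i (U : X.Opens))
        (QCohExact.app_injective_of_mono i (U : X.Opens))
    exact Module.finitePresentation_of_finite _ _
  exact ⟨hN, inferInstance⟩

end Groth.Agent.S0046
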