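import Groth.Statements.S0048
import Mathlib
import Groth.Agent.Lib.QCohCrit2_helper9

set_option autoImplicit false
universe u
open Coherent

namespace Groth.Agent.S0048

open AlgebraicGeometry in
/-- Let U ⊆ X be open and T ⊆ U a subset closed in X. If F is a coherent (quasi-coherent of finite type,
i.e. `Coh.IsCoh`) module on U with support contained in T, then its direct image along U ↪ X is
again coherent in the same sense. (The published statement is for coherent modules in the usual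
sense; here both hypothesis and conclusion use the notion `Coh.IsCoh`.) -/
theorem result (X : Scheme.{u}) (U : X.Opens) (T : Set X)
    (hT : IsClosed T) (hTU : T ⊆ (U : Set X)) (F : (↑U : Scheme.{u}).Modules) (hF : Coh.IsCoh F)
    (hs : ∀ x : ↥U, x ∈ CohB1.support F → (x : X) ∈ T) : Coh.IsCoh ((Coh.push U.ι).obj F) := by
  obtain ⟨hq, hft⟩ := hF
  haveI : F.IsQuasicoherent := hq
  haveI : SheafOfModules.IsFiniteType (R := (↑U : Scheme.{u}).ringCatSheaf) F := hft
  -- sections vanish away from T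
  have hzero : ∀ W : X.Opens, Disjoint (W : Set X) T →
      Subsingleton Γ((Scheme.Modules.pushforward U.ι).obj F, W) := by
    intro W hW
    refine QCohCrit.subsingleton_sections F (U.ι ⁻¹ᵁ W) (fun x hx => ?_)
    by_contra hns
    have hx' : x.1 ∈ (W : Set X) := hx
    exact Set.disjoint_left.mp hW hx' (hs x hns)
  -- the cover
  let ι : Type u := {V : X.affineOpens // (V : X.Opens) ≤ U ∨ Disjoint ((V : X.Opens) : Set X) T}
  let 𝒰 : ι → X.Opens := fun i => i.1.1
  have h𝒰 : ∀ i, IsAffineOpen (𝒰 i) := fun i => i.1.2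
  have hcov : ⨆ i, 𝒰 i = ⊤ := by
    refine eq_top_iff.mpr (fun x _ => ?_)
    by_cases hxU : x ∈ U
    · obtain ⟨V, hV, hxV, hVU⟩ := TopologicalSpace.Opens.isBasis_iff_nbhd.mp X.isBasis_affineOpens hxU
      exact TopologicalSpace.Opens.mem_iSup.mpr ⟨⟨⟨V, hV⟩, Or.inl hVU⟩, hxV⟩
    · have hxT : x ∈ (⟨Tᶜ, hT.isOpen_compl⟩ : X.Opens) := fun h => hxU (hTU h)
      obtain ⟨V, hV, hxV, hVT⟩ := TopologicalSpace.Opens.isBasis_iff_nbhd.mp X.isBasis_affineOpens hxT
      refine TopologicalSpace.Opens.mem_iSup.mpr ⟨⟨⟨V, hV⟩, Or.inr ?_⟩, hxV⟩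
      exact Set.disjoint_left.mpr (fun y hy hyT => hVT hy hyT)
  have hpre : ∀ V : X.Opens, IsAffineOpen V → V ≤ U → IsAffineOpen (U.ι ⁻¹ᵁ V) :=
    fun V hV hVU => hV.preimage_of_isOpenImmersion U.ι
      (by rw [Scheme.Opens.opensRange_ι]; exact hVU)
  haveI hqN : ((Scheme.Modules.pushforward U.ι).obj F).IsQuasicoherent := by
    refine QCohCrit.isQuasicoherent_of_locOnU_cover _ 𝒰 h𝒰 hcov (fun i => ?_)
    rcases i.2 with h | h
    · exact QCohCrit.locOnU_pushforward' U.ι F (h𝒰 i) (hpre _ (h𝒰 i) h)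
    · exact QCohCrit.locOnU_of_subsingleton _ (h𝒰 i)
        (fun W hW => hzero W (Set.disjoint_of_subset_left hW h))
  refine ⟨hqN, ?_⟩
  refine QCohCrit.isFiniteType_of_sections_cover _ 𝒰 h𝒰 hcov (fun i => ?_)
  rcases i.2 with h | h
  · haveI : Module.Finite Γ((↑U : Scheme.{u}), U.ι ⁻¹ᵁ 𝒰 i) Γ(F, U.ι ⁻¹ᵁ 𝒰 i) :=
      QCohFT.finite_of_isFiniteType F (hpre _ (h𝒰 i) h)
    exact QCohCrit.finite_of_ringHom_finite
      (N := Γ((Scheme.Modules.pushforward U.ι).obj F, 𝒰 i)) (M := Γ(F, U.ι ⁻¹ᵁ 𝒰 i))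
      (U.ι.app (𝒰 i)).hom (RingHom.Finite.of_surjective _ (QCohCrit.ι_app_bijective U (𝒰 i) h).2)
      (AddEquiv.refl _) (fun _ _ => rfl)
  · haveI := hzero (𝒰 i) h
    infer_instance

end Groth.Agent.S0048
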