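import Groth.Statements.S0063
import Mathlib
-- import your own Groth.Agent.* helpers here

set_option autoImplicit false
open CategoryTheory CategoryTheory.Limits AlgebraicGeometry Opposite
universe u
open EtBase

namespace Groth.Agent.S0063

/-- Rigidity of maps into an unramified separated scheme — two maps from a connected scheme over the
base that agree at one point, including on residue fields, coincide. -/
theorem result {X S Y : Scheme.{u}} (π : X ⟶ S)
    [FormallyUnramified π] [LocallyOfFiniteType π] [IsSeparated π]
    (h : Y ⟶ S) [ConnectedSpace Y] (f g : Y ⟶ X) (hf : f ≫ π = h) (hg : g ≫ π = h)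
    (y : Y) (hy : Y.fromSpecResidueField y ≫ f = Y.fromSpecResidueField y ≫ g) : f = g := by
  let Y' : Over S := Over.mk h
  let X' : Over S := Over.mk π
  let f' : Y' ⟶ X' := Over.homMk f hf
  let g' : Y' ⟶ X' := Over.homMk g hg
  haveI : IsSeparated X'.hom := ‹IsSeparated π›
  haveI : FormallyUnramified X'.hom := ‹FormallyUnramified π›
  haveI : LocallyOfFiniteType X'.hom := ‹LocallyOfFiniteType π›
  let ι : (equalizer f' g').left ⟶ Y := (equalizer.ι f' g').left
  haveI hc : IsClosedImmersion ι := inferInstance
  haveI ho : IsOpenImmersion ι := by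
    refine MorphismProperty.of_isPullback
      ((Limits.isPullback_equalizer_prod f' g').map (Over.forget _)).flip ?_
    change IsOpenImmersion (prod.lift (𝟙 X') (𝟙 X')).left
    have e : (prod.lift (𝟙 X') (𝟙 X')).left ≫ (Over.prodLeftIsoPullback X' X').hom =
        pullback.diagonal X'.hom := by
      ext1
      · simp [← Over.comp_left]
        rw [prod.lift_fst]; rfl
      · simp [← Over.comp_left]
        rw [prod.lift_snd]; rfl
    have h0 : IsOpenImmersion
        ((prod.lift (𝟙 X') (𝟙 X')).left ≫ (Over.prodLeftIsoPullback X' X').hom) := by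
      rw [e]; infer_instance
    exact (MorphismProperty.cancel_right_of_respectsIso @IsOpenImmersion _
      (Over.prodLeftIsoPullback X' X').hom).1 h0
  have hy' : y ∈ Set.range ι := by
    let K : Over S := Over.mk (Y.fromSpecResidueField y ≫ h)
    let k : K ⟶ Y' := Over.homMk (Y.fromSpecResidueField y) rfl
    have hk : k ≫ f' = k ≫ g' := by
      ext1
      exact hy
    let l := equalizer.lift k hk
    have hl : l ≫ equalizer.ι f' g' = k := equalizer.lift_ι _ _
    have hl' : l.left ≫ ι = Y.fromSpecResidueField y := congrArg CommaMorphism.left hl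
    refine ⟨l.left (IsLocalRing.closedPoint _), ?_⟩
    rw [← Scheme.Hom.comp_apply, hl']
    exact Scheme.fromSpecResidueField_apply _ _
  have hclopen : IsClopen (Set.range ι) :=
    ⟨ι.isClosedEmbedding.isClosed_range, ι.isOpenEmbedding.isOpen_range⟩
  have huniv : Set.range ι = Set.univ := hclopen.eq_univ ⟨y, hy'⟩
  haveI : Surjective ι := ⟨Set.range_eq_univ.1 huniv⟩
  haveI : IsIso ι := (isIso_iff_isOpenImmersion_and_surjective ι).2 ⟨ho, inferInstance⟩
  have h1 : ι ≫ f = ι ≫ g := congrArg CommaMorphism.left (equalizer.condition f' g')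
  exact (cancel_epi ι).1 h1

end Groth.Agent.S0063
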