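import Groth.Statements.S0064
import Mathlib

set_option autoImplicit false
open CategoryTheory CategoryTheory.Limits AlgebraicGeometry Opposite
universe u
open EtBase

namespace Groth.Agent.S0064

/-- A Noetherian space has finitely many clopen subsets. -/
theorem finite_isClopen (α : Type*) [TopologicalSpace α] [TopologicalSpace.NoetherianSpace α] :
    {s : Set α | IsClopen s}.Finite := by
  have hC : (irreducibleComponents α).Finite :=
    TopologicalSpace.NoetherianSpace.finite_irreducibleComponents
  refine (hC.finite_subsets.image (fun D : Set (Set α) => Set.sUnion D)).subset ?_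
  intro s hs
  refine ⟨{Z ∈ irreducibleComponents α | Z ⊆ s}, fun Z hZ => hZ.1, ?_⟩
  apply Set.Subset.antisymm
  · exact Set.sUnion_subset (fun Z hZ => hZ.2)
  · intro x hx
    refine Set.mem_sUnion.2 ⟨irreducibleComponent x,
      ⟨irreducibleComponent_mem_irreducibleComponents x, ?_⟩, mem_irreducibleComponent⟩
    exact isIrreducible_irreducibleComponent.isPreirreducible.isPreconnected.subset_isClopen hs
      ⟨x, mem_irreducibleComponent, hx⟩

/-- Let S be a Noetherian scheme, X → S a quasi-compact, separated, unramified morphism (formally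
unramified and locally of finite type), and Y a Noetherian scheme with a morphism Y → S. Then there
are only finitely many S-morphisms Y → X. The published statement does not assume X → S separated;
it is stated here in the separated case. -/
theorem result {X S Y : Scheme.{u}} [IsNoetherian S] [IsNoetherian Y]
    (π : X ⟶ S) [FormallyUnramified π] [LocallyOfFiniteType π] [QuasiCompact π] [IsSeparated π]
    (h : Y ⟶ S) : Set.Finite {f : Y ⟶ X | f ≫ π = h} := by
  let P := pullback π h
  let p₂ : P ⟶ Y := pullback.snd π h
  haveI : QuasiCompact p₂ := inferInstanceAs (QuasiCompact (pullback.snd π h))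
  haveI : LocallyOfFiniteType p₂ :=
    MorphismProperty.pullback_snd (P := @LocallyOfFiniteType) π h inferInstance
  haveI : FormallyUnramified p₂ :=
    MorphismProperty.pullback_snd (P := @FormallyUnramified) π h inferInstance
  haveI : IsSeparated p₂ :=
    MorphismProperty.pullback_snd (P := @IsSeparated) π h inferInstance
  haveI : CompactSpace P := QuasiCompact.compactSpace_of_compactSpace p₂
  haveI : IsLocallyNoetherian P := LocallyOfFiniteType.isLocallyNoetherian p₂
  haveI : IsNoetherian P := {}
  have hfin := finite_isClopen P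
  haveI : Finite {s : Set P // IsClopen s} := hfin.to_subtype
  rw [← Set.finite_coe_iff]
  have hcond : ∀ f : {f : Y ⟶ X | f ≫ π = h}, f.1 ≫ π = 𝟙 Y ≫ h := fun f => by
    rw [Category.id_comp]
    exact f.2
  let σ : ∀ f : {f : Y ⟶ X | f ≫ π = h}, Y ⟶ P := fun f => pullback.lift f.1 (𝟙 Y) (hcond f)
  have hσ : ∀ f, σ f ≫ p₂ = 𝟙 Y := fun f => pullback.lift_snd _ _ _
  have hσ1 : ∀ f, σ f ≫ pullback.fst π h = f.1 := fun f => pullback.lift_fst _ _ _
  have hopen : ∀ f, IsOpenImmersion (σ f) := fun f => by
    haveI : MorphismProperty.HasOfPostcompProperty @IsOpenImmersion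
        (@LocallyOfFiniteType ⊓ @FormallyUnramified) := by
      rw [MorphismProperty.hasOfPostcompProperty_iff_le_diagonal]
      intro X Y f ⟨hft, hfu⟩
      exact inferInstanceAs (IsOpenImmersion (pullback.diagonal f))
    refine MorphismProperty.of_postcomp (W := @IsOpenImmersion)
      (W' := @LocallyOfFiniteType ⊓ @FormallyUnramified) (σ f) p₂ ⟨inferInstance, inferInstance⟩ ?_
    rw [hσ f]
    infer_instance
  have hclosed : ∀ f, IsClosedImmersion (σ f) := fun f => by
    haveI : IsClosedImmersion (σ f ≫ p₂) := by
      rw [hσ f]
      infer_instance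
    exact IsClosedImmersion.of_comp (σ f) p₂
  refine Finite.of_injective (fun f => (⟨Set.range (σ f),
    by haveI := hclosed f; exact (σ f).isClosedEmbedding.isClosed_range,
    by haveI := hopen f; exact (σ f).isOpenEmbedding.isOpen_range⟩ :
      {s : Set P // IsClopen s})) ?_
  intro f g hfg
  have hr : Set.range (σ f) = Set.range (σ g) := congrArg Subtype.val hfg
  haveI := hopen f
  haveI := hopen g
  have e := IsOpenImmersion.isoOfRangeEq_hom_fac (σ f) (σ g) hr
  have hθ : (IsOpenImmersion.isoOfRangeEq (σ f) (σ g) hr).hom = 𝟙 Y := by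
    have h2 := congrArg (fun k => k ≫ p₂) e
    simp only [Category.assoc, hσ, Category.comp_id] at h2
    exact h2
  rw [hθ, Category.id_comp] at e
  apply Subtype.ext
  rw [← hσ1 f, ← hσ1 g, e]

end Groth.Agent.S0064
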