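import Groth.Statements.S0077
import Mathlib
-- import your own Groth.Agent.* helpers here

set_option autoImplicit false
universe u
open EtBase

namespace Groth.Agent.S0077

/-- First half — on a finite-dimensional vector space over an algebraically closed field of
characteristic p, any additive p-semilinear map F has F − id surjective. -/
theorem result {k V : Type u} [Field k] [IsAlgClosed k] (p : ℕ) [Fact p.Prime] [CharP k p]
    [AddCommGroup V] [Module k V] [FiniteDimensional k V] (F : V →+ V)
    (hF : ∀ (c : k) (v : V), F (c • v) = c ^ p • F v) :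
    Function.Surjective fun v => F v - v := by

  classical
  intro w
  show ∃ v, F v - v = w
  have hp : p.Prime := Fact.out
  -- a relation F^m w = Σ_{i<m} a_i F^i w
  obtain ⟨m, a, hrel⟩ : ∃ (m : ℕ) (a : ℕ → k),
      F^[m] w = ∑ i ∈ Finset.range m, a i • F^[i] w := by
    obtain ⟨d, hd⟩ : ∃ d : ℕ, d = Module.finrank k V := ⟨_, rfl⟩
    have hnli : ¬ LinearIndependent k (fun i : Fin (d + 1) => F^[(i : ℕ)] w) := by
      intro hli
      have := hli.fintype_card_le_finrank
      rw [Fintype.card_fin] at this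
      omega
    rw [Fintype.not_linearIndependent_iff] at hnli
    obtain ⟨g, hg0, i0, hi0⟩ := hnli
    -- extend g to ℕ
    obtain ⟨c, hc⟩ : ∃ c : ℕ → k, ∀ i, c i = if h : i < d + 1 then g ⟨i, h⟩ else 0 :=
      ⟨_, fun _ => rfl⟩
    have hsum : ∑ i ∈ Finset.range (d + 1), c i • F^[i] w = 0 := by
      rw [Finset.sum_range (fun i => c i • F^[i] w), ← hg0]
      refine Finset.sum_congr rfl (fun i _ => ?_)
      rw [hc, dif_pos i.2]
    have hex : ∃ j, c j ≠ 0 := ⟨i0, by rw [hc, dif_pos i0.2]; exact hi0⟩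
    have hbound : ∀ j, c j ≠ 0 → j < d + 1 := by
      intro j hj
      by_contra h
      rw [hc, dif_neg h] at hj
      exact hj rfl
    -- largest index with nonzero coefficient
    obtain ⟨m, hm0, hmax⟩ : ∃ m, c m ≠ 0 ∧ ∀ j, m < j → c j = 0 := by
      have hfin : {j | c j ≠ 0}.Finite :=
        (Set.finite_lt_nat (d + 1)).subset (fun j hj => hbound j hj)
      have hne : hfin.toFinset.Nonempty := by
        obtain ⟨j, hj⟩ := hex
        exact ⟨j, by simpa using hj⟩
      refine ⟨hfin.toFinset.max' hne, ?_, ?_⟩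
      · have := hfin.toFinset.max'_mem hne
        simpa using this
      · intro j hj
        by_contra hcj
        have hjm : j ∈ hfin.toFinset := by simpa using hcj
        have := hfin.toFinset.le_max' j hjm
        omega
    refine ⟨m, fun i => -(c i) * (c m)⁻¹, ?_⟩
    have hmd : m < d + 1 := hbound m hm0
    have hsplit : ∑ i ∈ Finset.range (d + 1), c i • F^[i] w =
        ∑ i ∈ Finset.range (m + 1), c i • F^[i] w := by
      symm
      refine Finset.sum_subset (Finset.range_mono (by omega)) ?_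
      intro j _ hj2
      have : m < j := by
        simp only [Finset.mem_range, not_lt] at hj2
        omega
      rw [hmax j this, zero_smul]
    rw [hsplit, Finset.sum_range_succ] at hsum
    have h1 : c m • F^[m] w = -∑ i ∈ Finset.range m, c i • F^[i] w := by
      rw [eq_neg_iff_add_eq_zero, add_comm]; exact hsum
    have h2 : F^[m] w = (c m)⁻¹ • (c m • F^[m] w) := by
      rw [smul_smul, inv_mul_cancel₀ hm0, one_smul]
    rw [h2, h1, smul_neg, Finset.smul_sum, ← Finset.sum_neg_distrib]
    refine Finset.sum_congr rfl (fun i _ => ?_)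
    show -((c m)⁻¹ • c i • F^[i] w) = (-c i * (c m)⁻¹) • F^[i] w
    rw [smul_smul, neg_mul, neg_smul, mul_comm]
  -- iterate identity
  have hFit : ∀ i, F (F^[i] w) = F^[i + 1] w := fun i =>
    (Function.iterate_succ_apply' F i w).symm
  rcases Nat.eq_zero_or_pos m with hm | hm
  · refine ⟨0, ?_⟩
    rw [hm] at hrel
    simp only [Function.iterate_zero, id_eq, Finset.range_zero, Finset.sum_empty] at hrel
    rw [hrel]; simp
  obtain ⟨n, rfl⟩ : ∃ n, m = n + 1 := ⟨m - 1, by omega⟩
  -- the polynomials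
  obtain ⟨T, hT0, hTs⟩ : ∃ T : ℕ → Polynomial k,
      T 0 = Polynomial.C (a 0) * Polynomial.X ^ p - 1 ∧
      ∀ i, T (i + 1) = (T i) ^ p + Polynomial.C (a (i + 1)) * Polynomial.X ^ p :=
    ⟨fun i => Nat.rec (Polynomial.C (a 0) * Polynomial.X ^ p - 1)
      (fun i Ti => Ti ^ p + Polynomial.C (a (i + 1)) * Polynomial.X ^ p) i, rfl, fun _ => rfl⟩
  have hp1 : ¬ p ∣ 1 := by
    rw [Nat.dvd_one]; exact hp.one_lt.ne'
  have hcoeff : ∀ i, (T i).coeff 1 = 0 := by
    intro i
    induction i with
    | zero =>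
      rw [hT0, Polynomial.coeff_sub, Polynomial.coeff_C_mul_X_pow, Polynomial.coeff_one]
      have : (1 : ℕ) ≠ p := hp.one_lt.ne
      simp [this]
    | succ i ih =>
      rw [hTs, Polynomial.coeff_add, Polynomial.coeff_C_mul_X_pow]
      have e1 : (T i) ^ p = Polynomial.expand k p ((T i).map (frobenius k p)) := by
        rw [← Polynomial.map_expand, Polynomial.map_frobenius_expand]
      rw [e1, Polynomial.coeff_expand hp.pos, if_neg hp1]
      have : (1 : ℕ) ≠ p := hp.one_lt.ne
      simp [this]
  have hQ : (T n - Polynomial.X).degree ≠ 0 := by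
    intro hdeg
    have h1 := Polynomial.eq_C_of_degree_eq_zero hdeg
    have h2 : (T n - Polynomial.X).coeff 1 = -1 := by
      rw [Polynomial.coeff_sub, hcoeff, Polynomial.coeff_X_one, zero_sub]
    rw [h1, Polynomial.coeff_C] at h2
    simp at h2
  obtain ⟨s, hs⟩ := IsAlgClosed.exists_root (T n - Polynomial.X) hQ
  rw [Polynomial.IsRoot.def, Polynomial.eval_sub, Polynomial.eval_X, sub_eq_zero] at hs
  obtain ⟨t, ht⟩ : ∃ t : ℕ → k, ∀ i, t i = (T i).eval s := ⟨_, fun _ => rfl⟩
  have ht0 : t 0 = a 0 * s ^ p - 1 := by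
    rw [ht, hT0]; simp
  have hts : ∀ i, t (i + 1) = (t i) ^ p + a (i + 1) * s ^ p := by
    intro i; rw [ht, ht, hTs]; simp
  have htn : t n = s := by rw [ht]; exact hs
  refine ⟨∑ i ∈ Finset.range (n + 1), t i • F^[i] w, ?_⟩
  have hFv : F (∑ i ∈ Finset.range (n + 1), t i • F^[i] w) =
      ∑ i ∈ Finset.range (n + 1), (t i) ^ p • F^[i + 1] w := by
    rw [map_sum]
    refine Finset.sum_congr rfl (fun i _ => ?_)
    rw [hF, hFit]
  rw [hFv, Finset.sum_range_succ (fun i => (t i) ^ p • F^[i + 1] w), hrel, htn]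
  rw [Finset.sum_range_succ' (fun i => t i • F^[i] w),
    Finset.sum_range_succ' (fun i => a i • F^[i] w)]
  simp only [Function.iterate_zero, id_eq]
  rw [smul_add, Finset.smul_sum]
  have e1 : ∀ i ∈ Finset.range n, t (i + 1) • F^[i + 1] w =
      (t i) ^ p • F^[i + 1] w + s ^ p • a (i + 1) • F^[i + 1] w := by
    intro i _
    rw [hts, add_smul, smul_smul, mul_comm]
  rw [Finset.sum_congr rfl e1, Finset.sum_add_distrib, ht0, sub_smul, one_smul, smul_smul,
    mul_comm (s ^ p) (a 0)]
  abel

end Groth.Agent.S0077
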