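import Groth.Statements.S0078
import Mathlib
-- import your own Groth.Agent.* helpers here

set_option autoImplicit false
universe u
open EtBase

namespace Groth.Agent.S0078

/-- Second half — for such an F the fixed vectors F v = v form a finite set of size at most p ^ dim V
(an F_p-space of dimension at most dim V). -/
theorem result {k V : Type u} [Field k] [IsAlgClosed k] (p : ℕ) [Fact p.Prime] [CharP k p]
    [AddCommGroup V] [Module k V] [FiniteDimensional k V] (F : V →+ V)
    (hF : ∀ (c : k) (v : V), F (c • v) = c ^ p • F v) :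
    Set.Finite {v : V | F v = v} ∧ Nat.card {v : V | F v = v} ≤ p ^ Module.finrank k V := by

  classical
  have hp : p.Prime := Fact.out
  obtain ⟨S, hS⟩ : ∃ S : Set V, S = {v : V | F v = v} := ⟨_, rfl⟩
  obtain ⟨b, hbS, hbspan, hbli⟩ := exists_linearIndependent k S
  -- the roots of X^p - X
  obtain ⟨R, hR⟩ : ∃ R : Set k, R = {c : k | c ^ p = c} := ⟨_, rfl⟩
  have hRfin : R.Finite := by
    have hne : (Polynomial.X ^ p - Polynomial.X : Polynomial k) ≠ 0 :=
      FiniteField.X_pow_card_sub_X_ne_zero k hp.one_lt
    refine (Polynomial.rootSet_finite (Polynomial.X ^ p - Polynomial.X : Polynomial k) k).subset ?_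
    intro c hc
    rw [hR] at hc
    rw [Polynomial.mem_rootSet]
    refine ⟨hne, ?_⟩
    simp [hc.out]
  have hRcard : Nat.card R ≤ p := by
    haveI := hRfin.fintype
    rw [Nat.card_eq_fintype_card, ← Set.toFinset_card]
    have hne : (Polynomial.X ^ p - Polynomial.X : Polynomial k) ≠ 0 :=
      FiniteField.X_pow_card_sub_X_ne_zero k hp.one_lt
    have hsub : R.toFinset ⊆ (Polynomial.X ^ p - Polynomial.X : Polynomial k).roots.toFinset := by
      intro c hc
      rw [Set.mem_toFinset, hR] at hc
      rw [Multiset.mem_toFinset, Polynomial.mem_roots hne]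
      simp [hc.out]
    calc R.toFinset.card ≤ (Polynomial.X ^ p - Polynomial.X : Polynomial k).roots.toFinset.card :=
          Finset.card_le_card hsub
      _ ≤ Multiset.card (Polynomial.X ^ p - Polynomial.X : Polynomial k).roots :=
          Multiset.toFinset_card_le _
      _ ≤ (Polynomial.X ^ p - Polynomial.X : Polynomial k).natDegree := Polynomial.card_roots' _
      _ = p := FiniteField.X_pow_card_sub_X_natDegree_eq k hp.one_lt
  -- basis of the span
  haveI : Finite b := hbli.finite
  haveI := Fintype.ofFinite b
  have hbcard : Fintype.card b ≤ Module.finrank k V := hbli.fintype_card_le_finrank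
  -- coordinates of a fixed vector
  have hcoord : ∀ v ∈ S, ∃ c : b → k, (∀ i, c i ∈ R) ∧ v = ∑ i, c i • (i : V) := by
    intro v hv
    have hvspan : v ∈ Submodule.span k (Set.range (fun i : b => (i : V))) := by
      rw [Subtype.range_coe, hbspan]
      exact Submodule.subset_span hv
    obtain ⟨c, hc⟩ := (Submodule.mem_span_range_iff_exists_fun k).mp hvspan
    refine ⟨c, ?_, hc.symm⟩
    have hFv : F v = v := by rw [hS] at hv; exact hv
    have hFb : ∀ i : b, F (i : V) = i := fun i => by
      have := hbS i.2; rw [hS] at this; exact this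
    have h1 : ∑ i, (c i) ^ p • (i : V) = ∑ i, c i • (i : V) := by
      rw [hc, ← hFv, ← hc, map_sum]
      refine Finset.sum_congr rfl (fun i _ => ?_)
      rw [hF, hFb]
    have h2 : ∑ i, ((c i) ^ p - c i) • (i : V) = 0 := by
      simp only [sub_smul, Finset.sum_sub_distrib, h1, sub_self]
    have h3 := Fintype.linearIndependent_iff.mp hbli _ h2
    intro i
    rw [hR]
    exact sub_eq_zero.mp (h3 i)
  -- injection into (b → R)
  choose! c hcR hcv using hcoord
  haveI : Finite R := hRfin
  let g : S → (b → R) := fun v i => ⟨c v i, hcR v v.2 i⟩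
  have hginj : Function.Injective g := by
    intro v v' h
    apply Subtype.ext
    rw [hcv v v.2, hcv v' v'.2]
    refine Finset.sum_congr rfl (fun i _ => ?_)
    have := congrArg Subtype.val (congrFun h i)
    simp only [g] at this
    rw [this]
  haveI : Finite S := Finite.of_injective g hginj
  have hSfin : S.Finite := Set.toFinite S
  rw [← hS]
  refine ⟨hSfin, ?_⟩
  calc Nat.card S ≤ Nat.card (b → R) := Nat.card_le_card_of_injective g hginj
    _ = Nat.card R ^ Nat.card b := Nat.card_fun
    _ ≤ p ^ Nat.card b := Nat.pow_le_pow_left hRcard _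
    _ ≤ p ^ Module.finrank k V := by
        rw [Nat.card_eq_fintype_card]
        exact Nat.pow_le_pow_right hp.pos hbcard

end Groth.Agent.S0078
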