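import Groth.Statements.S0098
import Groth.Agent.Lib.FinUnrB_helper8

set_option autoImplicit false
open CategoryTheory CategoryTheory.Limits AlgebraicGeometry Opposite
universe u
open EtBase

namespace Groth.Agent.S0098

/-- A finite étale morphism whose fibre over a point s is a single point with the same residue field is
an isomorphism over an open neighbourhood of s. -/
theorem result {X S : Scheme.{u}} (f : X ⟶ S) [IsFinite f] [AlgebraicGeometry.Etale f] (s : S) (x : X)
    (hx : f.base ⁻¹' {s} = {x}) (hκ : Function.Surjective (f.residueFieldMap x)) :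
    ∃ U : S.Opens, s ∈ U ∧ IsIso (f ∣_ U) := by
  have hfx : f x = s := by
    have : x ∈ f.base ⁻¹' {s} := by rw [hx]; rfl
    exact this
  subst hfx
  have hx' : ∀ x' : X, f x' = f x → x' = x := by
    intro x' h
    have : x' ∈ f.base ⁻¹' {f x} := h
    rw [hx] at this
    exact this
  exact Groth.Agent.FinUnr.exists_isIso f x hx' hκ

end Groth.Agent.S0098
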