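import Groth.Statements.S0152
import Groth.Agent.Lib.SpecGen_helper8

set_option autoImplicit false
universe u
open EtPBC

namespace Groth.Agent.S0152

/-- Let X be a spectral space and Z a closed subset such that Z meets the closure of every point of X in
a connected (nonempty) set. If Z is the disjoint union of two closed subsets Z_1, Z_2 then X is the
disjoint union of closed subsets X_1, X_2 with Z_i = Z ∩ X_i. -/
theorem result (X : Type u) [TopologicalSpace X] [SpectralSpace X]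
    (Z : Set X) (hZ : IsClosed Z)
    (hconn : ∀ x : X, IsConnected (Z ∩ closure {x}))
    (Z₁ Z₂ : Set X) (h₁ : IsClosed Z₁) (h₂ : IsClosed Z₂) (hdisj : Disjoint Z₁ Z₂) (hunion : Z₁ ∪ Z₂ = Z) :
    ∃ X₁ X₂ : Set X, IsClosed X₁ ∧ IsClosed X₂ ∧ Disjoint X₁ X₂ ∧ X₁ ∪ X₂ = Set.univ ∧
      Z₁ = Z ∩ X₁ ∧ Z₂ = Z ∩ X₂ := by
  classical
  have hcov : Groth.Agent.SpecGen.gen Z₁ ∪ Groth.Agent.SpecGen.gen Z₂ = Set.univ := by
    rw [Set.eq_univ_iff_forall]
    intro x
    obtain ⟨z, hzZ, hzx⟩ := (hconn x).nonempty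
    have hxz : x ⤳ z := specializes_iff_mem_closure.mpr hzx
    rw [← hunion] at hzZ
    rcases hzZ with h | h
    · exact Or.inl ⟨z, h, hxz⟩
    · exact Or.inr ⟨z, h, hxz⟩
  have hd : Disjoint (Groth.Agent.SpecGen.gen Z₁) (Groth.Agent.SpecGen.gen Z₂) := by
    rw [Set.disjoint_left]
    rintro x ⟨a, ha, hxa⟩ ⟨b, hb, hxb⟩
    have hpre := (hconn x).isPreconnected
    rw [isPreconnected_closed_iff] at hpre
    have hsub : Z ∩ closure {x} ⊆ Z₁ ∪ Z₂ := by
      rw [hunion]; exact Set.inter_subset_left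
    have ha' : (Z ∩ closure {x} ∩ Z₁).Nonempty :=
      ⟨a, ⟨hunion ▸ Or.inl ha, specializes_iff_mem_closure.mp hxa⟩, ha⟩
    have hb' : (Z ∩ closure {x} ∩ Z₂).Nonempty :=
      ⟨b, ⟨hunion ▸ Or.inr hb, specializes_iff_mem_closure.mp hxb⟩, hb⟩
    obtain ⟨c, -, hc1, hc2⟩ := hpre Z₁ Z₂ h₁ h₂ hsub ha' hb'
    exact Set.disjoint_left.mp hdisj hc1 hc2
  have hclopen1 := Groth.Agent.SpecGen.isClopen_gen h₁.isCompact h₂.isCompact hcov hd
  have hclopen2 := Groth.Agent.SpecGen.isClopen_gen h₂.isCompact h₁.isCompact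
    (by rw [Set.union_comm]; exact hcov) hd.symm
  refine ⟨Groth.Agent.SpecGen.gen Z₁, Groth.Agent.SpecGen.gen Z₂, hclopen1.1, hclopen2.1, hd, hcov, ?_, ?_⟩
  · apply Set.Subset.antisymm
    · intro z hz
      exact ⟨hunion ▸ Or.inl hz, Groth.Agent.SpecGen.subset_gen _ hz⟩
    · rintro z ⟨hzZ, hzg⟩
      rw [← hunion] at hzZ
      rcases hzZ with h | h
      · exact h
      · exact absurd (Groth.Agent.SpecGen.subset_gen _ h) (Set.disjoint_left.mp hd hzg)
  · apply Set.Subset.antisymm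
    · intro z hz
      exact ⟨hunion ▸ Or.inr hz, Groth.Agent.SpecGen.subset_gen _ hz⟩
    · rintro z ⟨hzZ, hzg⟩
      rw [← hunion] at hzZ
      rcases hzZ with h | h
      · exact absurd hzg (Set.disjoint_left.mp hd (Groth.Agent.SpecGen.subset_gen _ h))
      · exact h

end Groth.Agent.S0152
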