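import Groth.Statements.S0179
import Groth.Agent.Lib.SpecConn_helper8

set_option autoImplicit false
universe u
open EtPBC

namespace Groth.Agent.S0179

/-- For a spectral space X with set of closed points X_0, the following are equivalent: (1) any open
cover of X admits a refinement by finitely many pairwise disjoint open-and-closed pieces; (2) the
map from X_0 to the space of connected components pi_0(X) is a bijection. -/
theorem result (X : Type u) [TopologicalSpace X] [SpectralSpace X] :
    (∀ (ι : Type u) (U : ι → Set X), (∀ i, IsOpen (U i)) → (⋃ i, U i) = Set.univ →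
      ∃ (n : ℕ) (V : Fin n → Set X), (∀ k, IsClopen (V k)) ∧
        Pairwise (fun k l => Disjoint (V k) (V l)) ∧ (⋃ k, V k) = Set.univ ∧ ∀ k, ∃ i, V k ⊆ U i) ↔
    Function.Bijective (fun x : {x : X // IsClosed ({x} : Set X)} => _root_.ConnectedComponents.mk x.1) := by
  classical
  constructor
  · -- (1) ⇒ (2)
    intro h1
    constructor
    · rintro ⟨x, hx⟩ ⟨y, hy⟩ hxy
      simp only at hxy
      by_contra hne
      have hne' : x ≠ y := fun h => hne (Subtype.ext h)
      obtain ⟨n, V, hVc, -, hVcov, hVref⟩ := h1 (ULift.{u} Bool)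
        (fun b => if b.down then ({x} : Set X)ᶜ else ({y} : Set X)ᶜ)
        (by
          intro b
          by_cases hb : b.down
          · simp only [hb, if_true]; exact hx.isOpen_compl
          · simp only [hb]; exact hy.isOpen_compl)
        (by
          rw [Set.eq_univ_iff_forall]
          intro z
          by_cases hz : z = x
          · refine Set.mem_iUnion.mpr ⟨⟨false⟩, ?_⟩
            simp only [Bool.false_eq_true, if_false, Set.mem_compl_iff, Set.mem_singleton_iff]
            rw [hz]; exact hne'
          · refine Set.mem_iUnion.mpr ⟨⟨true⟩, ?_⟩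
            simpa using hz)
      have hxV : x ∈ ⋃ k, V k := hVcov ▸ Set.mem_univ x
      obtain ⟨k, hxk⟩ := Set.mem_iUnion.mp hxV
      obtain ⟨b, hb⟩ := hVref k
      have hyx : y ∈ connectedComponent x := by
        rw [← ConnectedComponents.coe_eq_coe']
        exact hxy.symm
      have hyk : y ∈ V k := (hVc k).connectedComponent_subset hxk hyx
      by_cases hbd : b.down
      · simp only [hbd, if_true] at hb
        exact hb hxk rfl
      · simp only [hbd] at hb
        exact hb hyk rfl
    · intro q
      obtain ⟨x, rfl⟩ := ConnectedComponents.surjective_coe q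
      obtain ⟨c, hcT, hc⟩ := (isClosed_connectedComponent (x := x)).exists_closed_singleton
        ⟨x, mem_connectedComponent⟩
      refine ⟨⟨c, hc⟩, ?_⟩
      show (ConnectedComponents.mk c : ConnectedComponents X) = ConnectedComponents.mk x
      rw [ConnectedComponents.coe_eq_coe']
      exact hcT
  · -- (2) ⇒ (1)
    intro h2 ι U hUo hUcov
    have hloc : ∀ x : X, ∃ Z : Set X, IsClopen Z ∧ x ∈ Z ∧ ∃ i, Z ⊆ U i := by
      intro x
      obtain ⟨t, htT, ht⟩ := (isClosed_connectedComponent (x := x)).exists_closed_singleton
        ⟨x, mem_connectedComponent⟩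
      have hspec : ∀ z ∈ connectedComponent x, z ⤳ t := by
        intro z hz
        obtain ⟨c, hcz, hc⟩ := (isClosed_closure (s := ({z} : Set X))).exists_closed_singleton
          ⟨z, subset_closure rfl⟩
        have hcT : c ∈ connectedComponent x :=
          (closure_minimal (Set.singleton_subset_iff.mpr hz) isClosed_connectedComponent) hcz
        have hct : (⟨c, hc⟩ : {x : X // IsClosed ({x} : Set X)}) = ⟨t, ht⟩ := by
          apply h2.1
          show (ConnectedComponents.mk c : ConnectedComponents X) = ConnectedComponents.mk t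
          rw [ConnectedComponents.coe_eq_coe']
          rw [connectedComponent_eq htT] at hcT
          exact hcT
        have : c = t := congrArg Subtype.val hct
        rw [← this]
        exact specializes_iff_mem_closure.mpr hcz
      have htU : t ∈ ⋃ i, U i := hUcov ▸ Set.mem_univ t
      obtain ⟨i, hti⟩ := Set.mem_iUnion.mp htU
      have hTU : connectedComponent x ⊆ U i := fun z hz => (hspec z hz).mem_open (hUo i) hti
      have hK : IsCompact (U i)ᶜ := (hUo i).isClosed_compl.isCompact
      have hKS : ∀ z ∈ (U i)ᶜ, ∃ Z : Set X, IsClopen Z ∧ x ∈ Z ∧ z ∉ Z := by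
        intro z hz
        by_contra hcon
        push Not at hcon
        have hzT : z ∈ connectedComponent x := by
          rw [Groth.Agent.SpecConn.connectedComponent_eq_sInter_isClopen x]
          exact Set.mem_sInter.mpr fun Z hZ => hcon Z hZ.1 hZ.2
        exact hz (hTU hzT)
      obtain ⟨Z, hZ, hxZ, hd⟩ := Groth.Agent.SpecConn.exists_isClopen_disjoint x hK hKS
      refine ⟨Z, hZ, hxZ, i, ?_⟩
      intro z hz
      by_contra hzU
      exact Set.disjoint_left.mp hd hzU hz
    choose Z hZc hxZ hZU using hloc
    obtain ⟨t, ht⟩ := isCompact_univ.elim_finite_subcover Z (fun x => (hZc x).isOpen)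
      (fun x _ => Set.mem_iUnion.mpr ⟨x, hxZ x⟩)
    let e := t.equivFin
    let W : Fin t.card → Set X := fun k => Z (e.symm k).1
    have hWc : ∀ k, IsClopen (W k) := fun k => hZc _
    refine ⟨t.card, disjointed W, ?_, disjoint_disjointed W, ?_, ?_⟩
    · intro k
      exact disjointedRec (f := W) (p := IsClopen) (fun s i hs => hs.diff (hWc i)) (hWc k)
    · rw [iUnion_disjointed, Set.eq_univ_iff_forall]
      intro z
      obtain ⟨x, hxt, hzx⟩ := Set.mem_iUnion₂.mp (ht (Set.mem_univ z))
      refine Set.mem_iUnion.mpr ⟨e ⟨x, hxt⟩, ?_⟩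
      show z ∈ Z (e.symm (e ⟨x, hxt⟩)).1
      rw [Equiv.symm_apply_apply]
      exact hzx
    · intro k
      obtain ⟨i, hi⟩ := hZU (e.symm k).1
      exact ⟨i, (disjointed_subset W k).trans hi⟩

end Groth.Agent.S0179
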