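import Groth.Statements.S0180
import Groth.Agent.Lib.SpecGen_helper8

set_option autoImplicit false
universe u
open EtPBC

namespace Groth.Agent.S0180

/-- Final assertion: if X is spectral, the set X_0 of closed points is closed, and every point of X
specializes to exactly one closed point, then X_0 -> pi_0(X) is bijective (so X satisfies the
equivalent conditions of the lemma; such X are called w-local). -/
theorem result (X : Type u) [TopologicalSpace X]
    [SpectralSpace X] (h0 : IsClosed {x : X | IsClosed ({x} : Set X)})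
    (huniq : ∀ x : X, ∃! z : X, IsClosed ({z} : Set X) ∧ x ⤳ z) :
    Function.Bijective (fun x : {x : X // IsClosed ({x} : Set X)} => _root_.ConnectedComponents.mk x.1) := by
  classical
  set X0 : Set X := {x : X | IsClosed ({x} : Set X)} with hX0
  choose r hr hruniq using huniq
  have hr_of : ∀ z c : X, IsClosed ({c} : Set X) → z ⤳ c → c = r z := fun z c hc hzc =>
    hruniq z c ⟨hc, hzc⟩
  constructor
  · -- injective
    rintro ⟨x, hx⟩ ⟨y, hy⟩ hxy
    simp only at hxy
    by_contra hne
    have hne' : x ≠ y := fun h => hne (Subtype.ext h)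
    -- a compact open containing x but not y
    obtain ⟨W, ⟨hWo, hWc⟩, hxW, hWy⟩ :=
      PrespectralSpace.isTopologicalBasis.exists_subset_of_mem_open
        (show x ∈ ({y} : Set X)ᶜ from hne') hy.isOpen_compl
    have hyW : y ∉ W := fun h => hWy h rfl
    -- A = X0 ∩ W is closed
    have hB : IsClosed (X0 ∩ Wᶜ) := h0.inter hWo.isClosed_compl
    have hA : IsClosed (X0 ∩ W) := by
      rw [← closure_subset_iff_isClosed]
      intro b hb
      have hbX0 : b ∈ X0 := (closure_minimal Set.inter_subset_left h0) hb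
      refine ⟨hbX0, ?_⟩
      by_contra hbW
      let S : Set (Set X) := {T | (∃ V : Set X, IsOpen V ∧ IsCompact V ∧ V ⊆ X0ᶜ ∧ T = V) ∨ T = Wᶜ}
      have hE : (X0 ∩ W)ᶜ = ⋃₀ S := by
        ext z
        simp only [Set.mem_compl_iff, Set.mem_inter_iff, not_and, Set.mem_sUnion]
        constructor
        · intro hz
          by_cases hz0 : z ∈ X0
          · exact ⟨Wᶜ, Or.inr rfl, hz hz0⟩
          · obtain ⟨V, ⟨hVo, hVc⟩, hzV, hVsub⟩ :=
              PrespectralSpace.isTopologicalBasis.exists_subset_of_mem_open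
                (show z ∈ X0ᶜ from hz0) h0.isOpen_compl
            exact ⟨V, Or.inl ⟨V, hVo, hVc, hVsub, rfl⟩, hzV⟩
        · rintro ⟨T, hT | hT, hzT⟩
          · obtain ⟨V, -, -, hVsub, rfl⟩ := hT
            intro hz0
            exact absurd hz0 (hVsub hzT)
          · subst hT
            intro _
            exact hzT
      have hnhds : (X0 ∩ W)ᶜ ∈ nhds b := by
        refine Groth.Agent.Lib.ProConsTopH8.mem_nhds_of_sUnion_of_generizations S ?_ hE b ?_
        · rintro T (⟨V, hVo, hVc, -, rfl⟩ | rfl)
          · exact hVc.isConstructible hVo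
          · exact (hWc.isConstructible hWo).compl
        · intro x' hx'b
          rintro ⟨hx'0, hx'W⟩
          have hx'cl : IsClosed ({x'} : Set X) := hx'0
          have : b ∈ closure ({x'} : Set X) := specializes_iff_mem_closure.mp hx'b
          rw [hx'cl.closure_eq, Set.mem_singleton_iff] at this
          exact hbW (this ▸ hx'W)
      obtain ⟨w, hw1, hw2⟩ := mem_closure_iff_nhds.mp hb _ hnhds
      exact hw1 hw2
    -- the generization sets
    have hcov : Groth.Agent.SpecGen.gen (X0 ∩ W) ∪ Groth.Agent.SpecGen.gen (X0 ∩ Wᶜ) = Set.univ := by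
      rw [Set.eq_univ_iff_forall]
      intro z
      by_cases hz : r z ∈ W
      · exact Or.inl ⟨r z, ⟨(hr z).1, hz⟩, (hr z).2⟩
      · exact Or.inr ⟨r z, ⟨(hr z).1, hz⟩, (hr z).2⟩
    have hd : Disjoint (Groth.Agent.SpecGen.gen (X0 ∩ W)) (Groth.Agent.SpecGen.gen (X0 ∩ Wᶜ)) := by
      rw [Set.disjoint_left]
      rintro z ⟨a, ⟨ha0, haW⟩, hza⟩ ⟨b, ⟨hb0, hbW⟩, hzb⟩
      have h1 := hr_of z a ha0 hza
      have h2 := hr_of z b hb0 hzb
      exact hbW (h2 ▸ h1 ▸ haW)
    have hclopen := Groth.Agent.SpecGen.isClopen_gen hA.isCompact hB.isCompact hcov hd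
    have hxU : x ∈ Groth.Agent.SpecGen.gen (X0 ∩ W) :=
      Groth.Agent.SpecGen.subset_gen _ ⟨hx, hxW⟩
    have hyU : y ∉ Groth.Agent.SpecGen.gen (X0 ∩ W) := fun h =>
      Set.disjoint_left.mp hd h (Groth.Agent.SpecGen.subset_gen _ ⟨hy, hyW⟩)
    have hyx : y ∈ connectedComponent x := by
      rw [← ConnectedComponents.coe_eq_coe']
      exact hxy.symm
    exact hyU (hclopen.connectedComponent_subset hxU hyx)
  · -- surjective
    intro q
    obtain ⟨x, rfl⟩ := ConnectedComponents.surjective_coe q
    refine ⟨⟨r x, (hr x).1⟩, ?_⟩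
    show (ConnectedComponents.mk (r x) : ConnectedComponents X) = ConnectedComponents.mk x
    rw [ConnectedComponents.coe_eq_coe']
    have hpre : IsPreconnected (closure ({x} : Set X)) := isPreconnected_singleton.closure
    exact hpre.subset_connectedComponent (subset_closure rfl)
      (specializes_iff_mem_closure.mp (hr x).2)

end Groth.Agent.S0180
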