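import Groth.Statements.S0191
import Mathlib
import Groth.Agent.Lib.CSATensor_helper6
-- import your own Groth.Agent.* helpers here

set_option autoImplicit false
universe u v w
open scoped TensorProduct
open Curves

namespace Groth.Agent.S0191

/-- If K is a skew field with center k, every two-sided ideal of A ⊗ K is generated by the elements a ⊗
1 it contains. -/
theorem result (k : Type u) [Field k] (A : Type v) [Ring A] [Algebra k A]
    (K : Type w) [DivisionRing K] [Algebra k K] [Algebra.IsCentral k K]
    (I : TwoSidedIdeal (A ⊗[k] K)) :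
    I = TwoSidedIdeal.span ((fun a : A => a ⊗ₜ[k] (1 : K)) '' {a : A | a ⊗ₜ[k] (1 : K) ∈ I}) := by

  classical
  apply le_antisymm
  · intro x hx
    obtain ⟨N, hN, hl, hr⟩ := Groth.Agent.Lib.CSATensor.exists_submodule_of_twoSidedIdeal I
    have h1 := Groth.Agent.Lib.CSATensor.le_range_core N hl hr ((hN x).2 hx)
    obtain ⟨t, rfl⟩ := h1
    clear hx
    induction t using TensorProduct.induction_on with
    | zero =>
      rw [map_zero]
      exact TwoSidedIdeal.zero_mem _
    | tmul w d =>
      rw [LinearMap.rTensor_tmul, Submodule.subtype_apply]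
      have h2 : (w : A) ⊗ₜ[k] d = ((w : A) ⊗ₜ[k] (1 : K)) * ((1 : A) ⊗ₜ[k] d) := by
        rw [Algebra.TensorProduct.tmul_mul_tmul, mul_one, one_mul]
      rw [h2]
      apply TwoSidedIdeal.mul_mem_right
      apply TwoSidedIdeal.subset_span
      exact ⟨w, (hN _).1 ((Groth.Agent.Lib.CSATensor.mem_core N w.1).1 w.2), rfl⟩
    | add x y hx hy =>
      rw [map_add]
      exact TwoSidedIdeal.add_mem _ hx hy
  · rw [TwoSidedIdeal.span_le]
    rintro _ ⟨a, ha, rfl⟩
    exact ha

end Groth.Agent.S0191
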