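import Groth.Statements.S0192
import Mathlib
import Groth.Agent.Lib.CSABaseChange_helper6
import Groth.Agent.S11683
-- import your own Groth.Agent.* helpers here

set_option autoImplicit false
universe u v w
open scoped TensorProduct
open Curves

namespace Groth.Agent.S0192

/-- The dimension of a finite central simple algebra over its center is a square. -/
theorem result (k : Type u) [Field k] (A : Type v) [Ring A] [Algebra k A]
    [Algebra.IsCentral k A] [IsSimpleRing A] [FiniteDimensional k A] :
    IsSquare (Module.finrank k A) := by

  classical
  haveI : Algebra.IsCentral (AlgebraicClosure k) (AlgebraicClosure k ⊗[k] A) :=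
    Groth.Agent.Lib.CSABaseChange.isCentral_baseChange
  haveI : IsSimpleRing (AlgebraicClosure k ⊗[k] A) :=
    Groth.Agent.Lib.CSABaseChange.isSimpleRing_baseChange
  obtain ⟨n, ⟨e⟩⟩ := Groth.Agent.S11683.result (AlgebraicClosure k) (AlgebraicClosure k ⊗[k] A)
  refine ⟨n, ?_⟩
  rw [← Module.finrank_baseChange (R := AlgebraicClosure k) (S := k) (M' := A),
    e.toLinearEquiv.finrank_eq, Module.finrank_matrix, Module.finrank_self, Fintype.card_fin,
    mul_one]

end Groth.Agent.S0192
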