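import Groth.Statements.S0194
import Mathlib
import Groth.Agent.Lib.CSACentralizer_helper6
-- import your own Groth.Agent.* helpers here

set_option autoImplicit false
universe u v w
open scoped TensorProduct
open Curves

namespace Groth.Agent.S0194

/-- A central simple subalgebra B of a finite central simple algebra A, together with its centralizer C,
decomposes A as B ⊗ C. -/
theorem result (k : Type u) [Field k] (A : Type v) [Ring A] [Algebra k A]
    [Algebra.IsCentral k A] [IsSimpleRing A] [FiniteDimensional k A]
    (B : Subalgebra k A) [IsSimpleRing B] [Algebra.IsCentral k B] :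
    Function.Bijective (Algebra.TensorProduct.lift B.val (Subalgebra.centralizer k (B : Set A)).val
      (fun x y => y.2 x.1 x.2)) := by

  classical
  obtain ⟨hCs, hdim⟩ := Groth.Agent.Lib.CSACentralizer.centralizer_subalgebra B
  haveI := hCs
  haveI : IsSimpleRing (↥(Subalgebra.centralizer k (B : Set A)) ⊗[k] ↥B) :=
    Groth.Agent.Lib.CSATensor.isSimpleRing_tensor
  haveI : IsSimpleRing (↥B ⊗[k] ↥(Subalgebra.centralizer k (B : Set A))) :=
    IsSimpleRing.of_ringEquiv
      (Algebra.TensorProduct.comm k ↥(Subalgebra.centralizer k (B : Set A)) ↥B).toRingEquiv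
      inferInstance
  obtain ⟨φ, hφ⟩ : ∃ φ : ↥B ⊗[k] ↥(Subalgebra.centralizer k (B : Set A)) →ₐ[k] A,
      φ = Algebra.TensorProduct.lift B.val (Subalgebra.centralizer k (B : Set A)).val
        (fun x y => y.2 x.1 x.2) := ⟨_, rfl⟩
  rw [← hφ]
  have hinj : Function.Injective φ :=
    RingHom.injective (φ : ↥B ⊗[k] ↥(Subalgebra.centralizer k (B : Set A)) →+* A)
  refine ⟨hinj, ?_⟩
  have hfr : Module.finrank k (↥B ⊗[k] ↥(Subalgebra.centralizer k (B : Set A))) =
      Module.finrank k A := by
    rw [Module.finrank_tensorProduct, ← hdim]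
  exact (LinearMap.injective_iff_surjective_of_finrank_eq_finrank hfr
    (f := φ.toLinearMap)).1 hinj

end Groth.Agent.S0194
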