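import Groth.Statements.S0197
import Mathlib
import Groth.Agent.Lib.CSAModule_helper6
open Matrix.Module
-- import your own Groth.Agent.* helpers here

set_option autoImplicit false
universe u v w
open scoped TensorProduct
open Curves

namespace Groth.Agent.S0197

/-- If a finite central skew field D has dimension d^2, the degree of any finite splitting field of D is
divisible by d. -/
theorem result (k : Type u) [Field k]
    (D : Type u) [DivisionRing D] [Algebra k D] [Algebra.IsCentral k D] [FiniteDimensional k D]
    (d : ℕ) (hd : Module.finrank k D = d ^ 2)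
    (k' : Type u) [Field k'] [Algebra k k'] [FiniteDimensional k k'] (hs : Curves.Splits k D k') :
    d ∣ Module.finrank k k' := by

  classical
  obtain ⟨n, hn, ⟨e⟩⟩ := hs
  -- n = d
  have hnd : n = d := by
    have h1 : Module.finrank k' (k' ⊗[k] D) = n * n := by
      rw [e.toLinearEquiv.finrank_eq, Module.finrank_matrix, Module.finrank_self,
        Fintype.card_fin, mul_one]
    rw [Module.finrank_baseChange, hd, pow_two] at h1
    exact (Nat.mul_self_inj.1 h1).symm
  subst hnd
  obtain ⟨ρ, hρ⟩ : ∃ ρ : D →ₐ[k] Module.End k (Fin n → k'),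
      ρ = (Algebra.lsmul k k (Fin n → k')).comp
        (((e.restrictScalars k) : k' ⊗[k] D ≃ₐ[k] Matrix (Fin n) (Fin n) k').toAlgHom.comp
          (Algebra.TensorProduct.includeRight : D →ₐ[k] k' ⊗[k] D)) := ⟨_, rfl⟩
  have h1 := Module.finrank_mul_finrank k D (Groth.Agent.Lib.CSAModule.RepMod ρ)
  rw [Groth.Agent.Lib.CSAModule.RepMod.finrank_eq, Groth.Agent.Lib.CSAModule.finrank_fun,
    hd, pow_two, mul_assoc] at h1
  have h2 : n * Module.finrank D (Groth.Agent.Lib.CSAModule.RepMod ρ) = Module.finrank k k' :=
    Nat.eq_of_mul_eq_mul_left (Nat.pos_of_ne_zero hn) h1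
  exact ⟨_, h2.symm⟩

end Groth.Agent.S0197
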