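import Groth.Statements.S0207
import Groth.Agent.Lib.ASCoh2_helper8
import Groth.Agent.Lib.ZarCont_helper8
import Groth.Agent.Lib.ULiftSite_helper8

set_option autoImplicit false
universe u
open CategoryTheory CategoryTheory.Limits AlgebraicGeometry
open Curves

namespace Groth.Agent.S0207

/-- On a quasi-compact quasi-separated scheme of dimension d on which the prime p is zero, étale
cohomology with Z/p coefficients vanishes from degree d+2 on. -/
theorem result (p : ℕ) [Fact p.Prime] (S : Scheme.{u}) [CompactSpace S] [QuasiSeparatedSpace S]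
    (hp : (p : Γ(S, ⊤)) = 0) (d : ℕ) (hd : topologicalKrullDim S = d) (q : ℕ) (hq : 2 + d ≤ q) :
    Subsingleton (EtCoh.H S (EtCoh.const S (ZMod p)) q) := by
  haveI : EtZar.ZarCont S := Groth.Agent.Lib.ZarContH8.zarCont S
  haveI : SpectralSpace S := {}
  have hGa : Groth.Agent.Lib.EtZarAcyc_helper7.AffAcy S (EtCoh.Ga S) := by
    intro W hW n hn x
    obtain ⟨m, rfl⟩ : ∃ m, n = m + 1 := ⟨n - 1, by omega⟩
    exact Groth.Agent.Lib.EtCartanH8.ext_vanish m _ (Groth.Agent.Lib.EtCartanH8.affCech_Ga S) W hW x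
  have hGaV : ∀ n, d < n + 1 → ∀ x : EtCoh.H S (EtCoh.Ga S) (n + 1), x = 0 := fun n hn =>
    Groth.Agent.Lib.ZarContH8.et_vanish_of_zar S _ hGa n
      (Groth.Agent.Lib.ULiftSiteH8.zar_vanish_of_dim S d hd.le _ n hn)
  obtain ⟨n, rfl⟩ : ∃ n, q = n + 2 := ⟨q - 2, by omega⟩
  have key : ∀ x : EtCoh.H S (Groth.Agent.Lib.ASCoh2H8.K S p hp) (n + 2), x = 0 := by
    intro x
    obtain ⟨x₃, hx₃⟩ := Abelian.Ext.covariant_sequence_exact₁ _
      (Groth.Agent.Lib.ASCoh2H8.shortExact_Sx S p hp) x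
      (hGaV (n + 1) (by omega) _) (rfl : n + 1 + 1 = n + 2)
    rw [← hx₃, hGaV n (by omega) x₃, Abelian.Ext.zero_comp]
  obtain ⟨e⟩ := Groth.Agent.Lib.ASCoh2H8.nonempty_kernel_iso S p hp
  haveI h2 : Subsingleton ↑((EtCoh.HF S (n + 2)).obj (Groth.Agent.Lib.ASCoh2H8.K S p hp)) :=
    ⟨fun a b => (key a).trans (key b).symm⟩
  let e' := ((EtCoh.HF S (n + 2)).mapIso e).addCommGroupIsoToAddEquiv
  exact e'.symm.toEquiv.subsingleton

end Groth.Agent.S0207
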