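import Groth.Statements.S4436
import Groth.Agent.Lib.FLF6_helper8

set_option autoImplicit false
universe u
open CategoryTheory CategoryTheory.Limits AlgebraicGeometry
open EGA2

namespace Groth.Agent.S4436

/-- Let f : X' ⟶ X be a finite morphism and F' a locally free O_{X'}-module of rank r. Then every point
of X has an open neighbourhood U over whose inverse image F' is free of rank r; this is the content
of the statement that the direct image of F' is a locally free module of rank r over the direct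
image of O_{X'} (the converse implication being immediate). -/
theorem result {X' X : Scheme.{u}} (f : X' ⟶ X) [IsFinite f] (r : ℕ)
    (F : X'.Modules) (hF : FlatMod.IsFinLocFreeOfRank r F) (x : X) :
    ∃ U : X.Opens, x ∈ U ∧ Nonempty (F.restrict (f ⁻¹ᵁ U).ι ≅ FlatMod.freeMod (↑(f ⁻¹ᵁ U)) r) := by
  obtain ⟨_, ⟨W, hW : IsAffineOpen W, rfl⟩, hxW, -⟩ :=
    (X.isBasis_affineOpens).exists_subset_of_mem_open (Set.mem_univ x) isOpen_univ
  have hxW' : x ∈ W := hxW
  have hW' : IsAffineOpen (f ⁻¹ᵁ W) := hW.preimage f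
  have hZ : (f ⁻¹' {x}).Finite := f.finite_preimage_singleton x
  have hZW : f ⁻¹' {x} ⊆ ((f ⁻¹ᵁ W : X'.Opens) : Set X') := by
    intro y hy
    have : f y = x := hy
    change f y ∈ W
    rw [this]; exact hxW'
  obtain ⟨U', hZU', -, ⟨α⟩⟩ := FLFH8.exists_free_nhd_of_finite F hF _ hZ _ hW' hZW
  have hclosed : IsClosed (f '' ((U' : Set X')ᶜ)) :=
    (f.isClosedMap) _ U'.isOpen.isClosed_compl
  let U : X.Opens := ⟨(f '' ((U' : Set X')ᶜ))ᶜ, hclosed.isOpen_compl⟩
  have hxU : x ∈ U := by
    rintro ⟨y, hy, hyx⟩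
    exact hy (hZU' hyx)
  have hle : f ⁻¹ᵁ U ≤ U' := by
    intro y hy
    by_contra hyU'
    exact hy ⟨y, hyU', rfl⟩
  exact ⟨U, hxU, FLFH8.iso_restrict_of_le F hle α⟩

end Groth.Agent.S4436
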