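import Groth.Statements.S0247
import Mathlib
import Groth.Agent.Lib.PurSch1_helper5
import Groth.Agent.Lib.ExtTop_helper5
import Groth.Agent.Lib.GlDim_helper5

set_option autoImplicit false
universe u
open Pi1

namespace Groth.Agent.S0247

open AlgebraicGeometry CategoryTheory CategoryTheory.Limits in
/-- For a regular local ring A of Krull dimension at least 2, every finite etale cover of the punctured
spectrum of A extends to a finite etale cover of Spec A. -/
theorem result (A : Type u) [CommRing A] [IsRegularLocalRing A] (h : (2 : WithBot ℕ∞) ≤ ringKrullDim A) :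
    FEt.PurityHolds A := by
  refine ⟨fun V => ?_⟩
  -- depth of A
  have hd : (2 : ℕ∞) ≤ LocCoh.depth A A := by
    obtain ⟨d, hdim⟩ := Groth.Agent.GlDim.exists_dim A
    have h1 : LocCoh.depth A A = d := Groth.Agent.ExtTop.regular_depth A d hdim
    rw [h1]
    rw [hdim] at h
    exact_mod_cast h
  have hU := Groth.Agent.Lib.PurExt.depth_hyp_punctured A hd
  let π₀ : V.left ⟶ (FEt.puncturedSpec A : Scheme.{u}) := V.hom
  haveI : IsFinite π₀ := V.prop.1
  haveI : Etale π₀ := V.prop.2
  have hι : ∀ W : (Spec (CommRingCat.of A)).Opens, IsAffineOpen W →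
      Function.Surjective ((FEt.puncturedSpec A).ι.app W).hom := by
    intro W _
    haveI := Groth.Agent.Lib.PurDesc.isIso_app_of_depth (FEt.puncturedSpec A).ι hU W
    exact ((ConcreteCategory.isIso_iff_bijective ((FEt.puncturedSpec A).ι.app W)).mp
      inferInstance).2
  have hfin := Groth.Agent.Lib.PurExt.isFinite_π (FEt.puncturedSpec A).ι π₀ hι
  have hreg : ∀ x : (Spec (CommRingCat.of A) : Scheme.{u}),
      x ∉ (FEt.puncturedSpec A).ι.opensRange →
      IsRegularLocalRing ((Spec (CommRingCat.of A)).presheaf.stalk x) ∧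
        (2 : WithBot ℕ∞) ≤ ringKrullDim ((Spec (CommRingCat.of A)).presheaf.stalk x) := by
    intro x hx
    rw [Scheme.Opens.opensRange_ι] at hx
    have hx' : x = IsLocalRing.closedPoint A := by
      by_contra hne
      exact hx hne
    subst hx'
    refine ⟨IsRegularLocalRing.of_ringEquiv (Groth.Agent.Lib.PurExt.stalkEquiv A), ?_⟩
    rw [← ringKrullDim_eq_of_ringEquiv (Groth.Agent.Lib.PurExt.stalkEquiv A)]
    exact h
  have het := Groth.Agent.Lib.PurSch.etale_ext (FEt.puncturedSpec A).ι π₀ hfin hreg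
  obtain ⟨k, Hk⟩ := Groth.Agent.Lib.PurExt.exists_isPullback_ext (FEt.puncturedSpec A).ι π₀
  refine ⟨MorphismProperty.Over.mk ⊤
    (Groth.Agent.Lib.PurExt.extAlg (FEt.puncturedSpec A).ι π₀).π ⟨hfin, het⟩, ⟨?_⟩⟩
  refine MorphismProperty.Over.isoMk Hk.isoPullback.symm ?_
  exact Hk.isoPullback_inv_snd

end Groth.Agent.S0247
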