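import Groth.Statements.S0253
import Mathlib

set_option autoImplicit false
universe u
open Pi1

namespace Groth.Agent.S0253

open Polynomial IsLocalRing in
theorem sepLift (L : Type u) [CommRing L] [IsLocalRing L] (Q : L[X]) (hQ : Q.Monic)
    (hsep : (Q.map (residue L)).Separable) : Q.Separable := by
  classical
  obtain ⟨J, hJ⟩ : ∃ J : Ideal L[X], J = Ideal.span {Q, derivative Q} := ⟨_, rfl⟩
  have hQJ : Q ∈ J := hJ ▸ Ideal.subset_span (by simp)
  have hQ'J : derivative Q ∈ J := hJ ▸ Ideal.subset_span (by simp)
  -- finiteness of L[X] ⧸ J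
  have hfin : Module.Finite L (L[X] ⧸ J) := by
    let g : Polynomial.degreeLT L Q.natDegree →ₗ[L] (L[X] ⧸ J) :=
      ((Ideal.Quotient.mkₐ L J).toLinearMap).comp (Polynomial.degreeLT L Q.natDegree).subtype
    have hg : Function.Surjective g := by
      intro y
      obtain ⟨f, rfl⟩ := Ideal.Quotient.mk_surjective y
      have hmem : f %ₘ Q ∈ Polynomial.degreeLT L Q.natDegree := by
        rw [Polynomial.mem_degreeLT]
        rcases subsingleton_or_nontrivial L with hs | hn
        · rw [Subsingleton.elim (f %ₘ Q) 0, degree_zero]; exact WithBot.bot_lt_coe _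
        · calc (f %ₘ Q).degree < Q.degree := degree_modByMonic_lt f hQ
            _ = Q.natDegree := degree_eq_natDegree hQ.ne_zero
      refine ⟨⟨f %ₘ Q, hmem⟩, ?_⟩
      show Ideal.Quotient.mk J (f %ₘ Q) = Ideal.Quotient.mk J f
      rw [Ideal.Quotient.eq]
      have h1 : f %ₘ Q - f = - (Q * (f /ₘ Q)) := by
        have := Polynomial.modByMonic_add_div f Q
        linear_combination this
      rw [h1]
      exact J.neg_mem (J.mul_mem_right _ hQJ)
    haveI : Module.Finite L (Polynomial.degreeLT L Q.natDegree) :=
      Module.Finite.equiv (Polynomial.degreeLTEquiv L Q.natDegree).symm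
    exact Module.Finite.of_surjective g hg
  -- Nakayama
  obtain ⟨a', b', hab⟩ := hsep
  obtain ⟨a, rfl⟩ := Polynomial.map_surjective (residue L) residue_surjective a'
  obtain ⟨b, rfl⟩ := Polynomial.map_surjective (residue L) residue_surjective b'
  obtain ⟨e, he⟩ : ∃ e : L[X], e = a * Q + b * derivative Q - 1 := ⟨_, rfl⟩
  have hemap : e.map (residue L) = 0 := by
    rw [he, Polynomial.map_sub, Polynomial.map_add, Polynomial.map_mul, Polynomial.map_mul,
      Polynomial.map_one, ← Polynomial.derivative_map, hab, sub_self]
  have hecoeff : ∀ i, e.coeff i ∈ maximalIdeal L := by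
    intro i
    rw [← residue_eq_zero_iff, ← Polynomial.coeff_map, hemap, Polynomial.coeff_zero]
  have hle : (⊤ : Submodule L (L[X] ⧸ J)) ≤ maximalIdeal L • ⊤ := by
    rintro y -
    obtain ⟨f, rfl⟩ := Ideal.Quotient.mk_surjective y
    have h1 : Ideal.Quotient.mk J f = - Ideal.Quotient.mk J (f * e) := by
      rw [← map_neg, Ideal.Quotient.eq]
      have : f - -(f * e) = f * a * Q + f * b * derivative Q := by rw [he]; ring
      rw [this]
      exact J.add_mem (J.mul_mem_left _ hQJ) (J.mul_mem_left _ hQ'J)
    rw [h1]
    apply Submodule.neg_mem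
    have h2 : f * e = ∑ i ∈ e.support, e.coeff i • (f * X ^ i) := by
      conv_lhs => rw [e.as_sum_support_C_mul_X_pow, Finset.mul_sum]
      apply Finset.sum_congr rfl
      intro i _
      rw [Polynomial.smul_eq_C_mul]; ring
    rw [h2, map_sum]
    apply Submodule.sum_mem
    intro i _
    have h3 : Ideal.Quotient.mk J (e.coeff i • (f * X ^ i)) =
        e.coeff i • Ideal.Quotient.mk J (f * X ^ i) := rfl
    rw [h3]
    exact Submodule.smul_mem_smul (hecoeff i) Submodule.mem_top
  have hbot := Submodule.eq_bot_of_le_smul_of_le_jacobson_bot (maximalIdeal L)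
    (⊤ : Submodule L (L[X] ⧸ J)) Module.Finite.fg_top hle (maximalIdeal_le_jacobson _)
  have hsub : Subsingleton (L[X] ⧸ J) := by
    rw [← Submodule.subsingleton_iff L, ← subsingleton_iff_bot_eq_top]
    exact hbot.symm
  have hJtop : J = ⊤ := Ideal.Quotient.subsingleton_iff.mp hsub
  have h1J : (1 : L[X]) ∈ Ideal.span {Q, derivative Q} := hJ ▸ hJtop ▸ Submodule.mem_top
  rw [Ideal.mem_span_pair] at h1J
  obtain ⟨u, v, huv⟩ := h1J
  exact ⟨u, v, huv⟩

open Polynomial in
theorem root (L : Type u) [CommRing L] [IsDomain L] [IsIntegrallyClosed L] (K : Type u) [Field K]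
    [Algebra L K] [IsFractionRing L K] [IsSepClosed K] (Q : L[X]) (hQ : Q.Monic)
    (hdeg : Q.natDegree ≠ 0) (hsep : (Q.map (algebraMap L K)).Separable) :
    ∃ β : L, Q.eval β = 0 := by
  have hdeg' : (Q.map (algebraMap L K)).degree ≠ 0 := by
    intro h0
    apply hdeg
    rw [← hQ.natDegree_map (algebraMap L K)]
    exact natDegree_eq_of_degree_eq_some h0
  obtain ⟨α, hα⟩ := IsSepClosed.exists_root _ hdeg' hsep
  have hint : IsIntegral L α := ⟨Q, hQ, by rw [Polynomial.eval₂_eq_eval_map]; exact hα⟩
  obtain ⟨β, rfl⟩ := IsIntegrallyClosed.algebraMap_eq_of_integral hint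
  refine ⟨β, IsFractionRing.injective L K ?_⟩
  rw [map_zero, ← Polynomial.eval₂_at_apply, Polynomial.eval₂_eq_eval_map]
  exact hα

open Polynomial IsLocalRing in
theorem core (L : Type u) [CommRing L] [IsDomain L] [IsLocalRing L] [IsIntegrallyClosed L]
    (K : Type u) [Field K] [Algebra L K] [IsFractionRing L K] [IsSepClosed K] (π : L)
    (hπm : π ∈ maximalIdeal L) (hπ0 : π ≠ 0) : IsAlgClosed (ResidueField L) := by
  have hsepRoot : ∀ Pb : (ResidueField L)[X], Pb.Monic → Pb.Separable → Pb.natDegree ≠ 0 →
      ∃ x, Pb.eval x = 0 := by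
    intro Pb hmonic hsep hdeg
    obtain ⟨P, hPmap, hPdeg, hPmonic⟩ := lifts_and_natDegree_eq_and_monic
      ((mem_lifts Pb).mpr (Polynomial.map_surjective (residue L) residue_surjective Pb)) hmonic
    have hPsep : P.Separable := sepLift L P hPmonic (hPmap ▸ hsep)
    obtain ⟨β, hβ⟩ := root L K P hPmonic (hPdeg ▸ hdeg) hPsep.map
    refine ⟨residue L β, ?_⟩
    rw [← hPmap, Polynomial.eval_map, Polynomial.eval₂_at_apply, hβ, map_zero]
  have hresπ : residue L π = 0 := (residue_eq_zero_iff π).mpr hπm
  have hperf : PerfectField (ResidueField L) := by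
    obtain ⟨ℓ, hℓ⟩ := CharP.exists (ResidueField L)
    rcases CharP.char_is_prime_or_zero (ResidueField L) ℓ with hprime | hzero
    · haveI : ExpChar (ResidueField L) ℓ := ExpChar.prime hprime
      haveI : PerfectRing (ResidueField L) ℓ := by
        apply PerfectRing.ofSurjective
        intro ab
        obtain ⟨a, rfl⟩ := residue_surjective ab
        by_cases ha : residue L a = 0
        · exact ⟨0, by rw [ha, frobenius_def, zero_pow hprime.ne_zero]⟩
        have ha0 : a ≠ 0 := fun h => ha (by rw [h, map_zero])
        have ha0K : algebraMap L K a ≠ 0 :=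
          (map_ne_zero_iff _ (IsFractionRing.injective L K)).mpr ha0
        have hπ0K : algebraMap L K π ≠ 0 :=
          (map_ne_zero_iff _ (IsFractionRing.injective L K)).mpr hπ0
        by_cases hK : ((ℓ : ℕ) : K) = 0
        · have hdegr : (C π * X + C a : L[X]).natDegree < (X ^ ℓ : L[X]).natDegree := by
            rw [natDegree_X_pow]
            exact lt_of_le_of_lt natDegree_linear_le hprime.one_lt
          have hQmonic : (X ^ ℓ - (C π * X + C a) : L[X]).Monic := by
            apply monic_X_pow_sub
            calc (C π * X + C a : L[X]).degree ≤ 1 := degree_linear_le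
              _ < (ℓ : WithBot ℕ) := by exact_mod_cast hprime.one_lt
          have hQdeg : (X ^ ℓ - (C π * X + C a) : L[X]).natDegree ≠ 0 := by
            rw [natDegree_sub_eq_left_of_natDegree_lt hdegr, natDegree_X_pow]
            exact hprime.ne_zero
          have hQsep : ((X ^ ℓ - (C π * X + C a) : L[X]).map (algebraMap L K)).Separable := by
            have hmap : (X ^ ℓ - (C π * X + C a) : L[X]).map (algebraMap L K) =
                X ^ ℓ - (C (algebraMap L K π) * X + C (algebraMap L K a)) := by
              simp [Polynomial.map_sub, Polynomial.map_add, Polynomial.map_mul, Polynomial.map_pow]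
            rw [hmap]
            have hder : derivative (X ^ ℓ - (C (algebraMap L K π) * X + C (algebraMap L K a)) : K[X]) =
                - C (algebraMap L K π) := by
              simp [derivative_X_pow, hK]
            refine ⟨0, - C (algebraMap L K π)⁻¹, ?_⟩
            rw [hder, zero_mul, zero_add, neg_mul_neg, ← C_mul, inv_mul_cancel₀ hπ0K, C_1]
          obtain ⟨β, hβ⟩ := root L K _ hQmonic hQdeg hQsep
          refine ⟨residue L β, ?_⟩
          have h1 := congrArg (residue L) hβ
          simp only [eval_sub, eval_add, eval_mul, eval_pow, eval_X, eval_C, map_sub, map_add,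
            map_mul, map_pow, map_zero, hresπ, zero_mul, zero_add] at h1
          rw [frobenius_def]
          exact sub_eq_zero.mp h1
        · have hQmonic : (X ^ ℓ - C a : L[X]).Monic := monic_X_pow_sub_C a hprime.ne_zero
          have hQdeg : (X ^ ℓ - C a : L[X]).natDegree ≠ 0 := by
            rw [natDegree_X_pow_sub_C]; exact hprime.ne_zero
          have hQsep : ((X ^ ℓ - C a : L[X]).map (algebraMap L K)).Separable := by
            have hmap : (X ^ ℓ - C a : L[X]).map (algebraMap L K) =
                X ^ ℓ - C (algebraMap L K a) := by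
              simp [Polynomial.map_sub, Polynomial.map_pow]
            rw [hmap]
            exact separable_X_pow_sub_C _ hK ha0K
          obtain ⟨β, hβ⟩ := root L K _ hQmonic hQdeg hQsep
          refine ⟨residue L β, ?_⟩
          have h1 := congrArg (residue L) hβ
          simp only [eval_sub, eval_pow, eval_X, eval_C, map_sub, map_pow, map_zero] at h1
          rw [frobenius_def]
          exact sub_eq_zero.mp h1
      exact PerfectRing.toPerfectField _ ℓ
    · subst hzero
      haveI : CharZero (ResidueField L) := CharP.charP_to_charZero _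
      infer_instance
  apply IsAlgClosed.of_exists_root
  intro P hmonic hirr
  exact hsepRoot P hmonic (PerfectField.separable_of_irreducible hirr)
    (Polynomial.natDegree_pos_iff_degree_pos.mpr (Polynomial.degree_pos_of_irreducible hirr)).ne'


open AlgebraicGeometry CategoryTheory CategoryTheory.Limits in
/-- Let A be an integrally closed domain whose fraction field is separably closed. Then the residue
field at any nonzero prime ideal of A is algebraically closed. -/
theorem result (A : Type u) [CommRing A] [IsDomain A] [IsIntegrallyClosed A] [IsSepClosed (FractionRing A)]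
    (p : Ideal A) [p.IsPrime] (hp : p ≠ ⊥) : IsAlgClosed p.ResidueField := by
  haveI : IsIntegrallyClosed (Localization.AtPrime p) :=
    isIntegrallyClosed_of_isLocalization _ p.primeCompl p.primeCompl_le_nonZeroDivisors
  obtain ⟨a0, ha0p, ha0⟩ : ∃ a ∈ p, a ≠ 0 := Submodule.exists_mem_ne_zero_of_ne_bot hp
  have hπm : algebraMap A (Localization.AtPrime p) a0 ∈
      IsLocalRing.maximalIdeal (Localization.AtPrime p) :=
    (IsLocalization.AtPrime.to_map_mem_maximal_iff (Localization.AtPrime p) p a0).mpr ha0p
  have hπ0 : algebraMap A (Localization.AtPrime p) a0 ≠ 0 :=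
    (map_ne_zero_iff _ (IsLocalization.injective (Localization.AtPrime p)
      p.primeCompl_le_nonZeroDivisors)).mpr ha0
  exact core (Localization.AtPrime p) (FractionRing A) _ hπm hπ0

end Groth.Agent.S0253
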