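import Groth.Statements.S0254
import Mathlib
import Groth.Agent.S0253

set_option autoImplicit false
universe u
open Pi1

namespace Groth.Agent.S0254

open Polynomial IsLocalRing in
theorem exists_irred_factor (A : Type u) [CommRing A] [IsDomain A] [IsLocalRing A]
    [IsIntegrallyClosed A] (K : Type u) [Field K] [Algebra A K] [IsFractionRing A K]
    (x : ResidueField A) :
    ∀ (n : ℕ) (F : A[X]), F.natDegree = n → F.Monic → (F.map (residue A)).eval x = 0 →
      ∃ G H : A[X], G.Monic ∧ Irreducible (G.map (algebraMap A K)) ∧ F = G * H ∧
        (G.map (residue A)).eval x = 0 := by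
  intro n
  induction n using Nat.strong_induction_on with
  | _ n IH =>
    intro F hn hF hx
    by_cases hirr : Irreducible (F.map (algebraMap A K))
    · exact ⟨F, 1, hF, hirr, (mul_one F).symm, hx⟩
    · have hinj : Function.Injective (algebraMap A K) := IsFractionRing.injective A K
      have hFK : (F.map (algebraMap A K)).Monic := hF.map _
      have hnu : ¬ IsUnit (F.map (algebraMap A K)) := by
        intro hu
        have h1 : F.map (algebraMap A K) = 1 := hFK.eq_one_of_isUnit hu
        have hF1 : F = 1 := Polynomial.map_injective _ hinj (by rw [h1, Polynomial.map_one])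
        rw [hF1, Polynomial.map_one, eval_one] at hx
        exact one_ne_zero hx
      rw [irreducible_iff] at hirr
      push Not at hirr
      obtain ⟨u, v, huv, hu, hv⟩ := hirr hnu
      have hu0 : u ≠ 0 := by rintro rfl; rw [zero_mul] at huv; exact hFK.ne_zero huv
      have hv0 : v ≠ 0 := by rintro rfl; rw [mul_zero] at huv; exact hFK.ne_zero huv
      obtain ⟨U, hU⟩ := IsIntegrallyClosed.eq_map_mul_C_of_dvd K hF (g := u) ⟨v, huv⟩
      obtain ⟨V, hV⟩ := IsIntegrallyClosed.eq_map_mul_C_of_dvd K hF (g := v)
        ⟨u, by rw [huv, mul_comm]⟩
      have hcu : u.leadingCoeff ≠ 0 := leadingCoeff_ne_zero.mpr hu0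
      have hcv : v.leadingCoeff ≠ 0 := leadingCoeff_ne_zero.mpr hv0
      have hUm : (U.map (algebraMap A K)).leadingCoeff = 1 := by
        have h := congrArg leadingCoeff hU
        rw [leadingCoeff_mul, leadingCoeff_C] at h
        exact mul_right_cancel₀ hcu (h.trans (one_mul _).symm)
      have hVm : (V.map (algebraMap A K)).leadingCoeff = 1 := by
        have h := congrArg leadingCoeff hV
        rw [leadingCoeff_mul, leadingCoeff_C] at h
        exact mul_right_cancel₀ hcv (h.trans (one_mul _).symm)
      have hUmonic : U.Monic := by
        rw [leadingCoeff_map_of_injective hinj] at hUm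
        exact hinj (hUm.trans (map_one _).symm)
      have hVmonic : V.Monic := by
        rw [leadingCoeff_map_of_injective hinj] at hVm
        exact hinj (hVm.trans (map_one _).symm)
      have hc : u.leadingCoeff * v.leadingCoeff = 1 := by
        have h := congrArg leadingCoeff huv
        rw [leadingCoeff_mul, hFK.leadingCoeff] at h
        exact h.symm
      have hFUV : F = U * V := by
        apply Polynomial.map_injective _ hinj
        rw [Polynomial.map_mul, huv]
        calc u * v = (U.map (algebraMap A K) * C u.leadingCoeff) *
              (V.map (algebraMap A K) * C v.leadingCoeff) := by rw [hU, hV]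
          _ = U.map (algebraMap A K) * V.map (algebraMap A K) *
              C (u.leadingCoeff * v.leadingCoeff) := by rw [C_mul]; ring
          _ = U.map (algebraMap A K) * V.map (algebraMap A K) := by rw [hc, C_1, mul_one]
      have hUdeg : U.natDegree = u.natDegree := by
        have h := congrArg natDegree hU
        rw [natDegree_mul_C hcu, hUmonic.natDegree_map] at h
        exact h
      have hVdeg : V.natDegree = v.natDegree := by
        have h := congrArg natDegree hV
        rw [natDegree_mul_C hcv, hVmonic.natDegree_map] at h
        exact h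
      have hund : u.natDegree ≠ 0 := by
        have h : u.degree ≠ 0 := fun h => hu (isUnit_iff_degree_eq_zero.mpr h)
        rw [degree_eq_natDegree hu0] at h
        exact_mod_cast h
      have hvnd : v.natDegree ≠ 0 := by
        have h : v.degree ≠ 0 := fun h => hv (isUnit_iff_degree_eq_zero.mpr h)
        rw [degree_eq_natDegree hv0] at h
        exact_mod_cast h
      have hdeg : F.natDegree = U.natDegree + V.natDegree := by
        rw [hFUV]; exact hUmonic.natDegree_mul hVmonic
      have hx' : (U.map (residue A)).eval x * (V.map (residue A)).eval x = 0 := by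
        rw [← eval_mul, ← Polynomial.map_mul, ← hFUV]; exact hx
      rcases mul_eq_zero.mp hx' with hUx | hVx
      · obtain ⟨G, H, hG, hGirr, hUGH, hGx⟩ := IH U.natDegree (by omega) U rfl hUmonic hUx
        exact ⟨G, H * V, hG, hGirr, by rw [hFUV, hUGH, mul_assoc], hGx⟩
      · obtain ⟨G, H, hG, hGirr, hVGH, hGx⟩ := IH V.natDegree (by omega) V rfl hVmonic hVx
        exact ⟨G, H * U, hG, hGirr, by rw [hFUV, hVGH]; ring, hGx⟩


open AlgebraicGeometry CategoryTheory CategoryTheory.Limits in
/-- An integrally closed local domain whose fraction field is separably closed is henselian with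
separably closed residue field (i.e. strictly henselian). -/
theorem result (A : Type u) [CommRing A] [IsDomain A] [IsLocalRing A] [IsIntegrallyClosed A]
    [IsSepClosed (FractionRing A)] :
    HenselianLocalRing A ∧ IsSepClosed (IsLocalRing.ResidueField A) := by
  constructor
  · refine { toIsLocalRing := inferInstance, is_henselian := ?_ }
    intro f hf a₀ h₁ h₂
    have hinj : Function.Injective (algebraMap A (FractionRing A)) :=
      IsFractionRing.injective A (FractionRing A)
    have hx : (f.map (IsLocalRing.residue A)).eval (IsLocalRing.residue A a₀) = 0 := by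
      rw [Polynomial.eval_map, Polynomial.eval₂_at_apply]
      exact (IsLocalRing.residue_eq_zero_iff _).mpr h₁
    obtain ⟨G, H, hG, hGirr, hfGH, hGx⟩ :=
      exists_irred_factor A (FractionRing A) (IsLocalRing.residue A a₀) _ f rfl hf hx
    have hGa : IsLocalRing.residue A (G.eval a₀) = 0 := by
      rw [Polynomial.eval_map, Polynomial.eval₂_at_apply] at hGx; exact hGx
    have hder : IsLocalRing.residue A ((Polynomial.derivative f).eval a₀) =
        IsLocalRing.residue A ((Polynomial.derivative G).eval a₀) *
          IsLocalRing.residue A (H.eval a₀) := by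
      rw [hfGH, Polynomial.derivative_mul, Polynomial.eval_add, Polynomial.eval_mul,
        Polynomial.eval_mul, map_add, map_mul, map_mul, hGa, zero_mul, add_zero]
    have hne : IsLocalRing.residue A ((Polynomial.derivative f).eval a₀) ≠ 0 := by
      rw [Ne, IsLocalRing.residue_eq_zero_iff, IsLocalRing.mem_maximalIdeal, mem_nonunits_iff,
        not_not]
      exact h₂
    have hG'ne : Polynomial.derivative G ≠ 0 := by
      intro h0
      apply hne
      rw [hder, h0, Polynomial.eval_zero, map_zero, zero_mul]
    have hsep : (G.map (algebraMap A (FractionRing A))).Separable := by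
      rw [Polynomial.separable_iff_derivative_ne_zero hGirr, Polynomial.derivative_map]
      intro h0
      apply hG'ne
      apply Polynomial.map_injective _ hinj
      rw [h0, Polynomial.map_zero]
    have hdeg1 := IsSepClosed.degree_eq_one_of_irreducible (FractionRing A) hGirr hsep
    have hnd1 : G.natDegree = 1 := by
      rw [← hG.natDegree_map (algebraMap A (FractionRing A))]
      exact Polynomial.natDegree_eq_of_degree_eq_some hdeg1
    have hGform := hG.eq_X_add_C hnd1
    refine ⟨- G.coeff 0, ?_, ?_⟩
    · rw [Polynomial.IsRoot, hfGH, Polynomial.eval_mul]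
      have : G.eval (- G.coeff 0) = 0 := by
        rw [hGform]; simp
      rw [this, zero_mul]
    · have h3 : G.eval a₀ ∈ IsLocalRing.maximalIdeal A :=
        (IsLocalRing.residue_eq_zero_iff _).mp hGa
      have h4 : G.eval a₀ = a₀ + G.coeff 0 := by
        conv_lhs => rw [hGform]
        simp
      rw [h4] at h3
      have h5 : - G.coeff 0 - a₀ = - (a₀ + G.coeff 0) := by ring
      rw [h5]
      exact (Ideal.neg_mem_iff _).mpr h3
  · apply IsSepClosed.of_exists_root
    intro Pb hmonic hirr hsep
    have hdeg : Pb.natDegree ≠ 0 :=
      (Polynomial.natDegree_pos_iff_degree_pos.mpr (Polynomial.degree_pos_of_irreducible hirr)).ne'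
    obtain ⟨P, hPmap, hPdeg, hPmonic⟩ := Polynomial.lifts_and_natDegree_eq_and_monic
      ((Polynomial.mem_lifts Pb).mpr
        (Polynomial.map_surjective (IsLocalRing.residue A) IsLocalRing.residue_surjective Pb)) hmonic
    have hPsep : P.Separable := S0253.sepLift A P hPmonic (hPmap ▸ hsep)
    obtain ⟨β, hβ⟩ := S0253.root A (FractionRing A) P hPmonic (hPdeg ▸ hdeg) hPsep.map
    refine ⟨IsLocalRing.residue A β, ?_⟩
    rw [← hPmap, Polynomial.eval_map, Polynomial.eval₂_at_apply, hβ, map_zero]

end Groth.Agent.S0254
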