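import Groth.Statements.S0258
import Groth.Agent.Lib.FEtRestrictFF_helper4
import Groth.Agent.Lib.FlatCM_helper9

set_option autoImplicit false
universe u
open Pi1

namespace Groth.Agent.S0258

set_option backward.isDefEq.respectTransparency false in
open AlgebraicGeometry CategoryTheory CategoryTheory.Limits in
noncomputable def stalkEquivAux (A : Type u) [CommRing A] [IsLocalRing A] :
    A ≃+* ((Spec (CommRingCat.of A)).presheaf.stalk (IsLocalRing.closedPoint A)) := by
  have H : (IsLocalRing.closedPoint A).asIdeal.primeCompl ≤ IsUnit.submonoid A := by
    intro x hx
    by_contra hu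
    exact hx ((IsLocalRing.mem_maximalIdeal x).mpr hu)
  exact (IsLocalization.atUnits A (IsLocalRing.closedPoint A).asIdeal.primeCompl
    (S := (Spec.structureSheaf A).presheaf.stalk (IsLocalRing.closedPoint A)) H).toRingEquiv

set_option backward.isDefEq.respectTransparency false in
open AlgebraicGeometry CategoryTheory CategoryTheory.Limits in
theorem s0258 (A : Type u) [CommRing A] [IsNoetherianRing A] [IsLocalRing A] (hA : (2 : ℕ∞) ≤ LocCoh.depth A A) :
    (FEt.restrict (FEt.puncturedSpec A).ι).Full ∧ (FEt.restrict (FEt.puncturedSpec A).ι).Faithful := by
  haveI : IsLocallyNoetherian (Spec (CommRingCat.of A)) := inferInstance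
  refine Groth.Agent.Lib.FEtRestrictFFH4.main (X := Spec (CommRingCat.of A)) (FEt.puncturedSpec A) ?_
  intro x hx
  have hx' : x = IsLocalRing.closedPoint A := by
    by_contra hne
    exact hx hne
  subst hx'
  haveI : IsNoetherianRing ((Spec (CommRingCat.of A)).presheaf.stalk (IsLocalRing.closedPoint A)) :=
    isNoetherianRing_of_ringEquiv A (stalkEquivAux A)
  rw [← Groth.Agent.FlatCM.depth_ringEquiv (stalkEquivAux A)]
  exact hA

open AlgebraicGeometry CategoryTheory CategoryTheory.Limits in
/-- For a Noetherian local ring A of depth at least 2, the functor restricting finite étale covers of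
Spec A to the punctured spectrum is fully faithful (full and faithful). The published statement
assumes instead that the punctured spectrum of the strict henselization of A is connected; depth at
least 2 is a sufficient condition for this, and the result is stated here under that hypothesis. -/
theorem result (A : Type u) [CommRing A] [IsNoetherianRing A] [IsLocalRing A] (hA : (2 : ℕ∞) ≤ LocCoh.depth A A) :
    (FEt.restrict (FEt.puncturedSpec A).ι).Full ∧ (FEt.restrict (FEt.puncturedSpec A).ι).Faithful := by
  exact s0258 A hA

end Groth.Agent.S0258
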