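import Groth.Statements.S0263
import Groth.Agent.Lib.FEtGamma_helper4
import Groth.Agent.Lib.FlatCM_helper9

set_option autoImplicit false
universe u
open Pi1

namespace Groth.Agent.S0263

set_option backward.isDefEq.respectTransparency false in
open AlgebraicGeometry CategoryTheory CategoryTheory.Limits in
noncomputable def stalkEquivAux (A : Type u) [CommRing A] [IsLocalRing A] :
    A ≃+* ((Spec (CommRingCat.of A)).presheaf.stalk (IsLocalRing.closedPoint A)) := by
  have H : (IsLocalRing.closedPoint A).asIdeal.primeCompl ≤ IsUnit.submonoid A := by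
    intro x hx
    by_contra hu
    exact hx ((IsLocalRing.mem_maximalIdeal x).mpr hu)
  exact (IsLocalization.atUnits A (IsLocalRing.closedPoint A).asIdeal.primeCompl
    (S := (Spec.structureSheaf A).presheaf.stalk (IsLocalRing.closedPoint A)) H).toRingEquiv

set_option backward.isDefEq.respectTransparency false in
open AlgebraicGeometry CategoryTheory CategoryTheory.Limits in
theorem s0263 (A : Type u) [CommRing A] [IsNoetherianRing A] [IsLocalRing A] (hA : (2 : ℕ∞) ≤ LocCoh.depth A A)
    (V : FEt.Cat (FEt.puncturedSpec A : Scheme.{u}))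
    (hV : ∃ Y : FEt.Cat (Spec (CommRingCat.of A)),
      Nonempty ((FEt.restrict (FEt.puncturedSpec A).ι).obj Y ≅ V)) :
    ((Scheme.ΓSpecIso (CommRingCat.of A)).inv ≫ (V.hom ≫ (FEt.puncturedSpec A).ι).appTop).hom.Finite ∧
    ((Scheme.ΓSpecIso (CommRingCat.of A)).inv ≫ (V.hom ≫ (FEt.puncturedSpec A).ι).appTop).hom.Etale := by
  obtain ⟨Y, ⟨φ⟩⟩ := hV
  haveI : IsLocallyNoetherian (Spec (CommRingCat.of A)) := inferInstance
  have hdepth : ∀ x : Spec (CommRingCat.of A), x ∉ FEt.puncturedSpec A →
      (2 : ℕ∞) ≤ LocCoh.depth ((Spec (CommRingCat.of A)).presheaf.stalk x)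
        ((Spec (CommRingCat.of A)).presheaf.stalk x) := by
    intro x hx
    have hx' : x = IsLocalRing.closedPoint A := by
      by_contra hne
      exact hx hne
    subst hx'
    haveI : IsNoetherianRing ((Spec (CommRingCat.of A)).presheaf.stalk (IsLocalRing.closedPoint A)) :=
      isNoetherianRing_of_ringEquiv A (stalkEquivAux A)
    rw [← Groth.Agent.FlatCM.depth_ringEquiv (stalkEquivAux A)]
    exact hA
  haveI : IsFinite Y.hom := Y.prop.1
  haveI : Etale Y.hom := Y.prop.2
  haveI : IsIso φ.hom.left :=
    (MorphismProperty.Over.forget FEt.prop ⊤ _ ⋙ CategoryTheory.Over.forget _).map_isIso φ.hom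
  exact Groth.Agent.Lib.FEtGammaH4.gamma_finite_etale (X := Spec (CommRingCat.of A)) (FEt.puncturedSpec A) hdepth
    (Yl := Y.left) (Vl := V.left) Y.hom V.hom φ.hom.left (MorphismProperty.Over.w φ.hom)
    (Scheme.ΓSpecIso (CommRingCat.of A)).inv

open AlgebraicGeometry CategoryTheory CategoryTheory.Limits in
/-- Let A be a Noetherian local ring of depth at least 2 and V a finite étale cover of the punctured
spectrum of A which is isomorphic to the restriction of some finite étale cover of Spec A. Then the
ring of global sections Γ(V, O_V) is finite and étale over A, via the ring map A → Γ(V, O_V) induced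
by the composite V → Spec A. (Only this implication of the published statement is asserted here; its
converse is not.) -/
theorem result (A : Type u) [CommRing A] [IsNoetherianRing A] [IsLocalRing A] (hA : (2 : ℕ∞) ≤ LocCoh.depth A A)
    (V : FEt.Cat (FEt.puncturedSpec A : Scheme.{u}))
    (hV : ∃ Y : FEt.Cat (Spec (CommRingCat.of A)),
      Nonempty ((FEt.restrict (FEt.puncturedSpec A).ι).obj Y ≅ V)) :
    ((Scheme.ΓSpecIso (CommRingCat.of A)).inv ≫ (V.hom ≫ (FEt.puncturedSpec A).ι).appTop).hom.Finite ∧
    ((Scheme.ΓSpecIso (CommRingCat.of A)).inv ≫ (V.hom ≫ (FEt.puncturedSpec A).ι).appTop).hom.Etale := by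
  exact s0263 A hA V hV

end Groth.Agent.S0263
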