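import Groth.Statements.S0291
import Mathlib
import Groth.Agent.Lib.HartogsRing_helper5
import Groth.Agent.Lib.SerreNormal_helper5

set_option autoImplicit false
universe u
open Pi1

namespace Groth.Agent.S0291

open AlgebraicGeometry CategoryTheory CategoryTheory.Limits in
/-- Let A be a Noetherian local ring and B a finite A-algebra such that the local rings of Spec B at all
closed points have depth at least 2. Then restriction from global sections of Spec B to sections
over the preimage of the punctured spectrum of A is an isomorphism. -/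
theorem result (A B : Type u) [CommRing A] [IsNoetherianRing A] [IsLocalRing A] [CommRing B] [Algebra A B]
    [Module.Finite A B]
    (h : ∀ (m : Ideal B) (_ : m.IsMaximal), (2 : ℕ∞) ≤ LocCoh.depth (Localization.AtPrime m) (Localization.AtPrime m)) :
    IsIso ((Spec (CommRingCat.of B)).presheaf.map (homOfLE (le_top :
      Spec.map (CommRingCat.ofHom (algebraMap A B)) ⁻¹ᵁ FEt.puncturedSpec A ≤ ⊤)).op) := by
  haveI : IsNoetherianRing B :=
    isNoetherian_of_tower A (isNoetherian_of_isNoetherianRing_of_finite A B)
  haveI : IsNoetherianRing (CommRingCat.of B) := ‹IsNoetherianRing B›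
  haveI : Algebra.IsIntegral A B := Algebra.IsIntegral.of_finite A B
  have hU : ∀ x : (Spec (CommRingCat.of B) : Scheme.{u}),
      x ∉ (Spec.map (CommRingCat.ofHom (algebraMap A B)) ⁻¹ᵁ FEt.puncturedSpec A) →
      (2 : ℕ∞) ≤ LocCoh.depth ((Spec (CommRingCat.of B)).presheaf.stalk x)
        ((Spec (CommRingCat.of B)).presheaf.stalk x) := by
    intro x hx
    have hx1 : (Spec.map (CommRingCat.ofHom (algebraMap A B))) x = IsLocalRing.closedPoint A := by
      by_contra hne
      exact hx hne
    have hx2 : (x.asIdeal).comap (algebraMap A B) = IsLocalRing.maximalIdeal A :=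
      congrArg PrimeSpectrum.asIdeal hx1
    have hmax : x.asIdeal.IsMaximal := by
      apply Ideal.isMaximal_of_isIntegral_of_isMaximal_comap (R := A) x.asIdeal
      rw [hx2]
      exact IsLocalRing.maximalIdeal.isMaximal A
    have h2 := h x.asIdeal hmax
    letI k : Algebra B ((Spec (CommRingCat.of B)).presheaf.stalk x) :=
      AlgebraicGeometry.StructureSheaf.stalkAlgebra B x
    haveI : IsLocalization.AtPrime ((Spec (CommRingCat.of B)).presheaf.stalk x) x.asIdeal :=
      AlgebraicGeometry.StructureSheaf.IsLocalization.to_stalk B x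
    let e : Localization.AtPrime x.asIdeal ≃+* ((Spec (CommRingCat.of B)).presheaf.stalk x) :=
      (IsLocalization.algEquiv x.asIdeal.primeCompl (Localization.AtPrime x.asIdeal)
        ((Spec (CommRingCat.of B)).presheaf.stalk x)).toRingEquiv
    rw [← Groth.Agent.SerreLib.depth_eq_of_ringEquiv _ _ e]
    exact h2
  have hbij := Groth.Agent.HartogsRing.bijective_res
    (Spec.map (CommRingCat.ofHom (algebraMap A B)) ⁻¹ᵁ FEt.puncturedSpec A) hU ⊤ le_top
  exact (ConcreteCategory.isIso_iff_bijective _).mpr hbij

end Groth.Agent.S0291
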