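import Groth.Statements.S0292
import Mathlib
import Groth.Agent.Lib.PurExt2_helper5

set_option autoImplicit false
universe u
open Pi1

namespace Groth.Agent.S0292

open AlgebraicGeometry CategoryTheory CategoryTheory.Limits in
/-- Let X be a locally Noetherian scheme, U ⊆ X an open subscheme such that at every point x outside U
the local ring 𝒪_{X,x} has depth at least 2, and V → U a finite étale cover. Then there exist a
scheme Y and a finite morphism π : Y → X whose restriction π⁻¹(U) → U is isomorphic to V over U, and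
such that at every point y of Y with π(y) outside U the local ring 𝒪_{Y,y} has depth at least 2.
(Existence only; uniqueness is not asserted here.) -/
theorem result {X : Scheme.{u}} [IsLocallyNoetherian X] (U : X.Opens)
    (hU : ∀ x : X, x ∉ U → (2 : ℕ∞) ≤ LocCoh.depth (X.presheaf.stalk x) (X.presheaf.stalk x)) (V : FEt.Cat (U : Scheme.{u})) :
    ∃ (Y : Scheme.{u}) (π : Y ⟶ X) (e : pullback π U.ι ≅ V.left), IsFinite π ∧
      e.hom ≫ V.hom = pullback.snd π U.ι ∧
      ∀ y : Y, π.base y ∉ U → (2 : ℕ∞) ≤ LocCoh.depth (Y.presheaf.stalk y) (Y.presheaf.stalk y) := by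
  have hU' : ∀ x : X, x ∉ U.ι.opensRange →
      (2 : ℕ∞) ≤ LocCoh.depth (X.presheaf.stalk x) (X.presheaf.stalk x) := by
    rw [Scheme.Opens.opensRange_ι]
    exact hU
  let π₀ : V.left ⟶ (U : Scheme.{u}) := V.hom
  haveI : IsFinite π₀ := V.prop.1
  haveI : Etale π₀ := V.prop.2
  have hι : ∀ W : X.Opens, IsAffineOpen W → Function.Surjective (U.ι.app W).hom := by
    intro W _
    haveI := Groth.Agent.Lib.PurDesc.isIso_app_of_depth U.ι hU' W
    exact ((ConcreteCategory.isIso_iff_bijective (U.ι.app W)).mp inferInstance).2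
  have hfin := Groth.Agent.Lib.PurExt.isFinite_π U.ι π₀ hι
  obtain ⟨k, Hk⟩ := Groth.Agent.Lib.PurExt.exists_isPullback_ext U.ι π₀
  refine ⟨(Groth.Agent.Lib.PurExt.extAlg U.ι π₀).spec, (Groth.Agent.Lib.PurExt.extAlg U.ι π₀).π,
    Hk.isoPullback.symm, hfin, Hk.isoPullback_inv_snd, fun y hy => ?_⟩
  refine Groth.Agent.Lib.PurExt.two_le_depth_spec U.ι π₀ hfin y ?_
  rwa [Scheme.Opens.opensRange_ι]

end Groth.Agent.S0292
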