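import Groth.Statements.S0293
import Groth.Agent.Lib.PurityFFSch_helper4
import Groth.Agent.Lib.FlatCM_helper9

set_option autoImplicit false
universe u
open Pi1

namespace Groth.Agent.S0293

open AlgebraicGeometry CategoryTheory CategoryTheory.Limits in
/-- Let X be a locally Noetherian scheme, U ⊆ X an open subset such that the local rings of X at points
outside U have depth at least 2, and π : Y → X a finite morphism which is étale over U and such that
the local rings of Y at points outside the preimage of U have depth at least 2. Then π is étale if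
and only if it is flat. -/
theorem result {X : Scheme.{u}} [IsLocallyNoetherian X] (U : X.Opens)
    (hU : ∀ x : X, x ∉ U → (2 : ℕ∞) ≤ LocCoh.depth (X.presheaf.stalk x) (X.presheaf.stalk x)) {Y : Scheme.{u}} (π : Y ⟶ X)
    [IsFinite π] [Etale (pullback.snd π U.ι)]
    (hY : ∀ y : Y, π.base y ∉ U → (2 : ℕ∞) ≤ LocCoh.depth (Y.presheaf.stalk y) (Y.presheaf.stalk y)) :
    Etale π ↔ Flat π := by
  constructor
  · intro h
    infer_instance
  · intro hfl
    haveI := hfl
    haveI : Etale (π ∣_ U) := by
      delta morphismRestrict
      infer_instance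
    refine Groth.Agent.Lib.PurityFFSchH4.main π U ?_
    intro x hx
    exact le_trans
      (show (2 : WithBot ℕ∞) ≤ ((LocCoh.depth (X.presheaf.stalk x) (X.presheaf.stalk x) : ℕ∞) : WithBot ℕ∞)
        from WithBot.coe_le_coe.mpr (hU x hx))
      (Groth.Agent.FlatCM.depth_le_dim _)

end Groth.Agent.S0293
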