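import Groth.Statements.S0294
import Mathlib

set_option autoImplicit false
universe u
open Pi1

namespace Groth.Agent.S0294

theorem fin_aux (Ω B : Type u) [Field Ω] [CommRing B] (ι : Ω →+* B) (hι : ι.Finite) :
    Finite {φ : B →+* Ω // φ.comp ι = RingHom.id Ω} := by
  algebraize [ι]
  have : Finite (B →ₐ[Ω] Ω) := Finite.algHom Ω B Ω
  refine Finite.of_injective
    (fun φ => ({ φ.1 with commutes' := fun r => RingHom.congr_fun φ.2 r } : B →ₐ[Ω] Ω)) ?_
  intro a b hab
  apply Subtype.ext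
  ext x
  exact DFunLike.congr_fun hab x


open AlgebraicGeometry CategoryTheory CategoryTheory.Limits in
/-- For a finite étale cover Y of a scheme X and a point ξ : Spec Ω → X with values in a field Ω, the
fibre of Y over ξ (the set of Ω-valued points of Y lying over ξ) is finite. -/
theorem result {X : Scheme.{u}} {Ω : Type u} [Field Ω] (ξ : Spec (CommRingCat.of Ω) ⟶ X) (Y : FEt.Cat X) :
    Finite (FEt.fiberObj ξ Y) := by
  have hfin : IsFinite Y.hom := Y.prop.1
  have hsnd : IsFinite (pullback.snd Y.hom ξ) := inferInstance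
  have hPaff : IsAffine (pullback Y.hom ξ) := isAffine_of_isAffineHom (pullback.snd Y.hom ξ)
  obtain ⟨e, he⟩ : ∃ e, e = Scheme.ΓSpecIso (CommRingCat.of Ω) := ⟨_, rfl⟩
  let ι : Ω →+* Γ(pullback Y.hom ξ, ⊤) := ((pullback.snd Y.hom ξ).appTop.hom).comp e.inv.hom
  have hι : ι.Finite := by
    have h1 : (pullback.snd Y.hom ξ).appTop.hom.Finite :=
      ((HasAffineProperty.iff_of_isAffine (P := @IsFinite)).mp hsnd).2
    exact h1.comp (RingHom.Finite.of_surjective _
      (ConcreteCategory.bijective_of_isIso e.inv).2)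
  have := fin_aux Ω Γ(pullback Y.hom ξ, ⊤) ι hι
  have hw : ∀ s : FEt.fiberObj ξ Y, s.1 ≫ Y.hom = 𝟙 _ ≫ ξ := fun s => by
    rw [s.2, Category.id_comp]
  refine Finite.of_injective (fun s =>
    (⟨e.hom.hom.comp (pullback.lift s.1 (𝟙 _) (hw s)).appTop.hom, ?_⟩ :
      {φ : Γ(pullback Y.hom ξ, ⊤) →+* Ω // φ.comp ι = RingHom.id Ω})) ?_
  · have h0 : pullback.lift s.1 (𝟙 _) (hw s) ≫ pullback.snd Y.hom ξ = 𝟙 _ := pullback.lift_snd _ _ _
    have h1 : (pullback.snd Y.hom ξ).appTop ≫ (pullback.lift s.1 (𝟙 _) (hw s)).appTop = 𝟙 _ := by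
      rw [← Scheme.Hom.comp_appTop, h0, Scheme.Hom.id_appTop]
    have h2 : e.inv ≫ ((pullback.snd Y.hom ξ).appTop ≫
        (pullback.lift s.1 (𝟙 _) (hw s)).appTop) ≫ e.hom = 𝟙 _ := by
      rw [h1]; simp
    ext r
    have := congrArg (fun f => f.hom r) h2
    simpa [ι] using this
  · intro s s' hss'
    have h1 : (pullback.lift s.1 (𝟙 _) (hw s)).appTop ≫ e.hom =
        (pullback.lift s'.1 (𝟙 _) (hw s')).appTop ≫ e.hom :=
      CommRingCat.hom_ext (congrArg Subtype.val hss')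
    have h2 := (cancel_mono e.hom).mp h1
    have h3 : pullback.lift s.1 (𝟙 _) (hw s) = pullback.lift s'.1 (𝟙 _) (hw s') :=
      ext_of_isAffine h2
    apply Subtype.ext
    have h4 : pullback.lift s.1 (𝟙 _) (hw s) ≫ pullback.fst Y.hom ξ =
        pullback.lift s'.1 (𝟙 _) (hw s') ≫ pullback.fst Y.hom ξ := by rw [h3]
    exact (pullback.lift_fst _ _ _).symm.trans (h4.trans (pullback.lift_fst _ _ _))

end Groth.Agent.S0294
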