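import Groth.Statements.S0319
import Mathlib
import Groth.Agent.Lib.Depth_helper5

set_option autoImplicit false
universe u v
open CategoryTheory
open LocCoh

namespace Groth.Agent.S0319

/-- Part (1): =(2): for a finite module M over a Noetherian ring and an ideal I with IM ≠ M, the I-depth
of M is the least i with Ext^i(R/I, M) nonzero. (Close to Mathlib's Rees criterion; kept at low
weight to pin our depth to Mathlib's Ext.) -/
theorem result (R : Type u) [CommRing R] [IsNoetherianRing R] (I : Ideal R) (M : Type u) [AddCommGroup M] [Module R M] [Module.Finite R M] (hIM : I • (⊤ : Submodule R M) ≠ ⊤) (n : ℕ) : LocCoh.idealDepth I M = n ↔ ((∀ i : ℕ, i < n → Subsingleton (Abelian.Ext (ModuleCat.of R (R ⧸ I)) (ModuleCat.of R M) i)) ∧ Nontrivial (Abelian.Ext (ModuleCat.of R (R ⧸ I)) (ModuleCat.of R M) n)) := by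
  have key := Groth.Agent.DepthLib.le_idealDepth_iff_ext I M
  constructor
  · intro h
    have h1 : (n : ℕ∞) ≤ LocCoh.idealDepth I M := h.ge
    have h2 : ¬ ((n + 1 : ℕ) : ℕ∞) ≤ LocCoh.idealDepth I M := by
      rw [h]
      exact_mod_cast Nat.not_succ_le_self n
    rw [key] at h1 h2
    refine ⟨h1, ?_⟩
    by_contra hnt
    rw [not_nontrivial_iff_subsingleton] at hnt
    apply h2
    intro i hi
    rcases Nat.lt_succ_iff_lt_or_eq.1 hi with h | rfl
    · exact h1 i h
    · exact hnt
  · rintro ⟨h1, h2⟩
    have h1' := (key n).2 h1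
    have h2' : ¬ ((n + 1 : ℕ) : ℕ∞) ≤ LocCoh.idealDepth I M := by
      rw [key]
      intro h
      haveI := h n (Nat.lt_succ_self n)
      exact not_subsingleton _ this
    apply le_antisymm _ h1'
    by_contra hlt
    push Not at hlt
    apply h2'
    have := Order.add_one_le_of_lt hlt
    exact_mod_cast this

end Groth.Agent.S0319
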