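import Groth.Statements.S0335
import Mathlib
import Groth.Agent.Lib.Connected_helper5

set_option autoImplicit false
universe u v
open LocCoh

namespace Groth.Agent.S0335

/-- For the ring itself; Hartshorne's connectedness: if a Noetherian local ring has depth at least 2
then its punctured spectrum is connected. -/
theorem result (R : Type u) [CommRing R] [IsLocalRing R] [IsNoetherianRing R] (h : 2 ≤ LocCoh.depth R R) : IsConnected {x : PrimeSpectrum R | x.asIdeal ≠ IsLocalRing.maximalIdeal R} := by
  classical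
  haveI hpre : PreconnectedSpace (PrimeSpectrum R) := by
    refine ⟨?_⟩
    rw [isPreconnected_closed_iff]
    intro t t' ht ht' _ hne1 hne2
    obtain ⟨x, _, hxt⟩ := hne1
    obtain ⟨y, _, hyt'⟩ := hne2
    have hx : x ⤳ IsLocalRing.closedPoint R :=
      (PrimeSpectrum.le_iff_specializes _ _).1 (IsLocalRing.le_maximalIdeal x.2.ne_top)
    have hy : y ⤳ IsLocalRing.closedPoint R :=
      (PrimeSpectrum.le_iff_specializes _ _).1 (IsLocalRing.le_maximalIdeal y.2.ne_top)
    exact ⟨IsLocalRing.closedPoint R, Set.mem_univ _, hx.mem_closed ht hxt,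
      hy.mem_closed ht' hyt'⟩
  have hset : {x : PrimeSpectrum R | x.asIdeal ≠ IsLocalRing.maximalIdeal R} =
      (PrimeSpectrum.zeroLocus ((IsLocalRing.maximalIdeal R : Ideal R) : Set R))ᶜ := by
    ext x
    rw [Set.mem_compl_iff, PrimeSpectrum.mem_zeroLocus, SetLike.coe_subset_coe, Set.mem_setOf_eq]
    constructor
    · intro hne hle
      exact hne ((IsLocalRing.maximalIdeal.isMaximal R).eq_of_le x.2.ne_top hle).symm
    · intro hnle heq
      exact hnle heq.ge
  rw [hset]
  refine ⟨?_, ?_⟩
  · obtain ⟨p, hp, hpm⟩ := Ideal.exists_minimalPrimes_le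
      (bot_le : (⊥ : Ideal R) ≤ IsLocalRing.maximalIdeal R)
    refine ⟨⟨p, hp.1.1⟩, ?_⟩
    rw [Set.mem_compl_iff, PrimeSpectrum.mem_zeroLocus, SetLike.coe_subset_coe]
    intro hle
    have heq : p = IsLocalRing.maximalIdeal R := le_antisymm hpm hle
    rw [heq] at hp
    have hht : (IsLocalRing.maximalIdeal R).height = 0 := Ideal.height_eq_zero_iff.2 hp
    have h1 := Groth.Agent.DepthLib.depth_le_supportDim R R
    rw [Module.supportDim_self_eq_ringKrullDim,
      ← IsLocalRing.maximalIdeal_height_eq_ringKrullDim, hht] at h1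
    have h2 := WithBot.coe_le_coe.1 h1
    have h3 : (2 : ℕ∞) ≤ 0 := le_trans h h2
    simp at h3
  · apply Groth.Agent.Hartshorne.isPreconnected_compl_zeroLocus
    intro p _ hmp
    have heq : p = IsLocalRing.maximalIdeal R :=
      ((IsLocalRing.maximalIdeal.isMaximal R).eq_of_le Ideal.IsPrime.ne_top' hmp).symm
    subst heq
    have h1 := Groth.Agent.DepthLib.idealDepth_le_depth_localization
      (IsLocalRing.maximalIdeal R) R (IsLocalRing.maximalIdeal R) le_rfl
    rw [Groth.Agent.DepthLib.depth_locSelf] at h1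
    exact le_trans h h1

end Groth.Agent.S0335
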