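import Groth.Statements.S0337
import Mathlib
import Groth.Agent.Lib.FrobFree_helper6
import Groth.Prelude.Def_FrobAlg
-- import your own Groth.Agent.* helpers here

set_option autoImplicit false
universe u v
open CategoryTheory
open LocCoh TensorProduct

namespace Groth.Agent.S0337

/-- Over a Noetherian local ring of prime characteristic p, a finite module isomorphic to its own base
change along Frobenius is free. -/
theorem result (p : ℕ) [Fact p.Prime] (R : Type u) [CommRing R] [IsLocalRing R] [IsNoetherianRing R] [CharP R p] (M : Type u) [AddCommGroup M] [Module R M] [Module.Finite R M] (h : Nonempty ((ModuleCat.extendScalars (frobenius R p)).obj (ModuleCat.of R M) ≅ ModuleCat.of R M)) : Module.Free R M := by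

  have hp : p.Prime := Fact.out
  obtain ⟨h⟩ := h
  haveI : Module.FinitePresentation R M := Module.finitePresentation_of_finite R M
  let e0 : (ModuleCat.extendScalars (frobenius R p)).obj (ModuleCat.of R M) →ₗ[R] M := h.hom.hom
  have he0 : Function.Bijective e0 := (ConcreteCategory.bijective_of_isIso h.hom)
  let e : FrobAlg.Twist p R ⊗[R] M →+ M :=
    { toFun := fun z => e0 z
      map_zero' := map_zero e0
      map_add' := fun x y => map_add e0 x y }
  refine Groth.Agent.Lib.FrobFree.free_of_semilinear_bijective p hp.two_le
    (FrobAlg.Twist p R) (FrobAlg.toTwist p R).symm (fun a => rfl) M e he0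
    (fun t z => ?_)
  exact map_smul e0 ((FrobAlg.toTwist p R).symm t)
    (show ((ModuleCat.extendScalars (frobenius R p)).obj (ModuleCat.of R M) : Type u) from z)

end Groth.Agent.S0337
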