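import Groth.Statements.S0345
import Mathlib
import Groth.Agent.Lib.Gorenstein_helper5

set_option autoImplicit false
universe u v
open Goren

namespace Groth.Agent.S0345

/-- For a Noetherian ring A, the A-module A has finite injective dimension exactly when every
localization of A at a prime is Gorenstein and A has finite Krull dimension. -/
theorem result (A : Type u) [CommRing A] [IsNoetherianRing A] : (∃ n : ℕ, CategoryTheory.HasInjectiveDimensionLT (ModuleCat.of A A) n) ↔ (LocCoh.IsGorensteinRing A ∧ ringKrullDim A < ⊤) := by
  constructor
  · rintro ⟨n, hn⟩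
    have hn' : CategoryTheory.HasInjectiveDimensionLT (ModuleCat.of A A) (n + 1) :=
      CategoryTheory.hasInjectiveDimensionLT_of_ge _ n (n + 1) (by omega)
    refine ⟨{ isGorensteinLocalRing_localization := fun p _ =>
                { exists_hasInjectiveDimensionLT :=
                    ⟨n + 1, Groth.Agent.Gor.injDim_localization n hn' p⟩ } }, ?_⟩
    refine lt_of_le_of_lt (Groth.Agent.Gor.dim_le_of_injDim n hn') ?_
    exact WithBot.coe_lt_coe.mpr (ENat.natCast_lt_top n)
  · rintro ⟨hG, hdim⟩
    by_cases hA : Subsingleton A
    · exact ⟨0, (ModuleCat.isZero_of_subsingleton (ModuleCat.of A A)).hasInjectiveDimensionLT_zero⟩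
    · haveI : Nontrivial A := not_subsingleton_iff_nontrivial.mp hA
      have h0 : (0 : WithBot ℕ∞) ≤ ringKrullDim A := ringKrullDim_nonneg_of_nontrivial
      obtain ⟨d, hd⟩ : ∃ d : ℕ, ringKrullDim A = ((d : ℕ∞) : WithBot ℕ∞) := by
        generalize ringKrullDim A = D at *
        induction D with
        | bot => simp at h0
        | coe D =>
          induction D using ENat.recTopCoe with
          | top => simp at hdim
          | coe d => exact ⟨d, rfl⟩
      refine ⟨d + 1, Groth.Agent.Gor.injDim_of_gorenstein (fun p _ => ?_) d hd.le⟩
      exact (hG.isGorensteinLocalRing_localization p).exists_hasInjectiveDimensionLT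

end Groth.Agent.S0345
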