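import Groth.Statements.S0363
import Mathlib
import Groth.Agent.Lib.DMod119_helper6
import Groth.Agent.Lib.FinFreeRes_helper7
import Groth.Agent.Lib.Matlis_helper5
-- import your own Groth.Agent.* helpers here

set_option autoImplicit false
universe u v
open CategoryTheory
open Goren

namespace Groth.Agent.S0363

/-- Over a Gorenstein local ring of dimension d with E an injective hull of the residue field κ,
Tor_i(E, κ) vanishes for i ≠ d and Tor_d(E, κ) is isomorphic to κ. -/
theorem result (A : Type u) [CommRing A] [LocCoh.IsGorensteinLocalRing A] (d : ℕ) (hd : ringKrullDim A = d) (E : Type u) [AddCommGroup E] [Module A E] (f : IsLocalRing.ResidueField A →ₗ[A] E) (hf : InjHull.IsInjectiveHull f) : (∀ i : ℕ, i ≠ d → Limits.IsZero (((Tor (ModuleCat.{u} A) i).obj (ModuleCat.of A E)).obj (ModuleCat.of A (IsLocalRing.ResidueField A)))) ∧ Nonempty ((((Tor (ModuleCat.{u} A) d).obj (ModuleCat.of A E)).obj (ModuleCat.of A (IsLocalRing.ResidueField A))) ≅ ModuleCat.of A (IsLocalRing.ResidueField A)) := by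

  classical
  haveI hfin : Module.Finite A (IsLocalRing.ResidueField A) :=
    Module.Finite.of_surjective (Algebra.linearMap A (IsLocalRing.ResidueField A))
      IsLocalRing.residue_surjective
  let Mκ : Groth.Agent.Lib.FinFreeResH7.FM A :=
    ⟨ModuleCat.of A (IsLocalRing.ResidueField A), hfin⟩
  let P : ProjectiveResolution (ModuleCat.of A (IsLocalRing.ResidueField A)) :=
    Groth.Agent.Lib.FinFreeResH7.res Mκ
  have hP := Groth.Agent.Lib.FinFreeResH7.res_finite_free Mκ
  haveI : Module.Injective A E := hf.isInjective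
  obtain ⟨hvan, ⟨eκ⟩⟩ :=
    Groth.Agent.Lib.DMod_helper6.gorenstein_hom_residueField (A := A) inferInstance d hd
  have hH : ∀ i : ℕ, Nonempty ((P.complex.linearYonedaObj A (ModuleCat.of A A)).homology i ≃ₗ[A]
      (Dual.inD A (IsLocalRing.ResidueField A) ⟶ (Dual.inD A A)⟦(i : ℤ)⟧)) := fun i =>
    Groth.Agent.Lib.DMod_helper6.nonempty_homology_linearYonedaObj_linearEquiv P
      (ModuleCat.of A A) i
  constructor
  · intro i hi
    obtain ⟨e⟩ := Groth.Agent.Lib.DMod_helper6.nonempty_tor_linearEquiv_dual E P hP i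
    obtain ⟨eH⟩ := hH i
    haveI : Subsingleton (Dual.inD A (IsLocalRing.ResidueField A) ⟶ (Dual.inD A A)⟦(i : ℤ)⟧) :=
      hvan i (by exact_mod_cast hi)
    haveI : Subsingleton ((P.complex.linearYonedaObj A (ModuleCat.of A A)).homology i) :=
      eH.toEquiv.subsingleton
    haveI : Subsingleton (((Tor (ModuleCat.{u} A) i).obj (ModuleCat.of A E)).obj
        (ModuleCat.of A (IsLocalRing.ResidueField A))) := e.toEquiv.subsingleton
    exact ModuleCat.isZero_of_subsingleton _
  · obtain ⟨e⟩ := Groth.Agent.Lib.DMod_helper6.nonempty_tor_linearEquiv_dual E P hP d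
    obtain ⟨eH⟩ := hH d
    have hs : IsSimpleModule A (IsLocalRing.ResidueField A →ₗ[A] E) :=
      (Groth.Agent.Matlis.isSocleGen_of_isEssentialInj hf.toIsEssentialInj).isSimpleModule_hom
    obtain ⟨I, hI, ⟨eI⟩⟩ := isSimpleModule_iff_quot_maximal.1 hs
    have hIm : I = IsLocalRing.maximalIdeal A := IsLocalRing.eq_maximalIdeal hI
    subst hIm
    exact ⟨(e.trans ((LinearEquiv.congrLeft E A (eH.trans eκ)).trans
      (eI.trans Groth.Agent.Lib.DMod_helper6.resEquiv))).toModuleIso⟩

end Groth.Agent.S0363
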