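import Groth.Statements.S0391
import Groth.Agent.Lib.LocalCrit3_helper9

set_option autoImplicit false
universe u
open FlatMor

namespace Groth.Agent.S0391

open TensorProduct in
/-- Variant of the local criterion: for a local homomorphism of Noetherian local rings R → S, a proper
ideal I of R and a finite S-module M, flatness of M over R follows once I ⊗ M injects into M and the
reduction of M modulo I is flat over the reduction of R modulo I. -/
theorem result {R S M : Type u} [CommRing R] [CommRing S] [IsLocalRing R] [IsLocalRing S] [IsNoetherianRing R] [IsNoetherianRing S] [Algebra R S] [IsLocalHom (algebraMap R S)]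
    [AddCommGroup M] [Module R M] [Module S M] [IsScalarTower R S M] [Module.Finite S M] (I : Ideal R) (hI : I ≠ ⊤)
    (h1 : Function.Injective (LinearMap.rTensor M (Submodule.subtype I)))
    (h2 : Module.Flat (R ⧸ I) ((R ⧸ I) ⊗[R] M)) : Module.Flat R M := by
  haveI := h2
  refine Groth.Agent.Lib.LocalCrit3.flat_of_tor_of_flat_quot (S := S) I ?_ M h1
  refine (Ideal.map_mono (IsLocalRing.le_maximalIdeal hI)).trans ?_
  exact (IsLocalRing.map_maximalIdeal_le (algebraMap R S)).trans
    (IsLocalRing.maximalIdeal_le_jacobson ⊥)

end Groth.Agent.S0391
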