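import Groth.Statements.S0392
import Groth.Agent.Lib.LocalCrit3_helper9

set_option autoImplicit false
universe u
open FlatMor

namespace Groth.Agent.S0392

open TensorProduct in
/-- Fibrewise criterion of flatness, Noetherian local form: for local homomorphisms R → S → S' of
Noetherian local rings and a nonzero finite S'-module M that is flat over R and whose reduction
modulo the maximal ideal of R is flat over the corresponding fibre ring of S, the ring S is flat
over R and M is flat over S. -/
theorem result {R S S' M : Type u} [CommRing R] [CommRing S] [CommRing S'] [IsLocalRing R] [IsLocalRing S] [IsLocalRing S']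
    [IsNoetherianRing R] [IsNoetherianRing S] [IsNoetherianRing S'] [Algebra R S] [Algebra S S'] [Algebra R S'] [IsScalarTower R S S']
    [IsLocalHom (algebraMap R S)] [IsLocalHom (algebraMap S S')]
    [AddCommGroup M] [Module S' M] [Module S M] [Module R M] [IsScalarTower S S' M] [IsScalarTower R S M]
    [Module.Finite S' M] [Nontrivial M] [Module.Flat R M]
    (h : Module.Flat (S ⧸ ((IsLocalRing.maximalIdeal R).map (algebraMap R S))) ((S ⧸ ((IsLocalRing.maximalIdeal R).map (algebraMap R S))) ⊗[S] M)) :
    Module.Flat R S ∧ Module.Flat S M := by
  haveI := h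
  have hSM : Module.Flat S M := by
    refine Groth.Agent.Lib.LocalCrit3.flat_of_tor_of_flat_quot (S := S')
      ((IsLocalRing.maximalIdeal R).map (algebraMap R S)) ?_ M
      (Groth.Agent.Lib.LocalCrit2.rTensor_map_injective (IsLocalRing.maximalIdeal R) M)
    refine (Ideal.map_mono (IsLocalRing.map_maximalIdeal_le (algebraMap R S))).trans ?_
    exact (IsLocalRing.map_maximalIdeal_le (algebraMap S S')).trans
      (IsLocalRing.maximalIdeal_le_jacobson ⊥)
  refine ⟨?_, hSM⟩
  haveI : Module.FaithfullyFlat S M :=
    { toFlat := hSM
      submodule_ne_top := by
        intro m hm htop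
        rw [IsLocalRing.eq_maximalIdeal hm] at htop
        have hle : (⊤ : Submodule S' M) ≤ (IsLocalRing.maximalIdeal S') • (⊤ : Submodule S' M) := by
          intro x _
          have hx : x ∈ (IsLocalRing.maximalIdeal S) • (⊤ : Submodule S M) := by
            rw [htop]; trivial
          refine Submodule.smul_induction_on
            (p := fun x => x ∈ (IsLocalRing.maximalIdeal S') • (⊤ : Submodule S' M)) hx ?_ ?_
          · intro s hs y _
            rw [← algebraMap_smul S' s y]
            exact Submodule.smul_mem_smul (map_nonunit (algebraMap S S') s hs)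
              Submodule.mem_top
          · intro y z hy hz
            exact add_mem hy hz
        have hbot := Submodule.eq_bot_of_le_smul_of_le_jacobson_bot (IsLocalRing.maximalIdeal S')
          (⊤ : Submodule S' M) Module.Finite.fg_top hle (IsLocalRing.maximalIdeal_le_jacobson ⊥)
        obtain ⟨x, y, hxy⟩ := exists_pair_ne M
        have hx : x ∈ (⊥ : Submodule S' M) := by rw [← hbot]; trivial
        have hy : y ∈ (⊥ : Submodule S' M) := by rw [← hbot]; trivial
        rw [Submodule.mem_bot] at hx hy
        exact hxy (hx.trans hy.symm) }
  exact Groth.Agent.Lib.LocalCrit2.flat_of_faithfullyFlat_of_flat (M := M)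

end Groth.Agent.S0392
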