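import Groth.Statements.S0397
import Mathlib

set_option autoImplicit false
universe u
open FlatMor

namespace Groth.Agent.S0397

/-- Over a local ring whose maximal ideal is nilpotent, every flat module (not necessarily finitely
generated) is free. -/
theorem result {R M : Type u} [CommRing R] [IsLocalRing R] (hR : IsNilpotent (IsLocalRing.maximalIdeal R))
    [AddCommGroup M] [Module R M] [Module.Flat R M] : Module.Free R M := by
  classical
  obtain ⟨n, hn⟩ := hR
  have hsurj := TensorProduct.mk_surjective R M (IsLocalRing.ResidueField R)
    Ideal.Quotient.mk_surjective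
  obtain ⟨v, eq⟩ := hsurj.comp_left
    (Module.Free.chooseBasis (IsLocalRing.ResidueField R) (TensorProduct R (IsLocalRing.ResidueField R) M))
  have eq' : ⇑(TensorProduct.mk R (IsLocalRing.ResidueField R) M 1) ∘ v
      = ⇑(Module.Free.chooseBasis (IsLocalRing.ResidueField R)
        (TensorProduct R (IsLocalRing.ResidueField R) M)) := eq
  have hli : LinearIndependent R v := by
    apply Module.IsLocalRing.linearIndependent_of_flat
    rw [eq']
    exact (Module.Free.chooseBasis (IsLocalRing.ResidueField R)
        (TensorProduct R (IsLocalRing.ResidueField R) M)).linearIndependent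
  have hmap : Submodule.map (TensorProduct.mk R (IsLocalRing.ResidueField R) M 1)
      (Submodule.span R (Set.range v)) = ⊤ := by
    rw [Submodule.map_span, ← Set.range_comp, eq',
      ← Submodule.restrictScalars_span R (IsLocalRing.ResidueField R)
        Ideal.Quotient.mk_surjective, Module.Basis.span_eq, Submodule.restrictScalars_top]
  have h1 : Submodule.span R (Set.range v) ⊔
      IsLocalRing.maximalIdeal R • (⊤ : Submodule R M) = ⊤ := by
    have h2 := Submodule.comap_map_eq (TensorProduct.mk R (IsLocalRing.ResidueField R) M 1)
      (Submodule.span R (Set.range v))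
    rw [hmap, Submodule.comap_top] at h2
    have hker : LinearMap.ker (TensorProduct.mk R (IsLocalRing.ResidueField R) M 1)
        = IsLocalRing.maximalIdeal R • (⊤ : Submodule R M) := LinearMap.ker_tensorProductMk M
    rw [← hker]
    exact h2.symm
  have hk : ∀ k : ℕ, Submodule.span R (Set.range v) ⊔
      (IsLocalRing.maximalIdeal R ^ k) • (⊤ : Submodule R M) = ⊤ := by
    intro k
    induction k with
    | zero => rw [pow_zero, Ideal.one_eq_top, Submodule.top_smul, sup_top_eq]
    | succ k ih =>
      rw [eq_top_iff]
      calc (⊤ : Submodule R M) = Submodule.span R (Set.range v) ⊔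
            IsLocalRing.maximalIdeal R • (⊤ : Submodule R M) := h1.symm
        _ = Submodule.span R (Set.range v) ⊔ IsLocalRing.maximalIdeal R •
            (Submodule.span R (Set.range v) ⊔
              (IsLocalRing.maximalIdeal R ^ k) • (⊤ : Submodule R M)) := by rw [ih]
        _ ≤ Submodule.span R (Set.range v) ⊔
            (IsLocalRing.maximalIdeal R ^ (k + 1)) • (⊤ : Submodule R M) := by
          rw [Submodule.smul_sup, ← Submodule.mul_smul, ← pow_succ']
          exact sup_le le_sup_left (sup_le (Submodule.smul_le_right.trans le_sup_left) le_sup_right)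
  have hsp : Submodule.span R (Set.range v) = ⊤ := by
    have h3 := hk n
    rwa [hn, Ideal.zero_eq_bot, Submodule.bot_smul, sup_bot_eq] at h3
  exact Module.Free.of_basis (Module.Basis.mk hli hsp.ge)

end Groth.Agent.S0397
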