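import Groth.Statements.S0401
import Mathlib

set_option autoImplicit false
universe u
open FlatMor

namespace Groth.Agent.S0401

/-- For a finite type ring map R → S quasi-finite at a prime q lying over p, the dimension of S_q is at
most the dimension of R_p. -/
theorem result {R S : Type u} [CommRing R] [CommRing S] [Algebra R S] [Algebra.FiniteType R S] (q : Ideal S) [q.IsPrime] [Algebra.QuasiFiniteAt R q] :
    ringKrullDim (Localization.AtPrime q) ≤ ringKrullDim (Localization.AtPrime (q.under R)) := by
  obtain ⟨r, hrq, hr⟩ := Algebra.zariskisMainProperty_iff'.mp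
    (Algebra.ZariskisMainProperty.of_finiteType (R := R) q)
  let g : Localization.AtPrime (q.under R) →+* Localization.AtPrime q :=
    Localization.localRingHom (q.under R) q (algebraMap R S) rfl
  have hg : g.comp (algebraMap R (Localization.AtPrime (q.under R))) =
      (algebraMap S (Localization.AtPrime q)).comp (algebraMap R S) := by
    ext x
    exact Localization.localRingHom_to_map (I := q.under R) q (algebraMap R S) rfl x
  refine Order.krullDim_le_of_strictMono (PrimeSpectrum.comap g) ?_
  intro P Q hPQ
  have hle : P.asIdeal ≤ Q.asIdeal := hPQ.le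
  refine lt_of_le_of_ne ?_ ?_
  · show Ideal.comap g P.asIdeal ≤ Ideal.comap g Q.asIdeal
    exact Ideal.comap_mono hle
  · intro heq
    have hPQ₀ : P.asIdeal.comap (algebraMap S (Localization.AtPrime q)) ≤
        Q.asIdeal.comap (algebraMap S (Localization.AtPrime q)) := Ideal.comap_mono hle
    have hQq : Q.asIdeal.comap (algebraMap S (Localization.AtPrime q)) ≤ q := by
      intro x hx
      by_contra hxq
      have hu : IsUnit (algebraMap S (Localization.AtPrime q) x) :=
        IsLocalization.map_units _ (⟨x, hxq⟩ : q.primeCompl)
      exact Q.isPrime.ne_top (Ideal.eq_top_of_isUnit_mem _ hx hu)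
    have hne : P.asIdeal.comap (algebraMap S (Localization.AtPrime q)) ≠
        Q.asIdeal.comap (algebraMap S (Localization.AtPrime q)) := by
      intro h
      apply hPQ.ne
      apply PrimeSpectrum.ext
      have e1 := IsLocalization.map_under q.primeCompl (Localization.AtPrime q) P.asIdeal
      have e2 := IsLocalization.map_under q.primeCompl (Localization.AtPrime q) Q.asIdeal
      rw [← e1, ← e2]
      exact congrArg (Ideal.map (algebraMap S (Localization.AtPrime q))) h
    obtain ⟨x, hxQ, hxP⟩ := SetLike.exists_of_lt (lt_of_le_of_ne hPQ₀ hne)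
    obtain ⟨m, hm⟩ := hr x
    haveI hPprime : (P.asIdeal.comap (algebraMap S (Localization.AtPrime q))).IsPrime :=
      Ideal.IsPrime.comap _
    have hrP : r ∉ P.asIdeal.comap (algebraMap S (Localization.AtPrime q)) :=
      fun h => hrq (hQq (hPQ₀ h))
    have hy : r ^ m * x ∈ ((Q.asIdeal.comap (algebraMap S (Localization.AtPrime q)) : Ideal S) : Set S) \
        (P.asIdeal.comap (algebraMap S (Localization.AtPrime q)) : Ideal S) := by
      refine ⟨Ideal.mul_mem_left _ _ hxQ, fun h => ?_⟩
      rcases Ideal.IsPrime.mem_or_mem hPprime h with h1 | h1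
      · exact hrP (Ideal.IsPrime.mem_of_pow_mem hPprime _ h1)
      · exact hxP h1
    have hlt := Ideal.comap_lt_comap_of_integral_mem_sdiff hPQ₀ hy hm
    have h1 : (P.asIdeal.comap (algebraMap S (Localization.AtPrime q))).comap (algebraMap R S) =
        (Q.asIdeal.comap (algebraMap S (Localization.AtPrime q))).comap (algebraMap R S) := by
      have h2 := congrArg (fun Z : PrimeSpectrum (Localization.AtPrime (q.under R)) =>
        Z.asIdeal.comap (algebraMap R (Localization.AtPrime (q.under R)))) heq
      simp only [PrimeSpectrum.comap_asIdeal, Ideal.comap_comap, hg] at h2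
      rw [Ideal.comap_comap, Ideal.comap_comap]
      exact h2
    exact hlt.ne h1

end Groth.Agent.S0401
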