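import Groth.Statements.S0403
import Groth.Agent.Lib.Chev4_helper8
import Groth.Agent.Lib.TopDimLoc_helper8

set_option autoImplicit false
universe u
open FlatMor

namespace Groth.Agent.S0403

open AlgebraicGeometry CategoryTheory Limits in
/-- For a proper morphism the dimension of the fibre is an upper semicontinuous function on the target:
for every bound the set of points whose fibre has dimension at most that bound is open. -/
theorem result {X S : Scheme.{u}} (f : X ⟶ S) [IsProper f] (c : WithBot ℕ∞) :
    IsOpen {s : S | topologicalKrullDim (f.fiber s) ≤ c} := by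
  have hcl : IsClosedMap f := f.isClosedMap
  induction c with
  | bot =>
    have : {s : S | topologicalKrullDim (f.fiber s) ≤ ⊥} = (Set.range f)ᶜ := by
      ext s
      simp only [Set.mem_ofPred_eq, le_bot_iff, Set.mem_compl_iff, Set.mem_range, not_exists]
      constructor
      · intro h x hx
        exact TopDimLocH8.topDim_ne_bot (f.fiber s) ((f.fiberHomeo s).symm ⟨x, hx⟩) h
      · intro h
        haveI : IsEmpty ↥(f.fiber s) :=
          ⟨fun z => h (f.fiberι s z) (Groth.Agent.FibRes2H8.fiberι_mem f s z)⟩
        exact TopDimLocH8.topDim_eq_bot_of_isEmpty (f.fiber s)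
    rw [this]
    exact (hcl.isClosed_range).isOpen_compl
  | coe c =>
    induction c with
    | top =>
      have : {s : S | topologicalKrullDim (f.fiber s) ≤ ((⊤ : ℕ∞) : WithBot ℕ∞)} = Set.univ := by
        ext s
        simp only [Set.mem_ofPred_eq, Set.mem_univ, iff_true]
        exact le_top
      rw [this]; exact isOpen_univ
    | coe n =>
      have : {s : S | topologicalKrullDim (f.fiber s) ≤ ((n : ℕ∞) : WithBot ℕ∞)} =
          (f '' {x : X | FlatMor.fibreDimAt f x ≤ (n : WithBot ℕ∞)}ᶜ)ᶜ := by
        ext s
        simp only [Set.mem_ofPred_eq, Set.mem_compl_iff, Set.mem_image, not_exists, not_and]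
        rw [TopDimLocH8.topDim_le_iff_forall_localDim]
        constructor
        · intro h x hx hxs
          apply hx
          have := h ((f.fiberHomeo s).symm ⟨x, hxs⟩)
          rw [FieldExtH8.localDim_fiber_eq_fibreDimAt f s _ x (f.fiberι_fiberHomeo_symm _ _)] at this
          exact_mod_cast this
        · intro h z
          rw [FieldExtH8.localDim_fiber_eq_fibreDimAt f s z (f.fiberι s z) rfl]
          by_contra hcon
          exact h (f.fiberι s z) (fun h' => hcon (by exact_mod_cast h'))
            (Groth.Agent.FibRes2H8.fiberι_mem f s z)
      rw [this]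
      exact (hcl _ (ChevH8.isOpen_fibreDimAt_le f n).isClosed_compl).isOpen_compl

end Groth.Agent.S0403
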