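import Groth.Statements.S0408
import Groth.Agent.Lib.EtNbhdFin4_helper4

set_option autoImplicit false
universe u
open FlatMor

namespace Groth.Agent.S0408

open AlgebraicGeometry CategoryTheory Limits in
/-- Étale localization of a quasi-finite point (one-point case): for f separated and locally of finite
type and x isolated in its fibre, after base change along an étale morphism g with a point u over
f(x) having the same residue field, the base change splits off an open and closed piece V, finite
over the base, whose fibre over u is a single point v lying over x with the same residue field as x,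
and no other point over u lies over x. -/
theorem result {X S : Scheme.{u}} (f : X ⟶ S) [LocallyOfFiniteType f] [IsSeparated f] (x : X) (hx : f.QuasiFiniteAt x) :
    ∃ (U : Scheme.{u}) (g : U ⟶ S) (u : U), Etale g ∧ g u = f x ∧ Function.Surjective (g.residueFieldMap u) ∧
      ∃ (V : (pullback f g).Opens) (v : ↑(pullback f g)), IsClopen (V : Set ↑(pullback f g)) ∧
        IsFinite (V.ι ≫ pullback.snd f g) ∧ v ∈ V ∧ pullback.fst f g v = x ∧ pullback.snd f g v = u ∧
        Function.Surjective ((pullback.fst f g).residueFieldMap v) ∧
        (∀ w : ↑(pullback f g), pullback.snd f g w = u → (w ∈ V ∨ pullback.fst f g w = x) → w = v) := by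
  obtain ⟨U, g, u, hg, hu, hb, V, v, hvV, hfin, hsnd, huniq, hfst⟩ :=
    Groth.Agent.Lib.EtNbhdFinH4.master f hx
  haveI : IsSeparated (pullback.snd f g) := inferInstance
  have hbv : Function.Bijective (g.residueFieldMap (pullback.snd f g v)) := by
    rw [hsnd]; exact hb
  refine ⟨U, g, u, hg, hu, hb.2, V, v,
    ⟨Groth.Agent.Lib.EtNbhdFinH4.isClosed_of_isFinite _ V hfin, V.2⟩, hfin, hvV, hfst, hsnd,
    (Groth.Agent.Lib.EtNbhdFinH4.residueFieldMap_fst_bijective f g v hbv).2, ?_⟩
  intro w hw h
  rcases h with h | h
  · exact huniq w h hw
  · exact Groth.Agent.Lib.EtNbhdFinH4.eq_of_fst_eq_of_snd_eq f g w v (h.trans hfst.symm)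
      (hw.trans hsnd.symm) hbv

end Groth.Agent.S0408
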