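import Groth.Statements.S0416
import Mathlib

set_option autoImplicit false
universe u
open FlatMor

namespace Groth.Agent.S0416

open AlgebraicGeometry CategoryTheory Limits MorphismProperty

instance : (topologically (fun {α β : Type u} [TopologicalSpace α] [TopologicalSpace β]
    (f : α → β) => IsHomeomorph f) : MorphismProperty Scheme.{u}).IsStableUnderComposition :=
  topologically_isStableUnderComposition _ (fun _ _ hf hg => hg.comp hf)

instance : (FlatMor.IsUnivHomeo : MorphismProperty Scheme.{u}).IsStableUnderComposition := by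
  unfold FlatMor.IsUnivHomeo; infer_instance

instance : (FlatMor.IsUnivHomeo : MorphismProperty Scheme.{u}).IsStableUnderBaseChange := by
  unfold FlatMor.IsUnivHomeo; infer_instance

theorem isUnivHomeo_comp {X Y Z : Scheme.{u}} (g : X ⟶ Y) (h : Y ⟶ Z)
    (hg : FlatMor.IsUnivHomeo g) (hh : FlatMor.IsUnivHomeo h) : FlatMor.IsUnivHomeo (g ≫ h) :=
  MorphismProperty.comp_mem _ g h hg hh

/-- The diagonal of a universal homeomorphism is a universal homeomorphism. -/
theorem isUnivHomeo_diagonal {Y Z : Scheme.{u}} (h : Y ⟶ Z) (hh : FlatMor.IsUnivHomeo h) :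
    FlatMor.IsUnivHomeo (pullback.diagonal h) := by
  haveI : UniversallyInjective h := by
    rw [universallyInjective_eq]
    intro X' Y' i₁ i₂ f' sq
    exact (hh _ _ _ sq).injective
  haveI : Surjective (pullback.diagonal h) := (UniversallyInjective.iff_diagonal h).1 inferInstance
  intro X' Y' i₁ i₂ f' sq
  haveI : IsImmersion f' := MorphismProperty.of_isPullback sq.flip inferInstance
  haveI : Surjective f' := MorphismProperty.of_isPullback sq.flip inferInstance
  exact isHomeomorph_iff_isEmbedding_surjective.2 ⟨f'.isEmbedding, f'.surjective⟩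

open AlgebraicGeometry CategoryTheory Limits in
/-- When a composite of two morphisms is a universal homeomorphism and so is either factor, the
remaining factor is a universal homeomorphism as well. -/
theorem result {X Y Z : Scheme.{u}} (g : X ⟶ Y) (h : Y ⟶ Z) :
    (FlatMor.IsUnivHomeo (g ≫ h) → FlatMor.IsUnivHomeo g → FlatMor.IsUnivHomeo h) ∧
    (FlatMor.IsUnivHomeo (g ≫ h) → FlatMor.IsUnivHomeo h → FlatMor.IsUnivHomeo g) := by
  constructor
  · intro h1 h2 Y' T i₁ t h' sq
    let l := pullback.fst i₁ g
    let s := pullback.snd i₁ g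
    have sq1 : IsPullback l s i₁ g := IsPullback.of_hasPullback i₁ g
    have hl : IsHomeomorph l := h2 _ _ _ sq1
    have big : IsPullback (l ≫ h') s t (g ≫ h) := sq1.paste_horiz sq
    have hlh : IsHomeomorph (l ≫ h') := h1 _ _ _ big
    have e : (⇑(l ≫ h')) = h' ∘ l := by
      rw [Scheme.Hom.comp_base, TopCat.coe_comp]
    rw [e] at hlh
    show IsHomeomorph h'
    have : (h' : Y' → T) = (h' ∘ l) ∘ hl.homeomorph.symm := by
      funext y
      simp only [Function.comp_apply]
      congr 1
      exact (hl.homeomorph.apply_symm_apply y).symm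
    rw [this]
    exact hlh.comp hl.homeomorph.symm.isHomeomorph
  · intro h1 h2
    have e : g = pullback.lift (𝟙 X) g (by simp) ≫ pullback.snd (g ≫ h) h :=
      (pullback.lift_snd _ _ _).symm
    rw [e]
    refine isUnivHomeo_comp _ _ ?_ ?_
    · exact MorphismProperty.of_isPullback (P := FlatMor.IsUnivHomeo)
        (pullback_lift_diagonal_isPullback g h) (isUnivHomeo_diagonal h h2)
    · exact MorphismProperty.pullback_snd (P := FlatMor.IsUnivHomeo) _ _ h1

end Groth.Agent.S0416
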