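import Groth.Statements.S0425
import Groth.Agent.Lib.WeaklyEtale_helper7

set_option autoImplicit false
universe u
open FlatMor

namespace Groth.Agent.S0425

open AlgebraicGeometry CategoryTheory Limits in
/-- A weakly étale universal homeomorphism is an isomorphism. -/
theorem result {X Y : Scheme.{u}} (f : X ⟶ Y) [WeaklyEtale f] (h : FlatMor.IsUnivHomeo f) : IsIso f := by
  have hhomeo : ∀ {X' Y' : Scheme.{u}} (i₁ : X' ⟶ X) (i₂ : Y' ⟶ Y) (f' : X' ⟶ Y'),
      IsPullback f' i₁ i₂ f → IsHomeomorph f' := fun i₁ i₂ f' sq => h _ _ _ sq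
  have hf : IsHomeomorph f := hhomeo (𝟙 X) (𝟙 Y) f (IsPullback.of_id_snd)
  haveI : UniversallyInjective f := by
    rw [universallyInjective_eq]
    intro X' Y' i₁ i₂ f' sq
    exact (hhomeo i₁ i₂ f' sq).injective
  haveI : Surjective (pullback.diagonal f) := (UniversallyInjective.iff_diagonal f).1 inferInstance
  have hΔ : IsHomeomorph (pullback.diagonal f) :=
    ⟨(pullback.diagonal f).continuous, by
      have hemb := (pullback.diagonal f).isEmbedding
      have : Topology.IsOpenEmbedding (pullback.diagonal f) :=
        ⟨hemb, by rw [(pullback.diagonal f).surjective.range_eq]; exact isOpen_univ⟩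
      exact this.isOpenMap, (pullback.diagonal f).isEmbedding.injective,
      (pullback.diagonal f).surjective⟩
  haveI : QuasiCompact (pullback.diagonal f) :=
    ⟨fun U hU hc => hΔ.homeomorph.isCompact_preimage.mpr hc⟩
  haveI : IsIso (pullback.diagonal f) := Flat.isIso_of_surjective_of_mono _
  haveI : Mono f := (pullback.isIso_diagonal_iff f).1 inferInstance
  haveI : Surjective f := ⟨hf.surjective⟩
  haveI : QuasiCompact f := ⟨fun U hU hc => hf.homeomorph.isCompact_preimage.mpr hc⟩
  exact Flat.isIso_of_surjective_of_mono f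

end Groth.Agent.S0425
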