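import Groth.Statements.S0440
import Groth.Agent.Lib.ThickAff5_helper6

set_option autoImplicit false
universe u
open FlatMor

namespace Groth.Agent.S0440

open AlgebraicGeometry CategoryTheory Limits in
/-- If a scheme receives a closed immersion from an affine scheme which is a bijection on points, then
it is itself affine. -/
theorem result {X X' : Scheme.{u}} (t : X ⟶ X') [IsClosedImmersion t] (ht : Function.Surjective t) [IsAffine X] : IsAffine X' := by
  haveI : Surjective t := ⟨ht⟩
  exact Groth.Agent.Lib.ThickAffH6.isAffine_of_thickening t

end Groth.Agent.S0440
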