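import Groth.Statements.S0454
import Groth.Agent.Lib.FreeSheaf_helper2

set_option autoImplicit false
universe u
open CategoryTheory
open CohTop

namespace Groth.Agent.S0454

/-- An injective object of the category of abelian sheaves on a topological space is flasque, i.e. all
of its restriction maps are surjective. -/
theorem result {X : TopCat.{u}} (F : CohTop.Ab X) [CategoryTheory.Injective F] :
    TopCat.Sheaf.IsFlasque F := by
  refine ⟨fun {U V} i => ?_⟩
  rw [AddCommGrpCat.epi_iff_surjective]
  have hm : Mono i.unop := ⟨fun a b _ => Subsingleton.elim _ _⟩
  exact Groth.Agent.Lib.FreeSheaf.surjective_map_of_injective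
    (Opens.grothendieckTopology X) F i.unop

end Groth.Agent.S0454
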