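import Groth.Statements.S0455
import Mathlib
import Groth.Agent.Lib.CechFlasque_helper2

set_option autoImplicit false
universe u
open CategoryTheory
open CohTop

namespace Groth.Agent.S0455

open TopologicalSpace CategoryTheory.Limits in
/-- If F is a flasque abelian sheaf on X, then for any family of opens the Cech cohomology groups of F
in positive degree are zero. -/
theorem result {X : TopCat.{u}} (F : CohTop.Ab X) [TopCat.Sheaf.IsFlasque F]
    {ι : Type u} (U : ι → Opens X) (p : ℕ) : IsZero (CohTop.cechH F.obj U (p + 1)) := by
  exact Groth.Agent.Lib.Cech.isZero_cechH_of_surjHyp (Groth.Agent.Lib.Cech.surjHyp_of_isFlasque F U) p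

end Groth.Agent.S0455
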