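import Groth.Statements.S0480
import Mathlib.Algebra.Homology.HomotopyCategory.MappingCone

set_option autoImplicit false
universe v u
open CategoryTheory
open CohDer

namespace Groth.Agent.S0480

open CategoryTheory.Limits in
/-- In an abelian category, if the product of a family of K-injective cochain complexes exists (it is
then the termwise product), it is again K-injective. -/
theorem result {A : Type u} [Category.{v} A] [Abelian A] {T : Type v} (I : T → CochainComplex A ℤ)
    [HasProduct I] (h : ∀ t, (I t).IsKInjective) : (∏ᶜ I).IsKInjective := by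
  refine ⟨fun {K} f hK => ?_⟩
  have ht : ∀ t, Homotopy (f ≫ Pi.π I t) 0 := fun t => ((h t).nonempty_homotopy_zero _ hK).some
  let g : ∀ t, CochainComplex.mappingCone (𝟙 K) ⟶ I t := fun t =>
    CochainComplex.mappingCone.desc (𝟙 K) (CochainComplex.HomComplex.Cochain.ofHomotopy (ht t))
      (f ≫ Pi.π I t) (by
        rw [CochainComplex.HomComplex.δ_ofHomotopy, Category.id_comp]
        simp)
  have hg : ∀ t, CochainComplex.mappingCone.inr (𝟙 K) ≫ g t = f ≫ Pi.π I t := fun t =>
    CochainComplex.mappingCone.inr_desc _ _ _ _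
  have hG : CochainComplex.mappingCone.inr (𝟙 K) ≫ Pi.lift g = f := by
    apply Pi.hom_ext
    intro t
    rw [Category.assoc, Pi.lift_π, hg]
  have h0 : Homotopy (𝟙 K ≫ CochainComplex.mappingCone.inr (𝟙 K)) 0 :=
    (CochainComplex.HomComplex.Cochain.equivHomotopy _ _).symm
      ⟨CochainComplex.mappingCone.inl (𝟙 K), by
        rw [CochainComplex.mappingCone.δ_inl]
        simp⟩
  refine ⟨(Homotopy.ofEq ?_).trans ((h0.compRight (Pi.lift g)).trans (Homotopy.ofEq ?_))⟩
  · rw [Category.id_comp, hG]
  · rw [Limits.zero_comp]

end Groth.Agent.S0480
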