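import Groth.Statements.S0481
import Mathlib.Algebra.Homology.ShortComplex.ExactFunctor

set_option autoImplicit false
universe v u
open CategoryTheory
open CohDer

namespace Groth.Agent.S0481

open CategoryTheory.Limits in
/-- Let u : A ⥤ B be right adjoint to an exact additive functor w : B ⥤ A between abelian categories.
Then u applied termwise sends K-injective complexes to K-injective complexes. -/
theorem result {A : Type u} [Category.{v} A] [Abelian A]
    {B : Type u} [Category.{v} B] [Abelian B] (u : A ⥤ B) (w : B ⥤ A) (adj : w ⊣ u)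
    [u.Additive] [w.Additive] [PreservesFiniteLimits w] [PreservesFiniteColimits w]
    (I : CochainComplex A ℤ) (h : I.IsKInjective) :
    CochainComplex.IsKInjective ((u.mapHomologicalComplex (ComplexShape.up ℤ)).obj I) := by
  refine ⟨fun {K} f hK => ?_⟩
  have hwK : ((w.mapHomologicalComplex (ComplexShape.up ℤ)).obj K).Acyclic := by
    intro n
    have h := hK n
    rw [HomologicalComplex.exactAt_iff] at h ⊢
    exact h.map w
  obtain ⟨η, hη⟩ : ∃ η : ∀ X : B, X ⟶ u.obj (w.obj X), ∀ X, η X = adj.unit.app X := ⟨_, fun _ => rfl⟩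
  obtain ⟨ε, hε⟩ : ∃ ε : ∀ Y : A, w.obj (u.obj Y) ⟶ Y, ∀ Y, ε Y = adj.counit.app Y :=
    ⟨_, fun _ => rfl⟩
  have ηnat : ∀ {X Y : B} (a : X ⟶ Y), a ≫ η Y = η X ≫ u.map (w.map a) := fun a => by
    rw [hη, hη]; exact adj.unit.naturality a
  have εnat : ∀ {X Y : A} (a : X ⟶ Y), w.map (u.map a) ≫ ε Y = ε X ≫ a := fun a => by
    rw [hε, hε]; exact adj.counit.naturality a
  have tri : ∀ Y : A, η (u.obj Y) ≫ u.map (ε Y) = 𝟙 _ := fun Y => by
    rw [hη, hε]; exact adj.right_triangle_components Y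
  have hφ' : ∀ i : ℤ, ∃ φ : K.X i ⟶ u.obj (I.X i), φ = f.f i := fun i => ⟨_, rfl⟩
  choose φ hφ using hφ'
  have hf : ∀ i j : ℤ, φ i ≫ u.map (I.d i j) = K.d i j ≫ φ j := fun i j => by
    rw [hφ, hφ]
    exact f.comm i j
  let f' : (w.mapHomologicalComplex (ComplexShape.up ℤ)).obj K ⟶ I :=
    { f := fun n => w.map (φ n) ≫ ε (I.X n)
      comm' := fun i j _ => by
        show (w.map (φ i) ≫ ε (I.X i)) ≫ I.d i j = w.map (K.d i j) ≫ w.map (φ j) ≫ ε (I.X j)
        rw [Category.assoc, ← εnat, ← Category.assoc, ← w.map_comp, hf, w.map_comp,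
          Category.assoc] }
  obtain ⟨h'⟩ := h.nonempty_homotopy_zero f' hwK
  have hh : ∀ i j : ℤ, ∃ g : w.obj (K.X i) ⟶ I.X j, g = h'.hom i j := fun i j => ⟨_, rfl⟩
  choose g hg using hh
  have hc : ∀ i : ℤ, w.map (φ i) ≫ ε (I.X i) =
      w.map (K.d i (i + 1)) ≫ g (i + 1) i + g i (i - 1) ≫ I.d (i - 1) i := by
    intro i
    have hc := h'.comm i
    rw [dNext_eq _ (show (ComplexShape.up ℤ).Rel i (i + 1) from rfl),
      prevD_eq _ (show (ComplexShape.up ℤ).Rel (i - 1) i by simp), HomologicalComplex.zero_f,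
      add_zero] at hc
    rw [hg, hg]
    exact hc
  have hg0 : ∀ i j : ℤ, ¬ (ComplexShape.up ℤ).Rel j i → g i j = 0 := fun i j hij => by
    rw [hg]; exact h'.zero i j hij
  refine ⟨{ hom := fun i j => η (K.X i) ≫ u.map (g i j)
            zero := fun i j hij => by
              rw [hg0 i j hij, u.map_zero]
              exact Limits.comp_zero
            comm := fun i => ?_ }⟩
  rw [dNext_eq _ (show (ComplexShape.up ℤ).Rel i (i + 1) from rfl),
    prevD_eq _ (show (ComplexShape.up ℤ).Rel (i - 1) i by simp)]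
  have e1 : φ i = η (K.X i) ≫ u.map (w.map (φ i) ≫ ε (I.X i)) := by
    rw [u.map_comp, ← Category.assoc, ← ηnat, Category.assoc, tri, Category.comp_id]
  rw [← hφ]
  show φ i = K.d i (i + 1) ≫ η (K.X (i + 1)) ≫ u.map (g (i + 1) i) +
    (η (K.X i) ≫ u.map (g i (i - 1))) ≫ u.map (I.d (i - 1) i) + 0
  rw [e1, hc, add_zero, u.map_add, Preadditive.comp_add, u.map_comp, u.map_comp,
    ← Category.assoc (K.d i (i + 1)), ηnat]
  simp only [Category.assoc]

end Groth.Agent.S0481
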