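import Groth.Statements.S0488
import Mathlib
import Groth.Agent.S0481
import Groth.Agent.Lib.ExtZero_helper9

set_option autoImplicit false
universe u
open CohTop

namespace Groth.Agent.S0488

open TopologicalSpace in
/-- For an open U of X, restriction to U sends K-injective complexes of abelian sheaves on X to
K-injective complexes on U. -/
theorem result {X : TopCat.{u}} (U : Opens X) (I : CochainComplex (CohTop.Ab X) ℤ)
    (h : I.IsKInjective) :
    CochainComplex.IsKInjective (((CohTop.restrFunctor U).mapHomologicalComplex (ComplexShape.up ℤ)).obj I) := by
  exact Groth.Agent.S0481.result (CohTop.restrFunctor U) (ExtZero.Lsh U) (ExtZero.adj U) I h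

end Groth.Agent.S0488
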