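import Groth.Statements.S0490
import Mathlib.CategoryTheory.Triangulated.Orthogonal
import Mathlib.CategoryTheory.Adjunction.Comma

set_option autoImplicit false
universe v u
open CategoryTheory
open CohDer

namespace Groth.Agent.S0490

open CategoryTheory.Pretriangulated in
/-- Let A be a full triangulated subcategory of a pretriangulated category D (an object property
containing zero, stable under shifts and closed under extensions). The inclusion A → D is a left
adjoint (i.e. has a right adjoint) if and only if every object X of D fits in a distinguished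
triangle A → X → B → A[1] with A in the subcategory and B right orthogonal to it. (The source's
further conclusions about saturation are not asserted.) -/
theorem result {D : Type u} [Category.{v} D] [Preadditive D] [Limits.HasZeroObject D] [HasShift D ℤ]
    [∀ n : ℤ, (shiftFunctor D n).Additive] [Pretriangulated D]
    (P : ObjectProperty D) [P.IsTriangulated] :
    P.ι.IsLeftAdjoint ↔ ∀ X : D, ∃ (A B : D) (f : A ⟶ X) (g : X ⟶ B) (h : B ⟶ (shiftFunctor D (1 : ℤ)).obj A),
      Triangle.mk f g h ∈ distinguishedTriangles ∧ P A ∧ P.rightOrthogonal B := by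
  constructor
  · intro hL X
    let adj := Adjunction.ofIsLeftAdjoint P.ι
    obtain ⟨ε, hε⟩ : ∃ ε : (P.ι.rightAdjoint.obj X).obj ⟶ X, ε = adj.counit.app X := ⟨_, rfl⟩
    have h1 : ∀ (c : D) (hc : P c) (χ : c ⟶ X), ∃ χ' : c ⟶ (P.ι.rightAdjoint.obj X).obj,
        χ' ≫ ε = χ := by
      intro c hc χ
      refine ⟨(adj.homEquiv (⟨c, hc⟩ : P.FullSubcategory) X χ).hom, ?_⟩
      have := (adj.homEquiv (⟨c, hc⟩ : P.FullSubcategory) X).symm_apply_apply χ
      rw [Adjunction.homEquiv_counit] at this
      rw [hε]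
      exact this
    have h2 : ∀ (c : D) (hc : P c) (ψ : c ⟶ (P.ι.rightAdjoint.obj X).obj), ψ ≫ ε = 0 → ψ = 0 := by
      intro c hc ψ hψ
      have e1 : (adj.homEquiv (⟨c, hc⟩ : P.FullSubcategory) X).symm (ObjectProperty.homMk ψ) =
          (adj.homEquiv (⟨c, hc⟩ : P.FullSubcategory) X).symm 0 := by
        rw [Adjunction.homEquiv_counit, Adjunction.homEquiv_counit, P.ι.map_zero, Limits.zero_comp]
        rw [← hε]
        exact hψ
      have e2 := (adj.homEquiv (⟨c, hc⟩ : P.FullSubcategory) X).symm.injective e1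
      have e3 := congrArg (fun k => P.ι.map k) e2
      simpa using e3
    obtain ⟨B, g, h, hT⟩ := distinguished_cocone_triangle ε
    refine ⟨(P.ι.rightAdjoint.obj X).obj, B, ε, g, h, hT, (P.ι.rightAdjoint.obj X).property, ?_⟩
    intro c φ hc
    have s1 : φ ≫ h = 0 := by
      have hc' : P ((shiftFunctor D (-1 : ℤ)).obj c) := P.le_shift (-1 : ℤ) _ hc
      let e : (shiftFunctor D (1 : ℤ)).obj ((shiftFunctor D (-1 : ℤ)).obj c) ≅ c :=
        (shiftFunctorCompIsoId D (-1 : ℤ) 1 (by norm_num)).app c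
      obtain ⟨ψ', hψ'⟩ := (shiftFunctor D (1 : ℤ)).map_surjective (e.hom ≫ φ ≫ h)
      have z1 : ψ' ≫ ε = 0 := by
        apply (shiftFunctor D (1 : ℤ)).map_injective
        rw [Functor.map_comp, hψ', Functor.map_zero, Category.assoc, Category.assoc]
        have : h ≫ (shiftFunctor D (1 : ℤ)).map ε = 0 := comp_distTriang_mor_zero₃₁ _ hT
        rw [this, Limits.comp_zero, Limits.comp_zero]
      have z2 := h2 _ hc' ψ' z1
      rw [z2, Functor.map_zero] at hψ'
      rw [← cancel_epi e.hom, ← hψ', Limits.comp_zero]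
    obtain ⟨χ, hχ⟩ := Triangle.coyoneda_exact₃ _ hT φ s1
    obtain ⟨χ', rfl⟩ := h1 c hc χ
    have : ε ≫ g = 0 := comp_distTriang_mor_zero₁₂ _ hT
    have hχ' : φ = (χ' ≫ ε) ≫ g := hχ
    rw [hχ', Category.assoc, this, Limits.comp_zero]
  · intro hdec
    rw [isLeftAdjoint_iff_hasTerminal_costructuredArrow]
    intro X
    obtain ⟨a, b, f, g, h, hT, ha, hb⟩ := hdec X
    have key : ∀ (c : D) (hc : P c) (φ : c ⟶ X), ∃! ψ : c ⟶ a, ψ ≫ f = φ := by
      intro c hc φ
      obtain ⟨ψ, hψ⟩ : ∃ ψ : c ⟶ a, φ = ψ ≫ f := Triangle.coyoneda_exact₂ _ hT φ (hb (φ ≫ g) hc)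
      refine ⟨ψ, hψ.symm, ?_⟩
      intro ψ₂ hψ₂
      have hz : (ψ₂ - ψ) ≫ f = 0 := by
        rw [Preadditive.sub_comp, hψ₂, ← hψ, sub_self]
      obtain ⟨χ, hχ⟩ := Triangle.coyoneda_exact₂ _ (inv_rot_of_distTriang _ hT) (ψ₂ - ψ) hz
      have hb' : P.rightOrthogonal ((shiftFunctor D (-1 : ℤ)).obj b) :=
        P.rightOrthogonal.le_shift (-1 : ℤ) _ hb
      have : χ = 0 := hb' χ hc
      rw [this, Limits.zero_comp] at hχ
      exact sub_eq_zero.mp hχ
    let T : CostructuredArrow P.ι X := CostructuredArrow.mk (Y := (⟨a, ha⟩ : P.FullSubcategory)) f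
    refine (Limits.IsTerminal.hasTerminal (X := T) ?_)
    refine Limits.IsTerminal.ofUniqueHom
      (fun Y => CostructuredArrow.homMk
        (ObjectProperty.homMk (key Y.left.obj Y.left.property Y.hom).choose)
        (key Y.left.obj Y.left.property Y.hom).choose_spec.1) ?_
    intro Y m
    ext
    have := (key Y.left.obj Y.left.property Y.hom).choose_spec.2 m.left.hom (CostructuredArrow.w m)
    exact this

end Groth.Agent.S0490
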