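import Groth.Statements.S0905
import Groth.Agent.Lib.FreeSheaf_helper2
import Mathlib.CategoryTheory.Sites.EpiMono
import Mathlib.Algebra.Homology.ShortComplex.ExactFunctor
import Mathlib.Algebra.Homology.DerivedCategory.Ext.EnoughProjectives

set_option autoImplicit false
universe u
open CategoryTheory
open CohSite

namespace Groth.Agent.S0905

open Opposite CategoryTheory.Limits in
/-- sections over a weakly contractible object send epimorphisms to surjections -/
lemma surj_of_epi {C : Type u} [SmallCategory C] (J : GrothendieckTopology C)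
    (U : C) (hU : CohSite.IsWeaklyContractible J U) {F G : Sheaf J AddCommGrpCat.{u}} (φ : F ⟶ G)
    [Epi φ] : Function.Surjective (φ.hom.app (op U)) := by
  have h1 : Sheaf.IsLocallySurjective φ := (Sheaf.isLocallySurjective_iff_epi' (φ := φ)).2 inferInstance
  have h2 : Epi ((sheafCompose J (forget AddCommGrpCat.{u})).map φ) := inferInstance
  exact hU _ _ _ h2


open Opposite CategoryTheory.Limits in
/-- Parts (1) and (2), for a weakly contractible object U of a site (one over which every epimorphism of
sheaves of sets is surjective on sections): (1) the functor F ↦ F(U) from abelian sheaves to abelian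
groups preserves finite colimits (it is exact, finite limits being automatic), and (2) H^p(U, F) = 0
for every abelian sheaf F and every p > 0. (Part (3) about torsors is not included.) -/
theorem result {C : Type u} [SmallCategory C] (J : GrothendieckTopology C)
    (U : C) (hU : CohSite.IsWeaklyContractible J U) :
    PreservesFiniteColimits (sheafToPresheaf J AddCommGrpCat.{u} ⋙ (evaluation Cᵒᵖ AddCommGrpCat.{u}).obj (op U)) ∧
    ∀ (F : Sheaf J AddCommGrpCat.{u}) (p : ℕ), Subsingleton (CohSite.HU F (p + 1) U) := by
  constructor
  · let Γ := sheafToPresheaf J AddCommGrpCat.{u} ⋙ (evaluation Cᵒᵖ AddCommGrpCat.{u}).obj (op U)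
    show PreservesFiniteColimits Γ
    have hl : PreservesFiniteLimits Γ := inferInstance
    rw [Functor.preservesFiniteColimits_iff_forall_exact_map_and_epi]
    intro S hS
    refine ⟨((Functor.preservesFiniteLimits_iff_forall_exact_map_and_mono Γ).1 hl S hS).1, ?_⟩
    have := hS.epi_g
    show Epi (S.g.hom.app (op U))
    rw [AddCommGrpCat.epi_iff_surjective]
    exact surj_of_epi J U hU S.g
  · intro F p
    have hproj : Projective (Groth.Agent.Lib.FreeSheaf.freeSheaf J U) := ⟨fun {E X} f e he => by
      obtain ⟨t, ht⟩ := surj_of_epi J U hU e (Groth.Agent.Lib.FreeSheaf.freeSheafHomEquiv J U X f)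
      refine ⟨(Groth.Agent.Lib.FreeSheaf.freeSheafHomEquiv J U E).symm t, ?_⟩
      apply (Groth.Agent.Lib.FreeSheaf.freeSheafHomEquiv J U X).injective
      rw [Groth.Agent.Lib.FreeSheaf.freeSheafHomEquiv_comp, Equiv.apply_symm_apply]
      exact ht⟩
    refine ⟨fun a b => ?_⟩
    have h : ∀ ξ : Abelian.Ext (Groth.Agent.Lib.FreeSheaf.freeSheaf J U) F (p + 1), ξ = 0 :=
      fun ξ => Abelian.Ext.eq_zero_of_projective ξ
    exact (h a).trans (h b).symm

end Groth.Agent.S0905
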