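import Groth.Statements.S0492
import Mathlib
import Groth.Agent.S0905

set_option autoImplicit false
universe u
open CategoryTheory
open CohSite

namespace Groth.Agent.S0492

open Opposite CategoryTheory.Limits in
/-- products of epimorphisms are epimorphisms when there are enough weakly contractible objects -/
lemma epi_limMap {C : Type u} [SmallCategory C] (J : GrothendieckTopology C)
    (B : Set C) (hB : ∀ U ∈ B, CohSite.IsWeaklyContractible J U)
    (hcov : ∀ V : C, ∃ (ι : Type u) (U : ι → C) (f : ∀ i, U i ⟶ V), (∀ i, U i ∈ B) ∧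
      Sieve.ofArrows U f ∈ J V)
    {ι : Type u} {X Q : Discrete ι ⥤ Sheaf J AddCommGrpCat.{u}} (f : X ⟶ Q) [Epi f] :
    Epi (lim.map f) := by
  haveI : ∀ i, Epi (f.app i) := fun i => inferInstance
  have hsurj : ∀ U ∈ B, Function.Surjective ((lim.map f).hom.app (op U)) := by
    intro U hU
    let Γ : Sheaf J AddCommGrpCat.{u} ⥤ AddCommGrpCat.{u} :=
      sheafToPresheaf J AddCommGrpCat.{u} ⋙ (evaluation Cᵒᵖ AddCommGrpCat.{u}).obj (op U)
    haveI : PreservesLimitsOfShape (Discrete ι) Γ := inferInstance
    have hnat := (preservesLimitNatIso (J := Discrete ι) Γ).hom.naturality f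
    haveI : Epi (((Functor.whiskeringRight (Discrete ι) _ _).obj Γ).map f) := by
      haveI : ∀ i, Epi ((((Functor.whiskeringRight (Discrete ι) _ _).obj Γ).map f).app i) := by
        intro i
        show Epi ((f.app i).hom.app (op U))
        rw [AddCommGrpCat.epi_iff_surjective]
        exact Groth.Agent.S0905.surj_of_epi J U (hB U hU) (f.app i)
      exact NatTrans.epi_of_epi_app _
    haveI : PreservesFiniteColimits (lim (J := Discrete ι) (C := AddCommGrpCat.{u})) :=
      HasExactLimitsOfShape.preservesFiniteColimits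
    haveI : (lim (J := Discrete ι) (C := AddCommGrpCat.{u})).PreservesEpimorphisms := inferInstance
    haveI h0 : Epi (((Functor.whiskeringRight (Discrete ι) _ _).obj Γ ⋙ lim).map f) :=
      (lim (J := Discrete ι) (C := AddCommGrpCat.{u})).map_epi _
    have h1 : Epi ((lim ⋙ Γ).map f ≫ (preservesLimitNatIso (J := Discrete ι) Γ).hom.app Q) := by
      rw [hnat]
      exact epi_comp _ _
    have h3 : Epi (((lim ⋙ Γ).map f ≫ (preservesLimitNatIso (J := Discrete ι) Γ).hom.app Q) ≫
        (preservesLimitNatIso (J := Discrete ι) Γ).inv.app Q) := epi_comp _ _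
    rw [Category.assoc, Iso.hom_inv_id_app, Category.comp_id] at h3
    exact (AddCommGrpCat.epi_iff_surjective _).1 h3
  rw [← Sheaf.isLocallySurjective_iff_epi']
  refine ⟨fun {V} s => ?_⟩
  obtain ⟨κ, U, g, hUB, hc⟩ := hcov V
  refine J.superset_covering ?_ hc
  rw [Sieve.ofArrows, Sieve.generate_le_iff]
  rintro _ _ ⟨i⟩
  obtain ⟨t, ht⟩ := hsurj (U i) (hUB i)
    (((lim (J := Discrete ι) (C := Sheaf J AddCommGrpCat.{u})).obj Q).obj.map (g i).op s)
  exact ⟨t, ht⟩


open CategoryTheory.Limits in
/-- Part (4), for sheaves of abelian groups: let B be a set of weakly contractible objects of a small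
site such that every object admits a covering family by members of B. Then products in the category
of abelian sheaves are exact (Grothendieck's AB4*). -/
theorem result {C : Type u} [SmallCategory C] (J : GrothendieckTopology C)
    (B : Set C) (hB : ∀ U ∈ B, CohSite.IsWeaklyContractible J U)
    (hcov : ∀ V : C, ∃ (ι : Type u) (U : ι → C) (f : ∀ i, U i ⟶ V), (∀ i, U i ∈ B) ∧ Sieve.ofArrows U f ∈ J V) :
    AB4Star (Sheaf J AddCommGrpCat.{u}) := by
  refine ⟨fun ι => ?_⟩
  haveI : (lim (J := Discrete ι) (C := Sheaf J AddCommGrpCat.{u})).PreservesEpimorphisms :=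
    ⟨fun {X Y} f hf => epi_limMap J B hB hcov f⟩
  exact hasExactLimitsOfShape_of_preservesEpi _ _

end Groth.Agent.S0492
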