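import Groth.Statements.S0495
import Mathlib.RingTheory.KrullDimension.Zero

set_option autoImplicit false
universe u
open Hensel

namespace Groth.Agent.S0495

/-- a nilpotent ideal is adically complete -/
lemma isAdicComplete_of_pow_eq_bot {R : Type*} [CommRing R] (I : Ideal R) (N : ℕ)
    (hN : I ^ N = ⊥) : IsAdicComplete I R := by
  have hbot : (I ^ N • ⊤ : Submodule R R) = ⊥ := by
    rw [hN]; simp
  refine { haus' := ?_, prec' := ?_ }
  · intro x hx
    have := hx N
    rw [hbot] at this
    simpa [SModEq.bot] using this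
  · intro f hf
    refine ⟨f N, fun n => ?_⟩
    by_cases hn : n ≤ N
    · exact hf hn
    · have h1 := hf (le_of_not_ge hn)
      rw [hbot, SModEq.bot] at h1
      rw [h1]


/-- A local ring whose Krull dimension is zero is henselian. -/
theorem result (R : Type u) [CommRing R] [IsLocalRing R]
    (h : ringKrullDim R = 0) : HenselianLocalRing R := by
  have hdim : Ring.KrullDimLE 0 R := ringKrullDimZero_iff_ringKrullDim_eq_zero.2 h
  have hnil : ∀ x : R, IsNilpotent x ↔ ¬ IsUnit x :=
    ((Ring.krullDimLE_zero_and_isLocalRing_tfae R).out 0 2 rfl rfl).mp ⟨hdim, inferInstance⟩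
  refine { is_henselian := ?_ }
  intro f hf a₀ h₁ h₂
  have hx : IsNilpotent (f.eval a₀) := (hnil _).2 ((IsLocalRing.mem_maximalIdeal _).1 h₁)
  obtain ⟨N, hN⟩ := hx
  let I : Ideal R := Ideal.span {f.eval a₀}
  have hIN : I ^ N = ⊥ := by
    rw [Ideal.span_singleton_pow, hN]
    simp
  haveI : IsAdicComplete I R := isAdicComplete_of_pow_eq_bot I N hIN
  obtain ⟨a, ha, ha'⟩ := HenselianRing.is_henselian (I := I) f hf a₀
    (Ideal.subset_span (Set.mem_singleton _)) (h₂.map _)
  refine ⟨a, ha, ?_⟩
  have hI : I ≤ IsLocalRing.maximalIdeal R := by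
    rw [Ideal.span_le]
    intro y hy
    rw [Set.mem_singleton_iff] at hy
    rw [hy]
    exact h₁
  exact hI ha'

end Groth.Agent.S0495
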