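import Groth.Statements.S0496
import Mathlib

set_option autoImplicit false
universe u
open Hensel

namespace Groth.Agent.S0496

/-- If every factorization of the reduction of a monic polynomial into two coprime factors over the
residue field lifts to a factorization over the local ring, then the local ring is henselian. -/
theorem result (R : Type u) [CommRing R] [IsLocalRing R]
    (h : ∀ f : Polynomial R, f.Monic →
      ∀ g₀ h₀ : Polynomial (IsLocalRing.ResidueField R), IsCoprime g₀ h₀ →
      Polynomial.map (IsLocalRing.residue R) f = g₀ * h₀ →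
      ∃ g h : Polynomial R, f = g * h ∧ Polynomial.map (IsLocalRing.residue R) g = g₀ ∧
        Polynomial.map (IsLocalRing.residue R) h = h₀) :
    HenselianLocalRing R := by
  classical
  have key : ∀ f : Polynomial R, f.Monic → ∀ a₀ : IsLocalRing.ResidueField R,
      Polynomial.aeval a₀ f = 0 → Polynomial.aeval a₀ (Polynomial.derivative f) ≠ 0 →
      ∃ a : R, f.IsRoot a ∧ IsLocalRing.residue R a = a₀ := by
    intro f hf a₀ h₁ h₂
    have e1 : ∀ P : Polynomial R, Polynomial.aeval a₀ P =
        (P.map (IsLocalRing.residue R)).eval a₀ := by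
      intro P
      rw [Polynomial.eval_map, Polynomial.aeval_def, IsLocalRing.ResidueField.algebraMap_eq]
    rw [e1] at h₁ h₂
    rw [← Polynomial.derivative_map] at h₂
    obtain ⟨h₀, hfac⟩ : ∃ h₀, f.map (IsLocalRing.residue R) =
        (Polynomial.X - Polynomial.C a₀) * h₀ :=
      ⟨_, (Polynomial.mul_divByMonic_eq_iff_isRoot.mpr h₁).symm⟩
    have hh₀a : h₀.eval a₀ ≠ 0 := by
      intro h0
      apply h₂
      rw [hfac, Polynomial.derivative_mul, Polynomial.derivative_sub, Polynomial.derivative_X,
        Polynomial.derivative_C, sub_zero, one_mul, Polynomial.eval_add, Polynomial.eval_mul,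
        Polynomial.eval_sub, Polynomial.eval_X, Polynomial.eval_C, sub_self, zero_mul, add_zero]
      exact h0
    have hcop : IsCoprime (Polynomial.X - Polynomial.C a₀) h₀ := by
      rw [(Polynomial.irreducible_X_sub_C a₀).coprime_iff_not_dvd, Polynomial.dvd_iff_isRoot]
      exact hh₀a
    obtain ⟨g, h', hfgh, hg, hh'⟩ := h f hf (Polynomial.X - Polynomial.C a₀) h₀ hcop hfac
    have hle : Ideal.span {f} ≤ Ideal.span {g} := by
      rw [Ideal.span_le, Set.singleton_subset_iff]
      exact Ideal.mem_span_singleton.mpr ⟨h', hfgh⟩
    have hfin0 : Module.Finite R (Polynomial R ⧸ Ideal.span {f}) := hf.finite_quotient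
    have hfin : Module.Finite R (Polynomial R ⧸ Ideal.span {g}) :=
      Module.Finite.of_surjective (Ideal.Quotient.factorₐ R hle).toLinearMap
        (Ideal.Quotient.factor_surjective hle)
    -- Nakayama
    have hπs : Function.Surjective (Ideal.Quotient.mkₐ R (Ideal.span {g})) :=
      Ideal.Quotient.mkₐ_surjective R _
    have hmk0 : ∀ D : Polynomial R, D.map (IsLocalRing.residue R) = 0 →
        Ideal.Quotient.mkₐ R (Ideal.span {g}) D ∈
          IsLocalRing.maximalIdeal R • (⊤ : Submodule R (Polynomial R ⧸ Ideal.span {g})) := by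
      intro D hD
      have hcoef : ∀ n, D.coeff n ∈ IsLocalRing.maximalIdeal R := by
        intro n
        rw [← IsLocalRing.residue_eq_zero_iff, ← Polynomial.coeff_map, hD, Polynomial.coeff_zero]
      rw [← Polynomial.sum_C_mul_X_pow_eq D, Polynomial.sum_def, map_sum]
      apply Submodule.sum_mem
      intro n _
      rw [← Polynomial.smul_eq_C_mul, map_smul]
      exact Submodule.smul_mem_smul (hcoef n) Submodule.mem_top
    have hN : (⊤ : Submodule R (Polynomial R ⧸ Ideal.span {g})) ≤
        LinearMap.range (Algebra.linearMap R (Polynomial R ⧸ Ideal.span {g})) := by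
      apply Submodule.le_of_le_smul_of_le_jacobson_bot (I := IsLocalRing.maximalIdeal R)
        Module.Finite.fg_top
      · exact IsLocalRing.maximalIdeal_le_jacobson ⊥
      · intro c _
        obtain ⟨P, rfl⟩ := hπs c
        obtain ⟨p₀, hp₀⟩ := IsLocalRing.residue_surjective
          ((P.map (IsLocalRing.residue R)).eval a₀)
        obtain ⟨s, hs⟩ := Polynomial.map_surjective (IsLocalRing.residue R)
          IsLocalRing.residue_surjective ((P.map (IsLocalRing.residue R)) /ₘ
            (Polynomial.X - Polynomial.C a₀))
        have hD : (P - g * s - Polynomial.C p₀).map (IsLocalRing.residue R) = 0 := by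
          rw [Polynomial.map_sub, Polynomial.map_sub, Polynomial.map_mul, Polynomial.map_C, hg, hs,
            hp₀, ← Polynomial.modByMonic_X_sub_C_eq_C_eval]
          have := Polynomial.modByMonic_add_div (P.map (IsLocalRing.residue R))
            (Polynomial.X - Polynomial.C a₀)
          rw [sub_sub, sub_eq_zero, add_comm]
          exact this.symm
        have hdecomp : Ideal.Quotient.mkₐ R (Ideal.span {g}) P =
            Algebra.linearMap R (Polynomial R ⧸ Ideal.span {g}) p₀ +
              Ideal.Quotient.mkₐ R (Ideal.span {g}) (P - g * s - Polynomial.C p₀) := by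
          have hgs : Ideal.Quotient.mkₐ R (Ideal.span {g}) (g * s) = 0 := by
            rw [Ideal.Quotient.mkₐ_eq_mk, Ideal.Quotient.eq_zero_iff_mem]
            exact Ideal.mem_span_singleton.mpr ⟨s, rfl⟩
          have hC : Ideal.Quotient.mkₐ R (Ideal.span {g}) (Polynomial.C p₀) =
              Algebra.linearMap R (Polynomial R ⧸ Ideal.span {g}) p₀ := by
            rw [Algebra.linearMap_apply, ← Polynomial.algebraMap_eq, AlgHom.commutes]
          rw [map_sub, map_sub, hgs, hC]
          ring
        rw [hdecomp]
        exact Submodule.add_mem_sup (LinearMap.mem_range_self _ p₀) (hmk0 _ hD)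
    obtain ⟨a, ha⟩ : Ideal.Quotient.mkₐ R (Ideal.span {g}) Polynomial.X ∈
        LinearMap.range (Algebra.linearMap R (Polynomial R ⧸ Ideal.span {g})) :=
      hN Submodule.mem_top
    have hXa : (Polynomial.X - Polynomial.C a : Polynomial R) ∈ Ideal.span {g} := by
      rw [← Ideal.Quotient.eq_zero_iff_mem, ← Ideal.Quotient.mkₐ_eq_mk R, map_sub, ← ha,
        Algebra.linearMap_apply, ← Polynomial.algebraMap_eq, AlgHom.commutes, sub_self]
    obtain ⟨q, hq⟩ := Ideal.mem_span_singleton.mp hXa
    -- reduce mod m
    have hqm := congrArg (Polynomial.map (IsLocalRing.residue R)) hq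
    rw [Polynomial.map_sub, Polynomial.map_X, Polynomial.map_C, Polynomial.map_mul, hg] at hqm
    have hra : IsLocalRing.residue R a = a₀ := by
      have := congrArg (Polynomial.eval a₀) hqm
      rw [Polynomial.eval_sub, Polynomial.eval_X, Polynomial.eval_C, Polynomial.eval_mul,
        Polynomial.eval_sub, Polynomial.eval_X, Polynomial.eval_C, sub_self, zero_mul,
        sub_eq_zero] at this
      exact this.symm
    rw [hra] at hqm
    have hq1 : q.map (IsLocalRing.residue R) = 1 := by
      have hne : (Polynomial.X - Polynomial.C a₀ : Polynomial (IsLocalRing.ResidueField R)) ≠ 0 :=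
        Polynomial.X_sub_C_ne_zero a₀
      have : (Polynomial.X - Polynomial.C a₀) * (1 : Polynomial (IsLocalRing.ResidueField R)) =
          (Polynomial.X - Polynomial.C a₀) * q.map (IsLocalRing.residue R) := by
        rw [mul_one]; exact hqm
      exact (mul_left_cancel₀ hne this).symm
    have hqa : IsUnit (q.eval a) := by
      rw [← IsLocalRing.residue_ne_zero_iff_isUnit]
      have : IsLocalRing.residue R (q.eval a) = (q.map (IsLocalRing.residue R)).eval a₀ := by
        rw [← hra, Polynomial.eval_map, Polynomial.eval₂_at_apply]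
      rw [this, hq1, Polynomial.eval_one]
      exact one_ne_zero
    have hga : g.eval a = 0 := by
      have := congrArg (Polynomial.eval a) hq
      rw [Polynomial.eval_sub, Polynomial.eval_X, Polynomial.eval_C, sub_self,
        Polynomial.eval_mul] at this
      exact (hqa.mul_left_eq_zero).mp this.symm
    refine ⟨a, ?_, hra⟩
    rw [Polynomial.IsRoot, hfgh, Polynomial.eval_mul, hga, zero_mul]
  exact ((HenselianLocalRing.TFAE R).out 1 0).mp key

end Groth.Agent.S0496
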