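import Groth.Statements.S0498
import Mathlib

set_option autoImplicit false
universe u
open Hensel

namespace Groth.Agent.S0498

/-- Over a henselian local ring, a simple root in the residue field of the reduction of an arbitrary
polynomial (monic or not) lifts to a root in the ring. -/
theorem result (R : Type u) [CommRing R] [HenselianLocalRing R]
    (f : Polynomial R) (a₀ : IsLocalRing.ResidueField R)
    (h₁ : Polynomial.eval₂ (IsLocalRing.residue R) a₀ f = 0)
    (h₂ : Polynomial.eval₂ (IsLocalRing.residue R) a₀ (Polynomial.derivative f) ≠ 0) :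
    ∃ a : R, Polynomial.IsRoot f a ∧ IsLocalRing.residue R a = a₀ := by
  classical
  obtain ⟨b, rfl⟩ := IsLocalRing.residue_surjective a₀
  rw [Polynomial.eval₂_at_apply] at h₁ h₂
  have hc0 : f.eval b ∈ IsLocalRing.maximalIdeal R := (IsLocalRing.residue_eq_zero_iff _).mp h₁
  have hc1 : IsUnit (f.derivative.eval b) := by
    rw [← IsLocalRing.notMem_maximalIdeal]
    intro h
    exact h₂ ((IsLocalRing.residue_eq_zero_iff _).mpr h)
  have unit_of : ∀ y : R, y - 1 ∈ IsLocalRing.maximalIdeal R → IsUnit y := by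
    intro y hy
    rw [← IsLocalRing.notMem_maximalIdeal]
    intro h
    have h1 : (1 : R) ∈ IsLocalRing.maximalIdeal R := by
      have := Ideal.sub_mem _ h hy
      simpa using this
    exact (IsLocalRing.maximalIdeal.isMaximal R).ne_top ((Ideal.eq_top_iff_one _).mpr h1)
  obtain ⟨g, hg⟩ : ∃ g, g = Polynomial.taylor b f := ⟨_, rfl⟩
  have hg0 : g.coeff 0 = f.eval b := by rw [hg]; exact Polynomial.taylor_coeff_zero _ _
  have hg1 : g.coeff 1 = f.derivative.eval b := by rw [hg]; exact Polynomial.taylor_coeff_one _ _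
  obtain ⟨u, hu⟩ := hc1.exists_left_inv
  rw [← hg1] at hu
  obtain ⟨t, ht⟩ : ∃ t, t = -u * g.coeff 0 := ⟨_, rfl⟩
  have htm : t ∈ IsLocalRing.maximalIdeal R := by
    rw [ht, hg0]; exact Ideal.mul_mem_left _ _ hc0
  obtain ⟨d, hd⟩ : ∃ d, d = g.natDegree := ⟨_, rfl⟩
  obtain ⟨E, hE⟩ : ∃ E : ℕ → R, ∀ j, E j = -u * g.coeff (j+1) * t ^ j :=
    ⟨fun j => -u * g.coeff (j+1) * t ^ j, fun j => rfl⟩
  have hE0 : E 0 = -1 := by
    rw [hE]
    simp only [zero_add, pow_zero, mul_one, neg_mul, hu]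
  have hEm : ∀ j, E (j+1) ∈ IsLocalRing.maximalIdeal R := by
    intro j
    rw [hE]
    exact Ideal.mul_mem_left _ _ (Ideal.pow_mem_of_mem _ htm _ (Nat.succ_pos j))
  obtain ⟨r, hr⟩ : ∃ r : Polynomial R, r = Polynomial.X ^ (d+1) +
      ∑ j ∈ Finset.range (d+1), Polynomial.C (E j) * Polynomial.X ^ (d - j) := ⟨_, rfl⟩
  have hmonic : r.Monic := by
    rw [hr]
    apply Polynomial.monic_X_pow_add
    rw [Polynomial.degree_lt_iff_coeff_zero]
    intro m hm
    rw [Polynomial.finset_sum_coeff]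
    apply Finset.sum_eq_zero
    intro k hk
    rw [Polynomial.coeff_C_mul_X_pow, if_neg]
    omega
  have hreval : ∀ y : R, r.eval y = y ^ (d+1) +
      ∑ j ∈ Finset.range (d+1), E j * y ^ (d - j) := by
    intro y
    rw [hr]
    simp [Polynomial.eval_finset_sum]
  have hrder : r.derivative.eval 1 = ((d : R) + 1) +
      ∑ j ∈ Finset.range (d+1), E j * ((d - j : ℕ) : R) := by
    rw [hr]
    simp [Polynomial.derivative_sum, Polynomial.eval_finset_sum, Polynomial.derivative_X_pow]
  have h_eval : r.eval 1 ∈ IsLocalRing.maximalIdeal R := by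
    rw [hreval, Finset.sum_range_succ', hE0]
    simp only [one_pow, mul_one]
    have : (1 : R) + (∑ k ∈ Finset.range d, E (k + 1) + -1) = ∑ k ∈ Finset.range d, E (k + 1) := by
      ring
    rw [this]
    exact Ideal.sum_mem _ (fun k _ => hEm k)
  have h_der : IsUnit (r.derivative.eval 1) := by
    apply unit_of
    rw [hrder, Finset.sum_range_succ', hE0]
    have : ((d : R) + 1) + (∑ k ∈ Finset.range d, E (k + 1) * ((d - (k+1) : ℕ) : R)
        + -1 * ((d - 0 : ℕ) : R)) - 1 = ∑ k ∈ Finset.range d, E (k + 1) * ((d - (k+1) : ℕ) : R) := by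
      simp only [Nat.sub_zero]
      ring
    rw [this]
    exact Ideal.sum_mem _ (fun k _ => Ideal.mul_mem_right _ _ (hEm k))
  obtain ⟨w, hw, hw1⟩ := HenselianLocalRing.is_henselian r hmonic 1 h_eval h_der
  have hwu : IsUnit w := unit_of w hw1
  obtain ⟨z, hz⟩ := hwu.exists_left_inv
  obtain ⟨x, hx⟩ : ∃ x, x = t * z := ⟨_, rfl⟩
  have hxm : x ∈ IsLocalRing.maximalIdeal R := by
    rw [hx]; exact Ideal.mul_mem_right _ _ htm
  have hterm : ∀ j ∈ Finset.range (d+1),
      w^(d+1) * (g.coeff (j+1) * x^(j+1)) = g.coeff 0 * (E j * w^(d-j)) := by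
    intro j hj
    have hj' : j ≤ d := Nat.lt_succ_iff.mp (Finset.mem_range.mp hj)
    have hzw : (z*w)^(j+1) = 1 := by rw [hz, one_pow]
    have hsplit : w^(d+1) = w^(j+1) * w^(d-j) := by
      rw [← pow_add]; congr 1; omega
    calc w^(d+1) * (g.coeff (j+1) * x^(j+1))
        = g.coeff (j+1) * t^(j+1) * ((z*w)^(j+1)) * w^(d-j) := by
          rw [hsplit, hx, mul_pow, mul_pow]; ring
      _ = g.coeff 0 * (E j * w^(d-j)) := by
          rw [hzw, ht, hE, ht]; ring
  have key : w^(d+1) * g.eval x = g.coeff 0 * r.eval w := by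
    rw [Polynomial.eval_eq_sum_range' (show g.natDegree < d + 2 by omega),
      Finset.sum_range_succ', mul_add, Finset.mul_sum, Finset.sum_congr rfl hterm, hreval,
      ← Finset.mul_sum]
    ring
  have hgx : g.eval x = 0 := by
    have h0 : w^(d+1) * g.eval x = 0 := by
      rw [key, hw.eq_zero, mul_zero]
    exact (hwu.pow (d+1)).mul_right_eq_zero.mp h0
  refine ⟨x + b, ?_, ?_⟩
  · show f.eval (x + b) = 0
    rw [← Polynomial.taylor_eval, ← hg, hgx]
  · rw [map_add, (IsLocalRing.residue_eq_zero_iff _).mpr hxm, zero_add]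

end Groth.Agent.S0498
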