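import Groth.Statements.S0501
import Groth.Agent.Lib.EssEt_lead
-- import your own Groth.Agent.* helpers here

set_option autoImplicit false
universe u
open Hensel
set_option maxSynthPendingDepth 3

namespace Groth.Agent.S0501

/-- Let `S` be a henselian local ring over a ring `R`, let `A` be an étale `R`-algebra with a prime `q`,
and let `τ` be a ring map from the residue field of `q` to the residue field of `S` compatible with
the two structure maps from `R`. Then there is exactly one `R`-algebra map from `A` to `S` pulling
the maximal ideal back to `q` and inducing `τ`. -/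
theorem result (R : Type u) [CommRing R]
    (S : Type u) [CommRing S] [HenselianLocalRing S] [Algebra R S]
    (A : Type u) [CommRing A] [Algebra R A] [Algebra.Etale R A] (q : Ideal A) [q.IsPrime]
    (τ : q.ResidueField →+* IsLocalRing.ResidueField S)
    (hτ : τ.comp (algebraMap R q.ResidueField) = (IsLocalRing.residue S).comp (algebraMap R S)) :
    ∃! f : A →ₐ[R] S, Ideal.comap f.toRingHom (IsLocalRing.maximalIdeal S) = q ∧
      ∀ a : A, IsLocalRing.residue S (f a) = τ (algebraMap A q.ResidueField a) := by
  classical
  let ρ : A →ₐ[R] IsLocalRing.ResidueField S :=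
    { toRingHom := τ.comp (algebraMap A q.ResidueField)
      commutes' := fun r => by
        have h1 := congrArg (fun g : R →+* IsLocalRing.ResidueField S => g r) hτ
        simp only [RingHom.comp_apply] at h1
        show τ (algebraMap A q.ResidueField (algebraMap R A r)) = _
        rw [← IsScalarTower.algebraMap_apply R A q.ResidueField, h1]
        rfl }
  have hρa : ∀ a, ρ a = τ (algebraMap A q.ResidueField a) := fun a => rfl
  have hρ : ∀ c, ρ c = 0 ↔ c ∈ q := by
    intro c
    rw [hρa, map_eq_zero_iff _ τ.injective, Ideal.algebraMap_residueField_eq_zero]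
  obtain ⟨φ, hφ⟩ := Groth.Agent.Lib.EssEt.exists_lift_of_henselian (A := R) (C := A) (B := S) q ρ hρ
  refine ⟨φ.comp (IsScalarTower.toAlgHom R A (Localization.AtPrime q)), ⟨?_, ?_⟩, ?_⟩
  · ext a
    rw [Ideal.mem_comap, ← hρ, ← hφ a, ← IsLocalRing.residue_eq_zero_iff]
    rfl
  · intro a
    rw [← hρa, ← hφ a]
    rfl
  · rintro g ⟨-, hg⟩
    apply Groth.Agent.Lib.EssEt.algHom_eq_of_residue_eq
    intro c
    rw [← IsLocalRing.residue_eq_zero_iff, map_sub, hg c, sub_eq_zero, ← hρa, ← hφ c]
    rfl

end Groth.Agent.S0501
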