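import Groth.Statements.S0502
import Mathlib

set_option autoImplicit false
universe u
open Hensel

namespace Groth.Agent.S0502

/-- A local ring `R` is henselian as soon as every étale `R`-algebra having a prime over the maximal
ideal with trivial residue field extension admits an `R`-algebra retraction to `R`. -/
theorem result (R : Type u) [CommRing R] [IsLocalRing R]
    (h : ∀ (S : Type u) [CommRing S] [Algebra R S] [Algebra.Etale R S] (q : Ideal S) [q.IsPrime],
      q.LiesOver (IsLocalRing.maximalIdeal R) → Function.Surjective (algebraMap R q.ResidueField) →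
      Nonempty (S →ₐ[R] R)) :
    HenselianLocalRing R := by
  classical
  refine ((HenselianLocalRing.TFAE R).out 1 0).mp ?_
  intro f hf a₀ h₁ h₂
  have e1 : ∀ P : Polynomial R, Polynomial.aeval a₀ P =
      (P.map (IsLocalRing.residue R)).eval a₀ := by
    intro P
    rw [Polynomial.eval_map, Polynomial.aeval_def, IsLocalRing.ResidueField.algebraMap_eq]
  have h₁' := h₁
  have h₂' := h₂
  rw [e1] at h₁' h₂'
  rw [← Polynomial.derivative_map] at h₂'
  obtain ⟨h₀, hfac⟩ : ∃ h₀, f.map (IsLocalRing.residue R) =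
      (Polynomial.X - Polynomial.C a₀) * h₀ :=
    ⟨_, (Polynomial.mul_divByMonic_eq_iff_isRoot.mpr h₁').symm⟩
  have hh₀a : h₀.eval a₀ ≠ 0 := by
    intro h0
    apply h₂'
    rw [hfac, Polynomial.derivative_mul, Polynomial.derivative_sub, Polynomial.derivative_X,
      Polynomial.derivative_C, sub_zero, one_mul, Polynomial.eval_add, Polynomial.eval_mul,
      Polynomial.eval_sub, Polynomial.eval_X, Polynomial.eval_C, sub_self, zero_mul, add_zero]
    exact h0
  obtain ⟨ht, hht⟩ := Polynomial.map_surjective (IsLocalRing.residue R)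
    IsLocalRing.residue_surjective h₀
  let P : StandardEtalePair R :=
    ⟨f, hf, Polynomial.derivative f * ht, ⟨ht, 0, 1, by ring⟩⟩
  have hmap : P.HasMap a₀ := by
    refine ⟨h₁, ?_⟩
    show IsUnit (Polynomial.aeval a₀ (Polynomial.derivative f * ht))
    rw [map_mul, isUnit_iff_ne_zero]
    refine mul_ne_zero h₂ ?_
    rw [e1, hht]; exact hh₀a
  have hψsurj : Function.Surjective (P.lift a₀ hmap) := by
    intro c
    obtain ⟨r, rfl⟩ := IsLocalRing.residue_surjective c
    exact ⟨algebraMap R P.Ring r, by
      rw [AlgHom.commutes, IsLocalRing.ResidueField.algebraMap_eq]⟩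
  haveI hqmax : (RingHom.ker (P.lift a₀ hmap)).IsMaximal :=
    RingHom.ker_isMaximal_of_surjective (P.lift a₀ hmap) hψsurj
  haveI hqprime : (RingHom.ker (P.lift a₀ hmap)).IsPrime := hqmax.isPrime
  have hlies : (RingHom.ker (P.lift a₀ hmap)).LiesOver (IsLocalRing.maximalIdeal R) := by
    constructor
    ext r
    rw [Ideal.under_def, Ideal.mem_comap, RingHom.mem_ker, AlgHom.commutes,
      IsLocalRing.ResidueField.algebraMap_eq, IsLocalRing.residue_eq_zero_iff]
  have hres : Function.Surjective
      (algebraMap R (RingHom.ker (P.lift a₀ hmap)).ResidueField) := by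
    intro y
    obtain ⟨s, rfl⟩ := Ideal.algebraMap_residueField_surjective (RingHom.ker (P.lift a₀ hmap)) y
    obtain ⟨r, hr⟩ := IsLocalRing.residue_surjective (P.lift a₀ hmap s)
    refine ⟨r, ?_⟩
    rw [IsScalarTower.algebraMap_apply R P.Ring (RingHom.ker (P.lift a₀ hmap)).ResidueField,
      ← sub_eq_zero, ← map_sub, Ideal.algebraMap_residueField_eq_zero, RingHom.mem_ker,
      map_sub, AlgHom.commutes, IsLocalRing.ResidueField.algebraMap_eq, hr, sub_self]
  obtain ⟨φ⟩ := h P.Ring (RingHom.ker (P.lift a₀ hmap)) hlies hres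
  have hm := (StandardEtalePair.hasMap_X (P := P)).map φ
  have hfa : f.eval (φ P.X) = 0 := by
    have := hm.1
    rw [← Polynomial.coe_aeval_eq_eval]; exact this
  refine ⟨φ P.X, hfa, ?_⟩
  have hu : IsUnit (Polynomial.aeval (φ P.X) (Polynomial.derivative f * ht)) := hm.2
  rw [Polynomial.coe_aeval_eq_eval, Polynomial.eval_mul] at hu
  have hu2 : IsUnit (ht.eval (φ P.X)) := isUnit_of_mul_isUnit_right hu
  have hne : h₀.eval (IsLocalRing.residue R (φ P.X)) ≠ 0 := by
    rw [← hht, Polynomial.eval_map, Polynomial.eval₂_at_apply]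
    exact (IsLocalRing.residue_ne_zero_iff_isUnit _).mpr hu2
  have hz : (f.map (IsLocalRing.residue R)).eval (IsLocalRing.residue R (φ P.X)) = 0 := by
    rw [Polynomial.eval_map, Polynomial.eval₂_at_apply, hfa, map_zero]
  rw [hfac, Polynomial.eval_mul, Polynomial.eval_sub, Polynomial.eval_X, Polynomial.eval_C] at hz
  exact sub_eq_zero.mp ((mul_eq_zero.mp hz).resolve_right hne)

end Groth.Agent.S0502
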