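import Groth.Statements.S0503
import Groth.Agent.Lib.HenselQF_helper3
-- import your own Groth.Agent.* helpers here

set_option autoImplicit false
universe u
open Hensel
set_option maxSynthPendingDepth 3

namespace Groth.Agent.S0503

/-- A finite-type quasi-finite algebra `S` over a henselian local ring `R` contains an idempotent `e`
such that `S/(1-e)` is finitely generated as an `R`-module and the maximal ideal of `R` generates
the unit ideal of `S/(e)`; in other words `S` is a product of a module-finite algebra and an algebra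
whose fibre over the closed point is empty. -/
theorem result (R : Type u) [CommRing R] [HenselianLocalRing R]
    (S : Type u) [CommRing S] [Algebra R S] [Algebra.FiniteType R S] [Algebra.QuasiFinite R S] :
    ∃ e : S, IsIdempotentElem e ∧ Module.Finite R (S ⧸ Ideal.span ({1 - e} : Set S)) ∧
      Ideal.map (algebraMap R (S ⧸ Ideal.span ({e} : Set S))) (IsLocalRing.maximalIdeal R) = ⊤ := by
  obtain ⟨e, he, hfin, hq⟩ := Groth.Agent.Lib.HenselFiniteH3.finiteType_split R S
  refine ⟨e, he, hfin, ?_⟩
  by_contra hne
  obtain ⟨M, hM, hle⟩ := Ideal.exists_le_maximal _ hne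
  obtain ⟨Q, hQdef⟩ : ∃ Q : Ideal S, Q = M.comap (Ideal.Quotient.mk (Ideal.span ({e} : Set S))) :=
    ⟨_, rfl⟩
  haveI : Q.IsPrime := by rw [hQdef]; exact Ideal.comap_isPrime _ _
  have hQ : Q.LiesOver (IsLocalRing.maximalIdeal R) := by
    refine ⟨(IsLocalRing.maximalIdeal.isMaximal R).eq_of_le ?_ ?_⟩
    · exact (Ideal.comap_isPrime (algebraMap R S) Q).ne_top
    · intro r hr
      rw [Ideal.under_def, Ideal.mem_comap, hQdef, Ideal.mem_comap]
      exact hle (Ideal.mem_map_of_mem _ hr)
  have heQ : e ∈ Q := by
    rw [hQdef, Ideal.mem_comap]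
    have : Ideal.Quotient.mk (Ideal.span ({e} : Set S)) e = 0 :=
      Ideal.Quotient.eq_zero_iff_mem.mpr (Ideal.mem_span_singleton_self e)
    rw [this]
    exact M.zero_mem
  exact hq Q hQ inferInstance heQ

end Groth.Agent.S0503
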