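import Groth.Statements.S0504
import Groth.Agent.Lib.HenselQF_helper3
-- import your own Groth.Agent.* helpers here

set_option autoImplicit false
universe u
open Hensel
set_option maxSynthPendingDepth 3

namespace Groth.Agent.S0504

/-- A finite-type algebra `S` over a henselian local ring `R` contains an idempotent `e` such that
`S/(1-e)` is finitely generated as an `R`-module and `R → S/(e)` is quasi-finite at no prime lying
over the maximal ideal of `R`. -/
theorem result (R : Type u) [CommRing R] [HenselianLocalRing R]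
    (S : Type u) [CommRing S] [Algebra R S] [Algebra.FiniteType R S] :
    ∃ e : S, IsIdempotentElem e ∧ Module.Finite R (S ⧸ Ideal.span ({1 - e} : Set S)) ∧
      ∀ (q : Ideal (S ⧸ Ideal.span ({e} : Set S))) [q.IsPrime],
        q.LiesOver (IsLocalRing.maximalIdeal R) → ¬ Algebra.QuasiFiniteAt R q := by
  obtain ⟨e, he, hfin, hq⟩ := Groth.Agent.Lib.HenselFiniteH3.finiteType_split R S
  refine ⟨e, he, hfin, ?_⟩
  intro qb hqb hqbm hQF
  obtain ⟨q, hqdef⟩ : ∃ q : Ideal S, q = qb.comap (Ideal.Quotient.mk (Ideal.span ({e} : Set S))) :=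
    ⟨_, rfl⟩
  haveI hqp : q.IsPrime := by rw [hqdef]; exact Ideal.comap_isPrime _ _
  have hmemq : ∀ s : S, s ∈ q ↔ Ideal.Quotient.mk (Ideal.span ({e} : Set S)) s ∈ qb := by
    intro s; rw [hqdef, Ideal.mem_comap]
  have hqm : q.LiesOver (IsLocalRing.maximalIdeal R) := by
    refine ⟨?_⟩
    rw [hqbm.over]
    ext r
    rw [Ideal.under_def, Ideal.under_def, Ideal.mem_comap, Ideal.mem_comap, hmemq]
    rfl
  have heq : e ∈ q := by
    rw [hmemq]
    have : Ideal.Quotient.mk (Ideal.span ({e} : Set S)) e = 0 :=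
      Ideal.Quotient.eq_zero_iff_mem.mpr (Ideal.mem_span_singleton_self e)
    rw [this]
    exact qb.zero_mem
  refine hq q hqm ?_ heq
  -- quasi-finiteness at `q` from quasi-finiteness at `qb`
  have he0 : algebraMap S (Localization.AtPrime q) e = 0 := by
    have h1 : (1 - e) ∉ q := by
      intro h
      have : (1 : S) ∈ q := by
        have := q.add_mem h heq
        rwa [sub_add_cancel] at this
      exact hqp.ne_top ((Ideal.eq_top_iff_one _).mpr this)
    have hu : IsUnit (algebraMap S (Localization.AtPrime q) (1 - e)) :=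
      IsLocalization.map_units (M := q.primeCompl) _ ⟨1 - e, h1⟩
    have h2 : algebraMap S (Localization.AtPrime q) e * algebraMap S (Localization.AtPrime q) (1 - e)
        = 0 := by
      rw [← map_mul, mul_sub, mul_one, he.eq, sub_self, map_zero]
    exact (hu.mul_left_eq_zero).mp h2
  let g : S ⧸ Ideal.span ({e} : Set S) →ₐ[R] Localization.AtPrime q :=
    Ideal.Quotient.liftₐ (Ideal.span ({e} : Set S)) (IsScalarTower.toAlgHom R S (Localization.AtPrime q))
      (by
        intro a ha
        obtain ⟨c, rfl⟩ := Ideal.mem_span_singleton'.mp ha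
        show algebraMap S (Localization.AtPrime q) (c * e) = 0
        rw [map_mul, he0, mul_zero])
  have hg : ∀ s : S, g (Ideal.Quotient.mk _ s) = algebraMap S (Localization.AtPrime q) s :=
    fun s => rfl
  have hgu : ∀ y : qb.primeCompl, IsUnit (g y) := by
    rintro ⟨y, hy⟩
    obtain ⟨s, rfl⟩ := Ideal.Quotient.mk_surjective y
    rw [hg]
    exact IsLocalization.map_units (M := q.primeCompl) _ ⟨s, fun h => hy ((hmemq s).mp h)⟩
  let f : Localization.AtPrime qb →ₐ[R] Localization.AtPrime q :=
    IsLocalization.liftAlgHom (M := qb.primeCompl) (f := g) hgu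
  have hf : ∀ y, f (algebraMap _ _ y) = g y := fun y => IsLocalization.lift_eq _ y
  haveI : Algebra.QuasiFinite R (Localization.AtPrime qb) := hQF
  refine Algebra.QuasiFinite.of_forall_exists_mul_mem_range f ?_
  intro x
  obtain ⟨a, ⟨t, ht⟩, rfl⟩ := IsLocalization.exists_mk'_eq q.primeCompl x
  refine ⟨algebraMap _ _ (Ideal.Quotient.mk (Ideal.span ({e} : Set S)) t), ?_, ?_⟩
  · rw [hf, hg]
    exact IsLocalization.map_units (M := q.primeCompl) _ ⟨t, ht⟩
  · rw [hf, hg]
    refine ⟨algebraMap _ _ (Ideal.Quotient.mk (Ideal.span ({e} : Set S)) a), ?_⟩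
    show f _ = _
    rw [hf, hg]
    exact (IsLocalization.mk'_spec _ a ⟨t, ht⟩).symm

end Groth.Agent.S0504
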