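import Groth.Statements.S0511
import Groth.Agent.Lib.Henselization13_helper3
-- import your own Groth.Agent.* helpers here

set_option autoImplicit false
universe u
open Hensel
set_option maxSynthPendingDepth 3
open TensorProduct

namespace Groth.Agent.S0511

/-- A local ring is Noetherian exactly when its henselization is Noetherian. -/
theorem result (R : Type u) [CommRing R] [IsLocalRing R] (S : Type u) [CommRing S] [IsLocalRing S]
    [Algebra R S] [IsLocalHom (algebraMap R S)] [Hensel.IsHenselization R S] :
    IsNoetherianRing R ↔ IsNoetherianRing S := by
  constructor
  · intro h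
    obtain ⟨e, -⟩ := Groth.Agent.Lib.HenselizationH3.exists_ringEquiv_hens (R := R) S
    exact isNoetherianRing_of_ringEquiv _ e.symm
  · intro h
    haveI := Groth.Agent.Lib.HenselizationH3.faithfullyFlat_of_isHenselization (R := R) S
    have h1 : IsNoetherian S (S ⊗[R] R) :=
      isNoetherian_of_linearEquiv (TensorProduct.AlgebraTensorModule.rid R S S).symm
    exact Submodule.IsNoetherian.of_isNoetherian_tensorProduct_of_faithfullyFlat h1

end Groth.Agent.S0511
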