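import Groth.Statements.S0513
import Groth.Agent.Lib.Henselization13_helper3
import Groth.Agent.Lib.CompletionRegular_helper5
-- import your own Groth.Agent.* helpers here

set_option autoImplicit false
universe u
open Hensel
set_option maxSynthPendingDepth 3

namespace Groth.Agent.S0513

/-- A Noetherian local ring is regular exactly when its henselization is a regular local ring. -/
theorem result (R : Type u) [CommRing R] [IsLocalRing R] (S : Type u) [CommRing S] [IsLocalRing S]
    [Algebra R S] [IsLocalHom (algebraMap R S)] [Hensel.IsHenselization R S] [IsNoetherianRing R] :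
    IsRegularLocalRing R ↔ IsRegularLocalRing S := by
  haveI : IsNoetherianRing S := by
    obtain ⟨e, -⟩ := Groth.Agent.Lib.HenselizationH3.exists_ringEquiv_hens (R := R) S
    exact isNoetherianRing_of_ringEquiv _ e.symm
  haveI := Groth.Agent.Lib.HenselizationH3.faithfullyFlat_of_isHenselization (R := R) S
  have hmap := Groth.Agent.Lib.HenselizationH3.map_maximalIdeal_of_isHenselization (R := R) S
  have hspan : (IsLocalRing.maximalIdeal S).spanFinrank = (IsLocalRing.maximalIdeal R).spanFinrank := by
    apply le_antisymm
    · rw [← hmap]
      exact Ideal.spanFinrank_map_le_of_fg _ (IsNoetherian.noetherian _)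
    · exact Groth.Agent.RegularLib.spanFinrank_le_of_faithfullyFlat R S hmap
  rw [isRegularLocalRing_iff, isRegularLocalRing_iff,
    Groth.Agent.Lib.HenselizationH3.ringKrullDim_of_isHenselization (R := R) S, hspan]

end Groth.Agent.S0513
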