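import Groth.Statements.S0515
import Groth.Agent.Lib.Henselization12_helper3
import Groth.Agent.Lib.IndEtaleNormal2_helper3
-- import your own Groth.Agent.* helpers here

set_option autoImplicit false
universe u
open Hensel
set_option maxSynthPendingDepth 3

namespace Groth.Agent.S0515

/-- A local ring is an integrally closed domain exactly when its henselization is. -/
theorem result (R : Type u) [CommRing R] [IsLocalRing R] (S : Type u) [CommRing S] [IsLocalRing S]
    [Algebra R S] [IsLocalHom (algebraMap R S)] [Hensel.IsHenselization R S] :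
    (IsDomain R ∧ IsIntegrallyClosed R) ↔ (IsDomain S ∧ IsIntegrallyClosed S) := by
  have hie : EtPBC.IsIndEtale R S := by
    obtain ⟨e, he⟩ := Groth.Agent.Lib.HenselizationH3.exists_ringEquiv_hens (R := R) S
    exact Groth.Agent.Lib.IndEtaleH3.isIndEtale_of_ringEquiv e.symm (fun r => by
      rw [← he r, RingEquiv.symm_apply_apply]) Groth.Agent.Lib.HenselizationH3.isIndEtale_hens
  haveI := Groth.Agent.Lib.HenselizationH3.faithfullyFlat_of_isHenselization (R := R) S
  constructor
  · rintro ⟨h1, h2⟩
    obtain ⟨h3, h4⟩ := Groth.Agent.Lib.IndEtaleH3.isDomain_and_isIntegrallyClosed_of_isIndEtale hie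
    exact ⟨h3, h4⟩
  · rintro ⟨h1, h2⟩
    obtain ⟨h3, h4⟩ := Groth.Agent.Lib.NormalCritH3.isIntegrallyClosed_of_faithfullyFlat R S
    exact ⟨h3, h4⟩

end Groth.Agent.S0515
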