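import Groth.Statements.S0517
import Mathlib
import Groth.Agent.Lib.StrictHensLift_lead

set_option autoImplicit false
universe u
open Hensel

namespace Groth.Agent.S0517

/-- Given strictly henselian local rings `R` and `S`, a local ring map `φ` between them, and a square
system of `n` polynomial equations in `n` unknowns over `R` whose quotient algebra is étale over
`R`, applying `φ` coordinatewise matches the solutions of the system in `Rⁿ` bijectively with the
solutions of the transported system in `Sⁿ`. -/
theorem result (R : Type u) [CommRing R]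
    [HenselianLocalRing R] [IsSepClosed (IsLocalRing.ResidueField R)] (S : Type u) [CommRing S]
    [HenselianLocalRing S] [IsSepClosed (IsLocalRing.ResidueField S)] (φ : R →+* S) [IsLocalHom φ] (n : ℕ)
    (P : Fin n → MvPolynomial (Fin n) R)
    [Algebra.Etale R (MvPolynomial (Fin n) R ⧸ Ideal.span (Set.range P))] :
    Set.BijOn (fun r : Fin n → R => φ ∘ r)
      {r : Fin n → R | ∀ i, MvPolynomial.eval r (P i) = 0}
      {s : Fin n → S | ∀ i, MvPolynomial.eval s (MvPolynomial.map φ (P i)) = 0} := by
  classical
  letI : Algebra R S := φ.toAlgebra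
  haveI : IsLocalHom (algebraMap R S) := ‹IsLocalHom φ›
  have hmem : ∀ i, P i ∈ Ideal.span (Set.range P) := fun i => Ideal.subset_span ⟨i, rfl⟩
  have hlift : ∀ {T : Type u} [CommRing T] [Algebra R T] (t : Fin n → T),
      (∀ i, MvPolynomial.aeval t (P i) = 0) → ∀ a ∈ Ideal.span (Set.range P),
        MvPolynomial.aeval t a = 0 := by
    intro T _ _ t ht a ha
    have : Ideal.span (Set.range P) ≤
        RingHom.ker (MvPolynomial.aeval t : MvPolynomial (Fin n) R →ₐ[R] T).toRingHom := by
      rw [Ideal.span_le]
      rintro _ ⟨i, rfl⟩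
      exact ht i
    exact this ha
  have hS : ∀ (s : Fin n → S) (p : MvPolynomial (Fin n) R),
      MvPolynomial.eval s (MvPolynomial.map φ p) = MvPolynomial.aeval s p := by
    intro s p
    rw [MvPolynomial.eval_map, MvPolynomial.aeval_def]
    rfl
  have hR : ∀ (r : Fin n → R) (p : MvPolynomial (Fin n) R),
      MvPolynomial.eval r p = MvPolynomial.aeval r p := by
    intro r p
    rw [MvPolynomial.aeval_def]
    rfl
  refine ⟨?_, ?_, ?_⟩
  · intro r hr i
    show MvPolynomial.eval (φ ∘ r) (MvPolynomial.map φ (P i)) = 0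
    rw [MvPolynomial.eval_map, ← MvPolynomial.eval₂_comp, hr i, map_zero]
  · intro r hr r' hr' heq
    have heq' : φ ∘ r = φ ∘ r' := heq
    let f : (MvPolynomial (Fin n) R ⧸ Ideal.span (Set.range P)) →ₐ[R] R :=
      Ideal.Quotient.liftₐ _ (MvPolynomial.aeval r) (hlift r (fun i => by rw [← hR]; exact hr i))
    let f' : (MvPolynomial (Fin n) R ⧸ Ideal.span (Set.range P)) →ₐ[R] R :=
      Ideal.Quotient.liftₐ _ (MvPolynomial.aeval r') (hlift r' (fun i => by rw [← hR]; exact hr' i))
    have hfX : ∀ i, f (Ideal.Quotient.mk _ (MvPolynomial.X i)) = r i := fun i => by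
      show MvPolynomial.aeval r (MvPolynomial.X i) = r i
      rw [MvPolynomial.aeval_X]
    have hf'X : ∀ i, f' (Ideal.Quotient.mk _ (MvPolynomial.X i)) = r' i := fun i => by
      show MvPolynomial.aeval r' (MvPolynomial.X i) = r' i
      rw [MvPolynomial.aeval_X]
    have hff' : f = f' := by
      apply Groth.Agent.Lib.StrictHensLift.comp_ofId_injective (S := S)
      apply Ideal.Quotient.algHom_ext
      apply MvPolynomial.algHom_ext
      intro i
      show algebraMap R S (f (Ideal.Quotient.mk _ (MvPolynomial.X i))) =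
        algebraMap R S (f' (Ideal.Quotient.mk _ (MvPolynomial.X i)))
      rw [hfX, hf'X]
      exact congrFun heq' i
    funext i
    rw [← hfX i, ← hf'X i, hff']
  · intro s hs
    let g : (MvPolynomial (Fin n) R ⧸ Ideal.span (Set.range P)) →ₐ[R] S :=
      Ideal.Quotient.liftₐ _ (MvPolynomial.aeval s) (hlift s (fun i => by rw [← hS]; exact hs i))
    have hgX : ∀ i, g (Ideal.Quotient.mk _ (MvPolynomial.X i)) = s i := fun i => by
      show MvPolynomial.aeval s (MvPolynomial.X i) = s i
      rw [MvPolynomial.aeval_X]
    obtain ⟨f, hf⟩ := Groth.Agent.Lib.StrictHensLift.exists_lift g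
    have key : f.comp (Ideal.Quotient.mkₐ R (Ideal.span (Set.range P))) =
        MvPolynomial.aeval (fun i => f (Ideal.Quotient.mk _ (MvPolynomial.X i))) := by
      apply MvPolynomial.algHom_ext
      intro i
      rw [MvPolynomial.aeval_X]
      rfl
    refine ⟨fun i => f (Ideal.Quotient.mk _ (MvPolynomial.X i)), ?_, ?_⟩
    · intro i
      rw [hR, ← key]
      show f (Ideal.Quotient.mk _ (P i)) = 0
      rw [Ideal.Quotient.eq_zero_iff_mem.mpr (hmem i), map_zero]
    · funext i
      show φ (f (Ideal.Quotient.mk _ (MvPolynomial.X i))) = s i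
      rw [← hgX i, ← hf]
      rfl

end Groth.Agent.S0517
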