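import Groth.Statements.S0522
import Mathlib
import Groth.Agent.Lib.GabberIdem_lead

set_option autoImplicit false
universe u
open Hensel

namespace Groth.Agent.S0522

/-- `A` is Henselian at `I` exactly when, for every integral `A`-algebra `B`, reduction modulo `IB` is a
bijection from the idempotents of `B` to the idempotents of `B/IB`. -/
theorem result (A : Type u) [CommRing A] (I : Ideal A) :
    HenselianRing A I ↔ ∀ (B : Type u) [CommRing B] [Algebra A B], Algebra.IsIntegral A B →
      Set.BijOn (Ideal.Quotient.mk (Ideal.map (algebraMap A B) I))
        {e : B | IsIdempotentElem e} {e | IsIdempotentElem e} := by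
  constructor
  · intro hI B _ _ hint
    haveI := hint
    exact Groth.Agent.Lib.GabberIdem.bijOn_of_integral hI B
  · intro H
    exact Groth.Agent.Lib.GabberIdem.henselian_of_bijOn I (fun B _ _ hfin => by
      haveI := hfin
      exact H B (Algebra.IsIntegral.of_finite A B))

end Groth.Agent.S0522
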