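import Groth.Statements.S0529
import Mathlib
import Groth.Agent.Lib.HenselPairOps_lead

set_option autoImplicit false
universe u
open Hensel

namespace Groth.Agent.S0529

/-- A product of rings, with the product ideal, is Henselian exactly when every factor is Henselian at
its ideal. -/
theorem result (J : Type u) (A : J → Type u) [∀ j, CommRing (A j)]
    (I : ∀ j, Ideal (A j)) :
    HenselianRing (∀ j, A j) (⨅ j, Ideal.comap (Pi.evalRingHom A j) (I j)) ↔
      ∀ j, HenselianRing (A j) (I j) := by
  classical
  have hmem : ∀ x : (∀ j, A j), x ∈ (⨅ j, Ideal.comap (Pi.evalRingHom A j) (I j)) ↔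
      ∀ j, x j ∈ I j := by
    intro x; simp only [Ideal.mem_iInf, Ideal.mem_comap, Pi.evalRingHom_apply]
  have hev : ∀ (F : Polynomial (∀ j, A j)) (x : ∀ j, A j) (j : J),
      (F.map (Pi.evalRingHom A j)).eval (x j) = (F.eval x) j := fun F x j =>
    Polynomial.eval_map_apply (f := Pi.evalRingHom A j) (p := F) x
  constructor
  · intro h j
    have hjacj : I j ≤ Ideal.jacobson ⊥ := by
      intro x hx
      rw [Ideal.mem_jacobson_bot]
      intro y
      have hx' : (Function.update (0 : ∀ j, A j) j x) ∈
          (⨅ j, Ideal.comap (Pi.evalRingHom A j) (I j)) := by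
        rw [hmem]; intro i
        rcases eq_or_ne i j with rfl | hij
        · simpa using hx
        · simp [Function.update_of_ne hij]
      have h3 := Ideal.mem_jacobson_bot.1 (h.jac hx') (Function.update (0 : ∀ j, A j) j y)
      have h4 := h3.map (Pi.evalRingHom A j)
      simpa using h4
    refine ⟨hjacj, ?_⟩
    intro f hf a₀ h₁ h₂
    by_cases hd : f.natDegree = 0
    · have hf1 : f = 1 := (Polynomial.Monic.natDegree_eq_zero hf).1 hd
      rw [hf1, Polynomial.eval_one] at h₁
      have hjac : (1 : A j) ∈ Ideal.jacobson (⊥ : Ideal (A j)) := hjacj h₁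
      have h3 := Ideal.mem_jacobson_bot.1 hjac (-1)
      have h0 : IsUnit (0 : A j) := by simpa using h3
      have hss : Subsingleton (A j) := by
        rw [isUnit_zero_iff] at h0
        exact subsingleton_of_zero_eq_one h0
      exact ⟨a₀, Subsingleton.elim _ _, by rw [Subsingleton.elim (a₀ - a₀) 0]; exact zero_mem _⟩
    · set d := f.natDegree with hdef
      have hd1 : 1 ≤ d := Nat.one_le_iff_ne_zero.2 hd
      let g : ∀ i, Polynomial (A i) := fun i =>
        Polynomial.X ^ (d - 1) * (Polynomial.X - Polynomial.C 1)
      have hgle : ∀ i, (g i).natDegree ≤ d := by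
        intro i
        refine (Polynomial.natDegree_mul_le).trans ?_
        have h5 : (Polynomial.X ^ (d - 1) : Polynomial (A i)).natDegree ≤ d - 1 :=
          Polynomial.natDegree_X_pow_le _
        have h6 : (Polynomial.X - Polynomial.C 1 : Polynomial (A i)).natDegree ≤ 1 :=
          Polynomial.natDegree_X_sub_C_le _
        omega
      have hgd : ∀ i, (g i).coeff d = 1 := by
        intro i
        have e : d = 1 + (d - 1) := by omega
        rw [e]
        show (Polynomial.X ^ (d - 1) * (Polynomial.X - Polynomial.C 1) : Polynomial (A i)).coeff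
          (1 + (d - 1)) = 1
        rw [Polynomial.coeff_X_pow_mul]
        simp [Polynomial.coeff_sub, Polynomial.coeff_X_one, Polynomial.coeff_C, Polynomial.coeff_one]
      set P : ∀ i, Polynomial (A i) := Function.update g j f with hPdef
      have hPj : P j = f := Function.update_self _ _ _
      have hPi : ∀ i, i ≠ j → P i = g i := fun i hi => Function.update_of_ne hi _ _
      have hPle : ∀ i, (P i).natDegree ≤ d := by
        intro i
        rcases eq_or_ne i j with rfl | hij
        · rw [hPj]
        · rw [hPi i hij]; exact hgle i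
      have hPd : ∀ i, (P i).coeff d = 1 := by
        intro i
        rcases eq_or_ne i j with rfl | hij
        · rw [hPj]; exact hf.coeff_natDegree
        · rw [hPi i hij]; exact hgd i
      let F : Polynomial (∀ i, A i) :=
        ∑ n ∈ Finset.range (d + 1), Polynomial.monomial n (fun i => (P i).coeff n)
      have hcoeffF : ∀ n, F.coeff n = if n ≤ d then (fun i => (P i).coeff n) else 0 := by
        intro n
        simp only [F, Polynomial.finset_sum_coeff, Polynomial.coeff_monomial,
          Finset.sum_ite_eq', Finset.mem_range, Nat.lt_succ_iff]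
      have hmap : ∀ i, F.map (Pi.evalRingHom A i) = P i := by
        intro i
        ext n
        rw [Polynomial.coeff_map, hcoeffF]
        by_cases hn : n ≤ d
        · rw [if_pos hn]; rfl
        · rw [if_neg hn, map_zero]
          exact (Polynomial.coeff_eq_zero_of_natDegree_lt
            (lt_of_le_of_lt (hPle i) (not_le.1 hn))).symm
      have hFmonic : F.Monic := by
        apply Polynomial.monic_of_natDegree_le_of_coeff_eq_one d
        · rw [Polynomial.natDegree_le_iff_coeff_eq_zero]
          intro N hN
          rw [hcoeffF, if_neg (not_le.2 hN)]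
        · rw [hcoeffF, if_pos le_rfl]
          funext i; exact hPd i
      set a₀' : ∀ i, A i := Function.update (fun i => (1 : A i)) j a₀ with ha₀'
      have ha₀j : a₀' j = a₀ := Function.update_self _ _ _
      have ha₀i : ∀ i, i ≠ j → a₀' i = 1 := fun i hi => Function.update_of_ne hi _ _
      have h₁' : F.eval a₀' ∈ (⨅ j, Ideal.comap (Pi.evalRingHom A j) (I j)) := by
        rw [hmem]; intro i
        rw [← hev, hmap]
        rcases eq_or_ne i j with rfl | hij
        · rw [hPj, ha₀j]; exact h₁
        · rw [hPi i hij, ha₀i i hij]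
          have : (g i).eval 1 = 0 := by simp [g]
          rw [this]; exact zero_mem _
      obtain ⟨y₀, hy₀⟩ := (Groth.Agent.Lib.HenselPairOpsLead.isUnit_mk_iff _ _).1 h₂
      set y : ∀ i, A i := Function.update (fun i => (1 : A i)) j y₀ with hydef
      have hyj : y j = y₀ := Function.update_self _ _ _
      have hyi : ∀ i, i ≠ j → y i = 1 := fun i hi => Function.update_of_ne hi _ _
      have h₂' : IsUnit (Ideal.Quotient.mk (⨅ j, Ideal.comap (Pi.evalRingHom A j) (I j))
          (F.derivative.eval a₀')) := by
        rw [Groth.Agent.Lib.HenselPairOpsLead.isUnit_mk_iff]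
        refine ⟨y, ?_⟩
        rw [hmem]; intro i
        have e : (F.derivative.eval a₀' * y - 1) i = (P i).derivative.eval (a₀' i) * y i - 1 := by
          rw [← hmap i, Polynomial.derivative_map, hev]; rfl
        rw [e]
        rcases eq_or_ne i j with rfl | hij
        · rw [hPj, ha₀j, hyj]; exact hy₀
        · rw [hPi i hij, ha₀i i hij, hyi i hij]
          have : (g i).derivative.eval 1 * 1 - 1 = 0 := by
            simp [g, Polynomial.derivative_mul]
          rw [this]; exact zero_mem _
      obtain ⟨a, hroot, haI⟩ := h.is_henselian F hFmonic a₀' h₁' h₂'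
      have hroot' : F.eval a = 0 := hroot
      refine ⟨a j, ?_, ?_⟩
      · have h7 := hev F a j
        rw [hmap j, hPj] at h7
        show f.eval (a j) = 0
        rw [h7, hroot']; rfl
      · have h8 := (hmem _).1 haI j
        have e : (a - a₀') j = a j - a₀ := by rw [Pi.sub_apply, ha₀j]
        rwa [e] at h8
  · intro h
    refine ⟨?_, ?_⟩
    · intro x hx
      rw [Ideal.mem_jacobson_bot]
      intro y
      rw [Pi.isUnit_iff]
      intro j
      have h3 := Ideal.mem_jacobson_bot.1 ((h j).jac ((hmem x).1 hx j)) (y j)
      simpa using h3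
    · intro F hF a₀ h₁ h₂
      obtain ⟨y, hy⟩ := (Groth.Agent.Lib.HenselPairOpsLead.isUnit_mk_iff _ _).1 h₂
      have hex : ∀ j, ∃ a : A j, (F.map (Pi.evalRingHom A j)).IsRoot a ∧ a - a₀ j ∈ I j := by
        intro j
        apply (h j).is_henselian (F.map (Pi.evalRingHom A j)) (hF.map _) (a₀ j)
        · rw [hev]; exact (hmem _).1 h₁ j
        · rw [Groth.Agent.Lib.HenselPairOpsLead.isUnit_mk_iff]
          refine ⟨y j, ?_⟩
          rw [Polynomial.derivative_map, hev]
          exact (hmem _).1 hy j
      choose a ha using hex
      refine ⟨a, ?_, (hmem _).2 fun j => (ha j).2⟩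
      show F.eval a = 0
      funext j
      rw [← hev]; exact (ha j).1

end Groth.Agent.S0529
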