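import Groth.Statements.S0535
import Mathlib

set_option autoImplicit false
universe u
open Hensel

namespace Groth.Agent.S0535

/-- If `R` is Henselian at `I` and two finitely generated projective `R`-modules become isomorphic after
base change to `R/I`, then they are isomorphic. -/
theorem result (R : Type u) [CommRing R] (I : Ideal R)
    [HenselianRing R I] (P₁ P₂ : Type u) [AddCommGroup P₁] [Module R P₁] [AddCommGroup P₂]
    [Module R P₂] [Module.Finite R P₁] [Module.Projective R P₁] [Module.Finite R P₂]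
    [Module.Projective R P₂]
    (e : TensorProduct R (R ⧸ I) P₁ ≃ₗ[R ⧸ I] TensorProduct R (R ⧸ I) P₂) :
    Nonempty (P₁ ≃ₗ[R] P₂) := by
  classical
  have hrad : I ≤ Ideal.jacobson ⊥ := HenselianRing.jac
  have hq_surj : ∀ (P : Type u) [AddCommGroup P] [Module R P],
      Function.Surjective (TensorProduct.mk R (R ⧸ I) P 1) := by
    intro P _ _ y
    have h := TensorProduct.quotTensorEquivQuotSMul_comp_mk (M := P) I
    obtain ⟨p, hp⟩ := Submodule.mkQ_surjective (I • ⊤ : Submodule R P)
      (TensorProduct.quotTensorEquivQuotSMul P I y)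
    refine ⟨p, ?_⟩
    apply (TensorProduct.quotTensorEquivQuotSMul P I).injective
    rw [← hp, ← h]; rfl
  have hq_ker : ∀ (P : Type u) [AddCommGroup P] [Module R P] (p : P),
      TensorProduct.mk R (R ⧸ I) P 1 p = 0 → p ∈ (I • ⊤ : Submodule R P) := by
    intro P _ _ p hp
    have h := LinearMap.congr_fun (TensorProduct.quotTensorEquivQuotSMul_comp_mk (M := P) I) p
    rw [LinearMap.comp_apply, hp, map_zero] at h
    exact (Submodule.Quotient.mk_eq_zero _).1 h.symm
  let eR : TensorProduct R (R ⧸ I) P₁ →ₗ[R] TensorProduct R (R ⧸ I) P₂ :=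
    (e.restrictScalars R).toLinearMap
  have heR : ∀ y, eR y = e y := fun _ => rfl
  obtain ⟨φ, hφ⟩ := Module.projective_lifting_property (TensorProduct.mk R (R ⧸ I) P₂ 1)
    (eR ∘ₗ TensorProduct.mk R (R ⧸ I) P₁ 1) (hq_surj P₂)
  have hφ' : ∀ p, TensorProduct.mk R (R ⧸ I) P₂ 1 (φ p) = e (TensorProduct.mk R (R ⧸ I) P₁ 1 p) := by
    intro p
    have := LinearMap.congr_fun hφ p
    simpa only [LinearMap.comp_apply, heR] using this
  have hφsurj : Function.Surjective φ := by
    rw [← LinearMap.range_eq_top, eq_top_iff]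
    apply Submodule.le_of_le_smul_of_le_jacobson_bot (I := I) Module.Finite.fg_top hrad
    intro p₂ _
    obtain ⟨y, hy⟩ := e.surjective (TensorProduct.mk R (R ⧸ I) P₂ 1 p₂)
    obtain ⟨p₁, rfl⟩ := hq_surj P₁ y
    have h1 : TensorProduct.mk R (R ⧸ I) P₂ 1 (p₂ - φ p₁) = 0 := by
      rw [map_sub, sub_eq_zero, hφ' p₁]; exact hy.symm
    have h2 := hq_ker P₂ _ h1
    have e2 : p₂ = φ p₁ + (p₂ - φ p₁) := by abel
    rw [e2]
    exact Submodule.add_mem _ (Submodule.mem_sup_left (LinearMap.mem_range_self φ p₁))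
      (Submodule.mem_sup_right h2)
  obtain ⟨s, hs⟩ := Module.projective_lifting_property φ LinearMap.id hφsurj
  have hs' : ∀ p, φ (s p) = p := fun p => by
    have := LinearMap.congr_fun hs p
    simpa only [LinearMap.comp_apply, LinearMap.id_apply] using this
  have hker : LinearMap.ker φ = ⊥ := by
    set π : P₁ →ₗ[R] P₁ := LinearMap.id - s ∘ₗ φ with hπ
    have hπK : ∀ k ∈ LinearMap.ker φ, π k = k := by
      intro k hk
      simp [hπ, LinearMap.mem_ker.1 hk]
    have hπmem : ∀ p, π p ∈ LinearMap.ker φ := by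
      intro p
      rw [LinearMap.mem_ker, hπ, LinearMap.sub_apply, map_sub, LinearMap.id_apply,
        LinearMap.comp_apply, hs', sub_self]
    have hKfg : (LinearMap.ker φ).FG := by
      have hKr : LinearMap.ker φ = LinearMap.range π := by
        apply le_antisymm
        · intro k hk; exact ⟨k, hπK k hk⟩
        · rintro _ ⟨p, rfl⟩; exact hπmem p
      rw [hKr, LinearMap.range_eq_map]
      exact Module.Finite.fg_top.map π
    have hKle : LinearMap.ker φ ≤ I • LinearMap.ker φ := by
      intro k hk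
      have h2 : TensorProduct.mk R (R ⧸ I) P₁ 1 k = 0 := by
        apply e.injective
        rw [map_zero, ← hφ' k, LinearMap.mem_ker.1 hk, map_zero]
      have h3 := hq_ker P₁ k h2
      have h4 : π k ∈ Submodule.map π (I • ⊤ : Submodule R P₁) := Submodule.mem_map_of_mem h3
      rw [Submodule.map_smul''] at h4
      rw [← hπK k hk]
      refine Submodule.smul_mono le_rfl ?_ h4
      rintro _ ⟨p, _, rfl⟩; exact hπmem p
    exact Submodule.eq_bot_of_le_smul_of_le_jacobson_bot I _ hKfg hKle hrad
  exact ⟨LinearEquiv.ofBijective φ ⟨LinearMap.ker_eq_bot.1 hker, hφsurj⟩⟩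

end Groth.Agent.S0535
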