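import Groth.Statements.S0546
import Mathlib

set_option autoImplicit false
universe u
open CAlg

namespace Groth.Agent.S0546

/-- If `I ≤ J` are ideals with `I` finitely generated and `M` is `J`-adically complete, then `M` is
`I`-adically complete. -/
theorem result (A : Type u) [CommRing A] (I J : Ideal A) (hIJ : I ≤ J)
    (hI : I.FG) (M : Type u) [AddCommGroup M] [Module A M] [IsAdicComplete J M] :
    IsAdicComplete I M := by
  classical
  have exists_sum : ∀ {r : ℕ} (a : Fin r → A) (N : Submodule A M) {z : M},
      z ∈ Ideal.span (Set.range a) • N → ∃ y : Fin r → M, (∀ i, y i ∈ N) ∧ z = ∑ i, a i • y i := by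
    intro r a N z hz
    refine Submodule.smul_induction_on hz ?_ ?_
    · intro c hc n hn
      obtain ⟨c', rfl⟩ := (Ideal.mem_span_range_iff_exists_fun).1 hc
      refine ⟨fun i => c' i • n, fun i => N.smul_mem _ hn, ?_⟩
      rw [Finset.sum_smul]
      refine Finset.sum_congr rfl fun i _ => ?_
      rw [smul_smul, mul_comm]
    · rintro x y ⟨y1, h1, rfl⟩ ⟨y2, h2, rfl⟩
      exact ⟨fun i => y1 i + y2 i, fun i => N.add_mem (h1 i) (h2 i), by
        simp [smul_add, Finset.sum_add_distrib]⟩
  have hmono : ∀ n, (I ^ n • ⊤ : Submodule A M) ≤ J ^ n • ⊤ := fun n =>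
    Submodule.smul_mono_left (Ideal.pow_right_mono hIJ n)
  have hantiJ : ∀ {k l : ℕ}, k ≤ l → (J ^ l • ⊤ : Submodule A M) ≤ J ^ k • ⊤ := fun h =>
    Submodule.smul_mono_left (Ideal.pow_le_pow_right h)
  have hHJ : IsHausdorff J M := inferInstance
  have hPJ : IsPrecomplete J M := inferInstance
  haveI hH : IsHausdorff I M :=
    ⟨fun x hx => IsHausdorff.haus hHJ x (fun n => (hx n).mono (hmono n))⟩
  haveI hP : IsPrecomplete I M := by
    refine ⟨fun f hf => ?_⟩
    have hfJ : ∀ {m n}, m ≤ n → f m ≡ f n [SMOD (J ^ m • ⊤ : Submodule A M)] :=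
      fun h => (hf h).mono (hmono _)
    obtain ⟨L, hL⟩ := IsPrecomplete.prec hPJ hfJ
    refine ⟨L, fun n => ?_⟩
    obtain ⟨r, a, ha⟩ := Submodule.fg_iff_exists_fin_generating_family.1 (Ideal.FG.pow (n := n) hI)
    have ha' : Ideal.span (Set.range a) = I ^ n := ha
    have hdiff : ∀ m, f (n + m + 1) - f (n + m) ∈
        (Ideal.span (Set.range a)) • (I ^ m • ⊤ : Submodule A M) := by
      intro m
      have h1 : f (n + m) ≡ f (n + m + 1) [SMOD (I ^ (n + m) • ⊤ : Submodule A M)] :=
        hf (Nat.le_succ _)
      have h2 : f (n + m + 1) - f (n + m) ∈ (I ^ (n + m) • ⊤ : Submodule A M) :=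
        SModEq.sub_mem.1 h1.symm
      rw [ha', ← mul_smul, ← pow_add]; exact h2
    choose y hyN hy using fun m => exists_sum a _ (hdiff m)
    let s : ℕ → Fin r → M := fun k i => ∑ m ∈ Finset.range k, y m i
    have hs : ∀ i k l, k ≤ l → s l i - s k i ∈ (J ^ k • ⊤ : Submodule A M) := by
      intro i k l hkl
      induction l, hkl using Nat.le_induction with
      | base => simp
      | succ l hkl ih =>
        have e : s (l + 1) i - s k i = (s l i - s k i) + y l i := by
          simp only [s, Finset.sum_range_succ]; abel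
        rw [e]
        exact Submodule.add_mem _ ih (hantiJ hkl (hmono l (hyN l i)))
    have hlim : ∀ i, ∃ t : M, ∀ k, s k i ≡ t [SMOD (J ^ k • ⊤ : Submodule A M)] := by
      intro i
      apply IsPrecomplete.prec hPJ
      intro k l hkl
      exact (SModEq.sub_mem.2 (hs i k l hkl)).symm
    choose t ht using hlim
    have htel : ∀ k, ∑ i, a i • s k i = f (n + k) - f n := by
      intro k
      induction k with
      | zero => simp [s]
      | succ k ih =>
        have e : ∀ i, s (k + 1) i = s k i + y k i := fun i => by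
          simp only [s, Finset.sum_range_succ]
        simp only [e, smul_add, Finset.sum_add_distrib, ih, ← hy k]
        show f (n + k) - f n + (f (n + k + 1) - f (n + k)) = f (n + k + 1) - f n
        abel
    have hfin : L - f n = ∑ i, a i • t i := by
      rw [← sub_eq_zero]
      apply IsHausdorff.haus hHJ
      intro k
      rw [SModEq.zero]
      have e : L - f n - ∑ i, a i • t i = (L - f (n + k)) + ∑ i, a i • (s k i - t i) := by
        simp only [smul_sub, Finset.sum_sub_distrib, htel k]; abel
      rw [e]
      refine Submodule.add_mem _ ?_ (Submodule.sum_mem _ fun i _ => Submodule.smul_mem _ _ ?_)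
      · exact hantiJ (Nat.le_add_left k n) (SModEq.sub_mem.1 (hL (n + k)).symm)
      · exact SModEq.sub_mem.1 (ht i k)
    refine (SModEq.sub_mem.2 ?_).symm
    rw [hfin]
    refine Submodule.sum_mem _ fun i _ => Submodule.smul_mem_smul ?_ Submodule.mem_top
    rw [← ha']; exact Ideal.subset_span (Set.mem_range_self i)
  exact { toIsHausdorff := hH, toIsPrecomplete := hP }

end Groth.Agent.S0546
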