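import Groth.Statements.S0553
import Groth.Agent.S0552
import Groth.Agent.S9126

set_option autoImplicit false
universe u
open CAlg

namespace Groth.Agent.S0553

/-- A Noetherian ring is universally catenary exactly when its localization at every maximal ideal is
universally catenary. -/
theorem result (R : Type u) [CommRing R]
    [IsNoetherianRing R] :
    CAlg.IsUniversallyCatenary R ↔
      ∀ (m : Ideal R) [m.IsMaximal], CAlg.IsUniversallyCatenary (Localization.AtPrime m) := by
  classical
  constructor
  · intro hR m hm
    exact Groth.Agent.S9126.result R (Localization.AtPrime m) hR
  · intro h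
    refine ⟨inferInstance, ?_⟩
    intro S _ _ hS
    rw [Groth.Agent.S0552.result]
    intro n hn
    haveI : Algebra.FiniteType R S := hS
    -- the prime of R below n
    haveI hnp : n.IsPrime := hn.isPrime
    set p : Ideal R := n.comap (algebraMap R S) with hp
    haveI hpp : p.IsPrime := Ideal.IsPrime.comap _
    obtain ⟨m, hm, hpm⟩ := Ideal.exists_le_maximal p hpp.ne_top
    haveI := hm
    haveI hmp : m.IsPrime := hm.isPrime
    have hunits : ∀ r : m.primeCompl,
        IsUnit ((algebraMap S (Localization.AtPrime n)).comp (algebraMap R S) r) := by
      intro r
      have hr : algebraMap R S r ∈ n.primeCompl := by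
        intro hmem
        exact r.2 (hpm hmem)
      exact IsLocalization.map_units (Localization.AtPrime n) (⟨algebraMap R S r, hr⟩ : n.primeCompl)
    let g : Localization.AtPrime m →+* Localization.AtPrime n := IsLocalization.lift hunits
    letI algmn : Algebra (Localization.AtPrime m) (Localization.AtPrime n) := g.toAlgebra
    haveI : IsScalarTower R (Localization.AtPrime m) (Localization.AtPrime n) :=
      IsScalarTower.of_algebraMap_eq fun r => by
        change algebraMap R (Localization.AtPrime n) r = g (algebraMap R (Localization.AtPrime m) r)
        rw [IsLocalization.lift_eq]
        rw [IsScalarTower.algebraMap_apply R S (Localization.AtPrime n)]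
        rfl
    haveI : Algebra.EssFiniteType S (Localization.AtPrime n) :=
      Algebra.EssFiniteType.of_isLocalization (Localization.AtPrime n) n.primeCompl
    haveI : Algebra.EssFiniteType R (Localization.AtPrime n) :=
      Algebra.EssFiniteType.comp R S (Localization.AtPrime n)
    haveI : Algebra.EssFiniteType (Localization.AtPrime m) (Localization.AtPrime n) :=
      Algebra.EssFiniteType.of_comp R (Localization.AtPrime m) (Localization.AtPrime n)
    have huc := Groth.Agent.S9126.result (Localization.AtPrime m) (Localization.AtPrime n) (h m)
    exact huc.2 (Localization.AtPrime n) inferInstance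

end Groth.Agent.S0553
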