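import Groth.Statements.S0561
import Mathlib
import Groth.Agent.Lib.Regular3_helper5

set_option autoImplicit false
universe u
open CAlg

namespace Groth.Agent.S0561

/-- Let `R` be a regular local ring of dimension `d` and `I` an ideal with `R/I` a regular local ring.
Then there are elements `x₁, …, x_d` generating the maximal ideal such that `I` is generated by `x₁,
…, x_c` for some `c ≤ d`. -/
theorem result (R : Type u) [CommRing R]
    [IsRegularLocalRing R] (d : ℕ) (hd : ringKrullDim R = d) (I : Ideal R)
    [IsRegularLocalRing (R ⧸ I)] :
    ∃ (x : Fin d → R) (c : ℕ) (hc : c ≤ d), Ideal.span (Set.range x) = IsLocalRing.maximalIdeal R ∧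
      I = Ideal.span (Set.range (fun i : Fin c => x (Fin.castLE hc i))) := by
  obtain ⟨l₁, l₂, hlen, hm, hI⟩ := Groth.Agent.RegularLib.exists_lists R I
  have hd' : d = (l₁ ++ l₂).length := by
    have := Groth.Agent.RegularLib.spanFinrank_eq_dim R
    rw [hd] at this
    have h2 : (IsLocalRing.maximalIdeal R).spanFinrank = d := by exact_mod_cast this
    rw [List.length_append, hlen, h2]
  subst hd'
  have hc : l₁.length ≤ (l₁ ++ l₂).length := by rw [List.length_append]; omega
  refine ⟨(l₁ ++ l₂).get, l₁.length, hc, ?_, ?_⟩
  · rw [Set.range_list_get]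
    exact hm
  · have : (fun i : Fin l₁.length => (l₁ ++ l₂).get (Fin.castLE hc i)) = l₁.get := by
      funext i
      simp [List.getElem_append_left]
    rw [this, Set.range_list_get]
    exact hI.symm

end Groth.Agent.S0561
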