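import Groth.Statements.S0572
import Groth.Agent.Lib.NorLocus2_helper3
-- import your own Groth.Agent.* helpers here

set_option autoImplicit false
universe u
open CAlg


namespace Groth.Agent.S0572

/-- Let `R` be a Noetherian domain such that `R_f` is integrally closed for some nonzero `f`. Then the
set of primes `p` with `R_p` integrally closed is open in `Spec R`. -/
theorem result (R : Type u) [CommRing R] [IsDomain R] [IsNoetherianRing R] (f : R)
    (hf : f ≠ 0) (hn : IsIntegrallyClosed (Localization.Away f)) :
    IsOpen {p : PrimeSpectrum R | IsIntegrallyClosed (Localization.AtPrime p.asIdeal)} := by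
  haveI : IsDomain (Localization.Away f) :=
    IsLocalization.isDomain_localization (powers_le_nonZeroDivisors_of_noZeroDivisors hf)
  haveI := hn
  have h1 : IsOpen (EGA4.norLocus R) := by
    apply Groth.Agent.Lib.NorLocus2H3.isOpen_norLocus_of_domain
    refine ⟨(PrimeSpectrum.basicOpen f : Set (PrimeSpectrum R)), (PrimeSpectrum.basicOpen f).2,
      ?_, Groth.Agent.Lib.NorLocus2H3.basicOpen_subset_norLocus R f⟩
    exact ⟨⟨⊥, Ideal.isPrime_bot⟩, fun h => hf (by simpa using h)⟩
  have h2 : {p : PrimeSpectrum R | IsIntegrallyClosed (Localization.AtPrime p.asIdeal)} =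
      EGA4.norLocus R := by
    ext p
    exact ⟨fun h => ⟨inferInstance, h⟩, fun h => h.2⟩
  rw [h2]
  exact h1

end Groth.Agent.S0572
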