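import Groth.Statements.S0574
import Mathlib

set_option autoImplicit false
universe u
open CAlg

namespace Groth.Agent.S0574

/-- For Noetherian domains of characteristic zero the conditions N-1 and N-2 coincide. -/
theorem result (R : Type u) [CommRing R] [IsDomain R] [IsNoetherianRing R]
    [CharZero R] : CAlg.IsN1 R ↔ CAlg.IsN2 R := by
  constructor
  · intro h L _ _ _ _ hfin
    let K := FractionRing R
    let R' := integralClosure R K
    haveI : Module.Finite R R' := h
    haveI : IsNoetherianRing R' :=
      isNoetherian_of_tower R (isNoetherian_of_isNoetherianRing_of_finite R R')
    haveI : FiniteDimensional K K := inferInstance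
    haveI : IsFractionRing R' K := integralClosure.isFractionRing_of_finite_extension K K
    haveI : IsIntegrallyClosed R' := integralClosure.isIntegrallyClosedOfFiniteExtension K
    haveI : CharZero K := inferInstance
    haveI : Algebra.IsSeparable K L := inferInstance
    haveI : IsScalarTower R' K L := inferInstance
    haveI : Module.Finite R' (integralClosure R' L) :=
      IsIntegralClosure.finite R' K L (integralClosure R' L)
    haveI : Module.Finite R (integralClosure R' L) := Module.Finite.trans R' _
    haveI : Algebra.IsIntegral R R' := inferInstance
    let g : integralClosure R' L →ₗ[R] integralClosure R L :=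
      { toFun := fun x => ⟨x.1, isIntegral_trans (A := R') x.1 x.2⟩
        map_add' := fun x y => rfl
        map_smul' := fun c x => rfl }
    have hg : Function.Surjective g := by
      rintro ⟨y, hy⟩
      have hy' : IsIntegral R y := hy
      exact ⟨⟨y, hy'.tower_top⟩, rfl⟩
    exact Module.Finite.of_surjective g hg
  · intro h
    exact h (FractionRing R) inferInstance

end Groth.Agent.S0574
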