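import Groth.Statements.S0580
import Groth.Agent.Lib.CohenStruct_helper3
-- import your own Groth.Agent.* helpers here

set_option autoImplicit false
universe u
open CAlg
set_option maxSynthPendingDepth 3

namespace Groth.Agent.S0580

/-- A local ring complete with respect to a finitely generated maximal ideal is a quotient of a power
series ring in finitely many variables over a ring which is either a field or a Cohen ring. -/
theorem result (R : Type u) [CommRing R]
    [IsLocalRing R] [IsAdicComplete (IsLocalRing.maximalIdeal R) R]
    (hfg : (IsLocalRing.maximalIdeal R).FG) :
    ∃ (Λ : Type u) (_ : CommRing Λ) (n : ℕ) (f : MvPowerSeries (Fin n) Λ →+* R),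
      (IsField Λ ∨ CAlg.IsCohenRing Λ) ∧ Function.Surjective f := by
  exact Groth.Agent.Lib.CohenStructH3.exists_surjective_of_complete R hfg

end Groth.Agent.S0580
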