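import Groth.Statements.S0587
import Groth.Agent.Lib.PiTensor_lead
-- import your own Groth.Agent.* helpers here

set_option autoImplicit false
universe u
open CAlg

namespace Groth.Agent.S0587

/-- A module `M` is finitely generated exactly when for every family of modules `(Qᵢ)` the natural map
from `M ⊗ ∏ Qᵢ` to `∏ (M ⊗ Qᵢ)` is surjective. -/
theorem result (R : Type u) [CommRing R] (M : Type u)
    [AddCommGroup M] [Module R M] :
    Module.Finite R M ↔ ∀ (ι : Type u) (Q : ι → Type u) [∀ i, AddCommGroup (Q i)]
      [∀ i, Module R (Q i)], Function.Surjective (TensorProduct.piRightHom R R M Q) := by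
  constructor
  · intro h ι Q _ _
    exact Groth.Agent.Lib.PiTensor_lead.piRightHom_surjective_of_finite M Q
  · intro h
    have key : ∀ y : TensorProduct R M (M → R), ∃ N : Submodule R M, N.FG ∧
        ∀ m : M, TensorProduct.rid R M (TensorProduct.piRightHom R R M (fun _ : M => R) y m) ∈ N := by
      intro y
      induction y using TensorProduct.induction_on with
      | zero => exact ⟨⊥, Submodule.fg_bot, fun m => by simp⟩
      | tmul x f =>
        refine ⟨Submodule.span R {x}, Submodule.fg_span_singleton x, fun m => ?_⟩
        simp only [TensorProduct.piRightHom_tmul, TensorProduct.rid_tmul]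
        exact Submodule.smul_mem _ _ (Submodule.mem_span_singleton_self x)
      | add a b ha hb =>
        obtain ⟨Na, hNa, ha⟩ := ha
        obtain ⟨Nb, hNb, hb⟩ := hb
        refine ⟨Na ⊔ Nb, hNa.sup hNb, fun m => ?_⟩
        simp only [map_add, Pi.add_apply]
        exact Submodule.add_mem_sup (ha m) (hb m)
    obtain ⟨y, hy⟩ := h M (fun _ => R) (fun m => m ⊗ₜ[R] (1 : R))
    obtain ⟨N, hN, hmem⟩ := key y
    have : N = ⊤ := by
      rw [eq_top_iff]
      intro m _
      have := hmem m
      rw [hy] at this
      simpa using this
    exact ⟨this ▸ hN⟩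

end Groth.Agent.S0587
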