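import Groth.Statements.S0588
import Groth.Agent.Lib.MittagLeffler_lead
import Groth.Agent.Lib.PiTensor_lead
import Groth.Agent.S0587
import Mathlib.Algebra.Module.FinitePresentation
-- import your own Groth.Agent.* helpers here

set_option autoImplicit false
universe u
open CAlg

namespace Groth.Agent.S0588

open TensorProduct in
/-- If `M ⊗ R^M → (M ⊗ R)^M` is surjective then `M` is finite. -/
theorem finite_of_piRightHom_surjective_const (R : Type u) [CommRing R] (M : Type u)
    [AddCommGroup M] [Module R M]
    (h : Function.Surjective (TensorProduct.piRightHom R R M (fun _ : M => R))) :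
    Module.Finite R M := by
  have key : ∀ y : TensorProduct R M (M → R), ∃ N : Submodule R M, N.FG ∧
      ∀ m : M, TensorProduct.rid R M (TensorProduct.piRightHom R R M (fun _ : M => R) y m) ∈ N := by
    intro y
    induction y using TensorProduct.induction_on with
    | zero => exact ⟨⊥, Submodule.fg_bot, fun m => by simp⟩
    | tmul x f =>
      refine ⟨Submodule.span R {x}, Submodule.fg_span_singleton x, fun m => ?_⟩
      simp only [TensorProduct.piRightHom_tmul, TensorProduct.rid_tmul]
      exact Submodule.smul_mem _ _ (Submodule.mem_span_singleton_self x)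
    | add a b ha hb =>
      obtain ⟨Na, hNa, ha⟩ := ha
      obtain ⟨Nb, hNb, hb⟩ := hb
      refine ⟨Na ⊔ Nb, hNa.sup hNb, fun m => ?_⟩
      simp only [map_add, Pi.add_apply]
      exact Submodule.add_mem_sup (ha m) (hb m)
  obtain ⟨y, hy⟩ := h (fun m => m ⊗ₜ[R] (1 : R))
  obtain ⟨N, hN, hmem⟩ := key y
  have : N = ⊤ := by
    rw [eq_top_iff]
    intro m _
    have := hmem m
    rw [hy] at this
    simpa using this
  exact ⟨this ▸ hN⟩

/-- naturality of `piRightHom` in the left factor -/
theorem piRightHom_natural {R : Type u} [CommRing R] {M N : Type u} [AddCommGroup M] [Module R M]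
    [AddCommGroup N] [Module R N] (f : M →ₗ[R] N) {ι : Type u} (Q : ι → Type u)
    [∀ i, AddCommGroup (Q i)] [∀ i, Module R (Q i)] (y : TensorProduct R M (∀ i, Q i)) :
    (fun i => f.rTensor (Q i) (TensorProduct.piRightHom R R M Q y i)) =
      TensorProduct.piRightHom R R N Q (f.rTensor (∀ i, Q i) y) := by
  induction y using TensorProduct.induction_on with
  | zero => simp; rfl
  | tmul x q => ext i; simp
  | add a b ha hb =>
    simp only [map_add, Pi.add_apply]
    rw [← ha, ← hb]
    rfl


/-- A module `M` is finitely presented exactly when for every family of modules `(Qᵢ)` the natural map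
from `M ⊗ ∏ Qᵢ` to `∏ (M ⊗ Qᵢ)` is bijective. -/
theorem result (R : Type u) [CommRing R] (M : Type u)
    [AddCommGroup M] [Module R M] :
    Module.FinitePresentation R M ↔ ∀ (ι : Type u) (Q : ι → Type u) [∀ i, AddCommGroup (Q i)]
      [∀ i, Module R (Q i)], Function.Bijective (TensorProduct.piRightHom R R M Q) := by
  constructor
  · intro h ι Q _ _
    exact ⟨Groth.Agent.Lib.MittagLeffler_lead.of_finitePresentation M ι Q,
      Groth.Agent.Lib.PiTensor_lead.piRightHom_surjective_of_finite M Q⟩
  · intro h
    have hfin : Module.Finite R M :=
      (Groth.Agent.S0587.result R M).mpr fun ι Q _ _ => (h ι Q).2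
    obtain ⟨n, π, hπ⟩ := Module.Finite.exists_fin' R M
    have hex : Function.Exact (LinearMap.ker π).subtype π := LinearMap.exact_subtype_ker_map π
    -- the kernel is finitely generated
    have hK : Module.Finite R (LinearMap.ker π) := by
      apply finite_of_piRightHom_surjective_const
      intro w
      have hF := Groth.Agent.Lib.MittagLeffler_lead.of_free (R := R) (Fin n → R)
      obtain ⟨x, hx⟩ := Groth.Agent.Lib.PiTensor_lead.piRightHom_surjective_of_finite (R := R)
        (Fin n → R) (fun _ : LinearMap.ker π => R)
        (fun k => (LinearMap.ker π).subtype.rTensor R (w k))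
      have hπx : π.rTensor (LinearMap.ker π → R) x = 0 := by
        apply (h (LinearMap.ker π) (fun _ => R)).1
        rw [map_zero, ← piRightHom_natural, hx]
        ext k
        simp only [Pi.zero_apply]
        rw [← LinearMap.comp_apply, ← LinearMap.rTensor_comp, hex.linearMap_comp_eq_zero,
          LinearMap.rTensor_zero, LinearMap.zero_apply]
      obtain ⟨y, rfl⟩ := (rTensor_exact (LinearMap.ker π → R) hex hπ x).mp hπx
      refine ⟨y, ?_⟩
      ext k
      apply Module.Flat.rTensor_preserves_injective_linearMap (M := R) (LinearMap.ker π).subtype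
        (Submodule.subtype_injective _)
      have := congrFun (piRightHom_natural (LinearMap.ker π).subtype
        (fun _ : LinearMap.ker π => R) y) k
      rw [this, hx]
    exact Module.finitePresentation_of_surjective π hπ
      (Module.Finite.iff_fg.mp hK)

end Groth.Agent.S0588
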