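import Groth.Statements.S0602
import Mathlib
import Groth.Agent.Lib.DepthLoc_helper5

set_option autoImplicit false
universe u
open CAlg

namespace Groth.Agent.S0602

open Groth.Agent.DepthLib in
/-- the localized module of the ring is the localization -/
noncomputable def locSelfEquiv (R : Type u) [CommRing R] (p : Ideal R) [p.IsPrime] :
    LocalizedModule p.primeCompl R ≃ₗ[Localization.AtPrime p] Localization.AtPrime p :=
  LinearEquiv.extendScalarsOfIsLocalization p.primeCompl (Localization.AtPrime p)
    (IsLocalizedModule.iso p.primeCompl (Algebra.linearMap R (Localization.AtPrime p)))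

theorem depth_locSelf (R : Type u) [CommRing R] (p : Ideal R) [p.IsPrime] :
    LocCoh.depth (Localization.AtPrime p) (LocalizedModule p.primeCompl R) =
      LocCoh.depth (Localization.AtPrime p) (Localization.AtPrime p) :=
  Groth.Agent.DepthLib.idealDepth_congr _ _ (locSelfEquiv R p)

theorem supportDim_locSelf (R : Type u) [CommRing R] (p : Ideal R) [p.IsPrime] :
    Module.supportDim (Localization.AtPrime p) (LocalizedModule p.primeCompl R) =
      (p.height : WithBot ℕ∞) := by
  rw [Module.supportDim_eq_of_equiv (locSelfEquiv R p), Module.supportDim_self_eq_ringKrullDim,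
    IsLocalization.AtPrime.ringKrullDim_eq_height p]

/-- in a reduced ring an annihilator prime is a minimal prime -/
theorem minimal_of_ann_of_reduced (B : Type u) [CommRing B] [IsReduced B] (P : Ideal B)
    [hP : P.IsPrime] (a : B) (ha : a ≠ 0) (hPa : ∀ b ∈ P, b * a = 0) : P ∈ minimalPrimes B := by
  have hnil : a ∉ nilradical B := by
    rw [nilradical_eq_zero]
    exact ha
  rw [nilradical_eq_sInf, Ideal.mem_sInf] at hnil
  push Not at hnil
  obtain ⟨q, hq, haq⟩ := hnil
  have hq' : q.IsPrime := hq
  obtain ⟨q₀, hq₀, hq₀q⟩ := Ideal.exists_minimalPrimes_le (I := ⊥) (J := q) bot_le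
  have hq₀prime : q₀.IsPrime := hq₀.1.1
  have haq₀ : a ∉ q₀ := fun h => haq (hq₀q h)
  have hPq₀ : P ≤ q₀ := by
    intro b hb
    have h0 : b * a ∈ q₀ := by rw [hPa b hb]; exact q₀.zero_mem
    exact (hq₀prime.mem_or_mem h0).resolve_right haq₀
  have : q₀ ≤ P := hq₀.2 ⟨hP, bot_le⟩ hPq₀
  have hPeq : P = q₀ := le_antisymm hPq₀ this
  rw [hPeq]
  exact hq₀

/-- A Noetherian ring is reduced exactly when it satisfies the conditions R₀ and S₁. -/
theorem result (R : Type u) [CommRing R] [IsNoetherianRing R] :
    IsReduced R ↔ (LocCoh.HasRk 0 R ∧ LocCoh.HasSk 1 R R) := by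
  classical
  constructor
  · intro hred
    refine ⟨?_, ?_⟩
    · -- R0
      intro p _ hp
      have hdim : ringKrullDim (Localization.AtPrime p) ≤ 0 := by
        rw [IsLocalization.AtPrime.ringKrullDim_eq_height p]
        exact_mod_cast hp
      haveI : Ring.KrullDimLE 0 (Localization.AtPrime p) := Ring.krullDimLE_iff.2 hdim
      haveI : IsArtinianRing (Localization.AtPrime p) :=
        IsNoetherianRing.isArtinianRing_of_krullDimLE_zero
      haveI : IsReduced (Localization.AtPrime p) := inferInstance
      have hfield : IsField (Localization.AtPrime p) :=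
        IsArtinianRing.isField_of_isReduced_of_isLocalRing _
      letI := hfield.toField
      infer_instance
    · -- S1
      intro p _
      rw [supportDim_locSelf, depth_locSelf]
      by_cases h1 : 1 ≤ LocCoh.depth (Localization.AtPrime p) (Localization.AtPrime p)
      · refine le_trans (min_le_left _ _) ?_
        exact_mod_cast h1
      · unfold LocCoh.depth at h1
        obtain ⟨Q, hQ, hmQ⟩ := Groth.Agent.DepthLib.exists_associatedPrime_of_not_one_le _ _ h1
        haveI hQprime := hQ.isPrime
        have hQeq : Q = IsLocalRing.maximalIdeal (Localization.AtPrime p) :=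
          ((IsLocalRing.maximalIdeal.isMaximal _).eq_of_le hQprime.ne_top hmQ).symm
        obtain ⟨_, a, ha⟩ := isAssociatedPrime_iff.1 hQ
        haveI : IsReduced (Localization.AtPrime p) := inferInstance
        have hane : a ≠ 0 := by
          rintro rfl
          apply hQprime.ne_top
          rw [ha, Ideal.eq_top_iff_one, Submodule.mem_colon_singleton]
          simp
        have hmin : Q ∈ minimalPrimes (Localization.AtPrime p) := by
          apply minimal_of_ann_of_reduced _ Q a hane
          intro b hb
          rw [ha, Submodule.mem_colon_singleton, Submodule.mem_bot] at hb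
          exact hb
        -- hence height p = 0
        have hht : p.height = 0 := by
          have h2 : ringKrullDim (Localization.AtPrime p) ≤ 0 := by
            haveI : Ring.KrullDimLE 0 (Localization.AtPrime p) := by
              rw [Ring.krullDimLE_zero_iff]
              intro J hJ
              have hle : J ≤ Q := by rw [hQeq]; exact IsLocalRing.le_maximalIdeal hJ.ne_top
              have : Q ≤ J := hmin.2 ⟨hJ, bot_le⟩ hle
              rw [le_antisymm hle this, hQeq]
              exact IsLocalRing.maximalIdeal.isMaximal _
            exact Ring.krullDimLE_iff.1 inferInstance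
          rw [IsLocalization.AtPrime.ringKrullDim_eq_height p] at h2
          have : p.height ≤ 0 := by exact_mod_cast h2
          exact le_antisymm this zero_le
        rw [hht]
        refine le_trans (min_le_right _ _) ?_
        exact_mod_cast (zero_le : (0 : ℕ∞) ≤ _)
  · rintro ⟨hR0, hS1⟩
    constructor
    intro x hx
    by_contra hxne
    obtain ⟨P, hP, hle⟩ := exists_le_isAssociatedPrime_of_isNoetherianRing R x hxne
    haveI hPprime := hP.isPrime
    have hass := Module.associatedPrimes.mem_associatedPrimes_atPrime_of_mem_associatedPrimes hP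
    have hnot := Groth.Agent.DepthLib.not_one_le_idealDepth_of_le_associatedPrime
      (IsLocalRing.maximalIdeal (Localization.AtPrime P)) (LocalizedModule P.primeCompl R) _ hass
      le_rfl
    have hS := hS1 P
    rw [supportDim_locSelf] at hS
    have hht : P.height ≤ 0 := by
      by_contra hpos
      push Not at hpos
      have h1 : (1 : ℕ∞) ≤ P.height := Order.one_le_iff_pos.2 hpos
      have h1' : (1 : WithBot ℕ∞) ≤ (P.height : WithBot ℕ∞) := by exact_mod_cast h1
      have hS' : (1 : WithBot ℕ∞) ≤
          ↑(LocCoh.depth (Localization.AtPrime P) (LocalizedModule P.primeCompl R)) := by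
        have h2 : min (1 : WithBot ℕ∞) (P.height : WithBot ℕ∞) = 1 := min_eq_left h1'
        calc (1 : WithBot ℕ∞) = min (1 : WithBot ℕ∞) (P.height : WithBot ℕ∞) := h2.symm
          _ ≤ _ := by exact_mod_cast hS
      replace hS := hS'
      apply hnot
      unfold LocCoh.depth at hS
      exact_mod_cast hS
    haveI hreg := hR0 P (by exact_mod_cast hht)
    -- regular of dimension zero: maximal ideal is zero
    have hdim : ringKrullDim (Localization.AtPrime P) = 0 := by
      rw [IsLocalization.AtPrime.ringKrullDim_eq_height P]
      have : P.height = 0 := le_antisymm hht zero_le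
      rw [this]
      rfl
    have hspan := hreg.spanFinrank_maximalIdeal
    rw [hdim] at hspan
    have hspan' : (IsLocalRing.maximalIdeal (Localization.AtPrime P)).spanFinrank = 0 := by
      exact_mod_cast hspan
    have hmbot : IsLocalRing.maximalIdeal (Localization.AtPrime P) = ⊥ :=
      (Submodule.spanFinrank_eq_zero_iff_eq_bot (IsNoetherian.noetherian _)).1 hspan'
    -- image of x is nilpotent hence in the maximal ideal hence zero
    have hxnil : IsNilpotent (algebraMap R (Localization.AtPrime P) x) := hx.map _
    have hxm : algebraMap R (Localization.AtPrime P) x ∈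
        IsLocalRing.maximalIdeal (Localization.AtPrime P) := by
      rw [IsLocalRing.mem_maximalIdeal, mem_nonunits_iff]
      intro hu
      obtain ⟨k, hk⟩ := hxnil
      have := hu.pow k
      rw [hk] at this
      exact not_isUnit_zero this
    rw [hmbot, Ideal.mem_bot] at hxm
    obtain ⟨s, hs⟩ := (IsLocalization.map_eq_zero_iff P.primeCompl _ x).1 hxm
    have : (s : R) ∈ P := by
      apply hle
      rw [Submodule.mem_colon_singleton, Submodule.mem_bot]
      exact hs
    exact s.2 this

end Groth.Agent.S0602
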