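import Groth.Statements.S0643

set_option autoImplicit false
universe u
open EtCore

namespace Groth.Agent.S0643

open Polynomial in
/-- Let A be a ring, assumed nonzero here (the published statement does not say so; over the zero ring
no polynomial has positive degree in Lean's sense), and a, b elements generating the unit ideal such
that some positive power of a is congruent to 1 modulo b. Then there is a monic polynomial P of
positive degree over A such that in B = A[y]/(P) the element a - b y is a unit. -/
theorem result (A : Type u) [CommRing A] [Nontrivial A] (a b : A) (hab : IsCoprime a b)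
    (hroot : ∃ n : ℕ, 0 < n ∧ a ^ n - 1 ∈ Ideal.span ({b} : Set A)) :
    ∃ P : A[X], P.Monic ∧ 0 < P.natDegree ∧
      IsUnit (algebraMap A (AdjoinRoot P) a - algebraMap A (AdjoinRoot P) b * AdjoinRoot.root P) := by
  classical
  obtain ⟨n, hn, hmem⟩ := hroot
  obtain ⟨c, hc⟩ := Ideal.mem_span_singleton'.mp hmem
  obtain ⟨u, v, huv⟩ := hab
  -- hc : c * b = a ^ n - 1,  huv : u * a + v * b = 1
  let q : A[X] := C c * (C u * X + C v) ^ (n - 1)
  have h1 : (C u * X + C v : A[X]).natDegree ≤ 1 := by
    refine (natDegree_add_le _ _).trans ?_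
    rw [max_le_iff]
    exact ⟨(natDegree_C_mul_le _ _).trans (natDegree_X_le), by simp⟩
  have h2 : q.natDegree ≤ n - 1 := by
    refine (natDegree_C_mul_le _ _).trans ?_
    refine (natDegree_pow_le).trans ?_
    calc (n - 1) * (C u * X + C v : A[X]).natDegree ≤ (n - 1) * 1 :=
          Nat.mul_le_mul_left _ h1
      _ = n - 1 := mul_one _
  have h2' : q.natDegree < n := lt_of_le_of_lt h2 (Nat.sub_lt hn Nat.one_pos)
  have hq : q.degree < (n : WithBot ℕ) := by
    refine lt_of_le_of_lt (degree_le_natDegree) ?_
    exact_mod_cast h2'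
  let P : A[X] := X ^ n - q
  have hPm : P.Monic := monic_X_pow_sub hq
  have hPd : P.natDegree = n := by
    have : q.natDegree < (X ^ n : A[X]).natDegree := by rwa [natDegree_X_pow]
    rw [natDegree_sub_eq_left_of_natDegree_lt this, natDegree_X_pow]
  refine ⟨P, hPm, by rw [hPd]; exact hn, ?_⟩
  -- notation
  set B := AdjoinRoot P
  set r : B := AdjoinRoot.root P
  set a' : B := algebraMap A B a
  set b' : B := algebraMap A B b
  set c' : B := algebraMap A B c
  set u' : B := algebraMap A B u
  set v' : B := algebraMap A B v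
  set t : B := a' - b' * r with ht
  have hroot : r ^ n = c' * (u' * r + v') ^ (n - 1) := by
    have h0 : Polynomial.aeval r P = 0 := AdjoinRoot.aeval_eq P ▸ AdjoinRoot.mk_self
    simp only [P, q, map_sub, map_pow, aeval_X, map_mul, aeval_C, map_add] at h0
    exact sub_eq_zero.mp h0
  have huv' : u' * a' + v' * b' = 1 := by
    simp only [u', a', v', b', ← map_mul, ← map_add, huv, map_one]
  have hc' : c' * b' = a' ^ n - 1 := by
    simp only [c', a', b', ← map_mul, hc, map_sub, map_pow, map_one]
  -- b r = a - t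
  have hbr : b' * r = a' - t := by rw [ht]; ring
  have h1 : t ∣ a' ^ n - (a' - t) ^ n := by
    have := sub_dvd_pow_sub_pow a' (a' - t) n
    rwa [sub_sub_cancel] at this
  have h2 : t ∣ 1 - (1 - u' * t) ^ (n - 1) := by
    have := sub_dvd_pow_sub_pow (1 : B) (1 - u' * t) (n - 1)
    rw [sub_sub_cancel, one_pow] at this
    exact (Dvd.intro_left u' rfl).trans this
  have h3 : b' ^ n * r ^ n = (a' - t) ^ n := by rw [← mul_pow, hbr]
  have h4 : u' * (b' * r) + v' * b' = 1 - u' * t := by
    rw [hbr, mul_sub, sub_add_eq_add_sub, huv']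
  have h5 : b' ^ n * (c' * (u' * r + v') ^ (n - 1)) = c' * b' * (1 - u' * t) ^ (n - 1) := by
    have : b' ^ n = b' * b' ^ (n - 1) := by
      rw [← pow_succ', Nat.sub_add_cancel hn]
    rw [← h4, this]
    have : b' ^ (n - 1) * (u' * r + v') ^ (n - 1) = (u' * (b' * r) + v' * b') ^ (n - 1) := by
      rw [← mul_pow]; congr 1; ring
    calc b' * b' ^ (n - 1) * (c' * (u' * r + v') ^ (n - 1))
        = c' * b' * (b' ^ (n - 1) * (u' * r + v') ^ (n - 1)) := by ring
      _ = _ := by rw [this]
  have h6 : (a' - t) ^ n = c' * b' * (1 - u' * t) ^ (n - 1) := by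
    rw [← h3, hroot, h5]
  have h7 : t ∣ 1 := by
    have e : (1 : B) = (a' ^ n - (a' - t) ^ n) - c' * b' * (1 - (1 - u' * t) ^ (n - 1)) := by
      rw [h6, hc']; ring
    rw [e]
    exact dvd_sub h1 (Dvd.dvd.mul_left h2 _)
  exact isUnit_of_dvd_one h7

end Groth.Agent.S0643
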