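import Groth.Statements.S0702
import Mathlib
import Groth.Agent.S0701

set_option autoImplicit false
open CategoryTheory CategoryTheory.Limits AlgebraicGeometry Opposite Topology
universe u
open ProEtW

namespace Groth.Agent.S0702

/-- Let Spec A be profinite and A -> B induce algebraic extensions of residue fields at all primes. Then
Spec B is profinite. -/
theorem result (A B : Type u) [CommRing A] [CommRing B]
    [Algebra A B] [T2Space (PrimeSpectrum A)] [TotallyDisconnectedSpace (PrimeSpectrum A)]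
    (h : ProEtW.AlgebraicResidueExtensions A B) :
    ProEtW.IsProfinite (PrimeSpectrum B) := by
  refine Groth.Agent.S0701.result A B ?_
  intro q q' hqq' hle
  by_contra hne
  haveI := q.2
  have hlt : ∃ x ∈ q'.asIdeal, x ∉ q.asIdeal := by
    by_contra hcon
    push Not at hcon
    exact hne (PrimeSpectrum.ext (le_antisymm hle hcon))
  obtain ⟨x, hxq', hxq⟩ := hlt
  haveI := h q.asIdeal
  have hx0 : (Ideal.Quotient.mk q.asIdeal x) ≠ 0 := by
    rwa [Ne, Ideal.Quotient.eq_zero_iff_mem]
  have hxI : Ideal.Quotient.mk q.asIdeal x ∈ q'.asIdeal.map (Ideal.Quotient.mk q.asIdeal) :=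
    Ideal.mem_map_of_mem _ hxq'
  have hbot := Ideal.comap_ne_bot_of_algebraic_mem
    (R := A ⧸ q.asIdeal.comap (algebraMap A B)) hx0 hxI (Algebra.IsAlgebraic.isAlgebraic _)
  obtain ⟨a, ha, ha0⟩ := Submodule.exists_mem_ne_zero_of_ne_bot hbot
  obtain ⟨a', rfl⟩ := Ideal.Quotient.mk_surjective a
  apply ha0
  rw [Ideal.Quotient.eq_zero_iff_mem, hqq']
  have h2 : Ideal.Quotient.mk q.asIdeal (algebraMap A B a') ∈
      q'.asIdeal.map (Ideal.Quotient.mk q.asIdeal) := ha
  rwa [Ideal.mem_quotient_iff_mem hle] at h2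

end Groth.Agent.S0702
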