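import Groth.Statements.S0706
import Mathlib

set_option autoImplicit false
open CategoryTheory CategoryTheory.Limits AlgebraicGeometry Opposite Topology
universe u
open ProEtW

namespace Groth.Agent.S0706

/-- Let f be an element and I an ideal of A, and Z the intersection of D(f) and V(I) in Spec A. There is
a multiplicative subset S of A for which the image of Spec(S^{-1}A) in Spec A consists precisely of
the points having a specialization in Z. -/
theorem result (A : Type u) [CommRing A] (f : A) (I : Ideal A) :
    ∃ S : Submonoid A,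
      Set.range (PrimeSpectrum.comap (algebraMap A (Localization S))) =
        {x | ∃ z : PrimeSpectrum A,
          z ∈ (PrimeSpectrum.basicOpen f : Set (PrimeSpectrum A)) ∩ PrimeSpectrum.zeroLocus I ∧ x ⤳ z} := by
  classical
  let Z : Set (PrimeSpectrum A) :=
    (PrimeSpectrum.basicOpen f : Set (PrimeSpectrum A)) ∩ PrimeSpectrum.zeroLocus I
  let S : Submonoid A :=
    { carrier := {s | ∀ z ∈ Z, s ∉ z.asIdeal}
      one_mem' := fun z _ h => z.isPrime.ne_top ((Ideal.eq_top_iff_one _).2 h)
      mul_mem' := fun {a b} ha hb z hz h =>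
        (z.isPrime.mem_or_mem h).elim (ha z hz) (hb z hz) }
  refine ⟨S, ?_⟩
  rw [PrimeSpectrum.localization_comap_range (Localization S) S]
  ext p
  simp only [Set.mem_setOf_eq]
  constructor
  · intro hdis
    -- (p + I) is disjoint from powers of f
    have hd : Disjoint ((p.asIdeal ⊔ I : Ideal A) : Set A) (Submonoid.powers f : Set A) := by
      rw [Set.disjoint_left]
      rintro x hx ⟨n, rfl⟩
      obtain ⟨a, ha, i, hi, hai⟩ := Submodule.mem_sup.1 hx
      -- a ∈ p, so a ∉ S, so a ∈ z for some z ∈ Z
      have haS : a ∉ S := fun haS => Set.disjoint_left.1 hdis haS ha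
      have : ∃ z ∈ Z, a ∈ z.asIdeal := by
        by_contra hcon
        push_neg at hcon
        exact haS hcon
      obtain ⟨z, hz, haz⟩ := this
      have hiz : i ∈ z.asIdeal := hz.2 hi
      have hfz : f ^ n ∈ z.asIdeal := by
        have : f ^ n = a + i := hai.symm
        rw [this]
        exact z.asIdeal.add_mem haz hiz
      have hf : f ∈ z.asIdeal := z.isPrime.mem_of_pow_mem n hfz
      exact hz.1 hf
    obtain ⟨q, hq, hle, hqd⟩ := Ideal.exists_le_prime_disjoint (p.asIdeal ⊔ I) (Submonoid.powers f) hd
    refine ⟨⟨q, hq⟩, ⟨?_, ?_⟩, ?_⟩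
    · show f ∉ q
      intro hf
      exact Set.disjoint_left.1 hqd hf (Submonoid.mem_powers f)
    · show (I : Set A) ⊆ q
      exact fun x hx => hle (Ideal.mem_sup_right hx)
    · rw [← PrimeSpectrum.le_iff_specializes]
      exact fun x hx => hle (Ideal.mem_sup_left hx)
  · rintro ⟨z, hz, hpz⟩
    rw [← PrimeSpectrum.le_iff_specializes] at hpz
    rw [Set.disjoint_left]
    intro s hs hsp
    exact hs z hz (hpz hsp)

end Groth.Agent.S0706
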