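import Groth.Statements.S0754
import Groth.Agent.Lib.StrictHens8_helper3
import Groth.Agent.Lib.IndEtale4_helper3
import Groth.Agent.Lib.WeaklyEtaleSpec_helper3
-- import your own Groth.Agent.* helpers here

set_option autoImplicit false
open CategoryTheory CategoryTheory.Limits AlgebraicGeometry Opposite
set_option maxSynthPendingDepth 3
universe u
open ProEtS

namespace Groth.Agent.S0754

/-- For a point x of a scheme X and a strict henselization R of the local ring of X at x, the canonical
morphism Spec R -> X is weakly etale, so that Spec R is an object of the small pro-etale site of X. -/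
theorem result (X : Scheme.{u}) (x : ↥X) (R : Type u) [CommRing R]
    [IsLocalRing R] [Algebra (X.presheaf.stalk x) R] [IsLocalHom (algebraMap (X.presheaf.stalk x) R)]
    [Hensel.IsStrictHenselization (X.presheaf.stalk x) R] :
    WeaklyEtale (Hens2.specOf X x R) := by
  have hie : EtPBC.IsIndEtale (X.presheaf.stalk x) R :=
    Groth.Agent.Lib.StrictHens.isIndEtale_of_isStrictHenselization (R := X.presheaf.stalk x) R
  haveI : Algebra.WeaklyEtale (X.presheaf.stalk x) R :=
    Groth.Agent.Lib.IndEtaleH3.weaklyEtale_of_isIndEtale hie
  haveI := Groth.Agent.Lib.WeaklyEtaleSpecH3.weaklyEtale_fromSpecStalk X x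
  haveI := Groth.Agent.Lib.WeaklyEtaleSpecH3.weaklyEtale_SpecMap (X.presheaf.stalk x) R
  show WeaklyEtale (Spec.map (CommRingCat.ofHom (algebraMap (X.presheaf.stalk x) R)) ≫
    X.fromSpecStalk x)
  infer_instance

end Groth.Agent.S0754
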