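import Groth.Statements.S0781
import Mathlib

set_option autoImplicit false
open CategoryTheory CategoryTheory.Limits AlgebraicGeometry Opposite
universe u
open Desc

namespace Groth.Agent.S0781

/-- If p : X → S is a surjective morphism of schemes, then for schemes U₁, U₂ étale over S, two
S-morphisms U₁ → U₂ whose base changes to X agree, as morphisms of canonical descent data relative
to p, are equal; that is, the canonical-descent-datum functor is faithful on schemes étale over S.
(Descent data are taken in functor-of-points form, equivalent by the Yoneda lemma to an isomorphism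
over X ×_S X satisfying the cocycle condition.) -/
theorem result {X S : Scheme.{u}} (p : X ⟶ S) [Surjective p] (U₁ U₂ : Over S)
    [Etale U₁.hom] [Etale U₂.hom] : Function.Injective ((Desc.toDD p).map : (U₁ ⟶ U₂) → _) := by
  intro g₁ g₂ h12
  -- equality of the underlying morphisms of schemes `X ×_S U₁ ⟶ X ×_S U₂`
  have h1 : ((Desc.toDD p).map g₁).hom.left = ((Desc.toDD p).map g₂).hom.left := by rw [h12]
  have h2 : pullback.snd p U₁.hom ≫ g₁.left = pullback.snd p U₁.hom ≫ g₂.left := by
    have e1 : ((Desc.toDD p).map g₁).hom.left ≫ pullback.snd p U₂.hom =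
        pullback.snd p U₁.hom ≫ g₁.left := by
      show pullback.map p U₁.hom p U₂.hom (𝟙 X) g₁.left (𝟙 S) (by simp) (by simp) ≫
        pullback.snd p U₂.hom = _
      exact pullback.lift_snd _ _ _
    have e2 : ((Desc.toDD p).map g₂).hom.left ≫ pullback.snd p U₂.hom =
        pullback.snd p U₁.hom ≫ g₂.left := by
      show pullback.map p U₁.hom p U₂.hom (𝟙 X) g₂.left (𝟙 S) (by simp) (by simp) ≫
        pullback.snd p U₂.hom = _
      exact pullback.lift_snd _ _ _
    rw [← e1, ← e2, h1]
  haveI : FormallyUnramified U₂.hom := inferInstance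
  haveI : LocallyOfFiniteType U₂.hom := inferInstance
  let ι : (equalizer g₁ g₂).left ⟶ U₁.left := (equalizer.ι g₁ g₂).left
  haveI ho : IsOpenImmersion ι := by
    refine MorphismProperty.of_isPullback
      ((Limits.isPullback_equalizer_prod g₁ g₂).map (Over.forget _)).flip ?_
    change IsOpenImmersion (prod.lift (𝟙 U₂) (𝟙 U₂)).left
    have e : (prod.lift (𝟙 U₂) (𝟙 U₂)).left ≫ (Over.prodLeftIsoPullback U₂ U₂).hom =
        pullback.diagonal U₂.hom := by
      ext1
      · simp [← Over.comp_left]
        rw [prod.lift_fst]; rfl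
      · simp [← Over.comp_left]
        rw [prod.lift_snd]; rfl
    have h0 : IsOpenImmersion
        ((prod.lift (𝟙 U₂) (𝟙 U₂)).left ≫ (Over.prodLeftIsoPullback U₂ U₂).hom) := by
      rw [e]; infer_instance
    exact (MorphismProperty.cancel_right_of_respectsIso @IsOpenImmersion _
      (Over.prodLeftIsoPullback U₂ U₂).hom).1 h0
  -- the projection `X ×_S U₁ ⟶ U₁` factors through the equalizer
  let K : Over S := Over.mk (pullback.snd p U₁.hom ≫ U₁.hom)
  let k : K ⟶ U₁ := Over.homMk (pullback.snd p U₁.hom) rfl
  have hk : k ≫ g₁ = k ≫ g₂ := by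
    ext1
    exact h2
  let l := equalizer.lift k hk
  have hl : l ≫ equalizer.ι g₁ g₂ = k := equalizer.lift_ι _ _
  have hl' : l.left ≫ ι = pullback.snd p U₁.hom := congrArg CommaMorphism.left hl
  haveI : Surjective (pullback.snd p U₁.hom) :=
    MorphismProperty.pullback_snd (P := @Surjective) p U₁.hom inferInstance
  haveI : Surjective ι := by
    refine ⟨fun y => ?_⟩
    obtain ⟨z, hz⟩ := (pullback.snd p U₁.hom).surjective y
    refine ⟨l.left z, ?_⟩
    rw [← Scheme.Hom.comp_apply, hl']
    exact hz
  haveI : IsIso ι := (isIso_iff_isOpenImmersion_and_surjective ι).2 ⟨ho, inferInstance⟩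
  have h3 : ι ≫ g₁.left = ι ≫ g₂.left := congrArg CommaMorphism.left (equalizer.condition g₁ g₂)
  ext1
  exact (cancel_epi ι).1 h3

end Groth.Agent.S0781
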