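import Groth.Statements.S0787
import Mathlib
import Groth.Agent.Lib.ProperOver_helper9

set_option autoImplicit false
universe u
open Coherent

namespace Groth.Agent.S0787

open CategoryTheory AlgebraicGeometry in
/-- Let f : X → S be locally of finite type and Z ⊆ X a closed subset. Then Z with its reduced induced
structure is proper over S if and only if some closed subscheme of X with underlying set Z is proper
over S, if and only if every closed subscheme of X with underlying set Z is proper over S. -/
theorem result {X S : Scheme.{u}} (f : X ⟶ S) [LocallyOfFiniteType f]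
    (Z : Set X) (hZ : IsClosed Z) :
    (ClSub.IsProperOver f Z ↔ ∃ (T : Scheme.{u}) (i : T ⟶ X), IsClosedImmersion i ∧
        Set.range ⇑i = Z ∧ IsProper (i ≫ f)) ∧
    (ClSub.IsProperOver f Z ↔ ∀ (T : Scheme.{u}) (i : T ⟶ X), IsClosedImmersion i →
        Set.range ⇑i = Z → IsProper (i ≫ f)) := by
  have hr : Set.range (ProperOver.redι Z hZ) = Z := ProperOver.range_redι Z hZ
  have key : ∀ (T : Scheme.{u}) (i : T ⟶ X), IsClosedImmersion i → Set.range ⇑i = Z →
      (ClSub.IsProperOver f Z ↔ IsProper (i ≫ f)) := fun T i hi hri =>
    ProperOver.isProperOver_iff_of_closedImmersion f i hri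
  refine ⟨⟨fun h => ⟨_, ProperOver.redι Z hZ, inferInstance, hr,
      (key _ _ inferInstance hr).mp h⟩, fun ⟨T, i, hi, hri, hp⟩ => (key T i hi hri).mpr hp⟩,
    ⟨fun h T i hi hri => (key T i hi hri).mp h,
      fun H => (key _ (ProperOver.redι Z hZ) inferInstance hr).mpr
        (H _ (ProperOver.redι Z hZ) inferInstance hr)⟩⟩

end Groth.Agent.S0787
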