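import Groth.Statements.S0796
import Mathlib
import Groth.Agent.Lib.ProperOver_helper9
import Groth.Agent.Lib.SupportCoh_helper9

set_option autoImplicit false
universe u
open Coherent

namespace Groth.Agent.S0796

open CategoryTheory AlgebraicGeometry in
/-- Part (2), through the usual criterion for Serre subcategories. Let S be locally Noetherian and f : X
→ S locally of finite type. For a short exact sequence 0 → F₁ → F₂ → F₃ → 0 of coherent O_X-modules,
the support of F₂ is proper over S if and only if the supports of F₁ and F₃ are. -/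
theorem result {X S : Scheme.{u}} (f : X ⟶ S) [LocallyOfFiniteType f]
    [IsLocallyNoetherian S] (E : ShortComplex X.Modules) (hE : E.ShortExact)
    (h₁ : Coh.IsCoh E.X₁) (h₂ : Coh.IsCoh E.X₂) (h₃ : Coh.IsCoh E.X₃) :
    ClSub.IsProperOver f (CohB1.support E.X₂) ↔
      ClSub.IsProperOver f (CohB1.support E.X₁) ∧ ClSub.IsProperOver f (CohB1.support E.X₃) := by
  obtain ⟨hq₁, hf₁⟩ := h₁
  obtain ⟨hq₂, hf₂⟩ := h₂
  obtain ⟨hq₃, hf₃⟩ := h₃
  haveI : E.X₁.IsQuasicoherent := hq₁
  haveI : E.X₂.IsQuasicoherent := hq₂
  haveI : E.X₃.IsQuasicoherent := hq₃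
  haveI : SheafOfModules.IsFiniteType (R := X.ringCatSheaf) E.X₁ := hf₁
  haveI : SheafOfModules.IsFiniteType (R := X.ringCatSheaf) E.X₃ := hf₃
  rw [SupportCoh.support_shortExact E hE]
  constructor
  · intro h
    exact ⟨ProperOver.isProperOver_of_subset f h (SupportCoh.isClosed_support E.X₁)
        Set.subset_union_left,
      ProperOver.isProperOver_of_subset f h (SupportCoh.isClosed_support E.X₃)
        Set.subset_union_right⟩
  · rintro ⟨ha, hb⟩
    exact ProperOver.isProperOver_union f ha hb

end Groth.Agent.S0796
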