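import Groth.Statements.S0818
import Groth.Agent.Lib.CohDev6_helper8

set_option autoImplicit false
universe u
open Coherent

namespace Groth.Agent.S0818

open CategoryTheory AlgebraicGeometry in
/-- Let X be a nonempty Noetherian scheme and P an isomorphism-invariant property of O_X-modules such
that (1) in every short exact sequence of coherent O_X-modules, if two of the three terms satisfy P
then so does the third, and (2) for every integral scheme Z and closed immersion i : Z → X, with ξ
the generic point of Z, there is a coherent O_X-module G satisfying P whose support is exactly i(Z)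
and whose stalk at i(ξ) is isomorphic, as a module over the local ring O_{X,i(ξ)}, to the residue
field of that local ring. Then every coherent O_X-module satisfies P. (The published statement
leaves the nonemptiness of X implicit; it is needed to handle the zero module and is assumed
explicitly here.) -/
theorem result (X : Scheme.{u}) [IsNoetherian X] [Nonempty X]
    (P : X.Modules → Prop) (hP : ∀ M N : X.Modules, Nonempty (M ≅ N) → P M → P N)
    (h₁ : ∀ S : ShortComplex X.Modules, S.ShortExact → Coh.IsCoh S.X₁ → Coh.IsCoh S.X₂ → Coh.IsCoh S.X₃ →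
      (P S.X₁ → P S.X₂ → P S.X₃) ∧ (P S.X₁ → P S.X₃ → P S.X₂) ∧ (P S.X₂ → P S.X₃ → P S.X₁))
    (h₂ : ∀ (Z : Scheme.{u}) (i : Z ⟶ X) [IsClosedImmersion i] [IsIntegral Z],
      ∃ G : X.Modules, Coh.IsCoh G ∧ CohB1.support G = Set.range ⇑i ∧
        Nonempty (↑(G.presheaf.stalk (i (genericPoint Z))) ≃ₗ[X.presheaf.stalk (i (genericPoint Z))]
          IsLocalRing.ResidueField (X.presheaf.stalk (i (genericPoint Z)))) ∧ P G)
    (M : X.Modules) (hM : Coh.IsCoh M) : P M := by
  have hext : ∀ S : ShortComplex X.Modules, S.ShortExact → Coh.IsCoh S.X₁ → Coh.IsCoh S.X₂ →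
      Coh.IsCoh S.X₃ → P S.X₁ → P S.X₃ → P S.X₂ :=
    fun S hS h1 h2 h3 k1 k3 => (h₁ S hS h1 h2 h3).2.1 k1 k3
  have hker : ∀ S : ShortComplex X.Modules, S.ShortExact → Coh.IsCoh S.X₁ → Coh.IsCoh S.X₂ →
      Coh.IsCoh S.X₃ → P S.X₂ → P S.X₃ → P S.X₁ :=
    fun S hS h1 h2 h3 k2 k3 => (h₁ S hS h1 h2 h3).2.2 k2 k3
  -- a module with `P`
  have h0 : ∀ M : X.Modules, CategoryTheory.Limits.IsZero M → P M := by
    obtain ⟨x⟩ := ‹Nonempty X›
    obtain ⟨T, i, hi, hT, -, -⟩ :=
      CohDevH8.exists_integral_subscheme (closure {x}) isClosed_closure x rfl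
    obtain ⟨G, hG, -, -, hPG⟩ := @h₂ T i hi hT
    exact CohDevH8.K_zero_of_K P hP hker hG hPG
  refine CohDevH8.induction_on_support P hP h0 hext Set.univ ?_ M hM (Set.subset_univ _)
  intro Z hZ hirr _ IH F hF hk
  obtain ⟨y, hy⟩ : ∃ y : X, closure {y} = Z := ⟨_, hirr.isGenericPoint_genericPoint hZ⟩
  obtain ⟨T, i, hi, hT, hr, hg⟩ := CohDevH8.exists_integral_subscheme Z hZ y hy
  obtain ⟨G, hG, hsG, ⟨l⟩, hPG⟩ := @h₂ T i hi hT
  subst hg
  exact CohDevH8.step_of_rank_one P h₁ Z hZ _ hy IH hG hPG (hsG.trans hr).le l F hF hk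

end Groth.Agent.S0818
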