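import Groth.Statements.S0819
import Groth.Agent.Lib.CohDev9_helper8
import Groth.Agent.Lib.SupportCoh_helper9

set_option autoImplicit false
universe u
open Coherent

namespace Groth.Agent.S0819

open CategoryTheory AlgebraicGeometry in
/-- Let X be a Noetherian scheme, Z₀ ⊆ X an irreducible closed subset with generic point ξ, and P an
isomorphism-invariant property of O_X-modules such that: (1) in every short exact sequence of
coherent modules supported in Z₀, P for two of the terms implies P for the third; (2) P holds for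
i_* I whenever i : Z → X is an integral closed subscheme with i(Z) a proper subset of Z₀ and I ⊆ O_Z
is a quasi-coherent ideal sheaf; (3) there is a coherent G with support exactly Z₀, stalk at ξ
isomorphic to the residue field over the local ring, and P(G). Then P holds for every coherent
module whose support is contained in Z₀. -/
theorem result (X : Scheme.{u}) [IsNoetherian X]
    (Z₀ : Set X) (hZ₀ : IsClosed Z₀) (hirr : IsIrreducible Z₀) (ξ : X) (hξ : ξ ∈ Z₀ ∧ closure {ξ} = Z₀)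
    (P : X.Modules → Prop) (hP : ∀ M N : X.Modules, Nonempty (M ≅ N) → P M → P N)
    (h₁ : ∀ S : ShortComplex X.Modules, S.ShortExact → Coh.IsCoh S.X₁ → Coh.IsCoh S.X₂ → Coh.IsCoh S.X₃ →
      CohB1.support S.X₂ ⊆ Z₀ →
      (P S.X₁ → P S.X₂ → P S.X₃) ∧ (P S.X₁ → P S.X₃ → P S.X₂) ∧ (P S.X₂ → P S.X₃ → P S.X₁))
    (h₂ : ∀ (Z : Scheme.{u}) (i : Z ⟶ X), IsClosedImmersion i → IsIntegral Z →
      Set.range ⇑i ⊆ Z₀ → Set.range ⇑i ≠ Z₀ →
      ∀ (I : Z.Modules) (ι : I ⟶ Coh.structureModule Z), Mono ι → Coh.IsQCoh I →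
        P ((Coh.push i).obj I))
    (h₃ : ∃ G : X.Modules, Coh.IsCoh G ∧ CohB1.support G = Z₀ ∧
      Nonempty (↑(G.presheaf.stalk ξ) ≃ₗ[X.presheaf.stalk ξ] IsLocalRing.ResidueField (X.presheaf.stalk ξ)) ∧ P G)
    (M : X.Modules) (hM : Coh.IsCoh M) (hsupp : CohB1.support M ⊆ Z₀) : P M := by
  let K : X.Modules → Prop := fun M => CohB1.support M ⊆ Z₀ ∧ P M
  have hiso : ∀ M N : X.Modules, Nonempty (M ≅ N) → K M → K N := by
    rintro M N ⟨e⟩ ⟨hs, hp⟩
    exact ⟨(CohDevH8.support_eq_of_iso e).symm ▸ hs, hP M N ⟨e⟩ hp⟩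
  have hex : ∀ S : ShortComplex X.Modules, S.ShortExact → Coh.IsCoh S.X₁ → Coh.IsCoh S.X₂ →
      Coh.IsCoh S.X₃ → (K S.X₁ → K S.X₂ → K S.X₃) ∧ (K S.X₁ → K S.X₃ → K S.X₂) ∧
        (K S.X₂ → K S.X₃ → K S.X₁) := by
    intro S hS c1 c2 c3
    haveI := c2.1
    haveI := c3.1
    have hs := SupportCoh.support_shortExact S hS
    refine ⟨fun k1 k2 => ?_, fun k1 k3 => ?_, fun k2 k3 => ?_⟩
    · exact ⟨(Set.subset_union_right.trans hs.ge).trans k2.1, (h₁ S hS c1 c2 c3 k2.1).1 k1.2 k2.2⟩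
    · have h2 : CohB1.support S.X₂ ⊆ Z₀ := by
        rw [hs]
        exact Set.union_subset k1.1 k3.1
      exact ⟨h2, (h₁ S hS c1 c2 c3 h2).2.1 k1.2 k3.2⟩
    · exact ⟨(Set.subset_union_left.trans hs.ge).trans k2.1, (h₁ S hS c1 c2 c3 k2.1).2.2 k2.2 k3.2⟩
  have hext : ∀ S : ShortComplex X.Modules, S.ShortExact → Coh.IsCoh S.X₁ → Coh.IsCoh S.X₂ →
      Coh.IsCoh S.X₃ → K S.X₁ → K S.X₃ → K S.X₂ :=
    fun S hS c1 c2 c3 k1 k3 => (hex S hS c1 c2 c3).2.1 k1 k3
  have hker : ∀ S : ShortComplex X.Modules, S.ShortExact → Coh.IsCoh S.X₁ → Coh.IsCoh S.X₂ →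
      Coh.IsCoh S.X₃ → K S.X₂ → K S.X₃ → K S.X₁ :=
    fun S hS c1 c2 c3 k2 k3 => (hex S hS c1 c2 c3).2.2 k2 k3
  obtain ⟨G, hG, hGs, ⟨l⟩, hPG⟩ := h₃
  have hKG : K G := ⟨hGs.le, hPG⟩
  have h0 : ∀ M : X.Modules, CategoryTheory.Limits.IsZero M → K M :=
    CohDevH8.K_zero_of_K K hiso hker hG hKG
  have hstep : ∀ (Z : Set X) (hZ : IsClosed Z), IsIrreducible Z → Z ⊆ Z₀ →
      (∀ M : X.Modules, Coh.IsCoh M → CohB1.support M ⊆ Z → CohB1.support M ≠ Z → K M) →
      ∀ F : X.Modules, Coh.IsCoh F →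
        ClSub.KilledByIdeal (Scheme.IdealSheafData.vanishingIdeal ⟨Z, hZ⟩) F → K F := by
    intro Z hZ hZirr hZZ₀ IH F hF hk
    by_cases hZeq : Z = Z₀
    · subst hZeq
      exact CohDevH8.step_of_rank_one K hex Z hZ ξ hξ.2 IH hG hKG hGs.le l F hF hk
    · have hy : closure {hZirr.genericPoint} = Z := hZirr.closure_genericPoint hZ
      obtain ⟨l'⟩ := CohDevH8.nonempty_stalk_quotJ_equiv Z hZ _ hy
      have hO := CohDevH8.isCoh_structureModule X
      have hQ := CohDevH8.isCoh_quotJ (Scheme.IdealSheafData.vanishingIdeal ⟨Z, hZ⟩) _ hO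
      haveI := hQ.1
      haveI := hQ.2
      have hQZ : CohB1.support (CohDevH8.quotJ (Scheme.IdealSheafData.vanishingIdeal ⟨Z, hZ⟩)
          (Coh.structureModule X)) ⊆ Z := by
        have h1 := CohDevH8.support_subset_of_killed _ _
          (CohDevH8.killed_quotJ (Scheme.IdealSheafData.vanishingIdeal ⟨Z, hZ⟩)
            (Coh.structureModule X))
        rwa [Scheme.IdealSheafData.coe_support_vanishingIdeal] at h1
      obtain ⟨hint, -⟩ := CohDevH8.exists_isIntegral_subscheme Z hZ _ hy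
      have hrange : Set.range ⇑(Scheme.IdealSheafData.vanishingIdeal ⟨Z, hZ⟩).subschemeι = Z :=
        EquidimSubH8.range_vanishingIdeal_subschemeι ⟨Z, hZ⟩
      have hP' : P ((Coh.push (Scheme.IdealSheafData.vanishingIdeal ⟨Z, hZ⟩).subschemeι).obj
          (Coh.structureModule _)) :=
        h₂ _ (Scheme.IdealSheafData.vanishingIdeal ⟨Z, hZ⟩).subschemeι inferInstance hint
          (hrange.le.trans hZZ₀) (fun h => hZeq (hrange.symm.trans h)) (Coh.structureModule _) (𝟙 _) inferInstance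
          (CohDevH8.isCoh_structureModule _).1
      have hKQ : K (CohDevH8.quotJ (Scheme.IdealSheafData.vanishingIdeal ⟨Z, hZ⟩)
          (Coh.structureModule X)) :=
        ⟨hQZ.trans hZZ₀, hP _ _ ⟨(CohDevH8.quotJStructureIso _).symm⟩ hP'⟩
      exact CohDevH8.step_of_rank_one K hex Z hZ _ hy IH hQ hKQ hQZ l' F hF hk
  exact (CohDevH8.induction_on_support K hiso h0 hext Z₀ hstep M hM hsupp).2

end Groth.Agent.S0819
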