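import Groth.Statements.S0828
import Mathlib
import Groth.Agent.Lib.CMFree_helper5

set_option autoImplicit false
universe u
open Coherent

namespace Groth.Agent.S0828

open CategoryTheory AlgebraicGeometry in
/-- Let X be a regular scheme (locally Noetherian with regular local rings) and F a coherent O_X-module.
Then F has support all of X and Cohen–Macaulay stalks if and only if F is finite locally free of
positive rank near every point. -/
theorem result (X : Scheme.{u}) [IsLocallyNoetherian X]
    (hreg : ∀ x : X, IsRegularLocalRing (X.presheaf.stalk x)) (F : X.Modules) (hF : Coh.IsCoh F) :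
    (CohB1.support F = Set.univ ∧
        ∀ x : X, LocCoh.IsCohenMacaulayModule (X.presheaf.stalk x) ↑(F.presheaf.stalk x)) ↔
      ∀ x : X, ∃ (U : X.Opens) (n : ℕ), x ∈ U ∧ 0 < n ∧
        Nonempty (F.restrict U.ι ≅ FlatMod.freeMod (↑U) n) := by
  obtain ⟨hq, hft⟩ := hF
  haveI : F.IsQuasicoherent := hq
  haveI : SheafOfModules.IsFiniteType (R := X.ringCatSheaf) F := hft
  haveI := FLFH8.isFinitePresentation_of_isCoh F
  constructor
  · rintro ⟨hs, hcm⟩ x
    haveI := hreg x
    haveI : Module.Finite (X.presheaf.stalk x) (F.presheaf.stalk x) := FLFH8.finite_stalk F x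
    have hsx := Groth.Agent.CMFree.support_stalk_univ F hs x
    have hfree := Groth.Agent.CMFree.free_of_cm (X.presheaf.stalk x) (F.presheaf.stalk x) hsx
      (hcm x)
    obtain ⟨U, n, hxU, ⟨α⟩⟩ := FLFH8.exists_free_nhd F x hfree
    refine ⟨U, n, hxU, ?_, ⟨α⟩⟩
    obtain ⟨hfr, hrk⟩ := Groth.Agent.CMFree.free_stalk_of_iso F hxU α
    have hnt : Nontrivial (F.presheaf.stalk x) := by
      have hx : x ∈ CohB1.support F := by rw [hs]; trivial
      exact not_subsingleton_iff_nontrivial.mp hx
    rw [← hrk]
    exact (Module.finrank_pos_iff_of_free (X.presheaf.stalk x) (F.presheaf.stalk x)).mpr hnt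
  · intro h
    have key : ∀ x : X, Module.Free (X.presheaf.stalk x) (F.presheaf.stalk x) ∧
        0 < Module.finrank (X.presheaf.stalk x) (F.presheaf.stalk x) := by
      intro x
      obtain ⟨U, n, hxU, hn, ⟨α⟩⟩ := h x
      obtain ⟨hfr, hrk⟩ := Groth.Agent.CMFree.free_stalk_of_iso F hxU α
      exact ⟨hfr, by rw [hrk]; exact hn⟩
    refine ⟨?_, ?_⟩
    · rw [Set.eq_univ_iff_forall]
      intro x
      obtain ⟨hfr, hpos⟩ := key x
      haveI := Module.nontrivial_of_finrank_pos hpos
      change ¬ Subsingleton (F.presheaf.stalk x)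
      exact not_subsingleton _
    · intro x
      haveI := hreg x
      obtain ⟨hfr, hpos⟩ := key x
      haveI := hfr
      haveI := Module.nontrivial_of_finrank_pos hpos
      haveI : Module.Finite (X.presheaf.stalk x) (F.presheaf.stalk x) := FLFH8.finite_stalk F x
      exact Groth.Agent.CMFree.cm_of_free (X.presheaf.stalk x) (F.presheaf.stalk x)

end Groth.Agent.S0828
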