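import Groth.Statements.S0919
import Mathlib.CategoryTheory.Adjunction.AdjointFunctorTheorems
import Mathlib.CategoryTheory.Limits.Yoneda
import Mathlib.CategoryTheory.Abelian.Subobject
import Mathlib.CategoryTheory.Abelian.GrothendieckCategory.Coseparator

set_option autoImplicit false
universe v u
open CategoryTheory
open CohDer

namespace Groth.Agent.S0919

open CategoryTheory.Limits in
/-- Let A be a Grothendieck abelian category and F a contravariant functor from A to sets (a functor on
the opposite category). Then F is representable if and only if F turns all small colimits of A into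
limits, i.e. preserves small limits as a functor on the opposite category. -/
theorem result {A : Type u} [Category.{v} A] [Abelian A]
    [IsGrothendieckAbelian.{v} A] (F : Aᵒᵖ ⥤ Type v) :
    F.IsRepresentable ↔ PreservesLimitsOfSize.{v, v} F := by
  constructor
  · intro hF
    have iso : F ≅ yoneda.obj F.reprX := F.reprW.symm
    exact Limits.preservesLimits_of_natIso iso.symm
  · intro hF
    have hlim : Limits.PreservesLimits F := hF
    -- `Aᵒᵖ` is complete, well-powered and has a coseparator
    have hcosep : IsCoseparator (Opposite.op (separator A)) :=
      (isCoseparator_op_iff (separator A)).2 (isSeparator_separator A)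
    have hra : F.IsRightAdjoint :=
      isRightAdjoint_of_preservesLimits_of_isCoseparating hcosep F
    let L := F.leftAdjoint
    let adj : L ⊣ F := Adjunction.ofIsRightAdjoint F
    let Z : Aᵒᵖ := L.obj PUnit
    have i1 : coyoneda.obj (Opposite.op Z) ≅ F ⋙ coyoneda.obj (Opposite.op PUnit) :=
      (adj.corepresentableBy PUnit).toIso
    have i2 : F ⋙ coyoneda.obj (Opposite.op PUnit) ≅ F :=
      Functor.isoWhiskerLeft F Coyoneda.punitIso ≪≫ F.rightUnitor
    have i3 : yoneda.obj Z.unop ≅ coyoneda.obj (Opposite.op Z) :=
      (Coyoneda.objOpOp Z.unop).symm
    exact isRepresentable_of_natIso (yoneda.obj Z.unop) (i3 ≪≫ i1 ≪≫ i2)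

end Groth.Agent.S0919
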