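import Groth.Statements.S0930
import Mathlib
import Groth.Agent.S12541
import Groth.Agent.Lib.Leray_helper9

set_option autoImplicit false
universe u
open CategoryTheory
attribute [local instance] HasDerivedCategory.standard
open CohTop

namespace Groth.Agent.S0930

/-- For continuous maps f : X -> Y and g : Y -> Z, the composite of the right derived functors Rf_* :
D^+(X) -> D^+(Y) and Rg_* : D^+(Y) -> D^+(Z) is isomorphic to R(g ∘ f)_* (existence of an
isomorphism of functors between bounded below derived categories). -/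
theorem result {X Y Z : TopCat.{u}} (f : X ⟶ Y) (g : Y ⟶ Z) :
    Nonempty ((CohTop.push f).rightDerivedFunctorPlus ⋙ (CohTop.push g).rightDerivedFunctorPlus ≅
      (CohTop.push (f ≫ g)).rightDerivedFunctorPlus) := by
  have hFG : ∀ I : CohTop.Ab X, Injective I →
      IsIso ((CohTop.push g).rightDerivedFunctorPlusUnit.app
        ((HomotopyCategory.Plus.singleFunctor (CohTop.Ab Y) 0).obj ((CohTop.push f).obj I))) := by
    intro I hI
    rw [RDPlusSingle.isIso_unit_single_iff]
    haveI := Leray.injective_push f I hI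
    refine ⟨inferInstance, fun i hi => ?_⟩
    obtain ⟨k, rfl⟩ : ∃ k, i = k + 1 := ⟨i - 1, by omega⟩
    exact Functor.isZero_rightDerived_obj_injective_succ _ k _
  let α : (CohTop.push f ⋙ CohTop.push g).mapHomotopyCategoryPlus ⋙ DerivedCategory.Plus.Qh ⟶
      DerivedCategory.Plus.Qh ⋙
        ((CohTop.push f).rightDerivedFunctorPlus ⋙ (CohTop.push g).rightDerivedFunctorPlus) :=
    Functor.whiskerRight (Functor.mapHomotopyCategoryPlusCompIso
        (Iso.refl (CohTop.push f ⋙ CohTop.push g))).inv DerivedCategory.Plus.Qh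
      ≫ (Functor.associator _ _ _).hom
      ≫ Functor.whiskerLeft (CohTop.push f).mapHomotopyCategoryPlus
        (CohTop.push g).rightDerivedFunctorPlusUnit
      ≫ (Functor.associator _ _ _).inv
      ≫ Functor.whiskerRight (CohTop.push f).rightDerivedFunctorPlusUnit
        (CohTop.push g).rightDerivedFunctorPlus
      ≫ (Functor.associator _ _ _).hom
  haveI h : ((CohTop.push f).rightDerivedFunctorPlus ⋙
      (CohTop.push g).rightDerivedFunctorPlus).IsRightDerivedFunctor α
      (HomotopyCategory.Plus.quasiIso (CohTop.Ab X)) :=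
    Groth.Agent.S12541.result (CohTop.push f) (CohTop.push g) hFG
  let e : CohTop.push f ⋙ CohTop.push g ≅ CohTop.push (f ≫ g) := Iso.refl _
  let τ : (CohTop.push f ⋙ CohTop.push g).mapHomotopyCategoryPlus ⋙ DerivedCategory.Plus.Qh ≅
      (CohTop.push (f ≫ g)).mapHomotopyCategoryPlus ⋙ DerivedCategory.Plus.Qh :=
    Functor.isoWhiskerRight
      ((Functor.mapHomotopyCategoryPlusCompIso (Iso.refl (CohTop.push f ⋙ CohTop.push g))).symm ≪≫
        Functor.mapHomotopyCategoryPlusCompIso e) DerivedCategory.Plus.Qh
  exact ⟨Functor.rightDerivedNatIso _ _ α (CohTop.push (f ≫ g)).rightDerivedFunctorPlusUnit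
    (HomotopyCategory.Plus.quasiIso _) τ⟩

end Groth.Agent.S0930
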