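import Groth.Statements.S0934
import Groth.Agent.Lib.FLF5_helper8

set_option autoImplicit false
universe u
open CategoryTheory
open Coh

namespace Groth.Agent.S0934

open AlgebraicGeometry in
/-- Schemes; E finite locally free, which on a scheme is locally the same as a direct summand of a
finite free module: let p : G -> F be an epimorphism of O_X-modules and φ : E -> F a morphism with E
finite locally free. Then every point has an open neighbourhood V and a morphism ψ : E|_V -> G|_V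
with ψ ≫ p|_V = φ|_V. -/
theorem result {X : Scheme.{u}} {E F G : X.Modules} (p : G ⟶ F) [Epi p] (φ : E ⟶ F)
    (hE : FlatMod.IsFinLocFree E) (x : X) :
    ∃ (V : X.Opens) (ψ : E.restrict V.ι ⟶ G.restrict V.ι), x ∈ V ∧
      ψ ≫ (Scheme.Modules.restrictFunctor V.ι).map p = (Scheme.Modules.restrictFunctor V.ι).map φ := by
  classical
  obtain ⟨U, n, hxU, ⟨α⟩⟩ := hE x
  obtain ⟨t, ht⟩ := FLFH8.exists_sections_of_iso E α
  have hxU' : x ∈ U.ι ''ᵁ ⊤ := by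
    rw [Scheme.Opens.ι_image_top]; exact hxU
  let s : Fin n → Γ(F, U.ι ''ᵁ ⊤) := fun j => QCohExtn.ap φ (U.ι ''ᵁ ⊤) (t j)
  have hl : ∀ j, ∃ (Vj : X.Opens) (hVj : Vj ≤ U.ι ''ᵁ ⊤) (_ : x ∈ Vj) (τ : Γ(G, Vj)),
      p.app Vj τ = F.presheaf.map (homOfLE hVj).op (s j) :=
    fun j => EpiLoc.exists_local_lift p (s j) hxU'
  choose Vj hVj hxVj τ hτ using hl
  let V : X.Opens := (U.ι ''ᵁ ⊤) ⊓ ⨅ j, Vj j
  have hxV : x ∈ V := by
    refine ⟨hxU', ?_⟩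
    rw [TopologicalSpace.Opens.coe_iInf]
    exact Set.mem_iInter.mpr hxVj
  have hVU : V ≤ U.ι ''ᵁ ⊤ := inf_le_left
  have hVj' : ∀ j, V ≤ Vj j := fun j => inf_le_right.trans (iInf_le _ j)
  have hV' : V.ι ''ᵁ ⊤ ≤ U.ι ''ᵁ ⊤ := by
    rw [Scheme.Opens.ι_image_top]; exact hVU
  have hVVj : ∀ j, V.ι ''ᵁ ⊤ ≤ Vj j := fun j => by
    rw [Scheme.Opens.ι_image_top]; exact hVj' j
  let t' : Fin n → Γ(E, V.ι ''ᵁ ⊤) := fun j => QcqsLoc.rF E hV' (t j)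
  have ht' : ∀ (O : X.Opens) (hO : O ≤ V.ι ''ᵁ ⊤), FLFH8.BasisOn E t' O hO :=
    fun O hO => FLFH8.BasisOn.of_rF E t hV' hO (ht O (hO.trans hV'))
  haveI := FLFH8.isIso_freeHom_restrict E t' ht'
  let τ' : Fin n → Γ(G.restrict V.ι, ⊤) := fun j => QcqsLoc.rF G (hVVj j) (τ j)
  refine ⟨V, inv (SDivGenH8.freeHom (E.restrict V.ι) (t' : Fin n → Γ(E.restrict V.ι, ⊤))) ≫
    SDivGenH8.freeHom (G.restrict V.ι) τ', hxV, ?_⟩
  rw [Category.assoc, IsIso.inv_comp_eq, FLFH8.freeHom_comp, FLFH8.freeHom_comp]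
  congr 1
  funext j
  change QCohExtn.ap p (V.ι ''ᵁ ⊤) (QcqsLoc.rF G (hVVj j) (τ j)) =
    QCohExtn.ap φ (V.ι ''ᵁ ⊤) (QcqsLoc.rF E hV' (t j))
  rw [QCohExtn.ap_rF, QCohExtn.ap_rF]
  have h1 : QCohExtn.ap p (Vj j) (τ j) = QcqsLoc.rF F (hVj j) (s j) := hτ j
  rw [h1, QcqsLoc.rF_rF]

end Groth.Agent.S0934
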