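import Groth.Statements.S0958
import Groth.Agent.Lib.KFlatSite6_helper2
import Groth.Agent.Lib.StalkFlatB4_helper2

set_option autoImplicit false
universe u
open CategoryTheory
attribute [local instance] HasDerivedCategory.standard
open DCoh

namespace Groth.Agent.S0958

open AlgebraicGeometry in
/-- On a scheme X, let a : K → L be a morphism of complexes of O_X-modules with K K-flat. Then there are
a K-flat complex N, a morphism b : K → N and a quasi-isomorphism c : N → L with a homotopic to b ≫
c; if moreover all terms of K are flat, N can be taken with flat terms as well. -/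
theorem result {X : Scheme.{u}} {K L : CochainComplex X.Modules ℤ} (a : K ⟶ L) (hK : DCoh.IsKFlat K) :
    ∃ (N : CochainComplex X.Modules ℤ) (b : K ⟶ N) (c : N ⟶ L), DCoh.IsKFlat N ∧ QuasiIso c ∧
      Nonempty (Homotopy a (b ≫ c)) ∧ ((∀ n : ℤ, FlatMod.IsFlat (K.X n)) → ∀ n : ℤ, FlatMod.IsFlat (N.X n)) := by
  obtain ⟨N, b, c, hN, hc, hbc, hfl⟩ :=
    @Groth.Agent.Lib.KFlatSite.exists_kflat_factor _ _ _ X.sheaf K L a hK
  exact ⟨N, b, c, hN, hc, ⟨Homotopy.ofEq hbc.symm⟩, fun hKfl n =>
    Groth.Agent.Lib.StalkFlatSch.flatMod_of_isFlat (N.X n)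
      (hfl (fun k => Groth.Agent.Lib.StalkFlatSch.isFlat_of_flatMod (K.X k) (hKfl k)) n)⟩

end Groth.Agent.S0958
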