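import Groth.Statements.S0982
import Groth.Agent.Lib.DerivedTruncCx_helper2

set_option autoImplicit false
universe w v u
open CategoryTheory CategoryTheory.Limits
open CohDer

namespace Groth.Agent.S0982

open DerivedCategory Pretriangulated Groth.Agent.Lib.DerivedTrunc_helper2
  Groth.Agent.Lib.DerivedTruncCx_helper2

/-- Let K : ℕ ⥤ CochainComplex A ℤ be a sequence of cochain maps K₀ → K₁ → K₂ → … in an abelian category
with Hⁱ(K₀) = 0 for i > 0 and such that for every j < n the map H⁻ʲ(Kⱼ) → H⁻ʲ(Kⱼ₊₁) is zero. Then in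
the derived category the composite K₀ → Kₙ factors through the canonical truncation τ_{≤ -n}Kₙ → Kₙ. -/
theorem result {A : Type u} [Category.{v} A] [Abelian A] [HasDerivedCategory.{w} A]
    (K : ℕ ⥤ CochainComplex A ℤ) (n : ℕ)
    (h0 : ∀ i : ℤ, 0 < i → IsZero ((K.obj 0).homology i))
    (hz : ∀ j : ℕ, j < n → HomologicalComplex.homologyMap (K.map (homOfLE (Nat.le_succ j))) (-(j : ℤ)) = 0) :
    ∃ φ : DerivedCategory.Q.obj (K.obj 0) ⟶ DerivedCategory.Q.obj ((K.obj n).truncLE (-(n : ℤ))),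
      φ ≫ DerivedCategory.Q.map ((K.obj n).ιTruncLE (-(n : ℤ))) = DerivedCategory.Q.map (K.map (homOfLE (Nat.zero_le n))) := by
  induction n with
  | zero =>
    have hK : (K.obj 0).IsLE (-((0 : ℕ) : ℤ)) := by
      rw [CochainComplex.isLE_iff]
      intro i hi
      rw [HomologicalComplex.exactAt_iff_isZero_homology]
      exact h0 i (by simpa using hi)
    have hq : QuasiIso ((K.obj 0).ιTruncLE (-((0 : ℕ) : ℤ))) :=
      ((K.obj 0).quasiIso_ιTruncLE_iff _).2 hK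
    have : IsIso (Q.map ((K.obj 0).ιTruncLE (-((0 : ℕ) : ℤ)))) := by
      rw [isIso_Q_map_iff_quasiIso]; exact hq
    refine ⟨inv (Q.map ((K.obj 0).ιTruncLE (-((0 : ℕ) : ℤ)))), ?_⟩
    have e : homOfLE (Nat.zero_le 0) = 𝟙 (0 : ℕ) := Subsingleton.elim _ _
    rw [IsIso.inv_hom_id, e, K.map_id, Q.map_id]
  | succ n ih =>
    obtain ⟨φ, hφ⟩ : ∃ φ : Q.obj (K.obj 0) ⟶ Q.obj ((K.obj n).truncLE (-(n : ℤ))),
      φ ≫ Q.map ((K.obj n).ιTruncLE (-(n : ℤ))) = Q.map (K.map (homOfLE (Nat.zero_le n))) :=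
      ih (fun j hj => hz j (by omega))
    have hzn := hz n (by omega)
    set f := K.map (homOfLE (Nat.le_succ n)) with hf
    obtain ⟨C', g, h, hT, hC'⟩ := exists_triangle_ιTruncLE (K.obj (n + 1)) (-((n + 1 : ℕ) : ℤ))
    have hC'' : C'.IsGE (-(n : ℤ)) := by
      have : (-((n + 1 : ℕ) : ℤ)) + 1 = -(n : ℤ) := by push_cast; omega
      rwa [this] at hC'
    have hψ : Q.map ((K.obj n).ιTruncLE (-(n : ℤ))) ≫ Q.map f ≫ g = 0 := by
      refine eq_zero_of_isLE_of_isGE (-(n : ℤ)) _ ?_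
      have : (homologyFunctor A (-(n : ℤ))).map (Q.map f) = 0 := by
        have nat := (homologyFunctorFactors A (-(n : ℤ))).hom.naturality f
        have : (Q ⋙ homologyFunctor A (-(n : ℤ))).map f = 0 := by
          rw [← cancel_mono ((homologyFunctorFactors A (-(n : ℤ))).hom.app _), nat, zero_comp]
          show _ ≫ HomologicalComplex.homologyMap f _ = 0
          rw [hzn, comp_zero]
        exact this
      rw [Functor.map_comp, Functor.map_comp, this, zero_comp, comp_zero]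
    obtain ⟨φ', hφ'⟩ : ∃ φ' : Q.obj (K.obj 0) ⟶ Q.obj ((K.obj (n + 1)).truncLE (-((n + 1 : ℕ) : ℤ))),
        φ ≫ Q.map ((K.obj n).ιTruncLE (-(n : ℤ))) ≫ Q.map f =
          φ' ≫ Q.map ((K.obj (n + 1)).ιTruncLE (-((n + 1 : ℕ) : ℤ))) :=
      Triangle.coyoneda_exact₂ _ hT (φ ≫ Q.map ((K.obj n).ιTruncLE (-(n : ℤ))) ≫ Q.map f) (by
        show (φ ≫ Q.map ((K.obj n).ιTruncLE (-(n : ℤ))) ≫ Q.map f) ≫ g = 0
        rw [Category.assoc, Category.assoc, hψ, comp_zero])
    refine ⟨φ', ?_⟩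
    rw [← hφ', ← Category.assoc, hφ, ← Q.map_comp, hf, ← K.map_comp]
    rfl

end Groth.Agent.S0982
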