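import Groth.Statements.S0983

set_option autoImplicit false
universe v u
open CategoryTheory
open CohDer

namespace Groth.Agent.S0983

open CategoryTheory.Pretriangulated in
/-- In a triangulated category, a commutative square f ≫ v = u ≫ f' (with f : X ⟶ Y, f' : X' ⟶ Y', u : X
⟶ X', v : Y ⟶ Y') extends to a diagram with three distinguished rows (X, Y, Z), (X', Y', Z'), (X'',
Y'', Z'') and three distinguished columns (X, X', X''), (Y, Y', Y''), (Z, Z', Z''), in which all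
squares commute except the one formed by the third morphisms of the last row and last column, which
anticommutes; the fourth row and column are the shifts of the first ones. -/
theorem result {D : Type u} [Category.{v} D] [Preadditive D] [Limits.HasZeroObject D] [HasShift D ℤ]
    [∀ n : ℤ, (shiftFunctor D n).Additive] [Pretriangulated D] [IsTriangulated D]
    {X Y X' Y' : D} (f : X ⟶ Y) (f' : X' ⟶ Y') (u : X ⟶ X') (v : Y ⟶ Y') (comm : f ≫ v = u ≫ f') :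
    ∃ (Z Z' X'' Y'' Z'' : D) (g : Y ⟶ Z) (h : Z ⟶ (shiftFunctor D (1 : ℤ)).obj X)
      (g' : Y' ⟶ Z') (h' : Z' ⟶ (shiftFunctor D (1 : ℤ)).obj X')
      (f'' : X'' ⟶ Y'') (g'' : Y'' ⟶ Z'') (h'' : Z'' ⟶ (shiftFunctor D (1 : ℤ)).obj X'')
      (u' : X' ⟶ X'') (u'' : X'' ⟶ (shiftFunctor D (1 : ℤ)).obj X)
      (v' : Y' ⟶ Y'') (v'' : Y'' ⟶ (shiftFunctor D (1 : ℤ)).obj Y)
      (w : Z ⟶ Z') (w' : Z' ⟶ Z'') (w'' : Z'' ⟶ (shiftFunctor D (1 : ℤ)).obj Z),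
      Triangle.mk f g h ∈ distinguishedTriangles ∧ Triangle.mk f' g' h' ∈ distinguishedTriangles ∧
      Triangle.mk f'' g'' h'' ∈ distinguishedTriangles ∧
      Triangle.mk u u' u'' ∈ distinguishedTriangles ∧ Triangle.mk v v' v'' ∈ distinguishedTriangles ∧
      Triangle.mk w w' w'' ∈ distinguishedTriangles ∧
      g ≫ w = v ≫ g' ∧ h ≫ (shiftFunctor D (1 : ℤ)).map u = w ≫ h' ∧
      f' ≫ v' = u' ≫ f'' ∧ g' ≫ w' = v' ≫ g'' ∧ h' ≫ (shiftFunctor D (1 : ℤ)).map u' = w' ≫ h'' ∧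
      f'' ≫ v'' = u'' ≫ (shiftFunctor D (1 : ℤ)).map f ∧ g'' ≫ w'' = v'' ≫ (shiftFunctor D (1 : ℤ)).map g ∧
      h'' ≫ (shiftFunctor D (1 : ℤ)).map u'' = -(w'' ≫ (shiftFunctor D (1 : ℤ)).map h) := by
  obtain ⟨Z, g, h, hT⟩ := distinguished_cocone_triangle f
  obtain ⟨Z', g', h', hT'⟩ := distinguished_cocone_triangle f'
  obtain ⟨X'', u', u'', hTu⟩ := distinguished_cocone_triangle u
  obtain ⟨Y'', v', v'', hTv⟩ := distinguished_cocone_triangle v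
  obtain ⟨V, q, r, hTp⟩ := distinguished_cocone_triangle (f ≫ v)
  have O1 := Triangulated.someOctahedron (rfl : f ≫ v = f ≫ v) hT hTv hTp
  have O2 := Triangulated.someOctahedron comm.symm hTu hT' hTp
  obtain ⟨a, b, c11, c12, c13, c14, m1⟩ : ∃ (a : Z ⟶ V) (b : V ⟶ Y''), g ≫ a = v ≫ q ∧ a ≫ r = h ∧
      q ≫ b = v' ∧ r ≫ (shiftFunctor D (1 : ℤ)).map f = b ≫ v'' ∧
      Triangle.mk a b (v'' ≫ (shiftFunctor D (1 : ℤ)).map g) ∈ distinguishedTriangles :=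
    ⟨O1.m₁, O1.m₃, O1.comm₁, O1.comm₂, O1.comm₃, O1.comm₄, O1.mem⟩
  obtain ⟨c, d, c21, c22, c23, c24, m2⟩ : ∃ (c : X'' ⟶ V) (d : V ⟶ Z'), u' ≫ c = f' ≫ q ∧ c ≫ r = u'' ∧
      q ≫ d = g' ∧ r ≫ (shiftFunctor D (1 : ℤ)).map u = d ≫ h' ∧
      Triangle.mk c d (h' ≫ (shiftFunctor D (1 : ℤ)).map u') ∈ distinguishedTriangles :=
    ⟨O2.m₁, O2.m₃, O2.comm₁, O2.comm₂, O2.comm₃, O2.comm₄, O2.mem⟩
  clear O1 O2
  obtain ⟨Z'', w', w'', hTw⟩ := distinguished_cocone_triangle (a ≫ d)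
  have m2' : Triangle.mk d (h' ≫ (shiftFunctor D (1 : ℤ)).map u') (-(shiftFunctor D (1 : ℤ)).map c) ∈
      distinguishedTriangles := rot_of_distTriang _ m2
  have O3 := Triangulated.someOctahedron (rfl : a ≫ d = a ≫ d) m1 m2' hTw
  obtain ⟨g'', h'', c31, c32, c33, c34, m3⟩ : ∃ (g'' : Y'' ⟶ Z'') (h'' : Z'' ⟶ (shiftFunctor D (1 : ℤ)).obj X''),
      b ≫ g'' = d ≫ w' ∧ g'' ≫ w'' = v'' ≫ (shiftFunctor D (1 : ℤ)).map g ∧
      w' ≫ h'' = h' ≫ (shiftFunctor D (1 : ℤ)).map u' ∧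
      w'' ≫ (shiftFunctor D (1 : ℤ)).map a = h'' ≫ (-(shiftFunctor D (1 : ℤ)).map c) ∧
      Triangle.mk g'' h'' ((-(shiftFunctor D (1 : ℤ)).map c) ≫ (shiftFunctor D (1 : ℤ)).map b) ∈
        distinguishedTriangles :=
    ⟨O3.m₁, O3.m₃, O3.comm₁, O3.comm₂, O3.comm₃, O3.comm₄, O3.mem⟩
  clear O3
  refine ⟨Z, Z', X'', Y'', Z'', g, h, g', h', c ≫ b, g'', h'', u', u'', v', v'',
    a ≫ d, w', w'', hT, hT', ?_, hTu, hTv, hTw, ?_, ?_, ?_, ?_, ?_, ?_, ?_, ?_⟩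
  · rw [rotate_distinguished_triangle]
    have e : (-(shiftFunctor D (1 : ℤ)).map c) ≫ (shiftFunctor D (1 : ℤ)).map b =
        -(shiftFunctor D (1 : ℤ)).map (c ≫ b) := by
      rw [CategoryTheory.Functor.map_comp, Preadditive.neg_comp]
    rw [e] at m3
    exact m3
  · rw [reassoc_of% c11, c23]
  · rw [Category.assoc, ← c24, reassoc_of% c12]
  · rw [reassoc_of% c21, c13]
  · rw [← c23, Category.assoc, ← c31, reassoc_of% c13]
  · exact c33.symm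
  · rw [Category.assoc, ← c14, reassoc_of% c22]
  · exact c32
  · rw [← c22, CategoryTheory.Functor.map_comp, ← c12, CategoryTheory.Functor.map_comp,
      ← Category.assoc, ← Category.assoc, c34]
    simp

end Groth.Agent.S0983
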