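import Groth.Statements.S0989
import Mathlib.Algebra.Homology.DerivedCategory.HomologySequence

set_option autoImplicit false
universe w v u
open CategoryTheory CategoryTheory.Limits
open CohDer

namespace Groth.Agent.S0989

open DerivedCategory Pretriangulated ComposableArrows ZeroObject

section

variable {A : Type u} [Category.{v} A] [Abelian A]
  (P : ObjectProperty A) [P.IsClosedUnderIsomorphisms] (h0 : ∃ Z : A, IsZero Z ∧ P Z)
  (hP : ∀ S : ComposableArrows A 4, S.Exact → P (S.obj 0) → P (S.obj 1) → P (S.obj 3) →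
    P (S.obj 4) → P (S.obj 2))

include h0 in
lemma prop_of_isZero' {Z : A} (hZ : IsZero Z) : P Z := by
  obtain ⟨Z₀, hZ₀, h⟩ := h0
  exact P.prop_of_iso (hZ₀.iso hZ) h

include h0 hP in
lemma prop_of_retract' {M N : A} (i : M ⟶ N) (r : N ⟶ M) (hir : i ≫ r = 𝟙 M) (hN : P N) :
    P M := by
  have hZ : P (0 : A) := prop_of_isZero' P h0 (isZero_zero A)
  have w₁ : (𝟙 N - r ≫ i) ≫ r = 0 := by
    rw [Preadditive.sub_comp, Category.id_comp, Category.assoc, hir, Category.comp_id, sub_self]
  have w₂ : r ≫ (0 : M ⟶ (0 : A)) = 0 := comp_zero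
  have w₃ : (0 : M ⟶ (0 : A)) ≫ (0 : (0 : A) ⟶ (0 : A)) = 0 := comp_zero
  have e₁ : (ShortComplex.mk _ _ w₁).Exact := by
    rw [ShortComplex.exact_iff_exact_up_to_refinements]
    intro A' x hx
    refine ⟨A', 𝟙 _, inferInstance, x, ?_⟩
    dsimp at hx ⊢
    rw [Category.id_comp, Preadditive.comp_sub, Category.comp_id, ← Category.assoc, hx, zero_comp,
      sub_zero]
  have : Epi r := ⟨fun {Z} a b hab => by
    have := congrArg (fun t => i ≫ t) hab
    simpa [← Category.assoc, hir] using this⟩
  have e₂ : (ShortComplex.mk _ _ w₂).Exact := by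
    rw [ShortComplex.exact_iff_epi _ rfl]
    exact this
  have e₃ : (ShortComplex.mk _ _ w₃).Exact :=
    ShortComplex.exact_of_isZero_X₂ _ (isZero_zero A)
  let S : ComposableArrows A 4 := mk₄ (𝟙 N - r ≫ i) r (0 : M ⟶ (0 : A)) (0 : (0 : A) ⟶ (0 : A))
  have hS : S.Exact :=
    exact_of_δ₀ e₁.exact_toComposableArrows
      (exact_of_δ₀ e₂.exact_toComposableArrows e₃.exact_toComposableArrows)
  exact hP S hS hN hN hZ hZ

end

/-- Let P be a weak Serre class in an abelian category A: P is closed under isomorphisms, holds for a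
zero object, and whenever X₀ → X₁ → X₂ → X₃ → X₄ is exact with P holding for X₀, X₁, X₃, X₄ it holds
for X₂. Then the class of objects of the derived category all of whose cohomology objects satisfy P
is a triangulated subcategory (contains zero, stable under shifts, closed under extensions) which is
moreover closed under retracts (saturated). -/
theorem result {A : Type u} [Category.{v} A] [Abelian A] [HasDerivedCategory.{w} A]
    (P : ObjectProperty A) [P.IsClosedUnderIsomorphisms] (h0 : ∃ Z : A, IsZero Z ∧ P Z)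
    (hP : ∀ S : ComposableArrows A 4, S.Exact → P (S.obj 0) → P (S.obj 1) → P (S.obj 3) → P (S.obj 4) → P (S.obj 2)) :
    ObjectProperty.IsTriangulated (fun X : DerivedCategory A => ∀ n : ℤ, P ((DerivedCategory.homologyFunctor A n).obj X)) ∧
    ObjectProperty.IsStableUnderRetracts (fun X : DerivedCategory A => ∀ n : ℤ, P ((DerivedCategory.homologyFunctor A n).obj X)) := by
  have hiso : ObjectProperty.IsClosedUnderIsomorphisms
      (fun X : DerivedCategory A => ∀ n : ℤ, P ((DerivedCategory.homologyFunctor A n).obj X)) :=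
    ⟨fun {X Y} e hX n => P.prop_of_iso ((homologyFunctor A n).mapIso e) (hX n)⟩
  refine ⟨{ toContainsZero := ?_, toIsStableUnderShift := ?_, toIsTriangulatedClosed₂ := ?_ }, ?_⟩
  · exact ⟨⟨0, isZero_zero _, fun n =>
      prop_of_isZero' P h0 ((homologyFunctor A n).map_isZero (isZero_zero _))⟩⟩
  · exact ⟨fun a => ⟨fun X hX n => by
      have e := ((homologyFunctor A 0).shiftIso a n (a + n) rfl).app X
      exact P.prop_of_iso e.symm (hX (a + n))⟩⟩
  · refine ObjectProperty.IsTriangulatedClosed₂.mk' (fun T hT h₁ h₃ n => ?_)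
    let S : ComposableArrows A 4 :=
      mk₄ (HomologySequence.δ T (n - 1) n (by omega)) ((homologyFunctor A n).map T.mor₁)
        ((homologyFunctor A n).map T.mor₂) (HomologySequence.δ T n (n + 1) rfl)
    have hS : S.Exact :=
      exact_of_δ₀ (HomologySequence.exact₁ T hT (n - 1) n (by omega)).exact_toComposableArrows
        (exact_of_δ₀ (HomologySequence.exact₂ T hT n).exact_toComposableArrows
          (HomologySequence.exact₃ T hT n (n + 1) rfl).exact_toComposableArrows)
    exact hP S hS (h₃ (n - 1)) (h₁ n) (h₃ n) (h₁ (n + 1))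
  · exact ⟨fun {X Y} h hY n =>
      prop_of_retract' P h0 hP ((homologyFunctor A n).map h.i) ((homologyFunctor A n).map h.r)
        (by rw [← Functor.map_comp, h.retract, CategoryTheory.Functor.map_id]) (hY n)⟩

end Groth.Agent.S0989
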