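import Groth.Statements.S10000
import Groth.Agent.Lib.BigFieldSch_helper6
import Groth.Agent.Lib.AlgSpTop_helper7

set_option autoImplicit false
universe u
open CategoryTheory CategoryTheory.Limits AlgebraicGeometry
open AlgSp

namespace Groth.Agent.S10000

/-- For a morphism X ⟶ Y of algebraic spaces and an algebraically closed field k over S that is large
compared with X, X(k) surjects onto |X| ×_{|Y|} Y(k): every pair of a point x of |X| and a k-valued
point of Y with the same image in |Y| comes from a k-valued point of X. (The published statement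
measures largeness by a cardinal attached to X that bounds the residue fields of an etale atlas;
this row asks directly that every residue field of one surjective etale chart U of X have
cardinality smaller than that of k, which is how the bound enters the argument.) -/
theorem result {S : Scheme.{u}} {X Y : AlgSp.Space S} (f : X ⟶ Y)
    {U : Over S} (a : (AlgSp.yon S).obj U ⟶ X.obj) (ha : AlgSp.RepWith @Etale a) (has : AlgSp.RepWith @Surjective a)
    (ybar : AlgSp.FieldPt Y.obj) (hy : ybar.IsGeometric)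
    (hk : ∀ u : ↥U.left, Cardinal.mk ↥(U.left.residueField u) < Cardinal.mk ybar.K)
    (x : AlgSp.Points X.obj) (hx : AlgSp.Points.map f.hom x = AlgSp.Points.mk ybar) :
    ∃ xbar : (AlgSp.yon S).obj ybar.pt ⟶ X.obj, xbar ≫ f.hom = ybar.toHom ∧
      AlgSp.Points.ofPt xbar (IsLocalRing.closedPoint ybar.K) = x := by
  open Groth.Agent.Lib.BigFieldSchH6 Groth.Agent.Lib.AlgSpPoints_helper7
    Groth.Agent.Lib.AlgSpTop_helper7 Cardinal in
  have hY : AlgSp.IsAlgSpace Y.obj := Y.property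
  haveI : IsAlgClosed ybar.K := hy
  obtain ⟨u, hu⟩ := ofPt_surjective a has x
  obtain ⟨ι, T, r, haff, hre, hcov⟩ := exists_affine_charts hY
  obtain ⟨i, t₀, ht₀⟩ := hcov (AlgSp.Points.mk ybar)
  obtain ⟨V, b, hbe, hVaff, t₁, ht₁⟩ : ∃ (V : Over S) (b : (AlgSp.yon S).obj V ⟶ Y.obj)
      (_ : AlgSp.RepWith @Etale b) (_ : IsAffine V.left), ∃ t₁ : ↥V.left,
        AlgSp.Points.ofPt b t₁ = AlgSp.Points.mk ybar := ⟨T i, r i, hre i, haff i, t₀, ht₀⟩
  haveI := hVaff
  -- lift `ybar` to the chart `V`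
  have sqT := hbe.rep.isPullback' ybar.toHom
  haveI hsndE : Etale (hbe.rep.snd ybar.toHom).left := hbe.property_snd _
  obtain ⟨t', -, -⟩ := exists_ofPt_eq_of_isPullback sqT t₁ (IsLocalRing.closedPoint ybar.K)
    (ht₁.trans (AlgSp.Points.ofPt_toHom ybar _).symm)
  haveI : Nonempty ↥(hbe.rep.pullback ybar.toHom).left := ⟨t'⟩
  obtain ⟨τ, hτ⟩ := exists_section_of_lft_algClosed (k := ybar.K) (hbe.rep.snd ybar.toHom).left
  obtain ⟨vO, hvO⟩ : ∃ vO : ybar.pt ⟶ V, (AlgSp.yon S).map vO ≫ b = ybar.toHom := by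
    have hw := Over.w (hbe.rep.snd ybar.toHom)
    obtain ⟨τO, hτO⟩ : ∃ τO : ybar.pt ⟶ hbe.rep.pullback ybar.toHom, τO.left = τ := by
      refine ⟨Over.homMk τ ?_, rfl⟩
      rw [← hw, ← Category.assoc, hτ]
      exact Category.id_comp _
    have h1 : τO ≫ hbe.rep.snd ybar.toHom = 𝟙 _ := by
      apply Over.OverMorphism.ext
      rw [Over.comp_left, hτO, hτ]
      rfl
    refine ⟨τO ≫ hbe.rep.fst' ybar.toHom, ?_⟩
    rw [Functor.map_comp, Category.assoc, sqT.w, ← Category.assoc, ← Functor.map_comp, h1,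
      (AlgSp.yon S).map_id, Category.id_comp]
  -- the fibre product `U ×_Y V`
  have sqW := hbe.rep.isPullback' (a ≫ f.hom)
  haveI hsW : Etale (hbe.rep.snd (a ≫ f.hom)).left := hbe.property_snd _
  have hv : AlgSp.Points.ofPt b (vO.left (IsLocalRing.closedPoint ybar.K)) =
      AlgSp.Points.ofPt (a ≫ f.hom) u := by
    rw [← ofPt_comp, hvO, AlgSp.Points.ofPt_toHom, ← hx, ← hu, AlgSp.Points.map_ofPt]
  obtain ⟨w, hw1, hw2⟩ := exists_ofPt_eq_of_isPullback sqW _ u hv
  subst hw2
  have hcard : #((hbe.rep.pullback (a ≫ f.hom)).left.residueField w) < #ybar.K :=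
    card_residueField_lt_of_etale (hbe.rep.snd (a ≫ f.hom)).left w (hk _)
  obtain ⟨wbar, hwb1, hwb2⟩ := exists_lift_of_card_lt (K := ybar.K)
    (hbe.rep.fst' (a ≫ f.hom)).left vO.left w hw1 hcard
  obtain ⟨wO, hwO⟩ : ∃ wO : ybar.pt ⟶ hbe.rep.pullback (a ≫ f.hom), wO.left = wbar := by
    refine ⟨Over.homMk wbar ?_, rfl⟩
    rw [← Over.w (hbe.rep.fst' (a ≫ f.hom)), ← Category.assoc, hwb1]
    exact Over.w vO
  have hwO1 : wO ≫ hbe.rep.fst' (a ≫ f.hom) = vO := by
    apply Over.OverMorphism.ext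
    rw [Over.comp_left, hwO, hwb1]
  refine ⟨(AlgSp.yon S).map (wO ≫ hbe.rep.snd (a ≫ f.hom)) ≫ a, ?_, ?_⟩
  · rw [Category.assoc, Functor.map_comp, Category.assoc, ← sqW.w, ← Category.assoc,
      ← Functor.map_comp, hwO1, hvO]
  · rw [ofPt_comp, Over.comp_left, Scheme.Hom.comp_apply, hwO, hwb2]
    exact hu

end Groth.Agent.S10000
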