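import Groth.Statements.S10053
import Mathlib
import Groth.Agent.Lib.UCAffine2_helper7
import Groth.Agent.Lib.EtCharts_helper7
import Groth.Agent.Lib.AlgSpLocP7_helper7

set_option autoImplicit false
universe u
open CategoryTheory CategoryTheory.Limits AlgebraicGeometry
open AlgSp

namespace Groth.Agent.S10053

/-- For a quasi-compact morphism `f : X ⟶ Y` of algebraic spaces over `S` these conditions are
equivalent: (1) `f` is universally closed; (2) for every `Z ⟶ Y` locally of finite presentation,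
with `Z` an algebraic space, the map `|X ×_Y Z| → |Z|` is closed; (3) for some scheme `V` with a
surjective etale morphism `V ⟶ Y`, the maps `|X ×_Y 𝐀^n_V| → |𝐀^n_V|` are closed for all `n`. Stated
as (1) ↔ (2) and (1) ↔ (3). -/
theorem result (S : Scheme.{u}) {X Y : AlgSp.Space S} (f : X ⟶ Y)
    (hqc : AlgSp.IsQuasiCompactMor f.hom) :
    (AlgSp.IsUnivClosedMor f.hom ↔
      ∀ (Z : AlgSp.Space S) (g : Z ⟶ Y), AlgSp.LocP @LocallyOfFinitePresentation g.hom →
        ∀ (P : AlgSp.Sp S) (fst : P ⟶ X.obj) (snd : P ⟶ Z.obj), IsPullback fst snd f.hom g.hom →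
          IsClosedMap (AlgSp.Points.map snd)) ∧
    (AlgSp.IsUnivClosedMor f.hom ↔
      ∃ (V : Over S) (p : (AlgSp.yon S).obj V ⟶ Y.obj), AlgSp.RepWith @Etale p ∧ AlgSp.RepWith @Surjective p ∧
        ∀ (n : ℕ) (P : AlgSp.Sp S) (fst : P ⟶ X.obj)
          (snd : P ⟶ (AlgSp.yon S).obj (Over.mk ((𝔸(ULift.{u} (Fin n); V.left) ↘ V.left) ≫ V.hom))),
          IsPullback fst snd f.hom ((AlgSp.yon S).map (Over.homMk (𝔸(ULift.{u} (Fin n); V.left) ↘ V.left)) ≫ p) →
            IsClosedMap (AlgSp.Points.map snd)) := by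
  open Groth.Agent.Lib.UCLimitH7 Groth.Agent.Lib.EtChartsH7 Groth.Agent.Lib.AlgSpLocP_helper7 Groth.Agent.Lib.AlgSpLocP4_helper7 Groth.Agent.Lib.AlgSpLocP7_helper7 in
  have main : ∀ (V : Over S) (p : (AlgSp.yon S).obj V ⟶ Y.obj), AlgSp.RepWith @Etale p →
      AlgSp.RepWith @Surjective p →
      (∀ (n : ℕ) (P : AlgSp.Sp S) (fst : P ⟶ X.obj)
        (snd : P ⟶ (AlgSp.yon S).obj (affOver V n)),
        IsPullback fst snd f.hom ((AlgSp.yon S).map (affHom V n) ≫ p) →
          IsClosedMap (AlgSp.Points.map snd)) → AlgSp.IsUnivClosedMor f.hom :=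
    fun V p hpe hps H =>
      isUnivClosedMor_of_affineSpace_closed X.property Y.property f.hom hqc V p hpe hps H
  refine ⟨⟨fun h Z g _ P fst snd sq => h Z.property g.hom fst snd sq, fun h => ?_⟩,
    ⟨fun h => ?_, fun ⟨V, p, hpe, hps, H⟩ => main V p hpe hps H⟩⟩
  · obtain ⟨V, p, hpe, hps⟩ := Y.property.atlas
    refine main V p hpe hps (fun n P fst snd sq => ?_)
    let Z : AlgSp.Space S := ⟨(AlgSp.yon S).obj (affOver V n), AlgSp.IsAlgSpace.yon_obj _⟩
    let g : Z ⟶ Y := ObjectProperty.homMk ((AlgSp.yon S).map (affHom V n) ≫ p)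
    refine h Z g ?_ P fst snd sq
    have h1 : AlgSp.LocP @LocallyOfFinitePresentation ((AlgSp.yon S).map (affHom V n)) :=
      locP_of_repWith @LocallyOfFinitePresentation
        (fun _ _ g (_ : Etale g) => (inferInstance : LocallyOfFinitePresentation g)) _
        ((AlgSp.repWith_yon_map_iff _ _).2
          (inferInstance : LocallyOfFinitePresentation (𝔸(ULift.{u} (Fin n); V.left) ↘ V.left)))
    have h2 := (flat_lfp_of_repWith_etale p hpe).2
    exact locP_comp etLocal_locallyOfFinitePresentation (AlgSp.IsAlgSpace.yon_obj _)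
      (AlgSp.IsAlgSpace.yon_obj V) Y.property _ _ h1 h2
  · obtain ⟨V, p, hpe, hps⟩ := Y.property.atlas
    exact ⟨V, p, hpe, hps, fun n P fst snd sq => h (AlgSp.IsAlgSpace.yon_obj _) _ fst snd sq⟩

end Groth.Agent.S10053
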