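import Groth.Statements.S10290
import Groth.Agent.Lib.AlgSpBasic_helper7

set_option autoImplicit false
universe u
open CategoryTheory CategoryTheory.Limits AlgebraicGeometry
open AlgSp

namespace Groth.Agent.S10290

/-- A separated morphism of algebraic spaces satisfies the uniqueness part of the valuative criterion. -/
theorem result {S : Scheme.{u}} {X Y : AlgSp.Space S} (f : X ⟶ Y)
    (hf : AlgSp.IsSeparatedMor f.hom) : AlgSp.UniqVC f.hom := by
  intro sq l l' h1 h2 h3 h4
  obtain ⟨m, hm1, hm2⟩ : ∃ m : (yon S).obj sq.ptA ⟶ pullback f.hom f.hom,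
      m ≫ pullback.fst _ _ = l ∧ m ≫ pullback.snd _ _ = l' :=
    ⟨pullback.lift l l' (by rw [h2, h4]), pullback.lift_fst _ _ _, pullback.lift_snd _ _ _⟩
  have sqE := hf.rep.isPullback m
  have hci : IsClosedImmersion (hf.rep.snd m).left := hf.property_snd m
  have hw : sq.top ≫ pullback.diagonal f.hom = (yon S).map sq.j ≫ m := by
    apply pullback.hom_ext
    · rw [Category.assoc, pullback.diagonal_fst, Category.comp_id, Category.assoc, hm1, h1]
    · rw [Category.assoc, pullback.diagonal_snd, Category.comp_id, Category.assoc, hm2, h3]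
  obtain ⟨k, hk⟩ := (yon S).map_surjective (sqE.lift sq.top ((yon S).map sq.j) hw)
  have hkj : k ≫ hf.rep.snd m = sq.j :=
    (yon S).map_injective (by rw [Functor.map_comp, hk, sqE.lift_snd])
  have hkj' : k.left ≫ (hf.rep.snd m).left =
      Spec.map (CommRingCat.ofHom (algebraMap sq.A sq.K)) := by
    have := congrArg (fun t => t.left) hkj
    exact this
  have hsurj : Surjective (hf.rep.snd m).left := by
    refine ⟨fun y => ?_⟩
    have hcl : IsClosed (Set.range (hf.rep.snd m).left) :=
      (hf.rep.snd m).left.isClosedEmbedding.isClosed_range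
    let x0 : PrimeSpectrum sq.K := ⟨⊥, Ideal.isPrime_bot⟩
    let η : PrimeSpectrum sq.A := PrimeSpectrum.comap (algebraMap sq.A sq.K) x0
    have hη : η.asIdeal = ⊥ := by
      change Ideal.comap (algebraMap sq.A sq.K) ⊥ = ⊥
      exact Ideal.comap_bot_of_injective _ (IsFractionRing.injective sq.A sq.K)
    have hmem : η ∈ Set.range (hf.rep.snd m).left := by
      refine ⟨k.left x0, ?_⟩
      rw [← Scheme.Hom.comp_apply, hkj']
      rfl
    have hsub : closure {η} ⊆ Set.range (hf.rep.snd m).left :=
      hcl.closure_subset_iff.2 (Set.singleton_subset_iff.2 hmem)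
    rw [PrimeSpectrum.closure_singleton, hη] at hsub
    exact hsub (by simp)
  have hred : IsReduced (Spec (CommRingCat.of sq.A)) := inferInstance
  have hiso : IsIso (hf.rep.snd m).left :=
    @isIso_of_isClosedImmersion_of_surjective _ _ (hf.rep.snd m).left hci hsurj hred
  have hiso2 : IsIso ((Over.forget S).map (hf.rep.snd m)) := hiso
  have hiso' : IsIso (hf.rep.snd m) := isIso_of_reflects_iso _ (Over.forget S)
  have hm : m = inv ((yon S).map (hf.rep.snd m)) ≫ hf.rep.fst m ≫ pullback.diagonal f.hom := by
    rw [sqE.w, IsIso.inv_hom_id_assoc]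
  rw [← hm1, ← hm2, hm]
  simp

end Groth.Agent.S10290
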