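import Groth.Statements.S10065
import Mathlib
import Groth.Agent.S10290
import Groth.Agent.Lib.ValCritCL_helper6
import Groth.Agent.Lib.ValCritDVRClosed_helper6
import Groth.Agent.Lib.ValCritDVR_helper7
-- import your own Groth.Agent.* helpers here

set_option autoImplicit false
universe u
open CategoryTheory CategoryTheory.Limits AlgebraicGeometry
open AlgSp

namespace Groth.Agent.S10065

/-- Let `f : X ⟶ Y` be quasi-separated and of finite type with `Y` locally Noetherian. Then `f` is
proper if and only if every valuative test square for `f` whose valuation ring is a discrete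
valuation ring admits exactly one dotted arrow (a lift `Spec A ⟶ X`, with no extension of `A`). (The
published statement also lists as equivalent conditions the valuative criterion and the same
unique-lift condition over arbitrary valuation rings, and a refinement to squares hitting a
codimension-0 point; this row states only the discrete valuation ring form.) -/
theorem result (S : Scheme.{u}) {X Y : AlgSp.Space S} (f : X ⟶ Y)
    (hqs : AlgSp.IsQuasiSeparatedMor f.hom) (hft : AlgSp.IsFiniteTypeMor f.hom) (hY : AlgSp.IsLocNoethSp Y.obj) :
    AlgSp.IsProperMor f.hom ↔ ∀ sq : AlgSp.ValSq f.hom, IsDiscreteValuationRing sq.A → sq.HasLift ∧ sq.HasUniq := by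

  constructor
  · rintro ⟨hsep, -, huc⟩ sq hA
    refine ⟨?_, Groth.Agent.S10290.result f hsep sq⟩
    haveI := hA
    obtain ⟨l, h1, h2⟩ := Groth.Agent.Lib.ValCritCLH6.exists_lift_of_dvr X.property Y.property
      f.hom hsep hft.1 hqs huc sq.A sq.K sq.str sq.top sq.bot sq.comm
    exact ⟨l, h1, h2⟩
  · intro H
    refine ⟨?_, hft, ?_⟩
    · exact Groth.Agent.Lib.ValCritDVRH7.isSeparatedMor_of_dvr_uniq X.property Y.property f.hom
        hqs hft.1 hY (fun sq h => (H sq h).2)
    · exact Groth.Agent.Lib.ValCritDVRClosedH6.isUnivClosedMor_of_dvr X.property Y.property f.hom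
        hft hY (fun sq h => (H sq h).1)

end Groth.Agent.S10065
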