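import Groth.Statements.S10114
import Groth.Agent.Lib.AlgSpQuotSp_helper7

set_option autoImplicit false
universe u
open CategoryTheory CategoryTheory.Limits AlgebraicGeometry
open AlgSp

namespace Groth.Agent.S10114

/-- Let `s, t : R ⟶ U` be a pre-equivalence relation of algebraic spaces, `g : U' ⟶ U` a morphism of
algebraic spaces and `s', t' : R' ⟶ U'` the restriction of the pre-relation along `g` (so `R' = (U'
× U') ×_{U × U} R`). Then the induced map of quotient sheaves `U'/R' ⟶ U/R` is injective, and it is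
an isomorphism when `g` is a surjection of sheaves. -/
theorem result (S : Scheme.{u}) (R U R' U' : AlgSp.Sp S)
    (hR : AlgSp.IsAlgSpace R) (hU : AlgSp.IsAlgSpace U) (hR' : AlgSp.IsAlgSpace R') (hU' : AlgSp.IsAlgSpace U')
    (s t : R ⟶ U) (hpre : AlgSp.IsPreEqvRelSp s t) (g : U' ⟶ U) (s' t' : R' ⟶ U') (r : R' ⟶ R)
    (hsq : IsPullback (prod.lift t' s') r (prod.map g g) (prod.lift t s))
    (ψ : AlgSp.quotSp s' t' ⟶ AlgSp.quotSp s t) (hψ : AlgSp.quotSpπ s' t' ≫ ψ = g ≫ AlgSp.quotSpπ s t) :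
    Mono ψ ∧ (Epi g → IsIso ψ) := by
  open Groth.Agent.Lib.AlgSpQuotSpH7 AlgSp in
  have hmono : Mono ψ := by
    refine mono_of_local_sp ψ (quotSpπ s' t') (isLocallySurjective_quotSpπ s' t') ?_
    intro Y u₁ u₂ h12
    rw [hψ, ← Category.assoc, ← Category.assoc] at h12
    obtain ⟨Sv, hSv, hr⟩ := exists_rel_of_quotSpπ_eq hpre _ _ h12
    refine ⟨Sv, hSv, fun Y' m hm => ?_⟩
    obtain ⟨ρ, hρ1, hρ2⟩ := hr m hm
    have hw : prod.lift ((yon S).map m ≫ u₁) ((yon S).map m ≫ u₂) ≫ prod.map g g =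
        ρ ≫ prod.lift t s := by
      rw [prod.lift_map, prod.comp_lift, hρ1, hρ2, Category.assoc, Category.assoc]
    obtain ⟨r', h1⟩ : ∃ r' : (yon S).obj Y' ⟶ R', r' ≫ prod.lift t' s' =
        prod.lift ((yon S).map m ≫ u₁) ((yon S).map m ≫ u₂) :=
      ⟨hsq.lift _ _ hw, hsq.lift_fst _ _ _⟩
    have h1a : r' ≫ t' = (yon S).map m ≫ u₁ := by
      have h2 : (r' ≫ prod.lift t' s') ≫ prod.fst =
          prod.lift ((yon S).map m ≫ u₁) ((yon S).map m ≫ u₂) ≫ prod.fst := by rw [h1]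
      rw [Category.assoc, prod.lift_fst, prod.lift_fst] at h2
      exact h2
    have h1b : r' ≫ s' = (yon S).map m ≫ u₂ := by
      have h2 : (r' ≫ prod.lift t' s') ≫ prod.snd =
          prod.lift ((yon S).map m ≫ u₁) ((yon S).map m ≫ u₂) ≫ prod.snd := by rw [h1]
      rw [Category.assoc, prod.lift_snd, prod.lift_snd] at h2
      exact h2
    rw [← Category.assoc, ← Category.assoc, ← h1a, ← h1b, Category.assoc, Category.assoc,
      quotSp_condition]
  refine ⟨hmono, fun hg => ?_⟩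
  haveI : Epi (quotSpπ s t) := by
    unfold quotSpπ
    exact coequalizer.π_epi
  haveI : Epi (quotSpπ s' t' ≫ ψ) := by
    rw [hψ]
    exact epi_comp _ _
  haveI : Epi ψ := epi_of_epi (quotSpπ s' t') ψ
  exact isIso_of_mono_of_epi ψ

end Groth.Agent.S10114
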