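import Groth.Statements.S10115
import Groth.Agent.Lib.AlgSpQuotSp_helper7
import Mathlib.CategoryTheory.Sites.LeftExact

set_option autoImplicit false
universe u
open CategoryTheory CategoryTheory.Limits AlgebraicGeometry
open AlgSp AlgSp.GroupoidSp

namespace Groth.Agent.S10115

open Groth.Agent.Lib.AlgSpQuotSpH7 in
theorem isPreEqvRelSp_of_groupoid {S : Scheme.{u}} {B : AlgSp.Sp S} (G : AlgSp.GroupoidSp B) :
    AlgSp.IsPreEqvRelSp G.s G.t := by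
  intro T
  refine ⟨fun a => ⟨a ≫ G.e, ?_, ?_⟩, ?_, ?_⟩
  · rw [Category.assoc, G.e_t, Category.comp_id]
  · rw [Category.assoc, G.e_s, Category.comp_id]
  · rintro a b ⟨r, h1, h2⟩
    exact ⟨r ≫ G.i, by rw [Category.assoc, G.i_t, h2], by rw [Category.assoc, G.i_s, h1]⟩
  · rintro a b c ⟨r₁, h1, h2⟩ ⟨r₂, h3, h4⟩
    have h : r₁ ≫ G.s = r₂ ≫ G.t := h2.trans h3.symm
    exact ⟨pullback.lift r₁ r₂ h ≫ G.c, (G.comp_t r₁ r₂ h).trans h1,
      (G.comp_s r₁ r₂ h).trans h4⟩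

/-- For a groupoid `(U, R, s, t, c)` in algebraic spaces over `B`, let `(U', R', s', t', c')` be its
restriction along a morphism `g : U' ⟶ U` over `B`. Then `U'/R' ⟶ U/R` is injective; if the
composite `h : U' ×_{g, U, t} R ⟶ R ⟶ U` of the projection with `s` is a surjection of fppf sheaves
(for instance if `g` is), then it is bijective. -/
theorem result (S : Scheme.{u}) (B : AlgSp.Sp S) (hB : AlgSp.IsAlgSpace B)
    (G G' : AlgSp.GroupoidSp B) (hU : AlgSp.IsAlgSpace G.U) (hR : AlgSp.IsAlgSpace G.R)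
    (hU' : AlgSp.IsAlgSpace G'.U) (hR' : AlgSp.IsAlgSpace G'.R) (φ : AlgSp.GroupoidSp.Hom G' G)
    (hφ : φ.IsRestriction) (ψ : G'.quot ⟶ G.quot) (hψ : G'.quotπ ≫ ψ = φ.fU ≫ G.quotπ) :
    Mono ψ ∧ (Epi (pullback.snd φ.fU G.t ≫ G.s) → IsIso ψ) := by
  have hE : AlgSp.IsPreEqvRelSp G.s G.t := isPreEqvRelSp_of_groupoid G
  have hsurj : Sheaf.IsLocallySurjective G'.quotπ :=
    Groth.Agent.Lib.AlgSpQuotSpH7.isLocallySurjective_quotSpπ G'.s G'.t
  have hmono : Mono ψ := by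
    refine Groth.Agent.Lib.AlgSpQuotSpH7.mono_of_local_sp ψ G'.quotπ hsurj ?_
    intro Y u₁ u₂ h
    rw [hψ] at h
    have h' : (u₁ ≫ φ.fU) ≫ AlgSp.quotSpπ G.s G.t = (u₂ ≫ φ.fU) ≫ AlgSp.quotSpπ G.s G.t := by
      rw [Category.assoc, Category.assoc]; exact h
    obtain ⟨Sv, hSv, key⟩ :=
      Groth.Agent.Lib.AlgSpQuotSpH7.exists_rel_of_quotSpπ_eq hE (u₁ ≫ φ.fU) (u₂ ≫ φ.fU) h'
    refine ⟨Sv, hSv, fun Y' m hm => ?_⟩
    obtain ⟨ρ, hρ1, hρ2⟩ := key m hm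
    have hpU : ((AlgSp.yon S).map m ≫ u₁) ≫ G'.pU = ((AlgSp.yon S).map m ≫ u₂) ≫ G'.pU := by
      rw [← φ.fU_over]
      have e1 : ((AlgSp.yon S).map m ≫ u₁) ≫ φ.fU ≫ G.pU = ρ ≫ G.t ≫ G.pU := by
        rw [← Category.assoc ρ, hρ1]; simp only [Category.assoc]
      have e2 : ((AlgSp.yon S).map m ≫ u₂) ≫ φ.fU ≫ G.pU = ρ ≫ G.s ≫ G.pU := by
        rw [← Category.assoc ρ, hρ2]; simp only [Category.assoc]
      rw [e1, e2, G.t_over, G.s_over]
    have hw : ρ ≫ G.j = pullback.lift ((AlgSp.yon S).map m ≫ u₁) ((AlgSp.yon S).map m ≫ u₂) hpU ≫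
        φ.prodMap := by
      apply pullback.hom_ext
      · simp only [Category.assoc, AlgSp.GroupoidSp.j_fst, AlgSp.GroupoidSp.Hom.prodMap,
          pullback.map, pullback.lift_fst, pullback.lift_fst_assoc]
        exact hρ1
      · simp only [Category.assoc, AlgSp.GroupoidSp.j_snd, AlgSp.GroupoidSp.Hom.prodMap,
          pullback.map, pullback.lift_snd, pullback.lift_snd_assoc]
        exact hρ2
    obtain ⟨r', hr1, hr2⟩ : ∃ r' : (AlgSp.yon S).obj Y' ⟶ G'.R, r' ≫ φ.fR = ρ ∧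
        r' ≫ G'.j = pullback.lift ((AlgSp.yon S).map m ≫ u₁) ((AlgSp.yon S).map m ≫ u₂) hpU :=
      ⟨hφ.lift ρ _ hw, hφ.lift_fst _ _ _, hφ.lift_snd _ _ _⟩
    have ht : r' ≫ G'.t = (AlgSp.yon S).map m ≫ u₁ := by
      rw [← G'.j_fst, ← Category.assoc, hr2, pullback.lift_fst]
    have hs : r' ≫ G'.s = (AlgSp.yon S).map m ≫ u₂ := by
      rw [← G'.j_snd, ← Category.assoc, hr2, pullback.lift_snd]
    have hc : G'.s ≫ G'.quotπ = G'.t ≫ G'.quotπ := AlgSp.quotSp_condition G'.s G'.t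
    calc (AlgSp.yon S).map m ≫ u₁ ≫ G'.quotπ
        = (r' ≫ G'.t) ≫ G'.quotπ := by rw [ht, Category.assoc]
      _ = (r' ≫ G'.s) ≫ G'.quotπ := by rw [Category.assoc, Category.assoc, hc]
      _ = (AlgSp.yon S).map m ≫ u₂ ≫ G'.quotπ := by rw [hs, Category.assoc]
  refine ⟨hmono, fun hepi => ?_⟩
  haveI := hmono
  haveI : Epi ψ := by
    have hcomp : (pullback.snd φ.fU G.t ≫ G.s) ≫ G.quotπ =
        (pullback.fst φ.fU G.t ≫ G'.quotπ) ≫ ψ := by
      rw [Category.assoc, Category.assoc, hψ]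
      have hc : G.s ≫ G.quotπ = G.t ≫ G.quotπ := AlgSp.quotSp_condition G.s G.t
      rw [hc, ← Category.assoc, ← pullback.condition, Category.assoc]
    haveI : Epi G.quotπ := by
      show Epi (coequalizer.π G.s G.t)
      infer_instance
    haveI h3 : Epi ((pullback.snd φ.fU G.t ≫ G.s) ≫ G.quotπ) := epi_comp _ _
    rw [hcomp] at h3
    exact epi_of_epi (pullback.fst φ.fU G.t ≫ G'.quotπ) ψ
  exact isIso_of_mono_of_epi ψ

end Groth.Agent.S10115
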