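import Groth.Statements.S10116
import Groth.Agent.Lib.AlgSpGpdSep_helper7
import Mathlib.CategoryTheory.Monoidal.Cartesian.Grp

set_option autoImplicit false
universe u
open CategoryTheory CategoryTheory.Limits AlgebraicGeometry MonoidalCategory MonObj
open AlgSp

namespace Groth.Agent.S10116

open Groth.Agent.Lib.AlgSpQC_helper7 Groth.Agent.Lib.AlgSpDiag_helper7
  Groth.Agent.Lib.AlgSpPullback_helper7 Groth.Agent.Lib.AlgSpSep_helper7
  Groth.Agent.Lib.AlgSpBasic_helper7

section aux
variable {S : Scheme.{u}} {B : AlgSp.Sp S} (G : Over B) [GrpObj G]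

/-- the unit section as a map of sheaves -/
noncomputable def eL : B ⟶ G.left := (η[G]).left

/-- the map `(g, h) ↦ g⁻¹ h` -/
noncomputable def dL : pullback G.hom G.hom ⟶ G.left :=
  ((CartesianMonoidalCategory.fst G G)⁻¹ * CartesianMonoidalCategory.snd G G : G ⊗ G ⟶ G).left

lemma eL_hom : eL G ≫ G.hom = 𝟙 B := Over.w (η[G])

lemma dL_hom : dL G ≫ G.hom = pullback.fst G.hom G.hom ≫ G.hom :=
  Over.w ((CartesianMonoidalCategory.fst G G)⁻¹ * CartesianMonoidalCategory.snd G G : G ⊗ G ⟶ G)

lemma w_diag : G.hom ≫ eL G = pullback.diagonal G.hom ≫ dL G := by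
  have h1 : pullback.diagonal G.hom = (CartesianMonoidalCategory.lift (𝟙 G) (𝟙 G)).left := rfl
  have h2 : CartesianMonoidalCategory.lift (𝟙 G) (𝟙 G) ≫
      ((CartesianMonoidalCategory.fst G G)⁻¹ * CartesianMonoidalCategory.snd G G) =
      CartesianMonoidalCategory.toUnit G ≫ η[G] := by
    rw [MonObj.comp_mul, GrpObj.comp_inv, CartesianMonoidalCategory.lift_fst,
      CartesianMonoidalCategory.lift_snd, inv_mul_cancel, Hom.one_def]
  rw [h1]
  exact (congrArg CommaMorphism.left h2).symm

theorem isPullback_diag : IsPullback G.hom (pullback.diagonal G.hom) (eL G) (dL G) := by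
  refine isPullback_of_forall_yon (w_diag G) (fun T x y hxy => ?_)
  obtain ⟨β, hβ⟩ : ∃ β : (AlgSp.yon S).obj T ⟶ B, β = y ≫ (G ⊗ G).hom := ⟨_, rfl⟩
  obtain ⟨Y, hY⟩ : ∃ Y : Over.mk β ⟶ G ⊗ G, Y.left = y := ⟨Over.homMk y hβ.symm, rfl⟩
  have hx : x = β := by
    have h1 := congrArg (fun k => k ≫ G.hom) hxy
    simp only [Category.assoc] at h1
    rw [eL_hom, Category.comp_id, dL_hom] at h1
    rw [h1, hβ]
    rfl
  obtain ⟨g₁, hg₁⟩ : ∃ g : Over.mk β ⟶ G, g = Y ≫ CartesianMonoidalCategory.fst G G := ⟨_, rfl⟩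
  obtain ⟨g₂, hg₂⟩ : ∃ g : Over.mk β ⟶ G, g = Y ≫ CartesianMonoidalCategory.snd G G := ⟨_, rfl⟩
  have hg₁l : g₁.left = y ≫ pullback.fst G.hom G.hom := by
    rw [hg₁, Over.comp_left, hY]
    rfl
  have hg₂l : g₂.left = y ≫ pullback.snd G.hom G.hom := by
    rw [hg₂, Over.comp_left, hY]
    rfl
  have hmul : g₁⁻¹ * g₂ = 1 := by
    apply Over.OverMorphism.ext
    have e1 : g₁⁻¹ * g₂ = Y ≫ ((CartesianMonoidalCategory.fst G G)⁻¹ *
        CartesianMonoidalCategory.snd G G) := by
      rw [MonObj.comp_mul, GrpObj.comp_inv, hg₁, hg₂]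
    have e2 : (g₁⁻¹ * g₂).left = y ≫ dL G := by
      rw [e1, Over.comp_left, hY]
      rfl
    have e3 : (1 : Over.mk β ⟶ G).left = β ≫ eL G := rfl
    rw [e2, e3, ← hx, hxy]
  have h12 : g₁ = g₂ := inv_mul_eq_one.mp hmul
  have hfs : y ≫ pullback.fst G.hom G.hom = y ≫ pullback.snd G.hom G.hom := by
    rw [← hg₁l, ← hg₂l, h12]
  refine ⟨y ≫ pullback.fst G.hom G.hom, ⟨?_, ?_⟩, fun p hp => ?_⟩
  · rw [hx, hβ, Category.assoc]
    rfl
  · apply pullback.hom_ext
    · rw [Category.assoc, Category.assoc, pullback.diagonal_fst, Category.comp_id]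
    · rw [Category.assoc, Category.assoc, pullback.diagonal_snd, Category.comp_id]
      exact hfs
  · have h1 := congrArg (fun k => k ≫ pullback.fst G.hom G.hom) hp.2
    simpa only [Category.assoc, pullback.diagonal_fst, Category.comp_id] using h1

theorem repWith_iff (Q : MorphismProperty Scheme.{u}) [Q.IsStableUnderBaseChange]
    [Q.IsMultiplicative] :
    (RepWith Q (pullback.diagonal G.hom) ↔ RepWith Q (eL G)) := by
  constructor
  · intro h
    refine repWith_of_comp_of_diagonal Q (eL G) G.hom ?_ h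
    rw [eL_hom]
    exact repWith_of_isIso Q (𝟙 _)
  · intro h
    exact MorphismProperty.of_isPullback (P := RepWith Q) (isPullback_diag G) h

theorem representable_eL (hG : AlgSp.IsAlgSpace G.left) : Representable (eL G) := by
  refine representable_of_comp_of_diagonal (eL G) G.hom ?_
    (diagonal_properties hG G.hom).1.rep
  rw [eL_hom]
  exact (repWith_of_isIso @IsClosedImmersion (𝟙 _)).rep

end aux

/-- Let `G` be a group algebraic space over an algebraic space `B` with unit `e : B ⟶ G`. Then `G ⟶ B`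
is separated if and only if `e` is a closed immersion, quasi-separated if and only if `e` is
quasi-compact, and if `G ⟶ B` is locally separated then `e` is an immersion. (The published
statement makes the last part an equivalence as well; this row states only that a locally separated
`G ⟶ B` has `e` an immersion.) -/
theorem result (S : Scheme.{u}) (B : AlgSp.Sp S) (hB : AlgSp.IsAlgSpace B)
    (G : Over B) [GrpObj G] (hG : AlgSp.IsAlgSpace G.left) :
    (AlgSp.IsSeparatedMor G.hom ↔ AlgSp.RepWith @IsClosedImmersion (η[G]).left) ∧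
      (AlgSp.IsQuasiSeparatedMor G.hom ↔ AlgSp.IsQuasiCompactMor (η[G]).left) ∧
      (AlgSp.IsLocallySeparatedMor G.hom → AlgSp.RepWith @IsImmersion (η[G]).left) := by
  refine ⟨repWith_iff G @IsClosedImmersion, ?_, fun h => (repWith_iff G @IsImmersion).mp h⟩
  have h1 : AlgSp.IsQuasiSeparatedMor G.hom ↔ AlgSp.RepWith @QuasiCompact (eL G) :=
    repWith_iff G @QuasiCompact
  rw [h1]
  exact repWith_quasiCompact_iff (eL G) (representable_eL G hG)

end Groth.Agent.S10116
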