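import Groth.Statements.S10117
import Groth.Agent.Lib.AlgSpQuotSp_helper7

set_option autoImplicit false
universe u
open CategoryTheory CategoryTheory.Limits AlgebraicGeometry MonoidalCategory MonObj
open AlgSp AlgSp.GAction

namespace Groth.Agent.S10117

/-- If a group algebraic space `G` over `B` acts freely on an algebraic space `X` over `B`, then `G ×_B
X ⟶ X ×_B X`, `(g, x) ↦ (g x, x)`, is a monomorphism. (The published statement is an equivalence;
this row states only the direction from free to monomorphism.) -/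
theorem result (S : Scheme.{u}) (B : AlgSp.Sp S) (hB : AlgSp.IsAlgSpace B)
    (G X : Over B) [GrpObj G] (hG : AlgSp.IsAlgSpace G.left) (hX : AlgSp.IsAlgSpace X.left)
    (a : AlgSp.GAction G X) (ha : a.IsFree) :
    Mono (CartesianMonoidalCategory.lift a.act (CartesianMonoidalCategory.snd G X)).left := by
  have hA : ∀ {T' : Over B} (g h : T' ⟶ G) (x : T' ⟶ X),
      CartesianMonoidalCategory.lift (g * h) x ≫ a.act =
        CartesianMonoidalCategory.lift g (CartesianMonoidalCategory.lift h x ≫ a.act) ≫ a.act := by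
    intro T' g h x
    have := congrArg (fun k => CartesianMonoidalCategory.lift
      (CartesianMonoidalCategory.lift g h) x ≫ k) a.mul_act
    simpa [Hom.mul_def] using this
  have hB : ∀ {T' : Over B} (x : T' ⟶ X),
      CartesianMonoidalCategory.lift (1 : T' ⟶ G) x ≫ a.act = x := by
    intro T' x
    have := congrArg (fun k => CartesianMonoidalCategory.lift
      (CartesianMonoidalCategory.toUnit T') x ≫ k) a.one_act
    simpa [Hom.one_def] using this
  have key : ∀ (T : Over S) (p₁ p₂ : (AlgSp.yon S).obj T ⟶ (G ⊗ X).left),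
      p₁ ≫ (CartesianMonoidalCategory.lift a.act (CartesianMonoidalCategory.snd G X)).left =
        p₂ ≫ (CartesianMonoidalCategory.lift a.act (CartesianMonoidalCategory.snd G X)).left →
      p₁ = p₂ := by
    intro T p₁ p₂ h
    have hm : (CartesianMonoidalCategory.lift a.act (CartesianMonoidalCategory.snd G X)).left ≫
        (X ⊗ X).hom = (G ⊗ X).hom := Over.w _
    obtain ⟨β, hβ⟩ : ∃ β : (AlgSp.yon S).obj T ⟶ B, β = p₁ ≫ (G ⊗ X).hom := ⟨_, rfl⟩
    have hβ₂ : p₂ ≫ (G ⊗ X).hom = β := by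
      rw [hβ, ← hm, ← Category.assoc, ← h, Category.assoc]
    obtain ⟨P₁, hP₁⟩ : ∃ P₁ : Over.mk β ⟶ G ⊗ X, P₁.left = p₁ := ⟨Over.homMk p₁ hβ.symm, rfl⟩
    obtain ⟨P₂, hP₂⟩ : ∃ P₂ : Over.mk β ⟶ G ⊗ X, P₂.left = p₂ := ⟨Over.homMk p₂ hβ₂, rfl⟩
    have hP : P₁ ≫ CartesianMonoidalCategory.lift a.act (CartesianMonoidalCategory.snd G X) =
        P₂ ≫ CartesianMonoidalCategory.lift a.act (CartesianMonoidalCategory.snd G X) := by
      apply Over.OverMorphism.ext
      rw [Over.comp_left, Over.comp_left, hP₁, hP₂]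
      exact h
    have hx : P₁ ≫ CartesianMonoidalCategory.snd G X = P₂ ≫ CartesianMonoidalCategory.snd G X := by
      have := congrArg (fun k => k ≫ CartesianMonoidalCategory.snd X X) hP
      simpa using this
    have hact0 : P₁ ≫ a.act = P₂ ≫ a.act := by
      have := congrArg (fun k => k ≫ CartesianMonoidalCategory.fst X X) hP
      simpa using this
    obtain ⟨g₁, hg₁⟩ : ∃ g : Over.mk β ⟶ G, g = P₁ ≫ CartesianMonoidalCategory.fst G X := ⟨_, rfl⟩
    obtain ⟨g₂, hg₂⟩ : ∃ g : Over.mk β ⟶ G, g = P₂ ≫ CartesianMonoidalCategory.fst G X := ⟨_, rfl⟩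
    obtain ⟨x, hx₁⟩ : ∃ x : Over.mk β ⟶ X, x = P₁ ≫ CartesianMonoidalCategory.snd G X := ⟨_, rfl⟩
    have e1 : P₁ = CartesianMonoidalCategory.lift g₁ x := by
      rw [hg₁, hx₁, CartesianMonoidalCategory.lift_comp_fst_snd]
    have e2 : P₂ = CartesianMonoidalCategory.lift g₂ x := by
      rw [hg₂, hx₁, hx, CartesianMonoidalCategory.lift_comp_fst_snd]
    have hact : CartesianMonoidalCategory.lift g₁ x ≫ a.act =
        CartesianMonoidalCategory.lift g₂ x ≫ a.act := by
      rw [← e1, ← e2]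
      exact hact0
    have hfree := ha β (g₂⁻¹ * g₁) x (by rw [hA, hact, ← hA, inv_mul_cancel, hB])
    have h1 : g₂⁻¹ * g₁ = 1 := hfree
    have h2 : g₁ = g₂ := by
      rw [inv_mul_eq_one] at h1
      exact h1.symm
    have h3 : P₁ = P₂ := by rw [e1, e2, h2]
    rw [← hP₁, ← hP₂, h3]
  constructor
  intro Z u v huv
  apply Groth.Agent.Lib.AlgSpQuotSpH7.hom_ext_yon
  intro V p
  apply key
  rw [Category.assoc, Category.assoc, huv]

end Groth.Agent.S10117
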