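import Groth.Statements.S10118
import Groth.Agent.Lib.AlgSpSelfProd_helper7

set_option autoImplicit false
universe u
open CategoryTheory CategoryTheory.Limits AlgebraicGeometry MonoidalCategory MonObj
open AlgSp AlgSp.GAction

namespace Groth.Agent.S10118

open Groth.Agent.Lib.AlgSpSelfProdH7 Groth.Agent.Lib.AlgSpLocP4_helper7
  Groth.Agent.Lib.AlgSpLocP7_helper7 Groth.Agent.Lib.AlgSpPullback_helper7
  Groth.Agent.Lib.AlgSpEtale_helper7 Groth.Agent.Lib.AlgSpQC_helper7
  Groth.Agent.Lib.AlgSpDiag_helper7

section aux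
variable {S : Scheme.{u}}

theorem isEtaleMor_of_isIso {X Y : AlgSp.Sp S} (e : X ⟶ Y) [IsIso e] : AlgSp.IsEtaleMor e := by
  intro U φ hφ
  exact repWith_comp _ hφ (Groth.Agent.Lib.AlgSpBasic_helper7.repWith_of_isIso @Etale e)

end aux

/-- Let `X` be a pseudo-torsor under a group algebraic space `G` over an algebraic space `B`, where both
`G` and `X` are locally of finite type over `B`. Whenever `G ⟶ B` is unramified, `X ⟶ B` is
unramified too; likewise, local quasi-finiteness passes from `G ⟶ B` to `X ⟶ B`. -/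
theorem result (S : Scheme.{u}) (B : AlgSp.Sp S) (hB : AlgSp.IsAlgSpace B)
    (G X : Over B) [GrpObj G] (hG : AlgSp.IsAlgSpace G.left) (hX : AlgSp.IsAlgSpace X.left)
    (a : AlgSp.GAction G X) (ha : a.IsPseudoTorsor)
    (hGt : AlgSp.LocP @LocallyOfFiniteType G.hom) (hXt : AlgSp.LocP @LocallyOfFiniteType X.hom) :
    (AlgSp.LocP (@LocallyOfFiniteType ⊓ @FormallyUnramified) G.hom →
        AlgSp.LocP (@LocallyOfFiniteType ⊓ @FormallyUnramified) X.hom) ∧
      (AlgSp.LocP (@LocallyQuasiFinite ⊓ @LocallyOfFiniteType) G.hom →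
        AlgSp.LocP (@LocallyQuasiFinite ⊓ @LocallyOfFiniteType) X.hom) := by
  have sqGX := IsPullback.of_hasPullback G.hom X.hom
  have sqXX := IsPullback.of_hasPullback X.hom X.hom
  have hGX : IsAlgSpace (pullback G.hom X.hom) := isAlgSpace_of_isPullback hB.diag hG hX sqGX
  have hXX : IsAlgSpace (pullback X.hom X.hom) := isAlgSpace_of_isPullback hB.diag hX hX sqXX
  haveI : IsIso (CartesianMonoidalCategory.lift a.act (CartesianMonoidalCategory.snd G X)) := ha
  haveI hiso : IsIso (CartesianMonoidalCategory.lift a.act (CartesianMonoidalCategory.snd G X)).left :=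
    inferInstanceAs (IsIso ((Over.forget B).map
      (CartesianMonoidalCategory.lift a.act (CartesianMonoidalCategory.snd G X))))
  have e : inv (CartesianMonoidalCategory.lift a.act (CartesianMonoidalCategory.snd G X)).left ≫
      pullback.snd G.hom X.hom = pullback.snd X.hom X.hom := by
    rw [IsIso.inv_comp_eq]
    exact (congrArg CommaMorphism.left
      (CartesianMonoidalCategory.lift_snd a.act (CartesianMonoidalCategory.snd G X))).symm
  have key : ∀ (P : MorphismProperty Scheme.{u}) [P.IsStableUnderBaseChange]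
      [P.IsStableUnderComposition], EtLocal P →
      (∀ ⦃A B : Scheme.{u}⦄ (g : A ⟶ B), Etale g → P g) → LocP P G.hom →
      LocP P (pullback.snd X.hom X.hom) := by
    intro P _ _ hP hE hGP
    have h1 : LocP P (pullback.snd G.hom X.hom) :=
      locP_baseChange hP hG hB hX G.hom X.hom _ _ sqGX hGP
    rw [← e]
    exact locP_comp hP hXX hGX hX _ _
      (locP_of_isEtaleMor P hE _ (isEtaleMor_of_isIso _)) h1
  refine ⟨fun h => ?_, fun h => ?_⟩
  · exact locP_unramified_of_locP_snd hX hB X.hom hXt
      (key _ etLocal_unramified (fun _ _ g hg => by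
        haveI : Etale g := hg
        exact ⟨inferInstance, inferInstance⟩) h)
  · exact locP_lqf_of_locP_snd hX hB X.hom hXt
      (key _ etLocal_locallyQuasiFinite (fun _ _ g hg => by
        haveI : Etale g := hg
        exact ⟨locallyQuasiFinite_of_unramified g, inferInstance⟩) h)

end Groth.Agent.S10118
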