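import Groth.Statements.S10121
import Groth.Agent.Lib.AlgSpPoints_helper7
-- import your own Groth.Agent.* helpers here

set_option autoImplicit false
universe u
open CategoryTheory CategoryTheory.Limits AlgebraicGeometry
open AlgSp

namespace Groth.Agent.S10121

open Groth.Agent.Lib.AlgSpPoints_helper7

/-- For a pre-equivalence relation `s, t : R ⟶ U` of algebraic spaces, the relation on points of `U`
given by `x ∼ y` when some point `r` of `R` has `t(r) = x` and `s(r) = y` is an equivalence relation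
on `|U|`. -/
theorem result (S : Scheme.{u}) (R U : AlgSp.Sp S)
    (hR : AlgSp.IsAlgSpace R) (hU : AlgSp.IsAlgSpace U) (s t : R ⟶ U) (h : AlgSp.IsPreEqvRelSp s t) :
    _root_.Equivalence (fun x y : AlgSp.Points U =>
      ∃ r : AlgSp.Points R, AlgSp.Points.map t r = x ∧ AlgSp.Points.map s r = y) := by
  refine ⟨?_, ?_, ?_⟩
  · intro x
    obtain ⟨K, _, sK, m, rfl⟩ := mk_surjective' x
    obtain ⟨r, hr1, hr2⟩ := (h (Over.mk sK)).refl m
    exact ⟨Points.mk (ofHom r), by rw [map_mk_ofHom, hr1], by rw [map_mk_ofHom, hr2]⟩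
  · rintro x y ⟨r, rfl, rfl⟩
    obtain ⟨K, _, sK, ρ, rfl⟩ := mk_surjective' r
    obtain ⟨ρ', h1, h2⟩ := (h (Over.mk sK)).symm (x := ρ ≫ t) (y := ρ ≫ s) ⟨ρ, rfl, rfl⟩
    exact ⟨Points.mk (ofHom ρ'), by rw [map_mk_ofHom, map_mk_ofHom, h1],
      by rw [map_mk_ofHom, map_mk_ofHom, h2]⟩
  · rintro x y z ⟨r1, rfl, hy⟩ ⟨r2, hy2, rfl⟩
    obtain ⟨K1, _, s1, ρ1, rfl⟩ := mk_surjective' r1
    obtain ⟨K2, _, s2, ρ2, rfl⟩ := mk_surjective' r2
    have e : Points.mk (ofHom (ρ1 ≫ s)) = Points.mk (ofHom (ρ2 ≫ t)) := by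
      rw [← map_mk_ofHom, ← map_mk_ofHom, hy, hy2]
    rw [mk_ofHom_eq_iff] at e
    obtain ⟨Ω, _, w, a, b, hab⟩ := e
    have r12 : ∃ r : (AlgSp.yon S).obj (Over.mk w) ⟶ R,
        r ≫ t = ((AlgSp.yon S).map a ≫ ρ1) ≫ t ∧ r ≫ s = ((AlgSp.yon S).map a ≫ ρ1) ≫ s :=
      ⟨_, rfl, rfl⟩
    have r23 : ∃ r : (AlgSp.yon S).obj (Over.mk w) ⟶ R,
        r ≫ t = ((AlgSp.yon S).map a ≫ ρ1) ≫ s ∧ r ≫ s = ((AlgSp.yon S).map b ≫ ρ2) ≫ s :=
      ⟨(AlgSp.yon S).map b ≫ ρ2, by rw [Category.assoc, Category.assoc]; exact hab.symm, rfl⟩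
    obtain ⟨ρ3, h1, h2⟩ := (h (Over.mk w)).trans r12 r23
    refine ⟨Points.mk (ofHom ρ3), ?_, ?_⟩
    · rw [map_mk_ofHom, map_mk_ofHom, h1, Category.assoc, mk_ofHom_comp]
    · rw [map_mk_ofHom, map_mk_ofHom, h2, Category.assoc, mk_ofHom_comp]

end Groth.Agent.S10121
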