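import Groth.Statements.S10125
import Groth.Agent.Lib.AlgSpAffineMor_helper7
import Groth.Agent.Lib.AlgSpGpdField_helper7
import Groth.Agent.Lib.AlgSpFpqc_helper7
import Mathlib.CategoryTheory.Monoidal.Cartesian.Grp

set_option autoImplicit false
universe u
open CategoryTheory CategoryTheory.Limits AlgebraicGeometry MonoidalCategory MonObj
open AlgSp

namespace Groth.Agent.S10125

open Groth.Agent.Lib.AlgSpAffineMorH7 Groth.Agent.Lib.AlgSpGpdFieldH7
  Groth.Agent.Lib.AlgSpFpqc_helper7 Groth.Agent.Lib.AlgSpLocP4_helper7
  Groth.Agent.Lib.AlgSpPullback_helper7 Groth.Agent.Lib.AlgSpPoints_helper7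

section aux
variable {S : Scheme.{u}}

theorem isUnivOpenMor_of_isIso {X Y : AlgSp.Sp S} (e : X ⟶ Y) [IsIso e] : AlgSp.IsUnivOpenMor e := by
  intro Z Z' hZ g fst snd sq
  haveI : IsIso snd := sq.isIso_snd_of_isIso
  intro O hO
  have : Points.map snd '' O = Points.map (inv snd) ⁻¹' O := by
    ext y
    constructor
    · rintro ⟨x, hx, rfl⟩
      show Points.map (inv snd) (Points.map snd x) ∈ O
      rw [← Points.map_comp, IsIso.hom_inv_id, Points.map_id]
      exact hx
    · intro hy
      refine ⟨Points.map (inv snd) y, hy, ?_⟩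
      rw [← Points.map_comp, IsIso.inv_hom_id, Points.map_id]
  rw [this]
  exact hO.preimage (Points.continuous_map _)

variable {B : AlgSp.Sp S} (G : Over B) [GrpObj G]

lemma mu_eq : (μ[G] : G ⊗ G ⟶ G) =
    CartesianMonoidalCategory.fst G G * CartesianMonoidalCategory.snd G G := by
  rw [Hom.mul_def, CartesianMonoidalCategory.lift_fst_snd, Category.id_comp]

lemma shear_inv :
    CartesianMonoidalCategory.lift μ[G] (CartesianMonoidalCategory.snd G G) ≫
      CartesianMonoidalCategory.lift
        (CartesianMonoidalCategory.fst G G * (CartesianMonoidalCategory.snd G G)⁻¹)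
        (CartesianMonoidalCategory.snd G G) = 𝟙 (G ⊗ G) := by
  apply CartesianMonoidalCategory.hom_ext
  · rw [Category.assoc, CartesianMonoidalCategory.lift_fst, MonObj.comp_mul, GrpObj.comp_inv,
      CartesianMonoidalCategory.lift_fst, CartesianMonoidalCategory.lift_snd, mu_eq,
      mul_inv_cancel_right, Category.id_comp]
  · rw [Category.assoc, CartesianMonoidalCategory.lift_snd, CartesianMonoidalCategory.lift_snd,
      Category.id_comp]

lemma inv_shear :
    CartesianMonoidalCategory.lift
        (CartesianMonoidalCategory.fst G G * (CartesianMonoidalCategory.snd G G)⁻¹)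
        (CartesianMonoidalCategory.snd G G) ≫
      CartesianMonoidalCategory.lift μ[G] (CartesianMonoidalCategory.snd G G) = 𝟙 (G ⊗ G) := by
  apply CartesianMonoidalCategory.hom_ext
  · rw [Category.assoc, CartesianMonoidalCategory.lift_fst, mu_eq, MonObj.comp_mul,
      CartesianMonoidalCategory.lift_fst, CartesianMonoidalCategory.lift_snd,
      inv_mul_cancel_right, Category.id_comp]
  · rw [Category.assoc, CartesianMonoidalCategory.lift_snd, CartesianMonoidalCategory.lift_snd,
      Category.id_comp]

lemma isIso_shear_left :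
    IsIso (CartesianMonoidalCategory.lift μ[G] (CartesianMonoidalCategory.snd G G)).left := by
  haveI : IsIso (CartesianMonoidalCategory.lift μ[G] (CartesianMonoidalCategory.snd G G)) :=
    ⟨_, shear_inv G, inv_shear G⟩
  exact inferInstanceAs (IsIso ((Over.forget B).map
    (CartesianMonoidalCategory.lift μ[G] (CartesianMonoidalCategory.snd G G))))

lemma mu_left_eq : (μ[G]).left =
    (CartesianMonoidalCategory.lift μ[G] (CartesianMonoidalCategory.snd G G)).left ≫
      pullback.fst G.hom G.hom :=
  (congrArg CommaMorphism.left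
    (CartesianMonoidalCategory.lift_fst μ[G] (CartesianMonoidalCategory.snd G G))).symm

end aux

/-- For a group algebraic space `G` over a field `k`, the multiplication `m` of `G`, a morphism `G ×_k G
⟶ G`, is both flat and universally open. (The published situation allows any base scheme `S` with
`k` a field over `S`; this row takes `S = Spec k`.) -/
theorem result (k : Type u) [Field k]
    (G : Over ((AlgSp.yon (Spec (CommRingCat.of k))).obj (Over.mk (𝟙 _)))) [GrpObj G]
    (hG : AlgSp.IsAlgSpace G.left) :
    AlgSp.LocP @Flat (μ[G]).left ∧ AlgSp.IsUnivOpenMor (μ[G]).left := by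
  have hB : IsAlgSpace ((AlgSp.yon (Spec (CommRingCat.of k))).obj (Over.mk (𝟙 _))) :=
    IsAlgSpace.yon_obj _
  have sq := IsPullback.of_hasPullback G.hom G.hom
  have hGG : IsAlgSpace (pullback G.hom G.hom) := isAlgSpace_of_isPullback hB.diag hG hG sq
  have hflat : LocP @Flat G.hom :=
    locP_flat_of_target_iso_field hG (𝟙 (Spec (CommRingCat.of k))) (Iso.refl _) G.hom
  have hopen : IsUnivOpenMor G.hom :=
    isUnivOpenMor_of_target_iso_field hG (𝟙 (Spec (CommRingCat.of k))) (Iso.refl _) G.hom
  have h1 : LocP @Flat (pullback.fst G.hom G.hom) :=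
    locP_baseChange etLocal_flat hG hB hG G.hom G.hom _ _ sq.flip hflat
  have h2 : IsUnivOpenMor (pullback.fst G.hom G.hom) := univSp_of_isPullback IsOpenMor sq.flip hopen
  haveI := isIso_shear_left G
  rw [mu_left_eq]
  refine ⟨?_, ?_⟩
  · exact locP_comp etLocal_flat hGG hGG hG _ _ (locP_flat_of_isIso _) h1
  · exact isUnivOpenMor_comp hGG hG.diag _ _ (isUnivOpenMor_of_isIso _) h2

end Groth.Agent.S10125
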