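import Groth.Statements.S10142
import Groth.Agent.Lib.AlgSpGpdLaws_helper7

set_option autoImplicit false
universe u
open CategoryTheory CategoryTheory.Limits AlgebraicGeometry
open AlgSp AlgSp.GroupoidSp

namespace Groth.Agent.S10142

/-- For a groupoid in algebraic spaces `(U, R, s, t, c, e, i)` over `B`: the square with sides `c : R
×_{s,U,t} R ⟶ R`, `pr_1 : R ×_{s,U,t} R ⟶ R`, `s` and `s` is cartesian, and the morphism `R
×_{t,U,t} R ⟶ R ×_{s,U,t} R`, `(α, β) ↦ (α, i(α) ∘ β)`, is an isomorphism whose composite with `c`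
is the second projection `pr_1 : R ×_{t,U,t} R ⟶ R`. (The published statement also lists the square
formed by `pr_0`, `pr_1`, `s`, `t`, which is cartesian by definition of the fibre product.) -/
theorem result (S : Scheme.{u}) (B : AlgSp.Sp S) (hB : AlgSp.IsAlgSpace B)
    (G : AlgSp.GroupoidSp B) (hU : AlgSp.IsAlgSpace G.U) (hR : AlgSp.IsAlgSpace G.R) :
    IsPullback G.c (pullback.snd G.s G.t) G.s G.s ∧
      ∀ φ : pullback G.t G.t ⟶ pullback G.s G.t,
        φ ≫ pullback.fst G.s G.t = pullback.fst G.t G.t →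
        φ ≫ pullback.snd G.s G.t =
          pullback.lift (pullback.fst G.t G.t ≫ G.i) (pullback.snd G.t G.t)
            ((Category.assoc _ _ _).trans ((congrArg (pullback.fst G.t G.t ≫ ·) G.i_s).trans pullback.condition)) ≫ G.c →
        IsIso φ ∧ φ ≫ G.c = pullback.snd G.t G.t := by
  refine ⟨?_, ?_⟩
  · refine Groth.Agent.Lib.AlgSpPullback_helper7.isPullback_of_forall_yon
      (Groth.Agent.Lib.AlgSpGpdLawsH7.c_s G) (fun T γ β h => ?_)
    have h1 : γ ≫ G.s = (β ≫ G.i) ≫ G.t := by rw [Category.assoc, G.i_t]; exact h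
    have h2 : (pullback.lift γ (β ≫ G.i) h1 ≫ G.c) ≫ G.s = β ≫ G.t := by
      rw [G.comp_s, Category.assoc, G.i_s]
    refine ⟨pullback.lift (pullback.lift γ (β ≫ G.i) h1 ≫ G.c) β h2,
      ⟨Groth.Agent.Lib.AlgSpGpdLawsH7.L3 G γ β h1 h2, pullback.lift_snd _ _ _⟩, fun p' hp' => ?_⟩
    obtain ⟨hp1, hp2⟩ := hp'
    apply pullback.hom_ext
    · rw [pullback.lift_fst]
      have hc : (p' ≫ pullback.fst G.s G.t) ≫ G.s = β ≫ G.t := by
        rw [Category.assoc, pullback.condition, ← Category.assoc, hp2]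
      have e1 : pullback.lift (p' ≫ pullback.fst G.s G.t) β hc ≫ G.c = γ := by
        rw [← hp1, Groth.Agent.Lib.AlgSpGpdLawsH7.eta_c G p']
        exact Groth.Agent.Lib.AlgSpGpdSepH7.lift_c_congr G rfl hp2.symm _ _
      have h3 : (pullback.lift (p' ≫ pullback.fst G.s G.t) β hc ≫ G.c) ≫ G.s =
          (β ≫ G.i) ≫ G.t := by
        rw [e1]; exact h1
      have e2 := Groth.Agent.Lib.AlgSpGpdLawsH7.L4 G (p' ≫ pullback.fst G.s G.t) β hc h3
      exact e2.symm.trans (Groth.Agent.Lib.AlgSpGpdSepH7.lift_c_congr G e1 rfl _ _)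
    · rw [pullback.lift_snd]; exact hp2
  · intro φ hφ1 hφ2
    have hh1 : (pullback.fst G.t G.t ≫ G.i) ≫ G.s = pullback.snd G.t G.t ≫ G.t := by
      rw [Category.assoc, G.i_s, pullback.condition]
    have hh2 : pullback.fst G.t G.t ≫ G.s =
        (pullback.lift (pullback.fst G.t G.t ≫ G.i) (pullback.snd G.t G.t) hh1 ≫ G.c) ≫ G.t := by
      rw [G.comp_t, Category.assoc, G.i_t]
    have hφc : φ ≫ G.c = pullback.snd G.t G.t := by
      rw [Groth.Agent.Lib.AlgSpGpdLawsH7.eta_c G φ]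
      exact (Groth.Agent.Lib.AlgSpGpdSepH7.lift_c_congr G hφ1 hφ2 _ hh2).trans
        (Groth.Agent.Lib.AlgSpGpdLawsH7.L1 G _ _ hh1 hh2)
    have hψ : pullback.fst G.s G.t ≫ G.t = G.c ≫ G.t := (Groth.Agent.Lib.AlgSpGpdLawsH7.c_t G).symm
    obtain ⟨ψ, hψ1, hψ2⟩ : ∃ ψ : pullback G.s G.t ⟶ pullback G.t G.t,
        ψ ≫ pullback.fst G.t G.t = pullback.fst G.s G.t ∧ ψ ≫ pullback.snd G.t G.t = G.c :=
      ⟨pullback.lift (pullback.fst G.s G.t) G.c hψ, pullback.lift_fst _ _ _, pullback.lift_snd _ _ _⟩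
    refine ⟨⟨ψ, ?_, ?_⟩, hφc⟩
    · apply pullback.hom_ext
      · rw [Category.assoc, hψ1, hφ1, Category.id_comp]
      · rw [Category.assoc, hψ2, hφc, Category.id_comp]
    · apply pullback.hom_ext
      · rw [Category.assoc, hφ1, hψ1, Category.id_comp]
      · rw [Category.assoc, hφ2, Category.id_comp, Groth.Agent.Lib.AlgSpGpdSepH7.comp_lift_c G]
        have hh : pullback.fst G.s G.t ≫ G.s = pullback.snd G.s G.t ≫ G.t := pullback.condition
        have hh1' : (pullback.fst G.s G.t ≫ G.i) ≫ G.s =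
            (pullback.lift (pullback.fst G.s G.t) (pullback.snd G.s G.t) hh ≫ G.c) ≫ G.t := by
          rw [G.comp_t, Category.assoc, G.i_s]
        refine (Groth.Agent.Lib.AlgSpGpdSepH7.lift_c_congr G ?_ ?_ _ hh1').trans
          (Groth.Agent.Lib.AlgSpGpdLawsH7.L2 G _ _ hh hh1')
        · rw [← Category.assoc, hψ1]
        · rw [hψ2, Groth.Agent.Lib.AlgSpGpdLawsH7.lift_fst_snd_id, Category.id_comp]

end Groth.Agent.S10142
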