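import Groth.Statements.S10127
import Groth.Agent.S10116
import Groth.Agent.Lib.AlgSpClosedPt2_helper6
import Groth.Agent.Lib.AlgSpQC2_helper7
import Groth.Agent.Lib.EtaleField_helper4

set_option autoImplicit false
universe u
open CategoryTheory CategoryTheory.Limits AlgebraicGeometry MonoidalCategory MonObj
open AlgSp

namespace Groth.Agent.S10127

/-- A group algebraic space over a field `k` which is a decent algebraic space is separated. (The
published situation allows any base scheme `S` with `k` a field over `S`; this row takes `S = Spec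
k`.) -/
theorem result (k : Type u) [Field k]
    (G : Over ((AlgSp.yon (Spec (CommRingCat.of k))).obj (Over.mk (𝟙 _)))) [GrpObj G]
    (hG : AlgSp.IsAlgSpace G.left) (hd : AlgSp.IsDecent G.left) : AlgSp.IsSeparatedSp G.left := by
  open Groth.Agent.Lib.AlgSpClosedPt2_helper6 Groth.Agent.Lib.AlgSpQC2_helper7
    Groth.Agent.Lib.AlgSpBasic_helper7 in
  have hB : AlgSp.IsAlgSpace ((AlgSp.yon (Spec (CommRingCat.of k))).obj (Over.mk (𝟙 _))) :=
    AlgSp.IsAlgSpace.yon_obj _
  haveI hsub : Subsingleton ↥(Spec (CommRingCat.of k)) :=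
    inferInstanceAs (Subsingleton (PrimeSpectrum k))
  obtain ⟨s, hs0⟩ : ∃ s : ↥(Spec (CommRingCat.of k)), s = IsLocalRing.closedPoint k := ⟨_, rfl⟩
  have hs : IsClosed ({s} : Set ↥(Spec (CommRingCat.of k))) := by
    have : ({s} : Set ↥(Spec (CommRingCat.of k))) = Set.univ :=
      Set.eq_univ_of_forall (fun y => Subsingleton.elim _ _)
    rw [this]; exact isClosed_univ
  haveI : IsOpenImmersion ((Spec (CommRingCat.of k)).fromSpecResidueField s) :=
    Groth.Agent.Lib.EtaleFieldH4.isOpenImmersion_fromSpecResidueField k (𝟙 _) s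
  haveI : IsIso ((Spec (CommRingCat.of k)).fromSpecResidueField s) := by
    apply isIso_of_isOpenImmersion_of_opensRange_eq_top
    apply TopologicalSpace.Opens.ext
    rw [Scheme.Hom.coe_opensRange, Scheme.range_fromSpecResidueField]
    exact Set.eq_univ_of_forall (fun y => Subsingleton.elim _ _)
  obtain ⟨φ, hφ⟩ : ∃ φ : (Spec (CommRingCat.of k)).residueField s ⟶ CommRingCat.of k,
      Spec.map φ ≫ (Spec (CommRingCat.of k)).fromSpecResidueField s = 𝟙 _ :=
    ⟨Spec.preimage (inv ((Spec (CommRingCat.of k)).fromSpecResidueField s)), by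
      rw [Spec.map_preimage, IsIso.inv_hom_id]⟩
  obtain ⟨ψ, hψ⟩ : ∃ ψ : CommRingCat.of k ⟶ (Spec (CommRingCat.of k)).residueField s,
      Spec.map ψ = (Spec (CommRingCat.of k)).fromSpecResidueField s :=
    ⟨Spec.preimage _, Spec.map_preimage _⟩
  have hψφ : ψ ≫ φ = 𝟙 _ := by
    apply Spec.map_injective
    rw [Spec.map_comp, hψ, hφ, Spec.map_id]
  have hsurj : Function.Surjective φ.hom := fun x => ⟨ψ.hom x, by
    have := congrArg (fun m => m.hom x) hψφ
    simpa using this⟩
  have hfin : φ.hom.Finite := RingHom.Finite.of_surjective _ hsurj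
  -- the unit section, transported to the form required
  let ε : Over.mk (Spec.map φ ≫ (Spec (CommRingCat.of k)).fromSpecResidueField s) ≅
      Over.mk (𝟙 (Spec (CommRingCat.of k))) :=
    Over.isoMk (Iso.refl _) (by simp [hφ])
  have hcl := (repWith_isFinite_of_finite hG hd s hs k φ hfin
    ((AlgSp.yon _).map ε.hom ≫ (η[G]).left)).2 hsurj
  have hcl' : AlgSp.RepWith @IsClosedImmersion (η[G]).left := by
    have h := MorphismProperty.RespectsIso.precomp
      (AlgSp.RepWith (S := Spec (CommRingCat.of k)) @IsClosedImmersion)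
      ((AlgSp.yon _).map ε.inv) _ hcl
    rwa [← Category.assoc, ← Functor.map_comp, ε.inv_hom_id, (AlgSp.yon _).map_id,
      Category.id_comp] at h
  have hsepmor : AlgSp.IsSeparatedMor G.hom :=
    (Groth.Agent.S10116.result _ _ hB G hG).1.2 hcl'
  -- pass to the terminal sheaf
  change AlgSp.RepWith @IsClosedImmersion (Limits.diag G.left)
  rw [repWith_diag_iff_diagonal_terminal_from]
  have hcomp : terminal.from G.left = G.hom ≫ terminal.from _ := (terminal.comp_from _).symm
  haveI : IsIso (terminal.from ((AlgSp.yon (Spec (CommRingCat.of k))).obj (Over.mk (𝟙 _)))) :=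
    ⟨⟨isTerminalYonId.from _, isTerminalYonId.hom_ext _ _, Subsingleton.elim _ _⟩⟩
  have key : ∀ t : G.left ⟶ ⊤_ (AlgSp.Sp (Spec (CommRingCat.of k))),
      t = G.hom ≫ terminal.from _ → AlgSp.IsSeparatedMor t := by
    rintro t rfl
    exact isSeparatedMor_comp _ _ hsepmor (repWith_of_isIso _ _)
  exact key _ hcomp

end Groth.Agent.S10127
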