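import Groth.Statements.S10128
import Groth.Agent.S10122
import Groth.Agent.Lib.AlgSpSection_helper6
import Groth.Agent.Lib.AlgSpDecent6_helper6
import Groth.Agent.Lib.AlgSpQC2_helper7
import Groth.Agent.Lib.AlgSpProper_helper7
import Groth.Agent.Lib.AlgSpSep_helper7

set_option autoImplicit false
universe u
open CategoryTheory CategoryTheory.Limits AlgebraicGeometry
open AlgSp AlgSp.GroupoidSp

namespace Groth.Agent.S10128

/-- Let `(U, R, s, t, c)` be a groupoid in algebraic spaces over `B` whose object space is `U = Spec k`,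
with `k` a field, and assume `R` is a decent algebraic space. Then `R` is separated over the base
scheme `S`. (The published statement concludes that `R` is separated in the absolute sense; this row
concludes that `R` is separated over `S`, which the absolute notion implies.) -/
theorem result (S : Scheme.{u}) (B : AlgSp.Sp S) (hB : AlgSp.IsAlgSpace B)
    (G : AlgSp.GroupoidSp B) (hR : AlgSp.IsAlgSpace G.R) (k : Type u) [Field k]
    (σ : Spec (CommRingCat.of k) ⟶ S) (eU : G.U ≅ (AlgSp.yon S).obj (Over.mk σ)) (hd : AlgSp.IsDecent G.R) :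
    AlgSp.IsSeparatedSp G.R := by
  open Groth.Agent.Lib.AlgSpSectionH6 Groth.Agent.Lib.AlgSpQC2_helper7
    Groth.Agent.Lib.AlgSpBasic_helper7 Groth.Agent.Lib.AlgSpPullback_helper7
    Groth.Agent.Lib.AlgSpDecent6_helper6 Groth.Agent.Lib.AlgSpProper_helper7
    Groth.Agent.Lib.AlgSpSep_helper7 in
  have hU : IsAlgSpace G.U := (IsAlgSpace.yon_obj _).of_iso eU.symm
  have hUU : IsAlgSpace (pullback G.pU G.pU) :=
    isAlgSpace_of_isPullback hB.diag hU hU (IsPullback.of_hasPullback _ _)
  have hstab : IsAlgSpace G.stabilizer :=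
    isAlgSpace_of_isPullback hUU.diag hR hU (IsPullback.of_hasPullback _ _)
  -- the diagonal of `U` over `B` is representable
  have hdiagrep : Representable G.diag := by
    have h1 : Representable (eU.inv ≫ G.diag) := hUU.representable_from_yon _
    have h2 := MorphismProperty.RespectsIso.precomp (Representable (S := S)) eU.hom _ h1
    rwa [eU.hom_inv_id_assoc] at h2
  have hιrep : Representable G.stabilizerι :=
    MorphismProperty.of_isPullback (P := Representable (S := S))
      (IsPullback.of_hasPullback G.j G.diag).flip hdiagrep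
  have hdstab : IsDecent G.stabilizer := isDecent_of_representable G.stabilizerι hιrep hd
  -- the unit section of the stabilizer
  have hcond : G.e ≫ G.j = 𝟙 G.U ≫ G.diag := by
    apply pullback.hom_ext
    · rw [Category.assoc, G.j_fst, G.e_t, Category.id_comp]
      exact (pullback.lift_fst _ _ _).symm
    · rw [Category.assoc, G.j_snd, G.e_s, Category.id_comp]
      exact (pullback.lift_snd _ _ _).symm
  obtain ⟨eG, heG, heG2⟩ : ∃ eG : G.U ⟶ G.stabilizer, eG ≫ G.stabilizerι = G.e ∧
      eG ≫ G.stabilizerToU = 𝟙 G.U :=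
    ⟨pullback.lift G.e (𝟙 G.U) hcond, pullback.lift_fst _ _ _, pullback.lift_snd _ _ _⟩
  have hsec : (eU.inv ≫ eG) ≫ (G.stabilizerToU ≫ eU.hom) = 𝟙 _ := by
    rw [Category.assoc, ← Category.assoc eG, heG2, Category.id_comp, eU.inv_hom_id]
  have hcl : RepWith @IsClosedImmersion (eU.inv ≫ eG) :=
    repWith_isClosedImmersion_of_section hstab hdstab k σ (eU.inv ≫ eG)
      (G.stabilizerToU ≫ eU.hom) hsec
  have hclG : RepWith @IsClosedImmersion eG := by
    have h2 := MorphismProperty.RespectsIso.precomp (RepWith (S := S) @IsClosedImmersion)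
      eU.hom _ hcl
    rwa [eU.hom_inv_id_assoc] at h2
  have hsepj : IsSeparatedMor G.j :=
    ((Groth.Agent.S10122.result S B hB G hU hR eG heG).1.2).2 hclG
  -- `U` is separated over the terminal sheaf
  have hUsep : IsSeparatedMor (terminal.from G.U) := by
    have h0 : IsSeparatedMor (terminal.from ((yon S).obj (Over.mk σ))) := by
      change RepWith @IsClosedImmersion (pullback.diagonal (terminal.from _))
      rw [← repWith_diag_iff_diagonal_terminal_from, repWith_diag_yon_iff]
      change IsClosedImmersion (pullback.diagonal σ)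
      infer_instance
    have key : ∀ t : G.U ⟶ ⊤_ (Sp S), t = eU.hom ≫ terminal.from _ → IsSeparatedMor t := by
      rintro t rfl
      exact isSeparatedMor_comp _ _ (isSeparatedMor_of_mono _) h0
    exact key _ (Subsingleton.elim _ _)
  -- the fibre product `U ×_B U` maps by a monomorphism to `U × U`
  have hsnd : IsSeparatedMor (pullback.snd (terminal.from G.U) (terminal.from G.U)) :=
    isSeparatedMor_of_isPullback (IsPullback.of_hasPullback _ _) hUsep
  obtain ⟨m, hm1, hm2⟩ : ∃ m : pullback G.pU G.pU ⟶ pullback (terminal.from G.U) (terminal.from G.U),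
      m ≫ pullback.fst _ _ = pullback.fst _ _ ∧ m ≫ pullback.snd _ _ = pullback.snd _ _ :=
    ⟨pullback.lift (pullback.fst _ _) (pullback.snd _ _) (Subsingleton.elim _ _),
      pullback.lift_fst _ _ _, pullback.lift_snd _ _ _⟩
  haveI : Mono m := ⟨fun a b h => by
    apply pullback.hom_ext
    · rw [← hm1, ← Category.assoc, h, Category.assoc]
    · rw [← hm2, ← Category.assoc, h, Category.assoc]⟩
  change AlgSp.RepWith @IsClosedImmersion (Limits.diag G.R)
  rw [repWith_diag_iff_diagonal_terminal_from]
  have key : ∀ t : G.R ⟶ ⊤_ (Sp S),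
      t = G.j ≫ m ≫ pullback.snd (terminal.from G.U) (terminal.from G.U) ≫ terminal.from G.U →
        IsSeparatedMor t := by
    rintro t rfl
    exact isSeparatedMor_comp _ _ hsepj (isSeparatedMor_comp _ _ (isSeparatedMor_of_mono m)
      (isSeparatedMor_comp _ _ hsnd hUsep))
  exact key _ (Subsingleton.elim _ _)

end Groth.Agent.S10128
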