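import Groth.Statements.S10130
import Groth.Agent.Lib.AlgSpGpdLaws_helper7
import Groth.Agent.Lib.AlgSpOpen_helper7

set_option autoImplicit false
universe u
open CategoryTheory CategoryTheory.Limits AlgebraicGeometry
open AlgSp AlgSp.GroupoidSp

namespace Groth.Agent.S10130

/-- Let `(U, R, s, t, c)` be a groupoid in algebraic spaces over `B` with `s, t` open. For every open
subspace `W ⊂ U`, the open subspace `s(t⁻¹(W))` of `U` is `R`-invariant. -/
theorem result (S : Scheme.{u}) (B : AlgSp.Sp S) (hB : AlgSp.IsAlgSpace B)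
    (G : AlgSp.GroupoidSp B) (hU : AlgSp.IsAlgSpace G.U) (hR : AlgSp.IsAlgSpace G.R)
    (hs : AlgSp.IsOpenMor G.s) (ht : AlgSp.IsOpenMor G.t)
    (W W' : AlgSp.Sp S) (w : W ⟶ G.U) (w' : W' ⟶ G.U)
    (hw : AlgSp.RepWith @IsOpenImmersion w) (hw' : AlgSp.RepWith @IsOpenImmersion w')
    (himg : Set.range (AlgSp.Points.map w') =
      AlgSp.Points.map G.s '' (AlgSp.Points.map G.t ⁻¹' Set.range (AlgSp.Points.map w))) :
    G.IsInvariant w' := by
  have key : ∀ ρ : AlgSp.Points G.R,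
      AlgSp.Points.map G.t ρ ∈ Set.range (AlgSp.Points.map w') ↔
        AlgSp.Points.map G.s ρ ∈ Set.range (AlgSp.Points.map w') := by
    intro ρ
    rw [himg]
    have sq := IsPullback.of_hasPullback G.s G.t
    have hcs := Groth.Agent.Lib.AlgSpGpdLawsH7.c_s G
    have hct := Groth.Agent.Lib.AlgSpGpdLawsH7.c_t G
    constructor
    · rintro ⟨ρ₁, hρ₁, h1⟩
      obtain ⟨z, hz1, hz2⟩ :=
        Groth.Agent.Lib.AlgSpPoints_helper7.exists_of_isPullback sq ρ₁ ρ h1
      refine ⟨AlgSp.Points.map G.c z, ?_, ?_⟩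
      · show AlgSp.Points.map G.t (AlgSp.Points.map G.c z) ∈ Set.range (AlgSp.Points.map w)
        rw [← AlgSp.Points.map_comp, hct, AlgSp.Points.map_comp, hz1]
        exact hρ₁
      · rw [← AlgSp.Points.map_comp, hcs, AlgSp.Points.map_comp, hz2]
    · rintro ⟨ρ₁, hρ₁, h1⟩
      have h2 : AlgSp.Points.map G.s ρ₁ = AlgSp.Points.map G.t (AlgSp.Points.map G.i ρ) := by
        rw [h1, ← AlgSp.Points.map_comp, G.i_t]
      obtain ⟨z, hz1, hz2⟩ :=
        Groth.Agent.Lib.AlgSpPoints_helper7.exists_of_isPullback sq ρ₁ (AlgSp.Points.map G.i ρ) h2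
      refine ⟨AlgSp.Points.map G.c z, ?_, ?_⟩
      · show AlgSp.Points.map G.t (AlgSp.Points.map G.c z) ∈ Set.range (AlgSp.Points.map w)
        rw [← AlgSp.Points.map_comp, hct, AlgSp.Points.map_comp, hz1]
        exact hρ₁
      · rw [← AlgSp.Points.map_comp, hcs, AlgSp.Points.map_comp, hz2, ← AlgSp.Points.map_comp,
          G.i_s]
  intro T r
  rw [Groth.Agent.Lib.AlgSpOpen_helper7.factors_iff_of_openImmersion w' hw' (r ≫ G.t),
    Groth.Agent.Lib.AlgSpOpen_helper7.factors_iff_of_openImmersion w' hw' (r ≫ G.s)]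
  constructor
  · rintro h _ ⟨y, rfl⟩
    rw [AlgSp.Points.map_comp]
    refine (key _).1 ?_
    rw [← AlgSp.Points.map_comp]
    exact h ⟨y, rfl⟩
  · rintro h _ ⟨y, rfl⟩
    rw [AlgSp.Points.map_comp]
    refine (key _).2 ?_
    rw [← AlgSp.Points.map_comp]
    exact h ⟨y, rfl⟩

end Groth.Agent.S10130
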