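import Groth.Statements.S10131
import Groth.Agent.S10130
import Groth.Agent.Lib.AlgSpOpenSub_helper7
import Groth.Agent.Lib.AlgSpQC2_helper7

set_option autoImplicit false
universe u
open CategoryTheory CategoryTheory.Limits AlgebraicGeometry
open AlgSp AlgSp.GroupoidSp

namespace Groth.Agent.S10131

/-- Let `(U, R, s, t, c)` be a groupoid in algebraic spaces over `B` with `s, t` open and quasi-compact.
Then `U` has an open covering by `R`-invariant quasi-compact open subspaces. -/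
theorem result (S : Scheme.{u}) (B : AlgSp.Sp S) (hB : AlgSp.IsAlgSpace B)
    (G : AlgSp.GroupoidSp B) (hU : AlgSp.IsAlgSpace G.U) (hR : AlgSp.IsAlgSpace G.R)
    (hs : AlgSp.IsOpenMor G.s ∧ AlgSp.IsQuasiCompactMor G.s) (ht : AlgSp.IsOpenMor G.t ∧ AlgSp.IsQuasiCompactMor G.t)
    (x : AlgSp.Points G.U) :
    ∃ (W : AlgSp.Sp S) (w : W ⟶ G.U), AlgSp.RepWith @IsOpenImmersion w ∧ G.IsInvariant w ∧
      AlgSp.IsQuasiCompactSp W ∧ x ∈ Set.range (AlgSp.Points.map w) := by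
  obtain ⟨A, p, hpe, hps⟩ := hU.atlas
  obtain ⟨u, rfl⟩ : ∃ u : ↥A.left, AlgSp.Points.ofPt p u = x :=
    Groth.Agent.Lib.AlgSpPoints_helper7.ofPt_surjective p hps x
  obtain ⟨_, ⟨O, hOaff, rfl⟩, huO, -⟩ :=
    A.left.isBasis_affineOpens.exists_subset_of_mem_open (Set.mem_univ u) isOpen_univ
  have hOaff' : IsAffineOpen O := hOaff
  obtain ⟨W₀, hW₀⟩ : ∃ W₀ : Set (AlgSp.Points G.U), W₀ = AlgSp.Points.ofPt p '' (O : Set A.left) :=
    ⟨_, rfl⟩
  have hW₀o : IsOpen W₀ := by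
    rw [hW₀]
    exact Groth.Agent.Lib.AlgSpPoints_helper7.isOpenMap_ofPt_of_etale p hpe _ O.2
  have hW₀c : IsCompact W₀ := by
    rw [hW₀]
    exact hOaff'.isCompact.image (AlgSp.Points.continuous_ofPt p)
  obtain ⟨K, hK⟩ : ∃ K : Set (AlgSp.Points G.U),
      K = AlgSp.Points.map G.s '' (AlgSp.Points.map G.t ⁻¹' W₀) := ⟨_, rfl⟩
  have hKo : IsOpen K := by
    rw [hK]
    exact hs.1 _ (hW₀o.preimage (AlgSp.Points.continuous_map G.t))
  have hKc : IsCompact K := by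
    rw [hK]
    exact (Groth.Agent.Lib.AlgSpQC2_helper7.isCompact_preimage_of_isQuasiCompactMor hU G.t ht.2
      W₀ hW₀o hW₀c).image (AlgSp.Points.continuous_map G.s)
  have hxK : AlgSp.Points.ofPt p u ∈ K := by
    rw [hK]
    refine ⟨AlgSp.Points.map G.e (AlgSp.Points.ofPt p u), ?_, ?_⟩
    · show AlgSp.Points.map G.t (AlgSp.Points.map G.e (AlgSp.Points.ofPt p u)) ∈ W₀
      rw [← AlgSp.Points.map_comp, G.e_t, AlgSp.Points.map_id, hW₀]
      exact ⟨u, huO, rfl⟩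
    · rw [← AlgSp.Points.map_comp, G.e_s, AlgSp.Points.map_id]
  obtain ⟨X₀, j₀, hj₀, hr₀⟩ :=
    Groth.Agent.Lib.AlgSpOpenSub_helper7.exists_openSubspace ⟨G.U, hU⟩ W₀ hW₀o
  obtain ⟨X', j, hj, hr⟩ :=
    Groth.Agent.Lib.AlgSpOpenSub_helper7.exists_openSubspace ⟨G.U, hU⟩ K hKo
  refine ⟨X'.obj, j.hom, hj, ?_, ?_, ?_⟩
  · exact Groth.Agent.S10130.result S B hB G hU hR hs.1 ht.1 X₀.obj X'.obj j₀.hom j.hom hj₀ hj
      (by rw [hr, hr₀, hK])
  · obtain ⟨V, r, hre, hV, h1, h2⟩ :=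
      Groth.Agent.Lib.AlgSpQC2_helper7.exists_compact_chart_in_open hU K K hKc hKo le_rfl
    obtain ⟨a', ha', hae', has'⟩ :=
      Groth.Agent.Lib.AlgSpOpenSub_helper7.exists_factor_chart r hre j.hom hj
        (by rw [hr]; exact h2)
    exact ⟨V, a', hae', has' (by rw [hr]; exact h1), hV⟩
  · rw [hr]
    exact hxK

end Groth.Agent.S10131
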