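import Groth.Statements.S10132
import Groth.Agent.Lib.AlgSpAffineMor_helper7
import Groth.Agent.Lib.AlgSpGpdField_helper7
import Groth.Agent.Lib.AlgSpGpdRestrict_helper7
import Groth.Agent.Lib.AlgSpFpqc_helper7

set_option autoImplicit false
universe u
open CategoryTheory CategoryTheory.Limits AlgebraicGeometry
open AlgSp AlgSp.GroupoidSp

namespace Groth.Agent.S10132

open Groth.Agent.Lib.AlgSpAffineMorH7 Groth.Agent.Lib.AlgSpGpdFieldH7
  Groth.Agent.Lib.AlgSpGpdRestrictH7 Groth.Agent.Lib.AlgSpFpqc_helper7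
  Groth.Agent.Lib.AlgSpLocP4_helper7 Groth.Agent.Lib.AlgSpPullback_helper7
  Groth.Agent.Lib.AlgSpQC2_helper7

section aux
variable {S : Scheme.{u}} {B : AlgSp.Sp S}

theorem st_props (G : AlgSp.GroupoidSp B) (hR : AlgSp.IsAlgSpace G.R) {k : Type u} [Field k]
    (σ : Spec (CommRingCat.of k) ⟶ S) (eU : G.U ≅ ((AlgSp.yon S).obj (Over.mk σ))) :
    ∀ f ∈ [G.s, G.t], AlgSp.IsSurjectiveMor f ∧ AlgSp.LocP @Flat f ∧ AlgSp.IsUnivOpenMor f := by
  intro f hf
  simp only [List.mem_cons, List.not_mem_nil, or_false] at hf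
  rcases hf with rfl | rfl
  · exact ⟨isSurjectiveMor_of_section _ G.e G.e_s, locP_flat_of_target_iso_field hR σ eU _,
      isUnivOpenMor_of_target_iso_field hR σ eU _⟩
  · exact ⟨isSurjectiveMor_of_section _ G.e G.e_t, locP_flat_of_target_iso_field hR σ eU _,
      isUnivOpenMor_of_target_iso_field hR σ eU _⟩

end aux

/-- Let `(U, R, s, t, c)` be a groupoid in algebraic spaces over `B` whose object space is `U = Spec k`,
let `k ⊂ k'` be a field extension and `(U', R', s', t', c')` the restriction along `Spec k' ⟶ Spec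
k`. Then `s, t, s', t'`, `Spec k' ⟶ Spec k` and `R' ⟶ R` are surjective, flat and universally open,
and `R' ⟶ R` is moreover affine. (The published statement lists every arrow of the restriction
diagram; this row omits the six arrows through `R ×_{s,U} U'` and `U' ×_{U,t} R`, each a base change
of `s`, `t` or `Spec k' ⟶ Spec k`.) -/
theorem result (S : Scheme.{u}) (B : AlgSp.Sp S) (hB : AlgSp.IsAlgSpace B)
    (G G' : AlgSp.GroupoidSp B) (hR : AlgSp.IsAlgSpace G.R) (hR' : AlgSp.IsAlgSpace G'.R)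
    (k k' : Type u) [Field k] [Field k'] [Algebra k k'] (σ : Spec (CommRingCat.of k) ⟶ S)
    (eU : G.U ≅ ((AlgSp.yon S).obj (Over.mk σ)))
    (eU' : G'.U ≅ ((AlgSp.yon S).obj (Over.mk (Spec.map (CommRingCat.ofHom (algebraMap k k')) ≫ σ))))
    (φ : AlgSp.GroupoidSp.Hom G' G) (hφ : φ.IsRestriction)
    (hfU : φ.fU = eU'.hom ≫ (AlgSp.yon S).map (Over.homMk (Spec.map (CommRingCat.ofHom (algebraMap k k'))) rfl :
      Over.mk (Spec.map (CommRingCat.ofHom (algebraMap k k')) ≫ σ) ⟶ Over.mk σ) ≫ eU.inv) :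
    (∀ f ∈ [G.s, G.t], AlgSp.IsSurjectiveMor f ∧ AlgSp.LocP @Flat f ∧ AlgSp.IsUnivOpenMor f) ∧
      (∀ f ∈ [G'.s, G'.t], AlgSp.IsSurjectiveMor f ∧ AlgSp.LocP @Flat f ∧ AlgSp.IsUnivOpenMor f) ∧
      (AlgSp.IsSurjectiveMor φ.fU ∧ AlgSp.LocP @Flat φ.fU ∧ AlgSp.IsUnivOpenMor φ.fU) ∧
      (AlgSp.IsSurjectiveMor φ.fR ∧ AlgSp.LocP @Flat φ.fR ∧ AlgSp.IsUnivOpenMor φ.fR ∧ AlgSp.IsAffineMor φ.fR) := by
  have hU : IsAlgSpace G.U := (IsAlgSpace.yon_obj (Over.mk σ)).of_iso eU.symm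
  have hU' : IsAlgSpace G'.U := (IsAlgSpace.yon_obj _).of_iso eU'.symm
  have hfUs : IsSurjectiveMor φ.fU := by
    obtain ⟨x⟩ := nonempty_points_of_iso_field _ eU'
    exact isSurjectiveMor_of_target_iso_field σ eU φ.fU x
  have hfUf : LocP @Flat φ.fU := locP_flat_of_target_iso_field hU' σ eU φ.fU
  have hfUo : IsUnivOpenMor φ.fU := isUnivOpenMor_of_target_iso_field hU' σ eU φ.fU
  have hfUa : IsAffineMor φ.fU := by
    rw [hfU]
    refine isAffineMor_comp _ _ (isAffineMor_of_isIso _)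
      (isAffineMor_comp _ _ ?_ (isAffineMor_of_isIso _))
    haveI : IsAffineHom (Over.homMk (Spec.map (CommRingCat.ofHom (algebraMap k k'))) rfl :
        Over.mk (Spec.map (CommRingCat.ofHom (algebraMap k k')) ≫ σ) ⟶ Over.mk σ).left := by
      show IsAffineHom (Spec.map (CommRingCat.ofHom (algebraMap k k')))
      infer_instance
    exact isAffineMor_yon_map _
  have sq₁ : IsPullback (pullback.snd G.s φ.fU) (pullback.fst G.s φ.fU) φ.fU G.s :=
    (IsPullback.of_hasPullback G.s φ.fU).flip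
  have sq₂ : IsPullback G'.t (κs φ) φ.fU (pullback.fst G.s φ.fU ≫ G.t) :=
    (isPullback_restrict_s φ hφ).flip
  have hY : IsAlgSpace (pullback G.s φ.fU) :=
    isAlgSpace_of_isPullback hU.diag hR hU' (IsPullback.of_hasPullback _ _)
  have hfR : φ.fR = κs φ ≫ pullback.fst G.s φ.fU := (κs_fst φ).symm
  refine ⟨st_props G hR σ eU, st_props G' hR' _ eU', ⟨hfUs, hfUf, hfUo⟩, ?_, ?_, ?_, ?_⟩
  · rw [hfR]
    exact isSurjectiveMor_comp _ _ (isSurjectiveMor_of_isPullback sq₂ hfUs)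
      (isSurjectiveMor_of_isPullback sq₁ hfUs)
  · rw [hfR]
    exact locP_comp etLocal_flat hR' hY hR _ _
      (locP_baseChange etLocal_flat hU' hU hY φ.fU _ _ _ sq₂ hfUf)
      (locP_baseChange etLocal_flat hU' hU hR φ.fU _ _ _ sq₁ hfUf)
  · rw [hfR]
    exact isUnivOpenMor_comp hY hR.diag _ _ (univSp_of_isPullback IsOpenMor sq₂ hfUo)
      (univSp_of_isPullback IsOpenMor sq₁ hfUo)
  · rw [hfR]
    exact isAffineMor_comp _ _ (isAffineMor_of_isPullback sq₂ hfUa)
      (isAffineMor_of_isPullback sq₁ hfUa)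

end Groth.Agent.S10132
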