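import Groth.Statements.S10141
import Groth.Agent.Lib.AlgSpQuotOpen2_helper7

set_option autoImplicit false
universe u
open CategoryTheory CategoryTheory.Limits AlgebraicGeometry
open AlgSp

namespace Groth.Agent.S10141

/-- The relation on `T`-points of `U` defined by a groupoid scheme is an equivalence relation. -/
theorem hE_aux {S : Scheme.{u}} (G : Grpd.GroupoidScheme S) (T : Over S) :
    Equivalence (fun a b : T ⟶ Over.mk G.pU => ∃ r : T ⟶ Over.mk G.pR,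
      r ≫ (Over.homMk G.t G.t_over : Over.mk G.pR ⟶ Over.mk G.pU) = a ∧
      r ≫ (Over.homMk G.s G.s_over : Over.mk G.pR ⟶ Over.mk G.pU) = b) := by
  have k1 : ∀ a₀ : T.left ⟶ G.U, (a₀ ≫ G.e) ≫ G.t = a₀ := fun a₀ => by
    rw [Category.assoc, G.e_t, Category.comp_id]
  have k2 : ∀ a₀ : T.left ⟶ G.U, (a₀ ≫ G.e) ≫ G.s = a₀ := fun a₀ => by
    rw [Category.assoc, G.e_s, Category.comp_id]
  have k3 : ∀ a₀ : T.left ⟶ G.U, (a₀ ≫ G.e) ≫ G.pR = a₀ ≫ G.pU := fun a₀ => by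
    rw [← G.s_over, ← Category.assoc, k2]
  have k4 : ∀ r₀ : T.left ⟶ G.R, (r₀ ≫ G.i) ≫ G.t = r₀ ≫ G.s := fun r₀ => by
    rw [Category.assoc, G.i_t]
  have k5 : ∀ r₀ : T.left ⟶ G.R, (r₀ ≫ G.i) ≫ G.s = r₀ ≫ G.t := fun r₀ => by
    rw [Category.assoc, G.i_s]
  have k6 : ∀ r₀ : T.left ⟶ G.R, (r₀ ≫ G.i) ≫ G.pR = r₀ ≫ G.pR := fun r₀ => by
    rw [← G.s_over, ← Category.assoc, k5, Category.assoc, G.t_over, G.s_over]
  have k7 : ∀ (r₁ r₂ : T.left ⟶ G.R) (h : r₁ ≫ G.s = r₂ ≫ G.t),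
      (pullback.lift r₁ r₂ h ≫ G.c) ≫ G.pR = r₁ ≫ G.pR := fun r₁ r₂ h => by
    rw [← G.t_over, ← Category.assoc, G.comp_t, Category.assoc]
  refine ⟨fun a => ?_, fun {a b} => ?_, fun {a b c} => ?_⟩
  · refine ⟨Over.homMk (a.left ≫ G.e) ((k3 a.left).trans (Over.w a)), ?_, ?_⟩
    · ext
      exact k1 a.left
    · ext
      exact k2 a.left
  · rintro ⟨r, hr1, hr2⟩
    have hr1' : r.left ≫ G.t = a.left := congrArg (fun k => k.left) hr1
    have hr2' : r.left ≫ G.s = b.left := congrArg (fun k => k.left) hr2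
    refine ⟨Over.homMk (r.left ≫ G.i) ((k6 r.left).trans (Over.w r)), ?_, ?_⟩
    · ext
      exact (k4 r.left).trans hr2'
    · ext
      exact (k5 r.left).trans hr1'
  · rintro ⟨r₁, hr1, hr2⟩ ⟨r₂, hr3, hr4⟩
    have hr1' : r₁.left ≫ G.t = a.left := congrArg (fun k => k.left) hr1
    have hr2' : r₁.left ≫ G.s = b.left := congrArg (fun k => k.left) hr2
    have hr3' : r₂.left ≫ G.t = b.left := congrArg (fun k => k.left) hr3
    have hr4' : r₂.left ≫ G.s = c.left := congrArg (fun k => k.left) hr4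
    have h : r₁.left ≫ G.s = r₂.left ≫ G.t := hr2'.trans hr3'.symm
    refine ⟨Over.homMk (pullback.lift r₁.left r₂.left h ≫ G.c)
      ((k7 r₁.left r₂.left h).trans (Over.w r₁)), ?_, ?_⟩
    · ext
      exact (G.comp_t r₁.left r₂.left h).trans hr1'
    · ext
      exact (G.comp_s r₁.left r₂.left h).trans hr4'

/-- Let `(U, R, s, t, c)` be a groupoid scheme over `S` and `g : U' ⟶ U` a morphism such that the
composite `h : U' ×_{g, U, t} R ⟶ R ⟶ U` of the projection with `s` has open image `W ⊂ U` and `h :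
U' ×_{g, U, t} R ⟶ W` is a surjection of fppf sheaves. Then for the restriction `R' = R|_{U'}` the
map of fppf quotient sheaves `U'/R' ⟶ U/R` is representable and an open immersion. -/
theorem result (S : Scheme.{u}) (G : Grpd.GroupoidScheme S)
    (U' : Scheme.{u}) (g : U' ⟶ G.U) (W : G.U.Opens)
    (hW : (W : Set ↥G.U) = Set.range ⇑(pullback.snd g G.t ≫ G.s))
    (hlift : pullback g G.t ⟶ ↑W) (hh : hlift ≫ W.ι = pullback.snd g G.t ≫ G.s)
    (hsurj : Sheaf.IsLocallySurjective ((AlgSp.yon S).map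
      (Over.homMk hlift ((Category.assoc _ _ _).symm.trans (congrArg (· ≫ G.pU) hh)) :
        Over.mk ((pullback.snd g G.t ≫ G.s) ≫ G.pU) ⟶ Over.mk (W.ι ≫ G.pU))))
    (R' : Over S) (s' t' : R' ⟶ Over.mk (g ≫ G.pU)) (r : R' ⟶ Over.mk G.pR)
    (hsq : IsPullback (prod.lift t' s') r
      (prod.map (Over.homMk g rfl : Over.mk (g ≫ G.pU) ⟶ Over.mk G.pU) (Over.homMk g rfl : Over.mk (g ≫ G.pU) ⟶ Over.mk G.pU))
      (prod.lift (Over.homMk G.t G.t_over : Over.mk G.pR ⟶ Over.mk G.pU) (Over.homMk G.s G.s_over : Over.mk G.pR ⟶ Over.mk G.pU)))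
    (ψ : QuotSh.quot Scheme.fppfPrecoverage s' t' ⟶
      QuotSh.quot Scheme.fppfPrecoverage (Over.homMk G.s G.s_over : Over.mk G.pR ⟶ Over.mk G.pU) (Over.homMk G.t G.t_over : Over.mk G.pR ⟶ Over.mk G.pU))
    (hψ : QuotSh.quotπ Scheme.fppfPrecoverage s' t' ≫ ψ =
      QuotSh.repMap Scheme.fppfPrecoverage (Over.homMk g rfl : Over.mk (g ≫ G.pU) ⟶ Over.mk G.pU) ≫ QuotSh.quotπ Scheme.fppfPrecoverage _ _) :
    AlgSp.RepWith @IsOpenImmersion ψ := by
  open Groth.Agent.Lib.AlgSpQuotEffH7 Groth.Agent.Lib.AlgSpQuotOpenH7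
    Groth.Agent.Lib.AlgSpQuotOpen2H7 Groth.Agent.Lib.AlgSpOpenSub_helper7
    Groth.Agent.Lib.AlgSpGlueH7 Groth.Agent.Lib.AlgSpGlue2H7 AlgSp in
  let UO : Over S := Over.mk G.pU
  let RO : Over S := Over.mk G.pR
  let U'O : Over S := Over.mk (g ≫ G.pU)
  let sO : RO ⟶ UO := Over.homMk G.s G.s_over
  let tO : RO ⟶ UO := Over.homMk G.t G.t_over
  let gO : U'O ⟶ UO := Over.homMk g rfl
  let PO : Over S := Over.mk ((pullback.snd g G.t ≫ G.s) ≫ G.pU)
  let WO : Over S := Over.mk (W.ι ≫ G.pU)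
  let hO : PO ⟶ WO :=
    Over.homMk hlift ((Category.assoc _ _ _).symm.trans (congrArg (· ≫ G.pU) hh))
  have hE : ∀ T : Over S,
      Equivalence (fun a b : T ⟶ UO => ∃ r : T ⟶ RO, r ≫ tO = a ∧ r ≫ sO = b) :=
    fun T => hE_aux G T
  have hψ' : quotP s' t' ≫ ψ = (yon S).map gO ≫ quotP sO tO := by
    have h0 : quotP s' t' ≫ ψ = (QuotSh.repIsoUliftYoneda Scheme.fppfPrecoverage U'O).inv ≫
        QuotSh.repMap Scheme.fppfPrecoverage gO ≫
          QuotSh.quotπ Scheme.fppfPrecoverage sO tO := by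
      unfold quotP
      rw [Category.assoc]
      exact congrArg (fun k => (QuotSh.repIsoUliftYoneda Scheme.fppfPrecoverage U'O).inv ≫ k) hψ
    rw [h0, ← Category.assoc, ← yon_map_comp_repIso_inv, Category.assoc]
    rfl
  have hrel : ∀ {T : Over S} (a b : T ⟶ UO),
      (yon S).map a ≫ quotP sO tO = (yon S).map b ≫ quotP sO tO →
      ∃ Sv ∈ J S T, ∀ ⦃T' : Over S⦄ (m : T' ⟶ T), Sv m →
        ∃ r : T' ⟶ RO, r ≫ tO = m ≫ a ∧ r ≫ sO = m ≫ b :=
    fun a b h => exists_rel_of_quotP_eq sO tO hE a b h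
  haveI : Mono ψ := by
    refine mono_of_local' ψ (quotP s' t') (isLocallySurjective_quotP s' t') ?_
    intro Y u₁ u₂ h12
    rw [hψ', ← Functor.map_comp_assoc, ← Functor.map_comp_assoc] at h12
    obtain ⟨Sv, hSv, hr⟩ := hrel _ _ h12
    refine ⟨Sv, hSv, fun Y' m hm => ?_⟩
    obtain ⟨ρ, hρ1, hρ2⟩ := hr m hm
    have hw : prod.lift (m ≫ u₁) (m ≫ u₂) ≫ prod.map gO gO = ρ ≫ prod.lift tO sO := by
      rw [prod.lift_map, prod.comp_lift, hρ1, hρ2, Category.assoc, Category.assoc]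
    obtain ⟨r', h1⟩ : ∃ r' : Y' ⟶ R', r' ≫ prod.lift t' s' = prod.lift (m ≫ u₁) (m ≫ u₂) :=
      ⟨hsq.lift _ _ hw, hsq.lift_fst _ _ _⟩
    have h1a : r' ≫ t' = m ≫ u₁ := by
      have h2 : (r' ≫ prod.lift t' s') ≫ prod.fst = prod.lift (m ≫ u₁) (m ≫ u₂) ≫ prod.fst := by
        rw [h1]
      rw [Category.assoc, prod.lift_fst, prod.lift_fst] at h2
      exact h2
    have h1b : r' ≫ s' = m ≫ u₂ := by
      have h2 : (r' ≫ prod.lift t' s') ≫ prod.snd = prod.lift (m ≫ u₁) (m ≫ u₂) ≫ prod.snd := by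
        rw [h1]
      rw [Category.assoc, prod.lift_snd, prod.lift_snd] at h2
      exact h2
    rw [← h1a, ← h1b, Functor.map_comp, Functor.map_comp, Category.assoc, Category.assoc,
      quotP_condition]
  let fstO : PO ⟶ U'O := Over.homMk (pullback.fst g G.t) (by
    show pullback.fst g G.t ≫ g ≫ G.pU = (pullback.snd g G.t ≫ G.s) ≫ G.pU
    rw [← Category.assoc, pullback.condition, Category.assoc, Category.assoc, G.t_over,
      G.s_over])
  let sndO : PO ⟶ RO := Over.homMk (pullback.snd g G.t) (by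
    show pullback.snd g G.t ≫ G.pR = (pullback.snd g G.t ≫ G.s) ≫ G.pU
    rw [Category.assoc, G.s_over])
  refine repWith_isOpenImmersion_of_open (U' := U'O) (U := UO) ψ (quotP s' t')
    (isLocallySurjective_quotP s' t')
    (quotP sO tO) (isLocallySurjective_quotP sO tO) W ?_ ?_
  · haveI : Presheaf.IsLocallySurjective (J S) ((yon S).map hO).hom := hsurj
    have hmem := Presheaf.imageSieve_mem (J S) ((yon S).map hO).hom (U := Opposite.op WO)
      (yE (𝟙 ((yon S).obj WO)))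
    refine exists_lift_of_mono_sieve ψ _ _ hmem (fun T' m hm => ?_)
    obtain ⟨t, ht⟩ := hm
    obtain ⟨l₀, hl₀⟩ : ∃ l₀ : T' ⟶ PO, l₀ ≫ hO = m := by
      refine ⟨(yon S).preimage (yE.symm t), ?_⟩
      apply (yon S).map_injective
      rw [Functor.map_comp, Functor.map_preimage]
      apply yE.injective
      rw [yE_comp, Equiv.apply_symm_apply, ht, yE_map, Category.comp_id]
    refine ⟨(yon S).map (l₀ ≫ fstO) ≫ quotP s' t', ?_⟩
    rw [Category.assoc, hψ', ← Functor.map_comp_assoc, ← Functor.map_comp_assoc]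
    have e1 : (l₀ ≫ fstO) ≫ gO = (l₀ ≫ sndO) ≫ tO := by
      ext
      show (l₀.left ≫ pullback.fst g G.t) ≫ g = (l₀.left ≫ pullback.snd g G.t) ≫ G.t
      rw [Category.assoc, Category.assoc, pullback.condition]
    have e2 : m ≫ (Over.homMk W.ι rfl : Over.mk (W.ι ≫ UO.hom) ⟶ UO) = (l₀ ≫ sndO) ≫ sO := by
      rw [← hl₀]
      ext
      show (l₀.left ≫ hlift) ≫ W.ι = (l₀.left ≫ pullback.snd g G.t) ≫ G.s
      rw [Category.assoc, Category.assoc, hh]
    rw [e1, e2]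
    simp only [Functor.map_comp, Category.assoc]
    rw [quotP_condition]
  · intro T b d hbd
    rw [hψ', ← Functor.map_comp_assoc] at hbd
    obtain ⟨Sv, hSv, hr⟩ := hrel _ _ hbd.symm
    rintro _ ⟨x, rfl⟩
    obtain ⟨T', m, hm, ⟨x', hx'⟩⟩ := exists_mem_range_of_mem_J hSv x
    have hx'' : m.left x' = x := hx'
    obtain ⟨ρ, hρ1, hρ2⟩ := hr m hm
    have h1 : (m.left ≫ d.left) ≫ g = ρ.left ≫ G.t := by
      rw [Category.assoc]
      exact (congrArg (fun k => k.left) hρ1).symm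
    have h2 : pullback.lift (m.left ≫ d.left) ρ.left h1 ≫ pullback.snd g G.t ≫ G.s =
        m.left ≫ b.left := by
      rw [← Category.assoc, pullback.lift_snd]
      exact congrArg (fun k => k.left) hρ2
    show b.left x ∈ (W : Set ↥G.U)
    rw [hW]
    refine ⟨pullback.lift (m.left ≫ d.left) ρ.left h1 x', ?_⟩
    rw [← Scheme.Hom.comp_apply, h2, Scheme.Hom.comp_apply, hx'']

end Groth.Agent.S10141
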