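import Groth.Statements.S10145
import Groth.Agent.Lib.AlgSpGpdLaws_helper7

set_option autoImplicit false
universe u
open CategoryTheory CategoryTheory.Limits AlgebraicGeometry
open AlgSp AlgSp.GroupoidSp

namespace Groth.Agent.S10145

/-- Let `(U, R, s, t, c)` be a groupoid in algebraic spaces over `B` whose object space is `U = Spec k`,
and let `r : Spec k ⟶ R` be such that `s ∘ r` and `t ∘ r` are automorphisms of `Spec k`; write `a =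
r ∘ (s ∘ r)⁻¹`, so that `s ∘ a = id` and `t ∘ a` is an automorphism. Then `R ⟶ R`, `f ↦ c(a ∘ t ∘ f,
f)`, is an automorphism of `R` mapping `e` to `a` (the point `r`). -/
theorem result (S : Scheme.{u}) (B : AlgSp.Sp S) (hB : AlgSp.IsAlgSpace B)
    (G : AlgSp.GroupoidSp B) (hR : AlgSp.IsAlgSpace G.R) (k : Type u) [Field k]
    (σ : Spec (CommRingCat.of k) ⟶ S) (eU : G.U ≅ (AlgSp.yon S).obj (Over.mk σ))
    (a : G.U ⟶ G.R) (ha : a ≫ G.s = 𝟙 G.U) [IsIso (a ≫ G.t)] :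
    IsIso (pullback.lift (G.t ≫ a) (𝟙 G.R) (((Category.assoc _ _ _).trans (congrArg (G.t ≫ ·) ha)).trans ((Category.comp_id _).trans (Category.id_comp _).symm)) ≫ G.c) ∧
      G.e ≫ (pullback.lift (G.t ≫ a) (𝟙 G.R) (((Category.assoc _ _ _).trans (congrArg (G.t ≫ ·) ha)).trans ((Category.comp_id _).trans (Category.id_comp _).symm)) ≫ G.c) = a := by
  have hL : (G.t ≫ a) ≫ G.s = 𝟙 G.R ≫ G.t := by
    rw [Category.assoc, ha, Category.comp_id, Category.id_comp]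
  show IsIso (pullback.lift (G.t ≫ a) (𝟙 G.R) hL ≫ G.c) ∧
    G.e ≫ (pullback.lift (G.t ≫ a) (𝟙 G.R) hL ≫ G.c) = a
  have hτ1 : inv (a ≫ G.t) ≫ a ≫ G.t = 𝟙 _ := IsIso.inv_hom_id _
  have hτ2 : (a ≫ G.t) ≫ inv (a ≫ G.t) = 𝟙 _ := IsIso.hom_inv_id _
  obtain ⟨x, hx⟩ : ∃ x : G.R ⟶ G.U, x = G.t ≫ inv (a ≫ G.t) := ⟨_, rfl⟩
  have hxτ : x ≫ a ≫ G.t = G.t := by rw [hx, Category.assoc, hτ1, Category.comp_id]
  have hM : ((x ≫ a) ≫ G.i) ≫ G.s = 𝟙 G.R ≫ G.t := by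
    rw [Category.assoc, G.i_s, Category.assoc, hxτ, Category.id_comp]
  have hLt : (pullback.lift (G.t ≫ a) (𝟙 G.R) hL ≫ G.c) ≫ G.t = G.t ≫ a ≫ G.t := by
    rw [G.comp_t, Category.assoc]
  have hLx : (pullback.lift (G.t ≫ a) (𝟙 G.R) hL ≫ G.c) ≫ x = G.t := by
    rw [hx, ← Category.assoc, hLt]
    have : (G.t ≫ a ≫ G.t) ≫ inv (a ≫ G.t) = G.t ≫ (a ≫ G.t) ≫ inv (a ≫ G.t) := by
      simp only [Category.assoc]
    rw [this, hτ2, Category.comp_id]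
  have hMt : (pullback.lift ((x ≫ a) ≫ G.i) (𝟙 G.R) hM ≫ G.c) ≫ G.t = x := by
    rw [G.comp_t, Category.assoc, G.i_t, Category.assoc, ha, Category.comp_id]
  refine ⟨⟨pullback.lift ((x ≫ a) ≫ G.i) (𝟙 G.R) hM ≫ G.c, ?_, ?_⟩, ?_⟩
  · rw [Groth.Agent.Lib.AlgSpGpdSepH7.comp_lift_c G]
    have h1 : ((G.t ≫ a) ≫ G.i) ≫ G.s =
        (pullback.lift (G.t ≫ a) (𝟙 G.R) hL ≫ G.c) ≫ G.t := by
      rw [hLt, Category.assoc, G.i_s, Category.assoc]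
    refine (Groth.Agent.Lib.AlgSpGpdSepH7.lift_c_congr G ?_ (Category.comp_id _) _ h1).trans
      (Groth.Agent.Lib.AlgSpGpdLawsH7.L2 G (G.t ≫ a) (𝟙 G.R) hL h1)
    have : (pullback.lift (G.t ≫ a) (𝟙 G.R) hL ≫ G.c) ≫ (x ≫ a) ≫ G.i =
        (((pullback.lift (G.t ≫ a) (𝟙 G.R) hL ≫ G.c) ≫ x) ≫ a) ≫ G.i := by
      simp only [Category.assoc]
    rw [this, hLx]
  · rw [Groth.Agent.Lib.AlgSpGpdSepH7.comp_lift_c G]
    have h2 : (x ≫ a) ≫ G.s = (pullback.lift ((x ≫ a) ≫ G.i) (𝟙 G.R) hM ≫ G.c) ≫ G.t := by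
      rw [hMt, Category.assoc, ha, Category.comp_id]
    refine (Groth.Agent.Lib.AlgSpGpdSepH7.lift_c_congr G ?_ (Category.comp_id _) _ h2).trans
      (Groth.Agent.Lib.AlgSpGpdLawsH7.L1 G (x ≫ a) (𝟙 G.R) hM h2)
    rw [← Category.assoc, hMt]
  · rw [Groth.Agent.Lib.AlgSpGpdSepH7.comp_lift_c G]
    refine (Groth.Agent.Lib.AlgSpGpdSepH7.lift_c_congr G ?_ ?_ _ ?_).trans (G.comp_e a)
    · rw [← Category.assoc, G.e_t, Category.id_comp]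
    · rw [Category.comp_id, ← Category.assoc, ha, Category.id_comp]
    · rw [Category.assoc, Category.assoc, G.e_t, Category.comp_id]

end Groth.Agent.S10145
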