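import Groth.Statements.S10146
import Groth.Agent.Lib.Steinitz_helper6
import Groth.Agent.Lib.AlgSpFieldFlat_helper7
import Groth.Agent.Lib.AlgSpPoints_helper7

set_option autoImplicit false
universe u
open CategoryTheory CategoryTheory.Limits AlgebraicGeometry
open AlgSp AlgSp.GroupoidSp

namespace Groth.Agent.S10146

open Groth.Agent.Lib.SteinitzH6 Groth.Agent.Lib.AlgSpPoints_helper7 Cardinal in
/-- Let `(U, R, s, t, c)` be a groupoid in algebraic spaces over `B` whose object space is `U = Spec k`.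
For every point `r` of `R` there are an algebraically closed field extension `k'` of `k` and, on the
restriction `(U', R', s', t', c')` along `Spec k' ⟶ Spec k`, a morphism `r' : Spec k' ⟶ R'` mapping
to `r` in `R` such that `s' ∘ r'` and `t' ∘ r'` are automorphisms of `Spec k'`. -/
theorem result (S : Scheme.{u}) (B : AlgSp.Sp S) (hB : AlgSp.IsAlgSpace B)
    (G : AlgSp.GroupoidSp B) (hR : AlgSp.IsAlgSpace G.R) (k : Type u) [Field k]
    (σ : Spec (CommRingCat.of k) ⟶ S) (eU : G.U ≅ (AlgSp.yon S).obj (Over.mk σ)) (r : AlgSp.Points G.R) :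
    ∃ (k' : Type u) (_ : Field k') (_ : Algebra k k'), IsAlgClosed k' ∧
      ∀ (G' : AlgSp.GroupoidSp B) (φ : AlgSp.GroupoidSp.Hom G' G), φ.IsRestriction → AlgSp.IsAlgSpace G'.R →
        ∀ (eU' : G'.U ≅ (AlgSp.yon S).obj (Over.mk (Spec.map (CommRingCat.ofHom (algebraMap k k')) ≫ σ))),
          φ.fU = eU'.hom ≫ (AlgSp.yon S).map (Over.homMk (Spec.map (CommRingCat.ofHom (algebraMap k k'))) rfl :
            Over.mk (Spec.map (CommRingCat.ofHom (algebraMap k k')) ≫ σ) ⟶ Over.mk σ) ≫ eU.inv →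
          ∃ r' : G'.U ⟶ G'.R, (∀ x : AlgSp.Points G'.U, AlgSp.Points.map (r' ≫ φ.fR) x = r) ∧
            IsIso (r' ≫ G'.s) ∧ IsIso (r' ≫ G'.t) := by
  obtain ⟨K, _, w, ρ, hρ⟩ := mk_surjective' r
  obtain ⟨a_s, has⟩ := (AlgSp.yon S).map_surjective (ρ ≫ G.s ≫ eU.hom)
  obtain ⟨a_t, hat⟩ := (AlgSp.yon S).map_surjective (ρ ≫ G.t ≫ eU.hom)
  have hs' : ρ ≫ G.s = (AlgSp.yon S).map a_s ≫ eU.inv := by
    rw [has]; simp only [Category.assoc, Iso.hom_inv_id, Category.comp_id]
  have ht' : ρ ≫ G.t = (AlgSp.yon S).map a_t ≫ eU.inv := by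
    rw [hat]; simp only [Category.assoc, Iso.hom_inv_id, Category.comp_id]
  obtain ⟨φs, hφs⟩ : ∃ φs : k →+* K, Spec.map (CommRingCat.ofHom φs) = a_s.left :=
    ⟨(Spec.preimage (a_s.left : Spec (CommRingCat.of K) ⟶ Spec (CommRingCat.of k))).hom,
      Spec.map_preimage _⟩
  obtain ⟨φt, hφt⟩ : ∃ φt : k →+* K, Spec.map (CommRingCat.ofHom φt) = a_t.left :=
    ⟨(Spec.preimage (a_t.left : Spec (CommRingCat.of K) ⟶ Spec (CommRingCat.of k))).hom,
      Spec.map_preimage _⟩
  obtain ⟨Ω, _, θ, hΩac, hΩcard⟩ := exists_big_algClosed K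
  have hcard : max #k ℵ₀ < #Ω :=
    (max_le_max (Cardinal.mk_le_of_injective φs.injective) le_rfl).trans_lt hΩcard
  obtain ⟨A, hA⟩ := exists_ringEquiv_extending (θ.comp φs) (θ.comp φt) hcard rfl
  letI algΩ : Algebra k Ω := (θ.comp φs).toAlgebra
  refine ⟨Ω, inferInstance, algΩ, hΩac, ?_⟩
  intro G' φ hres hR' eU' hfU
  have hwS : a_s.left ≫ σ = w := Over.w a_s
  have hwT : a_t.left ≫ σ = w := Over.w a_t
  have hι : Spec.map (CommRingCat.ofHom (algebraMap k Ω)) =
      Spec.map (CommRingCat.ofHom θ) ≫ a_s.left := by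
    rw [← hφs, ← Spec.map_comp]; rfl
  have hι' : Spec.map (CommRingCat.ofHom A.toRingHom) ≫ Spec.map (CommRingCat.ofHom (algebraMap k Ω)) =
      Spec.map (CommRingCat.ofHom θ) ≫ a_t.left := by
    rw [← hφt, ← Spec.map_comp, ← Spec.map_comp]
    congr 1
    ext a
    exact hA a
  let cΩk : Over.mk (Spec.map (CommRingCat.ofHom (algebraMap k Ω)) ≫ σ) ⟶ Over.mk σ :=
    Over.homMk (Spec.map (CommRingCat.ofHom (algebraMap k Ω))) rfl
  have hθS : Spec.map (CommRingCat.ofHom θ) ≫ (Over.mk w).hom =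
      (Over.mk (Spec.map (CommRingCat.ofHom (algebraMap k Ω)) ≫ σ)).hom := by
    change Spec.map (CommRingCat.ofHom θ) ≫ w = Spec.map (CommRingCat.ofHom (algebraMap k Ω)) ≫ σ
    rw [hι, Category.assoc, hwS]
  let θO : Over.mk (Spec.map (CommRingCat.ofHom (algebraMap k Ω)) ≫ σ) ⟶ Over.mk w :=
    Over.homMk (Spec.map (CommRingCat.ofHom θ)) hθS
  have hAS : Spec.map (CommRingCat.ofHom A.toRingHom) ≫
      (Over.mk (Spec.map (CommRingCat.ofHom (algebraMap k Ω)) ≫ σ)).hom =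
      (Over.mk (Spec.map (CommRingCat.ofHom (algebraMap k Ω)) ≫ σ)).hom := by
    change Spec.map (CommRingCat.ofHom A.toRingHom) ≫
      Spec.map (CommRingCat.ofHom (algebraMap k Ω)) ≫ σ =
      Spec.map (CommRingCat.ofHom (algebraMap k Ω)) ≫ σ
    rw [← Category.assoc, hι', Category.assoc, hwT, hι, Category.assoc, hwS]
  let AO : Over.mk (Spec.map (CommRingCat.ofHom (algebraMap k Ω)) ≫ σ) ⟶
      Over.mk (Spec.map (CommRingCat.ofHom (algebraMap k Ω)) ≫ σ) :=
    Over.homMk (Spec.map (CommRingCat.ofHom A.toRingHom)) hAS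
  haveI hAOiso : IsIso AO := by
    haveI : IsIso (CommRingCat.ofHom A.toRingHom) :=
      ⟨⟨CommRingCat.ofHom A.symm.toRingHom, by ext a; simp, by ext a; simp⟩⟩
    haveI : IsIso ((Over.forget S).map AO) := by
      change IsIso (Spec.map (CommRingCat.ofHom A.toRingHom))
      infer_instance
    exact isIso_of_reflects_iso _ (Over.forget S)
  have I1 : θO ≫ a_s = cΩk := Over.OverMorphism.ext hι.symm
  have I2 : θO ≫ a_t = AO ≫ cΩk := Over.OverMorphism.ext hι'.symm
  -- the morphisms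
  obtain ⟨α, hα⟩ : ∃ α : G'.U ⟶ G.R, α = eU'.hom ≫ (AlgSp.yon S).map θO ≫ ρ := ⟨_, rfl⟩
  obtain ⟨tt, htt⟩ : ∃ tt : G'.U ⟶ G'.U, tt = eU'.hom ≫ (AlgSp.yon S).map AO ≫ eU'.inv :=
    ⟨_, rfl⟩
  have hαs : α ≫ G.s = φ.fU := by
    rw [hα, Category.assoc, Category.assoc, hs', ← Category.assoc ((AlgSp.yon S).map θO),
      ← Functor.map_comp, I1, hfU]
  have hαt : α ≫ G.t = tt ≫ φ.fU := by
    rw [hα, htt, Category.assoc, Category.assoc, ht', ← Category.assoc ((AlgSp.yon S).map θO),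
      ← Functor.map_comp, I2, hfU]
    simp only [Category.assoc, Iso.inv_hom_id_assoc, Functor.map_comp]
    rfl
  have httB : tt ≫ G'.pU = 𝟙 _ ≫ G'.pU := by
    rw [Category.id_comp, ← φ.fU_over, ← Category.assoc, ← hαt, Category.assoc, G.t_over,
      ← G.s_over, ← Category.assoc, hαs]
  have hcond : α ≫ G.j = pullback.lift tt (𝟙 _) httB ≫ φ.prodMap := by
    apply pullback.hom_ext
    · rw [Category.assoc, G.j_fst, Category.assoc]
      have h1 : φ.prodMap ≫ pullback.fst G.pU G.pU = pullback.fst G'.pU G'.pU ≫ φ.fU := by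
        unfold AlgSp.GroupoidSp.Hom.prodMap
        exact pullback.lift_fst _ _ _
      rw [h1, pullback.lift_fst_assoc, hαt]
    · rw [Category.assoc, G.j_snd, Category.assoc]
      have h1 : φ.prodMap ≫ pullback.snd G.pU G.pU = pullback.snd G'.pU G'.pU ≫ φ.fU := by
        unfold AlgSp.GroupoidSp.Hom.prodMap
        exact pullback.lift_snd _ _ _
      rw [h1, pullback.lift_snd_assoc, hαs, Category.id_comp]
  refine ⟨hres.lift α (pullback.lift tt (𝟙 _) httB) hcond, ?_, ?_, ?_⟩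
  · intro x
    rw [hres.lift_fst, hα, ← Category.assoc, AlgSp.Points.map_comp]
    haveI := Groth.Agent.Lib.AlgSpFieldFlat_helper7.subsingleton_points_field (S := S) w
    have hy : AlgSp.Points.map (eU'.hom ≫ (AlgSp.yon S).map θO) x =
        AlgSp.Points.mk (ofHom (𝟙 ((AlgSp.yon S).obj (Over.mk w)))) :=
      Subsingleton.elim _ _
    rw [hy, map_mk_ofHom, Category.id_comp, hρ]
  · have : hres.lift α (pullback.lift tt (𝟙 _) httB) hcond ≫ G'.s = 𝟙 _ := by
      rw [← G'.j_snd, ← Category.assoc, hres.lift_snd, pullback.lift_snd]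
    rw [this]; infer_instance
  · have : hres.lift α (pullback.lift tt (𝟙 _) httB) hcond ≫ G'.t = tt := by
      rw [← G'.j_fst, ← Category.assoc, hres.lift_snd, pullback.lift_fst]
    rw [this, htt]; infer_instance

end Groth.Agent.S10146
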