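import Groth.Statements.S10148
import Groth.Agent.Lib.LinTop_lead
import Mathlib.RingTheory.Henselian

set_option autoImplicit false
universe u
open LinTop

namespace Groth.Agent.S10148

/-- Let A be a weakly admissible topological ring (linearly topologized, Hausdorff and complete, having
a weak ideal of definition) and let I be a weak ideal of definition of A, that is, an open ideal
consisting of topologically nilpotent elements. Then (A, I) is a henselian pair. -/
theorem result
    (A : Type u) [CommRing A] [UniformSpace A] [IsUniformAddGroup A] [IsTopologicalRing A]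
    (hA : LinTop.IsWeaklyAdmissible A) (I : Ideal A) (hI : LinTop.IsWeakIdealOfDefinition A I) :
    HenselianRing A I := by
  obtain ⟨⟨hlin, -⟩, hT2, hC⟩ := hA
  have hunit : ∀ x ∈ I, IsUnit (1 + x) := fun x hx =>
    Groth.Agent.Lib.LinTop_lead.isUnit_one_add_of_isTopologicallyNilpotent (hI.2 x hx)
  have hjac : I ≤ Ideal.jacobson ⊥ := by
    intro x hx
    rw [Ideal.mem_jacobson_bot]
    intro y
    rw [add_comm]
    exact hunit _ (I.mul_mem_right y hx)
  refine { jac := hjac, is_henselian := ?_ }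
  intro f hf a₀ h₁ h₂
  have hc0 : ∀ U ∈ nhds (0 : A), ∃ k : ℕ,
      (((Ideal.span {f.eval a₀}) ^ k : Ideal A) : Set A) ⊆ U := by
    intro U hU
    obtain ⟨K, hK, hKU⟩ := (IsLinearTopology.hasBasis_open_ideal (R := A)).mem_iff.1 hU
    obtain ⟨k, hk⟩ := (hI.2 _ h₁).exists_pow_mem_of_mem_nhds (hK.mem_nhds K.zero_mem)
    refine ⟨k, subset_trans ?_ hKU⟩
    rw [Ideal.span_singleton_pow]
    intro x hx
    obtain ⟨y, rfl⟩ := Ideal.mem_span_singleton'.1 hx
    exact K.mul_mem_left _ hk
  have hcomp : IsAdicComplete (Ideal.span {f.eval a₀}) A :=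
    Groth.Agent.Lib.LinTop_lead.isAdicComplete_of_fg_of_tendsto _ ⟨{f.eval a₀}, by simp⟩ hc0
  have hH : HenselianRing A (Ideal.span {f.eval a₀}) := inferInstance
  have hu : IsUnit (f.derivative.eval a₀) := by
    obtain ⟨g', hg'⟩ := h₂.exists_right_inv
    obtain ⟨g, rfl⟩ := Ideal.Quotient.mk_surjective g'
    have h1 : f.derivative.eval a₀ * g - 1 ∈ I := by
      rw [← Ideal.Quotient.eq_zero_iff_mem, map_sub, map_mul, hg', map_one, sub_self]
    exact isUnit_of_mul_isUnit_left (Ideal.isUnit_of_sub_one_mem_jacobson_bot _ (hjac h1))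
  obtain ⟨a, ha, haa⟩ := hH.is_henselian f hf a₀ (Ideal.subset_span rfl) (hu.map _)
  exact ⟨a, ha, ((Ideal.span_singleton_le_iff_mem I).2 h₁ : Ideal.span {f.eval a₀} ≤ I) haa⟩

end Groth.Agent.S10148
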