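import Groth.Statements.S10150
import Groth.Agent.Lib.LinTop_lead

set_option autoImplicit false
universe u v
open LinTop

namespace Groth.Agent.S10150

/-- Let φ : A → B be a continuous ring homomorphism between weakly pre-admissible linearly topologized
rings. Then φ is taut if and only if, for each weak ideal of definition I of A, the closure of the
ideal generated by φ(I) is again a weak ideal of definition, now of B, and every neighbourhood of 0
in B contains one of these closures. (The published statement takes A and B weakly admissible, that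
is, moreover Hausdorff and complete; completeness plays no role and this row omits it.) -/
theorem result
    (A : Type u) [CommRing A] [TopologicalSpace A] [IsTopologicalRing A] [IsLinearTopology A A]
    (B : Type v) [CommRing B] [TopologicalSpace B] [IsTopologicalRing B] [IsLinearTopology B B]
    (hA : LinTop.IsWeaklyPreadmissible A) (hB : LinTop.IsWeaklyPreadmissible B)
    (φ : A →+* B) (hφ : Continuous φ) :
    LinTop.IsTaut φ ↔
      ((∀ I : Ideal A, LinTop.IsWeakIdealOfDefinition A I →
          LinTop.IsWeakIdealOfDefinition B (I.map φ).closure) ∧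
        ∀ U ∈ nhds (0 : B), ∃ I : Ideal A, LinTop.IsWeakIdealOfDefinition A I ∧
          ((I.map φ).closure : Set B) ⊆ U) := by
  obtain ⟨-, I0, hI0o, hI0n⟩ := hA
  have hinf : ∀ I : Ideal A, IsOpen (I : Set A) → IsWeakIdealOfDefinition A (I ⊓ I0) :=
    fun I hI => ⟨by rw [Submodule.coe_inf]; exact hI.inter hI0o, fun f hf => hI0n f hf.2⟩
  constructor
  · intro h
    refine ⟨fun I hI => ⟨?_, ?_⟩, ?_⟩
    · rw [Ideal.coe_closure]; exact h.2.1 I hI.1
    · intro g hg
      exact Groth.Agent.Lib.LinTop_lead.isTopologicallyNilpotent_of_mem_closure_map hφ hI.2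
        (by rwa [← Ideal.coe_closure])
    · intro U hU
      obtain ⟨I, hI, hIU⟩ := h.2.2 U hU
      refine ⟨I ⊓ I0, hinf I hI, subset_trans ?_ hIU⟩
      rw [Ideal.coe_closure]
      exact closure_mono (fun x hx => Ideal.map_mono inf_le_left hx)
  · rintro ⟨h1, -⟩
    rw [Groth.Agent.Lib.LinTop_lead.isTaut_iff]
    refine ⟨hφ, fun I hI => ?_⟩
    have := (h1 _ (hinf I hI)).1
    rw [Ideal.coe_closure] at this
    exact Groth.Agent.Lib.LinTop_lead.isOpen_closure_mono (Ideal.map_mono inf_le_left) this

end Groth.Agent.S10150
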