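import Groth.Statements.S10154
import Groth.Agent.Lib.LinTop_lead

set_option autoImplicit false
universe u v
open LinTop

namespace Groth.Agent.S10154

/-- Let φ : A → B be a taut homomorphism of linearly topologized rings. If A is pre-admissible, then B
is pre-admissible. -/
theorem result
    (A : Type u) [CommRing A] [TopologicalSpace A] [IsTopologicalRing A] [IsLinearTopology A A]
    (B : Type v) [CommRing B] [TopologicalSpace B] [IsTopologicalRing B] [IsLinearTopology B B]
    (φ : A →+* B) (hφ : LinTop.IsTaut φ) (hA : LinTop.IsPreadmissible A) :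
    LinTop.IsPreadmissible B := by
  obtain ⟨-, I, ⟨hIo, hIn⟩⟩ := hA
  refine ⟨inferInstance, (I.map φ).closure, ?_, ?_⟩
  · rw [Ideal.coe_closure]; exact hφ.2.1 I hIo
  · intro U hU
    obtain ⟨J, hJ, hJU⟩ := (IsLinearTopology.hasBasis_open_ideal (R := B)).mem_iff.1 hU
    obtain ⟨n, hn, hnI⟩ := hIn ((J.comap φ : Ideal A) : Set A)
      ((Groth.Agent.Lib.LinTop_lead.isOpen_comap hφ.1 J hJ).mem_nhds (Ideal.zero_mem _))
    refine ⟨n, hn, subset_trans ?_ hJU⟩
    have h1 : (I.map φ) ^ n ≤ J := by
      rw [← Ideal.map_pow, Ideal.map_le_iff_le_comap]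
      exact fun x hx => hnI hx
    have h2 := Groth.Agent.Lib.LinTop_lead.closure_ideal_le_of_isClosed
      (Groth.Agent.Lib.LinTop_lead.ideal_isClosed_of_isOpen J hJ) h1
    exact fun x hx => h2 (Groth.Agent.Lib.LinTop_lead.closure_pow_le _ n hx)

end Groth.Agent.S10154
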