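import Groth.Statements.S10156
import Groth.Agent.Lib.LinTop_lead

set_option autoImplicit false
universe u v w
open LinTop

namespace Groth.Agent.S10156

/-- Given pre-adic rings A, B, C and continuous ring maps ψ : B → C and φ : A → B, adicness of the
composite A → C implies that ψ is adic. -/
theorem result
    (A : Type u) [CommRing A] [TopologicalSpace A] [IsTopologicalRing A] (hA : LinTop.IsPreadic A)
    (B : Type v) [CommRing B] [TopologicalSpace B] [IsTopologicalRing B] (hB : LinTop.IsPreadic B)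
    (C : Type w) [CommRing C] [TopologicalSpace C] [IsTopologicalRing C] (hC : LinTop.IsPreadic C)
    (φ : A →+* B) (ψ : B →+* C) (hφ : Continuous φ) (hψ : Continuous ψ)
    (h : LinTop.IsAdicHom (ψ.comp φ)) : LinTop.IsAdicHom ψ := by
  obtain ⟨I, hI, had⟩ := h
  obtain ⟨J0, hJ0⟩ := hB
  have hICopen : IsOpen ((I.map (ψ.comp φ) : Ideal C) : Set C) :=
    Groth.Agent.Lib.LinTop_lead.isOpen_of_isAdic had
  have hJmap : (I.map φ ⊔ (J0 ⊓ (I.map (ψ.comp φ)).comap ψ)).map ψ = I.map (ψ.comp φ) := by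
    apply le_antisymm
    · rw [Ideal.map_sup, Ideal.map_map]
      exact sup_le le_rfl ((Ideal.map_mono inf_le_right).trans Ideal.map_comap_le)
    · rw [Ideal.map_sup, Ideal.map_map]; exact le_sup_left
  refine ⟨I.map φ ⊔ (J0 ⊓ (I.map (ψ.comp φ)).comap ψ), ⟨?_, ?_⟩, by rw [hJmap]; exact had⟩
  · have h1 : IsOpen ((J0 ⊓ (I.map (ψ.comp φ)).comap ψ : Ideal B) : Set B) := by
      rw [Submodule.coe_inf]
      exact (Groth.Agent.Lib.LinTop_lead.isOpen_of_isAdic hJ0).inter (hICopen.preimage hψ)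
    exact Ideal.isOpen_of_isOpen_subideal le_sup_right h1
  · intro U hU
    obtain ⟨k, hk⟩ := (isAdic_iff.1 hJ0).2 U hU
    have hopen : IsOpen ((J0 ^ k : Ideal B) : Set B) := (isAdic_iff.1 hJ0).1 k
    obtain ⟨n, hn, hnI⟩ := hI.2 (φ ⁻¹' ((J0 ^ k : Ideal B) : Set B))
      ((hopen.preimage hφ).mem_nhds (by simp))
    have h2 : (I.map φ) ^ n ≤ J0 ^ k := by
      rw [← Ideal.map_pow, Ideal.map_le_iff_le_comap]; exact fun x hx => hnI hx
    refine ⟨n + k, by omega, subset_trans ?_ hk⟩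
    have h3 : (I.map φ ⊔ (J0 ⊓ (I.map (ψ.comp φ)).comap ψ)) ^ (n + k) ≤ J0 ^ k :=
      calc (I.map φ ⊔ (J0 ⊓ (I.map (ψ.comp φ)).comap ψ)) ^ (n + k)
          ≤ (I.map φ ⊔ J0) ^ (n + k) := Ideal.pow_right_mono (sup_le_sup_left inf_le_left _) _
        _ ≤ (I.map φ) ^ n ⊔ J0 ^ k := Ideal.sup_pow_add_le_pow_sup_pow
        _ ≤ J0 ^ k := sup_le h2 le_rfl
    exact fun x hx => h3 hx

end Groth.Agent.S10156
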