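import Groth.Statements.S10157
import Groth.Agent.Lib.LinTop_lead

set_option autoImplicit false
universe u v
open LinTop

namespace Groth.Agent.S10157

/-- A continuous adic homomorphism φ : A → B between pre-adic topological rings is taut. -/
theorem result
    (A : Type u) [CommRing A] [TopologicalSpace A] [IsTopologicalRing A] (hA : LinTop.IsPreadic A)
    (B : Type v) [CommRing B] [TopologicalSpace B] [IsTopologicalRing B] (hB : LinTop.IsPreadic B)
    (φ : A →+* B) (hφ : Continuous φ) (h : LinTop.IsAdicHom φ) : LinTop.IsTaut φ := by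
  obtain ⟨I, hI, had⟩ := h
  have : IsLinearTopology B B := Groth.Agent.Lib.LinTop_lead.isLinearTopology_of_isAdic had
  rw [Groth.Agent.Lib.LinTop_lead.isTaut_iff]
  refine ⟨hφ, fun K hK => ?_⟩
  obtain ⟨n, hn, hnK⟩ := hI.2 K (hK.mem_nhds K.zero_mem)
  have h1 : (I.map φ) ^ n ≤ K.map φ := by
    rw [← Ideal.map_pow]; exact Ideal.map_mono (fun x hx => hnK hx)
  have h2 : IsOpen (((I.map φ) ^ n : Ideal B) : Set B) := (isAdic_iff.1 had).1 n
  exact Groth.Agent.Lib.LinTop_lead.isOpen_closure_of_isOpen _
    (Ideal.isOpen_of_isOpen_subideal h1 h2)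

end Groth.Agent.S10157
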