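import Groth.Statements.S10165
import Groth.Agent.Lib.LinTop_lead

set_option autoImplicit false
universe u v
open LinTop

namespace Groth.Agent.S10165

/-- Let φ : A → B be a taut homomorphism of linearly topologized rings. If A is weakly pre-adic, then B
is weakly pre-adic. -/
theorem result
    (A : Type u) [CommRing A] [TopologicalSpace A] [IsTopologicalRing A] [IsLinearTopology A A]
    (B : Type v) [CommRing B] [TopologicalSpace B] [IsTopologicalRing B] [IsLinearTopology B B]
    (φ : A →+* B) (hφ : LinTop.IsTaut φ) (hA : LinTop.IsWeaklyPreadic A) :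
    LinTop.IsWeaklyPreadic B := by
  obtain ⟨-, I, hIo, hIU⟩ := hA
  have key : ∀ n : ℕ, ((I ^ n).closure.map φ).closure = ((I.map φ) ^ n).closure := by
    intro n
    rw [Groth.Agent.Lib.LinTop_lead.closure_map_closure_eq hφ.1, Ideal.map_pow]
  refine ⟨inferInstance, I.map φ, ?_, ?_⟩
  · intro n
    have h1 := hφ.2.1 (I ^ n).closure (by rw [Ideal.coe_closure]; exact hIo n)
    rw [← Ideal.coe_closure, key n, Ideal.coe_closure] at h1
    exact h1
  · intro U hU
    obtain ⟨K, hK, hKU⟩ := hφ.2.2 U hU
    obtain ⟨n, hn⟩ := hIU K (hK.mem_nhds K.zero_mem)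
    refine ⟨n, subset_trans ?_ hKU⟩
    rw [← Ideal.coe_closure, ← key n, Ideal.coe_closure]
    refine closure_mono (fun x hx => Ideal.map_mono ?_ hx)
    intro y hy
    apply hn
    rwa [← Ideal.coe_closure]

end Groth.Agent.S10165
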