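import Groth.Statements.S10159
import Groth.Agent.Lib.LinTop_lead
import Groth.Agent.S10165
import Mathlib.Tactic.TFAE

set_option autoImplicit false
universe u
open LinTop

namespace Groth.Agent.S10159

/-- For a ring A carrying a linear topology, the following four conditions are equivalent: (1) A is
weakly pre-adic; (2) there exist a pre-adic topological ring A' and a taut continuous ring
homomorphism A' → A (A' is taken in the universe of A, which suffices since A with an adic topology
serves); (3) A has an ideal of definition, and for at least one ideal of definition I every closure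
cl(I^n) with n ≥ 1 is open; (4) A has an ideal of definition, and for each of its ideals of
definition I every closure cl(I^n) with n ≥ 1 is open. -/
theorem result
    (A : Type u) [CommRing A] [TopologicalSpace A] [IsTopologicalRing A] [IsLinearTopology A A] :
    List.TFAE [LinTop.IsWeaklyPreadic A,
      ∃ (A' : Type u) (_ : CommRing A') (_ : TopologicalSpace A') (_ : IsTopologicalRing A')
        (φ : A' →+* A), LinTop.IsPreadic A' ∧ LinTop.IsTaut φ,
      LinTop.IsPreadmissible A ∧ ∃ I : Ideal A, LinTop.IsIdealOfDefinition A I ∧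
        ∀ n : ℕ, 0 < n → IsOpen (closure ((I ^ n : Ideal A) : Set A)),
      LinTop.IsPreadmissible A ∧ ∀ I : Ideal A, LinTop.IsIdealOfDefinition A I →
        ∀ n : ℕ, 0 < n → IsOpen (closure ((I ^ n : Ideal A) : Set A))] := by
  have h12 : LinTop.IsWeaklyPreadic A →
      ∃ (A' : Type u) (_ : CommRing A') (_ : TopologicalSpace A') (_ : IsTopologicalRing A')
        (φ : A' →+* A), LinTop.IsPreadic A' ∧ LinTop.IsTaut φ := by
    rintro ⟨-, I, hIo, hIU⟩
    refine ⟨A, inferInstance, I.adicTopology, I.nonarchimedean.toIsTopologicalRing,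
      RingHom.id A, ⟨I, rfl⟩, ?_⟩
    refine @Groth.Agent.Lib.LinTop_lead.isTaut_of_isAdic A _ I.adicTopology
      I.nonarchimedean.toIsTopologicalRing A _ _ _ (RingHom.id A) I rfl ?_ ?_
    · intro n; rw [Ideal.map_id]; exact hIo n
    · intro U hU
      obtain ⟨n, hn⟩ := hIU U hU
      exact ⟨n, by rw [Ideal.map_id]; exact hn⟩
  have h21 : (∃ (A' : Type u) (_ : CommRing A') (_ : TopologicalSpace A')
      (_ : IsTopologicalRing A') (φ : A' →+* A), LinTop.IsPreadic A' ∧ LinTop.IsTaut φ) →
      LinTop.IsWeaklyPreadic A := by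
    rintro ⟨A', i1, i2, i3, φ, hpre, htaut⟩
    have := Groth.Agent.Lib.LinTop_lead.isLinearTopology_of_isPreadic hpre
    obtain ⟨I', hI'⟩ := hpre
    have hw : LinTop.IsWeaklyPreadic A' :=
      ⟨inferInstance, I',
        fun n => Groth.Agent.Lib.LinTop_lead.isOpen_closure_of_isOpen _ ((isAdic_iff.1 hI').1 n),
        fun U hU => by
          obtain ⟨n, hn⟩ := (isAdic_iff.1 hI').2 U hU
          exact ⟨n, by
            rw [Groth.Agent.Lib.LinTop_lead.closure_ideal_eq_of_isOpen _ ((isAdic_iff.1 hI').1 n)]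
            exact hn⟩⟩
    exact Groth.Agent.S10165.result A' A φ htaut hw
  have h14 : LinTop.IsWeaklyPreadic A → (LinTop.IsPreadmissible A ∧ ∀ I : Ideal A,
      LinTop.IsIdealOfDefinition A I →
        ∀ n : ℕ, 0 < n → IsOpen (closure ((I ^ n : Ideal A) : Set A))) := by
    rintro ⟨hlin, I, hIo, hIU⟩
    refine ⟨⟨hlin, I.closure, ?_, ?_⟩, ?_⟩
    · rw [Ideal.coe_closure]; simpa using hIo 1
    · intro U hU
      obtain ⟨n, hn⟩ := hIU U hU
      refine ⟨n + 1, Nat.succ_pos n, subset_trans ?_ hn⟩
      intro x hx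
      have h1 := Groth.Agent.Lib.LinTop_lead.closure_pow_le I (n + 1) hx
      have h2 := Groth.Agent.Lib.LinTop_lead.closure_ideal_mono
        (Ideal.pow_le_pow_right (I := I) (Nat.le_succ n)) h1
      rwa [← Ideal.coe_closure]
    · intro I' hI' n _
      obtain ⟨m, hm⟩ := hIU I' (hI'.1.mem_nhds I'.zero_mem)
      have h1 : I ^ (m * n) ≤ I' ^ n := by
        rw [pow_mul]; exact Ideal.pow_right_mono (fun x hx => hm (subset_closure hx)) n
      exact Groth.Agent.Lib.LinTop_lead.isOpen_closure_mono h1 (hIo _)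
  have h43 : (LinTop.IsPreadmissible A ∧ ∀ I : Ideal A, LinTop.IsIdealOfDefinition A I →
        ∀ n : ℕ, 0 < n → IsOpen (closure ((I ^ n : Ideal A) : Set A))) →
      (LinTop.IsPreadmissible A ∧ ∃ I : Ideal A, LinTop.IsIdealOfDefinition A I ∧
        ∀ n : ℕ, 0 < n → IsOpen (closure ((I ^ n : Ideal A) : Set A))) := by
    rintro ⟨hpre, h⟩
    obtain ⟨I, hI⟩ := hpre.2
    exact ⟨hpre, I, hI, h I hI⟩
  have h31 : (LinTop.IsPreadmissible A ∧ ∃ I : Ideal A, LinTop.IsIdealOfDefinition A I ∧
        ∀ n : ℕ, 0 < n → IsOpen (closure ((I ^ n : Ideal A) : Set A))) →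
      LinTop.IsWeaklyPreadic A := by
    rintro ⟨-, I, hI, hopen⟩
    refine ⟨inferInstance, I, ?_, ?_⟩
    · intro n
      rcases Nat.eq_zero_or_pos n with rfl | hn
      · simp
      · exact hopen n hn
    · intro U hU
      obtain ⟨K, hK, hKU⟩ := (IsLinearTopology.hasBasis_open_ideal (R := A)).mem_iff.1 hU
      obtain ⟨n, -, hn⟩ := Groth.Agent.Lib.LinTop_lead.exists_pow_le_of_isIdealOfDefinition hI hK
      refine ⟨n, subset_trans ?_ hKU⟩
      rw [← Groth.Agent.Lib.LinTop_lead.closure_ideal_eq_of_isOpen K hK]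
      exact closure_mono (fun x hx => hn hx)
  tfae_have 1 → 2 := h12
  tfae_have 2 → 1 := h21
  tfae_have 1 → 4 := h14
  tfae_have 4 → 3 := h43
  tfae_have 3 → 1 := h31
  tfae_finish

end Groth.Agent.S10159
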