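import Groth.Statements.S10160
import Groth.Agent.Lib.LinTop_lead

set_option autoImplicit false
universe u
open LinTop

namespace Groth.Agent.S10160

/-- A weakly adic topological ring is admissible and has a countable fundamental system of open ideals. -/
theorem result
    (A : Type u) [CommRing A] [UniformSpace A] [IsUniformAddGroup A] [IsTopologicalRing A] (hA : LinTop.IsWeaklyAdic A) :
    LinTop.IsAdmissible A ∧ (nhds (0 : A)).IsCountablyGenerated := by
  obtain ⟨⟨hlin, I, hIo, hIU⟩, hT2, hC⟩ := hA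
  refine ⟨⟨⟨hlin, I.closure, ⟨?_, ?_⟩⟩, hT2, hC⟩, ?_⟩
  · rw [Ideal.coe_closure]
    simpa using hIo 1
  · intro U hU
    obtain ⟨n, hn⟩ := hIU U hU
    refine ⟨n + 1, Nat.succ_pos n, subset_trans ?_ hn⟩
    intro x hx
    have h1 := Groth.Agent.Lib.LinTop_lead.closure_pow_le I (n + 1) hx
    have h2 := Groth.Agent.Lib.LinTop_lead.closure_ideal_mono
      (Ideal.pow_le_pow_right (I := I) (Nat.le_succ n)) h1
    rwa [← Ideal.coe_closure]
  · have hB : (nhds (0 : A)).HasBasis (fun _ : ℕ => True)
        (fun n => closure ((I ^ n : Ideal A) : Set A)) := by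
      refine ⟨fun U => ⟨fun hU => ?_, ?_⟩⟩
      · obtain ⟨n, hn⟩ := hIU U hU
        exact ⟨n, trivial, hn⟩
      · rintro ⟨n, -, hn⟩
        exact Filter.mem_of_superset ((hIo n).mem_nhds (subset_closure (I ^ n).zero_mem)) hn
    exact hB.isCountablyGenerated

end Groth.Agent.S10160
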