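import Groth.Statements.S10166
import Groth.Agent.Lib.LinTop_lead

set_option autoImplicit false
universe u v
open LinTop

namespace Groth.Agent.S10166

/-- Let φ : A → B be a taut homomorphism of linearly topologized rings such that for every open ideal I
of A, with J the closure of φ(I)B, the induced map A/I → B/J is faithfully flat. If B has a
countable fundamental system of open ideals, then so does A. -/
theorem result
    (A : Type u) [CommRing A] [TopologicalSpace A] [IsTopologicalRing A] [IsLinearTopology A A]
    (B : Type v) [CommRing B] [TopologicalSpace B] [IsTopologicalRing B] [IsLinearTopology B B]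
    (φ : A →+* B) (hφ : LinTop.IsTautFFlat φ) (hB : (nhds (0 : B)).IsCountablyGenerated) :
    (nhds (0 : A)).IsCountablyGenerated := by
  have := hB
  obtain ⟨x, hx, hbasis⟩ :=
    (IsLinearTopology.hasBasis_open_ideal (R := B)).exists_antitone_subbasis
  have hA : (nhds (0 : A)).HasBasis (fun _ : ℕ => True)
      (fun n => (((x n).comap φ : Ideal A) : Set A)) := by
    refine ⟨fun U => ⟨fun hU => ?_, ?_⟩⟩
    · obtain ⟨I, hI, hIU⟩ := (IsLinearTopology.hasBasis_open_ideal (R := A)).mem_iff.1 hU
      have hopen := hφ.1.2.1 I hI
      obtain ⟨n, -, hn⟩ :=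
        hbasis.1.mem_iff.1 (hopen.mem_nhds (subset_closure (Ideal.zero_mem _)))
      refine ⟨n, trivial, subset_trans ?_ hIU⟩
      intro y hy
      exact Groth.Agent.Lib.LinTop_lead.mem_of_map_mem_closure hφ I hI (hn hy)
    · rintro ⟨n, -, hn⟩
      exact Filter.mem_of_superset
        ((Groth.Agent.Lib.LinTop_lead.isOpen_comap hφ.1.1 _ (hx n)).mem_nhds (Ideal.zero_mem _)) hn
  exact hA.isCountablyGenerated

end Groth.Agent.S10166
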