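import Groth.Statements.S10167
import Groth.Agent.Lib.LinTop_lead

set_option autoImplicit false
universe u v
open LinTop

namespace Groth.Agent.S10167

/-- Let φ : A → B be a taut homomorphism of linearly topologized rings such that for every open ideal I
of A the induced ring map A/I → B/J, where J denotes the closure of φ(I)B, is faithfully flat. If B
has a weak ideal of definition (B is weakly pre-admissible), then so does A. -/
theorem result
    (A : Type u) [CommRing A] [TopologicalSpace A] [IsTopologicalRing A] [IsLinearTopology A A]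
    (B : Type v) [CommRing B] [TopologicalSpace B] [IsTopologicalRing B] [IsLinearTopology B B]
    (φ : A →+* B) (hφ : LinTop.IsTautFFlat φ) (hB : LinTop.IsWeaklyPreadmissible B) :
    LinTop.IsWeaklyPreadmissible A := by
  obtain ⟨-, J, hJo, hJn⟩ := hB
  refine ⟨inferInstance, J.comap φ, Groth.Agent.Lib.LinTop_lead.isOpen_comap hφ.1.1 J hJo, ?_⟩
  intro f hf
  rw [Groth.Agent.Lib.LinTop_lead.isTopologicallyNilpotent_iff_forall_open_ideal]
  intro K hK
  have hopen := hφ.1.2.1 K hK
  obtain ⟨n, hn⟩ := (hJn (φ f) hf).exists_pow_mem_of_mem_nhds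
    (hopen.mem_nhds (subset_closure (Ideal.zero_mem _)))
  refine ⟨n, Groth.Agent.Lib.LinTop_lead.mem_of_map_mem_closure hφ K hK ?_⟩
  rwa [map_pow]

end Groth.Agent.S10167
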