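import Groth.Statements.S10168
import Groth.Agent.Lib.LinTop_lead

set_option autoImplicit false
universe u v
open LinTop

namespace Groth.Agent.S10168

/-- Let φ : A → B be a taut homomorphism of linearly topologized rings such that for every open ideal I
of A, with J the closure of φ(I)B, the induced map A/I → B/J is faithfully flat. If B is
pre-admissible, then A is pre-admissible. -/
theorem result
    (A : Type u) [CommRing A] [TopologicalSpace A] [IsTopologicalRing A] [IsLinearTopology A A]
    (B : Type v) [CommRing B] [TopologicalSpace B] [IsTopologicalRing B] [IsLinearTopology B B]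
    (φ : A →+* B) (hφ : LinTop.IsTautFFlat φ) (hB : LinTop.IsPreadmissible B) :
    LinTop.IsPreadmissible A := by
  obtain ⟨-, J, ⟨hJo, hJn⟩⟩ := hB
  refine ⟨inferInstance, J.comap φ, Groth.Agent.Lib.LinTop_lead.isOpen_comap hφ.1.1 J hJo, ?_⟩
  intro U hU
  obtain ⟨K, hK, hKU⟩ := (IsLinearTopology.hasBasis_open_ideal (R := A)).mem_iff.1 hU
  have hopen := hφ.1.2.1 K hK
  obtain ⟨n, hn, hnJ⟩ := hJn _ (hopen.mem_nhds (subset_closure (Ideal.zero_mem _)))
  refine ⟨n, hn, subset_trans ?_ hKU⟩
  intro y hy
  refine Groth.Agent.Lib.LinTop_lead.mem_of_map_mem_closure hφ K hK (hnJ ?_)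
  have h1 : (J.comap φ) ^ n ≤ (J ^ n).comap φ := Ideal.le_comap_pow φ n
  exact h1 hy

end Groth.Agent.S10168
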