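import Groth.Statements.S10169
import Groth.Agent.Lib.LinTop_lead
import Groth.Agent.S10147

set_option autoImplicit false
universe u v
open LinTop

namespace Groth.Agent.S10169

/-- Let φ : A → B be a taut homomorphism of linearly topologized rings such that for every open ideal I
of A the induced ring map A/I → B/J, where J denotes the closure of φ(I)B, is faithfully flat. Weak
pre-adicness then descends: when B is weakly pre-adic, A is as well. -/
theorem result
    (A : Type u) [CommRing A] [TopologicalSpace A] [IsTopologicalRing A] [IsLinearTopology A A]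
    (B : Type v) [CommRing B] [TopologicalSpace B] [IsTopologicalRing B] [IsLinearTopology B B]
    (φ : A →+* B) (hφ : LinTop.IsTautFFlat φ) (hB : LinTop.IsWeaklyPreadic B) :
    LinTop.IsWeaklyPreadic A := by
  obtain ⟨-, J, hJo, hJU⟩ := hB
  have hJc_open : ∀ n, IsOpen (((J ^ n).closure : Ideal B) : Set B) := fun n => by
    rw [Ideal.coe_closure]; exact hJo n
  have hIopen : ∀ n, IsOpen ((((J ^ n).closure).comap φ : Ideal A) : Set A) := fun n =>
    Groth.Agent.Lib.LinTop_lead.isOpen_comap hφ.1.1 _ (hJc_open n)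
  have claimA : ∀ K : Ideal A, IsOpen (K : Set A) → ∀ k, (J ^ k).closure ≤ (K.map φ).closure →
      ((J ^ k).closure).comap φ ≤ K := by
    intro K hK k hk x hx
    exact Groth.Agent.Lib.LinTop_lead.mem_of_map_mem_closure hφ K hK
      (by rw [← Ideal.coe_closure]; exact hk hx)
  have claimA' : ∀ K : Ideal A, IsOpen (K : Set A) → ∃ k, (J ^ k).closure ≤ (K.map φ).closure := by
    intro K hK
    obtain ⟨k, hk⟩ := hJU _ ((hφ.1.2.1 K hK).mem_nhds (subset_closure (Ideal.zero_mem _)))
    refine ⟨k, fun x hx => ?_⟩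
    have : x ∈ closure ((K.map φ : Ideal B) : Set B) := hk (by rwa [← Ideal.coe_closure])
    rwa [← Ideal.coe_closure] at this
  have hbasis : (nhds (0 : A)).HasBasis (fun _ : {K : Ideal A // IsOpen (K : Set A)} => True)
      (fun K => ((K.1 : Submodule A A) : Set A)) := by
    refine ⟨fun U => ?_⟩
    rw [(IsLinearTopology.hasBasis_open_ideal (R := A)).mem_iff]
    constructor
    · rintro ⟨K, hK, hKU⟩; exact ⟨⟨K, hK⟩, trivial, hKU⟩
    · rintro ⟨⟨K, hK⟩, -, hKU⟩; exact ⟨K, hK, hKU⟩
  refine ⟨inferInstance, ((J ^ 1).closure).comap φ, ?_, ?_⟩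
  · intro n
    obtain ⟨m, hm⟩ := claimA' _ (hIopen 1)
    have h1 : (J ^ (m * n)).closure ≤ (((((J ^ 1).closure).comap φ) ^ n).map φ).closure := by
      refine Groth.Agent.Lib.LinTop_lead.closure_ideal_le_of_isClosed
        (Groth.Agent.Lib.LinTop_lead.isClosed_closure_ideal _) ?_
      calc J ^ (m * n) = (J ^ m) ^ n := pow_mul J m n
        _ ≤ ((J ^ m).closure) ^ n :=
            Ideal.pow_right_mono (Groth.Agent.Lib.LinTop_lead.le_closure_ideal _) n
        _ ≤ (((((J ^ 1).closure).comap φ).map φ).closure) ^ n := Ideal.pow_right_mono hm n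
        _ ≤ (((((J ^ 1).closure).comap φ).map φ) ^ n).closure :=
            Groth.Agent.Lib.LinTop_lead.closure_pow_le _ n
        _ = (((((J ^ 1).closure).comap φ) ^ n).map φ).closure := by rw [Ideal.map_pow]
    have h2 : ((J ^ (m * n)).closure).comap φ ≤ ((((J ^ 1).closure).comap φ) ^ n).closure := by
      intro x hx
      rw [← SetLike.mem_coe, Ideal.coe_closure,
        Groth.Agent.S10147.result (R := A) (M := A) _ hbasis ((((J ^ 1).closure).comap φ) ^ n)]
      simp only [Set.mem_iInter, SetLike.mem_coe]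
      rintro ⟨K', hK'⟩
      have hKopen : IsOpen ((((((J ^ 1).closure).comap φ) ^ n) ⊔ K' : Ideal A) : Set A) :=
        Ideal.isOpen_of_isOpen_subideal le_sup_right hK'
      exact claimA _ hKopen (m * n)
        (h1.trans (Groth.Agent.Lib.LinTop_lead.closure_ideal_mono (Ideal.map_mono le_sup_left))) hx
    have := Ideal.isOpen_of_isOpen_subideal h2 (hIopen (m * n))
    rwa [Ideal.coe_closure] at this
  · intro U hU
    obtain ⟨K, hK, hKU⟩ := (IsLinearTopology.hasBasis_open_ideal (R := A)).mem_iff.1 hU
    obtain ⟨k, hk⟩ := claimA' K hK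
    refine ⟨k, subset_trans ?_ hKU⟩
    have h3 : (((J ^ 1).closure).comap φ) ^ k ≤ ((J ^ k).closure).comap φ := by
      refine (Ideal.le_comap_pow φ k).trans (Ideal.comap_mono ?_)
      have := Groth.Agent.Lib.LinTop_lead.closure_pow_le (J ^ 1) k
      rwa [← pow_mul, one_mul] at this
    have h4 : ((((J ^ 1).closure).comap φ) ^ k).closure ≤ ((J ^ k).closure).comap φ :=
      Groth.Agent.Lib.LinTop_lead.closure_ideal_le_of_isClosed
        (Groth.Agent.Lib.LinTop_lead.ideal_isClosed_of_isOpen _ (hIopen k)) h3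
    intro x hx
    exact claimA K hK k hk (h4 (by rwa [← Ideal.coe_closure] at hx))

end Groth.Agent.S10169
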