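import Groth.Statements.S10180
import Groth.Agent.Lib.AlgSpQC2_helper7
import Mathlib.AlgebraicGeometry.Morphisms.Descent

set_option autoImplicit false
universe u
open CategoryTheory CategoryTheory.Limits AlgebraicGeometry Topology TopologicalSpace
open AlgSp

namespace Groth.Agent.S10180

/-- An algebraic space X over a scheme S is quasi-compact if and only if there exist an affine scheme U
over S and a representable etale, representable surjective map h_U ⟶ X. -/
theorem result {S : Scheme.{u}} (X : AlgSp.Space S) :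
    AlgSp.IsQuasiCompactSp X.obj ↔
      ∃ (U : Over S) (p : (AlgSp.yon S).obj U ⟶ X.obj),
        IsAffine U.left ∧ AlgSp.RepWith @Etale p ∧ AlgSp.RepWith @Surjective p := by
  open Groth.Agent.Lib.AlgSpPullback_helper7 in
  constructor
  · rintro ⟨U, p, hpe, hps, hU⟩
    have : CompactSpace ↥U.left := hU
    obtain ⟨Y, c, hc1, hc2, hY⟩ :=
      Scheme.exists_hom_isAffine_of_isZariskiLocalAtSource (P := @Etale) U.left
    let V : Over S := Over.mk (c ≫ U.hom)
    let cO : V ⟶ U := Over.homMk c rfl
    refine ⟨V, (AlgSp.yon S).map cO ≫ p, hY, ?_, ?_⟩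
    · exact repWith_comp _ ((AlgSp.repWith_yon_map_iff _ _).2 hc2) hpe
    · exact repWith_comp _ ((AlgSp.repWith_yon_map_iff _ _).2 hc1) hps
  · rintro ⟨U, p, hU, hpe, hps⟩
    exact ⟨U, p, hpe, hps, inferInstance⟩

end Groth.Agent.S10180
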