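import Groth.Statements.S10181
import Groth.Agent.Lib.AlgSpChart_helper7

set_option autoImplicit false
universe u
open CategoryTheory CategoryTheory.Limits AlgebraicGeometry Topology TopologicalSpace
open AlgSp

namespace Groth.Agent.S10181

/-- Let X be an algebraic space over a scheme S and a : h_U ⟶ X a representable etale map from a scheme
U over S whose underlying scheme is separated. Then a is (representable and) separated, and the
scheme R = U ×_X U representing the fibre product h_U ×_X h_U is separated. -/
theorem result {S : Scheme.{u}} (X : AlgSp.Space S) {U : Over S}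
    (a : (AlgSp.yon S).obj U ⟶ X.obj) (ha : AlgSp.RepWith @Etale a) [U.left.IsSeparated] :
    AlgSp.RepWith @IsSeparated a ∧
      ∀ (R : Over S) (s t : R ⟶ U), IsPullback ((AlgSp.yon S).map t) ((AlgSp.yon S).map s) a a →
        R.left.IsSeparated := by
  open Groth.Agent.Lib.AlgSpDiag_helper7 in
  have hmono := (diag_properties X.property).2.1
  have hU : IsSeparated U.hom := inferInstance
  constructor
  · refine ⟨ha.rep, fun T P c fst snd sq => ?_⟩
    obtain ⟨fst', rfl⟩ := (AlgSp.yon S).map_surjective fst
    obtain ⟨W, pU, pV, r, ρ, sqS, -, h2, -, -, sqD, -⟩ :=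
      Groth.Agent.Lib.AlgSpChart_helper7.exists_fibreProduct_chart a c fst' snd sq
    have h3 : Mono ρ.left := hmono.property _ _ _ sqD
    have h4 : IsSeparated pV.left := MorphismProperty.of_isPullback sqS hU
    have : snd.left = ρ.left ≫ pV.left := by rw [← Over.comp_left, h2]
    show IsSeparated snd.left
    rw [this]
    infer_instance
  · intro R s t hR
    obtain ⟨W, pU, pV, r, ρ, sqS, -, h2, -, -, sqD, -⟩ :=
      Groth.Agent.Lib.AlgSpChart_helper7.exists_fibreProduct_chart a a t s hR
    have h3 : Mono ρ.left := hmono.property _ _ _ sqD
    have h4 : IsSeparated pV.left := MorphismProperty.of_isPullback sqS hU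
    have hW : W.left.IsSeparated := ⟨by
      have : IsSeparated (pV.left ≫ terminal.from U.left) := inferInstance
      rwa [show pV.left ≫ terminal.from U.left = terminal.from W.left from
        Subsingleton.elim _ _] at this⟩
    exact ⟨by
      have : IsSeparated (ρ.left ≫ terminal.from W.left) := inferInstance
      rwa [show ρ.left ≫ terminal.from W.left = terminal.from R.left from
        Subsingleton.elim _ _] at this⟩

end Groth.Agent.S10181
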