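import Groth.Statements.S10183
import Groth.Agent.Lib.AlgSpEtale_helper7
import Mathlib.AlgebraicGeometry.Morphisms.QuasiFinite
-- import your own Groth.Agent.* helpers here

set_option autoImplicit false
universe u
open CategoryTheory CategoryTheory.Limits AlgebraicGeometry Topology TopologicalSpace
open AlgSp

namespace Groth.Agent.S10183

/-- Let X be an algebraic space over a scheme S, a : h_U ⟶ X a representable etale map from a scheme U
over S, and R a scheme over S with h_R = h_U ×_X h_U whose two projections s, t : R ⟶ U are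
quasi-compact (for instance if a is quasi-compact). Then the maps |U| → |X| and |R| → |X| have
finite fibres. -/
theorem result {S : Scheme.{u}} (X : AlgSp.Space S) {R U : Over S}
    (a : (AlgSp.yon S).obj U ⟶ X.obj) (ha : AlgSp.RepWith @Etale a) (s t : R ⟶ U)
    (hR : IsPullback ((AlgSp.yon S).map t) ((AlgSp.yon S).map s) a a)
    [QuasiCompact s.left] [QuasiCompact t.left] (x : AlgSp.Points X.obj) :
    (AlgSp.Points.ofPt a ⁻¹' {x}).Finite ∧
      (AlgSp.Points.ofPt ((AlgSp.yon S).map t ≫ a) ⁻¹' {x}).Finite := by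
  haveI hs : Etale s.left :=
    (AlgSp.repWith_yon_map_iff _ _).1 (Groth.Agent.Lib.AlgSpQC_helper7.repWith_snd_of_isPullback _ hR ha)
  haveI ht : Etale t.left :=
    (AlgSp.repWith_yon_map_iff _ _).1 (Groth.Agent.Lib.AlgSpQC_helper7.repWith_fst_of_isPullback _ hR ha)
  haveI : LocallyQuasiFinite s.left := Groth.Agent.Lib.AlgSpEtale_helper7.locallyQuasiFinite_of_unramified s.left
  haveI : LocallyQuasiFinite t.left := Groth.Agent.Lib.AlgSpEtale_helper7.locallyQuasiFinite_of_unramified t.left
  have h1 : (AlgSp.Points.ofPt a ⁻¹' {x}).Finite := by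
    rcases Set.eq_empty_or_nonempty (AlgSp.Points.ofPt a ⁻¹' {x}) with he | ⟨u₀, hu₀⟩
    · rw [he]; exact Set.finite_empty
    · refine ((s.left.finite_preimage_singleton u₀).image t.left).subset ?_
      intro u hu
      obtain ⟨r, hr1, hr2⟩ := Groth.Agent.Lib.AlgSpPoints_helper7.exists_ofPt_eq_of_isPullback hR u u₀
        (hu.trans hu₀.symm)
      exact ⟨r, hr2, hr1⟩
  refine ⟨h1, ?_⟩
  have e : AlgSp.Points.ofPt ((AlgSp.yon S).map t ≫ a) ⁻¹' {x} =
      t.left ⁻¹' (AlgSp.Points.ofPt a ⁻¹' {x}) := by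
    ext r
    simp only [Set.mem_preimage, Set.mem_singleton_iff]
    rw [Groth.Agent.Lib.AlgSpPoints_helper7.ofPt_comp]
  rw [e]
  exact t.left.finite_preimage h1

end Groth.Agent.S10183
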