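import Groth.Statements.S10184
import Groth.Agent.Lib.AlgSpChart_helper7

set_option autoImplicit false
universe u
open CategoryTheory CategoryTheory.Limits AlgebraicGeometry Topology TopologicalSpace
open AlgSp

namespace Groth.Agent.S10184

/-- Let X be an algebraic space over a scheme S such that for all affine schemes U, V over S mapping to
X, every scheme P over S representing h_U ×_X h_V is quasi-compact. Then X is quasi-separated over
S. (The published statement is about absolute quasi-separatedness, over the integers, which this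
hypothesis also gives and which implies quasi-separatedness over S.) -/
theorem result {S : Scheme.{u}} (X : AlgSp.Space S)
    (h : ∀ (U V P : Over S) (a : (AlgSp.yon S).obj U ⟶ X.obj) (b : (AlgSp.yon S).obj V ⟶ X.obj)
      (fst : P ⟶ U) (snd : P ⟶ V),
      IsAffine U.left → IsAffine V.left →
      IsPullback ((AlgSp.yon S).map fst) ((AlgSp.yon S).map snd) a b → CompactSpace ↥P.left) :
    AlgSp.IsQuasiSeparatedSp X.obj := by
  open Groth.Agent.Lib.AlgSpSep_helper7 Groth.Agent.Lib.AlgSpChart_helper7 in
  apply repWith_of_forall_affine @QuasiCompact _ X.property.diag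
  intro T V g fst snd hT sq
  have hx1 : AlgSp.Representable (g ≫ prod.fst) :=
    Functor.relativelyRepresentable.of_diag X.property.diag _
  have sqQ : IsPullback ((AlgSp.yon S).map (hx1.fst' (g ≫ prod.snd)))
    ((AlgSp.yon S).map (hx1.snd (g ≫ prod.snd))) (g ≫ prod.fst) (g ≫ prod.snd) :=
    hx1.isPullback' _
  have hQ : CompactSpace ↥(hx1.pullback (g ≫ prod.snd)).left := h T T _ _ _ _ _ hT hT sqQ
  obtain ⟨W, pU, pV, r, ρ, sqS, h1, h2, hr1, hr2, sqD, -⟩ :=
    exists_fibreProduct_chart _ _ _ _ sqQ
  let δ : T ⟶ W := Over.homMk (sqS.lift (𝟙 _) (𝟙 _) rfl) (by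
    rw [← Over.w pU, ← Category.assoc, sqS.lift_fst, Category.id_comp])
  have hδ1 : δ ≫ pU = 𝟙 T := by ext; exact sqS.lift_fst _ _ _
  have hδ2 : δ ≫ pV = 𝟙 T := by ext; exact sqS.lift_snd _ _ _
  have hc : (AlgSp.yon S).map δ ≫ r = g := by
    apply Limits.prod.hom_ext
    · rw [Category.assoc, hr1, ← Category.assoc, ← Functor.map_comp, hδ1, CategoryTheory.Functor.map_id,
        Category.id_comp]
    · rw [Category.assoc, hr2, ← Category.assoc, ← Functor.map_comp, hδ2, CategoryTheory.Functor.map_id,
        Category.id_comp]
  have hTs : IsSeparated T.hom := inferInstance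
  have hpV : IsSeparated pV.left := MorphismProperty.of_isPullback sqS hTs
  have hW : W.left.IsSeparated := ⟨by
    have : IsSeparated (pV.left ≫ terminal.from T.left) := inferInstance
    rwa [show pV.left ≫ terminal.from T.left = terminal.from W.left from
      Subsingleton.elim _ _] at this⟩
  have hρ : QuasiCompact ρ.left := inferInstance
  exact property_of_factor _ sq sqD hc ((AlgSp.repWith_yon_map_iff _ _).2 hρ)

end Groth.Agent.S10184
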