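import Groth.Statements.S10186
import Mathlib
import Groth.Agent.Lib.AlgSpAffPb_helper7

set_option autoImplicit false
universe u
open CategoryTheory CategoryTheory.Limits AlgebraicGeometry Topology TopologicalSpace
open AlgSp

namespace Groth.Agent.S10186

/-- Let X be an algebraic space over a scheme S such that for all affine schemes U, V over S mapping to
X and every scheme P over S representing h_U ×_X h_V, the scheme P is affine and the ring map from
the tensor product over the integers of the global sections of U and V to the global sections of P,
induced by the two projections, is surjective. Then X is separated over S. (The published statement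
concerns absolute separatedness, over the integers, which this hypothesis also gives and which
implies separatedness over S.) -/
theorem result {S : Scheme.{u}} (X : AlgSp.Space S)
    (h : ∀ (U V P : Over S) (a : (AlgSp.yon S).obj U ⟶ X.obj) (b : (AlgSp.yon S).obj V ⟶ X.obj)
      (fst : P ⟶ U) (snd : P ⟶ V),
      IsAffine U.left → IsAffine V.left →
      IsPullback ((AlgSp.yon S).map fst) ((AlgSp.yon S).map snd) a b →
        IsAffine P.left ∧ Function.Surjective
          (Algebra.TensorProduct.productMap fst.left.appTop.hom.toIntAlgHom snd.left.appTop.hom.toIntAlgHom)) :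
    AlgSp.IsSeparatedSp X.obj := by
  show RepWith @IsClosedImmersion (Limits.diag X.obj)
  apply Groth.Agent.Lib.AlgSpSep_helper7.repWith_of_forall_affine @IsClosedImmersion
    (Limits.diag X.obj) X.property.diag
  intro T V g fst' snd' hT sq
  haveI := hT
  obtain ⟨W, p2, fW, sqW⟩ := X.property.representable_from_yon (g ≫ prod.fst) (g ≫ prod.snd)
  obtain ⟨p1, rfl⟩ := (yon S).map_surjective fW
  obtain ⟨hW, hs⟩ := h T T W (g ≫ prod.fst) (g ≫ prod.snd) p1 p2 hT hT sqW
  haveI := hW
  have hδ := Groth.Agent.Lib.AlgSpAffPb_helper7.isClosedImmersion_left_of_toAbs p1 p2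
    (Groth.Agent.Lib.AlgSpAffPb_helper7.isClosedImmersion_toAbs_of_surjective p1 p2 hs)
  have hrep : RepWith @IsClosedImmersion ((yon S).map (prod.lift p1 p2)) :=
    (repWith_yon_map_iff _ _).2 hδ
  exact Groth.Agent.Lib.AlgSpSep_helper7.property_of_factor @IsClosedImmersion sq
    (Groth.Agent.Lib.AlgSpAffPb_helper7.isPullback_diag_pairMap sqW)
    (Groth.Agent.Lib.AlgSpAffPb_helper7.diag_comp_pairMap g) hrep

end Groth.Agent.S10186
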