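import Groth.Statements.S10196
import Groth.Agent.Lib.AlgSpOpenSub_helper7

set_option autoImplicit false
universe u
open CategoryTheory CategoryTheory.Limits AlgebraicGeometry Topology TopologicalSpace
open AlgSp

namespace Groth.Agent.S10196

/-- Let X be an algebraic space over a scheme S, a : h_U ⟶ X a representable etale map from a scheme U
over S, and X' ⟶ X the open subspace whose image in |X| is the (open) image of U. Then a factors
through a representable etale and surjective a' : h_U ⟶ X', and if R is a scheme over S with h_R =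
h_U ×_X h_U then also h_R = h_U ×_{X'} h_U and (U, R, a') is a presentation of X'. -/
theorem result {S : Scheme.{u}} {X X' : AlgSp.Space S} {U : Over S}
    (a : (AlgSp.yon S).obj U ⟶ X.obj) (ha : AlgSp.RepWith @Etale a)
    (j : X' ⟶ X) (hj : AlgSp.RepWith @IsOpenImmersion j.hom)
    (himage : Set.range (AlgSp.Points.map j.hom) = Set.range (AlgSp.Points.ofPt a)) :
    ∃ a' : (AlgSp.yon S).obj U ⟶ X'.obj, a' ≫ j.hom = a ∧ AlgSp.RepWith @Etale a' ∧ AlgSp.RepWith @Surjective a' ∧
      ∀ (R : Over S) (s t : R ⟶ U), IsPullback ((AlgSp.yon S).map t) ((AlgSp.yon S).map s) a a →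
        AlgSp.IsPresentation s t a' := by
  obtain ⟨a', ha', hae', hs⟩ :=
    Groth.Agent.Lib.AlgSpOpenSub_helper7.exists_factor_chart a ha j.hom hj himage.ge
  have has' := hs himage.le
  haveI : Mono j.hom := Groth.Agent.Lib.AlgSpOpenSub_helper7.mono_of_openImmersion j.hom hj
  refine ⟨a', ha', hae', has', fun R s t sq => ?_⟩
  have sq' : IsPullback ((AlgSp.yon S).map t) ((AlgSp.yon S).map s) a' a' := by
    rw [← ha'] at sq
    exact (Groth.Agent.Lib.AlgSpBasic_helper7.isPullback_comp_mono_iff j.hom).1 sq
  refine ⟨⟨⟨?_, ?_⟩, ?_, ?_⟩, hae', has', sq'⟩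
  · intro T r r' h1 h2
    apply (AlgSp.yon S).map_injective
    apply sq.hom_ext
    · rw [← Functor.map_comp, ← Functor.map_comp, h1]
    · rw [← Functor.map_comp, ← Functor.map_comp, h2]
  · intro T
    have key : ∀ α β : T ⟶ U, (∃ r : T ⟶ R, r ≫ t = α ∧ r ≫ s = β) ↔
        (AlgSp.yon S).map α ≫ a = (AlgSp.yon S).map β ≫ a := by
      intro α β
      constructor
      · rintro ⟨r, rfl, rfl⟩
        rw [Functor.map_comp, Functor.map_comp, Category.assoc, Category.assoc, sq.w]
      · intro h
        obtain ⟨r, hr⟩ := (AlgSp.yon S).map_surjective (sq.lift _ _ h)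
        refine ⟨r, ?_, ?_⟩
        · apply (AlgSp.yon S).map_injective
          rw [Functor.map_comp, hr, sq.lift_fst]
        · apply (AlgSp.yon S).map_injective
          rw [Functor.map_comp, hr, sq.lift_snd]
    exact ⟨fun α => (key α α).2 rfl, fun {α β} h => (key β α).2 ((key α β).1 h).symm,
      fun {α β γ} h1 h2 => (key α γ).2 (((key α β).1 h1).trans ((key β γ).1 h2))⟩
  · exact ha.property a ((AlgSp.yon S).map t) s sq
  · exact ha.property a ((AlgSp.yon S).map s) t sq.flip

end Groth.Agent.S10196
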