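import Groth.Statements.S10197
import Groth.Agent.Lib.AlgSpGlue4_helper7

set_option autoImplicit false
universe u
open CategoryTheory CategoryTheory.Limits AlgebraicGeometry Topology TopologicalSpace
open AlgSp

namespace Groth.Agent.S10197

/-- An algebraic space X over a scheme S has a largest open subspace which is a scheme: there is an open
subspace X' ⟶ X whose underlying sheaf is representable by a scheme over S, through which every open
subspace of X with representable underlying sheaf factors. -/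
theorem result {S : Scheme.{u}} (X : AlgSp.Space S) :
    ∃ (X' : AlgSp.Space S) (j : X' ⟶ X), AlgSp.RepWith @IsOpenImmersion j.hom ∧ X'.obj.obj.IsRepresentable ∧
      ∀ (X'' : AlgSp.Space S) (j'' : X'' ⟶ X), AlgSp.RepWith @IsOpenImmersion j''.hom →
        X''.obj.obj.IsRepresentable → ∃ k : X'' ⟶ X', k ≫ j = j'' := by
  open Groth.Agent.Lib.AlgSpOpenSub_helper7 Groth.Agent.Lib.AlgSpOpen_helper7
    Groth.Agent.Lib.AlgSpGlue4H7 Groth.Agent.Lib.AlgSpPoints_helper7
    Groth.Agent.Lib.AlgSpBasic_helper7 in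
  let Good : Set (AlgSp.Points X.obj) := {x | ∃ (X'' : AlgSp.Space S) (j'' : X'' ⟶ X),
    AlgSp.RepWith @IsOpenImmersion j''.hom ∧ X''.obj.obj.IsRepresentable ∧
      x ∈ Set.range (AlgSp.Points.map j''.hom)}
  have hopen : IsOpen Good := by
    rw [isOpen_iff_forall_mem_open]
    rintro x ⟨X'', j'', hj, hr, hx⟩
    refine ⟨Set.range (AlgSp.Points.map j''.hom), ?_,
      isOpen_range_map_of_openImmersion _ hj, hx⟩
    intro y hy
    exact ⟨X'', j'', hj, hr, hy⟩
  obtain ⟨X', j, hj, hrange⟩ := exists_openSubspace X Good hopen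
  haveI : Mono j.hom := mono_of_openImmersion j.hom hj
  refine ⟨X', j, hj, ?_, ?_⟩
  · obtain ⟨U, p, hpe, hps⟩ := X'.property.atlas
    have hgood : ∀ u : U.left, AlgSp.Points.map j.hom (AlgSp.Points.ofPt p u) ∈ Good := fun u => by
      rw [← hrange]
      exact ⟨_, rfl⟩
    choose X'' j'' hj'' hr'' hx'' using hgood
    have hsub : ∀ u, Set.range (AlgSp.Points.map (j'' u).hom) ⊆
        Set.range (AlgSp.Points.map j.hom) := fun u => by
      rw [hrange]
      intro y hy
      exact ⟨X'' u, j'' u, hj'' u, hr'' u, hy⟩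
    choose k hk using fun u => (factors_iff_of_openImmersion j.hom hj (j'' u).hom).2 (hsub u)
    have hko : ∀ u, AlgSp.RepWith @IsOpenImmersion (k u) := fun u =>
      repWith_of_comp_mono @IsOpenImmersion (k u) j.hom (by rw [hk u]; exact hj'' u)
    choose Y hY using fun u => (hr'' u).has_representation
    let e : ∀ u, (AlgSp.yon S).obj (Y u) ≅ (X'' u).obj := fun u =>
      AlgSp.isoOfRepresentableBy (hY u).some
    have hf : ∀ u, AlgSp.RepWith @IsOpenImmersion ((e u).hom ≫ k u) := fun u =>
      MorphismProperty.RespectsIso.precomp _ (e u).hom (k u) (hko u)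
    obtain ⟨Y', e', -, -, -, -⟩ := exists_iso_of_openCover_points
      (fun u => (e u).hom ≫ k u) hf (fun x => by
        obtain ⟨u, rfl⟩ := ofPt_surjective p hps x
        obtain ⟨z, hz⟩ := hx'' u
        refine ⟨u, AlgSp.Points.map (e u).inv z, ?_⟩
        apply map_injective_of_mono j.hom
        have h1 : (e u).inv ≫ ((e u).hom ≫ k u) ≫ j.hom = (j'' u).hom := by
          rw [Category.assoc, Iso.inv_hom_id_assoc, hk u]
        rw [← AlgSp.Points.map_comp, ← AlgSp.Points.map_comp, h1, hz])
    exact ⟨⟨Y', ⟨AlgSp.representableByOfIso e'⟩⟩⟩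
  · intro X₂ j₂ hj₂ hr₂
    have hsub : Set.range (AlgSp.Points.map j₂.hom) ⊆ Set.range (AlgSp.Points.map j.hom) := by
      rw [hrange]
      intro y hy
      exact ⟨X₂, j₂, hj₂, hr₂, hy⟩
    obtain ⟨k, hk⟩ := (factors_iff_of_openImmersion j.hom hj j₂.hom).2 hsub
    exact ⟨ObjectProperty.homMk k, by ext1; exact hk⟩

end Groth.Agent.S10197
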