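import Groth.Statements.S10205
import Groth.Agent.Lib.FieldQuot2_helper6
import Groth.Agent.Lib.AlgSpBasic_helper7
import Groth.Agent.Lib.AlgSpIso_helper7
import Groth.Agent.Lib.ZarQSep_helper7

set_option autoImplicit false
universe u
open CategoryTheory CategoryTheory.Limits AlgebraicGeometry Topology TopologicalSpace
open AlgSp

namespace Groth.Agent.S10205

/-- Let X be an algebraic space over a scheme S, k a field with a structure morphism Spec k ⟶ S, and p :
h_{Spec k} ⟶ X a surjective etale map. If the diagonal of X over S is quasi-compact, then X ≅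
h_{Spec k'} for a field k' over S, where p corresponds to a finite etale morphism Spec k ⟶ Spec k'
over S (that is, k is a finite separable extension of k'). (The published statement assumes X
quasi-separated in the absolute sense; the argument only uses that Spec k ×_X Spec k is
quasi-compact, which already follows from quasi-compactness of the diagonal over S since Spec k ×_S
Spec k is affine.) -/
theorem result {S : Scheme.{u}} (X : AlgSp.Space S)
    (hX : AlgSp.IsQuasiSeparatedSp X.obj) (k : Type u) [Field k] (str : Spec (CommRingCat.of k) ⟶ S)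
    (p : (AlgSp.yon S).obj (Over.mk str) ⟶ X.obj) (hp : AlgSp.RepWith @Etale p) (hs : AlgSp.RepWith @Surjective p) :
    ∃ (k' : Type u) (_ : Field k') (str' : Spec (CommRingCat.of k') ⟶ S)
      (e : (AlgSp.yon S).obj (Over.mk str') ≅ X.obj) (c : Over.mk str ⟶ Over.mk str'),
      (AlgSp.yon S).map c ≫ e.hom = p ∧ IsFinite c.left ∧ Etale c.left := by
  haveI : IsAffine (Over.mk str).left := inferInstanceAs (IsAffine (Spec (CommRingCat.of k)))
  -- `p` is quasi-compact
  have hsub : Subsingleton ↥(Spec (CommRingCat.of k)) := by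
    change Subsingleton (PrimeSpectrum k); infer_instance
  have hne : Nonempty ↥(Spec (CommRingCat.of k)) := by
    change Nonempty (PrimeSpectrum k); infer_instance
  obtain ⟨s₀⟩ := hne
  obtain ⟨V, hV, hsV, -⟩ := S.isBasis_affineOpens.exists_subset_of_mem_open
    (Set.mem_univ (str s₀)) isOpen_univ
  obtain ⟨V, rfl⟩ : ∃ V' : S.Opens, (V' : Set S) = V := by
    obtain ⟨V', hV', rfl⟩ := hV
    exact ⟨V', rfl⟩
  have hV' : IsAffineOpen V := by
    obtain ⟨V', hV', h⟩ := hV
    have : V' = V := SetLike.coe_injective h
    exact this ▸ hV'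
  have hUV : Set.range (Over.mk str).hom ⊆ (V : Set S) := by
    rintro _ ⟨y, rfl⟩
    have : y = s₀ := @Subsingleton.elim _ hsub _ _
    rw [this]
    exact hsV
  have hpqc : RepWith @QuasiCompact p :=
    Groth.Agent.Lib.ZarQSep_helper7.repWith_quasiCompact_of_quasiSeparated hX (𝟙 X.obj) V hV' hUV
      p hp hs
  -- the kernel pair
  obtain ⟨R, a, b, sq⟩ : ∃ (R : Over S) (a b : R ⟶ Over.mk str),
      IsPullback ((yon S).map a) ((yon S).map b) p p := ⟨_, _, _, hp.rep.isPullback' p⟩
  have het : Etale a.left := hp.property _ _ _ sq.flip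
  have hqc : QuasiCompact a.left := hpqc.property _ _ _ sq.flip
  obtain ⟨K', hK', str', c₀, q', hfac, hmono, hfinite, hsurj, hflat⟩ :=
    Groth.Agent.Lib.FieldQuot2H6.main str p a b sq het hqc
  letI := hK'
  haveI : Epi p := Groth.Agent.Lib.AlgSpIso_helper7.epi_of_atlas p hp hs
  haveI : Epi ((yon S).map c₀ ≫ q') := by rw [hfac]; infer_instance
  haveI : Epi q' := epi_of_epi ((yon S).map c₀) q'
  haveI := hmono
  haveI : IsIso q' := isIso_of_mono_of_epi q'
  refine ⟨K', hK', str', asIso q', c₀, hfac, hfinite, ?_⟩
  -- étaleness of `c₀` by descent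
  have sq1 : IsPullback ((yon S).map a) ((yon S).map b)
      ((yon S).map c₀) ((yon S).map c₀) := by
    have sq' : IsPullback ((yon S).map a) ((yon S).map b) ((yon S).map c₀ ≫ q')
        ((yon S).map c₀ ≫ q') := by rw [hfac]; exact sq
    exact (Groth.Agent.Lib.AlgSpBasic_helper7.isPullback_comp_mono_iff q').1 sq'
  have sq2 : IsPullback a b c₀ c₀ := IsPullback.of_map (yon S) (by
    apply (yon S).map_injective
    rw [Functor.map_comp, Functor.map_comp]
    exact sq1.w) sq1
  have sq3 := sq2.map (Over.forget S)
  haveI := hfinite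
  have hqc0 : QuasiCompact c₀.left := inferInstance
  exact MorphismProperty.of_isPullback_of_descendsAlong (P := @Etale)
    (Q := @Surjective ⊓ @Flat ⊓ @QuasiCompact) sq3 ⟨⟨hsurj, hflat⟩, hqc0⟩ het

end Groth.Agent.S10205
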