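import Groth.Statements.S10206
import Groth.Agent.Lib.FieldQuot8_helper6
import Groth.Agent.Lib.AlgSpDescent_helper7
import Groth.Agent.Lib.AlgSpGlue4_helper7
import Mathlib.AlgebraicGeometry.Morphisms.FlatDescent

set_option autoImplicit false
universe u
open CategoryTheory CategoryTheory.Limits AlgebraicGeometry Topology TopologicalSpace
open AlgSp

namespace Groth.Agent.S10206

/-- Let X be an algebraic space over a scheme S and X ⟶ h_{Spec k} an etale morphism of algebraic spaces
over S, where k is a field and Spec k is given a structure morphism to S. Then X is a scheme (its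
underlying sheaf is representable by a scheme over S). -/
theorem result {S : Scheme.{u}} (X : AlgSp.Space S)
    (k : Type u) [Field k] (str : Spec (CommRingCat.of k) ⟶ S)
    (f : X.obj ⟶ (AlgSp.yon S).obj (Over.mk str)) (hf : AlgSp.IsEtaleMor f) :
    X.obj.obj.IsRepresentable := by
  open Groth.Agent.Lib.FieldQuot2H6 Groth.Agent.Lib.FieldQuot3H6 Groth.Agent.Lib.FieldQuot4H6
    Groth.Agent.Lib.FieldQuot5H6
    Groth.Agent.Lib.AlgSpPoints_helper7 Groth.Agent.Lib.AlgSpQC_helper7
    Groth.Agent.Lib.AlgSpPullback_helper7 Groth.Agent.Lib.AlgSpDescent_helper7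
    Groth.Agent.Lib.AlgSpGlue4H7 in
  have hX : AlgSp.IsAlgSpace X.obj := X.property
  obtain ⟨U, p, hpe, hps⟩ := hX.atlas
  have hpf : AlgSp.RepWith @Etale (p ≫ f) := hf p hpe
  obtain ⟨ψ, hψ⟩ := (AlgSp.yon S).map_surjective (p ≫ f)
  rw [← hψ, AlgSp.repWith_yon_map_iff] at hpf
  haveI hψe : Etale ψ.left := hpf
  -- for every point of the chart, an open immersion from the spectrum of a field
  have key : ∀ u : ↥U.left, ∃ p' : AlgSp.FieldPt X.obj,
      AlgSp.Points.mk p' = AlgSp.Points.ofPt p u ∧ AlgSp.RepWith @IsOpenImmersion p'.toHom := by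
    intro u
    have hrep := hX.representable_from_yon (AlgSp.FieldPt.ofPt p u).toHom
    obtain ⟨G, a, b, sq⟩ : ∃ (G : Over S) (a b : G ⟶ (AlgSp.FieldPt.ofPt p u).pt),
        IsPullback ((AlgSp.yon S).map a) ((AlgSp.yon S).map b) (AlgSp.FieldPt.ofPt p u).toHom
          (AlgSp.FieldPt.ofPt p u).toHom := ⟨_, _, _, hrep.isPullback' _⟩
    let ι : (AlgSp.FieldPt.ofPt p u).pt ⟶ U := Over.homMk (U.left.fromSpecResidueField u) rfl
    have hq : (AlgSp.FieldPt.ofPt p u).toHom = (AlgSp.yon S).map ι ≫ p :=
      AlgSp.FieldPt.toHom_ofPt p u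
    obtain ⟨θ, hθdef⟩ : ∃ θ : (AlgSp.FieldPt.ofPt p u).pt ⟶ Over.mk str, θ = ι ≫ ψ := ⟨_, rfl⟩
    have hθ : (AlgSp.yon S).map θ = (AlgSp.FieldPt.ofPt p u).toHom ≫ f := by
      rw [hθdef, Functor.map_comp, hψ, hq, Category.assoc]
    have hab : a ≫ θ = b ≫ θ := by
      apply (AlgSp.yon S).map_injective
      rw [Functor.map_comp, Functor.map_comp, hθ, ← Category.assoc, ← Category.assoc, sq.w]
    haveI : IsOpenImmersion (U.left.fromSpecResidueField u) :=
      Groth.Agent.Lib.EtaleFieldH4.isOpenImmersion_fromSpecResidueField k ψ.left u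
    haveI hθe : Etale θ.left := by
      have : θ.left = U.left.fromSpecResidueField u ≫ ψ.left := by rw [hθdef]; rfl
      rw [this]
      haveI : Etale (U.left.fromSpecResidueField u) := inferInstance
      exact MorphismProperty.comp_mem _ _ _ inferInstance hψe
    haveI hcK : CompactSpace ↥(AlgSp.FieldPt.ofPt p u).pt.left :=
      inferInstanceAs (CompactSpace ↥(Spec (CommRingCat.of (AlgSp.FieldPt.ofPt p u).K)))
    haveI hθf : IsFinite θ.left := isFinite_of_etale_of_compactSpace k θ.left
    -- the scheme `E = Spec κ(u) ×_{Spec k} Spec κ(u)` is finite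
    have sqE := (IsPullback.of_hasPullback θ θ).map (Over.forget S)
    haveI hE1 : Etale (pullback.fst θ θ).left :=
      MorphismProperty.of_isPullback (P := @Etale) sqE.flip hθe
    haveI hE2 : IsFinite (pullback.fst θ θ).left :=
      MorphismProperty.of_isPullback (P := @IsFinite) sqE.flip hθf
    haveI hE3 : CompactSpace ↥(pullback θ θ).left :=
      QuasiCompact.compactSpace_of_compactSpace (pullback.fst θ θ).left
    haveI hEfin : Finite ↥(pullback θ θ).left :=
      finite_of_etale_of_compactSpace (AlgSp.FieldPt.ofPt p u).K (pullback.fst θ θ).left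
    obtain ⟨m, hm1, hm2⟩ : ∃ m : G ⟶ pullback θ θ, m ≫ pullback.fst θ θ = a ∧
        m ≫ pullback.snd θ θ = b :=
      ⟨pullback.lift a b hab, pullback.lift_fst _ _ _, pullback.lift_snd _ _ _⟩
    haveI hm : Mono m := by
      constructor
      intro T x y hxy
      have h1 : x ≫ a = y ≫ a := by
        rw [← hm1, ← Category.assoc, ← Category.assoc, hxy]
      have h2 : x ≫ b = y ≫ b := by
        rw [← hm2, ← Category.assoc, ← Category.assoc, hxy]
      apply (AlgSp.yon S).map_injective
      apply sq.hom_ext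
      · rw [← Functor.map_comp, ← Functor.map_comp, h1]
      · rw [← Functor.map_comp, ← Functor.map_comp, h2]
    haveI hGfin : Finite ↥G.left := Finite.of_injective _ (injective_left_of_mono m)
    obtain ⟨p', hp1, hp2, -⟩ := exists_mono_point hX p hpe u u rfl a b sq inferInstance
    refine ⟨p', hp1, ?_⟩
    have hrep' := hX.representable_from_yon p'.toHom
    have sq' := hrep'.isPullback p
    haveI : Mono p'.toHom := hp2
    haveI hmg : Mono ((AlgSp.yon S).map (hrep'.snd p)) := sq'.mono_snd_of_mono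
    haveI : Mono (hrep'.snd p) := (AlgSp.yon S).mono_of_mono_map hmg
    haveI : Mono (hrep'.snd p).left := inferInstance
    have hoi : IsOpenImmersion (hrep'.snd p).left :=
      isOpenImmersion_of_mono_of_etale_field k ψ.left (hrep'.snd p).left
    exact repWith_of_chart @IsOpenImmersion (descendsEtale_of_descendsAlong _) p'.toHom hrep'
      p hpe hps _ _ sq' hoi
  choose p' hp1 hp2 using key
  obtain ⟨Y', e', -, -, -, -⟩ := exists_iso_of_openCover_points
    (fun u => (p' u).toHom) hp2 (fun x => by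
      obtain ⟨u, rfl⟩ := ofPt_surjective p hps x
      obtain ⟨s₀⟩ := nonempty_spec_field (p' u).K
      refine ⟨u, AlgSp.Points.ofScheme _ s₀, ?_⟩
      rw [← AlgSp.Points.ofPt_eq_map_ofScheme, AlgSp.Points.ofPt_toHom, hp1])
  exact ⟨⟨Y', ⟨AlgSp.representableByOfIso e'⟩⟩⟩

end Groth.Agent.S10206
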