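import Groth.Statements.S10210
import Groth.Agent.Lib.AlgSpLocP8_helper7

set_option autoImplicit false
universe u
open CategoryTheory CategoryTheory.Limits AlgebraicGeometry Topology TopologicalSpace
open AlgSp

namespace Groth.Agent.S10210

/-- Let X, Y, Z be algebraic spaces over a scheme S, g : X ⟶ Z and h : Y ⟶ Z etale morphisms and f : X ⟶
Y a morphism with f ≫ h = g. Then f is etale. -/
theorem result {S : Scheme.{u}} {X Y Z : AlgSp.Space S} (f : X ⟶ Y) (h : Y ⟶ Z) (g : X ⟶ Z)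
    (w : f ≫ h = g) (hg : AlgSp.IsEtaleMor g.hom) (hh : AlgSp.IsEtaleMor h.hom) :
    AlgSp.IsEtaleMor f.hom := by
  open Groth.Agent.Lib.AlgSpLocP8_helper7 Groth.Agent.Lib.AlgSpLocP7_helper7 Groth.Agent.Lib.AlgSpLocP4_helper7 Groth.Agent.Lib.AlgSpEtale_helper7 Groth.Agent.Lib.AlgSpLocP2_helper7 Groth.Agent.Lib.AlgSpDescent_helper7 in
  subst w
  refine isEtaleMor_of_locP Y.property f.hom
    (locP_of_comp' @Etale @Etale (descendsEtale_of_descendsAlong _) ?_ Z.property f.hom h.hom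
      (locP_of_isEtaleMor _ (fun _ _ _ hg => hg) _ hg) (locP_of_isEtaleMor _ (fun _ _ _ hg => hg) _ hh))
  intro A B C f' g' (h1 : Etale (f' ≫ g')) (h2 : Etale g')
  exact MorphismProperty.of_postcomp (W := @Etale) (W' := @Etale) f' g' h2 h1

end Groth.Agent.S10210
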