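import Groth.Statements.S10213
import Groth.Agent.Lib.AlgSpLocP8_helper7

set_option autoImplicit false
universe u
open CategoryTheory CategoryTheory.Limits AlgebraicGeometry Topology TopologicalSpace
open AlgSp

namespace Groth.Agent.S10213

/-- For an algebraic space X over a scheme S there is a surjective etale map h_U ⟶ X where U is a
disjoint union of affine schemes, each of which maps into an affine open of S. -/
theorem result {S : Scheme.{u}} (X : AlgSp.Space S) :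
    ∃ (ι : Type u) (V : ι → Scheme.{u}) (_ : ∀ i, IsAffine (V i)) (q : (∐ V) ⟶ S)
      (p : (AlgSp.yon S).obj (Over.mk q) ⟶ X.obj),
      AlgSp.RepWith @Etale p ∧ AlgSp.RepWith @Surjective p ∧
        ∀ i, ∃ W : S.Opens, IsAffineOpen W ∧ ∀ v : ↥(V i), (Sigma.ι V i ≫ q) v ∈ W := by
  open Groth.Agent.Lib.AlgSpPullback_helper7 in
  obtain ⟨U₀, p₀, hpe, hps⟩ := X.property.atlas
  have key : ∀ u : ↥U₀.left, ∃ (W : S.Opens) (V : U₀.left.Opens), IsAffineOpen W ∧ IsAffineOpen V ∧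
      u ∈ V ∧ V ≤ U₀.hom ⁻¹ᵁ W := by
    intro u
    obtain ⟨W, hW, hw, -⟩ := TopologicalSpace.Opens.isBasis_iff_nbhd.mp S.isBasis_affineOpens
      (TopologicalSpace.Opens.mem_top (U₀.hom u))
    obtain ⟨V, hV, hv, eV⟩ := TopologicalSpace.Opens.isBasis_iff_nbhd.mp
      U₀.left.isBasis_affineOpens (show u ∈ U₀.hom ⁻¹ᵁ W from hw)
    exact ⟨W, V, hW, hV, hv, eV⟩
  choose W V hW hV hv eV using key
  let σ : (∐ fun u => (V u : Scheme.{u})) ⟶ U₀.left := Sigma.desc fun u => (V u).ι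
  have hσe : Etale σ := IsZariskiLocalAtSource.sigmaDesc fun u => inferInstance
  have hσs : Surjective σ := by
    refine ⟨fun u => ?_⟩
    refine ⟨Sigma.ι (fun u => (V u : Scheme.{u})) u ⟨u, hv u⟩, ?_⟩
    rw [← Scheme.Hom.comp_apply, Sigma.ι_desc]
    rfl
  let m : Over.mk (σ ≫ U₀.hom) ⟶ U₀ := Over.homMk σ rfl
  refine ⟨↥U₀.left, fun u => (V u : Scheme.{u}), fun u => hV u, σ ≫ U₀.hom,
    (AlgSp.yon S).map m ≫ p₀, ?_, ?_, fun u => ⟨W u, hW u, fun v => ?_⟩⟩
  · exact repWith_comp _ ((AlgSp.repWith_yon_map_iff _ _).2 hσe) hpe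
  · exact repWith_comp _ ((AlgSp.repWith_yon_map_iff _ _).2 hσs) hps
  · rw [← Category.assoc, Sigma.ι_desc]
    exact eV u v.2

end Groth.Agent.S10213
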