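import Groth.Statements.S10214
import Groth.Agent.Lib.AlgSpOpenSub_helper7

set_option autoImplicit false
universe u
open CategoryTheory CategoryTheory.Limits AlgebraicGeometry Topology TopologicalSpace
open AlgSp

namespace Groth.Agent.S10214

/-- Every algebraic space X over a scheme S has a Zariski covering by open subspaces X_i such that each
X_i has a surjective etale map from an affine scheme; moreover the affine schemes may be taken to
map into affine opens of S. -/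
theorem result {S : Scheme.{u}} (X : AlgSp.Space S) :
    ∃ (ι : Type u) (Xi : ι → AlgSp.Space S) (j : ∀ i, Xi i ⟶ X),
      AlgSp.IsZarCover (fun i => (Xi i).obj) (fun i => (j i).hom) ∧
        ∀ i, ∃ (U : Over S) (p : (AlgSp.yon S).obj U ⟶ (Xi i).obj), IsAffine U.left ∧
          AlgSp.RepWith @Etale p ∧ AlgSp.RepWith @Surjective p ∧
          ∃ W : S.Opens, IsAffineOpen W ∧ ∀ v : ↥U.left, U.hom v ∈ W := by
  open Groth.Agent.Lib.AlgSpOpenSub_helper7 Groth.Agent.Lib.AlgSpPoints_helper7 in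
  obtain ⟨U₀, p, hpe, hps⟩ := X.property.atlas
  have H : ∀ u : ↥U₀.left, ∃ (O : U₀.left.Opens) (W : S.Opens), u ∈ O ∧ IsAffineOpen O ∧
      IsAffineOpen W ∧ ∀ v ∈ O, U₀.hom v ∈ W := by
    intro u
    obtain ⟨W, hW, huW, -⟩ := (TopologicalSpace.Opens.isBasis_iff_nbhd.1 S.isBasis_affineOpens)
      (show U₀.hom u ∈ (⊤ : S.Opens) from trivial)
    obtain ⟨O, hO, huO, hOle⟩ := (TopologicalSpace.Opens.isBasis_iff_nbhd.1
      U₀.left.isBasis_affineOpens) (show u ∈ U₀.hom ⁻¹ᵁ W from huW)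
    exact ⟨O, W, huO, hO, hW, fun v hv => hOle hv⟩
  choose O W huO hO hW hOW using H
  let Uu : ↥U₀.left → Over S := fun u => Over.mk ((O u).ι ≫ U₀.hom)
  let au : ∀ u, (AlgSp.yon S).obj (Uu u) ⟶ X.obj := fun u =>
    (AlgSp.yon S).map (Over.homMk (O u).ι rfl : Over.mk ((O u).ι ≫ U₀.hom) ⟶ U₀) ≫ p
  have hau : ∀ u, AlgSp.RepWith @Etale (au u) := fun u => repWith_etale_restrict p hpe (O u)
  have E : ∀ u, ∃ (X' : AlgSp.Space S) (j : X' ⟶ X), AlgSp.RepWith @IsOpenImmersion j.hom ∧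
      Set.range (AlgSp.Points.map j.hom) = Set.range (AlgSp.Points.ofPt (au u)) := fun u =>
    exists_openSubspace X _ (isOpenMap_ofPt_of_etale _ (hau u)).isOpen_range
  choose Xi j hj hr using E
  refine ⟨↥U₀.left, Xi, j, ⟨hj, ?_⟩, ?_⟩
  · intro x
    obtain ⟨u, rfl⟩ := ofPt_surjective p hps x
    refine ⟨u, ?_⟩
    rw [hr u]
    refine ⟨⟨u, huO u⟩, ?_⟩
    rw [ofPt_comp]
    rfl
  · intro u
    obtain ⟨a', ha', hae', hs⟩ := exists_factor_chart (au u) (hau u) (j u).hom (hj u) (hr u).ge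
    refine ⟨Uu u, a', hO u, hae', hs (hr u).le, W u, hW u, fun v => ?_⟩
    exact hOW u v.1 v.2

end Groth.Agent.S10214
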