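import Groth.Statements.S10215
import Groth.Agent.Lib.AlgSpEpi_helper7
import Groth.Agent.Lib.AlgSpPullback_helper7

set_option autoImplicit false
universe u
open CategoryTheory CategoryTheory.Limits AlgebraicGeometry Topology TopologicalSpace
open AlgSp
open Groth.Agent.Lib.AlgSpBasic_helper7 Groth.Agent.Lib.AlgSpPoints_helper7
  Groth.Agent.Lib.AlgSpEpi_helper7 Groth.Agent.Lib.AlgSpPullback_helper7

namespace Groth.Agent.S10215

/-- Let X be an algebraic space over a scheme S and p : Spec K ⟶ X, q : Spec L ⟶ X morphisms from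
spectra of fields over S which determine the same point of |X|, with p a monomorphism. Then q
factors uniquely through p. -/
theorem result {S : Scheme.{u}} (X : AlgSp.Space S) (p q : AlgSp.FieldPt X.obj)
    (h : AlgSp.Points.mk p = AlgSp.Points.mk q) [Mono p.toHom] :
    ∃! c : q.pt ⟶ p.pt, (AlgSp.yon S).map c ≫ p.toHom = q.toHom := by
  have h' : Points.mk (ofHom p.toHom) = Points.mk (ofHom q.toHom) := by
    rw [ofHom_toHom, ofHom_toHom]; exact h
  obtain ⟨Ω, _, w, a, b, hab⟩ := (mk_ofHom_eq_iff _ _).1 h'
  have hP : IsAlgSpace (pullback p.toHom q.toHom) :=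
    isAlgSpace_of_isPullback X.property.diag (IsAlgSpace.yon_obj _) (IsAlgSpace.yon_obj _)
      (IsPullback.of_hasPullback p.toHom q.toHom)
  have hne : Nonempty (Points (pullback p.toHom q.toHom)) :=
    ⟨Points.mk (ofHom (pullback.lift ((yon S).map a) ((yon S).map b) hab))⟩
  have hiso : IsIso (pullback.snd p.toHom q.toHom) :=
    isIso_of_mono_to_field q.str hP (pullback.snd p.toHom q.toHom) hne
  refine ⟨(yon S).preimage (inv (pullback.snd p.toHom q.toHom) ≫ pullback.fst p.toHom q.toHom),
    ?_, ?_⟩
  · change (yon S).map _ ≫ _ = _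
    rw [Functor.map_preimage, Category.assoc, pullback.condition, IsIso.inv_hom_id_assoc]
  · intro c hc
    apply (yon S).map_injective
    rw [Functor.map_preimage]
    rw [← cancel_mono p.toHom, hc, Category.assoc, pullback.condition, IsIso.inv_hom_id_assoc]

end Groth.Agent.S10215
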