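import Groth.Statements.S10216
import Mathlib
import Groth.Agent.Lib.EtNbhd_helper7

set_option autoImplicit false
universe u
open CategoryTheory CategoryTheory.Limits AlgebraicGeometry Topology TopologicalSpace
open AlgSp

namespace Groth.Agent.S10216

/-- Let φ : U ⟶ X be an etale morphism of algebraic spaces over a scheme S, take a geometric point x̄ :
Spec k ⟶ X of X whose image in |X| is x, and let u ∈ |U| with φ(u) = x. Then there is a geometric
point ū : Spec k ⟶ U (with the same field k) lying over u and with φ ∘ ū = x̄. -/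
theorem result {S : Scheme.{u}} {U X : AlgSp.Space S} (φ : U ⟶ X)
    (hφ : AlgSp.IsEtaleMor φ.hom) (xbar : AlgSp.FieldPt X.obj) (hx : xbar.IsGeometric)
    (u : AlgSp.Points U.obj) (hu : AlgSp.Points.map φ.hom u = AlgSp.Points.mk xbar) :
    ∃ ubar : (AlgSp.yon S).obj xbar.pt ⟶ U.obj,
      ubar ≫ φ.hom = xbar.toHom ∧ AlgSp.Points.ofPt ubar (IsLocalRing.closedPoint xbar.K) = u := by
  haveI : IsAlgClosed xbar.K := hx
  obtain ⟨T, a, hae, has⟩ := U.property.atlas
  obtain ⟨t, ht⟩ := Groth.Agent.Lib.AlgSpPoints_helper7.ofPt_surjective a has u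
  have hb : AlgSp.RepWith @Etale (a ≫ φ.hom) := hφ a hae
  have hbt : AlgSp.Points.ofPt (AlgSp.EtOver.mk (a ≫ φ.hom) hb).obj.hom t = AlgSp.Points.mk xbar := by
    show AlgSp.Points.ofPt (a ≫ φ.hom) t = _
    rw [← AlgSp.Points.map_ofPt, ht, hu]
  obtain ⟨ū, hū⟩ := Groth.Agent.Lib.EtNbhd_helper7.exists_lift_of_ofPt_eq xbar
    (AlgSp.EtOver.mk (a ≫ φ.hom) hb) t hbt
  refine ⟨(AlgSp.yon S).map ū.1 ≫ a, ?_, ?_⟩
  · rw [Category.assoc]; exact ū.2
  · rw [Groth.Agent.Lib.AlgSpPoints_helper7.ofPt_comp,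
      @Subsingleton.elim (↥(Spec (CommRingCat.of xbar.K))) _ (IsLocalRing.closedPoint xbar.K)
        (@default (↥(Spec (CommRingCat.of xbar.K))) _)]
    exact (congrArg (AlgSp.Points.ofPt a) hū).trans ht

end Groth.Agent.S10216
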