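import Groth.Statements.S10220
import Mathlib
import Groth.Agent.Lib.EtStalkPt_helper7

set_option autoImplicit false
universe u
open CategoryTheory CategoryTheory.Limits AlgebraicGeometry Topology TopologicalSpace
open AlgSp

namespace Groth.Agent.S10220

/-- Let X be an algebraic space over a scheme S and a : F ⟶ G a map of sheaves of sets on the small
etale site of X. Then a is injective (a monomorphism) if and only if the induced map on stalks F_x̄
→ G_x̄ is injective for every geometric point x̄ of X, and a is surjective (an epimorphism of
sheaves) if and only if all these stalk maps are surjective. -/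
theorem result {S : Scheme.{u}} (X : AlgSp.Space S) {F G : AlgSp.EtSh X.obj (Type (u + 1))} (a : F ⟶ G) :
    (Mono a ↔ ∀ p : AlgSp.FieldPt X.obj, p.IsGeometric →
        Function.Injective ((AlgSp.stalkEtFunctor (Type (u + 1)) p).map a)) ∧
    (Epi a ↔ ∀ p : AlgSp.FieldPt X.obj, p.IsGeometric →
        Function.Surjective ((AlgSp.stalkEtFunctor (Type (u + 1)) p).map a)) := by
  constructor
  · constructor
    · intro hm p hp
      haveI : IsAlgClosed p.K := hp
      haveI := hm
      have : Mono (((Groth.Agent.Lib.EtNbhd_helper7.point X.property p).sheafFiber
        (A := Type (u+1))).map a) := inferInstance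
      exact (mono_iff_injective _).1 this
    · intro h
      haveI : Sheaf.IsLocallyInjective a :=
        Groth.Agent.Lib.EtStalkPt_helper7.isLocallyInjective_of_stalks X.property a.hom
          (fun p _ => h p ‹_›)
      exact Sheaf.mono_of_isLocallyInjective a
  · constructor
    · intro he p hp
      haveI : IsAlgClosed p.K := hp
      haveI := he
      have : Epi (((Groth.Agent.Lib.EtNbhd_helper7.point X.property p).sheafFiber
        (A := Type (u+1))).map a) := inferInstance
      exact (epi_iff_surjective _).1 this
    · intro h
      haveI : Sheaf.IsLocallySurjective a :=
        Groth.Agent.Lib.EtStalkPt_helper7.isLocallySurjective_of_stalks X.property a.hom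
          (fun p _ => h p ‹_›)
      exact (Sheaf.isLocallySurjective_iff_epi a).1 inferInstance

end Groth.Agent.S10220
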