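import Groth.Statements.S10222
import Groth.Agent.Lib.AlgSpReduced_helper7

set_option autoImplicit false
universe u
open CategoryTheory CategoryTheory.Limits AlgebraicGeometry Topology TopologicalSpace
open AlgSp

namespace Groth.Agent.S10222

open Groth.Agent.Lib.AlgSpReduced_helper7 Groth.Agent.Lib.AlgSpPoints_helper7

/-- (1) if and only if (2): an algebraic space X over a scheme S is reduced if and only if at each x ∈
|X| the local ring of X is reduced, the latter meaning that for some scheme U, some representable
etale h_U ⟶ X and some point u of U mapping to x, the local ring of U at u is reduced. (The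
assertions about global sections in the published statement are not part of this row.) -/
theorem result {S : Scheme.{u}} (X : AlgSp.Space S) :
    AlgSp.IsReducedSp X.obj ↔
      ∀ x : AlgSp.Points X.obj, AlgSp.HasAt (fun U u => _root_.IsReduced ↥(U.presheaf.stalk u)) X.obj x := by
  constructor
  · rintro ⟨U, a, hae, has, hU⟩ x
    obtain ⟨u, hu⟩ := ofPt_surjective a has x
    haveI : IsReduced U.left := hU
    exact ⟨U, a, u, hae, hu, inferInstance⟩
  · intro h
    obtain ⟨V, b, hbe, hbs⟩ := X.property.atlas
    refine ⟨V, b, hbe, hbs, ?_⟩
    haveI : ∀ v : ↥V.left, _root_.IsReduced ↥(V.left.presheaf.stalk v) := by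
      intro v
      obtain ⟨U, a, u, hae, hu, hred⟩ := h (Points.ofPt b v)
      have sq := hae.rep.isPullback' b
      haveI h1 : Etale (hae.rep.fst' b).left := hbe.property _ _ _ sq.flip
      haveI h2 : Etale (hae.rep.snd b).left := hae.property_snd b
      obtain ⟨z, hz1, hz2⟩ := exists_of_isPullback sq (Points.ofScheme U u) (Points.ofScheme V v)
        (by rw [← Points.ofPt_eq_map_ofScheme, ← Points.ofPt_eq_map_ofScheme]; exact hu)
      obtain ⟨w, rfl⟩ := ofScheme_surjective _ z
      rw [← Points.ofPt_eq_map_ofScheme, ofPt_yon_map] at hz1 hz2
      have hw1 : (hae.rep.fst' b).left w = u := ofScheme_injective U hz1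
      have hw2 : (hae.rep.snd b).left w = v := ofScheme_injective V hz2
      have hW : _root_.IsReduced ↥((hae.rep.pullback b).left.presheaf.stalk w) :=
        isReduced_stalk_of_etale (hae.rep.fst' b).left w (by rw [hw1]; exact hred)
      have hV := isReduced_stalk_of_flat (hae.rep.snd b).left w hW
      rw [hw2] at hV
      exact hV
    exact isReduced_of_isReduced_stalk V.left

end Groth.Agent.S10222
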