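import Groth.Statements.S10242
import Groth.Agent.Lib.AlgSpReduced_helper7

set_option autoImplicit false
universe u
open CategoryTheory CategoryTheory.Limits AlgebraicGeometry Topology TopologicalSpace
open AlgSp

namespace Groth.Agent.S10242

open Groth.Agent.Lib.AlgSpReduced_helper7

/-- Let X be a reduced algebraic space over a scheme S. Then the ring of global sections of the
structure sheaf of X (on the small etale site) is reduced, and if a global section f satisfies X =
V(f), meaning that its restriction to every scheme U etale over X has empty non-vanishing locus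
D(f|_U), then f = 0. -/
theorem result {S : Scheme.{u}} (X : AlgSp.Space S) (hX : AlgSp.IsReducedSp X.obj) :
    _root_.IsReduced ↥(AlgSp.gsectEt (AlgSp.OEt X.obj)) ∧
      ∀ f : ↥(AlgSp.gsectEt (AlgSp.OEt X.obj)),
        (∀ E : AlgSp.EtOver X.obj,
            E.obj.left.left.basicOpen ((limit.π (AlgSp.OEt X.obj).obj (Opposite.op E)) f).down = ⊥) →
          f = 0 := by
  have hred : ∀ E : AlgSp.EtOver X.obj, IsReduced E.obj.left.left := fun E =>
    isReduced_chart_of_isReducedSp X.property hX E.obj.hom E.property
  have hzero : ∀ f : ↥(AlgSp.gsectEt (AlgSp.OEt X.obj)),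
      (∀ E : AlgSp.EtOver X.obj, (limit.π (AlgSp.OEt X.obj).obj (Opposite.op E)) f = 0) → f = 0 := by
    intro f hf
    apply Concrete.limit_ext
    rintro ⟨E⟩
    rw [hf E, map_zero]
  refine ⟨⟨fun f hf => ?_⟩, fun f hf => ?_⟩
  · apply hzero
    intro E
    haveI := hred E
    obtain ⟨n, hn⟩ := hf
    have h1 : ((limit.π (AlgSp.OEt X.obj).obj (Opposite.op E)) f) ^ n = 0 := by
      rw [← map_pow, hn, map_zero]
    obtain ⟨g, hg⟩ : ∃ g : Γ(E.obj.left.left, ⊤),
        g = ((limit.π (AlgSp.OEt X.obj).obj (Opposite.op E)) f).down := ⟨_, rfl⟩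
    have h2 : g ^ n = 0 := by
      rw [hg]
      exact congrArg ULift.down h1
    have h3 : g = 0 := IsNilpotent.eq_zero ⟨n, h2⟩
    exact ULift.ext _ _ (hg ▸ h3)
  · apply hzero
    intro E
    haveI := hred E
    have h3 := (basicOpen_eq_bot_iff _).1 (hf E)
    exact ULift.ext _ _ h3

end Groth.Agent.S10242
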