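import Groth.Statements.S10244
import Groth.Agent.Lib.AlgSpOpenSub_helper7

set_option autoImplicit false
universe u
open CategoryTheory CategoryTheory.Limits AlgebraicGeometry Topology TopologicalSpace
open AlgSp

namespace Groth.Agent.S10244

/-- Let X be an algebraic space over a scheme S and X_i ⟶ X a family of open subspaces. Then the X_i
form a Zariski covering of X in the sense that for every scheme T and every h_T ⟶ X the open
subschemes T ×_X X_i cover T, if and only if |X| is the union of the |X_i|. -/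
theorem result {S : Scheme.{u}} (X : AlgSp.Space S) {ι : Type u} (Xi : ι → AlgSp.Space S)
    (j : ∀ i, Xi i ⟶ X) (hj : ∀ i, AlgSp.RepWith @IsOpenImmersion (j i).hom) :
    AlgSp.IsZarCover (fun i => (Xi i).obj) (fun i => (j i).hom) ↔
      ∀ (T : Over S) (g : (AlgSp.yon S).obj T ⟶ X.obj) (t : ↥T.left),
        ∃ (i : ι) (P : Over S) (fst : (AlgSp.yon S).obj P ⟶ (Xi i).obj) (snd : P ⟶ T),
          IsPullback fst ((AlgSp.yon S).map snd) (j i).hom g ∧ t ∈ Set.range snd.left := by
  open Groth.Agent.Lib.AlgSpPoints_helper7 in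
  constructor
  · rintro ⟨-, hcov⟩ T g t
    obtain ⟨i, xi, hxi⟩ := hcov (AlgSp.Points.ofPt g t)
    have sq := (hj i).rep.isPullback g
    rw [AlgSp.Points.ofPt_eq_map_ofScheme g] at hxi
    obtain ⟨z, -, hz2⟩ := exists_of_isPullback sq xi _ hxi
    obtain ⟨v, rfl⟩ := (AlgSp.Points.schemeEquiv ((hj i).rep.pullback g)).surjective z
    refine ⟨i, (hj i).rep.pullback g, (hj i).rep.fst g, (hj i).rep.snd g, sq, v, ?_⟩
    apply (AlgSp.Points.schemeEquiv T).injective
    change AlgSp.Points.ofScheme T _ = AlgSp.Points.ofScheme T _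
    rw [← hz2]
    change _ = AlgSp.Points.map _ (AlgSp.Points.ofScheme _ v)
    rw [← AlgSp.Points.ofPt_eq_map_ofScheme, ofPt_yon_map]
  · intro H
    refine ⟨hj, fun x => ?_⟩
    obtain ⟨U, p, -, hps⟩ := X.property.atlas
    obtain ⟨u, rfl⟩ := ofPt_surjective p hps x
    obtain ⟨i, P, fst, snd, sq, v, hv⟩ := H U p u
    exact ⟨i, AlgSp.Points.ofPt fst v, by rw [AlgSp.Points.map_ofPt, sq.w, ofPt_comp, hv]⟩

end Groth.Agent.S10244
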