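import Groth.Statements.S10248
import Groth.Agent.Lib.AlgSpReduced_helper7
import Groth.Agent.Lib.EtDim1_helper8

set_option autoImplicit false
universe u
open CategoryTheory CategoryTheory.Limits AlgebraicGeometry Topology TopologicalSpace
open AlgSp

namespace Groth.Agent.S10248

open Groth.Agent.Lib.AlgSpReduced_helper7 Groth.Agent.Lib.AlgSpPoints_helper7

/-- (1) ⇔ (2): let X be an algebraic space over a scheme S, x ∈ |X| and d ∈ {0, 1, 2, …, ∞}. The local
ring of X at x has dimension d in the sense that some etale chart h_U ⟶ X from a scheme U and some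
point u of U over x have a local ring of Krull dimension d, if and only if for every scheme U, every
representable etale h_U ⟶ X and every point u of U mapping to x the local ring of U at u has Krull
dimension d. In particular the dimension of the local ring of an etale chart at a point over x does
not depend on the chart. -/
theorem result {S : Scheme.{u}} (X : AlgSp.Space S)
    (x : AlgSp.Points X.obj) (d : WithBot ℕ∞) :
    AlgSp.HasAt (fun U u => ringKrullDim ↥(U.presheaf.stalk u) = d) X.obj x ↔
      ∀ (U : Over S) (a : (AlgSp.yon S).obj U ⟶ X.obj) (u : ↥U.left),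
        AlgSp.RepWith @Etale a → AlgSp.Points.ofPt a u = x → ringKrullDim ↥(U.left.presheaf.stalk u) = d := by
  constructor
  · rintro ⟨U, a, u, hae, hu, hd⟩ V b v hbe hv
    have sq := hae.rep.isPullback' b
    haveI h1 : Etale (hae.rep.fst' b).left := hbe.property _ _ _ sq.flip
    haveI h2 : Etale (hae.rep.snd b).left := hae.property_snd b
    obtain ⟨z, hz1, hz2⟩ := exists_of_isPullback sq (Points.ofScheme U u) (Points.ofScheme V v)
      (by rw [← Points.ofPt_eq_map_ofScheme, ← Points.ofPt_eq_map_ofScheme, hu, hv])
    obtain ⟨w, rfl⟩ := ofScheme_surjective _ z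
    rw [← Points.ofPt_eq_map_ofScheme, ofPt_yon_map] at hz1 hz2
    have hw1 : (hae.rep.fst' b).left w = u := ofScheme_injective U hz1
    have hw2 : (hae.rep.snd b).left w = v := ofScheme_injective V hz2
    rw [AlgebraicGeometry.ringKrullDim_stalk_eq_coheight] at hd ⊢
    rw [← hd, ← hw1, ← hw2, EtDimH8.coheight_eq_of_etale, EtDimH8.coheight_eq_of_etale]
  · intro h
    obtain ⟨V, b, hbe, hbs⟩ := X.property.atlas
    obtain ⟨v, hv⟩ := ofPt_surjective b hbs x
    exact ⟨V, b, v, hbe, hv, h V b v hbe hv⟩

end Groth.Agent.S10248
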