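import Groth.Statements.S1146
import Groth.Agent.Lib.EtDim2_helper8

set_option autoImplicit false
open CategoryTheory CategoryTheory.Limits AlgebraicGeometry Opposite
universe u
open Desc

namespace Groth.Agent.S1146

/-- Let f : U ⟶ V be an etale morphism of schemes and u a point of U. Then the local dimension of U at u
(the infimum of the Krull dimensions of open neighbourhoods) equals the local dimension of V at
f(u). -/
theorem result {U V : Scheme.{u}} (f : U ⟶ V) [Etale f] (u : U) :
    FlatMor.localDim U u = FlatMor.localDim V (f.base u) := by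
  unfold FlatMor.localDim
  apply le_antisymm
  · refine le_iInf fun V' => ?_
    refine (iInf_le _ ⟨f ⁻¹ᵁ V'.1, V'.2⟩).trans ?_
    rw [EtDimH8.topDim_open_eq_iSup, EtDimH8.topDim_open_eq_iSup]
    refine iSup_le fun w => ?_
    rw [← EtDimH8.coheight_eq_of_etale f w.1]
    exact le_iSup (fun v : ↥(V'.1 : Set V) => ((Order.coheight (v : V) : ℕ∞) : WithBot ℕ∞))
      ⟨f w.1, w.2⟩
  · refine le_iInf fun U' => ?_
    have hopen : IsOpen (f '' (U'.1 : Set U)) := f.isOpenMap _ U'.1.2
    refine (iInf_le _ ⟨⟨f '' (U'.1 : Set U), hopen⟩, ⟨u, U'.2, rfl⟩⟩).trans ?_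
    rw [EtDimH8.topDim_open_eq_iSup, EtDimH8.topDim_open_eq_iSup]
    refine iSup_le fun v => ?_
    obtain ⟨w, hw, hwv⟩ := v.2
    have h1 : Order.coheight (v : V) = Order.coheight w := by
      rw [← hwv]; exact EtDimH8.coheight_eq_of_etale f w
    rw [h1]
    exact le_iSup (fun w : ↥(U'.1 : Set U) => ((Order.coheight (w : U) : ℕ∞) : WithBot ℕ∞))
      ⟨w, hw⟩

end Groth.Agent.S1146
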