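import Groth.Statements.S10249
import Groth.Agent.Lib.AlgSpReduced_helper7
import Groth.Agent.Lib.EtDim1_helper8
import Groth.Agent.S1146

set_option autoImplicit false
universe u
open CategoryTheory CategoryTheory.Limits AlgebraicGeometry Topology TopologicalSpace
open AlgSp

namespace Groth.Agent.S10249

open Groth.Agent.Lib.AlgSpReduced_helper7 Groth.Agent.Lib.AlgSpPoints_helper7

/-- Let X and Y be algebraic spaces over a scheme S, f : X ⟶ Y an etale morphism and x ∈ |X| with image
y ∈ |Y|. Then (1) X at x and Y at y have the same dimension: for every d, some etale chart h_U ⟶ X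
from a scheme U and some point u of U over x have local dimension d (of the topological space U at
u) if and only if the same holds for Y at y; and (2) the local rings of X at x and of Y at y have
the same Krull dimension, in the same some-chart sense with the Krull dimension of the local ring of
U at u. -/
theorem result {S : Scheme.{u}} {X Y : AlgSp.Space S} (f : X ⟶ Y)
    (hf : AlgSp.IsEtaleMor f.hom) (x : AlgSp.Points X.obj) :
    (∀ d : WithBot ℕ∞,
        AlgSp.HasAt (fun U u => FlatMor.localDim ↥U u = d) X.obj x ↔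
          AlgSp.HasAt (fun U u => FlatMor.localDim ↥U u = d) Y.obj (AlgSp.Points.map f.hom x)) ∧
    (∀ d : WithBot ℕ∞,
        AlgSp.HasAt (fun U u => ringKrullDim ↥(U.presheaf.stalk u) = d) X.obj x ↔
          AlgSp.HasAt (fun U u => ringKrullDim ↥(U.presheaf.stalk u) = d) Y.obj (AlgSp.Points.map f.hom x)) := by
  have key : ∀ (Q : ∀ U : Scheme.{u}, ↥U → Prop)
      (hQ : ∀ {W U : Scheme.{u}} (g : W ⟶ U) [Etale g] (w : ↥W), Q W w ↔ Q U (g w)),
      AlgSp.HasAt Q X.obj x ↔ AlgSp.HasAt Q Y.obj (AlgSp.Points.map f.hom x) := by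
    intro Q hQ
    constructor
    · rintro ⟨U, a, u, hae, hu, hq⟩
      exact ⟨U, a ≫ f.hom, u, hf a hae, by rw [← hu]; rfl, hq⟩
    · rintro ⟨V, b, v, hbe, hv, hq⟩
      obtain ⟨U, a, hae, has⟩ := X.property.atlas
      obtain ⟨u, hu⟩ := ofPt_surjective a has x
      have hce : RepWith @Etale (a ≫ f.hom) := hf a hae
      have sq := hce.rep.isPullback' b
      haveI h1 : Etale (hce.rep.fst' b).left := hbe.property _ _ _ sq.flip
      haveI h2 : Etale (hce.rep.snd b).left := hce.property_snd b
      obtain ⟨z, hz1, hz2⟩ := exists_of_isPullback sq (Points.ofScheme U u) (Points.ofScheme V v)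
        (by rw [← Points.ofPt_eq_map_ofScheme, ← Points.ofPt_eq_map_ofScheme, hv, ← hu]; rfl)
      obtain ⟨w, rfl⟩ := ofScheme_surjective _ z
      rw [← Points.ofPt_eq_map_ofScheme, ofPt_yon_map] at hz1 hz2
      have hw1 : (hce.rep.fst' b).left w = u := ofScheme_injective U hz1
      have hw2 : (hce.rep.snd b).left w = v := ofScheme_injective V hz2
      refine ⟨U, a, u, hae, hu, ?_⟩
      rw [← hw1, ← hQ (hce.rep.fst' b).left w, hQ (hce.rep.snd b).left w, hw2]
      exact hq
  constructor
  · intro d
    apply key (fun U u => FlatMor.localDim ↥U u = d)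
    intro W U g _ w
    rw [Groth.Agent.S1146.result g w]
  · intro d
    apply key (fun U u => ringKrullDim ↥(U.presheaf.stalk u) = d)
    intro W U g _ w
    rw [AlgebraicGeometry.ringKrullDim_stalk_eq_coheight,
      AlgebraicGeometry.ringKrullDim_stalk_eq_coheight, EtDimH8.coheight_eq_of_etale]

end Groth.Agent.S10249
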