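import Groth.Statements.S1025
import Groth.Agent.Lib.PBCLoc2_helper2

set_option autoImplicit false
universe u
open CategoryTheory AlgebraicGeometry
open Perf

namespace Groth.Agent.S1025

/-- Let f : X ⟶ S be proper and of finite presentation and F an O_X-module of finite presentation which
is flat over S. For each i the function s ↦ dim_{κ(s)} Hⁱ(X_s, F_s) (cohomology of the pullback of F
to the scheme-theoretic fibre) is upper semicontinuous: for every n the set of points where it is <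
n is open. -/
theorem result {X S : Scheme.{u}} (f : X ⟶ S) [IsProper f] [LocallyOfFinitePresentation f]
    (F : X.Modules) (hF : CohB1.IsFP F) (hflat : FlatMod.IsFlatOver f F) (i n : ℕ) :
    IsOpen {s : S | PerfAux.betti f F s i < n} := by
  haveI : SheafOfModules.IsFinitePresentation (R := X.ringCatSheaf) F := hF
  haveI hq : Coh.IsQCoh F := inferInstanceAs (F.IsQuasicoherent)
  rw [isOpen_iff_mem_nhds]
  intro s hs
  obtain ⟨_, ⟨V, hV : IsAffineOpen V, rfl⟩, hsV, -⟩ :=
    (S.isBasis_affineOpens).exists_subset_of_mem_open (Set.mem_univ s) isOpen_univ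
  haveI : IsAffine (V : Scheme.{u}) := hV
  obtain ⟨P, hP, -, -, hrk, -, -⟩ := Groth.Agent.Lib.PBCH2.locPackage' f F hF hflat V hV
  have hP' : ∀ i, Module.Finite Γ((V : Scheme.{u}), ⊤) (P.X i) ∧
      Module.Projective Γ((V : Scheme.{u}), ⊤) (P.X i) := fun i =>
    ⟨(hP i).1, haveI := (hP i).2; inferInstance⟩
  have husc := Groth.Agent.Lib.PBCH2.dRank_usc' P hP' (-(i : ℤ))
  have h0 : CohIII.dRank P (-(i : ℤ)) ((V : Scheme.{u}).toSpecΓ ⟨s, hsV⟩) < n := by
    rw [← hrk i s hsV]
    exact hs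
  have hev := husc _ n h0
  obtain ⟨O, hO, hOopen, hx₀O⟩ := eventually_nhds_iff.mp hev
  let O' : (Spec (CommRingCat.of Γ((V : Scheme.{u}), ⊤))).Opens := ⟨O, hOopen⟩
  let U : S.Opens := (Scheme.Opens.ι V) ''ᵁ ((V : Scheme.{u}).toSpecΓ ⁻¹ᵁ O')
  refine Filter.mem_of_superset (U.2.mem_nhds ⟨⟨s, hsV⟩, hx₀O, rfl⟩) ?_
  rintro _ ⟨y', hy', rfl⟩
  have h1 := hO _ hy'
  show PerfAux.betti f F _ i < n
  exact lt_of_eq_of_lt (hrk i y'.1 y'.2) h1

end Groth.Agent.S1025
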