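import Groth.Statements.S10250
import Groth.Agent.Lib.ResTrdeg3_helper8
import Groth.Agent.Lib.DimGenFib_helper8

set_option autoImplicit false
universe u
open CategoryTheory CategoryTheory.Limits AlgebraicGeometry Topology TopologicalSpace
open AlgSp

namespace Groth.Agent.S10250

/-- Let f : X ⟶ Y be an etale and surjective morphism of algebraic spaces over a scheme S. Then X and Y
have the same dimension (the dimension of an algebraic space being the supremum of the Krull
dimensions of the schemes etale over it). -/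
theorem result {S : Scheme.{u}} {X Y : AlgSp.Space S} (f : X ⟶ Y)
    (hf : AlgSp.IsEtaleMor f.hom) (hs : AlgSp.IsSurjectiveMor f.hom) :
    AlgSp.dim X.obj = AlgSp.dim Y.obj := by
  unfold AlgSp.dim
  apply le_antisymm
  · refine iSup_le fun U => iSup_le fun a => iSup_le fun hae => ?_
    exact le_iSup_of_le U (le_iSup_of_le (a ≫ f.hom) (le_iSup_of_le (hf a hae) le_rfl))
  · refine iSup_le fun V => iSup_le fun b => iSup_le fun hbe => ?_
    rw [Groth.Agent.DimGenFibH8.topDim_eq_krullDim, Order.krullDim_eq_iSup_coheight]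
    refine iSup_le fun v => ?_
    obtain ⟨x, hx⟩ := hs (AlgSp.Points.ofPt b v)
    obtain ⟨U, a, u, hae, hu⟩ := ResTrdegH8.exists_chart X x
    obtain ⟨P, p, h'', w, hp, hpa, cm, hw1, hw2, hwx⟩ :=
      ResTrdegH8.exists_chart_over f.hom a hae u b hbe v (by rw [hu, hx])
    haveI := hp
    have hh'' : Etale h''.left := by
      have h1 : AlgSp.RepWith @Etale (((AlgSp.yon S).map p ≫ a) ≫ f.hom) := hf _ hpa
      rw [cm] at h1
      have sq := hbe.rep.isPullback' ((AlgSp.yon S).map h'' ≫ b)
      have h2 : Etale (hbe.rep.snd ((AlgSp.yon S).map h'' ≫ b)).left :=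
        hbe.property_snd _
      have h3 : Etale (hbe.rep.fst' ((AlgSp.yon S).map h'' ≫ b)).left :=
        h1.property _ _ _ sq.flip
      -- section of the projection
      have hi : (AlgSp.yon S).map h'' ≫ b = (AlgSp.yon S).map (𝟙 P) ≫ ((AlgSp.yon S).map h'' ≫ b) := by
        rw [(AlgSp.yon S).map_id, Category.id_comp]
      have s1 : hbe.rep.lift' h'' (𝟙 P) hi ≫ hbe.rep.fst' _ = h'' := hbe.rep.lift'_fst _ _ hi
      have s2 : hbe.rep.lift' h'' (𝟙 P) hi ≫ hbe.rep.snd _ = 𝟙 P := hbe.rep.lift'_snd _ _ hi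
      have s2' : (hbe.rep.lift' h'' (𝟙 P) hi).left ≫ (hbe.rep.snd ((AlgSp.yon S).map h'' ≫ b)).left
          = 𝟙 P.left := by rw [← Over.comp_left, s2, Over.id_left]
      haveI := h2
      haveI := h3
      haveI : Etale ((hbe.rep.lift' h'' (𝟙 P) hi).left ≫
          (hbe.rep.snd ((AlgSp.yon S).map h'' ≫ b)).left) := by rw [s2']; infer_instance
      haveI : Etale (hbe.rep.lift' h'' (𝟙 P) hi).left :=
        Etale.of_comp _ (hbe.rep.snd ((AlgSp.yon S).map h'' ≫ b)).left
      have : h''.left = (hbe.rep.lift' h'' (𝟙 P) hi).left ≫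
          (hbe.rep.fst' ((AlgSp.yon S).map h'' ≫ b)).left := by
        rw [← Over.comp_left, s1]
      rw [this]
      infer_instance
    haveI := hh''
    have h3 : Order.coheight v = Order.coheight u := by
      rw [← hw1, ← hw2, EtDimH8.coheight_eq_of_etale, EtDimH8.coheight_eq_of_etale]
    rw [h3]
    have h4 : ((Order.coheight u : ℕ∞) : WithBot ℕ∞) ≤ topologicalKrullDim ↥U.left := by
      rw [Groth.Agent.DimGenFibH8.topDim_eq_krullDim]
      exact Order.coheight_le_krullDim u
    exact h4.trans (le_iSup_of_le U (le_iSup_of_le a (le_iSup_of_le hae le_rfl)))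

end Groth.Agent.S10250
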