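import Groth.Statements.S10256
import Mathlib
import Groth.Agent.Lib.EtStalkSupp_helper7

set_option autoImplicit false
universe u
open CategoryTheory CategoryTheory.Limits AlgebraicGeometry Topology TopologicalSpace
open AlgSp

namespace Groth.Agent.S10256

/-- Let X be an algebraic space over a scheme S, F an abelian sheaf on the small etale site of X and x ∈
|X|. Then x lies in the support of F, in the sense that the stalk F_x̄ is nonzero for some geometric
point x̄ over x, if and only if x is the image of a point u of some U etale over X lying in the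
support of some section σ ∈ F(U), i.e. such that σ does not restrict to zero on any V ⟶ U whose
image contains u. (The published definition of the support allows any, equivalently some, geometric
point over x; this row uses the existential form and does not assert that the two readings agree.) -/
theorem result {S : Scheme.{u}} (X : AlgSp.Space S) (F : AlgSp.AbEt X.obj)
    (x : AlgSp.Points X.obj) :
    (∃ p : AlgSp.FieldPt X.obj, p.IsGeometric ∧ AlgSp.Points.mk p = x ∧ ¬ IsZero (AlgSp.stalkEt p F)) ↔
      ∃ (U : AlgSp.EtOver X.obj) (σ : ↥(F.obj.obj (Opposite.op U))) (u : ↥U.obj.left.left),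
        AlgSp.Points.ofPt U.obj.hom u = x ∧
          ∀ (V : AlgSp.EtOver X.obj) (φ : V ⟶ U), (F.obj.map φ.op).hom σ = 0 →
            u ∉ Set.range (fun v => φ.hom.left.left v) := by
  constructor
  · rintro ⟨p, hp, hx, hF⟩
    haveI : IsAlgClosed p.K := hp
    have hne : ∃ τ : ↥((Groth.Agent.Lib.EtNbhd_helper7.point X.property p).presheafFiber.obj F.obj),
        τ ≠ 0 := by
      by_contra hcon
      push_neg at hcon
      apply hF
      have hs : Subsingleton
          ↥((Groth.Agent.Lib.EtNbhd_helper7.point X.property p).presheafFiber.obj F.obj) :=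
        ⟨fun a b => (hcon a).trans (hcon b).symm⟩
      exact @AddCommGrpCat.isZero_of_subsingleton
        ((Groth.Agent.Lib.EtNbhd_helper7.point X.property p).presheafFiber.obj F.obj) hs
    obtain ⟨τ, hτ⟩ := hne
    obtain ⟨U, ū, σ, rfl⟩ :=
      (Groth.Agent.Lib.EtNbhd_helper7.point X.property p).toPresheafFiber_jointly_surjective τ
    refine ⟨U, σ, ū.1.left (default : ↥(Spec (CommRingCat.of p.K))),
      (Groth.Agent.Lib.EtStalkSupp_helper7.ofPt_lift p U ū).trans hx, ?_⟩
    rintro V φ hφ ⟨v, hv⟩
    obtain ⟨l', hl', -⟩ := Groth.Agent.Lib.EtNbhd_helper7.exists_lift_of_map φ ū v hv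
    apply hτ
    rw [← hl', ← Groth.Agent.Lib.EtStalkSupp_helper7.germ_restrict, hφ]
    exact map_zero _
  · rintro ⟨U, σ, u, hu, h⟩
    obtain ⟨p, hp, ū, hū⟩ := Groth.Agent.Lib.EtStalkPt_helper7.exists_geometric_lift U u
    haveI := hp
    refine ⟨p, hp, ?_, ?_⟩
    · rw [← hu, ← hū]
      exact (Groth.Agent.Lib.EtStalkSupp_helper7.ofPt_lift p U ū).symm
    · intro hz
      have hs : Subsingleton
          ↥((Groth.Agent.Lib.EtNbhd_helper7.point X.property p).presheafFiber.obj F.obj) :=
        AddCommGrpCat.subsingleton_of_isZero hz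
      have h0 : (Groth.Agent.Lib.EtNbhd_helper7.point X.property p).toPresheafFiber U ū F.obj σ = 0 :=
        hs.elim _ _
      obtain ⟨V, g, y, hy, heq⟩ :=
        (Groth.Agent.Lib.EtStalkSupp_helper7.germ_eq_zero_iff X.property p F U ū σ).1 h0
      refine h V g heq ?_
      rw [← hū]
      exact Groth.Agent.Lib.EtStalkPt_helper7.mem_range_of_map_eq g y ū hy

end Groth.Agent.S10256
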