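import Groth.Statements.S10262
import Groth.Agent.Lib.AlgSpUnram_helper7

set_option autoImplicit false
universe u
open CategoryTheory CategoryTheory.Limits AlgebraicGeometry
open AlgSp

namespace Groth.Agent.S10262

/-- (1) an unramified morphism of algebraic spaces has diagonal an open immersion; (2) a morphism
locally of finite type whose diagonal is an open immersion is unramified. -/
theorem result {S : Scheme.{u}} {X Y : AlgSp.Space S} (f : X ⟶ Y) :
    (AlgSp.LocP (@LocallyOfFiniteType ⊓ @FormallyUnramified) f.hom →
      AlgSp.RepWith @IsOpenImmersion (pullback.diagonal f.hom)) ∧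
    (AlgSp.LocP @LocallyOfFiniteType f.hom → AlgSp.RepWith @IsOpenImmersion (pullback.diagonal f.hom) →
      AlgSp.LocP (@LocallyOfFiniteType ⊓ @FormallyUnramified) f.hom) := by
  exact ⟨fun h => Groth.Agent.Lib.AlgSpUnram_helper7.repWith_isOpenImmersion_diagonal X.property Y.property f.hom h,
    fun h1 h2 => Groth.Agent.Lib.AlgSpUnram_helper7.locP_unramified_of_diagonal X.property Y.property f.hom h1 h2⟩

end Groth.Agent.S10262
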