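import Groth.Statements.S10267
import Groth.Agent.Lib.AlgSpGlue2_helper7

set_option autoImplicit false
universe u
open CategoryTheory CategoryTheory.Limits AlgebraicGeometry
open AlgSp

namespace Groth.Agent.S10267

/-- (1) ⇔ (2): a morphism of algebraic spaces is integral (resp. finite), tested on affine schemes over
the target, if and only if it is representable with integral (resp. finite) base changes to all
schemes. -/
theorem result {S : Scheme.{u}} {X Y : AlgSp.Space S} (f : X ⟶ Y) :
    (AlgSp.IsIntegralMor f.hom ↔ AlgSp.RepWith @IsIntegralHom f.hom) ∧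
    (AlgSp.IsFiniteMor f.hom ↔ AlgSp.RepWith @IsFinite f.hom) := by
  refine ⟨⟨fun hf => ?_, fun hf => ?_⟩, ⟨fun hf => ?_, fun hf => ?_⟩⟩
  · apply Groth.Agent.Lib.AlgSpGlue2H7.repWith_of_affine_local
    intro Z hZ g
    obtain ⟨W, i, fst, sq, -, hi⟩ := hf hZ g
    exact ⟨W, i, fst, sq, hi⟩
  · intro Z hZ g
    have hi : IsIntegralHom (hf.rep.snd g).left := hf.property_snd g
    haveI : IsAffineHom (hf.rep.snd g).left := inferInstance
    haveI := hZ
    exact ⟨_, hf.rep.snd g, hf.rep.fst g, hf.rep.isPullback g,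
      isAffine_of_isAffineHom (hf.rep.snd g).left, hi⟩
  · apply Groth.Agent.Lib.AlgSpGlue2H7.repWith_of_affine_local
    intro Z hZ g
    obtain ⟨W, i, fst, sq, -, hi⟩ := hf hZ g
    exact ⟨W, i, fst, sq, hi⟩
  · intro Z hZ g
    have hi : IsFinite (hf.rep.snd g).left := hf.property_snd g
    haveI : IsAffineHom (hf.rep.snd g).left := inferInstance
    haveI := hZ
    exact ⟨_, hf.rep.snd g, hf.rep.fst g, hf.rep.isPullback g,
      isAffine_of_isAffineHom (hf.rep.snd g).left, hi⟩

end Groth.Agent.S10267
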