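import Groth.Statements.S10269
import Groth.Agent.Lib.AlgSpLocP5_helper7

set_option autoImplicit false
universe u
open CategoryTheory CategoryTheory.Limits AlgebraicGeometry
open AlgSp

namespace Groth.Agent.S10269

/-- A finite morphism of algebraic spaces is integral; an integral morphism locally of finite type is
finite. -/
theorem result {S : Scheme.{u}} {X Y : AlgSp.Space S} (f : X ⟶ Y) :
    (AlgSp.IsFiniteMor f.hom → AlgSp.IsIntegralMor f.hom) ∧
    (AlgSp.IsIntegralMor f.hom → AlgSp.LocP @LocallyOfFiniteType f.hom → AlgSp.IsFiniteMor f.hom) := by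
  open Groth.Agent.Lib.AlgSpLocP4_helper7 Groth.Agent.Lib.AlgSpLocP5_helper7
    Groth.Agent.Lib.AlgSpProper_helper7 Groth.Agent.Lib.AlgSpPullback_helper7
    Groth.Agent.Lib.AlgSpUniv_helper7 Groth.Agent.Lib.AlgSpQC_helper7 in
  constructor
  · intro h Z hZ g
    obtain ⟨W, i, fst, sq, hW, hi⟩ := h hZ g
    exact ⟨W, i, fst, sq, hW, inferInstance⟩
  · intro h hl Z hZ g
    obtain ⟨W, i, fst, sq, hW, hi⟩ := h hZ g
    refine ⟨W, i, fst, sq, hW, ?_⟩
    have h1 : LocP @LocallyOfFiniteType ((yon S).map i) :=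
      locP_baseChange etLocal_locallyOfFiniteType X.property Y.property (IsAlgSpace.yon_obj Z)
        f.hom g fst _ sq hl
    have : LocallyOfFiniteType i.left := locP_yon_map h1
    rw [IsFinite.iff_isIntegralHom_and_locallyOfFiniteType]
    exact ⟨hi, this⟩

end Groth.Agent.S10269
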