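import Groth.Statements.S10272
import Groth.Agent.Lib.AlgSpAffine_helper7

set_option autoImplicit false
universe u
open CategoryTheory CategoryTheory.Limits AlgebraicGeometry
open AlgSp

namespace Groth.Agent.S10272

/-- If g is separated and the composite of f and g is finite (resp. integral) then f is finite (resp.
integral). -/
theorem result {S : Scheme.{u}} {X Y Z : AlgSp.Space S} (f : X ⟶ Y) (g : Y ⟶ Z)
    (hg : AlgSp.IsSeparatedMor g.hom) :
    (AlgSp.IsFiniteMor (f ≫ g).hom → AlgSp.IsFiniteMor f.hom) ∧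
    (AlgSp.IsIntegralMor (f ≫ g).hom → AlgSp.IsIntegralMor f.hom) := by
  open Groth.Agent.Lib.AlgSpAffine_helper7 in
  constructor
  · intro h Z hZ t
    have h' : AlgSp.IsFiniteMor (f.hom ≫ g.hom) := h
    obtain ⟨W, i, fst, sq, hW, hi⟩ := exists_affine_pullback_of_comp f.hom g.hom hg @IsFinite
      (fun _ _ _ j i hj hi => by
        have : IsClosedImmersion j := hj
        have : IsFinite i := hi
        exact (inferInstance : IsFinite (j ≫ i))) t (by
        obtain ⟨W, i, fst, sq, hW, hi⟩ := h' hZ (t ≫ g.hom)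
        exact ⟨W, i, fst, sq, hW, hi⟩)
    exact ⟨W, i, fst, sq, hW, hi⟩
  · intro h Z hZ t
    have h' : AlgSp.IsIntegralMor (f.hom ≫ g.hom) := h
    obtain ⟨W, i, fst, sq, hW, hi⟩ := exists_affine_pullback_of_comp f.hom g.hom hg @IsIntegralHom
      (fun _ _ _ j i hj hi => by
        have : IsClosedImmersion j := hj
        have : IsIntegralHom i := hi
        exact (inferInstance : IsIntegralHom (j ≫ i))) t (by
        obtain ⟨W, i, fst, sq, hW, hi⟩ := h' hZ (t ≫ g.hom)
        exact ⟨W, i, fst, sq, hW, hi⟩)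
    exact ⟨W, i, fst, sq, hW, hi⟩

end Groth.Agent.S10272
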