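import Groth.Statements.S10274
import Groth.Agent.Lib.AlgSpLocP2_helper7

set_option autoImplicit false
universe u
open CategoryTheory CategoryTheory.Limits AlgebraicGeometry
open AlgSp

namespace Groth.Agent.S10274

/-- (4) ⇒ (1): properness of a morphism of algebraic spaces descends along a surjective etale base
change from a scheme. -/
theorem result {S : Scheme.{u}} {X Y : AlgSp.Space S} (f : X ⟶ Y) (V : Over S)
    (p : (AlgSp.yon S).obj V ⟶ Y.obj) (hp : AlgSp.RepWith @Etale p) (hps : AlgSp.RepWith @Surjective p)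
    {P : AlgSp.Sp S} (fst : P ⟶ X.obj) (snd : P ⟶ (AlgSp.yon S).obj V) (sq : IsPullback fst snd f.hom p)
    (h : AlgSp.IsProperMor snd) : AlgSp.IsProperMor f.hom := by
  open Groth.Agent.Lib.AlgSpLocP2_helper7 Groth.Agent.Lib.AlgSpDescent_helper7
    Groth.Agent.Lib.AlgSpDescent2_helper7 Groth.Agent.Lib.AlgSpQC2_helper7
    Groth.Agent.Lib.AlgSpPoints_helper7 Groth.Agent.Lib.AlgSpUniv_helper7
    Groth.Agent.Lib.AlgSpTop_helper7 in
  obtain ⟨h1, ⟨h2, h3⟩, h4⟩ := h
  refine ⟨repWith_diagonal_of_chart _ descendsEtale_isClosedImmersion X.property Y.property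
      f.hom p hp hps fst snd sq h1,
    ⟨locP_of_chart _ (descendsEtale_of_descendsAlong _) f.hom p hp hps fst snd sq h2, ?_⟩,
    isUnivClosedMor_of_chart Y.property f.hom p hp hps sq h4⟩
  exact isQuasiCompactMor_of_univOpen_baseChange X.property Y.property.diag
    (AlgSp.IsAlgSpace.yon_obj V) sq
    ((repWith_universallyOpen_iff _ hp.rep).1 (repWith_universallyOpen_of_etale hp))
    (isSurjectiveMor_of_repWith _ hps) h3

end Groth.Agent.S10274
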