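import Groth.Statements.S10278
import Groth.Agent.Lib.AlgSpProper_helper7

set_option autoImplicit false
universe u
open CategoryTheory CategoryTheory.Limits AlgebraicGeometry
open AlgSp

namespace Groth.Agent.S10278

/-- Over a separated Y -> B, a morphism X -> Y from a space universally closed (resp. proper) over B is
universally closed with closed image (resp. proper). -/
theorem result {S : Scheme.{u}} {X Y B : AlgSp.Space S} (f : X ⟶ Y) (p : X ⟶ B)
    (q : Y ⟶ B) (comm : f ≫ q = p) (hq : AlgSp.IsSeparatedMor q.hom) :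
    (AlgSp.IsUnivClosedMor p.hom →
      AlgSp.IsUnivClosedMor f.hom ∧ IsClosed (Set.range (AlgSp.Points.map f.hom))) ∧
    (AlgSp.IsProperMor p.hom → AlgSp.IsProperMor f.hom) := by
  open Groth.Agent.Lib.AlgSpProper_helper7 Groth.Agent.Lib.AlgSpDescent_helper7
    Groth.Agent.Lib.AlgSpQC2_helper7 Groth.Agent.Lib.AlgSpPoints_helper7 in
  subst comm
  refine ⟨fun h => ?_, fun h => ?_⟩
  · have h' : AlgSp.IsUnivClosedMor (f.hom ≫ q.hom) := h
    have := isUnivClosedMor_of_comp_of_isSeparatedMor X.property Y.property B.property.diag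
      f.hom q.hom hq h'
    refine ⟨this, ?_⟩
    rw [← Set.image_univ]
    exact isClosedMap_of_isUnivClosedMor Y.property f.hom this _ isClosed_univ
  · obtain ⟨h1, ⟨h2, h3⟩, h4⟩ := h
    have h1' : AlgSp.IsSeparatedMor (f.hom ≫ q.hom) := h1
    have h2' : AlgSp.LocP @LocallyOfFiniteType (f.hom ≫ q.hom) := h2
    have h3' : AlgSp.IsQuasiCompactMor (f.hom ≫ q.hom) := h3
    have h4' : AlgSp.IsUnivClosedMor (f.hom ≫ q.hom) := h4
    have hqs : AlgSp.IsQuasiSeparatedMor q.hom := repWith_mono (fun A B g hg => by
      have : IsClosedImmersion g := hg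
      exact (inferInstance : QuasiCompact g)) hq
    exact ⟨isSeparatedMor_of_comp f.hom q.hom h1',
      ⟨locP_of_comp _ (descendsEtale_of_descendsAlong _)
        (fun _ _ _ f g h => by
          have : LocallyOfFiniteType (f ≫ g) := h
          exact locallyOfFiniteType_of_comp f g) B.property f.hom q.hom h2',
       isQuasiCompactMor_of_comp_of_isQuasiSeparatedMor f.hom q.hom h3' hqs⟩,
      isUnivClosedMor_of_comp_of_isSeparatedMor X.property Y.property B.property.diag
        f.hom q.hom hq h4'⟩

end Groth.Agent.S10278
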