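import Groth.Statements.S10286
import Groth.Agent.Lib.AlgSpVal_helper7

set_option autoImplicit false
universe u
open CategoryTheory CategoryTheory.Limits AlgebraicGeometry
open AlgSp
open Groth.Agent.Lib.AlgSpVal_helper7

namespace Groth.Agent.S10286

/-- The existence and uniqueness parts of the valuative criterion are stable under base change. -/
theorem result {S : Scheme.{u}} {X Y Z X' : AlgSp.Space S} (f : X ⟶ Y) (g : Z ⟶ Y)
    (fst : X' ⟶ X) (f' : X' ⟶ Z) (sq : IsPullback fst.hom f'.hom f.hom g.hom) :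
    (AlgSp.ExistVC f.hom → AlgSp.ExistVC f'.hom) ∧ (AlgSp.UniqVC f.hom → AlgSp.UniqVC f'.hom) := by
  constructor
  · intro hE
    rw [existVC_iff] at hE ⊢
    intro A _ _ _ K _ _ _ str top bot comm
    obtain ⟨A', i1, i2, i3, K', i4, i5, i6, φ, ψ, hc, hl, l, h1, h2⟩ :=
      hE A K str (top ≫ fst.hom) (bot ≫ g.hom)
        (by rw [Category.assoc, sq.w, ← Category.assoc, comm, Category.assoc])
    have hw : l ≫ f.hom = ((yon S).map (Over.homMk (Spec.map (CommRingCat.ofHom φ)) rfl :
        Over.mk (Spec.map (CommRingCat.ofHom φ) ≫ str) ⟶ Over.mk str) ≫ bot) ≫ g.hom :=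
      h2.trans (Category.assoc _ _ _).symm
    refine ⟨A', i1, i2, i3, K', i4, i5, i6, φ, ψ, hc, hl, sq.lift l _ hw, ?_, sq.lift_snd _ _ _⟩
    apply sq.hom_ext
    · rw [Category.assoc, sq.lift_fst, Category.assoc]
      exact h1
    · rw [Category.assoc, sq.lift_snd, Category.assoc, comm, ← Functor.map_comp_assoc,
        ← Functor.map_comp_assoc]
      congr 2
      ext
      change Spec.map _ ≫ Spec.map _ = Spec.map _ ≫ Spec.map _
      rw [← Spec.map_comp, ← Spec.map_comp, ← CommRingCat.ofHom_comp, ← CommRingCat.ofHom_comp,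
        hc]
  · intro hU
    rw [uniqVC_iff] at hU ⊢
    intro A _ _ _ K _ _ _ str l l' h1 h2
    have := hU A K str (l ≫ fst.hom) (l' ≫ fst.hom)
      (by rw [← Category.assoc, h1, Category.assoc])
      (by rw [Category.assoc, Category.assoc, sq.w, ← Category.assoc, h2, Category.assoc])
    exact sq.hom_ext this h2

end Groth.Agent.S10286
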