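import Groth.Statements.S10287
import Groth.Agent.Lib.AlgSpVal_helper7

set_option autoImplicit false
universe u
open CategoryTheory CategoryTheory.Limits AlgebraicGeometry
open AlgSp
open Groth.Agent.Lib.AlgSpVal_helper7

namespace Groth.Agent.S10287

/-- The existence and uniqueness parts of the valuative criterion are stable under composition. -/
theorem result {S : Scheme.{u}} {X Y Z : AlgSp.Space S} (f : X ⟶ Y) (g : Y ⟶ Z) :
    (AlgSp.ExistVC f.hom → AlgSp.ExistVC g.hom → AlgSp.ExistVC (f ≫ g).hom) ∧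
    (AlgSp.UniqVC f.hom → AlgSp.UniqVC g.hom → AlgSp.UniqVC (f ≫ g).hom) := by
  constructor
  · intro hEf hEg
    rw [existVC_iff] at hEf hEg ⊢
    intro A _ _ _ K _ _ _ str top bot comm
    have comm' : (top ≫ f.hom) ≫ g.hom =
        (yon S).map (Over.homMk (Spec.map (CommRingCat.ofHom (algebraMap A K))) rfl :
          Over.mk (Spec.map (CommRingCat.ofHom (algebraMap A K)) ≫ str) ⟶ Over.mk str) ≫ bot := by
      rw [Category.assoc]
      exact comm
    obtain ⟨A₁, i1, i2, i3, K₁, i4, i5, i6, φ₁, ψ₁, hc₁, hl₁, m, m1, m2⟩ :=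
      hEg A K str (top ≫ f.hom) bot comm'
    obtain ⟨A₂, j1, j2, j3, K₂, j4, j5, j6, φ₂, ψ₂, hc₂, hl₂, l, l1, l2⟩ :=
      hEf A₁ K₁ (Spec.map (CommRingCat.ofHom φ₁) ≫ str) _ m
        ((Category.assoc _ _ _).trans m1.symm)
    have hc : (algebraMap A₂ K₂).comp (φ₂.comp φ₁) = (ψ₂.comp ψ₁).comp (algebraMap A K) := by
      rw [← RingHom.comp_assoc, hc₂, RingHom.comp_assoc, hc₁, RingHom.comp_assoc]
    have hloc : IsLocalHom (φ₂.comp φ₁) := inferInstance
    obtain ⟨θ, hθ⟩ : ∃ θ : Over.mk (Spec.map (CommRingCat.ofHom (φ₂.comp φ₁)) ≫ str) ⟶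
        Over.mk (Spec.map (CommRingCat.ofHom φ₂) ≫ Spec.map (CommRingCat.ofHom φ₁) ≫ str),
        θ.left = 𝟙 _ :=
      ⟨Over.homMk (𝟙 _) (by
        change 𝟙 _ ≫ Spec.map _ ≫ Spec.map _ ≫ str = Spec.map _ ≫ str
        rw [Category.id_comp, ← Spec.map_comp_assoc, ← CommRingCat.ofHom_comp]), rfl⟩
    refine ⟨A₂, j1, j2, j3, K₂, j4, j5, j6, φ₂.comp φ₁, ψ₂.comp ψ₁, hc, hloc,
      (yon S).map θ ≫ l, ?_, ?_⟩
    · obtain ⟨θ', hθ'⟩ : ∃ θ' : Over.mk (Spec.map (CommRingCat.ofHom (algebraMap A₂ K₂)) ≫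
          Spec.map (CommRingCat.ofHom (φ₂.comp φ₁)) ≫ str) ⟶
          Over.mk (Spec.map (CommRingCat.ofHom (algebraMap A₂ K₂)) ≫
            Spec.map (CommRingCat.ofHom φ₂) ≫ Spec.map (CommRingCat.ofHom φ₁) ≫ str),
          θ'.left = 𝟙 _ :=
        ⟨Over.homMk (𝟙 _) (by
          change 𝟙 _ ≫ Spec.map _ ≫ Spec.map _ ≫ Spec.map _ ≫ str = Spec.map _ ≫ Spec.map _ ≫ str
          rw [Category.id_comp, ← Spec.map_comp_assoc (CommRingCat.ofHom φ₁),
            ← CommRingCat.ofHom_comp]), rfl⟩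
      rw [← Functor.map_comp_assoc]
      have e1 : (Over.homMk (Spec.map (CommRingCat.ofHom (algebraMap A₂ K₂))) rfl :
          Over.mk (Spec.map (CommRingCat.ofHom (algebraMap A₂ K₂)) ≫
            Spec.map (CommRingCat.ofHom (φ₂.comp φ₁)) ≫ str) ⟶
          Over.mk (Spec.map (CommRingCat.ofHom (φ₂.comp φ₁)) ≫ str)) ≫ θ =
          θ' ≫ (Over.homMk (Spec.map (CommRingCat.ofHom (algebraMap A₂ K₂))) rfl :
          Over.mk (Spec.map (CommRingCat.ofHom (algebraMap A₂ K₂)) ≫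
            Spec.map (CommRingCat.ofHom φ₂) ≫ Spec.map (CommRingCat.ofHom φ₁) ≫ str) ⟶
          Over.mk (Spec.map (CommRingCat.ofHom φ₂) ≫ Spec.map (CommRingCat.ofHom φ₁) ≫ str)) := by
        ext
        simp [hθ, hθ']
      rw [e1, Functor.map_comp_assoc, l1, ← Functor.map_comp_assoc, ← Functor.map_comp_assoc]
      congr 2
      ext
      simp [hθ', CommRingCat.ofHom_comp]
    · change ((yon S).map θ ≫ l) ≫ f.hom ≫ g.hom = _
      rw [Category.assoc, ← Category.assoc l, l2, Category.assoc, m2, ← Functor.map_comp_assoc,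
        ← Functor.map_comp_assoc]
      congr 2
      ext
      simp [hθ, CommRingCat.ofHom_comp]
  · intro hUf hUg
    rw [uniqVC_iff] at hUf hUg ⊢
    intro A _ _ _ K _ _ _ str l l' h1 h2
    have h3 : l ≫ f.hom = l' ≫ f.hom :=
      hUg A K str (l ≫ f.hom) (l' ≫ f.hom)
        (by rw [← Category.assoc, h1, Category.assoc])
        (by rw [Category.assoc, Category.assoc]; exact h2)
    exact hUf A K str l l' h1 h3

end Groth.Agent.S10287
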