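import Groth.Statements.S10294
import Groth.Agent.Lib.AlgSpLocP9_helper7
import Groth.Agent.Lib.AlgSpGlue2_helper7

set_option autoImplicit false
universe u
open CategoryTheory CategoryTheory.Limits AlgebraicGeometry
open AlgSp

namespace Groth.Agent.S10294

open Groth.Agent.Lib.AlgSpLocP9_helper7 Groth.Agent.Lib.AlgSpLocP3_helper7
  Groth.Agent.Lib.AlgSpPoints_helper7 Groth.Agent.Lib.AlgSpLocP_helper7
  Groth.Agent.Lib.AlgSpDiag_helper7

section aux
variable {S : Scheme.{u}}

theorem repWith_isFinite_of_isFiniteMor {X Y : AlgSp.Sp S} (f : X ⟶ Y) (h : AlgSp.IsFiniteMor f) :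
    AlgSp.RepWith @IsFinite f := by
  apply Groth.Agent.Lib.AlgSpGlue2H7.repWith_of_affine_local
  intro Z hZ g
  obtain ⟨W, i, fst, sq, _, hfin⟩ := h hZ g
  exact ⟨W, i, fst, sq, hfin⟩

theorem isFiniteMor_of_repWith {X Y : AlgSp.Sp S} (f : X ⟶ Y) (hf : AlgSp.RepWith @IsFinite f) :
    AlgSp.IsFiniteMor f := by
  intro Z hZ g
  have h1 : IsFinite (hf.rep.snd g).left := hf.property_snd g
  refine ⟨hf.rep.pullback g, hf.rep.snd g, hf.rep.fst g, hf.rep.isPullback g, ?_, h1⟩
  haveI := hZ
  exact isAffine_of_isAffineHom (hf.rep.snd g).left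

end aux

/-- Finite locally free is the same as finite, flat and locally of finite presentation; over a locally
Noetherian target it is the same as finite and flat. -/
theorem result {S : Scheme.{u}} {X Y : AlgSp.Space S} (f : X ⟶ Y) :
    (AlgSp.IsFinLocFreeMor f.hom ↔
      (AlgSp.IsFiniteMor f.hom ∧ AlgSp.LocP @Flat f.hom ∧ AlgSp.LocP @LocallyOfFinitePresentation f.hom)) ∧
    (AlgSp.IsLocNoethSp Y.obj →
      (AlgSp.IsFinLocFreeMor f.hom ↔ (AlgSp.IsFiniteMor f.hom ∧ AlgSp.LocP @Flat f.hom))) := by
  have hY := Y.property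
  have hX := X.property
  have key : AlgSp.IsFinLocFreeMor f.hom ↔
      (AlgSp.IsFiniteMor f.hom ∧ AlgSp.LocP @Flat f.hom ∧
        AlgSp.LocP @LocallyOfFinitePresentation f.hom) := by
    constructor
    · intro h
      refine ⟨isFiniteMor_of_repWith _ (repWith_mono (fun _ _ g hg => hg.1) h), ?_, ?_⟩
      · exact locP_of_repWith @Flat
          (fun _ _ g hg => by haveI := hg; exact (inferInstance : Flat g)) _
          (repWith_mono (fun _ _ g hg => hg.2.1) h)
      · exact locP_of_repWith @LocallyOfFinitePresentation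
          (fun _ _ g hg => by haveI := hg; exact (inferInstance : LocallyOfFinitePresentation g)) _
          (repWith_mono (fun _ _ g hg => hg.2.2) h)
    · rintro ⟨h1, h2, h3⟩
      have hfin := repWith_isFinite_of_isFiniteMor _ h1
      have hflat : RepWith @Flat f.hom :=
        (locP_iff_repWith_listed @Flat (Or.inr (Or.inr (Or.inl rfl))) hY f.hom hfin.rep).1 h2
      have hlfp : RepWith @LocallyOfFinitePresentation f.hom :=
        (locP_iff_repWith_listed @LocallyOfFinitePresentation (Or.inr (Or.inl rfl)) hY f.hom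
          hfin.rep).1 h3
      exact repWith_mono (fun _ _ g hg => ⟨hg.1.1, hg.1.2, hg.2⟩)
        (repWith_inf (repWith_inf hfin hflat) hlfp)
  refine ⟨key, fun hN => ?_⟩
  rw [key]
  constructor
  · rintro ⟨h1, h2, _⟩
    exact ⟨h1, h2⟩
  · rintro ⟨h1, h2⟩
    refine ⟨h1, h2, ?_⟩
    have hfin := repWith_isFinite_of_isFiniteMor _ h1
    have hlft : LocP @LocallyOfFiniteType f.hom :=
      locP_of_repWith @LocallyOfFiniteType
        (fun _ _ g hg => by haveI := hg; exact (inferInstance : LocallyOfFiniteType g)) _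
        (repWith_mono (fun _ _ g hg => by
          haveI : IsFinite g := hg
          exact (inferInstance : LocallyOfFiniteType g)) hfin)
    exact locP_lfp_of_isLocNoethSp hX hY f.hom hN hlft

end Groth.Agent.S10294
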