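import Groth.Statements.S10296
import Groth.Agent.Lib.AlgSpAffine_helper7
import Groth.Agent.Lib.AlgSpGlue2_helper7

set_option autoImplicit false
universe u
open CategoryTheory CategoryTheory.Limits AlgebraicGeometry
open AlgSp

namespace Groth.Agent.S10296

section aux
variable {S : Scheme.{u}}

theorem isIntegralMor_comp {X Y B : AlgSp.Sp S} (f : X ⟶ Y) (g : Y ⟶ B)
    (hf : AlgSp.IsIntegralMor f) (hg : AlgSp.IsIntegralMor g) : AlgSp.IsIntegralMor (f ≫ g) := by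
  intro Z hZ c
  obtain ⟨W, i, fstW, sq₂, hW, hi⟩ := hg hZ c
  obtain ⟨W', i', fst', sq₁, hW', hi'⟩ := hf hW fstW
  refine ⟨W', i' ≫ i, fst', ?_, hW', ?_⟩
  · rw [CategoryTheory.Functor.map_comp]
    exact sq₁.paste_vert sq₂
  · rw [Over.comp_left]
    haveI := hi
    haveI := hi'
    infer_instance

theorem isSeparatedMor_of_isIntegralMor {X Y : AlgSp.Sp S} (f : X ⟶ Y)
    (hf : AlgSp.IsIntegralMor f) : AlgSp.IsSeparatedMor f := by
  have h1 : AlgSp.RepWith @IsIntegralHom f := by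
    apply Groth.Agent.Lib.AlgSpGlue2H7.repWith_of_affine_local
    intro Z hZ g
    obtain ⟨W, i, fst, sq, _, hi⟩ := hf hZ g
    exact ⟨W, i, fst, sq, hi⟩
  refine (Groth.Agent.Lib.AlgSpSep_helper7.isSeparatedMor_iff_of_representable f h1.rep).2 ?_
  refine Groth.Agent.Lib.AlgSpPoints_helper7.repWith_mono ?_ h1
  intro A B g hg
  haveI : IsIntegralHom g := hg
  exact (inferInstance : IsSeparated g)

theorem isIntegralMor_of_comp {X Y B : AlgSp.Sp S} (g : X ⟶ Y) (q : Y ⟶ B)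
    (hq : AlgSp.IsIntegralMor q) (h : AlgSp.IsIntegralMor (g ≫ q)) : AlgSp.IsIntegralMor g := by
  intro Z hZ t
  refine Groth.Agent.Lib.AlgSpAffine_helper7.exists_affine_pullback_of_comp g q
    (isSeparatedMor_of_isIntegralMor q hq) @IsIntegralHom ?_ t (h hZ (t ≫ q))
  intro A A' A'' j i hj hi
  haveI := hj
  haveI := hi
  exact (inferInstance : IsIntegralHom (j ≫ i))

end aux

/-- The induced morphism from the normalization of X in Y to any integral Z -> X through which Y -> X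
factors is the normalization of Z in Y. -/
theorem result {S : Scheme.{u}} {Y X X' Z : AlgSp.Space S} (f : Y ⟶ X)
    (hqc : AlgSp.IsQuasiCompactMor f.hom) (hqs : AlgSp.IsQuasiSeparatedMor f.hom) (ν : X' ⟶ X) (f' : Y ⟶ X')
    (hn : AlgSp.IsRelNormalization f.hom ν.hom f'.hom) (π : Z ⟶ X) (hπ : AlgSp.IsIntegralMor π.hom) (g : Y ⟶ Z)
    (hg : g ≫ π = f) (h : X' ⟶ Z) (h1 : f' ≫ h = g) (h2 : h ≫ π = ν) :
    AlgSp.IsRelNormalization g.hom h.hom f'.hom := by
  obtain ⟨hfac, hνint, huniv⟩ := hn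
  have h1' : f'.hom ≫ h.hom = g.hom := congrArg (fun k => k.hom) h1
  have h2' : h.hom ≫ π.hom = ν.hom := congrArg (fun k => k.hom) h2
  have hg' : g.hom ≫ π.hom = f.hom := congrArg (fun k => k.hom) hg
  refine ⟨h1', ?_, ?_⟩
  · exact isIntegralMor_of_comp h.hom π.hom hπ (by rw [h2']; exact hνint)
  · intro W hW ρ k hρ hk
    have hρπ : IsIntegralMor (ρ ≫ π.hom) := isIntegralMor_comp _ _ hρ hπ
    have hk' : k ≫ ρ ≫ π.hom = f.hom := by rw [← Category.assoc, hk, hg']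
    obtain ⟨m, ⟨hm1, hm2⟩, hmu⟩ := huniv hW (ρ ≫ π.hom) k hρπ hk'
    obtain ⟨h₀, _, hh₀u⟩ := huniv Z.property π.hom g.hom hπ hg'
    have e1 : m ≫ ρ = h₀ :=
      hh₀u _ ⟨by rw [← Category.assoc, hm1, hk], by rw [Category.assoc]; exact hm2⟩
    have e2 : h.hom = h₀ := hh₀u _ ⟨h1', h2'⟩
    refine ⟨m, ⟨hm1, e1.trans e2.symm⟩, fun m' hm' => ?_⟩
    apply hmu
    refine ⟨hm'.1, ?_⟩
    rw [← Category.assoc, hm'.2, h2']

end Groth.Agent.S10296
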