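import Groth.Statements.S10309
import Groth.Agent.Lib.Retro1_helper8
import Groth.Agent.Lib.ResTrdeg3_helper8
import Groth.Agent.Lib.ChartIndep_helper8
import Groth.Agent.Lib.AlgSpPoints_helper7

set_option autoImplicit false
universe u
open CategoryTheory CategoryTheory.Limits AlgebraicGeometry
open AlgSp

namespace Groth.Agent.S10309

open Groth.Agent.Lib.AlgSpPoints_helper7

/-- For f locally of finite presentation, the locus where the relative dimension is at most n is
retrocompact in |X|. -/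
theorem result {S : Scheme.{u}} {X Y : AlgSp.Space S} (f : X ⟶ Y)
    (hf : AlgSp.LocP @LocallyOfFinitePresentation f.hom) (n : ℕ) (V : Set (AlgSp.Points X.obj))
    (hV : IsOpen V) (hVc : IsCompact V) :
    IsCompact (V ∩ {x : AlgSp.Points X.obj |
      AlgSp.HasAtMor (fun _ _ h u => FlatMor.fibreDimAt h u ≤ (n : WithBot ℕ∞)) f.hom x}) := by
  have hf' : AlgSp.LocP @LocallyOfFiniteType f.hom := fun {U V} a b h hae hbe comm => by
    haveI : LocallyOfFinitePresentation h.left := hf a b h hae hbe comm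
    infer_instance
  set E : Set (AlgSp.Points X.obj) := {x : AlgSp.Points X.obj |
      AlgSp.HasAtMor (fun _ _ h u => FlatMor.fibreDimAt h u ≤ (n : WithBot ℕ∞)) f.hom x} with hE
  have H : ∀ x : V, ∃ T : Set (AlgSp.Points X.obj), IsOpen T ∧ (x : AlgSp.Points X.obj) ∈ T ∧
      T ⊆ V ∧ IsCompact (T ∩ E) := by
    rintro ⟨x, hxV⟩
    obtain ⟨U, V0, a, b, h, u, hae, hbe, comm, hu⟩ := ResTrdegH8.exists_chart_diagram f x
    haveI : LocallyOfFinitePresentation h.left := hf a b h hae hbe comm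
    have hpre : IsOpen (AlgSp.Points.ofPt a ⁻¹' V) := hV.preimage (AlgSp.Points.continuous_ofPt a)
    obtain ⟨_, ⟨W, hW0, rfl⟩, huW, hWsub⟩ :=
      U.left.isBasis_affineOpens.exists_subset_of_mem_open (a := u)
        (show u ∈ AlgSp.Points.ofPt a ⁻¹' V by rw [Set.mem_preimage, hu]; exact hxV) hpre
    have hW : IsAffineOpen W := hW0
    have hc := RetroH8.isRetrocompact_fibreDimAt_le h.left n hW.isCompact W.2
    refine ⟨AlgSp.Points.ofPt a '' (W : Set ↥U.left), isOpenMap_ofPt_of_etale a hae _ W.2,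
      ⟨u, huW, hu⟩, ?_, ?_⟩
    · rintro _ ⟨w, hw, rfl⟩
      exact hWsub hw
    · have hEq : AlgSp.Points.ofPt a '' (W : Set ↥U.left) ∩ E =
          AlgSp.Points.ofPt a '' ({u' : ↥U.left | FlatMor.fibreDimAt h.left u' ≤ (n : WithBot ℕ∞)} ∩
            (W : Set ↥U.left)) := by
        ext x'
        constructor
        · rintro ⟨⟨w, hw, rfl⟩, hx'E⟩
          refine ⟨w, ⟨?_, hw⟩, rfl⟩
          obtain ⟨U2, V2, a2, b2, h2, u2, ha2e, hb2e, comm2, hu2, hd2⟩ := hx'E
          show FlatMor.fibreDimAt h.left w ≤ _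
          rw [ChartIndepH8.fibreDimAt_chart_indep f.hom hf' a b h w a2 b2 h2 u2 hae hbe ha2e hb2e
            comm comm2 hu2.symm]
          exact hd2
        · rintro ⟨w, ⟨hwE, hw⟩, rfl⟩
          exact ⟨⟨w, hw, rfl⟩, U, V0, a, b, h, w, hae, hbe, comm, rfl, hwE⟩
      rw [hEq]
      exact hc.image (AlgSp.Points.continuous_ofPt a)
  choose T hT1 hT2 hT3 hT4 using H
  obtain ⟨t, ht⟩ := hVc.elim_finite_subcover (fun x : V => T x) (fun x => hT1 x)
    (fun x hx => Set.mem_iUnion.mpr ⟨⟨x, hx⟩, hT2 ⟨x, hx⟩⟩)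
  have hEq : V ∩ E = ⋃ i ∈ t, (T i ∩ E) := by
    ext x
    simp only [Set.mem_inter_iff, Set.mem_iUnion, exists_prop]
    constructor
    · rintro ⟨hxV, hx⟩
      obtain ⟨i, hi, hxi⟩ : ∃ i ∈ t, x ∈ T i := by
        simpa using ht hxV
      exact ⟨i, hi, hxi, hx⟩
    · rintro ⟨i, hi, hxi, hx⟩
      exact ⟨hT3 i hxi, hx⟩
  rw [hEq]
  exact t.finite_toSet.isCompact_biUnion (fun i _ => hT4 i)

end Groth.Agent.S10309
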