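import Groth.Statements.S10310
import Groth.Agent.Lib.ChartIndep_helper8
import Groth.Agent.Lib.FibCoh3_helper8

set_option autoImplicit false
universe u
open CategoryTheory CategoryTheory.Limits AlgebraicGeometry
open AlgSp

namespace Groth.Agent.S10310

/-- A morphism locally of finite type is locally quasi-finite if and only if it has relative dimension 0
at every point. -/
theorem result {S : Scheme.{u}} {X Y : AlgSp.Space S} (f : X ⟶ Y)
    (hf : AlgSp.LocP @LocallyOfFiniteType f.hom) :
    AlgSp.LocP (@LocallyQuasiFinite ⊓ @LocallyOfFiniteType) f.hom ↔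
      ∀ x : AlgSp.Points X.obj, AlgSp.HasAtMor (fun _ _ h u => FlatMor.fibreDimAt h u = 0) f.hom x := by
  constructor
  · intro hq x
    obtain ⟨U, V, a, b, h, u, hae, hbe, cm, hu⟩ := ResTrdegH8.exists_chart_diagram f x
    obtain ⟨h1, h2⟩ := hq a b h hae hbe cm
    haveI : LocallyQuasiFinite h.left := h1
    haveI : LocallyOfFiniteType h.left := h2
    exact ⟨U, V, a, b, h, u, hae, hbe, cm, hu, FibCohH8.fibreDimAt_eq_zero_of_lqf h.left u⟩
  · intro H U V a b h hae hbe cm
    haveI : LocallyOfFiniteType h.left := hf a b h hae hbe cm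
    refine ⟨?_, hf a b h hae hbe cm⟩
    apply FibCohH8.lqf_of_forall_fibreDimAt_eq_zero
    intro u
    obtain ⟨U', V', a', b', h', u', hae', hbe', cm', hu', hz⟩ := H (AlgSp.Points.ofPt a u)
    rw [ChartIndepH8.fibreDimAt_chart_indep f.hom hf a b h u a' b' h' u' hae hbe hae' hbe' cm cm'
      hu'.symm]
    exact hz

end Groth.Agent.S10310
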