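import Groth.Statements.S10313
import Groth.Agent.Lib.LqfLocus_helper8
import Groth.Agent.Lib.AlgSpLocP4_helper7
import Groth.Agent.S10311

set_option autoImplicit false
universe u
open CategoryTheory CategoryTheory.Limits AlgebraicGeometry
open AlgSp

namespace Groth.Agent.S10313

open Groth.Agent.Lib.AlgSpPoints_helper7 Groth.Agent.Lib.AlgSpLocP4_helper7

/-- For f locally of finite type there is an open subspace of X on which f is locally quasi-finite,
outside of which the relative dimension is at least 1, and whose formation commutes with base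
change. -/
theorem result {S : Scheme.{u}} {X Y : AlgSp.Space S} (f : X ⟶ Y)
    (hf : AlgSp.LocP @LocallyOfFiniteType f.hom) :
    ∃ (X' : AlgSp.Space S) (j : X' ⟶ X), AlgSp.RepWith @IsOpenImmersion j.hom ∧
      AlgSp.LocP (@LocallyQuasiFinite ⊓ @LocallyOfFiniteType) (j ≫ f).hom ∧
      (∀ x : AlgSp.Points X.obj, x ∉ Set.range (AlgSp.Points.map j.hom) →
        AlgSp.HasAtMor (fun _ _ h u => 1 ≤ FlatMor.fibreDimAt h u) f.hom x) ∧
      ∀ (Y'' X'' : AlgSp.Space S) (g : Y'' ⟶ Y) (b : X'' ⟶ X) (f'' : X'' ⟶ Y''),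
        IsPullback b.hom f''.hom f.hom g.hom → ∀ x'' : AlgSp.Points X''.obj,
          AlgSp.Points.map b.hom x'' ∈ Set.range (AlgSp.Points.map j.hom) ↔ AlgSp.HasAtMor (fun U _ h u => ∃ W : U.Opens, u ∈ W ∧ LocallyQuasiFinite (W.ι ≫ h) ∧ LocallyOfFiniteType (W.ι ≫ h)) f''.hom x'' := by
  obtain ⟨X', j, hj, hrange, hlqf⟩ := LqfLocusH8.exists_lqf_open f hf
  refine ⟨X', j, hj, hlqf, ?_, ?_⟩
  · intro x hx
    rw [hrange] at hx
    obtain ⟨U, V, a, b, h, u, hae, hbe, comm, hu⟩ := ResTrdegH8.exists_chart_diagram f x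
    haveI : LocallyOfFiniteType h.left := hf a b h hae hbe comm
    refine ⟨U, V, a, b, h, u, hae, hbe, comm, hu, ?_⟩
    have hne : FlatMor.fibreDimAt h.left u ≠ 0 := fun h0 =>
      hx ⟨U, V, a, b, h, u, hae, hbe, comm, hu, h0⟩
    show (1 : WithBot ℕ∞) ≤ FlatMor.fibreDimAt h.left u
    rw [FibCohH8.fibreDimAt_eq] at hne ⊢
    rw [← WithBot.coe_add] at hne ⊢
    have hne' : FibCohH8.fibCoh h.left u + Cardinal.toENat (Dual3.resTrdeg h.left u) ≠ 0 := by
      intro h0; apply hne; rw [h0]; rfl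
    have := Order.one_le_iff_ne_zero.mpr hne'
    exact_mod_cast this
  · intro Y'' X'' g b f'' sq x''
    have hf'' : AlgSp.LocP @LocallyOfFiniteType f''.hom :=
      locP_baseChange etLocal_locallyOfFiniteType X.property Y.property Y''.property f.hom g.hom
        b.hom f''.hom sq hf
    rw [hrange, LqfLocusH8.hasAtMor_exists_opens_iff f'' hf'' x'']
    constructor
    · intro h0
      exact Groth.Agent.S10311.result f g b f'' sq hf x'' 0 h0
    · intro h0
      obtain ⟨U, V, a, b', h, u, hae, hbe, comm, hu⟩ :=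
        ResTrdegH8.exists_chart_diagram f (AlgSp.Points.map b.hom x'')
      have h1 : AlgSp.HasAtMor (fun _ _ h' u' => FlatMor.fibreDimAt h' u' =
          FlatMor.fibreDimAt h.left u) f.hom (AlgSp.Points.map b.hom x'') :=
        ⟨U, V, a, b', h, u, hae, hbe, comm, hu, rfl⟩
      have h2 := Groth.Agent.S10311.result f g b f'' sq hf x'' _ h1
      obtain ⟨U1, V1, a1, b1, h1', u1, hae1, hbe1, comm1, hu1, hd1⟩ := h2
      obtain ⟨U0, V0, a0, b0, h0', u0, hae0, hbe0, comm0, hu0, hd0⟩ := h0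
      have := ChartIndepH8.fibreDimAt_chart_indep f''.hom hf'' a1 b1 h1' u1 a0 b0 h0' u0 hae1 hbe1
        hae0 hbe0 comm1 comm0 (hu1.trans hu0.symm)
      rw [hd1, hd0] at this
      exact ⟨U, V, a, b', h, u, hae, hbe, comm, hu, this⟩

end Groth.Agent.S10313
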