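import Groth.Statements.S10314
import Groth.Agent.Lib.ChartIndep_helper8
import Groth.Agent.Lib.FibCoh4_helper8
import Groth.Agent.Lib.LocDimEt_helper8
import Groth.Agent.S9359

set_option autoImplicit false
universe u
open CategoryTheory CategoryTheory.Limits AlgebraicGeometry
open AlgSp

namespace Groth.Agent.S10314

open Groth.Agent.Lib.AlgSpReduced_helper7 Groth.Agent.Lib.AlgSpPoints_helper7

/-- For a flat morphism locally of finite type of relative dimension d between locally Noetherian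
algebraic spaces, the dimension of X at a point equals the dimension of Y at the image point plus d. -/
theorem result {S : Scheme.{u}} {X Y : AlgSp.Space S} (f : X ⟶ Y)
    (hX : AlgSp.IsLocNoethSp X.obj) (hY : AlgSp.IsLocNoethSp Y.obj) (hf : AlgSp.LocP @Flat f.hom)
    (hf' : AlgSp.LocP @LocallyOfFiniteType f.hom) (d : ℕ)
    (hd : ∀ x : AlgSp.Points X.obj, AlgSp.HasAtMor (fun _ _ h u => FlatMor.fibreDimAt h u = (d : WithBot ℕ∞)) f.hom x)
    (x : AlgSp.Points X.obj) (dX dY : WithBot ℕ∞) (hx : AlgSp.HasAt (fun U u => FlatMor.localDim ↥U u = dX) X.obj x)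
    (hy : AlgSp.HasAt (fun U u => FlatMor.localDim ↥U u = dY) Y.obj (AlgSp.Points.map f.hom x)) :
    dX = dY + (d : WithBot ℕ∞) := by
  obtain ⟨X0, α0, hα0e, hα0s, hX0⟩ := hX
  obtain ⟨V0, β0, hβ0e, hβ0s, hV0⟩ := hY
  obtain ⟨u0, hu0⟩ := ofPt_surjective α0 hα0s x
  obtain ⟨v0, hv0⟩ := ofPt_surjective β0 hβ0s (AlgSp.Points.map f.hom x)
  obtain ⟨P, p, h'', w, hp, hpa, cm, hw1, hw2, hwx⟩ :=
    ResTrdegH8.exists_chart_over f.hom α0 hα0e u0 β0 hβ0e v0 (by rw [hv0, hu0])
  haveI := hp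
  haveI : IsLocallyNoetherian X0.left := hX0
  haveI : IsLocallyNoetherian V0.left := hV0
  haveI : IsLocallyNoetherian P.left := LocallyOfFiniteType.isLocallyNoetherian p.left
  haveI : Flat h''.left := hf _ β0 h'' hpa hβ0e cm
  haveI : LocallyOfFiniteType h''.left := hf' _ β0 h'' hpa hβ0e cm
  have hrel : Cyc.HasRelDim h''.left d := by
    apply FibCohH8.hasRelDim_of_forall_fibreDimAt
    intro w'
    obtain ⟨U', V', a', b', h', u', hae', hbe', cm', hu', hz⟩ :=
      hd (AlgSp.Points.ofPt ((AlgSp.yon S).map p ≫ α0) w')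
    rw [ChartIndepH8.fibreDimAt_chart_indep f.hom hf' _ β0 h'' w' a' b' h' u' hpa hβ0e hae' hbe'
      cm cm' hu'.symm]
    exact hz
  have key := Groth.Agent.S9359.result h''.left d hrel w
  obtain ⟨Ux, ax, ux, haxe, hux, hdx⟩ := hx
  obtain ⟨Vy, by', vy, hbye, hvy, hdy⟩ := hy
  rw [← hdx, ← hdy,
    LocDimEtH8.localDim_chart_indep ax ((AlgSp.yon S).map p ≫ α0) haxe hpa ux w
      (hux.trans (hwx.trans hu0).symm),
    LocDimEtH8.localDim_chart_indep by' β0 hbye hβ0e vy v0 (hvy.trans hv0.symm), ← hw2]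
  exact key

end Groth.Agent.S10314
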