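import Groth.Statements.S10319
import Groth.Agent.Lib.ResTrdeg2_helper8

set_option autoImplicit false
universe u
open CategoryTheory CategoryTheory.Limits AlgebraicGeometry
open AlgSp

namespace Groth.Agent.S10319

/-- Transcendence degrees at a point add up along a composition of morphisms locally of finite type. -/
theorem result {S : Scheme.{u}} {X Y Z : AlgSp.Space S} (f : X ⟶ Y) (g : Y ⟶ Z)
    (hf : AlgSp.LocP @LocallyOfFiniteType f.hom) (hg : AlgSp.LocP @LocallyOfFiniteType g.hom)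
    (x : AlgSp.Points X.obj) (r₁ r₂ : Cardinal.{u})
    (h1 : AlgSp.HasAtMor (fun _ _ h u => Dual3.resTrdeg h u = r₁) f.hom x)
    (h2 : AlgSp.HasAtMor (fun _ _ h u => Dual3.resTrdeg h u = r₂) g.hom (AlgSp.Points.map f.hom x)) :
    AlgSp.HasAtMor (fun _ _ h u => Dual3.resTrdeg h u = r₁ + r₂) (f ≫ g).hom x := by
  obtain ⟨U1, V1, a1, b1, k1, u1, ha1, hb1, c1, hx1, hr1⟩ := h1
  obtain ⟨V2, W2, b2, c2, k2, v2, hb2, hc2, cm2, hx2, hr2⟩ := h2
  obtain ⟨P, p, h'', w, hp, hpa, cm, hw1, hw2, hwx⟩ :=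
    ResTrdegH8.exists_chart_over f.hom a1 ha1 u1 b2 hb2 v2 (by rw [hx2, hx1])
  have hr : Dual3.resTrdeg h''.left w = r₁ := by
    rw [← hr1]
    exact ResTrdegH8.chart_indep f.hom _ b2 h'' w a1 b1 k1 u1 hpa hb2 ha1 hb1 cm c1 hwx
  refine ⟨P, W2, (AlgSp.yon S).map p ≫ a1, c2, h'' ≫ k2, w, hpa, hc2, ?_, hwx.trans hx1, ?_⟩
  · change ((AlgSp.yon S).map p ≫ a1) ≫ f.hom ≫ g.hom = _
    rw [← Category.assoc, cm, Category.assoc, cm2, Functor.map_comp, Category.assoc]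
  · change Dual3.resTrdeg (h''.left ≫ k2.left) w = _
    rw [ResTrdegH8.resTrdeg_comp, hw2, hr2, hr, add_comm]

end Groth.Agent.S10319
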