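import Groth.Statements.S10316
import Groth.Agent.Lib.ResTrdeg3_helper8
import Groth.Agent.S10319

set_option autoImplicit false
universe u
open CategoryTheory CategoryTheory.Limits AlgebraicGeometry
open AlgSp

namespace Groth.Agent.S10316

/-- For X -> Y locally quasi-finite and Y -> Z locally of finite type, the transcendence degree of x
over Z equals that of its image y over Z. -/
theorem result {S : Scheme.{u}} {X Y Z : AlgSp.Space S} (f : X ⟶ Y) (g : Y ⟶ Z)
    (hf : AlgSp.LocP (@LocallyQuasiFinite ⊓ @LocallyOfFiniteType) f.hom) (hg : AlgSp.LocP @LocallyOfFiniteType g.hom)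
    (x : AlgSp.Points X.obj) (r : Cardinal.{u}) :
    AlgSp.HasAtMor (fun _ _ h u => Dual3.resTrdeg h u = r) (f ≫ g).hom x ↔
      AlgSp.HasAtMor (fun _ _ h u => Dual3.resTrdeg h u = r) g.hom (AlgSp.Points.map f.hom x) := by
  have hf' : AlgSp.LocP @LocallyOfFiniteType f.hom := fun U V a b h ha hb c => (hf a b h ha hb c).2
  have h0 : AlgSp.HasAtMor (fun _ _ h u => Dual3.resTrdeg h u = 0) f.hom x := by
    obtain ⟨U, V, a, b, h, u, hae, hbe, cm, hu⟩ := ResTrdegH8.exists_chart_diagram f x
    obtain ⟨hq, ht⟩ := hf a b h hae hbe cm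
    haveI : LocallyQuasiFinite h.left := hq
    haveI : LocallyOfFiniteType h.left := ht
    exact ⟨U, V, a, b, h, u, hae, hbe, cm, hu, ResTrdegH8.resTrdeg_eq_zero_of_lqf h.left u⟩
  have key : ∀ s : Cardinal.{u},
      AlgSp.HasAtMor (fun _ _ h u => Dual3.resTrdeg h u = s) g.hom (AlgSp.Points.map f.hom x) →
      AlgSp.HasAtMor (fun _ _ h u => Dual3.resTrdeg h u = s) (f ≫ g).hom x := by
    intro s hs
    have := Groth.Agent.S10319.result f g hf' hg x 0 s h0 hs
    rwa [zero_add] at this
  constructor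
  · intro hr
    obtain ⟨s, hs⟩ := ResTrdegH8.exists_hasAtMor_resTrdeg g (AlgSp.Points.map f.hom x)
    have := ResTrdegH8.hasAtMor_resTrdeg_unique _ x hr (key s hs)
    rw [this]
    exact hs
  · exact key r

end Groth.Agent.S10316
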