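import Groth.Statements.S10318
import Groth.Agent.Lib.ResTrdeg3_helper8

set_option autoImplicit false
universe u
open CategoryTheory CategoryTheory.Limits AlgebraicGeometry
open AlgSp

namespace Groth.Agent.S10318

/-- Over a Jacobson algebraic space, a finite type point of a space locally of finite type over it has
transcendence degree 0 over its image. -/
theorem result {S : Scheme.{u}} {X Y : AlgSp.Space S} (f : X ⟶ Y)
    (hf : AlgSp.LocP @LocallyOfFiniteType f.hom) (hY : AlgSp.EtaleLocally (fun U => JacobsonSpace ↥U) Y.obj)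
    (x : AlgSp.Points X.obj) (hx : AlgSp.HasAt (fun U u => IsClosed ({u} : Set ↥U)) X.obj x) :
    AlgSp.HasAtMor (fun _ _ h u => Dual3.resTrdeg h u = 0) f.hom x := by
  obtain ⟨U, α, u, hαe, hu, hcl⟩ := hx
  obtain ⟨V, β, v, hβe, hv⟩ := ResTrdegH8.exists_chart Y (AlgSp.Points.map f.hom x)
  obtain ⟨P, p, h'', w, hp, hpa, cm, hw1, hw2, hwx⟩ :=
    ResTrdegH8.exists_chart_over f.hom α hαe u β hβe v (by rw [hv, hu])
  haveI : LocallyOfFiniteType h''.left := hf _ β h'' hpa hβe cm
  haveI := hp
  haveI := EtDimH8.locallyQuasiFinite_of_etale p.left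
  refine ⟨P, V, _, β, h'', w, hpa, hβe, cm, hwx.trans hu, ?_⟩
  unfold Dual3.resTrdeg
  apply QFCodim1H8.trdeg_eq_zero_of_closed_in_fibre h''.left w
  intro z _ hwz
  have h1 : p.left w ⤳ p.left z := hwz.map p.left.continuous
  have h2 : p.left z = p.left w := by
    rw [hw1] at h1 ⊢
    exact h1.mem_closed hcl (Set.mem_singleton u)
  exact QFCodim1H8.closed_in_fibre_of_quasiFiniteAt p.left w (p.left.quasiFiniteAt w) z h2 hwz

end Groth.Agent.S10318
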