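import Groth.Statements.S10320
import Groth.Agent.Lib.ChartIndep_helper8

set_option autoImplicit false
universe u
open CategoryTheory CategoryTheory.Limits AlgebraicGeometry
open AlgSp

namespace Groth.Agent.S10320

/-- For f locally of finite type, the relative dimension of f at x equals the dimension of the local
ring of the fibre at x plus the transcendence degree of x over its image. -/
theorem result {S : Scheme.{u}} {X Y : AlgSp.Space S} (f : X ⟶ Y)
    (hf : AlgSp.LocP @LocallyOfFiniteType f.hom) (x : AlgSp.Points X.obj) (d e : WithBot ℕ∞) (r : Cardinal.{u})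
    (hd : AlgSp.HasAtMor (fun _ _ h u => FlatMor.fibreDimAt h u = d) f.hom x)
    (he : AlgSp.HasAtMor (fun _ _ h u => ringKrullDim ↥((h.fiber (h u)).presheaf.stalk (h.asFiber u)) = e) f.hom x)
    (hr : AlgSp.HasAtMor (fun _ _ h u => Dual3.resTrdeg h u = r) f.hom x) :
    d = e + ((Cardinal.toENat r : ℕ∞) : WithBot ℕ∞) := by
  obtain ⟨U1, V1, a1, b1, h1, u1, ha1, hb1, c1, hx1, hd1⟩ := hd
  obtain ⟨U2, V2, a2, b2, h2, u2, ha2, hb2, c2, hx2, he2⟩ := he
  obtain ⟨U3, V3, a3, b3, h3, u3, ha3, hb3, c3, hx3, hr3⟩ := hr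
  haveI : LocallyOfFiniteType h1.left := hf a1 b1 h1 ha1 hb1 c1
  rw [← hd1, FibCohH8.fibreDimAt_eq, ← he2, FibCohH8.stalk_fiber_eq_fibCoh, ← hr3,
    ChartIndepH8.fibCoh_chart_indep f.hom a1 b1 h1 u1 a2 b2 h2 u2 ha1 hb1 ha2 hb2 c1 c2
      (hx1.trans hx2.symm),
    ResTrdegH8.chart_indep f.hom a1 b1 h1 u1 a3 b3 h3 u3 ha1 hb1 ha3 hb3 c1 c3
      (hx1.trans hx3.symm)]

end Groth.Agent.S10320
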