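import Groth.Statements.S10323
import Groth.Agent.Lib.ResTrdeg3_helper8
import Groth.Agent.Lib.ResQuot2_helper8
import Groth.Agent.Lib.SchFT_helper8
import Groth.Agent.S9687

set_option autoImplicit false
universe u
open CategoryTheory CategoryTheory.Limits AlgebraicGeometry
open AlgSp

namespace Groth.Agent.S10323

open Groth.Agent.Lib.AlgSpReduced_helper7 Groth.Agent.Lib.AlgSpPoints_helper7

/-- For Y locally Noetherian and f locally of finite type, the dimension of the local ring of X at x is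
at most the dimension of the local ring of Y at the image point plus E minus the transcendence
degree of x over its image, where E bounds the transcendence degrees of the codimension-0 points
specializing to x. -/
theorem result {S : Scheme.{u}} {X Y : AlgSp.Space S} (f : X ⟶ Y)
    (hY : AlgSp.IsLocNoethSp Y.obj) (hf : AlgSp.LocP @LocallyOfFiniteType f.hom) (x : AlgSp.Points X.obj)
    (E : Cardinal.{u})
    (hE : ∀ ξ : AlgSp.Points X.obj, ξ ⤳ x → AlgSp.HasAt (fun U u => ringKrullDim ↥(U.presheaf.stalk u) = 0) X.obj ξ →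
      ∀ s : Cardinal.{u}, AlgSp.HasAtMor (fun _ _ h u => Dual3.resTrdeg h u = s) f.hom ξ → s ≤ E)
    (a b : WithBot ℕ∞) (r : Cardinal.{u})
    (ha : AlgSp.HasAt (fun U u => ringKrullDim ↥(U.presheaf.stalk u) = a) X.obj x)
    (hb : AlgSp.HasAt (fun U u => ringKrullDim ↥(U.presheaf.stalk u) = b) Y.obj (AlgSp.Points.map f.hom x))
    (hr : AlgSp.HasAtMor (fun _ _ h u => Dual3.resTrdeg h u = r) f.hom x) :
    a + ((Cardinal.toENat r : ℕ∞) : WithBot ℕ∞) ≤ b + ((Cardinal.toENat E : ℕ∞) : WithBot ℕ∞) := by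
  classical
  obtain ⟨U, V, α, β, h, u, hαe, hβe, cm, hu, hr'⟩ := hr
  obtain ⟨Ua, αa, ua, hαae, hua, hda⟩ := ha
  obtain ⟨Vb, βb, vb, hβbe, hvb, hdb⟩ := hb
  obtain ⟨V0, β0, hβ0e, hβ0s, hV0⟩ := hY
  obtain ⟨v0, hv0⟩ := ofPt_surjective β0 hβ0s (AlgSp.Points.map f.hom x)
  obtain ⟨P, p, h'', w, hp, hpa, cm', hw1, hw2, hwx⟩ :=
    ResTrdegH8.exists_chart_over f.hom α hαe u β0 hβ0e v0 (by rw [hv0, hu])
  have hwx' : AlgSp.Points.ofPt ((AlgSp.yon S).map p ≫ α) w = x := hwx.trans hu
  have hr'' : Dual3.resTrdeg h''.left w = r := by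
    rw [← hr']
    exact ResTrdegH8.chart_indep f.hom _ β0 h'' w α β h u hpa hβ0e hαe hβe cm' cm hwx
  have hda' : ringKrullDim (P.left.presheaf.stalk w) = a := by
    rw [← hda]
    exact ResTrdegH8.stalkDim_chart_indep _ αa hpa hαae w ua (hwx'.trans hua.symm)
  have hdb' : ringKrullDim (V0.left.presheaf.stalk (h''.left w)) = b := by
    rw [← hdb, hw2]
    exact ResTrdegH8.stalkDim_chart_indep β0 βb hβ0e hβbe v0 vb (hv0.trans hvb.symm)
  haveI : IsLocallyNoetherian V0.left := hV0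
  haveI : LocallyOfFiniteType h''.left := hf _ β0 h'' hpa hβ0e cm'
  obtain ⟨n, hn⟩ := Groth.Agent.ResQuot2H8.exists_trdeg_nat h''.left w
  have hrn : r = n := by rw [← hr'']; exact hn
  by_cases hEfin : E < Cardinal.aleph0
  · obtain ⟨m, rfl⟩ := Cardinal.lt_aleph0.mp hEfin
    have key := Groth.Agent.S9687.result h''.left w n m hn (fun ξ hξ hξw => by
      have hmax : ∀ z : ↥P.left, z ⤳ ξ → z = ξ :=
        (Groth.Agent.SchFTH8.closure_mem_irreducibleComponents_iff ξ).mp hξ
      have dim0 : ringKrullDim ↥(P.left.presheaf.stalk ξ) = 0 := by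
        rw [AlgebraicGeometry.ringKrullDim_stalk_eq_coheight]
        have : Order.coheight ξ = 0 := Order.coheight_eq_zero.mpr
          (fun b hb => le_of_eq (hmax b hb))
        rw [this]; rfl
      exact hE (AlgSp.Points.ofPt ((AlgSp.yon S).map p ≫ α) ξ)
        (by rw [← hwx']; exact hξw.map (AlgSp.Points.continuous_ofPt _))
        ⟨P, _, ξ, hpa, rfl, dim0⟩ (Dual3.resTrdeg h''.left ξ)
        ⟨P, V0, _, β0, h'', ξ, hpa, hβ0e, cm', rfl, rfl⟩)
    rw [hda', hdb'] at key
    rw [hrn]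
    simpa using key
  · have hE' : Cardinal.toENat E = ⊤ := Cardinal.toENat_eq_top.mpr (not_lt.mp hEfin)
    rw [hE', ← hdb', AlgebraicGeometry.ringKrullDim_stalk_eq_coheight]
    have : ((Order.coheight (h''.left w) : ℕ∞) : WithBot ℕ∞) + ((⊤ : ℕ∞) : WithBot ℕ∞) = ⊤ := by
      rw [← WithBot.coe_add, add_top]; rfl
    rw [this]
    exact le_top

end Groth.Agent.S10323
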