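import Groth.Statements.S10324
import Groth.Agent.Lib.ResTrdeg3_helper8
import Groth.Agent.Lib.DimGenFib_helper8
import Groth.Agent.S10323

set_option autoImplicit false
universe u
open CategoryTheory CategoryTheory.Limits AlgebraicGeometry
open AlgSp

namespace Groth.Agent.S10324

open Groth.Agent.Lib.AlgSpReduced_helper7 Groth.Agent.Lib.AlgSpPoints_helper7

/-- For Y locally Noetherian and f : X -> Y locally of finite type, dim X ≤ dim Y + E where E bounds the
transcendence degrees over Y of the codimension-0 points of X. -/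
theorem result {S : Scheme.{u}} {X Y : AlgSp.Space S} (f : X ⟶ Y)
    (hY : AlgSp.IsLocNoethSp Y.obj) (hf : AlgSp.LocP @LocallyOfFiniteType f.hom) (E : Cardinal.{u})
    (hE : ∀ ξ : AlgSp.Points X.obj, AlgSp.HasAt (fun U u => ringKrullDim ↥(U.presheaf.stalk u) = 0) X.obj ξ → ∀ s : Cardinal.{u}, AlgSp.HasAtMor (fun _ _ h u => Dual3.resTrdeg h u = s) f.hom ξ → s ≤ E) :
    AlgSp.dim X.obj ≤ AlgSp.dim Y.obj + ((Cardinal.toENat E : ℕ∞) : WithBot ℕ∞) := by
  classical
  unfold AlgSp.dim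
  refine iSup_le fun U => iSup_le fun α => iSup_le fun hαe => ?_
  rw [Groth.Agent.DimGenFibH8.topDim_eq_krullDim, Order.krullDim_eq_iSup_coheight]
  refine iSup_le fun u => ?_
  set x : AlgSp.Points X.obj := AlgSp.Points.ofPt α u with hx
  obtain ⟨V, β, v, hβe, hv⟩ := ResTrdegH8.exists_chart Y (AlgSp.Points.map f.hom x)
  obtain ⟨r, hr⟩ := ResTrdegH8.exists_hasAtMor_resTrdeg f x
  have key := Groth.Agent.S10323.result f hY hf x E (fun ξ _ h0 s hs => hE ξ h0 s hs)
    ((Order.coheight u : ℕ∞) : WithBot ℕ∞) (ringKrullDim ↥(V.left.presheaf.stalk v)) r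
    ⟨U, α, u, hαe, rfl, AlgebraicGeometry.ringKrullDim_stalk_eq_coheight u⟩
    ⟨V, β, v, hβe, hv, rfl⟩ hr
  have h1 : ((Order.coheight u : ℕ∞) : WithBot ℕ∞) ≤
      ((Order.coheight u : ℕ∞) : WithBot ℕ∞) + ((Cardinal.toENat r : ℕ∞) : WithBot ℕ∞) := by
    rw [← WithBot.coe_add]
    exact WithBot.coe_le_coe.mpr le_self_add
  have h2 : ringKrullDim ↥(V.left.presheaf.stalk v) ≤
      ⨆ (U : Over S) (a : (AlgSp.yon S).obj U ⟶ Y.obj) (_ : AlgSp.RepWith @Etale a),
        topologicalKrullDim ↥U.left :=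
    (Groth.Agent.DimGenFibH8.stalk_dim_le_topDim V.left v).trans
      (le_iSup_of_le V (le_iSup_of_le β (le_iSup_of_le hβe le_rfl)))
  exact h1.trans (key.trans (add_le_add_left h2 _))

end Groth.Agent.S10324
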