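import Groth.Statements.S10328
import Groth.Agent.Lib.ChartIndep_helper8
import Groth.Agent.Lib.FibCoh7_helper8

set_option autoImplicit false
universe u
open CategoryTheory CategoryTheory.Limits AlgebraicGeometry
open AlgSp

namespace Groth.Agent.S10328

/-- The relative dimension of a composite at a point is at most the sum of the relative dimensions, with
equality when the first morphism is flat at the point. (The published part (2) allows more generally
flatness of a fibre of X -> Y over a field point of Z; only the case f flat at x is stated.) -/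
theorem result {S : Scheme.{u}} {X Y Z : AlgSp.Space S} (f : X ⟶ Y) (g : Y ⟶ Z)
    (hf : AlgSp.LocP @LocallyOfFiniteType f.hom) (hg : AlgSp.LocP @LocallyOfFiniteType g.hom)
    (x : AlgSp.Points X.obj) (a b : WithBot ℕ∞)
    (ha : AlgSp.HasAtMor (fun _ _ h u => FlatMor.fibreDimAt h u = a) f.hom x)
    (hb : AlgSp.HasAtMor (fun _ _ h u => FlatMor.fibreDimAt h u = b) g.hom (AlgSp.Points.map f.hom x)) :
    AlgSp.HasAtMor (fun _ _ h u => FlatMor.fibreDimAt h u ≤ a + b) (f ≫ g).hom x ∧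
    (AlgSp.IsFlatAtMor f.hom x → AlgSp.HasAtMor (fun _ _ h u => FlatMor.fibreDimAt h u = a + b) (f ≫ g).hom x) := by
  obtain ⟨U1, V1, a1, b1, k1, u1, ha1, hb1, c1, hx1, hr1⟩ := ha
  obtain ⟨V2, W2, b2, c2, k2, v2, hb2, hc2, cm2, hx2, hr2⟩ := hb
  obtain ⟨P, p, h'', w, hp, hpa, cm, hw1, hw2, hwx⟩ :=
    ResTrdegH8.exists_chart_over f.hom a1 ha1 u1 b2 hb2 v2 (by rw [hx2, hx1])
  have hr : FlatMor.fibreDimAt h''.left w = a := by
    rw [← hr1]
    exact ChartIndepH8.fibreDimAt_chart_indep f.hom hf _ b2 h'' w a1 b1 k1 u1 hpa hb2 ha1 hb1 cm c1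
      hwx
  haveI : LocallyOfFiniteType h''.left := hf _ b2 h'' hpa hb2 cm
  haveI : LocallyOfFiniteType k2.left := hg b2 c2 k2 hb2 hc2 cm2
  have hcomm : ((AlgSp.yon S).map p ≫ a1) ≫ (f ≫ g).hom = (AlgSp.yon S).map (h'' ≫ k2) ≫ c2 := by
    change ((AlgSp.yon S).map p ≫ a1) ≫ f.hom ≫ g.hom = _
    rw [← Category.assoc, cm, Category.assoc, cm2, Functor.map_comp, Category.assoc]
  have key := FibCohH8.fibreDimAt_comp h''.left k2.left w
  have hr2' : FlatMor.fibreDimAt k2.left (h''.left w) = b := by rw [hw2]; exact hr2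
  rw [hr, hr2'] at key
  refine ⟨⟨P, W2, (AlgSp.yon S).map p ≫ a1, c2, h'' ≫ k2, w, hpa, hc2, hcomm, hwx.trans hx1,
    key.1⟩, fun hfl => ⟨P, W2, (AlgSp.yon S).map p ≫ a1, c2, h'' ≫ k2, w, hpa, hc2, hcomm,
    hwx.trans hx1, key.2 ?_⟩⟩
  exact hfl _ b2 h'' w hpa hb2 cm (hwx.trans hx1)

end Groth.Agent.S10328
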