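import Groth.Statements.S10329
import Groth.Agent.Lib.LqfLocus_helper8
import Groth.Agent.Lib.BCChart2_helper8
import Groth.Agent.Lib.FieldExt3_helper8
import Groth.Agent.Lib.FieldBase_helper8
import Groth.Agent.Lib.LocDimEt_helper8

set_option autoImplicit false
universe u
open CategoryTheory CategoryTheory.Limits AlgebraicGeometry
open AlgSp

namespace Groth.Agent.S10329

open Groth.Agent.Lib.AlgSpPoints_helper7

/-- If the fibre of a morphism locally of finite type has dimension 0 at a point, then the morphism is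
locally quasi-finite on some open subspace containing the image of that point. -/
theorem result {S : Scheme.{u}} {X Y F : AlgSp.Space S} (f : X ⟶ Y)
    (hf : AlgSp.LocP @LocallyOfFiniteType f.hom) (k : Type u) [Field k] (str : Spec (.of k) ⟶ S)
    (y : (AlgSp.yon S).obj (Over.mk str) ⟶ Y.obj) (p : F ⟶ X) (q : F.obj ⟶ (AlgSp.yon S).obj (Over.mk str))
    (sq : IsPullback p.hom q f.hom y) (z : AlgSp.Points F.obj)
    (hz : AlgSp.HasAt (fun U u => FlatMor.localDim ↥U u = 0) F.obj z) :
    ∃ (X' : AlgSp.Space S) (j : X' ⟶ X), AlgSp.RepWith @IsOpenImmersion j.hom ∧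
      AlgSp.Points.map p.hom z ∈ Set.range (AlgSp.Points.map j.hom) ∧
      AlgSp.LocP (@LocallyQuasiFinite ⊓ @LocallyOfFiniteType) (j ≫ f).hom := by
  obtain ⟨X', j, hj, hrange, hlqf⟩ := LqfLocusH8.exists_lqf_open f hf
  refine ⟨X', j, hj, ?_, hlqf⟩
  rw [hrange]
  -- the base change data as a square of spaces
  let Y' : AlgSp.Space S := ⟨(AlgSp.yon S).obj (Over.mk str), AlgSp.IsAlgSpace.yon_obj _⟩
  let g : Y' ⟶ Y := ObjectProperty.homMk y
  let f' : F ⟶ Y' := ObjectProperty.homMk q
  have sq' : IsPullback p.hom f'.hom f.hom g.hom := sq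
  obtain ⟨U, V, a, b, h, u, hae, hbe, comm, hu⟩ :=
    ResTrdegH8.exists_chart_diagram f (AlgSp.Points.map p.hom z)
  haveI : LocallyOfFiniteType h.left := hf a b h hae hbe comm
  have hb0e : AlgSp.RepWith @Etale (𝟙 ((AlgSp.yon S).obj (Over.mk str))) :=
    AlgSp.repWith_id _ _
  obtain ⟨W, V'', r, b'', κ, aW, φ, ψ, hre, hb''e, comm', sqL, hr1, hb'', sqV, hpts⟩ :=
    BCChartH8.exists_bc_chart₂ f g p f' sq' a b h hae hbe comm
      (𝟙 ((AlgSp.yon S).obj (Over.mk str))) hb0e
  haveI hsub : Subsingleton ↥(Over.mk str).left :=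
    inferInstanceAs (Subsingleton (PrimeSpectrum k))
  have hv0 : AlgSp.Points.ofPt (𝟙 ((AlgSp.yon S).obj (Over.mk str)))
      (IsLocalRing.closedPoint k : ↥(Over.mk str).left) = AlgSp.Points.map f'.hom z := by
    apply (AlgSp.Points.schemeEquiv (Over.mk str)).symm.injective
    exact Subsingleton.elim _ _
  obtain ⟨w, hw, hwu, -⟩ := hpts z u (IsLocalRing.closedPoint k) hu hv0
  obtain ⟨U1, a1, u1, hae1, hu1, hd1⟩ := hz
  have hloc : FlatMor.localDim ↥W.left w = 0 := by
    rw [← LocDimEtH8.localDim_chart_indep a1 r hae1 hre u1 w (hu1.trans hw.symm)]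
    exact hd1
  haveI : Etale ψ.left := by
    have h1 : AlgSp.RepWith @Etale ((AlgSp.yon S).map ψ) := by
      rw [hb'', Category.comp_id] at hb''e; exact hb''e
    exact (AlgSp.repWith_yon_map_iff _ _).1 h1
  have h0 : FlatMor.fibreDimAt κ.left w = 0 := by
    rw [FieldBaseH8.fibreDimAt_of_etale_to_field κ.left ψ.left w]; exact hloc
  have hbc := FieldExtH8.fibreDimAt_baseChange h.left φ.left aW.left κ.left sqL w
  rw [hwu, h0] at hbc
  exact ⟨U, V, a, b, h, u, hae, hbe, comm, hu, hbc.symm⟩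

end Groth.Agent.S10329
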