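import Groth.Statements.S10331
import Groth.Agent.Lib.MonicGsect_helper6
import Groth.Agent.Lib.AlgSpSmST_helper7

set_option autoImplicit false
universe u
open CategoryTheory CategoryTheory.Limits AlgebraicGeometry Opposite
open AlgSp

namespace Groth.Agent.S10331

open Groth.Agent.Lib.MonicGsectH6 Groth.Agent.Lib.AlgSpQC_helper7
  Groth.Agent.Lib.AlgSpPullback_helper7 Groth.Agent.Lib.AlgSpSmST_helper7

set_option maxHeartbeats 1600000 in
/-- Let f : X -> h_V be a quasi-compact, quasi-separated and universally closed morphism from an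
algebraic space over S to an affine scheme V over S. Then every global section of O_X (a compatible
family of functions on the schemes etale over X) satisfies a monic polynomial with coefficients in
Γ(V, O_V). (The published statement has an arbitrary algebraic space as target and says that f_*O_X
is integral over O_Y, which is this assertion for the base change of f to every affine scheme etale
over the target; the reformulation through the relative spectrum of f_*O_X is not included.) -/
theorem result {S : Scheme.{u}} (V : Over S) [IsAffine V.left] (X : AlgSp.Space S)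
    (f : X ⟶ (AlgSp.ofScheme S).obj V) (hqc : AlgSp.IsQuasiCompactMor f.hom)
    (hqs : AlgSp.IsQuasiSeparatedMor f.hom) (huc : AlgSp.IsUnivClosedMor f.hom)
    (s : ↥(AlgSp.gsectEt (AlgSp.OEt X.obj) : CommRingCat.{u + 1})) :
    ∃ p : Polynomial Γ(V.left, ⊤), p.Monic ∧
      ∀ E : AlgSp.EtOver X.obj,
        Polynomial.eval₂ ((AlgSp.yon S).preimage (E.obj.hom ≫ f.hom)).left.appTop.hom
          ((limit.π (AlgSp.OEt X.obj).obj (op E)) s).down p = 0 := by
  -- compatibility along morphisms of the small étale site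
  have hsE : ∀ {E E' : AlgSp.EtOver X.obj} (g : E ⟶ E'),
      ((limit.π (AlgSp.OEt X.obj).obj (op E)) s).down =
        g.hom.left.left.appTop.hom ((limit.π (AlgSp.OEt X.obj).obj (op E')) s).down := by
    intro E E' g
    have h1 := ConcreteCategory.congr_hom (limit.w (AlgSp.OEt X.obj).obj g.op) s
    have h2 : (AlgSp.OEt X.obj).obj.map g.op ((limit.π (AlgSp.OEt X.obj).obj (op E')) s) =
        (limit.π (AlgSp.OEt X.obj).obj (op E)) s := h1
    rw [← h2, AlgSp.OEt_map]
  have haE : ∀ {E E' : AlgSp.EtOver X.obj} (g : E ⟶ E'),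
      ((AlgSp.yon S).preimage (E.obj.hom ≫ f.hom)).left.appTop.hom =
        (g.hom.left.left.appTop.hom).comp
          ((AlgSp.yon S).preimage (E'.obj.hom ≫ f.hom)).left.appTop.hom := by
    intro E E' g
    have h1 : (AlgSp.yon S).preimage (E.obj.hom ≫ f.hom) =
        g.hom.left ≫ (AlgSp.yon S).preimage (E'.obj.hom ≫ f.hom) := by
      apply (AlgSp.yon S).map_injective
      rw [Functor.map_preimage, Functor.map_comp, Functor.map_preimage, ← Category.assoc,
        AlgSp.EtOver.w g]
    rw [h1]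
    rfl
  have key : ∀ {E E' : AlgSp.EtOver X.obj} (g : E ⟶ E') (p : Polynomial Γ(V.left, ⊤)),
      Polynomial.eval₂ ((AlgSp.yon S).preimage (E.obj.hom ≫ f.hom)).left.appTop.hom
          ((limit.π (AlgSp.OEt X.obj).obj (op E)) s).down p =
        g.hom.left.left.appTop.hom
          (Polynomial.eval₂ ((AlgSp.yon S).preimage (E'.obj.hom ≫ f.hom)).left.appTop.hom
            ((limit.π (AlgSp.OEt X.obj).obj (op E')) s).down p) := by
    intro E E' g p
    rw [hsE g, haE g]
    exact (Polynomial.hom_eval₂ p _ _ _).symm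
  -- an affine étale atlas
  have hqcX : IsQuasiCompactSp X.obj :=
    hqc (IsAlgSpace.yon_obj V) (isQuasiCompactSp_yon V) (𝟙 _) (𝟙 X.obj) f.hom
      (isPullback_id_left f.hom)
  obtain ⟨U, p₀, hUaff, hpe, hps⟩ := exists_affine_atlas hqcX
  haveI : IsAffine U.left := hUaff
  let E₀ : AlgSp.EtOver X.obj := AlgSp.EtOver.mk p₀ hpe
  let u : U ⟶ V := (AlgSp.yon S).preimage (p₀ ≫ f.hom)
  have hu : (AlgSp.yon S).map u = p₀ ≫ f.hom := (AlgSp.yon S).map_preimage _
  let s₀ : Γ(U.left, ⊤) := ((limit.π (AlgSp.OEt X.obj).obj (op E₀)) s).down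
  -- the two pullbacks of `s₀` to `U ×_X U` agree
  have h12 : ((AlgSp.yon S).preimage (hpe.rep.fst p₀)).left.appTop.hom s₀ =
      (hpe.rep.snd p₀).left.appTop.hom s₀ := by
    have sq := hpe.rep.isPullback p₀
    have hEt : Etale (hpe.rep.snd p₀).left := hpe.property_snd p₀
    let ER : AlgSp.EtOver X.obj := AlgSp.EtOver.mk ((AlgSp.yon S).map (hpe.rep.snd p₀) ≫ p₀)
      (repWith_comp @Etale ((repWith_yon_map_iff @Etale (hpe.rep.snd p₀)).2 hEt) hpe)
    let g₂ : ER ⟶ E₀ := AlgSp.EtOver.homMk (hpe.rep.snd p₀) rfl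
    let g₁ : ER ⟶ E₀ := AlgSp.EtOver.homMk ((AlgSp.yon S).preimage (hpe.rep.fst p₀)) (by
      rw [Functor.map_preimage]; exact sq.w)
    exact (hsE g₁).symm.trans (hsE g₂)
  obtain ⟨p, hpm, hp0⟩ := core V f.hom huc U p₀ hpe hps u hu s₀
    (appTop_eq_of_comp_eq p₀ hpe s₀ h12)
  refine ⟨p, hpm, fun E => ?_⟩
  -- reduce to the atlas
  have sq := hpe.rep.isPullback E.obj.hom
  have hEt : Etale (hpe.rep.snd E.obj.hom).left := hpe.property_snd E.obj.hom
  have hSj : Surjective (hpe.rep.snd E.obj.hom).left := hps.property_snd E.obj.hom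
  let E' : AlgSp.EtOver X.obj :=
    AlgSp.EtOver.mk ((AlgSp.yon S).map (hpe.rep.snd E.obj.hom) ≫ E.obj.hom)
      (repWith_comp @Etale ((repWith_yon_map_iff @Etale (hpe.rep.snd E.obj.hom)).2 hEt) E.property)
  let g₁ : E' ⟶ E := AlgSp.EtOver.homMk (hpe.rep.snd E.obj.hom) rfl
  let g₂ : E' ⟶ E₀ := AlgSp.EtOver.homMk ((AlgSp.yon S).preimage (hpe.rep.fst E.obj.hom)) (by
    rw [Functor.map_preimage]; exact sq.w)
  have hinj : Function.Injective (hpe.rep.snd E.obj.hom).left.appTop.hom :=
    Groth.Agent.Lib.AffDescH7.injective_appTop_of_flat_of_surjective _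
  apply hinj
  have k1 := key g₁ p
  have k2 := key g₂ p
  rw [map_zero]
  refine k1.symm.trans (k2.trans ?_)
  have : Polynomial.eval₂ ((AlgSp.yon S).preimage (E₀.obj.hom ≫ f.hom)).left.appTop.hom
      ((limit.π (AlgSp.OEt X.obj).obj (op E₀)) s).down p = 0 := hp0
  rw [this, map_zero]

end Groth.Agent.S10331
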