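import Groth.Statements.S10333
import Groth.Agent.S10193
import Groth.Agent.Lib.RedInduced_helper7
import Groth.Agent.Lib.AffDesc5_helper7
import Groth.Agent.Lib.SchImage_helper7

set_option autoImplicit false
universe u
open CategoryTheory CategoryTheory.Limits AlgebraicGeometry
open AlgSp

namespace Groth.Agent.S10333

/-- Let f : Y -> X be a morphism of algebraic spaces over S that is quasi-compact and quasi-separated,
and X' -> X the normalization of X in Y (an integral morphism through which f factors, initial among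
such factorizations). If Y is reduced then X' is reduced. -/
theorem result {S : Scheme.{u}} {Y X X' : AlgSp.Space S} (f : Y ⟶ X)
    (hqc : AlgSp.IsQuasiCompactMor f.hom) (hqs : AlgSp.IsQuasiSeparatedMor f.hom) (ν : X' ⟶ X) (f' : Y ⟶ X')
    (hn : AlgSp.IsRelNormalization f.hom ν.hom f'.hom) (hY : AlgSp.IsReducedSp Y.obj) :
    AlgSp.IsReducedSp X'.obj := by
  obtain ⟨hfac, hνint, huniv⟩ := hn
  obtain ⟨R, i, hi, hrange, hRred⟩ :=
    Groth.Agent.Lib.RedInducedH7.exists_isRedInduced X' Set.univ isClosed_univ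
  obtain ⟨f'', hf''⟩ := (Groth.Agent.S10193.result i hi hY f').2
    (by rw [hrange]; exact Set.subset_univ _)
  have hAff : ∀ ⦃A B : Scheme.{u}⦄ (k : A ⟶ B), IsIntegralHom k → IsAffineHom k :=
    fun _ _ k hk => by haveI := hk; infer_instance
  have hiν : AlgSp.IsIntegralMor (i.hom ≫ ν.hom) := by
    refine (Groth.Agent.Lib.AffDescH7.affRep_iff_repWith @IsIntegralHom hAff _).2 ?_
    exact Groth.Agent.Lib.AlgSpPullback_helper7.repWith_comp @IsIntegralHom
      (Groth.Agent.Lib.AlgSpPoints_helper7.repWith_mono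
        (fun _ _ k (hk : IsClosedImmersion k) => (inferInstance : IsIntegralHom k)) hi)
      ((Groth.Agent.Lib.AffDescH7.affRep_iff_repWith @IsIntegralHom hAff _).1 hνint)
  have hf''h : f''.hom ≫ i.hom = f'.hom := congrArg (fun m => m.hom) hf''
  obtain ⟨h, ⟨hh1, hh2⟩, -⟩ := huniv R.property (i.hom ≫ ν.hom) f''.hom hiν
    (by rw [← Category.assoc, hf''h, hfac])
  obtain ⟨k, _, hk⟩ := huniv X'.property ν.hom f'.hom hνint hfac
  have e1 : h ≫ i.hom = k :=
    hk _ ⟨by rw [← Category.assoc, hh1, hf''h], by rw [Category.assoc, hh2]⟩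
  have e2 : 𝟙 X'.obj = k := hk _ ⟨Category.comp_id _, Category.id_comp _⟩
  have hsplit : h ≫ i.hom = 𝟙 _ := e1.trans e2.symm
  haveI : Mono i.hom := Groth.Agent.Lib.SchImageH7.mono_of_closedImmersion _ hi
  haveI : IsIso i.hom := ⟨h, by
    rw [← cancel_mono i.hom, Category.assoc, hsplit, Category.comp_id, Category.id_comp], hsplit⟩
  obtain ⟨U, p, hpe, hps, hUr⟩ := hRred
  exact ⟨U, p ≫ i.hom,
    Groth.Agent.Lib.AlgSpPullback_helper7.repWith_comp @Etale hpe
      (Groth.Agent.Lib.AlgSpBasic_helper7.repWith_of_isIso @Etale i.hom),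
    Groth.Agent.Lib.AlgSpPullback_helper7.repWith_comp @Surjective hps
      (Groth.Agent.Lib.AlgSpBasic_helper7.repWith_of_isIso @Surjective i.hom), hUr⟩

end Groth.Agent.S10333
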