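import Groth.Statements.S10335
import Groth.Agent.Lib.BCChart2_helper8
import Groth.Agent.Lib.FieldExt4_helper8
import Groth.Agent.Lib.ChartIndep_helper8

set_option autoImplicit false
universe u
open CategoryTheory CategoryTheory.Limits AlgebraicGeometry
open AlgSp

namespace Groth.Agent.S10335

open Groth.Agent.Lib.AlgSpPoints_helper7

/-- In a base change square of algebraic spaces with f : X -> Y locally of finite type and f' : X' -> Y'
its base change along g : Y' -> Y, take a point x' of X' over x. The fibre of f' has a local ring at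
x' whose dimension exceeds the corresponding dimension for the fibre of f at x by exactly the
transcendence degree of x over f(x) minus that of x' over f'(x'), and this excess is never negative;
and for x in X and y' in Y' over the same point of Y some x' over both has excess zero. All four
quantities are read on some chart diagram through the point. -/
theorem result {S : Scheme.{u}} {X Y Y' X' : AlgSp.Space S} (f : X ⟶ Y) (g : Y' ⟶ Y)
    (g' : X' ⟶ X) (f' : X' ⟶ Y') (sq : IsPullback g'.hom f'.hom f.hom g.hom)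
    (hf : AlgSp.LocP @LocallyOfFiniteType f.hom) :
    (∀ (x' : AlgSp.Points X'.obj) (e e' : WithBot ℕ∞) (r r' : Cardinal.{u}),
      AlgSp.HasAtMor (fun _ _ h u => ringKrullDim ↥((h.fiber (h u)).presheaf.stalk (h.asFiber u)) = e) f.hom
          (AlgSp.Points.map g'.hom x') →
      AlgSp.HasAtMor (fun _ _ h u => Dual3.resTrdeg h u = r) f.hom (AlgSp.Points.map g'.hom x') →
      AlgSp.HasAtMor (fun _ _ h u => ringKrullDim ↥((h.fiber (h u)).presheaf.stalk (h.asFiber u)) = e') f'.hom x' →
      AlgSp.HasAtMor (fun _ _ h u => Dual3.resTrdeg h u = r') f'.hom x' →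
        e' + ((Cardinal.toENat r' : ℕ∞) : WithBot ℕ∞) = e + ((Cardinal.toENat r : ℕ∞) : WithBot ℕ∞) ∧ e ≤ e') ∧
    (∀ (x : AlgSp.Points X.obj) (y' : AlgSp.Points Y'.obj) (e : WithBot ℕ∞),
      AlgSp.Points.map f.hom x = AlgSp.Points.map g.hom y' →
      AlgSp.HasAtMor (fun _ _ h u => ringKrullDim ↥((h.fiber (h u)).presheaf.stalk (h.asFiber u)) = e) f.hom x →
        ∃ x' : AlgSp.Points X'.obj, AlgSp.Points.map g'.hom x' = x ∧ AlgSp.Points.map f'.hom x' = y' ∧
          AlgSp.HasAtMor (fun _ _ h u => ringKrullDim ↥((h.fiber (h u)).presheaf.stalk (h.asFiber u)) = e)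
            f'.hom x') := by
  refine ⟨?_, ?_⟩
  · intro x' e e' r r' h1 h2 h3 h4
    obtain ⟨U, V, a, b, h, u, hae, hbe, comm, hu, he⟩ := h1
    obtain ⟨U2, V2, a2, b2, h2', u2, hae2, hbe2, comm2, hu2, hr⟩ := h2
    obtain ⟨U3, V3, a3, b3, h3', u3, hae3, hbe3, comm3, hu3, he'⟩ := h3
    obtain ⟨U4, V4, a4, b4, h4', u4, hae4, hbe4, comm4, hu4, hr'⟩ := h4
    obtain ⟨W, V'', r_, b'', κ, aW, φ, w, hre, hb''e, comm', hw, hwu, sqL, -, -⟩ :=
      BCChartH8.exists_bc_chart f g g' f' sq x' a b h u hae hbe comm hu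
    haveI : LocallyOfFiniteType h.left := hf a b h hae hbe comm
    haveI : LocallyOfFiniteType κ.left := MorphismProperty.of_isPullback sqL inferInstance
    have hE : e = ((FibCohH8.fibCoh h.left u : ℕ∞) : WithBot ℕ∞) := by
      rw [← he]; exact FibCohH8.stalk_fiber_eq_fibCoh h.left u
    have hR : r = Dual3.resTrdeg h.left u := by
      rw [← hr]
      exact ResTrdegH8.chart_indep f.hom a2 b2 h2' u2 a b h u hae2 hbe2 hae hbe comm2 comm
        (hu2.trans hu.symm)
    have hE' : e' = ((FibCohH8.fibCoh κ.left w : ℕ∞) : WithBot ℕ∞) := by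
      rw [← he', FibCohH8.stalk_fiber_eq_fibCoh h3'.left u3]
      congr 1
      exact ChartIndepH8.fibCoh_chart_indep f'.hom a3 b3 h3' u3 r_ b'' κ w hae3 hbe3 hre hb''e
        comm3 comm' (hu3.trans hw.symm)
    have hR' : r' = Dual3.resTrdeg κ.left w := by
      rw [← hr']
      exact ResTrdegH8.chart_indep f'.hom a4 b4 h4' u4 r_ b'' κ w hae4 hbe4 hre hb''e comm4 comm'
        (hu4.trans hw.symm)
    have hbc := FieldExtH8.fibreDimAt_baseChange h.left φ.left aW.left κ.left sqL w
    rw [hwu, FibCohH8.fibreDimAt_eq, FibCohH8.fibreDimAt_eq] at hbc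
    have hle := FieldExtH8.fibCoh_le_baseChange h.left φ.left aW.left κ.left sqL w
    rw [hwu] at hle
    rw [hE, hR, hE', hR']
    exact ⟨hbc, by exact_mod_cast hle⟩
  · intro x y' e hxy he
    obtain ⟨U, V, a, b, h, u, hae, hbe, comm, hu, he'⟩ := he
    obtain ⟨V0, b0, v0, hb0e, hv0⟩ := ResTrdegH8.exists_chart Y' y'
    obtain ⟨W, V'', r_, b'', κ, aW, φ, ψ, hre, hb''e, comm', sqL, hr1, hb'', sqV, -⟩ :=
      BCChartH8.exists_bc_chart₂ f g g' f' sq a b h hae hbe comm b0 hb0e
    haveI : LocallyOfFiniteType h.left := hf a b h hae hbe comm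
    have hpt : Points.ofPt b (h.left u) = Points.ofPt (b0 ≫ g.hom) v0 := by
      rw [← ofPt_comp, ← comm, ← Points.map_ofPt, hu, hxy, ← hv0, Points.map_ofPt]
    obtain ⟨v'', hv1, hv2⟩ := exists_ofPt_eq_of_isPullback sqV (h.left u) v0 hpt
    obtain ⟨w, hw1, hw2, hw3⟩ := FieldExtH8.exists_fibCoh_eq_baseChange h.left φ.left aW.left
      κ.left sqL u v'' hv1.symm
    refine ⟨Points.ofPt r_ w, ?_, ?_, W, V'', r_, b'', κ, w, hre, hb''e, comm', rfl, ?_⟩
    · rw [Points.map_ofPt, hr1, ofPt_comp, hw1, hu]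
    · rw [Points.map_ofPt, comm', ofPt_comp, hw2, hb'', ofPt_comp, hv2, hv0]
    · show ringKrullDim ↥((κ.left.fiber (κ.left w)).presheaf.stalk (κ.left.asFiber w)) = e
      rw [FibCohH8.stalk_fiber_eq_fibCoh, hw3, ← FibCohH8.stalk_fiber_eq_fibCoh]
      exact he'

end Groth.Agent.S10335
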