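import Groth.Statements.S10336
import Groth.Agent.Lib.AlgSpGlue5_helper7

set_option autoImplicit false
universe u
open CategoryTheory CategoryTheory.Limits AlgebraicGeometry
open AlgSp

namespace Groth.Agent.S10336

instance finLocFree_isZariskiLocalAtTarget : IsZariskiLocalAtTarget (AlgSp.finLocFree.{u}) := by
  let P1 : MorphismProperty Scheme.{u} := @IsFinite
  let P2 : MorphismProperty Scheme.{u} := @Flat
  let P3 : MorphismProperty Scheme.{u} := @LocallyOfFinitePresentation
  haveI : IsZariskiLocalAtTarget P1 := inferInstanceAs (IsZariskiLocalAtTarget @IsFinite)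
  haveI : IsZariskiLocalAtTarget P2 := inferInstanceAs (IsZariskiLocalAtTarget @Flat)
  haveI : IsZariskiLocalAtTarget P3 :=
    inferInstanceAs (IsZariskiLocalAtTarget @LocallyOfFinitePresentation)
  have : AlgSp.finLocFree.{u} = P1 ⊓ (P2 ⊓ P3) := by
    ext X Y f
    exact Iff.rfl
  rw [this]
  infer_instance

/-- Integrality, finiteness and finite local freeness of a morphism f : X -> Y of algebraic spaces over
S can be checked on the restrictions of f over the members of a Zariski covering of Y by open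
subspaces. -/
theorem result {S : Scheme.{u}} {X Y : AlgSp.Space S} (f : X ⟶ Y) {ι : Type u}
    (Yi : ι → AlgSp.Space S) (j : ∀ i, Yi i ⟶ Y) (hj : AlgSp.IsZarCover (fun i => (Yi i).obj) (fun i => (j i).hom))
    (Xi : ι → AlgSp.Sp S) (p : ∀ i, Xi i ⟶ X.obj) (q : ∀ i, Xi i ⟶ (Yi i).obj)
    (sq : ∀ i, IsPullback (p i) (q i) f.hom (j i).hom) :
    ((∀ i, AlgSp.IsIntegralMor (q i)) → AlgSp.IsIntegralMor f.hom) ∧
    ((∀ i, AlgSp.IsFiniteMor (q i)) → AlgSp.IsFiniteMor f.hom) ∧
    ((∀ i, AlgSp.IsFinLocFreeMor (q i)) → AlgSp.IsFinLocFreeMor f.hom) := by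
  open Groth.Agent.Lib.AlgSpGlue5H7 in
  refine ⟨fun hq => ?_, fun hq => ?_, fun hq => ?_⟩
  · intro Z hZ g
    obtain ⟨W, w, fst, hpb, hP⟩ := exists_rep_of_isZarCover @IsIntegralHom f.hom
      (fun i => (Yi i).obj) (fun i => (j i).hom) hj Xi p q sq
      (fun i Z' hZ' g' => by
        obtain ⟨W, w, fst, h1, h2, h3⟩ := hq i hZ' g'
        exact ⟨W, w, fst, h1, h3⟩) g
    haveI : IsAffine Z.left := hZ
    haveI : IsIntegralHom w.left := hP
    exact ⟨W, w, fst, hpb, isAffine_of_isAffineHom w.left, hP⟩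
  · intro Z hZ g
    obtain ⟨W, w, fst, hpb, hP⟩ := exists_rep_of_isZarCover @IsFinite f.hom
      (fun i => (Yi i).obj) (fun i => (j i).hom) hj Xi p q sq
      (fun i Z' hZ' g' => by
        obtain ⟨W, w, fst, h1, h2, h3⟩ := hq i hZ' g'
        exact ⟨W, w, fst, h1, h3⟩) g
    haveI : IsAffine Z.left := hZ
    haveI : IsFinite w.left := hP
    exact ⟨W, w, fst, hpb, isAffine_of_isAffineHom w.left, hP⟩
  · apply MorphismProperty.relative.of_exists
    intro T g
    obtain ⟨W, w, fst, hpb, hP⟩ := exists_rep_of_isZarCover AlgSp.finLocFree f.hom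
      (fun i => (Yi i).obj) (fun i => (j i).hom) hj Xi p q sq
      (fun i Z' hZ' g' => by
        obtain ⟨W, w, fst, h1⟩ := (hq i).rep g'
        exact ⟨W, w, fst, h1, (hq i).property _ _ _ h1⟩) g
    exact ⟨W, fst, w, hpb, hP⟩

end Groth.Agent.S10336
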