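import Groth.Statements.S10347
import Groth.Agent.Lib.AlgSpReduced_helper7
import Groth.Agent.Lib.EtDim1_helper8
import Groth.Agent.Lib.DimGenFib_helper8

set_option autoImplicit false
universe u
open CategoryTheory CategoryTheory.Limits AlgebraicGeometry Topology TopologicalSpace
open AlgSp

namespace Groth.Agent.S10347

open Groth.Agent.Lib.AlgSpReduced_helper7 Groth.Agent.Lib.AlgSpPoints_helper7

/-- For a locally quasi-finite morphism f : X ⟶ Y of algebraic spaces over a scheme S (locally
quasi-finite and locally of finite type, etale locally on source and target), dim X ≤ dim Y. -/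
theorem result {S : Scheme.{u}} {X Y : AlgSp.Space S} (f : X ⟶ Y)
    (hf : AlgSp.LocP (@LocallyQuasiFinite ⊓ @LocallyOfFiniteType) f.hom) :
    AlgSp.dim X.obj ≤ AlgSp.dim Y.obj := by
  unfold AlgSp.dim
  refine iSup_le fun U => iSup_le fun a => iSup_le fun hae => ?_
  rw [Groth.Agent.DimGenFibH8.topDim_eq_krullDim, Order.krullDim_eq_iSup_coheight]
  refine iSup_le fun u => ?_
  obtain ⟨V, b, hbe, hbs⟩ := Y.property.atlas
  set c : (AlgSp.yon S).obj U ⟶ Y.obj := a ≫ f.hom with hc
  obtain ⟨v, hv⟩ := ofPt_surjective b hbs (AlgSp.Points.ofPt c u)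
  have sq := hbe.rep.isPullback' c
  haveI h2 : Etale (hbe.rep.snd c).left := hbe.property_snd c
  have ha'e : RepWith @Etale ((AlgSp.yon S).map (hbe.rep.snd c) ≫ a) :=
    (RepWith (S := S) @Etale).comp_mem _ _ ((repWith_yon_map_iff _ _).2 h2) hae
  have comm : ((AlgSp.yon S).map (hbe.rep.snd c) ≫ a) ≫ f.hom =
      (AlgSp.yon S).map (hbe.rep.fst' c) ≫ b := by
    rw [Category.assoc]
    exact sq.w.symm
  obtain ⟨hlqf, hlft⟩ := hf _ b (hbe.rep.fst' c) ha'e hbe comm
  haveI : LocallyQuasiFinite (hbe.rep.fst' c).left := hlqf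
  obtain ⟨z, hz1, hz2⟩ := exists_of_isPullback sq (Points.ofScheme V v) (Points.ofScheme U u)
    (by rw [← Points.ofPt_eq_map_ofScheme, ← Points.ofPt_eq_map_ofScheme, hv])
  obtain ⟨w, rfl⟩ := ofScheme_surjective _ z
  rw [← Points.ofPt_eq_map_ofScheme, ofPt_yon_map] at hz1 hz2
  have hw1 : (hbe.rep.fst' c).left w = v := ofScheme_injective V hz1
  have hw2 : (hbe.rep.snd c).left w = u := ofScheme_injective U hz2
  have h3 : Order.coheight u ≤ Order.coheight v := by
    rw [← hw1, ← hw2, EtDimH8.coheight_eq_of_etale]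
    exact Order.coheight_le_coheight_apply_of_strictMono _
      (EtDimH8.strictMono_of_locallyQuasiFinite (hbe.rep.fst' c).left) w
  have h4 : ((Order.coheight v : ℕ∞) : WithBot ℕ∞) ≤ topologicalKrullDim ↥V.left := by
    rw [Groth.Agent.DimGenFibH8.topDim_eq_krullDim]
    exact Order.coheight_le_krullDim v
  refine (WithBot.coe_le_coe.mpr h3).trans (h4.trans ?_)
  exact le_iSup_of_le V (le_iSup_of_le b (le_iSup_of_le hbe le_rfl))

end Groth.Agent.S10347
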