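import Groth.Statements.S10348
import Groth.Agent.Lib.AlgSpReduced_helper7
import Groth.Agent.Lib.EtDim1_helper8

set_option autoImplicit false
universe u
open CategoryTheory CategoryTheory.Limits AlgebraicGeometry Topology TopologicalSpace
open AlgSp

namespace Groth.Agent.S10348

open Groth.Agent.Lib.AlgSpReduced_helper7 Groth.Agent.Lib.AlgSpPoints_helper7

/-- Let S be a scheme, X and Y algebraic spaces over S, and f : X ⟶ Y a morphism which is locally
quasi-finite; let x ∈ |X| have image y ∈ |Y|. Then the local ring of X at x has dimension at most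
that of the local ring of Y at the point y (both dimensions read on etale charts through the
points). -/
theorem result {S : Scheme.{u}} {X Y : AlgSp.Space S} (f : X ⟶ Y)
    (hf : AlgSp.LocP (@LocallyQuasiFinite ⊓ @LocallyOfFiniteType) f.hom) (x : AlgSp.Points X.obj)
    (d e : WithBot ℕ∞)
    (hx : AlgSp.HasAt (fun U u => ringKrullDim ↥(U.presheaf.stalk u) = d) X.obj x)
    (hy : AlgSp.HasAt (fun V v => ringKrullDim ↥(V.presheaf.stalk v) = e) Y.obj (AlgSp.Points.map f.hom x)) :
    d ≤ e := by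
  obtain ⟨U, a, u, hae, hu, hd⟩ := hx
  obtain ⟨V, b, v, hbe, hv, he⟩ := hy
  set c : (AlgSp.yon S).obj U ⟶ Y.obj := a ≫ f.hom with hc
  have sq := hbe.rep.isPullback' c
  haveI h2 : Etale (hbe.rep.snd c).left := hbe.property_snd c
  have ha'e : RepWith @Etale ((AlgSp.yon S).map (hbe.rep.snd c) ≫ a) :=
    (RepWith (S := S) @Etale).comp_mem _ _ ((repWith_yon_map_iff _ _).2 h2) hae
  have comm : ((AlgSp.yon S).map (hbe.rep.snd c) ≫ a) ≫ f.hom =
      (AlgSp.yon S).map (hbe.rep.fst' c) ≫ b := by
    rw [Category.assoc]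
    exact sq.w.symm
  obtain ⟨hlqf, hlft⟩ := hf _ b (hbe.rep.fst' c) ha'e hbe comm
  haveI : LocallyQuasiFinite (hbe.rep.fst' c).left := hlqf
  obtain ⟨z, hz1, hz2⟩ := exists_of_isPullback sq (Points.ofScheme V v) (Points.ofScheme U u)
    (by rw [← Points.ofPt_eq_map_ofScheme, ← Points.ofPt_eq_map_ofScheme, hv, ← hu]; rfl)
  obtain ⟨w, rfl⟩ := ofScheme_surjective _ z
  rw [← Points.ofPt_eq_map_ofScheme, ofPt_yon_map] at hz1 hz2
  have hw1 : (hbe.rep.fst' c).left w = v := ofScheme_injective V hz1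
  have hw2 : (hbe.rep.snd c).left w = u := ofScheme_injective U hz2
  rw [AlgebraicGeometry.ringKrullDim_stalk_eq_coheight] at hd he
  rw [← hd, ← he, ← hw1, ← hw2, EtDimH8.coheight_eq_of_etale]
  exact WithBot.coe_le_coe.mpr (Order.coheight_le_coheight_apply_of_strictMono _
    (EtDimH8.strictMono_of_locallyQuasiFinite (hbe.rep.fst' c).left) w)

end Groth.Agent.S10348
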