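import Groth.Statements.S10352
import Groth.Agent.Lib.FieldQuot4_helper6

set_option autoImplicit false
universe u
open CategoryTheory CategoryTheory.Limits AlgebraicGeometry Topology TopologicalSpace
open AlgSp

namespace Groth.Agent.S10352

/-- Let S be a scheme, X and Y algebraic spaces over S, and f : X ⟶ Y an etale morphism. If Y is decent
then X is decent. -/
theorem result {S : Scheme.{u}} {X Y : AlgSp.Space S} (f : X ⟶ Y)
    (hf : AlgSp.IsEtaleMor f.hom) (hY : AlgSp.IsDecent Y.obj) : AlgSp.IsDecent X.obj := by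
  intro x
  apply Groth.Agent.Lib.FieldQuot4H6.exists_qc_mono_point_of_finite_fibres X.property x
  intro U φ hU hφ R s t sq
  haveI := hU
  obtain ⟨p, hp1, hp2, hp3⟩ := hY (Points.map f.hom x)
  have hφ' : RepWith @Etale (φ ≫ f.hom) := hf φ hφ
  have sq' := hφ'.rep.isPullback' (φ ≫ f.hom)
  obtain ⟨h1, h2⟩ := Groth.Agent.Lib.FieldQuot4H6.finite_fibres_of_qc_mono_point Y.property p hp2 hp3
    (φ ≫ f.hom) hφ' _ _ sq'
  rw [hp1] at h1 h2
  constructor
  · refine h1.subset ?_
    intro u hu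
    show Points.ofPt (φ ≫ f.hom) u = Points.map f.hom x
    rw [← Points.map_ofPt, hu]
  · have hw : (yon S).map t ≫ (φ ≫ f.hom) = (yon S).map s ≫ (φ ≫ f.hom) := by
      rw [← Category.assoc, ← Category.assoc, sq.w]
    obtain ⟨ℓ, hℓ⟩ := (yon S).map_surjective (sq'.lift _ _ hw)
    have hℓt : ℓ ≫ hφ'.rep.fst' (φ ≫ f.hom) = t :=
      (yon S).map_injective (by rw [Functor.map_comp, hℓ, sq'.lift_fst])
    have hℓs : ℓ ≫ hφ'.rep.snd (φ ≫ f.hom) = s :=
      (yon S).map_injective (by rw [Functor.map_comp, hℓ, sq'.lift_snd])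
    haveI : Mono ℓ := by
      refine ⟨fun {Z} a b hab => ?_⟩
      apply (yon S).map_injective
      apply sq.hom_ext
      · rw [← Functor.map_comp, ← Functor.map_comp, ← hℓt, ← Category.assoc, ← Category.assoc, hab]
      · rw [← Functor.map_comp, ← Functor.map_comp, ← hℓs, ← Category.assoc, ← Category.assoc, hab]
    have hinj := Groth.Agent.Lib.FieldQuot4H6.injective_left_of_mono ℓ
    have hmaps : Set.MapsTo ℓ.left (Points.ofPt ((yon S).map t ≫ φ) ⁻¹' {x})
        (Points.ofPt ((yon S).map (hφ'.rep.fst' (φ ≫ f.hom)) ≫ φ ≫ f.hom) ⁻¹'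
          {Points.map f.hom x}) := by
      intro r hr
      show Points.ofPt ((yon S).map (hφ'.rep.fst' (φ ≫ f.hom)) ≫ φ ≫ f.hom) (ℓ.left r) =
        Points.map f.hom x
      rw [← Groth.Agent.Lib.AlgSpPoints_helper7.ofPt_comp ℓ, ← Category.assoc,
        ← Functor.map_comp, hℓt, ← Category.assoc, ← Points.map_ofPt]
      exact congrArg _ hr
    exact Set.Finite.of_injOn hmaps hinj.injOn h2

end Groth.Agent.S10352
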