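import Groth.Statements.S10367
import Groth.Agent.Lib.AlgSpFieldFlat_helper7

set_option autoImplicit false
universe u
open CategoryTheory CategoryTheory.Limits AlgebraicGeometry
open AlgSp
open Groth.Agent.Lib.AlgSpFieldFlat_helper7 Groth.Agent.Lib.AlgSpPoints_helper7
  Groth.Agent.Lib.AlgSpLocP_helper7 Groth.Agent.Lib.AlgSpLocP4_helper7

namespace Groth.Agent.S10367

theorem result {S : Scheme.{u}} (Z : AlgSp.Space S)
    (k : Type u) [Field k] (str : Spec (CommRingCat.of k) ⟶ S) (p : (AlgSp.yon S).obj (Over.mk str) ⟶ Z.obj)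
    (hpf : AlgSp.LocP @Flat p) (hps : AlgSp.IsSurjectiveMor p) :
    ∃ (k' : Type u) (_ : Field k') (str' : Spec (CommRingCat.of k') ⟶ S) (q : (AlgSp.yon S).obj (Over.mk str') ⟶ Z.obj),
      AlgSp.LocP @LocallyOfFiniteType q ∧ AlgSp.LocP @Flat q ∧ AlgSp.IsSurjectiveMor q := by
  obtain ⟨U, a, hae, has⟩ := Z.property.atlas
  obtain ⟨u, -⟩ := ofPt_surjective a has
    (Points.map p (Points.ofScheme _ (IsLocalRing.closedPoint k)))
  obtain ⟨_, ⟨W', hW, rfl⟩, huW, -⟩ :=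
    U.left.isBasis_affineOpens.exists_subset_of_mem_open (Set.mem_univ u) isOpen_univ
  obtain ⟨W, rfl⟩ : ∃ W : U.left.Opens, W = W' := ⟨W', rfl⟩
  haveI : IsAffine (W : Scheme.{u}) := hW
  haveI : CompactSpace ↥(W : Scheme.{u}) := inferInstance
  obtain ⟨x, -, hx⟩ := (isClosed_univ (X := ↥(W : Scheme.{u}))).exists_closed_singleton
    ⟨⟨u, huW⟩, Set.mem_univ _⟩
  haveI hci : IsClosedImmersion ((W : Scheme.{u}).fromSpecResidueField x) :=
    isClosed_singleton_iff_isClosedImmersion.mp hx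
  obtain ⟨j, hj⟩ : ∃ j : Spec (CommRingCat.of ↥((W : Scheme.{u}).residueField x)) ⟶ U.left,
      j = (W : Scheme.{u}).fromSpecResidueField x ≫ W.ι := ⟨_, rfl⟩
  have hjl : LocallyOfFiniteType j := by
    rw [hj]; infer_instance
  obtain ⟨ι, hι⟩ : ∃ ι : Over.mk (j ≫ U.hom) ⟶ U, ι.left = j := ⟨Over.homMk j rfl, rfl⟩
  have hE : ∀ ⦃A B : Scheme.{u}⦄ (g : A ⟶ B), Etale g → LocallyOfFiniteType g :=
    fun A B g hg => inferInstance
  have h1 : LocP @LocallyOfFiniteType ((yon S).map ι) :=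
    locP_of_repWith @LocallyOfFiniteType hE _
      ((repWith_yon_map_iff @LocallyOfFiniteType ι).2 (by rw [hι]; exact hjl))
  have h2 : LocP @LocallyOfFiniteType a :=
    locP_of_repWith @LocallyOfFiniteType hE a (repWith_mono (fun A B g hg => hE g hg) hae)
  have h3 : LocP @LocallyOfFiniteType ((yon S).map ι ≫ a) :=
    locP_comp etLocal_locallyOfFiniteType (IsAlgSpace.yon_obj _) (IsAlgSpace.yon_obj _)
      Z.property _ _ h1 h2
  obtain ⟨h4, h5⟩ := flat_surjective_of_field Z.property str p hpf hps (j ≫ U.hom)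
    ((yon S).map ι ≫ a)
  exact ⟨↥((W : Scheme.{u}).residueField x), inferInstance, j ≫ U.hom, (yon S).map ι ≫ a,
    h3, h4, h5⟩

end Groth.Agent.S10367
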