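import Groth.Statements.S10369
import Groth.Agent.Lib.AlgSpCov_helper7
import Groth.Agent.Lib.AlgSpEpi_helper7
import Groth.Agent.Lib.AlgSpPullback_helper7

set_option autoImplicit false
universe u
open CategoryTheory CategoryTheory.Limits AlgebraicGeometry Topology TopologicalSpace
open AlgSp

namespace Groth.Agent.S10369

open Groth.Agent.Lib.AlgSpCov_helper7 Groth.Agent.Lib.AlgSpEpi_helper7
  Groth.Agent.Lib.AlgSpPullback_helper7 Groth.Agent.Lib.AlgSpPoints_helper7

/-- Let S be a scheme, Z' and Z algebraic spaces over S, and Z' ⟶ Z a monomorphism, and suppose there is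
a locally finitely presented, flat, surjective morphism Spec k ⟶ Z from the spectrum of a field.
Then Z' is empty or Z' ⟶ Z is an isomorphism. -/
theorem result {S : Scheme.{u}} {Z' Z : AlgSp.Space S} (f : Z' ⟶ Z)
    [Mono f.hom]
    (hZ : ∃ (k : Type u) (_ : Field k) (str : Spec (CommRingCat.of k) ⟶ S) (p : (AlgSp.yon S).obj (Over.mk str) ⟶ Z.obj),
        AlgSp.LocP @LocallyOfFinitePresentation p ∧ AlgSp.LocP @Flat p ∧ AlgSp.IsSurjectiveMor p) :
    IsEmpty (AlgSp.Points Z'.obj) ∨ IsIso f := by
  obtain ⟨k, _, str, p, hp, hf, hs⟩ := hZ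
  have hP : IsAlgSpace (pullback f.hom p) :=
    isAlgSpace_of_isPullback Z.property.diag Z'.property (IsAlgSpace.yon_obj _)
      (IsPullback.of_hasPullback f.hom p)
  by_cases hne : Nonempty (Points (pullback f.hom p))
  · right
    have : IsIso (pullback.snd f.hom p) := isIso_of_mono_to_field str hP _ hne
    have hfac : (inv (pullback.snd f.hom p) ≫ pullback.fst f.hom p) ≫ f.hom = p := by
      rw [Category.assoc, pullback.condition, IsIso.inv_hom_id_assoc]
    have : Epi p := epi_of_fppf (IsAlgSpace.yon_obj _) Z.property p hf hp hs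
    have : Epi f.hom := by
      have : Epi ((inv (pullback.snd f.hom p) ≫ pullback.fst f.hom p) ≫ f.hom) := by
        rw [hfac]; exact this
      exact epi_of_epi (inv (pullback.snd f.hom p) ≫ pullback.fst f.hom p) f.hom
    have : IsIso f.hom := isIso_of_mono_of_epi f.hom
    have : IsIso ((ObjectProperty.ι IsAlgSpace).map f) := this
    exact isIso_of_reflects_iso f (ObjectProperty.ι _)
  · left
    refine ⟨fun z => hne ?_⟩
    obtain ⟨y, hy⟩ := hs (Points.map f.hom z)
    obtain ⟨w, -, -⟩ := exists_of_isPullback (IsPullback.of_hasPullback f.hom p) z y hy.symm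
    exact ⟨w⟩

end Groth.Agent.S10369
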