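import Groth.Statements.S10370
import Groth.Agent.Lib.AlgSpImage_helper7

set_option autoImplicit false
universe u
open CategoryTheory CategoryTheory.Limits AlgebraicGeometry Topology TopologicalSpace
open AlgSp

namespace Groth.Agent.S10370

open Groth.Agent.Lib.AlgSpImage_helper7 Groth.Agent.Lib.AlgSpPoints_helper7
  Groth.Agent.Lib.AlgSpLocP_helper7 Groth.Agent.Lib.AlgSpFieldFlat_helper7

/-- For an algebraic space X over a scheme S and x ∈ |X| there is a monomorphism Z ⟶ X of algebraic
spaces with image {x} in |X| such that Z admits a locally finitely presented, flat, surjective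
morphism from the spectrum of a field (so Z is a reduced, locally Noetherian, one-point space). -/
theorem result {S : Scheme.{u}} (X : AlgSp.Space S) (x : AlgSp.Points X.obj) :
    ∃ (Z : AlgSp.Space S) (i : Z ⟶ X), Mono i.hom ∧ Set.range (AlgSp.Points.map i.hom) = {x} ∧
      ∃ (k : Type u) (_ : Field k) (str : Spec (CommRingCat.of k) ⟶ S) (p : (AlgSp.yon S).obj (Over.mk str) ⟶ Z.obj),
        AlgSp.LocP @LocallyOfFinitePresentation p ∧ AlgSp.LocP @Flat p ∧ AlgSp.IsSurjectiveMor p := by
  obtain ⟨U, a, hae, has⟩ := X.property.atlas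
  obtain ⟨u, hu⟩ := ofPt_surjective a has x
  obtain ⟨ι, R', π₂, pr, hι, sq, hpe, hps⟩ := exists_residual_chart a hae u
  obtain ⟨m, hm⟩ : ∃ m, m = (yon S).map ι ≫ a := ⟨_, rfl⟩
  rw [← hm] at sq
  obtain ⟨hZ, hqe, hqs⟩ := isAlgSpace_image X.property m π₂ pr sq hpe hps
  have hsub := subsingleton_points_field (K := ↥(U.left.residueField u))
    (U.left.fromSpecResidueField u ≫ U.hom)
  have hsurj : IsSurjectiveMor (Sheaf.toImage m) := by
    intro z
    obtain ⟨t₀, ht₀⟩ := ofPt_surjective (Sheaf.toImage m) hqs z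
    exact ⟨Points.ofScheme _ t₀, by rw [← Points.ofPt_eq_map_ofScheme, ht₀]⟩
  have hpt : ∀ y : Points ((yon S).obj (Over.mk (U.left.fromSpecResidueField u ≫ U.hom))),
      Points.map m y = x := by
    intro y
    rw [hsub.elim y (Points.ofScheme _ (IsLocalRing.closedPoint ↥(U.left.residueField u))),
      ← Points.ofPt_eq_map_ofScheme, hm, ofPt_comp, hι, Scheme.fromSpecResidueField_apply, hu]
  have hE1 : ∀ ⦃A B : Scheme.{u}⦄ (g : A ⟶ B), Etale g → LocallyOfFinitePresentation g :=
    fun A B g hg => inferInstance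
  have hE2 : ∀ ⦃A B : Scheme.{u}⦄ (g : A ⟶ B), Etale g → Flat g :=
    fun A B g hg => inferInstance
  have : MorphismProperty.IsMultiplicative
      (@LocallyOfFinitePresentation : MorphismProperty Scheme.{u}) :=
    { id_mem := fun _ => inferInstance }
  refine ⟨⟨Sheaf.image m, hZ⟩, ObjectProperty.homMk (Sheaf.imageι m),
    inferInstanceAs (Mono (Sheaf.imageι m)), ?_, ↥(U.left.residueField u), inferInstance,
    U.left.fromSpecResidueField u ≫ U.hom, Sheaf.toImage m,
    locP_of_repWith @LocallyOfFinitePresentation hE1 _ (repWith_mono (fun A B g hg => hE1 g hg) hqe),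
    locP_of_repWith @Flat hE2 _ (repWith_mono (fun A B g hg => hE2 g hg) hqe), hsurj⟩
  ext w
  simp only [Set.mem_range, Set.mem_singleton_iff]
  constructor
  · rintro ⟨z, rfl⟩
    obtain ⟨y, rfl⟩ := hsurj z
    change Points.map (Sheaf.imageι m) (Points.map (Sheaf.toImage m) y) = x
    rw [← Points.map_comp, Sheaf.toImage_ι, hpt]
  · rintro rfl
    refine ⟨Points.map (Sheaf.toImage m)
      (Points.ofScheme _ (IsLocalRing.closedPoint ↥(U.left.residueField u))), ?_⟩
    change Points.map (Sheaf.imageι m) (Points.map (Sheaf.toImage m) _) = _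
    rw [← Points.map_comp, Sheaf.toImage_ι, hpt]

end Groth.Agent.S10370
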