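import Groth.Statements.S10371
import Groth.Agent.S10369

set_option autoImplicit false
universe u
open CategoryTheory CategoryTheory.Limits AlgebraicGeometry Topology TopologicalSpace
open AlgSp

namespace Groth.Agent.S10371

open Groth.Agent.Lib.AlgSpPullback_helper7 Groth.Agent.Lib.AlgSpPoints_helper7

/-- Two monomorphisms Z ⟶ X, Z' ⟶ X of algebraic spaces over a scheme S with image {x} in |X|, whose
sources admit a locally finitely presented, flat, surjective morphism from the spectrum of a field,
are isomorphic over X. -/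
theorem result {S : Scheme.{u}} (X : AlgSp.Space S) (x : AlgSp.Points X.obj)
    {Z Z' : AlgSp.Space S} (i : Z ⟶ X) (i' : Z' ⟶ X) [Mono i.hom] [Mono i'.hom]
    (hi : Set.range (AlgSp.Points.map i.hom) = {x}) (hi' : Set.range (AlgSp.Points.map i'.hom) = {x})
    (hZ : ∃ (k : Type u) (_ : Field k) (str : Spec (CommRingCat.of k) ⟶ S) (p : (AlgSp.yon S).obj (Over.mk str) ⟶ Z.obj),
        AlgSp.LocP @LocallyOfFinitePresentation p ∧ AlgSp.LocP @Flat p ∧ AlgSp.IsSurjectiveMor p)
    (hZ' : ∃ (k : Type u) (_ : Field k) (str : Spec (CommRingCat.of k) ⟶ S) (p : (AlgSp.yon S).obj (Over.mk str) ⟶ Z'.obj),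
        AlgSp.LocP @LocallyOfFinitePresentation p ∧ AlgSp.LocP @Flat p ∧ AlgSp.IsSurjectiveMor p) :
    ∃ e : Z' ≅ Z, e.hom ≫ i = i' := by
  have hP : IsAlgSpace (pullback i.hom i'.hom) :=
    isAlgSpace_of_isPullback X.property.diag Z.property Z'.property
      (IsPullback.of_hasPullback i.hom i'.hom)
  let P : AlgSp.Space S := ⟨pullback i.hom i'.hom, hP⟩
  let a : P ⟶ Z := ObjectProperty.homMk (pullback.fst i.hom i'.hom)
  let b : P ⟶ Z' := ObjectProperty.homMk (pullback.snd i.hom i'.hom)
  have hma : Mono a.hom := inferInstanceAs (Mono (pullback.fst i.hom i'.hom))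
  have hmb : Mono b.hom := inferInstanceAs (Mono (pullback.snd i.hom i'.hom))
  have hne : Nonempty (Points P.obj) := by
    obtain ⟨z, hz⟩ : x ∈ Set.range (Points.map i.hom) := hi ▸ Set.mem_singleton x
    obtain ⟨z', hz'⟩ : x ∈ Set.range (Points.map i'.hom) := hi' ▸ Set.mem_singleton x
    obtain ⟨w, -, -⟩ := exists_of_isPullback (IsPullback.of_hasPullback i.hom i'.hom) z z'
      (hz.trans hz'.symm)
    exact ⟨w⟩
  have hia : IsIso a := by
    rcases Groth.Agent.S10369.result a hZ with h | h
    · exact absurd hne (not_nonempty_iff.mpr h)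
    · exact h
  have hib : IsIso b := by
    rcases Groth.Agent.S10369.result b hZ' with h | h
    · exact absurd hne (not_nonempty_iff.mpr h)
    · exact h
  refine ⟨(asIso b).symm ≪≫ asIso a, ?_⟩
  have hc : a ≫ i = b ≫ i' := by
    ext : 1
    exact pullback.condition
  simp only [Iso.trans_hom, Iso.symm_hom, asIso_inv, asIso_hom, Category.assoc, hc,
    IsIso.inv_hom_id_assoc]

end Groth.Agent.S10371
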