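import Groth.Statements.S10384
import Groth.Agent.Lib.FieldQuot7_helper6

set_option autoImplicit false
universe u
open CategoryTheory CategoryTheory.Limits AlgebraicGeometry Topology TopologicalSpace
open AlgSp

namespace Groth.Agent.S10384

/-- Let f : X ⟶ Y be a quasi-compact, etale and surjective morphism of algebraic spaces over a scheme S.
If X is decent then Y is decent. -/
theorem result {S : Scheme.{u}} {X Y : AlgSp.Space S} (f : X ⟶ Y)
    (hq : AlgSp.IsQuasiCompactMor f.hom) (he : AlgSp.IsEtaleMor f.hom) (hs : AlgSp.IsSurjectiveMor f.hom)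
    (hX : AlgSp.IsDecent X.obj) : AlgSp.IsDecent Y.obj := by
  intro y
  obtain ⟨x, rfl⟩ := hs y
  obtain ⟨p, rfl, hm, hpq⟩ := hX x
  obtain ⟨U, φ, hφe, hφs⟩ := X.property.atlas
  obtain ⟨u, hu⟩ := Groth.Agent.Lib.AlgSpPoints_helper7.ofPt_surjective φ hφs (Points.mk p)
  have hφY : RepWith @Etale (φ ≫ f.hom) := he φ hφe
  have hrep := Y.property.representable_from_yon (FieldPt.ofPt (φ ≫ f.hom) u).toHom
  obtain ⟨G, a, b, sq⟩ : ∃ (G : Over S) (a b : G ⟶ (FieldPt.ofPt (φ ≫ f.hom) u).pt),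
      IsPullback ((yon S).map a) ((yon S).map b) (FieldPt.ofPt (φ ≫ f.hom) u).toHom
        (FieldPt.ofPt (φ ≫ f.hom) u).toHom := ⟨_, _, _, hrep.isPullback' _⟩
  have hto : (FieldPt.ofPt (φ ≫ f.hom) u).toHom = (FieldPt.ofPt φ u).toHom ≫ f.hom := by
    rw [FieldPt.toHom_ofPt, FieldPt.toHom_ofPt, Category.assoc]
    rfl
  have sq' := sq
  rw [hto] at sq'
  have hfin : Finite ↥G.left :=
    Groth.Agent.Lib.FieldQuot7H6.finite_stabiliser_of_qc_etale X.property Y.property f.hom hq he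
      φ hφe u p hm hu a b sq'
  obtain ⟨q, hq1, hq2, hq3⟩ := Groth.Agent.Lib.FieldQuot3H6.exists_mono_point Y.property (φ ≫ f.hom)
    hφY u u rfl a b sq inferInstance
  refine ⟨q, ?_, hq2, hq3 ?_⟩
  · rw [hq1, ← Points.map_ofPt, hu]
  · rw [hto]
    have h1 : RepWith @QuasiCompact (FieldPt.ofPt φ u).toHom :=
      Groth.Agent.Lib.AlgSpDecent3_helper6.repWith_quasiCompact_of_mono p _ hm hpq hu
    apply Groth.Agent.Lib.AlgSpQC_helper7.repWith_quasiCompact_of_isQuasiCompactMor _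
      (Y.property.representable_from_yon _)
    exact Groth.Agent.Lib.AlgSpLocP4_helper7.isQuasiCompactMor_comp X.property Y.property.diag _ _
      (Groth.Agent.Lib.AlgSpQC_helper7.isQuasiCompactMor_of_repWith _ h1) hq

end Groth.Agent.S10384
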