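import Groth.Statements.S10385
import Groth.Agent.Lib.FieldQuot7_helper6

set_option autoImplicit false
universe u
open CategoryTheory CategoryTheory.Limits AlgebraicGeometry Topology TopologicalSpace
open AlgSp

namespace Groth.Agent.S10385

/-- Let S be a scheme, X and Y algebraic spaces over S, and f : X ⟶ Y a quasi-compact, etale and
surjective morphism. If each point of X can be represented by a monomorphism whose source is the
spectrum of a field, then so can each point of Y. -/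
theorem result {S : Scheme.{u}} {X Y : AlgSp.Space S} (f : X ⟶ Y)
    (hq : AlgSp.IsQuasiCompactMor f.hom) (he : AlgSp.IsEtaleMor f.hom) (hs : AlgSp.IsSurjectiveMor f.hom)
    (hX : ∀ x : AlgSp.Points X.obj, ∃ p : AlgSp.FieldPt X.obj, AlgSp.Points.mk p = x ∧ Mono p.toHom)
    (y : AlgSp.Points Y.obj) : ∃ q : AlgSp.FieldPt Y.obj, AlgSp.Points.mk q = y ∧ Mono q.toHom := by
  obtain ⟨x, rfl⟩ := hs y
  obtain ⟨p, rfl, hm⟩ := hX x
  obtain ⟨U, φ, hφe, hφs⟩ := X.property.atlas
  obtain ⟨u, hu⟩ := Groth.Agent.Lib.AlgSpPoints_helper7.ofPt_surjective φ hφs (Points.mk p)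
  have hφY : RepWith @Etale (φ ≫ f.hom) := he φ hφe
  have hrep := Y.property.representable_from_yon (FieldPt.ofPt (φ ≫ f.hom) u).toHom
  obtain ⟨G, a, b, sq⟩ : ∃ (G : Over S) (a b : G ⟶ (FieldPt.ofPt (φ ≫ f.hom) u).pt),
      IsPullback ((yon S).map a) ((yon S).map b) (FieldPt.ofPt (φ ≫ f.hom) u).toHom
        (FieldPt.ofPt (φ ≫ f.hom) u).toHom := ⟨_, _, _, hrep.isPullback' _⟩
  have hto : (FieldPt.ofPt (φ ≫ f.hom) u).toHom = (FieldPt.ofPt φ u).toHom ≫ f.hom := by
    rw [FieldPt.toHom_ofPt, FieldPt.toHom_ofPt, Category.assoc]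
    rfl
  have sq' := sq
  rw [hto] at sq'
  have hfin : Finite ↥G.left :=
    Groth.Agent.Lib.FieldQuot7H6.finite_stabiliser_of_qc_etale X.property Y.property f.hom hq he
      φ hφe u p hm hu a b sq'
  obtain ⟨q, hq1, hq2, -⟩ := Groth.Agent.Lib.FieldQuot3H6.exists_mono_point Y.property (φ ≫ f.hom)
    hφY u u rfl a b sq inferInstance
  refine ⟨q, ?_, hq2⟩
  rw [hq1, ← Points.map_ofPt, hu]

end Groth.Agent.S10385
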