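import Groth.Statements.S10402
import Groth.Agent.Lib.JacobsonDescent_helper6
import Groth.Agent.Lib.AlgSpPoints_helper7
import Mathlib.AlgebraicGeometry.Morphisms.Finite

set_option autoImplicit false
universe u
open CategoryTheory CategoryTheory.Limits AlgebraicGeometry Topology TopologicalSpace
open AlgSp

namespace Groth.Agent.S10402

/-- Let S be a scheme and X a Jacobson algebraic space over S. Fix a finite type point x of |X|, and let
g : W ⟶ X be locally of finite type, where W is a scheme. If x lies in the image of |W| → |X|, then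
some closed point of W is mapped to x. -/
theorem result {S : Scheme.{u}} (X : AlgSp.Space S) (hX : AlgSp.EtaleLocally (fun U => JacobsonSpace ↥U) X.obj)
    (x : AlgSp.Points X.obj) (hx : AlgSp.HasAt (fun U u => IsClosed ({u} : Set ↥U)) X.obj x) {W : Over S} (g : (AlgSp.yon S).obj W ⟶ X.obj)
    (hg : AlgSp.LocP @LocallyOfFiniteType g) (hxW : x ∈ Set.range (AlgSp.Points.ofPt g)) :
    ∃ w : ↥W.left, IsClosed ({w} : Set ↥W.left) ∧ AlgSp.Points.ofPt g w = x := by
  open Groth.Agent.Lib.JacobsonDescentH6 Groth.Agent.Lib.AlgSpPoints_helper7 in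
  obtain ⟨U₀, a₀, ha₀e, ha₀s, hJ⟩ := hX
  obtain ⟨U, a, u, hae, hau, hu⟩ := hx
  obtain ⟨w₀, hw₀⟩ := hxW
  -- `W` is Jacobson
  have sq₀ := ha₀e.rep.isPullback' g
  haveI hsnd₀e : Etale (ha₀e.rep.snd g).left := ha₀e.property_snd g
  haveI hsnd₀s : Surjective (ha₀e.rep.snd g).left := ha₀s.property _ _ _ (ha₀e.rep.isPullback g)
  haveI hfst₀ : LocallyOfFiniteType (ha₀e.rep.fst' g).left :=
    hg ((AlgSp.yon S).map (ha₀e.rep.snd g)) a₀ (ha₀e.rep.fst' g)
      ((AlgSp.repWith_yon_map_iff _ _).2 hsnd₀e) ha₀e sq₀.w.symm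
  haveI : JacobsonSpace ↥U₀.left := hJ
  haveI : JacobsonSpace ↥(ha₀e.rep.pullback g).left :=
    LocallyOfFiniteType.jacobsonSpace (ha₀e.rep.fst' g).left
  haveI hWJ : JacobsonSpace ↥W.left := jacobsonSpace_of_etale_surjective (ha₀e.rep.snd g).left
  -- the chart with the closed point
  have sq := hae.rep.isPullback' g
  haveI hsnde : Etale (hae.rep.snd g).left := hae.property_snd g
  obtain ⟨p, hp1, hp2⟩ := exists_ofPt_eq_of_isPullback sq u w₀ (hau.trans hw₀.symm)
  haveI : JacobsonSpace ↥(hae.rep.pullback g).left :=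
    LocallyOfFiniteType.jacobsonSpace (hae.rep.snd g).left
  have hF : IsClosed ((hae.rep.fst' g).left ⁻¹' {u}) :=
    hu.preimage (hae.rep.fst' g).left.continuous
  obtain ⟨p', hp'1, hp'2⟩ := (jacobsonSpace_iff_locallyClosed.1 inferInstance)
    ((hae.rep.fst' g).left ⁻¹' {u}) ⟨p, hp1⟩ hF.isLocallyClosed
  refine ⟨(hae.rep.snd g).left p', ?_, ?_⟩
  · exact (hae.rep.snd g).left.closePoints_subset_preimage_closedPoints hp'2
  · rw [← ofPt_comp, ← sq.w, ofPt_comp]
    have h1 : (hae.rep.fst' g).left p' = u := hp'1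
    rw [h1]
    exact hau

end Groth.Agent.S10402
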