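import Groth.Statements.S10403
import Groth.Agent.Lib.AlgSpClosedPt2_helper6
import Groth.Agent.Lib.AlgSpEtale_helper7
import Mathlib.AlgebraicGeometry.Morphisms.Finite

set_option autoImplicit false
universe u
open CategoryTheory CategoryTheory.Limits AlgebraicGeometry Topology TopologicalSpace
open AlgSp

namespace Groth.Agent.S10403

/-- For a decent Jacobson algebraic space X over a scheme S, the finite type points of |X| are exactly
the closed points. -/
theorem result {S : Scheme.{u}} (X : AlgSp.Space S) (hd : AlgSp.IsDecent X.obj)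
    (hX : AlgSp.EtaleLocally (fun U => JacobsonSpace ↥U) X.obj) (x : AlgSp.Points X.obj) :
    AlgSp.HasAt (fun U u => IsClosed ({u} : Set ↥U)) X.obj x ↔ IsClosed ({x} : Set (AlgSp.Points X.obj)) := by
  open Groth.Agent.Lib.AlgSpClosedPt2_helper6 Groth.Agent.Lib.AlgSpPoints_helper7
    Groth.Agent.Lib.AlgSpEtale_helper7 in
  constructor
  · rintro ⟨U, a, u, hae, hau, hu⟩
    obtain ⟨U₀, a₀, ha₀e, ha₀s, hJ⟩ := hX
    haveI : JacobsonSpace ↥U₀.left := hJ
    rw [← (isQuotientMap_ofPt a₀ ha₀e ha₀s).isClosed_preimage]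
    -- every point over `x` is closed
    have hpt : ∀ z : ↥U₀.left, AlgSp.Points.ofPt a₀ z = x → IsClosed ({z} : Set ↥U₀.left) := by
      intro z hz
      have sq := hae.rep.isPullback' a₀
      haveI hsnde : Etale (hae.rep.snd a₀).left := hae.property_snd a₀
      haveI hfste : Etale (hae.rep.fst' a₀).left := ha₀e.property _ _ _ sq.flip
      obtain ⟨r, hr1, hr2⟩ := exists_ofPt_eq_of_isPullback sq u z (hau.trans hz.symm)
      haveI : JacobsonSpace ↥(hae.rep.pullback a₀).left :=
        LocallyOfFiniteType.jacobsonSpace (hae.rep.snd a₀).left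
      haveI : LocallyQuasiFinite (hae.rep.fst' a₀).left := locallyQuasiFinite_of_unramified _
      have hF : IsClosed ((hae.rep.fst' a₀).left ⁻¹' {u}) :=
        hu.preimage (hae.rep.fst' a₀).left.continuous
      have hdisc := (hae.rep.fst' a₀).left.isDiscrete_preimage_singleton u
      haveI := hdisc.to_subtype
      have hrcl : IsClosed ({r} : Set ↥(hae.rep.pullback a₀).left) := by
        have h1 := hF.isClosedEmbedding_subtypeVal.isClosedMap _
          (isClosed_discrete ({⟨r, hr1⟩} : Set ((hae.rep.fst' a₀).left ⁻¹' {u})))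
        rwa [Set.image_singleton] at h1
      have h2 := (hae.rep.snd a₀).left.closePoints_subset_preimage_closedPoints hrcl
      rw [← hr2]
      exact h2
    -- the fibre over `x` via the decent point
    obtain ⟨p, hp, hpm, hpq⟩ := hd x
    have sqF := hpq.rep.isPullback' a₀
    haveI hσq : QuasiCompact (hpq.rep.snd a₀).left := hpq.property_snd a₀
    haveI hρe : Etale (hpq.rep.fst' a₀).left := ha₀e.property _ _ _ sqF.flip
    haveI : DiscreteTopology ↥(hpq.rep.pullback a₀).left :=
      discreteTopology_of_etale_field (K := p.K) (hpq.rep.fst' a₀).left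
    have hover : ∀ f : ↥(hpq.rep.pullback a₀).left,
        AlgSp.Points.ofPt a₀ ((hpq.rep.snd a₀).left f) = x := by
      intro f
      rw [← ofPt_comp, ← sqF.w, ofPt_comp, AlgSp.Points.ofPt_toHom, hp]
    have hZ : AlgSp.Points.ofPt a₀ ⁻¹' {x} = Set.range (hpq.rep.snd a₀).left := by
      ext z
      constructor
      · intro hz
        obtain ⟨f, -, hf⟩ := exists_ofPt_eq_of_isPullback sqF (IsLocalRing.closedPoint p.K) z
          (by rw [AlgSp.Points.ofPt_toHom, hp]; exact hz.symm)
        exact ⟨f, hf⟩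
      · rintro ⟨f, rfl⟩
        exact hover f
    rw [hZ, ← closure_subset_iff_isClosed]
    intro t ht
    obtain ⟨V, hV, htV, -⟩ := exists_isAffineOpen_mem_and_subset (x := t)
      (U := (⊤ : U₀.left.Opens)) trivial
    have hfin : ((hpq.rep.snd a₀).left ⁻¹' (V : Set ↥U₀.left)).Finite :=
      (QuasiCompact.isCompact_preimage (f := (hpq.rep.snd a₀).left) _ V.isOpen
        hV.isCompact).finite_of_discrete
    have hcl : IsClosed ((hpq.rep.snd a₀).left '' ((hpq.rep.snd a₀).left ⁻¹' (V : Set ↥U₀.left))) := by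
      have h1 := hfin.image (hpq.rep.snd a₀).left
      rw [← Set.biUnion_of_singleton
        ((hpq.rep.snd a₀).left '' ((hpq.rep.snd a₀).left ⁻¹' (V : Set ↥U₀.left)))]
      refine h1.isClosed_biUnion (fun z hz => ?_)
      obtain ⟨f, -, rfl⟩ := hz
      exact hpt _ (hover f)
    have h3 : t ∈ closure ((V : Set ↥U₀.left) ∩ Set.range (hpq.rep.snd a₀).left) :=
      V.isOpen.inter_closure ⟨htV, ht⟩
    rw [Set.inter_comm, ← Set.image_preimage_eq_range_inter, hcl.closure_eq] at h3
    exact Set.image_subset_range _ _ h3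
  · intro hxc
    obtain ⟨p, hp, hpm, hpc⟩ := repWith_isClosedImmersion_of_isClosed' X.property hd x hxc
    obtain ⟨U₀, a₀, ha₀e, ha₀s⟩ := X.property.atlas
    have sqF := hpc.rep.isPullback' a₀
    haveI hσc : IsClosedImmersion (hpc.rep.snd a₀).left := hpc.property_snd a₀
    haveI hρe : Etale (hpc.rep.fst' a₀).left := ha₀e.property _ _ _ sqF.flip
    haveI : DiscreteTopology ↥(hpc.rep.pullback a₀).left :=
      discreteTopology_of_etale_field (K := p.K) (hpc.rep.fst' a₀).left
    obtain ⟨u₀, hu₀⟩ := ofPt_surjective a₀ ha₀s x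
    obtain ⟨f, -, hf⟩ := exists_ofPt_eq_of_isPullback sqF (IsLocalRing.closedPoint p.K) u₀
      (by rw [AlgSp.Points.ofPt_toHom, hp, hu₀])
    refine ⟨U₀, a₀, u₀, ha₀e, hu₀, ?_⟩
    have h1 := (hpc.rep.snd a₀).left.isClosedEmbedding.isClosedMap _
      (isClosed_discrete ({f} : Set ↥(hpc.rep.pullback a₀).left))
    rwa [Set.image_singleton, hf] at h1

end Groth.Agent.S10403
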