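import Groth.Statements.S10404
import Groth.Agent.S10403
import Groth.Agent.Lib.AlgSpSpecial_helper6
import Groth.Agent.Lib.FieldQuot4_helper6

set_option autoImplicit false
universe u
open CategoryTheory CategoryTheory.Limits AlgebraicGeometry Topology TopologicalSpace
open AlgSp

namespace Groth.Agent.S10404

/-- A decent algebraic space X over a scheme S is Jacobson if and only if the topological space |X| is
Jacobson. -/
theorem result {S : Scheme.{u}} (X : AlgSp.Space S) (hd : AlgSp.IsDecent X.obj) :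
    AlgSp.EtaleLocally (fun U => JacobsonSpace ↥U) X.obj ↔ JacobsonSpace (AlgSp.Points X.obj) := by
  open Groth.Agent.Lib.AlgSpPoints_helper7 Groth.Agent.Lib.AlgSpSpecial_helper6
    Groth.Agent.Lib.FieldQuot4H6 Groth.Agent.Lib.AlgSpPullback_helper7 in
  constructor
  · rintro ⟨U₀, a₀, ha₀e, ha₀s, hJ⟩
    haveI : JacobsonSpace ↥U₀.left := hJ
    rw [jacobsonSpace_iff_locallyClosed]
    intro Z hZne hZ
    obtain ⟨x₀, hx₀⟩ := hZne
    obtain ⟨u₀, hu₀⟩ := ofPt_surjective a₀ ha₀s x₀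
    obtain ⟨z, hzZ, hz⟩ := (jacobsonSpace_iff_locallyClosed.1 inferInstance)
      (AlgSp.Points.ofPt a₀ ⁻¹' Z) ⟨u₀, by rw [Set.mem_preimage, hu₀]; exact hx₀⟩
      (hZ.preimage (AlgSp.Points.continuous_ofPt a₀))
    refine ⟨AlgSp.Points.ofPt a₀ z, hzZ, ?_⟩
    exact (Groth.Agent.S10403.result X hd ⟨U₀, a₀, ha₀e, ha₀s, hJ⟩ _).1
      ⟨U₀, a₀, z, ha₀e, rfl, hz⟩
  · intro hJ
    obtain ⟨U₀, a₀, ha₀e, ha₀s⟩ := X.property.atlas
    refine ⟨U₀, a₀, ha₀e, ha₀s, ?_⟩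
    have hfinfib : ∀ (x : AlgSp.Points X.obj) (V : Over S) (b : (AlgSp.yon S).obj V ⟶ X.obj),
        IsAffine V.left → AlgSp.RepWith @Etale b → (AlgSp.Points.ofPt b ⁻¹' {x}).Finite := by
      intro x V b hV hb
      obtain ⟨p, hp, hpm, hpq⟩ := hd x
      haveI := hV
      have := finite_fibre_of_qc p hpq b hb
      rwa [hp] at this
    have hnospec : ∀ t t' : ↥U₀.left, AlgSp.Points.ofPt a₀ t' = AlgSp.Points.ofPt a₀ t →
        t' ⤳ t → t = t' := fun t t' h hs =>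
      eq_of_specializes_of_finite_fibres (AlgSp.Points.ofPt a₀ t) (hfinfib _) a₀ ha₀e t t' rfl h hs
    have hdiscfib : ∀ t : ↥U₀.left, ∃ N : Set ↥U₀.left, IsOpen N ∧ t ∈ N ∧
        ∀ t' ∈ N, AlgSp.Points.ofPt a₀ t' = AlgSp.Points.ofPt a₀ t → t' = t := by
      intro t
      obtain ⟨V, hV, htV, -⟩ := exists_isAffineOpen_mem_and_subset (x := t)
        (U := (⊤ : U₀.left.Opens)) trivial
      obtain ⟨jV, hjV⟩ : ∃ jV : Over.mk (V.ι ≫ U₀.hom) ⟶ U₀, jV.left = V.ι :=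
        ⟨Over.homMk V.ι rfl, rfl⟩
      have hb : AlgSp.RepWith @Etale ((AlgSp.yon S).map jV ≫ a₀) :=
        repWith_comp _ ((AlgSp.repWith_yon_map_iff _ _).2
          (by rw [hjV]; infer_instance)) ha₀e
      have hfin := hfinfib (AlgSp.Points.ofPt a₀ t) (Over.mk (V.ι ≫ U₀.hom)) _ hV hb
      obtain ⟨Φ, hΦ⟩ : ∃ Φ : Set ↥U₀.left, Φ = V.ι ''
          (AlgSp.Points.ofPt ((AlgSp.yon S).map jV ≫ a₀) ⁻¹' {AlgSp.Points.ofPt a₀ t}) \ {t} :=
        ⟨_, rfl⟩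
      have hΦfin : Φ.Finite := by rw [hΦ]; exact (hfin.image _).subset Set.diff_subset
      have hsep : ∀ t' ∈ Φ, ∃ N : Set ↥U₀.left, IsOpen N ∧ t ∈ N ∧ t' ∉ N := by
        intro t' ht'
        rw [hΦ] at ht'
        obtain ⟨⟨s, hs, rfl⟩, hne⟩ := ht'
        have hover : AlgSp.Points.ofPt a₀ (V.ι s) = AlgSp.Points.ofPt a₀ t := by
          have h1 : AlgSp.Points.ofPt ((AlgSp.yon S).map jV ≫ a₀) s =
              AlgSp.Points.ofPt a₀ t := hs
          rwa [ofPt_comp, hjV] at h1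
        have hns : ¬ (V.ι s ⤳ t) := fun h => hne (hnospec t _ hover h).symm
        rw [not_specializes_iff_exists_open] at hns
        obtain ⟨N, hN, htN, hsN⟩ := hns
        exact ⟨N, hN, htN, hsN⟩
      choose! Nf hNf1 hNf2 hNf3 using hsep
      refine ⟨(V : Set ↥U₀.left) ∩ ⋂ t' ∈ Φ, Nf t',
        V.isOpen.inter (hΦfin.isOpen_biInter (fun t' ht' => hNf1 t' ht')),
        ⟨htV, Set.mem_iInter₂.2 (fun t' ht' => hNf2 t' ht')⟩, ?_⟩
      rintro t'' ⟨ht''V, ht''N⟩ hover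
      by_contra hne
      have hmem : t'' ∈ Φ := by
        rw [hΦ]
        refine ⟨⟨⟨t'', ht''V⟩, ?_, rfl⟩, hne⟩
        show AlgSp.Points.ofPt ((AlgSp.yon S).map jV ≫ a₀) ⟨t'', ht''V⟩ = _
        rw [ofPt_comp, hjV]
        exact hover
      exact hNf3 t'' hmem (Set.mem_iInter₂.1 ht''N t'' hmem)
    show JacobsonSpace ↥U₀.left
    rw [jacobsonSpace_iff_locallyClosed]
    rintro Z hZne ⟨O, C, hO, hC, rfl⟩
    obtain ⟨z, hzO, hzC⟩ := hZne
    obtain ⟨V, hV, hzV, hVO⟩ := exists_isAffineOpen_mem_and_subset (x := z)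
      (U := (⟨O, hO⟩ : U₀.left.Opens)) hzO
    haveI : CompactSpace ↥V := isCompact_iff_compactSpace.1 hV.isCompact
    obtain ⟨⟨t, htV⟩, htC, htcl⟩ := IsClosed.exists_closed_singleton (X := ↥V)
      (S := Subtype.val ⁻¹' C) (hC.preimage continuous_subtype_val) ⟨⟨z, hzV⟩, hzC⟩
    obtain ⟨C', hC', hC'eq⟩ := isClosed_induced_iff.1 htcl
    have htC' : t ∈ C' := by
      have : (⟨t, htV⟩ : ↥V) ∈ Subtype.val ⁻¹' C' := by rw [hC'eq]; rfl
      exact this
    have hC'V : ∀ s : ↥U₀.left, s ∈ V → s ∈ C' → s = t := by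
      intro s hsV hsC'
      have : (⟨s, hsV⟩ : ↥V) ∈ Subtype.val ⁻¹' C' := hsC'
      rw [hC'eq] at this
      exact congrArg Subtype.val this
    obtain ⟨N, hN, htN, hNt⟩ := hdiscfib t
    have hopen := isOpenMap_ofPt_of_etale a₀ ha₀e
    have hlc : IsLocallyClosed ({AlgSp.Points.ofPt a₀ t} : Set (AlgSp.Points X.obj)) := by
      have h1 : ({AlgSp.Points.ofPt a₀ t} : Set (AlgSp.Points X.obj)) =
          AlgSp.Points.ofPt a₀ '' (N ∩ V) ∩ (AlgSp.Points.ofPt a₀ '' ((N ∩ V) ∩ C'ᶜ))ᶜ := by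
        ext x'
        constructor
        · intro hx'
          have hx'' : x' = AlgSp.Points.ofPt a₀ t := hx'
          subst hx''
          refine ⟨⟨t, ⟨htN, htV⟩, rfl⟩, ?_⟩
          rintro ⟨s, ⟨⟨hsN, hsV⟩, hsC'⟩, hs⟩
          have : s = t := hNt s hsN hs
          subst this
          exact hsC' htC'
        · rintro ⟨⟨s, ⟨hsN, hsV⟩, rfl⟩, hnot⟩
          have hsC' : s ∈ C' := by
            by_contra h
            exact hnot ⟨s, ⟨⟨hsN, hsV⟩, h⟩, rfl⟩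
          have : s = t := hC'V s hsV hsC'
          subst this
          rfl
      rw [h1]
      exact (hopen _ (hN.inter V.isOpen)).isLocallyClosed.inter
        (hopen _ ((hN.inter V.isOpen).inter hC'.isOpen_compl)).isClosed_compl.isLocallyClosed
    obtain ⟨x₁, hx₁, hx₁cl⟩ := (jacobsonSpace_iff_locallyClosed.1 hJ)
      ({AlgSp.Points.ofPt a₀ t} : Set (AlgSp.Points X.obj)) ⟨_, rfl⟩ hlc
    have hx₁' : x₁ = AlgSp.Points.ofPt a₀ t := hx₁
    subst hx₁'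
    have hxcl : IsClosed ({AlgSp.Points.ofPt a₀ t} : Set (AlgSp.Points X.obj)) := hx₁cl
    refine ⟨t, ⟨hVO htV, htC⟩, ?_⟩
    show IsClosed ({t} : Set ↥U₀.left)
    rw [← closure_subset_iff_isClosed]
    intro s hs
    have hsp : t ⤳ s := specializes_iff_mem_closure.2 hs
    have hsp' : AlgSp.Points.ofPt a₀ t ⤳ AlgSp.Points.ofPt a₀ s :=
      hsp.map (AlgSp.Points.continuous_ofPt a₀)
    have h2 : AlgSp.Points.ofPt a₀ s ∈ closure ({AlgSp.Points.ofPt a₀ t} : Set _) :=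
      specializes_iff_mem_closure.1 hsp'
    rw [hxcl.closure_eq] at h2
    have h3 : AlgSp.Points.ofPt a₀ s = AlgSp.Points.ofPt a₀ t := h2
    exact hnospec s t h3.symm hsp

end Groth.Agent.S10404
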