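import Groth.Statements.S10407
import Groth.Agent.Lib.FieldQuot3_helper6

set_option autoImplicit false
universe u
open CategoryTheory CategoryTheory.Limits AlgebraicGeometry Topology TopologicalSpace
open AlgSp

namespace Groth.Agent.S10407

/-- (1) ⇒ (4): let X be an algebraic space over a scheme S, φ : U ⟶ X etale with U a scheme, and u, u' ∈
U points over the same x ∈ |X| such that, with R = U ×_X U, the map |R| → |U| ×_{|X|} |U| has finite
fibre over (u, u'). Then x is represented by a monomorphism Spec k ⟶ X with k a field. -/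
theorem result {S : Scheme.{u}} (X : AlgSp.Space S) {U : Over S}
    (φ : (AlgSp.yon S).obj U ⟶ X.obj) (hφ : AlgSp.RepWith @Etale φ) (u u' : ↥U.left)
    (he : AlgSp.Points.ofPt φ u = AlgSp.Points.ofPt φ u')
    (hfin : ∀ (R : Over S) (s t : R ⟶ U), IsPullback ((AlgSp.yon S).map t) ((AlgSp.yon S).map s) φ φ →
          {r : ↥R.left | s.left r = u ∧ t.left r = u'}.Finite) :
    ∃ p : AlgSp.FieldPt X.obj, AlgSp.Points.mk p = AlgSp.Points.ofPt φ u ∧ Mono p.toHom := by
  have sqR := hφ.rep.isPullback' φ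
  have hR := hfin _ (hφ.rep.snd φ) (hφ.rep.fst' φ) sqR
  have hrep := X.property.representable_from_yon (FieldPt.ofPt φ u).toHom
  have sq := hrep.isPullback' (FieldPt.ofPt φ u').toHom
  let ι₁ : (FieldPt.ofPt φ u).pt ⟶ U := Over.homMk (U.left.fromSpecResidueField u) rfl
  let ι₂ : (FieldPt.ofPt φ u').pt ⟶ U := Over.homMk (U.left.fromSpecResidueField u') rfl
  have hq₁ : (FieldPt.ofPt φ u).toHom = (yon S).map ι₁ ≫ φ := FieldPt.toHom_ofPt φ u
  have hq₂ : (FieldPt.ofPt φ u').toHom = (yon S).map ι₂ ≫ φ := FieldPt.toHom_ofPt φ u'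
  haveI hm1 : Mono ι₁ := by
    have h1 : Mono ι₁.left := by
      change Mono (U.left.fromSpecResidueField u)
      infer_instance
    exact (Over.forget S).mono_of_mono_map h1
  haveI hm2 : Mono ι₂ := by
    have h1 : Mono ι₂.left := by
      change Mono (U.left.fromSpecResidueField u')
      infer_instance
    exact (Over.forget S).mono_of_mono_map h1
  have hw : (yon S).map (hrep.snd (FieldPt.ofPt φ u').toHom ≫ ι₂) ≫ φ =
      (yon S).map (hrep.fst' (FieldPt.ofPt φ u').toHom ≫ ι₁) ≫ φ := by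
    rw [Functor.map_comp, Functor.map_comp, Category.assoc, Category.assoc, ← hq₁, ← hq₂]
    exact sq.w.symm
  obtain ⟨ℓ, hℓ⟩ := (yon S).map_surjective (sqR.lift _ _ hw)
  have hℓt : ℓ ≫ hφ.rep.fst' φ = hrep.snd (FieldPt.ofPt φ u').toHom ≫ ι₂ :=
    (yon S).map_injective (by rw [Functor.map_comp, hℓ, sqR.lift_fst])
  have hℓs : ℓ ≫ hφ.rep.snd φ = hrep.fst' (FieldPt.ofPt φ u').toHom ≫ ι₁ :=
    (yon S).map_injective (by rw [Functor.map_comp, hℓ, sqR.lift_snd])
  haveI hmono : Mono ℓ := by
    refine ⟨fun {Z} x y hxy => ?_⟩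
    apply (yon S).map_injective
    apply sq.hom_ext
    · have h3 : (x ≫ hrep.fst' (FieldPt.ofPt φ u').toHom) ≫ ι₁ =
          (y ≫ hrep.fst' (FieldPt.ofPt φ u').toHom) ≫ ι₁ := by
        rw [Category.assoc, Category.assoc, ← hℓs, ← Category.assoc, ← Category.assoc, hxy]
      rw [← Functor.map_comp, ← Functor.map_comp, (cancel_mono ι₁).1 h3]
    · have h3 : (x ≫ hrep.snd (FieldPt.ofPt φ u').toHom) ≫ ι₂ =
          (y ≫ hrep.snd (FieldPt.ofPt φ u').toHom) ≫ ι₂ := by
        rw [Category.assoc, Category.assoc, ← hℓt, ← Category.assoc, ← Category.assoc, hxy]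
      rw [← Functor.map_comp, ← Functor.map_comp, (cancel_mono ι₂).1 h3]
  have hinj : Function.Injective ℓ.left := by
    haveI : Mono ℓ.left := inferInstance
    have : UniversallyInjective ℓ.left := inferInstance
    exact ℓ.left.injective
  have hfinG : Finite ↥(hrep.pullback (FieldPt.ofPt φ u').toHom).left := by
    have h1 : Set.Finite (Set.univ : Set ↥(hrep.pullback (FieldPt.ofPt φ u').toHom).left) := by
      have hmaps : Set.MapsTo ℓ.left Set.univ {r : ↥(hφ.rep.pullback φ).left |
          (hφ.rep.snd φ).left r = u ∧ (hφ.rep.fst' φ).left r = u'} := by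
        intro g _
        refine ⟨?_, ?_⟩
        · have e1 : (hφ.rep.snd φ).left (ℓ.left g) = (ℓ ≫ hφ.rep.snd φ).left g := rfl
          rw [e1, hℓs]
          exact Scheme.fromSpecResidueField_apply u _
        · have e1 : (hφ.rep.fst' φ).left (ℓ.left g) = (ℓ ≫ hφ.rep.fst' φ).left g := rfl
          rw [e1, hℓt]
          exact Scheme.fromSpecResidueField_apply u' _
      exact Set.Finite.of_injOn hmaps hinj.injOn hR
    exact Set.finite_univ_iff.1 h1
  obtain ⟨p, hp1, hp2, -⟩ := Groth.Agent.Lib.FieldQuot3H6.exists_mono_point X.property φ hφ u u' he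
    _ _ sq inferInstance
  exact ⟨p, hp1, hp2⟩

end Groth.Agent.S10407
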