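import Groth.Statements.S10409
import Groth.Agent.Lib.FieldQuot2_helper6
import Groth.Agent.Lib.AlgSpBasic_helper7
import Groth.Agent.Lib.AlgSpPoints_helper7

set_option autoImplicit false
universe u
open CategoryTheory CategoryTheory.Limits AlgebraicGeometry Topology TopologicalSpace
open AlgSp

namespace Groth.Agent.S10409

/-- (3) ⇔ (4): for an algebraic space X over a scheme S and x ∈ |X|, there is a monomorphism Spec k ⟶ X
representing x if and only if there is a morphism Spec k' ⟶ X representing x whose
self-fibre-product has etale and quasi-compact projections to Spec k'. -/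
theorem result {S : Scheme.{u}} (X : AlgSp.Space S)
    (x : AlgSp.Points X.obj) :
    (∃ p : AlgSp.FieldPt X.obj, AlgSp.Points.mk p = x ∧ Mono p.toHom) ↔
      ∃ q : AlgSp.FieldPt X.obj, AlgSp.Points.mk q = x ∧
        ∀ (P : AlgSp.Sp S) (fst snd : P ⟶ (AlgSp.yon S).obj q.pt), IsPullback fst snd q.toHom q.toHom →
          AlgSp.RepWith @Etale fst ∧ AlgSp.RepWith @QuasiCompact fst := by
  constructor
  · rintro ⟨p, hpx, hmono⟩
    refine ⟨p, hpx, fun P fst snd hsq => ?_⟩
    haveI := hmono
    haveI : IsIso fst := IsKernelPair.isIso_of_mono hsq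
    exact ⟨Groth.Agent.Lib.AlgSpBasic_helper7.repWith_of_isIso _ fst,
      Groth.Agent.Lib.AlgSpBasic_helper7.repWith_of_isIso _ fst⟩
  · rintro ⟨q, hqx, hq⟩
    have hf := X.property.representable_from_yon q.toHom
    have sq := hf.isPullback' q.toHom
    obtain ⟨h1, h2⟩ := hq _ _ _ sq
    have het : Etale (hf.fst' q.toHom).left := (repWith_yon_map_iff _ _).1 h1
    have hqc : QuasiCompact (hf.fst' q.toHom).left := (repWith_yon_map_iff _ _).1 h2
    obtain ⟨K', hK', str', c₀, q', hfac, hmono, -, -, -⟩ :=
      Groth.Agent.Lib.FieldQuot2H6.main q.str q.toHom _ _ sq het hqc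
    letI := hK'
    let p : FieldPt X.obj := ⟨K', str', (J S).uliftYonedaEquiv q'⟩
    have hp : p.toHom = q' := (J S).uliftYonedaEquiv.symm_apply_apply q'
    refine ⟨p, ?_, by rw [hp]; exact hmono⟩
    have hne : Nonempty ↥(Spec (CommRingCat.of q.K)) := by
      change Nonempty (PrimeSpectrum q.K); infer_instance
    obtain ⟨s₀⟩ := hne
    have h3 : Points.ofPt q' (c₀.left s₀) = Points.mk p := by
      have := Points.ofPt_toHom p (c₀.left s₀)
      rwa [hp] at this
    rw [← hqx, ← Points.ofPt_toHom q s₀, ← hfac, Groth.Agent.Lib.AlgSpPoints_helper7.ofPt_comp]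
    exact h3.symm

end Groth.Agent.S10409
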