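import Groth.Statements.S10410
import Groth.Agent.Lib.FieldQuot5_helper6

set_option autoImplicit false
universe u
open CategoryTheory CategoryTheory.Limits AlgebraicGeometry Topology TopologicalSpace
open AlgSp

namespace Groth.Agent.S10410

/-- Let X be an algebraic space over a scheme S, x ∈ |X|, and φ : U ⟶ X etale with U a scheme. Then x
lies in the image of |U| and the fibres of |U| → |X| and |U ×_X U| → |X| over x are finite, if and
only if x is represented by a monomorphism Spec k ⟶ X such that Spec k ×_X U is a nonempty scheme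
finite over k. -/
theorem result {S : Scheme.{u}} (X : AlgSp.Space S) (x : AlgSp.Points X.obj)
    {U : Over S} (φ : (AlgSp.yon S).obj U ⟶ X.obj) (hφ : AlgSp.RepWith @Etale φ) :
    (x ∈ Set.range (AlgSp.Points.ofPt φ) ∧ (AlgSp.Points.ofPt φ ⁻¹' {x}).Finite ∧
        ∀ (R : Over S) (s t : R ⟶ U), IsPullback ((AlgSp.yon S).map t) ((AlgSp.yon S).map s) φ φ →
          (AlgSp.Points.ofPt ((AlgSp.yon S).map t ≫ φ) ⁻¹' {x}).Finite) ↔
      ∃ p : AlgSp.FieldPt X.obj, AlgSp.Points.mk p = x ∧ Mono p.toHom ∧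
        ∀ (T : Over S) (c : T ⟶ p.pt) (snd : (AlgSp.yon S).obj T ⟶ (AlgSp.yon S).obj U),
          IsPullback ((AlgSp.yon S).map c) snd p.toHom φ → Nonempty ↥T.left ∧ IsFinite c.left := by
  constructor
  · rintro ⟨⟨u, hu⟩, hfinU, hfinR⟩
    have sqR := hφ.rep.isPullback' φ
    have hR : {z : ↥(hφ.rep.pullback φ).left | (hφ.rep.snd φ).left z = u ∧
        (hφ.rep.fst' φ).left z = u}.Finite := by
      refine (hfinR _ _ _ sqR).subset ?_
      rintro z ⟨-, hz⟩
      show Points.ofPt _ z = x
      rw [Groth.Agent.Lib.AlgSpPoints_helper7.ofPt_comp, hz, hu]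
    obtain ⟨p, hp1, hp2, -⟩ := Groth.Agent.Lib.FieldQuot4H6.exists_mono_point_of_finite X.property
      φ hφ u u rfl _ _ sqR hR
    refine ⟨p, hp1.trans hu, hp2, ?_⟩
    intro T c snd sq
    obtain ⟨d, rfl⟩ := (yon S).map_surjective snd
    obtain ⟨s₀⟩ := Groth.Agent.Lib.FieldQuot3H6.nonempty_spec_field p.K
    have h0 : Points.ofPt φ u = Points.ofPt p.toHom s₀ := by
      rw [Points.ofPt_toHom, hp1]
    obtain ⟨v, -, -⟩ := Groth.Agent.Lib.AlgSpPoints_helper7.exists_ofPt_eq_of_isPullback sq.flip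
      u s₀ h0
    refine ⟨⟨v⟩, ?_⟩
    haveI : Etale c.left := hφ.property _ _ _ sq.flip
    haveI := hp2
    haveI hmd : Mono ((yon S).map d) := sq.mono_snd_of_mono
    haveI : Mono d := (yon S).mono_of_mono_map hmd
    have hinj := Groth.Agent.Lib.FieldQuot4H6.injective_left_of_mono d
    have hfin : Finite ↥T.left := by
      have h1 : (Set.univ : Set ↥T.left).Finite := by
        have hmaps : Set.MapsTo d.left Set.univ (Points.ofPt φ ⁻¹' {x}) := by
          intro z _
          show Points.ofPt φ (d.left z) = x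
          rw [← Groth.Agent.Lib.AlgSpPoints_helper7.ofPt_comp, ← sq.w,
            Groth.Agent.Lib.AlgSpPoints_helper7.ofPt_comp, Points.ofPt_toHom, hp1, hu]
        exact Set.Finite.of_injOn hmaps hinj.injOn hfinU
      exact Set.finite_univ_iff.1 h1
    exact Groth.Agent.Lib.FieldQuot5H6.isFinite_of_etale_of_compactSpace p.K
      (c.left : T.left ⟶ Spec (CommRingCat.of p.K))
  · rintro ⟨p, rfl, hm, hT⟩
    have sqP := hφ.rep.isPullback' p.toHom
    obtain ⟨⟨v⟩, hfinc⟩ := hT _ _ _ sqP.flip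
    haveI : Etale (hφ.rep.snd p.toHom).left := hφ.property_snd p.toHom
    haveI := hfinc
    haveI : CompactSpace ↥p.pt.left :=
      inferInstanceAs (CompactSpace ↥(Spec (CommRingCat.of p.K)))
    haveI : CompactSpace ↥(hφ.rep.pullback p.toHom).left :=
      QuasiCompact.compactSpace_of_compactSpace (hφ.rep.snd p.toHom).left
    haveI : Finite ↥(hφ.rep.pullback p.toHom).left :=
      Groth.Agent.Lib.FieldQuot4H6.finite_of_etale_of_compactSpace p.K
        ((hφ.rep.snd p.toHom).left : _ ⟶ Spec (CommRingCat.of p.K))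
    have hfinU : (Points.ofPt φ ⁻¹' {Points.mk p}).Finite := by
      refine (Set.finite_range (hφ.rep.fst' p.toHom).left).subset ?_
      intro u hu
      obtain ⟨s₀⟩ := Groth.Agent.Lib.FieldQuot3H6.nonempty_spec_field p.K
      have h : Points.ofPt φ u = Points.ofPt p.toHom s₀ := by
        rw [Points.ofPt_toHom]; exact hu
      obtain ⟨w, hw, -⟩ := Groth.Agent.Lib.AlgSpPoints_helper7.exists_ofPt_eq_of_isPullback sqP
        u s₀ h
      exact ⟨w, hw⟩
    refine ⟨⟨(hφ.rep.fst' p.toHom).left v, ?_⟩, hfinU, fun R s t sq => ?_⟩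
    · rw [← Groth.Agent.Lib.AlgSpPoints_helper7.ofPt_comp, sqP.w,
        Groth.Agent.Lib.AlgSpPoints_helper7.ofPt_comp, Points.ofPt_toHom]
    · exact Groth.Agent.Lib.FieldQuot4H6.finite_relation_total_fibre X.property p hm φ hφ hfinU
        s t sq

end Groth.Agent.S10410
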