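import Groth.Statements.S10413
import Groth.Agent.Lib.AlgSpPoints_helper7

set_option autoImplicit false
universe u
open CategoryTheory CategoryTheory.Limits AlgebraicGeometry Topology TopologicalSpace
open AlgSp

namespace Groth.Agent.S10413

/-- A mono from a scheme to a sheaf: every point of the scheme gives a mono field point. -/
theorem exists_mono_fieldPt_of_mono {S : Scheme.{u}} {F : AlgSp.Sp S} {Z : Over S}
    (a : (AlgSp.yon S).obj Z ⟶ F) [Mono a] (z : ↥Z.left) :
    Mono (AlgSp.FieldPt.ofPt a z).toHom := by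
  rw [AlgSp.FieldPt.toHom_ofPt]
  have h1 : Mono (Over.homMk (Z.left.fromSpecResidueField z) rfl :
      Over.mk (Z.left.fromSpecResidueField z ≫ Z.hom) ⟶ Z) := by
    apply Over.mono_of_mono_left
  have : (AlgSp.yon S).PreservesMonomorphisms :=
    preservesMonomorphisms_of_preservesLimitsOfShape _
  have h2 := (AlgSp.yon S).map_mono (Over.homMk (Z.left.fromSpecResidueField z) rfl :
      Over.mk (Z.left.fromSpecResidueField z ≫ Z.hom) ⟶ Z)
  exact @mono_comp _ _ _ _ _ _ h2 _ ‹Mono a›

/-- Let S be a scheme, X and Y algebraic spaces over S, and X ⟶ Y a representable morphism. If every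
point of Y can be represented by a monomorphism into Y from the spectrum of a field, then every
point of X can likewise be represented by such a monomorphism into X. -/
theorem result {S : Scheme.{u}} {X Y : AlgSp.Space S} (f : X ⟶ Y) (hf : AlgSp.Representable f.hom)
    (hY : ∀ y : AlgSp.Points Y.obj, ∃ q : AlgSp.FieldPt Y.obj, AlgSp.Points.mk q = y ∧ Mono q.toHom)
    (x : AlgSp.Points X.obj) : ∃ p : AlgSp.FieldPt X.obj, AlgSp.Points.mk p = x ∧ Mono p.toHom := by
  obtain ⟨q, hq, hmono⟩ := hY (AlgSp.Points.map f.hom x)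
  have sq := hf.isPullback q.toHom
  have hm : Mono (hf.fst q.toHom) := sq.mono_fst_of_mono
  obtain ⟨s⟩ : Nonempty ↥(Spec (CommRingCat.of q.K)) := inferInstance
  obtain ⟨z, hz1, hz2⟩ := Groth.Agent.Lib.AlgSpPoints_helper7.exists_of_isPullback sq x
    (AlgSp.Points.ofScheme q.pt s)
    (by rw [← hq, ← AlgSp.Points.ofPt_eq_map_ofScheme, AlgSp.Points.ofPt_toHom])
  obtain ⟨z0, rfl⟩ := (AlgSp.Points.schemeEquiv (hf.pullback q.toHom)).surjective z
  refine ⟨AlgSp.FieldPt.ofPt (hf.fst q.toHom) z0, ?_, exists_mono_fieldPt_of_mono _ z0⟩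
  rw [← hz1]
  exact AlgSp.Points.ofPt_eq_map_ofScheme _ _

end Groth.Agent.S10413
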