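import Groth.Statements.S10414
import Groth.Agent.S10371
import Groth.Agent.Lib.AlgSpSmST_helper7

set_option autoImplicit false
universe u
open CategoryTheory CategoryTheory.Limits AlgebraicGeometry Topology TopologicalSpace
open AlgSp

namespace Groth.Agent.S10414

open Groth.Agent.Lib.AlgSpPullback_helper7 Groth.Agent.Lib.AlgSpPoints_helper7
  Groth.Agent.Lib.AlgSpLocP_helper7 Groth.Agent.Lib.AlgSpSmST_helper7

/-- Let S be a scheme, X an algebraic space over S, x ∈ |X|, and Z_x ⟶ X the residual space of x (a
monomorphism with image {x} from a space which admits a locally finitely presented, flat, surjective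
morphism whose source is the spectrum of a field). Then Z_x is isomorphic to Spec k' for some field
k' if and only if the point x is represented by some monomorphism Spec k ⟶ X. (The decent case, in
which the right side holds at every point, is not part of this row.) -/
theorem result {S : Scheme.{u}} (X : AlgSp.Space S) (x : AlgSp.Points X.obj)
    {Z : AlgSp.Space S} (i : Z ⟶ X) [Mono i.hom] (hi : Set.range (AlgSp.Points.map i.hom) = {x})
    (hZ : ∃ (k : Type u) (_ : Field k) (str : Spec (CommRingCat.of k) ⟶ S) (p : (AlgSp.yon S).obj (Over.mk str) ⟶ Z.obj),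
        AlgSp.LocP @LocallyOfFinitePresentation p ∧ AlgSp.LocP @Flat p ∧ AlgSp.IsSurjectiveMor p) :
    (∃ (k : Type u) (_ : Field k) (str : Spec (CommRingCat.of k) ⟶ S), Nonempty (Z.obj ≅ (AlgSp.yon S).obj (Over.mk str))) ↔
      ∃ p : AlgSp.FieldPt X.obj, AlgSp.Points.mk p = x ∧ Mono p.toHom := by
  constructor
  · rintro ⟨k, _, str, ⟨e⟩⟩
    refine ⟨ofHom (e.inv ≫ i.hom), ?_, ?_⟩
    · have h1 : Points.map i.hom (Points.mk (ofHom e.inv)) ∈ Set.range (Points.map i.hom) :=
        ⟨_, rfl⟩
      rw [hi, Set.mem_singleton_iff, map_mk_ofHom] at h1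
      exact h1
    · rw [toHom_ofHom]
      exact mono_comp e.inv i.hom
  · rintro ⟨p, hp, hmono⟩
    let Z' : AlgSp.Space S := ⟨(AlgSp.yon S).obj p.pt, IsAlgSpace.yon_obj _⟩
    let i' : Z' ⟶ X := ObjectProperty.homMk p.toHom
    have : Mono i'.hom := hmono
    have hx : Points.mk (ofHom p.toHom) = x := by rw [ofHom_toHom, hp]
    have hi' : Set.range (AlgSp.Points.map i'.hom) = {x} := by
      ext y
      simp only [Set.mem_range, Set.mem_singleton_iff]
      constructor
      · rintro ⟨w, rfl⟩
        obtain ⟨K', _, s, m, rfl⟩ := mk_surjective' w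
        obtain ⟨a, rfl⟩ := (AlgSp.yon S).map_surjective m
        change Points.map p.toHom _ = x
        rw [map_mk_ofHom, mk_ofHom_comp, hx]
      · rintro rfl
        refine ⟨Points.mk (ofHom (𝟙 _)), ?_⟩
        change Points.map p.toHom _ = _
        rw [map_mk_ofHom, Category.id_comp, hx]
    have : MorphismProperty.IsMultiplicative @LocallyOfFinitePresentation :=
      { id_mem := fun _ => inferInstance }
    have hE1 : ∀ ⦃A B : Scheme.{u}⦄ (g : A ⟶ B), Etale g → LocallyOfFinitePresentation g :=
      fun A B g hg => inferInstance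
    have hE2 : ∀ ⦃A B : Scheme.{u}⦄ (g : A ⟶ B), Etale g → Flat g :=
      fun A B g hg => inferInstance
    have hZ' : ∃ (k : Type u) (_ : Field k) (str : Spec (CommRingCat.of k) ⟶ S)
        (q : (AlgSp.yon S).obj (Over.mk str) ⟶ Z'.obj),
        AlgSp.LocP @LocallyOfFinitePresentation q ∧ AlgSp.LocP @Flat q ∧
          AlgSp.IsSurjectiveMor q :=
      ⟨p.K, inferInstance, p.str, 𝟙 _,
        locP_of_repWith @LocallyOfFinitePresentation hE1 _ (repWith_id _ _),
        locP_of_repWith @Flat hE2 _ (repWith_id _ _), isSurjectiveMor_id _⟩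
    obtain ⟨e, -⟩ := Groth.Agent.S10371.result X x i i' hi hi' hZ hZ'
    exact ⟨p.K, inferInstance, p.str, ⟨(ObjectProperty.ι _).mapIso e.symm⟩⟩

end Groth.Agent.S10414
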