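import Groth.Statements.S10416
import Groth.Agent.S10192
import Groth.Agent.Lib.AlgSpResidual_helper6
import Groth.Agent.Lib.AlgSpUniv_helper7
import Groth.Agent.Lib.AlgSpOnePt_helper7

set_option autoImplicit false
universe u
open CategoryTheory CategoryTheory.Limits AlgebraicGeometry Topology TopologicalSpace
open AlgSp

namespace Groth.Agent.S10416

open Groth.Agent.Lib.AlgSpResidualH6 Groth.Agent.Lib.AlgSpFactor_helper6
  Groth.Agent.Lib.AlgSpUniv_helper7 Groth.Agent.Lib.AlgSpOnePt_helper7
  Groth.Agent.Lib.AlgSpPoints_helper7 in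
/-- Let S be a scheme, X a locally Noetherian algebraic space over S, x ∈ |X|, and i : Z_x ⟶ X the
residual space at x. Then x is closed in |X| if and only if i is a closed immersion. -/
theorem result {S : Scheme.{u}} {X Z : AlgSp.Space S}
    (hX : AlgSp.IsLocNoethSp X.obj) (x : AlgSp.Points X.obj) (i : Z ⟶ X) [Mono i.hom]
    (hi : Set.range (AlgSp.Points.map i.hom) = {x}) (hZ : ∃ (k : Type u) (_ : Field k) (str : Spec (CommRingCat.of k) ⟶ S) (p : (AlgSp.yon S).obj (Over.mk str) ⟶ Z.obj),
        AlgSp.LocP @LocallyOfFinitePresentation p ∧ AlgSp.LocP @Flat p ∧ AlgSp.IsSurjectiveMor p) :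
    IsClosed ({x} : Set (AlgSp.Points X.obj)) ↔ AlgSp.RepWith @IsClosedImmersion i.hom := by
  constructor
  · intro hx
    obtain ⟨Z', i', hi'c, hi'r, hZ'red⟩ := Groth.Agent.S10192.result X {x} hx
    obtain ⟨k, hk, str, p, hplfp, hpf, hps⟩ := hZ
    have hZred := (reduced_singleton_of_flat_surjective_field Z.property str p hpf hps).1
    haveI : Mono i'.hom := mono_of_repWith_isClosedImmersion i'.hom hi'c
    obtain ⟨a, ha⟩ := exists_factor_of_closed i.hom i'.hom hi'c hZred (by rw [hi, hi'r])
    have hf' : ∀ y : AlgSp.Points Z'.obj, AlgSp.Points.map i'.hom y = x := by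
      intro y
      have : AlgSp.Points.map i'.hom y ∈ Set.range (AlgSp.Points.map i'.hom) := ⟨y, rfl⟩
      rw [hi'r] at this
      exact this
    obtain ⟨b, hb⟩ := exists_factor_residual Z'.property X.property Z.property i'.hom x hf'
      hZ'red hX i.hom hi ⟨k, hk, str, p, hplfp, hpf, hps⟩
    have hab : a ≫ b = 𝟙 _ := by
      rw [← cancel_mono i.hom, Category.assoc, hb, ha, Category.id_comp]
    have hba : b ≫ a = 𝟙 _ := by
      rw [← cancel_mono i'.hom, Category.assoc, ha, hb, Category.id_comp]
    haveI : IsIso a := ⟨⟨b, hab, hba⟩⟩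
    rw [← ha]
    exact ((AlgSp.RepWith @IsClosedImmersion).cancel_left_of_respectsIso a i'.hom).2 hi'c
  · intro hic
    have huc : AlgSp.RepWith @UniversallyClosed i.hom :=
      repWith_mono (fun _ _ g (hg : IsClosedImmersion g) => (inferInstance : UniversallyClosed g)) hic
    have := isClosedMap_map_of_repWith i.hom huc Set.univ isClosed_univ
    rw [Set.image_univ, hi] at this
    exact this

end Groth.Agent.S10416
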