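import Groth.Statements.S10427
import Groth.Agent.Lib.AlgSpUBF2_helper4

set_option autoImplicit false
universe u
open CategoryTheory CategoryTheory.Limits AlgebraicGeometry Topology TopologicalSpace
open AlgSp

namespace Groth.Agent.S10427

/-- Let X be an algebraic space over a scheme S and U ⟶ V ⟶ X with U, V schemes, U ⟶ V surjective and
flat. If U ⟶ X has universally bounded fibres, then so does V ⟶ X. -/
theorem result {S : Scheme.{u}} (X : AlgSp.Space S) {U V : Over S} (f : U ⟶ V)
    [Surjective f.left] [Flat f.left] (h : (AlgSp.yon S).obj V ⟶ X.obj) (hg : W4dec.HasUnivBddFibres ((AlgSp.yon S).map f ≫ h)) :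
    W4dec.HasUnivBddFibres h := by
  obtain ⟨n, hn⟩ := hg
  refine ⟨n, ?_⟩
  intro q T c snd hsq
  obtain ⟨b, rfl⟩ := (AlgSp.yon S).map_surjective snd
  have sq0 := IsPullback.of_hasPullback b f
  have sq1 : IsPullback ((AlgSp.yon S).map (pullback.fst b f)) ((AlgSp.yon S).map (pullback.snd b f))
      ((AlgSp.yon S).map b) ((AlgSp.yon S).map f) := sq0.map (AlgSp.yon S)
  have sq2 := sq1.paste_horiz hsq
  rw [← Functor.map_comp] at sq2
  obtain ⟨hfin, hrk⟩ := hn q (pullback b f) (pullback.fst b f ≫ c) _ sq2
  have sq3 : IsPullback (pullback.fst b f).left (pullback.snd b f).left b.left f.left :=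
    sq0.map (Over.forget S)
  have hfl : Flat (pullback.fst b f).left :=
    MorphismProperty.of_isPullback (P := @Flat) sq3.flip inferInstance
  have hsu : Surjective (pullback.fst b f).left :=
    MorphismProperty.of_isPullback (P := @Surjective) sq3.flip inferInstance
  rw [Over.comp_left] at hfin
  have key := fun s => Groth.Agent.Lib.AlgSpUBF2_helper4.isFinite_of_flat_surjective_comp
    (K := q.K) (pullback.fst b f).left c.left s
  obtain ⟨s0⟩ : Nonempty ↥(Spec (CommRingCat.of q.K)) := inferInstance
  exact ⟨(key s0).1, fun s => (key s).2.trans (hrk s)⟩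

end Groth.Agent.S10427
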