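import Groth.Statements.S10428
import Groth.Agent.Lib.AlgSpUBF_helper4

set_option autoImplicit false
universe u
open CategoryTheory CategoryTheory.Limits AlgebraicGeometry Topology TopologicalSpace
open AlgSp

namespace Groth.Agent.S10428

/-- Let X be an algebraic space over a scheme S and φ : U ⟶ X a morphism from a scheme with universally
bounded fibres. Then for some integer n, every fibre of |U| → |X| contains at most n elements. -/
theorem result {S : Scheme.{u}} (X : AlgSp.Space S) {U : Over S}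
    (φ : (AlgSp.yon S).obj U ⟶ X.obj) (hφ : W4dec.HasUnivBddFibres φ) :
    ∃ n : ℕ, ∀ x : AlgSp.Points X.obj, (AlgSp.Points.ofPt φ ⁻¹' {x}).encard ≤ n := by
  obtain ⟨n, hn⟩ := hφ
  refine ⟨n, fun x => ?_⟩
  obtain ⟨q, rfl⟩ := AlgSp.Points.mk_surjective x
  have hrep : AlgSp.Representable φ := X.property.representable_from_yon φ
  have sq := hrep.isPullback q.toHom
  obtain ⟨b, hb⟩ := (AlgSp.yon S).map_surjective (hrep.fst q.toHom)
  rw [← hb] at sq
  obtain ⟨hfin, hrk⟩ := hn q _ (hrep.snd q.toHom) _ sq.flip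
  obtain ⟨s⟩ : Nonempty ↥(Spec (CommRingCat.of q.K)) := inferInstance
  have hle := Groth.Agent.Lib.AlgSpUBF_helper4.encard_univ_le_of_finrank_le
    (hrep.snd q.toHom).left n s (hrk s)
  have hsub : AlgSp.Points.ofPt φ ⁻¹' {AlgSp.Points.mk q} ⊆ b.left '' Set.univ := by
    intro u hu
    rw [Set.mem_preimage, Set.mem_singleton_iff, ← AlgSp.Points.ofPt_toHom q s] at hu
    obtain ⟨v, hv, -⟩ :=
      Groth.Agent.Lib.AlgSpPoints_helper7.exists_ofPt_eq_of_isPullback sq u s hu
    exact ⟨v, Set.mem_univ _, hv⟩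
  exact (Set.encard_le_encard hsub).trans ((Set.encard_image_le _ _).trans hle)

end Groth.Agent.S10428
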