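import Groth.Statements.S10429
import Groth.Agent.S10427
import Groth.Agent.Lib.UBFSch_helper6
import Groth.Agent.Lib.AlgSpEtale_helper7
import Groth.Agent.Lib.AlgSpQC_helper7

set_option autoImplicit false
universe u
open CategoryTheory CategoryTheory.Limits AlgebraicGeometry Topology TopologicalSpace
open AlgSp

namespace Groth.Agent.S10429

open Groth.Agent.Lib.UBFCoverH6 Groth.Agent.Lib.UBFSchH6 Groth.Agent.Lib.UBFCompH6
  Groth.Agent.Lib.AlgSpPoints_helper7 Groth.Agent.Lib.AlgSpQC_helper7 in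
/-- For an algebraic space X over a scheme S, if there are etale morphisms U_i ⟶ X from schemes with ∐
U_i ⟶ X surjective and each U_i ⟶ X with universally bounded fibres, then every etale morphism U ⟶ X
from an affine scheme has universally bounded fibres (the converse implication is immediate). -/
theorem result {S : Scheme.{u}} (X : AlgSp.Space S) {ι : Type u} (U : ι → Over S)
    (φ : ∀ i, (AlgSp.yon S).obj (U i) ⟶ X.obj) (hφ : ∀ i, AlgSp.RepWith @Etale (φ i))
    (hsurj : ∀ x : AlgSp.Points X.obj, ∃ (i : ι) (v : ↥(U i).left), AlgSp.Points.ofPt (φ i) v = x)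
    (hb : ∀ i, W4dec.HasUnivBddFibres (φ i)) {V : Over S} [IsAffine V.left] (ψ : (AlgSp.yon S).obj V ⟶ X.obj)
    (hψ : AlgSp.RepWith @Etale ψ) : W4dec.HasUnivBddFibres ψ := by
  have key : ∀ v : ↥V.left, ∃ W : V.left.Opens, v ∈ W ∧
      W4dec.HasUnivBddFibres ((AlgSp.yon S).map (opι V W) ≫ ψ) := by
    intro v
    obtain ⟨i, u, hu⟩ := hsurj (AlgSp.Points.ofPt ψ v)
    have R := (hφ i).rep
    have sq : IsPullback ((AlgSp.yon S).map (R.fst' ψ)) ((AlgSp.yon S).map (R.snd ψ)) (φ i) ψ :=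
      R.isPullback' ψ
    haveI he₁ : Etale (R.snd ψ).left := (hφ i).property_snd ψ
    haveI he₂ : Etale (R.fst' ψ).left :=
      (AlgSp.repWith_yon_map_iff @Etale (R.fst' ψ)).1 (repWith_fst_of_isPullback @Etale sq hψ)
    obtain ⟨p, hp2, hp1⟩ := exists_ofPt_eq_of_isPullback sq u v hu
    obtain ⟨U', hU'aff, huU', -⟩ : ∃ U' : (U i).left.Opens, U' ∈ (U i).left.affineOpens ∧ u ∈ U' ∧
        U' ≤ ⊤ := by
      obtain ⟨W, h1, h2, h3⟩ := TopologicalSpace.Opens.isBasis_iff_nbhd.mp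
        (Scheme.isBasis_affineOpens (U i).left) (TopologicalSpace.Opens.mem_top u)
      exact ⟨W, h1, h2, h3⟩
    have hpU' : p ∈ (R.fst' ψ).left ⁻¹ᵁ U' := by
      change (R.fst' ψ).left p ∈ U'
      rw [hp2]; exact huU'
    obtain ⟨P', hP'aff, hpP', hP'le⟩ : ∃ P' : (R.pullback ψ).left.Opens,
        P' ∈ (R.pullback ψ).left.affineOpens ∧ p ∈ P' ∧ P' ≤ (R.fst' ψ).left ⁻¹ᵁ U' := by
      obtain ⟨W, h1, h2, h3⟩ := TopologicalSpace.Opens.isBasis_iff_nbhd.mp
        (Scheme.isBasis_affineOpens (R.pullback ψ).left) hpU'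
      exact ⟨W, h1, h2, h3⟩
    let W : V.left.Opens := ⟨(R.snd ψ).left '' (P' : Set ↥(R.pullback ψ).left),
      (R.snd ψ).left.isOpenMap _ P'.isOpen⟩
    refine ⟨W, ⟨p, hpP', hp1⟩, ?_⟩
    -- the restriction `P' ⟶ W` of the first projection
    have hrange : Set.range (P'.ι ≫ (R.snd ψ).left) ⊆ Set.range W.ι := by
      rw [Scheme.Opens.range_ι]
      rintro _ ⟨x, rfl⟩
      rw [Scheme.Hom.comp_apply]
      refine ⟨P'.ι x, ?_, rfl⟩
      have : P'.ι x ∈ Set.range P'.ι := ⟨x, rfl⟩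
      rw [Scheme.Opens.range_ι] at this
      exact this
    obtain ⟨f₀, hf₀⟩ : ∃ f₀ : P'.toScheme ⟶ W.toScheme, f₀ ≫ W.ι = P'.ι ≫ (R.snd ψ).left :=
      ⟨IsOpenImmersion.lift W.ι _ hrange, IsOpenImmersion.lift_fac _ _ _⟩
    have hf₀S : f₀ ≫ (opOver V W).hom = (opOver (R.pullback ψ) P').hom := by
      change f₀ ≫ W.ι ≫ V.hom = P'.ι ≫ (R.pullback ψ).hom
      rw [← Category.assoc, hf₀, Category.assoc, Over.w (R.snd ψ)]
    let f : opOver (R.pullback ψ) P' ⟶ opOver V W := Over.homMk f₀ hf₀S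
    have hf : f ≫ opι V W = opι (R.pullback ψ) P' ≫ R.snd ψ := Over.OverMorphism.ext hf₀
    haveI : Etale f₀ := by
      haveI : Etale (f₀ ≫ W.ι) := by rw [hf₀]; infer_instance
      exact Etale.of_comp f₀ W.ι
    haveI : Flat f.left := (inferInstance : Flat f₀)
    haveI : Surjective f.left := by
      refine ⟨fun w => ?_⟩
      have hw : W.ι w ∈ Set.range W.ι := ⟨w, rfl⟩
      rw [Scheme.Opens.range_ι] at hw
      obtain ⟨x, hxP', hxw⟩ := hw
      have hx : x ∈ Set.range P'.ι := by rw [Scheme.Opens.range_ι]; exact hxP'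
      obtain ⟨x', rfl⟩ := hx
      refine ⟨x', ?_⟩
      apply W.ι.isOpenEmbedding.injective
      have h : (f₀ ≫ W.ι) x' = (P'.ι ≫ (R.snd ψ).left) x' := by rw [hf₀]
      rw [Scheme.Hom.comp_apply, Scheme.Hom.comp_apply] at h
      exact h.trans hxw
    -- the restriction `P' ⟶ U'` of the second projection
    have hrange2 : Set.range (P'.ι ≫ (R.fst' ψ).left) ⊆ Set.range U'.ι := by
      rw [Scheme.Opens.range_ι]
      rintro _ ⟨x, rfl⟩
      rw [Scheme.Hom.comp_apply]
      have : P'.ι x ∈ Set.range P'.ι := ⟨x, rfl⟩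
      rw [Scheme.Opens.range_ι] at this
      exact hP'le this
    obtain ⟨g₀, hg₀⟩ : ∃ g₀ : P'.toScheme ⟶ U'.toScheme, g₀ ≫ U'.ι = P'.ι ≫ (R.fst' ψ).left :=
      ⟨IsOpenImmersion.lift U'.ι _ hrange2, IsOpenImmersion.lift_fac _ _ _⟩
    have hg₀S : g₀ ≫ (opOver (U i) U').hom = (opOver (R.pullback ψ) P').hom := by
      change g₀ ≫ U'.ι ≫ (U i).hom = P'.ι ≫ (R.pullback ψ).hom
      rw [← Category.assoc, hg₀, Category.assoc, Over.w (R.fst' ψ)]
    let g' : opOver (R.pullback ψ) P' ⟶ opOver (U i) U' := Over.homMk g₀ hg₀S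
    have hg' : g' ≫ opι (U i) U' = opι (R.pullback ψ) P' ≫ R.fst' ψ := Over.OverMorphism.ext hg₀
    haveI : Etale g₀ := by
      haveI : Etale (g₀ ≫ U'.ι) := by rw [hg₀]; infer_instance
      exact Etale.of_comp g₀ U'.ι
    haveI : LocallyQuasiFinite g'.left :=
      Groth.Agent.Lib.AlgSpEtale_helper7.locallyQuasiFinite_of_unramified g₀
    haveI : LocallyOfFinitePresentation g'.left := (inferInstance : LocallyOfFinitePresentation g₀)
    haveI : IsAffine (opOver (U i) U').left := hU'aff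
    haveI : IsAffine (opOver (R.pullback ψ) P').left := hP'aff
    have h1 : W4dec.HasUnivBddFibres ((AlgSp.yon S).map g') := hasUnivBddFibres_of_affine_lqf g'
    haveI : IsOpenImmersion (opι (U i) U').left := (inferInstance : IsOpenImmersion U'.ι)
    have h2 : W4dec.HasUnivBddFibres ((AlgSp.yon S).map (opι (U i) U') ≫ φ i) :=
      hasUnivBddFibres_comp X.property (opι (U i) U') (φ i)
        (hasUnivBddFibres_of_isOpenImmersion _) (hb i)
    have h3 : W4dec.HasUnivBddFibres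
        ((AlgSp.yon S).map g' ≫ (AlgSp.yon S).map (opι (U i) U') ≫ φ i) :=
      hasUnivBddFibres_comp X.property g' _ h1 h2
    refine Groth.Agent.S10427.result X f ((AlgSp.yon S).map (opι V W) ≫ ψ) ?_
    have e : (AlgSp.yon S).map f ≫ (AlgSp.yon S).map (opι V W) ≫ ψ =
        (AlgSp.yon S).map g' ≫ (AlgSp.yon S).map (opι (U i) U') ≫ φ i := by
      rw [← Category.assoc, ← Functor.map_comp, hf, Functor.map_comp, Category.assoc, ← sq.w,
        ← Category.assoc, ← Category.assoc, ← Functor.map_comp, ← Functor.map_comp, hg']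
    rw [e]; exact h3
  choose W hWv hWb using key
  haveI : CompactSpace ↥V.left := inferInstance
  obtain ⟨t, ht⟩ := isCompact_univ.elim_finite_subcover (fun v => (W v : Set ↥V.left))
    (fun v => (W v).isOpen) (fun x _ => Set.mem_iUnion.2 ⟨x, hWv x⟩)
  exact hasUnivBddFibres_of_openCover ψ (fun k : ↥t => W k.1) (fun x => by
    obtain ⟨v, hv, hx⟩ := Set.mem_iUnion₂.1 (ht (Set.mem_univ x))
    exact ⟨⟨v, hv⟩, hx⟩) (fun k => hWb k.1)

end Groth.Agent.S10429
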