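import Groth.Statements.S10430
import Groth.Agent.Lib.FieldQuot6_helper6

set_option autoImplicit false
universe u
open CategoryTheory CategoryTheory.Limits AlgebraicGeometry Topology TopologicalSpace
open AlgSp

namespace Groth.Agent.S10430

/-- If every etale morphism U ⟶ X from an affine scheme to the algebraic space X has universally bounded
fibres, then X is decent. -/
theorem result {S : Scheme.{u}} (X : AlgSp.Space S)
    (h : ∀ (U : Over S) (φ : (AlgSp.yon S).obj U ⟶ X.obj), IsAffine U.left → AlgSp.RepWith @Etale φ → W4dec.HasUnivBddFibres φ) :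
    AlgSp.IsDecent X.obj := by
  intro x
  apply Groth.Agent.Lib.FieldQuot4H6.exists_qc_mono_point_of_finite_fibres X.property x
  intro U φ hU hφ R s t sq
  obtain ⟨n, hn⟩ := h U φ hU hφ
  have key : ∀ q : FieldPt X.obj, IsFinite (hφ.rep.snd q.toHom).left := fun q =>
    (hn q _ _ _ (hφ.rep.isPullback' q.toHom).flip).1
  obtain ⟨q, rfl⟩ := Points.mk_surjective x
  have h1 := Groth.Agent.Lib.FieldQuot6H6.finite_fibre_of_isFinite q φ hφ (key q)
  exact ⟨h1, Groth.Agent.Lib.FieldQuot6H6.finite_relation_total_fibre' φ hφ _ h1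
    (fun u' _ => key _) s t sq⟩

end Groth.Agent.S10430
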