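import Groth.Statements.S10431
import Groth.Agent.S10425
import Groth.Agent.S10429

set_option autoImplicit false
universe u
open CategoryTheory CategoryTheory.Limits AlgebraicGeometry Topology TopologicalSpace
open AlgSp

namespace Groth.Agent.S10431

open Groth.Agent.Lib.UBFCoverH6 Groth.Agent.Lib.UBFSchH6 Groth.Agent.Lib.UBFCompH6
  Groth.Agent.Lib.AlgSpPoints_helper7 Groth.Agent.Lib.AlgSpQC_helper7
  Groth.Agent.Lib.AlgSpPullback_helper7 in
/-- Let S be a scheme, X and Y algebraic spaces over S, and X ⟶ Y a representable morphism. If every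
etale morphism from an affine scheme to Y has universally bounded fibres, then so does every etale
morphism from an affine scheme to X. -/
theorem result {S : Scheme.{u}} {X Y : AlgSp.Space S} (f : X ⟶ Y)
    (hf : AlgSp.Representable f.hom)
    (hY : ∀ (V : Over S) (ψ : (AlgSp.yon S).obj V ⟶ Y.obj), IsAffine V.left → AlgSp.RepWith @Etale ψ → W4dec.HasUnivBddFibres ψ)
    (U : Over S) (φ : (AlgSp.yon S).obj U ⟶ X.obj) (hU : IsAffine U.left) (hφ : AlgSp.RepWith @Etale φ) :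
    W4dec.HasUnivBddFibres φ := by
  obtain ⟨V₀, p₀, hp0e, hp0s⟩ := Y.property.atlas
  let ι : Type u := ↥(V₀.left.affineOpens)
  let Vi : ι → Over S := fun i => opOver V₀ i.1
  let a : ∀ i : ι, (AlgSp.yon S).obj (Vi i) ⟶ Y.obj := fun i => (AlgSp.yon S).map (opι V₀ i.1) ≫ p₀
  have hae : ∀ i, AlgSp.RepWith @Etale (a i) := fun i =>
    repWith_comp @Etale ((AlgSp.repWith_yon_map_iff @Etale (opι V₀ i.1)).2
      (inferInstance : Etale (i.1 : V₀.left.Opens).ι)) hp0e
  have hab : ∀ i, W4dec.HasUnivBddFibres (a i) := fun i => hY (Vi i) (a i) i.2 (hae i)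
  have sq : ∀ i, IsPullback (hf.fst (a i)) ((AlgSp.yon S).map (hf.snd (a i))) f.hom (a i) :=
    fun i => hf.isPullback (a i)
  haveI := hU
  refine Groth.Agent.S10429.result X (fun i : ι => hf.pullback (a i)) (fun i => hf.fst (a i))
    (fun i => repWith_fst_of_isPullback @Etale (sq i) (hae i)) ?_
    (fun i => Groth.Agent.S10425.result f hf (a i) (hab i) _ _ (sq i).flip) φ hφ
  intro x
  obtain ⟨v₀, hv₀⟩ := ofPt_surjective p₀ hp0s (AlgSp.Points.map f.hom x)
  obtain ⟨W, hWaff, hvW, -⟩ : ∃ W : V₀.left.Opens, W ∈ V₀.left.affineOpens ∧ v₀ ∈ W ∧ W ≤ ⊤ := by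
    obtain ⟨W, h1, h2, h3⟩ := TopologicalSpace.Opens.isBasis_iff_nbhd.mp
      (Scheme.isBasis_affineOpens V₀.left) (TopologicalSpace.Opens.mem_top v₀)
    exact ⟨W, h1, h2, h3⟩
  let i : ι := ⟨W, hWaff⟩
  obtain ⟨vi, hvi⟩ : ∃ vi : ↥(Vi i).left, (opι V₀ W).left vi = v₀ := by
    have : v₀ ∈ Set.range W.ι := by rw [Scheme.Opens.range_ι]; exact hvW
    exact this
  have h : AlgSp.Points.map f.hom x = AlgSp.Points.map (a i) (AlgSp.Points.ofScheme (Vi i) vi) := by
    rw [← AlgSp.Points.ofPt_eq_map_ofScheme, ← hv₀, ← hvi]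
    exact (ofPt_comp (opι V₀ W) p₀ vi).symm
  obtain ⟨z, hz1, -⟩ := exists_of_isPullback (sq i) x _ h
  obtain ⟨w, rfl⟩ := (AlgSp.Points.schemeEquiv (hf.pullback (a i))).surjective z
  refine ⟨i, w, ?_⟩
  rw [AlgSp.Points.ofPt_eq_map_ofScheme]
  exact hz1

end Groth.Agent.S10431
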