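import Groth.Statements.S10432
import Groth.Agent.S10426
import Groth.Agent.Lib.UBFCover_helper6
import Groth.Agent.Lib.AlgSpOpenSub_helper7
import Groth.Agent.Lib.AlgSpQC_helper7
import Groth.Agent.Lib.AlgSpPullback_helper7

set_option autoImplicit false
universe u
open CategoryTheory CategoryTheory.Limits AlgebraicGeometry Topology TopologicalSpace
open AlgSp

namespace Groth.Agent.S10432

open Groth.Agent.Lib.UBFCoverH6 Groth.Agent.Lib.AlgSpPoints_helper7 Groth.Agent.Lib.AlgSpOpenSub_helper7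
  Groth.Agent.Lib.AlgSpQC_helper7 Groth.Agent.Lib.AlgSpPullback_helper7 in
theorem hasUnivBddFibres_comp_mono {S : Scheme.{u}} {X Y : AlgSp.Space S} (g : Y ⟶ X)
    (hg : AlgSp.Representable g.hom) [Mono g.hom] {V : Over S} (a : (AlgSp.yon S).obj V ⟶ Y.obj)
    (ha : W4dec.HasUnivBddFibres a) : W4dec.HasUnivBddFibres (a ≫ g.hom) := by
  have sq : IsPullback (𝟙 ((AlgSp.yon S).obj V)) a (a ≫ g.hom) g.hom :=
    IsPullback.of_isLimit' ⟨by simp⟩ (PullbackCone.IsLimit.mk _ (fun s => s.fst) (fun s => by simp)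
      (fun s => by rw [← cancel_mono g.hom, Category.assoc]; exact s.condition)
      (fun s m h1 h2 => by simpa using h1))
  refine Groth.Agent.S10426.result g hg (a ≫ g.hom) (𝟙 _) a sq ?_ ha
  rintro _ ⟨v, rfl⟩
  exact ⟨AlgSp.Points.ofPt a v, by rw [AlgSp.Points.map_ofPt]⟩

open Groth.Agent.Lib.UBFCoverH6 Groth.Agent.Lib.AlgSpPoints_helper7 in
theorem exists_preimage_of_isPullback {S : Scheme.{u}} {F' H : AlgSp.Sp S} {T V : Over S}
    {fst : (AlgSp.yon S).obj V ⟶ F'} {a : V ⟶ T} {f : F' ⟶ H} {g : (AlgSp.yon S).obj T ⟶ H}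
    (sq : IsPullback fst ((AlgSp.yon S).map a) f g) (y : AlgSp.Points F') (t : ↥T.left)
    (h : AlgSp.Points.map f y = AlgSp.Points.ofPt g t) : ∃ v : ↥V.left, a.left v = t := by
  rw [AlgSp.Points.ofPt_eq_map_ofScheme g] at h
  obtain ⟨z, hz1, hz2⟩ := exists_of_isPullback sq _ _ h
  obtain ⟨v, rfl⟩ := (AlgSp.Points.schemeEquiv V).surjective z
  refine ⟨v, ?_⟩
  apply (AlgSp.Points.schemeEquiv T).injective
  change AlgSp.Points.ofScheme T _ = AlgSp.Points.ofScheme T _
  rw [← hz2]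
  change _ = AlgSp.Points.map _ (AlgSp.Points.ofScheme V v)
  rw [← AlgSp.Points.ofPt_eq_map_ofScheme, ofPt_yon_map]

open Groth.Agent.Lib.UBFCoverH6 Groth.Agent.Lib.AlgSpPoints_helper7 Groth.Agent.Lib.AlgSpOpenSub_helper7
  Groth.Agent.Lib.AlgSpQC_helper7 Groth.Agent.Lib.AlgSpPullback_helper7 in
/-- Let X be an algebraic space over a scheme S with a Zariski covering by open subspaces X_i ⟶ X such
that every etale morphism from an affine scheme to X_i has universally bounded fibres. Then every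
etale morphism from an affine scheme to X has universally bounded fibres. -/
theorem result {S : Scheme.{u}} (X : AlgSp.Space S) {ι : Type u}
    (Xi : ι → AlgSp.Space S) (j : ∀ i, Xi i ⟶ X) (hj : AlgSp.IsZarCover (fun i => (Xi i).obj) (fun i => (j i).hom))
    (h : ∀ (i : ι) (V : Over S) (ψ : (AlgSp.yon S).obj V ⟶ (Xi i).obj), IsAffine V.left → AlgSp.RepWith @Etale ψ → W4dec.HasUnivBddFibres ψ)
    (U : Over S) (φ : (AlgSp.yon S).obj U ⟶ X.obj) (hU : IsAffine U.left) (hφ : AlgSp.RepWith @Etale φ) :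
    W4dec.HasUnivBddFibres φ := by
  have key : ∀ u : ↥U.left, ∃ W : U.left.Opens, u ∈ W ∧
      W4dec.HasUnivBddFibres ((AlgSp.yon S).map (opι U W) ≫ φ) := by
    intro u
    obtain ⟨i, y, hy⟩ := hj.2 (AlgSp.Points.ofPt φ u)
    have R := (hj.1 i).rep
    have sq : IsPullback (R.fst φ) ((AlgSp.yon S).map (R.snd φ)) (j i).hom φ := R.isPullback φ
    haveI ho : IsOpenImmersion (R.snd φ).left := (hj.1 i).property_snd φ
    obtain ⟨v, hv⟩ := exists_preimage_of_isPullback sq y u hy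
    have hu : u ∈ (R.snd φ).left.opensRange := ⟨v, hv⟩
    obtain ⟨W, hWaff, huW, hWle⟩ : ∃ W : U.left.Opens, W ∈ U.left.affineOpens ∧ u ∈ W ∧
        W ≤ (R.snd φ).left.opensRange := by
      obtain ⟨W, h1, h2, h3⟩ := TopologicalSpace.Opens.isBasis_iff_nbhd.mp
        (Scheme.isBasis_affineOpens U.left) hu
      exact ⟨W, h1, h2, h3⟩
    refine ⟨W, huW, ?_⟩
    have hrange : Set.range W.ι ⊆ Set.range (R.snd φ).left := by
      rw [Scheme.Opens.range_ι]; exact hWle
    obtain ⟨l, hl⟩ : ∃ l : W.toScheme ⟶ (R.pullback φ).left, l ≫ (R.snd φ).left = W.ι :=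
      ⟨IsOpenImmersion.lift (R.snd φ).left W.ι hrange, IsOpenImmersion.lift_fac _ _ _⟩
    have hlS : l ≫ (R.pullback φ).hom = (opOver U W).hom := by
      change l ≫ (R.pullback φ).hom = W.ι ≫ U.hom
      rw [← hl, Category.assoc, Over.w (R.snd φ)]
    let lO : opOver U W ⟶ R.pullback φ := Over.homMk l hlS
    have hlo : lO ≫ R.snd φ = opι U W := Over.OverMorphism.ext hl
    haveI : IsOpenImmersion l := by
      haveI : IsOpenImmersion (l ≫ (R.snd φ).left) := by rw [hl]; infer_instance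
      exact IsOpenImmersion.of_comp l (R.snd φ).left
    have hle : AlgSp.RepWith @Etale ((AlgSp.yon S).map lO) :=
      (AlgSp.repWith_yon_map_iff @Etale lO).2 (inferInstance : Etale l)
    have hfe : AlgSp.RepWith @Etale (R.fst φ) := repWith_fst_of_isPullback @Etale sq hφ
    have hbe : AlgSp.RepWith @Etale ((AlgSp.yon S).map lO ≫ R.fst φ) := repWith_comp @Etale hle hfe
    have hb := h i (opOver U W) ((AlgSp.yon S).map lO ≫ R.fst φ) hWaff hbe
    haveI : Mono (j i).hom := mono_of_openImmersion _ (hj.1 i)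
    have hfin := hasUnivBddFibres_comp_mono (j i) (hj.1 i).rep _ hb
    rw [Category.assoc, sq.w, ← Category.assoc, ← Functor.map_comp, hlo] at hfin
    exact hfin
  choose W hWu hWb using key
  haveI : CompactSpace ↥U.left := inferInstance
  obtain ⟨t, ht⟩ := isCompact_univ.elim_finite_subcover (fun u => (W u : Set ↥U.left))
    (fun u => (W u).isOpen) (fun x _ => Set.mem_iUnion.2 ⟨x, hWu x⟩)
  exact hasUnivBddFibres_of_openCover φ (fun k : ↥t => W k.1) (fun x => by
    obtain ⟨u, hu, hx⟩ := Set.mem_iUnion₂.1 (ht (Set.mem_univ x))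
    exact ⟨⟨u, hu⟩, hx⟩) (fun k => hWb k.1)

end Groth.Agent.S10432
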