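import Groth.Statements.S10446
import Groth.Agent.Lib.AlgSpGenFin3_helper6

set_option autoImplicit false
universe u
open CategoryTheory CategoryTheory.Limits AlgebraicGeometry Topology TopologicalSpace
open AlgSp

namespace Groth.Agent.S10446

/-- (1) ⇔ (3): let S be a scheme with quasi-separated underlying space, f : X ⟶ Y a quasi-separated
morphism of algebraic spaces over S that is locally of finite type, with Y quasi-separated over S,
and y ∈ |Y| a point of codimension 0. Then |f|⁻¹(y) is finite if and only if f restricts to a finite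
morphism X' ⟶ Y' between an open subspace X' of X containing the whole fibre |f|⁻¹(y) and an open
subspace Y' of Y through y. (The published statement assumes Y quasi-separated in the absolute
sense; this row assumes S has quasi-separated underlying space and Y quasi-separated over S. Its
condition on the finiteness of |Spec k ×_Y X| is not part of this row.) -/
theorem result {S : Scheme.{u}} [QuasiSeparatedSpace ↥S] {X Y : AlgSp.Space S}
    (f : X ⟶ Y) (hqs : AlgSp.IsQuasiSeparatedMor f.hom) (hft : AlgSp.LocP @LocallyOfFiniteType f.hom)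
    (hY : AlgSp.IsQuasiSeparatedSp Y.obj) (y : AlgSp.Points Y.obj)
    (hy : AlgSp.HasAt (fun U u => ringKrullDim ↥(U.presheaf.stalk u) = 0) Y.obj y) :
    (AlgSp.Points.map f.hom ⁻¹' {y}).Finite ↔
      ∃ (X' Y' : AlgSp.Space S) (i : X' ⟶ X) (j : Y' ⟶ Y) (f' : X' ⟶ Y'), AlgSp.RepWith @IsOpenImmersion i.hom ∧
        AlgSp.RepWith @IsOpenImmersion j.hom ∧ f' ≫ j = i ≫ f ∧ y ∈ Set.range (AlgSp.Points.map j.hom) ∧
          AlgSp.Points.map f.hom ⁻¹' {y} ⊆ Set.range (AlgSp.Points.map i.hom) ∧ AlgSp.IsFiniteMor f'.hom := by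
  constructor
  · intro hfib
    exact Groth.Agent.Lib.AlgSpGenFin3H6.exists_finite_open_of_finite_fibre f hqs hft hY y hy hfib
  · rintro ⟨X', Y', i, j, f', hi, hj, hcomm, ⟨y', hy'⟩, hsub, hfin⟩
    haveI : Mono j.hom := Groth.Agent.Lib.AlgSpOpenSub_helper7.mono_of_openImmersion _ hj
    have hinj := Groth.Agent.Lib.AlgSpOpenSub_helper7.map_injective_of_mono j.hom
    have hF := Groth.Agent.Lib.AlgSpGenFin3H6.finite_fibre_of_isFiniteMor f' hfin y'
    refine (hF.image (AlgSp.Points.map i.hom)).subset ?_
    intro x hx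
    obtain ⟨x', rfl⟩ := hsub hx
    refine ⟨x', ?_, rfl⟩
    apply hinj
    show AlgSp.Points.map j.hom (AlgSp.Points.map f'.hom x') = AlgSp.Points.map j.hom y'
    have h1 : f'.hom ≫ j.hom = i.hom ≫ f.hom := congrArg (fun g => g.hom) hcomm
    rw [hy', ← AlgSp.Points.map_comp, h1, AlgSp.Points.map_comp]
    exact hx

end Groth.Agent.S10446
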