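import Groth.Statements.S10482
import Groth.Agent.Lib.AlgSpQC2_helper7
import Mathlib.AlgebraicGeometry.Artinian
import Mathlib.AlgebraicGeometry.Morphisms.QuasiFinite

set_option autoImplicit false
universe u
open CategoryTheory CategoryTheory.Limits AlgebraicGeometry Topology TopologicalSpace
open AlgSp

namespace Groth.Agent.S10482

open Groth.Agent.Lib.AlgSpQC2_helper7 in
/-- The canonical chart diagram over the terminal sheaf. -/
theorem comm_terminal {S : Scheme.{u}} {X : AlgSp.Sp S}
    (p : X ⟶ (AlgSp.yon S).obj (Over.mk (𝟙 S))) {U : Over S} (a : (AlgSp.yon S).obj U ⟶ X) :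
    a ≫ p = (AlgSp.yon S).map (Over.homMk U.hom : U ⟶ Over.mk (𝟙 S)) ≫ 𝟙 _ :=
  isTerminalYonId.hom_ext _ _

/-- (1) ⇔ (2): let k be a field and X an algebraic space over k. Then X is locally quasi-finite over k
if and only if X is locally of finite type over k of dimension at most 0. (The published statement
says dimension 0; dimension at most 0 is used so that the empty space, whose dimension is the bottom
element, is covered by both sides.) -/
theorem result (k : Type u) [Field k] (X : AlgSp.Space (Spec (CommRingCat.of k))) (p : X.obj ⟶ (AlgSp.yon (Spec (CommRingCat.of k))).obj (Over.mk (𝟙 _))) :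
    AlgSp.LocP (@LocallyQuasiFinite ⊓ @LocallyOfFiniteType : MorphismProperty Scheme.{u}) p ↔ AlgSp.LocP @LocallyOfFiniteType p ∧ AlgSp.dim X.obj ≤ 0 := by
  have hk : IsLocallyArtinian (Spec (CommRingCat.of k)) :=
    Scheme.isLocallyArtinianScheme_Spec.mpr (inferInstanceAs (IsArtinianRing k))
  constructor
  · intro hLQ
    refine ⟨fun U V a b h ha hb hc => (hLQ a b h ha hb hc).2, ?_⟩
    refine iSup_le fun U => iSup_le fun a => iSup_le fun ha => ?_
    have h1 := (hLQ a (𝟙 _) (Over.homMk U.hom : U ⟶ Over.mk (𝟙 _)) ha
      (AlgSp.repWith_id _ _) (comm_terminal p a)).1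
    have h1' : LocallyQuasiFinite U.hom := h1
    have : IsLocallyArtinian U.left := IsLocallyArtinian.of_locallyQuasiFinite U.hom
    exact topologicalKrullDim_zero_of_discreteTopology _
  · rintro ⟨hLFT, hdim⟩ U V a b h ha hb hc
    have hlft : LocallyOfFiniteType h.left := hLFT a b h ha hb hc
    refine ⟨?_, hlft⟩
    have h1 : LocallyOfFiniteType U.hom := hLFT a (𝟙 _) (Over.homMk U.hom : U ⟶ Over.mk (𝟙 _)) ha
      (AlgSp.repWith_id _ _) (comm_terminal p a)
    have : IsLocallyNoetherian U.left := LocallyOfFiniteType.isLocallyNoetherian U.hom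
    have hd : topologicalKrullDim ↥U.left ≤ 0 := by
      refine le_trans ?_ hdim
      exact le_iSup_of_le U (le_iSup_of_le a (le_iSup_of_le ha le_rfl))
    have : IsLocallyArtinian U.left := IsLocallyArtinian.of_topologicalKrullDim_le_zero hd
    rw [locallyQuasiFinite_iff_isDiscrete_preimage_singleton]
    intro x
    exact IsDiscrete.univ.mono (Set.subset_univ _)

end Groth.Agent.S10482
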