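import Groth.Statements.S10465
import Groth.Agent.Lib.AlgSpFieldBC_helper4

set_option autoImplicit false
universe u
open CategoryTheory CategoryTheory.Limits AlgebraicGeometry Topology TopologicalSpace
open AlgSp

namespace Groth.Agent.S10465

/-- Two field extensions of `k` embed compatibly into a common field extension of `k`. -/
theorem exists_compositum (k K k' : Type u) [Field k] [Field K] [Field k'] [Algebra k K]
    [Algebra k k'] :
    ∃ (L : Type u) (_ : Field L) (_ : Algebra k L) (_ : Algebra k' L) (_ : IsScalarTower k k' L)
      (i : K →+* L), i.comp (algebraMap k K) = algebraMap k L := by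
  have : Nontrivial (TensorProduct k K k') :=
    Algebra.TensorProduct.nontrivial_of_algebraMap_injective_of_isDomain k K k'
      (algebraMap k K).injective (algebraMap k k').injective
  obtain ⟨m, hm⟩ := Ideal.exists_maximal (TensorProduct k K k')
  let i₂ : k' →+* (TensorProduct k K k' ⧸ m) := (Ideal.Quotient.mk m).comp
      (Algebra.TensorProduct.includeRight (R := k) (A := K) (B := k')).toRingHom
  refine ⟨TensorProduct k K k' ⧸ m, Ideal.Quotient.field m, inferInstance, i₂.toAlgebra, ?_,
    (Ideal.Quotient.mk m).comp Algebra.TensorProduct.includeLeftRingHom, ?_⟩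
  · letI : Algebra k' (TensorProduct k K k' ⧸ m) := i₂.toAlgebra
    refine IsScalarTower.of_algebraMap_eq fun x => ?_
    change Ideal.Quotient.mk m (algebraMap k (TensorProduct k K k') x) =
      Ideal.Quotient.mk m ((1 : K) ⊗ₜ[k] algebraMap k k' x)
    rw [Algebra.TensorProduct.algebraMap_apply, Algebra.TensorProduct.tmul_one_eq_one_tmul]
  · ext x
    rfl

/-- For a field extension k'/k and an algebraic space X over k, geometric connectedness of X over k is
equivalent to geometric connectedness of its base change X_{k'} over k' (the base changes of X_{k'}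
to extensions K of k' being the base changes X_K of X, geometric connectedness of X_{k'} over k'
reads: |X_K| is connected for every field K over k'). -/
theorem result (k : Type u) [Field k] (X : AlgSp.Space (Spec (CommRingCat.of k))) (k' : Type u) [Field k'] [Algebra k k'] :
    (∀ (K : Type u) [Field K] [Algebra k K], ConnectedSpace (AlgSp.Points (X.obj ⨯ (AlgSp.yon (Spec (CommRingCat.of k))).obj (Over.mk (Spec.map (CommRingCat.ofHom (algebraMap k K))))))) ↔
      ∀ (K : Type u) [Field K] [Algebra k K] [Algebra k' K] [IsScalarTower k k' K],
        ConnectedSpace (AlgSp.Points (X.obj ⨯ (AlgSp.yon (Spec (CommRingCat.of k))).obj (Over.mk (Spec.map (CommRingCat.ofHom (algebraMap k K)))))) := by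
  constructor
  · intro h K _ _ _ _
    exact h K
  · intro h K _ _
    obtain ⟨L, _, _, _, _, i, hi⟩ := exists_compositum k K k'
    have hc := h L
    have hw : Spec.map (CommRingCat.ofHom i) ≫ Spec.map (CommRingCat.ofHom (algebraMap k K)) =
        Spec.map (CommRingCat.ofHom (algebraMap k L)) := by
      rw [← Spec.map_comp, ← CommRingCat.ofHom_comp, hi]
    let j : (Over.mk (Spec.map (CommRingCat.ofHom (algebraMap k L))) :
        Over (Spec (CommRingCat.of k))) ⟶ Over.mk (Spec.map (CommRingCat.ofHom (algebraMap k K))) :=
      Over.homMk (Spec.map (CommRingCat.ofHom i)) hw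
    exact (Groth.Agent.Lib.AlgSpFieldBC_helper4.surjective_map_prod_map_of_field X.obj j).connectedSpace
      (AlgSp.Points.continuous_map _)

end Groth.Agent.S10465
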