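import Groth.Statements.S10483
import Groth.Agent.Lib.AlgSpLqfField_helper6

set_option autoImplicit false
universe u
open CategoryTheory CategoryTheory.Limits AlgebraicGeometry Topology TopologicalSpace
open AlgSp

namespace Groth.Agent.S10483

/-- (1) ⇔ (5): let k be a field and X an algebraic space over k. Then X is locally quasi-finite over k
if and only if X decomposes as a disjoint union of spectra of finite-dimensional Artinian local
k-algebras: X is a scheme every point of which has an affine open neighbourhood with Artinian local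
coordinate ring, finite over k. -/
theorem result (k : Type u) [Field k] (X : AlgSp.Space (Spec (CommRingCat.of k))) (p : X.obj ⟶ (AlgSp.yon (Spec (CommRingCat.of k))).obj (Over.mk (𝟙 _))) :
    AlgSp.LocP (@LocallyQuasiFinite ⊓ @LocallyOfFiniteType : MorphismProperty Scheme.{u}) p ↔
      ∃ (U : Over (Spec (CommRingCat.of k))) (_ : (AlgSp.yon (Spec (CommRingCat.of k))).obj U ≅ X.obj), ∀ u : ↥U.left, ∃ V : U.left.Opens,
        u ∈ V ∧ IsAffineOpen V ∧ IsArtinianRing ↥Γ(U.left, V) ∧ IsLocalRing ↥Γ(U.left, V) ∧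
          IsFinite (V.ι ≫ U.hom) := by
  haveI hk : IsLocallyArtinian (Spec (CommRingCat.of k)) :=
    Scheme.isLocallyArtinianScheme_Spec.mpr (inferInstanceAs (IsArtinianRing k))
  constructor
  · intro hp
    obtain ⟨Z, e, h1, h2⟩ := Groth.Agent.Lib.AlgSpLqfFieldH6.exists_iso_of_locP X p hp
    haveI := h1
    exact ⟨Z, e, fun u => Groth.Agent.Lib.AlgSpLqfFieldH6.exists_artinian_nbhd Z u⟩
  · rintro ⟨Z, e, h⟩
    obtain ⟨h1, h2⟩ := Groth.Agent.Lib.AlgSpLqfFieldH6.lqf_lft_of_forall_finite_nbhd Z (fun u => by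
      obtain ⟨V, hu, -, -, -, hf⟩ := h u
      exact ⟨V, hu, hf⟩)
    exact Groth.Agent.Lib.AlgSpLqfFieldH6.locP_of_iso Z e h1 h2 p

end Groth.Agent.S10483
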