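import Groth.Statements.S10494
import Groth.Agent.S10242
import Groth.Agent.Lib.MonicGsect_helper6

set_option autoImplicit false
universe u
open CategoryTheory CategoryTheory.Limits AlgebraicGeometry Opposite
open AlgSp

namespace Groth.Agent.S10494

open Groth.Agent.Lib.MonicGsectH6 Groth.Agent.Lib.AlgSpQC_helper7
  Groth.Agent.Lib.AlgSpPullback_helper7 Groth.Agent.Lib.AlgSpPoints_helper7
  Groth.Agent.Lib.AlgSpEmbed_helper6

set_option maxHeartbeats 1600000 in
/-- Let X be an integral algebraic space over a scheme S. Then Γ(X, O_X) is a domain. -/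
theorem result {S : Scheme.{u}} (X : AlgSp.Space S)
    (hX : AlgSp.IsIntegralSp X.obj) : IsDomain ↥(AlgSp.gsectEt (AlgSp.OEt X.obj)) := by
  obtain ⟨hred, hdec, hirr⟩ := hX
  haveI := hirr
  -- restriction of global sections
  have hsE : ∀ (s : ↥(AlgSp.gsectEt (AlgSp.OEt X.obj))) {E E' : AlgSp.EtOver X.obj} (g : E ⟶ E'),
      ((limit.π (AlgSp.OEt X.obj).obj (op E)) s).down =
        g.hom.left.left.appTop.hom ((limit.π (AlgSp.OEt X.obj).obj (op E')) s).down := by
    intro s E E' g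
    have h1 := ConcreteCategory.congr_hom (limit.w (AlgSp.OEt X.obj).obj g.op) s
    have h2 : (AlgSp.OEt X.obj).obj.map g.op ((limit.π (AlgSp.OEt X.obj).obj (op E')) s) =
        (limit.π (AlgSp.OEt X.obj).obj (op E)) s := h1
    rw [← h2, AlgSp.OEt_map]
  -- the nonvanishing locus of a global section
  let D : ↥(AlgSp.gsectEt (AlgSp.OEt X.obj)) → Set (Points X.obj) := fun a =>
    {z | ∃ (E : AlgSp.EtOver X.obj) (w : ↥E.obj.left.left),
      w ∈ E.obj.left.left.basicOpen ((limit.π (AlgSp.OEt X.obj).obj (op E)) a).down ∧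
        Points.ofPt E.obj.hom w = z}
  have hDopen : ∀ a, IsOpen (D a) := by
    intro a
    have : D a = ⋃ E : AlgSp.EtOver X.obj, Points.ofPt E.obj.hom ''
        (E.obj.left.left.basicOpen ((limit.π (AlgSp.OEt X.obj).obj (op E)) a).down :
          Set ↥E.obj.left.left) := by
      ext z
      simp only [Set.mem_iUnion, Set.mem_image]
      constructor
      · rintro ⟨E, w, hw, rfl⟩; exact ⟨E, w, hw, rfl⟩
      · rintro ⟨E, w, hw, rfl⟩; exact ⟨E, w, hw, rfl⟩
    rw [this]
    exact isOpen_iUnion fun E =>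
      isOpenMap_ofPt_of_etale E.obj.hom E.property _ (E.obj.left.left.basicOpen _).isOpen
  have hDmul : ∀ a b : ↥(AlgSp.gsectEt (AlgSp.OEt X.obj)), a * b = 0 → D a ∩ D b = ∅ := by
    intro a b hab
    rw [Set.eq_empty_iff_forall_notMem]
    rintro z ⟨⟨E₁, w₁, hw₁, rfl⟩, ⟨E₂, w₂, hw₂, h12⟩⟩
    have hpe := E₁.property
    have sq := hpe.rep.isPullback E₂.obj.hom
    have hEt : Etale (hpe.rep.snd E₂.obj.hom).left := hpe.property_snd E₂.obj.hom
    let E₃ : AlgSp.EtOver X.obj :=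
      AlgSp.EtOver.mk ((AlgSp.yon S).map (hpe.rep.snd E₂.obj.hom) ≫ E₂.obj.hom)
        (repWith_comp @Etale ((repWith_yon_map_iff @Etale (hpe.rep.snd E₂.obj.hom)).2 hEt)
          E₂.property)
    let g₂ : E₃ ⟶ E₂ := AlgSp.EtOver.homMk (hpe.rep.snd E₂.obj.hom) rfl
    let g₁ : E₃ ⟶ E₁ := AlgSp.EtOver.homMk ((AlgSp.yon S).preimage (hpe.rep.fst E₂.obj.hom)) (by
      rw [Functor.map_preimage]; exact sq.w)
    have h1 : Points.map E₁.obj.hom (Points.ofScheme E₁.obj.left w₁) =
        Points.ofPt E₂.obj.hom w₂ := by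
      rw [← Points.ofPt_eq_map_ofScheme]; exact h12.symm
    obtain ⟨v, hv1, hv2⟩ := exists_of_isPullback_chart sq (Points.ofScheme E₁.obj.left w₁) w₂ h1
    have hv1' : ((AlgSp.yon S).preimage (hpe.rep.fst E₂.obj.hom)).left v = w₁ := by
      rw [← (AlgSp.yon S).map_preimage (hpe.rep.fst E₂.obj.hom), ofPt_yon_map] at hv1
      exact ofScheme_injective _ hv1
    have m1 : v ∈ E₃.obj.left.left.basicOpen
        ((limit.π (AlgSp.OEt X.obj).obj (op E₃)) a).down := by
      rw [hsE a g₁]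
      refine (mem_basicOpen_appTop_iff g₁.hom.left.left _ v).2 ?_
      show ((AlgSp.yon S).preimage (hpe.rep.fst E₂.obj.hom)).left v ∈ _
      rw [hv1']; exact hw₁
    have m2 : v ∈ E₃.obj.left.left.basicOpen
        ((limit.π (AlgSp.OEt X.obj).obj (op E₃)) b).down := by
      rw [hsE b g₂]
      refine (mem_basicOpen_appTop_iff g₂.hom.left.left _ v).2 ?_
      show (hpe.rep.snd E₂.obj.hom).left v ∈ _
      rw [hv2]; exact hw₂
    obtain ⟨fa, hfa⟩ : ∃ fa : Γ(E₃.obj.left.left, ⊤),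
        fa = ((limit.π (AlgSp.OEt X.obj).obj (op E₃)) a).down := ⟨_, rfl⟩
    obtain ⟨fb, hfb⟩ : ∃ fb : Γ(E₃.obj.left.left, ⊤),
        fb = ((limit.π (AlgSp.OEt X.obj).obj (op E₃)) b).down := ⟨_, rfl⟩
    rw [← hfa] at m1
    rw [← hfb] at m2
    have m3 : v ∈ E₃.obj.left.left.basicOpen (fa * fb) := by
      rw [Scheme.basicOpen_mul]; exact ⟨m1, m2⟩
    have m4 : fa * fb = 0 := by
      have : (limit.π (AlgSp.OEt X.obj).obj (op E₃)) (a * b) = 0 := by rw [hab, map_zero]
      rw [map_mul] at this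
      rw [hfa, hfb]
      exact congrArg ULift.down this
    rw [m4, Scheme.basicOpen_zero] at m3
    exact m3
  have hzero : ∀ a : ↥(AlgSp.gsectEt (AlgSp.OEt X.obj)), D a = ∅ → a = 0 := by
    intro a ha
    refine (Groth.Agent.S10242.result X hred).2 a fun E => ?_
    rw [eq_bot_iff]
    intro w hw
    have : Points.ofPt E.obj.hom w ∈ D a := ⟨E, w, hw, rfl⟩
    rw [ha] at this
    exact this.elim
  haveI : Nontrivial ↥(AlgSp.gsectEt (AlgSp.OEt X.obj)) := by
    refine ⟨⟨0, 1, fun h01 => ?_⟩⟩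
    obtain ⟨x⟩ : Nonempty (Points X.obj) := inferInstance
    obtain ⟨U, p₀, hpe, hps⟩ := X.property.atlas
    obtain ⟨w, -⟩ := ofPt_surjective p₀ hps x
    let E : AlgSp.EtOver X.obj := AlgSp.EtOver.mk p₀ hpe
    have h1 : (limit.π (AlgSp.OEt X.obj).obj (op E)) 0 = (limit.π (AlgSp.OEt X.obj).obj (op E)) 1 := by
      rw [h01]
    rw [map_zero, map_one] at h1
    have h2 : (0 : Γ(U.left, ⊤)) = 1 := congrArg ULift.down h1
    haveI : Nontrivial Γ(U.left, ⊤) :=
      @Scheme.component_nontrivial U.left ⊤ ⟨⟨w, trivial⟩⟩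
    exact zero_ne_one h2
  haveI : NoZeroDivisors ↥(AlgSp.gsectEt (AlgSp.OEt X.obj)) := by
    refine ⟨fun {a b} hab => ?_⟩
    by_contra hcon
    rw [not_or] at hcon
    have ha : (D a).Nonempty := by
      rw [Set.nonempty_iff_ne_empty]; exact fun h => hcon.1 (hzero a h)
    have hb : (D b).Nonempty := by
      rw [Set.nonempty_iff_ne_empty]; exact fun h => hcon.2 (hzero b h)
    have := nonempty_preirreducible_inter (hDopen a) (hDopen b) ha hb
    rw [hDmul a b hab] at this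
    exact Set.not_nonempty_empty this
  exact NoZeroDivisors.to_isDomain _

end Groth.Agent.S10494
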