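import Groth.Statements.S10498
import Mathlib
import Groth.Agent.Lib.StrictHens9_lead
import Groth.Agent.Lib.IndEtale3_helper3

set_option autoImplicit false
universe u
open TensorProduct
open Hensel

namespace Groth.Agent.S10498

/-- (1) ⇔ (2): let k be a field, A a local k-algebra and R a strict henselization of A. Then A is
geometrically reduced over k (K ⊗_k A reduced for every field extension K of k) if and only if R is
geometrically reduced over k. -/
theorem result (k : Type u) [Field k]
    (A : Type u) [CommRing A] [IsLocalRing A] [Algebra k A]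
    (R : Type u) [CommRing R] [IsLocalRing R] [Algebra A R] [IsLocalHom (algebraMap A R)]
    [Hensel.IsStrictHenselization A R] [Algebra k R] [IsScalarTower k A R] :
    (∀ (K : Type u) [Field K] [Algebra k K], IsReduced (TensorProduct k K A)) ↔
      ∀ (K : Type u) [Field K] [Algebra k K], IsReduced (TensorProduct k K R) := by
  -- ind-étale algebras over reduced rings are reduced
  have hred : ∀ (A' B' : Type u) [CommRing A'] [CommRing B'] [Algebra A' B'],
      EtPBC.IsIndEtale A' B' → IsReduced A' → IsReduced B' := by
    intro A' B' _ _ _ h hA'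
    refine ⟨fun b hb => ?_⟩
    obtain ⟨n, hn⟩ := hb
    obtain ⟨C, _, _, hC, f, c, rfl⟩ := Groth.Agent.Lib.IndEtaleH3.exists_of_isIndEtale h b
    have hcn : f (c ^ n) = 0 := by rw [map_pow, hn]
    obtain ⟨C', _, _, hC', g, f', hgf, hgc⟩ :=
      Groth.Agent.Lib.IndEtaleH3.exists_factor_of_isIndEtale h C f (c ^ n) hcn
    haveI : IsReduced C' := Groth.Agent.Lib.EtaleReduced_helper7.isReduced_of_etale A' C'
    have h1 : g c = 0 := by
      rw [map_pow] at hgc
      exact IsNilpotent.eq_zero ⟨n, hgc⟩
    rw [← hgf]
    show f' (g c) = 0
    rw [h1, map_zero]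
  have hind : EtPBC.IsIndEtale A R :=
    Groth.Agent.Lib.StrictHens.isIndEtale_of_isStrictHenselization R
  haveI := Groth.Agent.Lib.StrictHens.faithfullyFlat_of_isStrictHenselization (R := A) R
  constructor
  · intro h K _ _
    have h1 : EtPBC.IsIndEtale (TensorProduct k A K) (TensorProduct A (TensorProduct k A K) R) :=
      Groth.Agent.Lib.IndEtaleH3.isIndEtale_baseChange A R (TensorProduct k A K) hind
    have h2 : IsReduced (TensorProduct k A K) :=
      isReduced_of_injective (Algebra.TensorProduct.comm k A K).toAlgHom.toRingHom
        (Algebra.TensorProduct.comm k A K).injective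
    have h3 : IsReduced (TensorProduct A (TensorProduct k A K) R) := hred _ _ h1 h2
    -- `K ⊗ R ≅ R ⊗ K ≅ R ⊗[A] (A ⊗ K) ≅ (A ⊗ K) ⊗[A] R`
    let e1 : TensorProduct k K R ≃ₐ[k] TensorProduct k R K := Algebra.TensorProduct.comm k K R
    let e2 : TensorProduct A R (TensorProduct k A K) ≃ₐ[A] TensorProduct k R K :=
      Algebra.TensorProduct.cancelBaseChange k A A R K
    let e3 : TensorProduct A (TensorProduct k A K) R ≃ₐ[A] TensorProduct A R (TensorProduct k A K) :=
      Algebra.TensorProduct.comm A (TensorProduct k A K) R
    let φ : TensorProduct k K R →+* TensorProduct A (TensorProduct k A K) R :=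
      (e3.symm.toAlgHom.toRingHom.comp e2.symm.toAlgHom.toRingHom).comp e1.toAlgHom.toRingHom
    refine isReduced_of_injective φ ?_
    exact (e3.symm.injective.comp e2.symm.injective).comp e1.injective
  · intro h K _ _
    have h1 := h K
    let ψ : TensorProduct k K A →ₐ[k] TensorProduct k K R :=
      Algebra.TensorProduct.map (AlgHom.id k K) (IsScalarTower.toAlgHom k A R)
    refine isReduced_of_injective ψ.toRingHom ?_
    have hinj : Function.Injective (IsScalarTower.toAlgHom k A R).toLinearMap :=
      FaithfulSMul.algebraMap_injective A R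
    have := Module.Flat.lTensor_preserves_injective_linearMap (M := K)
      (IsScalarTower.toAlgHom k A R).toLinearMap hinj
    intro x y hxy
    apply this
    have hψ : ∀ z, ψ z = LinearMap.lTensor K (IsScalarTower.toAlgHom k A R).toLinearMap z := by
      intro z
      induction z using TensorProduct.induction_on with
      | zero => simp
      | tmul a b => rfl
      | add a b ha hb => rw [map_add, map_add, ha, hb]
    rw [← hψ, ← hψ]
    exact hxy

end Groth.Agent.S10498
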