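import Groth.Statements.S10503
import Groth.Agent.Lib.CodimOne_helper8
import Groth.Agent.Lib.ResTrdeg3_helper8
import Groth.Agent.Lib.ChartIndep_helper8
import Groth.Agent.Lib.AlgSpPoints_helper7

set_option autoImplicit false
universe u
open CategoryTheory CategoryTheory.Limits AlgebraicGeometry Topology TopologicalSpace
open AlgSp

namespace Groth.Agent.S10503

open Groth.Agent.Lib.AlgSpPoints_helper7

/-- Let f : X ⟶ Y be a morphism of algebraic spaces over a scheme S which is locally of finite type,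
with Y locally Noetherian, and let y be a point of Y of codimension at most 1. If f is quasi-finite
at every codimension 0 point of X, then every point of X mapping to y is a point where f is
quasi-finite. -/
theorem result {S : Scheme.{u}} {X Y : AlgSp.Space S} (f : X ⟶ Y)
    (hf : AlgSp.LocP @LocallyOfFiniteType f.hom) (hY : AlgSp.IsLocNoethSp Y.obj) (y : AlgSp.Points Y.obj)
    (hy : AlgSp.HasAt (fun U u => ringKrullDim ↥(U.presheaf.stalk u) ≤ 1) Y.obj y)
    (h : ∀ x : AlgSp.Points X.obj, AlgSp.HasAt (fun U u => ringKrullDim ↥(U.presheaf.stalk u) = 0) X.obj x → AlgSp.HasAtMor (fun U _ h u => ∃ W : U.Opens, u ∈ W ∧ LocallyQuasiFinite (W.ι ≫ h) ∧ LocallyOfFiniteType (W.ι ≫ h)) f.hom x)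
    (x : AlgSp.Points X.obj) (hx : AlgSp.Points.map f.hom x = y) :
    AlgSp.HasAtMor (fun U _ h u => ∃ W : U.Opens, u ∈ W ∧ LocallyQuasiFinite (W.ι ≫ h) ∧ LocallyOfFiniteType (W.ι ≫ h)) f.hom x := by
  obtain ⟨V0, q, hqe, hqs, hV0⟩ := hY
  haveI : IsLocallyNoetherian V0.left := hV0
  obtain ⟨U, a, u, hae, hu⟩ := ResTrdegH8.exists_chart X x
  obtain ⟨v0, hv0⟩ := ofPt_surjective q hqs (Points.map f.hom x)
  obtain ⟨P, p, h'', w, hp, hpa, cm, hw1, hw2, hwx⟩ :=
    ResTrdegH8.exists_chart_over f.hom a hae u q hqe v0 (by rw [hv0, hu])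
  haveI : LocallyOfFiniteType h''.left := hf _ q h'' hpa hqe cm
  rw [LqfLocusH8.hasAtMor_exists_opens_iff f hf]
  refine ⟨P, V0, _, q, h'', w, hpa, hqe, cm, hwx.trans hu, ?_⟩
  show FlatMor.fibreDimAt h''.left w = 0
  apply CodimOneH8.fibreDimAt_eq_zero_of_codim_le_one
  · rw [hw2]
    obtain ⟨V1, b1, v1, hb1e, hv1, hd1⟩ := hy
    have hci := ResTrdegH8.coheight_chart_indep q b1 hqe hb1e v0 v1 (by rw [hv0, hv1, hx])
    rw [hci]
    have hd1' : ringKrullDim ↑(V1.left.presheaf.stalk v1) ≤ 1 := hd1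
    rw [AlgebraicGeometry.ringKrullDim_stalk_eq_coheight] at hd1'
    exact_mod_cast hd1'
  · intro w' hw'
    obtain ⟨U2, V2, a2, b2, h2, u2, ha2e, hb2e, comm2, hu2, hd2⟩ :=
      h (Points.ofPt ((yon S).map p ≫ a) w') ⟨P, _, w', hpa, rfl, by
        show ringKrullDim ↑(P.left.presheaf.stalk w') = 0
        rw [AlgebraicGeometry.ringKrullDim_stalk_eq_coheight, hw']; rfl⟩
    have h0 := LqfLocusH8.fibreDimAt_eq_zero_of_exists_opens h2.left u2 hd2
    rw [ChartIndepH8.fibreDimAt_chart_indep f.hom hf _ q h'' w' a2 b2 h2 u2 hpa hqe ha2e hb2e cm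
      comm2 hu2.symm]
    exact h0

end Groth.Agent.S10503
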