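import Groth.Statements.S10580
import Groth.Agent.Lib.AlgSpSrcLocal_helper7

set_option autoImplicit false
universe u
open CategoryTheory CategoryTheory.Limits AlgebraicGeometry
open AlgSp

namespace Groth.Agent.S10580

/-- Let P be a property of morphisms of schemes and P_spaces the induced property of morphisms of
algebraic spaces over S (P on every etale chart diagram). For τ one of fpqc, fppf, smooth, etale: if
P is τ local on the source for morphisms of schemes, then P_spaces is τ local on the source for
morphisms of algebraic spaces. (The published statement assumes P etale local on the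
source-and-target, which is what makes the chart-wise property the right notion; the implication
itself holds for every P and is stated that way. The syntomic case is not included. τ-locality on
the source for schemes is taken in the form that includes invariance of P under isomorphisms, which
the published definition requires implicitly.) -/
theorem result (S : Scheme.{u}) (P : MorphismProperty Scheme.{u}) :
    (P.IsLocalAtSource Scheme.fpqcPrecoverage → AlgSp.IsLocalOnSource (AlgSp.IsFpqcCover (S := S)) (AlgSp.LocP P)) ∧
    (P.IsLocalAtSource Scheme.fppfPrecoverage → AlgSp.IsLocalOnSource (AlgSp.IsFppfCover (S := S)) (AlgSp.LocP P)) ∧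
    (P.IsLocalAtSource (Scheme.precoverage @Smooth) → AlgSp.IsLocalOnSource (AlgSp.IsSmCover (S := S)) (AlgSp.LocP P)) ∧
    (P.IsLocalAtSource Scheme.etalePrecoverage → AlgSp.IsLocalOnSource (AlgSp.IsEtCover (S := S)) (AlgSp.LocP P)) := by
  refine ⟨?_, ?_, ?_, ?_⟩
  · intro hP ι X Xi g hX hXi hcov Y f hY
    haveI := hP
    constructor
    · intro hf i
      exact Groth.Agent.Lib.AlgSpSrcLocalH7.locP_comp_of_isLocalAtSource Scheme.fpqcPrecoverage P
        @Flat Groth.Agent.Lib.AlgSpLocP4_helper7.etLocal_flat
        (fun s hs => Groth.Agent.Lib.AlgSpSrcLocalH7.exists_presieve_fpqc s hs)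
        (fun p hp hs => Groth.Agent.Lib.AlgSpSrcLocalH7.singleton_mem_fpqc p hp hs)
        hX (g i) f (hcov.1 i) hf
    · intro h
      exact Groth.Agent.Lib.AlgSpSrcLocalH7.locP_of_fpqcCover_source P hX f Xi g hXi hcov h
  · intro hP ι X Xi g hX hXi hcov Y f hY
    haveI : P.IsLocalAtSource (Scheme.precoverage (@Flat ⊓ @LocallyOfFinitePresentation)) := hP
    haveI : (@Flat ⊓ @LocallyOfFinitePresentation : MorphismProperty Scheme.{u}).ContainsIdentities :=
      ⟨fun X => ⟨inferInstance, inferInstance⟩⟩
    have hC : Groth.Agent.Lib.AlgSpLocP4_helper7.EtLocal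
        (@Flat ⊓ @LocallyOfFinitePresentation : MorphismProperty Scheme.{u}) :=
      Groth.Agent.Lib.AlgSpSrcLocalH7.EtLocal.inf Groth.Agent.Lib.AlgSpLocP4_helper7.etLocal_flat
        Groth.Agent.Lib.AlgSpLocP7_helper7.etLocal_locallyOfFinitePresentation
    have hg : ∀ i, AlgSp.LocP (@Flat ⊓ @LocallyOfFinitePresentation) (g i) :=
      fun i U V a b h ha hb comm =>
        ⟨(hcov.1 i).1 a b h ha hb comm, (hcov.1 i).2 a b h ha hb comm⟩
    constructor
    · intro hf i
      exact Groth.Agent.Lib.AlgSpSrcLocalH7.locP_comp_of_isLocalAtSource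
        (Scheme.precoverage (@Flat ⊓ @LocallyOfFinitePresentation)) P _ hC
        (fun s hs => Groth.Agent.Lib.AlgSpSrcLocalH7.exists_presieve_precoverage _ s hs)
        (fun p hp hs => Groth.Agent.Lib.AlgSpSrcLocalH7.singleton_mem_precoverage _
          (fun _ _ g hg => by haveI := hg; exact ⟨inferInstance, inferInstance⟩) p hp hs)
        hX (g i) f (hg i) hf
    · intro h
      exact Groth.Agent.Lib.AlgSpSrc_helper7.locP_of_cover_source P _ hC
        (fun W c h hc hs hch =>
          Groth.Agent.Lib.AlgSpSrcLocalH7.hPC_of_isLocalAtSource P _ W c h hc hs hch)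
        hX f Xi g hXi hg hcov.2 h
  · intro hP ι X Xi g hX hXi hcov Y f hY
    haveI : P.IsLocalAtSource (Scheme.precoverage @Smooth) := hP
    haveI : MorphismProperty.ContainsIdentities (@Smooth : MorphismProperty Scheme.{u}) :=
      ⟨fun X => (inferInstance : Smooth (𝟙 X))⟩
    have hC : Groth.Agent.Lib.AlgSpLocP4_helper7.EtLocal (@Smooth : MorphismProperty Scheme.{u}) :=
      Groth.Agent.Lib.AlgSpLocP10_helper7.etLocal_smooth
    have hg : ∀ i, AlgSp.LocP @Smooth (g i) := hcov.1
    constructor
    · intro hf i
      exact Groth.Agent.Lib.AlgSpSrcLocalH7.locP_comp_of_isLocalAtSource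
        (Scheme.precoverage @Smooth) P _ hC
        (fun s hs => Groth.Agent.Lib.AlgSpSrcLocalH7.exists_presieve_precoverage _ s hs)
        (fun p hp hs => Groth.Agent.Lib.AlgSpSrcLocalH7.singleton_mem_precoverage _
          (fun _ _ g hg => by haveI := hg; exact (inferInstance : Smooth g)) p hp hs)
        hX (g i) f (hg i) hf
    · intro h
      exact Groth.Agent.Lib.AlgSpSrc_helper7.locP_of_cover_source P _ hC
        (fun W c h hc hs hch =>
          Groth.Agent.Lib.AlgSpSrcLocalH7.hPC_of_isLocalAtSource P _ W c h hc hs hch)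
        hX f Xi g hXi hg hcov.2 h
  · intro hP ι X Xi g hX hXi hcov Y f hY
    haveI : P.IsLocalAtSource (Scheme.precoverage @Etale) := hP
    have hC : Groth.Agent.Lib.AlgSpLocP4_helper7.EtLocal (@Etale : MorphismProperty Scheme.{u}) :=
      Groth.Agent.Lib.AlgSpLocP7_helper7.etLocal_etale
    have hg : ∀ i, AlgSp.LocP @Etale (g i) := fun i =>
      Groth.Agent.Lib.AlgSpEtale_helper7.locP_of_isEtaleMor _ (fun _ _ _ hg => hg) (g i) (hcov.1 i)
    constructor
    · intro hf i
      exact Groth.Agent.Lib.AlgSpSrcLocalH7.locP_comp_of_isLocalAtSource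
        (Scheme.precoverage @Etale) P _ hC
        (fun s hs => Groth.Agent.Lib.AlgSpSrcLocalH7.exists_presieve_precoverage _ s hs)
        (fun p hp hs => Groth.Agent.Lib.AlgSpSrcLocalH7.singleton_mem_precoverage _
          (fun _ _ g hg => hg) p hp hs)
        hX (g i) f (hg i) hf
    · intro h
      exact Groth.Agent.Lib.AlgSpSrc_helper7.locP_of_cover_source P _ hC
        (fun W c h hc hs hch =>
          Groth.Agent.Lib.AlgSpSrcLocalH7.hPC_of_isLocalAtSource P _ W c h hc hs hch)
        hX f Xi g hXi hg hcov.2 h

end Groth.Agent.S10580
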