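import Groth.Statements.S10549
import Groth.Agent.Lib.FppfFT_helper6
import Groth.Agent.S10580

set_option autoImplicit false
universe u
open CategoryTheory CategoryTheory.Limits AlgebraicGeometry
open AlgSp

namespace Groth.Agent.S10549

/-- The property of morphisms of algebraic spaces over S given by f is locally of finite presentation
(on etale charts) is fppf local on the source: for a morphism f : X ⟶ Y of algebraic spaces and a
fppf covering of X by algebraic spaces X_i, f has the property if and only if every composite X_i ⟶
X ⟶ Y has it. -/
theorem result (S : Scheme.{u}) :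
    AlgSp.IsLocalOnSource (AlgSp.IsFppfCover (S := S)) (AlgSp.LocP @LocallyOfFinitePresentation) := by
  refine (Groth.Agent.S10580.result S @LocallyOfFinitePresentation).2.1 ?_
  refine MorphismProperty.IsLocalAtSource.mk_of_iff_of_zeroHypercover fun {X Y} f 𝒰 => ?_
  have hmem := 𝒰.mem₀
  unfold Scheme.fppfPrecoverage at hmem
  rw [Scheme.presieve₀_mem_precoverage_iff] at hmem
  obtain ⟨hsurj, hP⟩ := hmem
  constructor
  · intro hf i
    haveI := hf
    haveI : LocallyOfFinitePresentation (𝒰.f i) := (hP i).2
    infer_instance
  · intro h
    refine Groth.Agent.Lib.FppfFTH6.locallyOfFinitePresentation_of_fppf_family f fun y => ?_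
    obtain ⟨i, hi⟩ := hsurj y
    exact ⟨𝒰.X i, 𝒰.f i, hi, (hP i).1, (hP i).2, h i⟩

end Groth.Agent.S10549
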