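import Groth.Statements.S9844
import Groth.Agent.Lib.FppfFT_helper6

set_option autoImplicit false
open CategoryTheory CategoryTheory.Limits AlgebraicGeometry Opposite
universe u
open Desc

namespace Groth.Agent.S9844

/-- Being locally of finite type is fppf local on the source: for every fppf covering family g i : X i ⟶
X, a morphism f : X ⟶ Y is locally of finite type if and only if every composite g i ≫ f is. -/
theorem result :
    MorphismProperty.IsLocalAtSource (@LocallyOfFiniteType : MorphismProperty Scheme.{u}) Scheme.fppfPrecoverage := by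
  refine MorphismProperty.IsLocalAtSource.mk_of_iff_of_zeroHypercover fun {X Y} f 𝒰 => ?_
  have hmem := 𝒰.mem₀
  unfold Scheme.fppfPrecoverage at hmem
  rw [Scheme.presieve₀_mem_precoverage_iff] at hmem
  obtain ⟨hsurj, hP⟩ := hmem
  constructor
  · intro hf i
    haveI := hf
    haveI : LocallyOfFinitePresentation (𝒰.f i) := (hP i).2
    infer_instance
  · intro h
    refine Groth.Agent.Lib.FppfFTH6.locallyOfFiniteType_of_fppf_family f fun y => ?_
    obtain ⟨i, hi⟩ := hsurj y
    exact ⟨𝒰.X i, 𝒰.f i, hi, (hP i).1, (hP i).2, h i⟩

end Groth.Agent.S9844
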