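import Groth.Statements.S10571
import Groth.Agent.Lib.SpCoprod5_helper7
import Groth.Agent.Lib.AlgSpPullback_helper7

set_option autoImplicit false
universe u
open CategoryTheory CategoryTheory.Limits AlgebraicGeometry
open AlgSp

namespace Groth.Agent.S10571

/-- Suppose a property P of morphisms between algebraic spaces over S satisfies: (1) if finitely many
morphisms X_i ⟶ Y_i have P then so does the induced morphism ∐ X_i ⟶ ∐ Y_i, (2) f : X ⟶ Y has P
exactly when, for each affine scheme Z and each h_Z ⟶ Y, the base change h_Z ×_Y X ⟶ h_Z has P, and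
(3) for every surjective flat morphism of affine schemes Z' ⟶ Z over S and every f : X ⟶ h_Z, if the
base change h_{Z'} ×_{h_Z} X ⟶ h_{Z'} has P then f has P. Under these hypotheses, P is local on the
base for the fpqc topology. (The published statement asks (1) only for two morphisms; its proof
applies (1) to a disjoint union indexed by a finite set that may be empty, and with (1) for two
morphisms only the property that holds for no morphism satisfies all three hypotheses without being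
fpqc local on the base, as the empty covering of the empty algebraic space shows. This row asks (1)
for all finite families, the empty one included.) -/
theorem result {S : Scheme.{u}} (P : MorphismProperty (AlgSp.Sp S))
    (h1 : ∀ ⦃ι : Type u⦄ [Finite ι] (Xi Yi : ι → AlgSp.Sp S) (fi : ∀ i, Xi i ⟶ Yi i)
      (cX : Cofan Xi) (cY : Cofan Yi) (hcX : IsColimit cX) (hcY : IsColimit cY) (m : cX.pt ⟶ cY.pt),
      (∀ i, AlgSp.IsAlgSpace (Xi i)) → (∀ i, AlgSp.IsAlgSpace (Yi i)) →
      AlgSp.IsAlgSpace cX.pt → AlgSp.IsAlgSpace cY.pt →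
      (∀ i, cX.inj i ≫ m = fi i ≫ cY.inj i) → (∀ i, P (fi i)) → P m)
    (h2 : ∀ ⦃X Y : AlgSp.Sp S⦄, AlgSp.IsAlgSpace X → AlgSp.IsAlgSpace Y → ∀ (f : X ⟶ Y),
      P f ↔ ∀ (Z : Over S), IsAffine Z.left → ∀ (g : (AlgSp.yon S).obj Z ⟶ Y) (W : AlgSp.Sp S)
        (fst : W ⟶ X) (snd : W ⟶ (AlgSp.yon S).obj Z), AlgSp.IsAlgSpace W → IsPullback fst snd f g → P snd)
    (h3 : ∀ ⦃Z Z' : Over S⦄ (c : Z' ⟶ Z), IsAffine Z.left → IsAffine Z'.left → Surjective c.left → Flat c.left →
      ∀ ⦃X X' : AlgSp.Sp S⦄ (f : X ⟶ (AlgSp.yon S).obj Z) (fst : X' ⟶ X) (f' : X' ⟶ (AlgSp.yon S).obj Z'),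
        AlgSp.IsAlgSpace X → AlgSp.IsAlgSpace X' → IsPullback fst f' f ((AlgSp.yon S).map c) → P f' → P f) :
    AlgSp.IsLocalOnBase (AlgSp.IsFpqcCover (S := S)) P := by
  have BC : ∀ ⦃X Y X' Y' : AlgSp.Sp S⦄, AlgSp.IsAlgSpace X → AlgSp.IsAlgSpace Y →
      AlgSp.IsAlgSpace X' → AlgSp.IsAlgSpace Y' → ∀ (f : X ⟶ Y) (g : Y' ⟶ Y) (f' : X' ⟶ Y')
      (g' : X' ⟶ X), IsPullback g' f' f g → P f → P f' := by
    intro X Y X' Y' hX hY hX' hY' f g f' g' sq hf
    refine (h2 hX' hY' f').2 ?_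
    intro Z hZ k W fst snd hW sqW
    exact (h2 hX hY f).1 hf Z hZ (k ≫ g) W (fst ≫ g') snd hW (sqW.paste_horiz sq)
  intro ι Y Yi g hY hYi hcov X f hX Xi p q hXi hsq
  constructor
  · intro hf i
    exact BC hX hY (hXi i) (hYi i) f (g i) (p i) (q i) (hsq i) hf
  · intro hp
    refine (h2 hX hY f).2 ?_
    intro Z hZ h W fst snd hW sqW
    obtain ⟨m, Wj, c, hWaff, hcflat, hcsurj, hlift⟩ := hcov.2 Z hZ h
    choose i l hl using hlift
    let Wk : ULift.{u} (Fin m) → Over S := fun k => Wj k.down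
    let ck : ∀ k, Wk k ⟶ Z := fun k => c k.down
    let Z' : Over S := Groth.Agent.Lib.SpCoprod4H7.sigmaOver Wk
    let c' : Z' ⟶ Z := Groth.Agent.Lib.SpCoprod4H7.sigmaOverDesc Wk ck
    haveI : ∀ k, IsAffine (Wk k).left := fun k => hWaff k.down
    have hZ'aff : IsAffine Z'.left := by
      show IsAffine (∐ fun k => (Wk k).left)
      infer_instance
    have hc'flat : Flat c'.left := by
      show Flat (Sigma.desc (fun k => (ck k).left))
      exact IsZariskiLocalAtSource.sigmaDesc (P := @Flat) (fun k => hcflat k.down)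
    have hc'surj : Surjective c'.left := by
      refine ⟨fun z => ?_⟩
      obtain ⟨j, y, hy⟩ := hcsurj z
      refine ⟨(Sigma.ι (fun k => (Wk k).left) ⟨j⟩) y, ?_⟩
      show (Sigma.desc (fun k => (ck k).left)) ((Sigma.ι (fun k => (Wk k).left) ⟨j⟩) y) = z
      rw [← Scheme.Hom.comp_apply, Sigma.ι_desc]
      exact hy
    have hZsp : AlgSp.IsAlgSpace ((AlgSp.yon S).obj Z) := AlgSp.IsAlgSpace.yon_obj Z
    have hZ'sp : AlgSp.IsAlgSpace ((AlgSp.yon S).obj Z') := AlgSp.IsAlgSpace.yon_obj Z'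
    have sqW' := IsPullback.of_hasPullback snd ((AlgSp.yon S).map c')
    have hW' : AlgSp.IsAlgSpace (pullback snd ((AlgSp.yon S).map c')) :=
      Groth.Agent.Lib.AlgSpPullback_helper7.isAlgSpace_of_isPullback hZsp.diag hW hZ'sp sqW'
    refine h3 c' hZ hZ'aff hc'surj hc'flat snd (pullback.fst snd ((AlgSp.yon S).map c'))
      (pullback.snd snd ((AlgSp.yon S).map c')) hW hW' sqW' ?_
    obtain ⟨hcY⟩ := Groth.Agent.Lib.SpCoprod4H7.isColimit_yon_sigma Wk
    let cY : Cofan (fun k => (AlgSp.yon S).obj (Wk k)) :=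
      Cofan.mk ((AlgSp.yon S).obj Z')
        (fun k => (AlgSp.yon S).map (Groth.Agent.Lib.SpCoprod4H7.sigmaOverι Wk k))
    let m' : pullback snd ((AlgSp.yon S).map c') ⟶ (AlgSp.yon S).obj Z' :=
      pullback.snd snd ((AlgSp.yon S).map c')
    obtain ⟨hcX⟩ := Groth.Agent.Lib.SpCoprod3H7.isColimit_pullback_cofan cY hcY m'
    have hXk : ∀ k, AlgSp.IsAlgSpace (pullback (cY.inj k) m') := fun k =>
      Groth.Agent.Lib.AlgSpPullback_helper7.isAlgSpace_of_isPullback hZ'sp.diag
        (AlgSp.IsAlgSpace.yon_obj _) hW' (IsPullback.of_hasPullback _ _)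
    refine h1 (fun k => pullback (cY.inj k) m') (fun k => (AlgSp.yon S).obj (Wk k))
      (fun k => pullback.fst (cY.inj k) m') _ cY hcX hcY m' hXk
      (fun k => AlgSp.IsAlgSpace.yon_obj _) hW' hZ'sp (fun k => pullback.condition.symm) ?_
    intro k
    have sqk := IsPullback.of_hasPullback (cY.inj k) m'
    have big1 := sqk.flip.paste_horiz sqW'
    have big := big1.paste_horiz sqW
    have heq : l k.down ≫ g (i k.down) = (cY.inj k ≫ (AlgSp.yon S).map c') ≫ h := by
      rw [hl k.down]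
      congr 1
      show _ = (AlgSp.yon S).map (Groth.Agent.Lib.SpCoprod4H7.sigmaOverι Wk k) ≫
        (AlgSp.yon S).map (Groth.Agent.Lib.SpCoprod4H7.sigmaOverDesc Wk ck)
      rw [← Functor.map_comp, Groth.Agent.Lib.SpCoprod4H7.sigmaOverι_desc]
    obtain ⟨top', ht1, ht2⟩ : ∃ t : pullback (cY.inj k) m' ⟶ Xi (i k.down),
        t ≫ q (i k.down) = (pullback.snd (cY.inj k) m' ≫
          pullback.fst snd ((AlgSp.yon S).map c')) ≫ fst ∧
        t ≫ p (i k.down) = pullback.fst (cY.inj k) m' ≫ l k.down := by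
      have w : ((pullback.snd (cY.inj k) m' ≫ pullback.fst snd ((AlgSp.yon S).map c')) ≫ fst) ≫ f =
          (pullback.fst (cY.inj k) m' ≫ l k.down) ≫ g (i k.down) := by
        rw [Category.assoc _ (l k.down), heq]
        exact big.w
      exact ⟨(hsq (i k.down)).lift _ _ w, (hsq (i k.down)).lift_fst _ _ w,
        (hsq (i k.down)).lift_snd _ _ w⟩
    have big' : IsPullback (top' ≫ q (i k.down)) (pullback.fst (cY.inj k) m') f
        (l k.down ≫ g (i k.down)) := by
      rw [ht1, heq]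
      exact big
    exact BC (hXi _) (hYi _) (hXk k) (AlgSp.IsAlgSpace.yon_obj _) (p _) (l _)
      (pullback.fst (cY.inj k) m') top' (IsPullback.of_right big' ht2 (hsq _)) (hp _)

end Groth.Agent.S10571
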