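import Groth.Statements.S10579
import Groth.Agent.Lib.ResTrdeg3_helper8
import Groth.Agent.Lib.SmoothUnibranch6_helper3
import Groth.Agent.Lib.BrEtNbhd6_helper3
import Groth.Agent.Lib.HensBranches7_helper3
-- import your own Groth.Agent.* helpers here

set_option autoImplicit false
universe u
open CategoryTheory CategoryTheory.Limits AlgebraicGeometry

open AlgSp

namespace Groth.Agent.S10579

/-- Let f : X ⟶ Y be a morphism of algebraic spaces over S and x ∈ |X|. If X is geometrically unibranch
at x and f is flat at x, then Y is geometrically unibranch at the image point f(x). Here an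
algebraic space is geometrically unibranch at a point when for every etale chart from a scheme U and
every point u of U over it the local ring of U at u is geometrically unibranch. -/
theorem result {S : Scheme.{u}} {X Y : AlgSp.Space S} (f : X ⟶ Y) (x : AlgSp.Points X.obj)
    (hf : AlgSp.IsFlatAtMor f.hom x)
    (hX : ∀ (U : Over S) (a : (AlgSp.yon S).obj U ⟶ X.obj) (v : ↥U.left), AlgSp.RepWith @Etale a →
      AlgSp.Points.ofPt a v = x → CAlg2.IsGeomUnibranch ↥(U.left.presheaf.stalk v))
    (V : Over S) (b : (AlgSp.yon S).obj V ⟶ Y.obj) (w : ↥V.left) (hb : AlgSp.RepWith @Etale b)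
    (hw : AlgSp.Points.ofPt b w = AlgSp.Points.map f.hom x) :
    CAlg2.IsGeomUnibranch ↥(V.left.presheaf.stalk w) := by
  obtain ⟨U, a, u, hae, hu⟩ := ResTrdegH8.exists_chart X x
  obtain ⟨P, p, h'', w', hp, hpa, cm, hw1, hw2, hwx⟩ :=
    ResTrdegH8.exists_chart_over f.hom a hae u b hb w (by rw [hw, hu])
  have hflat : (Scheme.Hom.stalkMap h''.left w').hom.Flat :=
    hf _ b h'' w' hpa hb cm (hwx.trans hu)
  have hgu : CAlg2.IsGeomUnibranch ↥(P.left.presheaf.stalk w') :=
    hX P _ w' hpa (hwx.trans hu)
  subst hw2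
  letI : Algebra ↥(V.left.presheaf.stalk (h''.left w')) ↥(P.left.presheaf.stalk w') :=
    (Scheme.Hom.stalkMap h''.left w').hom.toAlgebra
  haveI : Module.Flat ↥(V.left.presheaf.stalk (h''.left w')) ↥(P.left.presheaf.stalk w') := hflat
  haveI : IsLocalHom (algebraMap ↥(V.left.presheaf.stalk (h''.left w'))
      ↥(P.left.presheaf.stalk w')) :=
    inferInstanceAs (IsLocalHom (Scheme.Hom.stalkMap h''.left w').hom)
  rw [← Groth.Agent.Lib.HensBranchesH3.numGeomBranches_eq_one_iff] at hgu ⊢
  have h1 := Groth.Agent.Lib.SmoothUnibranchH3.numGeomBranches_le_of_flat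
    ↥(V.left.presheaf.stalk (h''.left w')) ↥(P.left.presheaf.stalk w')
  rw [hgu] at h1
  exact le_antisymm h1 (Groth.Agent.Lib.BrEtNbhdH3.one_le_numGeomBranches _)

end Groth.Agent.S10579
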