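import Groth.Statements.S10583
import Groth.Agent.Lib.AlgSpThick_helper7
import Groth.Agent.Lib.AlgSpOpen_helper7
import Groth.Agent.Lib.AlgSpOpenSub_helper7
import Groth.Agent.Lib.AlgSpLargestOpen_helper7

set_option autoImplicit false
universe u
open CategoryTheory CategoryTheory.Limits AlgebraicGeometry
open AlgSp

namespace Groth.Agent.S10583

open AlgSp Groth.Agent.Lib.AlgSpPoints_helper7 Groth.Agent.Lib.AlgSpQC_helper7
  Groth.Agent.Lib.AlgSpQC2_helper7 Groth.Agent.Lib.AlgSpUniv_helper7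
  Groth.Agent.Lib.AlgSpTop_helper7 Groth.Agent.Lib.AlgSpPullback_helper7
  Groth.Agent.Lib.AlgSpBasic_helper7 Groth.Agent.Lib.AlgSpThick_helper7
  Groth.Agent.Lib.AlgSpOpen_helper7 Groth.Agent.Lib.AlgSpOpenSub_helper7
  Groth.Agent.Lib.AlgSpLargestOpen_helper7

variable {S : Scheme.{u}}

/-- The image on points of the first projection of a pullback square. -/
theorem range_fst_of_isPullback {P F G H : Sp S} {fst : P ⟶ F} {snd : P ⟶ G} {f : F ⟶ H}
    {g : G ⟶ H} (sq : IsPullback fst snd f g) :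
    Set.range (Points.map fst) = Points.map f ⁻¹' Set.range (Points.map g) := by
  ext x
  constructor
  · rintro ⟨p, rfl⟩
    exact ⟨Points.map snd p, by rw [← Points.map_comp, ← Points.map_comp, sq.w]⟩
  · rintro ⟨y, hy⟩
    obtain ⟨z, hz, -⟩ := exists_of_isPullback sq x y hy.symm
    exact ⟨z, hz⟩

/-- Two open subspaces with the same image on points are isomorphic. -/
theorem exists_iso_of_range_eq {X U₁ U₂ : Space S} (u₁ : U₁ ⟶ X) (u₂ : U₂ ⟶ X)
    (h₁ : RepWith @IsOpenImmersion u₁.hom) (h₂ : RepWith @IsOpenImmersion u₂.hom)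
    (h : Set.range (Points.map u₁.hom) = Set.range (Points.map u₂.hom)) :
    ∃ e : U₁ ≅ U₂, e.hom ≫ u₂ = u₁ := by
  haveI := mono_of_openImmersion u₁.hom h₁
  haveI := mono_of_openImmersion u₂.hom h₂
  obtain ⟨a, ha⟩ := (factors_iff_of_openImmersion u₂.hom h₂ u₁.hom).2 h.le
  obtain ⟨b, hb⟩ := (factors_iff_of_openImmersion u₁.hom h₁ u₂.hom).2 h.ge
  have hab : a ≫ b = 𝟙 _ := by
    rw [← cancel_mono u₁.hom, Category.assoc, hb, ha, Category.id_comp]
  have hba : b ≫ a = 𝟙 _ := by
    rw [← cancel_mono u₂.hom, Category.assoc, ha, hb, Category.id_comp]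
  refine ⟨⟨ObjectProperty.homMk a, ObjectProperty.homMk b, ?_, ?_⟩, ?_⟩
  · ext1; exact hab
  · ext1; exact hba
  · ext1; exact ha

/-- Let i : X ⟶ X' be a thickening of algebraic spaces (representable, every base change to a scheme a
surjective closed immersion) and let u : U ⟶ X be an open immersion. Then there is an open immersion
u' : U' ⟶ X' with U = X ×_{X'} U' (a pullback square), and any two open subspaces of X' with this
property are isomorphic over X'. -/
theorem result {S : Scheme.{u}} {X X' U : AlgSp.Space S} (i : X ⟶ X')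
    (hi : AlgSp.IsThickMor i.hom)
    (u : U ⟶ X) (hu : AlgSp.RepWith @IsOpenImmersion u.hom) :
    (∃ (U' : AlgSp.Space S) (u' : U' ⟶ X') (k : U ⟶ U'),
      AlgSp.RepWith @IsOpenImmersion u'.hom ∧ IsPullback u.hom k.hom i.hom u'.hom) ∧
    (∀ (U₁ U₂ : AlgSp.Space S) (u₁ : U₁ ⟶ X') (u₂ : U₂ ⟶ X') (k₁ : U ⟶ U₁) (k₂ : U ⟶ U₂),
      AlgSp.RepWith @IsOpenImmersion u₁.hom → IsPullback u.hom k₁.hom i.hom u₁.hom →
      AlgSp.RepWith @IsOpenImmersion u₂.hom → IsPullback u.hom k₂.hom i.hom u₂.hom →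
      ∃ e : U₁ ≅ U₂, e.hom ≫ u₂ = u₁) := by
  have hHi := isHomeomorph_map_of_isThickMor i.hom hi
  haveI := mono_of_openImmersion u.hom hu
  have key : ∀ (U₁ : Space S) (u₁ : U₁ ⟶ X') (k₁ : U ⟶ U₁), IsPullback u.hom k₁.hom i.hom u₁.hom →
      Set.range (Points.map u₁.hom) = Points.map i.hom '' Set.range (Points.map u.hom) := by
    intro U₁ u₁ k₁ sq
    rw [range_fst_of_isPullback sq, Set.image_preimage_eq _ hHi.surjective]
  constructor
  · have hopenU : IsOpen (Set.range (Points.map u.hom)) :=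
      (isOpenMap_map_of_repWith u.hom (repWith_mono (fun _ _ f hf => by
        haveI : IsOpenImmersion f := hf
        infer_instance) hu)).isOpen_range
    have hW : IsOpen (Points.map i.hom '' Set.range (Points.map u.hom)) :=
      hHi.isOpenMap _ hopenU
    obtain ⟨U', u', hu', hr⟩ := exists_openSubspace X' _ hW
    haveI := mono_of_openImmersion u'.hom hu'
    obtain ⟨k, hk⟩ := (factors_iff_of_openImmersion u'.hom hu' (u.hom ≫ i.hom)).2 (by
      rw [hr]
      rintro _ ⟨x, rfl⟩
      exact ⟨Points.map u.hom x, ⟨x, rfl⟩, (Points.map_comp _ _ _).symm⟩)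
    refine ⟨U', u', ObjectProperty.homMk k, hu', ?_⟩
    show IsPullback u.hom k i.hom u'.hom
    let fst := pullback.fst i.hom u'.hom
    let snd := pullback.snd i.hom u'.hom
    have sqP : IsPullback fst snd i.hom u'.hom := IsPullback.of_hasPullback _ _
    have hfst : RepWith @IsOpenImmersion fst := repWith_fst_of_isPullback _ sqP hu'
    haveI := mono_of_openImmersion fst hfst
    let l : U.obj ⟶ pullback i.hom u'.hom := pullback.lift u.hom k hk.symm
    have hl1 : l ≫ fst = u.hom := pullback.lift_fst _ _ _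
    have hl2 : l ≫ snd = k := pullback.lift_snd _ _ _
    have hlo : RepWith @IsOpenImmersion l := by
      have := isPullback_of_factor l fst
      rw [hl1] at this
      exact repWith_snd_of_isPullback _ this hu
    have hls : IsSurjectiveMor l := by
      intro p
      have hp : Points.map fst p ∈ Set.range (Points.map u.hom) := by
        have h1 : Points.map fst p ∈ Set.range (Points.map fst) := ⟨p, rfl⟩
        rw [range_fst_of_isPullback sqP, hr] at h1
        obtain ⟨x, hx, hxe⟩ := h1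
        rwa [← hHi.injective hxe]
      obtain ⟨x, hx⟩ := hp
      refine ⟨x, map_injective_of_mono fst ?_⟩
      rw [← Points.map_comp, hl1, hx]
    haveI := isIso_of_openImmersion_of_surjective l hlo hls
    exact IsPullback.of_iso_pullback ⟨hk.symm⟩ (asIso l) hl1 hl2
  · intro U₁ U₂ u₁ u₂ k₁ k₂ h₁ sq₁ h₂ sq₂
    exact exists_iso_of_range_eq u₁ u₂ h₁ h₂ ((key U₁ u₁ k₁ sq₁).trans (key U₂ u₂ k₂ sq₂).symm)

end Groth.Agent.S10583
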