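import Groth.Statements.S10592
import Groth.Agent.Lib.AlgSpThickGlobal_helper6
import Groth.Agent.S10591

set_option autoImplicit false
universe u
open CategoryTheory CategoryTheory.Limits AlgebraicGeometry
open AlgSp

namespace Groth.Agent.S10592

/-- Consider a morphism (f, f') from the thickening X ⊂ X' to the thickening Y ⊂ Y' of algebraic spaces
over S, meaning: i : X ⟶ X' and j : Y ⟶ Y' are thickenings (representable, every base change to a
scheme a surjective closed immersion) and i ≫ f' = f ≫ j. Assume moreover that the square is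
cartesian (X = Y ×_{Y'} X') and that i is a finite order thickening (for one n, on every affine
etale scheme chart of X' the (n+1)-st power of the ideal of the base change of X vanishes). Then f
is a closed immersion, resp. proper, resp. finite, resp. an immersion, if and only if f' is
(immersions of algebraic spaces being the representable ones). -/
theorem result {S : Scheme.{u}} {X X' Y Y' : AlgSp.Space S} (i : X ⟶ X') (j : Y ⟶ Y')
    (f : X ⟶ Y) (f' : X' ⟶ Y')
    (hi : AlgSp.IsThickMor i.hom)
    (hj : AlgSp.IsThickMor j.hom) (w : i ≫ f' = f ≫ j)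
    (hcart : IsPullback i.hom f.hom f'.hom j.hom)
    (hfo : AlgSp.IsFinThickMor i.hom) :
    (AlgSp.RepWith @IsClosedImmersion f.hom ↔ AlgSp.RepWith @IsClosedImmersion f'.hom) ∧
    (AlgSp.IsProperMor f.hom ↔ AlgSp.IsProperMor f'.hom) ∧
    (AlgSp.IsFiniteMor f.hom ↔ AlgSp.IsFiniteMor f'.hom) ∧
    (AlgSp.RepWith @IsImmersion f.hom ↔ AlgSp.RepWith @IsImmersion f'.hom) := by
  open Groth.Agent.Lib.AlgSpThickGlobalH6 in
  have hlft := (Groth.Agent.S10591.result i j f f' hi hj w hcart hfo 0).2.1
  have lft_of_rep : ∀ {A B : AlgSp.Sp S} (k : A ⟶ B), AlgSp.RepWith @IsImmersion k →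
      AlgSp.LocP @LocallyOfFiniteType k := fun k hk =>
    Groth.Agent.Lib.AlgSpLocP_helper7.locP_of_repWith @LocallyOfFiniteType
      (fun _ _ g (hg : Etale g) => (inferInstance : LocallyOfFiniteType g)) k
      (Groth.Agent.Lib.AlgSpPoints_helper7.repWith_mono
        (fun _ _ g (hg : IsImmersion g) => (inferInstance : LocallyOfFiniteType g)) hk)
  have imm_of_closed : ∀ {A B : AlgSp.Sp S} (k : A ⟶ B), AlgSp.RepWith @IsClosedImmersion k →
      AlgSp.RepWith @IsImmersion k := fun k hk =>
    Groth.Agent.Lib.AlgSpPoints_helper7.repWith_mono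
      (fun _ _ g (hg : IsClosedImmersion g) => (inferInstance : IsImmersion g)) hk
  refine ⟨⟨fun hf => ?_, fun hf' => ?_⟩, ⟨fun hf => ?_, fun hf' => ?_⟩,
    ⟨fun hf => ?_, fun hf' => ?_⟩, ⟨fun hf => ?_, fun hf' => ?_⟩⟩
  · exact (closedImmersion_iff i j f f' hi hj w hcart
      (hlft.1 (lft_of_rep f.hom (imm_of_closed f.hom hf)))).1 hf
  · exact MorphismProperty.of_isPullback (P := AlgSp.RepWith @IsClosedImmersion) hcart hf'
  · exact (proper_iff i j f f' hi hj w hf.2.1.1 (hlft.1 hf.2.1.1)).1 hf
  · exact (proper_iff i j f f' hi hj w (hlft.2 hf'.2.1.1) hf'.2.1.1).2 hf'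
  · have hft : AlgSp.LocP @LocallyOfFiniteType f.hom := fun _ _ a b h ha hb comm =>
      (Groth.Agent.Lib.AlgSpFinTfaeH6.locP_of_isFiniteMor f hf a b h ha hb comm).2
    exact (finite_iff i j f f' hi hj w hcart hft (hlft.1 hft)).1 hf
  · exact Groth.Agent.Lib.AlgSpPropFinH6.isFiniteMor_baseChange hcart hf'
  · exact (immersion_iff i j f f' hi hj w hcart (hlft.1 (lft_of_rep f.hom hf))).1 hf
  · exact MorphismProperty.of_isPullback (P := AlgSp.RepWith @IsImmersion) hcart hf'

end Groth.Agent.S10592
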