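import Groth.Statements.S10610
import Groth.Agent.Lib.AlgSpThickGlobal_helper6
import Groth.Agent.S10596

set_option autoImplicit false
universe u
open CategoryTheory CategoryTheory.Limits AlgebraicGeometry
open AlgSp

namespace Groth.Agent.S10610

/-- Let iB : B ⟶ B' be a finite order thickening of algebraic spaces over S (a thickening such that for
one n the (n+1)-st power of the ideal vanishes on every affine etale scheme chart), f' : X' ⟶ Y' a
morphism of algebraic spaces over B' (via g' : Y' ⟶ B') with X' flat over B', and f : X ⟶ Y, g : Y ⟶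
B its base change to B (both squares to iB cartesian, iX ≫ f' = f ≫ iY). Then f is finite if and
only if f' is finite. (The published statement lists eleven further properties with the same
equivalence: representable by schemes, quasi-compact, universally closed, separated,
quasi-separated, surjective, universally injective, affine, universally open, proper and integral.
Since iX and iY are again thickenings and X = Y ×_{Y'} X', those cases follow from the corresponding
statements for morphisms of thickenings and are not restated here.) -/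
theorem result {S : Scheme.{u}} {X X' Y Y' B B' : AlgSp.Space S} (iX : X ⟶ X') (iY : Y ⟶ Y') (iB : B ⟶ B')
    (f : X ⟶ Y) (f' : X' ⟶ Y') (g : Y ⟶ B) (g' : Y' ⟶ B')
    (hcX : IsPullback iX.hom (f ≫ g).hom (f' ≫ g').hom iB.hom) (hcY : IsPullback iY.hom g.hom g'.hom iB.hom)
    (w : iX ≫ f' = f ≫ iY)
    (hB : AlgSp.IsFinThickMor iB.hom) (hflat : AlgSp.LocP @Flat (f' ≫ g').hom) :
    (AlgSp.IsFiniteMor f.hom ↔ AlgSp.IsFiniteMor f'.hom) := by
  have hB' : AlgSp.IsThickMor iB.hom := by
    obtain ⟨n, hn⟩ := hB
    exact hn.1
  open Groth.Agent.Lib.AlgSpThickGlobalH6 Groth.Agent.Lib.AlgSpThick_helper7 in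
  have hiX : AlgSp.IsThickMor iX.hom := isThickMor_fst_of_isPullback hcX hB'
  have hiY : AlgSp.IsThickMor iY.hom := isThickMor_fst_of_isPullback hcY hB'
  have hcart : IsPullback iX.hom f.hom f'.hom iY.hom := by
    have big : IsPullback iX.hom (f.hom ≫ g.hom) (f'.hom ≫ g'.hom) iB.hom := hcX
    exact IsPullback.of_bot big (congrArg (fun m => m.hom) w) hcY
  have hlft := (Groth.Agent.S10596.result iX iY iB f f' g g' hcX hcY w hB hflat 0).2.2.1
  constructor
  · intro hf
    have hft : AlgSp.LocP @LocallyOfFiniteType f.hom :=
      fun _ _ a b h ha hb comm =>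
        (Groth.Agent.Lib.AlgSpFinTfaeH6.locP_of_isFiniteMor f hf a b h ha hb comm).2
    exact (Groth.Agent.Lib.AlgSpThickGlobalH6.finite_iff iX iY f f' hiX hiY w hcart hft
      (hlft.1 hft)).1 hf
  · intro hf'
    exact Groth.Agent.Lib.AlgSpPropFinH6.isFiniteMor_baseChange hcart hf'

end Groth.Agent.S10610
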