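import Groth.Statements.S10597
import Groth.Agent.Lib.AlgSpDeformIso_helper6
import Groth.Agent.S10596
import Groth.Agent.S10610

set_option autoImplicit false
universe u
open CategoryTheory CategoryTheory.Limits AlgebraicGeometry
open AlgSp

namespace Groth.Agent.S10597

/-- Let iB : B ⟶ B' be a finite order thickening of algebraic spaces over S (a thickening such that for
one n the (n+1)-st power of the ideal vanishes on every affine etale scheme chart), f' : X' ⟶ Y' a
morphism of algebraic spaces over B' (via g' : Y' ⟶ B') with X' flat over B', and f : X ⟶ Y, g : Y ⟶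
B its base change to B (both squares to iB cartesian, iX ≫ f' = f ≫ iY). Then f is an isomorphism,
resp. an open immersion, resp. a monomorphism, resp. finite locally free, resp. finite locally free
of degree d, if and only if f' is. -/
theorem result {S : Scheme.{u}} {X X' Y Y' B B' : AlgSp.Space S} (iX : X ⟶ X') (iY : Y ⟶ Y') (iB : B ⟶ B')
    (f : X ⟶ Y) (f' : X' ⟶ Y') (g : Y ⟶ B) (g' : Y' ⟶ B')
    (hcX : IsPullback iX.hom (f ≫ g).hom (f' ≫ g').hom iB.hom) (hcY : IsPullback iY.hom g.hom g'.hom iB.hom)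
    (w : iX ≫ f' = f ≫ iY)
    (hB : AlgSp.IsFinThickMor iB.hom) (hflat : AlgSp.LocP @Flat (f' ≫ g').hom) :
    (IsIso f.hom ↔ IsIso f'.hom) ∧
    (AlgSp.RepWith @IsOpenImmersion f.hom ↔ AlgSp.RepWith @IsOpenImmersion f'.hom) ∧
    (Mono f.hom ↔ Mono f'.hom) ∧
    (AlgSp.IsFinLocFreeMor f.hom ↔ AlgSp.IsFinLocFreeMor f'.hom) ∧
    (∀ d : ℕ, AlgSp.IsFinLocFreeOfDegMor d f.hom ↔ AlgSp.IsFinLocFreeOfDegMor d f'.hom) := by
  open Groth.Agent.Lib.AlgSpDeformIsoH6 in
  have Pr : Provider iB (fun {X' Y' : AlgSp.Space S} (f' : X' ⟶ Y') (g' : Y' ⟶ B') =>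
      AlgSp.LocP @Flat (f' ≫ g').hom) := by
    refine ⟨?_, ?_, ?_, ?_⟩
    · obtain ⟨n, hn⟩ := hB
      exact hn.1
    · intro X X' Y Y' iX iY f f' g g' hcX hcY w hfl
      have r := Groth.Agent.S10596.result iX iY iB f f' g g' hcX hcY w hB hfl 0
      exact ⟨r.2.2.1.1, r.2.2.2.2.2.2.2.1, r.2.1.1, r.2.2.2.2.1.1,
        (Groth.Agent.S10610.result iX iY iB f f' g g' hcX hcY w hB hfl).1⟩
    · intro X' Y' V' f'' jV' g' _ h
      rw [← Category.assoc]
      exact h
    · intro X' Y' P' f' g' p1 p2 δ _ hδ h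
      rw [← Category.assoc δ, hδ, Category.id_comp]
      exact h
  exact all_iff Pr iX iY f f' g g' hcX hcY w hflat

end Groth.Agent.S10597
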