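import Groth.Statements.S10600
import Groth.Agent.Lib.AlgSpDeformIso_helper6
import Groth.Agent.S10599
import Groth.Agent.S10611
import Groth.Agent.Lib.AlgSpUnramLocus_helper7

set_option autoImplicit false
universe u
open CategoryTheory CategoryTheory.Limits AlgebraicGeometry
open AlgSp

namespace Groth.Agent.S10600

/-- Let iB : B ⟶ B' be a thickening of algebraic spaces over S (representable, every base change to a
scheme a surjective closed immersion), f' : X' ⟶ Y' a morphism of algebraic spaces over B' (via g' :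
Y' ⟶ B') with Y' locally of finite type over B' and X' flat and locally of finite presentation over
B', and f : X ⟶ Y, g : Y ⟶ B its base change to B (both squares to iB cartesian, iX ≫ f' = f ≫ iY).
Then f is an isomorphism, resp. an open immersion, resp. a monomorphism, resp. finite locally free,
resp. finite locally free of degree d, if and only if f' is. -/
theorem result {S : Scheme.{u}} {X X' Y Y' B B' : AlgSp.Space S} (iX : X ⟶ X') (iY : Y ⟶ Y') (iB : B ⟶ B')
    (f : X ⟶ Y) (f' : X' ⟶ Y') (g : Y ⟶ B) (g' : Y' ⟶ B')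
    (hcX : IsPullback iX.hom (f ≫ g).hom (f' ≫ g').hom iB.hom) (hcY : IsPullback iY.hom g.hom g'.hom iB.hom)
    (w : iX ≫ f' = f ≫ iY)
    (hB : AlgSp.IsThickMor iB.hom)
    (hg' : AlgSp.LocP @LocallyOfFiniteType g'.hom)
    (hflat : AlgSp.LocP @Flat (f' ≫ g').hom) (hfp : AlgSp.LocP @LocallyOfFinitePresentation (f' ≫ g').hom) :
    (IsIso f.hom ↔ IsIso f'.hom) ∧
    (AlgSp.RepWith @IsOpenImmersion f.hom ↔ AlgSp.RepWith @IsOpenImmersion f'.hom) ∧
    (Mono f.hom ↔ Mono f'.hom) ∧
    (AlgSp.IsFinLocFreeMor f.hom ↔ AlgSp.IsFinLocFreeMor f'.hom) ∧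
    (∀ d : ℕ, AlgSp.IsFinLocFreeOfDegMor d f.hom ↔ AlgSp.IsFinLocFreeOfDegMor d f'.hom) := by
  open Groth.Agent.Lib.AlgSpDeformIsoH6 Groth.Agent.Lib.AlgSpLocP4_helper7 in
  have lft_of_lfp : ∀ {A C : AlgSp.Sp S} (k : A ⟶ C), AlgSp.LocP @LocallyOfFinitePresentation k →
      AlgSp.LocP @LocallyOfFiniteType k := fun k hk _ _ a b h ha hb comm => by
    haveI : LocallyOfFinitePresentation h.left := hk a b h ha hb comm
    exact (inferInstance : LocallyOfFiniteType h.left)
  have Pr : Provider iB (fun {X' Y' : AlgSp.Space S} (f' : X' ⟶ Y') (g' : Y' ⟶ B') =>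
      AlgSp.LocP @LocallyOfFiniteType g'.hom ∧ AlgSp.LocP @Flat (f' ≫ g').hom ∧
        AlgSp.LocP @LocallyOfFinitePresentation (f' ≫ g').hom) := by
    refine ⟨hB, ?_, ?_, ?_⟩
    · rintro X X' Y Y' iX iY f f' g g' hcX hcY w ⟨h1, h2, h3⟩
      have r := Groth.Agent.S10599.result iX iY iB f f' g g' hcX hcY w hB h1 h2 h3 0
      have hft' : AlgSp.LocP @LocallyOfFiniteType f'.hom :=
        Groth.Agent.Lib.AlgSpUnramLocusH7.locP_lft_of_comp B'.property f'.hom g'.hom
          (lft_of_lfp _ h3)
      exact ⟨fun _ => hft', r.2.2.2.2.2.1, r.2.1.1,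
        fun _ => Groth.Agent.Lib.AlgSpLocP9_helper7.locP_lfp_of_comp B'.property f'.hom g'.hom h3 h1,
        (Groth.Agent.S10611.result iX iY iB f f' g g' hcX hcY w hB h1 h2 h3).2.1⟩
    · rintro X' Y' V' f'' jV' g' hj ⟨h1, h2, h3⟩
      refine ⟨?_, ?_, ?_⟩
      · exact locP_comp etLocal_locallyOfFiniteType V'.property Y'.property B'.property
          jV'.hom g'.hom
          (Groth.Agent.Lib.AlgSpLocP_helper7.locP_of_repWith @LocallyOfFiniteType
            (fun _ _ k (hk : Etale k) => (inferInstance : LocallyOfFiniteType k)) jV'.hom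
            (Groth.Agent.Lib.AlgSpPoints_helper7.repWith_mono
              (fun _ _ k (hk : IsOpenImmersion k) => (inferInstance : LocallyOfFiniteType k)) hj))
          h1
      · rw [← Category.assoc]; exact h2
      · rw [← Category.assoc]; exact h3
    · rintro X' Y' P' f' g' p1 p2 δ sq hδ ⟨h1, h2, h3⟩
      have hft' : AlgSp.LocP @LocallyOfFiniteType f'.hom :=
        Groth.Agent.Lib.AlgSpUnramLocusH7.locP_lft_of_comp B'.property f'.hom g'.hom
          (lft_of_lfp _ h3)
      have hp1 : AlgSp.LocP @LocallyOfFiniteType p1.hom :=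
        locP_baseChange etLocal_locallyOfFiniteType X'.property Y'.property X'.property
          f'.hom f'.hom p2.hom p1.hom sq.flip hft'
      refine ⟨?_, ?_, ?_⟩
      · exact locP_comp etLocal_locallyOfFiniteType P'.property X'.property B'.property
          p1.hom (f' ≫ g').hom hp1
          (locP_comp etLocal_locallyOfFiniteType X'.property Y'.property B'.property
            f'.hom g'.hom hft' h1)
      · rw [← Category.assoc δ, hδ, Category.id_comp]; exact h2
      · rw [← Category.assoc δ, hδ, Category.id_comp]; exact h3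
  exact all_iff Pr iX iY f f' g g' hcX hcY w ⟨hg', hflat, hfp⟩

end Groth.Agent.S10600
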