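import Groth.Statements.S10625
import Groth.Agent.Lib.AlgSpFormal5_helper7

set_option autoImplicit false
universe u
open CategoryTheory CategoryTheory.Limits AlgebraicGeometry
open AlgSp

namespace Groth.Agent.S10625

/-- Take a formally etale morphism f : X ⟶ Y of algebraic spaces over S and let j : T ⟶ T' be a first
order thickening of algebraic spaces (not necessarily affine schemes) with a : T ⟶ X, b : T' ⟶ Y and
a ≫ f = j ≫ b. Then there is exactly one l : T' ⟶ X with j ≫ l = a and l ≫ f = b. -/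
theorem result {S : Scheme.{u}} {X Y : AlgSp.Space S} (f : X ⟶ Y)
    (hf : AlgSp.IsFormallyEtaleMor f.hom) {T T' : AlgSp.Space S} (j : T ⟶ T') (hj : AlgSp.IsFOThickMor j.hom)
    (a : T ⟶ X) (b : T' ⟶ Y) (w : a ≫ f = j ≫ b) :
    ∃! l : T' ⟶ X, j ≫ l = a ∧ l ≫ f = b := by
  have w' : a.hom ≫ f.hom = j.hom ≫ b.hom := congrArg (fun k => k.hom) w
  obtain ⟨l, h1, h2⟩ := Groth.Agent.Lib.AlgSpFormal5_helper7.exists_lift_of_FOThick
    T'.property hf hj w'
  refine ⟨ObjectProperty.homMk l, ⟨by ext1; exact h1, by ext1; exact h2⟩, ?_⟩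
  rintro l' ⟨h3, h4⟩
  apply ObjectProperty.hom_ext
  refine Groth.Agent.Lib.AlgSpFormal2_helper7.unram_uniq_of_FOThick T'.property f.hom
    ((Groth.Agent.Lib.AlgSpInfLift_helper6.isFormallyEtaleMor_iff f.hom).1 hf).2 j.hom hj
    l'.hom l ?_ ?_
  · exact (congrArg (fun k => k.hom) h3).trans h1.symm
  · exact (congrArg (fun k => k.hom) h4).trans h2.symm

end Groth.Agent.S10625
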