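import Groth.Statements.S10627
import Groth.Agent.Lib.AlgSpFormal4_helper7

set_option autoImplicit false
universe u
open CategoryTheory CategoryTheory.Limits AlgebraicGeometry
open AlgSp

namespace Groth.Agent.S10627

/-- A morphism f : X ⟶ Y of algebraic spaces over S is etale if and only if it is locally of finite
presentation and formally etale (lifting sense). -/
theorem result {S : Scheme.{u}} {X Y : AlgSp.Space S} (f : X ⟶ Y) :
    AlgSp.IsEtaleMor f.hom ↔ AlgSp.LocP @LocallyOfFinitePresentation f.hom ∧ AlgSp.IsFormallyEtaleMor f.hom := by
  exact Groth.Agent.Lib.AlgSpFormal4_helper7.isEtaleMor_iff_lfp_and_formallyEtale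
    X.property Y.property f.hom

end Groth.Agent.S10627
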