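import Groth.Statements.S1063
import Groth.Agent.Lib.ProjAff1_helper8
import Groth.Agent.Lib.ProjAff2_helper8
import Groth.Agent.Lib.ResDesc2_helper8
import Groth.Agent.Lib.Fpqc1_helper8
import Groth.Agent.Lib.TensQC3_helper8

set_option autoImplicit false
universe u
open CategoryTheory AlgebraicGeometry
open Perf

namespace Groth.Agent.S1063

/-- The resolution property descends along a surjective, finite locally free morphism f : X ⟶ Y; if
every finite-type quasi-coherent module on X is a quotient of a vector bundle, the same is true on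
Y. -/
theorem result {X Y : Scheme.{u}} (f : X ⟶ Y) (hf : Mor2.IsFinLocFree f) [Surjective f]
    (hX : PerfAux.HasResolutionProperty X) : PerfAux.HasResolutionProperty Y := by
  intro M hMq hMft
  have hf' := hf
  obtain ⟨hfin, hflat, hfp⟩ := hf
  haveI := hfin
  haveI : IsAffineHom f := inferInstance
  have hA : FlatMod.IsFinLocFree (FLFH8.pushO f) := ((FLFH8.isFinLocFree_iff f).mpr hf').2
  have hnz : ∀ y : Y, Nontrivial ((FLFH8.pushO f).presheaf.stalk y) :=
    Groth.Agent.Lib.ResDescH8.nontrivial_stalk_pushO f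
  -- `M' = M ⊗ A^∨`
  have hdual : FlatMod.IsFinLocFree (Groth.Agent.Lib.ResDescH8.dualA (FLFH8.pushO f)) :=
    Groth.Agent.Lib.ResDescH8.isFinLocFree_dual _ hA
  haveI : M.IsQuasicoherent := hMq
  haveI : (Groth.Agent.Lib.ResDescH8.dualA (FLFH8.pushO f)).IsQuasicoherent :=
    FLFH8.isQuasicoherent_of_finLocFree _ hdual
  haveI hdfp := FLFH8.isFinitePresentation_of_finLocFree _ hdual
  have hdft : SheafOfModules.IsFiniteType (R := Y.ringCatSheaf)
      (Groth.Agent.Lib.ResDescH8.dualA (FLFH8.pushO f)) := inferInstance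
  let M' : Y.Modules := CohB1.tensorMod M (Groth.Agent.Lib.ResDescH8.dualA (FLFH8.pushO f))
  haveI : M'.IsQuasicoherent := TensQCH8.isQuasicoherent_tensorMod _ _
  haveI hM'ft : SheafOfModules.IsFiniteType (R := Y.ringCatSheaf) M' :=
    TensQCH8.isFiniteType_tensorMod M _ hMft hdft
  -- `G = f^* M' ⊗ O_X`
  haveI : ((Scheme.Modules.pullback f).obj M').IsQuasicoherent :=
    PBH8.isQuasicoherent_pullback f M'
  haveI hpft : SheafOfModules.IsFiniteType (R := X.ringCatSheaf)
      ((Scheme.Modules.pullback f).obj M') := FpqcH8.isFiniteType_pullback f M'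
  haveI : (Coh.structureModule X).IsQuasicoherent := SerreCrit.isQuasicoherent_OO
  have hOft : SheafOfModules.IsFiniteType (R := X.ringCatSheaf) (Coh.structureModule X) :=
    QCohCrit.isFiniteType_of_sections_cover _ (fun U : X.affineOpens => (U : X.Opens))
      (fun U => U.2) (iSup_affineOpens_eq_top X)
      (fun U => inferInstanceAs (Module.Finite Γ(X, (U : X.Opens)) Γ(X, (U : X.Opens))))
  let G : X.Modules :=
    CohB1.tensorMod ((Scheme.Modules.pullback f).obj M') (Coh.structureModule X)
  haveI hGq : G.IsQuasicoherent := TensQCH8.isQuasicoherent_tensorMod _ _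
  have hGft : SheafOfModules.IsFiniteType (R := X.ringCatSheaf) G :=
    TensQCH8.isFiniteType_tensorMod _ _ hpft hOft
  obtain ⟨E, p, hE, hp⟩ := hX G hGq hGft
  haveI := hp
  haveI : E.IsQuasicoherent := FLFH8.isQuasicoherent_of_finLocFree E hE
  -- the three maps
  haveI h1 : Epi ((Scheme.Modules.pushforward f).map p) :=
    Groth.Agent.Lib.ProjAffH8.epi_pushforward_map f p
  haveI h2 : IsIso (PFormH9.projMap f M' (Coh.structureModule X)) :=
    Groth.Agent.Lib.ProjAffH8.isIso_projMap_of_isAffineHom f M' (Coh.structureModule X)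
  haveI h3 : Epi ((Groth.Agent.Lib.ResDescH8.adjA (FLFH8.pushO f) hA).counit.app M) :=
    Groth.Agent.Lib.ResDescH8.epi_counit _ hA hnz M
  let φ3 : CohB1.tensorMod M' (FLFH8.pushO f) ⟶ M :=
    (Groth.Agent.Lib.ResDescH8.adjA (FLFH8.pushO f) hA).counit.app M
  haveI h3' : Epi φ3 := h3
  let φ2 : (Scheme.Modules.pushforward f).obj G ⟶ CohB1.tensorMod M' (FLFH8.pushO f) :=
    inv (PFormH9.projMap f M' (Coh.structureModule X))
  haveI h2' : Epi φ2 := inferInstanceAs (Epi (inv (PFormH9.projMap f M' (Coh.structureModule X))))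
  haveI h23 : Epi (φ2 ≫ φ3) := epi_comp φ2 φ3
  exact ⟨(Scheme.Modules.pushforward f).obj E,
    (Scheme.Modules.pushforward f).map p ≫ φ2 ≫ φ3,
    Groth.Agent.Lib.ProjAffH8.isFinLocFree_pushforward f hf' E hE, epi_comp _ _⟩

end Groth.Agent.S1063
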