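import Groth.Statements.S10630
import Groth.Agent.Lib.AlgSpFormal6_helper7

set_option autoImplicit false
universe u
open CategoryTheory CategoryTheory.Limits AlgebraicGeometry
open AlgSp

namespace Groth.Agent.S10630

/-- (1) ⇔ (3): let h : Z ⟶ X be a morphism of algebraic spaces over S and let i : Z ⟶ Z', h' : Z' ⟶ X be
a first order thickening of Z over X (i ≫ h' = h). Then (i, h') is a universal first order
thickening of Z over X if and only if for every first order thickening j : T ⟶ T' of schemes over S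
with T' affine, every a : T ⟶ Z and b : T' ⟶ X with j ≫ b = a ≫ h, there is exactly one a' : T' ⟶ Z'
with j ≫ a' = a ≫ i and a' ≫ h' = b. -/
theorem result {S : Scheme.{u}} {Z Z' X : AlgSp.Space S} (h : Z ⟶ X) (i : Z ⟶ Z')
    (h' : Z' ⟶ X) (hi : AlgSp.IsFOThickMor i.hom) (w : i ≫ h' = h) :
    AlgSp.IsUnivFOThick h.hom i.hom h'.hom ↔
      ∀ (T T' : Over S) (j : T ⟶ T'), IsAffine T'.left → AlgSp.IsFOThickMor ((AlgSp.yon S).map j) →
        ∀ (a : (AlgSp.yon S).obj T ⟶ Z.obj) (b : (AlgSp.yon S).obj T' ⟶ X.obj),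
          (AlgSp.yon S).map j ≫ b = a ≫ h.hom →
          ∃! a' : (AlgSp.yon S).obj T' ⟶ Z'.obj, (AlgSp.yon S).map j ≫ a' = a ≫ i.hom ∧ a' ≫ h'.hom = b := by
  constructor
  · intro HU T T' j _ hj a b hjb
    exact HU.2.2 (AlgSp.IsAlgSpace.yon_obj T) (AlgSp.IsAlgSpace.yon_obj T') _ a b hj hjb
  · intro H
    refine ⟨hi, congrArg (fun k => k.hom) w, ?_⟩
    intro T T' hT hT' j a b hj hjb
    have hu : Groth.Agent.Lib.AlgSpFormal6_helper7.LocUniq h'.hom j (a ≫ i.hom) b := by
      intro R str r hre K hK t hP m m' e1 e2 e3 e4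
      have hjK := Groth.Agent.Lib.AlgSpFormal6_helper7.isFOThickMor_chart hj hre hP
      have haff : IsAffine (Over.mk str).left := (inferInstance : IsAffine (Spec R))
      have comm : (AlgSp.yon S).map (Over.homMk (Groth.Agent.Lib.FormalEtale_helper7.thk K) rfl :
          Over.mk (Groth.Agent.Lib.FormalEtale_helper7.thk K ≫ str) ⟶ Over.mk str) ≫ (r ≫ b) =
          (t ≫ a) ≫ h.hom := by
        rw [← Category.assoc, ← hP.w, Category.assoc, hjb, Category.assoc]
      obtain ⟨a', -, hau⟩ := H _ _ _ haff hjK (t ≫ a) (r ≫ b) comm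
      have u1 := hau m ⟨by rw [e1, Category.assoc], e2⟩
      have u2 := hau m' ⟨by rw [e3, Category.assoc], e4⟩
      exact u1.trans u2.symm
    have he : Groth.Agent.Lib.AlgSpFormal6_helper7.LocEx h'.hom j (a ≫ i.hom) b := by
      intro R str r hre K hK t hP
      have hjK := Groth.Agent.Lib.AlgSpFormal6_helper7.isFOThickMor_chart hj hre hP
      have haff : IsAffine (Over.mk str).left := (inferInstance : IsAffine (Spec R))
      have comm : (AlgSp.yon S).map (Over.homMk (Groth.Agent.Lib.FormalEtale_helper7.thk K) rfl :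
          Over.mk (Groth.Agent.Lib.FormalEtale_helper7.thk K ≫ str) ⟶ Over.mk str) ≫ (r ≫ b) =
          (t ≫ a) ≫ h.hom := by
        rw [← Category.assoc, ← hP.w, Category.assoc, hjb, Category.assoc]
      obtain ⟨a', ⟨h1, h2⟩, -⟩ := H _ _ _ haff hjK (t ≫ a) (r ≫ b) comm
      exact ⟨a', by rw [h1, Category.assoc], h2⟩
    obtain ⟨l, hl1, hl2⟩ := Groth.Agent.Lib.AlgSpFormal6_helper7.exists_lift_gen hT' hu he hj
    exact ⟨l, ⟨hl1, hl2⟩, fun l' hl' =>
      Groth.Agent.Lib.AlgSpFormal6_helper7.uniq_gen hT' hu hj l' l hl'.1 hl'.2 hl1 hl2⟩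

end Groth.Agent.S10630
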