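import Groth.Statements.S10632
import Groth.Agent.Lib.AlgSpFormal5_helper7

set_option autoImplicit false
universe u
open CategoryTheory CategoryTheory.Limits AlgebraicGeometry
open AlgSp

namespace Groth.Agent.S10632

/-- Let e : Z ⟶ Y be an etale morphism of algebraic spaces over S, hY : Y ⟶ X, and let (iY : Y ⟶ Y', hY'
: Y' ⟶ X) be a universal first order thickening of Y over X. Let e' : Z' ⟶ Y' be etale with iZ : Z ⟶
Z' making Z = Y ×_{Y'} Z' a pullback square. Then (iZ, e' ≫ hY') is a universal first order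
thickening of Z over X. -/
theorem result {S : Scheme.{u}} {Z Y Y' Z' X : AlgSp.Space S} (e : Z ⟶ Y)
    (he : AlgSp.IsEtaleMor e.hom) (hY : Y ⟶ X) (iY : Y ⟶ Y') (hY' : Y' ⟶ X)
    (HU : AlgSp.IsUnivFOThick hY.hom iY.hom hY'.hom) (iZ : Z ⟶ Z') (e' : Z' ⟶ Y') (he' : AlgSp.IsEtaleMor e'.hom)
    (sq : IsPullback e.hom iZ.hom iY.hom e'.hom) :
    AlgSp.IsUnivFOThick (e ≫ hY).hom iZ.hom (e' ≫ hY').hom := by
  obtain ⟨hiY, hcomm, huniv⟩ := HU
  have he'f := Groth.Agent.Lib.AlgSpFormal4_helper7.isFormallyEtaleMor_of_isEtaleMor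
    Z'.property e'.hom he'
  have he'u := ((Groth.Agent.Lib.AlgSpInfLift_helper6.isFormallyEtaleMor_iff e'.hom).1 he'f).2
  have hiZ : AlgSp.IsFOThickMor iZ.hom := by
    refine ⟨Groth.Agent.Lib.AlgSpQC_helper7.repWith_snd_of_isPullback AlgSp.thick sq hiY.1, ?_⟩
    intro V W bV fst snd hV hbV hpb
    exact hiY.2 (bV ≫ e'.hom) (fst ≫ e.hom) snd hV (he' bV hbV) (hpb.paste_horiz sq)
  refine ⟨hiZ, ?_, ?_⟩
  · change iZ.hom ≫ e'.hom ≫ hY'.hom = e.hom ≫ hY.hom
    rw [← Category.assoc, ← sq.w, Category.assoc, hcomm]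
  · intro T T' hT hT' j a b hj hjb
    have hjb' : j ≫ b = a ≫ e.hom ≫ hY.hom := hjb
    obtain ⟨c, ⟨hc1, hc2⟩, hcu⟩ := huniv hT hT' j (a ≫ e.hom) b hj
      (by rw [hjb', Category.assoc])
    have w' : (a ≫ iZ.hom) ≫ e'.hom = j ≫ c := by
      rw [Category.assoc, ← sq.w, hc1, Category.assoc]
    obtain ⟨a', ha1, ha2⟩ := Groth.Agent.Lib.AlgSpFormal5_helper7.exists_lift_of_FOThick
      hT' he'f hj w'
    refine ⟨a', ⟨ha1, ?_⟩, ?_⟩
    · change a' ≫ e'.hom ≫ hY'.hom = b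
      rw [← Category.assoc, ha2, hc2]
    · rintro a'' ⟨h1, h2⟩
      have h2' : a'' ≫ e'.hom ≫ hY'.hom = b := h2
      have hc'' : a'' ≫ e'.hom = c := by
        apply hcu
        refine ⟨?_, by rw [Category.assoc, h2']⟩
        rw [← Category.assoc, h1, Category.assoc, ← sq.w, Category.assoc]
      refine Groth.Agent.Lib.AlgSpFormal2_helper7.unram_uniq_of_FOThick hT' e'.hom he'u j hj
        a'' a' ?_ ?_
      · rw [h1, ha1]
      · rw [hc'', ha2]

end Groth.Agent.S10632
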