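import Groth.Statements.S10636
import Groth.Agent.Lib.AlgSpThickBC_helper7

set_option autoImplicit false
universe u
open CategoryTheory CategoryTheory.Limits AlgebraicGeometry
open AlgSp

namespace Groth.Agent.S10636

/-- Take a formally unramified morphism h : Z ⟶ X of algebraic spaces over S and let (i : Z ⟶ Z', h' :
Z' ⟶ X) be a universal first order thickening of Z over X. Then h' is formally unramified. -/
theorem result {S : Scheme.{u}} {Z Z' X : AlgSp.Space S} (h : Z ⟶ X)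
    (hh : AlgSp.IsFormallyUnramifiedMor h.hom) (i : Z ⟶ Z') (h' : Z' ⟶ X) (HU : AlgSp.IsUnivFOThick h.hom i.hom h'.hom) :
    AlgSp.IsFormallyUnramifiedMor h'.hom := by
  obtain ⟨hi, hcomm, huniv⟩ := HU
  obtain ⟨U', V, a', b, h₀, hae, has, hbe, -, comm⟩ :=
    Groth.Agent.Lib.AlgSpFormal_helper7.exists_chart_square Z'.property X.property h'.hom
  refine Groth.Agent.Lib.AlgSpFormal_helper7.unram_of_chart h'.hom a' b h₀ hae has hbe comm ?_
  have hpbU : IsPullback (hi.1.rep.fst a') ((AlgSp.yon S).map (hi.1.rep.snd a')) i.hom a' :=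
    hi.1.rep.isPullback a'
  have hfot : MoreMor.IsFirstOrderThickening (hi.1.rep.snd a').left :=
    Groth.Agent.Lib.AlgSpThickBC_helper7.fot_of_isPullback_FOThick Z'.property hi a' _ _ hpbU
  refine Groth.Agent.Lib.Thickening2_helper7.formallyUnramified_of_uniq_lift
    ((hi.1.rep.snd a').left ≫ h₀.left) (hi.1.rep.snd a').left h₀.left hfot rfl ?_
  intro T T' t b₀ a₀ ht hw g₁ g₂ hg₁ hg₂
  have hgw : ∀ g : T' ⟶ U'.left, g ≫ h₀.left = b₀ → g ≫ U'.hom = b₀ ≫ V.hom := by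
    intro g hg
    rw [← Over.w h₀, ← Category.assoc, hg]
  let T'o : Over S := Over.mk (b₀ ≫ V.hom)
  let To : Over S := Over.mk (t ≫ b₀ ≫ V.hom)
  let t' : To ⟶ T'o := Over.homMk t rfl
  let g₁' : T'o ⟶ U' := Over.homMk g₁ (hgw g₁ hg₁.2)
  let g₂' : T'o ⟶ U' := Over.homMk g₂ (hgw g₂ hg₂.2)
  let b₀' : T'o ⟶ V := Over.homMk b₀ rfl
  have ha₀w : a₀ ≫ (hi.1.rep.pullback a').hom = t ≫ b₀ ≫ V.hom := by
    rw [← Over.w (hi.1.rep.snd a'), ← Category.assoc, ← hg₁.1, Category.assoc, hgw g₁ hg₁.2]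
  let a₀' : To ⟶ hi.1.rep.pullback a' := Over.homMk a₀ ha₀w
  have hFOT : AlgSp.IsFOThickMor ((AlgSp.yon S).map t') :=
    Groth.Agent.Lib.AlgSpThickBC_helper7.isFOThickMor_yon_map t' ht
  have e1 : t' ≫ g₁' = a₀' ≫ hi.1.rep.snd a' := by
    ext
    exact hg₁.1
  have e2 : t' ≫ g₂' = a₀' ≫ hi.1.rep.snd a' := by
    ext
    exact hg₂.1
  have f1 : g₁' ≫ h₀ = b₀' := by
    ext
    exact hg₁.2
  have f2 : g₂' ≫ h₀ = b₀' := by
    ext
    exact hg₂.2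
  have A1 : ∀ g' : T'o ⟶ U', t' ≫ g' = a₀' ≫ hi.1.rep.snd a' → g' ≫ h₀ = b₀' →
      (AlgSp.yon S).map t' ≫ ((AlgSp.yon S).map g' ≫ a') =
        ((AlgSp.yon S).map a₀' ≫ hi.1.rep.fst a') ≫ i.hom ∧
      ((AlgSp.yon S).map g' ≫ a') ≫ h'.hom = (AlgSp.yon S).map b₀' ≫ b := by
    intro g' hg1 hg2
    constructor
    · calc (AlgSp.yon S).map t' ≫ ((AlgSp.yon S).map g' ≫ a')
          = (AlgSp.yon S).map (t' ≫ g') ≫ a' :=
            Groth.Agent.Lib.AlgSpFormal3_helper7.yon_comp_assoc t' g' a'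
        _ = (AlgSp.yon S).map (a₀' ≫ hi.1.rep.snd a') ≫ a' := by rw [hg1]
        _ = (AlgSp.yon S).map a₀' ≫ ((AlgSp.yon S).map (hi.1.rep.snd a') ≫ a') :=
            (Groth.Agent.Lib.AlgSpFormal3_helper7.yon_comp_assoc _ _ _).symm
        _ = (AlgSp.yon S).map a₀' ≫ (hi.1.rep.fst a' ≫ i.hom) := by rw [hpbU.w]
        _ = ((AlgSp.yon S).map a₀' ≫ hi.1.rep.fst a') ≫ i.hom := (Category.assoc _ _ _).symm
    · calc ((AlgSp.yon S).map g' ≫ a') ≫ h'.hom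
          = (AlgSp.yon S).map g' ≫ (a' ≫ h'.hom) := Category.assoc _ _ _
        _ = (AlgSp.yon S).map g' ≫ ((AlgSp.yon S).map h₀ ≫ b) := by rw [comm]
        _ = (AlgSp.yon S).map (g' ≫ h₀) ≫ b :=
            Groth.Agent.Lib.AlgSpFormal3_helper7.yon_comp_assoc _ _ _
        _ = (AlgSp.yon S).map b₀' ≫ b := by rw [hg2]
  have k1 := A1 g₁' e1 f1
  have k2 := A1 g₂' e2 f2
  have hcompat : (AlgSp.yon S).map t' ≫ ((AlgSp.yon S).map b₀' ≫ b) =
      ((AlgSp.yon S).map a₀' ≫ hi.1.rep.fst a') ≫ h.hom := by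
    calc (AlgSp.yon S).map t' ≫ ((AlgSp.yon S).map b₀' ≫ b)
        = (AlgSp.yon S).map t' ≫ (((AlgSp.yon S).map g₁' ≫ a') ≫ h'.hom) := by rw [k1.2]
      _ = ((AlgSp.yon S).map t' ≫ ((AlgSp.yon S).map g₁' ≫ a')) ≫ h'.hom :=
          (Category.assoc _ _ _).symm
      _ = (((AlgSp.yon S).map a₀' ≫ hi.1.rep.fst a') ≫ i.hom) ≫ h'.hom := by rw [k1.1]
      _ = ((AlgSp.yon S).map a₀' ≫ hi.1.rep.fst a') ≫ (i.hom ≫ h'.hom) := Category.assoc _ _ _
      _ = _ := by rw [hcomm]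
  obtain ⟨ℓ, -, hℓu⟩ := huniv (AlgSp.IsAlgSpace.yon_obj To) (AlgSp.IsAlgSpace.yon_obj T'o)
    ((AlgSp.yon S).map t') ((AlgSp.yon S).map a₀' ≫ hi.1.rep.fst a')
    ((AlgSp.yon S).map b₀' ≫ b) hFOT hcompat
  have hℓ : (AlgSp.yon S).map g₁' ≫ a' = (AlgSp.yon S).map g₂' ≫ a' :=
    (hℓu _ k1).trans (hℓu _ k2).symm
  have hyy : (AlgSp.yon S).map g₁' = (AlgSp.yon S).map g₂' :=
    Groth.Agent.Lib.AlgSpFormal2_helper7.unram_uniq_of_FOThick (AlgSp.IsAlgSpace.yon_obj T'o) a'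
      (Groth.Agent.Lib.AlgSpFormal_helper7.isFormallyUnramifiedMor_of_repWith_etale a' hae)
      ((AlgSp.yon S).map t') hFOT _ _
      (by rw [← Functor.map_comp, ← Functor.map_comp, e1, e2]) hℓ
  have hgg := (AlgSp.yon S).map_injective hyy
  exact congrArg (fun m => m.left) hgg

end Groth.Agent.S10636
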