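import Groth.Statements.S10659
import Groth.Agent.Lib.AlgSpDescent_helper7
-- import your own Groth.Agent.* helpers here

set_option autoImplicit false
universe u
open CategoryTheory CategoryTheory.Limits AlgebraicGeometry
open AlgSp

namespace Groth.Agent.S10659

/-- For a property P of morphisms of schemes that is etale local on the target (local for the etale
precoverage) and a representable morphism f : X ⟶ Y of algebraic spaces over S: if for one scheme V
with a representable etale surjective b : h_V ⟶ Y and one pullback square of f along b with corner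
h_W the projection W ⟶ V has P, then f has P etale locally on the target in the representable sense,
i.e. every such projection along every etale h_V ⟶ Y has P. (The published statement also asserts
the converse direction and that, for X and Y representable, the condition is equivalent to f having
P; this row states only that one surjective etale chart suffices.) -/
theorem result {S : Scheme.{u}} (P : MorphismProperty Scheme.{u}) [P.IsLocalAtTarget Scheme.etalePrecoverage]
    {X Y : AlgSp.Space S} (f : X ⟶ Y) (hf : AlgSp.Representable f.hom)
    {V W : Over S} (b : (AlgSp.yon S).obj V ⟶ Y.obj) (hb1 : AlgSp.RepWith @Etale b) (hb2 : AlgSp.RepWith @Surjective b)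
    (fst : (AlgSp.yon S).obj W ⟶ X.obj) (snd : W ⟶ V)
    (sq : IsPullback fst ((AlgSp.yon S).map snd) f.hom b) (hP : P snd.left) :
    AlgSp.RepLocT P f.hom := by
  classical
  haveI : P.RespectsIso := inferInstance
  refine ⟨hf, fun V' W' b' fst' snd' hb' sq' => ?_⟩
  let T' := hb1.rep.pullback b'
  let π : T' ⟶ V' := hb1.rep.snd b'
  let t : T' ⟶ V := hb1.rep.fst' b'
  have sqT : IsPullback ((AlgSp.yon S).map t) ((AlgSp.yon S).map π) b b' := hb1.rep.isPullback' b'
  haveI hπe : Etale π.left := hb1.property_snd b'
  haveI hπs : Surjective π.left := hb2.property _ _ _ sqT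
  haveI hte : Etale t.left := by
    have h1 : AlgSp.RepWith @Etale ((AlgSp.yon S).map t) :=
      Groth.Agent.Lib.AlgSpQC_helper7.repWith_fst_of_isPullback _ sqT hb'
    exact (AlgSp.repWith_yon_map_iff _ _).1 h1
  have sqA := Groth.Agent.Lib.AlgSpQC_helper7.isPullback_restrict sq' π
  have sqB := Groth.Agent.Lib.AlgSpQC_helper7.isPullback_restrict sq t
  rw [← sqT.w] at sqA
  have h1 : P (pullback.snd snd t).left := by
    have hpb := ((IsPullback.of_hasPullback snd t).map (Over.forget S))
    let 𝒰 : Scheme.Cover.{0} (Scheme.precoverage @Etale) V.left :=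
      (Scheme.coverOfIsIso.{0} (P := @Etale) (𝟙 V.left)).add t.left
    have hR : 𝒰.presieve₀ ∈ Scheme.etalePrecoverage V.left := 𝒰.mem₀
    have hg : 𝒰.presieve₀ t.left := Presieve.ofArrows.mk (none : 𝒰.I₀)
    have h0 : P (pullback.snd snd.left t.left) :=
      MorphismProperty.IsLocalAtTarget.pullbackSnd hR hg hP
    have e := hpb.isoPullback_hom_snd
    change P ((Over.forget S).map (pullback.snd snd t))
    rw [← e, P.cancel_left_of_respectsIso]
    exact h0
  have h2 : P (pullback.snd snd' π).left :=
    (Groth.Agent.Lib.AlgSpDescent_helper7.property_iff_of_isPullback P sqA sqB).2 h1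
  have hpb' := ((IsPullback.of_hasPullback snd' π).map (Over.forget S))
  have hsing : Presieve.singleton π.left ∈ Scheme.etalePrecoverage V'.left := by
    change Presieve.singleton π.left ∈ Scheme.precoverage @Etale V'.left
    rw [Scheme.singleton_mem_precoverage_iff]
    exact ⟨π.left.surjective, hπe⟩
  refine MorphismProperty.IsLocalAtTarget.of_forall_pullbackSnd hsing ?_
  rintro _ _ _ ⟨⟩
  have e := hpb'.isoPullback_hom_snd
  change P ((Over.forget S).map (pullback.snd snd' π)) at h2
  rw [← e, P.cancel_left_of_respectsIso] at h2
  exact h2

end Groth.Agent.S10659
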