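import Groth.Statements.S10661
import Groth.Agent.Lib.AlgSpGor_helper7
import Groth.Agent.Lib.RegImmKinds_helper2
import Groth.Agent.S5003
import Groth.Agent.S10660

set_option autoImplicit false
universe u
open CategoryTheory CategoryTheory.Limits AlgebraicGeometry
open AlgSp

namespace Groth.Agent.S10661

/-- For an immersion i : Z ⟶ X of algebraic spaces over S with X locally Noetherian (some etale
surjective chart is a locally Noetherian scheme), the three conditions Koszul-regular immersion,
H_1-regular immersion and quasi-regular immersion on i are equivalent. -/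
theorem result {S : Scheme.{u}} {Z X : AlgSp.Space S} (i : Z ⟶ X) (hi : AlgSp.RepWith @IsImmersion i.hom)
    (hX : AlgSp.IsLocNoethSp X.obj) :
    (AlgSp.IsRegImmMor RegImm.Kind.koszul i.hom ↔ AlgSp.IsRegImmMor RegImm.Kind.h1 i.hom) ∧
      (AlgSp.IsRegImmMor RegImm.Kind.h1 i.hom ↔ AlgSp.IsRegImmMor RegImm.Kind.quasi i.hom) := by
  have hqk : AlgSp.IsRegImmMor RegImm.Kind.quasi i.hom → AlgSp.IsRegImmMor RegImm.Kind.koszul i.hom := by
    rintro ⟨hrep, h⟩
    refine ⟨hrep, fun V W b fst snd hb sq => ?_⟩
    haveI : IsLocallyNoetherian V.left :=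
      Groth.Agent.Lib.AlgSpGorH7.locNoeth_of_etale_chart hX b hb
    have h1 : RegImm.IsRegularImmersion RegImm.Kind.quasi snd.left := h b fst snd hb sq
    exact Groth.Agent.Lib.RegImmKinds.regular_koszul _ ((Groth.Agent.S5003.result snd.left).mpr h1)
  have h0 := Groth.Agent.S10660.result i hi
  refine ⟨⟨h0.1, fun h => hqk (h0.2 h)⟩, ⟨h0.2, fun h => h0.1 (hqk h)⟩⟩

end Groth.Agent.S10661
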