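import Groth.Statements.S10676
import Groth.Agent.Lib.AlgSpEtSplit2_helper6
import Groth.Agent.S10417
import Groth.Agent.S10389

set_option autoImplicit false
universe u
open CategoryTheory CategoryTheory.Limits AlgebraicGeometry
open AlgSp

namespace Groth.Agent.S10676

/-- For a separated morphism f : X ⟶ Y of algebraic spaces over S which is locally of finite type, a
point y of |Y| and a finite set xs of points of |X| mapping to y at each of which f is quasi-finite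
(some etale chart diagram through the point has top arrow locally quasi-finite and locally of finite
type on an open neighbourhood), assuming moreover that f is quasi-compact or Y is decent: there are
an etale morphism of algebraic spaces a : U ⟶ Y and a point u of |U| over y such that for the base
change P = U ×_Y X there is an open and closed subspace V ⊂ P, finite over U, such that every point
of |V| over u maps into xs and no point of |P| outside |V| lying over u maps into xs. -/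
theorem result {S : Scheme.{u}} {X Y : AlgSp.Space S} (f : X ⟶ Y) (y : AlgSp.Points Y.obj)
    (xs : Finset (AlgSp.Points X.obj)) (hxs : ∀ x ∈ xs, AlgSp.Points.map f.hom x = y)
    (hf1 : AlgSp.LocP @LocallyOfFiniteType f.hom) (hf2 : AlgSp.IsSeparatedMor f.hom)
    (hf3 : ∀ x ∈ xs, AlgSp.HasAtMor (fun U _ h u => ∃ W : U.Opens, u ∈ W ∧ LocallyQuasiFinite (W.ι ≫ h) ∧ LocallyOfFiniteType (W.ι ≫ h)) f.hom x)
    (hf4 : AlgSp.IsQuasiCompactMor f.hom ∨ AlgSp.IsDecent Y.obj) :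
    ∃ (U : AlgSp.Space S) (a : U ⟶ Y) (u : AlgSp.Points U.obj), AlgSp.IsEtaleMor a.hom ∧ AlgSp.Points.map a.hom u = y ∧
      ∀ (P : AlgSp.Space S) (prX : P ⟶ X) (prU : P ⟶ U), IsPullback prX.hom prU.hom f.hom a.hom →
        ∃ (V : AlgSp.Space S) (jV : V ⟶ P), AlgSp.RepWith @IsOpenImmersion jV.hom ∧ AlgSp.RepWith @IsClosedImmersion jV.hom ∧
          AlgSp.IsFiniteMor (jV ≫ prU).hom ∧
          (∀ v : AlgSp.Points V.obj, AlgSp.Points.map (jV ≫ prU).hom v = u → AlgSp.Points.map (jV ≫ prX).hom v ∈ xs) ∧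
          ∀ w : AlgSp.Points P.obj, w ∉ Set.range (AlgSp.Points.map jV.hom) → AlgSp.Points.map prU.hom w = u →
            AlgSp.Points.map prX.hom w ∉ xs := by
  classical
  -- an affine étale chart of `Y` through `y`
  obtain ⟨A₀, p₀, hp₀e, hp₀s⟩ := Y.property.atlas
  obtain ⟨a₀, ha₀⟩ := Groth.Agent.Lib.AlgSpPoints_helper7.ofPt_surjective p₀ hp₀s y
  obtain ⟨_, ⟨O₀, hO, rfl⟩, haO, -⟩ :=
    A₀.left.isBasis_affineOpens.exists_subset_of_mem_open (Set.mem_univ a₀) isOpen_univ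
  let O : A₀.left.Opens := O₀
  let V₁ : Over S := Over.mk (O.ι ≫ A₀.hom)
  let j : V₁ ⟶ A₀ := Over.homMk O.ι rfl
  haveI : IsAffine V₁.left := hO
  let b₁ : (AlgSp.yon S).obj V₁ ⟶ Y.obj := (AlgSp.yon S).map j ≫ p₀
  have hb₁ : AlgSp.RepWith @Etale b₁ :=
    Groth.Agent.Lib.AlgSpOpenSub_helper7.repWith_etale_restrict p₀ hp₀e O
  let y₁ : ↥V₁.left := (⟨a₀, haO⟩ : O)
  have hy₁ : AlgSp.Points.ofPt b₁ y₁ = y := by
    show AlgSp.Points.ofPt ((AlgSp.yon S).map j ≫ p₀) y₁ = y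
    rw [Groth.Agent.Lib.AlgSpPoints_helper7.ofPt_comp]
    exact ha₀
  -- the base change to the chart, as a morphism of algebraic spaces
  have sq₁ := IsPullback.of_hasPullback f.hom b₁
  have hP₁ : AlgSp.IsAlgSpace (pullback f.hom b₁) :=
    Groth.Agent.Lib.AlgSpPullback_helper7.isAlgSpace_of_isPullback Y.property.diag X.property
      (AlgSp.IsAlgSpace.yon_obj V₁) sq₁
  let P₁ : AlgSp.Space S := ⟨pullback f.hom b₁, hP₁⟩
  let pr₁ : P₁ ⟶ X := ObjectProperty.homMk (pullback.fst f.hom b₁)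
  let q₁' : P₁ ⟶ (AlgSp.ofScheme S).obj V₁ := ObjectProperty.homMk (pullback.snd f.hom b₁)
  let b₁' : (AlgSp.ofScheme S).obj V₁ ⟶ Y := ObjectProperty.homMk b₁
  let z : AlgSp.Points ((AlgSp.ofScheme S).obj V₁).obj := AlgSp.Points.ofScheme V₁ y₁
  have hz : AlgSp.Points.map b₁'.hom z = y := by
    show AlgSp.Points.map b₁ (AlgSp.Points.ofScheme V₁ y₁) = y
    rw [← AlgSp.Points.ofPt_eq_map_ofScheme]
    exact hy₁
  have hfinx : ∀ x ∈ xs, {w : AlgSp.Points P₁.obj | AlgSp.Points.map pr₁.hom w = x ∧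
      AlgSp.Points.map q₁'.hom w = z}.Finite := by
    intro x hx
    have hxz : AlgSp.Points.map f.hom x = AlgSp.Points.map b₁'.hom z := by rw [hz]; exact hxs x hx
    rcases hf4 with hqc | hdec
    · exact Groth.Agent.S10417.result f b₁' pr₁ q₁' sq₁ x z hxz ⟨hf1, hqc⟩ (hf3 x hx)
    · obtain ⟨r, hr, hm, -⟩ := hdec (AlgSp.Points.map b₁'.hom z)
      refine Groth.Agent.S10389.result f b₁' pr₁ q₁' sq₁ x z hxz ⟨r, hr, hm⟩ ?_
      refine ⟨V₁, V₁, 𝟙 _, b₁, 𝟙 V₁, y₁, AlgSp.repWith_id _ _, hb₁, ?_, rfl, ⊤, trivial, ?_, ?_⟩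
      · show 𝟙 _ ≫ b₁ = (AlgSp.yon S).map (𝟙 V₁) ≫ b₁
        rw [CategoryTheory.Functor.map_id]
      · show LocallyQuasiFinite ((⊤ : V₁.left.Opens).ι ≫ 𝟙 V₁.left)
        infer_instance
      · show LocallyOfFiniteType ((⊤ : V₁.left.Opens).ι ≫ 𝟙 V₁.left)
        infer_instance
  have hfin : {w : AlgSp.Points (pullback f.hom b₁) |
      AlgSp.Points.map (pullback.snd f.hom b₁) w = AlgSp.Points.ofScheme V₁ y₁ ∧
        AlgSp.Points.map (pullback.fst f.hom b₁) w ∈ (xs : Set (AlgSp.Points X.obj))}.Finite := by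
    refine (xs.finite_toSet.biUnion (fun x hx => hfinx x hx)).subset ?_
    intro w hw
    exact Set.mem_biUnion hw.2 ⟨rfl, hw.1⟩
  obtain ⟨U, a, u, hae, hu, H⟩ := Groth.Agent.Lib.AlgSpEtSplit2H6.exists_split_finset f y
    (xs : Set (AlgSp.Points X.obj)) hf1 hf2 (fun x hx => hf3 x hx) b₁ hb₁ y₁ hy₁ hfin
  refine ⟨U, a, u, hae, hu, fun P prX prU sqP => ?_⟩
  obtain ⟨V, jV, h1, h2, h3, h4, h5⟩ := H P prX prU sqP
  exact ⟨V, jV, h1, h2, h3, fun v hv => h4 v hv, fun w hw hwu hx => h5 w hw hwu hx⟩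

end Groth.Agent.S10676
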