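import Groth.Statements.S10678
import Groth.Agent.Lib.FieldFibre_helper8
import Groth.Agent.Lib.TopDimLoc_helper8

set_option autoImplicit false
universe u
open CategoryTheory CategoryTheory.Limits AlgebraicGeometry
open AlgSp

namespace Groth.Agent.S10678

open Groth.Agent.Lib.AlgSpPoints_helper7 Groth.Agent.Lib.AlgSpPullback_helper7

/-- For a morphism f : X ⟶ Y of finite type between algebraic spaces over S, a point y of |Y| and any
field point k of Y in the class of y, with fibre X_k (pullback in fppf sheaves): the dimension of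
X_k (supremum of the dimensions of its etale scheme charts) is -∞ exactly when y lies outside the
image of |X|, and for every natural number d it is at most d exactly when f has relative dimension
at most d at every point of |X| over y (some etale chart diagram through the point whose top arrow
has local fibre dimension at most d there). -/
theorem result {S : Scheme.{u}} {X Y : AlgSp.Space S} (f : X ⟶ Y) (hf : AlgSp.IsFiniteTypeMor f.hom)
    (y : AlgSp.Points Y.obj) (k : AlgSp.FieldPt Y.obj) (hk : AlgSp.Points.mk k = y)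
    (Xk : AlgSp.Sp S) (fst : Xk ⟶ X.obj) (snd : Xk ⟶ (AlgSp.yon S).obj k.pt) (h : IsPullback fst snd f.hom k.toHom) :
    (AlgSp.dim Xk = ⊥ ↔ y ∉ Set.range (AlgSp.Points.map f.hom)) ∧
      ∀ d : ℕ, (AlgSp.dim Xk ≤ d ↔
        ∀ x : AlgSp.Points X.obj, AlgSp.Points.map f.hom x = y →
          AlgSp.HasAtMor (fun _ _ h u => FlatMor.fibreDimAt h u ≤ (d : WithBot ℕ∞)) f.hom x) := by
  obtain ⟨hlft, -⟩ := hf
  have hXk : AlgSp.IsAlgSpace Xk :=
    isAlgSpace_of_isPullback Y.property.diag X.property (AlgSp.IsAlgSpace.yon_obj _) h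
  haveI hsub := FieldFibreH8.subsingleton_points_yon_field k.K k.str
  have hpt : AlgSp.Points.map k.toHom (AlgSp.Points.mk (ofHom (𝟙 ((AlgSp.yon S).obj k.pt)))) = y := by
    rw [map_mk_ofHom, Category.id_comp, ofHom_toHom, hk]
  have hover : ∀ z : AlgSp.Points Xk, AlgSp.Points.map f.hom (AlgSp.Points.map fst z) = y := by
    intro z
    rw [← AlgSp.Points.map_comp, h.w, AlgSp.Points.map_comp]
    have : AlgSp.Points.map snd z = AlgSp.Points.mk (ofHom (𝟙 ((AlgSp.yon S).obj k.pt))) :=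
      Subsingleton.elim _ _
    rw [this, hpt]
  have hlift : ∀ x, AlgSp.Points.map f.hom x = y → ∃ z : AlgSp.Points Xk,
      AlgSp.Points.map fst z = x := by
    intro x hx
    obtain ⟨z, hz, -⟩ := exists_of_isPullback h x
      (AlgSp.Points.mk (ofHom (𝟙 ((AlgSp.yon S).obj k.pt)))) (by rw [hx, hpt])
    exact ⟨z, hz⟩
  have key : ∀ (z : AlgSp.Points Xk) {U V : Over S} (a : (AlgSp.yon S).obj U ⟶ X.obj)
      (b : (AlgSp.yon S).obj V ⟶ Y.obj) (h' : U ⟶ V) (u : ↥U.left) (hae : AlgSp.RepWith @Etale a)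
      (hbe : AlgSp.RepWith @Etale b) (comm : a ≫ f.hom = (AlgSp.yon S).map h' ≫ b)
      (hu : AlgSp.Points.ofPt a u = AlgSp.Points.map fst z)
      {U1 : Over S} (a1 : (AlgSp.yon S).obj U1 ⟶ Xk) (hae1 : AlgSp.RepWith @Etale a1)
      (u1 : ↥U1.left) (hu1 : AlgSp.Points.ofPt a1 u1 = z),
      FlatMor.localDim ↥U1.left u1 = FlatMor.fibreDimAt h'.left u :=
    fun z _ _ a b h' u hae hbe comm hu _ a1 hae1 u1 hu1 =>
      FieldFibreH8.localDim_eq_fibreDimAt f hlft k.K k.str k.toHom hXk fst snd h z a b h' u hae hbe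
        comm hu a1 hae1 u1 hu1
  have hle : ∀ (U : Over S) (a : (AlgSp.yon S).obj U ⟶ Xk) (hae : AlgSp.RepWith @Etale a),
      topologicalKrullDim ↥U.left ≤ AlgSp.dim Xk := fun U a hae =>
    le_iSup_of_le (f := fun U : Over S => ⨆ (a : (AlgSp.yon S).obj U ⟶ Xk)
      (_ : AlgSp.RepWith @Etale a), topologicalKrullDim ↥U.left) U
      (le_iSup_of_le (f := fun a : (AlgSp.yon S).obj U ⟶ Xk =>
        ⨆ (_ : AlgSp.RepWith @Etale a), topologicalKrullDim ↥U.left) a
        (le_iSup_of_le (f := fun _ : AlgSp.RepWith @Etale a => topologicalKrullDim ↥U.left) hae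
          le_rfl))
  refine ⟨⟨?_, ?_⟩, fun d => ⟨?_, ?_⟩⟩
  · rintro hd ⟨x, hx⟩
    obtain ⟨z, hz⟩ := hlift x hx
    obtain ⟨U, a, u, hae, hu⟩ := ResTrdegH8.exists_chart (⟨Xk, hXk⟩ : AlgSp.Space S) z
    have h1 : topologicalKrullDim ↥U.left ≤ AlgSp.dim Xk := hle U a hae
    rw [hd, le_bot_iff] at h1
    exact TopDimLocH8.topDim_ne_bot U.left u h1
  · intro hy
    unfold AlgSp.dim
    rw [iSup_eq_bot]; intro U
    rw [iSup_eq_bot]; intro a
    rw [iSup_eq_bot]; intro hae
    haveI : IsEmpty ↥U.left := ⟨fun u => hy ⟨_, hover (AlgSp.Points.ofPt a u)⟩⟩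
    exact TopDimLocH8.topDim_eq_bot_of_isEmpty U.left
  · intro hd x hx
    obtain ⟨z, hz⟩ := hlift x hx
    obtain ⟨U, V, a, b, h', u, hae, hbe, comm, hu⟩ := ResTrdegH8.exists_chart_diagram f x
    obtain ⟨U1, a1, u1, hae1, hu1⟩ := ResTrdegH8.exists_chart (⟨Xk, hXk⟩ : AlgSp.Space S) z
    refine ⟨U, V, a, b, h', u, hae, hbe, comm, hu, ?_⟩
    show FlatMor.fibreDimAt h'.left u ≤ (d : WithBot ℕ∞)
    rw [← key z a b h' u hae hbe comm (hu.trans hz.symm) a1 hae1 u1 hu1]
    refine (TopDimLocH8.localDim_le_topDim U1.left u1).trans ?_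
    exact le_trans (hle U1 a1 hae1) hd
  · intro H
    unfold AlgSp.dim
    refine iSup_le fun U1 => iSup_le fun a1 => iSup_le fun hae1 => ?_
    rw [TopDimLocH8.topDim_le_iff_forall_localDim]
    intro u1
    obtain ⟨U, V, a, b, h', u, hae, hbe, comm, hu, hd⟩ :=
      H (AlgSp.Points.map fst (AlgSp.Points.ofPt a1 u1)) (hover _)
    rw [key (AlgSp.Points.ofPt a1 u1) a b h' u hae hbe comm hu a1 hae1 u1 rfl]
    exact hd

end Groth.Agent.S10678
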