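import Groth.Statements.S10680
import Groth.Agent.S10308
import Groth.Agent.S10678

set_option autoImplicit false
universe u
open CategoryTheory CategoryTheory.Limits AlgebraicGeometry
open AlgSp

namespace Groth.Agent.S10680

/-- For a proper morphism f : X ⟶ Y between algebraic spaces over S the fibre dimension function on |Y|
is upper semi-continuous: for every d the set of y such that every fibre X_k over y (k a field point
in the class of y, X_k any pullback in fppf sheaves) has dimension less than d is open. -/
theorem result {S : Scheme.{u}} {X Y : AlgSp.Space S} (f : X ⟶ Y) (hf : AlgSp.IsProperMor f.hom) (d : WithBot ℕ∞) :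
    IsOpen {y : AlgSp.Points Y.obj | ∀ (k : AlgSp.FieldPt Y.obj), AlgSp.Points.mk k = y →
      ∀ (Xk : AlgSp.Sp S) (fst : Xk ⟶ X.obj) (snd : Xk ⟶ (AlgSp.yon S).obj k.pt),
        IsPullback fst snd f.hom k.toHom → AlgSp.dim Xk < d} := by
  obtain ⟨-, hft, huc⟩ := hf
  have hcl : IsClosedMap (AlgSp.Points.map f.hom) :=
    huc Y.property (𝟙 Y.obj) (𝟙 X.obj) f.hom (IsPullback.id_horiz f.hom)
  -- the basic open sets
  have hG : ∀ n : ℕ, IsOpen {y : AlgSp.Points Y.obj | ∀ x : AlgSp.Points X.obj,
      AlgSp.Points.map f.hom x = y →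
        AlgSp.HasAtMor (fun _ _ h u => FlatMor.fibreDimAt h u ≤ (n : WithBot ℕ∞)) f.hom x} := by
    intro n
    have hE := Groth.Agent.S10308.result f hft.1 n
    have : {y : AlgSp.Points Y.obj | ∀ x : AlgSp.Points X.obj, AlgSp.Points.map f.hom x = y →
        AlgSp.HasAtMor (fun _ _ h u => FlatMor.fibreDimAt h u ≤ (n : WithBot ℕ∞)) f.hom x} =
        (AlgSp.Points.map f.hom '' {x : AlgSp.Points X.obj |
          AlgSp.HasAtMor (fun _ _ h u => FlatMor.fibreDimAt h u ≤ (n : WithBot ℕ∞)) f.hom x}ᶜ)ᶜ := by
      ext y
      simp only [Set.mem_ofPred_eq, Set.mem_compl_iff, Set.mem_image, not_exists, not_and]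
      constructor
      · intro h x hx hxy; exact hx (h x hxy)
      · intro h x hxy; by_contra hcon; exact h x hcon hxy
    rw [this]
    exact (hcl _ hE.isClosed_compl).isOpen_compl
  -- existence of a fibre
  have hex : ∀ y : AlgSp.Points Y.obj, ∃ k : AlgSp.FieldPt Y.obj, AlgSp.Points.mk k = y :=
    fun y => AlgSp.Points.mk_surjective y
  have key : ∀ (y : AlgSp.Points Y.obj) (k : AlgSp.FieldPt Y.obj) (hk : AlgSp.Points.mk k = y)
      (Xk : AlgSp.Sp S) (fst : Xk ⟶ X.obj) (snd : Xk ⟶ (AlgSp.yon S).obj k.pt)
      (h : IsPullback fst snd f.hom k.toHom), _ :=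
    fun y k hk Xk fst snd h => Groth.Agent.S10678.result f hft y k hk Xk fst snd h
  induction d with
  | bot =>
    convert isOpen_empty
    ext y
    simp only [Set.mem_ofPred_eq, Set.mem_empty_iff_false, iff_false]
    intro h
    obtain ⟨k, hk⟩ := hex y
    exact not_lt_bot (h k hk _ _ _ (IsPullback.of_hasPullback f.hom k.toHom))
  | coe d =>
    induction d with
    | top =>
      have : {y : AlgSp.Points Y.obj | ∀ (k : AlgSp.FieldPt Y.obj), AlgSp.Points.mk k = y →
          ∀ (Xk : AlgSp.Sp S) (fst : Xk ⟶ X.obj) (snd : Xk ⟶ (AlgSp.yon S).obj k.pt),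
            IsPullback fst snd f.hom k.toHom → AlgSp.dim Xk < ((⊤ : ℕ∞) : WithBot ℕ∞)} =
          ⋃ n : ℕ, {y : AlgSp.Points Y.obj | ∀ x : AlgSp.Points X.obj,
            AlgSp.Points.map f.hom x = y →
            AlgSp.HasAtMor (fun _ _ h u => FlatMor.fibreDimAt h u ≤ (n : WithBot ℕ∞)) f.hom x} := by
        ext y
        simp only [Set.mem_ofPred_eq, Set.mem_iUnion]
        constructor
        · intro h
          obtain ⟨k, hk⟩ := hex y
          have sq := IsPullback.of_hasPullback f.hom k.toHom
          have h1 := h k hk _ _ _ sq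
          have h2 := (key y k hk _ _ _ sq).2
          generalize AlgSp.dim (pullback f.hom k.toHom) = D at h1 h2
          induction D with
          | bot => exact ⟨0, (h2 0).mp bot_le⟩
          | coe D =>
            induction D with
            | top => exact absurd h1 (lt_irrefl _)
            | coe m => exact ⟨m, (h2 m).mp le_rfl⟩
        · rintro ⟨n, hn⟩ k hk Xk fst snd sq
          have h2 := ((key y k hk Xk fst snd sq).2 n).mpr hn
          refine lt_of_le_of_lt h2 ?_
          exact_mod_cast WithBot.coe_lt_coe.mpr (ENat.natCast_lt_top n)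
      rw [this]
      exact isOpen_iUnion hG
    | coe m =>
      cases m with
      | zero =>
        have : {y : AlgSp.Points Y.obj | ∀ (k : AlgSp.FieldPt Y.obj), AlgSp.Points.mk k = y →
            ∀ (Xk : AlgSp.Sp S) (fst : Xk ⟶ X.obj) (snd : Xk ⟶ (AlgSp.yon S).obj k.pt),
              IsPullback fst snd f.hom k.toHom →
                AlgSp.dim Xk < (((0 : ℕ) : ℕ∞) : WithBot ℕ∞)} =
            (Set.range (AlgSp.Points.map f.hom))ᶜ := by
          ext y
          simp only [Set.mem_ofPred_eq, Set.mem_compl_iff]
          constructor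
          · intro h
            obtain ⟨k, hk⟩ := hex y
            have sq := IsPullback.of_hasPullback f.hom k.toHom
            have h1 := h k hk _ _ _ sq
            refine (key y k hk _ _ _ sq).1.mp ?_
            generalize AlgSp.dim (pullback f.hom k.toHom) = D at h1
            induction D with
            | bot => rfl
            | coe D =>
              exfalso
              have : D < ((0 : ℕ) : ℕ∞) := by exact_mod_cast h1
              simp at this
          · intro hy k hk Xk fst snd sq
            rw [(key y k hk Xk fst snd sq).1.mpr hy]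
            exact WithBot.bot_lt_coe _
        rw [this]
        exact hcl.isClosed_range.isOpen_compl
      | succ n =>
        have : {y : AlgSp.Points Y.obj | ∀ (k : AlgSp.FieldPt Y.obj), AlgSp.Points.mk k = y →
            ∀ (Xk : AlgSp.Sp S) (fst : Xk ⟶ X.obj) (snd : Xk ⟶ (AlgSp.yon S).obj k.pt),
              IsPullback fst snd f.hom k.toHom →
                AlgSp.dim Xk < (((n + 1 : ℕ) : ℕ∞) : WithBot ℕ∞)} =
            {y : AlgSp.Points Y.obj | ∀ x : AlgSp.Points X.obj,
              AlgSp.Points.map f.hom x = y →
              AlgSp.HasAtMor (fun _ _ h u => FlatMor.fibreDimAt h u ≤ (n : WithBot ℕ∞)) f.hom x} := by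
          have hlt : ∀ D : WithBot ℕ∞, D < (((n + 1 : ℕ) : ℕ∞) : WithBot ℕ∞) ↔
              D ≤ ((n : ℕ) : WithBot ℕ∞) := by
            intro D
            induction D with
            | bot => simp
            | coe D =>
              have h1 : ((D : ℕ∞) : WithBot ℕ∞) < (((n + 1 : ℕ) : ℕ∞) : WithBot ℕ∞) ↔
                  D < ((n + 1 : ℕ) : ℕ∞) := WithBot.coe_lt_coe
              have h2 : ((D : ℕ∞) : WithBot ℕ∞) ≤ ((n : ℕ) : WithBot ℕ∞) ↔ D ≤ ((n : ℕ) : ℕ∞) := by
                exact_mod_cast WithBot.coe_le_coe
              rw [h1, h2]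
              push_cast
              exact ENat.lt_add_one_iff (ENat.natCast_ne_top n)
          ext y
          simp only [Set.mem_ofPred_eq]
          constructor
          · intro h
            obtain ⟨k, hk⟩ := hex y
            have sq := IsPullback.of_hasPullback f.hom k.toHom
            exact ((key y k hk _ _ _ sq).2 n).mp ((hlt _).mp (h k hk _ _ _ sq))
          · intro hn k hk Xk fst snd sq
            exact (hlt _).mpr (((key y k hk Xk fst snd sq).2 n).mpr hn)
        rw [this]
        exact hG n

end Groth.Agent.S10680
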