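import Groth.Statements.S10702
import Groth.Agent.Lib.AlgSpFpqc3_helper7
import Groth.Agent.Lib.AlgSpIso_helper7

set_option autoImplicit false
universe u
open CategoryTheory CategoryTheory.Limits AlgebraicGeometry
open AlgSp

namespace Groth.Agent.S10702

open Groth.Agent.Lib.AlgSpFpqc3_helper7 Groth.Agent.Lib.AlgSpIso_helper7
  Groth.Agent.Lib.AlgSpPullback_helper7 Groth.Agent.Lib.AlgSpEtale_helper7

/-- Consider a commutative diagram of algebraic spaces over `S` with top row `A → C → E`, bottom row `B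
→ D → F` and vertical maps `A → B`, `C → D`, `E → F`. If the left square and the outer rectangle are
cartesian and `B → D` is surjective etale, then the right square is cartesian. -/
theorem result {S : Scheme.{u}} {A B C D E F : AlgSp.Space S} (ac : A ⟶ C) (ab : A ⟶ B)
    (cd : C ⟶ D) (bd : B ⟶ D) (ce : C ⟶ E) (df : D ⟶ F) (ef : E ⟶ F)
    (hl : IsPullback ac.hom ab.hom cd.hom bd.hom) (hcomm : cd ≫ df = ce ≫ ef)
    (hout : IsPullback (ac ≫ ce).hom ab.hom ef.hom (bd ≫ df).hom) (hsurj : AlgSp.IsSurjectiveMor bd.hom)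
    (het : AlgSp.IsEtaleMor bd.hom) : IsPullback ce.hom cd.hom ef.hom df.hom := by
  have hcomm' : ce.hom ≫ ef.hom = cd.hom ≫ df.hom := (congrArg (fun k => k.hom) hcomm).symm
  have sqP := IsPullback.of_hasPullback ef.hom df.hom
  have hP : IsAlgSpace (pullback ef.hom df.hom) :=
    isAlgSpace_of_isPullback F.property.diag E.property D.property sqP
  obtain ⟨φ, hφ1, hφ2⟩ : ∃ φ : C.obj ⟶ pullback ef.hom df.hom,
      φ ≫ pullback.fst ef.hom df.hom = ce.hom ∧ φ ≫ pullback.snd ef.hom df.hom = cd.hom :=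
    ⟨pullback.lift ce.hom cd.hom hcomm', pullback.lift_fst _ _ _, pullback.lift_snd _ _ _⟩
  have sqQ := IsPullback.of_hasPullback (pullback.snd ef.hom df.hom) bd.hom
  have hQ : IsAlgSpace (pullback (pullback.snd ef.hom df.hom) bd.hom) :=
    isAlgSpace_of_isPullback D.property.diag hP B.property sqQ
  have hw : (ac.hom ≫ φ) ≫ pullback.snd ef.hom df.hom = ab.hom ≫ bd.hom := by
    rw [Category.assoc, hφ2]
    exact hl.w
  obtain ⟨p, hp1, hp2⟩ : ∃ p : A.obj ⟶ pullback (pullback.snd ef.hom df.hom) bd.hom,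
      p ≫ pullback.fst (pullback.snd ef.hom df.hom) bd.hom = ac.hom ≫ φ ∧
      p ≫ pullback.snd (pullback.snd ef.hom df.hom) bd.hom = ab.hom :=
    ⟨pullback.lift (ac.hom ≫ φ) ab.hom hw, pullback.lift_fst _ _ _, pullback.lift_snd _ _ _⟩
  -- the square exhibiting `p` as base change of `φ`
  have sqs : IsPullback ac.hom p φ (pullback.fst (pullback.snd ef.hom df.hom) bd.hom) := by
    refine IsPullback.of_bot ?_ hp1.symm sqQ
    rw [hp2, hφ2]
    exact hl
  -- `p` is an isomorphism
  have sqQE : IsPullback (pullback.fst (pullback.snd ef.hom df.hom) bd.hom ≫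
      pullback.fst ef.hom df.hom) (pullback.snd (pullback.snd ef.hom df.hom) bd.hom) ef.hom
      (bd.hom ≫ df.hom) := sqQ.paste_horiz sqP
  have hout' : IsPullback (ac.hom ≫ ce.hom) ab.hom ef.hom (bd.hom ≫ df.hom) := hout
  have hpiso : IsIso p := by
    have : p = (hout'.isoIsPullback _ _ sqQE).hom := by
      apply sqQE.hom_ext
      · rw [IsPullback.isoIsPullback_hom_fst, ← Category.assoc, hp1, Category.assoc, hφ1]
      · rw [IsPullback.isoIsPullback_hom_snd, hp2]
    rw [this]
    infer_instance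
  -- the covering
  have hcovB : IsFppfCover (fun _ : PUnit.{u + 1} => B.obj) (fun _ => bd.hom) :=
    ⟨fun _ => ⟨locP_of_isEtaleMor @Flat (fun _ _ g hg => by haveI := hg; infer_instance) bd.hom het,
      locP_of_isEtaleMor @LocallyOfFinitePresentation
        (fun _ _ g hg => by haveI := hg; infer_instance) bd.hom het⟩,
      fun x => ⟨PUnit.unit, hsurj x⟩⟩
  have hcovB' := isFpqcCover_of_isFppfCover D.property _ _ (fun _ => B.property) hcovB
  have hcovQ : IsFpqcCover (fun _ : PUnit.{u + 1} => pullback (pullback.snd ef.hom df.hom) bd.hom)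
      (fun _ => pullback.fst (pullback.snd ef.hom df.hom) bd.hom) :=
    isFpqcCover_baseChange D.property hP (pullback.snd ef.hom df.hom) _ _ (fun _ => B.property)
      _ _ (fun _ => pullback.snd (pullback.snd ef.hom df.hom) bd.hom) (fun _ => sqQ) hcovB'
  have hφiso : IsIso φ :=
    (isLocalOnBase_fpqc_isomorphisms _ _ hP (fun _ => hQ) hcovQ φ C.property
      (fun _ => A.obj) (fun _ => p) (fun _ => ac.hom) (fun _ => A.property) (fun _ => sqs)).2
      (fun _ => hpiso)
  exact IsPullback.of_iso_pullback ⟨hcomm'⟩ (asIso φ) hφ1 hφ2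

end Groth.Agent.S10702
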