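import Groth.Statements.S10721
import Mathlib
import Groth.Agent.Lib.EtGlue3_helper4

set_option autoImplicit false
universe u
open TensorProduct
open EtAlg

namespace Groth.Agent.S10721

section helper
open TensorProduct
universe v

theorem main (R : Type v) [CommRing R] (R' : Type v) [CommRing R'] [Algebra R R'] (f : R)
    (hq : EtGlue.QuotPowBijective R R' f) (A B : Type v) [CommRing A] [Algebra R A] [CommRing B]
    [Algebra R B] (φ : A →ₐ[R] B) :
    Function.Surjective φ ↔
      Function.Surjective (Localization.awayMap φ.toRingHom (algebraMap R A f)) ∧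
      Function.Surjective (Algebra.TensorProduct.map (AlgHom.id R R') φ).toRingHom := by
  constructor
  · intro hφ
    constructor
    · rw [Localization.awayMap_surjective_iff]
      intro b
      obtain ⟨a, rfl⟩ := hφ b
      exact ⟨a, 0, by simp⟩
    · intro z
      induction z using TensorProduct.induction_on with
      | zero => exact ⟨0, map_zero _⟩
      | tmul r' b =>
        obtain ⟨a, rfl⟩ := hφ b
        exact ⟨r' ⊗ₜ[R] a, by simp⟩
      | add z₁ z₂ h₁ h₂ =>
        obtain ⟨w₁, rfl⟩ := h₁
        obtain ⟨w₂, rfl⟩ := h₂
        exact ⟨w₁ + w₂, map_add _ _ _⟩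
  · rintro ⟨h1, h2⟩
    rw [Localization.awayMap_surjective_iff] at h1
    let P : Submodule R B := LinearMap.range φ.toLinearMap
    have htors : ∀ c : B ⧸ P, ∃ n : ℕ, f ^ n • c = 0 := by
      intro c
      obtain ⟨b, rfl⟩ := Submodule.Quotient.mk_surjective P c
      obtain ⟨a, m, ham⟩ := h1 b
      refine ⟨m, ?_⟩
      rw [← Submodule.Quotient.mk_smul, Submodule.Quotient.mk_eq_zero]
      refine ⟨a, ?_⟩
      have e : φ.toRingHom (algebraMap R A f) = algebraMap R B f := φ.commutes f
      rw [e] at ham
      rw [Algebra.smul_def, map_pow]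
      exact ham
    have hzero : ∀ w : R' ⊗[R] A, LinearMap.lTensor R' P.mkQ
        ((Algebra.TensorProduct.map (AlgHom.id R R') φ) w) = 0 := by
      intro w
      induction w using TensorProduct.induction_on with
      | zero => simp
      | tmul r' a =>
        rw [Algebra.TensorProduct.map_tmul, LinearMap.lTensor_tmul]
        have : P.mkQ (φ a) = 0 := by
          rw [Submodule.mkQ_apply, Submodule.Quotient.mk_eq_zero]
          exact ⟨a, rfl⟩
        rw [this, tmul_zero]
      | add w₁ w₂ h₁ h₂ => rw [map_add, map_add, h₁, h₂, add_zero]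
    intro b
    have hb : (1 : R') ⊗ₜ[R] (P.mkQ b) = 0 := by
      obtain ⟨w, hw⟩ := h2 ((1 : R') ⊗ₜ[R] b)
      have := hzero w
      rw [show (Algebra.TensorProduct.map (AlgHom.id R R') φ) w = (1 : R') ⊗ₜ[R] b from hw,
        LinearMap.lTensor_tmul] at this
      exact this
    have := Groth.Agent.Lib.EtGlueH4.eq_zero_of_one_tmul_eq_zero (B ⧸ P) hq htors hb
    rw [Submodule.mkQ_apply, Submodule.Quotient.mk_eq_zero] at this
    obtain ⟨a, ha⟩ := this
    exact ⟨a, ha⟩

end helper

/-- Glueing along a glueing pair detects closed immersions of affine schemes, stated for coordinate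
rings. Let `(R → R', f)` be a glueing pair and `φ : A → B` a homomorphism of `R`-algebras with `A`,
`B` glueable as `R`-modules (so `Spec A`, `Spec B` are affine and glueable over `Spec R`). Then `φ`
is surjective (a closed immersion on spectra) if and only if `A_f → B_f` and `R' ⊗_R A → R' ⊗_R B`
are surjective. -/
theorem result (R : Type u) [CommRing R] (R' : Type u) [CommRing R'] [Algebra R R'] (f : R)
    (hRR' : EtGlue.IsGlueingPair R R' f) (A B : Type u) [CommRing A] [Algebra R A] [CommRing B] [Algebra R B]
    (hA : EtGlue.IsGlueable R R' f A) (hB : EtGlue.IsGlueable R R' f B) (φ : A →ₐ[R] B) :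
    Function.Surjective φ ↔
      Function.Surjective (Localization.awayMap φ.toRingHom (algebraMap R A f)) ∧ Function.Surjective (Algebra.TensorProduct.map (AlgHom.id R R') φ).toRingHom := by
  exact main R R' f hRR'.1 A B φ

end Groth.Agent.S10721
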