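import Groth.Statements.S1075
import Mathlib
import Groth.Agent.Lib.DerProd_helper9

set_option autoImplicit false
universe w v u
open CategoryTheory CategoryTheory.Limits
open CohDer

namespace Groth.Agent.S1075

/-- In D(A), for A abelian with enough injectives and countable products, every sequence of
bounded-below objects has a product, so derived limits of such sequences exist. -/
theorem result {A : Type u} [Category.{v} A] [Abelian A] [HasDerivedCategory.{w} A]
    [HasLimitsOfShape (Discrete ℕ) A] [EnoughInjectives A]
    (K : ℕ → DerivedCategory A) (hK : ∀ n, ∃ a : ℤ, (K n).IsGE a) : HasProduct K := by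
  choose a ha using hK
  have h1 : ∀ n, ∃ (I : CochainComplex A ℤ), I.IsKInjective ∧
      Nonempty (K n ≅ DerivedCategory.Q.obj I) := by
    intro n
    haveI := ha n
    obtain ⟨M, hM, ⟨e⟩⟩ := (K n).exists_iso_Q_obj_of_isGE (a n)
    obtain ⟨L, i, hi, hL, hL'⟩ :=
      CochainComplex.Plus.modelCategoryQuillen.exists_quasiIso_injective M (a n)
    haveI : IsIso (DerivedCategory.Q.map i) := (DerivedCategory.isIso_Q_map_iff_quasiIso A i).2 hi
    haveI := hL
    exact ⟨L, CochainComplex.isKInjective_of_injective L (a n),
      ⟨e ≪≫ asIso (DerivedCategory.Q.map i)⟩⟩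
  choose I hI e using h1
  haveI := hI
  haveI := DerProd.hasProduct_Q I
  exact hasLimit_of_iso (Discrete.natIso (fun ⟨n⟩ => (e n).some.symm) :
    Discrete.functor (fun n => DerivedCategory.Q.obj (I n)) ≅ Discrete.functor K)

end Groth.Agent.S1075
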