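import Groth.Statements.S10750
import Groth.Agent.S10423
import Groth.Agent.Lib.LftFieldPts3_helper7
import Groth.Agent.Lib.AlgSpPropFin_helper6

set_option autoImplicit false
universe u
open CategoryTheory CategoryTheory.Limits AlgebraicGeometry Opposite
open AlgSp

namespace Groth.Agent.S10750

/-- Take a proper morphism f : X ⟶ Y of algebraic spaces over S whose target Y is locally Noetherian,
and let y be a geometric point of Y such that the fibre X_y (a pullback of f along the corresponding
morphism from the spectrum of the algebraically closed field) has finitely many points. Then there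
is an open subspace V of Y containing the image of y such that the base change X ×_Y V ⟶ V is
finite. -/
theorem result {S : Scheme.{u}} {X Y : AlgSp.Space S}
    (f : X ⟶ Y) (hY : AlgSp.IsLocNoethSp Y.obj) (hf : AlgSp.IsProperMor f.hom) (y : AlgSp.FieldPt Y.obj)
    (hy : y.IsGeometric) (Xy : AlgSp.Sp S) (fst : Xy ⟶ X.obj) (snd : Xy ⟶ (AlgSp.yon S).obj y.pt)
    (hsq : IsPullback fst snd f.hom y.toHom) (hfin : Finite (AlgSp.Points Xy)) :
    ∃ (V : AlgSp.Space S) (j : V ⟶ Y), AlgSp.RepWith @IsOpenImmersion j.hom ∧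
      AlgSp.Points.mk y ∈ Set.range (AlgSp.Points.map j.hom) ∧
        ∀ (P : AlgSp.Space S) (fst' : P ⟶ X) (snd' : P ⟶ V), IsPullback fst'.hom snd'.hom f.hom j.hom →
          AlgSp.IsFiniteMor snd'.hom := by
  have hlft : AlgSp.LocP @LocallyOfFiniteType f.hom := hf.2.1.1
  have hqs : AlgSp.IsQuasiSeparatedMor f.hom :=
    Groth.Agent.Lib.AlgSpPoints_helper7.repWith_mono
      (fun _ _ g hg => by haveI : IsClosedImmersion g := hg; infer_instance) hf.1
  have hdec : AlgSp.IsDecent Xy := ((Groth.Agent.S10423.result f).2 hqs) y.toHom fst snd hsq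
  have hXy : AlgSp.IsAlgSpace Xy :=
    Groth.Agent.Lib.AlgSpPullback_helper7.isAlgSpace_of_isPullback Y.property.diag X.property
      (AlgSp.IsAlgSpace.yon_obj _) hsq
  apply Groth.Agent.Lib.AlgSpPropFinH6.exists_finite_nhd f (AlgSp.Points.mk y) hf
  intro x hx
  have hyr : AlgSp.Points.mk y ∈ Set.range (AlgSp.Points.map f.hom) := ⟨x, hx⟩
  obtain ⟨h1, h2, -, -, h5, -⟩ := Groth.Agent.Lib.LftFieldPts3H7.main10444 f hlft y hyr
    (⟨Xy, hXy⟩ : AlgSp.Space S) (ObjectProperty.homMk fst) snd hsq
  exact (h2.1 (h1.1 (h5 hdec hfin))) x hx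

end Groth.Agent.S10750
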