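import Groth.Statements.S10760
import Groth.Agent.Lib.AlgSpLocP4_helper7
import Groth.Agent.Lib.AlgSpProper_helper7

set_option autoImplicit false
universe u
open CategoryTheory CategoryTheory.Limits AlgebraicGeometry
open AlgSp

namespace Groth.Agent.S10760

open Groth.Agent.Lib.AlgSpLocP4_helper7 Groth.Agent.Lib.AlgSpPoints_helper7
  Groth.Agent.Lib.AlgSpProper_helper7 Groth.Agent.Lib.AlgSpPullback_helper7
  Groth.Agent.Lib.AlgSpQC2_helper7 Groth.Agent.Lib.AlgSpLocP_helper7
  Groth.Agent.Lib.AlgSpDiag_helper7 Groth.Agent.Lib.AlgSpQC_helper7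

/-- Let f : X ⟶ Y be a morphism of algebraic spaces over S that is locally of finite type, and let i : Z
⟶ X, i' : Z' ⟶ X be closed subspaces (representable closed immersions) with the same image in |X|.
If the composite Z ⟶ Y is proper, then so is Z' ⟶ Y. (That properness of every closed subspace with
support T implies properness of the reduced one, and that this implies properness of some closed
subspace with support T, is immediate.) -/
theorem result {S : Scheme.{u}} {X Y Z Z' : AlgSp.Space S}
    (f : X ⟶ Y) (hf : AlgSp.LocP @LocallyOfFiniteType f.hom)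
    (i : Z ⟶ X) (i' : Z' ⟶ X)
    (hi : AlgSp.RepWith @IsClosedImmersion i.hom) (hi' : AlgSp.RepWith @IsClosedImmersion i'.hom)
    (heq : Set.range (AlgSp.Points.map i.hom) = Set.range (AlgSp.Points.map i'.hom))
    (hZ : AlgSp.IsProperMor (i ≫ f).hom) :
    AlgSp.IsProperMor (i' ≫ f).hom := by
  have hX := X.property
  have hY := Y.property
  have hZ0 := Z.property
  have hZ' := Z'.property
  have sqW := IsPullback.of_hasPullback i.hom i'.hom
  have hW : IsAlgSpace (pullback i.hom i'.hom) := isAlgSpace_of_isPullback hX.diag hZ0 hZ' sqW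
  have hπ₁ : RepWith @IsClosedImmersion (pullback.fst i.hom i'.hom) :=
    repWith_fst_of_isPullback _ sqW hi'
  have hπ₂ : RepWith @IsClosedImmersion (pullback.snd i.hom i'.hom) :=
    repWith_snd_of_isPullback _ sqW hi
  have hs₂ : IsSurjectiveMor (pullback.snd i.hom i'.hom) := by
    intro z'
    have hmem : Points.map i'.hom z' ∈ Set.range (Points.map i.hom) := by
      rw [heq]
      exact ⟨z', rfl⟩
    obtain ⟨z, hz⟩ := hmem
    obtain ⟨w, _, hw⟩ := exists_of_isPullback sqW z z' hz
    exact ⟨w, hw⟩
  have hWp : IsProperMor (pullback.fst i.hom i'.hom ≫ (i ≫ f).hom) :=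
    isProperMor_comp hW hZ0 hY _ _ (isProperMor_of_repWith_isClosedImmersion _ hπ₁) hZ
  have e : pullback.fst i.hom i'.hom ≫ (i ≫ f).hom =
      pullback.snd i.hom i'.hom ≫ (i' ≫ f).hom := by
    show pullback.fst i.hom i'.hom ≫ i.hom ≫ f.hom = pullback.snd i.hom i'.hom ≫ i'.hom ≫ f.hom
    rw [← Category.assoc, pullback.condition, Category.assoc]
  rw [e] at hWp
  have hlft : LocP @LocallyOfFiniteType (i' ≫ f).hom := by
    show LocP @LocallyOfFiniteType (i'.hom ≫ f.hom)
    refine locP_comp etLocal_locallyOfFiniteType hZ' hX hY _ _ ?_ hf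
    exact locP_of_repWith @LocallyOfFiniteType
      (fun _ _ g hg => by haveI := hg; exact (inferInstance : LocallyOfFiniteType g)) _
      (repWith_mono (fun _ _ g hg => by
        haveI : IsClosedImmersion g := hg
        exact (inferInstance : LocallyOfFiniteType g)) hi')
  obtain ⟨t, ht⟩ : ∃ t : pullback i.hom i'.hom ⟶ Z'.obj, t = pullback.snd i.hom i'.hom := ⟨_, rfl⟩
  obtain ⟨p, hp⟩ : ∃ p : Z'.obj ⟶ Y.obj, p = (i' ≫ f).hom := ⟨_, rfl⟩
  rw [← ht, ← hp] at hWp
  rw [← ht] at hπ₂ hs₂
  rw [← hp] at hlft ⊢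
  refine ⟨?_, ⟨hlft, ?_⟩, ?_⟩
  · apply isSeparatedMor_of_isUnivClosedMor_diagonal hZ' p
    apply isUnivClosedMor_of_comp_isSurjectiveMor t _ hs₂
    have hm := MorphismProperty.pullbackMap (P := RepWith (S := S) @IsClosedImmersion)
      (f := t ≫ p) (g := t ≫ p) (f' := p) (g' := p) hπ₂ hπ₂ rfl rfl
    have hd : t ≫ pullback.diagonal p = pullback.diagonal (t ≫ p) ≫
        pullback.map (t ≫ p) (t ≫ p) p p t t (𝟙 _) (by simp) (by simp) := by
      apply pullback.hom_ext
      · rw [Category.assoc, Category.assoc, pullback.diagonal_fst, Category.comp_id,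
          pullback.lift_fst, ← Category.assoc, pullback.diagonal_fst, Category.id_comp]
      · rw [Category.assoc, Category.assoc, pullback.diagonal_snd, Category.comp_id,
          pullback.lift_snd, ← Category.assoc, pullback.diagonal_snd, Category.id_comp]
    rw [hd]
    exact (isProperMor_of_repWith_isClosedImmersion _ (repWith_comp _ hWp.1 hm)).2.2
  · exact isQuasiCompactMor_of_comp_surjective hZ' hY.diag t p hs₂ hWp.2.1.2
  · exact isUnivClosedMor_of_comp_isSurjectiveMor t p hs₂ hWp.2.2

end Groth.Agent.S10760
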