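import Groth.Statements.S10762
import Mathlib
import Groth.Agent.Lib.SchImKT3_helper7

set_option autoImplicit false
universe u
open CategoryTheory CategoryTheory.Limits AlgebraicGeometry
open AlgSp

namespace Groth.Agent.S10762

/-- Let B be an algebraic space over S, let a : X ⟶ B and b : Y ⟶ B be locally of finite type with b
separated, and let f : X ⟶ Y be a morphism over B. If i : Z ⟶ X is a closed subspace with Z ⟶ B
proper, then the image of |Z| under |f| is a closed subset of |Y| which underlies a closed subspace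
Z' ⟶ Y with Z' ⟶ B proper. -/
theorem result {S : Scheme.{u}} {X Y B Z : AlgSp.Space S}
    (a : X ⟶ B) (b : Y ⟶ B) (f : X ⟶ Y) (hcomm : f ≫ b = a)
    (ha : AlgSp.LocP @LocallyOfFiniteType a.hom) (hb : AlgSp.LocP @LocallyOfFiniteType b.hom)
    (hbs : AlgSp.IsSeparatedMor b.hom)
    (i : Z ⟶ X) (hi : AlgSp.RepWith @IsClosedImmersion i.hom) (hZ : AlgSp.IsProperMor (i ≫ a).hom) :
    IsClosed (AlgSp.Points.map f.hom '' Set.range (AlgSp.Points.map i.hom)) ∧
      ∃ (Z' : AlgSp.Space S) (i' : Z' ⟶ Y), AlgSp.RepWith @IsClosedImmersion i'.hom ∧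
        Set.range (AlgSp.Points.map i'.hom) = AlgSp.Points.map f.hom '' Set.range (AlgSp.Points.map i.hom) ∧
        AlgSp.IsProperMor (i' ≫ b).hom := by
  have hprop : AlgSp.IsProperMor ((i ≫ f).hom ≫ b.hom) := by
    have e : (i ≫ f).hom ≫ b.hom = (i ≫ a).hom := by rw [← hcomm]; rfl
    rw [e]; exact hZ
  obtain ⟨h', fac⟩ := Groth.Agent.Lib.SchImageH7.exists_fac_img (i ≫ f).hom
  obtain ⟨hp, hs⟩ := Groth.Agent.Lib.SchImKT3H7.schImage_proper Z.property Y.property B.property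
    (i ≫ f).hom b.hom hprop hbs hb _ (Groth.Agent.Lib.SchImageH7.isSchImage_imgι _) h' fac
  have hrange : Set.range (AlgSp.Points.map (Groth.Agent.Lib.SchImageH7.imgι (i ≫ f).hom)) =
      AlgSp.Points.map f.hom '' Set.range (AlgSp.Points.map i.hom) := by
    ext y
    constructor
    · rintro ⟨z', rfl⟩
      obtain ⟨z, rfl⟩ := hs z'
      refine ⟨AlgSp.Points.map i.hom z, ⟨z, rfl⟩, ?_⟩
      rw [← AlgSp.Points.map_comp, ← AlgSp.Points.map_comp, fac]; rfl
    · rintro ⟨_, ⟨z, rfl⟩, rfl⟩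
      refine ⟨AlgSp.Points.map h' z, ?_⟩
      rw [← AlgSp.Points.map_comp, ← AlgSp.Points.map_comp, fac]; rfl
  have hZ'cl := Groth.Agent.Lib.SchImageH7.repWith_isClosedImmersion_imgι (i ≫ f).hom
  refine ⟨?_, ⟨_, Groth.Agent.Lib.SchImageH7.isAlgSpace_img Y.property (i ≫ f).hom⟩,
    ObjectProperty.homMk (Groth.Agent.Lib.SchImageH7.imgι (i ≫ f).hom), hZ'cl, hrange, hp⟩
  have hhuc : AlgSp.IsUnivClosedMor (i ≫ f).hom :=
    Groth.Agent.Lib.AlgSpProper_helper7.isUnivClosedMor_of_comp_of_isSeparatedMor Z.property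
      Y.property B.property.diag (i ≫ f).hom b.hom hbs hprop.2.2
  have hhc : IsClosedMap (AlgSp.Points.map (i ≫ f).hom) :=
    hhuc Y.property (𝟙 _) (𝟙 _) (i ≫ f).hom IsPullback.of_id_fst
  have e2 : AlgSp.Points.map f.hom ∘ AlgSp.Points.map i.hom = AlgSp.Points.map (i ≫ f).hom :=
    funext (fun z => (AlgSp.Points.map_comp _ _ z).symm)
  rw [← Set.range_comp, e2]
  exact hhc.isClosed_range

end Groth.Agent.S10762
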