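import Groth.Statements.S1686
import Groth.Agent.Lib.CartDim_helper8

set_option autoImplicit false
universe u
open CategoryTheory CategoryTheory.Limits AlgebraicGeometry TopologicalSpace
open SDiv

namespace Groth.Agent.S1686

/-- Let D be the closed subscheme of an effective Cartier divisor on a scheme S and d a point of D with
image s in S. If the local dimension of S at s is finite, then the local dimension of D at d is
strictly smaller. -/
theorem result (S : Scheme.{u}) (𝓘 : S.IdealSheafData) (h𝓘 : BlowUp.IsEffCartierIdeal 𝓘) (d : ↥𝓘.subscheme)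
    (hfin : FlatMor.localDim ↥S (𝓘.subschemeι d) ≠ ⊤) :
    FlatMor.localDim ↥𝓘.subscheme d < FlatMor.localDim ↥S (𝓘.subschemeι d) := by
  classical
  set ι := 𝓘.subschemeι with hι
  have hgen : ∀ t : ↥𝓘.subscheme, ∃ ξ : S, ξ ⤳ ι t ∧ ξ ≠ ι t := fun t =>
    CartDimH8.exists_generization 𝓘 (ι t)
      (by rw [← SetLike.mem_coe, ← Scheme.IdealSheafData.range_subschemeι]; exact ⟨t, rfl⟩)
      (h𝓘 (ι t))
  have hco : ∀ w : ↥𝓘.subscheme, Order.coheight w + 1 ≤ Order.coheight (ι w) :=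
    CartDimH8.coheight_add_one_le ι hgen
  unfold FlatMor.localDim at hfin ⊢
  haveI : Nonempty {U : TopologicalSpace.Opens ↥S // ι d ∈ U} := ⟨⟨⊤, trivial⟩⟩
  obtain ⟨Ustar, hUstar⟩ := ciInf_mem
    (fun U : {U : TopologicalSpace.Opens ↥S // ι d ∈ U} => topologicalKrullDim ↥(U.1 : Set ↥S))
  simp only at hUstar
  rw [← hUstar] at hfin ⊢
  have hb := EtDimH8.topDim_open_eq_iSup S Ustar.1
  have hble : ∀ u : ↥(Ustar.1 : Set ↥S), ((Order.coheight (u : S) : ℕ∞) : WithBot ℕ∞) ≤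
      topologicalKrullDim ↥(Ustar.1 : Set ↥S) := by
    intro u
    rw [hb]
    exact le_iSup (fun u : ↥(Ustar.1 : Set ↥S) => ((Order.coheight (u : S) : ℕ∞) : WithBot ℕ∞)) u
  have hbne : topologicalKrullDim ↥(Ustar.1 : Set ↥S) ≠ ⊥ := by
    intro hbot
    have := hble ⟨ι d, Ustar.2⟩
    rw [hbot] at this
    exact absurd this (by simp)
  obtain ⟨a, ha⟩ := WithBot.ne_bot_iff_exists.mp hbne
  have hatop : a ≠ ⊤ := by
    intro h; apply hfin; rw [← ha, h]; rfl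
  obtain ⟨n, hn⟩ := ENat.ne_top_iff_exists.mp hatop
  have hle : ∀ u : ↥(Ustar.1 : Set ↥S), Order.coheight (u : S) ≤ (n : ℕ∞) := by
    intro u
    have := hble u
    rw [← ha, ← hn] at this
    exact WithBot.coe_le_coe.mp this
  have hn1 : 1 ≤ n := by
    have h1 := hco d
    have h2 := hle ⟨ι d, Ustar.2⟩
    have h3 : (1 : ℕ∞) ≤ (n : ℕ∞) := le_trans le_add_self (h1.trans h2)
    exact_mod_cast h3
  have hW : ∀ w : ↥((ι ⁻¹ᵁ Ustar.1 : TopologicalSpace.Opens ↥𝓘.subscheme) : Set ↥𝓘.subscheme),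
      Order.coheight (w : ↥𝓘.subscheme) ≤ ((n - 1 : ℕ) : ℕ∞) := by
    intro w
    have h1 := hco w.1
    have h2 := hle ⟨ι w.1, w.2⟩
    have h3 : Order.coheight (w : ↥𝓘.subscheme) + 1 ≤ (((n - 1 : ℕ) : ℕ∞) + 1) := by
      refine (h1.trans h2).trans ?_
      have : n - 1 + 1 = n := Nat.sub_add_cancel hn1
      exact_mod_cast (le_of_eq this.symm)
    exact (ENat.add_le_add_iff_right ENat.one_ne_top).mp h3
  have hdimW : topologicalKrullDim
      ↥((ι ⁻¹ᵁ Ustar.1 : TopologicalSpace.Opens ↥𝓘.subscheme) : Set ↥𝓘.subscheme) ≤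
      (((n - 1 : ℕ) : ℕ∞) : WithBot ℕ∞) := by
    rw [EtDimH8.topDim_open_eq_iSup]
    exact iSup_le fun w => WithBot.coe_le_coe.mpr (hW w)
  have hlt : (((n - 1 : ℕ) : ℕ∞) : WithBot ℕ∞) < topologicalKrullDim ↥(Ustar.1 : Set ↥S) := by
    rw [← ha, ← hn]
    refine WithBot.coe_lt_coe.mpr ?_
    exact_mod_cast Nat.sub_lt hn1 Nat.one_pos
  refine lt_of_le_of_lt ?_ hlt
  refine le_trans ?_ hdimW
  exact iInf_le (fun U : {U : TopologicalSpace.Opens ↥𝓘.subscheme // d ∈ U} =>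
    topologicalKrullDim ↥(U.1 : Set ↥𝓘.subscheme)) ⟨ι ⁻¹ᵁ Ustar.1, Ustar.2⟩

end Groth.Agent.S1686
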