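import Groth.Statements.S10794
import Groth.Agent.Lib.AlgSpReduced_helper7
import Groth.Agent.Lib.AlgSpQC_helper7
import Groth.Agent.S1146
import Groth.Agent.S1686

set_option autoImplicit false
universe u
open CategoryTheory CategoryTheory.Limits AlgebraicGeometry Topology TopologicalSpace
open AlgSp

namespace Groth.Agent.S10794

open Groth.Agent.Lib.AlgSpReduced_helper7 Groth.Agent.Lib.AlgSpPoints_helper7

/-- Let X be an algebraic space over a scheme S, D ⟶ X an effective Cartier divisor (one-chart sense)
and x a point of |D|. If the dimension of X at the image of x is d, in the sense that some etale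
scheme chart of X has local dimension d at a point over it, and d is finite, then the dimension of D
at x is strictly smaller: some etale scheme chart of D has local dimension less than d at a point
over x. -/
theorem result {S : Scheme.{u}} (X D : AlgSp.Space S) (i : D ⟶ X)
    (hD : AlgSp.IsEffCartierSub i.hom) (x : AlgSp.Points D.obj) (d : WithBot ℕ∞)
    (hd : AlgSp.HasAt (fun U u => FlatMor.localDim ↥U u = d) X.obj (AlgSp.Points.map i.hom x)) (hfin : d ≠ ⊤) :
    AlgSp.HasAt (fun V v => FlatMor.localDim ↥V v < d) D.obj x := by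
  obtain ⟨hci, V, φ, I, fst, hφe, hφs, sq, hI⟩ := hD
  obtain ⟨v, hv⟩ := ofPt_surjective φ hφs (AlgSp.Points.map i.hom x)
  obtain ⟨z, hz1, hz2⟩ := exists_of_isPullback sq x (Points.ofScheme V v)
    (by rw [← Points.ofPt_eq_map_ofScheme, hv])
  obtain ⟨t, rfl⟩ := ofScheme_surjective _ z
  rw [← Points.ofPt_eq_map_ofScheme] at hz1
  rw [← Points.ofPt_eq_map_ofScheme, ofPt_yon_map] at hz2
  have ht : I.subschemeι t = v := ofScheme_injective V hz2
  -- the local dimension of `V` at `v` is `d`
  obtain ⟨U, a, u, hae, hu, hq⟩ := hd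
  have hVd : FlatMor.localDim ↥V.left v = d := by
    have sq' := hae.rep.isPullback' φ
    haveI h1 : Etale (hae.rep.fst' φ).left := hφe.property _ _ _ sq'.flip
    haveI h2 : Etale (hae.rep.snd φ).left := hae.property_snd φ
    obtain ⟨z', hz'1, hz'2⟩ := exists_of_isPullback sq' (Points.ofScheme U u) (Points.ofScheme V v)
      (by rw [← Points.ofPt_eq_map_ofScheme, ← Points.ofPt_eq_map_ofScheme, hu, hv])
    obtain ⟨w, rfl⟩ := ofScheme_surjective _ z'
    rw [← Points.ofPt_eq_map_ofScheme, ofPt_yon_map] at hz'1 hz'2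
    have hw1 : (hae.rep.fst' φ).left w = u := ofScheme_injective U hz'1
    have hw2 : (hae.rep.snd φ).left w = v := ofScheme_injective V hz'2
    rw [← hq, ← hw1, ← hw2, ← Groth.Agent.S1146.result, ← Groth.Agent.S1146.result]
  have hlt := Groth.Agent.S1686.result V.left I hI t (by rw [ht, hVd]; exact hfin)
  rw [ht, hVd] at hlt
  exact ⟨Over.mk (I.subschemeι ≫ V.hom), fst, t,
    Groth.Agent.Lib.AlgSpQC_helper7.repWith_fst_of_isPullback _ sq hφe, hz1, hlt⟩

end Groth.Agent.S10794
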