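import Groth.Statements.S10825
import Mathlib
import Groth.Agent.Lib.NormImage_helper6
-- import your own Groth.Agent.* helpers here

set_option autoImplicit false
universe u
open Topology
open CAlg

namespace Groth.Agent.S10825

/-- Let A → B be an injective integral homomorphism of integral domains with fraction fields K and L, L
a finite extension of K, and A integrally closed. For b in B the norm N_{L/K}(b) lies in A; if a
denotes this element of A, then the image of the closed set V(b) of Spec B under Spec B → Spec A is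
exactly V(a), and V(b) and V(a) have the same dimension. -/
theorem result
    (A B K L : Type u) [CommRing A] [IsDomain A] [CommRing B] [IsDomain B] [Algebra A B]
    [Field K] [Field L] [Algebra A K] [IsFractionRing A K] [Algebra B L] [IsFractionRing B L]
    [Algebra A L] [Algebra K L] [IsScalarTower A B L] [IsScalarTower A K L]
    [FiniteDimensional K L] [Algebra.IsIntegral A B] [IsIntegrallyClosed A]
    (hinj : Function.Injective (algebraMap A B))
    (b : B) (a : A) (ha : algebraMap A K a = Algebra.norm K (algebraMap B L b)) :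
    PrimeSpectrum.comap (algebraMap A B) '' PrimeSpectrum.zeroLocus ({b} : Set B) =
        PrimeSpectrum.zeroLocus ({a} : Set A) ∧
      topologicalKrullDim ↥(PrimeSpectrum.zeroLocus ({b} : Set B)) =
        topologicalKrullDim ↥(PrimeSpectrum.zeroLocus ({a} : Set A)) := by

  have hbint : IsIntegral A b := Algebra.IsIntegral.isIntegral b
  obtain ⟨e, he, d, hnorm⟩ := Groth.Agent.Lib.NormImage.norm_eq_pow K L (algebraMap B L b)
  have hmin : minpoly K (algebraMap B L b) = (minpoly A b).map (algebraMap A K) :=
    minpoly.isIntegrallyClosed_eq_field_fractions K L hbint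
  obtain ⟨c, hc⟩ : ∃ c : A, c = (minpoly A b).coeff 0 := ⟨_, rfl⟩
  have ha' : a = ((-1) ^ d * c) ^ e := by
    apply IsFractionRing.injective A K
    rw [ha, hnorm, hmin, Polynomial.coeff_map, ← hc]
    simp only [map_pow, map_mul, map_neg, map_one]
  have hac : ∀ I : Ideal A, c ∈ I → a ∈ I := by
    intro I hcI
    rw [ha']
    obtain ⟨e', rfl⟩ : ∃ e', e = e' + 1 := ⟨e - 1, by omega⟩
    rw [pow_succ]
    exact I.mul_mem_left _ (I.mul_mem_left _ hcI)
  have hca : ∀ p : Ideal A, p.IsPrime → a ∈ p → c ∈ p := by
    intro p hp hap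
    rw [ha'] at hap
    have h1 := hp.mem_of_pow_mem _ hap
    rcases hp.mem_or_mem h1 with h2 | h2
    · exfalso
      have h3 := hp.mem_of_pow_mem _ h2
      apply hp.ne_top
      rw [Ideal.eq_top_iff_one]
      have : (1 : A) = (-1) * (-1) := by ring
      rw [this]
      exact p.mul_mem_left _ h3
    · exact h2
  have hpart1 : PrimeSpectrum.comap (algebraMap A B) '' PrimeSpectrum.zeroLocus ({b} : Set B) =
      PrimeSpectrum.zeroLocus ({a} : Set A) := by
    ext p
    constructor
    · rintro ⟨q, hq, rfl⟩
      rw [PrimeSpectrum.mem_zeroLocus, Set.singleton_subset_iff] at hq ⊢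
      apply hac
      show c ∈ q.asIdeal.comap (algebraMap A B)
      rw [Ideal.mem_comap, hc]
      exact Groth.Agent.Lib.NormImage.algebraMap_coeff_zero_mem b q.asIdeal hq
    · intro hp
      rw [PrimeSpectrum.mem_zeroLocus, Set.singleton_subset_iff] at hp
      have hcp : c ∈ p.asIdeal := hca p.asIdeal p.isPrime hp
      rw [hc] at hcp
      obtain ⟨q, hqprime, hbq, hqp⟩ :=
        Groth.Agent.Lib.NormImage.exists_prime_over hinj b p.asIdeal hcp
      refine ⟨⟨q, hqprime⟩, ?_, ?_⟩
      · rw [PrimeSpectrum.mem_zeroLocus, Set.singleton_subset_iff]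
        exact hbq
      · exact PrimeSpectrum.ext hqp
  refine ⟨hpart1, ?_⟩
  obtain ⟨J, hJ⟩ : ∃ J : Ideal A, J = (Ideal.span ({b} : Set B)).comap (algebraMap A B) := ⟨_, rfl⟩
  have hset : PrimeSpectrum.zeroLocus (J : Set A) = PrimeSpectrum.zeroLocus ({a} : Set A) := by
    ext p
    rw [PrimeSpectrum.mem_zeroLocus, PrimeSpectrum.mem_zeroLocus, Set.singleton_subset_iff]
    constructor
    · intro hJp
      apply hJp
      apply hac
      rw [hJ, Ideal.mem_comap, hc]
      exact Groth.Agent.Lib.NormImage.algebraMap_coeff_zero_mem b _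
        (Ideal.mem_span_singleton_self b)
    · intro hap
      have hmem : p ∈ PrimeSpectrum.zeroLocus ({a} : Set A) := by
        rw [PrimeSpectrum.mem_zeroLocus, Set.singleton_subset_iff]; exact hap
      rw [← hpart1] at hmem
      obtain ⟨q, hq, rfl⟩ := hmem
      rw [PrimeSpectrum.mem_zeroLocus, Set.singleton_subset_iff] at hq
      intro x hx
      rw [hJ] at hx
      show x ∈ q.asIdeal.comap (algebraMap A B)
      rw [Ideal.mem_comap]
      have hle : Ideal.span ({b} : Set B) ≤ q.asIdeal := by
        rw [Ideal.span_le, Set.singleton_subset_iff]; exact hq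
      exact hle hx
  have h1 : topologicalKrullDim ↥(PrimeSpectrum.zeroLocus ({b} : Set B)) =
      ringKrullDim (B ⧸ Ideal.span ({b} : Set B)) := by
    rw [← PrimeSpectrum.zeroLocus_span]
    exact Groth.Agent.Lib.NormImage.topologicalKrullDim_zeroLocus _
  have h2 : topologicalKrullDim ↥(PrimeSpectrum.zeroLocus ({a} : Set A)) =
      ringKrullDim (A ⧸ J) := by
    rw [← hset]
    exact Groth.Agent.Lib.NormImage.topologicalKrullDim_zeroLocus _
  rw [h1, h2, hJ]
  exact Groth.Agent.IntegralHeight.ringKrullDim_eq_of_isIntegral_of_injective _ _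
    (Ideal.algebraMap_quotient_injective)

end Groth.Agent.S10825
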