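import Groth.Statements.S10830
import Mathlib

set_option autoImplicit false
universe u
open Topology TopologicalSpace
open TopDim

namespace Groth.Agent.S10830

/-- In an irreducible topological space X of finite Krull dimension, every proper closed subset Y has
strictly smaller Krull dimension than X. -/
theorem result (X : Type u) [TopologicalSpace X]
    [IrreducibleSpace X] (hfin : topologicalKrullDim X ≠ ⊤) (Y : Set X) (hY : IsClosed Y) (hYX : Y ≠ Set.univ) :
    topologicalKrullDim ↥Y < topologicalKrullDim X := by
  classical
  let T : TopologicalSpace.IrreducibleCloseds X :=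
    ⟨Set.univ, IrreducibleSpace.isIrreducible_univ X, isClosed_univ⟩
  have hne : Nonempty (TopologicalSpace.IrreducibleCloseds X) := ⟨T⟩
  have h0 : 0 ≤ topologicalKrullDim X := Order.krullDim_nonneg
  obtain ⟨m, hm⟩ : ∃ m : ℕ, topologicalKrullDim X = (m : WithBot ℕ∞) := by
    cases h : topologicalKrullDim X with
    | bot => rw [h] at h0; simp at h0
    | coe a =>
      cases a with
      | top => exact absurd h hfin
      | coe m => exact ⟨m, rfl⟩
  rw [hm]
  unfold topologicalKrullDim
  rw [Order.krullDim_lt_coe_iff]
  intro l
  have hind : Topology.IsInducing (Subtype.val : Y → X) := Topology.IsInducing.subtypeVal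
  let l' := l.map _ (TopologicalSpace.IrreducibleCloseds.map_strictMono_of_isInducing hind)
  have hlast : l'.last < T := by
    have hsub : (l'.last : Set X) ⊆ Y := by
      change closure (Subtype.val '' (l.last : Set Y)) ⊆ Y
      apply closure_minimal _ hY
      rintro _ ⟨y, _, rfl⟩
      exact y.2
    refine lt_of_le_of_ne (fun x _ => Set.mem_univ x) ?_
    intro h
    apply hYX
    apply Set.eq_univ_of_univ_subset
    have : (T : Set X) = Set.univ := rfl
    rw [← this, ← h]
    exact hsub
  have hlen := Order.LTSeries.length_le_krullDim (RelSeries.snoc l' T hlast)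
  change ((l'.snoc T hlast).length : WithBot ℕ∞) ≤ topologicalKrullDim X at hlen
  rw [hm] at hlen
  have h2 : (l'.snoc T hlast).length = l.length + 1 := by
    simp [l']
  rw [h2] at hlen
  have : l.length + 1 ≤ m := by exact_mod_cast hlen
  omega

end Groth.Agent.S10830
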