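import Groth.Statements.S10831
import Groth.Agent.Lib.TopDim_lead

set_option autoImplicit false
universe u
open Topology TopologicalSpace
open TopDim

namespace Groth.Agent.S10831

/-- The Krull dimension of a topological space is the supremum of the Krull dimensions of its
irreducible components. -/
theorem result (X : Type u) [TopologicalSpace X] :
    topologicalKrullDim X = ⨆ Y ∈ irreducibleComponents X, topologicalKrullDim ↥Y := by
  apply le_antisymm
  · apply Groth.Agent.TopDimLead.dim_le_of_forall
    intro l
    obtain ⟨t, ht, hlt, hmax⟩ := exists_preirreducible (l.last : Set X)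
      l.last.isIrreducible.isPreirreducible
    have htirr : IsIrreducible t := ⟨l.last.isIrreducible.nonempty.mono hlt, ht⟩
    have htc : t ∈ irreducibleComponents X := by
      refine ⟨htirr, fun u hu htu => ?_⟩
      exact (hmax u hu.isPreirreducible htu).le
    exact le_iSup₂_of_le t htc (Groth.Agent.TopDimLead.length_le_dim_of_last_subset t l hlt)
  · exact iSup₂_le fun Y _ => topologicalKrullDim_subspace_le X Y

end Groth.Agent.S10831
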