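import Groth.Statements.S10833
import Groth.Agent.Lib.DimFT_helper8
import Groth.Agent.Lib.DimFT3_helper8

set_option autoImplicit false
universe u
open Variety

namespace Groth.Agent.S10833

/-- Let k be a field and A a k-algebra of finite type that is an integral domain. Then every chain of
prime ideals of A admitting no refinement — it starts at the zero ideal, ends at a maximal ideal,
and no prime ideal lies strictly between two consecutive members — has length equal to the Krull
dimension of A. -/
theorem result (k A : Type u) [Field k] [CommRing A]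
    [IsDomain A] [Algebra k A] [Algebra.FiniteType k A] (c : LTSeries (PrimeSpectrum A))
    (h0 : c.head.asIdeal = ⊥) (hmax : c.last.asIdeal.IsMaximal)
    (hsat : ∀ i : Fin c.length, c i.castSucc ⋖ c i.succ) :
    (c.length : WithBot ℕ∞) = ringKrullDim A := by
  classical
  obtain ⟨n, -, hn, hdim, hht⟩ := Groth.Agent.DimFTH8.exists_dim_eq k A
  -- step lemma
  have step : ∀ (p q : PrimeSpectrum A), p ⋖ q → ∀ r : ℕ, Algebra.trdeg k (A ⧸ p.asIdeal) = r →
      ∃ r' : ℕ, Algebra.trdeg k (A ⧸ q.asIdeal) = r' ∧ r' + 1 = r := by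
    intro p q hpq r hr
    have hle : p.asIdeal ≤ q.asIdeal := hpq.1.le
    have hlt : p.asIdeal < q.asIdeal := hpq.1
    haveI := p.2
    haveI := q.2
    set f := Ideal.Quotient.mkₐ k p.asIdeal with hf
    have hfs : Function.Surjective f := Ideal.Quotient.mkₐ_surjective k p.asIdeal
    have hker : RingHom.ker f = p.asIdeal := Ideal.Quotient.mkₐ_ker k p.asIdeal
    set Q : Ideal (A ⧸ p.asIdeal) := q.asIdeal.map f with hQ
    haveI hQp : Q.IsPrime := Ideal.map_isPrime_of_surjective hfs (by rw [hker]; exact hle)
    have hcomapQ : Q.comap f = q.asIdeal := by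
      rw [hQ, Ideal.comap_map_of_surjective f hfs]
      change q.asIdeal ⊔ RingHom.ker f = q.asIdeal
      rw [hker]; exact sup_eq_left.mpr hle
    have hmapp : p.asIdeal.map f = ⊥ := (Ideal.map_eq_bot_iff_le_ker f).mpr hker.ge
    have hQne : Q ≠ ⊥ := by
      intro h
      have : Q.comap f = p.asIdeal := by
        rw [h]; exact hker
      rw [hcomapQ] at this
      exact hlt.ne' this
    have hQ1 : Q.height = 1 := by
      refine le_antisymm ?_ ?_
      · have : Q.height ≤ ((1 : ℕ) : ℕ∞) := by
          rw [Ideal.height_le_iff]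
          intro P' hP' hP'Q
          have hP'' : (P'.comap f).IsPrime := Ideal.comap_isPrime f P'
          have h1 : p.asIdeal ≤ P'.comap f :=
            hker.ge.trans (Ideal.comap_mono (f := f) (bot_le : (⊥ : Ideal (A ⧸ p.asIdeal)) ≤ P'))
          have h2 : P'.comap f ≤ q.asIdeal := by
            rw [← hcomapQ]; exact Ideal.comap_mono hP'Q.le
          have h3 : P'.comap f ≠ q.asIdeal := by
            intro h
            have : P' = Q := by
              rw [← Ideal.map_comap_of_surjective f hfs P', h]
            exact hP'Q.ne this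
          have h4 : P'.comap f = p.asIdeal := by
            by_contra hne
            have hlt1 : p < (⟨P'.comap f, hP''⟩ : PrimeSpectrum A) :=
              lt_of_le_of_ne h1 (fun h => hne (congrArg PrimeSpectrum.asIdeal h).symm)
            have hlt2 : (⟨P'.comap f, hP''⟩ : PrimeSpectrum A) < q :=
              lt_of_le_of_ne h2 (fun h => h3 (congrArg PrimeSpectrum.asIdeal h))
            exact hpq.2 hlt1 hlt2
          have h5 : P' = ⊥ := by
            rw [← Ideal.map_comap_of_surjective f hfs P', h4, hmapp]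
          rw [h5, Ideal.height_bot]
          exact_mod_cast zero_lt_one
        exact_mod_cast this
      · rw [Order.one_le_iff_pos, pos_iff_ne_zero, Ne, Ideal.height_eq_zero_iff_eq_bot]
        exact hQne
    have h1 := Groth.Agent.DimFT3H8.trdeg_quotient_of_height_eq_one k (A ⧸ p.asIdeal) Q hQ1
    have e : ((A ⧸ p.asIdeal) ⧸ Q) ≃ₐ[k] A ⧸ q.asIdeal := DoubleQuot.quotQuotEquivQuotOfLEₐ k hle
    rw [e.trdeg_eq, hr] at h1
    obtain ⟨r', hr'⟩ : ∃ r' : ℕ, Algebra.trdeg k (A ⧸ q.asIdeal) = r' := by
      have hlt : Algebra.trdeg k (A ⧸ q.asIdeal) < Cardinal.aleph0 := by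
        refine lt_of_le_of_lt (le_self_add (b := 1)) ?_
        rw [h1]; exact Cardinal.natCast_lt_aleph0
      exact ⟨_, (Cardinal.cast_toNat_of_lt_aleph0 hlt).symm⟩
    refine ⟨r', hr', ?_⟩
    rw [hr'] at h1
    exact_mod_cast h1
  -- induction along the chain
  have claim : ∀ i : Fin (c.length + 1), ∃ r : ℕ,
      Algebra.trdeg k (A ⧸ (c i).asIdeal) = r ∧ r + (i : ℕ) = n := by
    intro i
    induction i using Fin.induction with
    | zero =>
      refine ⟨n, ?_, by simp⟩
      have h0' : (c 0).asIdeal = ⊥ := h0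
      rw [h0']
      rw [(AlgEquiv.quotientBot k A).trdeg_eq, hn]
    | succ i ih =>
      obtain ⟨r, hr, hri⟩ := ih
      obtain ⟨r', hr', hrr⟩ := step _ _ (hsat i) r hr
      refine ⟨r', hr', ?_⟩
      simp only [Fin.val_succ]
      simp only [Fin.val_castSucc] at hri
      omega
  obtain ⟨r, hr, hrn⟩ := claim (Fin.last _)
  haveI := hmax
  obtain ⟨r', hr', hrn'⟩ := Groth.Agent.DimFT3H8.height_add_trdeg_quotient n k A hn c.last.asIdeal
  rw [hht c.last.asIdeal] at hrn'
  have hr0 : r' = 0 := by
    have : (n : ℕ∞) + (r' : ℕ∞) = (n : ℕ∞) := hrn'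
    have h2 : ((n + r' : ℕ) : ℕ∞) = ((n : ℕ) : ℕ∞) := by exact_mod_cast this
    have h3 : n + r' = n := by exact_mod_cast h2
    omega
  have hrr : r = r' := by
    have h1 : ((r : ℕ) : Cardinal) = ((r' : ℕ) : Cardinal) := by
      rw [← hr, ← hr']; rfl
    exact_mod_cast h1
  rw [hdim]
  simp only [Fin.val_last] at hrn
  have : c.length = n := by omega
  rw [this]

end Groth.Agent.S10833
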