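import Groth.Statements.S1619
import Groth.Agent.Lib.SchFT_helper8
import Groth.Agent.Lib.DimFT2_helper8

set_option autoImplicit false
universe u
open CategoryTheory CategoryTheory.Limits AlgebraicGeometry
attribute [local instance] Curv2.stalkAlgebra Curv2.resAlgebra
open Variety

namespace Groth.Agent.S1619

/-- Let X be irreducible and locally of finite type over a field k, with generic point ξ. If the residue
field of ξ has transcendence degree n over k then X has Krull dimension n. -/
theorem result (k : Type u) [Field k] (X : Scheme.{u}) [X.Over (Spec (CommRingCat.of k))] [LocallyOfFiniteType (X ↘ (Spec (CommRingCat.of k)))] [IrreducibleSpace X]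
    (n : ℕ) (hn : Algebra.trdeg k (X.residueField (genericPoint X)) = n) : topologicalKrullDim X = n := by
  classical
  have hdimeq : topologicalKrullDim X = Order.krullDim X := by
    unfold topologicalKrullDim
    exact Order.krullDim_eq_of_orderIso (irreducibleSetEquivPoints (α := X))
  rw [hdimeq, Order.krullDim_eq_iSup_coheight_of_nonempty]
  -- the key computation: at a point of an affine open corresponding to a maximal ideal
  have key : ∀ (U : X.Opens) (hU : IsAffineOpen U) (m : PrimeSpectrum Γ(X, U)),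
      m.asIdeal.IsMaximal → m.asIdeal.height = n := by
    intro U hU m hm
    letI := Groth.Agent.SchFTH8.secAlgebra k X U
    haveI := Groth.Agent.SchFTH8.finiteType_sec k X U hU
    haveI := hm
    obtain ⟨q, hqmin, hqm, hqp, n', h1, h2⟩ :=
      Groth.Agent.DimFT2H8.exists_minimalPrimes_trdeg_eq_height k Γ(X, U) m.asIdeal
    have hηU : hU.fromSpec ⟨q, hqp⟩ ∈ U := Groth.Agent.SchFTH8.fromSpec_mem hU _
    have hpη := Groth.Agent.SchFTH8.primeIdealOf_fromSpec hU ⟨q, hqp⟩ hηU
    -- the point of q is the generic point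
    have hξU : genericPoint X ∈ U := (genericPoint_specializes _).mem_open U.2 hηU
    have hle := (Groth.Agent.SchFTH8.specializes_iff_primeIdealOf_le hU _ _ hξU hηU).mp
      (genericPoint_specializes _)
    rw [hpη] at hle
    have hge : q ≤ (hU.primeIdealOf ⟨genericPoint X, hξU⟩).asIdeal :=
      hqmin.2 ⟨(hU.primeIdealOf ⟨genericPoint X, hξU⟩).2, bot_le⟩ hle
    have heq : hU.primeIdealOf ⟨genericPoint X, hξU⟩ = ⟨q, hqp⟩ :=
      PrimeSpectrum.ext (le_antisymm hle hge)
    have htr := Groth.Agent.SchFTH8.trdeg_residueField k hU _ hξU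
    rw [hn, heq] at htr
    have : n' = n := by
      have : ((n' : ℕ) : Cardinal) = ((n : ℕ) : Cardinal) := by rw [← h1]; exact htr.symm
      exact_mod_cast this
    rw [h2, this]
  have hcoh : ∀ (U : X.Opens) (hU : IsAffineOpen U) (x : X) (hx : x ∈ U),
      Order.coheight x = (hU.primeIdealOf ⟨x, hx⟩).asIdeal.height := by
    intro U hU x hx
    have h1 := Groth.Agent.SchFTH8.ringKrullDim_stalk_eq_height hU x hx
    rw [AlgebraicGeometry.ringKrullDim_stalk_eq_coheight] at h1
    exact_mod_cast h1
  have hsup : (⨆ a : X, Order.coheight a) = (n : ℕ∞) := by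
    apply le_antisymm
    · apply iSup_le
      intro x
      obtain ⟨_, ⟨U, hU, rfl⟩, hxU, -⟩ :=
        X.isBasis_affineOpens.exists_subset_of_mem_open (Set.mem_univ x) isOpen_univ
      rw [hcoh U hU x hxU]
      obtain ⟨m, hm, hle⟩ := (hU.primeIdealOf ⟨x, hxU⟩).asIdeal.exists_le_maximal
        (hU.primeIdealOf ⟨x, hxU⟩).2.ne_top
      rw [← key U hU ⟨m, hm.isPrime⟩ hm]
      exact Ideal.height_mono hle
    · obtain ⟨_, ⟨U, hU, rfl⟩, hxU, -⟩ :=
        X.isBasis_affineOpens.exists_subset_of_mem_open (Set.mem_univ (genericPoint X)) isOpen_univ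
      obtain ⟨m, hm, hle⟩ := (hU.primeIdealOf ⟨genericPoint X, hxU⟩).asIdeal.exists_le_maximal
        (hU.primeIdealOf ⟨genericPoint X, hxU⟩).2.ne_top
      have hzU : hU.fromSpec ⟨m, hm.isPrime⟩ ∈ U := Groth.Agent.SchFTH8.fromSpec_mem hU _
      have hpz := Groth.Agent.SchFTH8.primeIdealOf_fromSpec hU ⟨m, hm.isPrime⟩ hzU
      refine le_iSup_of_le (hU.fromSpec ⟨m, hm.isPrime⟩) ?_
      rw [hcoh U hU _ hzU, hpz, key U hU ⟨m, hm.isPrime⟩ hm]
  rw [hsup]
  rfl

end Groth.Agent.S1619
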