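import Groth.Statements.S10841
import Groth.Agent.S1619
import Groth.Agent.Lib.HtTrdeg_helper8
import Groth.Agent.Lib.ClosHt_helper8
import Groth.Agent.Lib.ResNat_helper8

set_option autoImplicit false
universe u
open CategoryTheory AlgebraicGeometry Topology
open Variety

namespace Groth.Agent.S10841

/-- Let k be a field, X an irreducible scheme of finite type over k, and f : Y → X a morphism over k
from a scheme Y of finite type over k whose image contains the generic point of X. Then dim Y ≥ dim
X. -/
theorem result (k : Type u) [Field k] {X Y : Scheme.{u}}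
    (p : X ⟶ Spec (CommRingCat.of k)) (q : Y ⟶ Spec (CommRingCat.of k))
    [LocallyOfFiniteType p] [QuasiCompact p] [LocallyOfFiniteType q] [QuasiCompact q]
    [IrreducibleSpace ↥X] (f : Y ⟶ X) (hf : f ≫ p = q)
    (hη : genericPoint ↥X ∈ Set.range f.base) :
    topologicalKrullDim ↥X ≤ topologicalKrullDim ↥Y := by
  classical
  letI : X.Over (Spec (CommRingCat.of k)) := ⟨p⟩
  letI : Y.Over (Spec (CommRingCat.of k)) := ⟨q⟩
  haveI : LocallyOfFiniteType (X ↘ Spec (CommRingCat.of k)) := ‹LocallyOfFiniteType p›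
  haveI : LocallyOfFiniteType (Y ↘ Spec (CommRingCat.of k)) := ‹LocallyOfFiniteType q›
  obtain ⟨y, hy⟩ := hη
  obtain ⟨n, hn⟩ := Groth.Agent.HtTrdegH8.exists_trdeg_nat k X (genericPoint X)
  have hX : topologicalKrullDim X = n := Groth.Agent.S1619.result k X n hn
  obtain ⟨m, hm, hht⟩ := Groth.Agent.HtTrdegH8.height_eq_trdeg k Y y
  have h := Groth.Agent.ResNatH8.trdeg_residueField_le k f hf y
  rw [hy, hn, hm] at h
  have hnm : n ≤ m := by exact_mod_cast h
  rw [hX, Groth.Agent.ClosHtH8.topologicalKrullDim_eq_iSup_height Y]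
  refine le_trans ?_ (le_iSup _ y)
  rw [hht]
  exact_mod_cast hnm

end Groth.Agent.S10841
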