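import Groth.Statements.S10854
import Mathlib
import Groth.Agent.Lib.SpreadIso_helper7

set_option autoImplicit false
universe u
open FinCond

namespace Groth.Agent.S10854

open AlgebraicGeometry CategoryTheory in
/-- Let S be a scheme and X, Y two S-schemes locally of finite presentation over S. Let x be a point of
X and y a point of Y over the same point of S, and let φ : O_{Y,y} → O_{X,x} be an isomorphism
compatible with the two homomorphisms from the local ring of S. Then there exist open neighbourhoods
U of x and V of y and an S-isomorphism f : U → V whose composite with Spec O_{X,x} → U and V → Y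
equals Spec φ followed by Spec O_{Y,y} → Y. (The published statement assumes the finiteness
conditions only at the points x and y; this row assumes them everywhere.) -/
theorem result
    {X Y S : Scheme.{u}} (sX : X ⟶ S) (sY : Y ⟶ S)
    [LocallyOfFinitePresentation sX] [LocallyOfFinitePresentation sY]
    {x : X} {y : Y} (e : sX x = sY y)
    (φ : Y.presheaf.stalk y ⟶ X.presheaf.stalk x) [IsIso φ]
    (h : sY.stalkMap y ≫ φ =
      S.presheaf.stalkSpecializes (Inseparable.of_eq e).specializes ≫ sX.stalkMap x) :
    ∃ (U : X.Opens) (hxU : x ∈ U) (V : Y.Opens) (f : U.toScheme ⟶ V.toScheme), IsIso f ∧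
      Spec.map φ ≫ Y.fromSpecStalk y = U.fromSpecStalkOfMem x hxU ≫ f ≫ V.ι ∧
        f ≫ V.ι ≫ sY = U.ι ≫ sX := by
  haveI : LocallyOfFiniteType sX := inferInstance
  haveI : LocallyOfFiniteType sY := inferInstance
  obtain ⟨U, hxU, f, hf, hfS⟩ :=
    Groth.Agent.Lib.SpreadOutFPH7.spread_out_of_locallyOfFinitePresentation sX sY e φ h
  have h' : sX.stalkMap x ≫ inv φ =
      S.presheaf.stalkSpecializes (Inseparable.of_eq e.symm).specializes ≫ sY.stalkMap y := by
    rw [IsIso.comp_inv_eq, Category.assoc, h, ← Category.assoc,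
      TopCat.Presheaf.stalkSpecializes_comp, TopCat.Presheaf.stalkSpecializes_refl,
      Category.id_comp]
  obtain ⟨V, hyV, g, hg, hgS⟩ :=
    Groth.Agent.Lib.SpreadOutFPH7.spread_out_of_locallyOfFinitePresentation sY sX e.symm (inv φ) h'
  obtain ⟨U₁, hxU₁, V₁, -, f₁, hiso, h1, h2⟩ :=
    Groth.Agent.Lib.SpreadIsoH7.iso_of_spread sX sY φ U hxU f hf hfS V hyV g hg hgS
      (Groth.Agent.Lib.SpreadIsoH7.uniqueAt_of_lft sX x)
      (Groth.Agent.Lib.SpreadIsoH7.uniqueAt_of_lft sY y)
  exact ⟨U₁, hxU₁, V₁, f₁, hiso, h1, h2⟩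

end Groth.Agent.S10854
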