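import Groth.Statements.S10856
import Mathlib
import Groth.Agent.Lib.Mero_helper4
import Groth.Agent.Lib.MeroDepth_helper5

set_option autoImplicit false
universe u
open Mero

namespace Groth.Agent.S10856

open AlgebraicGeometry CategoryTheory TopologicalSpace in
/-- Let X be a scheme and f a global section of the sheaf of meromorphic functions K_X. The domain of
definition of f, i.e. the set of points x whose value f_x ∈ K_{X,x} lies in the image of the local
ring O_{X,x}, is the underlying set of an open subscheme D of X, and D is schematically dense in X: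
for every open subset V of X the restriction map from sections of O_X over V to sections over V ∩ D
is injective. -/
theorem result {X : Scheme.{u}} (f : Γ(Mero.kmod X, ⊤)) :
    ∃ D : X.Opens,
      (D : Set X) = {x | f.1 ⟨x, Opens.mem_top x⟩ ∈ (algebraMap (X.presheaf.stalk x) (Mero.KStalk X x)).range} ∧
        ∀ V : X.Opens, Function.Injective (X.presheaf.map (homOfLE (inf_le_left : V ⊓ D ≤ V)).op) := by
  have hopen : IsOpen {x : X | f.1 ⟨x, Opens.mem_top x⟩ ∈
      (algebraMap (X.presheaf.stalk x) (Mero.KStalk X x)).range} := by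
    rw [isOpen_iff_forall_mem_open]
    rintro x ⟨r0, hr0⟩
    obtain ⟨V0, hxV0, i, a, b, hab⟩ := f.2 ⟨x, Opens.mem_top x⟩
    obtain ⟨V1, hxV1, r, hr⟩ := X.presheaf.exists_germ_eq r0
    have hx01 : x ∈ V0 ⊓ V1 := ⟨hxV0, hxV1⟩
    have hfx := hab ⟨x, hxV0⟩
    have e1 : (LocalizedModule.mk (X.presheaf.germ V0 x hxV0 a) (Mero.regGerm ⟨x, hxV0⟩ b) :
        Mero.KStalk X x) = LocalizedModule.mk r0 1 := by
      rw [Groth.Agent.Lib.Mero_helper4.mk_one_eq_algebraMap, hr0]
      exact hfx.symm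
    rw [Groth.Agent.Lib.Mero_helper4.mk_eq_mk_iff] at e1
    have e1' : X.presheaf.germ V0 x hxV0 a = r0 * X.presheaf.germ V0 x hxV0 b.1 := by
      have : X.presheaf.germ V0 x hxV0 a * (1 : X.presheaf.stalk x) =
          r0 * X.presheaf.germ V0 x hxV0 b.1 := e1
      rwa [mul_one] at this
    have e2 : X.presheaf.germ (V0 ⊓ V1) x hx01 (X.presheaf.map (homOfLE inf_le_left).op a) =
        X.presheaf.germ (V0 ⊓ V1) x hx01 (X.presheaf.map (homOfLE inf_le_right).op r *
          X.presheaf.map (homOfLE inf_le_left).op b.1) := by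
      rw [map_mul, TopCat.Presheaf.germ_res_apply, TopCat.Presheaf.germ_res_apply,
        TopCat.Presheaf.germ_res_apply, hr]
      exact e1'
    obtain ⟨W, hxW, iU, iV, hW⟩ := TopCat.Presheaf.germ_eq X.presheaf x hx01 hx01 _ _ e2
    refine ⟨W.1, ?_, W.2, hxW⟩
    intro y hyW
    have hy01 : y ∈ V0 ⊓ V1 := iU.le hyW
    refine ⟨X.presheaf.germ V1 y hy01.2 r, ?_⟩
    have hfy := hab ⟨y, hy01.1⟩
    rw [← Groth.Agent.Lib.Mero_helper4.mk_one_eq_algebraMap]
    refine Eq.trans ?_ hfy.symm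
    rw [Groth.Agent.Lib.Mero_helper4.mk_eq_mk_iff]
    have e3 := congrArg (X.presheaf.germ W y hyW) hW
    simp only [map_mul, TopCat.Presheaf.germ_res_apply] at e3
    show _ * X.presheaf.germ V0 y hy01.1 b.1 = _ * (1 : X.presheaf.stalk y)
    rw [mul_one]
    exact e3.symm
  refine ⟨⟨_, hopen⟩, rfl, ?_⟩
  intro V
  refine (injective_iff_map_eq_zero (X.presheaf.map (homOfLE (inf_le_left :
    V ⊓ (⟨_, hopen⟩ : X.Opens) ≤ V)).op).hom).mpr ?_
  intro s hs
  apply TopCat.Presheaf.section_ext X.sheaf V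
  intro x hxV
  obtain ⟨V0, hxV0, i, a, b, hab⟩ := f.2 ⟨x, Opens.mem_top x⟩
  obtain ⟨_, ⟨W, hW : IsAffineOpen W, rfl⟩, hxW, hWsub⟩ :=
    (X.isBasis_affineOpens).exists_subset_of_mem_open
      (show x ∈ ((V ⊓ V0 : X.Opens) : Set X) from ⟨hxV, hxV0⟩) (V ⊓ V0).2
  have hWV : W ≤ V := fun y hy => (hWsub hy).1
  have hWV0 : W ≤ V0 := fun y hy => (hWsub hy).2
  have hb' : X.presheaf.map (homOfLE hWV0).op b.1 ∈ Mero.regSub X W := Mero.regSub_res _ b.2
  obtain ⟨n, hn⟩ := Groth.Agent.Lib.Mero_helper4.exists_pow_mul_eq_zero_of_germ hW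
    (X.presheaf.map (homOfLE hWV0).op b.1) (X.presheaf.map (homOfLE hWV).op s) (by
    intro y hy
    have hyW : y ∈ W := X.basicOpen_le _ hy
    have hu : IsUnit (X.presheaf.germ V0 y (hWV0 hyW) b.1) := by
      have := (Scheme.mem_basicOpen X _ y hyW).mp hy
      rwa [TopCat.Presheaf.germ_res_apply] at this
    obtain ⟨c, hc⟩ := hu.exists_right_inv
    have hyD : y ∈ (⟨_, hopen⟩ : X.Opens) := by
      refine ⟨X.presheaf.germ V0 y (hWV0 hyW) a * c, ?_⟩
      rw [← Groth.Agent.Lib.Mero_helper4.mk_one_eq_algebraMap]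
      refine Eq.trans ?_ (hab ⟨y, hWV0 hyW⟩).symm
      rw [Groth.Agent.Lib.Mero_helper4.mk_eq_mk_iff]
      show _ * X.presheaf.germ V0 y (hWV0 hyW) b.1 = _ * (1 : X.presheaf.stalk y)
      rw [mul_one, mul_assoc, mul_comm c, hc, mul_one]
    have h1 := congrArg (X.presheaf.germ (V ⊓ (⟨_, hopen⟩ : X.Opens)) y ⟨hWV hyW, hyD⟩) hs
    rw [map_zero] at h1
    rw [TopCat.Presheaf.germ_res_apply]
    refine Eq.trans ?_ h1
    exact (TopCat.Presheaf.germ_res_apply X.presheaf (homOfLE (inf_le_left :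
      V ⊓ (⟨_, hopen⟩ : X.Opens) ≤ V)) y ⟨hWV hyW, hyD⟩ s).symm)
  have hs' : X.presheaf.map (homOfLE hWV).op s = 0 := by
    have hnzd := pow_mem (Groth.Agent.MeroDepth.nzd_of_mem_regSub hb') n
    exact (mem_nonZeroDivisors_iff_left.mp hnzd) _ hn
  have h2 := congrArg (X.presheaf.germ W x hxW) hs'
  rw [TopCat.Presheaf.germ_res_apply, map_zero] at h2
  exact h2.trans (map_zero (X.presheaf.germ V x hxV).hom).symm

end Groth.Agent.S10856
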