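import Groth.Statements.S10865
import Groth.Agent.Lib.CohDev11_helper8

set_option autoImplicit false
universe u
open Coherent

namespace Groth.Agent.S10865

open CategoryTheory CategoryTheory.Limits AlgebraicGeometry in
/-- Let X be a nonempty Noetherian scheme and K an isomorphism-closed class of O_X-modules such that (a)
in a short exact sequence of coherent modules, if the middle and right terms lie in K so does the
left one, and if the two outer terms lie in K so does the middle one; (b) if a coherent F has some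
d-fold direct sum (d ≥ 1) in K then F lies in K. If for every integral closed subscheme i : Z → X
there is a coherent O_Z-module with nonzero stalk at the generic point whose direct image under i
lies in K, then every coherent O_X-module lies in K. (For the empty scheme the hypotheses hold for
the empty class, so X is taken nonempty here.) -/
theorem result (X : Scheme.{u}) [IsNoetherian X] [Nonempty X]
    (K : ObjectProperty X.Modules) [K.IsClosedUnderIsomorphisms]
    (ha : ∀ S : ShortComplex X.Modules, S.ShortExact → Coh.IsCoh S.X₁ → Coh.IsCoh S.X₂ → Coh.IsCoh S.X₃ →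
      (K S.X₂ → K S.X₃ → K S.X₁) ∧ (K S.X₁ → K S.X₃ → K S.X₂))
    (hb : ∀ (F : X.Modules) (d : ℕ), 1 ≤ d → Coh.IsCoh F → K (∐ fun _ : Fin d => F) → K F)
    (hgen : ∀ (Z : Scheme.{u}) (i : Z ⟶ X) [IsClosedImmersion i] [IsIntegral Z],
      ∃ H : Z.Modules, Coh.IsCoh H ∧ Nontrivial (H.presheaf.stalk (genericPoint Z)) ∧
        K ((Scheme.Modules.pushforward i).obj H))
    (F : X.Modules) (hF : Coh.IsCoh F) : K F := by
  have hiso : ∀ M N : X.Modules, Nonempty (M ≅ N) → K M → K N :=
    fun M N ⟨e⟩ h => K.prop_of_iso e h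
  have hker : ∀ S : ShortComplex X.Modules, S.ShortExact → Coh.IsCoh S.X₁ → Coh.IsCoh S.X₂ →
      Coh.IsCoh S.X₃ → K S.X₂ → K S.X₃ → K S.X₁ :=
    fun S hS c1 c2 c3 => (ha S hS c1 c2 c3).1
  have hext : ∀ S : ShortComplex X.Modules, S.ShortExact → Coh.IsCoh S.X₁ → Coh.IsCoh S.X₂ →
      Coh.IsCoh S.X₃ → K S.X₁ → K S.X₃ → K S.X₂ :=
    fun S hS c1 c2 c3 => (ha S hS c1 c2 c3).2
  have hpow : ∀ (F : X.Modules) (n : ℕ), Coh.IsCoh F → K (CohDevH8.pow1 F n) → K F := by
    intro F n hF h
    obtain ⟨e⟩ := CohDevH8.nonempty_pow1_iso_sigma F n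
    exact hb F (n + 1) (by omega) hF (K.prop_of_iso e h)
  -- generators
  have hG : ∀ (Z : Set X) (hZ : IsClosed Z) (y : X), closure {y} = Z →
      ∃ G : X.Modules, Coh.IsCoh G ∧ K G ∧
        ClSub.KilledByIdeal (Scheme.IdealSheafData.vanishingIdeal ⟨Z, hZ⟩) G ∧
        y ∈ CohB1.support G := by
    intro Z hZ y hy
    obtain ⟨hint, hg⟩ := CohDevH8.exists_isIntegral_subscheme Z hZ y hy
    obtain ⟨H, hH, hnt, hKH⟩ := @hgen _ (Scheme.IdealSheafData.vanishingIdeal ⟨Z, hZ⟩).subschemeι
      inferInstance hint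
    refine ⟨_, CohDevH8.isCoh_pushforward_of_isFinite _ hH, hKH,
      CohDevH8.killedByIdeal_pushforward _ H, ?_⟩
    rw [← hg]
    exact CohDevH8.mem_support_pushforward _
      (Scheme.IdealSheafData.vanishingIdeal ⟨Z, hZ⟩).subschemeι.isEmbedding H _ hnt
  have h0 : ∀ M : X.Modules, IsZero M → K M := by
    obtain ⟨x⟩ := ‹Nonempty X›
    obtain ⟨G, hGc, hKG, -, -⟩ := hG (closure {x}) isClosed_closure x rfl
    exact CohDevH8.K_zero_of_K K hiso hker hGc hKG
  have hstep : ∀ (Z : Set X) (hZ : IsClosed Z), IsIrreducible Z → Z ⊆ Set.univ →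
      (∀ M : X.Modules, Coh.IsCoh M → CohB1.support M ⊆ Z → CohB1.support M ≠ Z → K M) →
      ∀ F : X.Modules, Coh.IsCoh F →
        ClSub.KilledByIdeal (Scheme.IdealSheafData.vanishingIdeal ⟨Z, hZ⟩) F → K F := by
    intro Z hZ hZirr _ IH F hF hk
    have hy : closure {hZirr.genericPoint} = Z := hZirr.closure_genericPoint hZ
    obtain ⟨G, hGc, hKG, hkG, hyG⟩ := hG Z hZ _ hy
    exact CohDevH8.step_of_generator_weak K hker hext hpow Z hZ _ hy IH hGc hKG hkG hyG F hF hk
  exact CohDevH8.induction_on_support K hiso h0 hext Set.univ hstep F hF (Set.subset_univ _)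

end Groth.Agent.S10865
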