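import Groth.Statements.S10866
import Groth.Agent.Lib.CohDev16_helper8

set_option autoImplicit false
universe u
open Coherent

namespace Groth.Agent.S10866

open CategoryTheory AlgebraicGeometry in
/-- Let f : X → Y be a morphism of Noetherian schemes such that for every integral closed subscheme i :
Z → X there is a coherent O_Z-module with nonzero stalk at the generic point of Z whose direct image
under i followed by f is coherent on Y. Then the direct image f_*F of every coherent O_X-module F is
coherent. -/
theorem result {X Y : Scheme.{u}} [IsNoetherian X] [IsNoetherian Y]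
    (f : X ⟶ Y)
    (hgen : ∀ (Z : Scheme.{u}) (i : Z ⟶ X) [IsClosedImmersion i] [IsIntegral Z],
      ∃ H : Z.Modules, Coh.IsCoh H ∧ Nontrivial (H.presheaf.stalk (genericPoint Z)) ∧
        Coh.IsCoh ((Scheme.Modules.pushforward (i ≫ f)).obj H))
    (F : X.Modules) (hF : Coh.IsCoh F) : Coh.IsCoh ((Scheme.Modules.pushforward f).obj F) := by
  rcases isEmpty_or_nonempty X with hemp | hne
  · have hz : CategoryTheory.Limits.IsZero F :=
      CohDevH8.isZero_of_support_eq_empty F (Set.eq_empty_of_isEmpty _)
    exact CohDevH8.isCoh_of_isZero ((Scheme.Modules.pushforward f).map_isZero hz)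
  · let K : ObjectProperty X.Modules := fun G => Coh.IsCoh ((Scheme.Modules.pushforward f).obj G)
    haveI : K.IsClosedUnderIsomorphisms :=
      ⟨fun e h => CohDevH8.isCoh_of_iso ((Scheme.Modules.pushforward f).mapIso e).symm h⟩
    refine CohDevH8.devissage_weak X K ?_ ?_ ?_ F hF
    · intro S hS c1 c2 c3
      haveI := hS.mono_f
      haveI := c1.1
      haveI := c2.1
      exact ⟨fun k2 _ => CohDevH8.isCoh_pushforward_of_mono f S.f k2,
        fun k1 k3 => CohDevH8.isCoh_pushforward_of_exact f S hS k1 k3⟩
    · intro G d hd hG hK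
      haveI := hG.1
      obtain ⟨d', rfl⟩ : ∃ d', d = d' + 1 := ⟨d - 1, by omega⟩
      haveI : IsSplitMono (CategoryTheory.Limits.Sigma.ι (fun _ : Fin (d' + 1) => G) 0) :=
        ⟨⟨⟨CategoryTheory.Limits.Sigma.desc (fun j => if j = 0 then 𝟙 G else 0), by simp⟩⟩⟩
      exact CohDevH8.isCoh_pushforward_of_mono f
        (CategoryTheory.Limits.Sigma.ι (fun _ : Fin (d' + 1) => G) 0) hK
    · intro Z i _ _
      obtain ⟨H, hH, hnt, hc⟩ := hgen Z i
      exact ⟨H, hH, hnt, CohDevH8.isCoh_of_iso
        ((Scheme.Modules.pushforwardComp i f).app H) hc⟩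

end Groth.Agent.S10866
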