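import Groth.Statements.S10868
import Groth.Agent.Lib.QuasiAffine_helper3
-- import your own Groth.Agent.* helpers here

set_option autoImplicit false
universe u
open Mor
open Groth.Agent.Lib.QuasiAffine_helper3

namespace Groth.Agent.S10868

open CategoryTheory AlgebraicGeometry in
/-- f : X → Y is a finite morphism exactly when it is proper and quasi-affine (quasi-compact, with the
inverse image of every affine open subscheme of Y a quasi-affine scheme). -/
theorem result {X Y : Scheme.{u}} (f : X ⟶ Y) :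
    IsFinite f ↔ IsProper f ∧ Mor2.IsQuasiAffine f := by
  constructor
  · intro hf
    refine ⟨inferInstance, inferInstance, fun V hV => ?_⟩
    have : IsAffine ((f ⁻¹ᵁ V : X.Opens) : Scheme.{u}) := hV.preimage f
    infer_instance
  · rintro ⟨hp, hq⟩
    rw [IsFinite.iff_isProper_and_isAffineHom]
    refine ⟨hp, ⟨fun V hV => ?_⟩⟩
    have hqa : (f ⁻¹ᵁ V : Scheme.{u}).IsQuasiAffine := hq.2 V hV
    have hVa : IsAffine (V : Scheme.{u}) := hV
    have hp' : IsProper (f ∣_ V) := IsZariskiLocalAtTarget.restrict (P := @IsProper) hp V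
    have hnat : (f ⁻¹ᵁ V : Scheme.{u}).toSpecΓ ≫ Spec.map (f ∣_ V).appTop =
        (f ∣_ V) ≫ (V : Scheme.{u}).toSpecΓ := (Scheme.toSpecΓ_naturality (f ∣_ V)).symm
    have h1 : IsProper ((f ⁻¹ᵁ V : Scheme.{u}).toSpecΓ ≫ Spec.map (f ∣_ V).appTop) := by
      rw [hnat]; infer_instance
    have h2 : IsProper (f ⁻¹ᵁ V : Scheme.{u}).toSpecΓ :=
      IsProper.of_comp (f ⁻¹ᵁ V : Scheme.{u}).toSpecΓ (Spec.map (f ∣_ V).appTop)
    have hcl : IsClosed (Set.range (f ⁻¹ᵁ V : Scheme.{u}).toSpecΓ.base) :=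
      ((f ⁻¹ᵁ V : Scheme.{u}).toSpecΓ.isClosedMap).isClosed_range
    have hop : IsOpen (Set.range (f ⁻¹ᵁ V : Scheme.{u}).toSpecΓ.base) :=
      (f ⁻¹ᵁ V : Scheme.{u}).toSpecΓ.isOpenEmbedding.isOpen_range
    obtain ⟨e, he, hrange⟩ := PrimeSpectrum.isClopen_iff.mp ⟨hcl, hop⟩
    have haff : IsAffineOpen (f ⁻¹ᵁ V : Scheme.{u}).toSpecΓ.opensRange := by
      have : (f ⁻¹ᵁ V : Scheme.{u}).toSpecΓ.opensRange = PrimeSpectrum.basicOpen e := by
        ext1; exact hrange
      rw [this]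
      exact IsAffineOpen.Spec_basicOpen e
    have : IsAffine ((f ⁻¹ᵁ V : Scheme.{u}).toSpecΓ.opensRange : Scheme.{u}) := haff
    exact IsAffine.of_isIso ((f ⁻¹ᵁ V : Scheme.{u}).toSpecΓ.isoOpensRange).hom

end Groth.Agent.S10868
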