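import Groth.Statements.S10869
import Groth.Agent.Lib.Tens39_helper8

set_option autoImplicit false
universe u
open Coh

namespace Groth.Agent.S10869

open CategoryTheory AlgebraicGeometry in
/-- For f : X → S quasi-compact and quasi-separated and F a quasi-coherent O_X-module, the counit
f^*f_*F → F is an epimorphism iff F is a quotient of f^*G for some quasi-coherent O_S-module G, iff
the restriction of F to the inverse image of every affine open of S is globally generated. -/
theorem result {X S : Scheme.{u}} (f : X ⟶ S) [QuasiCompact f] [QuasiSeparated f]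
    (F : X.Modules) (hF : Coh.IsQCoh F) :
    (Epi ((Scheme.Modules.pullbackPushforwardAdjunction f).counit.app F) ↔
      ∃ G : S.Modules, Coh.IsQCoh G ∧ ∃ φ : (Scheme.Modules.pullback f).obj G ⟶ F, Epi φ) ∧
    (Epi ((Scheme.Modules.pullbackPushforwardAdjunction f).counit.app F) ↔
      ∀ U : S.Opens, IsAffineOpen U → Curv2.IsGloballyGenerated (F.restrict (f ⁻¹ᵁ U).ι)) := by
  haveI : F.IsQuasicoherent := hF
  refine ⟨⟨fun h => ?_, ?_⟩, TensH8.epi_counit_iff_isGloballyGenerated f F⟩
  · haveI := h
    haveI : ((Scheme.Modules.pushforward f).obj F).IsQuasicoherent :=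
      QcqsLoc.isQuasicoherent_pushforward_qcqs f F
    exact ⟨(Scheme.Modules.pushforward f).obj F, ‹_›, _, h⟩
  · rintro ⟨G, -, φ, hφ⟩
    haveI := hφ
    exact TensH8.epi_counit_of_epi_pullback f φ

end Groth.Agent.S10869
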