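import Groth.Statements.S10898
import Mathlib
import Groth.Agent.Lib.NoethPrimes_helper6
-- import your own Groth.Agent.* helpers here

set_option autoImplicit false
universe u
open Polynomial
open WDiv

namespace Groth.Agent.S10898

/-- Let A be a Noetherian integral domain and P a prime ideal of height 1 of the polynomial ring A[X].
Then either P meets A in 0 only, or its contraction p = P ∩ A is a prime of height 1 of A and P is
the extension p·A[X]. (The published lemma also assumes A regular in codimension 1; that hypothesis
is not used for this assertion.) -/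
theorem result (A : Type u) [CommRing A] [IsDomain A]
    [IsNoetherianRing A] (P : Ideal A[X]) [P.IsPrime] (hP : P.height = 1) :
    P.comap (C : A →+* A[X]) = ⊥ ∨
      ((P.comap (C : A →+* A[X])).height = 1 ∧ P = (P.comap (C : A →+* A[X])).map C) := by

  by_cases hp0 : P.comap (C : A →+* A[X]) = ⊥
  · exact Or.inl hp0
  right
  obtain ⟨p, hp⟩ : ∃ p : Ideal A, p = P.comap (C : A →+* A[X]) := ⟨_, rfl⟩
  rw [← hp] at hp0 ⊢
  haveI : p.IsPrime := by rw [hp]; exact Ideal.comap_isPrime C P
  have hmapne : ∀ q : Ideal A, q ≠ ⊥ → q.map (C : A →+* A[X]) ≠ ⊥ := by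
    intro q hq hbot
    apply hq
    rw [eq_bot_iff]
    intro a ha
    have : (C a : A[X]) ∈ q.map (C : A →+* A[X]) := Ideal.mem_map_of_mem _ ha
    rw [hbot, Ideal.mem_bot] at this
    rw [Ideal.mem_bot]
    exact Polynomial.C_eq_zero.1 this
  have hcomap : ∀ q : Ideal A, (q.map (C : A →+* A[X])).comap C = q := by
    intro q
    ext a
    rw [Ideal.mem_comap, Ideal.mem_map_C_iff]
    constructor
    · intro h
      have := h 0
      rwa [Polynomial.coeff_C_zero] at this
    · intro ha n
      rw [Polynomial.coeff_C]
      split_ifs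
      · exact ha
      · exact q.zero_mem
  have hle : p.map (C : A →+* A[X]) ≤ P := by rw [hp]; exact Ideal.map_comap_le
  have hPle : P.height ≤ 1 := le_of_eq hP
  have hPeq : P = p.map (C : A →+* A[X]) := by
    by_contra hne
    exact Groth.Agent.Lib.NoethPrimes.not_lt_lt_of_height_le_one (hmapne p hp0)
      (lt_of_le_of_ne hle (Ne.symm hne)) hPle
  refine ⟨le_antisymm ?_ ?_, hPeq⟩
  · have : p.height ≤ ((1 : ℕ) : ℕ∞) := by
      rw [Ideal.height_le_iff]
      intro q hq hqp
      haveI := hq
      have hq0 : q = ⊥ := by
        by_contra hq0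
        have hlt : q.map (C : A →+* A[X]) < P := by
          rw [hPeq]
          refine lt_of_le_of_ne (Ideal.map_mono hqp.le) ?_
          intro heq
          have := congrArg (Ideal.comap (C : A →+* A[X])) heq
          rw [hcomap, hcomap] at this
          exact hqp.ne this
        exact Groth.Agent.Lib.NoethPrimes.not_lt_lt_of_height_le_one (hmapne q hq0) hlt hPle
      rw [hq0, Ideal.height_bot]
      exact Nat.cast_pos.2 one_pos
    exact_mod_cast this
  · rw [Order.one_le_iff_pos, pos_iff_ne_zero, Ne, Ideal.height_eq_zero_iff_eq_bot]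
    exact hp0

end Groth.Agent.S10898
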