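import Groth.Statements.S10899
import Mathlib
import Groth.Agent.Lib.PolyR1_helper6
import Groth.Agent.S10898
-- import your own Groth.Agent.* helpers here

set_option autoImplicit false
universe u
open Polynomial
open WDiv

namespace Groth.Agent.S10899

/-- Let A be a Noetherian integral domain which is regular in codimension 1, i.e. whose localization at
every prime ideal of height 1 is a discrete valuation ring. Then the polynomial ring A[X] is regular
in codimension 1 as well: its localization at every prime ideal of height 1 is a discrete valuation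
ring. -/
theorem result (A : Type u) [CommRing A]
    [IsDomain A] [IsNoetherianRing A]
    (hR1 : ∀ (p : Ideal A) [p.IsPrime], p.height = 1 → IsDiscreteValuationRing (Localization.AtPrime p))
    (P : Ideal A[X]) [P.IsPrime] (hP : P.height = 1) :
    IsDiscreteValuationRing (Localization.AtPrime P) := by

  have hP0 : P ≠ ⊥ := by
    intro h
    rw [h, Ideal.height_bot] at hP
    exact zero_ne_one hP
  rcases Groth.Agent.S10898.result A P hP with hc | ⟨hht, hPeq⟩
  · obtain ⟨x, hx⟩ := Groth.Agent.Lib.PolyR1.horizontal_map_eq_span P hP0 hc
    exact Groth.Agent.Lib.PolyR1.dvr_of_map_eq_span P hP0 x hx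
  · obtain ⟨p, hp⟩ : ∃ p : Ideal A, p = P.comap (C : A →+* A[X]) := ⟨_, rfl⟩
    rw [← hp] at hht hPeq
    haveI : p.IsPrime := by rw [hp]; exact Ideal.comap_isPrime C P
    haveI : IsDiscreteValuationRing (Localization.AtPrime p) := hR1 p hht
    obtain ⟨a0, ha0, h⟩ := Groth.Agent.Lib.PolyR1.exists_local_generator p
    exact Groth.Agent.Lib.PolyR1.dvr_of_map_eq_span P hP0 _
      (Groth.Agent.Lib.PolyR1.vertical_map_eq_span p P hPeq hp.symm a0 ha0 h)

end Groth.Agent.S10899
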