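import Groth.Statements.S10910
import Groth.Agent.Lib.RegFlat2_helper3
import Groth.Agent.Lib.SmoothRegHom_helper3
-- import your own Groth.Agent.* helpers here

set_option autoImplicit false
universe u
open TensorProduct
set_option maxSynthPendingDepth 3
open SmVar

namespace Groth.Agent.S10910

/-- Let k be an algebraically closed field, A a k-algebra of finite type which is an integral domain all
of whose localizations at primes are regular (X = Spec A is a nonsingular affine variety), and B an
A-algebra with surjective structure map A → B whose nilradical is prime (Y = Spec B is an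
irreducible closed subscheme of X, with ideal I = ker(A → B)). Then every localization of B is
regular (Y is nonsingular) if and only if (i) Ω_{B/k} is a projective B-module (locally free) and
(ii) the conormal map I/I² → B ⊗_A Ω_{A/k}, class of x ↦ 1 ⊗ dx, is injective, i.e. the conormal
sequence 0 → I/I² → B ⊗_A Ω_{A/k} → Ω_{B/k} → 0 is exact on the left as well. -/
theorem result (k : Type u) [Field k]
    [IsAlgClosed k] (A B : Type u) [CommRing A] [CommRing B] [Algebra k A] [Algebra.FiniteType k A]
    [IsDomain A] [IsRegularRing A] [Algebra A B] [Algebra k B] [IsScalarTower k A B]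
    (hsurj : Function.Surjective (algebraMap A B)) (hirr : (nilradical B).IsPrime) :
    IsRegularRing B ↔
      (Module.Projective B (Ω[B⁄k]) ∧
        Function.Injective (KaehlerDifferential.kerCotangentToTensor k A B)) := by
  classical
  haveI : Algebra.FiniteType k B :=
    Algebra.FiniteType.of_surjective (IsScalarTower.toAlgHom k A B) hsurj
  haveI : IsNoetherianRing B := Algebra.FiniteType.isNoetherianRing k B
  -- over an algebraically closed field, regular ⇒ geometrically regular
  have hgeom : ∀ (F : Type u) [CommRing F] [Algebra k F] [IsRegularRing F],
      CAlg.IsGeometricallyRegular k F := by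
    intro F _ _ _ k' _ _ hfin
    haveI := hfin
    have hbij : Function.Bijective (algebraMap k k') :=
      IsAlgClosed.algebraMap_bijective_of_isIntegral
    let e : k ≃ₐ[k] k' := AlgEquiv.ofBijective (Algebra.ofId k k') hbij
    exact IsRegularRing.of_ringEquiv
      ((Algebra.TensorProduct.lid k F).symm.trans
        (Algebra.TensorProduct.congr e AlgEquiv.refl)).toRingEquiv
  haveI hAfs : Algebra.FormallySmooth k A :=
    Groth.Agent.Lib.RegFlat2H3.formallySmooth_of_isGeometricallyRegular_finiteType k A (hgeom A)
  have key : Algebra.FormallySmooth k B ↔ (Module.Projective B (Ω[B⁄k]) ∧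
      Function.Injective (KaehlerDifferential.kerCotangentToTensor k A B)) := by
    rw [Algebra.formallySmooth_iff,
      Algebra.FormallySmooth.kerCotangentToTensor_injective_iff hsurj]
  rw [← key]
  constructor
  · intro hB
    exact Groth.Agent.Lib.RegFlat2H3.formallySmooth_of_isGeometricallyRegular_finiteType k B
      (hgeom B)
  · intro hB
    exact Groth.Agent.Lib.SmoothRegHomH3.isRegularRing_of_formallySmooth_field k B

end Groth.Agent.S10910
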