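import Groth.Statements.S10929
import Mathlib

set_option autoImplicit false
universe u
open CategoryTheory CategoryTheory.Limits AlgebraicGeometry
open Variety

namespace Groth.Agent.S10929

/-- Let k be an algebraically closed field of characteristic zero, X and Y integral schemes of finite
type over k and f : X → Y a dominant k-morphism. Then there is a nonempty open subscheme U of X such
that f restricted to U is a smooth morphism U → Y. -/
theorem result (k : Type u) [Field k] [IsAlgClosed k] [CharZero k]
    {X Y : Scheme.{u}} (qX : X ⟶ Spec (CommRingCat.of k)) (qY : Y ⟶ Spec (CommRingCat.of k))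
    [LocallyOfFiniteType qX] [QuasiCompact qX] [LocallyOfFiniteType qY] [QuasiCompact qY]
    [IsIntegral X] [IsIntegral Y] (f : X ⟶ Y) (hf : f ≫ qY = qX) (hdom : DenseRange f.base) :
    ∃ U : X.Opens, (U : Set ↥X).Nonempty ∧ Smooth (U.ι ≫ f) := by
  haveI : LocallyOfFiniteType (f ≫ qY) := hf ▸ inferInstance
  haveI : LocallyOfFiniteType f := locallyOfFiniteType_of_comp f qY
  haveI : IsLocallyNoetherian Y := LocallyOfFiniteType.isLocallyNoetherian qY
  haveI : LocallyOfFinitePresentation f := inferInstance
  refine ⟨f.smoothLocus, ⟨genericPoint X, ?_⟩, ?_⟩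
  · show (f.stalkMap (genericPoint X)).hom.FormallySmooth
    have hy : f (genericPoint X) = genericPoint Y := by
      have h1 := (genericPoint_spec X).image f.continuous
      have h2 : closure (f '' (Set.univ : Set X)) = (Set.univ : Set Y) := by
        rw [Set.image_univ]
        exact hdom.closure_range
      rw [h2] at h1
      exact ((genericPoint_spec Y).eq h1).symm
    have hess := LocallyOfFiniteType.stalkMap f (genericPoint X)
    have hfield : IsField (Y.presheaf.stalk (f (genericPoint X))) :=
      isField_stalk_of_closure_mem_irreducibleComponents Y _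
        (by rw [hy]; simp [irreducibleComponents_eq_singleton])
    let _ : Field (Y.presheaf.stalk (f (genericPoint X))) := hfield.toField
    let ψ : k →+* Y.presheaf.stalk (f (genericPoint X)) :=
      ((Scheme.ΓSpecIso (CommRingCat.of k)).inv ≫ qY.appTop ≫
        Y.presheaf.germ ⊤ (f (genericPoint X)) trivial).hom
    haveI : CharZero (Y.presheaf.stalk (f (genericPoint X))) :=
      charZero_of_injective_ringHom ψ.injective
    algebraize [(f.stalkMap (genericPoint X)).hom]
    exact Algebra.FormallySmooth.of_perfectField
  · rw [← Scheme.Hom.smoothLocus_eq_top_iff, ← Scheme.Hom.preimage_smoothLocus_eq]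
    exact Scheme.Opens.ι_preimage_self _

end Groth.Agent.S10929
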