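import Groth.Statements.S10944
import Mathlib
-- import your own Groth.Agent.* helpers here

set_option autoImplicit false
universe u
open CategoryTheory AlgebraicGeometry
open AlgebraicGeometry
open FlatMor

namespace Groth.Agent.S10944

/-- Let f : X → Y be a flat morphism of Noetherian schemes and Y' an irreducible component of Y. Then
f⁻¹(Y') is the union of the irreducible components Z of X with f(Z) ⊆ Y'. -/
theorem result {X Y : Scheme.{u}}
    [IsNoetherian X] [IsNoetherian Y] (f : X ⟶ Y) [Flat f]
    (Y' : Set ↥Y) (hY' : Y' ∈ irreducibleComponents ↥Y) :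
    f.base ⁻¹' Y' = ⋃₀ {Z : Set ↥X | Z ∈ irreducibleComponents ↥X ∧ f.base '' Z ⊆ Y'} := by
  classical
  have hY'irr : IsIrreducible Y' := hY'.1
  have hY'cl : IsClosed Y' := isClosed_of_mem_irreducibleComponents Y' hY'
  ext x
  constructor
  · intro hx
    -- generic point of Y'
    set η' := hY'irr.genericPoint with hη'
    have hgen : IsGenericPoint η' Y' := hY'irr.isGenericPoint_genericPoint hY'cl
    have hspec : η' ⤳ f x := (isGenericPoint_iff_specializes.1 hgen (f x)).2 hx
    obtain ⟨ξ, hξx, hfξ⟩ := (Flat.generalizingMap f) hspec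
    -- the irreducible component of ξ
    let Z := irreducibleComponent ξ
    have hZmem : Z ∈ irreducibleComponents X := irreducibleComponent_mem_irreducibleComponents ξ
    have hZirr : IsIrreducible Z := isIrreducible_irreducibleComponent
    have hZcl : IsClosed Z := isClosed_irreducibleComponent
    have hξZ : ξ ∈ Z := mem_irreducibleComponent
    have hxZ : x ∈ Z := hξx.mem_closed hZcl hξZ
    refine ⟨Z, ⟨hZmem, ?_⟩, hxZ⟩
    set ζ := hZirr.genericPoint with hζ
    have hgenZ : IsGenericPoint ζ Z := hZirr.isGenericPoint_genericPoint hZcl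
    have h1 : ζ ⤳ ξ := (isGenericPoint_iff_specializes.1 hgenZ ξ).2 hξZ
    have h2 : f ζ ⤳ η' := by
      have := h1.map f.continuous
      rwa [hfξ] at this
    -- closure {f ζ} is irreducible and contains Y', so equals Y'
    have hcl_irr : IsIrreducible (closure ({f ζ} : Set Y)) := isIrreducible_singleton.closure
    have hsub : Y' ⊆ closure ({f ζ} : Set Y) := by
      rw [← hgen.def]
      exact closure_minimal (Set.singleton_subset_iff.2 (specializes_iff_mem_closure.1 h2))
        isClosed_closure
    have heq' : closure ({f ζ} : Set Y) = Y' := le_antisymm (hY'.2 hcl_irr hsub) hsub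
    rintro _ ⟨z, hz, rfl⟩
    have h3 : ζ ⤳ z := (isGenericPoint_iff_specializes.1 hgenZ z).2 hz
    have h4 : f ζ ⤳ f z := h3.map f.continuous
    rw [← heq']
    exact specializes_iff_mem_closure.1 h4
  · rintro ⟨Z, ⟨-, hZ⟩, hxZ⟩
    exact hZ ⟨x, hxZ, rfl⟩

end Groth.Agent.S10944
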