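import Groth.Statements.S10951
import Mathlib
import Groth.Agent.Lib.CMDual2_helper4

set_option autoImplicit false
universe u
open CategoryTheory AlgebraicGeometry
open ProjDual

namespace Groth.Agent.S10951

/-- (a)⇒(c): let k be a field and X a k-scheme with a closed immersion ι into P^N_k over k, of dimension
n, such that the local ring of X at every closed point is Cohen–Macaulay of Krull dimension n. Let
(ω, t) be a dualizing sheaf for X: ω a coherent O_X-module and t : H^n(X, ω) → k a k-linear map such
that for every coherent F and every k-linear form ψ on H^n(X, F) there is exactly one φ : F → ω with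
ψ = t ∘ H^n(φ). Then for every coherent O_X-module F and every i ≤ n, the group Ext^i(F, ω) in the
category of O_X-modules (the Ext instance is the stated hypothesis; it holds) vanishes if and only
if H^(n-i)(X, F) vanishes. (The published statement says the duality maps θ^i : Ext^i(F, ω) →
H^(n-i)(X, F)' are bijective; lacking the k-linear structure on these Ext groups, only the
equivalence of vanishing is stated.) -/
theorem result
    (k : Type u) [Field k] (N n : ℕ) (X : Scheme.{u}) [X.Over (Spec (CommRingCat.of k))]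
    (ι : X ⟶ CohB1.ProjSpace N k) [IsClosedImmersion ι]
    (hι : ι ≫ CohB1.ProjSpace.toSpec N k = X ↘ Spec (CommRingCat.of k))
    (hn : topologicalKrullDim ↥X = n)
    (hCM : ∀ x : X, IsClosed ({x} : Set ↥X) →
      LocCoh.IsCohenMacaulayLocalRing (X.presheaf.stalk x) ∧ ringKrullDim (X.presheaf.stalk x) = n)
    [HasExt.{u} X.Modules]
    (ω : X.Modules) (hω : Coh.IsCoh ω) (t : Coh.HH X ω n →ₗ[k] k)
    (hdual : ∀ F : X.Modules, Coh.IsCoh F → ∀ ψ : Coh.HH X F n →ₗ[k] k,
        ∃! φ : F ⟶ ω, ∀ x : Coh.HH X F n,
          ψ x = t (Sheaf.H.map ((SheafOfModules.toSheaf X.ringCatSheaf).map φ) n x))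
    (F : X.Modules) (hF : Coh.IsCoh F) (i : ℕ) (hi : i ≤ n) :
    Subsingleton (Abelian.Ext F ω i) ↔ Subsingleton (Coh.HH X F (n - i)) := by
  have hdual' : ∀ G : X.Modules, Coh.IsCoh G →
      Groth.Agent.ProjDual.DInj n t G ∧ Groth.Agent.ProjDual.DSurj n t G := by
    intro G hG
    constructor
    · intro φ hφ
      obtain ⟨φ₀, -, huniq⟩ := hdual G hG 0
      have h1 : φ = φ₀ := huniq φ (fun x => by
        rw [LinearMap.zero_apply]
        exact (hφ x).symm)
      have h2 : (0 : G ⟶ ω) = φ₀ := huniq 0 (fun x => by
        rw [LinearMap.zero_apply]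
        have h3 := Groth.Agent.ProjDual.hmap_zero' (M := G) (N := ω) n x
        exact (h3 ▸ (map_zero t)).symm)
      rw [h1, ← h2]
    · intro ψ
      obtain ⟨φ, hφ, -⟩ := hdual G hG ψ
      exact ⟨φ, hφ⟩
  exact Groth.Agent.Lib.CMDualH4.ext_subsingleton_iff N k ι hι n hn hCM ω hω t hdual' F hF i hi

end Groth.Agent.S10951
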