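import Groth.Statements.S10953
import Mathlib
-- import your own Groth.Agent.* helpers here

set_option autoImplicit false
universe u
open RedSep
open CategoryTheory Limits AlgebraicGeometry

namespace Groth.Agent.S10953

open AlgebraicGeometry CategoryTheory in
/-- For a morphism of schemes f : X → S to an affine scheme S such that any two points of X with the
same image in S lie in one common affine open subset of X, the morphism f is separated. -/
theorem result {X S : Scheme.{u}} [IsAffine S] (f : X ⟶ S)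
    (h : ∀ x y : X, f x = f y → ∃ U : X.Opens, IsAffineOpen U ∧ x ∈ U ∧ y ∈ U) :
    IsSeparated f := by
  classical
  constructor
  let 𝒰 : S.OpenCover := Scheme.coverOfIsIso (𝟙 S)
  have h𝒰 : ∀ i, IsAffine (𝒰.X i) := fun _ => ‹IsAffine S›
  let 𝒲 : X.OpenCover := X.openCoverOfIsOpenCover (fun U : X.affineOpens => (U : X.Opens))
    (iSup_affineOpens_eq_top X)
  have h𝒲 : ∀ j, IsAffine (𝒲.X j) := fun j => j.2
  have hiso : ∀ i : (𝒰.pullback₁ f).I₀, IsIso (pullback.fst f (𝒰.f i)) := fun i => by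
    have : IsIso (𝒰.f i) := (inferInstance : IsIso (𝟙 S))
    infer_instance
  let 𝒱 : ∀ i, ((𝒰.pullback₁ f).X i).OpenCover :=
    fun i => 𝒲.pushforwardIso (@inv _ _ _ _ (pullback.fst f (𝒰.f i)) (hiso i))
  have h𝒱 : ∀ i j, IsAffine ((𝒱 i).X j) := fun i j => h𝒲 j
  have htop : Scheme.Pullback.diagonalCoverDiagonalRange f 𝒰 𝒱 = ⊤ := by
    rw [← top_le_iff]
    rintro z -
    have H : f (pullback.fst f f z) = f (pullback.snd f f z) := by
      rw [← Scheme.Hom.comp_apply, ← Scheme.Hom.comp_apply, pullback.condition]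
    obtain ⟨U, hU, hxU, hyU⟩ := h _ _ H
    rw [Scheme.Pullback.diagonalCoverDiagonalRange]
    let j : 𝒲.I₀ := ⟨U, hU⟩
    refine TopologicalSpace.Opens.mem_iSup.2 ⟨⟨⟨⟩, j⟩, ?_⟩
    show z ∈ Set.range _
    simp_rw [Scheme.Pullback.diagonalCover_map]
    have hcomp : (𝒱 PUnit.unit).f j ≫ pullback.fst f (𝒰.f PUnit.unit) = U.ι := by
      show (𝒲.f j ≫ inv (pullback.fst f (𝒰.f PUnit.unit))) ≫ pullback.fst f (𝒰.f PUnit.unit) = U.ι
      rw [Category.assoc, IsIso.inv_hom_id, Category.comp_id]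
      rfl
    refine (Set.ext_iff.1 (AlgebraicGeometry.Scheme.Pullback.range_map _ _ _ _ _ _ _ _ _) z).2
      ⟨⟨⟨_, hxU⟩, ?_⟩, ⟨⟨_, hyU⟩, ?_⟩⟩
    · rw [hcomp]; rfl
    · rw [hcomp]; rfl
  refine IsZariskiLocalAtTarget.of_iSup_eq_top (fun i : PUnit.{0} ↦ ⊤) (by simp) fun _ ↦ ?_
  rw [← htop]
  exact isClosedImmersion_diagonal_restrict_diagonalCoverDiagonalRange f 𝒰 𝒱

end Groth.Agent.S10953
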