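import Groth.Statements.S10954
import Groth.Agent.Lib.SerreCrit3_helper9

set_option autoImplicit false
universe u
open Coherent

namespace Groth.Agent.S10954

open AlgebraicGeometry CategoryTheory CategoryTheory.Limits Opposite in
/-- Let X be a quasi-compact scheme such that, for every short exact sequence 0 → F' → F → F'' → 0 of
quasi-coherent O_X-modules whose first term F' admits a monomorphism into a finite direct sum of
copies of O_X, taking global sections gives a surjection F(X) → F''(X). Then X is affine. (The
published statement is an equivalence of three conditions on a quasi-compact scheme; this row states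
the implication from exactness of global sections on such sequences to affineness.) -/
theorem result (X : Scheme.{u}) [CompactSpace X]
    (h : ∀ (S : ShortComplex X.Modules) (n : ℕ)
      (j : S.X₁ ⟶ ∏ᶜ (fun _ : Fin n => Coh.structureModule X)),
      S.ShortExact → Mono j → Coh.IsQCoh S.X₁ → Coh.IsQCoh S.X₂ → Coh.IsQCoh S.X₃ →
        Function.Surjective (S.g.val.app (op ⊤)).hom) :
    IsAffine X := by
  have hmono : ∀ n : ℕ, ∃ m : SerreCrit.Orec X n ⟶ ∏ᶜ (fun _ : Fin n => Coh.structureModule X),
      Mono m := by
    intro n
    induction n with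
    | zero =>
      refine ⟨0, ?_⟩
      apply Preadditive.mono_of_cancel_zero
      intro T t _
      exact (isZero_zero X.Modules).eq_of_tgt _ _
    | succ n ih =>
      obtain ⟨m, hm⟩ := ih
      haveI := hm
      obtain ⟨L, hL⟩ : ∃ L : SerreCrit.OO X ⊞ SerreCrit.Orec X n ⟶
          ∏ᶜ (fun _ : Fin (n + 1) => Coh.structureModule X),
          L = Pi.lift (fun k : Fin (n + 1) =>
            Fin.cases (motive := fun _ =>
              (SerreCrit.OO X ⊞ SerreCrit.Orec X n ⟶ Coh.structureModule X))
            biprod.fst (fun k' => biprod.snd ≫ m ≫ Pi.π _ k') k) := ⟨_, rfl⟩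
      have hL0 : L ≫ Pi.π (fun _ : Fin (n + 1) => Coh.structureModule X) 0 = biprod.fst := by
        rw [hL, Pi.lift_π]
        rfl
      have hLs : ∀ k' : Fin n, L ≫ Pi.π (fun _ : Fin (n + 1) => Coh.structureModule X) k'.succ =
          biprod.snd ≫ m ≫ Pi.π _ k' := by
        intro k'
        rw [hL, Pi.lift_π]
        rfl
      suffices hLm : Mono L from ⟨L, hLm⟩
      apply Preadditive.mono_of_cancel_zero
      intro T t ht
      have h0 : t ≫ biprod.fst = 0 := by
        rw [← hL0, ← Category.assoc, ht, zero_comp]
      have h1 : (t ≫ biprod.snd) ≫ m = 0 := by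
        apply Pi.hom_ext
        intro k'
        rw [zero_comp, Category.assoc, Category.assoc, ← hLs k', ← Category.assoc, ht, zero_comp]
      have h2 : t ≫ biprod.snd = 0 := by
        rw [← cancel_mono m, h1, zero_comp]
      apply biprod.hom_ext
      · exact h0.trans zero_comp.symm
      · exact h2.trans zero_comp.symm
  apply SerreCrit.isAffine_of_surjHyp
  intro n S hS h1 h2 ⟨i, hi⟩ c
  obtain ⟨m, hm⟩ := hmono n
  haveI := hS.mono_f
  haveI := hi
  haveI := hm
  have h3 : S.X₃.IsQuasicoherent := SubExt.isQuasicoherent_X₃ S hS
  exact h S n (S.f ≫ i ≫ m) hS (mono_comp _ _) h1 h2 h3 c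

end Groth.Agent.S10954
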