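import Groth.Statements.S10956
import Groth.Agent.Lib.KaehlerTensor_helper3
-- import your own Groth.Agent.* helpers here

set_option autoImplicit false
universe u
open scoped TensorProduct

open CAlg

namespace Groth.Agent.S10956

/-- Let R be a commutative ring, A and B commutative R-algebras and T = A ⊗_R B, an A-algebra through
the left factor. There is a T-linear map r from Ω_{T/R} to T ⊗_A Ω_{A/R} sending d(a ⊗ b) to (1 ⊗ b)
⊗ da for all a in A and b in B, and together with the canonical map Ω_{T/R} → Ω_{T/A} it identifies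
Ω_{T/R} with the product (T ⊗_A Ω_{A/R}) × Ω_{T/A}. (The published statement is the isomorphism of
(Ω_{A/R} ⊗_R B) ⊕ (A ⊗_R Ω_{B/R}) with Ω_{T/R} matching the exterior differentials; it is stated
here through the canonical identifications T ⊗_A Ω_{A/R} = Ω_{A/R} ⊗_R B and Ω_{T/A} = A ⊗_R
Ω_{B/R}.) -/
theorem result (R A B : Type u) [CommRing R] [CommRing A] [CommRing B]
    [Algebra R A] [Algebra R B] :
    ∃ r : Ω[(A ⊗[R] B)⁄R] →ₗ[A ⊗[R] B] ((A ⊗[R] B) ⊗[A] Ω[A⁄R]),
      (∀ (a : A) (b : B), r (KaehlerDifferential.D R (A ⊗[R] B) (a ⊗ₜ[R] b)) =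
          ((1 : A) ⊗ₜ[R] b) ⊗ₜ[A] KaehlerDifferential.D R A a) ∧
        Function.Bijective (fun ω : Ω[(A ⊗[R] B)⁄R] =>
          (r ω, KaehlerDifferential.map R A (A ⊗[R] B) (A ⊗[R] B) ω)) := by
  classical
  have hretr := Groth.Agent.Lib.KaehlerTensor_helper3.retr_mapBaseChange R A B
  refine ⟨Groth.Agent.Lib.KaehlerTensor_helper3.retr R A B,
    Groth.Agent.Lib.KaehlerTensor_helper3.retr_D_tmul R A B, ?_, ?_⟩
  · intro ω₁ ω₂ h
    simp only [Prod.mk.injEq] at h
    obtain ⟨h1, h2⟩ := h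
    have h3 : KaehlerDifferential.map R A (A ⊗[R] B) (A ⊗[R] B) (ω₁ - ω₂) = 0 := by
      rw [map_sub, h2, sub_self]
    obtain ⟨z, hz⟩ := (KaehlerDifferential.exact_mapBaseChange_map R A (A ⊗[R] B) (ω₁ - ω₂)).1 h3
    have h4 : Groth.Agent.Lib.KaehlerTensor_helper3.retr R A B (ω₁ - ω₂) = 0 := by
      rw [map_sub, h1, sub_self]
    rw [← hz, hretr] at h4
    rw [h4, map_zero] at hz
    exact sub_eq_zero.1 hz.symm
  · rintro ⟨z, η⟩
    obtain ⟨ω₀, hω₀⟩ := KaehlerDifferential.map_surjective R A (A ⊗[R] B) η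
    refine ⟨ω₀ + KaehlerDifferential.mapBaseChange R A (A ⊗[R] B)
      (z - Groth.Agent.Lib.KaehlerTensor_helper3.retr R A B ω₀), ?_⟩
    have h0 : KaehlerDifferential.map R A (A ⊗[R] B) (A ⊗[R] B)
        (KaehlerDifferential.mapBaseChange R A (A ⊗[R] B)
          (z - Groth.Agent.Lib.KaehlerTensor_helper3.retr R A B ω₀)) = 0 :=
      (KaehlerDifferential.exact_mapBaseChange_map R A (A ⊗[R] B) _).2 ⟨_, rfl⟩
    simp only [map_add, hretr, hω₀, h0, add_zero, add_sub_cancel]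

end Groth.Agent.S10956
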