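import Groth.Statements.S10957
import Mathlib

set_option autoImplicit false
universe u
open CAlg

namespace Groth.Agent.S10957

/-- Let A be a Noetherian local integral domain that is normal (integrally closed in its field of
fractions). If there is a nonzero element a of A such that the maximal ideal of A is an associated
prime of the A-module A/(a), then A is a discrete valuation ring. (The other conditions listed in
the published result — normal of dimension one, maximal ideal nonzero principal, regular of
dimension one — are the library's standard characterisations; this row records the criterion through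
an associated prime.) -/
theorem result
    (A : Type u) [CommRing A] [IsDomain A] [IsNoetherianRing A] [IsLocalRing A] [IsIntegrallyClosed A]
    (a : A) (ha : a ≠ 0)
    (hass : IsLocalRing.maximalIdeal A ∈ associatedPrimes A (A ⧸ Ideal.span ({a} : Set A))) :
    IsDiscreteValuationRing A := by
  classical
  obtain ⟨hprime, bq, hbq⟩ := isAssociatedPrime_iff.mp hass
  obtain ⟨b, rfl⟩ := Ideal.Quotient.mk_surjective bq
  have hmem : ∀ r : A, r ∈ IsLocalRing.maximalIdeal A ↔ a ∣ r * b := by
    intro r
    rw [hbq, Submodule.mem_colon_singleton, Submodule.mem_bot]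
    have h1 : r • (Ideal.Quotient.mk (Ideal.span ({a} : Set A)) b) =
        Ideal.Quotient.mk (Ideal.span ({a} : Set A)) (r * b) := rfl
    rw [h1, Ideal.Quotient.eq_zero_iff_mem, Ideal.mem_span_singleton]
  have ham : a ∈ IsLocalRing.maximalIdeal A := (hmem a).mpr ⟨b, rfl⟩
  have hmtop : (1 : A) ∉ IsLocalRing.maximalIdeal A := fun h1 =>
    (IsLocalRing.maximalIdeal.isMaximal A).ne_top ((Ideal.eq_top_iff_one _).mpr h1)
  have hab : ¬ a ∣ b := by
    intro hd
    apply hmtop
    rw [hmem, one_mul]; exact hd
  have hb0 : b ≠ 0 := by
    rintro rfl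
    exact hab (dvd_zero a)
  have hnf : ¬ IsField A := by
    rw [IsLocalRing.isField_iff_maximalIdeal_eq]
    intro hbot
    rw [hbot, Ideal.mem_bot] at ham
    exact ha ham
  by_cases H : ∀ r ∈ IsLocalRing.maximalIdeal A, ∀ c, r * b = a * c →
      c ∈ IsLocalRing.maximalIdeal A
  · exfalso
    let K := FractionRing A
    have haK : algebraMap A K a ≠ 0 := by
      intro h0
      exact ha ((IsFractionRing.injective A K) (by rw [h0, map_zero]))
    let x : K := algebraMap A K b / algebraMap A K a
    let N : Submodule A K := Submodule.map (Algebra.linearMap A K) (IsLocalRing.maximalIdeal A)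
    have hN_ne : N ≠ ⊥ := by
      rw [Submodule.ne_bot_iff]
      exact ⟨algebraMap A K a, ⟨a, ham, rfl⟩, haK⟩
    have hN_fg : N.FG := (IsNoetherian.noetherian (IsLocalRing.maximalIdeal A)).map _
    have hx : ∀ n ∈ N, x • n ∈ N := by
      rintro _ ⟨r, hr, rfl⟩
      obtain ⟨c, hc⟩ := (hmem r).mp hr
      refine ⟨c, H r hr c hc, ?_⟩
      show algebraMap A K c = x • algebraMap A K r
      have hc' : algebraMap A K r * algebraMap A K b = algebraMap A K a * algebraMap A K c := by
        rw [← map_mul, ← map_mul, hc]
      show algebraMap A K c = (algebraMap A K b / algebraMap A K a) * algebraMap A K r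
      rw [div_mul_eq_mul_div, eq_div_iff haK, mul_comm (algebraMap A K b), hc', mul_comm]
    have hint : IsIntegral A x := isIntegral_of_smul_mem_submodule N hN_ne hN_fg x hx
    obtain ⟨y, hy⟩ := IsIntegrallyClosed.isIntegral_iff.mp hint
    apply hab
    refine ⟨y, ?_⟩
    apply IsFractionRing.injective A K
    rw [map_mul, hy]
    show algebraMap A K b = algebraMap A K a * (algebraMap A K b / algebraMap A K a)
    rw [mul_div_cancel₀ _ haK]
  · push Not at H
    obtain ⟨r, hr, c, hc, hcm⟩ := H
    have hcu : IsUnit c := IsLocalRing.notMem_maximalIdeal.mp hcm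
    obtain ⟨d, hd⟩ := hcu.exists_right_inv
    have htm : r * d ∈ IsLocalRing.maximalIdeal A := Ideal.mul_mem_right _ _ hr
    have htb : (r * d) * b = a := by
      calc (r * d) * b = (r * b) * d := by ring
        _ = a * (c * d) := by rw [hc]; ring
        _ = a := by rw [hd, mul_one]
    have hmeq : IsLocalRing.maximalIdeal A = Ideal.span {r * d} := by
      apply le_antisymm
      · intro r' hr'
        obtain ⟨c', hc'⟩ := (hmem r').mp hr'
        rw [Ideal.mem_span_singleton]
        refine ⟨c', ?_⟩
        apply mul_right_cancel₀ hb0
        rw [hc', ← htb]; ring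
      · rw [Ideal.span_le]
        intro y hy
        rw [Set.mem_singleton_iff] at hy
        rw [hy]; exact htm
    have hprinc : (IsLocalRing.maximalIdeal A).IsPrincipal := ⟨⟨r * d, hmeq⟩⟩
    exact ((IsDiscreteValuationRing.TFAE A hnf).out 0 4).mpr hprinc

end Groth.Agent.S10957
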