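import Groth.Statements.S10962
import Mathlib
import Groth.Agent.Lib.ProjTens1_helper9
import Groth.Agent.Lib.ProjCech3_helper9
import Groth.Agent.Lib.Tens29_helper8
import Groth.Agent.Lib.GG3_helper8
import Groth.Agent.Lib.Tens30_helper8
import Groth.Agent.Lib.NegPow_helper5
import Groth.Agent.Lib.IntSpec1_helper5
import Groth.Agent.Lib.ProjTwAmple2_helper5
import Groth.Agent.Lib.Tens45_helper8
import Groth.Agent.Lib.FLF6_helper8

set_option autoImplicit false
universe u
open CategoryTheory CategoryTheory.Limits AlgebraicGeometry TopologicalSpace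
open SDiv

namespace Groth.Agent.S10962

/-- Let R be a nonzero ring and n ≥ 1, and let X be projective n-space over R. For an integer d, the
Serre twist O_X(d) is ample if and only if d > 0. (Ample is taken in the sense that X is
quasi-compact and covered by the affine open non-vanishing loci X_s of global sections s of positive
tensor powers; for the quasi-compact separated scheme X this agrees with the definition through
finitely many generating sections with quasi-affine non-vanishing loci. The published remark also
asserts that O_X(d) is very ample relative to R for d > 0; that clause is not part of this row.) -/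
theorem result (R : Type u) [CommRing R] [Nontrivial R] (n : ℕ) (hn : 1 ≤ n) (d : ℤ) :
    CohB1.IsAmple (Twist.twistProjSpace n R d) ↔ 0 < d := by
  classical
  have hcov := Groth.Agent.ProjTens.hcov' n R
  haveI : CompactSpace (CohB1.ProjSpace n R) :=
    (Groth.Agent.ProjTw.isAmple_twist_one (CohB1.polyGrading n R) _
      (Groth.Agent.ProjFin.hs1_X n R) (Groth.Agent.ProjFin.hcov_X n R)).2.1
  haveI : QuasiSeparatedSpace (CohB1.ProjSpace n R) := by
    unfold CohB1.ProjSpace
    infer_instance
  constructor
  · intro hamp
    by_contra hd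
    have hd' : d ≤ 0 := not_lt.mp hd
    -- a point of `P^n_R`
    obtain ⟨x⟩ : Nonempty (CohB1.ProjSpace n R) := by
      by_contra hne
      rw [not_nonempty_iff] at hne
      have h1mem : (1 : MvPolynomial (Fin (n + 1)) R) ∈ CohB1.polyGrading n R 0 :=
        SetLike.GradedOne.one_mem
      have h1 : Groth.Agent.ProjCech.glob (n := n) (R := R) 0 ⟨1, h1mem⟩ =
          Groth.Agent.ProjCech.glob 0 0 := by
        apply Groth.Agent.ProjCech.ext_val
        intro x
        exact (hne.false x.1).elim
      have h2 := Groth.Agent.ProjCech.glob_injective 0 h1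
      have h3 : (1 : MvPolynomial (Fin (n + 1)) R) = 0 := congrArg Subtype.val h2
      exact one_ne_zero h3
    -- global generation of `O(-1) ⊗ L^N`
    have hF : PicF.IsInvertible (Twist.twistProjSpace n R (-1)) :=
      Groth.Agent.ProjTw.isInvertible_twist _ hcov (-1)
    have hFc : Coh.IsCoh (Twist.twistProjSpace n R (-1)) := by
      have hflf := TensH8.isFinLocFree_of_isInvertible hF
      haveI := FLFH8.isQuasicoherent_of_finLocFree _ hflf
      haveI := FLFH8.isFinitePresentation_of_finLocFree _ hflf
      exact ⟨inferInstance, inferInstance⟩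
    obtain ⟨n₀, hn₀⟩ := TensH8.exists_isGloballyGenerated_twist hamp
      (Twist.twistProjSpace n R (-1)) hFc
    have hG := hn₀ n₀ le_rfl
    -- identify the module
    have hpow : ∀ k : ℕ, Nonempty (CohB1.tensorPow (Twist.twistProjSpace n R d) k ≅
        Twist.twistProjSpace n R (d * k)) := by
      intro k
      induction k with
      | zero =>
        obtain ⟨e0⟩ := Groth.Agent.ProjTens.twist_zero n R
        obtain ⟨e1⟩ := Groth.Agent.ProjTens.twist_congr n R (a := 0) (b := d * ((0 : ℕ) : ℤ))
          (by simp)
        exact ⟨e0.symm ≪≫ e1⟩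
      | succ k ih =>
        obtain ⟨e⟩ := ih
        obtain ⟨e1⟩ := Groth.Agent.ProjTens.twist_add' n R (d * k) d (d * ((k + 1 : ℕ) : ℤ))
          (by push_cast; ring)
        exact ⟨Groth.Agent.TensInv.mapR e _ ≪≫ e1⟩
    obtain ⟨e⟩ := hpow n₀
    obtain ⟨e1⟩ := Groth.Agent.ProjTens.twist_add' n R (-1) (d * n₀) (-1 + d * n₀) rfl
    let α : CohB1.tensorMod (Twist.twistProjSpace n R (-1))
        (CohB1.tensorPow (Twist.twistProjSpace n R d) n₀) ≅
        Twist.twistProjSpace n R (-1 + d * n₀) :=
      Groth.Agent.TensInv.mapL _ e ≪≫ e1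
    have hM : PicF.IsInvertible (CohB1.tensorMod (Twist.twistProjSpace n R (-1))
        (CohB1.tensorPow (Twist.twistProjSpace n R d) n₀)) :=
      TensH8.isInvertible_tensorMod hF (TensH8.isInvertible_tensorPow hamp.1 n₀)
    obtain ⟨t, ht⟩ := GGH8.exists_hom_mem_genLocus hM hG x
    -- sections vanish
    have hneg : -1 + d * (n₀ : ℤ) < 0 := by
      have : d * (n₀ : ℤ) ≤ 0 := mul_nonpos_of_nonpos_of_nonneg hd' (Int.natCast_nonneg _)
      omega
    haveI hsub : Subsingleton (Coh.HH (CohB1.ProjSpace n R)
        (Twist.twistProjSpace n R (-1 + d * n₀)) 0) :=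
      Groth.Agent.ProjCech.subsingleton_HH_twist (n := n) (R := R) (-1 + d * n₀) 0
        (fun h => by omega) (fun h => by omega)
    haveI hsub' : Subsingleton (Coh.HH (CohB1.ProjSpace n R)
        (CohB1.tensorMod (Twist.twistProjSpace n R (-1))
          (CohB1.tensorPow (Twist.twistProjSpace n R d) n₀)) 0) :=
      Groth.Agent.ProjCech.subsingleton_HH_of_iso α 0
    have ht0 : t = 0 := by
      apply TensH8.hom_ext_of_val
      have hs : ∀ a b : Γ(CohB1.tensorMod (Twist.twistProjSpace n R (-1))
          (CohB1.tensorPow (Twist.twistProjSpace n R d) n₀), ⊤), a = b := fun a b =>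
        (Groth.Agent.NegPow.h0 (CohB1.tensorMod (Twist.twistProjSpace n R (-1))
          (CohB1.tensorPow (Twist.twistProjSpace n R d) n₀))).symm.injective
          (Subsingleton.elim _ _)
      exact hs _ _
    rw [ht0, Groth.Agent.IntSpec.genLocus_zero hM (TensH8.Frame.ofIso (Iso.refl _))] at ht
    exact ht
  · intro hd
    obtain ⟨k, rfl⟩ : ∃ k : ℕ, d = (k : ℤ) := ⟨d.toNat, (Int.toNat_of_nonneg hd.le).symm⟩
    haveI : CompactSpace (Proj (CohB1.polyGrading n R)) :=
      (Groth.Agent.ProjTw.isAmple_twist_one (CohB1.polyGrading n R) _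
        (Groth.Agent.ProjFin.hs1_X n R) (Groth.Agent.ProjFin.hcov_X n R)).2.1
    exact Groth.Agent.ProjTw.isAmple_twist_pos (CohB1.polyGrading n R) hcov k (by exact_mod_cast hd)

end Groth.Agent.S10962
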