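import Groth.Statements.S10963
import Mathlib
import Groth.Agent.Lib.CocycMod2_helper5

set_option autoImplicit false
universe u
open CategoryTheory AlgebraicGeometry TopologicalSpace Opposite
open PicF

namespace Groth.Agent.S10963

/-- Let X be a scheme, (U_i)_{i ∈ ι} an open cover of X and, for all i, j, a unit η_ij of the ring of
functions on U_i ∩ U_j, such that on every triple intersection U_i ∩ U_j ∩ U_k the cocycle identity
η_ik = η_ij · η_jk holds. Then there exist an invertible O_X-module L and sections s_i of L over U_i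
such that each s_i generates L over U_i — for every open V ⊆ U_i the map r ↦ r · s_i|_V from
functions on V to sections of L over V is bijective — and s_i|_{U_i ∩ U_j} = η_ij · s_j|_{U_i ∩ U_j}
for all i, j. (This is the surjectivity of the map from invertible modules trivialised by the cover
to Čech 1-cohomology classes of the cover with values in the sheaf of units.) -/
theorem result (X : Scheme.{u}) {ι : Type u} (U : ι → X.Opens)
    (hU : iSup U = ⊤) (η : ∀ i j : ι, (Γ(X, U i ⊓ U j))ˣ)
    (hη : ∀ i j k : ι,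
      X.presheaf.map (homOfLE (inf_le_inf_right (U k) inf_le_left : U i ⊓ U j ⊓ U k ≤ U i ⊓ U k)).op
          (η i k : Γ(X, U i ⊓ U k)) =
        X.presheaf.map (homOfLE (inf_le_left : U i ⊓ U j ⊓ U k ≤ U i ⊓ U j)).op (η i j : Γ(X, U i ⊓ U j)) *
          X.presheaf.map (homOfLE (inf_le_inf_right (U k) inf_le_right : U i ⊓ U j ⊓ U k ≤ U j ⊓ U k)).op
            (η j k : Γ(X, U j ⊓ U k))) :
    ∃ (L : X.Modules) (s : ∀ i : ι, Γ(L, U i)),
      PicF.IsInvertible L ∧
      (∀ (i : ι) (V : X.Opens) (h : V ≤ U i),
        Function.Bijective (fun r : Γ(X, V) => r • L.presheaf.map (homOfLE h).op (s i))) ∧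
      ∀ i j : ι, L.presheaf.map (homOfLE (inf_le_left : U i ⊓ U j ≤ U i)).op (s i) =
        (η i j : Γ(X, U i ⊓ U j)) • L.presheaf.map (homOfLE (inf_le_right : U i ⊓ U j ≤ U j)).op (s j) := by
  have hx : ∀ x : X, ∃ i, x ∈ U i := fun x =>
    Opens.mem_iSup.mp (show x ∈ iSup U by rw [hU]; trivial)
  choose c hc using hx
  have hη' : Groth.Agent.CocycMod.Cocycle U η := hη
  refine ⟨Groth.Agent.CocycMod.L U η c hc hη', Groth.Agent.CocycMod.sec U η c hc hη',
    Groth.Agent.CocycMod.isInvertible_L U η c hc hη' hU, ?_, ?_⟩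
  · intro i V h
    have hg := Groth.Agent.CocycMod.isGen_sec U η c hc hη' i V h
    constructor
    · intro r r' hrr
      have h1 : (r - r') • QcqsLoc.rF (Groth.Agent.CocycMod.L U η c hc hη') h
          (Groth.Agent.CocycMod.sec U η c hc hη' i) = 0 := by
        rw [sub_smul]
        exact sub_eq_zero.mpr hrr
      exact sub_eq_zero.mp (hg.2 _ h1)
    · intro l
      obtain ⟨r, hr⟩ := hg.1 l
      exact ⟨r, hr.symm⟩
  · intro i j
    exact Groth.Agent.CocycMod.rF_sec U η c hc hη' i j

end Groth.Agent.S10963
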