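import Groth.Statements.S10964
import Mathlib
import Groth.Agent.Lib.CocycIso_helper9

set_option autoImplicit false
universe u
open CategoryTheory AlgebraicGeometry TopologicalSpace Opposite
open PicF

namespace Groth.Agent.S10964

/-- Let X be a scheme with an open cover (U_i)_{i ∈ ι}. Let L and L' be O_X-modules with sections s_i of
L and s'_i of L' over U_i that generate there (for every open V ⊆ U_i, r ↦ r · s_i|_V is a bijection
from functions on V onto sections of L over V, and likewise for s'_i), and let η_ij, η'_ij be the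
functions on U_i ∩ U_j with s_i = η_ij · s_j and s'_i = η'_ij · s'_j there. Then L and L' are
isomorphic as O_X-modules if and only if there is a family of units u_i of the rings of functions on
the U_i with η'_ij · u_i|_{U_i ∩ U_j} = u_j|_{U_i ∩ U_j} · η_ij for all i, j. (So two invertible
modules trivialised by the cover are isomorphic exactly when their transition cocycles define the
same Čech cohomology class.) -/
theorem result (X : Scheme.{u}) {ι : Type u} (U : ι → X.Opens)
    (hU : iSup U = ⊤) (L L' : X.Modules) (s : ∀ i : ι, Γ(L, U i)) (s' : ∀ i : ι, Γ(L', U i))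
    (hs : ∀ (i : ι) (V : X.Opens) (h : V ≤ U i),
        Function.Bijective (fun r : Γ(X, V) => r • L.presheaf.map (homOfLE h).op (s i)))
    (hs' : ∀ (i : ι) (V : X.Opens) (h : V ≤ U i),
        Function.Bijective (fun r : Γ(X, V) => r • L'.presheaf.map (homOfLE h).op (s' i)))
    (η η' : ∀ i j : ι, Γ(X, U i ⊓ U j))
    (hη : ∀ i j : ι, L.presheaf.map (homOfLE (inf_le_left : U i ⊓ U j ≤ U i)).op (s i) =
        η i j • L.presheaf.map (homOfLE (inf_le_right : U i ⊓ U j ≤ U j)).op (s j))
    (hη' : ∀ i j : ι, L'.presheaf.map (homOfLE (inf_le_left : U i ⊓ U j ≤ U i)).op (s' i) =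
        η' i j • L'.presheaf.map (homOfLE (inf_le_right : U i ⊓ U j ≤ U j)).op (s' j)) :
    Nonempty (L ≅ L') ↔ ∃ u : ∀ i : ι, (Γ(X, U i))ˣ, ∀ i j : ι,
      η' i j * X.presheaf.map (homOfLE (inf_le_left : U i ⊓ U j ≤ U i)).op (u i : Γ(X, U i)) =
        X.presheaf.map (homOfLE (inf_le_right : U i ⊓ U j ≤ U j)).op (u j : Γ(X, U j)) * η i j := by
  have hgen : ∀ (M : X.Modules) (t : ∀ i : ι, Γ(M, U i)),
      (∀ (i : ι) (V : X.Opens) (h : V ≤ U i),
        Function.Bijective (fun r : Γ(X, V) => r • M.presheaf.map (homOfLE h).op (t i))) →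
      ∀ i, GenLocH8.IsGen M (U i) (t i) := by
    intro M t ht i O hO
    obtain ⟨hinj, hsurj⟩ := ht i O hO
    constructor
    · intro l
      obtain ⟨c, hc⟩ := hsurj l
      exact ⟨c, hc.symm⟩
    · intro c hc
      apply hinj
      show c • M.presheaf.map (homOfLE hO).op (t i) = (0 : Γ(X, O)) • M.presheaf.map (homOfLE hO).op (t i)
      rw [zero_smul]
      exact hc
  have hg := hgen L s hs
  have hg' := hgen L' s' hs'
  constructor
  · rintro ⟨e⟩
    have hc : ∀ i, ∃ c : Γ(X, U i), QCohExtn.ap e.hom (U i) (s i) = c • s' i := fun i =>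
      (hg' i).exists_coef _
    choose c hc using hc
    have hcu : ∀ i, IsUnit (c i) := fun i => by
      have h1 := TensH8.isGen_of_iso e (hg i)
      rw [hc i] at h1
      exact TensH8.isUnit_of_isGen_smul (hg' i) h1
    refine ⟨fun i => (hcu i).unit, fun i j => ?_⟩
    have hl : U i ⊓ U j ≤ U i := inf_le_left
    have hr : U i ⊓ U j ≤ U j := inf_le_right
    show η' i j * QcqsLoc.rX hl (c i) = QcqsLoc.rX hr (c j) * η i j
    apply TensH8.IsGen.coef_ext ((hg' j).res hr)
    have h1 : QCohExtn.ap e.hom (U i ⊓ U j) (QcqsLoc.rF L hl (s i)) =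
        QcqsLoc.rX hl (c i) • QcqsLoc.rF L' hl (s' i) := by
      rw [QCohExtn.ap_rF, hc i, QcqsLoc.rF_smul]
    have h2 : QCohExtn.ap e.hom (U i ⊓ U j) (QcqsLoc.rF L hr (s j)) =
        QcqsLoc.rX hr (c j) • QcqsLoc.rF L' hr (s' j) := by
      rw [QCohExtn.ap_rF, hc j, QcqsLoc.rF_smul]
    have h3 : QcqsLoc.rF L hl (s i) = η i j • QcqsLoc.rF L hr (s j) := hη i j
    have h4 : QcqsLoc.rF L' hl (s' i) = η' i j • QcqsLoc.rF L' hr (s' j) := hη' i j
    rw [h3, QCohExtn.ap_smul, h2, h4, ← mul_smul, ← mul_smul] at h1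
    rw [mul_comm (η' i j), mul_comm (QcqsLoc.rX hr (c j))]
    exact h1.symm
  · rintro ⟨u, hu⟩
    exact CocycIsoH9.nonempty_iso (u := fun i => ((u i : (Γ(X, U i))ˣ) : Γ(X, U i))) hU hg
      (fun i j => hη i j) (fun i j => hη' i j) (fun i j => hu i j) hg' (fun i => (u i).isUnit)

end Groth.Agent.S10964
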