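import Groth.Statements.S10967
import Groth.Agent.Lib.QAff_helper3
-- import your own Groth.Agent.* helpers here

set_option autoImplicit false
universe u
open CategoryTheory AlgebraicGeometry TopologicalSpace
open AlgebraicGeometry
open MoreMor

namespace Groth.Agent.S10967

/-- Quasi-affine over an affine base: call a morphism f : X → Y quasi-affine when Y has a cover by
affine opens V_i whose preimages f⁻¹(V_i) are quasi-affine schemes (quasi-compact open subschemes of
affine schemes; equivalently quasi-compact with X → Spec Γ(X, O_X) an immersion). If Y is affine and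
f is quasi-affine in this sense, then X is a quasi-affine scheme. -/
theorem result {X Y : Scheme.{u}} [IsAffine Y]
    (f : X ⟶ Y) {ι : Type u} (V : ι → Y.Opens) (hV : iSup V = ⊤) (hVa : ∀ i, IsAffineOpen (V i))
    (hq : ∀ i, Scheme.IsQuasiAffine (↑(f ⁻¹ᵁ V i) : Scheme.{u})) :
    X.IsQuasiAffine := by
  classical
  -- Step 1: X is quasi-compact
  haveI : CompactSpace X := by
    have hYc : IsCompact (Set.univ : Set Y) := isCompact_univ
    obtain ⟨t, ht⟩ := hYc.elim_finite_subcover (fun i => ((V i : Y.Opens) : Set Y))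
      (fun i => (V i).2) (by
        intro y _
        have : y ∈ (iSup V : Y.Opens) := by rw [hV]; trivial
        obtain ⟨i, hi⟩ := TopologicalSpace.Opens.mem_iSup.1 this
        exact Set.mem_iUnion.2 ⟨i, hi⟩)
    refine ⟨?_⟩
    have hcov : (Set.univ : Set X) = ⋃ i ∈ t, ((f ⁻¹ᵁ V i : X.Opens) : Set X) := by
      ext x
      simp only [Set.mem_univ, Set.mem_iUnion, true_iff]
      have := ht (Set.mem_univ (f x))
      simp only [Set.mem_iUnion] at this
      obtain ⟨i, hi, hxi⟩ := this
      exact ⟨i, hi, hxi⟩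
    rw [hcov]
    refine t.isCompact_biUnion fun i _ => ?_
    haveI := hq i
    exact isCompact_iff_compactSpace.mpr (inferInstance : CompactSpace (↑(f ⁻¹ᵁ V i) : Scheme.{u}))
  -- Step 2: local criterion
  refine Groth.Agent.Lib.QAff_helper3.isQuasiAffine_of_forall_exists_basicOpen X fun x => ?_
  have hx : f x ∈ (iSup V : Y.Opens) := by rw [hV]; trivial
  obtain ⟨i, hi⟩ := TopologicalSpace.Opens.mem_iSup.1 hx
  obtain ⟨_, ⟨_, ⟨h, rfl⟩, rfl⟩, hxh, hhV⟩ :=
    (isBasis_basicOpen Y).exists_subset_of_mem_open hi (V i).2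
  refine ⟨f.appTop h, ?_, ?_⟩
  · rw [← Scheme.preimage_basicOpen_top]; exact hxh
  · set W : X.Opens := f ⁻¹ᵁ V i with hW
    haveI : (W : Scheme.{u}).IsQuasiAffine := hq i
    set s := f.appTop h with hs
    have hle : X.basicOpen s ≤ W := by
      rw [hs, ← Scheme.preimage_basicOpen_top]
      exact fun y hy => hhV hy
    let U' : (W : Scheme.{u}).Opens := (W : Scheme.{u}).basicOpen (W.ι.appTop s)
    haveI : (U' : Scheme.{u}).IsQuasiAffine :=
      Scheme.IsQuasiAffine.of_isAffineHom ((W : Scheme.{u}).basicOpen (W.ι.appTop s)).ι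
    have himg : W.ι ''ᵁ U' = X.basicOpen s := by
      show W.ι ''ᵁ ((W : Scheme.{u}).basicOpen (W.ι.appTop s)) = X.basicOpen s
      rw [← Scheme.preimage_basicOpen_top, Scheme.Hom.image_preimage_eq_opensRange_inf,
        Scheme.Opens.opensRange_ι]
      exact inf_eq_right.2 hle
    rw [← himg]
    exact Scheme.IsQuasiAffine.of_isAffineHom (W.ι.isoImage U').inv

end Groth.Agent.S10967
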