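import Groth.Statements.S11011
import Mathlib
import Groth.Agent.Lib.FunFldPInsep_helper2

set_option autoImplicit false
universe u v
open FunFld

namespace Groth.Agent.S11011

open FunFld


/-- For a place `P` of a geometric function field of one variable `K/k` and a finite extension `k'/k`
with either `k'/k` or `F_P/k` purely inseparable, `P` has exactly one place of `k' ⊗_k K` above it. -/
theorem result (k k' : Type u) (K K' : Type v) [Field k] [Field k'] [Field K] [Field K']
    [Algebra k k'] [FiniteDimensional k k'] [Algebra k K] [Algebra K K'] [Algebra k' K'] [Algebra k K']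
    [IsScalarTower k k' K'] [IsScalarTower k K K']
    (h : Function.Bijective (Algebra.TensorProduct.productMap
      (IsScalarTower.toAlgHom k k' K') (IsScalarTower.toAlgHom k K K')))
    (hK : FunFld.IsFunctionField k K) (hg : FunFld.IsGeometric k K) (P : FunFld.Place k K)
    (hpi : IsPurelyInseparable k k' ∨ IsPurelyInseparable k (IsLocalRing.ResidueField P.O)) :
    ∃! Q : FunFld.Place k K', FunFld.IsOver Q P := by
  classical
  haveI : FiniteDimensional K K' := finiteDimensional_constExt h
  obtain ⟨Q, hQ⟩ := exists_isOver_above (K' := K') hK P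
  refine ⟨Q, hQ, fun Q' hQ' => ?_⟩
  rcases hpi with hpi | hpi
  · haveI := hpi
    refine unique_isOver_of_lin h P (ringExpChar k) ⊥ 1 1 ?_ ?_ ?_ Q' Q hQ' hQ
    · intro s hs
      obtain ⟨d, rfl⟩ := Algebra.mem_bot.mp hs
      refine ⟨fun _ => d, ?_⟩
      rw [Finset.sum_range_one, pow_zero, Algebra.smul_def, mul_one]
    · intro c
      obtain ⟨m, hm⟩ := IsPurelyInseparable.pow_mem k (ringExpChar k) c
      exact ⟨m, Algebra.mem_bot.mpr hm⟩
    · intro Q₀ e hQ₀ hα p hp0 hdeg hev
      have hnat : p.natDegree < 1 := (Polynomial.natDegree_lt_iff_degree_lt hp0).mpr hdeg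
      have hC := Polynomial.eq_C_of_natDegree_eq_zero (Nat.lt_one_iff.mp hnat)
      rw [hC, Polynomial.eval₂_C] at hev
      have hc0 : p.coeff 0 = 0 := hQ₀.resMap_injective (hev.trans (map_zero _).symm)
      apply hp0
      rw [hC, hc0, Polynomial.C_0]
  · haveI := hpi
    obtain ⟨a, ha⟩ := Field.exists_primitive_element k (separableClosure k k')
    have haS : IntermediateField.adjoin k {(a : k')} = separableClosure k k' := by
      have := congrArg (IntermediateField.map (separableClosure k k').val) ha
      rwa [IntermediateField.adjoin_map, Set.image_singleton, ← AlgHom.fieldRange_eq_map,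
        IntermediateField.fieldRange_val] at this
    have hsep : IsSeparable k (a : k') := a.2
    have haint : IsIntegral k (a : k') := hsep.isIntegral
    refine unique_isOver_of_lin h P (ringExpChar k) (separableClosure k k').toSubalgebra (a : k')
      (minpoly k (a : k')).natDegree ?_ ?_ ?_ Q' Q hQ' hQ
    · intro s hs
      have hs' : s ∈ (IntermediateField.adjoin k {(a : k')}).toSubalgebra := by
        rw [haS]
        exact hs
      rw [IntermediateField.adjoin_simple_toSubalgebra_of_isAlgebraic haint.isAlgebraic,
        Algebra.adjoin_singleton_eq_range_aeval] at hs'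
      obtain ⟨f, rfl⟩ := hs'
      refine ⟨fun i => (f %ₘ minpoly k (a : k')).coeff i, ?_⟩
      rw [← Polynomial.aeval_eq_sum_range' (Polynomial.natDegree_modByMonic_lt f
        (minpoly.monic haint) (minpoly.ne_one k (a : k')))]
      exact (Polynomial.aeval_modByMonic_eq_self_of_root (minpoly.aeval k (a : k'))).symm
    · intro c
      haveI : ExpChar (separableClosure k k') (ringExpChar k) :=
        expChar_of_injective_algebraMap (algebraMap k (separableClosure k k')).injective _
      obtain ⟨m, s, hs⟩ := IsPurelyInseparable.pow_mem (separableClosure k k') (ringExpChar k) c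
      exact ⟨m, hs ▸ s.2⟩
    · intro Q₀ e hQ₀ hα p hp0 hdeg
      exact hQ₀.eval₂_residue_ne_zero (a : k') hsep hα p hp0 hdeg

end Groth.Agent.S11011
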