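import Groth.Statements.S11017
import Mathlib

set_option autoImplicit false
open FunFld

namespace Groth.Agent.S11017

/-- For a Weil differential `ω` with divisor `C`, `ord_P [ω] ≥ e` iff `ω` kills every repartition
concentrated at `P` with `P`-component of order at least `-e`. -/
theorem result (k K : Type*) [Field k] [Field K] [Algebra k K] (ω : Module.Dual k (FunFld.adele k K)) (C : FunFld.Divisor k K) (hω : FunFld.IsDivOf ω C)
    (P : FunFld.Place k K) (e : ℤ) :
    e ≤ C P ↔ ∀ (a : FunFld.Place k K → K) (ha : a ∈ FunFld.adele k K),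
      (∀ Q, Q ≠ P → a Q = 0) → P.1 (a P) ≤ WithZero.exp e → ω ⟨a, ha⟩ = 0 := by
  classical
  have hωC : ∀ a ∈ FunFld.ADK C, ω a = 0 := fun a ha =>
    (Submodule.mem_dualAnnihilator ω).mp ((hω C).mpr le_rfl) a ha
  constructor
  · intro he a ha hconc hval
    apply hωC
    show a ∈ FunFld.AD C ⊔ LinearMap.range (FunFld.diag k K)
    refine Submodule.mem_sup_left ?_
    intro Q
    by_cases hQ : Q = P
    · rw [hQ]
      exact hval.trans (WithZero.exp_le_exp.mpr he)
    · rw [hconc Q hQ, map_zero]
      exact zero_le'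
  · intro h
    by_contra hlt
    rw [not_le] at hlt
    set E : FunFld.Divisor k K := C + Finsupp.single P (e - C P) with hE
    have hEP : E P = e := by
      rw [hE, Finsupp.add_apply, Finsupp.single_eq_same]; ring
    have hEQ : ∀ Q, Q ≠ P → E Q = C Q := by
      intro Q hQ
      rw [hE, Finsupp.add_apply, Finsupp.single_apply, if_neg (Ne.symm hQ), add_zero]
    have hωE : ω ∈ FunFld.WD E := by
      show ω ∈ (FunFld.ADK E).dualAnnihilator
      rw [Submodule.mem_dualAnnihilator]
      intro a ha
      have ha' : (a : FunFld.Place k K → K) ∈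
          FunFld.AD E ⊔ LinearMap.range (FunFld.diag k K) := ha
      obtain ⟨b, hb, c, ⟨y, rfl⟩, hbc⟩ := Submodule.mem_sup.mp ha'
      set b2 : FunFld.Place k K → K := fun Q => if Q = P then b P else 0 with hb2
      have hb2P : b2 P = b P := if_pos rfl
      have hb2Q : ∀ Q, Q ≠ P → b2 Q = 0 := fun Q hQ => if_neg hQ
      have hb2ad : b2 ∈ FunFld.adele k K := by
        show ∀ᶠ Q : FunFld.Place k K in Filter.cofinite, Q.1 (b2 Q) ≤ 1
        rw [Filter.eventually_cofinite]
        refine (Set.finite_singleton P).subset ?_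
        intro Q hQ
        by_contra hne
        apply hQ
        rw [hb2Q Q hne, map_zero]
        exact zero_le'
      have h1 : ω ⟨b2, hb2ad⟩ = 0 := by
        apply h b2 hb2ad hb2Q
        rw [hb2P, ← hEP]
        exact hb P
      have hrem : (a - ⟨b2, hb2ad⟩ : FunFld.adele k K) ∈ FunFld.ADK C := by
        show ((a : FunFld.Place k K → K) - b2) ∈
          FunFld.AD C ⊔ LinearMap.range (FunFld.diag k K)
        rw [← hbc]
        have e1 : b + FunFld.diag k K y - b2 = (b - b2) + FunFld.diag k K y := by abel
        rw [e1]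
        refine Submodule.add_mem_sup ?_ ⟨y, rfl⟩
        intro Q
        show Q.1 (b Q - b2 Q) ≤ WithZero.exp (C Q)
        by_cases hQ : Q = P
        · rw [hQ, hb2P, sub_self, map_zero]
          exact zero_le'
        · rw [hb2Q Q hQ, sub_zero, ← hEQ Q hQ]
          exact hb Q
      have h2 := hωC _ hrem
      have e2 : a = (a - ⟨b2, hb2ad⟩) + ⟨b2, hb2ad⟩ := (sub_add_cancel _ _).symm
      rw [e2, map_add, h2, h1, add_zero]
    have hle := (hω E).mp hωE
    have h3 := hle P
    rw [hEP] at h3
    exact absurd h3 (not_le.mpr hlt)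

end Groth.Agent.S11017
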