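import Groth.Statements.S11028
import Mathlib
import Groth.Agent.Lib.FunFldAS_helper2

set_option autoImplicit false
open FunFld

namespace Groth.Agent.S11028

/-- For `k` perfect of characteristic `2` and `K = k(x, y)` with `y² + y = f(x)`, all poles of `f` of
odd order `2d_i - 1` at places `p_i` of `k(x)`, the genus of `K` is `-1 + ∑ d_i deg p_i`. -/
theorem result (k K : Type*) [Field k] [Field K] [PerfectField k] (h2 : ringChar k = 2) [Algebra k K]
    [Algebra (RatFunc k) K] [IsScalarTower k (RatFunc k) K] (hK : FunFld.IsFunctionField k K)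
    (hdeg : Module.finrank (RatFunc k) K = 2) (y : K) (hy : y ∉ Set.range (algebraMap (RatFunc k) K))
    (f : RatFunc k) (heq : y ^ 2 + y = algebraMap (RatFunc k) K f)
    (hodd : ∀ P : FunFld.Place k (RatFunc k), FunFld.div k f P < 0 → Odd (FunFld.div k f P)) :
    (FunFld.genus k K : ℤ) = -1 + ∑ P ∈ (FunFld.div k f).support with FunFld.div k f P < 0,
      (1 - FunFld.div k f P) / 2 * (P.deg : ℤ) := by
  classical
  have h2k : (2 : k) = 0 := by
    haveI : CharP k 2 := ringChar.of_eq h2
    exact_mod_cast CharP.cast_eq_zero k 2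
  have hKr := FunFld.isFunctionField_ratFunc (k := k)
  have hyr : y ∉ (algebraMap (RatFunc k) K).range := fun ⟨a, ha⟩ => hy ⟨a, ha⟩
  have hdiv : ∀ P : FunFld.Place k (RatFunc k), FunFld.div k f P = P.ord f :=
    fun P => FunFld.div_apply hKr f P
  let A : FunFld.Divisor k (RatFunc k) := Finsupp.onFinset (FunFld.div k f).support
    (fun P => if FunFld.div k f P < 0 then (1 - FunFld.div k f P) / 2 else 0)
    (fun P hP => by
      rw [Finsupp.mem_support_iff]
      intro h0
      apply hP
      rw [h0]
      simp)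
  have hAapp : ∀ P, A P = if FunFld.div k f P < 0 then (1 - FunFld.div k f P) / 2 else 0 :=
    fun P => Finsupp.onFinset_apply
  have hA : ∀ p : FunFld.Place k (RatFunc k), p.ord f < 0 →
      p.ord f = 1 - 2 * A p ∧ 1 ≤ A p := by
    intro p hp
    have hodd' := hodd p (by rw [hdiv]; exact hp)
    rw [hdiv] at hodd'
    rw [hAapp, hdiv, if_pos hp]
    obtain ⟨m, hm⟩ := hodd'
    constructor <;> omega
  have hA0 : ∀ p : FunFld.Place k (RatFunc k), 0 ≤ p.ord f → A p = 0 := by
    intro p hp
    rw [hAapp, hdiv, if_neg (not_lt.mpr hp)]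
  have hg := FunFld.as_genus h2k hK hdeg hyr heq A hA hA0
  rw [hg]
  have hdegA : FunFld.Divisor.deg A = ∑ P ∈ (FunFld.div k f).support with FunFld.div k f P < 0,
      (1 - FunFld.div k f P) / 2 * (P.deg : ℤ) := by
    unfold FunFld.Divisor.deg
    rw [Finsupp.onFinset_sum _ (fun P => zero_mul _), Finset.sum_filter]
    refine Finset.sum_congr rfl (fun P _ => ?_)
    split_ifs <;> simp
  rw [hdegA]
  ring

end Groth.Agent.S11028
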