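import Groth.Statements.S11043
import Mathlib

set_option autoImplicit false
open FunFld

namespace Groth.Agent.S11043

/-- For positive integers `n`, `d` with `e = gcd(n, d)`, in `ℂ[t]` one has `(1 - t^{nd/e})^e = ∏_{θⁿ =
1} (1 - (θ t)^d)`, the product over the complex `n`-th roots of unity. -/
theorem result (n d : ℕ) (hn : 0 < n) (hd : 0 < d) :
    ((1 : Polynomial ℂ) - Polynomial.X ^ (n * d / Nat.gcd n d)) ^ Nat.gcd n d =
      ∏ θ ∈ Polynomial.nthRootsFinset n (1 : ℂ),
        (1 - Polynomial.C (θ ^ d) * Polynomial.X ^ d) := by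
  classical
  have hper : ∀ (g : ℕ → ℂ) (m e : ℕ), (∀ j, g (j + m) = g j) →
      ∏ j ∈ Finset.range (m * e), g j = (∏ j ∈ Finset.range m, g j) ^ e := by
    intro g m e hg
    have hper : ∀ b j, g (m * b + j) = g j := by
      intro b
      induction b with
      | zero => intro j; simp
      | succ b ih =>
        intro j
        rw [Nat.mul_succ, add_assoc, add_comm m j, ← add_assoc, hg, ih]
    induction e with
    | zero => simp
    | succ e ih =>
      rw [Nat.mul_succ, Finset.prod_range_add, ih, pow_succ]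
      congr 1
      exact Finset.prod_congr rfl (fun j _ => hper e j)
  have hbij : ∀ {ζ : ℂ} {n : ℕ}, 0 < n → IsPrimitiveRoot ζ n → ∀ f : ℂ → ℂ,
      ∏ θ ∈ Polynomial.nthRootsFinset n (1 : ℂ), f θ = ∏ j ∈ Finset.range n, f (ζ ^ j) := by
    intro ζ n hn hζ f
    haveI : NeZero n := ⟨hn.ne'⟩
    symm
    apply Finset.prod_bij (fun j _ => ζ ^ j)
    · intro j _
      rw [Polynomial.mem_nthRootsFinset hn, ← pow_mul, mul_comm, pow_mul, hζ.pow_eq_one, one_pow]
    · intro i hi j hj h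
      exact hζ.pow_inj (Finset.mem_range.mp hi) (Finset.mem_range.mp hj) h
    · intro θ hθ
      rw [Polynomial.mem_nthRootsFinset hn] at hθ
      obtain ⟨i, hi, rfl⟩ := hζ.eq_pow_of_pow_eq_one hθ
      exact ⟨i, Finset.mem_range.mpr hi, rfl⟩
    · intro j _
      rfl
  obtain ⟨e, he_def⟩ : ∃ e, e = Nat.gcd n d := ⟨_, rfl⟩
  rw [← he_def]
  have he : 0 < e := he_def ▸ Nat.gcd_pos_of_pos_left _ hn
  obtain ⟨m, hm⟩ : ∃ m, n = m * e :=
    ⟨n / e, (Nat.div_mul_cancel (he_def ▸ Nat.gcd_dvd_left n d)).symm⟩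
  have hm0 : 0 < m := by
    rcases Nat.eq_zero_or_pos m with h | h
    · rw [h, zero_mul] at hm
      omega
    · exact h
  obtain ⟨ζ, hζ⟩ : ∃ ζ : ℂ, IsPrimitiveRoot ζ n := ⟨_, Complex.isPrimitiveRoot_exp n hn.ne'⟩
  have hω : IsPrimitiveRoot (ζ ^ d) m := by
    have h1 := IsPrimitiveRoot.orderOf (ζ ^ d)
    rw [orderOf_pow' _ hd.ne', ← hζ.eq_orderOf, ← he_def] at h1
    have h2 : n / e = m := by rw [hm]; exact Nat.mul_div_cancel m he
    rwa [h2] at h1
  apply Polynomial.funext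
  intro t
  rw [Polynomial.eval_pow, Polynomial.eval_sub, Polynomial.eval_one, Polynomial.eval_pow,
    Polynomial.eval_X, Polynomial.eval_prod]
  simp only [Polynomial.eval_sub, Polynomial.eval_one, Polynomial.eval_mul, Polynomial.eval_C,
    Polynomial.eval_pow, Polynomial.eval_X]
  rw [hbij hn hζ (fun θ => 1 - θ ^ d * t ^ d)]
  have h1 : ∀ j, (ζ ^ j) ^ d = (ζ ^ d) ^ j := fun j => by
    rw [← pow_mul, ← pow_mul, mul_comm]
  simp only [h1]
  have hn' : Finset.range n = Finset.range (m * e) := by rw [hm]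
  rw [hn', hper (fun j => 1 - (ζ ^ d) ^ j * t ^ d) m e (fun j => by
    rw [pow_add, hω.pow_eq_one, mul_one])]
  rw [← hbij hm0 hω (fun η => 1 - η * t ^ d), ← hω.pow_sub_pow_eq_prod_sub_mul 1 (t ^ d) hm0,
    one_pow, ← pow_mul]
  have h2 : n * d / e = d * m := by
    rw [hm, mul_right_comm, Nat.mul_div_cancel _ he, mul_comm]
  rw [h2]

end Groth.Agent.S11043
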