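import Groth.Statements.S11049
import Mathlib

set_option autoImplicit false
open CAlg

namespace Groth.Agent.S11049

/-- For `k`-algebras `S ⊆ R` with `R` an integral domain and a nonzero `x ∈ S`, if `R/S` and `R/Rx` are
finite-dimensional over `k` then `dim_k R/Rx = dim_k S/Sx`. (The published statement allows `x = 0`;
then `R` is a field finite over `k` and the two sides are `dim_k R` and `dim_k S`, which differ for
`S = k ⊊ R`; the published proof multiplies by `x` as an injection, so `x ≠ 0` is assumed here.) -/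
theorem result
    (k R : Type*) [Field k] [CommRing R]
    [IsDomain R] [Algebra k R] (S : Subalgebra k R) (x : S) (hx : (x : R) ≠ 0)
    [Module.Finite k (R ⧸ Subalgebra.toSubmodule S)]
    [Module.Finite k (R ⧸ Ideal.span {(x : R)})] :
    Module.finrank k (R ⧸ Ideal.span {(x : R)}) = Module.finrank k (S ⧸ Ideal.span {x}) := by
  classical
  let Sm : Submodule k R := Subalgebra.toSubmodule S
  let xR : Submodule k R := (Ideal.span {(x : R)}).restrictScalars k
  let mx : R →ₗ[k] R := LinearMap.mulLeft k (x : R)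
  let xS : Submodule k R := Sm.map mx
  have hxS_le_xR : xS ≤ xR := by
    rintro _ ⟨s, hs, rfl⟩
    show (x : R) * s ∈ Ideal.span {(x : R)}
    exact Ideal.mul_mem_right _ _ (Ideal.subset_span rfl)
  have hxS_le_Sm : xS ≤ Sm := by
    rintro _ ⟨s, hs, rfl⟩
    exact S.mul_mem x.2 hs
  let N1 : Submodule k (R ⧸ xS) := xR.map xS.mkQ
  let N2 : Submodule k (R ⧸ xS) := Sm.map xS.mkQ
  let φ : R →ₗ[k] (R ⧸ xS) := xS.mkQ.comp mx
  have hφker : LinearMap.ker φ = Sm := by
    ext r
    simp only [φ, LinearMap.mem_ker, LinearMap.comp_apply, Submodule.mkQ_apply,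
      Submodule.Quotient.mk_eq_zero]
    constructor
    · rintro ⟨s, hs, hsr⟩
      have hsr' : (x : R) * s = (x : R) * r := hsr
      have : s = r := mul_left_cancel₀ hx hsr'
      rw [← this]; exact hs
    · intro hr; exact ⟨r, hr, rfl⟩
  have hmxrange : LinearMap.range mx = xR := by
    ext r
    constructor
    · rintro ⟨t, rfl⟩
      show (x : R) * t ∈ Ideal.span {(x : R)}
      exact Ideal.mul_mem_right _ _ (Ideal.subset_span rfl)
    · intro hr
      have hr' : r ∈ Ideal.span {(x : R)} := hr
      obtain ⟨t, ht⟩ := Ideal.mem_span_singleton'.mp hr'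
      exact ⟨t, by show (x : R) * t = r; rw [mul_comm]; exact ht⟩
  have hφrange : LinearMap.range φ = N1 := by
    show LinearMap.range (xS.mkQ.comp mx) = _
    rw [LinearMap.range_comp, hmxrange]
  let e1 : (R ⧸ Sm) ≃ₗ[k] N1 :=
    (Submodule.quotEquivOfEq _ _ hφker.symm).trans
      (φ.quotKerEquivRange.trans (LinearEquiv.ofEq _ _ hφrange))
  let ψ : S →ₗ[k] (R ⧸ xS) := xS.mkQ.comp S.val.toLinearMap
  have hψker : LinearMap.ker ψ = (Ideal.span {x}).restrictScalars k := by
    ext s
    simp only [ψ, LinearMap.mem_ker, LinearMap.comp_apply, Submodule.mkQ_apply,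
      Submodule.Quotient.mk_eq_zero, Submodule.restrictScalars_mem]
    rw [Ideal.mem_span_singleton']
    constructor
    · rintro ⟨t, ht, hts⟩
      refine ⟨⟨t, ht⟩, ?_⟩
      apply Subtype.ext
      show t * (x : R) = (s : R)
      rw [mul_comm]; exact hts
    · rintro ⟨t, hts⟩
      refine ⟨(t : R), t.2, ?_⟩
      show (x : R) * (t : R) = (s : R)
      rw [← hts, mul_comm]; rfl
  have hvalrange : LinearMap.range S.val.toLinearMap = Sm := by
    ext r
    constructor
    · rintro ⟨s, rfl⟩; exact s.2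
    · intro hr; exact ⟨⟨r, hr⟩, rfl⟩
  have hψrange : LinearMap.range ψ = N2 := by
    show LinearMap.range (xS.mkQ.comp S.val.toLinearMap) = _
    rw [LinearMap.range_comp, hvalrange]
  let e2 : (S ⧸ Ideal.span {x}) ≃ₗ[k] N2 :=
    (Submodule.Quotient.restrictScalarsEquiv k (Ideal.span {x})).symm.trans
      ((Submodule.quotEquivOfEq _ _ hψker.symm).trans
        (ψ.quotKerEquivRange.trans (LinearEquiv.ofEq _ _ hψrange)))
  let e3 : ((R ⧸ xS) ⧸ N1) ≃ₗ[k] (R ⧸ Ideal.span {(x : R)}) :=
    (Submodule.quotientQuotientEquivQuotient xS xR hxS_le_xR).trans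
      (Submodule.Quotient.restrictScalarsEquiv k (Ideal.span {(x : R)}))
  let e4 : ((R ⧸ xS) ⧸ N2) ≃ₗ[k] (R ⧸ Sm) :=
    Submodule.quotientQuotientEquivQuotient xS Sm hxS_le_Sm
  haveI : Module.Finite k N1 := Module.Finite.equiv e1
  haveI : Module.Finite k ((R ⧸ xS) ⧸ N1) := Module.Finite.equiv e3.symm
  haveI : Module.Finite k (R ⧸ xS) := Module.Finite.of_submodule_quotient N1
  have r1 := Submodule.finrank_quotient_add_finrank N1
  have r2 := Submodule.finrank_quotient_add_finrank N2
  rw [LinearEquiv.finrank_eq e3, ← LinearEquiv.finrank_eq e1] at r1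
  rw [LinearEquiv.finrank_eq e4, ← LinearEquiv.finrank_eq e2] at r2
  omega

end Groth.Agent.S11049
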