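import Groth.Statements.S11050
import Mathlib
import Groth.Agent.Lib.FunFldGeomC_helper2

set_option autoImplicit false
open FunFld

namespace Groth.Agent.S11050

/-- Over an algebraically closed constant field, let `W` be a finite-dimensional subspace of the
function field `K` containing `1` and generating `K` over `k` (the span of an effective birational
projective map). Then `W` contains a separating variable `x`, and for each separating `x ∈ W` some
`y ∈ W` gives `K = k(x, y)`. -/
theorem result
    (k K : Type*) [Field k] [IsAlgClosed k] [Field K] [Algebra k K]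
    (hK : FunFld.IsFunctionField k K) (W : Submodule k K)
    [FiniteDimensional k W] (h1 : (1 : K) ∈ W)
    (hW : IntermediateField.adjoin k (W : Set K) = ⊤) :
    (∃ x ∈ W, Algebra.IsSeparable (IntermediateField.adjoin k ({x} : Set K)) K) ∧
    ∀ x ∈ W, Algebra.IsSeparable (IntermediateField.adjoin k ({x} : Set K)) K →
      ∃ y ∈ W, IntermediateField.adjoin k ({x, y} : Set K) = ⊤ := by
  classical
  haveI : PerfectField k := inferInstance
  have hg : FunFld.IsGeometric k K := FunFld.isGeometric_of_perfectField hK
  constructor
  · by_contra hno
    push Not at hno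
    have hD : ∀ x ∈ (W : Set K), KaehlerDifferential.D k K x = 0 := by
      intro x hx
      by_contra hne
      exact hno x hx (FunFld.isSeparable_of_D_ne_zero hK hg hne)
    obtain ⟨t, -, hsep⟩ := FunFld.exists_separating hK hg
    haveI := hsep
    apply FunFld.D_ne_zero_of_isSeparable hK t
    apply FunFld.derivation_eq_zero_on_adjoin _ _ hD
    rw [hW]
    trivial
  · intro x hxW hsep
    haveI := hsep
    have hDx : KaehlerDifferential.D k K x ≠ 0 := FunFld.D_ne_zero_of_isSeparable hK x
    have htr : Transcendental k x := by
      intro halg
      obtain ⟨c, rfl⟩ := hK.2 x halg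
      exact hDx (Derivation.map_algebraMap _ c)
    haveI : FiniteDimensional (IntermediateField.adjoin k ({x} : Set K)) K :=
      FunFld.finiteDimensional_of_transcendental hK htr
    haveI : Finite (IntermediateField (IntermediateField.adjoin k ({x} : Set K)) K) :=
      Field.finite_intermediateField_of_exists_primitive_element _ _
        (Field.exists_primitive_element (IntermediateField.adjoin k ({x} : Set K)) K)
    let p : {M : IntermediateField (IntermediateField.adjoin k ({x} : Set K)) K // M ≠ ⊤} →
        Subspace k W := fun M =>
      Submodule.comap W.subtype (Subalgebra.toSubmodule (M.1.restrictScalars k).toSubalgebra)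
    have hmem : ∀ M (w : W), w ∈ p M ↔ (w : K) ∈ M.1 := fun M w => Iff.rfl
    have hne : ∀ M, p M ≠ ⊤ := by
      intro M hM
      apply M.2
      have hWM : (W : Set K) ⊆ (M.1.restrictScalars k) := by
        intro w hw
        have h1 : (⟨w, hw⟩ : W) ∈ p M := by
          rw [hM]
          trivial
        exact (hmem M _).1 h1
      have h2 := IntermediateField.adjoin_le_iff.2 hWM
      rw [hW] at h2
      rw [_root_.eq_top_iff]
      intro z _
      exact h2 (show z ∈ (⊤ : IntermediateField k K) from trivial)
    have hcov : ⋃ M, (p M : Set W) ≠ Set.univ := by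
      intro hc
      obtain ⟨M, hM⟩ := Subspace.exists_eq_top_of_iUnion_eq_univ hc
      exact hne M hM
    obtain ⟨y, hy⟩ : ∃ y : W, y ∉ ⋃ M, (p M : Set W) := by
      by_contra hno
      push Not at hno
      exact hcov (Set.eq_univ_of_forall hno)
    refine ⟨y, y.2, ?_⟩
    have htop : IntermediateField.adjoin (IntermediateField.adjoin k ({x} : Set K))
        ({(y : K)} : Set K) = ⊤ := by
      by_contra hnt
      apply hy
      rw [Set.mem_iUnion]
      exact ⟨⟨_, hnt⟩, (hmem _ y).2 (IntermediateField.mem_adjoin_simple_self _ _)⟩
    have h2 := IntermediateField.adjoin_adjoin_left k ({x} : Set K) ({(y : K)} : Set K)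
    rw [htop, IntermediateField.restrictScalars_top, Set.singleton_union] at h2
    exact h2.symm

end Groth.Agent.S11050
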