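import Groth.Statements.S11058
import Mathlib
import Groth.Agent.Lib.FunFldLocB_helper2

set_option autoImplicit false
open FunFld

namespace Groth.Agent.S11058

/-- Over an algebraically closed constant field, a birational projective map `φ = (φ₀, …, φₙ)` (the
ratios `φᵢ/φ₀` generate `K` over `k`) is nonsingular at all but finitely many places. Here a
projective map is nonsingular at a place when its local ring there (quotients of polynomials over
`k` in the ratios `φᵢ/φⱼ`, `φⱼ` of least order at the place, with denominator a unit there) is the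
whole valuation ring. -/
theorem result
    (k K : Type*) [Field k] [IsAlgClosed k] [Field K] [Algebra k K]
    (hK : FunFld.IsFunctionField k K) {n : ℕ} (hn : 1 ≤ n) (φ : Fin (n + 1) → K)
    (hφ : LinearIndependent k φ)
    (hbir : IntermediateField.adjoin k (Set.range fun i => φ i / φ 0) = ⊤) :
    {P : FunFld.Place k K | ¬ FunFld.IsNonsingularAt φ P}.Finite := by
  classical
  have h0 : φ 0 ≠ 0 := hφ.ne_zero 0
  obtain ⟨ψ, hψdef⟩ : ∃ ψ : Fin (n + 1) → K, ψ = fun i => φ i / φ 0 := ⟨_, rfl⟩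
  have hψ0' : ψ 0 = 1 := by rw [hψdef]; exact div_self h0
  have hψ : LinearIndependent k ψ := by rw [hψdef]; exact linearIndependent_div φ hφ 0
  have hψ0 : ∀ i, ψ i ≠ 0 := fun i => hψ.ne_zero i
  rw [← hψdef] at hbir
  obtain ⟨A, hA⟩ : ∃ A : Subalgebra k K, A = Algebra.adjoin k (Set.range ψ) := ⟨_, rfl⟩
  obtain ⟨D, hD⟩ : ∃ D : FunFld.Divisor k K, D = FunFld.mapDiv k ψ := ⟨_, rfl⟩
  have hDnn : 0 ≤ D := hD ▸ mapDiv_nonneg_of_one hK ψ 0 hψ0'
  have hDiff : ∀ Q : FunFld.Place k K, D Q = 0 ↔ ∀ i, Q.1 (ψ i) ≤ 1 := fun Q =>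
    hD ▸ mapDiv_eq_zero_iff_of_one hK ψ hψ0 0 hψ0' Q
  have hAint : ∀ Q : FunFld.Place k K, D Q = 0 → ∀ u ∈ A, Q.1 u ≤ 1 := fun Q hQ u hu =>
    val_le_one_of_mem_adjoin Q (by rintro _ ⟨i, rfl⟩; exact (hDiff Q).mp hQ i) (hA ▸ hu)
  have hdeg1 : 1 ≤ FunFld.Divisor.deg D := hD ▸ one_le_deg_mapDiv_of_one hK hn ψ hψ 0 hψ0'
  obtain ⟨m₀, hm₀⟩ := finiteness hK hn ψ hψ 0 hψ0'
  rw [← hD, ← hA] at hm₀
  haveI := finiteDimensional_L hK (m₀ • D)
  obtain ⟨S, hS⟩ :=
    (Module.Finite.iff_fg.mp (inferInstance : Module.Finite k (FunFld.L (m₀ • D))))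
  have hfrac : ∀ s : K, ∃ d ∈ A, d ≠ 0 ∧ d * s ∈ A := by
    intro s
    have hs : s ∈ IntermediateField.adjoin k (Set.range ψ) := by rw [hbir]; trivial
    obtain ⟨r, hr, d, hd, rfl⟩ := IntermediateField.mem_adjoin_iff_div.mp hs
    by_cases hd0 : d = 0
    · exact ⟨1, one_mem _, one_ne_zero, by rw [hd0, div_zero, mul_zero]; exact zero_mem _⟩
    · refine ⟨d, hA ▸ hd, hd0, ?_⟩
      have e : d * (r / d) = r := by field_simp
      rw [e]; exact hA ▸ hr
  choose df hdfA hdf0 hdfs using hfrac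
  obtain ⟨d₀, hd₀def⟩ : ∃ d₀ : K, d₀ = ∏ s ∈ S, df s := ⟨_, rfl⟩
  have hd₀A : d₀ ∈ A := by
    rw [hd₀def]; exact Subalgebra.prod_mem _ (fun s _ => hdfA s)
  have hd₀0 : d₀ ≠ 0 := by
    rw [hd₀def]; exact Finset.prod_ne_zero_iff.mpr (fun s _ => hdf0 s)
  have hd₀S : ∀ s ∈ S, d₀ * s ∈ A := by
    intro s hs
    have e : d₀ * s = (∏ x ∈ S.erase s, df x) * (df s * s) := by
      rw [hd₀def, ← Finset.mul_prod_erase S _ hs]; ring
    rw [e]
    exact mul_mem (Subalgebra.prod_mem _ (fun x _ => hdfA x)) (hdfs s)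
  have hd₀V : ∀ v ∈ FunFld.L (m₀ • D), d₀ * v ∈ A := by
    intro v hv
    rw [← hS] at hv
    induction hv using Submodule.span_induction with
    | mem x hx => exact hd₀S x hx
    | zero => rw [mul_zero]; exact zero_mem _
    | add x y _ _ hx hy => rw [mul_add]; exact add_mem hx hy
    | smul c x _ hx => rw [mul_smul_comm]; exact Subalgebra.smul_mem _ hx c
  have hd₀span : ∀ y ∈ Submodule.span A (FunFld.L (m₀ • D) : Set K), d₀ * y ∈ A := by
    intro y hy
    induction hy using Submodule.span_induction with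
    | mem x hx => exact hd₀V x hx
    | zero => rw [mul_zero]; exact zero_mem _
    | add x y _ _ hx hy => rw [mul_add]; exact add_mem hx hy
    | smul a x _ hx =>
      have e : d₀ * (a • x) = (a : K) * (d₀ * x) := by
        show d₀ * ((a : K) * x) = (a : K) * (d₀ * x); ring
      rw [e]; exact mul_mem a.2 hx
  have hbad : ({P : FunFld.Place k K | D P ≠ 0} ∪ {P | P.1 d₀ < 1}).Finite := by
    refine Set.Finite.union ?_ (finite_zeros' hK hd₀0)
    exact D.support.finite_toSet.subset (fun P hP => Finsupp.mem_support_iff.mpr hP)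
  refine hbad.subset ?_
  intro P hP
  by_contra hPbad
  apply hP
  rw [Set.mem_union, not_or] at hPbad
  obtain ⟨hDP', hd₀P'⟩ := hPbad
  have hDP : D P = 0 := by by_contra h; exact hDP' h
  have hd₀P : P.1 d₀ = 1 := le_antisymm (hAint P hDP d₀ hd₀A) (not_lt.mp hd₀P')
  have hleast : ∀ i, P.1 (φ i) ≤ P.1 (φ 0) := fun i =>
    val_le_of_val_div_le_one P h0 (by have h5 := (hDiff P).mp hDP i; rwa [hψdef] at h5)
  have hsep : ∀ Q : FunFld.Place k K, Q ≠ P → D Q = 0 → ∃ w ∈ A, P.1 w = 1 ∧ Q.1 w < 1 := by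
    intro Q hQP hDQ
    obtain ⟨g, hg⟩ : ∃ g : ℕ, g = FunFld.genus k K := ⟨_, rfl⟩
    have hG : 2 * (FunFld.genus k K : ℤ) ≤
        FunFld.Divisor.deg ((2 * g + 1) • D - Finsupp.single Q 1) := by
      rw [deg_sub, deg_nsmul, deg_single, Place.deg_eq_one hK Q, ← hg]
      push_cast
      have h6 : (2 * (g : ℤ) + 1) * 1 ≤ (2 * (g : ℤ) + 1) * FunFld.Divisor.deg D :=
        mul_le_mul_of_nonneg_left hdeg1 (by positivity)
      linarith
    obtain ⟨s, hsL, hs0, hsP⟩ := exists_mem_L_ord_eq hK hG {P}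
    have hsP' : P.ord s = 0 := by
      rw [hsP P (Finset.mem_singleton_self P), Finsupp.sub_apply, Finsupp.smul_apply, hDP,
        single_apply_ne hQP]
      simp
    have hsP1 : P.1 s = 1 := (P.ord_eq_zero_iff hs0).mp hsP'
    have hsQ : Q.1 s ≤ WithZero.exp (-1 : ℤ) := by
      have h7 := (mem_L.mp hsL) Q
      rwa [Finsupp.sub_apply, Finsupp.smul_apply, hDQ, Finsupp.single_eq_same, smul_zero,
        zero_sub] at h7
    have hsL' : s ∈ FunFld.L ((2 * g + 1) • D) := L_mono (by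
      intro Q'
      rw [Finsupp.sub_apply]
      have h8 := single_apply_nonneg (zero_le_one) Q Q'
      linarith) hsL
    refine ⟨d₀ * s, hd₀span _ (hm₀ _ _ hsL'), by rw [map_mul, hd₀P, hsP1, one_mul], ?_⟩
    rw [map_mul]
    calc Q.1 d₀ * Q.1 s ≤ 1 * WithZero.exp (-1 : ℤ) := mul_le_mul' (hAint Q hDQ d₀ hd₀A) hsQ
      _ = WithZero.exp (-1 : ℤ) := one_mul _
      _ < 1 := FunFld.exp_neg_one_lt_one
  intro z hz
  obtain ⟨w, hw, hw1, m, hm⟩ := exists_unit_mul_mem_L hK hDnn A hAint P hsep hz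
  have h1 : d₀ * (z * w) ∈ A := hd₀span _ (hm₀ m _ hm)
  refine ⟨0, h0, hleast, d₀ * (z * w), ?_, d₀ * w, ?_, ?_, by ring⟩
  · rw [← hψdef, ← hA]; exact h1
  · rw [← hψdef, ← hA]; exact mul_mem hd₀A hw
  · rw [map_mul, hd₀P, hw1, one_mul]

end Groth.Agent.S11058
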