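import Groth.Statements.S11065
import Mathlib
import Groth.Agent.Lib.FunFldLoc_helper2

set_option autoImplicit false
open FunFld

namespace Groth.Agent.S11065

/-- Over an algebraically closed constant field, a projective map `φ = (φ₀, …, φₙ)`, `n ≥ 1`, is
nonsingular at the place `P` if and only if its local ring at `P` lies in the valuation ring of no
place other than `P` and contains a local parameter at `P`. Here the local ring of a projective map
at a place consists of the quotients of polynomials over `k` in the ratios `φᵢ/φⱼ`, `φⱼ` of least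
order at the place, with denominator a unit there; the map is nonsingular at the place when this
ring is the whole valuation ring. (The published statement is for any projective map; the published
proof uses the finiteness property of the local ring that is established for birational maps, so `φ`
is taken birational here: the ratios `φᵢ/φ₀` generate `K` over `k`.) -/
theorem result
    (k K : Type*) [Field k] [IsAlgClosed k] [Field K] [Algebra k K]
    (hK : FunFld.IsFunctionField k K) {n : ℕ} (hn : 1 ≤ n)
    (φ : Fin (n + 1) → K) (hφ : LinearIndependent k φ)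
    (hbir : IntermediateField.adjoin k (Set.range fun i => φ i / φ 0) = ⊤) (P : FunFld.Place k K) :
    FunFld.IsNonsingularAt φ P ↔
      (∀ Q : FunFld.Place k K, (∀ z : K, FunFld.InLocRing φ P z → Q.1 z ≤ 1) → Q = P) ∧
        ∃ t : K, FunFld.InLocRing φ P t ∧ P.1 t = WithZero.exp (-1) := by
  constructor
  · intro hns
    refine ⟨fun Q hQ => ?_, ?_⟩
    · exact (FunFld.Place.eq_of_forall_le_one (fun a ha => hQ a (hns a ha))).symm
    · obtain ⟨t, ht⟩ := P.exists_uniformizer
      exact ⟨t, hns t (by rw [ht]; exact FunFld.exp_neg_one_lt_one.le), ht⟩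
  · rintro ⟨hfibre, t, htloc, htv⟩
    obtain ⟨j, _, hj⟩ := Finset.exists_max_image Finset.univ (fun i => P.1 (φ i))
      ⟨0, Finset.mem_univ 0⟩
    have hjP : ∀ i, P.1 (φ i) ≤ P.1 (φ j) := fun i => hj i (Finset.mem_univ i)
    have hj0 : φ j ≠ 0 := hφ.ne_zero j
    obtain ⟨ψ, hψdef⟩ : ∃ ψ : Fin (n + 1) → K, ψ = fun i => φ i / φ j := ⟨_, rfl⟩
    have hψj : ψ j = 1 := by rw [hψdef]; exact div_self hj0
    have hψ : LinearIndependent k ψ := by
      have h1 := hφ.map' (LinearMap.mulLeft k (φ j)⁻¹)
        (LinearMap.ker_eq_bot.mpr (mul_right_injective₀ (inv_ne_zero hj0)))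
      have e : ψ = (LinearMap.mulLeft k (φ j)⁻¹) ∘ φ := by
        rw [hψdef]
        funext i
        simp [div_eq_inv_mul]
      rw [e]; exact h1
    have hPψ : ∀ i, P.1 (ψ i) ≤ 1 := fun i => by
      rw [hψdef]; exact val_div_le_one P hj0 (hjP i)
    intro z hz
    rw [inLocRing_iff φ P j hj0 hjP]
    have hfib : ∀ Q : FunFld.Place k K, Q ≠ P → (∀ i, Q.1 (ψ i) ≤ 1) →
        ∃ w ∈ Algebra.adjoin k (Set.range ψ), P.1 w = 1 ∧ Q.1 w < 1 := by
      intro Q hQP hQψ
      have h1 : ¬ ∀ z : K, FunFld.InLocRing φ P z → Q.1 z ≤ 1 := fun h => hQP (hfibre Q h)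
      push Not at h1
      obtain ⟨y, hy, hyQ⟩ := h1
      rw [inLocRing_iff φ P j hj0 hjP, ← hψdef] at hy
      obtain ⟨u, hu, w, hw, hw1, h⟩ := hy
      have huQ : Q.1 u ≤ 1 :=
        val_le_one_of_mem_adjoin Q (by rintro _ ⟨i, rfl⟩; exact hQψ i) hu
      have hwQ : Q.1 w ≤ 1 :=
        val_le_one_of_mem_adjoin Q (by rintro _ ⟨i, rfl⟩; exact hQψ i) hw
      refine ⟨w, hw, hw1, lt_of_le_of_ne hwQ fun hw1Q => ?_⟩
      rw [← h, map_mul, hw1Q, mul_one] at huQ
      exact absurd huQ (not_le.mpr hyQ)
    have htloc' := (inLocRing_iff φ P j hj0 hjP t).mp htloc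
    rw [← hψdef] at htloc' ⊢
    exact locSub_eq_of_separated_of_uniformizer hK hn ψ hψ j hψj P hPψ hfib htloc' htv hz

end Groth.Agent.S11065
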