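import Groth.Statements.S11074
import Mathlib
import Groth.Agent.Lib.FunFldTan_helper2

set_option autoImplicit false
open FunFld

namespace Groth.Agent.S11074

/-- Over an algebraically closed constant field, at a nonsingular point `a = φ(P)` of a plane curve
`V(f)` with birational natural map `φ = (φ₀ : φ₁ : φ₂)`, the tangent line is `(∂f/∂X₀(a) : ∂f/∂X₁(a)
: ∂f/∂X₂(a))`: the corresponding linear form, pulled back along `φ` normalized at `P`, vanishes to
order at least `2` at `P` (the tangent line being the one line whose pullback vanishes to order `≥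
2`). Nonsingular at `P` means that the local ring of `φ` at `P` (quotients of polynomials over `k`
in the `φᵢ/φⱼ`, `φⱼ` of least order at `P`, denominator a unit at `P`) is the whole valuation ring. -/
theorem result
    (k K : Type*) [Field k] [IsAlgClosed k] [Field K] [Algebra k K]
    (hK : FunFld.IsFunctionField k K) (φ : Fin 3 → K) (hφ : LinearIndependent k φ)
    (hbir : IntermediateField.adjoin k (Set.range fun i => φ i / φ 0) = ⊤)
    (f : MvPolynomial (Fin 3) k) (hf : Irreducible f) (hhom : f.IsHomogeneous f.totalDegree)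
    (hfφ : MvPolynomial.aeval φ f = 0) (P : FunFld.Place k K) (j : Fin 3)
    (hj : ∀ i, P.1 (φ i) ≤ P.1 (φ j)) (hns : FunFld.IsNonsingularAt φ P) (a : Fin 3 → P.O)
    (ha : ∀ i, ((a i : P.O) : K) = φ i / φ j) (c : Fin 3 → k)
    (hc : ∀ i, algebraMap k (IsLocalRing.ResidueField P.O) (c i) =
      MvPolynomial.aeval (fun l => IsLocalRing.residue P.O (a l)) (MvPolynomial.pderiv i f)) :
    P.1 (∑ i, c i • (φ i / φ j)) ≤ WithZero.exp (-2) := by
  classical
  have hφj : φ j ≠ 0 := hφ.ne_zero j
  have hval : ∀ i, P.1 (φ i / φ j) ≤ 1 := fun i => by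
    rw [← ha i]
    exact (Valuation.mem_valuationSubring_iff P.1 _).mp (a i).2
  choose α hα using fun i => exists_sub_algebraMap_lt_one hK P (hval i)
  set ε : Fin 3 → K := fun i => φ i / φ j - algebraMap k K (α i) with hεdef
  have hε : ∀ i, P.1 (ε i) ≤ WithZero.exp (-1 : ℤ) := fun i =>
    (lt_one_iff_le_exp_neg_one _).mp (hα i)
  have hx : (fun i => algebraMap k K (α i) + ε i) = fun i => φ i / φ j := by
    funext i
    simp only [hεdef]
    ring
  -- residues
  have hres : ∀ l, IsLocalRing.residue P.O (a l) =
      algebraMap k (IsLocalRing.ResidueField P.O) (α l) := fun l =>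
    residue_eq_algebraMap_of_val_sub_lt P (a l) (α l) (by rw [ha l]; exact hα l)
  have hinj : Function.Injective (algebraMap k (IsLocalRing.ResidueField P.O)) :=
    (algebraMap k (IsLocalRing.ResidueField P.O)).injective
  have hc' : ∀ i, c i = MvPolynomial.eval α (MvPolynomial.pderiv i f) := by
    intro i
    apply hinj
    rw [hc i, MvPolynomial.eval₂_comp, MvPolynomial.aeval_def]
    congr 1
    funext l
    exact hres l
  -- f vanishes at the normalized point
  have hfa : MvPolynomial.aeval (fun i => φ i / φ j) f = 0 := by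
    have h1 : (fun i => φ i / φ j) = fun i => (φ j)⁻¹ * φ i := by
      funext i
      rw [div_eq_mul_inv, mul_comm]
    rw [h1, aeval_mul_of_isHomogeneous hhom, hfφ, mul_zero]
  have hT := taylor_two_pderiv P α ε hε f
  rw [hx, hfa, zero_sub] at hT
  have hL : P.1 (∑ i, algebraMap k K (MvPolynomial.eval α (MvPolynomial.pderiv i f)) * ε i)
      ≤ WithZero.exp (-1 : ℤ) := by
    refine P.1.map_sum_le (fun i _ => ?_)
    rw [map_mul]
    calc P.1 (algebraMap k K _) * P.1 (ε i) ≤ 1 * WithZero.exp (-1 : ℤ) :=
          mul_le_mul' (P.2.1 _) (hε i)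
      _ = WithZero.exp (-1 : ℤ) := one_mul _
  have h21 : WithZero.exp (-2 : ℤ) ≤ WithZero.exp (-1 : ℤ) := by
    rw [WithZero.exp_le_exp]; norm_num
  have hfα : MvPolynomial.eval α f = 0 := by
    by_contra hne
    have h1 : P.1 (algebraMap k K (MvPolynomial.eval α f)) = 1 := P.val_algebraMap hne
    have h2 : algebraMap k K (MvPolynomial.eval α f) =
        -(-algebraMap k K (MvPolynomial.eval α f)
          - ∑ i, algebraMap k K (MvPolynomial.eval α (MvPolynomial.pderiv i f)) * ε i)
        - ∑ i, algebraMap k K (MvPolynomial.eval α (MvPolynomial.pderiv i f)) * ε i := by ring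
    have h3 : P.1 (algebraMap k K (MvPolynomial.eval α f)) ≤ WithZero.exp (-1 : ℤ) := by
      rw [h2]
      refine (P.1.map_sub _ _).trans (max_le ?_ hL)
      rw [Valuation.map_neg]
      exact hT.trans h21
    rw [h1] at h3
    exact absurd h3 (not_le.mpr FunFld.exp_neg_one_lt_one)
  -- Euler
  have hE : ∑ i, α i * c i = 0 := by
    have h1 := congrArg (MvPolynomial.eval α) hhom.sum_X_mul_pderiv
    rw [map_sum] at h1
    simp only [map_mul, MvPolynomial.eval_X, map_nsmul, hfα, smul_zero] at h1
    rw [← h1]
    exact Finset.sum_congr rfl (fun i _ => by rw [hc' i])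
  have hfin : ∑ i, c i • (φ i / φ j) =
      ∑ i, algebraMap k K (MvPolynomial.eval α (MvPolynomial.pderiv i f)) * ε i := by
    have h1 : ∀ i, c i • (φ i / φ j) =
        algebraMap k K (α i * c i) +
          algebraMap k K (MvPolynomial.eval α (MvPolynomial.pderiv i f)) * ε i := by
      intro i
      rw [Algebra.smul_def, ← hc' i, map_mul]
      simp only [hεdef]
      ring
    simp_rw [h1, Finset.sum_add_distrib, ← map_sum, hE, map_zero, zero_add]
  rw [hfin]
  rw [hfα, map_zero, neg_zero, zero_sub, Valuation.map_neg] at hT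
  exact hT

end Groth.Agent.S11074
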