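import Groth.Statements.S11076
import Mathlib
import Groth.Agent.Lib.FunFldLocB_helper2

set_option autoImplicit false
open FunFld

namespace Groth.Agent.S11076

/-- Over an algebraically closed constant field, a projective curve (given by a birational projective
map `φ = (φ₀, …, φₙ)`, `n ≥ 1`) is nonsingular at the point `a = φ(P)` if and only if some
hyperplane `∑ cᵢ Xᵢ` has intersection multiplicity `1` with it at `a`: the sum over the places `Q`
of the fibre of `a` of `[φ](Q) + ord_Q(∑ cᵢ φᵢ)` is `1`. Nonsingular at `P` means that the local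
ring of `φ` at `P` (quotients of polynomials over `k` in the `φᵢ/φⱼ`, `φⱼ` of least order at `P`,
denominator a unit at `P`) is the whole valuation ring. Two places have the same image point when
some entry `φⱼ` has least order at both and each `φᵢ/φⱼ` is congruent to one constant modulo both
maximal ideals. -/
theorem result (k K : Type*) [Field k] [IsAlgClosed k] [Field K] [Algebra k K]
    (hK : FunFld.IsFunctionField k K) {n : ℕ} (hn : 1 ≤ n)
    (φ : Fin (n + 1) → K) (hφ : LinearIndependent k φ)
    (hbir : IntermediateField.adjoin k (Set.range fun i => φ i / φ 0) = ⊤)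
    (P : FunFld.Place k K) :
    FunFld.IsNonsingularAt φ P ↔ ∃ c : Fin (n + 1) → k, ∑ i, c i • φ i ≠ 0 ∧
      ∑ᶠ Q ∈ {Q : FunFld.Place k K | FunFld.SameImage φ P Q},
        ((FunFld.mapDiv k φ) Q + Q.ord (∑ i, c i • φ i)) = 1 := by
  classical
  have hφ0 : ∀ i, φ i ≠ 0 := fun i => hφ.ne_zero i
  have hF : {Q : FunFld.Place k K | FunFld.SameImage φ P Q}.Finite :=
    (finite_zeroPlaces_and_fibre hK hn φ hφ).2 P
  have hPF : FunFld.SameImage φ P P := sameImage_refl hK φ hφ P
  rw [isNonsingularAt_iff_fibre_ord hK hn φ hφ P]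
  constructor
  · rintro ⟨hfibre, s, hs, hs0, hsord⟩
    obtain ⟨c, hc⟩ := (Submodule.mem_span_range_iff_exists_fun k).mp hs
    refine ⟨c, by rw [hc]; exact hs0, ?_⟩
    have hset : {Q : FunFld.Place k K | FunFld.SameImage φ P Q} = {P} := by
      ext Q
      rw [Set.mem_singleton_iff]
      exact ⟨fun h => hfibre Q h, fun h => h ▸ hPF⟩
    rw [hset, finsum_mem_singleton, hc, mapDiv_apply hK, hsord]
    ring
  · rintro ⟨c, hs0, hsum⟩
    obtain ⟨s, hsdef⟩ : ∃ s : K, s = ∑ i, c i • φ i := ⟨_, rfl⟩
    rw [← hsdef] at hs0 hsum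
    have hs : s ∈ Submodule.span k (Set.range φ) :=
      (Submodule.mem_span_range_iff_exists_fun k).mpr ⟨c, hsdef.symm⟩
    rw [finsum_mem_eq_finite_toFinset_sum _ hF] at hsum
    have hnn : ∀ Q : FunFld.Place k K, 0 ≤ (FunFld.mapDiv k φ) Q + Q.ord s := fun Q => by
      have h1 := minOrd_le_ord_of_mem_span hK φ hφ Q hs hs0
      rw [mapDiv_apply hK]
      omega
    have hPmem : P ∈ hF.toFinset := by rw [Set.Finite.mem_toFinset]; exact hPF
    have hiff : ∀ Q ∈ hF.toFinset, (1 ≤ (FunFld.mapDiv k φ) Q + Q.ord s ↔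
        1 ≤ (FunFld.mapDiv k φ) P + P.ord s) := by
      intro Q hQ
      rw [Set.Finite.mem_toFinset] at hQ
      have h1 := sameImage_ord_pos_iff hK φ hφ hQ hs hs0
      rw [mapDiv_apply hK, mapDiv_apply hK]
      constructor
      · intro h2
        have := h1.mp (by omega)
        omega
      · intro h2
        have := h1.mpr (by omega)
        omega
    have hP1 : 1 ≤ (FunFld.mapDiv k φ) P + P.ord s := by
      by_contra hno
      have hall : ∀ Q ∈ hF.toFinset, (FunFld.mapDiv k φ) Q + Q.ord s = 0 := by
        intro Q hQ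
        have h1 := hnn Q
        have h2 : ¬ 1 ≤ (FunFld.mapDiv k φ) Q + Q.ord s := fun h => hno ((hiff Q hQ).mp h)
        omega
      rw [Finset.sum_eq_zero hall] at hsum
      exact zero_ne_one hsum
    have hP_le : (FunFld.mapDiv k φ) P + P.ord s ≤ 1 := by
      rw [← hsum]
      exact Finset.single_le_sum (f := fun Q : FunFld.Place k K => (FunFld.mapDiv k φ) Q + Q.ord s)
        (fun Q _ => hnn Q) hPmem
    refine ⟨fun Q hQ => ?_, s, hs, hs0, ?_⟩
    · by_contra hQP
      have hQmem : Q ∈ hF.toFinset := by rw [Set.Finite.mem_toFinset]; exact hQ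
      have hQ1 : 1 ≤ (FunFld.mapDiv k φ) Q + Q.ord s := (hiff Q hQmem).mpr hP1
      have hsub : ({P, Q} : Finset (FunFld.Place k K)) ⊆ hF.toFinset := by
        intro X hX
        rw [Finset.mem_insert, Finset.mem_singleton] at hX
        rcases hX with rfl | rfl
        · exact hPmem
        · exact hQmem
      have h3 := Finset.sum_le_sum_of_subset_of_nonneg
        (f := fun Q : FunFld.Place k K => (FunFld.mapDiv k φ) Q + Q.ord s) hsub
        (fun X _ _ => hnn X)
      rw [Finset.sum_pair (fun h => hQP h.symm), hsum] at h3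
      omega
    · have h4 : (FunFld.mapDiv k φ) P + P.ord s = 1 := le_antisymm hP_le hP1
      rw [mapDiv_apply hK] at h4
      omega

end Groth.Agent.S11076
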