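import Groth.Statements.S11080
import Mathlib
-- import your own Groth.Agent.* helpers here

set_option autoImplicit false
universe u
open CAlg

namespace Groth.Agent.S11080

/-- Valuation rings over a curve: let A be a Dedekind domain with fraction field K. A valuation subring
O of K contains A and is different from K if and only if O is the valuation ring of the v-adic
valuation of K at some nonzero prime v of A (equivalently O is the local ring of A at a maximal
ideal, a discrete valuation ring). (The published statement takes A to be the coordinate ring of a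
nonsingular affine curve over an algebraically closed field, which is such a Dedekind domain; its
proof uses only that the local rings of A at nonzero primes are discrete valuation rings and that
nonzero primes are maximal.) -/
theorem result (A K : Type u) [CommRing A]
    [IsDedekindDomain A] [Field K] [Algebra A K] [IsFractionRing A K] (O : ValuationSubring K) :
    ((algebraMap A K).range ≤ O.toSubring ∧ O ≠ ⊤) ↔
      ∃ v : IsDedekindDomain.HeightOneSpectrum A, O = (v.valuation K).valuationSubring := by

  classical
  constructor
  · rintro ⟨hA, hO⟩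
    -- the centre of `O` on `A`
    let φ : A →+* O := (Subring.inclusion hA).comp (algebraMap A K).rangeRestrict
    have hφ : ∀ a : A, ((φ a : O) : K) = algebraMap A K a := fun a => rfl
    let 𝔭 : Ideal A := Ideal.comap φ (IsLocalRing.maximalIdeal O)
    haveI h𝔭 : 𝔭.IsPrime := Ideal.comap_isPrime _ _
    have h𝔭0 : 𝔭 ≠ ⊥ := by
      intro hbot
      apply hO
      rw [eq_top_iff]
      intro x _
      obtain ⟨a, b, hb, rfl⟩ := IsFractionRing.div_surjective (A := A) x
      have hb0 : b ≠ 0 := nonZeroDivisors.ne_zero hb
      have hbnot : b ∉ 𝔭 := by rw [hbot, Ideal.mem_bot]; exact hb0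
      have hbunit : IsUnit (φ b) := by
        by_contra hnu
        exact hbnot ((IsLocalRing.mem_maximalIdeal _).2 hnu)
      obtain ⟨c, hc⟩ := hbunit.exists_right_inv
      have hcK : (c : K) = (algebraMap A K b)⁻¹ := by
        have h1 : algebraMap A K b * (c : K) = 1 := congrArg Subtype.val hc
        exact eq_inv_of_mul_eq_one_right h1
      show algebraMap A K a / algebraMap A K b ∈ O
      rw [div_eq_mul_inv, ← hcK]
      exact O.mul_mem _ _ (φ a).2 c.2
    let v : IsDedekindDomain.HeightOneSpectrum A := ⟨𝔭, h𝔭, h𝔭0⟩
    refine ⟨v, ?_⟩
    symm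
    apply ValuationSubring.eq_of_le_of_ne_top _ _ hO
    intro x hx
    obtain ⟨n, d, hnd⟩ := v.exists_primeCompl_mul_eq_of_integer x hx
    have hdnot : (d : A) ∉ 𝔭 := d.2
    have hdunit : IsUnit (φ d) := by
      by_contra hnu
      exact hdnot ((IsLocalRing.mem_maximalIdeal _).2 hnu)
    obtain ⟨c, hc⟩ := hdunit.exists_right_inv
    have h1 : algebraMap A K d * (c : K) = 1 := congrArg Subtype.val hc
    have hx' : x = algebraMap A K n * (c : K) := by
      rw [← hnd, mul_assoc, h1, mul_one]
    rw [hx']
    exact O.mul_mem _ _ (φ n).2 c.2
  · rintro ⟨v, rfl⟩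
    refine ⟨?_, ?_⟩
    · rintro _ ⟨a, rfl⟩
      exact v.valuation_le_one a
    · intro htop
      obtain ⟨π, hπ⟩ := v.valuation_exists_uniformizer K
      have h1 : π⁻¹ ∈ (v.valuation K).valuationSubring := by rw [htop]; trivial
      have h2 : v.valuation K π⁻¹ ≤ 1 := h1
      rw [map_inv₀, hπ, ← WithZero.exp_neg, neg_neg, ← WithZero.exp_zero, WithZero.exp_le_exp] at h2
      omega

end Groth.Agent.S11080
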