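import Groth.Statements.S11091
import Groth.Agent.Lib.HenselFinite_helper3
-- import your own Groth.Agent.* helpers here

set_option autoImplicit false
universe u
attribute [local instance] FractionRing.liftAlgebra
open CAlg
set_option maxSynthPendingDepth 3

namespace Groth.Agent.S11091

/-- Let A be a complete discrete valuation ring and B a Dedekind domain which is a finite torsion-free
A-algebra whose fraction field is separable over that of A (the integral closure of A in a finite
separable extension E of the fraction field F). Then B has exactly one maximal ideal; equivalently,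
since the discrete valuations of E extending a multiple of the valuation of F correspond to the
nonzero primes of B, the valuation of F extends uniquely to E, and B is a complete discrete
valuation ring. -/
theorem result (A B : Type u) [CommRing A] [IsDomain A] [IsDiscreteValuationRing A]
    [IsAdicComplete (IsLocalRing.maximalIdeal A) A]
    [CommRing B] [IsDedekindDomain B] [Algebra A B] [Module.Finite A B] [Module.IsTorsionFree A B]
    [Algebra.IsSeparable (FractionRing A) (FractionRing B)] :
    ∃! M : Ideal B, M.IsMaximal := by
  classical
  haveI : HenselianLocalRing A :=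
    { is_henselian := by
        intro f hf a₀ h₁ h₂
        exact HenselianRing.is_henselian (I := IsLocalRing.maximalIdeal A) f hf a₀ h₁
          (h₂.map (Ideal.Quotient.mk (IsLocalRing.maximalIdeal A))) }
  obtain ⟨n, ε, hε, h⟩ := Groth.Agent.Lib.HenselFiniteH3.exists_idempotents A B
  have h01 : ∀ i, ε i = 0 ∨ ε i = 1 := fun i =>
    IsIdempotentElem.iff_eq_zero_or_one.mp (hε.idem i)
  obtain ⟨i₀, hi₀⟩ : ∃ i, ε i = 1 := by
    by_contra hcon
    push Not at hcon
    have h0 : ∀ i, ε i = 0 := fun i => (h01 i).resolve_right (hcon i)
    have h1 := hε.complete
    simp only [h0, Finset.sum_const_zero] at h1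
    exact zero_ne_one h1
  obtain ⟨M, hM⟩ := Ideal.exists_maximal B
  refine ⟨M, hM, fun M' hM' => ?_⟩
  have hnot : ∀ Q : Ideal B, Q.IsMaximal → ε i₀ ∉ Q := fun Q hQ hmem => by
    rw [hi₀] at hmem
    exact hQ.ne_top ((Ideal.eq_top_iff_one _).mpr hmem)
  exact h i₀ M' M hM' hM (hnot M' hM') (hnot M hM)

end Groth.Agent.S11091
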