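import Groth.Statements.S11108
import Groth.Agent.Lib.HensSm1_helper8
import Groth.Agent.Lib.StrictHens1_helper8

set_option autoImplicit false
universe u
open CategoryTheory AlgebraicGeometry
open Neron

namespace Groth.Agent.S11108

/-- Let R be a strictly Henselian discrete valuation ring — Henselian with algebraically closed residue
field — and p : X → Spec R a smooth morphism. Then the image of the reduction map from R-valued
points of X to the special fibre is dense in the special fibre: every point of X over the closed
point of Spec R lies in the closure of the set of points s(𝔪), s a section of p and 𝔪 the closed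
point. -/
theorem result (R : Type u) [CommRing R] [IsDomain R]
    [IsDiscreteValuationRing R] [HenselianLocalRing R] [IsAlgClosed (IsLocalRing.ResidueField R)]
    {X : Scheme.{u}} (p : X ⟶ Spec (CommRingCat.of R)) [Smooth p]
    (x : X) (hx : p.base x = IsLocalRing.closedPoint R) :
    x ∈ closure {y : X | ∃ s : Spec (CommRingCat.of R) ⟶ X, s ≫ p = 𝟙 _ ∧
      s.base (IsLocalRing.closedPoint R) = y} := by
  obtain ⟨i, hi⟩ : ∃ i, i = Spec.map (CommRingCat.ofHom (IsLocalRing.residue R)) := ⟨_, rfl⟩
  have hipt : ∀ a, i.base a = IsLocalRing.closedPoint R := fun a => by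
    rw [hi]; exact Groth.Agent.StrictHensH8.clPt_apply R a
  obtain ⟨z, hz, -⟩ := Scheme.Pullback.exists_preimage_pullback (f := p) (g := i) x default
    (by rw [hx, hipt])
  haveI : JacobsonSpace ↥(Limits.pullback p i) :=
    LocallyOfFiniteType.jacobsonSpace (Limits.pullback.snd p i)
  have hzc : z ∈ closure (closedPoints ↥(Limits.pullback p i)) := by
    rw [closure_closedPoints]; trivial
  have h1 := image_closure_subset_closure_image (Limits.pullback.fst p i).continuous
    (Set.mem_image_of_mem _ hzc)
  rw [hz] at h1
  refine closure_mono ?_ h1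
  rintro _ ⟨z', hz', rfl⟩
  have hz'c : IsClosed ({z'} : Set ↥(Limits.pullback p i)) := hz'
  obtain ⟨s, hs1, hs2⟩ := Groth.Agent.HensSmH8.exists_section_of_smooth R p
    (pointOfClosedPoint (Limits.pullback.snd p i) z' hz'c ≫ Limits.pullback.fst p i)
    (by rw [Category.assoc, Limits.pullback.condition, ← Category.assoc,
      pointOfClosedPoint_comp, Category.id_comp, hi])
  refine ⟨s, hs1, ?_⟩
  rw [← hipt default]
  have h3 : s.base (i.base default) =
      (Spec.map (CommRingCat.ofHom (IsLocalRing.residue R)) ≫ s).base default := by
    rw [Scheme.Hom.comp_apply, hi]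
  rw [h3, hs2, Scheme.Hom.comp_apply, pointOfClosedPoint_apply]

end Groth.Agent.S11108
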