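import Groth.Statements.S1113
import Groth.Agent.Lib.DerivedTruncCx_helper2

set_option autoImplicit false
universe w v u
open CategoryTheory CategoryTheory.Limits
open CohDer

namespace Groth.Agent.S1113

open DerivedCategory Pretriangulated Groth.Agent.Lib.DerivedTrunc_helper2
  Groth.Agent.Lib.DerivedTruncCx_helper2

/-- Let K : ℕᵒᵖ ⥤ CochainComplex A ℤ be a sequence of cochain maps … → K₂ → K₁ → K₀ in an abelian
category with Hⁱ(K₀) = 0 for i < 0 and such that for every j < n the map Hʲ(Kⱼ₊₁) → Hʲ(Kⱼ) is zero.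
Then in the derived category the composite Kₙ → K₀ factors through the canonical truncation Kₙ →
τ_{≥ n}Kₙ. -/
theorem result {A : Type u} [Category.{v} A] [Abelian A] [HasDerivedCategory.{w} A]
    (K : ℕᵒᵖ ⥤ CochainComplex A ℤ) (n : ℕ)
    (h0 : ∀ i : ℤ, i < 0 → IsZero ((K.obj (Opposite.op 0)).homology i))
    (hz : ∀ j : ℕ, j < n → HomologicalComplex.homologyMap (K.map (homOfLE (Nat.le_succ j)).op) (j : ℤ) = 0) :
    ∃ φ : DerivedCategory.Q.obj ((K.obj (Opposite.op n)).truncGE (n : ℤ)) ⟶ DerivedCategory.Q.obj (K.obj (Opposite.op 0)),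
      DerivedCategory.Q.map ((K.obj (Opposite.op n)).πTruncGE (n : ℤ)) ≫ φ = DerivedCategory.Q.map (K.map (homOfLE (Nat.zero_le n)).op) := by
  induction n with
  | zero =>
    have hK : (K.obj (Opposite.op 0)).IsGE ((0 : ℕ) : ℤ) := by
      rw [CochainComplex.isGE_iff]
      intro i hi
      rw [HomologicalComplex.exactAt_iff_isZero_homology]
      exact h0 i (by simpa using hi)
    have hq : QuasiIso ((K.obj (Opposite.op 0)).πTruncGE ((0 : ℕ) : ℤ)) :=
      ((K.obj (Opposite.op 0)).quasiIso_πTruncGE_iff _).2 hK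
    have : IsIso (Q.map ((K.obj (Opposite.op 0)).πTruncGE ((0 : ℕ) : ℤ))) := by
      rw [isIso_Q_map_iff_quasiIso]; exact hq
    refine ⟨inv (Q.map ((K.obj (Opposite.op 0)).πTruncGE ((0 : ℕ) : ℤ))), ?_⟩
    have e : homOfLE (Nat.zero_le 0) = 𝟙 (0 : ℕ) := Subsingleton.elim _ _
    rw [IsIso.hom_inv_id, e, op_id, K.map_id, Q.map_id]
  | succ n ih =>
    obtain ⟨φ, hφ⟩ : ∃ φ : Q.obj ((K.obj (Opposite.op n)).truncGE (n : ℤ)) ⟶
        Q.obj (K.obj (Opposite.op 0)),
      Q.map ((K.obj (Opposite.op n)).πTruncGE (n : ℤ)) ≫ φ =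
        Q.map (K.map (homOfLE (Nat.zero_le n)).op) :=
      ih (fun j hj => hz j (by omega))
    have hzn := hz n (by omega)
    set f := K.map (homOfLE (Nat.le_succ n)).op with hf
    obtain ⟨C', i, h, hT, hC'⟩ := exists_triangle_πTruncGE (K.obj (Opposite.op (n + 1)))
      (n : ℤ) ((n + 1 : ℕ) : ℤ) (by push_cast; rfl)
    have hψ : i ≫ Q.map f ≫ Q.map ((K.obj (Opposite.op n)).πTruncGE (n : ℤ)) = 0 := by
      refine eq_zero_of_isLE_of_isGE (n : ℤ) _ ?_
      have : (homologyFunctor A (n : ℤ)).map (Q.map f) = 0 := by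
        have nat := (homologyFunctorFactors A (n : ℤ)).hom.naturality f
        have : (Q ⋙ homologyFunctor A (n : ℤ)).map f = 0 := by
          rw [← cancel_mono ((homologyFunctorFactors A (n : ℤ)).hom.app _), nat, zero_comp]
          show _ ≫ HomologicalComplex.homologyMap f _ = 0
          rw [hzn, comp_zero]
        exact this
      rw [Functor.map_comp, Functor.map_comp, this, zero_comp, comp_zero]
    obtain ⟨φ', hφ'⟩ : ∃ φ' : Q.obj ((K.obj (Opposite.op (n + 1))).truncGE ((n + 1 : ℕ) : ℤ)) ⟶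
          Q.obj (K.obj (Opposite.op 0)),
        Q.map f ≫ Q.map ((K.obj (Opposite.op n)).πTruncGE (n : ℤ)) ≫ φ =
          Q.map ((K.obj (Opposite.op (n + 1))).πTruncGE ((n + 1 : ℕ) : ℤ)) ≫ φ' :=
      Triangle.yoneda_exact₂ _ hT (Q.map f ≫ Q.map ((K.obj (Opposite.op n)).πTruncGE (n : ℤ)) ≫ φ)
        (by
          show i ≫ Q.map f ≫ Q.map ((K.obj (Opposite.op n)).πTruncGE (n : ℤ)) ≫ φ = 0
          rw [← Category.assoc, ← Category.assoc, Category.assoc i, hψ, zero_comp])
    refine ⟨φ', ?_⟩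
    rw [← hφ', hφ, ← Q.map_comp, hf, ← K.map_comp]
    rfl

end Groth.Agent.S1113
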