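import Groth.Statements.S11136
import Groth.Agent.Lib.NoethConn_helper3
-- import your own Groth.Agent.* helpers here

set_option autoImplicit false
universe u v
open InvTh
open Pointwise Groth.Agent.Lib.NoethConn_helper3

namespace Groth.Agent.S11136

/-- Let a finite group G act on a Noetherian commutative ring R by ring automorphisms, with ring of
invariants A (A → R injective with image the fixed elements). When the prime spectrum of A is
connected, any two connected components of Spec R are exchanged by some element of G: for all points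
x, y of Spec R there is g in G whose induced self-map of Spec R carries the connected component of x
onto the connected component of y. -/
theorem result
    (A : Type u) (R : Type v) [CommRing A] [CommRing R] [Algebra A R] [IsNoetherianRing R]
    (G : Type u) [Group G] [Finite G] [MulSemiringAction G R] [SMulCommClass G A R]
    [Algebra.IsInvariant A R G] [FaithfulSMul A R]
    [ConnectedSpace (PrimeSpectrum A)] (x y : PrimeSpectrum R) :
    ∃ g : G, PrimeSpectrum.comap (MulSemiringAction.toRingHom G R g) '' connectedComponent x =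
      connectedComponent y := by
  classical
  haveI : Algebra.IsIntegral A R := Algebra.IsInvariant.isIntegral A R G
  -- the homeomorphisms
  let φ : G → (PrimeSpectrum R ≃ₜ PrimeSpectrum R) := fun g =>
    (PrimeSpectrum.homeomorphOfRingEquiv (MulSemiringAction.toRingEquiv G R g)).symm
  have hφ : ∀ g (P : PrimeSpectrum R),
      φ g P = PrimeSpectrum.comap (MulSemiringAction.toRingHom G R g) P := fun g P => rfl
  have hφmem : ∀ g (P : PrimeSpectrum R) (r : R), r ∈ (φ g P).asIdeal ↔ g • r ∈ P.asIdeal :=
    fun g P r => Iff.rfl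
  have hφcomp : ∀ g h (P : PrimeSpectrum R), φ g (φ h P) = φ (h * g) P := by
    intro g h P
    apply PrimeSpectrum.ext
    ext r
    rw [hφmem, hφmem, hφmem, mul_smul]
  let π : PrimeSpectrum R → PrimeSpectrum A := PrimeSpectrum.comap (algebraMap A R)
  have hπclosed : IsClosedMap π :=
    PrimeSpectrum.isClosedMap_comap_of_isIntegral _ (algebraMap_isIntegral_iff.mpr inferInstance)
  have hπsurj : Function.Surjective π := Algebra.IsIntegral.comap_surjective A R
  have hπfib : ∀ a b : PrimeSpectrum R, π a = π b → ∃ g : G, b = φ g a := by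
    intro a b hab
    have h1 : a.asIdeal.under A = b.asIdeal.under A := congrArg PrimeSpectrum.asIdeal hab
    obtain ⟨g, hg⟩ := Algebra.IsInvariant.exists_smul_of_under_eq A R G a.asIdeal b.asIdeal h1
    refine ⟨g⁻¹, ?_⟩
    apply PrimeSpectrum.ext
    ext r
    rw [hφmem, hg, Ideal.mem_pointwise_smul_iff_inv_smul_mem]
  set C := connectedComponent x with hC
  let S : Set (PrimeSpectrum R) := ⋃ g : G, φ g '' C
  have himg : ∀ g, φ g '' C = connectedComponent (φ g x) := fun g =>
    Homeomorph.image_connectedComponent' (φ g) x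
  have hSopen : IsOpen S := isOpen_iUnion fun g => by
    rw [himg]; exact isOpen_connectedComponent_of_noetherianSpace _
  have hSclosed : IsClosed S := isClosed_iUnion_of_finite fun g => by
    rw [himg]; exact isClosed_connectedComponent
  have hSstable : ∀ k a, a ∈ S → φ k a ∈ S := by
    intro k a ha
    obtain ⟨h, c, hc, rfl⟩ := Set.mem_iUnion.mp ha
    exact Set.mem_iUnion.mpr ⟨h * k, c, hc, (hφcomp k h c).symm⟩
  have hdisj : π '' S ∩ π '' Sᶜ = ∅ := by
    rw [Set.eq_empty_iff_forall_notMem]
    rintro _ ⟨⟨a, ha, rfl⟩, ⟨b, hb, hab⟩⟩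
    obtain ⟨g, hg⟩ := hπfib a b hab.symm
    exact hb (hg ▸ hSstable g a ha)
  have hcover : π '' S ∪ π '' Sᶜ = Set.univ := by
    rw [← Set.image_union, Set.union_compl_self, Set.image_univ, Set.range_eq_univ.mpr hπsurj]
  have hcompl : (π '' S)ᶜ = π '' Sᶜ := by
    ext z
    constructor
    · intro hz
      have : z ∈ π '' S ∪ π '' Sᶜ := hcover ▸ Set.mem_univ z
      exact this.resolve_left hz
    · intro hz hz'
      have : z ∈ π '' S ∩ π '' Sᶜ := ⟨hz', hz⟩
      rw [hdisj] at this
      exact this
  have hclopen : IsClopen (π '' S) :=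
    ⟨hπclosed _ hSclosed, by
      rw [← isClosed_compl_iff, hcompl]; exact hπclosed _ hSopen.isClosed_compl⟩
  have hxS : x ∈ S := Set.mem_iUnion.mpr ⟨1, x, mem_connectedComponent, by
    apply PrimeSpectrum.ext; ext r; rw [hφmem, one_smul]⟩
  have huniv : π '' S = Set.univ := by
    rcases isClopen_iff.mp hclopen with h | h
    · exact absurd (h ▸ Set.mem_image_of_mem π hxS : π x ∈ (∅ : Set _)) (Set.notMem_empty _)
    · exact h
  have hSuniv : S = Set.univ := by
    rw [Set.eq_univ_iff_forall]
    intro z
    by_contra hz
    have h1 : π z ∈ π '' Sᶜ := Set.mem_image_of_mem π hz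
    rw [← hcompl, huniv] at h1
    exact h1 (Set.mem_univ _)
  have hyS : y ∈ S := hSuniv ▸ Set.mem_univ y
  obtain ⟨g, hyg⟩ := Set.mem_iUnion.mp hyS
  refine ⟨g, ?_⟩
  have h2 : (fun P => PrimeSpectrum.comap (MulSemiringAction.toRingHom G R g) P) '' C =
      φ g '' C := rfl
  change (fun P => PrimeSpectrum.comap (MulSemiringAction.toRingHom G R g) P) '' C = _
  rw [h2, himg]
  rw [himg] at hyg
  exact connectedComponent_eq hyg

end Groth.Agent.S11136
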