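import Groth.Statements.S11137
import Mathlib
-- import your own Groth.Agent.* helpers here

set_option autoImplicit false
universe u v
open InvTh
open Pointwise

namespace Groth.Agent.S11137

/-- Let G be a finite group acting by ring automorphisms on a Noetherian commutative ring R, and let A
be its ring of invariants (A → R injective with image the fixed elements), with R module-finite over
A. Then the going-down property holds for the extension A → R. (The published statement also asserts
that G acts transitively on the primes of R over a given prime of A; this row states only the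
going-down assertion.) -/
theorem result
    (A : Type u) (R : Type v) [CommRing A] [CommRing R] [Algebra A R] [IsNoetherianRing R]
    (G : Type u) [Group G] [Finite G] [MulSemiringAction G R] [SMulCommClass G A R]
    [Algebra.IsInvariant A R G] [FaithfulSMul A R] [Module.Finite A R] :
    Algebra.HasGoingDown A R := by
  haveI : Algebra.IsIntegral A R := Algebra.IsInvariant.isIntegral A R G
  refine ⟨fun {p} _ Q _ hlt => ?_⟩
  have hinj : Function.Injective (algebraMap A R) := FaithfulSMul.algebraMap_injective A R
  obtain ⟨Q'', -, hQ''prime, hQ''over⟩ := Ideal.exists_ideal_over_prime_of_isIntegral p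
    (⊥ : Ideal R) (by
      rw [Ideal.comap_bot_of_injective _ hinj]; exact bot_le)
  haveI := hQ''prime
  obtain ⟨Q1, hQ1ge, hQ1prime, hQ1over⟩ :=
    Ideal.exists_ideal_over_prime_of_isIntegral_of_isPrime (Q.under A) Q''
      (by rw [hQ''over]; exact hlt.le)
  haveI := hQ1prime
  obtain ⟨g, hg⟩ := Algebra.IsInvariant.exists_smul_of_under_eq A R G Q1 Q hQ1over
  refine ⟨g • Q'', ?_, hQ''prime.smul g, ⟨?_⟩⟩
  · rw [hg]
    exact Ideal.pointwise_smul_le_pointwise_smul_iff.mpr hQ1ge
  · rw [Ideal.under_smul, Ideal.under_def, hQ''over]

end Groth.Agent.S11137
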