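import Groth.Statements.S11142
import Mathlib
-- import your own Groth.Agent.* helpers here

set_option autoImplicit false
universe u
open CategoryTheory AlgebraicGeometry

open FlatMor

namespace Groth.Agent.S11142

/-- For a flat morphism f : X → Y between locally Noetherian schemes, the preimage under f of any dense
open subset of Y is dense in X. -/
theorem result (X Y : Scheme.{u}) [IsLocallyNoetherian X]
    [IsLocallyNoetherian Y] (f : X ⟶ Y) [Flat f] (U : Y.Opens) (hU : Dense (U : Set Y)) :
    Dense ((f ⁻¹ᵁ U : X.Opens) : Set X) := by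
  classical
  -- topological lemma
  have key : ∀ y : Y, ∃ η : Y, η ∈ U ∧ η ⤳ y := by
    intro y
    obtain ⟨_, ⟨V', hVaff', rfl⟩, hyV, -⟩ :=
      Y.isBasis_affineOpens.exists_subset_of_mem_open (Set.mem_univ y) isOpen_univ
    haveI : IsNoetherianRing Γ(Y, V') :=
      IsLocallyNoetherian.component_noetherian ⟨V', hVaff'⟩
    haveI : TopologicalSpace.NoetherianSpace V' := noetherianSpace_of_isAffineOpen V' hVaff'
    haveI : QuasiSober (V' : Set Y) := V'.2.isOpenEmbedding_subtypeVal.quasiSober
    let y' : V' := ⟨y, hyV⟩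
    have hZmem : irreducibleComponent y' ∈ irreducibleComponents V' :=
      irreducibleComponent_mem_irreducibleComponents y'
    obtain ⟨o, ho, hone, hoZ⟩ :=
      TopologicalSpace.NoetherianSpace.exists_isOpen_nonempty_subset_irreducibleComponent _ hZmem
    have hZirr : IsIrreducible (irreducibleComponent y') := isIrreducible_irreducibleComponent
    have hZcl : IsClosed (irreducibleComponent y') := isClosed_irreducibleComponent
    set η' := hZirr.genericPoint with hη'
    have hgen : IsGenericPoint η' (irreducibleComponent y') :=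
      hZirr.isGenericPoint_genericPoint hZcl
    have hopen : IsOpen (Subtype.val '' o : Set Y) :=
      V'.2.isOpenEmbedding_subtypeVal.isOpenMap o ho
    obtain ⟨z, hzo, hzU⟩ := hU.inter_open_nonempty _ hopen (hone.image _)
    obtain ⟨z', hz'o, rfl⟩ := hzo
    have h1 : η' ⤳ z' := (isGenericPoint_iff_specializes.1 hgen z').2 (hoZ hz'o)
    have h2 : η' ⤳ y' := (isGenericPoint_iff_specializes.1 hgen y').2 mem_irreducibleComponent
    refine ⟨η'.1, ?_, h2.map continuous_subtype_val⟩
    exact (h1.map continuous_subtype_val).mem_open U.2 hzU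
  rw [dense_iff_inter_open]
  intro W hW hWne
  obtain ⟨x, hx⟩ := hWne
  obtain ⟨η, hηU, hη⟩ := key (f x)
  obtain ⟨ξ, hξ, hfξ⟩ := (Flat.generalizingMap f) hη
  refine ⟨ξ, hξ.mem_open hW hx, ?_⟩
  show f ξ ∈ U
  rw [hfξ]; exact hηU

end Groth.Agent.S11142
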