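import Groth.Statements.S11147
import Mathlib
-- import your own Groth.Agent.* helpers here

set_option autoImplicit false
universe u
open FrobAlg

namespace Groth.Agent.S11147

/-- Let p be a prime and k ⊆ K fields of characteristic p such that K is finitely generated over k as a
field. Then the relative Frobenius ring homomorphism K ⊗_{k,Frob} k → K, b ⊗ a ↦ b^p a (the
Radu–André homomorphism of k → K), is bijective exactly when K is algebraic over k and every element
of K is separable over k. -/
theorem result (p : ℕ) [Fact p.Prime] (k K : Type u) [Field k]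
    [Field K] [Algebra k K] [CharP k p] [CharP K p] (hfg : (⊤ : IntermediateField k K).FG) :
    Function.Bijective (FrobAlg.relFrob p k K) ↔ Algebra.IsSeparable k K := by

  have hp : p.Prime := Fact.out
  have hK0 : (p : K) = 0 := CharP.cast_eq_zero K p
  have hpure : ∀ (y : K) (t : FrobAlg.Twist p k),
      FrobAlg.relFrob p k K (TensorProduct.tmul k y t) =
        y ^ p * algebraMap k K ((FrobAlg.toTwist p k).symm t) := fun y t => rfl
  constructor
  · intro hbij
    haveI : Algebra.EssFiniteType k K := IntermediateField.fg_top_iff.mp hfg
    have hD : ∀ x : K, KaehlerDifferential.D k K x = 0 := by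
      intro x
      obtain ⟨z, rfl⟩ := hbij.2 x
      induction z using TensorProduct.induction_on with
      | zero => rw [map_zero, map_zero]
      | tmul y t =>
        rw [hpure, mul_comm, ← Algebra.smul_def, Derivation.map_smul, Derivation.leibniz_pow,
          ← Nat.cast_smul_eq_nsmul K, hK0, zero_smul, smul_zero]
      | add z1 z2 h1 h2 => rw [map_add, map_add, h1, h2, add_zero]
    have hsub : ∀ m : KaehlerDifferential k K, m = 0 := by
      intro m
      have hm : m ∈ Submodule.span K (Set.range (KaehlerDifferential.D k K)) := by
        rw [KaehlerDifferential.span_range_derivation]; exact Submodule.mem_top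
      refine Submodule.span_induction (p := fun m _ => m = 0) ?_ ?_ ?_ ?_ hm
      · rintro _ ⟨x, rfl⟩; exact hD x
      · rfl
      · intro a b _ _ ha hb; rw [ha, hb, add_zero]
      · intro c a _ ha; rw [ha, smul_zero]
    haveI : Algebra.FormallyUnramified k K := ⟨⟨fun a b => (hsub a).trans (hsub b).symm⟩⟩
    exact Algebra.FormallyUnramified.isSeparable k K
  · intro hsep
    haveI := hsep
    haveI : ExpChar k p := ExpChar.prime hp
    obtain ⟨⟨ι, b⟩⟩ := Module.Free.exists_basis (R := k) (M := K)
    have hli : LinearIndependent k (fun i => (b i) ^ p) := by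
      have := b.linearIndependent.map_pow_expChar_pow_of_isSeparable p 1
      simpa only [pow_one] using this
    have hspan : Submodule.span k (Set.range (fun i => (b i) ^ p)) = ⊤ := by
      have := Field.span_map_pow_expChar_pow_eq_top_of_isSeparable (F := k) (E := K) p 1 b.span_eq
      simpa only [pow_one] using this
    refine ⟨?_, ?_⟩
    · rw [injective_iff_map_eq_zero]
      intro z hz
      have hrep : ∀ z : TensorProduct k K (FrobAlg.Twist p k), ∃ f : ι →₀ FrobAlg.Twist p k,
          z = f.sum (fun i t => TensorProduct.tmul k (b i) t) := by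
        intro z
        induction z using TensorProduct.induction_on with
        | zero => exact ⟨0, by rw [Finsupp.sum_zero_index]⟩
        | tmul y t =>
          refine ⟨(b.repr y).mapRange (fun c => c • t) (zero_smul _ _), ?_⟩
          rw [Finsupp.sum_mapRange_index (fun i => TensorProduct.tmul_zero _ _)]
          conv_lhs => rw [← b.linearCombination_repr y, Finsupp.linearCombination_apply]
          rw [Finsupp.sum, TensorProduct.sum_tmul, Finsupp.sum]
          refine Finset.sum_congr rfl fun i _ => ?_
          rw [TensorProduct.smul_tmul]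
        | add z1 z2 h1 h2 =>
          obtain ⟨f1, hf1⟩ := h1
          obtain ⟨f2, hf2⟩ := h2
          refine ⟨f1 + f2, ?_⟩
          rw [Finsupp.sum_add_index' (fun i => TensorProduct.tmul_zero _ _)
            (fun i t1 t2 => TensorProduct.tmul_add _ _ _), ← hf1, ← hf2]
      obtain ⟨f, rfl⟩ := hrep z
      have h1 : FrobAlg.relFrob p k K (f.sum fun i t => TensorProduct.tmul k (b i) t) =
          ∑ i ∈ f.support, ((FrobAlg.toTwist p k).symm (f i)) • (b i) ^ p := by
        rw [Finsupp.sum, map_sum]
        refine Finset.sum_congr rfl fun i _ => ?_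
        rw [hpure, Algebra.smul_def, mul_comm]
      rw [h1] at hz
      have h2 := linearIndependent_iff'.mp hli f.support
        (fun i => (FrobAlg.toTwist p k).symm (f i)) hz
      have hf0 : f = 0 := by
        ext i
        by_cases hi : i ∈ f.support
        · have h3 := h2 i hi
          have h4 : f i = 0 := (EmbeddingLike.map_eq_zero_iff (f := (FrobAlg.toTwist p k).symm)).mp h3
          rw [h4]; rfl
        · rw [Finsupp.notMem_support_iff.mp hi]; rfl
      rw [hf0, Finsupp.sum_zero_index]
    · intro x
      have hx : x ∈ Submodule.span k (Set.range (fun i => (b i) ^ p)) := by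
        rw [hspan]; exact Submodule.mem_top
      refine Submodule.span_induction (p := fun x _ => ∃ z, FrobAlg.relFrob p k K z = x)
        ?_ ?_ ?_ ?_ hx
      · rintro _ ⟨i, rfl⟩
        exact ⟨TensorProduct.tmul k (b i) (1 : FrobAlg.Twist p k), by
          rw [hpure, map_one, map_one, mul_one]⟩
      · exact ⟨0, map_zero _⟩
      · rintro x y _ _ ⟨z1, rfl⟩ ⟨z2, rfl⟩
        exact ⟨z1 + z2, map_add _ _ _⟩
      · rintro c x _ ⟨z, rfl⟩
        refine ⟨z * (TensorProduct.tmul k (1 : K) (FrobAlg.toTwist p k c)), ?_⟩
        rw [map_mul, hpure, one_pow, one_mul, RingEquiv.symm_apply_apply, Algebra.smul_def, mul_comm]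

end Groth.Agent.S11147
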