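import Groth.Statements.S11150
import Groth.Agent.Lib.DerivedTrunc_helper2

set_option autoImplicit false
universe w w' v v' u u'
open CategoryTheory CategoryTheory.Limits
open CohDer

namespace Groth.Agent.S11150

open Groth.Agent.Lib.DerivedTrunc_helper2 DerivedCategory in
/-- Fix abelian categories A and B, A' a class of objects of A closed under isomorphisms, F and G
triangulated functors from D(A) to D(B) which are both way-out right (given n₁ there is n₂ such that
H^i(Y) = 0 for all i < n₂ implies H^i(F Y) = 0 for all i < n₁), and η : F ⟶ G a morphism of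
triangulated functors. If η_X is an isomorphism for every object X of A' placed in degree 0, then
η_X is an isomorphism for every cohomologically bounded below object X of D(A) whose cohomology
objects all lie in A'. (Stated for functors defined on all of D(A).) -/
theorem result {A : Type u} [Category.{v} A] [Abelian A] [HasDerivedCategory.{w} A]
    {B : Type u'} [Category.{v'} B] [Abelian B] [HasDerivedCategory.{w'} B]
    (P : ObjectProperty A) [P.IsClosedUnderIsomorphisms]
    (F G : DerivedCategory A ⥤ DerivedCategory B) [F.CommShift ℤ] [G.CommShift ℤ]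
    [F.IsTriangulated] [G.IsTriangulated] (η : F ⟶ G) [NatTrans.CommShift η ℤ]
    (hF : ∀ n₁ : ℤ, ∃ n₂ : ℤ, ∀ Y : DerivedCategory A, Y.IsGE n₂ → (F.obj Y).IsGE n₁)
    (hG : ∀ n₁ : ℤ, ∃ n₂ : ℤ, ∀ Y : DerivedCategory A, Y.IsGE n₂ → (G.obj Y).IsGE n₁)
    (hη : ∀ X : A, P X → IsIso (η.app ((DerivedCategory.singleFunctor A 0).obj X)))
    (X : DerivedCategory A) (a : ℤ) [X.IsGE a]
    (hX : ∀ i : ℤ, P ((DerivedCategory.homologyFunctor A i).obj X)) :
    IsIso (η.app X) := by
  have := isoLocus_isTriangulated η
  rw [DerivedCategory.isIso_iff]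
  intro i
  obtain ⟨n₂, h₂⟩ := hF (i + 2)
  obtain ⟨n₂', h₂'⟩ := hG (i + 2)
  obtain ⟨m, hm₁, hm₂, hm₃⟩ : ∃ m : ℤ, n₂ ≤ m + 1 ∧ n₂' ≤ m + 1 ∧ a ≤ m :=
    ⟨max (max n₂ n₂') a, by omega, by omega, by omega⟩
  have hT := (tt A).triangleLEGT_distinguished m X
  have hGT1 : (((tt A).truncGT m).obj X).IsGE (m + 1) := inferInstance
  have hF3 : (F.obj (((tt A).truncGT m).obj X)).IsGE (i + 2) :=
    h₂ _ ((tt A).isGE_of_ge _ n₂ (m + 1) hm₁)
  have hG3 : (G.obj (((tt A).truncGT m).obj X)).IsGE (i + 2) :=
    h₂' _ ((tt A).isGE_of_ge _ n₂' (m + 1) hm₂)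
  have hFι : IsIso ((homologyFunctor B i).map (F.map (((tt A).truncLEι m).app X))) :=
    isIso_homology_map_mor₁_of_isGE _ (F.map_distinguished _ hT) i hF3
  have hGι : IsIso ((homologyFunctor B i).map (G.map (((tt A).truncLEι m).app X))) :=
    isIso_homology_map_mor₁_of_isGE _ (G.map_distinguished _ hT) i hG3
  -- `η` is an isomorphism on the truncation
  have hτ : IsIso (η.app (((tt A).truncLE m).obj X)) := by
    obtain ⟨n, hn⟩ : ∃ n : ℕ, m ≤ a + n := ⟨(m - a).toNat, by omega⟩
    have hP0 : ∀ {Z : A}, IsZero Z → P Z := fun hZ =>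
      prop_of_isZero P (isZero_of_isGE X a (a - 1) (by lia)) (hX (a - 1)) hZ
    refine devissage P (isoLocus η) hη n a _ ?_ ?_
    · rintro j (hj | hj)
      · have := mono_homology_map_truncLEι X m j (by lia)
        exact IsZero.of_mono ((homologyFunctor A j).map (((tt A).truncLEι m).app X))
          (isZero_of_isGE X a j hj)
      · exact isZero_homology_truncLE X m j (by lia)
    · intro j
      by_cases hj : j ≤ m
      · have := isIso_homology_map_truncLEι X m j hj
        exact P.prop_of_iso (asIso ((homologyFunctor A j).map (((tt A).truncLEι m).app X))).symm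
          (hX j)
      · exact hP0 (isZero_homology_truncLE X m j (by lia))
  have nat := η.naturality (((tt A).truncLEι m).app X)
  have nat' := congrArg (homologyFunctor B i).map nat
  simp only [Functor.map_comp] at nat'
  have : (homologyFunctor B i).map (η.app X) =
      inv ((homologyFunctor B i).map (F.map (((tt A).truncLEι m).app X))) ≫
        (homologyFunctor B i).map (η.app (((tt A).truncLE m).obj X)) ≫
          (homologyFunctor B i).map (G.map (((tt A).truncLEι m).app X)) := by
    rw [IsIso.eq_inv_comp]
    exact nat'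
  rw [this]
  infer_instance

end Groth.Agent.S11150
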