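import Groth.Statements.S11151
import Groth.Agent.S11150

set_option autoImplicit false
universe w w' v v' u u'
open CategoryTheory CategoryTheory.Limits
open CohDer

namespace Groth.Agent.S11151

open Groth.Agent.Lib.DerivedTrunc_helper2 DerivedCategory

/-- The bounded above case (dual to S11150). -/
theorem bounded_above {A : Type u} [Category.{v} A] [Abelian A] [HasDerivedCategory.{w} A]
    {B : Type u'} [Category.{v'} B] [Abelian B] [HasDerivedCategory.{w'} B]
    (P : ObjectProperty A) [P.IsClosedUnderIsomorphisms] (hP : ∀ Z : A, IsZero Z → P Z)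
    (F G : DerivedCategory A ⥤ DerivedCategory B) [F.CommShift ℤ] [G.CommShift ℤ]
    [F.IsTriangulated] [G.IsTriangulated] (η : F ⟶ G) [NatTrans.CommShift η ℤ]
    (hF' : ∀ n₁ : ℤ, ∃ n₂ : ℤ, ∀ Y : DerivedCategory A, Y.IsLE n₂ → (F.obj Y).IsLE n₁)
    (hG' : ∀ n₁ : ℤ, ∃ n₂ : ℤ, ∀ Y : DerivedCategory A, Y.IsLE n₂ → (G.obj Y).IsLE n₁)
    (hη : ∀ X : A, P X → IsIso (η.app ((DerivedCategory.singleFunctor A 0).obj X)))
    (X : DerivedCategory A) (b : ℤ) [X.IsLE b]
    (hX : ∀ i : ℤ, P ((DerivedCategory.homologyFunctor A i).obj X)) :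
    IsIso (η.app X) := by
  have := isoLocus_isTriangulated η
  rw [DerivedCategory.isIso_iff]
  intro i
  obtain ⟨n₂, h₂⟩ := hF' (i - 2)
  obtain ⟨n₂', h₂'⟩ := hG' (i - 2)
  obtain ⟨m, hm₁, hm₂, hm₃⟩ : ∃ m : ℤ, m ≤ n₂ ∧ m ≤ n₂' ∧ m ≤ b :=
    ⟨min (min n₂ n₂') b, by omega, by omega, by omega⟩
  have hT := (tt A).triangleLEGT_distinguished m X
  have hLE1 : (((tt A).truncLE m).obj X).IsLE m := inferInstance
  have hF1 : (F.obj (((tt A).truncLE m).obj X)).IsLE (i - 2) :=
    h₂ _ ((tt A).isLE_of_le _ m n₂ hm₁)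
  have hG1 : (G.obj (((tt A).truncLE m).obj X)).IsLE (i - 2) :=
    h₂' _ ((tt A).isLE_of_le _ m n₂' hm₂)
  have hFπ : IsIso ((homologyFunctor B i).map (F.map (((tt A).truncGTπ m).app X))) :=
    isIso_homology_map_mor₂_of_isLE _ (F.map_distinguished _ hT) i hF1
  have hGπ : IsIso ((homologyFunctor B i).map (G.map (((tt A).truncGTπ m).app X))) :=
    isIso_homology_map_mor₂_of_isLE _ (G.map_distinguished _ hT) i hG1
  have hτ : IsIso (η.app (((tt A).truncGT m).obj X)) := by
    obtain ⟨n, hn⟩ : ∃ n : ℕ, b ≤ m + 1 + n := ⟨(b - m).toNat, by omega⟩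
    refine devissage P (isoLocus η) hη n (m + 1) _ ?_ ?_
    · rintro j (hj | hj)
      · exact isZero_homology_truncGT X m j (by lia)
      · have := epi_homology_map_truncGTπ X m j (by lia)
        exact IsZero.of_epi ((homologyFunctor A j).map (((tt A).truncGTπ m).app X))
          (isZero_of_isLE X b j (by lia))
    · intro j
      by_cases hj : j ≤ m
      · exact hP _ (isZero_homology_truncGT X m j hj)
      · have := isIso_homology_map_truncGTπ X m j (by lia)
        exact P.prop_of_iso (asIso ((homologyFunctor A j).map (((tt A).truncGTπ m).app X)))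
          (hX j)
  have nat := η.naturality (((tt A).truncGTπ m).app X)
  have nat' := congrArg (homologyFunctor B i).map nat
  simp only [Functor.map_comp] at nat'
  have : (homologyFunctor B i).map (η.app X) =
      (homologyFunctor B i).map (F.map (((tt A).truncGTπ m).app X)) ≫
        (homologyFunctor B i).map (η.app (((tt A).truncGT m).obj X)) ≫
          inv ((homologyFunctor B i).map (G.map (((tt A).truncGTπ m).app X))) := by
    rw [← Category.assoc, IsIso.eq_comp_inv]
    exact nat'.symm
  rw [this]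
  infer_instance

/-- Fix abelian categories A and B, A' a class of objects of A closed under isomorphisms and containing
the zero objects, F and G triangulated functors from D(A) to D(B) which are way-out in both
directions (way-out right: given n₁ there is n₂ such that H^i(Y) = 0 for i < n₂ implies H^i(F Y) = 0
for i < n₁; way-out left: the same with the inequalities reversed), and η : F ⟶ G a morphism of
triangulated functors. If η_X is an isomorphism for every object X of A' placed in degree 0, then
η_X is an isomorphism for every object X of D(A) whose cohomology objects all lie in A'. (Stated for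
functors defined on all of D(A).) -/
theorem result {A : Type u} [Category.{v} A] [Abelian A] [HasDerivedCategory.{w} A]
    {B : Type u'} [Category.{v'} B] [Abelian B] [HasDerivedCategory.{w'} B]
    (P : ObjectProperty A) [P.IsClosedUnderIsomorphisms] (hP : ∀ Z : A, IsZero Z → P Z)
    (F G : DerivedCategory A ⥤ DerivedCategory B) [F.CommShift ℤ] [G.CommShift ℤ]
    [F.IsTriangulated] [G.IsTriangulated] (η : F ⟶ G) [NatTrans.CommShift η ℤ]
    (hF : ∀ n₁ : ℤ, ∃ n₂ : ℤ, ∀ Y : DerivedCategory A, Y.IsGE n₂ → (F.obj Y).IsGE n₁)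
    (hF' : ∀ n₁ : ℤ, ∃ n₂ : ℤ, ∀ Y : DerivedCategory A, Y.IsLE n₂ → (F.obj Y).IsLE n₁)
    (hG : ∀ n₁ : ℤ, ∃ n₂ : ℤ, ∀ Y : DerivedCategory A, Y.IsGE n₂ → (G.obj Y).IsGE n₁)
    (hG' : ∀ n₁ : ℤ, ∃ n₂ : ℤ, ∀ Y : DerivedCategory A, Y.IsLE n₂ → (G.obj Y).IsLE n₁)
    (hη : ∀ X : A, P X → IsIso (η.app ((DerivedCategory.singleFunctor A 0).obj X)))
    (X : DerivedCategory A)
    (hX : ∀ i : ℤ, P ((DerivedCategory.homologyFunctor A i).obj X)) :
    IsIso (η.app X) := by
  have := isoLocus_isTriangulated η
  have hT := (tt A).triangleLEGT_distinguished 0 X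
  have h1 : IsIso (η.app (((tt A).truncLE 0).obj X)) := by
    refine bounded_above P hP F G η hF' hG' hη _ 0 ?_
    intro j
    by_cases hj : j ≤ 0
    · have := isIso_homology_map_truncLEι X 0 j hj
      exact P.prop_of_iso (asIso ((homologyFunctor A j).map (((tt A).truncLEι 0).app X))).symm
        (hX j)
    · exact hP _ (isZero_homology_truncLE X 0 j (by lia))
  have h3 : IsIso (η.app (((tt A).truncGT 0).obj X)) := by
    refine Groth.Agent.S11150.result P F G η hF hG hη _ (0 + 1) ?_
    intro j
    by_cases hj : j ≤ 0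
    · exact hP _ (isZero_homology_truncGT X 0 j hj)
    · have := isIso_homology_map_truncGTπ X 0 j (by lia)
      exact P.prop_of_iso (asIso ((homologyFunctor A j).map (((tt A).truncGTπ 0).app X)))
        (hX j)
  exact (isoLocus η).ext_of_isTriangulatedClosed₂ _ hT h1 h3

end Groth.Agent.S11151
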