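import Groth.Statements.S11159
import Mathlib
-- import your own Groth.Agent.* helpers here

set_option autoImplicit false
universe w v u
open CategoryTheory CategoryTheory.Limits CategoryTheory.Pretriangulated
open Pretriangulated
open CohDer

namespace Groth.Agent.S11159

/-- Let A be an abelian category with enough injectives and X ⟶ Y ⟶ Z ⟶ X⟦1⟧ a distinguished triangle in
D(A). If X and Z are each isomorphic in D(A) to a bounded complex of injective objects of A, then so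
is Y. -/
theorem result {A : Type u} [Category.{v} A] [Abelian A]
    [HasDerivedCategory.{w} A] [EnoughInjectives A]
    (T : Triangle (DerivedCategory A)) (hT : T ∈ distTriang (DerivedCategory A))
    (h₁ : (∃ (I : CochainComplex A ℤ) (b c : ℤ), I.IsStrictlyGE b ∧ I.IsStrictlyLE c ∧
        (∀ n : ℤ, Injective (I.X n)) ∧ Nonempty (T.obj₁ ≅ DerivedCategory.Q.obj I)))
    (h₃ : (∃ (I : CochainComplex A ℤ) (b c : ℤ), I.IsStrictlyGE b ∧ I.IsStrictlyLE c ∧
        (∀ n : ℤ, Injective (I.X n)) ∧ Nonempty (T.obj₃ ≅ DerivedCategory.Q.obj I))) :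
    (∃ (I : CochainComplex A ℤ) (b c : ℤ), I.IsStrictlyGE b ∧ I.IsStrictlyLE c ∧
        (∀ n : ℤ, Injective (I.X n)) ∧ Nonempty (T.obj₂ ≅ DerivedCategory.Q.obj I)) := by
  obtain ⟨I₁, b₁, c₁, hb₁, hc₁, hinj₁, ⟨e₁⟩⟩ := h₁
  obtain ⟨I₃, b₃, c₃, hb₃, hc₃, hinj₃, ⟨e₃⟩⟩ := h₃
  haveI := hb₁; haveI := hc₁; haveI := hb₃; haveI := hc₃
  haveI : ∀ n, Injective (I₁.X n) := hinj₁
  haveI : I₁.IsKInjective := CochainComplex.isKInjective_of_injective I₁ b₁
  -- K = I₃⟦-1⟧
  let K : CochainComplex A ℤ := I₃⟦(-1 : ℤ)⟧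
  haveI hKge : K.IsStrictlyGE (b₃ + 1) := I₃.isStrictlyGE_shift b₃ (-1) (b₃ + 1) (by lia)
  haveI hKle : K.IsStrictlyLE (c₃ + 1) := I₃.isStrictlyLE_shift c₃ (-1) (c₃ + 1) (by lia)
  let eK : T.invRotate.obj₁ ≅ DerivedCategory.Q.obj K :=
    (shiftFunctor _ (-1 : ℤ)).mapIso e₃ ≪≫
      ((DerivedCategory.Q.commShiftIso (-1 : ℤ)).app I₃).symm
  let u : DerivedCategory.Q.obj K ⟶ DerivedCategory.Q.obj I₁ :=
    eK.inv ≫ T.invRotate.mor₁ ≫ e₁.hom
  obtain ⟨g, hg⟩ : ∃ g : K ⟶ I₁, DerivedCategory.Q.map g = u := by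
    obtain ⟨g', hg'⟩ := (CochainComplex.IsKInjective.Qh_map_bijective
      ((HomotopyCategory.quotient _ _).obj K) I₁).surjective
      ((DerivedCategory.quotientCompQhIso A).hom.app K ≫ u ≫
        (DerivedCategory.quotientCompQhIso A).inv.app I₁)
    obtain ⟨g, rfl⟩ := (HomotopyCategory.quotient _ _).map_surjective g'
    refine ⟨g, ?_⟩
    have h1 := DerivedCategory.quotientCompQhIso_hom_naturality g
    rw [hg'] at h1
    simp only [Category.assoc, Iso.inv_hom_id_app, Category.comp_id] at h1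
    have h2 := (cancel_epi ((DerivedCategory.quotientCompQhIso A).hom.app K)).1 h1
    exact h2.symm
  have hT' := inv_rot_of_distTriang _ hT
  have hcone := DerivedCategory.mappingCone_triangle_distinguished g
  have comm : T.invRotate.mor₁ ≫ e₁.hom = eK.hom ≫
      (DerivedCategory.Q.mapTriangle.obj (CochainComplex.mappingCone.triangle g)).mor₁ := by
    show T.invRotate.mor₁ ≫ e₁.hom = eK.hom ≫ DerivedCategory.Q.map g
    rw [hg]
    simp only [u, Iso.hom_inv_id_assoc]
  let iso := isoTriangleOfIso₁₂ _ _ hT' hcone eK e₁ comm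
  refine ⟨CochainComplex.mappingCone g, min b₃ b₁, max c₃ c₁, ?_, ?_, ?_,
    ⟨(Triangle.π₃.mapIso iso)⟩⟩
  · exact CochainComplex.isStrictlyGE_mappingCone g (b₃ + 1) b₁ (min b₃ b₁)
      (by have := min_le_left b₃ b₁; lia) (min_le_right _ _)
  · rw [CochainComplex.isStrictlyLE_iff]
    intro i hi
    rw [CochainComplex.mappingCone.isZero_X_iff]
    have h1 := le_max_left c₃ c₁
    have h2 := le_max_right c₃ c₁
    exact ⟨K.isZero_of_isStrictlyLE (c₃ + 1) _ (by lia), I₁.isZero_of_isStrictlyLE c₁ _ (by lia)⟩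
  · intro n
    haveI : Injective (K.X (n + 1)) := hinj₃ _
    exact Injective.of_iso
      (HomologicalComplex.homotopyCofiber.XIsoBiprod g n (n + 1) rfl).symm inferInstance

end Groth.Agent.S11159
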