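import Groth.Statements.S11165
import Mathlib
import Groth.Agent.S4456
import Groth.Agent.S11319
import Groth.Agent.Lib.RpushVanish_helper9

set_option autoImplicit false
universe u
open CategoryTheory CategoryTheory.Limits AlgebraicGeometry
open Coherent

namespace Groth.Agent.S11165

/-- Let f : X ⟶ Y be a separated morphism of schemes, U an open of X on which f restricts to an affine
morphism, i : U ⟶ X the inclusion and F a quasi-coherent O_X-module. Then i_*(F|_U) is acyclic for
f_*: its higher direct images R^j f_* vanish for j > 0. (The binder asserting injective resolutions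
of O_X-modules always holds.) -/
theorem result {X Y : Scheme.{u}} (f : X ⟶ Y) [IsSeparated f]
    (U : X.Opens) [IsAffineHom (U.ι ≫ f)] (F : X.Modules) (hF : Coh.IsQCoh F)
    [HasInjectiveResolutions X.Modules] (j : ℕ) (hj : 0 < j) :
    IsZero ((Coh.Rpush f j).obj ((Scheme.Modules.pushforward U.ι).obj ((Scheme.Modules.restrictFunctor U.ι).obj F))) := by
  haveI : F.IsQuasicoherent := hF
  haveI hU : IsAffineHom U.ι := IsAffineHom.of_comp U.ι f
  haveI hq : ((Scheme.Modules.restrictFunctor U.ι).obj F).IsQuasicoherent := inferInstance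
  haveI hq' : Coh.IsQCoh ((Scheme.Modules.restrictFunctor U.ι).obj F) := hq
  obtain ⟨k, rfl⟩ : ∃ k, j = k + 1 := ⟨j - 1, by omega⟩
  obtain ⟨e1⟩ := Groth.Agent.S4456.result U.ι f ((Scheme.Modules.restrictFunctor U.ι).obj F) (k + 1)
  have h0 : IsZero ((Coh.RpushAb (U.ι ≫ f) (k + 1)).obj
      (Coh.toAb ((Scheme.Modules.restrictFunctor U.ι).obj F))) :=
    RpushVanish.isZero_RpushAb_of_isAffineHom (U.ι ≫ f) _ k
  have h1 : IsZero ((Coh.RpushAb f (k + 1)).obj
      (Coh.toAb ((Coh.push U.ι).obj ((Scheme.Modules.restrictFunctor U.ι).obj F)))) :=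
    h0.of_iso e1
  obtain ⟨e2⟩ := Groth.Agent.S11319.result f
    ((Scheme.Modules.pushforward U.ι).obj ((Scheme.Modules.restrictFunctor U.ι).obj F)) (k + 1)
  have h2 := h1.of_iso e2
  rw [IsZero.iff_id_eq_zero] at h2 ⊢
  apply (SheafOfModules.toSheaf Y.ringCatSheaf).map_injective
  exact ((SheafOfModules.toSheaf Y.ringCatSheaf).map_id _).trans
    (h2.trans ((SheafOfModules.toSheaf Y.ringCatSheaf).map_zero _ _).symm)

end Groth.Agent.S11165
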