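import Groth.Statements.S11221
import Mathlib

set_option autoImplicit false
universe u
open CategoryTheory MonoidalCategory CartesianMonoidalCategory MonObj GrpObj AlgebraicGeometry
open scoped TensorProduct
open AGF

namespace Groth.Agent.S11221

/-- Let R be a Noetherian integrally closed domain with fraction field K and let p be a prime ideal of R
of height one. Then there is f ∈ K which is not in R but lies in the local ring R_q ⊆ K of every
height-one prime q ≠ p (f = a/b with b ∉ q): a rational function on Spec R with a pole along V(p)
only. (The published statement is for the coordinate ring of a normal affine variety; this row is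
for any Noetherian integrally closed domain, which is all the argument uses.) -/
theorem result (R : Type u) [CommRing R] [IsDomain R] [IsNoetherianRing R] [IsIntegrallyClosed R]
    (p : Ideal R) [p.IsPrime] (hp : p.height = 1) :
    ∃ f : FractionRing R, f ∉ Set.range ⇑(algebraMap R (FractionRing R)) ∧
      ∀ q : Ideal R, q.IsPrime → q.height = 1 → q ≠ p →
        ∃ a b : R, b ∉ q ∧ f * algebraMap R (FractionRing R) b = algebraMap R (FractionRing R) a := by
  classical
  haveI : p.FiniteHeight := by
    rw [Ideal.finiteHeight_iff]; right; rw [hp]; exact ENat.one_ne_top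
  -- a nonzero element of p
  have hpbot : p ≠ ⊥ := by
    intro h; rw [h, Ideal.height_bot] at hp; exact zero_ne_one hp
  obtain ⟨a, hap, ha0⟩ := Submodule.exists_mem_ne_zero_of_ne_bot hpbot
  -- p is a minimal prime over (a), hence associated to R/(a)
  have hmin : p ∈ (Ideal.span {a}).minimalPrimes := by
    apply Ideal.mem_minimalPrimes_of_height_le ((Ideal.span_singleton_le_iff_mem p).2 hap)
    rw [hp]
    exact Ideal.one_le_height_span_singleton_of_mem_nonZeroDivisors
      (mem_nonZeroDivisors_of_ne_zero ha0)
  have hass : p ∈ associatedPrimes R (R ⧸ Ideal.span {a}) := by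
    apply Module.associatedPrimes.minimalPrimes_annihilator_subset_associatedPrimes R (R ⧸ Ideal.span {a})
    rwa [Ideal.annihilator_quotient]
  obtain ⟨-, x, hx⟩ := (isAssociatedPrime_iff).1 hass
  obtain ⟨b, rfl⟩ := Ideal.Quotient.mk_surjective x
  have hmem : ∀ r : R, r ∈ p ↔ r * b ∈ Ideal.span {a} := by
    intro r
    rw [hx, Submodule.mem_colon_singleton, Submodule.mem_bot, ← Ideal.Quotient.eq_zero_iff_mem,
      map_mul]
    rfl
  have ha' : algebraMap R (FractionRing R) a ≠ 0 := by
    rwa [Ne, map_eq_zero_iff _ (IsFractionRing.injective R (FractionRing R))]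
  refine ⟨algebraMap R (FractionRing R) b / algebraMap R (FractionRing R) a, ?_, ?_⟩
  · rintro ⟨r, hr⟩
    rw [eq_div_iff ha', ← map_mul] at hr
    have hrb : r * a = b := IsFractionRing.injective R (FractionRing R) hr
    have : (1 : R) ∈ p := by
      rw [hmem, _root_.one_mul, ← hrb]
      exact Ideal.mul_mem_left _ _ (Ideal.mem_span_singleton_self a)
    exact (Ideal.IsPrime.ne_top inferInstance) ((Ideal.eq_top_iff_one p).2 this)
  · intro q hq hqh hqp
    haveI := hq
    have hnle : ¬ p ≤ q := by
      intro hle
      have hlt : p < q := lt_of_le_of_ne hle (Ne.symm hqp)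
      have := Ideal.height_strict_mono_of_isPrime hlt
      rw [hp, hqh] at this
      exact lt_irrefl _ this
    obtain ⟨s, hsp, hsq⟩ := Set.not_subset.1 hnle
    obtain ⟨r, hr⟩ := Ideal.mem_span_singleton'.1 ((hmem s).1 hsp)
    refine ⟨r, s, hsq, ?_⟩
    rw [div_mul_eq_mul_div, div_eq_iff ha', ← map_mul, ← map_mul, hr, mul_comm]

end Groth.Agent.S11221
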