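import Groth.Statements.S11223
import Mathlib

set_option autoImplicit false
universe u
open CAlg

namespace Groth.Agent.S11223

/-- Let k be a field, let z_1, ..., z_m be homogeneous polynomials of positive degree in the polynomial
ring k[x_1, ..., x_n], and suppose the radical of the ideal (z_1, ..., z_m) is the ideal (x_1, ...,
x_n) generated by the variables. Then the polynomial ring is integral over the subalgebra generated
by z_1, ..., z_m. (The published statement is over an algebraically closed field; this row takes any
field, which its proof allows.) -/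
theorem result (k : Type u) [Field k] (n m : ℕ)
    (z : Fin m → MvPolynomial (Fin n) k) (d : Fin m → ℕ) (hd : ∀ i, 0 < d i)
    (hz : ∀ i, (z i).IsHomogeneous (d i))
    (hrad : (Ideal.span (Set.range z)).radical =
      Ideal.span (Set.range (MvPolynomial.X : Fin n → MvPolynomial (Fin n) k))) :
    Algebra.IsIntegral (Algebra.adjoin k (Set.range z)) (MvPolynomial (Fin n) k) := by
  classical
  letI : GradedAlgebra (MvPolynomial.homogeneousSubmodule (Fin n) k) := MvPolynomial.gradedAlgebra
  set I : Ideal (MvPolynomial (Fin n) k) := Ideal.span (Set.range z) with hI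
  -- Step 1: high-degree monomials lie in I
  have hXrad : ∀ i : Fin n, ∃ e : ℕ, (MvPolynomial.X i : MvPolynomial (Fin n) k) ^ e ∈ I := by
    intro i
    have : (MvPolynomial.X i : MvPolynomial (Fin n) k) ∈ I.radical := by
      rw [hrad]; exact Ideal.subset_span ⟨i, rfl⟩
    exact this
  choose e he using hXrad
  set N : ℕ := ∑ i, e i + 1 with hN
  have hmonI : ∀ a : Fin n →₀ ℕ, N ≤ a.degree →
      (MvPolynomial.monomial a (1 : k)) ∈ I := by
    intro a ha
    have hex : ∃ i, e i ≤ a i := by
      by_contra hcon
      push Not at hcon
      have h1 : a.degree ≤ ∑ i, e i := by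
        rw [Finsupp.degree_eq_sum]
        exact Finset.sum_le_sum fun i _ => (hcon i).le
      omega
    obtain ⟨i, hi⟩ := hex
    have hsplit : a = Finsupp.single i (e i) + (a - Finsupp.single i (e i)) := by
      rw [add_tsub_cancel_of_le]
      rw [Finsupp.single_le_iff]
      exact hi
    have hmul : MvPolynomial.monomial a (1 : k) = MvPolynomial.X i ^ e i *
        MvPolynomial.monomial (a - Finsupp.single i (e i)) 1 := by
      conv_lhs => rw [hsplit]
      rw [MvPolynomial.X_pow_eq_monomial, MvPolynomial.monomial_mul, one_mul]
    rw [hmul]
    exact I.mul_mem_right _ (he i)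
  -- Step 2: the A-span of low-degree monomials
  set A := Algebra.adjoin k (Set.range z) with hA
  set gens : Set (MvPolynomial (Fin n) k) :=
    (fun a : Fin n →₀ ℕ => MvPolynomial.monomial a (1 : k)) '' {a | a.degree < N} with hgens
  have hgensfin : gens.Finite := (Finsupp.finite_of_degree_lt N).image _
  set M : Submodule A (MvPolynomial (Fin n) k) := Submodule.span A gens with hM
  have hzA : ∀ i, z i ∈ A := fun i => Algebra.subset_adjoin ⟨i, rfl⟩
  have hzmul : ∀ i (f : MvPolynomial (Fin n) k), f ∈ M → f * z i ∈ M := by
    intro i f hf
    have := M.smul_mem (⟨z i, hzA i⟩ : A) hf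
    rw [mul_comm]; exact this
  have hksmul : ∀ (c : k) (f : MvPolynomial (Fin n) k), f ∈ M → c • f ∈ M := by
    intro c f hf
    exact Submodule.smul_of_tower_mem M c hf
  have hmono : ∀ (a : Fin n →₀ ℕ) (c : k), MvPolynomial.monomial a (1 : k) ∈ M →
      MvPolynomial.monomial a c ∈ M := by
    intro a c h
    have : MvPolynomial.monomial a c = c • MvPolynomial.monomial a (1 : k) := by
      rw [MvPolynomial.smul_monomial, smul_eq_mul, mul_one]
    rw [this]; exact hksmul c _ h
  have hhom : ∀ D : ℕ, ∀ f : MvPolynomial (Fin n) k,
      f ∈ MvPolynomial.homogeneousSubmodule (Fin n) k D → f ∈ M := by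
    intro D
    induction D using Nat.strong_induction_on with
    | _ D ih =>
      intro f hf
      rw [MvPolynomial.mem_homogeneousSubmodule] at hf
      by_cases hD : D < N
      · rw [f.as_sum]
        refine M.sum_mem fun a ha => ?_
        apply hmono
        apply Submodule.subset_span
        refine ⟨a, ?_, rfl⟩
        have : a.degree = D := by
          rw [Finsupp.degree_eq_weight_one]; exact hf (MvPolynomial.mem_support_iff.1 ha)
        rw [Set.mem_ofPred_eq, this]; exact hD
      · push Not at hD
        have hfI : f ∈ I := by
          rw [f.as_sum]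
          refine I.sum_mem fun a ha => ?_
          have hdeg : a.degree = D := by
            rw [Finsupp.degree_eq_weight_one]; exact hf (MvPolynomial.mem_support_iff.1 ha)
          have : MvPolynomial.monomial a (MvPolynomial.coeff a f) =
              MvPolynomial.C (MvPolynomial.coeff a f) * MvPolynomial.monomial a (1 : k) := by
            rw [MvPolynomial.C_mul_monomial, mul_one]
          rw [this]
          exact I.mul_mem_left _ (hmonI a (by rw [hdeg]; exact hD))
        obtain ⟨g, hg⟩ := (Ideal.mem_span_range_iff_exists_fun).1 hfI
        have hfD : f = ((DirectSum.decompose (MvPolynomial.homogeneousSubmodule (Fin n) k) f) D :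
            MvPolynomial (Fin n) k) :=
          (DirectSum.decompose_of_mem_same _ ((MvPolynomial.mem_homogeneousSubmodule _ _).2 hf)).symm
        rw [hfD, ← hg, DirectSum.decompose_sum, DFinsupp.finsetSum_apply,
          AddSubmonoidClass.coe_finsetSum]
        refine M.sum_mem fun i _ => ?_
        have hzi : z i ∈ MvPolynomial.homogeneousSubmodule (Fin n) k (d i) :=
          (MvPolynomial.mem_homogeneousSubmodule _ _).2 (hz i)
        rw [DirectSum.coe_decompose_mul_of_right_mem _ D hzi]
        split_ifs with hle
        · apply hzmul
          apply ih (D - d i) (by have := hd i; omega)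
          exact SetLike.coe_mem _
        · exact M.zero_mem
  have hMtop : M = ⊤ := by
    rw [eq_top_iff]
    intro f _
    rw [← DirectSum.sum_support_decompose (MvPolynomial.homogeneousSubmodule (Fin n) k) f]
    refine M.sum_mem fun D _ => ?_
    exact hhom D _ (SetLike.coe_mem _)
  haveI : Module.Finite A (MvPolynomial (Fin n) k) := ⟨by
    rw [← hMtop]; exact Submodule.fg_span hgensfin⟩
  exact Algebra.IsIntegral.of_finite A (MvPolynomial (Fin n) k)

end Groth.Agent.S11223
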