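import Groth.Statements.S11233
import Mathlib

set_option autoImplicit false
universe u
open CAlg

namespace Groth.Agent.S11233

/-- Let k be an algebraically closed field, A an integral domain which is a k-algebra, T an m by m
matrix over A with invertible determinant, and let the additive group k^m act on the polynomial ring
A[y_1, ..., y_m] by the A-algebra maps y_s ↦ y_s + Σ_r h_r T_rs. Then the only invariant polynomials
are the constants: a polynomial fixed by all these substitutions lies in A. -/
theorem result (k : Type u) [Field k] [IsAlgClosed k]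
    (A : Type u) [CommRing A] [IsDomain A] [Algebra k A] (m : ℕ) (T : Matrix (Fin m) (Fin m) A)
    (hT : IsUnit T.det) (f : MvPolynomial (Fin m) A)
    (hf : ∀ h : Fin m → k, MvPolynomial.aeval
      (fun s : Fin m => MvPolynomial.X s + MvPolynomial.C (∑ r : Fin m, algebraMap k A (h r) * T r s)) f = f) :
    ∃ a : A, f = MvPolynomial.C a := by
  classical
  let g : Fin m → MvPolynomial (Fin m) (MvPolynomial (Fin m) A) := fun s =>
    MvPolynomial.C (MvPolynomial.X s : MvPolynomial (Fin m) A)
      + ∑ r : Fin m, MvPolynomial.X r *
          MvPolynomial.C (MvPolynomial.C (T r s) : MvPolynomial (Fin m) A)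
  have hcomp : ∀ w : Fin m → MvPolynomial (Fin m) A,
      MvPolynomial.eval w (MvPolynomial.aeval (R := A) g f)
      = MvPolynomial.aeval (R := A)
          (fun s => (MvPolynomial.X s : MvPolynomial (Fin m) A)
            + ∑ r : Fin m, w r * MvPolynomial.C (T r s)) f := by
    intro w
    have h1 : ((MvPolynomial.aeval (R := MvPolynomial (Fin m) A) w).restrictScalars A).comp
          (MvPolynomial.aeval (R := A) g)
        = MvPolynomial.aeval (R := A)
          (fun s => (MvPolynomial.X s : MvPolynomial (Fin m) A)
            + ∑ r : Fin m, w r * MvPolynomial.C (T r s)) := by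
      apply MvPolynomial.algHom_ext
      intro s
      simp [g]
    exact DFunLike.congr_fun h1 f
  have hzero : MvPolynomial.aeval (R := A) g f = MvPolynomial.C f := by
    apply MvPolynomial.funext_set
      (fun _ : Fin m => Set.range (algebraMap k (MvPolynomial (Fin m) A)))
    · intro i
      exact Set.infinite_range_of_injective (algebraMap k (MvPolynomial (Fin m) A)).injective
    · intro w hw
      have hw' : ∀ r, ∃ c : k, algebraMap k (MvPolynomial (Fin m) A) c = w r :=
        fun r => hw r (Set.mem_univ r)
      choose h hh using hw'
      rw [hcomp w, MvPolynomial.eval_C]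
      have hfun : (fun s => (MvPolynomial.X s : MvPolynomial (Fin m) A)
            + ∑ r : Fin m, w r * MvPolynomial.C (T r s))
          = (fun s => MvPolynomial.X s
            + MvPolynomial.C (∑ r : Fin m, algebraMap k A (h r) * T r s)) := by
        funext s
        congr 1
        rw [map_sum]
        apply Finset.sum_congr rfl
        intro r _
        rw [← hh r, map_mul]
        rfl
      rw [hfun]; exact hf h
  let w₀ : Fin m → MvPolynomial (Fin m) A := fun r =>
    - ∑ t : Fin m, MvPolynomial.X t * MvPolynomial.C (T⁻¹ t r)
  have h3 := congrArg (MvPolynomial.eval w₀) hzero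
  rw [hcomp w₀, MvPolynomial.eval_C] at h3
  have h4 : (fun s => (MvPolynomial.X s : MvPolynomial (Fin m) A)
            + ∑ r : Fin m, w₀ r * MvPolynomial.C (T r s)) = fun _ => 0 := by
    funext s
    have hinv : T⁻¹ * T = 1 := Matrix.nonsing_inv_mul T hT
    have h6 : ∑ r : Fin m, w₀ r * MvPolynomial.C (T r s)
        = - (MvPolynomial.X s : MvPolynomial (Fin m) A) := by
      simp only [w₀, neg_mul, Finset.sum_neg_distrib, Finset.sum_mul]
      rw [Finset.sum_comm]
      congr 1
      have h7 : ∀ t : Fin m, ∑ r : Fin m,
          (MvPolynomial.X t : MvPolynomial (Fin m) A) * MvPolynomial.C (T⁻¹ t r)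
            * MvPolynomial.C (T r s)
          = MvPolynomial.X t * MvPolynomial.C ((1 : Matrix (Fin m) (Fin m) A) t s) := by
        intro t
        rw [← hinv, Matrix.mul_apply, map_sum, Finset.mul_sum]
        apply Finset.sum_congr rfl
        intro r _
        rw [map_mul, mul_assoc]
      simp only [h7, Matrix.one_apply]
      rw [Finset.sum_eq_single s]
      · simp
      · intro t _ hts; simp [hts]
      · intro h; exact absurd (Finset.mem_univ s) h
    rw [h6, add_neg_cancel]
  rw [h4, MvPolynomial.aeval_zero'] at h3
  exact ⟨MvPolynomial.constantCoeff f, h3.symm⟩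

end Groth.Agent.S11233
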