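import Groth.Statements.S11235
import Mathlib

set_option autoImplicit false
universe u
open CAlg

namespace Groth.Agent.S11235

/-- Let k be an algebraically closed field, A a commutative k-algebra, α ∈ k, and M a maximal ideal of
the polynomial ring A[x] containing x - α. Let I ⊆ M be an ideal whose zero set in Spec A[x] is
invariant under the automorphisms x ↦ c·x, c ∈ k nonzero (equivalently: the image of I under each
such A-algebra automorphism has the same radical as I). Then there is a maximal ideal of A[x]
containing I and x. -/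
theorem result (k : Type u) [Field k] [IsAlgClosed k]
    (A : Type u) [CommRing A] [Algebra k A] (α : k)
    (M : Ideal (Polynomial A)) (hM : M.IsMaximal)
    (hα : Polynomial.X - Polynomial.C (algebraMap k A α) ∈ M)
    (I : Ideal (Polynomial A)) (hIM : I ≤ M)
    (hI : ∀ c : kˣ, (I.map (Polynomial.aeval (R := A)
      (algebraMap k A (c : k) • (Polynomial.X : Polynomial A)))).radical = I.radical) :
    ∃ N : Ideal (Polynomial A), N.IsMaximal ∧ I ≤ N ∧ Polynomial.X ∈ N := by
  classical
  by_cases hα0 : α = 0
  · refine ⟨M, hM, hIM, ?_⟩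
    simpa [hα0] using hα
  letI : Field (Polynomial A ⧸ M) := Ideal.Quotient.field M
  set π : Polynomial A →+* (Polynomial A ⧸ M) := Ideal.Quotient.mk M with hπ
  set ι : A →+* (Polynomial A ⧸ M) := π.comp Polynomial.C with hι
  set a₀ : A := algebraMap k A α with ha₀
  have hπX : π Polynomial.X = ι a₀ := by
    have : π (Polynomial.X - Polynomial.C a₀) = 0 := Ideal.Quotient.eq_zero_iff_mem.2 hα
    rw [map_sub, sub_eq_zero] at this
    exact this
  have hπeval : ∀ (f : Polynomial A) (y : Polynomial A), π (Polynomial.eval₂ Polynomial.C y f) =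
      Polynomial.eval₂ ι (π y) f := by
    intro f y
    rw [Polynomial.hom_eval₂]
  set φ₀ : Polynomial A →+* (Polynomial A ⧸ M) := Polynomial.eval₂RingHom ι 0 with hφ₀
  have hsurj : Function.Surjective φ₀ := by
    intro y
    obtain ⟨f, rfl⟩ := Ideal.Quotient.mk_surjective y
    refine ⟨Polynomial.C (Polynomial.eval a₀ f), ?_⟩
    have h1 : π f = Polynomial.eval₂ ι (π Polynomial.X) f := by
      conv_lhs => rw [← Polynomial.eval₂_C_X (p := f)]
      exact hπeval f Polynomial.X
    rw [hφ₀, Polynomial.coe_eval₂RingHom, Polynomial.eval₂_C]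
    change _ = π f
    rw [h1, hπX, Polynomial.eval₂_at_apply]
  refine ⟨RingHom.ker φ₀, RingHom.ker_isMaximal_of_surjective φ₀ hsurj, ?_, ?_⟩
  · intro f hf
    rw [RingHom.mem_ker, hφ₀, Polynomial.coe_eval₂RingHom, ← Polynomial.eval_map]
    suffices h : f.map ι = 0 by rw [h]; simp
    set g : k →+* (Polynomial A ⧸ M) := ι.comp (algebraMap k A) with hg
    have hginj : Function.Injective g := g.injective
    apply Polynomial.eq_zero_of_infinite_isRoot
    have hinf : ({x : k | x ≠ 0} : Set k).Infinite := (Set.finite_singleton (0 : k)).infinite_compl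
    have hinj : Set.InjOn (fun x : k => g (x * α)) {x : k | x ≠ 0} := by
      intro x _ y _ hxy
      exact mul_right_cancel₀ hα0 (hginj hxy)
    refine (hinf.image hinj).mono ?_
    rintro _ ⟨c, hc, rfl⟩
    rw [Set.mem_ofPred_eq] at hc ⊢
    -- the root condition
    have hmem : Polynomial.aeval (R := A) (algebraMap k A c • (Polynomial.X : Polynomial A)) f ∈ M := by
      have h1 : Polynomial.aeval (R := A) (algebraMap k A c • (Polynomial.X : Polynomial A)) f ∈
          I.map (Polynomial.aeval (R := A) (algebraMap k A c • (Polynomial.X : Polynomial A))) :=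
        Ideal.mem_map_of_mem _ hf
      have h2 := Ideal.le_radical h1
      have h3 := hI (Units.mk0 c hc)
      rw [Units.val_mk0] at h3
      rw [h3] at h2
      exact (hM.isPrime.radical_le_iff.2 hIM) h2
    have h4 : π (Polynomial.aeval (R := A) (algebraMap k A c • (Polynomial.X : Polynomial A)) f) = 0 :=
      Ideal.Quotient.eq_zero_iff_mem.2 hmem
    rw [Polynomial.aeval_def, Polynomial.algebraMap_eq, hπeval, Polynomial.smul_eq_C_mul, map_mul,
      hπX] at h4
    rw [Polynomial.IsRoot, Polynomial.eval_map]
    have h5 : g (c * α) = π (Polynomial.C ((algebraMap k A) c)) * ι a₀ := by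
      rw [hg, RingHom.comp_apply, map_mul, map_mul]
      rfl
    show Polynomial.eval₂ ι (g (c * α)) f = 0
    rw [h5]; exact h4
  · rw [RingHom.mem_ker, hφ₀, Polynomial.coe_eval₂RingHom, Polynomial.eval₂_X]

end Groth.Agent.S11235
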