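import Groth.Statements.S11239
import Mathlib

set_option autoImplicit false
universe u
open AGF

namespace Groth.Agent.S11239

/-- Let X be an m × n matrix over a commutative ring, u an upper triangular n × n matrix with ones on
the diagonal, t a diagonal n × n matrix and p ≤ n. For any choice of p rows, the minor of X·t·u
formed with these rows and the first p columns equals (t_11 ⋯ t_pp) times the corresponding minor of
X: the minors on the first p columns are semi-invariant of weight ω_p under right multiplication by
the upper triangular group. (The published statement is for the generic matrix over an algebraically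
closed field; this row states the identity over any commutative ring.) -/
theorem result (R : Type u) [CommRing R] (m n p : ℕ) (hp : p ≤ n)
    (X : Matrix (Fin m) (Fin n) R) (d : Fin n → R) (u : Matrix (Fin n) (Fin n) R)
    (hu1 : ∀ i, u i i = 1) (hu0 : ∀ i j, j < i → u i j = 0) (I : Fin p → Fin m) :
    ((X * Matrix.diagonal d * u).submatrix I (Fin.castLE hp)).det =
      (∏ i : Fin p, d (Fin.castLE hp i)) * (X.submatrix I (Fin.castLE hp)).det := by
  classical
  set c : Fin p → Fin n := Fin.castLE hp with hc
  have hcinj : Function.Injective c := Fin.castLE_injective hp
  set T : Matrix (Fin n) (Fin n) R := Matrix.diagonal d * u with hT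
  have hTij : ∀ i j, T i j = d i * u i j := by
    intro i j
    rw [hT, Matrix.diagonal_mul]
  have hfac : (X * Matrix.diagonal d * u).submatrix I c =
      (X.submatrix I c) * (T.submatrix c c) := by
    ext a b
    rw [Matrix.mul_assoc, Matrix.submatrix_apply, Matrix.mul_apply, Matrix.mul_apply]
    simp only [Matrix.submatrix_apply]
    rw [← Finset.sum_image (s := Finset.univ) (g := c)
      (f := fun i => X (I a) i * T i (c b)) (fun x _ y _ h => hcinj h)]
    symm
    apply Finset.sum_subset (Finset.subset_univ _)
    intro i _ hi
    have hlt : c b < i := by
      by_contra hcon
      push Not at hcon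
      apply hi
      rw [Finset.mem_image]
      have hip : i.val < p := by
        have h1 : i.val ≤ (c b).val := hcon
        have h2 : (c b).val = b.val := by simp [hc]
        have := b.isLt
        omega
      exact ⟨⟨i.val, hip⟩, Finset.mem_univ _, by ext; simp [hc]⟩
    rw [hTij, hu0 i (c b) hlt, mul_zero, mul_zero]
  rw [hfac, Matrix.det_mul, mul_comm]
  congr 1
  rw [Matrix.det_of_upperTriangular]
  · apply Finset.prod_congr rfl
    intro i _
    rw [Matrix.submatrix_apply, hTij, hu1, mul_one]
  · intro a b hab
    rw [Matrix.submatrix_apply, hTij, hu0 _ _ (by simpa [hc] using hab), mul_zero]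

end Groth.Agent.S11239
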