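import Groth.Statements.S11240
import Mathlib

set_option autoImplicit false
universe u
open AGF

namespace Groth.Agent.S11240

/-- For a single root subgroup: let k be an algebraically closed field and X = (x_ab) the generic n × m
matrix over the polynomial ring k[x_ab]. Let i ≠ j be row indices and let I (rows) and J (columns)
be strictly increasing sequences of length p. The minor of X with rows I and columns J is invariant
under replacing X by (1 + b·E_ij)·X for every b ∈ k (the one-parameter unipotent group adding b
times row j to row i) if and only if j occurs in I whenever i does. (The published statement gives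
the criterion for the group generated by several such root subgroups, which is the conjunction of
these.) -/
theorem result (k : Type u) [Field k] [IsAlgClosed k] (n m p : ℕ)
    (i j : Fin n) (hij : i ≠ j) (I : Fin p ↪o Fin n) (J : Fin p ↪o Fin m) :
    (∀ b : k, ((Matrix.transvection i j (MvPolynomial.C b) *
        (Matrix.of fun a c => (MvPolynomial.X (a, c) : MvPolynomial (Fin n × Fin m) k))).submatrix I J).det =
        ((Matrix.of fun a c => (MvPolynomial.X (a, c) : MvPolynomial (Fin n × Fin m) k)).submatrix I J).det) ↔
      (i ∈ Set.range I → j ∈ Set.range I) := by
  classical
  set X : Matrix (Fin n) (Fin m) (MvPolynomial (Fin n × Fin m) k) :=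
    Matrix.of fun a c => (MvPolynomial.X (a, c) : MvPolynomial (Fin n × Fin m) k) with hX
  set Xs := X.submatrix I J with hXs
  by_cases hi : i ∈ Set.range I
  · obtain ⟨r, hr⟩ := hi
    subst hr
    set v : Fin p → MvPolynomial (Fin n × Fin m) k := fun c => X j (J c) with hv
    have hY : ∀ b : k, (Matrix.transvection (I r) j (MvPolynomial.C b) * X).submatrix I J =
        Xs.updateRow r (Xs r + (MvPolynomial.C b : MvPolynomial (Fin n × Fin m) k) • v) := by
      intro b
      apply Matrix.ext
      intro a c
      by_cases ha : a = r
      · subst ha
        rw [Matrix.updateRow_self, Matrix.submatrix_apply]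
        exact Matrix.transvection_mul_apply_same (I a) j (J c) (MvPolynomial.C b) X
      · rw [Matrix.updateRow_ne ha, Matrix.submatrix_apply]
        exact Matrix.transvection_mul_apply_of_ne (I r) j (I a) (J c)
          (fun h => ha (I.injective h)) (MvPolynomial.C b) X
    have hdet : ∀ b : k, Matrix.det (Xs.updateRow r (Xs r + (MvPolynomial.C b : MvPolynomial (Fin n × Fin m) k) • v)) =
        Matrix.det Xs + MvPolynomial.C b * Matrix.det (Xs.updateRow r v) := by
      intro b
      rw [Matrix.det_updateRow_add, Matrix.det_updateRow_smul, Matrix.updateRow_eq_self]
    constructor
    · intro h _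
      by_contra hj
      have h1 := h 1
      rw [hY, hdet, MvPolynomial.C_1, one_mul] at h1
      have hz : Matrix.det (Xs.updateRow r v) = 0 := by
        have := h1
        rwa [add_eq_left] at this
      set I' : Fin p → Fin n := Function.update I r j with hI'
      have hI'r : I' r = j := by simp [hI']
      have hI'ne : ∀ a, a ≠ r → I' a = I a := fun a ha => by simp [hI', Function.update_of_ne ha]
      have hI'inj : Function.Injective I' := by
        intro a a' haa
        by_cases ha : a = r
        · by_cases ha' : a' = r
          · rw [ha, ha']
          · exfalso
            rw [ha, hI'r, hI'ne a' ha'] at haa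
            exact hj ⟨a', haa.symm⟩
        · by_cases ha' : a' = r
          · exfalso
            rw [ha', hI'r, hI'ne a ha] at haa
            exact hj ⟨a, haa⟩
          · rw [hI'ne a ha, hI'ne a' ha'] at haa
            exact I.injective haa
      let f : Fin n × Fin m → k := fun x => if ∃ r', x = (I' r', J r') then 1 else 0
      have hentry : ∀ a c, (Xs.updateRow r v) a c =
          (MvPolynomial.X (I' a, J c) : MvPolynomial (Fin n × Fin m) k) := by
        intro a c
        by_cases ha : a = r
        · subst ha
          rw [Matrix.updateRow_self, hI'r]
          rfl
        · rw [Matrix.updateRow_ne ha, hI'ne a ha]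
          rfl
      have hmap : (Xs.updateRow r v).map (MvPolynomial.eval f) = 1 := by
        apply Matrix.ext
        intro a c
        rw [Matrix.map_apply, Matrix.one_apply, hentry, MvPolynomial.eval_X]
        simp only [f]
        by_cases hac : a = c
        · subst hac
          rw [if_pos ⟨a, rfl⟩, if_pos rfl]
        · rw [if_neg hac, if_neg]
          rintro ⟨r', hr'⟩
          rw [Prod.mk.injEq] at hr'
          exact hac ((hI'inj hr'.1).trans (J.injective hr'.2).symm)
      have := congrArg (MvPolynomial.eval f) hz
      rw [RingHom.map_det, RingHom.mapMatrix_apply, hmap, Matrix.det_one, map_zero] at this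
      exact one_ne_zero this
    · intro h b
      obtain ⟨s, hs⟩ := h ⟨r, rfl⟩
      rw [hY, hdet]
      have hrs : r ≠ s := by
        rintro rfl
        exact hij hs
      have : Matrix.det (Xs.updateRow r v) = 0 := by
        apply Matrix.det_zero_of_row_eq hrs
        rw [Matrix.updateRow_self, Matrix.updateRow_ne hrs.symm]
        funext c
        simp only [hv, hXs, Matrix.submatrix_apply, hs]
      rw [this, mul_zero, add_zero]
  · have hY : ∀ b : k, (Matrix.transvection i j (MvPolynomial.C b) * X).submatrix I J = Xs := by
      intro b
      apply Matrix.ext
      intro a c
      rw [Matrix.submatrix_apply]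
      exact Matrix.transvection_mul_apply_of_ne i j (I a) (J c)
        (fun h => hi ⟨a, h⟩) (MvPolynomial.C b) X
    constructor
    · intro _ h
      exact absurd h hi
    · intro _ b
      rw [hY]

end Groth.Agent.S11240
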