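import Groth.Statements.S11243
import Groth.Agent.Lib.RootDBase_helper8

set_option autoImplicit false
universe u v w
open RootD

namespace Groth.Agent.S11243

/-- (b), for a connected group, as a statement about its root datum: let P be a finite reduced
crystallographic root pairing over ℤ with weight lattice M, and b a base of P (simple roots,
determining the positive roots). Then there is an additive map h : M → ℤ which is positive on every
positive root (so that h strictly increases along the dominance order) and non-negative on every
dominant weight, i.e. on every ω ∈ M pairing non-negatively with all simple coroots. (Part (c),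
invariance under the component group of a disconnected group, is not stated.) -/
theorem result {ι : Type u} {M : Type v} {N : Type w}
    [Fintype ι] [AddCommGroup M] [AddCommGroup N]
    (P : RootPairing ι ℤ M N) [P.IsReduced] [P.IsCrystallographic] (b : P.Base) :
    ∃ h : M →+ ℤ, (∀ i : ι, b.IsPos i → 0 < h (P.root i)) ∧
      ∀ ω : M, (∀ j ∈ b.support, 0 ≤ P.toLinearMap ω (P.coroot j)) → 0 ≤ h ω := by
  classical
  have hredf := Groth.Agent.Lib.RootDBase_helper8.flipIsReduced (P := P)
  set ρ : N := ∑ i, if b.IsPos i then P.coroot i else 0 with hρ
  refine ⟨(P.toLinearMap.flip ρ).toAddMonoidHom, ?_, ?_⟩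
  · intro i hi
    refine hi.induction_on_add (p := fun i => 0 < (P.toLinearMap.flip ρ).toAddMonoidHom (P.root i))
      ?_ ?_
    · intro j hj
      have h2 := Groth.Agent.Lib.RootDBase_helper8.root'_sum_pos_coroot (P := P) b hj
      change 0 < P.root' j ρ
      rw [hρ]
      have : P.root' j (∑ i, if b.IsPos i then P.coroot i else 0) = 2 := by
        convert h2
      rw [this]
      norm_num
    · intro i j k hk hpi hj
      have h2 := Groth.Agent.Lib.RootDBase_helper8.root'_sum_pos_coroot (P := P) b hj
      have h3 : (P.toLinearMap.flip ρ).toAddMonoidHom (P.root j) = 2 := by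
        change P.root' j ρ = 2
        rw [hρ]
        convert h2
      rw [hk, map_add, h3]
      have : (0 : ℤ) < 2 := by norm_num
      exact add_pos hpi this
  · intro ω hω
    change 0 ≤ P.toLinearMap ω ρ
    rw [hρ, map_sum]
    apply Finset.sum_nonneg
    intro i _
    by_cases hi : b.IsPos i
    · rw [if_pos hi]
      have hi' := Groth.Agent.Lib.RootDBase_helper8.isPos_flip_of_isPos b hi
      refine hi'.induction_on_add (p := fun i => 0 ≤ P.toLinearMap ω (P.coroot i)) ?_ ?_
      · intro j hj
        exact hω j hj
      · intro i j k hk hpi hj
        have hk' : P.coroot k = P.coroot i + P.coroot j := hk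
        rw [hk', map_add]
        exact add_nonneg hpi (hω j hj)
    · rw [if_neg hi, map_zero]

end Groth.Agent.S11243
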