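import Groth.Statements.S11267
import Mathlib
import Groth.Agent.Lib.SFT2_helper9

set_option autoImplicit false
universe u
open W4bk4grassmannian

namespace Groth.Agent.S11267

open W4bk4grassmannian in
/-- Second Fundamental Theorem of invariant theory for the general linear group acting on pairs of
matrices: let K be an algebraically closed field and m, n, q natural numbers. The kernel of the
K-algebra map K[y_{ij}] → K[u_{ik}, ξ_{kj}] (coordinate rings of M_{m,q} and of M_{m,n} × M_{n,q})
sending y_{ij} to Σ_k u_{ik} ξ_{kj}, the (i, j) entry of the product matrix, is the ideal generated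
by the (n + 1) × (n + 1) minors of the generic m × q matrix (y_{ij}). -/
theorem result (K : Type u) [Field K] [IsAlgClosed K] (m n q : ℕ) :
    RingHom.ker (pairingMap K n m q).toRingHom = CAlgX.minorIdeal (genMatrix K m q) (n + 1) := by
  apply le_antisymm
  · intro f hf
    rw [RingHom.mem_ker] at hf
    by_cases hq : n < q
    · exact Groth.Agent.SFT9.ker_le K q m (Nat.lt_of_le_of_lt (Nat.zero_le n) hq) n hq f hf
    · rw [Groth.Agent.SFT9.eq_zero_of_le K n m q (not_lt.1 hq) f hf]
      exact Ideal.zero_mem _
  · exact Groth.Agent.SFT9.le_ker K n m q

end Groth.Agent.S11267
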