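import Groth.Statements.S11269
import Mathlib
import Groth.Agent.Lib.DepthSkQuot_helper5
import Groth.Agent.Lib.DepthRefl_helper5

set_option autoImplicit false
universe u
open W4bk4grassmannian

namespace Groth.Agent.S11269

open Pointwise

/-- Let R be a Noetherian integral domain. Then R satisfies Serre's condition (S_2) (depth R_P ≥ min(2,
dim R_P) for all primes P) if and only if, for every nonzero a ∈ R, every associated prime of the
R-module R/(a) has height one. -/
theorem result (R : Type u) [CommRing R] [IsDomain R]
    [IsNoetherianRing R] :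
    LocCoh.HasSk 2 R R ↔
      ∀ a : R, a ≠ 0 → ∀ P : Ideal R, P ∈ associatedPrimes R (R ⧸ Ideal.span {a}) → P.height = 1 := by
  classical
  have two_eq : ((2 : ℕ) : WithBot ℕ∞) = ((2 : ℕ∞) : WithBot ℕ∞) := rfl
  -- the quotient R/(a) as `QuotSMulTop a R`
  have hspan : ∀ a : R, (Ideal.span {a} : Submodule R R) = a • (⊤ : Submodule R R) := by
    intro a
    have h1 := (⊤ : Submodule R R).ideal_span_singleton_smul a
    rw [← h1]
    exact (Ideal.mul_top _).symm
  have e : ∀ a : R, (R ⧸ Ideal.span {a}) ≃ₗ[R] QuotSMulTop a R := fun a =>
    Submodule.quotEquivOfEq _ _ (hspan a)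
  -- key: for a ≠ 0 in P, depth (R/a)_P + 1 = depth R_P
  have key : ∀ (P : Ideal R) [P.IsPrime] (a : R), a ≠ 0 → a ∈ P →
      LocCoh.depth (Localization.AtPrime P) (LocalizedModule P.primeCompl (QuotSMulTop a R)) + 1 =
        LocCoh.depth (Localization.AtPrime P) (LocalizedModule P.primeCompl R) := by
    intro P _ a ha haP
    have hxmem : algebraMap R (Localization.AtPrime P) a ∈
        IsLocalRing.maximalIdeal (Localization.AtPrime P) :=
      (IsLocalization.AtPrime.to_map_mem_maximal_iff _ P a).2 haP
    have hxreg : IsSMulRegular (LocalizedModule P.primeCompl R)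
        (algebraMap R (Localization.AtPrime P) a) := by
      rw [Groth.Agent.DepthLib.isSMulRegular_localizedModule_iff]
      intro m hm
      refine ⟨1, Submonoid.one_mem _, ?_⟩
      rw [one_smul]
      rw [smul_eq_mul] at hm
      exact (mul_eq_zero.1 hm).resolve_left ha
    exact Groth.Agent.DepthLib.depth_add_one_of_exact (LocalizedModule P.primeCompl R)
      (LocalizedModule P.primeCompl (QuotSMulTop a R)) hxmem hxreg
      (LocalizedModule.map P.primeCompl (Submodule.mkQ _))
      (LocalizedModule.map_surjective _ _ (Submodule.mkQ_surjective _))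
      (Groth.Agent.DepthLib.localized_smul_exact P.primeCompl R a)
  constructor
  · intro hS2 a ha P hP
    haveI hPprime := hP.isPrime
    rw [LinearEquiv.AssociatedPrimes.eq (e a)] at hP
    have haP : a ∈ P := by
      have h1 := IsAssociatedPrime.annihilator_le hP
      rw [Submodule.annihilator_top] at h1
      apply h1
      rw [Module.mem_annihilator]
      intro m
      obtain ⟨m, rfl⟩ := Submodule.mkQ_surjective _ m
      rw [← map_smul, Submodule.mkQ_apply, Submodule.Quotient.mk_eq_zero]
      exact Submodule.smul_mem_pointwise_smul _ _ _ Submodule.mem_top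
    have h0 := (Groth.Agent.DepthLib.not_one_le_depth_localization_iff (QuotSMulTop a R) P).2 hP
    have h1 : LocCoh.depth (Localization.AtPrime P)
        (LocalizedModule P.primeCompl (QuotSMulTop a R)) = 0 := by
      push Not at h0
      exact Order.lt_one_iff.1 h0
    have h2 := key P a ha haP
    rw [h1, zero_add] at h2
    have h3 := hS2 P
    rw [Groth.Agent.DepthLib.supportDim_locSelf, ← h2] at h3
    -- height ≤ 1
    have h4 : P.height ≤ 1 := by
      by_contra hnot
      push Not at hnot
      have h5 : (2 : ℕ∞) ≤ P.height := by
        have h6 : (2 : ℕ∞) = 1 + 1 := by norm_num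
        rw [h6]
        exact Order.add_one_le_of_lt hnot
      rw [two_eq, min_eq_left (WithBot.coe_le_coe.2 h5), WithBot.coe_le_coe] at h3
      exact absurd h3 (by norm_num)
    have h5 : P.height ≠ 0 := by
      rw [Ne, Ideal.height_eq_zero_iff_eq_bot]
      rintro rfl
      exact ha (by simpa using haP)
    exact le_antisymm h4 (Order.one_le_iff_pos.2 (pos_iff_ne_zero.2 h5))
  · intro h P hP
    rw [Groth.Agent.DepthLib.supportDim_locSelf]
    by_cases hP0 : P = ⊥
    · have h0 : P.height = 0 := by rw [hP0]; exact Ideal.height_bot
      rw [h0]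
      refine le_trans (min_le_right _ _) ?_
      exact WithBot.coe_le_coe.2 zero_le
    · obtain ⟨a, haP, ha⟩ := Submodule.exists_mem_ne_zero_of_ne_bot hP0
      have h2 := key P a ha haP
      by_cases hass : P ∈ associatedPrimes R (QuotSMulTop a R)
      · have h3 := h a ha P (by rw [LinearEquiv.AssociatedPrimes.eq (e a)]; exact hass)
        rw [h3]
        refine le_trans (min_le_right _ _) ?_
        apply WithBot.coe_le_coe.2
        rw [← h2]
        exact le_add_self
      · have h3 : 1 ≤ LocCoh.depth (Localization.AtPrime P)
            (LocalizedModule P.primeCompl (QuotSMulTop a R)) := by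
          by_contra hnot
          exact hass ((Groth.Agent.DepthLib.not_one_le_depth_localization_iff
            (QuotSMulTop a R) P).1 hnot)
        refine le_trans (min_le_left _ _) ?_
        rw [two_eq]
        apply WithBot.coe_le_coe.2
        rw [← h2]
        have h6 : (2 : ℕ∞) = 1 + 1 := by norm_num
        rw [h6]
        exact add_le_add_left h3 1

end Groth.Agent.S11269
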