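import Groth.Statements.S11271
import Mathlib

set_option autoImplicit false
universe u
open W4bk4grassmannian

namespace Groth.Agent.S11271

open W4bk4grassmannian in
/-- Semistable matrices are the matrices of full rank: let K be an algebraically closed field, 0 < d <
n, and let SL_d(K) act on n × d matrices by right multiplication; a matrix A is semistable when the
zero matrix is not in the Zariski closure of its orbit, i.e. when some polynomial in the entries
vanishes at A g for every g ∈ SL_d(K) but not at 0. Then A is semistable if and only if its columns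
are linearly independent. -/
theorem result (K : Type u) [Field K]
    [IsAlgClosed K] (d n : ℕ) (hd : 0 < d) (hdn : d < n) (A : Matrix (Fin n) (Fin d) K) :
    LinearIndependent K A.transpose ↔
      ∃ f : MatRing K d n, (∀ g : Matrix.SpecialLinearGroup (Fin d) K,
        MvPolynomial.eval (fun p : Fin n × Fin d => (A * (g : Matrix (Fin d) (Fin d) K)) p.1 p.2) f = 0) ∧
        MvPolynomial.eval (fun _ : Fin n × Fin d => (0 : K)) f ≠ 0 := by
  classical
  constructor
  · -- full rank ⇒ semistable
    intro hli
    have hinj : Function.Injective A.mulVec := Matrix.mulVec_injective_iff.mpr hli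
    have hker : LinearMap.ker A.mulVecLin = ⊥ := by
      rw [LinearMap.ker_eq_bot]
      exact hinj
    obtain ⟨gl, hgl⟩ := LinearMap.exists_leftInverse_of_injective A.mulVecLin hker
    set B : Matrix (Fin d) (Fin n) K := LinearMap.toMatrix' gl with hB
    have hBA : B * A = 1 := by
      have h1 : LinearMap.toMatrix' (gl ∘ₗ A.mulVecLin) = 1 := by
        rw [hgl]
        exact LinearMap.toMatrix'_id
      rw [LinearMap.toMatrix'_comp, ← Matrix.toLin'_apply', LinearMap.toMatrix'_toLin'] at h1
      exact h1
    refine ⟨Matrix.det (Matrix.of fun s t : Fin d =>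
      ∑ i : Fin n, MvPolynomial.C (B s i) * (MvPolynomial.X (i, t) : MatRing K d n)) - 1, ?_, ?_⟩
    · intro g
      rw [map_sub, map_one, RingHom.map_det]
      have h2 : (MvPolynomial.eval fun p : Fin n × Fin d =>
          (A * (g : Matrix (Fin d) (Fin d) K)) p.1 p.2).mapMatrix
          (Matrix.of fun s t : Fin d =>
            ∑ i : Fin n, MvPolynomial.C (B s i) * (MvPolynomial.X (i, t) : MatRing K d n)) =
          B * (A * (g : Matrix (Fin d) (Fin d) K)) := by
        ext s t
        simp [Matrix.mul_apply]
      rw [h2, ← Matrix.mul_assoc, hBA, Matrix.one_mul, g.2, sub_self]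
    · rw [map_sub, map_one, RingHom.map_det]
      have h2 : (MvPolynomial.eval fun _ : Fin n × Fin d => (0 : K)).mapMatrix
          (Matrix.of fun s t : Fin d =>
            ∑ i : Fin n, MvPolynomial.C (B s i) * (MvPolynomial.X (i, t) : MatRing K d n)) =
          0 := by
        ext s t
        simp
      haveI : Nonempty (Fin d) := ⟨⟨0, hd⟩⟩
      rw [h2, Matrix.det_zero, zero_sub]
      exact neg_ne_zero.mpr one_ne_zero
  · -- semistable ⇒ full rank
    rintro ⟨f, hf, hf0⟩
    by_contra hli
    apply hf0
    have hli : ¬ Function.Injective A.mulVec := fun hc => hli (Matrix.mulVec_injective_iff.mp hc)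
    have hv : ∃ v : Fin d → K, v ≠ 0 ∧ A.mulVec v = 0 := by
      by_contra hcon
      push_neg at hcon
      apply hli
      intro x y hxy
      have h1 : A.mulVec (x - y) = 0 := by
        rw [Matrix.mulVec_sub, hxy, sub_self]
      have h2 : x - y = 0 := by
        by_contra hne
        exact hcon _ hne h1
      exact sub_eq_zero.mp h2
    obtain ⟨v, hv0, hAv⟩ := hv
    obtain ⟨i₀, hi₀⟩ : ∃ i, v i ≠ 0 := by
      by_contra hcon
      push_neg at hcon
      exact hv0 (funext hcon)
    set φ : Fin d → K := Pi.single i₀ (v i₀)⁻¹ with hφ
    have hφv : φ ⬝ᵥ v = 1 := by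
      rw [hφ, single_dotProduct, inv_mul_cancel₀ hi₀]
    -- the one-variable polynomial `T ↦ f(T A)`
    have key : ∀ (f' : MatRing K d n) (t : K), Polynomial.eval t (MvPolynomial.aeval
        (fun p : Fin n × Fin d => Polynomial.C (A p.1 p.2) * Polynomial.X) f') =
        MvPolynomial.eval (fun p : Fin n × Fin d => A p.1 p.2 * t) f' := by
      intro f' t
      induction f' using MvPolynomial.induction_on with
      | C a => simp
      | add p q hp hq => simp [hp, hq]
      | mul_X p i hp => simp [hp]
    set h : Polynomial K := MvPolynomial.aeval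
      (fun p : Fin n × Fin d => Polynomial.C (A p.1 p.2) * Polynomial.X) f with hh
    have hroot : ∀ t : K, t ≠ 0 → Polynomial.eval t h = 0 := by
      intro t ht
      rw [hh, key]
      -- the group element
      set s : K := (t ^ (d - 1))⁻¹ with hs
      set G : Matrix (Fin d) (Fin d) K :=
        t • (1 + ((s - t) / t) • (Matrix.replicateCol Unit v * Matrix.replicateRow Unit φ))
        with hG
      have hdet : G.det = 1 := by
        have e : ((s - t) / t) • (Matrix.replicateCol Unit v * Matrix.replicateRow Unit φ) =
            Matrix.replicateCol Unit (((s - t) / t) • v) * Matrix.replicateRow Unit φ := by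
          rw [Matrix.replicateCol_smul, Matrix.smul_mul]
        rw [hG, Matrix.det_smul, e,
          Matrix.det_one_add_replicateCol_mul_replicateRow, dotProduct_smul, hφv,
          Fintype.card_fin]
        obtain ⟨m, hm⟩ : ∃ m, d = m + 1 := ⟨d - 1, by omega⟩
        have hsm : s = (t ^ m)⁻¹ := by
          rw [hs]
          congr 2
          omega
        have ht1 : t ^ m ≠ 0 := pow_ne_zero _ ht
        rw [smul_eq_mul, mul_one, hsm, hm, pow_succ]
        field_simp
        ring
      have hAG : A * G = t • A := by
        rw [hG, Matrix.mul_smul, Matrix.mul_add, Matrix.mul_one, Matrix.mul_smul,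
          ← Matrix.mul_assoc, ← Matrix.replicateCol_mulVec, hAv]
        have : (Matrix.replicateCol Unit (0 : Fin n → K)) = 0 := by
          ext; simp
        rw [this, Matrix.zero_mul, smul_zero, add_zero]
      have := hf ⟨G, hdet⟩
      have h3 : (fun p : Fin n × Fin d => (A * ((⟨G, hdet⟩ : Matrix.SpecialLinearGroup (Fin d) K) :
          Matrix (Fin d) (Fin d) K)) p.1 p.2) = fun p : Fin n × Fin d => A p.1 p.2 * t := by
        funext p
        show (A * G) p.1 p.2 = _
        rw [hAG, Matrix.smul_apply, smul_eq_mul, mul_comm]
      rw [h3] at this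
      exact this
    haveI : Infinite K := IsAlgClosed.instInfinite
    have hzero : h = 0 := by
      apply Polynomial.eq_zero_of_infinite_isRoot
      have hsub : {x : K | x ≠ 0} ⊆ {x | h.IsRoot x} := fun t ht => hroot t ht
      refine Set.Infinite.mono hsub ?_
      have : {x : K | x ≠ 0} = ({0} : Set K)ᶜ := by
        ext; simp
      rw [this]
      exact (Set.finite_singleton (0 : K)).infinite_compl
    have h0 := key f 0
    rw [← hh, hzero, Polynomial.eval_zero] at h0
    have h1 : (fun p : Fin n × Fin d => A p.1 p.2 * (0 : K)) = fun _ => 0 := by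
      funext p
      rw [mul_zero]
    rw [h1] at h0
    exact h0.symm

end Groth.Agent.S11271
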