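import Groth.Statements.S11288
import Mathlib

set_option autoImplicit false
universe u
open Deform

namespace Groth.Agent.S11288

/-- Let K be a field, R' a local Artinian K-algebra with residue field K, and t a nonzero element of the
maximal ideal m' of R' with m' t = 0, so that R' → R = R'/(t) is a small extension of R. Then the
extension is trivial, i.e. the projection admits a section which is a K-algebra map, if and only if
t is not in m'^2; equivalently, iff the surjection m'/m'^2 → m_R/m_R^2 induced on cotangent spaces,
whose kernel is spanned by the class of t, is not bijective. For instance K[t]/(t^(n+1)) →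
K[t]/(t^n) is a non-trivial small extension for n ≥ 2. (The published example allows any local
K-algebra with residue field K; the row takes R' Artinian, the case in which the subalgebra
generated by lifts of a basis of the cotangent space maps onto R.) -/
theorem result
    {K : Type u} [Field K]
    {R' : Type u} [CommRing R'] [Algebra K R'] [IsLocalRing R'] [IsArtinianRing R']
    (hres : ∀ a : R', ∃ c : K, a - algebraMap K R' c ∈ IsLocalRing.maximalIdeal R')
    (t : R') (ht : t ∈ IsLocalRing.maximalIdeal R') (ht0 : t ≠ 0)
    (htm : ∀ a ∈ IsLocalRing.maximalIdeal R', a * t = 0) :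
    (∃ s : (R' ⧸ Ideal.span {t}) →ₐ[K] R', ∀ x, Ideal.Quotient.mk (Ideal.span {t}) (s x) = x) ↔
      t ∉ IsLocalRing.maximalIdeal R' ^ 2 := by
  classical
  set 𝔪 := IsLocalRing.maximalIdeal R' with h𝔪
  choose res hres' using hres
  have hxt : ∀ x : R', x * t = res x • t := by
    intro x
    have := htm _ (hres' x)
    rw [sub_mul, sub_eq_zero] at this
    rw [this, Algebra.smul_def]
  have ht2 : t * t = 0 := htm t ht
  constructor
  · rintro ⟨s, hs⟩ htm2
    apply ht0
    -- the idempotent endomorphism e = s ∘ π
    have he : ∀ x : R', ∃ c : K, s (Ideal.Quotient.mk (Ideal.span {t}) x) = x + c • t := by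
      intro x
      have h1 := hs (Ideal.Quotient.mk (Ideal.span {t}) x)
      rw [Ideal.Quotient.eq, Ideal.mem_span_singleton'] at h1
      obtain ⟨r, hr⟩ := h1
      refine ⟨res r, ?_⟩
      rw [← hxt, hr]; ring
    have hprod : ∀ x ∈ 𝔪, ∀ y ∈ 𝔪, s (Ideal.Quotient.mk (Ideal.span {t}) (x * y)) = x * y := by
      intro x hx y hy
      obtain ⟨c, hc⟩ := he x
      obtain ⟨c', hc'⟩ := he y
      rw [map_mul, map_mul, hc, hc']
      have h1 : x * t = 0 := htm x hx
      have h2 : t * y = 0 := by rw [mul_comm]; exact htm y hy
      calc (x + c • t) * (y + c' • t) = x * y + c' • (x * t) + c • (t * y) + (c * c') • (t * t) := by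
            simp only [Algebra.smul_def, map_mul]
            ring
        _ = x * y := by rw [h1, h2, ht2]; simp
    have hfix : ∀ z ∈ 𝔪 ^ 2, s (Ideal.Quotient.mk (Ideal.span {t}) z) = z := by
      intro z hz
      rw [pow_two] at hz
      refine Submodule.smul_induction_on hz ?_ ?_
      · intro x hx y hy
        rw [smul_eq_mul]; exact hprod x hx y hy
      · intro x y hx hy
        rw [map_add, map_add, hx, hy]
    have h1 := hfix t htm2
    have h2 : Ideal.Quotient.mk (Ideal.span {t}) t = 0 :=
      Ideal.Quotient.eq_zero_iff_mem.2 (Ideal.mem_span_singleton_self t)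
    rw [h2, map_zero] at h1
    exact h1.symm
  · intro htm2
    -- a K-linear functional vanishing on K·1 + 𝔪² with D t = 1
    set W : Submodule K R' := Submodule.span K {(1 : R')} ⊔ (𝔪 ^ 2).restrictScalars K with hW
    have htW : t ∉ W := by
      intro hmem
      rw [hW, Submodule.mem_sup] at hmem
      obtain ⟨u, hu, y, hy, huy⟩ := hmem
      rw [Submodule.mem_span_singleton] at hu
      obtain ⟨c, rfl⟩ := hu
      have hy' : y ∈ 𝔪 ^ 2 := hy
      have hym : y ∈ 𝔪 := Ideal.pow_le_self two_ne_zero hy'
      have hc𝔪 : c • (1 : R') ∈ 𝔪 := by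
        have : c • (1 : R') = t - y := by rw [← huy]; ring
        rw [this]; exact 𝔪.sub_mem ht hym
      have hc0 : c = 0 := by
        by_contra hc
        have hu : IsUnit (c • (1 : R')) := by
          rw [Algebra.smul_def, mul_one]
          exact (IsUnit.mk0 c hc).map (algebraMap K R')
        exact (IsLocalRing.mem_maximalIdeal _).1 hc𝔪 hu
      apply htm2
      rw [← huy, hc0, zero_smul, zero_add]; exact hy'
    obtain ⟨D, hDW, hDt⟩ := LinearMap.exists_extend_of_notMem (0 : W →ₗ[K] K) htW 1
    have hDW' : ∀ w ∈ W, D w = 0 := by
      intro w hw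
      have := congrArg (fun φ : W →ₗ[K] K => φ ⟨w, hw⟩) hDW
      simpa using this
    have hD1 : D 1 = 0 := hDW' 1 (Submodule.mem_sup_left (Submodule.mem_span_singleton_self 1))
    have hD2 : ∀ y ∈ 𝔪 ^ 2, D y = 0 := fun y hy => hDW' y (Submodule.mem_sup_right hy)
    have hDres : ∀ x : R', D x = D (x - algebraMap K R' (res x)) := by
      intro x
      rw [map_sub, Algebra.algebraMap_eq_smul_one, map_smul, hD1, smul_zero, sub_zero]
    have hDmul : ∀ x y : R', D (x * y) = res x * D y + res y * D x := by
      intro x y
      have hx0 := hres' x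
      have hy0 := hres' y
      set x₀ := x - algebraMap K R' (res x) with hx₀
      set y₀ := y - algebraMap K R' (res y) with hy₀
      have hxy : x * y = (res x * res y) • (1 : R') + res x • y₀ + res y • x₀ + x₀ * y₀ := by
        rw [hx₀, hy₀]
        simp only [Algebra.smul_def, map_mul]
        ring
      have h3 : D (x₀ * y₀) = 0 := hD2 _ (by rw [pow_two]; exact Ideal.mul_mem_mul hx0 hy0)
      rw [hxy, map_add, map_add, map_add, map_smul, map_smul, map_smul, hD1, h3,
        ← hDres x, ← hDres y]
      simp
    let s' : R' →ₐ[K] R' := AlgHom.ofLinearMap (LinearMap.id - D.smulRight t)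
      (by simp [hD1])
      (by
        intro x y
        simp only [LinearMap.sub_apply, LinearMap.id_apply, LinearMap.smulRight_apply]
        have h1 : x * t = res x • t := hxt x
        have h2 : t * y = res y • t := by rw [mul_comm]; exact hxt y
        calc x * y - D (x * y) • t = x * y - (res x * D y + res y * D x) • t := by rw [hDmul]
          _ = x * y - D y • (x * t) - D x • (t * y) + (D x * D y) • (t * t) := by
            rw [h1, h2, ht2]; module
          _ = (x - D x • t) * (y - D y • t) := by
            simp only [Algebra.smul_def, map_mul]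
            ring)
    have hs't : s' t = 0 := by
      show t - D t • t = 0
      rw [hDt, one_smul, sub_self]
    have hker : ∀ a ∈ Ideal.span {t}, s' a = 0 := by
      intro a ha
      rw [Ideal.mem_span_singleton'] at ha
      obtain ⟨r, rfl⟩ := ha
      rw [map_mul, hs't, mul_zero]
    refine ⟨Ideal.Quotient.liftₐ (Ideal.span {t}) s' hker, ?_⟩
    intro x
    obtain ⟨y, rfl⟩ := Ideal.Quotient.mk_surjective x
    rw [Ideal.Quotient.liftₐ_apply, Ideal.Quotient.lift_mk]
    show Ideal.Quotient.mk (Ideal.span {t}) (y - D y • t) = _
    rw [Ideal.Quotient.eq, Ideal.mem_span_singleton']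
    refine ⟨- algebraMap K R' (D y), ?_⟩
    rw [Algebra.smul_def]; ring

end Groth.Agent.S11288
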