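import Groth.Statements.S11294
import Mathlib

set_option autoImplicit false
universe u
open Deform

namespace Groth.Agent.S11294

open TrivSqZeroExt in
theorem mkIdeal (P : Type u) [CommRing P] (J : Ideal P) (φ : J →ₗ[P] (P ⧸ J)) :
    ∃ J' : Ideal (DualNumber P), ∀ x : DualNumber P,
      x ∈ J' ↔ ∃ h : x.fst ∈ J, Ideal.Quotient.mk J x.snd = φ ⟨x.fst, h⟩ := by
  refine ⟨{ carrier := {x | ∃ h : x.fst ∈ J, Ideal.Quotient.mk J x.snd = φ ⟨x.fst, h⟩}
            add_mem' := ?_, zero_mem' := ?_, smul_mem' := ?_ }, fun x => Iff.rfl⟩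
  · rintro x y ⟨hx, ex⟩ ⟨hy, ey⟩
    refine ⟨by rw [fst_add]; exact J.add_mem hx hy, ?_⟩
    rw [snd_add, map_add, ex, ey, ← map_add]
    rfl
  · refine ⟨by rw [fst_zero]; exact J.zero_mem, ?_⟩
    rw [snd_zero, map_zero]
    symm
    exact map_zero φ
  · rintro c x ⟨hx, ex⟩
    refine ⟨by rw [smul_eq_mul, fst_mul]; exact J.mul_mem_left _ hx, ?_⟩
    have h1 : Ideal.Quotient.mk J (c.snd * x.fst) = 0 :=
      Ideal.Quotient.eq_zero_iff_mem.2 (J.mul_mem_left _ hx)
    have h2 : φ ⟨(c • x).fst, by rw [smul_eq_mul, fst_mul]; exact J.mul_mem_left _ hx⟩ =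
        c.fst • φ ⟨x.fst, hx⟩ := by
      rw [← map_smul]; rfl
    rw [h2, smul_eq_mul, DualNumber.snd_mul, map_add, h1, add_zero, map_mul, ex,
      Algebra.smul_def, Ideal.Quotient.algebraMap_eq]

open TrivSqZeroExt in
theorem rule_iff (P : Type u) [CommRing P] (J' : Ideal (DualNumber P)) (Q : P → P → Prop) :
    (∀ a b : P, (inl a + inr b : DualNumber P) ∈ J' ↔ Q a b) ↔
      ∀ x : DualNumber P, x ∈ J' ↔ Q x.fst x.snd := by
  constructor
  · intro h x
    have := h x.fst x.snd
    rwa [inl_fst_add_inr_snd_eq] at this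
  · intro h a b
    have := h (inl a + inr b)
    simpa using this

open TrivSqZeroExt in
/-- Let P be a commutative ring, J an ideal, and P[ε] the ring of dual numbers over P. First-order
embedded deformations of Spec(P/J) in Spec P, namely ideals J' of P[ε] lifting J (the image of J'
under ε ↦ 0 is J) with P[ε]/J' flat over the dual numbers — flatness being replaced by the condition
that every element of P[ε]/J' annihilated by ε is a multiple of ε (equivalent to flatness over k[ε]
when P is an algebra over a field k) — are in canonical bijection with Hom_P(J, P/J) =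
Hom_{P/J}(J/J^2, P/J), the normal module: to φ corresponds the ideal of all a + εb with a in J and b
reducing to φ(a) modulo J. The first clause says this rule defines exactly one ideal for each φ; the
second says an ideal J' is a flat lift of J precisely when its membership is given by this rule for
some φ. (The published statement is the global one, identifying first-order deformations of a closed
subscheme X of an algebraic scheme Y with H^0(X, N_{X/Y}); this row is the affine computation in its
proof, valid for every commutative ring P.) -/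
theorem result (P : Type u) [CommRing P] (J : Ideal P) :
    (∀ φ : J →ₗ[P] (P ⧸ J), ∃! J' : Ideal (DualNumber P),
        ∀ a b : P, (inl a + inr b : DualNumber P) ∈ J' ↔ ∃ h : a ∈ J, Ideal.Quotient.mk J b = φ ⟨a, h⟩) ∧
    (∀ J' : Ideal (DualNumber P),
      (J'.map (TrivSqZeroExt.fstHom P P P) = J ∧
        ∀ m : DualNumber P ⧸ J', Ideal.Quotient.mk J' DualNumber.eps * m = 0 →
          ∃ m' : DualNumber P ⧸ J', m = Ideal.Quotient.mk J' DualNumber.eps * m') ↔
      ∃ φ : J →ₗ[P] (P ⧸ J), ∀ a b : P,
        (inl a + inr b : DualNumber P) ∈ J' ↔ ∃ h : a ∈ J, Ideal.Quotient.mk J b = φ ⟨a, h⟩) := by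
  classical
  have hfst : ∀ a b : P, (inl a + inr b : DualNumber P).fst = a := by intro a b; simp
  have hsnd : ∀ a b : P, (inl a + inr b : DualNumber P).snd = b := by intro a b; simp
  have hepsmul : ∀ x : DualNumber P, DualNumber.eps * x = inr x.fst := by
    intro x
    apply TrivSqZeroExt.ext
    · simp
    · simp
  refine ⟨?_, ?_⟩
  · intro φ
    obtain ⟨J', hJ'⟩ := mkIdeal P J φ
    refine ⟨J', ?_, ?_⟩
    · exact (rule_iff P J' (fun a b => ∃ h : a ∈ J, Ideal.Quotient.mk J b = φ ⟨a, h⟩)).2 hJ'
    · intro J'' hJ''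
      have h2 := (rule_iff P J'' (fun a b => ∃ h : a ∈ J, Ideal.Quotient.mk J b = φ ⟨a, h⟩)).1 hJ''
      ext x
      rw [h2 x, hJ' x]
  · intro J'
    constructor
    · rintro ⟨hmap, htors⟩
      -- basic facts
      have F1 : ∀ x ∈ J', x.fst ∈ J := by
        intro x hx
        rw [← hmap]
        exact Ideal.mem_map_of_mem (TrivSqZeroExt.fstHom P P P) hx
      have F2 : ∀ a ∈ J, ∃ b : P, (inl a + inr b : DualNumber P) ∈ J' := by
        intro a ha
        rw [← hmap] at ha
        have hsurj : Function.Surjective (TrivSqZeroExt.fstHom P P P) := fun a => ⟨inl a, by simp⟩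
        obtain ⟨x, hx, hxa⟩ := (Ideal.mem_map_iff_of_surjective _ hsurj).1 ha
        refine ⟨x.snd, ?_⟩
        have : x.fst = a := hxa
        rw [← this, inl_fst_add_inr_snd_eq]
        exact hx
      have F3 : ∀ c : P, (inr c : DualNumber P) ∈ J' → c ∈ J := by
        intro c hc
        have h0 : Ideal.Quotient.mk J' DualNumber.eps * Ideal.Quotient.mk J' (inl c) = 0 := by
          rw [← map_mul, hepsmul, fst_inl]
          exact Ideal.Quotient.eq_zero_iff_mem.2 hc
        obtain ⟨m', hm'⟩ := htors _ h0
        obtain ⟨y, rfl⟩ := Ideal.Quotient.mk_surjective m'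
        rw [← map_mul, Ideal.Quotient.eq, hepsmul] at hm'
        have := F1 _ hm'
        simpa using this
      have F4 : ∀ c ∈ J, (inr c : DualNumber P) ∈ J' := by
        intro c hc
        obtain ⟨b, hb⟩ := F2 c hc
        have := J'.mul_mem_left DualNumber.eps hb
        rwa [hepsmul, hfst] at this
      have WD : ∀ a b b' : P, (inl a + inr b : DualNumber P) ∈ J' →
          (inl a + inr b' : DualNumber P) ∈ J' → Ideal.Quotient.mk J b = Ideal.Quotient.mk J b' := by
        intro a b b' h1 h2
        rw [Ideal.Quotient.eq]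
        apply F3
        have := J'.sub_mem h1 h2
        rw [inr_sub]
        convert this using 1
        abel
      have hch : ∀ a : J, ∃ b : P, (inl (a : P) + inr b : DualNumber P) ∈ J' := fun a => F2 a a.2
      choose bf hbf using hch
      let φ : J →ₗ[P] (P ⧸ J) :=
        { toFun := fun a => Ideal.Quotient.mk J (bf a)
          map_add' := by
            intro a₁ a₂
            rw [← map_add]
            apply WD ((a₁ + a₂ : J) : P)
            · exact hbf _
            · have := J'.add_mem (hbf a₁) (hbf a₂)
              convert this using 1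
              rw [Submodule.coe_add, inl_add, inr_add]
              abel
          map_smul' := by
            intro c a
            rw [RingHom.id_apply, Algebra.smul_def, Ideal.Quotient.algebraMap_eq, ← map_mul]
            apply WD ((c • a : J) : P)
            · exact hbf _
            · have := J'.mul_mem_left (inl c) (hbf a)
              convert this using 1
              rw [mul_add, inl_mul_inl, inl_mul_inr, Submodule.coe_smul, smul_eq_mul, smul_eq_mul] }
      refine ⟨φ, ?_⟩
      intro a b
      constructor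
      · intro hab
        have ha : a ∈ J := by have := F1 _ hab; rwa [hfst] at this
        refine ⟨ha, ?_⟩
        exact WD a b (bf ⟨a, ha⟩) hab (hbf ⟨a, ha⟩)
      · rintro ⟨ha, hb⟩
        have hb' : Ideal.Quotient.mk J b = Ideal.Quotient.mk J (bf ⟨a, ha⟩) := hb
        rw [Ideal.Quotient.eq] at hb'
        have := J'.add_mem (hbf ⟨a, ha⟩) (F4 _ hb')
        convert this using 1
        rw [inr_sub]
        abel
    · rintro ⟨φ, hφ⟩
      have hφ' := (rule_iff P J' (fun a b => ∃ h : a ∈ J, Ideal.Quotient.mk J b = φ ⟨a, h⟩)).1 hφ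
      refine ⟨?_, ?_⟩
      · ext a
        have hsurj : Function.Surjective (TrivSqZeroExt.fstHom P P P) := fun a => ⟨inl a, by simp⟩
        rw [Ideal.mem_map_iff_of_surjective _ hsurj]
        constructor
        · rintro ⟨x, hx, rfl⟩
          obtain ⟨h, -⟩ := (hφ' x).1 hx
          exact h
        · intro ha
          obtain ⟨b, hb⟩ := Ideal.Quotient.mk_surjective (φ ⟨a, ha⟩)
          refine ⟨inl a + inr b, (hφ a b).2 ⟨ha, hb⟩, ?_⟩
          simp
      · intro m hm
        obtain ⟨x, rfl⟩ := Ideal.Quotient.mk_surjective m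
        rw [← map_mul, Ideal.Quotient.eq_zero_iff_mem, hepsmul] at hm
        have hm' : (inl 0 + inr x.fst : DualNumber P) ∈ J' := by
          rw [inl_zero, zero_add]; exact hm
        obtain ⟨h0, hx0⟩ := (hφ 0 x.fst).1 hm'
        have hφ0 : φ ⟨0, h0⟩ = 0 := map_zero φ
        rw [hφ0, Ideal.Quotient.eq_zero_iff_mem] at hx0
        obtain ⟨b₀, hb₀⟩ := Ideal.Quotient.mk_surjective (φ ⟨x.fst, hx0⟩)
        refine ⟨Ideal.Quotient.mk J' (inl (x.snd - b₀)), ?_⟩
        rw [← map_mul, Ideal.Quotient.eq, hepsmul, fst_inl]
        have h1 : (inl x.fst + inr b₀ : DualNumber P) ∈ J' := (hφ x.fst b₀).2 ⟨hx0, hb₀⟩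
        convert h1 using 1
        apply TrivSqZeroExt.ext
        · simp
        · simp

end Groth.Agent.S11294
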