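import Groth.Statements.S11298
import Mathlib

set_option autoImplicit false
universe u v
open LocCoh

namespace Groth.Agent.S11298

/-- Let X = Spec B be an affine Noetherian scheme, Z = V(I) a closed subscheme and G a coherent sheaf,
i.e. a finitely generated B-module M, with dual G^v = Hom_B(M, B). If depth_Z(O_X) ≥ 2 then
depth_Z(G^v) ≥ 2. Here the depth along I of a module N is the supremum of the lengths of N-regular
sequences contained in I (and is infinite when I N = N). (The published statement adds that sections
of the dual over X and over X minus Z agree; this row omits that clause.) -/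
theorem result (B : Type u) [CommRing B] [IsNoetherianRing B]
    (I : Ideal B) (M : Type v) [AddCommGroup M] [Module B M] [Module.Finite B M]
    (h : 2 ≤ LocCoh.idealDepth I B) : 2 ≤ LocCoh.idealDepth I (M →ₗ[B] B) := by
  classical
  unfold LocCoh.idealDepth at h ⊢
  by_cases hH : I • (⊤ : Submodule B (M →ₗ[B] B)) = ⊤
  · rw [if_pos hH]; exact le_top
  rw [if_neg hH]
  by_cases hB : I • (⊤ : Submodule B B) = ⊤
  · exfalso
    apply hH
    have h1 : (1 : B) ∈ I := by
      have : (1 : B) ∈ I • (⊤ : Submodule B B) := by rw [hB]; trivial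
      rwa [smul_eq_mul, Ideal.mul_top] at this
    rw [eq_top_iff]
    intro f _
    have := Submodule.smul_mem_smul (N := (⊤ : Submodule B (M →ₗ[B] B))) h1 (Submodule.mem_top (x := f))
    rwa [one_smul] at this
  rw [if_neg hB] at h
  -- extract a weakly regular sequence of length at least two
  have hex : ∃ rs : List B, (RingTheory.Sequence.IsWeaklyRegular B rs ∧ ∀ r ∈ rs, r ∈ I) ∧
      2 ≤ rs.length := by
    by_contra hcon
    push Not at hcon
    have hle : (⨆ (rs : List B) (_ : RingTheory.Sequence.IsWeaklyRegular B rs ∧ ∀ r ∈ rs, r ∈ I),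
        (rs.length : ℕ∞)) ≤ 1 := by
      refine iSup₂_le fun rs hrs => ?_
      have := hcon rs hrs
      have h1 : rs.length ≤ 1 := by omega
      exact_mod_cast h1
    have := h.trans hle
    exact absurd this (by norm_num)
  obtain ⟨rs, ⟨hreg, hmem⟩, hlen⟩ := hex
  obtain ⟨x, y, rest, rfl⟩ : ∃ x y rest, rs = x :: y :: rest := by
    match rs, hlen with
    | x :: y :: rest, _ => exact ⟨x, y, rest, rfl⟩
  rw [RingTheory.Sequence.isWeaklyRegular_cons_iff] at hreg
  obtain ⟨hx, hreg2⟩ := hreg
  rw [RingTheory.Sequence.isWeaklyRegular_cons_iff] at hreg2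
  obtain ⟨hy, -⟩ := hreg2
  have hxI : x ∈ I := hmem x (by simp)
  have hyI : y ∈ I := hmem y (by simp)
  -- regularity on Hom
  have hxH : IsSMulRegular (M →ₗ[B] B) x := by
    intro f g hfg
    apply LinearMap.ext
    intro m
    have := congrArg (fun φ : M →ₗ[B] B => φ m) hfg
    simp only [LinearMap.smul_apply] at this
    exact hx this
  have hyH : IsSMulRegular (QuotSMulTop x (M →ₗ[B] B)) y := by
    rw [isSMulRegular_iff_right_eq_zero_of_smul]
    intro F hF
    obtain ⟨f, rfl⟩ := Submodule.Quotient.mk_surjective _ F
    rw [← Submodule.Quotient.mk_smul, Submodule.Quotient.mk_eq_zero,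
      Submodule.mem_smul_pointwise_iff_exists] at hF
    obtain ⟨g, -, hg⟩ := hF
    -- pointwise: y * f m = x * g m
    have hpt : ∀ m, y * f m = x * g m := by
      intro m
      have := congrArg (fun φ : M →ₗ[B] B => φ m) hg
      simp only [LinearMap.smul_apply, smul_eq_mul] at this
      exact this.symm
    have hdiv : ∀ m, ∃ b : B, x * b = f m := by
      intro m
      have h0 : y • (Submodule.Quotient.mk (f m) : QuotSMulTop x B) = 0 := by
        rw [← Submodule.Quotient.mk_smul, Submodule.Quotient.mk_eq_zero,
          Submodule.mem_smul_pointwise_iff_exists]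
        exact ⟨g m, trivial, by rw [smul_eq_mul, smul_eq_mul, hpt]⟩
      have h1 := (isSMulRegular_iff_right_eq_zero_of_smul.1 hy) _ h0
      rw [Submodule.Quotient.mk_eq_zero, Submodule.mem_smul_pointwise_iff_exists] at h1
      obtain ⟨b, -, hb⟩ := h1
      exact ⟨b, hb⟩
    choose hfun hhfun using hdiv
    have hxreg : ∀ a b : B, x * a = x * b → a = b := fun a b hab => hx hab
    let hlin : M →ₗ[B] B :=
      { toFun := hfun
        map_add' := by
          intro m m'
          apply hxreg
          rw [mul_add, hhfun, hhfun, hhfun, map_add]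
        map_smul' := by
          intro c m
          apply hxreg
          rw [hhfun, RingHom.id_apply, smul_eq_mul, mul_left_comm, hhfun, map_smul, smul_eq_mul] }
    rw [Submodule.Quotient.mk_eq_zero, Submodule.mem_smul_pointwise_iff_exists]
    refine ⟨hlin, trivial, ?_⟩
    apply LinearMap.ext
    intro m
    simp only [LinearMap.smul_apply, smul_eq_mul]
    exact hhfun m
  have hwr : RingTheory.Sequence.IsWeaklyRegular (M →ₗ[B] B) [x, y] := by
    rw [RingTheory.Sequence.isWeaklyRegular_cons_iff]
    refine ⟨hxH, ?_⟩
    rw [RingTheory.Sequence.isWeaklyRegular_cons_iff]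
    exact ⟨hyH, RingTheory.Sequence.IsWeaklyRegular.nil _ _⟩
  refine le_iSup₂_of_le [x, y] ⟨hwr, ?_⟩ ?_
  · intro r hr
    simp only [List.mem_cons, List.not_mem_nil, or_false] at hr
    rcases hr with rfl | rfl
    · exact hxI
    · exact hyI
  · simp

end Groth.Agent.S11298
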