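import Groth.Statements.S11301
import Mathlib
import Groth.Agent.Lib.CMReg4_helper9
import Groth.Agent.S0022

set_option autoImplicit false
universe u
open CategoryTheory CategoryTheory.Limits AlgebraicGeometry
open Variety

namespace Groth.Agent.S11301

/-- m-regularity via linear resolutions: in one-step form: let k be an algebraically closed field and F
a coherent module on P^n_k. Then F is m-regular if and only if there are b ≥ 0 and an epimorphism
O(-m)^b → F (from the direct sum of b copies of O(-m)) whose kernel is (m+1)-regular. (The published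
statement is the equivalent characterisation by a resolution ... → O(-m-2)^{b_2} → O(-m-1)^{b_1} →
O(-m)^{b_0} → F → 0; it follows from this one-step form by induction, and conversely.) -/
theorem result (k : Type u) [Field k] [IsAlgClosed k] (n : ℕ)
    (F : (CohB1.ProjSpace n k).Modules) (hF : Coh.IsCoh F) (m : ℤ) :
    Curv2.IsMRegular k n F m ↔
      ∃ (b : ℕ) (φ : (∐ fun _ : Fin b => Twist.twistProjSpace n k (-m)) ⟶ F),
        Epi φ ∧ Curv2.IsMRegular k n (kernel φ) (m + 1) := by
  constructor
  · intro h
    have h' : ∀ q : ℕ, 1 ≤ q → Subsingleton (Coh.HH (CohB1.ProjSpace n k)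
        (CohB1.tensorMod F (Groth.Agent.ProjTens.OO n k (m - q))) q) := by
      intro q hq
      by_cases hqn : q ≤ n
      · exact h q hq hqn
      · haveI := Groth.Agent.ProjTens.isQCoh_twistBy n k F hF.1 (m - q)
        exact Groth.Agent.S0022.result n k _ q (by omega)
    obtain ⟨b, φ, hepi, hK⟩ := Groth.Agent.CMReg.exists_epi_kernel_regular n k F hF m h'
    exact ⟨b, φ, hepi, fun i hi hin => hK i hi hin⟩
  · rintro ⟨b, φ, hepi, hK⟩
    intro i hi hin
    haveI := Groth.Agent.CMReg.hasExt_modules (CohB1.ProjSpace n k)
    haveI := hepi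
    have hKc := Groth.Agent.CMReg.isCoh_kernel_sigma n k F hF (-m) b φ
    refine Groth.Agent.CMReg.regular_of_kernel_regular n k F m b φ ?_ i hi hin
    intro q hq
    by_cases hqn : q ≤ n
    · exact hK q hq hqn
    · haveI := Groth.Agent.ProjTens.isQCoh_twistBy n k (kernel φ) hKc.1 (m + 1 - q)
      exact Groth.Agent.S0022.result n k _ q (by omega)

end Groth.Agent.S11301
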