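import Groth.Statements.S11306
import Mathlib

set_option autoImplicit false
universe u
open TensorProduct
open CAlg

namespace Groth.Agent.S11306

/-- Take a Noetherian local domain A, with residue field k and fraction field K, and let M be a finitely
generated A-module. If k ⊗_A M and K ⊗_A M have the same dimension r (over k and over K
respectively), then M is a free A-module of rank r. -/
theorem result (A : Type u) [CommRing A] [IsDomain A]
    [IsNoetherianRing A] [IsLocalRing A] (M : Type u) [AddCommGroup M] [Module A M] [Module.Finite A M] (r : ℕ)
    (hk : Module.finrank (IsLocalRing.ResidueField A) (IsLocalRing.ResidueField A ⊗[A] M) = r)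
    (hK : Module.finrank (FractionRing A) (FractionRing A ⊗[A] M) = r) :
    Module.Free A M ∧ Module.finrank A M = r := by
  classical
  let b : Module.Basis (Fin r) (IsLocalRing.ResidueField A) (IsLocalRing.ResidueField A ⊗[A] M) :=
    Module.finBasisOfFinrankEq (IsLocalRing.ResidueField A) (IsLocalRing.ResidueField A ⊗[A] M) hk
  have hsurj : Function.Surjective (TensorProduct.mk A (IsLocalRing.ResidueField A) M 1) :=
    TensorProduct.mk_surjective A M (IsLocalRing.ResidueField A) Ideal.Quotient.mk_surjective
  choose f hf using fun i => hsurj (b i)
  have hspan : Submodule.span A (Set.range f) = ⊤ :=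
    IsLocalRing.span_eq_top_of_tmul_eq_basis f b hf
  let π : (Fin r → A) →ₗ[A] M := Fintype.linearCombination A f
  have hπsurj : Function.Surjective π := by
    rw [← LinearMap.range_eq_top, Fintype.range_linearCombination, hspan]
  let πK : (FractionRing A ⊗[A] (Fin r → A)) →ₗ[FractionRing A] (FractionRing A ⊗[A] M) :=
    LinearMap.baseChange (FractionRing A) π
  have hπKsurj : Function.Surjective πK := by
    have h1 : Function.Surjective (LinearMap.lTensor (FractionRing A) π) :=
      LinearMap.lTensor_surjective _ hπsurj
    exact h1
  have hfr : Module.finrank (FractionRing A) (FractionRing A ⊗[A] (Fin r → A)) =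
      Module.finrank (FractionRing A) (FractionRing A ⊗[A] M) := by
    rw [hK, Module.finrank_baseChange, Module.finrank_fin_fun]
  have hπKinj : Function.Injective πK :=
    (LinearMap.injective_iff_surjective_of_finrank_eq_finrank hfr).mpr hπKsurj
  have hj1 : Function.Injective
      (LinearMap.rTensor (Fin r → A) (Algebra.linearMap A (FractionRing A))) := by
    apply Module.Flat.rTensor_preserves_injective_linearMap
    intro x y hxy
    exact IsFractionRing.injective A (FractionRing A) hxy
  have hjinj : Function.Injective
      ((LinearMap.rTensor (Fin r → A) (Algebra.linearMap A (FractionRing A))).comp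
        (TensorProduct.lid A (Fin r → A)).symm.toLinearMap) := by
    rw [LinearMap.coe_comp]
    exact hj1.comp (TensorProduct.lid A (Fin r → A)).symm.injective
  have hπinj : Function.Injective π := by
    rw [← LinearMap.ker_eq_bot, LinearMap.ker_eq_bot']
    intro x hx
    have h1 : πK ((1 : FractionRing A) ⊗ₜ[A] x) = 0 := by
      show LinearMap.baseChange (FractionRing A) π ((1 : FractionRing A) ⊗ₜ[A] x) = 0
      rw [LinearMap.baseChange_tmul, hx, TensorProduct.tmul_zero]
    have h2 : ((1 : FractionRing A) ⊗ₜ[A] x : FractionRing A ⊗[A] (Fin r → A)) = 0 := by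
      apply hπKinj
      rw [h1, map_zero]
    apply hjinj
    rw [map_zero]
    show (LinearMap.rTensor (Fin r → A) (Algebra.linearMap A (FractionRing A)))
      ((TensorProduct.lid A (Fin r → A)).symm x) = 0
    rw [TensorProduct.lid_symm_apply, LinearMap.rTensor_tmul, Algebra.linearMap_apply, map_one]
    exact h2
  let e : (Fin r → A) ≃ₗ[A] M := LinearEquiv.ofBijective π ⟨hπinj, hπsurj⟩
  refine ⟨Module.Free.of_equiv e, ?_⟩
  rw [← LinearEquiv.finrank_eq e, Module.finrank_fin_fun]

end Groth.Agent.S11306
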