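import Groth.Statements.S14403
import Groth.Agent.Lib.FlatFibDim_helper8
import Groth.Agent.Lib.IrrDim2_helper8
import Groth.Agent.Lib.ResTower_helper8
import Groth.Agent.Lib.ResQuot2_helper8

set_option autoImplicit false
universe u
open CategoryTheory AlgebraicGeometry
open FlatMor

namespace Groth.Agent.S14403

/-- Let k be a field, X and Y schemes of finite type over k, f : X ⟶ Y a flat k-morphism, and d, n
natural numbers such that every irreducible component of Y has dimension d (Y equidimensional of
dimension d). Then every irreducible component of X has dimension d + n if and only if for every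
point y of Y, closed or not, every irreducible component of the scheme-theoretic fibre of f over y
has dimension n (empty fibres impose no condition). -/
theorem result (k : Type u) [Field k]
    {X Y : Scheme.{u}} (qX : X ⟶ Spec (CommRingCat.of k)) (qY : Y ⟶ Spec (CommRingCat.of k))
    [LocallyOfFiniteType qX] [QuasiCompact qX] [LocallyOfFiniteType qY] [QuasiCompact qY]
    (f : X ⟶ Y) (hf : f ≫ qY = qX) [Flat f] (d n : ℕ)
    (hY : ∀ Z ∈ irreducibleComponents (Y : Type u), topologicalKrullDim Z = (d : WithBot ℕ∞)) :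
    (∀ Z ∈ irreducibleComponents (X : Type u), topologicalKrullDim Z = ((d + n : ℕ) : WithBot ℕ∞)) ↔
      ∀ (y : Y), ∀ Z ∈ irreducibleComponents (f.fiber y : Type u),
        topologicalKrullDim Z = (n : WithBot ℕ∞) := by
  classical
  letI ovX : X.Over (Spec (CommRingCat.of k)) := ⟨qX⟩
  letI ovY : Y.Over (Spec (CommRingCat.of k)) := ⟨qY⟩
  haveI : LocallyOfFiniteType (X ↘ Spec (CommRingCat.of k)) := ‹LocallyOfFiniteType qX›
  haveI : LocallyOfFiniteType (Y ↘ Spec (CommRingCat.of k)) := ‹LocallyOfFiniteType qY›
  have hf' : f ≫ (Y ↘ Spec (CommRingCat.of k)) = (X ↘ Spec (CommRingCat.of k)) := hf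
  haveI : LocallyOfFiniteType (f ≫ qY) := by rw [hf]; infer_instance
  haveI : LocallyOfFiniteType f := locallyOfFiniteType_of_comp f qY
  haveI : IsLocallyNoetherian Y := LocallyOfFiniteType.isLocallyNoetherian qY
  constructor
  · intro hX y T hT
    obtain ⟨z₀, hTeq, hmax, hdim⟩ :=
      Groth.Agent.FlatFibDimH8.exists_generic_of_mem_irreducibleComponents (f.fiber y) T hT
    set x := (f.fiberι y).base z₀ with hx
    have hfx : f.base x = y := Groth.Agent.FibRes2H8.fiberι_mem f y z₀
    obtain ⟨m, hm⟩ := Groth.Agent.ResQuot2H8.exists_trdeg_nat f x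
    have hht := Groth.Agent.FlatFibDimH8.height_fiber_eq f x y hfx z₀ rfl m hm
    have h0 : ringKrullDim ((f.fiber (f.base x)).presheaf.stalk (f.asFiber x)) = 0 := by
      rw [← Groth.Agent.FibChainH8.stalk_dim_fiber_eq f x y hfx z₀ rfl,
        AlgebraicGeometry.ringKrullDim_stalk_eq_coheight, Order.coheight_eq_zero.mpr hmax]
      rfl
    have hflat := Groth.Agent.FlatFibDimH8.flat_stalk_dim_eq f x h0
    obtain ⟨ξ', a, r, hcomp, -, ha, hr, hdX⟩ := Groth.Agent.IrrDim2H8.irr_dim2 k X x
    obtain ⟨η', a', r', hcomp', -, ha', hr', hdY⟩ := Groth.Agent.IrrDim2H8.irr_dim2 k Y (f.base x)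
    have haa : a = a' := by
      rw [ha, ha'] at hflat
      exact_mod_cast hflat
    have htower := Groth.Agent.ResTowerH8.trdeg_tower k f hf' x
    rw [hr, hr', hm] at htower
    have hrr : r' + m = r := by exact_mod_cast htower
    have h1 : a + r = d + n := by
      have := hX _ hcomp
      rw [hdX] at this
      exact_mod_cast this
    have h2 : a' + r' = d := by
      have := hY _ hcomp'
      rw [hdY] at this
      exact_mod_cast this
    have hmn : m = n := by omega
    rw [hdim, hht, hmn]
    rfl
  · intro hfib Z hZ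
    obtain ⟨ξ, hZeq, hmax, -⟩ :=
      Groth.Agent.FlatFibDimH8.exists_generic_of_mem_irreducibleComponents X Z hZ
    obtain ⟨N, hN, hdimZ⟩ := Groth.Agent.IrrDim2H8.dim_closure_eq_trdeg k X ξ
    have hycomp : closure ({f.base ξ} : Set Y) ∈ irreducibleComponents ↥Y := by
      rw [Groth.Agent.SchFTH8.closure_mem_irreducibleComponents_iff]
      intro y' hy'
      obtain ⟨x', hx', hfx'⟩ := Flat.generalizingMap f hy'
      have h1 : x' ≤ ξ := hmax (show ξ ≤ x' from hx')
      have : x' = ξ := (hx'.antisymm h1).eq
      rw [← hfx', this]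
    obtain ⟨N', hN', hdimY⟩ := Groth.Agent.IrrDim2H8.dim_closure_eq_trdeg k Y (f.base ξ)
    have hN'd : N' = d := by
      have := hY _ hycomp
      rw [hdimY] at this
      exact_mod_cast this
    obtain ⟨m, hm, hhm⟩ := Groth.Agent.FibRes2H8.height_asFiber f ξ
    have hTcomp : closure ({f.asFiber ξ} : Set (f.fiber (f.base ξ))) ∈
        irreducibleComponents ↥(f.fiber (f.base ξ)) := by
      rw [Groth.Agent.SchFTH8.closure_mem_irreducibleComponents_iff]
      intro z' hz'
      rw [Groth.Agent.FibRes2H8.specializes_fiber_iff, Scheme.Hom.fiberι_asFiber] at hz'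
      have h1 : (f.fiberι (f.base ξ)).base z' ≤ ξ := hmax (show ξ ≤ _ from hz')
      have h2 : (f.fiberι (f.base ξ)).base z' = ξ := (hz'.antisymm h1).eq
      apply (f.fiberι (f.base ξ)).isEmbedding.injective
      rw [h2, Scheme.Hom.fiberι_asFiber]
    have hmn : m = n := by
      have := hfib _ _ hTcomp
      rw [Groth.Agent.ClosHtH8.topologicalKrullDim_closure_singleton, hhm] at this
      exact_mod_cast this
    have htower := Groth.Agent.ResTowerH8.trdeg_tower k f hf' ξ
    rw [hN, hN', hm] at htower
    have hNN : N' + m = N := by exact_mod_cast htower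
    rw [hZeq, hdimZ]
    have : N = d + n := by omega
    rw [this]

end Groth.Agent.S14403
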