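import Groth.Statements.S11322
import Groth.Agent.S14403
import Groth.Agent.Lib.IrrDim_helper8

set_option autoImplicit false
universe u
open CategoryTheory AlgebraicGeometry
open FlatMor

namespace Groth.Agent.S11322

/-- Let k be a field, X and Y schemes of finite type over k with Y irreducible, f : X → Y a flat
k-morphism and n a natural number. Then all irreducible components of X have dimension dim Y + n if
and only if, for each point y of Y (generic points included), all irreducible components of the
fibre of f over y have dimension n. -/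
theorem result (k : Type u) [Field k]
    {X Y : Scheme.{u}} (qX : X ⟶ Spec (CommRingCat.of k)) (qY : Y ⟶ Spec (CommRingCat.of k))
    [LocallyOfFiniteType qX] [QuasiCompact qX] [LocallyOfFiniteType qY] [QuasiCompact qY]
    [IrreducibleSpace ↥Y] (f : X ⟶ Y) (hf : f ≫ qY = qX) [Flat f] (n : ℕ) :
    (∀ Z : Set ↥X, Z ∈ irreducibleComponents ↥X → topologicalKrullDim ↥Z = topologicalKrullDim ↥Y + (n : WithBot ℕ∞)) ↔
      ∀ (y : Y) (Z : Set ↥(f.fiber y)), Z ∈ irreducibleComponents ↥(f.fiber y) →
        topologicalKrullDim ↥Z = (n : WithBot ℕ∞) := by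
  classical
  letI ovY : Y.Over (Spec (CommRingCat.of k)) := ⟨qY⟩
  haveI : LocallyOfFiniteType (Y ↘ Spec (CommRingCat.of k)) := ‹LocallyOfFiniteType qY›
  set η : Y := genericPoint Y with hηdef
  have hη : ∀ y' : Y, η ⤳ y' := fun y' => genericPoint_specializes y'
  obtain ⟨a, r, -, -, hdY⟩ := Groth.Agent.IrrDimH8.irr_dim k Y η hη η
  have hY : ∀ Z ∈ irreducibleComponents (Y : Type u),
      topologicalKrullDim Z = ((a + r : ℕ) : WithBot ℕ∞) := by
    intro Z hZ
    rw [irreducibleComponents_eq_singleton, Set.mem_singleton_iff] at hZ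
    subst hZ
    rw [← hdY]
    exact (Homeomorph.Set.univ Y).isHomeomorph.topologicalKrullDim_eq
  have key := Groth.Agent.S14403.result k qX qY f hf (a + r) n hY
  rw [hdY]
  constructor
  · intro h
    refine key.mp ?_
    intro Z hZ
    rw [h Z hZ]
    push_cast
    rfl
  · intro h Z hZ
    rw [key.mpr h Z hZ]
    push_cast
    rfl

end Groth.Agent.S11322
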