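import Groth.Statements.S11336
import Mathlib
import Groth.Agent.Lib.OmDualF_helper9
import Groth.Agent.Lib.DefTrivArt5_helper3
import Groth.Agent.Lib.CurveCliff1_helper9

set_option autoImplicit false
universe u
open CategoryTheory CategoryTheory.Limits AlgebraicGeometry
open Curves

namespace Groth.Agent.S11336

/-- Let k be an algebraically closed field and X a curve over k (an integral scheme, proper over k, of
dimension one, with all local rings regular), and L an invertible O_X-module with an inverse M (L ⊗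
M ≅ O_X) such that H^0(X, L) ≠ 0 and H^0(X, Ω_{X/k} ⊗ M) ≠ 0 (L comes from an effective special
divisor D). Then dim |D| ≤ deg D / 2, i.e. 2 (dim_k H^0(X, L) - 1) ≤ deg L, with deg L = χ(L) -
χ(O_X). -/
theorem result (k : Type u) [Field k] [IsAlgClosed k] (X : Scheme.{u}) [X.Over (Spec (CommRingCat.of k))]
    [IsIntegral X] [IsProper (X ↘ (Spec (CommRingCat.of k)))] (hdim : topologicalKrullDim X = 1)
    (hreg : ∀ x : X, IsRegularLocalRing (X.presheaf.stalk x))
    (L M : X.Modules) (hL : PicF.IsInvertible L) (hM : ClSub.IsInverseOf L M)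
    (hs : Nontrivial (Coh.HH X L 0)) (hsp : Nontrivial (Coh.HH X (CohB1.tensorMod (Omega.sheaf (X ↘ (Spec (CommRingCat.of k)))) M) 0)) :
    2 * (Module.finrank k (Coh.HH X L 0) : ℤ) ≤ Curv2.deg k X L 1 + 2 := by
  haveI : IsLocallyNoetherian X :=
    LocallyOfFiniteType.isLocallyNoetherian (X ↘ Spec (CommRingCat.of k))
  haveI : Smooth (X ↘ Spec (CommRingCat.of k)) :=
    Groth.Agent.Lib.DefTrivArtH3.smooth_of_regular k X _ hreg
  obtain ⟨e⟩ := hM
  have hd := OmDual.finrank_HH1_eq_HH0_Omega_twist k X hdim hL e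
  have hLc := ProperFinH9.isCoh_of_isInvertible hL
  haveI := hLc.1
  haveI : (Coh.structureModule X).IsQuasicoherent := TensH8.isQuasicoherent_structureModule
  have hΩM : Coh.IsCoh (CohB1.tensorMod (Omega.sheaf (X ↘ Spec (CommRingCat.of k))) M) :=
    ProperFinH9.isCoh_of_isInvertible (TensH8.isInvertible_tensorMod
      (OmDual.isInvertible_Omega k X hdim)
      (InvTensH8.isInvertible_of_tensor_iso (Groth.Agent.TensInv.comm M L ≪≫ e)))
  haveI := ProperFinH9.finite_HH_of_proper k X _ hΩM 0
  haveI := ProperFinH9.finite_HH_of_proper k X _ hLc 1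
  have hpos : 0 < Module.finrank k (Coh.HH X L 1) := by
    rw [hd]
    exact Module.finrank_pos
  haveI hs1 : Nontrivial (Coh.HH X L 1) := Module.nontrivial_of_finrank_pos (R := k) hpos
  have hcl := CurveCliff.finrank_HH0_add_HH1_le k X hdim.le hL hs hs1
  haveI : Module.Finite k (Coh.HH X (Coh.structureModule X) 0) :=
    ProperFinH9.finite_HH_of_proper k X _ (CohDevH8.isCoh_structureModule X) 0
  have hO := Groth.Agent.ProjConn.finrank_h0_of_isIntegral k (X := X)
  unfold Curv2.deg
  rw [CurveRR.euler_eq_sub k X hdim.le L, CurveRR.euler_eq_sub k X hdim.le (Coh.structureModule X), hO]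
  have hg : Curv2.genus k X = Module.finrank k (Coh.HH X (Coh.structureModule X) 1) := rfl
  rw [hg] at hcl
  push_cast
  have hcl' : (Module.finrank k (Coh.HH X L 0) : ℤ) + (Module.finrank k (Coh.HH X L 1) : ℤ) ≤
      (Module.finrank k (Coh.HH X (Coh.structureModule X) 1) : ℤ) + 1 := by exact_mod_cast hcl
  linarith

end Groth.Agent.S11336
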