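import Groth.Statements.S11461
import Mathlib

set_option autoImplicit false
universe u
open CategoryTheory
open DefT

namespace Groth.Agent.S11461

open CategoryTheory

section ses
variable {B : Type u} [CommRing B]

theorem ses_lemma (I K : Ideal B) (a : B) (hK : ∀ y, a * y ∈ I ↔ y ∈ K)
    (f₁ : (B ⧸ K) →ₗ[B] (B ⧸ I)) (hf₁ : ∀ y, f₁ (Submodule.mkQ K y) = Submodule.mkQ I (a * y)) :
    Function.Injective f₁ ∧
      Function.Exact f₁ (Submodule.factor (le_sup_left : I ≤ I ⊔ Ideal.span {a})) ∧
      Function.Surjective (Submodule.factor (le_sup_left : I ≤ I ⊔ Ideal.span {a})) := by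
  refine ⟨?_, ?_, ?_⟩
  · rw [injective_iff_map_eq_zero]
    intro x hx
    obtain ⟨y, rfl⟩ := Submodule.mkQ_surjective K x
    rw [hf₁, Submodule.mkQ_apply, Submodule.Quotient.mk_eq_zero] at hx
    rw [Submodule.mkQ_apply, Submodule.Quotient.mk_eq_zero]
    exact (hK y).mp hx
  · intro z
    obtain ⟨w, rfl⟩ := Submodule.mkQ_surjective I z
    rw [Submodule.factor_mk, Submodule.mkQ_apply, Submodule.Quotient.mk_eq_zero]
    constructor
    · intro hw
      obtain ⟨i, hi, j, hj, rfl⟩ := Submodule.mem_sup.mp hw
      obtain ⟨y, rfl⟩ := Ideal.mem_span_singleton'.mp hj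
      refine ⟨Submodule.mkQ K y, ?_⟩
      rw [hf₁, Submodule.mkQ_apply, Submodule.mkQ_apply, eq_comm, ← sub_eq_zero,
        ← Submodule.Quotient.mk_sub, Submodule.Quotient.mk_eq_zero]
      have : i + y * a - a * y = i := by ring
      rw [this]; exact hi
    · rintro ⟨x, hx⟩
      obtain ⟨y, rfl⟩ := Submodule.mkQ_surjective K x
      rw [hf₁, Submodule.mkQ_apply, Submodule.mkQ_apply, Submodule.Quotient.eq] at hx
      have h1 : a * y ∈ I ⊔ Ideal.span {a} :=
        Submodule.mem_sup_right (Ideal.mul_mem_right y _ (Ideal.mem_span_singleton_self a))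
      have h2 : a * y - w ∈ I ⊔ Ideal.span {a} := Submodule.mem_sup_left hx
      have : w = a * y - (a * y - w) := by ring
      rw [this]
      exact Submodule.sub_mem _ h1 h2
  · intro z
    obtain ⟨w, rfl⟩ := Submodule.mkQ_surjective _ z
    exact ⟨Submodule.mkQ I w, Submodule.factor_mk _ w⟩

end ses

section main
variable {B : Type u} [CommRing B] [IsNoetherianRing B]
  (F : ModuleCat.{u} B ⥤ ModuleCat.{u} B) [F.Additive] [F.Linear B]

theorem isZero_mid
    (hex : ∀ S : ShortComplex (ModuleCat.{u} B), S.ShortExact → Module.Finite B S.X₂ → (S.map F).Exact)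
    (S : ShortComplex (ModuleCat.{u} B)) (hS : S.ShortExact) (hfin : Module.Finite B S.X₂)
    (h1 : Limits.IsZero (F.obj S.X₁)) (h3 : Limits.IsZero (F.obj S.X₃)) :
    Limits.IsZero (F.obj S.X₂) := by
  have he := hex S hS hfin
  rw [ShortComplex.moduleCat_exact_iff_range_eq_ker] at he
  have hf0 : (S.map F).f = 0 := h1.eq_of_src _ _
  have hg0 : (S.map F).g = 0 := h3.eq_of_tgt _ _
  rw [hf0, hg0] at he
  have hall : ∀ x : (S.map F).X₂, x = 0 := by
    intro x
    have hx : x ∈ LinearMap.ker (ModuleCat.Hom.hom (0 : (S.map F).X₂ ⟶ (S.map F).X₃)) := by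
      show (ModuleCat.Hom.hom (0 : (S.map F).X₂ ⟶ (S.map F).X₃)) x = 0
      rw [ModuleCat.hom_zero]; rfl
    rw [← he] at hx
    obtain ⟨w, hw⟩ := hx
    rw [← hw, ModuleCat.hom_zero]; rfl
  have : Subsingleton (F.obj S.X₂) := ⟨fun x y => (hall x).trans (hall y).symm⟩
  exact ModuleCat.isZero_of_subsingleton _

theorem isZero_cyclic
    (hfg : ∀ M : ModuleCat.{u} B, Module.Finite B M → Module.Finite B (F.obj M))
    (hex : ∀ S : ShortComplex (ModuleCat.{u} B), S.ShortExact → Module.Finite B S.X₂ → (S.map F).Exact)
    (h0 : ∀ m : Ideal B, m.IsMaximal → Limits.IsZero (F.obj (ModuleCat.of B (B ⧸ m))))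
    (I : Ideal B) : Limits.IsZero (F.obj (ModuleCat.of B (B ⧸ I))) := by
  induction I using IsNoetherian.induction with
  | hgt I ih =>
    by_cases htop : I = ⊤
    · have hsub : Subsingleton (B ⧸ I) := Submodule.Quotient.subsingleton_iff.mpr htop
      have hz : Limits.IsZero (ModuleCat.of B (B ⧸ I)) := ModuleCat.isZero_of_subsingleton _
      exact F.map_isZero hz
    have hJ : ∀ a : B, a ∉ I → I < I ⊔ Ideal.span {a} := by
      intro a ha
      refine lt_of_le_of_ne le_sup_left ?_
      intro h
      apply ha
      rw [h]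
      exact Submodule.mem_sup_right (Ideal.mem_span_singleton_self a)
    by_cases hprime : Ideal.IsPrime I
    · by_cases hmax : Ideal.IsMaximal I
      · exact h0 I hmax
      · have hfinT : Module.Finite B (F.obj (ModuleCat.of B (B ⧸ I))) :=
          hfg _ (inferInstanceAs (Module.Finite B (B ⧸ I)))
        have hsurj : ∀ a : B, a ∉ I → ∀ t : F.obj (ModuleCat.of B (B ⧸ I)),
            ∃ t' : F.obj (ModuleCat.of B (B ⧸ I)), a • t' = t := by
          intro a ha t
          have hK : ∀ y, a * y ∈ I ↔ y ∈ I := fun y =>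
            ⟨fun h => (hprime.mem_or_mem h).resolve_left ha, fun h => Ideal.mul_mem_left I a h⟩
          let f₁ : (B ⧸ I) →ₗ[B] (B ⧸ I) := a • LinearMap.id
          have hf₁ : ∀ y, f₁ (Submodule.mkQ I y) = Submodule.mkQ I (a * y) := fun y => by
            show a • (Submodule.mkQ I y) = Submodule.mkQ I (a * y)
            rw [← smul_eq_mul, map_smul]
          obtain ⟨hinj, hexact, hsur⟩ := ses_lemma I I a hK f₁ hf₁
          let S : ShortComplex (ModuleCat.{u} B) := ModuleCat.shortComplexOfCompEqZero f₁
            (Submodule.factor (le_sup_left : I ≤ I ⊔ Ideal.span {a}))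
            (LinearMap.ext fun x => hexact.apply_apply_eq_zero x)
          have hS : S.ShortExact := ModuleCat.shortComplex_shortExact S hexact hinj hsur
          have h3 : Limits.IsZero (F.obj S.X₃) := ih _ (hJ a ha)
          have he := hex S hS (inferInstanceAs (Module.Finite B (B ⧸ I)))
          rw [ShortComplex.moduleCat_exact_iff_range_eq_ker] at he
          have hg0 : (S.map F).g = 0 := h3.eq_of_tgt _ _
          have ht : (t : (S.map F).X₂) ∈ LinearMap.ker (S.map F).g.hom := by
            show (S.map F).g.hom t = 0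
            rw [hg0, ModuleCat.hom_zero]; rfl
          rw [← he] at ht
          obtain ⟨t', ht'⟩ := ht
          refine ⟨t', ?_⟩
          have hfa : (S.map F).f = a • 𝟙 (F.obj (ModuleCat.of B (B ⧸ I))) := by
            show F.map (ModuleCat.ofHom f₁) = _
            have : ModuleCat.ofHom f₁ = a • 𝟙 (ModuleCat.of B (B ⧸ I)) := by
              ext x; rfl
            rw [this, Functor.map_smul, F.map_id]
          rw [hfa] at ht'
          have h5 : (ModuleCat.Hom.hom (a • 𝟙 (F.obj (ModuleCat.of B (B ⧸ I))))) t' = a • t' := by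
            rw [ModuleCat.hom_smul, ModuleCat.hom_id]; rfl
          exact h5.symm.trans ht'
        obtain ⟨𝔪, hm, hI𝔪⟩ := Ideal.exists_le_maximal I htop
        have hne : I ≠ 𝔪 := fun h => hmax (h ▸ hm)
        obtain ⟨x, hx𝔪, hxI⟩ : ∃ x ∈ 𝔪, x ∉ I := SetLike.exists_of_lt (lt_of_le_of_ne hI𝔪 hne)
        have hle : (⊤ : Submodule B (F.obj (ModuleCat.of B (B ⧸ I)))) ≤ Ideal.span {x} • ⊤ := by
          intro t _
          obtain ⟨t', rfl⟩ := hsurj x hxI t
          exact Submodule.smul_mem_smul (Ideal.mem_span_singleton_self x) trivial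
        obtain ⟨r, hr1, hr0⟩ := Submodule.exists_sub_one_mem_and_smul_eq_zero_of_fg_of_le_smul
          (Ideal.span {x}) ⊤ hfinT.fg_top hle
        have hrI : r ∉ I := by
          intro hrI
          have h1 : r ∈ 𝔪 := hI𝔪 hrI
          have h2 : r - 1 ∈ 𝔪 := (Ideal.span_singleton_le_iff_mem 𝔪).mpr hx𝔪 hr1
          have : (1 : B) ∈ 𝔪 := by
            have := 𝔪.sub_mem h1 h2
            simpa using this
          exact hm.ne_top ((Ideal.eq_top_iff_one 𝔪).mpr this)
        have hall : ∀ t : F.obj (ModuleCat.of B (B ⧸ I)), t = 0 := by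
          intro t
          obtain ⟨t', rfl⟩ := hsurj r hrI t
          exact hr0 t' trivial
        have : Subsingleton (F.obj (ModuleCat.of B (B ⧸ I))) :=
          ⟨fun a b => (hall a).trans (hall b).symm⟩
        exact ModuleCat.isZero_of_subsingleton _
    · rcases Ideal.not_isPrime_iff.mp hprime with h | ⟨a, ha, b, hb, hab⟩
      · exact absurd h htop
      · let K : Ideal B := Submodule.comap (LinearMap.mulLeft B a) I
        have hK : ∀ y, a * y ∈ I ↔ y ∈ K := fun y => Iff.rfl
        have hIK : I < K := by
          refine lt_of_le_of_ne (fun i hi => Ideal.mul_mem_left I a hi) ?_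
          intro h
          apply hb
          rw [h]
          exact hab
        let f₁ : (B ⧸ K) →ₗ[B] (B ⧸ I) :=
          K.liftQ ((Submodule.mkQ I).comp (LinearMap.mulLeft B a)) (by
            intro y hy
            rw [LinearMap.mem_ker, LinearMap.comp_apply, Submodule.mkQ_apply,
              Submodule.Quotient.mk_eq_zero]
            exact hy)
        have hf₁ : ∀ y, f₁ (Submodule.mkQ K y) = Submodule.mkQ I (a * y) := fun y => rfl
        obtain ⟨hinj, hexact, hsur⟩ := ses_lemma I K a hK f₁ hf₁
        let S : ShortComplex (ModuleCat.{u} B) := ModuleCat.shortComplexOfCompEqZero f₁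
          (Submodule.factor (le_sup_left : I ≤ I ⊔ Ideal.span {a}))
          (LinearMap.ext fun x => hexact.apply_apply_eq_zero x)
        have hS : S.ShortExact := ModuleCat.shortComplex_shortExact S hexact hinj hsur
        exact isZero_mid F hex S hS (inferInstanceAs (Module.Finite B (B ⧸ I))) (ih K hIK)
          (ih _ (hJ a ha))
end main


/-- Let B be a Noetherian ring and F an additive, B-linear endofunctor of B-modules which preserves
finite generation and is semi-exact on short exact sequences of finitely generated modules (the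
image sequence is exact in the middle). If F kills B/m for every maximal ideal m, then F kills every
finitely generated B-module. (The published statement assumes F only additive; this row assumes F
B-linear, and takes the functor on all B-modules with the hypotheses and the conclusion on the
finitely generated ones.) -/
theorem result (B : Type u) [CommRing B]
    [IsNoetherianRing B] (F : ModuleCat.{u} B ⥤ ModuleCat.{u} B) [F.Additive] [F.Linear B]
    (hfg : ∀ M : ModuleCat.{u} B, Module.Finite B M → Module.Finite B (F.obj M))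
    (hex : ∀ S : ShortComplex (ModuleCat.{u} B), S.ShortExact → Module.Finite B S.X₂ → (S.map F).Exact)
    (h0 : ∀ m : Ideal B, m.IsMaximal → Limits.IsZero (F.obj (ModuleCat.of B (B ⧸ m))))
    (M : ModuleCat.{u} B) (hM : Module.Finite B M) : Limits.IsZero (F.obj M) := by
  have key : ∀ (N : Type u) [AddCommGroup N] [Module B N] [Module.Finite B N],
      Limits.IsZero (F.obj (ModuleCat.of B N)) := by
    intro N _ _ hN
    induction hN using IsNoetherianRing.induction_on_isQuotientEquivQuotientPrime B with
    | subsingleton N => exact F.map_isZero (ModuleCat.isZero_of_subsingleton _)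
    | quotient N p f =>
      have e : ModuleCat.of B N ≅ ModuleCat.of B (B ⧸ p.asIdeal) := f.toModuleIso
      exact (isZero_cyclic F hfg hex h0 p.asIdeal).of_iso (F.mapIso e)
    | exact N₁ N₂ N₃ f g hf hg hfg' h₁ h₃ =>
      let S : ShortComplex (ModuleCat.{u} B) :=
        ModuleCat.shortComplexOfCompEqZero f g (LinearMap.ext fun x => hfg'.apply_apply_eq_zero x)
      have hS : S.ShortExact := ModuleCat.shortComplex_shortExact S hfg' hf hg
      exact isZero_mid F hex S hS (inferInstanceAs (Module.Finite B N₂)) h₁ h₃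
  exact key M

end Groth.Agent.S11461
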