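import Groth.Statements.S11484
import Mathlib
import Groth.Agent.Lib.ProjTens1_helper9

set_option autoImplicit false
universe u
open VBPn

namespace Groth.Agent.S11484

open CategoryTheory CategoryTheory.Limits AlgebraicGeometry in
/-- Let k be an algebraically closed field of characteristic zero and n ≥ 2. On P^n_k every short exact
sequence of O-modules whose first term is isomorphic to O(a) and whose third term is isomorphic to
O(b), for integers a and b, admits a splitting; in particular its middle term is isomorphic to O(a)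
⊕ O(b). -/
theorem result (k : Type u) [Field k] [IsAlgClosed k] [CharZero k]
    (n : ℕ) (hn : 2 ≤ n) (a b : ℤ) (S : ShortComplex (CohB1.ProjSpace n k).Modules) (hS : S.ShortExact)
    (ha : Nonempty (S.X₁ ≅ Twist.twistProjSpace n k a)) (hb : Nonempty (S.X₃ ≅ Twist.twistProjSpace n k b)) :
    Nonempty S.Splitting := by
  obtain ⟨ea⟩ := ha
  obtain ⟨eb⟩ := hb
  have hL' : Nonempty (CohB1.tensorMod (Groth.Agent.ProjTens.OO n k (-b)) S.X₃ ≅
      Coh.structureModule (CohB1.ProjSpace n k)) := by
    obtain ⟨e⟩ := Groth.Agent.ProjTens.twist_inv n k (-b) b (by omega)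
    exact ⟨Groth.Agent.TensInv.mapL _ eb ≪≫ e⟩
  have h1 : Subsingleton (Coh.HH (CohB1.ProjSpace n k)
      (CohB1.tensorMod (Groth.Agent.ProjTens.OO n k (-b)) S.X₁) 1) := by
    obtain ⟨e⟩ := Groth.Agent.ProjTens.twist_add' n k (-b) a (a - b) (by omega)
    have h0 := Groth.Agent.S0844.result k n (a - b) 1 (by omega) (by omega)
    exact Groth.Agent.HHVan.subsingleton_of_iso (Groth.Agent.TensInv.mapL _ ea ≪≫ e).symm 1 h0
  obtain ⟨⟨s, hs⟩⟩ := Groth.Agent.TensInv.isSplitEpi_of_H1 S hS _ hL' h1
  exact ⟨ShortComplex.Splitting.ofExactOfSection S hS.exact s hs hS.mono_f⟩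

end Groth.Agent.S11484
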