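import Groth.Statements.S11485
import Mathlib
import Groth.Agent.S1697
import Groth.Agent.Lib.ProjTens2_helper9
import Groth.Agent.Lib.CurveG12b_helper9
import Groth.Agent.Lib.ProjCech2_helper9
import Groth.Agent.Lib.HHVan_helper9

set_option autoImplicit false
universe u
open VBPn

namespace Groth.Agent.S11485

open CategoryTheory CategoryTheory.Limits AlgebraicGeometry in
/-- Let k be an algebraically closed field of characteristic zero and n ≥ 2. If 0 → L → E → M → 0 is a
short exact sequence of O-modules on P^n_k with L and M finite locally free of rank 1 (so E is a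
rank-2 vector bundle with the proper subbundle L), then E ≅ O(a) ⊕ O(b) for some integers a, b: a
rank-2 vector bundle on P^n_k, n ≥ 2, which does not split has no proper subbundle. -/
theorem result (k : Type u) [Field k] [IsAlgClosed k]
    [CharZero k] (n : ℕ) (hn : 2 ≤ n) (S : ShortComplex (CohB1.ProjSpace n k).Modules) (hS : S.ShortExact)
    (h₁ : FlatMod.IsFinLocFreeOfRank 1 S.X₁) (h₃ : FlatMod.IsFinLocFreeOfRank 1 S.X₃) :
    ∃ a b : ℤ, Nonempty (S.X₂ ≅ Twist.twistProjSpace n k a ⊞ Twist.twistProjSpace n k b) := by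
  obtain ⟨a, ⟨ea⟩⟩ := Groth.Agent.S1697.result k n S.X₁ (CurveG12.isInvertible_of_rank_one h₁)
  obtain ⟨b, ⟨eb⟩⟩ := Groth.Agent.S1697.result k n S.X₃ (CurveG12.isInvertible_of_rank_one h₃)
  refine ⟨a, b, ?_⟩
  -- the twist `O(-b)`
  have hL' : Nonempty (CohB1.tensorMod (Twist.twistProjSpace n k (-b)) S.X₃ ≅
      Coh.structureModule (CohB1.ProjSpace n k)) := by
    obtain ⟨e⟩ := Groth.Agent.ProjTens.twist_inv n k (-b) b (by omega)
    exact ⟨Groth.Agent.TensInv.mapL _ eb ≪≫ e⟩
  have h1 : Subsingleton (Coh.HH (CohB1.ProjSpace n k)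
      (CohB1.tensorMod (Twist.twistProjSpace n k (-b)) S.X₁) 1) := by
    obtain ⟨e⟩ := Groth.Agent.ProjTens.twist_add n k (-b) a
    have h0 : Subsingleton (Coh.HH (CohB1.ProjSpace n k) (Twist.twistProjSpace n k (-b + a)) 1) :=
      Groth.Agent.ProjCech.subsingleton_HH_twist (n := n) (R := k) (-b + a) 1 (by omega) (by omega)
    exact Groth.Agent.HHVan.subsingleton_of_iso (Groth.Agent.TensInv.mapL _ ea ≪≫ e).symm 1 h0
  have hsplit := Groth.Agent.TensInv.isSplitEpi_of_H1 S hS (Twist.twistProjSpace n k (-b)) hL' h1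
  obtain ⟨⟨t, ht⟩⟩ := hsplit
  haveI := hS.mono_f
  let σ : S.Splitting := CategoryTheory.ShortComplex.Splitting.ofExactOfSection S hS.exact t ht hS.mono_f
  exact ⟨σ.isoBinaryBiproduct ≪≫ CategoryTheory.Limits.biprod.mapIso ea eb⟩

end Groth.Agent.S11485
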