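import Groth.Statements.S11499
import Mathlib

set_option autoImplicit false
universe u
open TensorProduct
open VBPn

namespace Groth.Agent.S11499

/-- Let A be an integral domain with fraction field K and M a finitely generated torsion-free A-module
of rank r (K ⊗_A M is r-dimensional over K). Then there is an injective A-linear map M → A^r. The
published statement is for torsion-free coherent sheaves on a complex manifold, locally near a
point; this row is its statement for one stalk, over any domain. -/
theorem result (A : Type u) [CommRing A] [IsDomain A]
    (M : Type u) [AddCommGroup M] [Module A M] [Module.Finite A M] [NoZeroSMulDivisors A M] (r : ℕ)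
    (hr : Module.finrank (FractionRing A) (FractionRing A ⊗[A] M) = r) :
    ∃ f : M →ₗ[A] (Fin r → A), Function.Injective f := by
  classical
  have hι : IsLocalizedModule (nonZeroDivisors A) (TensorProduct.mk A (FractionRing A) M 1) :=
    inferInstance
  have hιinj : Function.Injective (TensorProduct.mk A (FractionRing A) M 1) := by
    rw [injective_iff_map_eq_zero]
    intro m hm
    obtain ⟨c, hc⟩ := (IsLocalizedModule.eq_zero_iff (nonZeroDivisors A)
      (TensorProduct.mk A (FractionRing A) M 1)).mp hm
    have hc' : (c : A) • m = 0 := hc
    rcases smul_eq_zero.mp hc' with h | h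
    · exact absurd h (nonZeroDivisors.ne_zero c.2)
    · exact h
  have hfinV : Module.Finite (FractionRing A) (FractionRing A ⊗[A] M) := inferInstance
  let bas : Module.Basis (Fin r) (FractionRing A) (FractionRing A ⊗[A] M) :=
    Module.finBasisOfFinrankEq (FractionRing A) (FractionRing A ⊗[A] M) hr
  let φ : (FractionRing A ⊗[A] M) ≃ₗ[FractionRing A] (Fin r → FractionRing A) := bas.equivFun
  let g : M →ₗ[A] (Fin r → FractionRing A) :=
    (φ.toLinearMap.restrictScalars A).comp (TensorProduct.mk A (FractionRing A) M 1)
  have hginj : Function.Injective g := fun x y h => hιinj (φ.injective h)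
  obtain ⟨s, hs⟩ := (Module.Finite.fg_top : (⊤ : Submodule A M).FG)
  obtain ⟨b, hb⟩ := IsLocalization.exist_integer_multiples_of_finset (nonZeroDivisors A)
    ((s ×ˢ (Finset.univ : Finset (Fin r))).image (fun p => g p.1 p.2))
  let c : (Fin r → A) →ₗ[A] (Fin r → FractionRing A) :=
    (Algebra.linearMap A (FractionRing A)).compLeft (Fin r)
  have hcinj : Function.Injective c := by
    intro v w h
    funext i
    have := congrFun h i
    exact IsFractionRing.injective A (FractionRing A) this
  have hmem : ∀ m : M, (b : A) • g m ∈ LinearMap.range c := by
    intro m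
    have hm : m ∈ Submodule.span A (s : Set M) := by rw [hs]; trivial
    induction hm using Submodule.span_induction with
    | mem x hx =>
      have hint : ∀ i : Fin r, IsLocalization.IsInteger A ((b : A) • g x i) := by
        intro i
        apply hb
        rw [Finset.mem_image]
        exact ⟨(x, i), Finset.mem_product.mpr ⟨hx, Finset.mem_univ i⟩, rfl⟩
      choose v hv using hint
      refine ⟨v, ?_⟩
      funext i
      exact hv i
    | zero => rw [map_zero, smul_zero]; exact Submodule.zero_mem _
    | add x y _ _ hx hy => rw [map_add, smul_add]; exact Submodule.add_mem _ hx hy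
    | smul a x _ hx => rw [map_smul, smul_comm]; exact Submodule.smul_mem _ a hx
  let g' : M →ₗ[A] LinearMap.range c :=
    LinearMap.codRestrict (LinearMap.range c) ((b : A) • g) hmem
  let e : (Fin r → A) ≃ₗ[A] LinearMap.range c := LinearEquiv.ofInjective c hcinj
  refine ⟨e.symm.toLinearMap.comp g', ?_⟩
  intro x y h
  have h1 : g' x = g' y := e.symm.injective h
  have h2 : (b : A) • g x = (b : A) • g y := congrArg Subtype.val h1
  have hb0 : algebraMap A (FractionRing A) (b : A) ≠ 0 := by
    intro h0
    exact nonZeroDivisors.ne_zero b.2 (IsFractionRing.injective A (FractionRing A) (h0.trans (map_zero _).symm))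
  apply hginj
  funext i
  have h3 := congrFun h2 i
  simp only [Pi.smul_apply, Algebra.smul_def] at h3
  exact mul_left_cancel₀ hb0 h3

end Groth.Agent.S11499
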