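import Groth.Statements.S11523
import Mathlib

set_option autoImplicit false
universe v u v' u'
open CategoryTheory CategoryTheory.Limits
open PervT

namespace Groth.Agent.S11523

/-- Let `u : A ⥤ B` be a fully faithful exact functor of abelian categories admitting a left adjoint and
a right adjoint `uStar`. Suppose every object of `A` has finite length (it is both an artinian and a
noetherian object) and that `u` sends simple objects to simple objects. Then for every object `Y` of
`B` the counit `u (uStar Y) ⟶ Y` of the adjunction `u ⊣ uStar` is a monomorphism. (The published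
statement also lists two further conditions equivalent to this one: that for every object `Y` of `B`
the unit `Y ⟶ u (L Y)` of the adjunction `L ⊣ u` of the left adjoint `L` is an epimorphism, and that
the essential image of `u` is stable under subobjects and quotients; this row states only the counit
condition.) -/
theorem result {A : Type u} [Category.{v} A] [Abelian A] {B : Type u'} [Category.{v'} B] [Abelian B]
    (u : A ⥤ B) [u.Full] [u.Faithful] [PreservesFiniteLimits u] [PreservesFiniteColimits u] [u.IsRightAdjoint]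
    (uStar : B ⥤ A) (adj : u ⊣ uStar)
    (hlen : ∀ X : A, IsArtinianObject X ∧ IsNoetherianObject X)
    (hsimple : ∀ X : A, Simple X → Simple (u.obj X)) (Y : B) :
    Mono (adj.counit.app Y) := by

  classical
  haveI : u.Additive := Functor.additive_of_preserves_binary_products u
  set X := uStar.obj Y with hX
  set ε := adj.counit.app Y with hε
  haveI := (hlen X).2
  -- the set of subobjects `Z` of `X` such that `u Z ⟶ Y` is a monomorphism
  let 𝒮 : Set (Subobject X) := {Z | Mono (u.map Z.arrow ≫ ε)}
  have hne : 𝒮.Nonempty := by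
    refine ⟨⊥, ?_⟩
    have h0 : IsZero ((⊥ : Subobject X) : A) := (isZero_zero A).of_iso Subobject.botCoeIsoZero
    exact (u.map_isZero h0).mono _
  obtain ⟨Z, hZ, hmax⟩ := (wellFounded_gt : WellFounded ((· > ·) : Subobject X → _ → Prop)).has_min 𝒮 hne
  set i := Z.arrow with hi
  have hφ : Mono (u.map i ≫ ε) := hZ
  by_cases hiso : IsIso i
  · have : ε = u.map (inv i) ≫ (u.map i ≫ ε) := by
      rw [← Category.assoc, ← u.map_comp, IsIso.inv_hom_id, u.map_id, Category.id_comp]
    rw [this]
    infer_instance
  exfalso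
  -- the cokernel of `i` is nonzero, hence has a simple subobject
  have hQ : ¬ IsZero (cokernel i) := fun h => by
    have h1 : cokernel.π i = 0 := h.eq_of_tgt _ _
    haveI := Abelian.epi_of_cokernel_π_eq_zero i h1
    exact hiso (isIso_of_mono_of_epi i)
  haveI := (hlen (cokernel i)).1
  obtain ⟨S, hS⟩ := exists_simple_subobject hQ
  set j := S.arrow with hj
  set π := cokernel.π i with hπ
  -- the preimage `W` of `S` in `X`
  let W := pullback j π
  let p₁ : W ⟶ (S : A) := pullback.fst j π
  let p₂ : W ⟶ X := pullback.snd j π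
  have hcond : p₁ ≫ j = p₂ ≫ π := pullback.condition
  haveI : Mono p₂ := inferInstance
  haveI : Epi p₁ := inferInstance
  let l : (Z : A) ⟶ W := pullback.lift 0 i (by rw [zero_comp, cokernel.condition])
  have hl₁ : l ≫ p₁ = 0 := pullback.lift_fst _ _ _
  have hl₂ : l ≫ p₂ = i := pullback.lift_snd _ _ _
  haveI : Mono l := mono_of_mono_fac hl₂
  have hker : IsLimit (KernelFork.ofι l hl₁) := by
    refine KernelFork.IsLimit.ofι' l hl₁ (fun {T} k hk => ?_)
    have h1 : (k ≫ p₂) ≫ cokernel.π i = 0 := by
      rw [Category.assoc, ← hcond, reassoc_of% hk, zero_comp]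
    refine ⟨Abelian.monoLift i (k ≫ p₂) h1, ?_⟩
    apply pullback.hom_ext
    · rw [Category.assoc]
      erw [hl₁]
      rw [comp_zero]
      exact hk.symm
    · rw [Category.assoc]
      erw [hl₂]
      exact Abelian.monoLift_comp i (k ≫ p₂) h1
  have hex : (ShortComplex.mk l p₁ hl₁).Exact := ShortComplex.exact_of_f_is_kernel _ hker
  have hexB : ((ShortComplex.mk l p₁ hl₁).map u).Exact := hex.map u
  haveI : Mono ((ShortComplex.mk l p₁ hl₁).map u).f := by
    show Mono (u.map l)
    infer_instance
  set ψ := u.map p₂ ≫ ε with hψ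
  have hlψ : u.map l ≫ ψ = u.map i ≫ ε := by
    rw [hψ, ← Category.assoc, ← u.map_comp, hl₂]
  by_cases hmono : Mono ψ
  · -- `W` would be a bigger subobject in `𝒮`
    have hW : Subobject.mk p₂ ∈ 𝒮 := by
      show Mono (u.map (Subobject.mk p₂).arrow ≫ ε)
      have : u.map (Subobject.mk p₂).arrow ≫ ε = u.map (Subobject.underlyingIso p₂).hom ≫ ψ := by
        rw [hψ, ← Category.assoc, ← u.map_comp, Subobject.underlyingIso_hom_comp_eq_mk]
      rw [this]
      infer_instance
    have hle : Z ≤ Subobject.mk p₂ := by
      have := Subobject.mk_le_mk_of_comm l hl₂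
      rwa [Subobject.mk_arrow] at this
    have hge : Subobject.mk p₂ ≤ Subobject.mk i := by
      rw [Subobject.mk_arrow]
      by_contra h
      exact hmax _ hW (lt_of_le_not_ge hle h)
    have hfac : Subobject.ofMkLEMk p₂ i hge ≫ i = p₂ := Subobject.ofMkLEMk_comp hge
    have h0 : p₁ ≫ j = 0 := by
      rw [hcond, ← hfac, Category.assoc, cokernel.condition, comp_zero]
    have h1 : p₁ = 0 := by
      rw [← cancel_mono j, h0, zero_comp]
    have h2 : 𝟙 (S : A) = 0 := by
      rw [← cancel_epi p₁, Category.comp_id, comp_zero, h1]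
    exact Simple.not_isZero (S : A) ((IsZero.iff_id_eq_zero _).mpr h2)
  · -- the kernel of `ψ` maps isomorphically onto `u S`
    haveI : Simple (u.obj (S : A)) := hsimple _ hS
    set n := kernel.ι ψ with hn
    have hN : ¬ IsZero (kernel ψ) := fun h => hmono (Preadditive.mono_of_isZero_kernel ψ h)
    have hm : Mono (n ≫ u.map p₁) := by
      refine Preadditive.mono_of_cancel_zero _ (fun {T} t ht => ?_)
      have h1 : (t ≫ n) ≫ ((ShortComplex.mk l p₁ hl₁).map u).g = 0 := by
        show (t ≫ n) ≫ u.map p₁ = 0
        rw [Category.assoc]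
        exact ht
      let c : T ⟶ u.obj (Z : A) := hexB.lift (t ≫ n) h1
      have h2 : c ≫ u.map l = t ≫ n := hexB.lift_f (t ≫ n) h1
      have h3 : c ≫ (u.map i ≫ ε) = 0 := by
        rw [← hlψ, reassoc_of% h2, kernel.condition, comp_zero]
      have h4 : c = 0 := by
        rw [← cancel_mono (u.map i ≫ ε), h3, zero_comp]
      have h5 : t ≫ n = 0 := by rw [← h2, h4, zero_comp]
      rw [← cancel_mono n, h5, zero_comp]
    have hm0 : n ≫ u.map p₁ ≠ 0 := fun h => hN (IsZero.of_mono_eq_zero _ h)
    haveI : IsIso (n ≫ u.map p₁) := isIso_of_mono_of_nonzero hm0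
    set σ := inv (n ≫ u.map p₁) ≫ n with hσ
    have hσ₁ : σ ≫ u.map p₁ = 𝟙 _ := by
      rw [hσ, Category.assoc, IsIso.inv_hom_id]
    have hσ₂ : σ ≫ ψ = 0 := by
      rw [hσ, Category.assoc, kernel.condition, comp_zero]
    set t := u.preimage σ with ht
    have htσ : u.map t = σ := u.map_preimage σ
    have ht₁ : t ≫ p₁ = 𝟙 _ := by
      apply u.map_injective
      rw [u.map_comp, htσ, hσ₁, u.map_id]
    have hg : (adj.homEquiv _ _).symm (t ≫ p₂) = (adj.homEquiv _ _).symm 0 := by
      rw [Adjunction.homEquiv_counit, Adjunction.homEquiv_counit, u.map_comp, htσ, u.map_zero,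
        zero_comp, Category.assoc]
      exact hσ₂
    have hg0 : t ≫ p₂ = 0 := (adj.homEquiv _ _).symm.injective hg
    have ht0 : t = 0 := by
      rw [← cancel_mono p₂, hg0, zero_comp]
    have h2 : 𝟙 (S : A) = 0 := by
      rw [← ht₁, ht0, zero_comp]
    exact Simple.not_isZero (S : A) ((IsZero.iff_id_eq_zero _).mpr h2)

end Groth.Agent.S11523
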