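import Groth.Statements.S1153
import Mathlib
import Groth.Agent.Lib.ProperDescent_helper7

set_option autoImplicit false
open CategoryTheory CategoryTheory.Limits AlgebraicGeometry Opposite
universe u
open Desc

namespace Groth.Agent.S1153

/-- Let f : X ⟶ Y be locally of finite type, Z a closed subset of X and g : Y' ⟶ Y quasi-compact, flat
and surjective. If the preimage of Z in X ×_Y Y' is proper over Y', then Z is proper over Y. -/
theorem result {X Y Y' : Scheme.{u}} (f : X ⟶ Y) [LocallyOfFiniteType f] (Z : Set X) (hZ : IsClosed Z)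
    (g : Y' ⟶ Y) [QuasiCompact g] [Flat g] [Surjective g]
    (h : ClSub.IsProperOver (pullback.snd f g) ((pullback.fst f g).base ⁻¹' Z)) :
    ClSub.IsProperOver f Z := by
  obtain ⟨hZ', hprop'⟩ := h
  refine ⟨hZ, Groth.Agent.Lib.ProperDescentH7.isProper_of_pullback_snd _ g ?_⟩
  let I := Scheme.IdealSheafData.vanishingIdeal ⟨Z, hZ⟩
  let I' := Scheme.IdealSheafData.vanishingIdeal ⟨(pullback.fst f g).base ⁻¹' Z, hZ'⟩
  let j' := pullback.snd I.subschemeι (pullback.fst f g)
  let ψ' := j' ≫ pullback.snd f g
  have hrange : Set.range j' = (pullback.fst f g).base ⁻¹' Z := by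
    rw [Scheme.Pullback.range_snd, I.range_subschemeι,
      Scheme.IdealSheafData.coe_support_vanishingIdeal]
    rfl
  have hker : j'.ker ≤ I'.subschemeι.ker := by
    rw [Scheme.IdealSheafData.ker_subschemeι,
      ← Scheme.IdealSheafData.le_support_iff_le_vanishingIdeal]
    intro x hx
    have h1 : x ∈ ((j'.ker.support : TopologicalSpace.Closeds _) : Set _) := by
      rw [Scheme.Hom.support_ker]
      apply subset_closure
      rw [hrange]
      exact hx
    exact h1
  let ℓ := IsClosedImmersion.lift j' I'.subschemeι hker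
  have hℓ : ℓ ≫ j' = I'.subschemeι := IsClosedImmersion.lift_fac _ _ _
  haveI hprop'' : IsProper (ℓ ≫ ψ') := by
    have h1 : ℓ ≫ ψ' = I'.subschemeι ≫ pullback.snd f g := by
      simp only [ψ']
      rw [← Category.assoc, hℓ]
    rw [h1]
    exact hprop'
  haveI : IsClosedImmersion ℓ := by
    haveI : IsClosedImmersion (ℓ ≫ j') := by rw [hℓ]; infer_instance
    exact IsClosedImmersion.of_comp ℓ j'
  haveI : Surjective ℓ := by
    constructor
    intro w
    have hw : j' w ∈ Set.range I'.subschemeι := by
      rw [I'.range_subschemeι, Scheme.IdealSheafData.coe_support_vanishingIdeal]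
      show j' w ∈ (pullback.fst f g).base ⁻¹' Z
      rw [← hrange]
      exact ⟨w, rfl⟩
    obtain ⟨z, hz⟩ := hw
    refine ⟨z, j'.isClosedEmbedding.injective ?_⟩
    rw [← Scheme.Hom.comp_apply, hℓ]
    exact hz
  haveI : IsSeparated ψ' :=
    Groth.Agent.Lib.ProperDescentH7.isSeparated_of_surjective_isClosedImmersion_comp ℓ ψ'
  haveI : UniversallyClosed ψ' := UniversallyClosed.of_comp_surjective ℓ ψ'
  haveI : LocallyOfFiniteType ψ' := by dsimp only [ψ', j']; infer_instance
  have hψ' : IsProper ψ' := { }
  let e := pullbackRightPullbackFstIso f g I.subschemeι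
  have he : pullback.snd (I.subschemeι ≫ f) g = e.inv ≫ ψ' := by
    rw [Iso.eq_inv_comp]
    exact pullbackRightPullbackFstIso_hom_snd f g I.subschemeι
  rw [he]
  infer_instance

end Groth.Agent.S1153
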