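import Groth.Statements.S11544
import Mathlib
import Groth.Agent.Lib.CVal3_helper8

set_option autoImplicit false
universe u
open AdicRing

namespace Groth.Agent.S11544

/-- Let R be a complete valuation ring of height one with t a nonzero element generating an ideal of
definition, K its field of fractions, L an algebraic extension field of K and α an element of L.
Then α is integral over R if and only if the norm of α from K(α) down to K lies in R. -/
theorem result
    (R : Type u) [CommRing R] [IsDomain R] [ValuationRing R] [Ring.KrullDimLE 1 R]
    (t : R) (ht : t ≠ 0) [IsAdicComplete (Ideal.span {t}) R]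
    (L : Type u) [Field L] [Algebra R L] [Algebra (FractionRing R) L]
    [IsScalarTower R (FractionRing R) L] [Algebra.IsAlgebraic (FractionRing R) L] (α : L) :
    IsIntegral R α ↔
      Algebra.norm (FractionRing R) (IntermediateField.AdjoinSimple.gen (FractionRing R) α) ∈
        (algebraMap R (FractionRing R)).range := by
  have halg : IsIntegral (FractionRing R) α := Algebra.IsIntegral.isIntegral α
  have hnorm : Algebra.norm (FractionRing R)
      (IntermediateField.AdjoinSimple.gen (FractionRing R) α) =
      (-1) ^ (minpoly (FractionRing R) α).natDegree * (minpoly (FractionRing R) α).coeff 0 := by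
    have h1 := Algebra.PowerBasis.norm_gen_eq_coeff_zero_minpoly
      (IntermediateField.adjoin.powerBasis halg)
    rw [IntermediateField.adjoin.powerBasis_gen, IntermediateField.minpoly_gen,
      IntermediateField.adjoin.powerBasis_dim] at h1
    exact h1
  constructor
  · intro h
    haveI : IsScalarTower R (IntermediateField.adjoin (FractionRing R) {α}) L :=
      IsScalarTower.of_algebraMap_eq (fun x => rfl)
    have hgen : IsIntegral R (IntermediateField.AdjoinSimple.gen (FractionRing R) α) := by
      rw [← isIntegral_algebraMap_iff (B := L)
        (algebraMap (IntermediateField.adjoin (FractionRing R) {α}) L).injective,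
        IntermediateField.AdjoinSimple.algebraMap_gen]
      exact h
    have h2 := Algebra.isIntegral_norm (FractionRing R) hgen
    obtain ⟨y, hy⟩ := IsIntegrallyClosed.isIntegral_iff.mp h2
    exact ⟨y, hy⟩
  · intro h
    apply CValH8.isIntegral_of_coeff_zero_mem R (FractionRing R) t ht L α
    rw [hnorm] at h
    have h3 : (minpoly (FractionRing R) α).coeff 0 =
        (-1) ^ (minpoly (FractionRing R) α).natDegree *
          ((-1) ^ (minpoly (FractionRing R) α).natDegree *
            (minpoly (FractionRing R) α).coeff 0) := by
      rw [← mul_assoc, ← pow_add, ← two_mul, pow_mul]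
      simp
    rw [h3]
    exact Subring.mul_mem _ (pow_mem (neg_mem (one_mem _)) _) h

end Groth.Agent.S11544
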