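import Groth.Statements.S1156
import Mathlib.Tactic
import Mathlib.RingTheory.Flat.FaithfullyFlat.Basic

set_option autoImplicit false
universe u
open scoped TensorProduct
open Desc

namespace Groth.Agent.S1156

/-- Exactness of the extended Amitsur complex in degree 0 (injectivity in degree −1 being standard). Let
R → A be faithfully flat and M an R-module. An element x of A ⊗_R M with 1 ⊗ x = (a ⊗ m ↦ a ⊗ 1 ⊗
m)(x) in A ⊗_R A ⊗_R M lies in the image of m ↦ 1 ⊗ m. -/
theorem result (R A : Type u) [CommRing R] [CommRing A] [Algebra R A] [Module.FaithfullyFlat R A]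
    (M : Type u) [AddCommGroup M] [Module R M] (x : A ⊗[R] M)
    (hx : TensorProduct.mk R A (A ⊗[R] M) 1 x = LinearMap.lTensor A (TensorProduct.mk R A M 1) x) :
    x ∈ LinearMap.range (TensorProduct.mk R A M 1) := by
  -- the two differentials
  let d0 : M →ₗ[R] A ⊗[R] M := TensorProduct.mk R A M 1
  let d1 : A ⊗[R] M →ₗ[R] A ⊗[R] (A ⊗[R] M) :=
    TensorProduct.mk R A (A ⊗[R] M) 1 - LinearMap.lTensor A d0
  -- contracting homotopies after tensoring with A
  let s : A ⊗[R] (A ⊗[R] M) →ₗ[R] A ⊗[R] M :=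
    LinearMap.rTensor M (LinearMap.mul' R A) ∘ₗ (TensorProduct.assoc R A A M).symm.toLinearMap
  let s' : A ⊗[R] (A ⊗[R] (A ⊗[R] M)) →ₗ[R] A ⊗[R] (A ⊗[R] M) :=
    LinearMap.rTensor (A ⊗[R] M) (LinearMap.mul' R A) ∘ₗ
      (TensorProduct.assoc R A A (A ⊗[R] M)).symm.toLinearMap
  have key : (LinearMap.lTensor A d0) ∘ₗ s + s' ∘ₗ (LinearMap.lTensor A d1) = LinearMap.id := by
    ext a b m
    simp [d0, d1, s, s', TensorProduct.tmul_sub]
  have hex : Function.Exact (LinearMap.lTensor A d0) (LinearMap.lTensor A d1) := by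
    intro z
    constructor
    · intro hz
      refine ⟨s z, ?_⟩
      have := LinearMap.congr_fun key z
      simp only [LinearMap.add_apply, LinearMap.coe_comp, Function.comp_apply, hz, map_zero,
        add_zero, LinearMap.id_coe, id_eq] at this
      exact this
    · rintro ⟨y, rfl⟩
      rw [← LinearMap.comp_apply, ← LinearMap.lTensor_comp]
      have : d1 ∘ₗ d0 = 0 := by
        ext m
        simp [d0, d1]
      rw [this, LinearMap.lTensor_zero, LinearMap.zero_apply]
  have hex' : Function.Exact d0 d1 := (Module.FaithfullyFlat.lTensor_exact_iff_exact R A d0 d1).mp hex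
  have hx1 : d1 x = 0 := by
    simp only [d1, LinearMap.sub_apply]
    rw [sub_eq_zero]
    exact hx
  exact (hex' x).mp hx1

end Groth.Agent.S1156
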