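import Groth.Statements.S1163
import Mathlib.Tactic
import Mathlib.RingTheory.Flat.Stability
import Groth.Agent.S1128

set_option autoImplicit false
open CategoryTheory CategoryTheory.Limits AlgebraicGeometry Opposite
universe u
open Desc

namespace Groth.Agent.S1163

open TensorProduct in
/-- `A → B → C → D`, `C` flat over `A`, `D` flat over `B`: then `D` is flat over `A`
(`D` is a retract of `C ⊗[B] D`). -/
theorem flat_of_section (A B C D : Type*) [CommRing A] [CommRing B] [CommRing C] [CommRing D]
    [Algebra A B] [Algebra B C] [Algebra A C] [IsScalarTower A B C]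
    [Algebra C D] [Algebra B D] [IsScalarTower B C D] [Algebra A D] [IsScalarTower A B D]
    [Module.Flat A C] [Module.Flat B D] : Module.Flat A D := by
  have : Module.Flat C (C ⊗[B] D) := inferInstance
  have : Module.Flat A (C ⊗[B] D) := Module.Flat.trans A C (C ⊗[B] D)
  let i : D →ₗ[A] C ⊗[B] D :=
    (Algebra.TensorProduct.includeRight (R := B) (A := C) (B := D)).toLinearMap.restrictScalars A
  let r : C ⊗[B] D →ₗ[A] D :=
    (Algebra.TensorProduct.productMap (IsScalarTower.toAlgHom B C D)
      (AlgHom.id B D)).toLinearMap.restrictScalars A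
  refine Module.Flat.of_retract i r ?_
  ext d
  simp [i, r]

theorem ringHom_flat_of_section {A B C D : Type*} [CommRing A] [CommRing B] [CommRing C] [CommRing D]
    [IsLocalRing B] [IsLocalRing D] (φ : A →+* B) (ψ : B →+* C) (χ : C →+* D)
    [IsLocalHom (χ.comp ψ)]
    (h2 : (χ.comp ψ).Flat) (h1 : (ψ.comp φ).Flat) : φ.Flat := by
  letI := φ.toAlgebra
  letI := ψ.toAlgebra
  letI := (ψ.comp φ).toAlgebra
  letI := χ.toAlgebra
  letI := (χ.comp ψ).toAlgebra
  letI := ((χ.comp ψ).comp φ).toAlgebra
  have : IsScalarTower A B C := IsScalarTower.of_algebraMap_eq' rfl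
  have : IsScalarTower B C D := IsScalarTower.of_algebraMap_eq' rfl
  have : IsScalarTower A B D := IsScalarTower.of_algebraMap_eq' rfl
  have : Module.Flat A C := h1
  have : Module.Flat B D := h2
  have : Module.Flat A D := flat_of_section A B C D
  have : IsLocalHom (algebraMap B D) := ‹IsLocalHom (χ.comp ψ)›
  have : Module.FaithfullyFlat B D := Module.FaithfullyFlat.of_flat_of_isLocalHom
  exact Groth.Agent.S1128.flat_of_flat_of_faithfullyFlat_tower A B D

/-- The case P = flat, single fppf cover: Let f : X ⟶ Y and q : Y ⟶ Z be morphisms of schemes, and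
suppose there is a flat, surjective morphism g : Y' ⟶ Y locally of finite presentation which factors
through f. If f ≫ q is flat, then q is flat. -/
theorem result {X Y Z Y' : Scheme.{u}} (f : X ⟶ Y) (q : Y ⟶ Z) (g : Y' ⟶ Y) [Flat g] [Surjective g]
    [LocallyOfFinitePresentation g] (l : Y' ⟶ X) (hl : l ≫ f = g) [Flat (f ≫ q)] : Flat q := by
  subst hl
  rw [Flat.iff_flat_stalkMap]
  intro y
  obtain ⟨y', rfl⟩ := (l ≫ f).surjective y
  have h1 : ((f ≫ q).stalkMap (l y')).hom.Flat := Flat.stalkMap (f ≫ q) (l y')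
  rw [Scheme.Hom.stalkMap_comp] at h1
  have h2 : ((l ≫ f).stalkMap y').hom.Flat := Flat.stalkMap (l ≫ f) y'
  rw [Scheme.Hom.stalkMap_comp] at h2
  exact ringHom_flat_of_section (q.stalkMap (f (l y'))).hom (f.stalkMap (l y')).hom
    (l.stalkMap y').hom h2 h1

end Groth.Agent.S1163
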