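import Groth.Statements.S19602
import Groth.Agent.Lib.InvRey_helper9

set_option autoImplicit false
universe u
open GIT

open Groth.Agent.Lib.LinRed_helper9 Groth.Agent.Lib.Integral_helper9 Groth.Agent.Lib.InvRey_helper9 Groth.Agent.Lib.Comod_helper9
open TensorProduct
namespace Groth.Agent.S19602

/-- Let k be an algebraically closed field, G = Spec A a linearly reductive affine algebraic group over
k, and U = Spec R an affine k-scheme of finite type on which G acts. Two k-points x₁, x₂ of U have
the same image in U//G = Spec R^G if and only if the closures of their orbits have a common k-point.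
Stated in coaction form. The published statement allows any affine U and asks only that the two
orbit closures meet; this row assumes U of finite type over k and asks for a common k-point, which
is then equivalent. -/
theorem result (k : Type u) [Field k] [IsAlgClosed k]
    (A : Type u) [CommRing A] [HopfAlgebra k A] [Algebra.FiniteType k A] (hG : HopfRep.IsLinearlyReductive k A)
    (R : Type u) [CommRing R] [Algebra k R] [Algebra.FiniteType k R] [HopfRep.Comod k A R] [GLin.IsCoactAlg k A R]
    (x₁ x₂ : R →ₐ[k] k) :
    x₁.comp (GLin.invariants k A R).val = x₂.comp (GLin.invariants k A R).val ↔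
      ∃ z : R →ₐ[k] k, GLin.InOrbitClosure k A x₁ z ∧ GLin.InOrbitClosure k A x₂ z := by
  constructor
  · intro h
    by_contra hno
    obtain ⟨β, hβ, h1⟩ := exists_leftIntegral k A hG
    have htop : RingHom.ker (GLin.orbitHom k A x₁) ⊔ RingHom.ker (GLin.orbitHom k A x₂) = ⊤ := by
      by_contra hne
      obtain ⟨z, hz⟩ := exists_algHom_ker_ge k R _ hne
      exact hno ⟨z, le_trans le_sup_left hz, le_trans le_sup_right hz⟩
    have h1mem : (1 : R) ∈ RingHom.ker (GLin.orbitHom k A x₁) ⊔ RingHom.ker (GLin.orbitHom k A x₂) := by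
      rw [htop]; trivial
    obtain ⟨a₁, ha₁, a₂, ha₂, hsum⟩ := Submodule.mem_sup.mp h1mem
    have hf1 : rey k A β R a₁ ∈ RingHom.ker (GLin.orbitHom k A x₁) :=
      rey_mem_of_isSubcomod k A β R _ (isSubcomod_ker_orbitHom k A R x₁) a₁ ha₁
    have hf2 : rey k A β R a₂ ∈ RingHom.ker (GLin.orbitHom k A x₂) :=
      rey_mem_of_isSubcomod k A β R _ (isSubcomod_ker_orbitHom k A R x₂) a₂ ha₂
    have hsum' : rey k A β R a₁ + rey k A β R a₂ = 1 := by
      rw [← map_add, hsum, rey_of_mem_fixedPts k A β R h1 1 (one_mem_fixedPts k A R)]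
    have hx1 : x₁ (rey k A β R a₁) = 0 := by
      rw [← counit_orbitHom k A R x₁, (RingHom.mem_ker).mp hf1, map_zero]
    have hx2 : x₂ (rey k A β R a₂) = 0 := by
      rw [← counit_orbitHom k A R x₂, (RingHom.mem_ker).mp hf2, map_zero]
    have hinv : rey k A β R a₁ ∈ GLin.invariants k A R := rey_mem_fixedPts k A β R hβ a₁
    have heq : x₁ (rey k A β R a₁) = x₂ (rey k A β R a₁) :=
      AlgHom.congr_fun h ⟨rey k A β R a₁, hinv⟩
    have h3 : x₂ (rey k A β R a₁) = 1 := by
      have := congrArg x₂ hsum'
      rw [map_add, hx2, add_zero, map_one] at this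
      exact this
    rw [hx1, h3] at heq
    exact zero_ne_one heq
  · rintro ⟨z, hz1, hz2⟩
    apply AlgHom.ext
    rintro ⟨f, hf⟩
    show x₁ f = x₂ f
    rw [← apply_eq_of_inOrbitClosure k A R x₁ z hz1 f hf,
      ← apply_eq_of_inOrbitClosure k A R x₂ z hz2 f hf]

end Groth.Agent.S19602
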