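import Groth.Statements.S1183
import Groth.Agent.Lib.FlatRk_helper9
import Groth.Agent.Lib.GeomNormal_helper3
import Groth.Agent.Lib.SmoothRegHom_helper3
import Groth.Agent.Lib.SerreNormal_helper5
import Groth.Agent.Lib.RkDescent_helper5
import Groth.Agent.Lib.FlatPS3_helper3

set_option autoImplicit false
universe u
open Desc

namespace Groth.Agent.S1183

/-- Let A → B be a smooth ring map of Noetherian rings and k a natural number. If A satisfies (R_k) then
so does B; and if moreover A → B is faithfully flat and B satisfies (R_k), then A does. -/
theorem result (A B : Type u) [CommRing A] [CommRing B] [IsNoetherianRing A] [IsNoetherianRing B]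
    [Algebra A B] [Algebra.Smooth A B] (k : ℕ) :
    (LocCoh.HasRk k A → LocCoh.HasRk k B) ∧
    (Module.FaithfullyFlat A B → LocCoh.HasRk k B → LocCoh.HasRk k A) := by
  haveI hflat : Module.Flat A B := inferInstance
  refine ⟨?_, ?_⟩
  · intro hA Q hQ hht
    have hfibReg : ∀ (q : Ideal B) [q.IsPrime], IsRegularLocalRing (EGA4.FibLocRing A B q) := by
      intro q _
      haveI : Algebra.Smooth (q.under A).ResidueField ((q.under A).Fiber B) :=
        inferInstanceAs (Algebra.Smooth (q.under A).ResidueField
          (TensorProduct A (q.under A).ResidueField B))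
      haveI := Groth.Agent.Lib.SmoothRegHomH3.isRegularRing_of_smooth_field
        (q.under A).ResidueField ((q.under A).Fiber B)
      exact Groth.Agent.Lib.GeomNormalH3.isRegularLocalRing_fibLocRing A B q
    have hfib : ∀ (q : Ideal B) [q.IsPrime], LocCoh.HasRk k (EGA4.FibLocRing A B q) := by
      intro q _ P _ _
      haveI := hfibReg q
      haveI := Groth.Agent.Lib.FlatPSH3.isRegularRing_of_isRegularLocalRing
        (EGA4.FibLocRing A B q)
      exact IsRegularRing.isRegularLocalRing_localization P
    have hA' : EGA4.HasRkAt k A (Q.comap (algebraMap A B)) :=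
      Groth.Agent.SerreLib.hasRk_localization A _ k hA
    have h1 : EGA4.HasRkAt k B Q := Groth.Agent.FlatCM.hasRkAt_of_flat A B k hfib Q hA'
    have hdim : ringKrullDim (Localization.AtPrime Q) ≤ k := by
      rw [IsLocalization.AtPrime.ringKrullDim_eq_height Q (Localization.AtPrime Q)]
      exact_mod_cast hht
    exact Groth.Agent.FlatCM.isRegularLocalRing_of_hasRk_of_dim_le k (Localization.AtPrime Q) h1 hdim
  · intro hff hB P hP hht
    obtain ⟨Q, hQ, hQP⟩ := Ideal.exists_isPrime_liesOver_of_faithfullyFlat (B := B) P
    letI := Localization.AtPrime.algebraOfLiesOver P Q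
    haveI : IsLocalHom (algebraMap (Localization.AtPrime P) (Localization.AtPrime Q)) :=
      Localization.isLocalHom_localRingHom _ _ _ _
    haveI : Module.Flat A (Localization.AtPrime Q) := Module.Flat.trans A B (Localization.AtPrime Q)
    haveI : Module.Flat (Localization.AtPrime P) (Localization.AtPrime Q) := by
      rw [Module.flat_iff_of_isLocalization (Localization.AtPrime P) P.primeCompl]
      infer_instance
    haveI : IsNoetherianRing (Localization.AtPrime P) :=
      IsLocalization.isNoetherianRing P.primeCompl _ inferInstance
    haveI : IsNoetherianRing (Localization.AtPrime Q) :=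
      IsLocalization.isNoetherianRing Q.primeCompl _ inferInstance
    have h1 : LocCoh.HasRk k (Localization.AtPrime Q) :=
      Groth.Agent.SerreLib.hasRk_localization B Q k hB
    have h2 : LocCoh.HasRk k (Localization.AtPrime P) :=
      Groth.Agent.RkDescent.hasRk_of_flat_local k (Localization.AtPrime P) (Localization.AtPrime Q) h1
    have hdim : ringKrullDim (Localization.AtPrime P) ≤ k := by
      rw [IsLocalization.AtPrime.ringKrullDim_eq_height P (Localization.AtPrime P)]
      exact_mod_cast hht
    exact Groth.Agent.FlatCM.isRegularLocalRing_of_hasRk_of_dim_le k (Localization.AtPrime P) h2 hdim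

end Groth.Agent.S1183
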