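import Groth.Statements.S1185
import Mathlib
import Groth.Agent.Lib.PurExt3_helper5

set_option autoImplicit false
universe u
open Pi1

namespace Groth.Agent.S1185

open AlgebraicGeometry CategoryTheory CategoryTheory.Limits in
/-- Finiteness of the sections and the extension criterion; the normality of the sections and the
equivalence of categories are not asserted: Let A be a normal Noetherian local domain of Krull
dimension at least 2 with punctured spectrum U, and V a finite etale cover of U. Then the ring of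
global sections of V is finite over A (through the map induced by V ⟶ U ⟶ Spec A), and V is the
restriction of a finite etale cover of Spec A if and only if that ring is etale over A. -/
theorem result (A : Type u) [CommRing A] [IsDomain A] [IsNoetherianRing A]
    [IsLocalRing A] [IsIntegrallyClosed A] (hdim : (2 : WithBot ℕ∞) ≤ ringKrullDim A)
    (V : FEt.Cat (FEt.puncturedSpec A : Scheme.{u})) :
    (((V.hom ≫ (FEt.puncturedSpec A).ι).appTop).hom.comp (Scheme.ΓSpecIso (CommRingCat.of A)).inv.hom).Finite ∧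
    ((∃ Y : FEt.Cat (Spec (CommRingCat.of A)), Nonempty ((FEt.restrict (FEt.puncturedSpec A).ι).obj Y ≅ V)) ↔
      (((V.hom ≫ (FEt.puncturedSpec A).ι).appTop).hom.comp (Scheme.ΓSpecIso (CommRingCat.of A)).inv.hom).Etale) := by
  -- depth of A
  have hd : (2 : ℕ∞) ≤ LocCoh.depth A A := by
    have h1 := Groth.Agent.SerreLib.min_two_dim_le_depth A
    rw [min_eq_left hdim] at h1
    have h2 : ((2 : ℕ∞) : WithBot ℕ∞) ≤ ((LocCoh.depth A A : ℕ∞) : WithBot ℕ∞) := h1
    exact WithBot.coe_le_coe.mp h2
  have hU := Groth.Agent.Lib.PurExt.depth_hyp_punctured A hd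
  let π₀ : V.left ⟶ (FEt.puncturedSpec A : Scheme.{u}) := V.hom
  haveI : IsFinite π₀ := V.prop.1
  haveI : Etale π₀ := V.prop.2
  have hι : ∀ W : (Spec (CommRingCat.of A)).Opens, IsAffineOpen W →
      Function.Surjective ((FEt.puncturedSpec A).ι.app W).hom := by
    intro W _
    haveI := Groth.Agent.Lib.PurDesc.isIso_app_of_depth (FEt.puncturedSpec A).ι hU W
    exact ((ConcreteCategory.isIso_iff_bijective ((FEt.puncturedSpec A).ι.app W)).mp
      inferInstance).2
  have hfin := Groth.Agent.Lib.PurExt.isFinite_π (FEt.puncturedSpec A).ι π₀ hι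
  have hbij : Function.Bijective (Scheme.ΓSpecIso (CommRingCat.of A)).inv.hom :=
    (ConcreteCategory.isIso_iff_bijective (Scheme.ΓSpecIso (CommRingCat.of A)).inv).mp
      inferInstance
  have hbij' : Function.Bijective (Scheme.ΓSpecIso (CommRingCat.of A)).hom.hom :=
    (ConcreteCategory.isIso_iff_bijective (Scheme.ΓSpecIso (CommRingCat.of A)).hom).mp
      inferInstance
  have hfinTop : ((π₀ ≫ (FEt.puncturedSpec A).ι).appTop).hom.Finite :=
    Groth.Agent.Lib.PurExt.finite_app (FEt.puncturedSpec A).ι π₀ ⊤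
      (isAffineOpen_top _) (hι ⊤ (isAffineOpen_top _))
  refine ⟨RingHom.Finite.comp hfinTop (RingHom.Finite.of_surjective _ hbij.2), ?_, ?_⟩
  · rintro ⟨Y, ⟨θ⟩⟩
    haveI : IsFinite Y.hom := Y.prop.1
    haveI : Etale Y.hom := Y.prop.2
    let θl : pullback Y.hom (FEt.puncturedSpec A).ι ≅ V.left :=
      (MorphismProperty.Over.forget _ _ _ ⋙ CategoryTheory.Over.forget _).mapIso θ
    have hθl : θl.hom ≫ π₀ = pullback.snd Y.hom (FEt.puncturedSpec A).ι :=
      MorphismProperty.Over.w θ.hom
    have h1 := Groth.Agent.Lib.PurExt.etale_appTop_of_extension (FEt.puncturedSpec A).ι π₀ hU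
      Y.hom θl hθl
    exact RingHom.Etale.stableUnderComposition _ _ (RingHom.Etale.of_bijective hbij) h1
  · intro het
    have h1 : ((π₀ ≫ (FEt.puncturedSpec A).ι).appTop).hom.Etale := by
      have h2 := RingHom.Etale.stableUnderComposition _ _
        (RingHom.Etale.of_bijective hbij') het
      have h3 : (((V.hom ≫ (FEt.puncturedSpec A).ι).appTop).hom.comp
          (Scheme.ΓSpecIso (CommRingCat.of A)).inv.hom).comp
          (Scheme.ΓSpecIso (CommRingCat.of A)).hom.hom =
          ((π₀ ≫ (FEt.puncturedSpec A).ι).appTop).hom := by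
        rw [RingHom.comp_assoc, ← CommRingCat.hom_comp, Iso.hom_inv_id]
        rfl
      rwa [h3] at h2
    have het' := Groth.Agent.Lib.PurExt.etale_π_of_etale_appTop (FEt.puncturedSpec A).ι π₀ h1
    obtain ⟨k, Hk⟩ := Groth.Agent.Lib.PurExt.exists_isPullback_ext (FEt.puncturedSpec A).ι π₀
    refine ⟨MorphismProperty.Over.mk ⊤
      (Groth.Agent.Lib.PurExt.extAlg (FEt.puncturedSpec A).ι π₀).π ⟨hfin, het'⟩, ⟨?_⟩⟩
    refine MorphismProperty.Over.isoMk Hk.isoPullback.symm ?_
    exact Hk.isoPullback_inv_snd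

end Groth.Agent.S1185
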