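import Groth.Statements.S1186
import Mathlib
import Groth.Agent.Lib.FEtPinchPB_helper5

set_option autoImplicit false
universe u
open Pi1

namespace Groth.Agent.S1186

open AlgebraicGeometry CategoryTheory CategoryTheory.Limits in
/-- Let i : Z ⟶ X be a closed immersion and j : Z ⟶ Y an integral morphism such that every fibre of j
lies in the preimage under i of some affine open of X, and let a : X ⟶ W, b : Y ⟶ W exhibit W as the
pushout of i and j in the category of schemes. If U is finite étale over X and V is finite étale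
over Y with U ×_X Z ≅ V ×_Y Z over Z, then there is a finite étale cover T of W whose restrictions
to X and to Y are isomorphic to U and to V respectively. (This is the essential-surjectivity part of
an equivalence between finite étale covers of W and the 2-fibre product of the categories of finite
étale covers of X and of Y over that of Z; only the gluing of objects is asserted, and the
compatibility of the two identifications over Z is not asserted.) -/
theorem result {Z X Y W : Scheme.{u}} (i : Z ⟶ X) [IsClosedImmersion i] (j : Z ⟶ Y) [IsIntegralHom j]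
    (h3 : ∀ y : Y, ∃ U : X.Opens, IsAffineOpen U ∧ ∀ z : Z, j.base z = y → i.base z ∈ U)
    (a : X ⟶ W) (b : Y ⟶ W) (hpo : IsPushout i j a b)
    (U : FEt.Cat X) (V : FEt.Cat Y) (e : (FEt.restrict i).obj U ≅ (FEt.restrict j).obj V) :
    ∃ T : FEt.Cat W, Nonempty ((FEt.restrict a).obj T ≅ U) ∧ Nonempty ((FEt.restrict b).obj T ≅ V) := by
  have haff : ∀ y : Y, ∃ U₀ : X.Opens, IsAffineOpen U₀ ∧ j ⁻¹' {y} ⊆ (i ⁻¹ᵁ U₀ : Set ↑Z) := by
    intro y
    obtain ⟨U₀, hU₀, h⟩ := h3 y
    exact ⟨U₀, hU₀, fun z hz => h z hz⟩
  haveI : IsFinite U.hom := U.prop.1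
  haveI : Etale U.hom := U.prop.2
  haveI : IsFinite V.hom := V.prop.1
  haveI : Etale V.hom := V.prop.2
  have hX : IsPullback (pullback.fst U.hom i) (pullback.snd U.hom i) U.hom i :=
    IsPullback.of_hasPullback _ _
  have hY0 : IsPullback (pullback.fst V.hom j) (pullback.snd V.hom j) V.hom j :=
    IsPullback.of_hasPullback _ _
  obtain ⟨ε, hε⟩ : ∃ ε : pullback U.hom i ⟶ pullback V.hom j, ε = e.hom.left := ⟨_, rfl⟩
  have hw : ε ≫ pullback.snd V.hom j = pullback.snd U.hom i := by
    rw [hε]
    exact Over.w e.hom.hom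
  haveI : IsIso ε := by
    rw [hε]
    exact (inferInstance : IsIso ((MorphismProperty.Over.forget _ _ _ ⋙ Over.forget _).map e.hom))
  have hY : IsPullback (ε ≫ pullback.fst V.hom j) (pullback.snd U.hom i) V.hom j := by
    refine IsPullback.of_iso_pullback ⟨?_⟩ (asIso ε) ?_ ?_
    · rw [Category.assoc, pullback.condition, ← Category.assoc, hw]
    · rfl
    · exact hw
  obtain ⟨T, k, a₁, b₁, hfin, het, pbX, pbY⟩ := Groth.Agent.FEtPinch.exists_glue i j haff a b hpo
    U.hom V.hom (pullback.fst U.hom i) (ε ≫ pullback.fst V.hom j) (pullback.snd U.hom i) hX hY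
  refine ⟨MorphismProperty.Over.mk ⊤ k ⟨hfin, het⟩, ⟨?_⟩, ⟨?_⟩⟩
  · refine MorphismProperty.Over.isoMk pbX.isoPullback.symm ?_
    exact pbX.isoPullback_inv_snd
  · refine MorphismProperty.Over.isoMk pbY.isoPullback.symm ?_
    exact pbY.isoPullback_inv_snd

end Groth.Agent.S1186
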