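import Groth.Statements.S1197
import Groth.Agent.Lib.ComplFreeFlat_helper3
import Groth.Agent.Lib.ComplFreeUI_helper3
import Groth.Agent.Lib.MLMore_lead
import Groth.Agent.Lib.MittagLeffler_lead
-- import your own Groth.Agent.* helpers here

set_option autoImplicit false
universe u
open FlatMor
open Groth.Agent.Lib

namespace Groth.Agent.S1197

/-- Over a Noetherian ring R which is I-adically complete, the I-adic completion of a free module on an
arbitrary index set is a flat and Mittag-Leffler R-module. (Flatness alone, without completeness of
R, is stated separately.) -/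
theorem result (R : Type u) [CommRing R] [IsNoetherianRing R] (I : Ideal R) [IsAdicComplete I R] (α : Type u) :
    Module.Flat R (AdicCompletion I (α →₀ R)) ∧ CAlg.IsMittagLeffler R (AdicCompletion I (α →₀ R)) := by
  refine ⟨ComplFreeFlatH3.flat_adicCompletion_finsupp I α, ?_⟩
  have hpi : CAlg.IsMittagLeffler R (α → R) := MLMore_lead.isMittagLeffler_pi α
  have hpi' : CAlg.IsMittagLeffler R (α → AdicCompletion I R) :=
    MittagLeffler_lead.of_linearEquiv
      (LinearEquiv.piCongrRight fun _ : α => (AdicCompletion.ofLinearEquiv I R).symm) hpi
  exact Groth.Agent.S6338.result R _ (ComplFreeUIH3.universallyInjective I α) hpi'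

end Groth.Agent.S1197
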