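import Groth.Statements.S1198
import Groth.Agent.Lib.ComplFlatSplit_helper3
import Groth.Agent.S1197
import Groth.Agent.Lib.MittagLeffler_lead
-- import your own Groth.Agent.* helpers here

set_option autoImplicit false
universe u
open FlatMor
open Groth.Agent.Lib

namespace Groth.Agent.S1198

/-- Let R be a Noetherian ring complete with respect to an ideal I and M a flat R-module whose reduction
M/IM is projective over R/I. Then M's I-adic completion is a flat and Mittag-Leffler R-module. -/
theorem result (R : Type u) [CommRing R] [IsNoetherianRing R] (I : Ideal R) [IsAdicComplete I R]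
    (M : Type u) [AddCommGroup M] [Module R M] [Module.Flat R M]
    [Module.Projective (R ⧸ I) (M ⧸ (I • ⊤ : Submodule R M))] :
    Module.Flat R (AdicCompletion I M) ∧ CAlg.IsMittagLeffler R (AdicCompletion I M) := by
  obtain ⟨hflat, hML⟩ := Groth.Agent.S1197.result R I M
  obtain ⟨q, s, hs⟩ := ComplFlatSplitH3.exists_free_section I M
  let i : AdicCompletion I M →ₗ[R] AdicCompletion I (M →₀ R) := s.restrictScalars R
  let r : AdicCompletion I (M →₀ R) →ₗ[R] AdicCompletion I M :=
    (AdicCompletion.map I q).restrictScalars R
  have h : r ∘ₗ i = LinearMap.id := LinearMap.ext fun x => LinearMap.congr_fun hs x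
  exact ⟨Module.Flat.of_retract i r h, MittagLeffler_lead.of_split i r h hML⟩

end Groth.Agent.S1198
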