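import Groth.Statements.S1203
import Mathlib
import Groth.Agent.Lib.FlatProj_helper5
import Groth.Agent.Lib.CountableProj_helper3
import Groth.Agent.S1198
import Groth.Agent.S1200

set_option autoImplicit false
universe u
open FlatMor

namespace Groth.Agent.S1203

/-- Let R be a Noetherian ring complete with respect to an ideal I, S a finite type R-algebra and N a
finite S-module which is flat over R, such that N/IN is a projective R/I-module and such that for
every prime q of S, over p in R, whose extension to the fibre ring over p is an associated prime of
the fibre module of N, the ideal IS + q is proper. Then N is a projective R-module. -/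
theorem result {R S : Type u} [CommRing R] [CommRing S] [Algebra R S] [IsNoetherianRing R] (I : Ideal R) [IsAdicComplete I R]
    [Algebra.FiniteType R S]
    (N : Type u) [AddCommGroup N] [Module S N] [Module R N] [IsScalarTower R S N] [Module.Finite S N] [Module.Flat R N]
    [Module.Projective (R ⧸ I) (N ⧸ (I • ⊤ : Submodule R N))]
    (h : ∀ (p : Ideal R) (q : Ideal S) [p.IsPrime] [q.IsPrime] [q.LiesOver p],
      FlatCA.fiberIdeal p q ∈ associatedPrimes (p.Fiber S) (FlatCA.fiberMod p S N) → I.map (algebraMap R S) ⊔ q ≠ ⊤) :
    Module.Projective R N := by
  haveI : IsNoetherianRing S := Algebra.FiniteType.isNoetherianRing R S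
  have hUI := Groth.Agent.S1200.result I N h
  obtain ⟨hflat, hML⟩ := Groth.Agent.S1198.result R I N
  have hMLN := Groth.Agent.Lib.FlatProjH5.isMittagLeffler_of_univInj (AdicCompletion.of I N) hUI hML
  have hc := Groth.Agent.Lib.FlatProjH5.isCountablyGenerated_of_finite
    (Groth.Agent.Lib.FlatProjH5.isCountablyGenerated_of_finiteType (R := R) (S := S)) N
  exact Groth.Agent.Lib.CountableProjH3.projective_of_flat_of_isMittagLeffler_of_isCountablyGenerated
    hMLN hc

end Groth.Agent.S1203
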