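import Groth.Statements.S1206
import Mathlib.RingTheory.Finiteness.Basic
import Mathlib.Order.Zorn
import Mathlib.RingTheory.LocalRing.MaximalIdeal.Basic
import Mathlib.RingTheory.Ideal.Operations
import Mathlib.Tactic.Ring

set_option autoImplicit false
universe u
open FlatMor

namespace Groth.Agent.S1206

/-- Let A be a local domain which is not a field and 𝒮 a set of finitely generated ideals of A, closed
under products, such that the union of the closed sets V(I), I ∈ 𝒮, is exactly the set of nonzero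
primes (every nonzero prime contains a member of 𝒮 and no member is zero). Then the intersection of
all members of 𝒮 is zero. -/
theorem result (A : Type u) [CommRing A] [IsDomain A] [IsLocalRing A] (hA : ¬ IsField A)
    (𝒮 : Set (Ideal A)) (hfg : ∀ I ∈ 𝒮, I.FG) (hmul : ∀ I ∈ 𝒮, ∀ J ∈ 𝒮, I * J ∈ 𝒮)
    (hne : ∀ I ∈ 𝒮, I ≠ ⊥) (hcov : ∀ (p : Ideal A), p.IsPrime → p ≠ ⊥ → ∃ I ∈ 𝒮, I ≤ p) :
    sInf 𝒮 = ⊥ := by
  classical
  rw [eq_bot_iff]
  intro f hf
  rw [Ideal.mem_bot]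
  by_contra hf0
  have hfI : ∀ I ∈ 𝒮, f ∈ I := fun I hI => (Ideal.mem_sInf.mp hf) hI
  have hm_ne : IsLocalRing.maximalIdeal A ≠ ⊥ := fun h =>
    hA (IsLocalRing.isField_iff_maximalIdeal_eq.mpr h)
  obtain ⟨I₀, hI₀, hI₀m⟩ := hcov (IsLocalRing.maximalIdeal A) inferInstance hm_ne
  -- Step 1: some member lies in `span {f}`
  have step1 : ∃ I ∈ 𝒮, I ≤ Ideal.span {f} := by
    by_contra hno
    push Not at hno
    obtain ⟨Z, hZdef⟩ : ∃ Z : Set (Ideal A),
        ∀ J, J ∈ Z ↔ (Ideal.span {f} ≤ J ∧ ∀ I ∈ 𝒮, ¬ I ≤ J) :=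
      ⟨{J | Ideal.span {f} ≤ J ∧ ∀ I ∈ 𝒮, ¬ I ≤ J}, fun J => Iff.rfl⟩
    have hZ0 : Ideal.span {f} ∈ Z := (hZdef _).mpr ⟨le_rfl, hno⟩
    have hchain : ∀ c ⊆ Z, IsChain (· ≤ ·) c → ∀ y ∈ c, ∃ ub ∈ Z, ∀ z ∈ c, z ≤ ub := by
      intro c hcZ hc y hy
      refine ⟨sSup c, (hZdef _).mpr ⟨?_, ?_⟩, fun z hz => le_sSup hz⟩
      · exact le_trans ((hZdef _).mp (hcZ hy)).1 (le_sSup hy)
      · intro I hI hle
        have hcomp : IsCompactElement I := (Submodule.fg_iff_compact I).mp (hfg I hI)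
        obtain ⟨J, hJc, hIJ⟩ :=
          (CompleteLattice.isCompactElement_iff_le_of_directed_sSup_le _ I).mp hcomp c ⟨y, hy⟩
            hc.directedOn hle
        exact ((hZdef _).mp (hcZ hJc)).2 I hI hIJ
    obtain ⟨P, hfP, hPmax⟩ := zorn_le_nonempty₀ Z hchain (Ideal.span {f}) hZ0
    have hPZ : P ∈ Z := hPmax.prop
    have hPno : ∀ I ∈ 𝒮, ¬ I ≤ P := ((hZdef _).mp hPZ).2
    have hPtop : P ≠ ⊤ := by
      intro h
      exact hPno I₀ hI₀ (h ▸ le_top)
    have hsup : ∀ x, x ∉ P → ∃ I ∈ 𝒮, I ≤ P ⊔ Ideal.span {x} := by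
      intro x hx
      by_contra hcon
      push Not at hcon
      have hmemZ : P ⊔ Ideal.span {x} ∈ Z :=
        (hZdef _).mpr ⟨le_trans hfP le_sup_left, hcon⟩
      have hle : P ⊔ Ideal.span {x} ≤ P := hPmax.le_of_ge hmemZ le_sup_left
      exact hx (hle (Ideal.mem_sup_right (Ideal.subset_span rfl)))
    have hPprime : P.IsPrime := by
      refine ⟨hPtop, ?_⟩
      intro x y hxy
      by_contra hcon
      push Not at hcon
      obtain ⟨I₁, hI₁, hI₁le⟩ := hsup x hcon.1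
      obtain ⟨I₂, hI₂, hI₂le⟩ := hsup y hcon.2
      apply hPno (I₁ * I₂) (hmul I₁ hI₁ I₂ hI₂)
      refine le_trans (Ideal.mul_mono hI₁le hI₂le) ?_
      rw [Ideal.mul_le]
      intro r hr s hs
      obtain ⟨p₁, hp₁, u, hu, rfl⟩ := Submodule.mem_sup.mp hr
      obtain ⟨p₂, hp₂, v, hv, rfl⟩ := Submodule.mem_sup.mp hs
      obtain ⟨a, rfl⟩ := Ideal.mem_span_singleton'.mp hu
      obtain ⟨b, rfl⟩ := Ideal.mem_span_singleton'.mp hv
      have e : (p₁ + a * x) * (p₂ + b * y) = p₁ * (p₂ + b * y) + (a * x) * p₂ + (a * b) * (x * y) := by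
        ring
      rw [e]
      exact P.add_mem (P.add_mem (P.mul_mem_right _ hp₁) (P.mul_mem_left _ hp₂))
        (P.mul_mem_left _ hxy)
    have hPne : P ≠ ⊥ := by
      intro h
      have : f ∈ P := hfP (Ideal.subset_span rfl)
      rw [h, Ideal.mem_bot] at this
      exact hf0 this
    obtain ⟨I, hI, hIP⟩ := hcov P hPprime hPne
    exact hPno I hI hIP
  -- Step 2
  obtain ⟨I, hI, hIf⟩ := step1
  have h1 : f ∈ I * Ideal.span {f} :=
    Ideal.mul_mono le_rfl hIf (hfI (I * I) (hmul I hI I hI))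
  obtain ⟨i, hiI, hif⟩ := Ideal.mem_mul_span_singleton.mp h1
  have hi1 : i = 1 := by
    have h2 : (i - 1) * f = 0 := by rw [sub_mul, hif, one_mul, sub_self]
    rcases mul_eq_zero.mp h2 with h | h
    · exact sub_eq_zero.mp h
    · exact absurd h hf0
  have hItop : (1 : A) ∈ Ideal.span {f} := hIf (hi1 ▸ hiI)
  have hfunit : IsUnit f := Ideal.span_singleton_eq_top.mp ((Ideal.eq_top_iff_one _).mpr hItop)
  have hfm : f ∈ IsLocalRing.maximalIdeal A := hI₀m (hfI I₀ hI₀)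
  exact (IsLocalRing.mem_maximalIdeal f).mp hfm hfunit

end Groth.Agent.S1206
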