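import Groth.Statements.S1207
import Groth.Agent.S1206
import Mathlib.RingTheory.Ideal.Maps
import Mathlib.RingTheory.Finiteness.Ideal
import Mathlib.RingTheory.Ideal.Quotient.Operations

set_option autoImplicit false
universe u
open FlatMor

namespace Groth.Agent.S1207

/-- Let A be a local ring and I, J ideals of A with J finitely generated, J ≠ A, and I ⊆ J^n for all n ≥
1. Then every prime p not containing J which is maximal among the primes not containing J (a closed
point of Spec A ∖ V(J)) contains I. (The published statement leaves the hypothesis J ≠ A implicit;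
for J = A the assertion fails.) -/
theorem result (A : Type u) [CommRing A] [IsLocalRing A] (I J : Ideal A) (hJ : J.FG) (hJ1 : J ≠ ⊤)
    (hI : ∀ n : ℕ, 1 ≤ n → I ≤ J ^ n) (p : Ideal A) [p.IsPrime] (hp : ¬ J ≤ p)
    (hmax : ∀ (p' : Ideal A), p'.IsPrime → p ≤ p' → ¬ J ≤ p' → p' = p) : I ≤ p := by
  classical
  haveI : IsDomain (A ⧸ p) := Ideal.Quotient.isDomain p
  haveI : IsLocalRing (A ⧸ p) :=
    IsLocalRing.of_surjective' (Ideal.Quotient.mk p) Ideal.Quotient.mk_surjective
  obtain ⟨Jb, hJb⟩ : ∃ Jb : Ideal (A ⧸ p), Jb = J.map (Ideal.Quotient.mk p) := ⟨_, rfl⟩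
  have hJb_ne : Jb ≠ ⊥ := by
    intro h
    apply hp
    rw [hJb, Ideal.map_eq_bot_iff_le_ker, Ideal.mk_ker] at h
    exact h
  have hJb_top : Jb ≠ ⊤ := by
    intro h
    have hJm : J ≤ IsLocalRing.maximalIdeal A := IsLocalRing.le_maximalIdeal hJ1
    have hpm : p ≤ IsLocalRing.maximalIdeal A :=
      IsLocalRing.le_maximalIdeal (Ideal.IsPrime.ne_top inferInstance)
    have h2 : J ⊔ p = ⊤ := by
      have h3 := congrArg (Ideal.comap (Ideal.Quotient.mk p)) h
      rw [hJb, Ideal.comap_map_of_surjective _ Ideal.Quotient.mk_surjective, Ideal.comap_top,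
        ← RingHom.ker_eq_comap_bot, Ideal.mk_ker] at h3
      exact h3
    have h1 : (⊤ : Ideal A) ≤ IsLocalRing.maximalIdeal A := h2 ▸ sup_le hJm hpm
    exact (IsLocalRing.maximalIdeal.isMaximal A).ne_top (top_le_iff.mp h1)
  have hnf : ¬ IsField (A ⧸ p) :=
    Ring.not_isField_iff_exists_ideal_bot_lt_and_lt_top.mpr
      ⟨Jb, bot_lt_iff_ne_bot.mpr hJb_ne, lt_top_iff_ne_top.mpr hJb_top⟩
  have hJbfg : Jb.FG := by
    rw [hJb]
    exact hJ.map _
  have key := Groth.Agent.S1206.result (A ⧸ p) hnf {K : Ideal (A ⧸ p) | ∃ n : ℕ, 1 ≤ n ∧ K = Jb ^ n}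
    (by
      rintro K ⟨n, -, rfl⟩
      exact hJbfg.pow)
    (by
      rintro K ⟨n, hn, rfl⟩ K' ⟨m, hm, rfl⟩
      exact ⟨n + m, by omega, (pow_add Jb n m).symm⟩)
    (by
      rintro K ⟨n, -, rfl⟩
      rw [← Ideal.zero_eq_bot]
      exact pow_ne_zero n (by rw [Ideal.zero_eq_bot]; exact hJb_ne))
    (by
      intro q hq hq0
      refine ⟨Jb, ⟨1, le_rfl, (pow_one Jb).symm⟩, ?_⟩
      have hq' : (q.comap (Ideal.Quotient.mk p)).IsPrime := Ideal.comap_isPrime _ q
      have hpq : p ≤ q.comap (Ideal.Quotient.mk p) := by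
        intro x hx
        rw [Ideal.mem_comap, Ideal.Quotient.eq_zero_iff_mem.mpr hx]
        exact q.zero_mem
      have hJq : J ≤ q.comap (Ideal.Quotient.mk p) := by
        by_contra hJq
        have h1 := hmax _ hq' hpq hJq
        apply hq0
        have h2 := Ideal.map_comap_of_surjective (Ideal.Quotient.mk p) Ideal.Quotient.mk_surjective q
        rw [h1, Ideal.map_quotient_self] at h2
        exact h2.symm
      rw [hJb]
      calc J.map (Ideal.Quotient.mk p) ≤ (q.comap (Ideal.Quotient.mk p)).map (Ideal.Quotient.mk p) :=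
            Ideal.map_mono hJq
        _ = q := Ideal.map_comap_of_surjective (Ideal.Quotient.mk p) Ideal.Quotient.mk_surjective q)
  have hImap : I.map (Ideal.Quotient.mk p) ≤ ⊥ := by
    rw [← key]
    apply le_sInf
    rintro K ⟨n, hn, rfl⟩
    rw [hJb, ← Ideal.map_pow]
    exact Ideal.map_mono (hI n hn)
  have h3 : I.map (Ideal.Quotient.mk p) = ⊥ := le_bot_iff.mp hImap
  rw [Ideal.map_eq_bot_iff_le_ker, Ideal.mk_ker] at h3
  exact h3

end Groth.Agent.S1207
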