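import Groth.Statements.S12071
import Mathlib.GroupTheory.SpecificGroups.Cyclic
import Mathlib.Algebra.Group.Subgroup.Basic
import Mathlib.Tactic
-- import your own Groth.Agent.* helpers here

set_option autoImplicit false
open RootD

namespace Groth.Agent.S12071

/-- Let G be the group generated by two elements x, y subject to x² = y² = 1 (the infinite dihedral
group; here Mathlib's DihedralGroup 0 with x = sr 0 and y = sr 1, so that x y = r 1). Then every
normal subgroup of G containing neither x nor y is generated by an element (x y)^n with n > 0; such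
a subgroup is cyclic, generated by r n. (The published statement does not exclude the trivial
subgroup, for which no n > 0 works; this row assumes the subgroup nontrivial.) -/
theorem result (N : Subgroup (DihedralGroup 0)) [N.Normal]
    (hN : N ≠ ⊥) (hx : DihedralGroup.sr (0 : ZMod 0) ∉ N) (hy : DihedralGroup.sr (1 : ZMod 0) ∉ N) :
    ∃ n : ℕ, 0 < n ∧ N = Subgroup.zpowers (DihedralGroup.r (n : ZMod 0)) := by
  classical
  let c : ℤ → ZMod 0 := Int.cast
  have hc_surj : Function.Surjective c := ZMod.intCast_surjective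
  have hc_add : ∀ a b : ℤ, c (a + b) = c a + c b := fun a b => Int.cast_add a b
  have hc_neg : ∀ a : ℤ, c (-a) = -c a := fun a => Int.cast_neg a
  have hc_sub : ∀ a b : ℤ, c (a - b) = c a - c b := fun a b => Int.cast_sub a b
  have hc_mul : ∀ a b : ℤ, c (a * b) = c a * c b := fun a b => Int.cast_mul a b
  have hc_zero : c 0 = 0 := Int.cast_zero
  have hc_one : c 1 = 1 := Int.cast_one
  -- no reflection lies in `N`
  have hsr : ∀ i : ℤ, DihedralGroup.sr (c i) ∉ N := by
    intro i hi
    have conj : ∀ j : ℤ, DihedralGroup.sr (c (i - 2 * j)) ∈ N := by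
      intro j
      have h := Subgroup.Normal.conj_mem (inferInstance : N.Normal) _ hi
        (DihedralGroup.r (c j))
      rw [DihedralGroup.r_mul_sr, DihedralGroup.inv_r, DihedralGroup.sr_mul_r] at h
      have e : c i - c j + -c j = c (i - 2 * j) := by
        rw [← hc_neg, ← hc_sub, ← hc_add]
        congr 1
        ring
      rwa [e] at h
    rcases Int.even_or_odd' i with ⟨k, hk | hk⟩
    · have := conj k
      rw [hk] at this
      have e : (2 * k - 2 * k : ℤ) = 0 := by ring
      rw [e, hc_zero] at this
      exact hx this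
    · have := conj k
      rw [hk] at this
      have e : (2 * k + 1 - 2 * k : ℤ) = 1 := by ring
      rw [e, hc_one] at this
      exact hy this
  -- the additive subgroup of exponents
  let H : AddSubgroup ℤ :=
    { carrier := {i | DihedralGroup.r (c i) ∈ N}
      zero_mem' := by
        show DihedralGroup.r (c 0) ∈ N
        rw [hc_zero, DihedralGroup.r_zero]; exact N.one_mem
      add_mem' := by
        intro a b ha hb
        show DihedralGroup.r (c (a + b)) ∈ N
        have := N.mul_mem ha hb
        rwa [DihedralGroup.r_mul_r, ← hc_add] at this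
      neg_mem' := by
        intro a ha
        show DihedralGroup.r (c (-a)) ∈ N
        have := N.inv_mem ha
        rwa [DihedralGroup.inv_r, ← hc_neg] at this }
  have hH : ∀ i : ℤ, i ∈ H ↔ DihedralGroup.r (c i) ∈ N := fun i => Iff.rfl
  obtain ⟨a, ha⟩ := Int.subgroup_cyclic H
  have hmem : ∀ g : DihedralGroup 0, g ∈ N ↔ ∃ i : ℤ, i ∈ H ∧ g = DihedralGroup.r (c i) := by
    intro g
    constructor
    · intro hg
      cases g with
      | r x =>
        obtain ⟨i, rfl⟩ := hc_surj x
        exact ⟨i, hg, rfl⟩
      | sr x =>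
        obtain ⟨i, rfl⟩ := hc_surj x
        exact absurd hg (hsr i)
    · rintro ⟨i, hi, rfl⟩
      exact hi
  have ha0 : a ≠ 0 := by
    intro h0
    apply hN
    rw [Subgroup.eq_bot_iff_forall]
    intro g hg
    obtain ⟨i, hi, rfl⟩ := (hmem g).1 hg
    rw [ha, h0, AddSubgroup.mem_closure_singleton] at hi
    obtain ⟨k, hk⟩ := hi
    rw [smul_zero] at hk
    rw [← hk, hc_zero]
    exact DihedralGroup.r_zero
  have hkey : ∀ k : ℤ, (DihedralGroup.r ((a.natAbs : ℕ) : ZMod 0)) ^ k = DihedralGroup.r (c ((a.natAbs : ℤ) * k)) := by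
    intro k
    rw [DihedralGroup.r_zpow, hc_mul]
    congr 1
  refine ⟨a.natAbs, Int.natAbs_pos.2 ha0, ?_⟩
  ext g
  rw [hmem g, Subgroup.mem_zpowers_iff]
  constructor
  · rintro ⟨i, hi, rfl⟩
    rw [ha, AddSubgroup.mem_closure_singleton] at hi
    obtain ⟨k, hk⟩ := hi
    rcases Int.natAbs_eq a with h | h
    · refine ⟨k, ?_⟩
      rw [hkey, ← hk]
      congr 2
      rw [smul_eq_mul, ← h]; ring
    · refine ⟨-k, ?_⟩
      rw [hkey, ← hk]
      congr 2
      rw [smul_eq_mul]
      have : (a.natAbs : ℤ) = -a := by omega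
      rw [this]; ring
  · rintro ⟨k, rfl⟩
    rw [hkey]
    refine ⟨(a.natAbs : ℤ) * k, ?_, rfl⟩
    rw [ha, AddSubgroup.mem_closure_singleton]
    rcases Int.natAbs_eq a with h | h
    · exact ⟨k, by rw [smul_eq_mul, ← h]; ring⟩
    · refine ⟨-k, ?_⟩
      rw [smul_eq_mul]
      have : (a.natAbs : ℤ) = -a := by omega
      rw [this]; ring

end Groth.Agent.S12071
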