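import Groth.Statements.S12076
import Mathlib.LinearAlgebra.RootSystem.Base
import Mathlib.Algebra.Order.Group.PiLex

set_option autoImplicit false
open RootD

namespace Groth.Agent.S12076

/-- Let Δ be a system of simple roots (a base b of a root pairing P over ℤ) and Γ₀ the subgroup
generated by the roots. Then Γ₀ has a structure of totally ordered group for which the roots > 0 are
exactly the positive roots defined by Δ and for which the height (the additive function with value 1
on each simple root) is monotone. The order is given here by its positive cone C ⊆ Γ₀: 0 ∉ C, C + C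
⊆ C, and for every x ≠ 0 exactly one of x, −x lies in C (x < y meaning y − x ∈ C). -/
theorem result {ι M N : Type*} [AddCommGroup M] [AddCommGroup N]
    (P : RootPairing ι ℤ M N) [Finite ι] (b : P.Base) :
    ∃ C : Set ↥(Submodule.span ℤ (Set.range P.root)),
      0 ∉ C ∧ (∀ x ∈ C, ∀ y ∈ C, x + y ∈ C) ∧ (∀ x, x ≠ 0 → (x ∈ C ∨ -x ∈ C)) ∧ (∀ x ∈ C, -x ∉ C) ∧
      (∀ i : ι, (⟨P.root i, Submodule.subset_span (Set.mem_range_self i)⟩ : ↥(Submodule.span ℤ (Set.range P.root))) ∈ C ↔
        b.IsPos i) ∧
      ∀ φ : ↥(Submodule.span ℤ (Set.range P.root)) →+ ℤ,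
        (∀ j ∈ b.support, φ ⟨P.root j, Submodule.subset_span (Set.mem_range_self j)⟩ = 1) →
        ∀ x y : ↥(Submodule.span ℤ (Set.range P.root)), y - x ∈ C → φ x ≤ φ y := by
  classical
  set B := b.toWeightBasisInt with hB
  set n := Fintype.card b.support with hn
  let e : b.support ≃ Fin n := Fintype.equivFin _
  -- the height
  set ht : ↥(P.rootSpan ℤ) →ₗ[ℤ] ℤ := B.constr ℤ (fun _ => (1 : ℤ)) with hht
  have hroot : ∀ i : ι,
      ht ⟨P.root i, Submodule.subset_span (Set.mem_range_self i)⟩ = b.height i := by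
    intro i
    obtain ⟨f, -, -, hf⟩ := b.exists_root_eq_sum_int i
    have hx : (⟨P.root i, Submodule.subset_span (Set.mem_range_self i)⟩ : ↥(P.rootSpan ℤ)) =
        ∑ j : b.support, f j • B j := by
      apply Subtype.ext
      rw [Submodule.coe_sum]
      simp only [Submodule.coe_smul, hB, RootPairing.Base.coe_toWeightBasisInt_apply]
      rw [hf]
      exact (Finset.sum_coe_sort b.support (fun j => f j • P.root j)).symm
    rw [hx, map_sum, RootPairing.Base.height_eq_sum hf]
    rw [← Finset.sum_coe_sort b.support (fun j => f j)]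
    refine Finset.sum_congr rfl fun j _ => ?_
    rw [map_smul, hht, Module.Basis.constr_basis, smul_eq_mul, mul_one]
  -- the lexicographic embedding
  let ψ : ↥(P.rootSpan ℤ) → (Fin (n + 1) → ℤ) := fun x =>
    Fin.cons (ht x) (fun k => B.repr x (e.symm k))
  have hadd : ∀ x y, ψ (x + y) = ψ x + ψ y := by
    intro x y
    funext k
    refine Fin.cases ?_ (fun k => ?_) k
    · simp [ψ]
    · simp [ψ]
  let Ψ : ↥(P.rootSpan ℤ) →+ Lex (Fin (n + 1) → ℤ) :=
    AddMonoidHom.mk' (fun x => toLex (ψ x)) (fun x y => by rw [hadd]; rfl)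
  have hΨ0 : ∀ x, ofLex (Ψ x) 0 = ht x := fun x => rfl
  have hΨs : ∀ x (k : Fin n), ofLex (Ψ x) k.succ = B.repr x (e.symm k) := fun x k => rfl
  have hΨinj : Function.Injective Ψ := by
    rw [injective_iff_map_eq_zero]
    intro x hx
    apply B.repr.injective
    ext j
    have := hΨs x (e j)
    rw [hx, e.symm_apply_apply] at this
    have h0 : (0 : ℤ) = B.repr x j := this
    rw [← h0]; simp
  have hlt : ∀ x, 0 < Ψ x → 0 ≤ ht x ∧ (ht x = 0 ∨ 0 < ht x) := by
    intro x hx
    obtain ⟨k, hk1, hk2⟩ := hx
    by_cases hk : k = 0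
    · subst hk
      have : 0 < ht x := hk2
      exact ⟨this.le, Or.inr this⟩
    · have h0 : (0 : Fin (n + 1)) < k := Fin.pos_iff_ne_zero.mpr hk
      have : (0 : ℤ) = ht x := hk1 0 h0
      exact ⟨this.le, Or.inl this.symm⟩
  have hpos : ∀ x, 0 < ht x → 0 < Ψ x := by
    intro x hx
    exact ⟨0, fun j hj => absurd hj (Fin.not_lt_zero j), hx⟩
  refine ⟨{x | 0 < Ψ x}, ?_, ?_, ?_, ?_, ?_, ?_⟩
  · intro h
    have h' : (0 : Lex (Fin (n + 1) → ℤ)) < Ψ 0 := h
    rw [map_zero] at h'
    exact lt_irrefl _ h'
  · intro x hx y hy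
    simp only [Set.mem_ofPred_eq, map_add] at hx hy ⊢
    exact add_pos hx hy
  · intro x hx
    have hne : Ψ x ≠ 0 := fun h => hx (hΨinj (by rw [h, map_zero]))
    rcases lt_or_gt_of_ne hne with h | h
    · right
      simp only [Set.mem_ofPred_eq, map_neg]
      exact neg_pos.mpr h
    · left; exact h
  · intro x hx hx'
    simp only [Set.mem_ofPred_eq, map_neg] at hx hx'
    exact lt_asymm hx (neg_pos.mp hx')
  · intro i
    simp only [Set.mem_ofPred_eq]
    constructor
    · intro h
      rcases (hlt _ h).2 with h0 | h0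
      · rw [hroot] at h0
        exact absurd h0 (b.height_ne_zero i)
      · rw [hroot] at h0
        exact h0
    · intro h
      apply hpos
      rw [hroot]
      exact h
  · intro φ hφ x y hxy
    have hφht : φ.toIntLinearMap = ht := by
      apply B.ext
      intro j
      rw [hht, Module.Basis.constr_basis]
      have : B j = ⟨P.root j, Submodule.subset_span (Set.mem_range_self (j : ι))⟩ := by
        apply Subtype.ext
        rw [hB, RootPairing.Base.coe_toWeightBasisInt_apply]
      rw [this]
      exact hφ j j.2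
    have h1 := (hlt _ hxy).1
    rw [← hφht] at h1
    have : φ (y - x) = φ y - φ x := map_sub φ y x
    have h2 : (0 : ℤ) ≤ φ (y - x) := h1
    omega

end Groth.Agent.S12076
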