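import Groth.Statements.S12078
import Mathlib.LinearAlgebra.Matrix.Notation
import Mathlib.Algebra.BigOperators.Fin
-- import your own Groth.Agent.* helpers here

set_option autoImplicit false
universe u
open CAlg

namespace Groth.Agent.S12078

/-- An elementary divisor domain is Bézout. Here `R` is a domain such that for all `n, m ≥ 1` and every
`n × m` matrix `A` there are invertible matrices `U` (`n × n`) and `V` (`m × m`) with `U * A * V`
zero off the diagonal and with diagonal entries `f 0 ∣ f 1 ∣ f 2 ∣ …`; the conclusion is that every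
finitely generated ideal of `R` is principal. -/
theorem result (R : Type u) [CommRing R] [IsDomain R]
    (hR : ∀ n m : ℕ, 1 ≤ n → 1 ≤ m → ∀ A : Matrix (Fin n) (Fin m) R,
      ∃ (U : (Matrix (Fin n) (Fin n) R)ˣ) (V : (Matrix (Fin m) (Fin m) R)ˣ) (f : ℕ → R),
        (∀ k : ℕ, f k ∣ f (k + 1)) ∧
        ∀ (i : Fin n) (j : Fin m), ((U : Matrix (Fin n) (Fin n) R) * A * (V : Matrix (Fin m) (Fin m) R)) i j =
          if (i : ℕ) = (j : ℕ) then f i else 0) :
    IsBezout R := by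
  rw [IsBezout.iff_span_pair_isPrincipal]
  intro a b
  obtain ⟨U, V, f, -, hUAV⟩ := hR 1 2 le_rfl (by norm_num) !![a, b]
  let A : Matrix (Fin 1) (Fin 2) R := !![a, b]
  let B : Matrix (Fin 1) (Fin 2) R := A * (V : Matrix (Fin 2) (Fin 2) R)
  have hUB : (U : Matrix (Fin 1) (Fin 1) R) * B = (U : Matrix (Fin 1) (Fin 1) R) * A * (V : Matrix (Fin 2) (Fin 2) R) := by
    simp [B, Matrix.mul_assoc]
  have hB : B = ((U⁻¹ : (Matrix (Fin 1) (Fin 1) R)ˣ) : Matrix (Fin 1) (Fin 1) R) *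
      ((U : Matrix (Fin 1) (Fin 1) R) * A * (V : Matrix (Fin 2) (Fin 2) R)) := by
    rw [← hUB, ← Matrix.mul_assoc, Units.inv_mul, Matrix.one_mul]
  have hB1 : B 0 1 = 0 := by
    rw [hB, Matrix.mul_apply, Fin.sum_univ_one]
    have := hUAV 0 1
    have h01 : ((0 : Fin 1) : ℕ) ≠ ((1 : Fin 2) : ℕ) := by simp
    rw [if_neg h01] at this
    show _ * ((U : Matrix (Fin 1) (Fin 1) R) * A * (V : Matrix (Fin 2) (Fin 2) R)) 0 1 = 0
    rw [this, mul_zero]
  have hA : A = B * ((V⁻¹ : (Matrix (Fin 2) (Fin 2) R)ˣ) : Matrix (Fin 2) (Fin 2) R) := by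
    simp [B, Matrix.mul_assoc]
  have ha : a = B 0 0 * ((V⁻¹ : (Matrix (Fin 2) (Fin 2) R)ˣ) : Matrix (Fin 2) (Fin 2) R) 0 0 := by
    have : A 0 0 = a := rfl
    rw [← this, hA, Matrix.mul_apply, Fin.sum_univ_two, hB1]
    simp [B]
  have hb : b = B 0 0 * ((V⁻¹ : (Matrix (Fin 2) (Fin 2) R)ˣ) : Matrix (Fin 2) (Fin 2) R) 0 1 := by
    have : A 0 1 = b := rfl
    rw [← this, hA, Matrix.mul_apply, Fin.sum_univ_two, hB1]
    simp [B]
  have hB0 : B 0 0 = a * (V : Matrix (Fin 2) (Fin 2) R) 0 0 + b * (V : Matrix (Fin 2) (Fin 2) R) 1 0 := by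
    show (A * (V : Matrix (Fin 2) (Fin 2) R)) 0 0 = _
    rw [Matrix.mul_apply, Fin.sum_univ_two]
    rfl
  refine ⟨⟨B 0 0, ?_⟩⟩
  apply le_antisymm
  · rw [Ideal.span_le]
    intro x hx
    rcases hx with rfl | hx
    · rw [ha]
      exact Ideal.mul_mem_right _ _ (Ideal.subset_span (Set.mem_singleton _))
    · rw [Set.mem_singleton_iff] at hx
      rw [hx, hb]
      exact Ideal.mul_mem_right _ _ (Ideal.subset_span (Set.mem_singleton _))
  · rw [Ideal.submodule_span_eq, Ideal.span_le, Set.singleton_subset_iff, hB0]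
    exact Ideal.add_mem _ (Ideal.mul_mem_right _ _ (Ideal.subset_span (by simp)))
      (Ideal.mul_mem_right _ _ (Ideal.subset_span (by simp)))

end Groth.Agent.S12078
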