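import Groth.Statements.S12079
import Mathlib.Algebra.FiveLemma
import Mathlib.LinearAlgebra.LeftExact
import Mathlib.LinearAlgebra.Contraction
import Mathlib.RingTheory.Flat.Basic
import Mathlib.Algebra.Module.FinitePresentation
-- import your own Groth.Agent.* helpers here

set_option autoImplicit false
universe u
open TensorProduct
open CAlg

namespace Groth.Agent.S12079

/-- For a finitely presented `R`-module `M`, any `R`-module `N` and a flat `R`-module `L`, the canonical
map `Hom_R(M, N) ⊗_R L → Hom_R(M, N ⊗_R L)` sending `f ⊗ l` to `m ↦ f m ⊗ l` is bijective. -/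
theorem result (R : Type u) [CommRing R]
    (M N L : Type u) [AddCommGroup M] [Module R M] [AddCommGroup N] [Module R N] [AddCommGroup L] [Module R L]
    [Module.FinitePresentation R M] [Module.Flat R L] :
    Function.Bijective (TensorProduct.rTensorHomToHomRTensor (RingHom.id R) M N L) := by
    classical
  obtain ⟨n, m, f, g, hf, hfg⟩ := Module.FinitePresentation.exists_fin' R M
  let F₀ := Fin n → R
  let F₁ := Fin m → R
  -- top row
  let t₁ : (M →ₗ[R] N) ⊗[R] L →ₗ[R] (F₀ →ₗ[R] N) ⊗[R] L := (LinearMap.lcomp R N f).rTensor L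
  let t₂ : (F₀ →ₗ[R] N) ⊗[R] L →ₗ[R] (F₁ →ₗ[R] N) ⊗[R] L := (LinearMap.lcomp R N g).rTensor L
  -- bottom row
  let b₁ : (M →ₗ[R] N ⊗[R] L) →ₗ[R] (F₀ →ₗ[R] N ⊗[R] L) := LinearMap.lcomp R (N ⊗[R] L) f
  let b₂ : (F₀ →ₗ[R] N ⊗[R] L) →ₗ[R] (F₁ →ₗ[R] N ⊗[R] L) := LinearMap.lcomp R (N ⊗[R] L) g
  let i₁ := TensorProduct.rTensorHomToHomRTensor (RingHom.id R) M N L
  let i₂ := TensorProduct.rTensorHomToHomRTensor (RingHom.id R) F₀ N L
  let i₃ := TensorProduct.rTensorHomToHomRTensor (RingHom.id R) F₁ N L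
  have hc₁ : b₁.comp i₁ = i₂.comp t₁ := by
    apply TensorProduct.ext'
    intro h l
    apply LinearMap.ext
    intro x
    simp [b₁, i₁, i₂, t₁]
  have hc₂ : b₂.comp i₂ = i₃.comp t₂ := by
    apply TensorProduct.ext'
    intro h l
    apply LinearMap.ext
    intro x
    simp [b₂, i₂, i₃, t₂]
  have hb : Function.Exact b₁ b₂ := LinearMap.exact_lcomp_of_exact_of_surjective _ hfg hf
  have hb0 : Function.Injective b₁ := LinearMap.lcomp_injective_of_surjective f hf
  have ht : Function.Exact t₁ t₂ :=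
    Module.Flat.rTensor_exact L (LinearMap.exact_lcomp_of_exact_of_surjective _ hfg hf)
  have ht0 : Function.Injective t₁ :=
    Module.Flat.rTensor_preserves_injective_linearMap _ (LinearMap.lcomp_injective_of_surjective f hf)
  have hi₂ : Function.Bijective i₂ := by
    have h2 : (i₂ : _ → _) = (rTensorHomEquivHomRTensor R F₀ N L) := by
      funext x
      exact (rTensorHomEquivHomRTensor_apply x).symm
    rw [h2]
    exact (rTensorHomEquivHomRTensor R F₀ N L).bijective
  have hi₃ : Function.Injective i₃ := by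
    have h2 : (i₃ : _ → _) = (rTensorHomEquivHomRTensor R F₁ N L) := by
      funext x
      exact (rTensorHomEquivHomRTensor_apply x).symm
    rw [h2]
    exact (rTensorHomEquivHomRTensor R F₁ N L).injective
  exact LinearMap.bijective_of_bijective_of_injective_of_left_exact t₁ t₂ b₁ b₂ i₁ i₂ i₃
    hc₁ hc₂ ht hb hi₂ hi₃ ht0 hb0

end Groth.Agent.S12079
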