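import Groth.Statements.S12081

-- import your own Groth.Agent.* helpers here

set_option autoImplicit false
universe u
open TensorProduct
open EtAlg

namespace Groth.Agent.S12081

/-- Let `B' = B ×_A A'` be a fibre square of rings with `A' → A` surjective with kernel `I`, let `J =
Ker(B' → B)`, let `D'` be a `B'`-algebra and `C' = D' ⊗_{B'} A'`. Then the ideal `I C'` is, as a
subset of `C'`, the image of the ideal `J D'` under `D' → C'`; that is, the map `J D' → I C'` is
surjective. -/
theorem result (B' B A' A : Type u) [CommRing B'] [CommRing B] [CommRing A'] [CommRing A]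
    [Algebra B' B] [Algebra B' A'] [Algebra B A] [Algebra A' A] [Algebra B' A] [IsScalarTower B' B A] [IsScalarTower B' A' A]
    (hsq : EtMil.IsFibreSquare B' B A' A)
    (D' C' : Type u) [CommRing D'] [CommRing C'] [Algebra B' D'] [Algebra A' C']
    [Algebra D' C'] [Algebra B' C'] [IsScalarTower B' A' C'] [IsScalarTower B' D' C'] [Algebra.IsPushout B' A' D' C'] :
    (algebraMap D' C') '' ((RingHom.ker (algebraMap B' B)).map (algebraMap B' D') : Set D') =
      ((RingHom.ker (algebraMap A' A)).map (algebraMap A' C') : Set C') := by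
  classical
  set J := RingHom.ker (algebraMap B' B) with hJ
  set I := RingHom.ker (algebraMap A' A) with hI
  let φ : D' →+* C' := algebraMap D' C'
  let ψ : A' →+* C' := algebraMap A' C'
  let π : B' →+* A' := algebraMap B' A'
  have hBC1 : ∀ b : B', algebraMap B' C' b = ψ (π b) := fun b =>
    IsScalarTower.algebraMap_apply B' A' C' b
  have hBC2 : ∀ b : B', algebraMap B' C' b = φ (algebraMap B' D' b) := fun b =>
    IsScalarTower.algebraMap_apply B' D' C' b
  have hπJ : ∀ j ∈ J, π j ∈ I := by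
    intro j hj
    rw [hI, RingHom.mem_ker]
    have h1 : algebraMap A' A (π j) = algebraMap B' A j :=
      (IsScalarTower.algebraMap_apply B' A' A j).symm
    rw [h1, IsScalarTower.algebraMap_apply B' B A j]
    rw [hJ, RingHom.mem_ker] at hj
    rw [hj, map_zero]
  have hlift : ∀ i ∈ I, ∃ j ∈ J, π j = i := by
    intro i hi
    rw [hI, RingHom.mem_ker] at hi
    obtain ⟨j, ⟨hj1, hj2⟩, -⟩ := hsq.2 0 i (by rw [map_zero, hi])
    exact ⟨j, by rw [hJ, RingHom.mem_ker]; exact hj1, hj2⟩
  set JD := Ideal.map (algebraMap B' D') J with hJD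
  -- scalar multiplication by `A'` preserves the image
  have R1 : ∀ (a : A') (x : D'), x ∈ JD → ∃ x' ∈ JD, φ x' = ψ a * φ x := by
    intro a x hx
    rw [hJD, Ideal.map] at hx
    induction hx using Submodule.span_induction with
    | mem x hx =>
      obtain ⟨j, hj, rfl⟩ := hx
      obtain ⟨j₂, hj₂, hj₂'⟩ := hlift (a * π j) (Ideal.mul_mem_left _ _ (hπJ j hj))
      refine ⟨algebraMap B' D' j₂, Ideal.mem_map_of_mem _ hj₂, ?_⟩
      rw [← hBC2, ← hBC2, hBC1, hBC1, hj₂', map_mul]
    | zero => exact ⟨0, Ideal.zero_mem _, by simp⟩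
    | add x y _ _ hx hy =>
      obtain ⟨x', hx', ex⟩ := hx
      obtain ⟨y', hy', ey⟩ := hy
      exact ⟨x' + y', Ideal.add_mem _ hx' hy', by rw [map_add, map_add, ex, ey, mul_add]⟩
    | smul d x _ hx =>
      obtain ⟨x', hx', ex⟩ := hx
      refine ⟨d * x', Ideal.mul_mem_left _ _ hx', ?_⟩
      rw [smul_eq_mul, map_mul, map_mul, ex]
      ring
  have hbc : IsBaseChange A' (IsScalarTower.toAlgHom B' D' C').toLinearMap :=
    Algebra.IsPushout.out
  -- multiplication by all of `C'` preserves the image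
  have R2 : ∀ (c : C') (y : C'), (∃ x ∈ JD, φ x = y) → ∃ x ∈ JD, φ x = c * y := by
    intro c
    induction c using hbc.inductionOn with
    | zero => intro y _; exact ⟨0, Ideal.zero_mem _, by simp⟩
    | tmul d =>
      rintro y ⟨x, hx, rfl⟩
      refine ⟨d * x, Ideal.mul_mem_left _ _ hx, ?_⟩
      rw [map_mul]
      rfl
    | smul a n ih =>
      intro y hy
      obtain ⟨x, hx, ex⟩ := ih y hy
      obtain ⟨x', hx', ex'⟩ := R1 a x hx
      refine ⟨x', hx', ?_⟩
      rw [ex', ex, Algebra.smul_def, mul_assoc]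
    | add n₁ n₂ ih₁ ih₂ =>
      intro y hy
      obtain ⟨x₁, hx₁, e₁⟩ := ih₁ y hy
      obtain ⟨x₂, hx₂, e₂⟩ := ih₂ y hy
      exact ⟨x₁ + x₂, Ideal.add_mem _ hx₁ hx₂, by rw [map_add, e₁, e₂, add_mul]⟩
  apply Set.eq_of_subset_of_subset
  · rintro y ⟨x, hx, rfl⟩
    have h1 : φ x ∈ Ideal.map φ JD := Ideal.mem_map_of_mem φ hx
    rw [hJD, Ideal.map_map] at h1
    have h2 : Ideal.map (φ.comp (algebraMap B' D')) J ≤ Ideal.map ψ I := by
      rw [Ideal.map_le_iff_le_comap]
      intro j hj
      rw [Ideal.mem_comap]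
      have : (φ.comp (algebraMap B' D')) j = ψ (π j) := by
        rw [RingHom.comp_apply, ← hBC2, hBC1]
      rw [this]
      exact Ideal.mem_map_of_mem ψ (hπJ j hj)
    exact h2 h1
  · intro y hy
    have key : ∀ y ∈ Ideal.map ψ I, ∃ x ∈ JD, φ x = y := by
      intro y hy'
      rw [Ideal.map] at hy'
      induction hy' using Submodule.span_induction with
      | mem y hy =>
        obtain ⟨i, hi, rfl⟩ := hy
        obtain ⟨j, hj, rfl⟩ := hlift i hi
        exact ⟨algebraMap B' D' j, Ideal.mem_map_of_mem _ hj, by rw [← hBC2, hBC1]⟩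
      | zero => exact ⟨0, Ideal.zero_mem _, by simp⟩
      | add x y _ _ hx hy =>
        obtain ⟨x', hx', ex⟩ := hx
        obtain ⟨y', hy', ey⟩ := hy
        exact ⟨x' + y', Ideal.add_mem _ hx' hy', by rw [map_add, ex, ey]⟩
      | smul c y _ hy => exact R2 c y hy
    obtain ⟨x, hx, ex⟩ := key y hy
    exact ⟨x, hx, ex⟩

end Groth.Agent.S12081
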