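import Groth.Statements.S12083
import Groth.Agent.Lib.RelFP_helper9
-- import your own Groth.Agent.* helpers here

set_option autoImplicit false
universe u
open CAlg


namespace Groth.Agent.S12083

/-- Let `R → A` be a finite type ring map with a surjective presentation `α : R[x_1, …, x_n] → A` and
`M` an `A`-module finitely presented relative to `R` (finitely presented as an `R[x_1, …,
x_n]`-module through `α`). For a ring map `R → R'` let `A' = R' ⊗_R A` (a pushout square) and `γ :
R'[z_1, …, z_k] → A'` any surjective presentation. Then `A' ⊗_A M = R' ⊗_R M` is finitely presented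
relative to `R'`, i.e. finitely presented as an `R'[z_1, …, z_k]`-module through `γ`. -/
theorem result {R A R' A' : Type u} [CommRing R] [CommRing A] [CommRing R'] [CommRing A']
    [Algebra R A] [Algebra R R'] [Algebra A A'] [Algebra R' A'] [Algebra R A'] [IsScalarTower R A A'] [IsScalarTower R R' A']
    [Algebra.IsPushout R A R' A'] [Algebra.FiniteType R A] (M : Type u) [AddCommGroup M] [Module A M] {n k : ℕ}
    (α : MvPolynomial (Fin n) R →ₐ[R] A) (hα : Function.Surjective α)
    (hM : @Module.FinitePresentation (MvPolynomial (Fin n) R) M _ _ (Module.compHom M α.toRingHom))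
    (γ : MvPolynomial (Fin k) R' →ₐ[R'] A') (hγ : Function.Surjective γ) :
    @Module.FinitePresentation (MvPolynomial (Fin k) R') (TensorProduct A A' M) _ _
      (Module.compHom (TensorProduct A A' M) γ.toRingHom) := by
  classical
  letI algPA : Algebra (MvPolynomial (Fin n) R) A := α.toRingHom.toAlgebra
  letI modPM : Module (MvPolynomial (Fin n) R) M := Module.compHom M α.toRingHom
  haveI : IsScalarTower (MvPolynomial (Fin n) R) A M :=
    IsScalarTower.of_algebraMap_smul fun r m => rfl
  haveI : IsScalarTower R (MvPolynomial (Fin n) R) A :=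
    IsScalarTower.of_algebraMap_eq fun r => (α.commutes r).symm
  haveI hMfp : Module.FinitePresentation (MvPolynomial (Fin n) R) M := hM
  letI algPP' : Algebra (MvPolynomial (Fin n) R) (MvPolynomial (Fin n) R') :=
    MvPolynomial.algebraMvPolynomial
  let α' : MvPolynomial (Fin n) R' →ₐ[R'] A' :=
    MvPolynomial.aeval (fun i => algebraMap A A' (α (MvPolynomial.X i)))
  letI algP'A' : Algebra (MvPolynomial (Fin n) R') A' := α'.toRingHom.toAlgebra
  haveI : IsScalarTower R' (MvPolynomial (Fin n) R') A' :=
    IsScalarTower.of_algebraMap_eq fun r => (α'.commutes r).symm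
  letI algPA' : Algebra (MvPolynomial (Fin n) R) A' :=
    ((algebraMap A A').comp α.toRingHom).toAlgebra
  haveI : IsScalarTower (MvPolynomial (Fin n) R) A A' := IsScalarTower.of_algebraMap_eq' rfl
  haveI : IsScalarTower R (MvPolynomial (Fin n) R) A' := IsScalarTower.of_algebraMap_eq fun r => by
    show algebraMap R A' r = algebraMap A A' (α (algebraMap R _ r))
    rw [α.commutes, ← IsScalarTower.algebraMap_apply]
  haveI : IsScalarTower (MvPolynomial (Fin n) R) (MvPolynomial (Fin n) R') A' := by
    apply IsScalarTower.of_algebraMap_eq'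
    apply MvPolynomial.ringHom_ext
    · intro r
      show algebraMap A A' (α (MvPolynomial.C r)) =
        α' (MvPolynomial.map (algebraMap R R') (MvPolynomial.C r))
      rw [MvPolynomial.map_C, ← MvPolynomial.algebraMap_eq, ← MvPolynomial.algebraMap_eq,
        α.commutes, α'.commutes, ← IsScalarTower.algebraMap_apply,
        ← IsScalarTower.algebraMap_apply]
    · intro i
      show algebraMap A A' (α (MvPolynomial.X i)) =
        α' (MvPolynomial.map (algebraMap R R') (MvPolynomial.X i))
      rw [MvPolynomial.map_X]
      show _ = MvPolynomial.aeval _ (MvPolynomial.X i)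
      rw [MvPolynomial.aeval_X]
  haveI : IsScalarTower R (MvPolynomial (Fin n) R') A' :=
    IsScalarTower.of_algebraMap_eq fun r => by
      rw [IsScalarTower.algebraMap_apply R R' A', IsScalarTower.algebraMap_apply R R' (MvPolynomial (Fin n) R'),
        ← IsScalarTower.algebraMap_apply R' (MvPolynomial (Fin n) R') A']
  haveI hpo : Algebra.IsPushout (MvPolynomial (Fin n) R) A (MvPolynomial (Fin n) R') A' :=
    (Algebra.IsPushout.comp_iff R (MvPolynomial (Fin n) R) R' (MvPolynomial (Fin n) R')).mp
      inferInstance
  haveI hpo' : Algebra.IsPushout (MvPolynomial (Fin n) R) (MvPolynomial (Fin n) R') A A' :=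
    hpo.symm
  let e := Algebra.IsPushout.cancelBaseChange (MvPolynomial (Fin n) R)
    (MvPolynomial (Fin n) R') A A' M
  have hfp1 : Module.FinitePresentation (MvPolynomial (Fin n) R') (TensorProduct A A' M) :=
    Module.FinitePresentation.of_equiv e.symm
  -- surjectivity of α'
  have hα' : Function.Surjective α' := by
    intro a'
    have hpo2 : Algebra.IsPushout R A R' A' := inferInstance
    have := hpo2.out
    induction a' using this.inductionOn with
    | zero => exact ⟨0, map_zero _⟩
    | tmul r' =>
      exact ⟨MvPolynomial.C r', by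
        rw [← MvPolynomial.algebraMap_eq, α'.commutes]; rfl⟩
    | smul a x hx =>
      obtain ⟨y, rfl⟩ := hx
      obtain ⟨p, rfl⟩ := hα a
      refine ⟨algebraMap (MvPolynomial (Fin n) R) (MvPolynomial (Fin n) R') p * y, ?_⟩
      rw [map_mul, Algebra.smul_def]
      congr 1
      exact (IsScalarTower.algebraMap_apply (MvPolynomial (Fin n) R) (MvPolynomial (Fin n) R') A' p).symm
    | add x y hx hy =>
      obtain ⟨x', rfl⟩ := hx
      obtain ⟨y', rfl⟩ := hy
      exact ⟨x' + y', map_add _ _ _⟩
  refine Groth.Agent.Lib.RelFP.indep_presentation (N := TensorProduct A A' M) γ hγ α' hα' ?_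
  exact Groth.Agent.Lib.RelFP.fp_congr_inst _ _ (fun _ _ => rfl) hfp1

end Groth.Agent.S12083
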