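import Groth.Statements.S12085
import Groth.Agent.Lib.UnramIntModel_helper3
-- import your own Groth.Agent.* helpers here

set_option autoImplicit false
universe u
open TensorProduct

open CAlg

namespace Groth.Agent.S12085

/-- If `R → S` is G-unramified (of finite presentation and formally unramified), then there are a finite
type `ℤ`-algebra `R₀`, a ring map `R₀ → R` and a G-unramified ring map `R₀ → S₀` such that `S ≅ R
⊗_{R₀} S₀` as `R`-algebras (existence of an isomorphism). -/
theorem result (R : Type u) [CommRing R] (S : Type u) [CommRing S]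
    [Algebra R S] [Algebra.FinitePresentation R S] [Algebra.FormallyUnramified R S] :
    ∃ (R₀ : Type u) (_ : CommRing R₀) (_ : Algebra.FiniteType ℤ R₀) (S₀ : Type u) (_ : CommRing S₀)
      (_ : Algebra R₀ S₀) (_ : Algebra.FinitePresentation R₀ S₀) (_ : Algebra.FormallyUnramified R₀ S₀)
      (_ : Algebra R₀ R), Nonempty (R ⊗[R₀] S₀ ≃ₐ[R] S) := by
  classical
  obtain ⟨n, f, hf, G₀, hG₀⟩ := Algebra.FinitePresentation.out (R := R) (A := S)
  obtain ⟨R₀, I, hft, hIfg, hunr, hle, hge⟩ :=
    Groth.Agent.Lib.UnramIntModelH3.main f hf G₀ (fun g hg => by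
      have : g ∈ RingHom.ker f.toRingHom := by rw [← hG₀]; exact Ideal.subset_span hg
      exact this)
  have hK : I.map (MvPolynomial.map (algebraMap R₀ R)) = RingHom.ker f := by
    refine le_antisymm hle ?_
    have : RingHom.ker f = Ideal.span (G₀ : Set (MvPolynomial (Fin n) R)) := hG₀.symm
    rw [this]; exact hge
  refine ⟨R₀, inferInstance, ?_, MvPolynomial (Fin n) R₀ ⧸ I, inferInstance, inferInstance, ?_,
    hunr, inferInstance, ⟨?_⟩⟩
  · convert hft
  · exact Algebra.FinitePresentation.quotient hIfg
  · exact (Groth.Agent.Lib.UnramIntModelH3.tensorQuotEquiv R₀ R I).trans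
      ((Ideal.quotientEquivAlgOfEq R hK).trans (Ideal.quotientKerAlgEquivOfSurjective hf))

end Groth.Agent.S12085
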