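import Groth.Statements.S12094
import Mathlib
import Groth.Agent.Lib.DMod35_helper6
-- import your own Groth.Agent.* helpers here

set_option autoImplicit false
universe u
open CategoryTheory
attribute [local instance] HasDerivedCategory.standard
open DRing

namespace Groth.Agent.S12094

/-- (1) ⇔ (2): let `I ⊆ R` be an ideal and `K ∈ D(R)` with `H^i(K) = 0` for `i ∉ {-1, 0}`. Then some
power `I^c` annihilates `Ext¹_R(K, N) = Hom_{D(R)}(K, N[1])` for every `R`-module `N` if and only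
if, for some `c`, (a) `I^c` annihilates `H^{-1}(K)` and (b) `H^0(K)` is `I^c`-projective, i.e. `I^c`
annihilates `Ext¹_R(H^0(K), N)` for every `R`-module `N`. -/
theorem result {R : Type u} [CommRing R] (I : Ideal R) (K : Dual.D R)
    (hK : ∀ i : ℤ, i ≠ -1 → i ≠ 0 → Subsingleton (Dual.HD R K i)) :
    (∃ c : ℕ, ∀ (N : Type u) [AddCommGroup N] [Module R N] (a : R), a ∈ I ^ c →
        ∀ ξ : K ⟶ (Dual.inD R N)⟦(1 : ℤ)⟧, a • ξ = 0) ↔
      ∃ c : ℕ, (∀ a : R, a ∈ I ^ c → ∀ x : Dual.HD R K (-1), a • x = 0) ∧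
        ∀ (N : Type u) [AddCommGroup N] [Module R N] (a : R), a ∈ I ^ c →
          ∀ ξ : Dual.inD R (Dual.HD R K 0) ⟶ (Dual.inD R N)⟦(1 : ℤ)⟧, a • ξ = 0 := by

  constructor
  · rintro ⟨c, hc⟩
    refine ⟨c, ?_, ?_⟩
    · intro a ha x
      obtain ⟨E, hE, hE0, ⟨e⟩⟩ := Groth.Agent.Lib.DMod_helper6.exists_twoTerm_representative K hK
      obtain ⟨h, hh⟩ := Groth.Agent.Lib.DMod_helper6.exists_factor_smul_of_ext_one_annihilated E
        (fun i hi => hE i (Or.inr hi)) hE0 (fun i hi => hE i (Or.inl hi)) K e a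
        (fun N ξ => hc N a ha ξ)
      exact Groth.Agent.Lib.DMod_helper6.smul_HD_neg_one_eq_zero E K e a h hh x
    · intro N _ _ a ha ξ
      haveI : DerivedCategory.IsLE K 0 :=
        Groth.Agent.Lib.DMod_helper6.isLE_of_subsingleton_HD K 0
          (fun i hi => hK i (by omega) (by omega))
      exact Groth.Agent.Lib.DMod_helper6.smul_ext_one_H0_eq_zero K a
        (fun N' ξ' => hc N' a ha ξ') (ModuleCat.of R N) ξ
  · rintro ⟨c, hc1, hc2⟩
    refine ⟨c + c, ?_⟩
    intro N _ _ x hx ξ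
    rw [pow_add] at hx
    refine Submodule.mul_induction_on hx (fun m hm n hn => ?_) (fun y z hy hz => ?_)
    · exact Groth.Agent.Lib.DMod_helper6.mul_smul_ext_one_eq_zero K hK n m (hc1 n hn)
        (fun N' ξ' => hc2 N' m hm ξ') (ModuleCat.of R N) ξ
    · rw [add_smul, hy, hz, add_zero]

end Groth.Agent.S12094
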