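import Groth.Statements.S12095
import Groth.Agent.Lib.GrMod3_lead

set_option autoImplicit false
universe u
open CAlg

namespace Groth.Agent.S12095

/-- Let `R'` be an `R`-algebra of finite type, `M` a finite `R'`-module, and `S` an `ℕ`-graded
`R`-algebra with `f ∈ S_1` and a ring isomorphism `e : S_(f) ≅ R'` compatible with the maps from
`R`. Then there is a finite graded `S`-module `N` whose degree-zero localization `N_(f)` (the
elements `n / f^k` of `N_f` with `n` homogeneous of degree `k`) is identified with `M`: an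
`R`-linear bijection `e' : N_(f) → M` with `e'(a · x) = e(a) · e'(x)` for all `a ∈ S_(f)`. (The
published lemma produces `S`, `f` and `N` together from `R'` and `M`; here `N` is produced for any
such `S`, `f`, `e`, which the same construction gives.) -/
theorem result (R R' : Type u) [CommRing R] [CommRing R']
    [Algebra R R'] [Algebra.FiniteType R R']
    (M : Type u) [AddCommGroup M] [Module R' M] [Module R M] [IsScalarTower R R' M] [Module.Finite R' M]
    (S : Type u) [CommRing S] [Algebra R S] (𝒜 : ℕ → Submodule R S) [GradedAlgebra 𝒜] (f : S) (hf : f ∈ 𝒜 1)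
    (e : HomogeneousLocalization.Away 𝒜 f ≃+* R')
    (he : ∀ r : R, (e.symm (algebraMap R R' r)).val = algebraMap S (Localization.Away f) (algebraMap R S r)) :
    ∃ (N : Type u) (_ : AddCommGroup N) (_ : Module S N) (_ : Module R N) (_ : IsScalarTower R S N)
      (ℳ : ℕ → Submodule R N) (_ : DirectSum.Decomposition ℳ) (_ : SetLike.GradedSMul 𝒜 ℳ)
      (Nf : Submodule R (LocalizedModule (Submonoid.powers f) N)) (e' : ↥Nf ≃ₗ[R] M),
      Module.Finite S N ∧
      (∀ x, x ∈ Nf ↔ ∃ k : ℕ, ∃ n ∈ ℳ k, f ^ k • x = LocalizedModule.mk n 1) ∧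
      (∀ (a : HomogeneousLocalization.Away 𝒜 f) (x y : ↥Nf),
        a.val • (x : LocalizedModule (Submonoid.powers f) N) = y → e' y = e a • e' x) := by
  classical
  letI instT : Module (HomogeneousLocalization.Away 𝒜 f) M :=
    Module.compHom M (e : HomogeneousLocalization.Away 𝒜 f →+* R')
  obtain ⟨G0, hG0⟩ := (Module.Finite.fg_top : (⊤ : Submodule R' M).FG)
  have hGfin : (G0 : Set M).Finite := G0.finite_toSet
  have hspan : Submodule.span (HomogeneousLocalization.Away 𝒜 f) (G0 : Set M) = ⊤ := by
    rw [eq_top_iff]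
    rintro m -
    have hm : m ∈ Submodule.span R' (G0 : Set M) := by
      rw [hG0]
      exact Submodule.mem_top
    induction hm using Submodule.span_induction with
    | mem x hx => exact Submodule.subset_span hx
    | zero => exact zero_mem _
    | add x y _ _ hx hy => exact add_mem hx hy
    | smul r' x _ hx =>
      have h1 : r' • x = (e.symm r') • x := by
        show r' • x = e (e.symm r') • x
        rw [RingEquiv.apply_symm_apply]
      rw [h1]
      exact Submodule.smul_mem _ _ hx
  have hcompat : ∀ (r : R) (m : M),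
      Groth.Agent.Lib.GrModL.frac 𝒜 hf 0 (algebraMap R S r)
        (SetLike.algebraMap_mem_graded 𝒜 r) • m = r • m := by
    intro r m
    have h1 : Groth.Agent.Lib.GrModL.frac 𝒜 hf 0 (algebraMap R S r)
        (SetLike.algebraMap_mem_graded 𝒜 r) = e.symm (algebraMap R R' r) := by
      apply HomogeneousLocalization.val_injective
      rw [he r, Groth.Agent.Lib.GrModL.val_frac]
      have h : (⟨f ^ 0, ⟨0, rfl⟩⟩ : Submonoid.powers f) = 1 := Subtype.ext (pow_zero f)
      rw [h, Localization.mk_one_eq_algebraMap]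
    show e (Groth.Agent.Lib.GrModL.frac 𝒜 hf 0 (algebraMap R S r)
        (SetLike.algebraMap_mem_graded 𝒜 r)) • m = r • m
    rw [h1, RingEquiv.apply_symm_apply, algebraMap_smul]
  refine ⟨Groth.Agent.Lib.GrModL.NN 𝒜 hf (G0 : Set M), inferInstance, inferInstance,
    inferInstance, inferInstance, Groth.Agent.Lib.GrModL.grade 𝒜 hf (G0 : Set M),
    Groth.Agent.Lib.GrModL.decomp 𝒜 hf (G0 : Set M),
    Groth.Agent.Lib.GrModL.instGradedSMul 𝒜 hf (G0 : Set M),
    Groth.Agent.Lib.GrModL.Nf 𝒜 hf (G0 : Set M),
    Groth.Agent.Lib.GrModL.ePrime 𝒜 hf (G0 : Set M) hcompat hspan,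
    Groth.Agent.Lib.GrModL.finite_NN 𝒜 hf (G0 : Set M) hGfin, fun x => Iff.rfl, ?_⟩
  intro a x y h
  exact Groth.Agent.Lib.GrModL.ePrime_semilinear 𝒜 hf (G0 : Set M) hcompat hspan a x y h

end Groth.Agent.S12095
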