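import Groth.Statements.S12108
import Mathlib
import Groth.Agent.Lib.ShRep_helper8

set_option autoImplicit false
open CategoryTheory CategoryTheory.Limits
universe u
open SGA4

namespace Groth.Agent.S12108

/-- Let `(C, J)` be a small site, `X` an object and `s i : Y i ⟶ X` a family of morphisms indexed by a
small type. The following are equivalent: (i) the family is covering, for every `i` the diagonal of
presheaves `h_{Y i} ⟶ h_{Y i} ×_{h_X} h_{Y i}` becomes an isomorphism under the associated-sheaf
functor, and for all `i ≠ j` the sheaf associated to the presheaf `h_{Y i} ×_{h_X} h_{Y j}` is an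
initial object; (ii) the associated sheaf of `X`, with the maps induced by the `s i`, is a coproduct
of the associated sheaves of the `Y i` in sheaves of sets. -/
theorem result
    {C : Type u} [SmallCategory C] (J : GrothendieckTopology C) {X : C} {ι : Type u}
    (Y : ι → C) (s : ∀ i, Y i ⟶ X) :
    (Sieve.ofArrows Y s ∈ J X ∧
      (∀ i, IsIso ((presheafToSheaf J (Type u)).map (pullback.diagonal (yoneda.map (s i))))) ∧
      (∀ i j, i ≠ j → Nonempty (IsInitial ((presheafToSheaf J (Type u)).obj
        (pullback (yoneda.map (s i)) (yoneda.map (s j))))))) ↔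
    Nonempty (IsColimit (Cofan.mk ((presheafToSheaf J (Type u)).obj (yoneda.obj X))
      (fun i => (presheafToSheaf J (Type u)).map (yoneda.map (s i))))) := by
  constructor
  · rintro ⟨hcov, hdiag, hinit⟩
    rw [Groth.Agent.Lib.ShRepH8.cofan_isColimit_iff]
    intro F
    have hF : Presieve.IsSheaf J F.obj := (isSheaf_iff_isSheaf_of_type J F.obj).1 F.property
    have hsh : Presieve.IsSheafFor F.obj (Presieve.ofArrows Y s) := by
      rw [Presieve.isSheafFor_iff_generate]
      exact hF _ hcov
    rw [Presieve.isSheafFor_arrows_iff] at hsh
    have hcompat : ∀ x : (∀ i, F.obj.obj (Opposite.op (Y i))),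
        Presieve.Arrows.Compatible F.obj s x := by
      intro x i j Z gi gj hg
      have hφ : pullback.fst (yoneda.map (s i)) (yoneda.map (s j)) ≫ yonedaEquiv.symm (x i) =
          pullback.snd (yoneda.map (s i)) (yoneda.map (s j)) ≫ yonedaEquiv.symm (x j) := by
        by_cases hij : i = j
        · subst hij
          apply ((sheafificationAdjunction J (Type u)).homEquiv _ F).symm.injective
          haveI := hdiag i
          rw [← cancel_epi ((presheafToSheaf J (Type u)).map
            (pullback.diagonal (yoneda.map (s i))))]
          rw [← Adjunction.homEquiv_naturality_left_symm,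
            ← Adjunction.homEquiv_naturality_left_symm]
          congr 1
          rw [← Category.assoc, ← Category.assoc, pullback.diagonal_fst, pullback.diagonal_snd]
        · obtain ⟨hI⟩ := hinit i j hij
          apply ((sheafificationAdjunction J (Type u)).homEquiv _ F).symm.injective
          exact hI.hom_ext _ _
      have hl : yoneda.map gi ≫ yoneda.map (s i) = yoneda.map gj ≫ yoneda.map (s j) := by
        rw [← CategoryTheory.Functor.map_comp, ← CategoryTheory.Functor.map_comp, hg]
      have h1 := congrArg (fun φ => pullback.lift (yoneda.map gi) (yoneda.map gj) hl ≫ φ) hφ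
      simp only [← Category.assoc, pullback.lift_fst, pullback.lift_snd] at h1
      have h2 := congrArg yonedaEquiv h1
      rw [← yonedaEquiv_naturality, ← yonedaEquiv_naturality, Equiv.apply_symm_apply,
        Equiv.apply_symm_apply] at h2
      exact h2
    constructor
    · intro x x' hxx
      obtain ⟨t, _, ht⟩ := hsh (fun i => F.obj.map (s i).op x) (hcompat _)
      rw [ht x (fun i => rfl), ht x' (fun i => (congrFun hxx i).symm)]
    · intro y
      obtain ⟨t, ht, _⟩ := hsh y (hcompat y)
      exact ⟨t, funext ht⟩
  · rintro ⟨hcL⟩
    have hbij := (Groth.Agent.Lib.ShRepH8.cofan_isColimit_iff J Y s).1 ⟨hcL⟩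
    have hΩ := hbij ⟨(Functor.closedSieves J).toFunctor,
      (isSheaf_iff_isSheaf_of_type _ _).2 (classifier_isSheaf J)⟩
    have hΩinj : ∀ (A B : Sieve X) (hA : J.IsClosed A) (hB : J.IsClosed B),
        (∀ i, A.pullback (s i) = B.pullback (s i)) → A = B := by
      intro A B hA hB hAB
      have : (⟨A, hA⟩ : {S : Sieve X // J.IsClosed S}) = ⟨B, hB⟩ := by
        apply hΩ.1
        funext i
        exact Subtype.ext (hAB i)
      exact congrArg Subtype.val this
    have hΩsurj : ∀ (A : ∀ i, Sieve (Y i)) (hA : ∀ i, J.IsClosed (A i)),
        ∃ R : Sieve X, J.IsClosed R ∧ ∀ i, R.pullback (s i) = A i := by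
      intro A hA
      obtain ⟨R, hR⟩ := hΩ.2
        (fun i => (⟨A i, hA i⟩ : {S : Sieve (Y i) // J.IsClosed S}))
      exact ⟨(R : {S : Sieve X // J.IsClosed S}).1,
        (R : {S : Sieve X // J.IsClosed S}).2,
        fun i => congrArg Subtype.val (congrFun hR i)⟩
    have htop : ∀ T : C, J.IsClosed (⊤ : Sieve T) :=
      fun T Y f _ => trivial
    -- monos
    have hmonoL : ∀ j, Mono ((presheafToSheaf J (Type u)).map (yoneda.map (s j))) := by
      intro j
      haveI : FinitaryExtensive (Sheaf J (Type u)) := inferInstance
      haveI : MonoCoprod (Sheaf J (Type u)) :=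
        CategoryTheory.instMonoCoprodOfFinitaryExtensive
      haveI : HasColimitsOfShape (Discrete ((Set.range (fun _ : Unit ↦ j))ᶜ : Set ι))
          (Sheaf J (Type u)) := Sheaf.instHasColimitsOfShape
      exact MonoCoprod.mono_inj
          (fun i => (presheafToSheaf J (Type u)).obj (yoneda.obj (Y i)))
          (Cofan.mk ((presheafToSheaf J (Type u)).obj (yoneda.obj X))
            (fun i => (presheafToSheaf J (Type u)).map
              (yoneda.map (s i)))) hcL j
    -- covering
    have hcov : Sieve.ofArrows Y s ∈ J X := by
      rw [← J.close_eq_top_iff_mem]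
      apply hΩinj _ _ (J.close_isClosed _) (htop X)
      intro i
      rw [← J.pullback_close, Sieve.pullback_top,
        Sieve.pullback_eq_top_of_mem _ (Sieve.ofArrows_mk Y s i),
        J.close_eq_top_iff_mem]
      exact J.top_mem _
    -- disjointness
    have hdisj' : ∀ j k, j ≠ k → ∀ (W : C) (u : W ⟶ Y j) (v : W ⟶ Y k), u ≫ s j = v ≫ s k →
        (⊥ : Sieve W) ∈ J W := by
      intro j k hjk W u v huv
      classical
      obtain ⟨R, hRc, hR⟩ := hΩsurj
        (fun i => if i = j then ⊤ else J.close ⊥)
        (fun i => by
          split_ifs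
          · exact htop _
          · exact J.close_isClosed _)
      have hRj : R.pullback (s j) = ⊤ := by rw [hR j, if_pos rfl]
      have hRk : R.pullback (s k) = J.close ⊥ := by
        rw [hR k, if_neg (Ne.symm hjk)]
      have h1 : R (s j) := (Sieve.mem_iff_pullback_eq_top (s j)).2 hRj
      have h2 : R (v ≫ s k) := by
        rw [← huv]
        exact R.downward_closed h1 _
      have h3 : (R.pullback (s k)) v := h2
      rw [hRk] at h3
      refine J.superset_covering ?_ h3
      intro W g hg
      exact hg
    refine ⟨hcov, fun i => ?_, fun i j hij => ?_⟩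
    · haveI := hmonoL i
      have hpb : IsPullback
          ((presheafToSheaf J (Type u)).map (pullback.fst (yoneda.map (s i)) (yoneda.map (s i))))
          ((presheafToSheaf J (Type u)).map (pullback.snd (yoneda.map (s i)) (yoneda.map (s i))))
          ((presheafToSheaf J (Type u)).map (yoneda.map (s i)))
          ((presheafToSheaf J (Type u)).map (yoneda.map (s i))) :=
        (IsPullback.of_hasPullback (yoneda.map (s i)) (yoneda.map (s i))).map
          (presheafToSheaf J (Type u))
      haveI hiso : IsIso ((presheafToSheaf J (Type u)).map
          (pullback.fst (yoneda.map (s i)) (yoneda.map (s i)))) :=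
        IsKernelPair.isIso_of_mono hpb
      have hcomp : (presheafToSheaf J (Type u)).map (pullback.diagonal (yoneda.map (s i))) ≫
          (presheafToSheaf J (Type u)).map (pullback.fst (yoneda.map (s i)) (yoneda.map (s i))) =
          𝟙 _ := by
        rw [← CategoryTheory.Functor.map_comp, pullback.diagonal_fst,
          CategoryTheory.Functor.map_id]
      haveI : IsIso ((presheafToSheaf J (Type u)).map (pullback.diagonal (yoneda.map (s i))) ≫
          (presheafToSheaf J (Type u)).map
            (pullback.fst (yoneda.map (s i)) (yoneda.map (s i)))) := by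
        rw [hcomp]
        exact IsIso.id _
      exact IsIso.of_isIso_comp_right _ ((presheafToSheaf J (Type u)).map
        (pullback.fst (yoneda.map (s i)) (yoneda.map (s i))))
    · have hU : ∀ (F : Sheaf J (Type u)) (Z : C),
          Nonempty ((pullback (yoneda.map (s i)) (yoneda.map (s j))).obj (Opposite.op Z)) →
          Nonempty (Unique (F.obj.obj (Opposite.op Z))) := by
        rintro F Z ⟨p⟩
        have hcond : (pullback.fst (yoneda.map (s i)) (yoneda.map (s j))).app (Opposite.op Z) p ≫
            s i =
            (pullback.snd (yoneda.map (s i)) (yoneda.map (s j))).app (Opposite.op Z) p ≫ s j := by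
          have := congrArg (fun t => (t.app (Opposite.op Z)) p)
            (pullback.condition (f := yoneda.map (s i)) (g := yoneda.map (s j)))
          exact this
        have hZ : (⊥ : Sieve Z) ∈ J Z := hdisj' i j hij Z _ _ hcond
        exact ⟨Types.isTerminalEquivUnique _ (Sheaf.isTerminalOfBotCover F Z hZ)⟩
      let φ : ∀ F : Sheaf J (Type u), pullback (yoneda.map (s i)) (yoneda.map (s j)) ⟶ F.obj :=
        fun F =>
        { app := fun Z => ↾(fun p => (hU F Z.unop ⟨p⟩).some.default)
          naturality := by
            intro Z Z' g
            ext p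
            haveI := (hU F Z'.unop ⟨(pullback (yoneda.map (s i)) (yoneda.map (s j))).map g p⟩).some
            exact Subsingleton.elim _ _ }
      refine ⟨IsInitial.ofUniqueHom
        (fun F => ((sheafificationAdjunction J (Type u)).homEquiv _ F).symm (φ F))
        (fun F m => ?_)⟩
      apply ((sheafificationAdjunction J (Type u)).homEquiv _ F).injective
      rw [Equiv.apply_symm_apply]
      ext Z p
      haveI := (hU F Z.unop ⟨p⟩).some
      exact @Subsingleton.elim (F.obj.obj (Opposite.op Z.unop)) inferInstance _ _

end Groth.Agent.S12108
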