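import Groth.Statements.S12109
import Mathlib
import Groth.Agent.Lib.IndLan2_helper8

set_option autoImplicit false
open CategoryTheory CategoryTheory.Limits
universe u
open SGA4

namespace Groth.Agent.S12109

/-- Let `u : C ⥤ C'` be a functor between small categories and `u_!` the left Kan extension functor on
presheaves of sets, whose restriction to ind-representable presheaves is the induced functor `Ind C
⥤ Ind C'`. Then `Ind(u)` is an equivalence — `u_!` is bijective on morphisms between
ind-representable presheaves on `C` and every ind-representable presheaf on `C'` is isomorphic to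
`u_! F` for some ind-representable `F` — if and only if `u` is full and faithful and every object of
`C'` is a retract (direct factor) of an object `u X`. -/
theorem result
    {C : Type u} [SmallCategory C] {C' : Type u} [SmallCategory C'] (u : C ⥤ C') :
    ((∀ (F G : Cᵒᵖ ⥤ Type u), IsIndObject F → IsIndObject G →
        Function.Bijective (fun φ : F ⟶ G => (u.op.lan : (Cᵒᵖ ⥤ Type u) ⥤ (C'ᵒᵖ ⥤ Type u)).map φ)) ∧
      (∀ G' : C'ᵒᵖ ⥤ Type u, IsIndObject G' →
        ∃ F : Cᵒᵖ ⥤ Type u, IsIndObject F ∧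
          Nonempty ((u.op.lan : (Cᵒᵖ ⥤ Type u) ⥤ (C'ᵒᵖ ⥤ Type u)).obj F ≅ G'))) ↔
    ((u.Full ∧ u.Faithful) ∧
      ∀ X' : C', ∃ (X : C) (i : X' ⟶ u.obj X) (r : u.obj X ⟶ X'), i ≫ r = 𝟙 X') := by
  constructor
  · rintro ⟨hA, hB⟩
    have hfull : u.Full := Groth.Agent.Lib.IndLanH8.full_of_surjective u
      (fun X Y => (hA _ _ (isIndObject_yoneda X) (isIndObject_yoneda Y)).2)
    have hfaith : u.Faithful := Groth.Agent.Lib.IndLanH8.faithful_of_injective u
      (fun X Y => (hA _ _ (isIndObject_yoneda X) (isIndObject_yoneda Y)).1)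
    refine ⟨⟨hfull, hfaith⟩, fun X' => ?_⟩
    obtain ⟨F, hF, ⟨σ⟩⟩ := hB (yoneda.obj X') (isIndObject_yoneda X')
    obtain ⟨PF⟩ := hF.nonempty_presentation
    obtain ⟨j, a', ha'⟩ := Groth.Agent.Lib.IndLanH8.exists_factor_lan u PF.isColimit σ.inv
    refine ⟨PF.F.obj j, a', yoneda.preimage
      (Groth.Agent.Lib.IndLanH8.lanLeg u (Limits.Cocone.mk F PF.ι) j ≫ σ.hom), ?_⟩
    apply yoneda.map_injective
    rw [CategoryTheory.Functor.map_comp, Functor.map_preimage, ← Category.assoc]
    have ha'' : σ.inv = yoneda.map a' ≫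
        Groth.Agent.Lib.IndLanH8.lanLeg u (Limits.Cocone.mk F PF.ι) j := ha'
    rw [← ha'', Iso.inv_hom_id, CategoryTheory.Functor.map_id]
  · rintro ⟨⟨hfull, hfaith⟩, hR⟩
    refine ⟨fun F G hF hG => ⟨Groth.Agent.Lib.IndLanH8.lan_map_injective u hF hG,
      Groth.Agent.Lib.IndLanH8.lan_map_surjective u hF hG⟩, fun G' hG' => ?_⟩
    refine ⟨u.op ⋙ G', Groth.Agent.Lib.IndLanH8.isIndObject_restrict u hR hG', ⟨?_⟩⟩
    haveI := Groth.Agent.Lib.IndLanH8.isIso_counit_restrict u hR G'
    exact asIso ((u.op.lanAdjunction (Type u)).counit.app G')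

end Groth.Agent.S12109
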