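import Groth.Statements.S1212
import Mathlib

set_option autoImplicit false
universe u
open FlatMor

namespace Groth.Agent.S1212

section
open TensorProduct IsLocalRing

theorem core2 {R : Type u} [CommRing R] [IsLocalRing R] {N : Type u} [AddCommGroup N]
    [Module R N] (M : Type u) [AddCommGroup M] [Module R M]
    (P : Submodule R N) [Module.Finite R P] (π : N →ₗ[R] P) (hπ : ∀ p : P, π (p : N) = p)
    (β : N →ₗ[R] N) (hβ : ∀ n, β n ∈ (maximalIdeal R • ⊤ : Submodule R N))
    (z' : P ⊗[R] M)
    (hz : (β.rTensor M) ((P.subtype.rTensor M) z') = (P.subtype.rTensor M) z') : z' = 0 := by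
  obtain ⟨G, hG⟩ : ∃ G : P →ₗ[R] P, G = π ∘ₗ β ∘ₗ P.subtype := ⟨_, rfl⟩
  have hπ𝔪 : ∀ n ∈ (maximalIdeal R • ⊤ : Submodule R N),
      π n ∈ (maximalIdeal R • ⊤ : Submodule R P) := by
    intro n hn
    refine Submodule.smul_induction_on hn ?_ ?_
    · intro r hr n' _
      rw [map_smul]
      exact Submodule.smul_mem_smul hr Submodule.mem_top
    · intro x y hx hy
      rw [map_add]; exact add_mem hx hy
  have hG𝔪 : ∀ p : P, G p ∈ (maximalIdeal R • ⊤ : Submodule R P) := by
    intro p
    rw [hG]
    show π (β (p : N)) ∈ _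
    exact hπ𝔪 _ (hβ _)
  obtain ⟨T, hT⟩ : ∃ T : P →ₗ[R] P, T = 1 - G := ⟨_, rfl⟩
  have hTsurj : Function.Surjective T := by
    rw [← LinearMap.range_eq_top]
    refine eq_top_iff.2 (Submodule.le_of_le_smul_of_le_jacobson_bot (I := maximalIdeal R)
      Module.Finite.fg_top (IsLocalRing.maximalIdeal_le_jacobson _) ?_)
    intro p _
    have h5 : p = T p + G p := by rw [hT]; simp
    rw [h5]
    exact Submodule.add_mem_sup (LinearMap.mem_range_self T p) (hG𝔪 p)
  have hTinj : Function.Injective T := OrzechProperty.injective_of_surjective_endomorphism T hTsurj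
  have hTr : Function.Injective (T.rTensor M) := by
    obtain ⟨e, he⟩ : ∃ e : P ≃ₗ[R] P, ∀ x, e x = T x :=
      ⟨LinearEquiv.ofBijective T ⟨hTinj, hTsurj⟩, fun _ => rfl⟩
    have h8 : T.rTensor M = ((e.rTensor M : _ ≃ₗ[R] _) : P ⊗[R] M →ₗ[R] P ⊗[R] M) := by
      refine TensorProduct.ext' fun n m => ?_
      simp [he]
    intro w1 w2 h12
    rw [h8] at h12
    exact (e.rTensor M).injective h12
  have hTz : (T.rTensor M) z' = 0 := by
    have h9 : (G.rTensor M) z' = z' := by
      rw [hG, LinearMap.rTensor_comp, LinearMap.rTensor_comp]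
      simp only [LinearMap.comp_apply]
      rw [hz, ← LinearMap.comp_apply, ← LinearMap.rTensor_comp]
      have h10 : π ∘ₗ P.subtype = LinearMap.id := by ext p; simp [hπ]
      rw [h10, LinearMap.rTensor_id, LinearMap.id_apply]
    rw [hT, LinearMap.rTensor_sub, LinearMap.sub_apply, h9]
    simp [Module.End.one_eq_id]
  exact hTr (by rw [hTz, map_zero])

theorem core {R : Type u} [CommRing R] [IsLocalRing R] (ι : Type u) (M : Type u)
    [AddCommGroup M] [Module R M]
    (β : (ι →₀ R) →ₗ[R] (ι →₀ R))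
    (hβ : ∀ l, β l ∈ (maximalIdeal R • ⊤ : Submodule R (ι →₀ R)))
    (z : (ι →₀ R) ⊗[R] M) (hz : (β.rTensor M) z = z) : z = 0 := by
  classical
  have hmono : ∀ {P P' : Submodule R (ι →₀ R)}, P ≤ P' →
      LinearMap.range (P.subtype.rTensor M) ≤ LinearMap.range (P'.subtype.rTensor M) := by
    intro P P' h
    have h2 : P.subtype = P'.subtype ∘ₗ Submodule.inclusion h := by ext x; rfl
    rw [h2, LinearMap.rTensor_comp]
    exact LinearMap.range_comp_le_range _ _
  have hex : ∀ w : (ι →₀ R) ⊗[R] M, ∃ J : Finset ι,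
      w ∈ LinearMap.range ((Finsupp.supported R R (J : Set ι)).subtype.rTensor M) := by
    intro w
    induction w using TensorProduct.induction_on with
    | zero => exact ⟨∅, zero_mem _⟩
    | tmul l m =>
      have hl : l ∈ Finsupp.supported R R (l.support : Set ι) := by
        rw [Finsupp.mem_supported]
      exact ⟨l.support,
        ⟨(⟨l, hl⟩ : ↥(Finsupp.supported R R (l.support : Set ι))) ⊗ₜ m, by simp⟩⟩
    | add w1 w2 h1 h2 =>
      obtain ⟨s1, hs1⟩ := h1
      obtain ⟨s2, hs2⟩ := h2
      refine ⟨s1 ∪ s2, add_mem (hmono ?_ hs1) (hmono ?_ hs2)⟩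
      · exact Finsupp.supported_mono (by
          intro i hi; exact Finset.mem_coe.mpr (Finset.mem_union_left _ (Finset.mem_coe.mp hi)))
      · exact Finsupp.supported_mono (by
          intro i hi; exact Finset.mem_coe.mpr (Finset.mem_union_right _ (Finset.mem_coe.mp hi)))
  obtain ⟨J, z', hz'⟩ := hex z
  haveI : Finite (J : Set ι) := J.finite_toSet
  haveI : Module.Finite R (Finsupp.supported R R (J : Set ι)) :=
    Module.Finite.equiv (Finsupp.supportedEquivFinsupp (M := R) (R := R) (J : Set ι)).symm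
  have hπ : ∀ p : Finsupp.supported R R (J : Set ι),
      (Finsupp.restrictDom R R (J : Set ι)) (p : ι →₀ R) = p := fun p =>
    LinearMap.congr_fun (Finsupp.restrictDom_comp_subtype (M := R) (R := R) (s := (J : Set ι))) p
  have hz0 := core2 M (Finsupp.supported R R (J : Set ι)) (Finsupp.restrictDom R R (J : Set ι)) hπ
    β hβ z' (by rw [hz', hz])
  rw [← hz', hz0, map_zero]

theorem main {R S : Type u} [CommRing R] [IsLocalRing R] [CommRing S] [Algebra R S]
    (N : Type u) [AddCommGroup N] [Module S N] [Module R N] [IsScalarTower R S N]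
    [Module.Projective R N] (M : Type u) [AddCommGroup M] [Module R M]
    (q : Ideal S) [q.IsPrime] (hq : q ∈ FlatCA.ass S (N ⊗[R] M)) :
    q ⊔ (maximalIdeal R).map (algebraMap R S) ≠ ⊤ := by
  classical
  intro htop
  obtain ⟨hqp, z, hz⟩ := hq
  have h1 : (1 : S) ∈ q ⊔ (maximalIdeal R).map (algebraMap R S) := by rw [htop]; trivial
  obtain ⟨a, ha, b, hb, hab⟩ := Submodule.mem_sup.1 h1
  obtain ⟨βN, hβdef⟩ : ∃ β : N →ₗ[R] N, ∀ x, β x = b • x :=
    ⟨DistribMulAction.toLinearMap R N b, fun _ => rfl⟩
  have hβact : ∀ w : N ⊗[R] M, (βN.rTensor M) w = b • w := by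
    intro w
    induction w using TensorProduct.induction_on with
    | zero => simp
    | tmul n m => rw [LinearMap.rTensor_tmul, hβdef, TensorProduct.smul_tmul']
    | add w1 w2 h1 h2 => rw [map_add, h1, h2, smul_add]
  have haz : a • z = 0 := by
    have : a ∈ (Submodule.span S {z}).annihilator := hz ▸ ha
    exact (Submodule.mem_annihilator_span_singleton z a).1 this
  have hbz : b • z = z := by
    have h7 : (a + b) • z = z := by rw [hab, one_smul]
    rwa [add_smul, haz, zero_add] at h7
  obtain ⟨s, hs⟩ := Module.projective_def'.mp (inferInstance : Module.Projective R N)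
  obtain ⟨π, hπdef⟩ : ∃ π : (N →₀ R) →ₗ[R] N, π = Finsupp.linearCombination R id := ⟨_, rfl⟩
  rw [← hπdef] at hs
  obtain ⟨β, hβ0⟩ : ∃ β : (N →₀ R) →ₗ[R] (N →₀ R), β = s ∘ₗ (βN ∘ₗ π) := ⟨_, rfl⟩
  have hβ : ∀ l, β l ∈ (maximalIdeal R • ⊤ : Submodule R (N →₀ R)) := by
    intro l
    have hPred : ∀ c ∈ (maximalIdeal R).map (algebraMap R S), ∀ n : N,
        s (c • n) ∈ (maximalIdeal R • ⊤ : Submodule R (N →₀ R)) := by
      intro c hc
      refine Submodule.span_induction
        (p := fun c _ => ∀ n : N, s (c • n) ∈ (maximalIdeal R • ⊤ : Submodule R (N →₀ R)))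
        ?_ ?_ ?_ ?_ hc
      · rintro _ ⟨x, hx, rfl⟩ n
        rw [algebraMap_smul, map_smul]
        exact Submodule.smul_mem_smul hx Submodule.mem_top
      · intro n; rw [zero_smul, map_zero]; exact zero_mem _
      · intro c d _ _ hc hd n; rw [add_smul, map_add]; exact add_mem (hc n) (hd n)
      · intro t c _ hc n
        rw [smul_eq_mul, mul_comm, mul_smul]
        exact hc (t • n)
    rw [hβ0]
    show s (βN (π l)) ∈ _
    rw [hβdef]; exact hPred b hb _
  have hπs : ∀ w : N ⊗[R] M, (π.rTensor M) ((s.rTensor M) w) = w := by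
    intro w
    rw [← LinearMap.comp_apply, ← LinearMap.rTensor_comp, hs, LinearMap.rTensor_id,
      LinearMap.id_apply]
  have hzL : (β.rTensor M) ((s.rTensor M) z) = (s.rTensor M) z := by
    rw [hβ0, LinearMap.rTensor_comp, LinearMap.rTensor_comp]
    simp only [LinearMap.comp_apply]
    rw [hπs, hβact, hbz]
  have hzL0 := core N M β hβ _ hzL
  have hz0 : z = 0 := by
    rw [← hπs z, hzL0, map_zero]
  apply hqp.ne_top
  rw [hz, hz0, eq_top_iff]
  intro t _
  rw [Submodule.mem_annihilator_span_singleton, smul_zero]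
end

open TensorProduct IsLocalRing in
/-- Let R be a local ring, S an R-algebra and N an S-module which is projective as an R-module, such
that the closed fibre ring of S is Noetherian and the closed fibre module of N is finite over it.
Then every prime q of S, over p in R, which is an associated prime (the annihilator of an element)
of the S-module N ⊗_R κ(p) satisfies q + 𝔪_R S ≠ S. -/
theorem result {R S : Type u} [CommRing R] [IsLocalRing R] [CommRing S] [Algebra R S]
    (N : Type u) [AddCommGroup N] [Module S N] [Module R N] [IsScalarTower R S N] [Module.Projective R N]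
    [IsNoetherianRing ((maximalIdeal R).Fiber S)]
    [Module.Finite ((maximalIdeal R).Fiber S) (FlatCA.fiberMod (maximalIdeal R) S N)]
    (p : Ideal R) [p.IsPrime] (q : Ideal S) [q.IsPrime] [q.LiesOver p]
    (hq : q ∈ FlatCA.ass S (N ⊗[R] p.ResidueField)) :
    q ⊔ (maximalIdeal R).map (algebraMap R S) ≠ ⊤ := by
  exact main N p.ResidueField q hq

end Groth.Agent.S1212
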