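import Groth.Statements.S12121
import Mathlib
import Groth.Agent.Lib.SkEmb_helper6
-- import your own Groth.Agent.* helpers here

set_option autoImplicit false
universe u
open EGA4

namespace Groth.Agent.S12121

/-- Let A be a Noetherian ring, M a finite A-module (a coherent sheaf on X = Spec A) and k ≥ 1. Then M
has property (S_k) — depth M_p ≥ min(k, dim M_p) at every prime p — if and only if, for every basic
open set D(g) of X, every integer r < k and every M_g-regular sequence f_1, …, f_r in A_g, the
module M_g/(f_1, …, f_r)M_g has no embedded associated primes, i.e. no associated prime of it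
strictly contains another one. (The published statement quantifies over all open subsets of a
locally Noetherian scheme; both sides being local, over an affine scheme the basic open sets
suffice.) -/
theorem result (k : ℕ) (hk : 1 ≤ k) (A : Type u) [CommRing A] [IsNoetherianRing A]
    (M : Type u) [AddCommGroup M] [Module A M] [Module.Finite A M] :
    LocCoh.HasSk k A M ↔
      ∀ (g : A) (rs : List (Localization.Away g)), rs.length < k →
        RingTheory.Sequence.IsWeaklyRegular (LocalizedModule (Submonoid.powers g) M) rs →
        ∀ p ∈ associatedPrimes (Localization.Away g)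
            (LocalizedModule (Submonoid.powers g) M ⧸
              (Ideal.ofList rs • (⊤ : Submodule (Localization.Away g) (LocalizedModule (Submonoid.powers g) M)))),
          ∀ q ∈ associatedPrimes (Localization.Away g)
            (LocalizedModule (Submonoid.powers g) M ⧸
              (Ideal.ofList rs • (⊤ : Submodule (Localization.Away g) (LocalizedModule (Submonoid.powers g) M)))),
            p ≤ q → p = q := by

  constructor
  · intro h g rs hlen hreg p hp q hq hpq
    haveI : IsNoetherianRing (Localization.Away g) :=
      IsLocalization.isNoetherianRing (Submonoid.powers g) _ inferInstance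
    haveI : Module.Finite (Localization.Away g) (LocalizedModule (Submonoid.powers g) M) :=
      Module.Finite.of_isLocalizedModule (Submonoid.powers g)
        (LocalizedModule.mkLinearMap (Submonoid.powers g) M)
    have h' : LocCoh.HasSk k (Localization.Away g) (LocalizedModule (Submonoid.powers g) M) :=
      Groth.Agent.Lib.SkEmb_helper6.hasSk_localizedModule M (Submonoid.powers g) k h
    exact Groth.Agent.Lib.SkEmb_helper6.noEmbedded_of_hasSk _ k h' rs hlen hreg p q hp hq hpq
  · intro H P hP
    haveI : IsNoetherianRing (Localization.AtPrime P) :=
      IsLocalization.isNoetherianRing P.primeCompl _ inferInstance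
    by_cases hkd : (k : ℕ∞) ≤
        LocCoh.depth (Localization.AtPrime P) (LocalizedModule P.primeCompl M)
    · exact le_trans (min_le_left _ _) (by exact_mod_cast hkd)
    · rw [not_le] at hkd
      obtain ⟨d, hd⟩ := ENat.ne_top_iff_exists.1 (ne_top_of_lt hkd)
      have hdk : d < k := by
        rw [← hd] at hkd
        exact_mod_cast hkd
      obtain ⟨f, hfP, hge, -⟩ := Groth.Agent.Lib.DepthSemi_helper6.main P d M hd.symm
      haveI : IsNoetherianRing (Localization.Away f) :=
        IsLocalization.isNoetherianRing (Submonoid.powers f) _ inferInstance
      haveI : Module.Finite (Localization.Away f) (LocalizedModule (Submonoid.powers f) M) :=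
        Module.Finite.of_isLocalizedModule (Submonoid.powers f)
          (LocalizedModule.mkLinearMap (Submonoid.powers f) M)
      have hdisj : Disjoint ((Submonoid.powers f : Submonoid A) : Set A) (P : Set A) := by
        rw [Set.disjoint_left]
        rintro x ⟨n, rfl⟩ hx
        exact hfP (hP.mem_of_pow_mem n hx)
      obtain ⟨P', hP'prime, hcomap⟩ : ∃ P' : Ideal (Localization.Away f), P'.IsPrime ∧
          P'.comap (algebraMap A (Localization.Away f)) = P :=
        ⟨P.map (algebraMap A (Localization.Away f)),
          IsLocalization.isPrime_of_isPrime_disjoint (Submonoid.powers f) _ P hP hdisj,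
          IsLocalization.under_map_of_isPrime_disjoint (Submonoid.powers f) _ hP hdisj⟩
      haveI := hP'prime
      have hdepth : LocCoh.depth (Localization.AtPrime P')
          (LocalizedModule P'.primeCompl (LocalizedModule (Submonoid.powers f) M)) = d := by
        rw [Groth.Agent.Lib.DoubleLoc_helper6.depth_eq M (Submonoid.powers f) P',
          Groth.Agent.Lib.SkEmb_helper6.depth_congr_prime M hcomap]
        exact hd.symm
      have hI : (d : ℕ∞) ≤ LocCoh.idealDepth P' (LocalizedModule (Submonoid.powers f) M) := by
        apply Groth.Agent.DepthLib.le_idealDepth_of_forall_localization P' d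
          (LocalizedModule (Submonoid.powers f) M)
        intro Q hQ hP'Q
        rw [Groth.Agent.Lib.DoubleLoc_helper6.depth_eq M (Submonoid.powers f) Q]
        refine hge _ ?_ ?_
        · rw [← hcomap]
          exact Ideal.comap_mono hP'Q
        · intro hfQ
          exact hQ.ne_top (Ideal.eq_top_of_isUnit_mem _ (Ideal.mem_comap.1 hfQ)
            (IsLocalization.map_units _
              (⟨f, Submonoid.mem_powers f⟩ : Submonoid.powers f)))
      have hdim := Groth.Agent.Lib.SkEmb_helper6.supportDim_le_of_noEmbedded
        (LocalizedModule (Submonoid.powers f) M) P' d hdepth hI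
        (fun rs hlen hreg p hp q hq hpq =>
          H f rs (by rw [hlen]; exact hdk) hreg p hp q hq hpq)
      rw [Groth.Agent.Lib.DoubleLoc_helper6.supportDim_eq M (Submonoid.powers f) P',
        Groth.Agent.Lib.SkEmb_helper6.supportDim_congr_prime M hcomap] at hdim
      refine le_trans (min_le_right _ _) ?_
      rw [← hd]
      exact_mod_cast hdim

end Groth.Agent.S12121
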