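import Groth.Statements.S12123
import Mathlib

set_option autoImplicit false
universe u
open EGA41

namespace Groth.Agent.S12123

section TopGeneral

open Topology

variable {X : Type*} [TopologicalSpace X]

theorem isClopen_of_isCompact_isOpen {V : Set X} (hc : IsCompact V) (ho : IsOpen V) :
    IsClopen (WithTopology.ofTopology (t := constructibleTopology X) ⁻¹' V) := by
  constructor
  · rw [WithConstructibleTopology.isClosed_iff]
    show IsClosed[constructibleTopology X] V
    exact @IsClosed.mk X (constructibleTopology X) V
      (IsCompact.isOpen_constructibleTopology_of_isClosed (by rwa [compl_compl])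
        ho.isClosed_compl)
  · rw [WithConstructibleTopology.isOpen_iff]
    exact hc.isOpen_constructibleTopology_of_isOpen ho

theorem totallySeparated_withConstructible [T0Space X] [PrespectralSpace X] :
    TotallySeparatedSpace (WithConstructibleTopology X) := by
  rw [totallySeparatedSpace_iff_exists_isClopen]
  intro y₁ y₂ hne
  have hne' : WithTopology.ofTopology y₁ ≠ WithTopology.ofTopology y₂ :=
    fun h => hne (WithTopology.ofTopology_injective _ h)
  obtain ⟨U, hU, hx⟩ := exists_isOpen_xor_mem hne'
  rcases hx with ⟨h1, h2⟩ | ⟨h2, h1⟩
  · obtain ⟨V, ⟨hVo, hVc⟩, hxV, hVU⟩ :=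
      PrespectralSpace.isTopologicalBasis.exists_subset_of_mem_open h1 hU
    exact ⟨_, isClopen_of_isCompact_isOpen hVc hVo, hxV, fun h => h2 (hVU h)⟩
  · obtain ⟨V, ⟨hVo, hVc⟩, hxV, hVU⟩ :=
      PrespectralSpace.isTopologicalBasis.exists_subset_of_mem_open h2 hU
    refine ⟨_, (isClopen_of_isCompact_isOpen hVc hVo).compl, fun h => h1 (hVU h), ?_⟩
    rw [compl_compl]
    exact hxV

theorem continuous_val_constructible [QuasiSeparatedSpace X] {V : Set X} (hVo : IsOpen V)
    (hVc : IsCompact V) :
    Continuous[constructibleTopology ↥V, constructibleTopology X] (Subtype.val : ↥V → X) := by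
  have hind : Topology.IsInducing (Subtype.val : ↥V → X) := Topology.IsInducing.subtypeVal
  have hpre : ∀ s : Set X, IsOpen s → IsCompact s →
      IsCompact ((Subtype.val : ↥V → X) ⁻¹' s) := by
    intro s hso hsc
    have h1 : (Subtype.val : ↥V → X) ⁻¹' s = (Subtype.val : ↥V → X) ⁻¹' (s ∩ V) := by
      ext x
      simp
    rw [h1]
    refine hind.isCompact_preimage' (hsc.inter_of_isOpen hVc hso hVo) ?_
    rw [Subtype.range_val]
    exact Set.inter_subset_right
  rw [continuous_generateFrom_iff]
  rintro s (⟨hso, hsc⟩ | ⟨hscl, hsc⟩)
  · exact (hpre s hso hsc).isOpen_constructibleTopology_of_isOpen (hso.preimage continuous_subtype_val)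
  · refine IsCompact.isOpen_constructibleTopology_of_isClosed ?_
      (hscl.preimage continuous_subtype_val)
    rw [← Set.preimage_compl]
    exact hpre _ hscl.isOpen_compl hsc

theorem weaklyLocallyCompact_withConstructible [QuasiSober X] [PrespectralSpace X]
    [QuasiSeparatedSpace X] :
    WeaklyLocallyCompactSpace (WithConstructibleTopology X) := by
  constructor
  intro y
  obtain ⟨V, ⟨hVo, hVc⟩, hxV, -⟩ :=
    PrespectralSpace.isTopologicalBasis.exists_subset_of_mem_open
      (Set.mem_univ (WithTopology.ofTopology y)) isOpen_univ
  refine ⟨WithTopology.ofTopology (t := constructibleTopology X) ⁻¹' V, ?_,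
    (isClopen_of_isCompact_isOpen hVc hVo).isOpen.mem_nhds hxV⟩
  have hemb : Topology.IsOpenEmbedding (Subtype.val : ↥V → X) := hVo.isOpenEmbedding_subtypeVal
  have : CompactSpace ↥V := isCompact_iff_compactSpace.mp hVc
  have : QuasiSober ↥V := hemb.quasiSober
  have : PrespectralSpace ↥V := hemb.prespectralSpace
  have : QuasiSeparatedSpace ↥V := QuasiSeparatedSpace.of_isOpenEmbedding hemb
  have hcpt : CompactSpace (WithConstructibleTopology ↥V) := inferInstance
  let j : WithConstructibleTopology ↥V → WithConstructibleTopology X :=
    fun v => WithTopology.toTopology _ (WithTopology.ofTopology v).1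
  have hj : Continuous j := by
    rw [continuous_def]
    intro s hs
    rw [WithConstructibleTopology.isOpen_iff] at hs ⊢
    exact @Continuous.isOpen_preimage _ _ (constructibleTopology ↥V) (constructibleTopology X) _
      (continuous_val_constructible hVo hVc) _ hs
  have himg : WithTopology.ofTopology (t := constructibleTopology X) ⁻¹' V = Set.range j := by
    ext y
    constructor
    · intro hy
      exact ⟨WithTopology.toTopology _ ⟨WithTopology.ofTopology y, hy⟩, rfl⟩
    · rintro ⟨v, rfl⟩
      exact (WithTopology.ofTopology v).2
  rw [himg]
  exact isCompact_range hj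

end TopGeneral


open AlgebraicGeometry Topology in
/-- Let X be a quasi-separated scheme and X^cons its underlying set with the constructible topology,
generated by the quasi-compact open subsets and their complements (for X quasi-separated this is the
topology whose open sets are the ind-constructible subsets). Then X^cons is a Hausdorff, locally
compact, totally disconnected space. (The published statement also asserts that X^cons is Hausdorff
only if X is quasi-separated; for the topology used here that converse fails when X is not
quasi-separated, where the two constructible topologies differ, so it is not part of this row.) -/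
theorem result (X : Scheme.{u}) [QuasiSeparatedSpace X] :
    T2Space (WithConstructibleTopology X) ∧ LocallyCompactSpace (WithConstructibleTopology X) ∧
      TotallyDisconnectedSpace (WithConstructibleTopology X) := by
  have h1 : TotallySeparatedSpace (WithConstructibleTopology X) :=
    totallySeparated_withConstructible
  have h2 : WeaklyLocallyCompactSpace (WithConstructibleTopology X) :=
    weaklyLocallyCompact_withConstructible
  have h3 : T2Space (WithConstructibleTopology X) := inferInstance
  exact ⟨h3, inferInstance, inferInstance⟩

end Groth.Agent.S12123
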