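import Groth.Statements.S12135
import Mathlib
import Groth.Agent.S12123

set_option autoImplicit false
universe u
open EGA41

namespace Groth.Agent.S12135

section TopGeneral

open Topology

variable {X : Type*} [TopologicalSpace X]

/-- A compact open subset of `X` is compact for the constructible topology. -/
theorem isCompact_preimage_ofTopology [QuasiSober X] [PrespectralSpace X]
    [QuasiSeparatedSpace X] {V : Set X} (hVo : IsOpen V) (hVc : IsCompact V) :
    IsCompact (WithTopology.ofTopology (t := constructibleTopology X) ⁻¹' V) := by
  have hemb : Topology.IsOpenEmbedding (Subtype.val : ↥V → X) := hVo.isOpenEmbedding_subtypeVal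
  have : CompactSpace ↥V := isCompact_iff_compactSpace.mp hVc
  have : QuasiSober ↥V := hemb.quasiSober
  have : PrespectralSpace ↥V := hemb.prespectralSpace
  have : QuasiSeparatedSpace ↥V := QuasiSeparatedSpace.of_isOpenEmbedding hemb
  have hcpt : CompactSpace (WithConstructibleTopology ↥V) := inferInstance
  let j : WithConstructibleTopology ↥V → WithConstructibleTopology X :=
    fun v => WithTopology.toTopology _ (WithTopology.ofTopology v).1
  have hj : Continuous j := by
    rw [continuous_def]
    intro s hs
    rw [WithConstructibleTopology.isOpen_iff] at hs ⊢
    exact @Continuous.isOpen_preimage _ _ (constructibleTopology ↥V) (constructibleTopology X) _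
      (Groth.Agent.S12123.continuous_val_constructible hVo hVc) _ hs
  have himg : WithTopology.ofTopology (t := constructibleTopology X) ⁻¹' V = Set.range j := by
    ext y
    constructor
    · intro hy
      exact ⟨WithTopology.toTopology _ ⟨WithTopology.ofTopology y, hy⟩, rfl⟩
    · rintro ⟨v, rfl⟩
      exact (WithTopology.ofTopology v).2
  rw [himg]
  exact isCompact_range hj

/-- The constructible topology is finer than the original one. -/
theorem continuous_ofTopology_orig [PrespectralSpace X] :
    Continuous (WithTopology.ofTopology (t := constructibleTopology X) :
      WithConstructibleTopology X → X) := by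
  rw [PrespectralSpace.isTopologicalBasis.continuous_iff]
  rintro s ⟨hso, hsc⟩
  exact (Groth.Agent.S12123.isClopen_of_isCompact_isOpen hsc hso).isOpen

theorem isProperMap_transfer {α β : Type*} [tα : TopologicalSpace α] [tβ : TopologicalSpace β]
    (φ : α → β) :
    IsProperMap φ ↔ IsProperMap (fun w : WithTopology α tα =>
      WithTopology.toTopology tβ (φ (WithTopology.ofTopology w))) := by
  let hα : α ≃ₜ WithTopology α tα :=
    { toFun := WithTopology.toTopology tα
      invFun := WithTopology.ofTopology
      left_inv := fun _ => rfl
      right_inv := fun _ => rfl
      continuous_toFun := WithTopology.continuous_toTopology tα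
      continuous_invFun := WithTopology.continuous_ofTopology tα }
  let hβ : β ≃ₜ WithTopology β tβ :=
    { toFun := WithTopology.toTopology tβ
      invFun := WithTopology.ofTopology
      left_inv := fun _ => rfl
      right_inv := fun _ => rfl
      continuous_toFun := WithTopology.continuous_toTopology tβ
      continuous_invFun := WithTopology.continuous_ofTopology tβ }
  constructor
  · intro h
    exact hβ.isProperMap.comp (h.comp hα.symm.isProperMap)
  · intro h
    exact hβ.symm.isProperMap.comp (h.comp hα.isProperMap)

variable {Y : Type*} [TopologicalSpace Y]

theorem isProperMap_constructible_iff [T0Space X] [QuasiSober X] [PrespectralSpace X]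
    [QuasiSeparatedSpace X] [T0Space Y] [QuasiSober Y] [PrespectralSpace Y]
    [QuasiSeparatedSpace Y] (φ : X → Y) (hφ : Continuous φ) :
    (∀ U : Set Y, IsOpen U → IsCompact U → IsCompact (φ ⁻¹' U)) ↔
      IsProperMap (fun w : WithConstructibleTopology X =>
        WithTopology.toTopology (constructibleTopology Y) (φ (WithTopology.ofTopology w))) := by
  have hTS : TotallySeparatedSpace (WithConstructibleTopology Y) :=
    Groth.Agent.S12123.totallySeparated_withConstructible
  have hWL : WeaklyLocallyCompactSpace (WithConstructibleTopology Y) :=
    Groth.Agent.S12123.weaklyLocallyCompact_withConstructible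
  have hT2 : T2Space (WithConstructibleTopology Y) := inferInstance
  constructor
  · intro H
    have hcont' : Continuous[constructibleTopology X, constructibleTopology Y] φ := by
      rw [continuous_generateFrom_iff]
      rintro s (⟨hso, hsc⟩ | ⟨hscl, hsc⟩)
      · exact (H s hso hsc).isOpen_constructibleTopology_of_isOpen (hso.preimage hφ)
      · refine IsCompact.isOpen_constructibleTopology_of_isClosed ?_ (hscl.preimage hφ)
        rw [← Set.preimage_compl]
        exact H _ hscl.isOpen_compl hsc
    have hcont : Continuous (fun w : WithConstructibleTopology X =>
        WithTopology.toTopology (constructibleTopology Y) (φ (WithTopology.ofTopology w))) := by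
      rw [continuous_def]
      intro s hs
      rw [WithConstructibleTopology.isOpen_iff] at hs ⊢
      exact @Continuous.isOpen_preimage _ _ (constructibleTopology X) (constructibleTopology Y) _
        hcont' _ hs
    rw [isProperMap_iff_isCompact_preimage]
    refine ⟨hcont, fun K hK => ?_⟩
    have hVy : ∀ y : WithConstructibleTopology Y, ∃ V : Set Y, IsOpen V ∧ IsCompact V ∧
        WithTopology.ofTopology y ∈ V := by
      intro y
      obtain ⟨V, ⟨hVo, hVc⟩, hxV, -⟩ :=
        PrespectralSpace.isTopologicalBasis.exists_subset_of_mem_open
          (Set.mem_univ (WithTopology.ofTopology y)) isOpen_univ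
      exact ⟨V, hVo, hVc, hxV⟩
    choose V hVo hVc hyV using hVy
    obtain ⟨t, -, htK⟩ := hK.elim_nhds_subcover
      (fun y => WithTopology.ofTopology (t := constructibleTopology Y) ⁻¹' V y)
      (fun y _ => (Groth.Agent.S12123.isClopen_of_isCompact_isOpen (hVc y) (hVo y)).isOpen.mem_nhds
        (hyV y))
    have hbig : IsCompact (⋃ y ∈ t,
        WithTopology.ofTopology (t := constructibleTopology X) ⁻¹' (φ ⁻¹' V y)) :=
      t.isCompact_biUnion fun y _ =>
        isCompact_preimage_ofTopology ((hVo y).preimage hφ) (H _ (hVo y) (hVc y))
    refine hbig.of_isClosed_subset (hK.isClosed.preimage hcont) ?_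
    intro w hw
    have h1 := htK hw
    simp only [Set.mem_iUnion, Set.mem_preimage] at h1 ⊢
    exact h1
  · intro H U hUo hUc
    have h1 := H.isCompact_preimage (isCompact_preimage_ofTopology hUo hUc)
    have h2 := h1.image continuous_ofTopology_orig
    convert h2 using 1
    ext x
    constructor
    · intro hx
      exact ⟨WithTopology.toTopology _ x, hx, rfl⟩
    · rintro ⟨w, hw, rfl⟩
      exact hw

end TopGeneral


open AlgebraicGeometry Topology in
/-- Let f : X → Y be a morphism of schemes with X and Y quasi-separated, and let X^cons, Y^cons denote
the underlying sets with the constructible topology (generated by the quasi-compact open subsets and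
their complements; for quasi-separated schemes the open sets are exactly the ind-constructible
subsets). Then f is quasi-compact if and only if the map X^cons → Y^cons underlying f is proper
(continuous and universally closed). (The published statement is for arbitrary schemes with the
ind-constructible topology; this row covers the quasi-separated case, where that topology is the one
used here.) -/
theorem result {X Y : Scheme.{u}} [QuasiSeparatedSpace X]
    [QuasiSeparatedSpace Y] (f : X ⟶ Y) :
    QuasiCompact f ↔ @IsProperMap X Y (constructibleTopology X) (constructibleTopology Y) f := by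
  rw [@isProperMap_transfer X Y (constructibleTopology X) (constructibleTopology Y) f,
    ← isProperMap_constructible_iff (fun x => f x) f.continuous]
  exact ⟨fun h => h.1, fun h => ⟨h⟩⟩

end Groth.Agent.S12135
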