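import Groth.Statements.S12122
import Mathlib
import Groth.Agent.S12123
import Groth.Agent.S12135

set_option autoImplicit false
universe u
open EGA41

namespace Groth.Agent.S12122

section TopGeneral

open Topology

variable {X : Type*} [TopologicalSpace X]

local notation "o" => (WithTopology.ofTopology (t := constructibleTopology X))

theorem isOpen_preimage_of_isOpen [PrespectralSpace X] {U : Set X} (hU : IsOpen U) :
    IsOpen (o ⁻¹' U) :=
  hU.preimage Groth.Agent.S12135.continuous_ofTopology_orig

theorem isClopen_of_retrocompact [PrespectralSpace X] {U : Set X} (hU : IsOpen U)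
    (hr : IsRetrocompact U) : IsClopen (o ⁻¹' U) := by
  refine ⟨?_, isOpen_preimage_of_isOpen hU⟩
  rw [← isOpen_compl_iff, isOpen_iff_forall_mem_open]
  intro w hw
  obtain ⟨V, ⟨hVo, hVc⟩, hxV, -⟩ :=
    PrespectralSpace.isTopologicalBasis.exists_subset_of_mem_open
      (Set.mem_univ (o w)) isOpen_univ
  refine ⟨o ⁻¹' V \ o ⁻¹' (U ∩ V), ?_, ?_, ?_⟩
  · intro w' hw' hU'
    exact hw'.2 ⟨hU', hw'.1⟩
  · exact (Groth.Agent.S12123.isClopen_of_isCompact_isOpen hVc hVo).isOpen.sdiff
      (Groth.Agent.S12123.isClopen_of_isCompact_isOpen (hr hVc hVo) (hU.inter hVo)).isClosed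
  · exact ⟨hxV, fun h => hw h.1⟩

theorem isClopen_of_isConstructible [PrespectralSpace X] {s : Set X}
    (hs : IsConstructible s) : IsClopen (o ⁻¹' s) := by
  unfold IsConstructible at hs
  induction hs using BooleanSubalgebra.closure_bot_sup_induction with
  | mem x hx => exact isClopen_of_retrocompact hx.1 hx.2
  | bot => exact isClopen_empty
  | sup x hx y hy ihx ihy => exact ihx.union ihy
  | compl x hx ih => exact ih.compl

theorem isLocallyConstructible_compl {E : Set X} (hE : IsLocallyConstructible E) :
    IsLocallyConstructible Eᶜ := by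
  intro x
  obtain ⟨U, hxU, hU, hc⟩ := hE x
  refine ⟨U, hxU, hU, ?_⟩
  rw [Set.preimage_compl]
  exact isConstructible_compl.mpr hc

theorem isClopen_of_isLocallyConstructible [PrespectralSpace X] [QuasiSeparatedSpace X]
    {E : Set X} (hE : IsLocallyConstructible E) : IsClopen (o ⁻¹' E) := by
  have key : ∀ E : Set X, IsLocallyConstructible E → IsOpen (o ⁻¹' E) := by
    intro E hE
    rw [isOpen_iff_forall_mem_open]
    intro w hw
    obtain ⟨V, ⟨hVo, hVc⟩, hxV, -⟩ :=
      PrespectralSpace.isTopologicalBasis.exists_subset_of_mem_open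
        (Set.mem_univ (o w)) isOpen_univ
    exact ⟨o ⁻¹' (E ∩ V), fun _ h => h.1,
      (isClopen_of_isConstructible (hE.inter_of_isOpen_isCompact hVo hVc)).isOpen, ⟨hw, hxV⟩⟩
  refine ⟨?_, key E hE⟩
  rw [← isOpen_compl_iff]
  exact key Eᶜ (isLocallyConstructible_compl hE)

theorem isLocallyConstructible_of_isClopen [QuasiSober X] [PrespectralSpace X]
    [QuasiSeparatedSpace X] {E : Set X} (hE : IsClopen (o ⁻¹' E)) :
    IsLocallyConstructible E := by
  have key : ∀ V : Set X, IsOpen V → IsCompact V → IsConstructible (E ∩ V) := by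
    intro V hVo hVc
    have hKc : IsCompact (o ⁻¹' (E ∩ V)) :=
      (Groth.Agent.S12135.isCompact_preimage_ofTopology hVo hVc).of_isClosed_subset
        (hE.isClosed.inter (Groth.Agent.S12123.isClopen_of_isCompact_isOpen hVc hVo).isClosed)
        (fun _ h => h.2)
    have hKo : IsOpen[constructibleTopology X] (E ∩ V) := by
      have h1 := hE.isOpen.inter (Groth.Agent.S12123.isClopen_of_isCompact_isOpen hVc hVo).isOpen
      exact WithConstructibleTopology.isOpen_iff.mp h1
    have hB := @TopologicalSpace.isTopologicalBasis_of_subbasis X (constructibleTopology X)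
      (constructibleTopologySubbasis X) rfl
    have hch : ∀ x : X, x ∈ E ∩ V → ∃ F : Set (Set X), F.Finite ∧
        F ⊆ constructibleTopologySubbasis X ∧ x ∈ ⋂₀ F ∧ ⋂₀ F ⊆ E ∩ V := by
      intro x hx
      obtain ⟨_, ⟨F, ⟨hFf, hFs⟩, rfl⟩, hxF, hFsub⟩ :=
        @TopologicalSpace.IsTopologicalBasis.exists_subset_of_mem_open X
          (constructibleTopology X) _ hB x (E ∩ V) hx hKo
      exact ⟨F, hFf, hFs, hxF, hFsub⟩
    choose! F hFf hFs hxF hFsub using hch
    obtain ⟨t, htK, htcov⟩ := hKc.elim_nhds_subcover (fun w => o ⁻¹' (⋂₀ F (o w)))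
      (fun w hw => by
        have hopen : IsOpen (o ⁻¹' (⋂₀ F (o w))) := by
          rw [WithConstructibleTopology.isOpen_iff]
          exact @Set.Finite.isOpen_sInter X (constructibleTopology X) _ (hFf _ hw)
            (fun s hs => TopologicalSpace.isOpen_generateFrom_of_mem (hFs _ hw hs))
        exact hopen.mem_nhds (hxF _ hw))
    have hEq : E ∩ V = ⋃ w ∈ t, ⋂₀ F (o w) := by
      apply Set.Subset.antisymm
      · intro x hx
        have h2 := htcov (show WithTopology.toTopology _ x ∈ o ⁻¹' (E ∩ V) from hx)
        simp only [Set.mem_iUnion, Set.mem_preimage] at h2 ⊢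
        exact h2
      · intro x hx
        simp only [Set.mem_iUnion] at hx
        obtain ⟨w, hw, hxw⟩ := hx
        exact hFsub _ (htK w hw) hxw
    rw [hEq]
    refine IsConstructible.biUnion t.finite_toSet
      (fun w hw => IsConstructible.sInter (hFf _ (htK w hw)) (fun s hs => ?_))
    rcases hFs _ (htK w hw) hs with ⟨hso, hsc⟩ | ⟨hscl, hsc⟩
    · exact hsc.isConstructible hso
    · exact isConstructible_compl.mp (hsc.isConstructible hscl.isOpen_compl)
  intro x
  obtain ⟨V, ⟨hVo, hVc⟩, hxV, -⟩ :=
    PrespectralSpace.isTopologicalBasis.exists_subset_of_mem_open (Set.mem_univ x) isOpen_univ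
  refine ⟨V, hVo.mem_nhds hxV, hVo, ?_⟩
  have h1 := (key V hVo hVc).preimage_of_isOpenEmbedding hVo.isOpenEmbedding_subtypeVal
  convert h1 using 1
  ext v
  simp

end TopGeneral


open AlgebraicGeometry Topology in
/-- Let X be a quasi-separated scheme. A subset E of X is locally constructible if and only if it is
both open and closed for the constructible topology of X. Here the constructible topology is the one
generated by the quasi-compact open subsets of X and their complements; when X is quasi-separated
its open sets are exactly the ind-constructible subsets, i.e. it is the constructible topology of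
the source (for a scheme that is not quasi-separated the two topologies differ, and this row does
not cover that case). -/
theorem result (X : Scheme.{u}) [QuasiSeparatedSpace X] (E : Set X) :
    Topology.IsLocallyConstructible E ↔
      (IsOpen[constructibleTopology X] E ∧ IsClosed[constructibleTopology X] E) := by
  constructor
  · intro h
    have hc := isClopen_of_isLocallyConstructible h
    exact ⟨WithConstructibleTopology.isOpen_iff.mp hc.isOpen,
      WithConstructibleTopology.isClosed_iff.mp hc.isClosed⟩
  · rintro ⟨ho, hc⟩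
    exact isLocallyConstructible_of_isClopen
      ⟨WithConstructibleTopology.isClosed_iff.mpr hc, WithConstructibleTopology.isOpen_iff.mpr ho⟩

end Groth.Agent.S12122
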