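import Groth.Statements.S12124
import Groth.Agent.Lib.MoriNagata5_helper3
import Groth.Agent.S4615
-- import your own Groth.Agent.* helpers here

set_option autoImplicit false
universe u
open CAlg


namespace Groth.Agent.S12124

/-- Let A be a Noetherian local domain with fraction field K and A' its integral closure in K. Then A'
is a Krull domain whose essential valuation rings come from a finite sub-A-algebra: there is a
sub-A-algebra C of K, finite over A, such that, writing V_p for the integral closure in K of the
local ring C_p at a height-one prime p of C (the elements x of K with s x integral over C for some s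
in C outside p), (a) each V_p is a discrete valuation ring with fraction field K, (b) A' is the
intersection of the V_p over all height-one primes p of C, and (c) every element of K lies in V_p
for all but finitely many p. (The published statement calls C local and also records that A' is
semi-local; this row does not assert that C is local, and the semi-locality of A' is a separate
result.) -/
theorem result {A : Type u} [CommRing A] [IsDomain A] [IsNoetherianRing A] [IsLocalRing A] :
    ∃ C : Subalgebra A (FractionRing A), Module.Finite A C ∧
      (∀ (p : Ideal C) [p.IsPrime], p.height = 1 →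
        ∃ V : ValuationSubring (FractionRing A), IsDiscreteValuationRing V ∧
          ∀ x : FractionRing A, x ∈ V ↔ ∃ s : C, s ∉ p ∧ IsIntegral C ((s : FractionRing A) * x)) ∧
      (∀ x : FractionRing A, x ∈ integralClosure A (FractionRing A) ↔
        ∀ (p : Ideal C) [p.IsPrime], p.height = 1 → ∃ s : C, s ∉ p ∧ IsIntegral C ((s : FractionRing A) * x)) ∧
      (∀ x : FractionRing A, {p : Ideal C | p.IsPrime ∧ p.height = 1 ∧
        ¬ ∃ s : C, s ∉ p ∧ IsIntegral C ((s : FractionRing A) * x)}.Finite) := by
  obtain ⟨Cα, hCα, -, h2⟩ := Groth.Agent.S4615.result (A := A) (K' := FractionRing A)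
  obtain ⟨hfin, hfrac⟩ := hCα
  haveI := hfin
  haveI : Algebra.IsIntegral A Cα := Algebra.IsIntegral.of_finite A Cα
  have hint : Cα ≤ integralClosure A (FractionRing A) := fun x hx => by
    have h1 : IsIntegral A (⟨x, hx⟩ : Cα) := Algebra.IsIntegral.isIntegral _
    exact h1.map (Cα.val)
  haveI := h2 hint
  have hinj : Function.Injective
      (PrimeSpectrum.comap (Subalgebra.inclusion hint).toRingHom) := by
    intro P Q hPQ
    exact (AlgebraicGeometry.Spec.map (CommRingCat.ofHom (Subalgebra.inclusion hint).toRingHom)).injective hPQ
  refine ⟨Cα, hfin, ?_, ?_, ?_⟩
  · intro p hp hht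
    exact Groth.Agent.Lib.MoriNagataH3.exists_dvr A (FractionRing A) Cα hint hinj hfrac p hht
  · intro x
    exact Groth.Agent.Lib.MoriNagataH3.mem_integralClosure_iff_forall A (FractionRing A) Cα hint
      hinj x
  · intro x
    exact Groth.Agent.Lib.MoriNagataH3.finite_bad A (FractionRing A) Cα x

end Groth.Agent.S12124
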