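import Groth.Statements.S12127
import Mathlib

set_option autoImplicit false
universe u
open EGA43

namespace Groth.Agent.S12127

section QH

/-- quasi-constructible subsets -/
def QC (T : Type*) [TopologicalSpace T] : Set (Set T) :=
  {Z | ∃ S : Set (Set T), S.Finite ∧ (∀ t ∈ S, IsLocallyClosed t) ∧ Z = ⋃₀ S}

/-- locally quasi-constructible subsets -/
def LQC (T : Type*) [TopologicalSpace T] : Set (Set T) :=
  {Z | ∀ y : T, ∃ V : Set T, IsOpen V ∧ y ∈ V ∧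
    ∃ S : Set (Set V), S.Finite ∧ (∀ t ∈ S, IsLocallyClosed t) ∧
      (Subtype.val ⁻¹' Z : Set V) = ⋃₀ S}

theorem qc_inter_open {T : Type*} [TopologicalSpace T] {Z V : Set T} (hZ : Z ∈ QC T)
    (hV : IsOpen V) : Z ∩ V ∈ QC T := by
  obtain ⟨S, hS, hLC, rfl⟩ := hZ
  refine ⟨(fun t => t ∩ V) '' S, hS.image _, ?_, ?_⟩
  · rintro _ ⟨t, ht, rfl⟩
    exact (hLC t ht).inter hV.isLocallyClosed
  · rw [Set.sUnion_image, Set.sUnion_eq_biUnion, Set.iUnion₂_inter]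

theorem lqc_iff {T : Type*} [TopologicalSpace T] (Z : Set T) :
    Z ∈ LQC T ↔ ∀ y : T, ∃ V : Set T, IsOpen V ∧ y ∈ V ∧ Z ∩ V ∈ QC T := by
  constructor
  · intro h y
    obtain ⟨V, hV, hyV, S, hS, hLC, hEq⟩ := h y
    refine ⟨V, hV, hyV, (fun t : Set V => Subtype.val '' t) '' S, hS.image _, ?_, ?_⟩
    · rintro _ ⟨t, ht, rfl⟩
      exact (hLC t ht).image Topology.IsInducing.subtypeVal
        (by rw [Subtype.range_val]; exact hV.isLocallyClosed)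
    · rw [Set.inter_comm, ← Subtype.image_preimage_coe, hEq, Set.image_sUnion, Set.sUnion_image]
  · intro h y
    obtain ⟨V, hV, hyV, S, hS, hLC, hEq⟩ := h y
    refine ⟨V, hV, hyV, (fun t : Set T => (Subtype.val ⁻¹' t : Set V)) '' S, hS.image _, ?_, ?_⟩
    · rintro _ ⟨t, ht, rfl⟩
      exact (hLC t ht).preimage continuous_subtype_val
    · have h1 : (Subtype.val ⁻¹' Z : Set V) = Subtype.val ⁻¹' (Z ∩ V) := by
        ext v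
        simp
      rw [h1, hEq, Set.preimage_sUnion, Set.sUnion_image]

variable {X Y : Type*} [TopologicalSpace X] [TopologicalSpace Y] {f : X → Y}

omit [TopologicalSpace X] in
theorem vd (hinjO : ∀ U₁ U₂ : Set Y, IsOpen U₁ → IsOpen U₂ → f ⁻¹' U₁ = f ⁻¹' U₂ → U₁ = U₂)
    {L : Set Y} (hL : IsLocallyClosed L) (h : f ⁻¹' L = ∅) : L = ∅ := by
  obtain ⟨U, C, hU, hC, rfl⟩ := hL
  have h1 : f ⁻¹' U = f ⁻¹' (U ∩ Cᶜ) := by
    ext x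
    constructor
    · intro hx
      refine ⟨hx, fun hxC => ?_⟩
      have h3 : x ∈ f ⁻¹' (U ∩ C) := ⟨hx, hxC⟩
      rw [h] at h3
      exact h3
    · intro hx
      exact hx.1
  have h2 := hinjO U (U ∩ Cᶜ) hU (hU.inter hC.isOpen_compl) h1
  rw [Set.eq_empty_iff_forall_notMem]
  rintro y ⟨hyU, hyC⟩
  have h4 : y ∈ U ∩ Cᶜ := h2 ▸ hyU
  exact h4.2 hyC

theorem sub_of_preimage_sub
    (hinjO : ∀ U₁ U₂ : Set Y, IsOpen U₁ → IsOpen U₂ → f ⁻¹' U₁ = f ⁻¹' U₂ → U₁ = U₂)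
    {S : Set (Set Y)} (hS : S.Finite) :
    (∀ s ∈ S, IsLocallyClosed s) → ∀ t : Set Y, IsLocallyClosed t →
      f ⁻¹' t ⊆ f ⁻¹' (⋃₀ S) → t ⊆ ⋃₀ S := by
  induction S, hS using Set.Finite.induction_on with
  | empty =>
    intro _ t ht h
    rw [Set.sUnion_empty, Set.preimage_empty, Set.subset_empty_iff] at h
    rw [vd hinjO ht h]
    exact Set.empty_subset _
  | @insert s S hs hSfin ih =>
    intro hall t ht h
    have hsLC := hall s (Set.mem_insert _ _)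
    have hall' : ∀ s' ∈ S, IsLocallyClosed s' :=
      fun s' hs' => hall s' (Set.mem_insert_of_mem _ hs')
    obtain ⟨U, C, hU, hC, rfl⟩ := hsLC
    rw [Set.sUnion_insert] at h ⊢
    have h1 : t ∩ Uᶜ ⊆ ⋃₀ S :=
      ih hall' (t ∩ Uᶜ) (ht.inter hU.isClosed_compl.isLocallyClosed) (by
        rintro x ⟨hxt, hxU⟩
        rcases h hxt with hx | hx
        · exact absurd hx.1 hxU
        · exact hx)
    have h2 : t ∩ Cᶜ ⊆ ⋃₀ S :=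
      ih hall' (t ∩ Cᶜ) (ht.inter hC.isOpen_compl.isLocallyClosed) (by
        rintro x ⟨hxt, hxC⟩
        rcases h hxt with hx | hx
        · exact absurd hx.2 hxC
        · exact hx)
    intro y hy
    by_cases hyU : y ∈ U
    · by_cases hyC : y ∈ C
      · exact Or.inl ⟨hyU, hyC⟩
      · exact Or.inr (h2 ⟨hy, hyC⟩)
    · exact Or.inr (h1 ⟨hy, hyU⟩)

theorem inj_qc_sub
    (hinjO : ∀ U₁ U₂ : Set Y, IsOpen U₁ → IsOpen U₂ → f ⁻¹' U₁ = f ⁻¹' U₂ → U₁ = U₂)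
    {Z₁ Z₂ : Set Y} (h₁ : Z₁ ∈ QC Y) (h₂ : Z₂ ∈ QC Y) (h : f ⁻¹' Z₁ ⊆ f ⁻¹' Z₂) : Z₁ ⊆ Z₂ := by
  obtain ⟨S₁, hS₁, hLC₁, rfl⟩ := h₁
  obtain ⟨S₂, hS₂, hLC₂, rfl⟩ := h₂
  apply Set.sUnion_subset
  intro t ht
  exact sub_of_preimage_sub hinjO hS₂ hLC₂ t (hLC₁ t ht) (fun x hx => h ⟨t, ht, hx⟩)

theorem mapsTo_qc (hf : Continuous f) {Z : Set Y} (hZ : Z ∈ QC Y) : f ⁻¹' Z ∈ QC X := by
  obtain ⟨S, hS, hLC, rfl⟩ := hZ
  refine ⟨(fun t => f ⁻¹' t) '' S, hS.image _, ?_, ?_⟩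
  · rintro _ ⟨t, ht, rfl⟩
    exact (hLC t ht).preimage hf
  · rw [Set.preimage_sUnion, Set.sUnion_image]

theorem lc_surj
    (hsurjO : ∀ U' : Set X, IsOpen U' → ∃ U : Set Y, IsOpen U ∧ f ⁻¹' U = U')
    {L' : Set X} (hL' : IsLocallyClosed L') : ∃ L : Set Y, IsLocallyClosed L ∧ f ⁻¹' L = L' := by
  obtain ⟨U', C', hU', hC', rfl⟩ := hL'
  obtain ⟨U, hU, rfl⟩ := hsurjO U' hU'
  obtain ⟨W, hW, hWeq⟩ := hsurjO C'ᶜ hC'.isOpen_compl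
  refine ⟨U ∩ Wᶜ, hU.isLocallyClosed.inter hW.isClosed_compl.isLocallyClosed, ?_⟩
  rw [Set.preimage_inter, Set.preimage_compl, hWeq, compl_compl]

theorem surj_qc
    (hsurjO : ∀ U' : Set X, IsOpen U' → ∃ U : Set Y, IsOpen U ∧ f ⁻¹' U = U')
    {Z' : Set X} (hZ' : Z' ∈ QC X) : ∃ Z : Set Y, Z ∈ QC Y ∧ f ⁻¹' Z = Z' := by
  obtain ⟨S', hS', hLC', rfl⟩ := hZ'
  have hch : ∀ t' : Set X, t' ∈ S' → ∃ L : Set Y, IsLocallyClosed L ∧ f ⁻¹' L = t' :=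
    fun t' ht' => lc_surj hsurjO (hLC' t' ht')
  choose! g hg1 hg2 using hch
  refine ⟨⋃₀ (g '' S'), ⟨g '' S', hS'.image _, ?_, rfl⟩, ?_⟩
  · rintro _ ⟨t', ht', rfl⟩
    exact hg1 t' ht'
  · ext x
    simp only [Set.mem_preimage, Set.mem_sUnion, Set.mem_image]
    constructor
    · rintro ⟨_, ⟨t', ht', rfl⟩, hx⟩
      exact ⟨t', ht', (Set.ext_iff.mp (hg2 t' ht') x).mp hx⟩
    · rintro ⟨t', ht', hx⟩
      exact ⟨g t', ⟨t', ht', rfl⟩, (Set.ext_iff.mp (hg2 t' ht') x).mpr hx⟩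

theorem mapsTo_lqc (hf : Continuous f) {Z : Set Y} (hZ : Z ∈ LQC Y) : f ⁻¹' Z ∈ LQC X := by
  rw [lqc_iff] at hZ ⊢
  intro x
  obtain ⟨V, hV, hyV, hqc⟩ := hZ (f x)
  refine ⟨f ⁻¹' V, hV.preimage hf, hyV, ?_⟩
  rw [← Set.preimage_inter]
  exact mapsTo_qc hf hqc

theorem inj_lqc_sub
    (hinjO : ∀ U₁ U₂ : Set Y, IsOpen U₁ → IsOpen U₂ → f ⁻¹' U₁ = f ⁻¹' U₂ → U₁ = U₂)
    {Z₁ Z₂ : Set Y} (h₁ : Z₁ ∈ LQC Y) (h₂ : Z₂ ∈ LQC Y) (h : f ⁻¹' Z₁ ⊆ f ⁻¹' Z₂) :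
    Z₁ ⊆ Z₂ := by
  rw [lqc_iff] at h₁ h₂
  intro y hy
  obtain ⟨V₁, hV₁, hy₁, hq₁⟩ := h₁ y
  obtain ⟨V₂, hV₂, hy₂, hq₂⟩ := h₂ y
  have hA := qc_inter_open hq₁ hV₂
  have hB := qc_inter_open hq₂ hV₁
  have hsub : Z₁ ∩ V₁ ∩ V₂ ⊆ Z₂ ∩ V₂ ∩ V₁ := by
    apply inj_qc_sub hinjO hA hB
    rintro x ⟨⟨hx1, hx2⟩, hx3⟩
    exact ⟨⟨h hx1, hx3⟩, hx2⟩
  exact (hsub ⟨⟨hy, hy₁⟩, hy₂⟩).1.1

theorem surj_lqc (hf : Continuous f)
    (hinjO : ∀ U₁ U₂ : Set Y, IsOpen U₁ → IsOpen U₂ → f ⁻¹' U₁ = f ⁻¹' U₂ → U₁ = U₂)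
    (hsurjO : ∀ U' : Set X, IsOpen U' → ∃ U : Set Y, IsOpen U ∧ f ⁻¹' U = U')
    {Z' : Set X} (hZ' : Z' ∈ LQC X) : ∃ Z : Set Y, Z ∈ LQC Y ∧ f ⁻¹' Z = Z' := by
  rw [lqc_iff] at hZ'
  choose V' hV'o hxV' hV'qc using hZ'
  choose V hVo hVeq using fun x => hsurjO (V' x) (hV'o x)
  choose W₀ hW₀qc hW₀eq using fun x => surj_qc hsurjO (hV'qc x)
  have hWqc : ∀ x, W₀ x ∩ V x ∈ QC Y := fun x => qc_inter_open (hW₀qc x) (hVo x)
  have hWeq : ∀ x, f ⁻¹' (W₀ x ∩ V x) = Z' ∩ V' x := by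
    intro x
    rw [Set.preimage_inter, hW₀eq, hVeq, Set.inter_assoc, Set.inter_self]
  have hcov' : ⋃ x, V' x = Set.univ :=
    Set.eq_univ_of_forall fun x => Set.mem_iUnion.mpr ⟨x, hxV' x⟩
  have hcov : ⋃ x, V x = Set.univ := by
    apply hinjO _ _ (isOpen_iUnion hVo) isOpen_univ
    rw [Set.preimage_iUnion, Set.preimage_univ]
    simp_rw [hVeq]
    exact hcov'
  have hcompat_sub : ∀ x x₀, W₀ x ∩ V x ∩ V x₀ ⊆ W₀ x₀ ∩ V x₀ ∩ V x := by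
    intro x x₀
    apply inj_qc_sub hinjO (qc_inter_open (hWqc x) (hVo x₀)) (qc_inter_open (hWqc x₀) (hVo x))
    intro z hz
    have hz1 : z ∈ f ⁻¹' (W₀ x ∩ V x) := hz.1
    have hz2 : z ∈ f ⁻¹' V x₀ := hz.2
    rw [hWeq] at hz1
    rw [hVeq] at hz2
    have g1 : z ∈ f ⁻¹' (W₀ x₀ ∩ V x₀) := by
      rw [hWeq]
      exact ⟨hz1.1, hz2⟩
    have g2 : z ∈ f ⁻¹' V x := by
      rw [hVeq]
      exact hz1.2
    exact ⟨g1, g2⟩
  have hcompat : ∀ x x₀, W₀ x ∩ V x ∩ V x₀ = W₀ x₀ ∩ V x₀ ∩ V x :=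
    fun x x₀ => Set.Subset.antisymm (hcompat_sub x x₀) (hcompat_sub x₀ x)
  refine ⟨⋃ x, W₀ x ∩ V x, ?_, ?_⟩
  · rw [lqc_iff]
    intro y
    have hy : y ∈ ⋃ x, V x := by
      rw [hcov]
      trivial
    obtain ⟨x₀, hx₀⟩ := Set.mem_iUnion.mp hy
    refine ⟨V x₀, hVo x₀, hx₀, ?_⟩
    have h1 : (⋃ x, W₀ x ∩ V x) ∩ V x₀ = W₀ x₀ ∩ V x₀ := by
      rw [Set.iUnion_inter]
      simp_rw [hcompat _ x₀]
      rw [← Set.inter_iUnion, hcov, Set.inter_univ]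
    rw [h1]
    exact hWqc x₀
  · rw [Set.preimage_iUnion]
    simp_rw [hWeq]
    rw [← Set.inter_iUnion, hcov', Set.inter_univ]

end QH


/-- Let f : X → Y be a quasi-homeomorphism, i.e. a continuous map such that U ↦ f⁻¹(U) is a bijection
from the open subsets of Y onto the open subsets of X. Call a subset quasi-constructible when it is
a finite union of locally closed subsets, and locally quasi-constructible when every point of the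
space has an open neighbourhood V whose intersection with it is quasi-constructible in V. Then Z ↦
f⁻¹(Z) induces a bijection from the quasi-constructible subsets of Y onto those of X, and from the
locally quasi-constructible subsets of Y onto those of X. -/
theorem result {X Y : Type u}
    [TopologicalSpace X] [TopologicalSpace Y] (f : X → Y) (hf : Continuous f)
    (hq : Function.Bijective (fun U : TopologicalSpace.Opens Y =>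
      (⟨f ⁻¹' (U : Set Y), U.isOpen.preimage hf⟩ : TopologicalSpace.Opens X))) :
    Set.BijOn (fun Z : Set Y => f ⁻¹' Z)
        {Z : Set Y | ∃ T : Set (Set Y), T.Finite ∧ (∀ t ∈ T, IsLocallyClosed t) ∧ Z = ⋃₀ T}
        {Z : Set X | ∃ T : Set (Set X), T.Finite ∧ (∀ t ∈ T, IsLocallyClosed t) ∧ Z = ⋃₀ T} ∧
      Set.BijOn (fun Z : Set Y => f ⁻¹' Z)
        {Z : Set Y | ∀ y : Y, ∃ V : Set Y, IsOpen V ∧ y ∈ V ∧
          ∃ T : Set (Set V), T.Finite ∧ (∀ t ∈ T, IsLocallyClosed t) ∧ (Subtype.val ⁻¹' Z : Set V) = ⋃₀ T}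
        {Z : Set X | ∀ x : X, ∃ V : Set X, IsOpen V ∧ x ∈ V ∧
          ∃ T : Set (Set V), T.Finite ∧ (∀ t ∈ T, IsLocallyClosed t) ∧ (Subtype.val ⁻¹' Z : Set V) = ⋃₀ T} := by
  have hinjO : ∀ U₁ U₂ : Set Y, IsOpen U₁ → IsOpen U₂ → f ⁻¹' U₁ = f ⁻¹' U₂ → U₁ = U₂ := by
    intro U₁ U₂ h₁ h₂ h
    have h3 := hq.1 (a₁ := ⟨U₁, h₁⟩) (a₂ := ⟨U₂, h₂⟩) (TopologicalSpace.Opens.ext h)
    exact congrArg (fun O : TopologicalSpace.Opens Y => (O : Set Y)) h3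
  have hsurjO : ∀ U' : Set X, IsOpen U' → ∃ U : Set Y, IsOpen U ∧ f ⁻¹' U = U' := by
    intro U' hU'
    obtain ⟨U, hU⟩ := hq.2 ⟨U', hU'⟩
    exact ⟨U, U.isOpen, congrArg (fun O : TopologicalSpace.Opens X => (O : Set X)) hU⟩
  have h1 : Set.BijOn (fun Z : Set Y => f ⁻¹' Z) (QC Y) (QC X) := by
    refine ⟨fun Z hZ => mapsTo_qc hf hZ, ?_, ?_⟩
    · intro Z₁ h₁ Z₂ h₂ h
      exact Set.Subset.antisymm (inj_qc_sub hinjO h₁ h₂ (le_of_eq h))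
        (inj_qc_sub hinjO h₂ h₁ (le_of_eq h.symm))
    · intro Z' hZ'
      obtain ⟨Z, hZ, hEq⟩ := surj_qc hsurjO hZ'
      exact ⟨Z, hZ, hEq⟩
  have h2 : Set.BijOn (fun Z : Set Y => f ⁻¹' Z) (LQC Y) (LQC X) := by
    refine ⟨fun Z hZ => mapsTo_lqc hf hZ, ?_, ?_⟩
    · intro Z₁ h₁ Z₂ h₂ h
      exact Set.Subset.antisymm (inj_lqc_sub hinjO h₁ h₂ (le_of_eq h))
        (inj_lqc_sub hinjO h₂ h₁ (le_of_eq h.symm))
    · intro Z' hZ'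
      obtain ⟨Z, hZ, hEq⟩ := surj_lqc hf hinjO hsurjO hZ'
      exact ⟨Z, hZ, hEq⟩
  exact ⟨h1, h2⟩

end Groth.Agent.S12127
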