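import Groth.Statements.S12129
import Mathlib

set_option autoImplicit false
universe u
open EGA2

namespace Groth.Agent.S12129

open AlgebraicGeometry CategoryTheory in
/-- Let X be a scheme of finite type over a field k. Then the local ring of X at every closed point has
dimension one if and only if the irreducible closed subsets of X other than its irreducible
components are exactly the (singletons of) closed points of X — that is, every irreducible closed
subset which is not an irreducible component is a closed point, and no closed point is by itself an
irreducible component. -/
theorem result (k : Type u) [Field k] (X : Scheme.{u})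
    [X.Over (Spec (CommRingCat.of k))] [LocallyOfFiniteType (X ↘ (Spec (CommRingCat.of k)))]
    [QuasiCompact (X ↘ (Spec (CommRingCat.of k)))] :
    (∀ x : X, IsClosed ({x} : Set X) → ringKrullDim (X.presheaf.stalk x) = 1) ↔
      ((∀ F : Set X, IsClosed F → IsIrreducible F → F ∉ irreducibleComponents (X : Type u) →
          ∃ x : X, IsClosed ({x} : Set X) ∧ F = {x}) ∧
        ∀ x : X, IsClosed ({x} : Set X) → ({x} : Set X) ∉ irreducibleComponents (X : Type u)) := by
  classical
  haveI : CompactSpace X :=
    QuasiCompact.compactSpace_of_compactSpace (X ↘ (Spec (CommRingCat.of k)))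
  -- order facts: `a ≤ b ↔ b ⤳ a`
  have hle : ∀ a b : X, a ≤ b ↔ b ⤳ a := fun a b => Iff.rfl
  have hlt : ∀ a b : X, a < b ↔ (b ⤳ a ∧ a ≠ b) := by
    intro a b
    rw [lt_iff_le_not_ge]
    constructor
    · rintro ⟨h1, h2⟩
      exact ⟨h1, fun h => h2 (h ▸ le_rfl)⟩
    · rintro ⟨h1, h2⟩
      exact ⟨h1, fun h => h2 (((hle b a).mp h).antisymm h1).eq⟩
  simp only [AlgebraicGeometry.ringKrullDim_stalk_eq_coheight]
  constructor
  · intro H
    constructor
    · intro F hFc hFi hFn
      -- generic point of F
      obtain ⟨η, hη⟩ := QuasiSober.sober hFi hFc
      -- a component containing F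
      obtain ⟨F', hF', hFF'⟩ := exists_mem_irreducibleComponents_subset_of_isIrreducible F hFi
      have hF'c : IsClosed F' := isClosed_of_mem_irreducibleComponents _ hF'
      obtain ⟨η', hη'⟩ := QuasiSober.sober hF'.1 hF'c
      have hne : F ≠ F' := fun h => hFn (h ▸ hF')
      -- closed point in F
      obtain ⟨x, hxF, hxc⟩ := hFc.exists_closed_singleton hFi.1
      have h1 : η ⤳ x := by
        rw [specializes_iff_mem_closure, hη.def]; exact hxF
      have h2 : η' ⤳ η := by
        rw [specializes_iff_mem_closure, hη'.def]; exact hFF' hη.mem
      have h2ne : η ≠ η' := by
        intro h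
        apply hne
        rw [← hη.def, ← hη'.def, h]
      refine ⟨x, hxc, ?_⟩
      by_cases hxη : x = η
      · rw [← hη.def, ← hxη, closure_eq_iff_isClosed.mpr hxc]
      · exfalso
        have hx1 : x < η := (hlt x η).mpr ⟨h1, hxη⟩
        have hx2 : η < η' := (hlt η η').mpr ⟨h2, h2ne⟩
        have hH := H x hxc
        have hc1 := Order.coheight_add_one_le hx2
        have hc2 := Order.coheight_add_one_le hx1
        have h3 : (2 : ℕ∞) ≤ Order.coheight x := by
          calc (2 : ℕ∞) = 0 + 1 + 1 := by norm_num
            _ ≤ Order.coheight η' + 1 + 1 := by gcongr; exact bot_le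
            _ ≤ Order.coheight η + 1 := by gcongr
            _ ≤ Order.coheight x := hc2
        have h4 : (Order.coheight x : WithBot ℕ∞) = 1 := hH
        have h5 : Order.coheight x = 1 := by exact_mod_cast h4
        rw [h5] at h3
        exact absurd h3 (by norm_num)
    · intro x hxc hcomp
      have hH := H x hxc
      have hmax : IsMax x := by
        intro y hxy
        have hy : y ⤳ x := (hle x y).mp hxy
        have hsub : ({x} : Set X) ⊆ closure {y} := by
          rw [Set.singleton_subset_iff]
          exact specializes_iff_mem_closure.mp hy
        have := hcomp.2 (isIrreducible_singleton.closure) hsub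
        have hyx : y ∈ ({x} : Set X) := this (subset_closure rfl)
        rw [Set.mem_singleton_iff] at hyx
        rw [hyx]
      have h0 : Order.coheight x = 0 := Order.coheight_eq_zero.mpr hmax
      have h4 : (Order.coheight x : WithBot ℕ∞) = 1 := hH
      rw [h0] at h4
      exact absurd h4 (by norm_num)
  · rintro ⟨Ha, Hb⟩ x hxc
    have hnm : ¬ IsMax x := by
      intro hmax
      apply Hb x hxc
      refine ⟨isIrreducible_singleton, ?_⟩
      intro F hFi hxF y hy
      -- F irreducible containing x; closure F has a generic point
      obtain ⟨η, hη⟩ := QuasiSober.sober hFi.closure isClosed_closure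
      have h1 : η ⤳ x := by
        rw [specializes_iff_mem_closure, hη.def]
        exact subset_closure (hxF rfl)
      have hxη : x = η := by
        by_contra hne
        have : x < η := (hlt x η).mpr ⟨h1, hne⟩
        exact (hmax.not_lt this)
      have h2 : η ⤳ y := by
        rw [specializes_iff_mem_closure, hη.def]
        exact subset_closure hy
      rw [← hxη] at h2
      have : y ∈ closure ({x} : Set X) := specializes_iff_mem_closure.mp h2
      rw [closure_eq_iff_isClosed.mpr hxc] at this
      exact this
    have h1 : (1 : ℕ∞) ≤ Order.coheight x := by
      have := Order.coheight_pos.mpr hnm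
      exact Order.one_le_iff_pos.mpr this
    have h2 : Order.coheight x ≤ 1 := by
      have : Order.coheight x ≤ ((1 : ℕ) : ℕ∞) := by
        rw [Order.coheight_le_coe_iff]
        intro y hxy
        have hy0 : Order.coheight y = 0 := by
          rw [Order.coheight_eq_zero]
          intro z hyz
          by_contra hzy
          have hyz' : y < z := lt_of_le_not_ge hyz hzy
          -- closure {y} is irreducible closed, not a component
          have hnc : closure ({y} : Set X) ∉ irreducibleComponents (X : Type u) := by
            intro hc
            have hsub : closure ({y} : Set X) ⊆ closure {z} :=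
              closure_minimal (Set.singleton_subset_iff.mpr
                (specializes_iff_mem_closure.mp ((hle y z).mp hyz))) isClosed_closure
            have := hc.2 isIrreducible_singleton.closure hsub
            have hz : z ∈ closure ({y} : Set X) := this (subset_closure rfl)
            have : y ⤳ z := specializes_iff_mem_closure.mpr hz
            exact hzy ((hle z y).mpr this)
          obtain ⟨x', hx'c, hx'⟩ := Ha _ isClosed_closure isIrreducible_singleton.closure hnc
          have hy' : y = x' := by
            have : y ∈ closure ({y} : Set X) := subset_closure rfl
            rw [hx'] at this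
            exact this
          have hx'' : x ∈ closure ({y} : Set X) :=
            specializes_iff_mem_closure.mp ((hle x y).mp hxy.le)
          rw [hx', ← hy'] at hx''
          rw [Set.mem_singleton_iff] at hx''
          exact (ne_of_lt hxy) hx''
        rw [hy0]
        norm_num
      simpa using this
    have : Order.coheight x = 1 := le_antisymm h2 h1
    rw [this]
    rfl

end Groth.Agent.S12129
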