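import Groth.Statements.S1213
import Mathlib

set_option autoImplicit false
universe u
open scoped Classical
open FlatMor

namespace Groth.Agent.S1213

open TensorProduct IsLocalRing in
theorem aux {R S : Type u} [CommRing R] [IsLocalRing R] [CommRing S] [Algebra R S]
    (N : Type u) [AddCommGroup N] [Module S N] [Module R N] [IsScalarTower R S N]
    (ι : Type u) (F : ι → Submodule R N) (hF : DirectSum.IsInternal F) (hfin : ∀ i, Module.Finite R (F i))
    (M : Type u) [AddCommGroup M] [Module R M]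
    (q : Ideal S) [q.IsPrime] (hq : q ∈ FlatCA.ass S (N ⊗[R] M)) :
    q ⊔ (maximalIdeal R).map (algebraMap R S) ≠ ⊤ := by
  classical
  intro htop
  obtain ⟨hqp, z, hz⟩ := hq
  have h1 : (1 : S) ∈ q ⊔ (maximalIdeal R).map (algebraMap R S) := by rw [htop]; trivial
  obtain ⟨a, ha, b, hb, hab⟩ := Submodule.mem_sup.1 h1
  obtain ⟨β, hβdef⟩ : ∃ β : N →ₗ[R] N, ∀ x, β x = b • x :=
    ⟨DistribMulAction.toLinearMap R N b, fun _ => rfl⟩
  have hβact : ∀ w : N ⊗[R] M, (β.rTensor M) w = b • w := by
    intro w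
    induction w using TensorProduct.induction_on with
    | zero => simp
    | tmul n m => rw [LinearMap.rTensor_tmul, hβdef, TensorProduct.smul_tmul']
    | add w1 w2 h1 h2 => rw [map_add, h1, h2, smul_add]
  have haz : a • z = 0 := by
    have : a ∈ (Submodule.span S {z}).annihilator := hz ▸ ha
    exact (Submodule.mem_annihilator_span_singleton z a).1 this
  have hbz : b • z = z := by
    have h7 : (a + b) • z = z := by rw [hab, one_smul]
    rwa [add_smul, haz, zero_add] at h7
  -- finite support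
  have hmono : ∀ {P P' : Submodule R N}, P ≤ P' →
      LinearMap.range (P.subtype.rTensor M) ≤ LinearMap.range (P'.subtype.rTensor M) := by
    intro P P' h
    have h2 : P.subtype = P'.subtype ∘ₗ Submodule.inclusion h := by ext x; rfl
    rw [h2, LinearMap.rTensor_comp]
    exact LinearMap.range_comp_le_range _ _
  have hex : ∀ w : N ⊗[R] M, ∃ F' : Finset ι,
      w ∈ LinearMap.range ((⨆ i ∈ F', F i).subtype.rTensor M) := by
    intro w
    induction w using TensorProduct.induction_on with
    | zero => exact ⟨∅, zero_mem _⟩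
    | tmul n m =>
      have hn : n ∈ ⨆ i, F i := by rw [hF.submodule_iSup_eq_top]; trivial
      obtain ⟨s, hs⟩ := Submodule.mem_iSup_iff_exists_finset.1 hn
      exact ⟨s, ⟨(⟨n, hs⟩ : ↥(⨆ i ∈ s, F i)) ⊗ₜ m, by simp⟩⟩
    | add w1 w2 h1 h2 =>
      obtain ⟨s1, hs1⟩ := h1
      obtain ⟨s2, hs2⟩ := h2
      refine ⟨s1 ∪ s2, add_mem (hmono ?_ hs1) (hmono ?_ hs2)⟩
      · exact biSup_mono fun i hi => Finset.mem_union_left _ hi
      · exact biSup_mono fun i hi => Finset.mem_union_right _ hi
  obtain ⟨F', hzF⟩ := hex z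
  obtain ⟨P, hP⟩ : ∃ P : Submodule R N, P = ⨆ i ∈ F', F i := ⟨_, rfl⟩
  rw [← hP] at hzF
  obtain ⟨z', hz'⟩ := hzF
  have hPfg : P.FG := by
    rw [hP]
    exact Submodule.fg_biSup F' F fun i _ => (Module.Finite.iff_fg.1 (hfin i))
  haveI : Module.Finite R P := Module.Finite.iff_fg.2 hPfg
  obtain ⟨Q, hQ⟩ : ∃ Q : Submodule R N, Q = ⨆ i ∈ ((F' : Set ι)ᶜ), F i := ⟨_, rfl⟩
  have hind := hF.submodule_iSupIndep
  have hc : IsCompl P Q := by
    constructor
    · have h3 := hind.disjoint_biSup_biSup' (s := (F' : Set ι)) (t := (F' : Set ι)ᶜ)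
        disjoint_compl_right F'.finite_toSet
      rw [hP, hQ]
      simpa only [Finset.mem_coe] using h3
    · rw [codisjoint_iff, hP, hQ]
      have h4 : (⨆ i ∈ F', F i) = ⨆ i ∈ (F' : Set ι), F i := by simp only [Finset.mem_coe]
      rw [h4, ← iSup_union, Set.union_compl_self]
      simp [hF.submodule_iSup_eq_top]
  obtain ⟨π, hπ⟩ : ∃ π : N →ₗ[R] P, ∀ p : P, π (p : N) = p :=
    ⟨Submodule.linearProjOfIsCompl P Q hc, fun p => Submodule.linearProjOfIsCompl_apply_left hc p⟩
  obtain ⟨G, hG⟩ : ∃ G : P →ₗ[R] P, G = π ∘ₗ β ∘ₗ P.subtype := ⟨_, rfl⟩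
  have hG𝔪 : ∀ p : P, G p ∈ (maximalIdeal R • ⊤ : Submodule R P) := by
    intro p
    have hPred : ∀ c ∈ (maximalIdeal R).map (algebraMap R S), ∀ n : N,
        π (c • n) ∈ (maximalIdeal R • ⊤ : Submodule R P) := by
      intro c hc
      refine Submodule.span_induction
        (p := fun c _ => ∀ n : N, π (c • n) ∈ (maximalIdeal R • ⊤ : Submodule R P))
        ?_ ?_ ?_ ?_ hc
      · rintro _ ⟨x, hx, rfl⟩ n
        rw [algebraMap_smul, map_smul]
        exact Submodule.smul_mem_smul hx Submodule.mem_top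
      · intro n; rw [zero_smul, map_zero]; exact zero_mem _
      · intro c d _ _ hc hd n; rw [add_smul, map_add]; exact add_mem (hc n) (hd n)
      · intro s c _ hc n
        rw [smul_eq_mul, mul_comm, mul_smul]
        exact hc (s • n)
    rw [hG]
    show π (β (p : N)) ∈ _
    rw [hβdef]; exact hPred b hb _
  obtain ⟨T, hT⟩ : ∃ T : P →ₗ[R] P, T = 1 - G := ⟨_, rfl⟩
  have hTsurj : Function.Surjective T := by
    rw [← LinearMap.range_eq_top]
    refine eq_top_iff.2 (Submodule.le_of_le_smul_of_le_jacobson_bot (I := maximalIdeal R)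
      Module.Finite.fg_top (IsLocalRing.maximalIdeal_le_jacobson _) ?_)
    intro p _
    have h5 : p = T p + G p := by rw [hT]; simp
    rw [h5]
    exact Submodule.add_mem_sup (LinearMap.mem_range_self T p) (hG𝔪 p)
  have hTinj : Function.Injective T := OrzechProperty.injective_of_surjective_endomorphism T hTsurj
  have hTr : Function.Injective (T.rTensor M) := by
    obtain ⟨e, he⟩ : ∃ e : P ≃ₗ[R] P, ∀ x, e x = T x :=
      ⟨LinearEquiv.ofBijective T ⟨hTinj, hTsurj⟩, fun _ => rfl⟩
    have h8 : T.rTensor M = ((e.rTensor M : _ ≃ₗ[R] _) : P ⊗[R] M →ₗ[R] P ⊗[R] M) := by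
      refine TensorProduct.ext' fun n m => ?_
      simp [he]
    intro w1 w2 h12
    rw [h8] at h12
    exact (e.rTensor M).injective h12
  have hTz : (T.rTensor M) z' = 0 := by
    have h9 : (G.rTensor M) z' = z' := by
      rw [hG, LinearMap.rTensor_comp, LinearMap.rTensor_comp]
      simp only [LinearMap.comp_apply]
      rw [hz', hβact, hbz, ← hz', ← LinearMap.comp_apply, ← LinearMap.rTensor_comp]
      have h10 : π ∘ₗ P.subtype = LinearMap.id := by ext p; simp [hπ]
      rw [h10, LinearMap.rTensor_id, LinearMap.id_apply]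
    rw [hT, LinearMap.rTensor_sub, LinearMap.sub_apply, h9]
    simp [Module.End.one_eq_id]
  have hz'0 : z' = 0 := hTr (by rw [hTz, map_zero])
  have hz0 : z = 0 := by rw [← hz', hz'0, map_zero]
  apply hqp.ne_top
  rw [hz, hz0, eq_top_iff]
  intro s _
  rw [Submodule.mem_annihilator_span_singleton, smul_zero]

open TensorProduct IsLocalRing in
/-- Let R be a local ring, S an R-algebra and N an S-module which, as an R-module, is an internal direct
sum of finite R-submodules. Then for every R-module M and every prime q of S which is the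
annihilator of an element of the S-module N ⊗_R M we have q + 𝔪_R S ≠ S. -/
theorem result {R S : Type u} [CommRing R] [IsLocalRing R] [CommRing S] [Algebra R S]
    (N : Type u) [AddCommGroup N] [Module S N] [Module R N] [IsScalarTower R S N]
    (ι : Type u) (F : ι → Submodule R N) (hF : DirectSum.IsInternal F) (hfin : ∀ i, Module.Finite R (F i))
    (M : Type u) [AddCommGroup M] [Module R M]
    (q : Ideal S) [q.IsPrime] (hq : q ∈ FlatCA.ass S (N ⊗[R] M)) :
    q ⊔ (maximalIdeal R).map (algebraMap R S) ≠ ⊤ := by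
  exact aux N ι F hF hfin M q hq

end Groth.Agent.S1213
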