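import Groth.Statements.S12136
import Mathlib
import Groth.Agent.Lib.AdicJac2_helper1

set_option autoImplicit false
universe u
open TensorProduct KaehlerDifferential
open EGA41

namespace Groth.Agent.S12136

/-- In the Noetherian adic case, which the published statement itself singles out, let A → B be a ring
homomorphism with B Noetherian, I and J ideals of B, and suppose B, with the I-adic topology, is
formally smooth over the discrete ring A. Put C = B/J with the quotient (IC-adic) topology and let Q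
be an ideal of definition of C, i.e. an ideal containing a power of IC and a power of which lies in
IC. Then C is formally smooth over A for the IC-adic topology if and only if the C/Q-linear map
(J/J²) ⊗ (C/Q) → Ω_{B/A} ⊗_B (C/Q), obtained by base change from the conormal map J/J² → Ω_{B/A} ⊗_B
C, x ↦ 1 ⊗ dx, has a C/Q-linear left inverse (is an isomorphism onto a direct summand). Here J is
written as the kernel of B → C and the tensor products are taken over B, which for these C-modules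
is the same as over C. (The published statement allows A to be any topological ring with A → B
continuous; this row takes A discrete.) -/
theorem result {A B : Type u} [CommRing A]
    [CommRing B] [Algebra A B] [IsNoetherianRing B] (I J : Ideal B) (hB : CAlgX.IsAdicFormallySmooth A B I)
    (Q : Ideal (B ⧸ J)) (hQ : ∃ n : ℕ, (I.map (Ideal.Quotient.mk J)) ^ n ≤ Q)
    (hQ' : ∃ m : ℕ, Q ^ m ≤ I.map (Ideal.Quotient.mk J)) :
    CAlgX.IsAdicFormallySmooth A (B ⧸ J) (I.map (Ideal.Quotient.mk J)) ↔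
      ∃ g : ((B ⧸ J) ⧸ Q) ⊗[B] ((B ⧸ J) ⊗[B] Ω[B⁄A]) →ₗ[(B ⧸ J) ⧸ Q]
          ((B ⧸ J) ⧸ Q) ⊗[B] (RingHom.ker (algebraMap B (B ⧸ J))).Cotangent,
        g ∘ₗ LinearMap.baseChange ((B ⧸ J) ⧸ Q) (KaehlerDifferential.kerCotangentToTensor A B (B ⧸ J)) =
          LinearMap.id := by
  open Groth.Agent.Lib.AdicJacH1 in
  classical
  have hKJ : RingHom.ker (algebraMap B (B ⧸ J)) = J := Ideal.mk_ker
  have hmk : ∀ b : B, algebraMap B ((B ⧸ J) ⧸ Q) b =
      Ideal.Quotient.mk Q (Ideal.Quotient.mk J b) := fun b => rfl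
  have hT : Function.Surjective (algebraMap B ((B ⧸ J) ⧸ Q)) := fun t => by
    obtain ⟨c, rfl⟩ := Ideal.Quotient.mk_surjective t
    obtain ⟨b, rfl⟩ := Ideal.Quotient.mk_surjective c
    exact ⟨b, hmk b⟩
  have h𝔮 : ∀ b : B, algebraMap B ((B ⧸ J) ⧸ Q) b = 0 ↔ b ∈ Q.comap (Ideal.Quotient.mk J) :=
    fun b => by rw [hmk, Ideal.Quotient.eq_zero_iff_mem, Ideal.mem_comap]
  have hK𝔮 : RingHom.ker (algebraMap B (B ⧸ J)) ≤ Q.comap (Ideal.Quotient.mk J) := by
    intro x hx
    rw [Ideal.mem_comap]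
    have h0 : Ideal.Quotient.mk J x = 0 := RingHom.mem_ker.1 hx
    rw [h0]
    exact Q.zero_mem
  have hq1 : ∃ n : ℕ, I ^ n ≤ Q.comap (Ideal.Quotient.mk J) := by
    obtain ⟨n, hn⟩ := hQ
    refine ⟨n, fun x hx => ?_⟩
    rw [Ideal.mem_comap]
    apply hn
    rw [← Ideal.map_pow]
    exact Ideal.mem_map_of_mem _ hx
  have hq2 : ∃ m : ℕ, (Q.comap (Ideal.Quotient.mk J)) ^ m ≤
      I ⊔ RingHom.ker (algebraMap B (B ⧸ J)) := by
    obtain ⟨m, hm⟩ := hQ'
    refine ⟨m, ?_⟩
    calc (Q.comap (Ideal.Quotient.mk J)) ^ m ≤ (Q ^ m).comap (Ideal.Quotient.mk J) :=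
          Ideal.le_comap_pow _ m
      _ ≤ (I.map (Ideal.Quotient.mk J)).comap (Ideal.Quotient.mk J) := Ideal.comap_mono hm
      _ = I ⊔ (⊥ : Ideal (B ⧸ J)).comap (Ideal.Quotient.mk J) :=
          Ideal.comap_map_of_surjective _ Ideal.Quotient.mk_surjective I
      _ = I ⊔ RingHom.ker (algebraMap B (B ⧸ J)) := rfl
  constructor
  · intro hC
    exact retraction_of_hasRetr (Q.comap (Ideal.Quotient.mk J)) (fun b hb => (h𝔮 b).2 hb)
      (hasRetr_of_formallySmooth I _ J hKJ hC _ hK𝔮 hq1)
  · rintro ⟨g, hg⟩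
    exact formallySmooth_of_hasRetr I _ J hKJ hB _ hq1 hq2
      (hasRetr_of_retraction hT _ (fun b hb => (h𝔮 b).1 hb) g hg)

end Groth.Agent.S12136
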