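import Groth.Statements.S1214
import Mathlib

set_option autoImplicit false
universe u
open FlatMor

namespace Groth.Agent.S1214

open TensorProduct in
theorem aux {R S : Type u} [CommRing R] [CommRing S] [Algebra R S] (I : Ideal R)
    (N : Type u) [AddCommGroup N] [Module S N] [Module R N] [IsScalarTower R S N] [IsAdicComplete I N]
    (M : Type u) [AddCommGroup M] [Module R M]
    (q : Ideal S) [q.IsPrime] (hq : q ∈ FlatCA.ass S (N ⊗[R] M)) :
    q ⊔ I.map (algebraMap R S) ≠ ⊤ := by
  intro htop
  obtain ⟨hqp, z, hz⟩ := hq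
  have h1 : (1 : S) ∈ q ⊔ I.map (algebraMap R S) := by rw [htop]; trivial
  obtain ⟨a, ha, b, hb, hab⟩ := Submodule.mem_sup.1 h1
  -- the endomorphism β = multiplication by b
  obtain ⟨β, hβdef⟩ : ∃ β : N →ₗ[R] N, ∀ x, β x = b • x :=
    ⟨DistribMulAction.toLinearMap R N b, fun _ => rfl⟩
  have hβ1 : ∀ x, β x ∈ (I • ⊤ : Submodule R N) := by
    intro x
    rw [hβdef]
    have hP : ∀ c ∈ I.map (algebraMap R S), ∀ x : N, c • x ∈ (I • ⊤ : Submodule R N) := by
      intro c hc
      refine Submodule.span_induction (p := fun c _ => ∀ x : N, c • x ∈ (I • ⊤ : Submodule R N))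
        ?_ ?_ ?_ ?_ hc
      · rintro _ ⟨i, hi, rfl⟩ x
        rw [algebraMap_smul]
        exact Submodule.smul_mem_smul hi Submodule.mem_top
      · intro x; rw [zero_smul]; exact zero_mem _
      · intro c d _ _ hc hd x; rw [add_smul]; exact add_mem (hc x) (hd x)
      · intro s c _ hc x
        rw [smul_eq_mul, mul_comm, mul_smul]
        exact hc (s • x)
    exact hP b hb x
  have hβstep : ∀ k (y : N), y ∈ (I ^ k • ⊤ : Submodule R N) → β y ∈ (I ^ (k + 1) • ⊤ : Submodule R N) := by
    intro k y hy
    refine Submodule.smul_induction_on hy (fun r hr n _ => ?_) (fun y1 y2 h1 h2 => ?_)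
    · rw [map_smul, pow_succ, Submodule.mul_smul]
      exact Submodule.smul_mem_smul hr (hβ1 n)
    · rw [map_add]; exact add_mem h1 h2
  have hβk : ∀ k (x : N), (β ^ k) x ∈ (I ^ k • ⊤ : Submodule R N) := by
    intro k
    induction k with
    | zero => intro x; simp
    | succ k ih =>
      intro x
      rw [pow_succ' β k, Module.End.mul_apply]
      exact hβstep k _ (ih x)
  have hmono : ∀ {m n : ℕ}, m ≤ n → (I ^ n • ⊤ : Submodule R N) ≤ I ^ m • ⊤ := fun h =>
    Submodule.smul_mono_left (Ideal.pow_le_pow_right h)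
  have hinj : Function.Injective (1 - β : N →ₗ[R] N) := by
    rw [← LinearMap.ker_eq_bot, LinearMap.ker_eq_bot']
    intro x hx
    have hx' : β x = x := by
      have : x - β x = 0 := by simpa using hx
      exact (sub_eq_zero.1 this).symm
    have hxk : ∀ k, (β ^ k) x = x := by
      intro k
      induction k with
      | zero => simp
      | succ k ih => rw [pow_succ, Module.End.mul_apply, hx', ih]
    refine IsHausdorff.haus (inferInstance : IsHausdorff I N) x fun n => ?_
    rw [SModEq.zero, ← hxk n]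
    exact hβk n x
  have hkeep : ∀ n (w : N), w ∈ (I ^ n • ⊤ : Submodule R N) →
      (1 - β : N →ₗ[R] N) w ∈ (I ^ n • ⊤ : Submodule R N) := by
    intro n w hw
    rw [LinearMap.sub_apply, Module.End.one_apply]
    exact sub_mem hw (hmono (Nat.le_succ n) (hβstep n w hw))
  have hsurj : Function.Surjective (1 - β : N →ₗ[R] N) := by
    intro y
    have hc : ∀ {m n : ℕ}, m ≤ n →
        (∑ k ∈ Finset.range m, (β ^ k) y) ≡ (∑ k ∈ Finset.range n, (β ^ k) y)
          [SMOD (I ^ m • ⊤ : Submodule R N)] := by
      intro m n hmn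
      rw [SModEq.sub_mem]
      have h2 : (∑ k ∈ Finset.range m, (β ^ k) y) - (∑ k ∈ Finset.range n, (β ^ k) y)
          = -(∑ k ∈ Finset.Ico m n, (β ^ k) y) := by
        rw [Finset.sum_Ico_eq_sub _ hmn]; abel
      rw [h2]
      refine neg_mem (Submodule.sum_mem _ fun k hk => ?_)
      exact hmono (Finset.mem_Ico.1 hk).1 (hβk k y)
    obtain ⟨x, hx⟩ := IsPrecomplete.prec (inferInstance : IsPrecomplete I N)
      (f := fun n => ∑ k ∈ Finset.range n, (β ^ k) y) hc
    refine ⟨x, ?_⟩
    refine sub_eq_zero.1 (IsHausdorff.haus (inferInstance : IsHausdorff I N) _ fun n => ?_)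
    rw [SModEq.zero]
    have htel : (1 - β : N →ₗ[R] N) (∑ k ∈ Finset.range n, (β ^ k) y) = y - (β ^ n) y := by
      have h3 := mul_neg_geom_sum β n
      have h4 := congrArg (fun T : Module.End R N => T y) h3
      simp only [Module.End.mul_apply, LinearMap.sub_apply, Module.End.one_apply,
        LinearMap.sum_apply] at h4
      rw [LinearMap.sub_apply, Module.End.one_apply]
      exact h4
    have h5 : (1 - β : N →ₗ[R] N) x - y
        = -((1 - β : N →ₗ[R] N) ((∑ k ∈ Finset.range n, (β ^ k) y) - x)) - (β ^ n) y := by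
      rw [map_sub, htel]; abel
    rw [h5]
    have h6 : (∑ k ∈ Finset.range n, (β ^ k) y) - x ∈ (I ^ n • ⊤ : Submodule R N) :=
      SModEq.sub_mem.1 (hx n)
    exact sub_mem (neg_mem (hkeep n _ h6)) (hβk n y)
  -- the tensor map
  have hrt : Function.Injective ((1 - β : N →ₗ[R] N).rTensor M) := by
    obtain ⟨e, he⟩ : ∃ e : N ≃ₗ[R] N, ∀ x, e x = (1 - β : N →ₗ[R] N) x :=
      ⟨LinearEquiv.ofBijective (1 - β : N →ₗ[R] N) ⟨hinj, hsurj⟩, fun _ => rfl⟩
    have h8 : ((1 - β : N →ₗ[R] N).rTensor M)
        = ((e.rTensor M : N ⊗[R] M ≃ₗ[R] N ⊗[R] M) : N ⊗[R] M →ₗ[R] N ⊗[R] M) := by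
      refine TensorProduct.ext' fun n m => ?_
      simp [he, TensorProduct.sub_tmul]
    intro w1 w2 h12
    rw [h8] at h12
    exact (e.rTensor M).injective h12
  have hact : ∀ w : N ⊗[R] M, ((1 - β : N →ₗ[R] N).rTensor M) w = w - b • w := by
    intro w
    induction w using TensorProduct.induction_on with
    | zero => simp
    | tmul n m =>
      rw [LinearMap.rTensor_tmul, LinearMap.sub_apply, Module.End.one_apply, hβdef,
        TensorProduct.sub_tmul, TensorProduct.smul_tmul']
    | add w1 w2 h1 h2 => rw [map_add, h1, h2, smul_add]; abel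
  have haz : a • z = 0 := by
    have : a ∈ (Submodule.span S {z}).annihilator := hz ▸ ha
    exact (Submodule.mem_annihilator_span_singleton z a).1 this
  have hbz : z - b • z = 0 := by
    have h7 : (a + b) • z = z := by rw [hab, one_smul]
    rw [add_smul, haz, zero_add] at h7
    rw [h7, sub_self]
  have hz0 : z = 0 := by
    apply hrt
    rw [hact, hbz, map_zero]
  apply hqp.ne_top
  rw [hz, hz0]
  rw [eq_top_iff]
  intro s _
  rw [Submodule.mem_annihilator_span_singleton, smul_zero]

open TensorProduct in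
/-- Let R → S be a ring map, I an ideal of R and N an S-module which is I-adically complete. Then for
every R-module M and every prime q of S which is the annihilator of an element of the S-module N ⊗_R
M we have q + IS ≠ S. -/
theorem result {R S : Type u} [CommRing R] [CommRing S] [Algebra R S] (I : Ideal R)
    (N : Type u) [AddCommGroup N] [Module S N] [Module R N] [IsScalarTower R S N] [IsAdicComplete I N]
    (M : Type u) [AddCommGroup M] [Module R M]
    (q : Ideal S) [q.IsPrime] (hq : q ∈ FlatCA.ass S (N ⊗[R] M)) :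
    q ⊔ I.map (algebraMap R S) ≠ ⊤ := by
  exact aux I N M q hq

end Groth.Agent.S1214
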