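import Groth.Statements.S12147
import Mathlib
-- import your own Groth.Agent.* helpers here

set_option autoImplicit false
universe u
open CategoryTheory CategoryTheory.Limits AlgebraicGeometry TopologicalSpace Opposite

open scoped HomogeneousIdeal
noncomputable section
open EGA2

namespace Groth.Agent.S12147

/-- Let q : X → Y be a morphism, L an invertible O_X-module with 𝒮L = ⊕ L^{⊗n} (whose Proj, with its
charts, is X), v : 𝒯 → 𝒮 a graded homomorphism of quasi-coherent positively graded O_Y-algebras, ψ♭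
= u : 𝒮 → q_*𝒮L a graded q-morphism and ψ'♭ = u' its composite with v. Then the open of definition
G(ψ') of r_{L,ψ'} is contained in the open of definition G(ψ) of r_{L,ψ}; in particular, if r_{L,ψ'}
is everywhere defined then so is r_{L,ψ}. -/
theorem result {Y X P PL : Scheme.{u}} (q : X ⟶ Y)
    (L : X.Modules) (hL : PicF.IsInvertible L) (hLq : Coh.IsQCoh L)
    (𝒮 : RelProj.QCGrAlg Y) (𝒮L : RelProj.QCGrAlg X) (j : L ⟶ 𝒮L.toModule) (hj : RelProj.IsGrSymAlg L 𝒮L j)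
    (u : RelProj.QGrHom q 𝒮 𝒮L)
    (p : P ⟶ Y) (chart : ∀ (U : Y.Opens) (hU : IsAffineOpen U), (((p ⁻¹ᵁ U : P.Opens) : Scheme.{u}) ≅ Proj (𝒮.deg U hU)))
    (hP : RelProj.IsRelProj 𝒮 p chart)
    (pL : PL ⟶ X) (chartL : ∀ (U : X.Opens) (hU : IsAffineOpen U), (((pL ⁻¹ᵁ U : PL.Opens) : Scheme.{u}) ≅ Proj (𝒮L.deg U hU)))
    (hPL : RelProj.IsRelProj 𝒮L pL chartL)
    (𝒯 : RelProj.QCGrAlg Y) (v : 𝒯.toQCAlg ⟶ 𝒮.toQCAlg) (hv : RelProj.IsGradedHom v)
    (u' : RelProj.QGrHom q 𝒯 𝒮L) (hu' : ∀ U : Y.Opens, u'.app U = v.hom.app (op U) ≫ u.app U) :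
    RelProj.domQ u' pL chartL ≤ RelProj.domQ u pL chartL := by
  classical
  unfold RelProj.domQ
  refine iSup_le fun V => le_trans ?_ (le_iSup _ V)
  refine Scheme.Hom.image_mono _ ?_
  intro x hx
  rw [RelCone.mem_domOpen] at hx ⊢
  obtain ⟨f, hf, hfx⟩ := hx
  refine ⟨RelProj.gradedHomAt v hv V.1.1.1 V.1.1.2 f, ?_, ?_⟩
  · change _ ∈ (𝒮.deg V.1.1.1 V.1.1.2)₊
    have hf' : f ∈ (𝒯.deg V.1.1.1 V.1.1.2)₊ := hf
    rw [HomogeneousIdeal.mem_irrelevant_iff, GradedRing.proj_apply] at hf' ⊢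
    rw [← GradedRingHom.map_directSumDecompose, hf', map_zero]
  · have : u.gradedAt V.1.1.1 V.1.1.2 V.1.2.1 V.1.2.2 V.2 (RelProj.gradedHomAt v hv V.1.1.1 V.1.1.2 f) =
        u'.gradedAt V.1.1.1 V.1.1.2 V.1.2.1 V.1.2.2 V.2 f := by
      simp only [RelProj.QGrHom.gradedAt_apply, RelSpec.QHom.appLE, hu']
      rfl
    rw [this]
    exact hfx

end Groth.Agent.S12147
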