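import Groth.Statements.S12154
import Mathlib
import Groth.Agent.Lib.ProjQComp1_helper5
import Groth.Agent.Lib.ProjQComp2_helper5
import Groth.Agent.Lib.SpecChart_helper5

set_option autoImplicit false
universe u
open CategoryTheory CategoryTheory.Limits AlgebraicGeometry TopologicalSpace Opposite
open scoped HomogeneousIdeal
noncomputable section
open EGA2

namespace Groth.Agent.S12154

/-- Let q : X → Y be a morphism, L an invertible O_X-module with 𝒮L = ⊕ L^{⊗n} (whose Proj, with its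
charts, is X), v : 𝒯 → 𝒮 a graded homomorphism of quasi-coherent positively graded O_Y-algebras, ψ♭
= u : 𝒮 → q_*𝒮L a graded q-morphism and ψ'♭ = u' its composite with v; let r = r_{L,ψ} : G(ψ) →
Proj(𝒮) and r' = r_{L,ψ'} : G(ψ') → Proj(𝒯), with r' everywhere defined and v (TN)-surjective (v :
𝒯_k → 𝒮_k surjective for all large k, on sections over affine opens). If r' is an open immersion, so
is r; if r' is a closed immersion, so is r. -/
theorem result {Y X P PL P' : Scheme.{u}} (q : X ⟶ Y)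
    (L : X.Modules) (hL : PicF.IsInvertible L) (hLq : Coh.IsQCoh L)
    (𝒮 : RelProj.QCGrAlg Y) (𝒮L : RelProj.QCGrAlg X) (j : L ⟶ 𝒮L.toModule) (hj : RelProj.IsGrSymAlg L 𝒮L j)
    (u : RelProj.QGrHom q 𝒮 𝒮L)
    (p : P ⟶ Y) (chart : ∀ (U : Y.Opens) (hU : IsAffineOpen U), (((p ⁻¹ᵁ U : P.Opens) : Scheme.{u}) ≅ Proj (𝒮.deg U hU)))
    (hP : RelProj.IsRelProj 𝒮 p chart)
    (pL : PL ⟶ X) (chartL : ∀ (U : X.Opens) (hU : IsAffineOpen U), (((pL ⁻¹ᵁ U : PL.Opens) : Scheme.{u}) ≅ Proj (𝒮L.deg U hU)))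
    (hPL : RelProj.IsRelProj 𝒮L pL chartL)
    (r : ((RelProj.domQ u pL chartL : PL.Opens) : Scheme.{u}) ⟶ P)
    (hr : RelProj.IsProjQMapOn u p chart pL chartL (RelProj.domQ u pL chartL) r)
    (𝒯 : RelProj.QCGrAlg Y) (v : 𝒯.toQCAlg ⟶ 𝒮.toQCAlg) (hv : RelProj.IsGradedHom v)
    (u' : RelProj.QGrHom q 𝒯 𝒮L) (hu' : ∀ U : Y.Opens, u'.app U = v.hom.app (op U) ≫ u.app U)
    (p' : P' ⟶ Y) (chart' : ∀ (U : Y.Opens) (hU : IsAffineOpen U), (((p' ⁻¹ᵁ U : P'.Opens) : Scheme.{u}) ≅ Proj (𝒯.deg U hU)))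
    (hP' : RelProj.IsRelProj 𝒯 p' chart')
    (r' : ((RelProj.domQ u' pL chartL : PL.Opens) : Scheme.{u}) ⟶ P')
    (hr' : RelProj.IsProjQMapOn u' p' chart' pL chartL (RelProj.domQ u' pL chartL) r')
    (hTN : ∃ n : ℕ, ∀ k, n ≤ k → ∀ (U : Y.Opens) (hU : IsAffineOpen U), ∀ y ∈ 𝒮.deg U hU k,
      ∃ x ∈ 𝒯.deg U hU k, (v.hom.app (op U)).hom x = y)
    (hdef : RelProj.domQ u' pL chartL = ⊤) :
    (IsOpenImmersion r' → IsOpenImmersion r) ∧ (IsClosedImmersion r' → IsClosedImmersion r) := by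
  obtain ⟨Φ, hΦ⟩ := Groth.Agent.ProjQ.exists_projQMapOn (RelProj.QGrHom.ofHom v hv) hP' hP
  obtain ⟨hle, ρ, h1, h2, -⟩ :=
    Groth.Agent.ProjQComp.exists_factor u v hv u' hu' hP hPL r hr Φ hΦ r' hr'
  haveI hΦc : IsClosedImmersion Φ :=
    Groth.Agent.ProjQComp.isClosedImmersion_of_TN v hv hTN hP' hP Φ hΦ
  have hGv : RelProj.domQ (RelProj.QGrHom.ofHom v hv) p chart = ⊤ :=
    Groth.Agent.ProjQComp.domQ_eq_top_of_TN v hv hTN
  haveI : IsIso (RelProj.domQ (RelProj.QGrHom.ofHom v hv) p chart).ι :=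
    Groth.Agent.SpecChart.isIso_ι_of_eq_top _ hGv
  haveI : IsIso (PL.homOfLE hle) :=
    Groth.Agent.ProjQComp.isIso_homOfLE hle (by rw [hdef]; exact le_top)
  constructor
  · intro hopen
    haveI : IsOpenImmersion (ρ ≫ Φ) := h2 ▸ hopen
    haveI : IsOpenImmersion ρ := Groth.Agent.ProjQComp.isOpenImmersion_of_comp_mono ρ Φ
    haveI : IsOpenImmersion (PL.homOfLE hle ≫ r) :=
      h1 ▸ (inferInstance :
        IsOpenImmersion (ρ ≫ (RelProj.domQ (RelProj.QGrHom.ofHom v hv) p chart).ι))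
    exact (MorphismProperty.cancel_left_of_respectsIso @IsOpenImmersion (PL.homOfLE hle) r).mp
      inferInstance
  · intro hclosed
    haveI : IsClosedImmersion (ρ ≫ Φ) := h2 ▸ hclosed
    haveI : IsClosedImmersion ρ := IsClosedImmersion.of_comp ρ Φ
    haveI : IsClosedImmersion (PL.homOfLE hle ≫ r) :=
      h1 ▸ (inferInstance :
        IsClosedImmersion (ρ ≫ (RelProj.domQ (RelProj.QGrHom.ofHom v hv) p chart).ι))
    exact (MorphismProperty.cancel_left_of_respectsIso @IsClosedImmersion (PL.homOfLE hle) r).mp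
      inferInstance

end Groth.Agent.S12154
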