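import Groth.Statements.S12161
import Mathlib
import Groth.Agent.Lib.LineImmU5_helper5
import Groth.Agent.Lib.LineImm8_helper5
import Groth.Agent.Lib.ProjQLim2_helper5
import Groth.Agent.S12153

set_option autoImplicit false
universe u
open CategoryTheory CategoryTheory.Limits AlgebraicGeometry TopologicalSpace Opposite
open scoped HomogeneousIdeal
noncomputable section
open EGA2

namespace Groth.Agent.S12161

/-- Let Y be a quasi-compact scheme, q : X → Y a quasi-compact morphism, L an invertible O_X-module with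
𝒮L = ⊕ L^{⊗n} (whose Proj is X), 𝒮 = colim 𝒮^i a filtered colimit of quasi-coherent positively
graded O_Y-algebras along graded homomorphisms φ_i : 𝒮^i → 𝒮 (colimit taken on sections over affine
opens), ψ♭ = u : 𝒮 → q_*𝒮L a graded q-morphism and ψ_i♭ = u ∘ φ_i, with q of finite type; let r =
r_{L,ψ} : G(ψ) → Proj(𝒮) and r_i = r_{L,ψ_i} : G(ψ_i) → Proj(𝒮^i). Then r is everywhere defined and
an immersion if and only if some r_i is, and then so is r_j for all j ≥ i. -/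
theorem result {Y X P PL : Scheme.{u}} (q : X ⟶ Y)
    (L : X.Modules) (hL : PicF.IsInvertible L) (hLq : Coh.IsQCoh L)
    (𝒮 : RelProj.QCGrAlg Y) (𝒮L : RelProj.QCGrAlg X) (j : L ⟶ 𝒮L.toModule) (hj : RelProj.IsGrSymAlg L 𝒮L j)
    (u : RelProj.QGrHom q 𝒮 𝒮L)
    (p : P ⟶ Y) (chart : ∀ (U : Y.Opens) (hU : IsAffineOpen U), (((p ⁻¹ᵁ U : P.Opens) : Scheme.{u}) ≅ Proj (𝒮.deg U hU)))
    (hP : RelProj.IsRelProj 𝒮 p chart)
    (pL : PL ⟶ X) (chartL : ∀ (U : X.Opens) (hU : IsAffineOpen U), (((pL ⁻¹ᵁ U : PL.Opens) : Scheme.{u}) ≅ Proj (𝒮L.deg U hU)))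
    (hPL : RelProj.IsRelProj 𝒮L pL chartL)
    [CompactSpace Y] [QuasiCompact q] [LocallyOfFiniteType q]
    (r : ((RelProj.domQ u pL chartL : PL.Opens) : Scheme.{u}) ⟶ P)
    (hr : RelProj.IsProjQMapOn u p chart pL chartL (RelProj.domQ u pL chartL) r)
    (Λ : Type u) [Preorder Λ] [IsDirected Λ (· ≤ ·)] [Nonempty Λ]
    (𝒮i : Λ → RelProj.QCGrAlg Y) (φ : ∀ i, (𝒮i i).toQCAlg ⟶ 𝒮.toQCAlg) (hφ : ∀ i, RelProj.IsGradedHom (φ i))
    (t : ∀ i j, i ≤ j → ((𝒮i i).toQCAlg ⟶ (𝒮i j).toQCAlg)) (ht : ∀ i j (h : i ≤ j), RelProj.IsGradedHom (t i j h))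
    (hφt : ∀ i j (h : i ≤ j), t i j h ≫ φ j = φ i)
    (hsurj : ∀ (U : Y.Opens), IsAffineOpen U → ∀ x : 𝒮.presheaf.obj (op U),
      ∃ (i : Λ) (y : (𝒮i i).presheaf.obj (op U)), ((φ i).hom.app (op U)).hom y = x)
    (hker : ∀ (U : Y.Opens), IsAffineOpen U → ∀ (i : Λ) (y : (𝒮i i).presheaf.obj (op U)),
      ((φ i).hom.app (op U)).hom y = 0 → ∃ (j : Λ) (h : i ≤ j), ((t i j h).hom.app (op U)).hom y = 0)
    (ui : ∀ i, RelProj.QGrHom q (𝒮i i) 𝒮L) (hui : ∀ i (U : Y.Opens), (ui i).app U = (φ i).hom.app (op U) ≫ u.app U)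
    (Pi : Λ → Scheme.{u}) (pi : ∀ i, Pi i ⟶ Y)
    (charti : ∀ i (U : Y.Opens) (hU : IsAffineOpen U), ((((pi i) ⁻¹ᵁ U : (Pi i).Opens) : Scheme.{u}) ≅ Proj ((𝒮i i).deg U hU)))
    (hPi : ∀ i, RelProj.IsRelProj (𝒮i i) (pi i) (charti i))
    (ri : ∀ i, ((RelProj.domQ (ui i) pL chartL : PL.Opens) : Scheme.{u}) ⟶ Pi i)
    (hri : ∀ i, RelProj.IsProjQMapOn (ui i) (pi i) (charti i) pL chartL (RelProj.domQ (ui i) pL chartL) (ri i)) :
    ((RelProj.domQ u pL chartL = ⊤ ∧ IsImmersion r) ↔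
        ∃ i, RelProj.domQ (ui i) pL chartL = ⊤ ∧ IsImmersion (ri i)) ∧
      ∀ i, (RelProj.domQ (ui i) pL chartL = ⊤ ∧ IsImmersion (ri i)) →
        ∀ j, i ≤ j → RelProj.domQ (ui j) pL chartL = ⊤ ∧ IsImmersion (ri j) := by
  classical
  haveI : L.IsQuasicoherent := hLq
  haveI := Groth.Agent.SymInv.isIso_pL L 𝒮L j hL hj hPL
  haveI : CompactSpace X := QuasiCompact.compactSpace_of_compactSpace q
  haveI : CompactSpace PL := QuasiCompact.compactSpace_of_compactSpace pL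
  have hmain := Groth.Agent.ProjQLim.main q 𝒮 𝒮L u pL chartL hPL Λ 𝒮i φ hφ t ht hφt hsurj ui hui
  refine ⟨⟨?_, ?_⟩, ?_⟩
  · -- (⇒): the finite-type argument
    rintro ⟨hG, him⟩
    haveI : IsImmersion (Groth.Agent.LineImm.RR q 𝒮 𝒮L u pL chartL r hG) :=
      (Groth.Agent.LineImm.prop_RR_iff q 𝒮 𝒮L u pL chartL r hG @IsImmersion).mpr him
    obtain ⟨i₀, hi₀⟩ := hmain.1.mp hG
    -- a chart around the image of every point
    have hpt : ∀ x : X, ∃ (U : Y.Opens) (hU : IsAffineOpen U) (n : ℕ) (_ : 0 < n)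
        (f : 𝒮.presheaf.obj (op U)) (_ : f ∈ 𝒮.deg U hU n),
        x ∈ (Groth.Agent.LineImm.RR q 𝒮 𝒮L u pL chartL r hG) ⁻¹ᵁ
          Groth.Agent.LineImmU.DU 𝒮 p chart U hU f ∧
        Groth.Agent.LineImmU.DU 𝒮 p chart U hU f ≤
          (Groth.Agent.LineImm.RR q 𝒮 𝒮L u pL chartL r hG).coborderRange := by
      intro x
      obtain ⟨U, hU, hxU, -⟩ := Opens.isBasis_iff_nbhd.mp Y.isBasis_affineOpens
        (Opens.mem_top (q.base x))
      have hcomp := Groth.Agent.LineImmU.RR_comp_p q 𝒮 𝒮L u p chart hP pL chartL hPL r hr hG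
      have hw : (Groth.Agent.LineImm.RR q 𝒮 𝒮L u pL chartL r hG).base x ∈ p ⁻¹ᵁ U := by
        show p.base ((Groth.Agent.LineImm.RR q 𝒮 𝒮L u pL chartL r hG).base x) ∈ U
        have h2 := congrArg (fun m => m.base x) hcomp
        simp only [Scheme.Hom.comp_base, TopCat.coe_comp, Function.comp_apply] at h2
        rw [h2]
        exact hxU
      have hz : Groth.Agent.RelProjTN.zpt p chart U hU _ hw ∈ (RelProj.emb p chart U hU) ⁻¹ᵁ
          (Groth.Agent.LineImm.RR q 𝒮 𝒮L u pL chartL r hG).coborderRange := by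
        show (RelProj.emb p chart U hU).base (Groth.Agent.RelProjTN.zpt p chart U hU _ hw) ∈
          (Groth.Agent.LineImm.RR q 𝒮 𝒮L u pL chartL r hG).coborderRange
        rw [Groth.Agent.RelProjTN.emb_zpt]
        exact subset_coborder ⟨x, rfl⟩
      obtain ⟨d, hd, f, hf, hzf, hfO⟩ :=
        Groth.Agent.ProjQLim.exists_homogeneous_basicOpen (𝒮.deg U hU) _ _ hz
      refine ⟨U, hU, d, hd, f, hf, ?_, ?_⟩
      · exact ⟨_, hzf, Groth.Agent.RelProjTN.emb_zpt U hU _ hw⟩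
      · rintro _ ⟨z', hz', rfl⟩
        exact hfO hz'
    choose Ux hUx nx hnx fx hfx hxmem hxle using hpt
    -- affineness and surjectivity from the immersion
    have haff : ∀ x : X, IsAffineOpen ((Groth.Agent.LineImm.RR q 𝒮 𝒮L u pL chartL r hG) ⁻¹ᵁ
          Groth.Agent.LineImmU.DU 𝒮 p chart (Ux x) (hUx x) (fx x)) ∧
        Function.Surjective ((Groth.Agent.LineImm.RR q 𝒮 𝒮L u pL chartL r hG).app
          (Groth.Agent.LineImmU.DU 𝒮 p chart (Ux x) (hUx x) (fx x))) := fun x =>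
      Groth.Agent.LineImm.of_isImmersion (Groth.Agent.LineImm.RR q 𝒮 𝒮L u pL chartL r hG) _
        (Groth.Agent.LineImmU.isAffineOpen_DU 𝒮 p chart (Ux x) (hUx x) (hnx x) (fx x) (hfx x)) (hxle x)
    have hchart : ∀ x : X, ∃ i₁ : Λ, ∀ i, i₁ ≤ i → ∀ hGi : RelProj.domQ (ui i) pL chartL = ⊤,
        ∃ (f' : (𝒮i i).presheaf.obj (op (Ux x))) (_ : f' ∈ (𝒮i i).deg (Ux x) (hUx x) (nx x)),
          (Groth.Agent.LineImm.RR q (𝒮i i) 𝒮L (ui i) pL chartL (ri i) hGi) ⁻¹ᵁ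
              Groth.Agent.LineImmU.DU (𝒮i i) (pi i) (charti i) (Ux x) (hUx x) f' =
            (Groth.Agent.LineImm.RR q 𝒮 𝒮L u pL chartL r hG) ⁻¹ᵁ
              Groth.Agent.LineImmU.DU 𝒮 p chart (Ux x) (hUx x) (fx x) ∧
          Function.Surjective
            ((Groth.Agent.LineImm.RR q (𝒮i i) 𝒮L (ui i) pL chartL (ri i) hGi).app
              (Groth.Agent.LineImmU.DU (𝒮i i) (pi i) (charti i) (Ux x) (hUx x) f')) := fun x =>
      Groth.Agent.LineImmU.per_chart q 𝒮 𝒮L u p chart hP pL chartL hPL r hr hG Λ 𝒮i φ hφ t ht hφt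
        hsurj ui hui Pi pi charti hPi ri hri (Ux x) (hUx x) (hnx x) (fx x) (hfx x) _ (haff x).1 rfl
        (haff x).2
    choose i₁ hi₁ using hchart
    -- finite subcover
    obtain ⟨T, hT⟩ := isCompact_univ.elim_finite_subcover
      (fun x : X => (((Groth.Agent.LineImm.RR q 𝒮 𝒮L u pL chartL r hG) ⁻¹ᵁ
        Groth.Agent.LineImmU.DU 𝒮 p chart (Ux x) (hUx x) (fx x) : X.Opens) : Set X))
      (fun x => Opens.isOpen _) (fun x _ => Set.mem_iUnion.mpr ⟨x, hxmem x⟩)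
    obtain ⟨i₂, hi₂⟩ := Finset.exists_le (T.image i₁)
    obtain ⟨i, hi0, hi2⟩ := directed_of (· ≤ ·) i₀ i₂
    have hGi : RelProj.domQ (ui i) pL chartL = ⊤ := hmain.2 i₀ hi₀ i hi0
    refine ⟨i, hGi, ?_⟩
    have hdata : ∀ x : T, ∃ (f' : (𝒮i i).presheaf.obj (op (Ux x.1)))
        (_ : f' ∈ (𝒮i i).deg (Ux x.1) (hUx x.1) (nx x.1)),
          (Groth.Agent.LineImm.RR q (𝒮i i) 𝒮L (ui i) pL chartL (ri i) hGi) ⁻¹ᵁ
              Groth.Agent.LineImmU.DU (𝒮i i) (pi i) (charti i) (Ux x.1) (hUx x.1) f' =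
            (Groth.Agent.LineImm.RR q 𝒮 𝒮L u pL chartL r hG) ⁻¹ᵁ
              Groth.Agent.LineImmU.DU 𝒮 p chart (Ux x.1) (hUx x.1) (fx x.1) ∧
          Function.Surjective
            ((Groth.Agent.LineImm.RR q (𝒮i i) 𝒮L (ui i) pL chartL (ri i) hGi).app
              (Groth.Agent.LineImmU.DU (𝒮i i) (pi i) (charti i) (Ux x.1) (hUx x.1) f')) := fun x =>
      hi₁ x.1 i ((hi₂ _ (Finset.mem_image_of_mem i₁ x.2)).trans hi2) hGi
    choose f' hf' hpre hsur using hdata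
    rw [← Groth.Agent.LineImm.prop_RR_iff q (𝒮i i) 𝒮L (ui i) pL chartL (ri i) hGi @IsImmersion]
    refine Groth.Agent.LineImm.isImmersion_of_cover _
      (fun x : T => Groth.Agent.LineImmU.DU (𝒮i i) (pi i) (charti i) (Ux x.1) (hUx x.1) (f' x))
      (fun x => Groth.Agent.LineImmU.isAffineOpen_DU (𝒮i i) (pi i) (charti i) (Ux x.1) (hUx x.1)
        (hnx x.1) (f' x) (hf' x)) ?_ ?_ (fun x => hsur x)
    · intro y
      have hy := hT (Set.mem_univ y)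
      obtain ⟨x, hx⟩ := Set.mem_iUnion.mp hy
      obtain ⟨hxT, hyx⟩ := Set.mem_iUnion.mp hx
      refine ⟨⟨x, hxT⟩, ?_⟩
      have : y ∈ (Groth.Agent.LineImm.RR q (𝒮i i) 𝒮L (ui i) pL chartL (ri i) hGi) ⁻¹ᵁ
          Groth.Agent.LineImmU.DU (𝒮i i) (pi i) (charti i) (Ux x) (hUx x) (f' ⟨x, hxT⟩) := by
        rw [hpre ⟨x, hxT⟩]
        exact hyx
      exact this
    · intro x
      rw [hpre x]
      exact (haff x.1).1
  · -- (⇐)
    rintro ⟨i, hdef, himm⟩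
    exact Groth.Agent.S12153.result q L hL hLq 𝒮 𝒮L j hj u p chart hP pL chartL hPL r hr (𝒮i i) (φ i)
      (hφ i) (ui i) (hui i) (pi i) (charti i) (hPi i) (ri i) (hri i) hdef himm
  · -- monotonicity
    rintro i ⟨hdef, himm⟩ k hik
    refine Groth.Agent.S12153.result q L hL hLq (𝒮i k) 𝒮L j hj (ui k) (pi k) (charti k) (hPi k) pL chartL
      hPL (ri k) (hri k) (𝒮i i) (t i k hik) (ht i k hik) (ui i) (fun U => ?_) (pi i) (charti i) (hPi i)
      (ri i) (hri i) hdef himm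
    rw [hui i U, hui k U, ← Category.assoc]
    congr 1
    exact congrArg (fun ψ => ψ.hom.app (op U)) (hφt i k hik).symm

end Groth.Agent.S12161
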