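import Groth.Statements.S12163
import Mathlib
-- import your own Groth.Agent.* helpers here

set_option autoImplicit false
universe u
open CategoryTheory CategoryTheory.Limits AlgebraicGeometry TopologicalSpace Opposite

open scoped HomogeneousIdeal
noncomputable section
open EGA2

namespace Groth.Agent.S12163

/-- Let φ : 𝒜 → ℬ be a graded homomorphism of quasi-coherent positively graded O_Y-algebras and PB =
Proj(ℬ) with its charts. If every point of Y has an affine neighbourhood U over which the irrelevant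
ideal of ℬ(U) is contained in the ideal generated by φ(𝒜(U)_+), then the open of definition G(φ) of
Proj(φ) is all of PB. (The published condition asks 𝒮_+ to be generated by the image as a module
over the functions on U; generation as an ideal, used here, is implied by it.) -/
theorem result {Y PB : Scheme.{u}} (𝒜 ℬ : RelProj.QCGrAlg Y)
    (φ : 𝒜.toQCAlg ⟶ ℬ.toQCAlg) (hφ : RelProj.IsGradedHom φ)
    (pB : PB ⟶ Y) (chartB : ∀ (U : Y.Opens) (hU : IsAffineOpen U), (((pB ⁻¹ᵁ U : PB.Opens) : Scheme.{u}) ≅ Proj (ℬ.deg U hU)))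
    (hB : RelProj.IsRelProj ℬ pB chartB)
    (hcov : ∀ y : Y, ∃ (U : Y.Opens) (hU : IsAffineOpen U), y ∈ U ∧
      (ℬ.deg U hU)₊ ≤ ((𝒜.deg U hU)₊).map (RelProj.gradedHomAt φ hφ U hU)) :
    RelProj.domQ (RelProj.QGrHom.ofHom φ hφ) pB chartB = ⊤ := by
  classical
  rw [eq_top_iff]
  intro x _
  obtain ⟨U, hU, hyU, hirr⟩ := hcov (pB.base x)
  have hle : U ≤ (𝟙 Y : Y ⟶ Y) ⁻¹ᵁ U := le_of_eq rfl
  unfold RelProj.domQ
  refine Opens.mem_iSup.mpr ⟨⟨(⟨U, hU⟩, ⟨U, hU⟩), hle⟩, ?_⟩
  have hx : x ∈ pB ⁻¹ᵁ U := hyU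
  let z : Proj (ℬ.deg U hU) := (chartB U hU).hom.base ⟨x, hx⟩
  have hz : (RelProj.emb pB chartB U hU).base z = x := by
    unfold RelProj.emb
    rw [Scheme.Hom.comp_base, TopCat.coe_comp, Function.comp_apply]
    change (pB ⁻¹ᵁ U).ι.base (((chartB U hU).hom ≫ (chartB U hU).inv).base ⟨x, hx⟩) = x
    rw [Iso.hom_inv_id]
    rfl
  refine ⟨z, ?_, hz⟩
  rw [SetLike.mem_coe, RelCone.mem_domOpen]
  by_contra hcon
  push Not at hcon
  apply z.not_irrelevant_le
  refine le_trans hirr ?_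
  change Ideal.map _ _ ≤ z.asHomogeneousIdeal.toIdeal
  rw [Ideal.map_le_iff_le_comap]
  intro f hf
  have h1 := hcon f hf
  rw [Ideal.mem_comap]
  have h2 : (RelProj.QGrHom.ofHom φ hφ).gradedAt U hU U hU hle f = RelProj.gradedHomAt φ hφ U hU f := by
    simp only [RelProj.QGrHom.gradedAt_apply, RelSpec.QHom.appLE]
    have h3 : ℬ.presheaf.map (homOfLE (le_refl U)).op = 𝟙 _ := by
      have : homOfLE (le_refl U) = 𝟙 U := Subsingleton.elim _ _
      rw [this]; exact ℬ.presheaf.map_id (op U)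
    change (ℬ.presheaf.map (homOfLE (le_refl U)).op).hom ((φ.hom.app (op U)).hom f) = _
    rw [h3]; rfl
  rw [← h2]
  exact h1

end Groth.Agent.S12163
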