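import Groth.Statements.S12166
import Mathlib
import Groth.Agent.Lib.RelProjTN2_helper5

set_option autoImplicit false
universe u
open CategoryTheory CategoryTheory.Limits AlgebraicGeometry TopologicalSpace Opposite
open scoped HomogeneousIdeal
noncomputable section
open EGA2

namespace Groth.Agent.S12166

/-- Let φ : 𝒜 → ℬ be a graded homomorphism of quasi-coherent positively graded O_Y-algebras which is a
(TN)-isomorphism (φ : 𝒜_k → ℬ_k bijective for all large k, on sections over affine opens), PA =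
Proj(𝒜), PB = Proj(ℬ) with their charts. Then Proj(φ) is defined on all of PB and is an isomorphism
PB → PA. -/
theorem result {Y PA PB : Scheme.{u}} (𝒜 ℬ : RelProj.QCGrAlg Y)
    (φ : 𝒜.toQCAlg ⟶ ℬ.toQCAlg) (hφ : RelProj.IsGradedHom φ)
    (hTN : ∃ n : ℕ, ∀ k, n ≤ k → ∀ (U : Y.Opens) (hU : IsAffineOpen U),
      (∀ x ∈ 𝒜.deg U hU k, (φ.hom.app (op U)).hom x = 0 → x = 0) ∧
        ∀ y ∈ ℬ.deg U hU k, ∃ x ∈ 𝒜.deg U hU k, (φ.hom.app (op U)).hom x = y)
    (pA : PA ⟶ Y) (chartA : ∀ (U : Y.Opens) (hU : IsAffineOpen U), (((pA ⁻¹ᵁ U : PA.Opens) : Scheme.{u}) ≅ Proj (𝒜.deg U hU)))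
    (hA : RelProj.IsRelProj 𝒜 pA chartA)
    (pB : PB ⟶ Y) (chartB : ∀ (U : Y.Opens) (hU : IsAffineOpen U), (((pB ⁻¹ᵁ U : PB.Opens) : Scheme.{u}) ≅ Proj (ℬ.deg U hU)))
    (hB : RelProj.IsRelProj ℬ pB chartB) :
    RelProj.domQ (RelProj.QGrHom.ofHom φ hφ) pB chartB = ⊤ ∧
      ∀ h : PB ⟶ PA, RelProj.IsProjQMap (RelProj.QGrHom.ofHom φ hφ) pA chartA pB chartB h → IsIso h := by
  obtain ⟨n₀, hn⟩ := hTN
  have hsurj : ∀ (U : Y.Opens) (hU : IsAffineOpen U), ∀ n, n₀ ≤ n → ∀ b ∈ ℬ.deg U hU n,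
      ∃ a ∈ 𝒜.deg U hU n, Groth.Agent.RelProjTN.psi φ hφ U hU a = b := by
    intro U hU n hn' b hb
    obtain ⟨a, ha, hab⟩ := (hn n hn' U hU).2 b hb
    exact ⟨a, ha, by rw [Groth.Agent.RelProjTN.psi_apply]; exact hab⟩
  have hcov : ∀ (U : Y.Opens) (hU : IsAffineOpen U),
      Groth.Agent.RelProjTN.Cov (Groth.Agent.RelProjTN.psi φ hφ U hU) :=
    fun U hU => Groth.Agent.RelProjTN.cov_of_eventually _ n₀ (hsurj U hU)
  refine ⟨Groth.Agent.RelProjTN.domQ_eq_top hcov, fun h hh => ?_⟩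
  have hQ := Groth.Agent.RelProjTN.HQ_of_isProjQMap φ hφ pA chartA pB chartB h hh
  refine Groth.Agent.RelProjTN.of_chart_rel (MorphismProperty.isomorphisms Scheme.{u}) hA hB hcov hQ
    fun U hU d hd f hf => ?_
  have hbij : ∀ n, n₀ ≤ n → Set.BijOn (Groth.Agent.RelProjTN.psi φ hφ U hU)
      (𝒜.deg U hU n) (ℬ.deg U hU n) := by
    intro n hn'
    refine ⟨fun x hx => (Groth.Agent.RelProjTN.psi φ hφ U hU).map_mem hx, ?_, ?_⟩
    · intro x hx y hy hxy
      have hsub : x - y ∈ 𝒜.deg U hU n := sub_mem hx hy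
      have h0 : (φ.hom.app (op U)).hom (x - y) = 0 := by
        rw [← Groth.Agent.RelProjTN.psi_apply φ hφ U hU, map_sub, hxy, sub_self]
      exact sub_eq_zero.mp ((hn n hn' U hU).1 _ hsub h0)
    · intro b hb
      obtain ⟨a, ha, hab⟩ := hsurj U hU n hn' b hb
      exact ⟨a, ha, hab⟩
  have : IsIso (CommRingCat.ofHom (HomogeneousLocalization.Away.map
      (Groth.Agent.RelProjTN.psi φ hφ U hU) f)) :=
    (ConcreteCategory.isIso_iff_bijective _).mpr
      (Groth.Agent.Lib.ProjMap_helper3.away_map_bijective_of_eventually _ _ _ n₀ hbij hd f hf)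
  exact (inferInstance : IsIso (Spec.map (CommRingCat.ofHom (HomogeneousLocalization.Away.map
      (Groth.Agent.RelProjTN.psi φ hφ U hU) f))))

end Groth.Agent.S12166
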