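import Groth.Statements.S12193
import Groth.Agent.S9966
import Groth.Agent.S10193
import Groth.Agent.Lib.AlgSpReduced_helper7
import Groth.Agent.Lib.AlgSpSmST_helper7
import Groth.Agent.Lib.AlgSpQC2_helper7
import Groth.Agent.Lib.AlgSpThickCI_helper7

set_option autoImplicit false
universe u
open CategoryTheory CategoryTheory.Limits AlgebraicGeometry
open AlgSp

namespace Groth.Agent.S12193

/-- Let X be a reduced algebraic space over S, f : X → Y a morphism of algebraic spaces over S, and Z →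
Y the scheme theoretic image of f. Then forming the scheme theoretic image commutes with etale base
change: for every etale morphism V → Y of algebraic spaces and cartesian squares X ×_Y V, Z ×_Y V,
the closed subspace Z ×_Y V → V is the scheme theoretic image of X ×_Y V → V. -/
theorem result {S : Scheme.{u}} {X Y Z V XV ZV : AlgSp.Space S} (f : X ⟶ Y)
    (i : Z ⟶ Y) (hX : AlgSp.IsReducedSp X.obj) (hZ : AlgSp.IsSchImage f.hom i.hom) (b : V ⟶ Y)
    (hb : AlgSp.IsEtaleMor b.hom) (f₁ : XV ⟶ X) (fV : XV ⟶ V) (i₁ : ZV ⟶ Z) (iV : ZV ⟶ V)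
    (sqX : IsPullback f₁.hom fV.hom f.hom b.hom) (sqZ : IsPullback i₁.hom iV.hom i.hom b.hom) :
    AlgSp.IsSchImage fV.hom iV.hom := by
  have hXs := X.property
  have hYs := Y.property
  have hZs := Z.property
  have hVs := V.property
  have hZVs := ZV.property
  obtain ⟨hi, hrange, hZred⟩ := Groth.Agent.S9966.result f i hX hZ
  have hiV : AlgSp.RepWith @IsClosedImmersion iV.hom :=
    Groth.Agent.Lib.AlgSpQC_helper7.repWith_snd_of_isPullback _ sqZ hi
  obtain ⟨f', hf'⟩ := hZ.2.1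
  refine ⟨hiV, ⟨sqZ.lift (f₁.hom ≫ f') fV.hom (by rw [Category.assoc, hf', sqX.w]),
    sqZ.lift_snd _ _ _⟩, ?_⟩
  rintro Z' i' hZ' hi' ⟨fV'', hfV''⟩
  have hi₁ : AlgSp.IsEtaleMor i₁.hom :=
    Groth.Agent.Lib.AlgSpSmST_helper7.isEtaleMor_of_isPullback hVs hYs hZs sqZ.flip hb
  have hZVred : AlgSp.IsReducedSp ZV.obj :=
    Groth.Agent.Lib.AlgSpReduced_helper7.isReducedSp_of_smooth hZVs hZs i₁.hom
      (Groth.Agent.Lib.AlgSpSmST_helper7.locP_smooth_of_isEtaleMor _ hi₁) hZred
  have hincl : Set.range (AlgSp.Points.map iV.hom) ⊆ Set.range (AlgSp.Points.map i') := by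
    rintro _ ⟨z, rfl⟩
    have hopen : IsOpenMap (AlgSp.Points.map b.hom) :=
      Groth.Agent.Lib.AlgSpQC2_helper7.isUnivOpenMor_of_isEtaleMor hVs b.hom hb hYs (𝟙 _) (𝟙 _) b.hom
        (Groth.Agent.Lib.AlgSpSmST_helper7.isPullback_id_left b.hom)
    have hcl : IsClosed (Set.range (AlgSp.Points.map i')) :=
      (Groth.Agent.Lib.AlgSpUnramLocal.closed_inj_of_repWith_isClosedImmersion hZ' hVs i'
        hi').1.isClosed_range
    have hmem : AlgSp.Points.map b.hom (AlgSp.Points.map iV.hom z) ∈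
        closure (Set.range (AlgSp.Points.map f.hom)) := by
      rw [← hrange, ← AlgSp.Points.map_comp, ← sqZ.w, AlgSp.Points.map_comp]
      exact ⟨_, rfl⟩
    have h2 : AlgSp.Points.map iV.hom z ∈
        closure (AlgSp.Points.map b.hom ⁻¹' Set.range (AlgSp.Points.map f.hom)) := by
      rw [← hopen.preimage_closure_eq_closure_preimage (AlgSp.Points.continuous_map _)]
      exact hmem
    refine (hcl.closure_subset_iff.2 ?_) h2
    rintro v ⟨x, hx⟩
    obtain ⟨w, hw1, hw2⟩ :=
      Groth.Agent.Lib.AlgSpPoints_helper7.exists_of_isPullback sqX x v hx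
    rw [← hw2, ← hfV'', AlgSp.Points.map_comp]
    exact ⟨_, rfl⟩
  obtain ⟨g, hg⟩ := (Groth.Agent.S10193.result (X := V) (Y := ZV) (Z := ⟨Z', hZ'⟩)
    (ObjectProperty.homMk i') hi' hZVred iV).2 hincl
  exact ⟨g.hom, congrArg (fun m => m.hom) hg⟩

end Groth.Agent.S12193
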