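import Groth.Statements.S12205
import Mathlib
import Groth.Agent.Lib.TorBridge_helper9

set_option autoImplicit false
universe u
open CategoryTheory
open scoped TensorProduct
open CAlg

namespace Groth.Agent.S12205

/-- Let I be an ideal of a commutative ring R and M an R-module such that M/IM is flat over R/I and
Tor_1^R(R/I, M) = 0. Then Tor_1^R(N, M) = 0 for every R-module N annihilated by I^m for some m ≥ 0.
Here Tor_1^R(N, M) is the first left derived functor of N ⊗_R − evaluated at M. -/
theorem result (R : Type u) [CommRing R] (I : Ideal R) (M : Type u)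
    [AddCommGroup M] [Module R M] [Module.Flat (R ⧸ I) ((R ⧸ I) ⊗[R] M)]
    (h : Limits.IsZero (((CategoryTheory.Tor (ModuleCat.{u} R) 1).obj (ModuleCat.of R (R ⧸ I))).obj (ModuleCat.of R M)))
    (N : Type u) [AddCommGroup N] [Module R N] (m : ℕ) (hN : ∀ a : R, a ∈ I ^ m → ∀ x : N, a • x = 0) :
    Limits.IsZero (((CategoryTheory.Tor (ModuleCat.{u} R) 1).obj (ModuleCat.of R N)).obj (ModuleCat.of R M)) := by

  classical
  have key : ∀ (K F : Type u) [AddCommGroup K] [Module R K] [AddCommGroup F] [Module R F]
      [Module.Flat R F] (f : K →ₗ[R] F) (g : F →ₗ[R] M), Function.Injective f →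
      Function.Exact f g → Function.Surjective g →
      Limits.IsZero (((CategoryTheory.Tor (ModuleCat.{u} R) 1).obj (ModuleCat.of R N)).obj
        (ModuleCat.of R M)) := by
    intro K F _ _ _ _ _ f g hf hfg hg
    rw [Groth.Agent.Lib.TorBridge.isZero_tor_one_iff (R ⧸ I) M f g hf hfg hg] at h
    rw [Groth.Agent.Lib.TorBridge.isZero_tor_one_iff N M f g hf hfg hg]
    exact Groth.Agent.Lib.LocalCrit2.T1_of_pow_torsion f g hfg hg I h m N (fun x hx y => hN x hx y)
  exact key (LinearMap.ker (Finsupp.linearCombination R (id : M → M))) (M →₀ R) (LinearMap.ker (Finsupp.linearCombination R (id : M → M))).subtype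
    (Finsupp.linearCombination R (id : M → M)) (Submodule.injective_subtype _)
    (LinearMap.exact_subtype_ker_map _) (Finsupp.linearCombination_id_surjective R M)

end Groth.Agent.S12205
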