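import Groth.Statements.S12206
import Mathlib

set_option autoImplicit false
universe u
open CAlg

namespace Groth.Agent.S12206

/-- Let φ : N → M be a linear map from a finite R-module N to a coherent R-module M, where coherent
means finitely generated with every finitely generated submodule finitely presented. Then the kernel
of φ is finitely generated, and the image of φ and the cokernel M/φ(N) are coherent. -/
theorem result (R : Type u) [CommRing R] {N M : Type u}
    [AddCommGroup N] [Module R N] [AddCommGroup M] [Module R M] [Module.Finite R N]
    (hM : Module.Finite R M ∧ ∀ P : Submodule R M, P.FG → Module.FinitePresentation R P)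
    (φ : N →ₗ[R] M) :
    (LinearMap.ker φ).FG ∧
    (Module.Finite R (LinearMap.range φ) ∧
      ∀ P : Submodule R (LinearMap.range φ), P.FG → Module.FinitePresentation R P) ∧
    (Module.Finite R (M ⧸ LinearMap.range φ) ∧
      ∀ P : Submodule R (M ⧸ LinearMap.range φ), P.FG → Module.FinitePresentation R P) := by
  classical
  obtain ⟨hMfin, hMcoh⟩ := hM
  have hrange_fg : (LinearMap.range φ).FG := by
    rw [LinearMap.range_eq_map]; exact Module.Finite.fg_top.map φ
  haveI hrange_fp : Module.FinitePresentation R (LinearMap.range φ) := hMcoh _ hrange_fg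
  refine ⟨?_, ⟨?_, ?_⟩, ⟨?_, ?_⟩⟩
  · have := Module.FinitePresentation.fg_ker φ.rangeRestrict φ.surjective_rangeRestrict
    rwa [LinearMap.ker_rangeRestrict] at this
  · exact Module.Finite.of_fg hrange_fg
  · intro P hP
    have h1 : (P.map (LinearMap.range φ).subtype).FG := hP.map _
    haveI := hMcoh _ h1
    exact Module.FinitePresentation.of_equiv
      (Submodule.equivMapOfInjective (LinearMap.range φ).subtype
        (Submodule.injective_subtype _) P).symm
  · infer_instance
  · intro P hP
    let P' : Submodule R M := P.comap (LinearMap.range φ).mkQ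
    have hmem : ∀ x, x ∈ LinearMap.range φ → (LinearMap.range φ).mkQ x = 0 := fun x hx =>
      (Submodule.Quotient.mk_eq_zero _).mpr hx
    have hle : LinearMap.range φ ≤ P' := fun x hx => by
      show (LinearMap.range φ).mkQ x ∈ P
      rw [hmem x hx]; exact P.zero_mem
    have hP'fg : P'.FG := by
      apply Submodule.fg_of_fg_map_of_fg_inf_ker (LinearMap.range φ).mkQ
      · rw [Submodule.map_comap_eq_of_surjective (Submodule.mkQ_surjective _)]; exact hP
      · rw [Submodule.ker_mkQ, inf_eq_right.mpr hle]; exact hrange_fg
    haveI : Module.FinitePresentation R P' := hMcoh _ hP'fg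
    let l : P' →ₗ[R] P := ((LinearMap.range φ).mkQ.domRestrict P').codRestrict P (fun x => x.2)
    have hl : Function.Surjective l := by
      rintro ⟨y, hy⟩
      obtain ⟨x, rfl⟩ := (LinearMap.range φ).mkQ_surjective y
      exact ⟨⟨x, hy⟩, rfl⟩
    have hker : (LinearMap.ker l).FG := by
      apply Submodule.fg_of_fg_map_injective P'.subtype (Submodule.injective_subtype _)
      have : (LinearMap.ker l).map P'.subtype = LinearMap.range φ := by
        ext x
        constructor
        · rintro ⟨⟨y, hy⟩, hyk, rfl⟩
          have h0 : (LinearMap.range φ).mkQ y = 0 := congrArg Subtype.val (LinearMap.mem_ker.mp hyk)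
          exact (Submodule.Quotient.mk_eq_zero _).mp h0
        · intro hx
          exact ⟨⟨x, hle hx⟩, LinearMap.mem_ker.mpr (Subtype.ext (hmem x hx)), rfl⟩
      rw [this]; exact hrange_fg
    exact Module.finitePresentation_of_surjective l hl hker

end Groth.Agent.S12206
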