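import Groth.Statements.S12208
import Mathlib
import Groth.Agent.Lib.NoetherInt_helper6
import Groth.Agent.Lib.IntegralHeight_helper5
-- import your own Groth.Agent.* helpers here

set_option autoImplicit false
universe u
open CAlg

namespace Groth.Agent.S12208

/-- Let k be a field and S = k[x_1, …, x_n]/I with I a proper ideal. Then there exist r ≥ 0 and elements
y_1, …, y_r of k[x_1, …, x_n] lying in the subring generated by x_1, …, x_n (polynomials with
integer coefficients) such that the k-algebra map from the polynomial ring k[t_1, …, t_r] to S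
sending t_i to the class of y_i is injective and finite; and for any r ≥ 0 and any y_1, …, y_r in
k[x_1, …, x_n] (with or without the integer-coefficient condition) for which that map is injective
and finite, r is the Krull dimension of S. -/
theorem result (k : Type u) [Field k] (n : ℕ) (I : Ideal (MvPolynomial (Fin n) k))
    (hI : I ≠ ⊤) :
    (∃ (r : ℕ) (y : Fin r → MvPolynomial (Fin n) k),
      (∀ i, y i ∈ Set.range (MvPolynomial.map (Int.castRingHom k) : MvPolynomial (Fin n) ℤ → MvPolynomial (Fin n) k)) ∧
      Function.Injective ((Ideal.Quotient.mkₐ k I).comp (MvPolynomial.aeval y)) ∧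
      ((Ideal.Quotient.mkₐ k I).comp (MvPolynomial.aeval y)).toRingHom.Finite) ∧
    ∀ (r : ℕ) (y : Fin r → MvPolynomial (Fin n) k),
      Function.Injective ((Ideal.Quotient.mkₐ k I).comp (MvPolynomial.aeval y)) →
      ((Ideal.Quotient.mkₐ k I).comp (MvPolynomial.aeval y)).toRingHom.Finite →
      ringKrullDim (MvPolynomial (Fin n) k ⧸ I) = r := by

  have hfin : ∀ (r : ℕ) (y : Fin r → MvPolynomial (Fin n) k),
      ((Ideal.Quotient.mkₐ k I).comp (MvPolynomial.aeval y)).toRingHom.FiniteType := by
    intro r y
    have h : algebraMap k (MvPolynomial (Fin n) k ⧸ I) =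
        ((Ideal.Quotient.mkₐ k I).comp (MvPolynomial.aeval y)).toRingHom.comp
          (algebraMap k (MvPolynomial (Fin r) k)) := by
      ext a
      simp only [RingHom.comp_apply, AlgHom.toRingHom_eq_coe, RingHom.coe_coe, AlgHom.commutes]
    have hft : (algebraMap k (MvPolynomial (Fin n) k ⧸ I)).FiniteType :=
      RingHom.finiteType_algebraMap.mpr inferInstance
    rw [h] at hft
    exact hft.of_comp_finiteType
  refine ⟨?_, ?_⟩
  · obtain ⟨s, -, y, hyint, hinj, hint⟩ := Groth.Agent.Lib.NoetherInt.exists_int I hI
    exact ⟨s, y, hyint, hinj, RingHom.IsIntegral.to_finite hint (hfin s y)⟩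
  · intro r y hinj hfinite
    obtain ⟨g, hg⟩ : ∃ g : MvPolynomial (Fin r) k →ₐ[k] (MvPolynomial (Fin n) k ⧸ I),
        g = (Ideal.Quotient.mkₐ k I).comp (MvPolynomial.aeval y) := ⟨_, rfl⟩
    rw [← hg] at hinj hfinite
    letI : Algebra (MvPolynomial (Fin r) k) (MvPolynomial (Fin n) k ⧸ I) := g.toRingHom.toAlgebra
    haveI : Algebra.IsIntegral (MvPolynomial (Fin r) k) (MvPolynomial (Fin n) k ⧸ I) := by
      have hi : g.toRingHom.IsIntegral := hfinite.to_isIntegral
      exact ⟨hi⟩
    have h1 := Groth.Agent.IntegralHeight.ringKrullDim_eq_of_isIntegral_of_injective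
      (MvPolynomial (Fin r) k) (MvPolynomial (Fin n) k ⧸ I) hinj
    rw [h1, MvPolynomial.ringKrullDim_of_isNoetherianRing, ringKrullDim_eq_zero_of_field]
    simp

end Groth.Agent.S12208
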