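import Groth.Statements.S12209
import Mathlib

set_option autoImplicit false
universe u
open CAlg

namespace Groth.Agent.S12209

/-- Let (R_i) be a system of commutative rings over a nonempty directed preorder, with colimit R, and
let M be an R-module which is flat as an R_i-module for every i (the R_i-module structure being
restriction of scalars along R_i → R). Then M is flat as an R-module. -/
theorem result {ι : Type u} [Preorder ι] [Nonempty ι] [IsDirectedOrder ι]
    (G : ι → Type u) [∀ i, CommRing (G i)] (f : ∀ i j, i ≤ j → G i →+* G j)
    [DirectedSystem G fun i j h => f i j h]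
    (M : Type u) [AddCommGroup M] [Module (Ring.DirectLimit G fun i j h => f i j h) M]
    (hflat : ∀ i, letI : Module (G i) M := Module.compHom M (Ring.DirectLimit.of G (fun i j h => f i j h) i);
      Module.Flat (G i) M) :
    Module.Flat (Ring.DirectLimit G fun i j h => f i j h) M := by
  classical
  rw [Module.Flat.iff_forall_isTrivialRelation]
  intro l fl x hx
  have hex : ∀ i : Fin l, ∃ (j : ι) (g : G j),
      Ring.DirectLimit.of G (fun i j h => f i j h) j g = fl i :=
    fun i => Ring.DirectLimit.exists_of (fl i)
  choose jj gg hgg using hex
  obtain ⟨j, hj⟩ := Finite.exists_le jj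
  let g : Fin l → G j := fun i => f (jj i) j (hj i) (gg i)
  have hg : ∀ i, Ring.DirectLimit.of G (fun i j h => f i j h) j (g i) = fl i := by
    intro i
    rw [← hgg i]
    exact Ring.DirectLimit.of_f (hj i) (gg i)
  letI : Module (G j) M := Module.compHom M (Ring.DirectLimit.of G (fun i j h => f i j h) j)
  have hfl : Module.Flat (G j) M := hflat j
  have hsm : ∀ (r : G j) (m : M),
      r • m = (Ring.DirectLimit.of G (fun i j h => f i j h) j r) • m := fun _ _ => rfl
  have hx' : ∑ i, g i • x i = 0 := by
    simp only [hsm, hg]; exact hx
  obtain ⟨k, a, y, hxy, ha⟩ := (Module.Flat.iff_forall_isTrivialRelation.mp hfl) hx'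
  refine ⟨k, fun i t => Ring.DirectLimit.of G (fun i j h => f i j h) j (a i t), y, ?_, ?_⟩
  · intro i; rw [hxy i]; simp only [hsm]
  · intro t
    have := congrArg (Ring.DirectLimit.of G (fun i j h => f i j h) j) (ha t)
    simpa [map_sum, map_mul, hg] using this

end Groth.Agent.S12209
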