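import Groth.Statements.S12222
import Mathlib

set_option autoImplicit false
universe u
open Hensel

namespace Groth.Agent.S12222

/-- (11) ⇒ (1): let R be a local ring such that every finite-type R-algebra S can be written as a
product A × B with A finite over R and R → B quasi-finite at no prime lying over the maximal ideal —
concretely, S has an idempotent e with S/(1 − e) finite over R and R → S/(e) quasi-finite at no
prime over the maximal ideal. Then R is henselian. -/
theorem result (R : Type u) [CommRing R] [IsLocalRing R]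
    (h : ∀ (S : Type u) [CommRing S] [Algebra R S] [Algebra.FiniteType R S],
      ∃ e : S, IsIdempotentElem e ∧ Module.Finite R (S ⧸ Ideal.span ({1 - e} : Set S)) ∧
        ∀ (q : Ideal (S ⧸ Ideal.span ({e} : Set S))) [q.IsPrime],
          q.LiesOver (IsLocalRing.maximalIdeal R) → ¬ Algebra.QuasiFiniteAt R q) :
    HenselianLocalRing R := by
  classical
  refine ((HenselianLocalRing.TFAE R).out 1 0).mp ?_
  intro f hf a₀ h₁ h₂
  have e1 : ∀ P : Polynomial R, Polynomial.aeval a₀ P =
      (P.map (IsLocalRing.residue R)).eval a₀ := by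
    intro P
    rw [Polynomial.eval_map, Polynomial.aeval_def, IsLocalRing.ResidueField.algebraMap_eq]
  have h₁' := h₁
  have h₂' := h₂
  rw [e1] at h₁' h₂'
  rw [← Polynomial.derivative_map] at h₂'
  obtain ⟨h₀, hfac⟩ : ∃ h₀, f.map (IsLocalRing.residue R) =
      (Polynomial.X - Polynomial.C a₀) * h₀ :=
    ⟨_, (Polynomial.mul_divByMonic_eq_iff_isRoot.mpr h₁').symm⟩
  have hh₀a : h₀.eval a₀ ≠ 0 := by
    intro h0
    apply h₂'
    rw [hfac, Polynomial.derivative_mul, Polynomial.derivative_sub, Polynomial.derivative_X,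
      Polynomial.derivative_C, sub_zero, one_mul, Polynomial.eval_add, Polynomial.eval_mul,
      Polynomial.eval_sub, Polynomial.eval_X, Polynomial.eval_C, sub_self, zero_mul, add_zero]
    exact h0
  obtain ⟨ht, hht⟩ := Polynomial.map_surjective (IsLocalRing.residue R)
    IsLocalRing.residue_surjective h₀
  obtain ⟨ã, hã⟩ := IsLocalRing.residue_surjective a₀
  let P : StandardEtalePair R :=
    ⟨f, hf, Polynomial.derivative f * ht, ⟨ht, 0, 1, by ring⟩⟩
  have hmap : P.HasMap a₀ := by
    refine ⟨h₁, ?_⟩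
    show IsUnit (Polynomial.aeval a₀ (Polynomial.derivative f * ht))
    rw [map_mul, isUnit_iff_ne_zero]
    refine mul_ne_zero h₂ ?_
    rw [e1, hht]; exact hh₀a
  obtain ⟨e, he, hfin, hnq⟩ := h P.Ring
  -- ψ e = 1
  have hψe : P.lift a₀ hmap e = 1 := by
    by_contra hne
    have h0 : P.lift a₀ hmap e = 0 := by
      have hsq : P.lift a₀ hmap e * P.lift a₀ hmap e = P.lift a₀ hmap e := by
        rw [← map_mul, he.eq]
      rcases eq_or_ne (P.lift a₀ hmap e) 0 with h0 | h0
      · exact h0
      · exact absurd (mul_left_cancel₀ h0 (by rw [hsq, mul_one])) hne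
    have hker : ∀ s ∈ Ideal.span ({e} : Set P.Ring), P.lift a₀ hmap s = 0 := by
      intro s hs
      obtain ⟨t, rfl⟩ := Ideal.mem_span_singleton'.mp hs
      rw [map_mul, h0, mul_zero]
    haveI : (RingHom.ker (Ideal.Quotient.liftₐ _ (P.lift a₀ hmap) hker)).IsPrime :=
      RingHom.ker_isPrime _
    have hl : (RingHom.ker (Ideal.Quotient.liftₐ _ (P.lift a₀ hmap) hker)).LiesOver
        (IsLocalRing.maximalIdeal R) := by
      constructor
      ext r
      rw [Ideal.under_def, Ideal.mem_comap, RingHom.mem_ker, AlgHom.commutes,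
        IsLocalRing.ResidueField.algebraMap_eq, IsLocalRing.residue_eq_zero_iff]
    exact hnq (RingHom.ker (Ideal.Quotient.liftₐ _ (P.lift a₀ hmap) hker)) hl inferInstance
  -- x ≡ ã mod 𝔐
  have hfX : Polynomial.aeval P.X f = 0 := (StandardEtalePair.hasMap_X (P := P)).1
  have hgu : IsUnit (Polynomial.aeval P.X (Polynomial.derivative f * ht)) :=
    (StandardEtalePair.hasMap_X (P := P)).2
  rw [map_mul] at hgu
  have hhu : IsUnit (Polynomial.aeval P.X ht) := isUnit_of_mul_isUnit_right hgu
  have hx𝔐 : P.X - algebraMap R P.Ring ã ∈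
      Ideal.map (algebraMap R P.Ring) (IsLocalRing.maximalIdeal R) := by
    have hD0 : (f - (Polynomial.X - Polynomial.C ã) * ht).map (IsLocalRing.residue R) = 0 := by
      rw [Polynomial.map_sub, Polynomial.map_mul, Polynomial.map_sub, Polynomial.map_X,
        Polynomial.map_C, hã, hht, hfac, sub_self]
    have hcoef : ∀ n, (f - (Polynomial.X - Polynomial.C ã) * ht).coeff n ∈
        IsLocalRing.maximalIdeal R := by
      intro n
      rw [← IsLocalRing.residue_eq_zero_iff, ← Polynomial.coeff_map, hD0, Polynomial.coeff_zero]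
    have hDm : Polynomial.aeval P.X (f - (Polynomial.X - Polynomial.C ã) * ht) ∈
        Ideal.map (algebraMap R P.Ring) (IsLocalRing.maximalIdeal R) := by
      rw [Polynomial.aeval_eq_sum_range]
      apply Ideal.sum_mem
      intro n _
      rw [Algebra.smul_def]
      exact Ideal.mul_mem_right _ _ (Ideal.mem_map_of_mem _ (hcoef n))
    have hval : (P.X - algebraMap R P.Ring ã) * Polynomial.aeval P.X ht =
        -Polynomial.aeval P.X (f - (Polynomial.X - Polynomial.C ã) * ht) := by
      rw [map_sub, map_mul, map_sub, Polynomial.aeval_X, Polynomial.aeval_C, hfX, zero_sub,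
        neg_neg]
    obtain ⟨v, hv⟩ := hhu.exists_right_inv
    have h3 : P.X - algebraMap R P.Ring ã =
        -Polynomial.aeval P.X (f - (Polynomial.X - Polynomial.C ã) * ht) * v := by
      rw [← hval, mul_assoc, hv, mul_one]
    rw [h3]
    exact Ideal.mul_mem_right _ _ (neg_mem hDm)
  -- the two maps to S/𝔐
  have hm𝔐 : ∀ r ∈ IsLocalRing.maximalIdeal R,
      algebraMap R (P.Ring ⧸ Ideal.map (algebraMap R P.Ring) (IsLocalRing.maximalIdeal R)) r = 0 := by
    intro r hr
    rw [IsScalarTower.algebraMap_apply R P.Ring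
      (P.Ring ⧸ Ideal.map (algebraMap R P.Ring) (IsLocalRing.maximalIdeal R)),
      Ideal.Quotient.algebraMap_eq, Ideal.Quotient.eq_zero_iff_mem]
    exact Ideal.mem_map_of_mem _ hr
  let ι : IsLocalRing.ResidueField R →+*
      (P.Ring ⧸ Ideal.map (algebraMap R P.Ring) (IsLocalRing.maximalIdeal R)) :=
    Ideal.Quotient.lift (IsLocalRing.maximalIdeal R) (algebraMap R _) hm𝔐
  have hι : ∀ r : R, ι (IsLocalRing.residue R r) =
      algebraMap R (P.Ring ⧸ Ideal.map (algebraMap R P.Ring) (IsLocalRing.maximalIdeal R)) r :=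
    fun r => Ideal.Quotient.lift_mk _ _ _
  let π'' : P.Ring →ₐ[R]
      (P.Ring ⧸ Ideal.map (algebraMap R P.Ring) (IsLocalRing.maximalIdeal R)) :=
    { toRingHom := ι.comp (P.lift a₀ hmap).toRingHom
      commutes' := by
        intro r
        show ι (P.lift a₀ hmap (algebraMap R P.Ring r)) = _
        rw [AlgHom.commutes, IsLocalRing.ResidueField.algebraMap_eq, hι] }
  have hπeq : Ideal.Quotient.mkₐ R
      (Ideal.map (algebraMap R P.Ring) (IsLocalRing.maximalIdeal R)) = π'' := by
    apply StandardEtalePair.hom_ext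
    show Ideal.Quotient.mk _ P.X = ι (P.lift a₀ hmap P.X)
    rw [StandardEtalePair.lift_X, ← hã, hι, IsScalarTower.algebraMap_apply R P.Ring
      (P.Ring ⧸ Ideal.map (algebraMap R P.Ring) (IsLocalRing.maximalIdeal R)),
      Ideal.Quotient.algebraMap_eq, ← sub_eq_zero, ← map_sub, Ideal.Quotient.eq_zero_iff_mem]
    exact hx𝔐
  have hstar : ∀ s : P.Ring, ∃ r : R, s - algebraMap R P.Ring r ∈
      Ideal.map (algebraMap R P.Ring) (IsLocalRing.maximalIdeal R) := by
    intro s
    obtain ⟨r, hr⟩ := IsLocalRing.residue_surjective (P.lift a₀ hmap s)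
    refine ⟨r, ?_⟩
    rw [← Ideal.Quotient.eq_zero_iff_mem, map_sub, sub_eq_zero]
    have h1 := congrArg (fun φ : P.Ring →ₐ[R]
      (P.Ring ⧸ Ideal.map (algebraMap R P.Ring) (IsLocalRing.maximalIdeal R)) => φ s) hπeq
    calc Ideal.Quotient.mk _ s = ι (P.lift a₀ hmap s) := h1
      _ = ι (IsLocalRing.residue R r) := by rw [hr]
      _ = algebraMap R _ r := hι r
      _ = _ := by
        rw [IsScalarTower.algebraMap_apply R P.Ring
          (P.Ring ⧸ Ideal.map (algebraMap R P.Ring) (IsLocalRing.maximalIdeal R)),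
          Ideal.Quotient.algebraMap_eq]
  -- Nakayama on A = S/(1-e)
  have hmk𝔐 : ∀ μ ∈ Ideal.map (algebraMap R P.Ring) (IsLocalRing.maximalIdeal R),
      Ideal.Quotient.mkₐ R (Ideal.span ({1 - e} : Set P.Ring)) μ ∈
        IsLocalRing.maximalIdeal R •
          (⊤ : Submodule R (P.Ring ⧸ Ideal.span ({1 - e} : Set P.Ring))) := by
    intro μ hμ
    have hμ' : μ ∈ IsLocalRing.maximalIdeal R • (⊤ : Submodule R P.Ring) := by
      rw [Ideal.smul_top_eq_map]; exact hμ
    refine Submodule.smul_induction_on hμ' ?_ ?_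
    · intro r hr t _
      rw [map_smul]
      exact Submodule.smul_mem_smul hr Submodule.mem_top
    · intro y z hy hz
      rw [map_add]; exact Submodule.add_mem _ hy hz
  have hNA : (⊤ : Submodule R (P.Ring ⧸ Ideal.span ({1 - e} : Set P.Ring))) ≤
      LinearMap.range (Algebra.linearMap R (P.Ring ⧸ Ideal.span ({1 - e} : Set P.Ring))) := by
    apply Submodule.le_of_le_smul_of_le_jacobson_bot (I := IsLocalRing.maximalIdeal R)
      Module.Finite.fg_top (IsLocalRing.maximalIdeal_le_jacobson ⊥)
    intro y _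
    obtain ⟨s, rfl⟩ := Ideal.Quotient.mkₐ_surjective R (Ideal.span ({1 - e} : Set P.Ring)) y
    obtain ⟨r, hr⟩ := hstar s
    have h4 : Ideal.Quotient.mkₐ R (Ideal.span ({1 - e} : Set P.Ring)) s =
        Algebra.linearMap R (P.Ring ⧸ Ideal.span ({1 - e} : Set P.Ring)) r +
          Ideal.Quotient.mkₐ R (Ideal.span ({1 - e} : Set P.Ring))
            (s - algebraMap R P.Ring r) := by
      rw [map_sub, Algebra.linearMap_apply, AlgHom.commutes]; ring
    rw [h4]
    exact Submodule.add_mem_sup (LinearMap.mem_range_self _ r) (hmk𝔐 _ hr)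
  obtain ⟨a, ha⟩ : Ideal.Quotient.mkₐ R (Ideal.span ({1 - e} : Set P.Ring)) P.X ∈
      LinearMap.range (Algebra.linearMap R (P.Ring ⧸ Ideal.span ({1 - e} : Set P.Ring))) :=
    hNA Submodule.mem_top
  rw [Algebra.linearMap_apply] at ha
  -- the induced map A → κ
  have hker2 : ∀ s ∈ Ideal.span ({1 - e} : Set P.Ring), P.lift a₀ hmap s = 0 := by
    intro s hs
    obtain ⟨t, rfl⟩ := Ideal.mem_span_singleton'.mp hs
    rw [map_mul, map_sub, map_one, hψe, sub_self, mul_zero]
  haveI hnontriv : Nontrivial (P.Ring ⧸ Ideal.span ({1 - e} : Set P.Ring)) :=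
    (Ideal.Quotient.liftₐ _ (P.lift a₀ hmap) hker2).toRingHom.domain_nontrivial
  -- flatness
  haveI hflatA : Module.Flat R (P.Ring ⧸ Ideal.span ({1 - e} : Set P.Ring)) := by
    have hkerl : Ideal.span ({1 - e} : Set P.Ring) ≤
        LinearMap.ker (LinearMap.mulLeft P.Ring e) := by
      rw [Ideal.span_le]
      intro t ht'
      rw [Set.mem_singleton_iff] at ht'
      rw [ht', SetLike.mem_coe, LinearMap.mem_ker, LinearMap.mulLeft_apply, mul_sub, mul_one,
        he.eq, sub_self]
    refine Module.Flat.of_retract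
      ((Submodule.liftQ _ (LinearMap.mulLeft P.Ring e) hkerl).restrictScalars R)
      (Ideal.Quotient.mkₐ R (Ideal.span ({1 - e} : Set P.Ring))).toLinearMap ?_
    refine LinearMap.ext fun y => ?_
    obtain ⟨s, rfl⟩ := Ideal.Quotient.mk_surjective y
    show Ideal.Quotient.mk _ (e * s) = Ideal.Quotient.mk _ s
    rw [Ideal.Quotient.eq, Ideal.mem_span_singleton']
    exact ⟨-s, by ring⟩
  haveI := hfin
  haveI hfree : Module.Free R (P.Ring ⧸ Ideal.span ({1 - e} : Set P.Ring)) :=
    Module.free_of_flat_of_isLocalRing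
  have hinjA : Function.Injective
      (algebraMap R (P.Ring ⧸ Ideal.span ({1 - e} : Set P.Ring))) :=
    FaithfulSMul.algebraMap_injective R _
  refine ⟨a, ?_, ?_⟩
  · apply hinjA
    rw [map_zero]
    have h5 : algebraMap R (P.Ring ⧸ Ideal.span ({1 - e} : Set P.Ring)) (f.eval a) =
        Polynomial.aeval (algebraMap R (P.Ring ⧸ Ideal.span ({1 - e} : Set P.Ring)) a) f := by
      rw [Polynomial.aeval_algebraMap_apply, Polynomial.coe_aeval_eq_eval]
    rw [h5, ha, Polynomial.aeval_algHom_apply, hfX, map_zero]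
  · have h6 := congrArg (Ideal.Quotient.liftₐ _ (P.lift a₀ hmap) hker2) ha
    rw [AlgHom.commutes, IsLocalRing.ResidueField.algebraMap_eq] at h6
    rw [h6]
    show P.lift a₀ hmap P.X = a₀
    exact StandardEtalePair.lift_X P a₀ hmap

end Groth.Agent.S12222
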