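import Groth.Statements.S12227
import Mathlib.Algebra.Homology.DerivedCategory.Fractions
import Mathlib.Algebra.Homology.Embedding.CochainComplex

set_option autoImplicit false
universe w v u
open CategoryTheory CategoryTheory.Limits
open CohDer

namespace Groth.Agent.S12227

open DerivedCategory

lemma key {A : Type u} [Category.{v} A] [Abelian A]
    (K : HomotopyCategory A (ComplexShape.up ℤ)) (a : ℤ) [CochainComplex.IsStrictlyLE K.as a]
    (X' : HomotopyCategory A (ComplexShape.up ℤ)) (s : X' ⟶ K)
    (hs : HomotopyCategory.quasiIso A (ComplexShape.up ℤ) s) :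
    ∃ (K' : HomotopyCategory A (ComplexShape.up ℤ)) (n : ℤ)
      (_ : CochainComplex.IsStrictlyLE K'.as n) (ι : K' ⟶ X'),
      HomotopyCategory.quasiIso A (ComplexShape.up ℤ) ι := by
  obtain ⟨s₀, rfl⟩ := (HomotopyCategory.quotient A (ComplexShape.up ℤ)).map_surjective
    (X := X'.as) (Y := K.as) s
  have : QuasiIso s₀ := (HomotopyCategory.quotient_map_mem_quasiIso_iff s₀).1 hs
  have hX' : CochainComplex.IsLE X'.as a :=
    (HomologicalComplex.isSupported_iff_of_quasiIso s₀ (ComplexShape.embeddingUpIntLE a)).2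
      inferInstance
  refine ⟨(HomotopyCategory.quotient A (ComplexShape.up ℤ)).obj (CochainComplex.truncLE X'.as a), a,
    (inferInstance : (CochainComplex.truncLE X'.as a).IsStrictlyLE a),
    (HomotopyCategory.quotient A (ComplexShape.up ℤ)).map (CochainComplex.ιTruncLE X'.as a), ?_⟩
  exact (HomotopyCategory.quotient_map_mem_quasiIso_iff (CochainComplex.ιTruncLE X'.as a)).2
    (inferInstance : QuasiIso (CochainComplex.ιTruncLE X'.as a))

/-- Full faithfulness of K⁻(A)[Qis⁻¹] → D⁻(A), written in terms of roofs. Let A be an abelian category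
and K, L complexes which are zero above some degree, viewed in the homotopy category. Then every
morphism Qh(K) → Qh(L) in the derived category is Qh(s)⁻¹ ≫ Qh(f) for some quasi-isomorphism s : K'
→ K and map f : K' → L of K(A) with K' again zero above some degree; and two maps f₁, f₂ : K → L of
K(A) become equal in D(A) only if s ≫ f₁ = s ≫ f₂ for some quasi-isomorphism s : K' → K with K' zero
above some degree. (That the kernel of K⁻(A) → D(A) consists of the acyclic complexes and that the
essential image is D⁻(A) are separate statements.) -/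
theorem result {A : Type u} [Category.{v} A] [Abelian A] [HasDerivedCategory.{w} A]
    (K L : HomotopyCategory A (ComplexShape.up ℤ)) (a b : ℤ) [CochainComplex.IsStrictlyLE K.as a] [CochainComplex.IsStrictlyLE L.as b] :
    (∀ φ : DerivedCategory.Qh.obj K ⟶ DerivedCategory.Qh.obj L,
      ∃ (K' : HomotopyCategory A (ComplexShape.up ℤ)) (n : ℤ) (_ : CochainComplex.IsStrictlyLE K'.as n) (s : K' ⟶ K) (f : K' ⟶ L),
        HomotopyCategory.quasiIso A (ComplexShape.up ℤ) s ∧ DerivedCategory.Qh.map s ≫ φ = DerivedCategory.Qh.map f) ∧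
    (∀ f₁ f₂ : K ⟶ L, DerivedCategory.Qh.map f₁ = DerivedCategory.Qh.map f₂ →
      ∃ (K' : HomotopyCategory A (ComplexShape.up ℤ)) (n : ℤ) (_ : CochainComplex.IsStrictlyLE K'.as n) (s : K' ⟶ K),
        HomotopyCategory.quasiIso A (ComplexShape.up ℤ) s ∧ s ≫ f₁ = s ≫ f₂) := by
  constructor
  · intro φ
    obtain ⟨ρ, hρ⟩ := Localization.exists_rightFraction Qh
      (HomotopyCategory.quasiIso A (ComplexShape.up ℤ)) φ
    obtain ⟨K', n, hK', ι, hι⟩ := key K a ρ.X' ρ.s ρ.hs
    refine ⟨K', n, hK', ι ≫ ρ.s, ι ≫ ρ.f, MorphismProperty.comp_mem _ _ _ hι ρ.hs, ?_⟩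
    rw [hρ, Functor.map_comp, Functor.map_comp, Category.assoc,
      MorphismProperty.RightFraction.map_s_comp_map]
  · intro f₁ f₂ h
    obtain ⟨X, s, hs, eq⟩ := (MorphismProperty.map_eq_iff_precomp Qh
      (HomotopyCategory.quasiIso A (ComplexShape.up ℤ)) f₁ f₂).1 h
    obtain ⟨K', n, hK', ι, hι⟩ := key K a X s hs
    exact ⟨K', n, hK', ι ≫ s, MorphismProperty.comp_mem _ _ _ hι hs, by
      rw [Category.assoc, Category.assoc, eq]⟩

end Groth.Agent.S12227
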