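import Groth.Statements.S12228
import Groth.Agent.Lib.TruncLift_helper2
import Mathlib.Algebra.Homology.DerivedCategory.Fractions

set_option autoImplicit false
universe w v u
open CategoryTheory CategoryTheory.Limits
open CohDer

namespace Groth.Agent.S12228

open DerivedCategory Groth.Agent.Lib.TruncLift_helper2

lemma key {A : Type u} [Category.{v} A] [Abelian A]
    (K L : HomotopyCategory A (ComplexShape.up ℤ)) (b a' b' : ℤ)
    [CochainComplex.IsStrictlyLE K.as b]
    [CochainComplex.IsStrictlyGE L.as a'] [CochainComplex.IsStrictlyLE L.as b']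
    (Z : HomotopyCategory A (ComplexShape.up ℤ)) (t : L ⟶ Z)
    (ht : HomotopyCategory.quasiIso A (ComplexShape.up ℤ) t) :
    ∃ (L' : HomotopyCategory A (ComplexShape.up ℤ)) (m n : ℤ)
      (_ : CochainComplex.IsStrictlyGE L'.as m) (_ : CochainComplex.IsStrictlyLE L'.as n)
      (Z₁ : HomotopyCategory A (ComplexShape.up ℤ)) (π : Z ⟶ Z₁) (ι : L' ⟶ Z₁) (t' : L ⟶ L'),
      HomotopyCategory.quasiIso A (ComplexShape.up ℤ) t' ∧
      HomotopyCategory.quasiIso A (ComplexShape.up ℤ) ι ∧ t' ≫ ι = t ≫ π ∧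
      (∀ f : K ⟶ Z₁, ∃ f' : K ⟶ L', f' ≫ ι = f) ∧
      (∀ g₁ g₂ : K ⟶ L', g₁ ≫ ι = g₂ ≫ ι → g₁ = g₂) := by
  obtain ⟨t₀, rfl⟩ := (HomotopyCategory.quotient A (ComplexShape.up ℤ)).map_surjective
    (X := L.as) (Y := Z.as) t
  have : QuasiIso t₀ := (HomotopyCategory.quotient_map_mem_quasiIso_iff t₀).1 ht
  have hZGE : CochainComplex.IsGE Z.as a' :=
    (HomologicalComplex.isSupported_iff_of_quasiIso t₀ (ComplexShape.embeddingUpIntGE a')).1
      inferInstance
  have hZLE : CochainComplex.IsLE Z.as b' :=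
    (HomologicalComplex.isSupported_iff_of_quasiIso t₀ (ComplexShape.embeddingUpIntLE b')).1
      inferInstance
  let Z₁ : CochainComplex A ℤ := CochainComplex.truncGE Z.as a'
  let π : Z.as ⟶ Z₁ := CochainComplex.πTruncGE Z.as a'
  have hπ : QuasiIso π := inferInstance
  have hZ₁LE : Z₁.IsLE b' :=
    (HomologicalComplex.isSupported_iff_of_quasiIso π (ComplexShape.embeddingUpIntLE b')).1 hZLE
  let n := max b b'
  have hZ₁LE' : Z₁.IsLE n := Z₁.isLE_of_le b' n (le_max_right _ _)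
  let Z₂ : CochainComplex A ℤ := Z₁.truncLE n
  let ι : Z₂ ⟶ Z₁ := Z₁.ιTruncLE n
  have hι : QuasiIso ι := inferInstance
  have hL : CochainComplex.IsStrictlyLE L.as n :=
    CochainComplex.isStrictlyLE_of_le L.as b' n (le_max_right _ _)
  have hK : CochainComplex.IsStrictlyLE K.as n :=
    CochainComplex.isStrictlyLE_of_le K.as b n (le_max_left _ _)
  obtain ⟨t', ht'⟩ := exists_lift_truncLE (M := L.as) (Z := Z₁) n (t₀ ≫ π)
  have hqt' : QuasiIso t' := by
    have : QuasiIso (t' ≫ ι) := by rw [ht']; infer_instance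
    exact quasiIso_of_comp_right t' ι
  have hZ₁GE : Z₁.IsStrictlyGE a' := inferInstance
  have hZ₂GE : Z₂.IsStrictlyGE a' := inferInstance
  have hZ₂LE : Z₂.IsStrictlyLE n := inferInstance
  let q := HomotopyCategory.quotient A (ComplexShape.up ℤ)
  refine ⟨q.obj Z₂, a', n, hZ₂GE, hZ₂LE, q.obj Z₁, q.map π, q.map ι, q.map t',
    (HomotopyCategory.quotient_map_mem_quasiIso_iff t').2 hqt',
    (HomotopyCategory.quotient_map_mem_quasiIso_iff ι).2 hι, ?_, ?_, ?_⟩
  · exact (q.map_comp t' ι).symm.trans ((congrArg q.map ht').trans (q.map_comp t₀ π))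
  · intro f
    obtain ⟨f₀, rfl⟩ := q.map_surjective (X := K.as) (Y := Z₁) f
    obtain ⟨f', hf'⟩ := exists_lift_truncLE (M := K.as) (Z := Z₁) n f₀
    exact ⟨q.map f', (q.map_comp f' ι).symm.trans (congrArg q.map hf')⟩
  · intro g₁ g₂ h
    obtain ⟨g₁, rfl⟩ := q.map_surjective (X := K.as) (Y := Z₂) g₁
    obtain ⟨g₂, rfl⟩ := q.map_surjective (X := K.as) (Y := Z₂) g₂
    have h' : q.map (g₁ ≫ ι) = q.map (g₂ ≫ ι) :=
      (q.map_comp g₁ ι).trans (h.trans (q.map_comp g₂ ι).symm)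
    exact HomotopyCategory.eq_of_homotopy _ _
      (homotopyLift n g₁ g₂ (HomotopyCategory.homotopyOfEq _ _ h'))

/-- Full faithfulness of Kᵇ(A)[Qis⁻¹] → Dᵇ(A), written in terms of roofs. Let A be an abelian category
and K, L bounded complexes (zero outside a finite range of degrees), viewed in the homotopy
category. Then every morphism Qh(K) → Qh(L) in the derived category is Qh(f) ≫ Qh(t)⁻¹ for some map
f : K → L' and quasi-isomorphism t : L → L' of K(A) with L' again bounded; and two maps f₁, f₂ : K →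
L of K(A) become equal in D(A) only if f₁ ≫ t = f₂ ≫ t for some quasi-isomorphism t : L → L' with L'
bounded. -/
theorem result {A : Type u} [Category.{v} A] [Abelian A] [HasDerivedCategory.{w} A]
    (K L : HomotopyCategory A (ComplexShape.up ℤ)) (a b a' b' : ℤ) [CochainComplex.IsStrictlyGE K.as a] [CochainComplex.IsStrictlyLE K.as b]
    [CochainComplex.IsStrictlyGE L.as a'] [CochainComplex.IsStrictlyLE L.as b'] :
    (∀ φ : DerivedCategory.Qh.obj K ⟶ DerivedCategory.Qh.obj L,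
      ∃ (L' : HomotopyCategory A (ComplexShape.up ℤ)) (m n : ℤ) (_ : CochainComplex.IsStrictlyGE L'.as m) (_ : CochainComplex.IsStrictlyLE L'.as n) (f : K ⟶ L') (t : L ⟶ L'),
        HomotopyCategory.quasiIso A (ComplexShape.up ℤ) t ∧ φ ≫ DerivedCategory.Qh.map t = DerivedCategory.Qh.map f) ∧
    (∀ f₁ f₂ : K ⟶ L, DerivedCategory.Qh.map f₁ = DerivedCategory.Qh.map f₂ →
      ∃ (L' : HomotopyCategory A (ComplexShape.up ℤ)) (m n : ℤ) (_ : CochainComplex.IsStrictlyGE L'.as m) (_ : CochainComplex.IsStrictlyLE L'.as n) (t : L ⟶ L'),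
        HomotopyCategory.quasiIso A (ComplexShape.up ℤ) t ∧ f₁ ≫ t = f₂ ≫ t) := by
  constructor
  · intro φ
    obtain ⟨ρ, hρ⟩ := Localization.exists_leftFraction Qh
      (HomotopyCategory.quasiIso A (ComplexShape.up ℤ)) φ
    obtain ⟨L', m, n, hm, hn, Z₁, π, ι, t', ht', hι, fac, hlift, -⟩ :=
      key K L b a' b' ρ.Y' ρ.s ρ.hs
    obtain ⟨f', hf'⟩ := hlift (ρ.f ≫ π)
    refine ⟨L', m, n, hm, hn, f', t', ht', ?_⟩
    have : IsIso (Qh.map ι) := Localization.inverts Qh _ ι hι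
    rw [← cancel_mono (Qh.map ι), Category.assoc, ← Qh.map_comp, ← Qh.map_comp, fac, hf',
      Qh.map_comp, Qh.map_comp, hρ, ← Category.assoc,
      MorphismProperty.LeftFraction.map_comp_map_s]
  · intro f₁ f₂ h
    obtain ⟨Z, s, hs, eq⟩ := (MorphismProperty.map_eq_iff_postcomp Qh
      (HomotopyCategory.quasiIso A (ComplexShape.up ℤ)) f₁ f₂).1 h
    obtain ⟨L', m, n, hm, hn, Z₁, π, ι, t', ht', hι, fac, -, hinj⟩ :=
      key K L b a' b' Z s hs
    refine ⟨L', m, n, hm, hn, t', ht', hinj _ _ ?_⟩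
    rw [Category.assoc, Category.assoc, fac, ← Category.assoc, ← Category.assoc, eq]

end Groth.Agent.S12228
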