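import Groth.Statements.S12249
import Mathlib
import Groth.Agent.Lib.ArtFun_helper1
import Groth.Agent.Lib.ArtFunTan_helper1

set_option autoImplicit false
universe u v
open CategoryTheory
open Deform

namespace Groth.Agent.S12249

/-- Let k be an algebraically closed field and F a set-valued functor on local Artinian k-algebras with
residue field k such that F(k) is a single point. If F has a semiuniversal formal element and its
tangent space F(k[ε]) is reduced to one element, then F(A) consists of exactly one element for every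
A: F is the constant one-point functor h_k. -/
theorem result
    {k : Type u} [Field k] [IsAlgClosed k]
    (F : ArtFun.Art k k ⥤ Type v) (h0 : ArtFun.H0 F) (hF : ArtFun.HasHull F)
    (ht : Subsingleton (ArtFun.TangentSpace F)) (A : ArtFun.Art k k) :
    Nonempty (F.obj A) ∧ Subsingleton (F.obj A) := by
  obtain ⟨⟨R, ξ, hver, hbij⟩⟩ := hF
  have hsub : Subsingleton (ArtFun.HomSet R.carrier R.res (ArtFun.Art.dual k k)) :=
    ⟨fun a b => hbij.1 (@Subsingleton.elim (ArtFun.TangentSpace F) ht (ξ.app _ a) (ξ.app _ b))⟩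
  have hle : IsLocalRing.maximalIdeal R.carrier ≤ IsLocalRing.maximalIdeal R.carrier ^ 2 := by
    by_contra hnle
    obtain ⟨x₀, hx₀m, hx₀⟩ := SetLike.not_le_iff_exists.mp hnle
    have hf : R.res.comp (Algebra.ofId k R.carrier) = AlgHom.id k k := by
      apply AlgHom.ext; intro c
      show R.res (algebraMap k R.carrier c) = c
      rw [AlgHom.commutes]; rfl
    have hJ1 : ∀ s t, R.res s = 0 → R.res t = 0 → s * t ∈ IsLocalRing.maximalIdeal R.carrier ^ 2 := by
      intro s t hs ht'
      rw [pow_two]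
      exact Ideal.mul_mem_mul ((ArtFun.CRing.mem_maximalIdeal_iff R s).2 hs)
        ((ArtFun.CRing.mem_maximalIdeal_iff R t).2 ht')
    have hJ2 : ∀ r : k, (AlgHom.id k k) r = 0 →
        (Algebra.ofId k R.carrier) r ∈ IsLocalRing.maximalIdeal R.carrier ^ 2 := by
      intro r hr
      have h0' : r = 0 := hr
      rw [h0', map_zero]; exact Ideal.zero_mem _
    obtain ⟨τ₁, τ₂, hne, -⟩ := Lib.ArtFunH1.exists_homSet_ne_of_not_mem (AlgHom.id k k) R.res
      Function.surjective_id (Algebra.ofId k R.carrier) hf (IsLocalRing.maximalIdeal R.carrier ^ 2)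
      hJ1 hJ2 x₀ ((ArtFun.CRing.mem_maximalIdeal_iff R x₀).1 hx₀m) hx₀
    exact hne (hsub.elim _ _)
  have hbot : IsLocalRing.maximalIdeal R.carrier = ⊥ := by
    apply Submodule.eq_bot_of_le_smul_of_le_jacobson_bot (IsLocalRing.maximalIdeal R.carrier) _
      (IsNoetherian.noetherian _)
    · rw [smul_eq_mul, ← pow_two]; exact hle
    · exact IsLocalRing.maximalIdeal_le_jacobson _
  have hr : ∀ r : R.carrier, r = algebraMap k R.carrier (R.res r) := by
    intro r
    have h1 : r - algebraMap k R.carrier (R.res r) ∈ IsLocalRing.maximalIdeal R.carrier := by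
      rw [ArtFun.CRing.mem_maximalIdeal_iff, map_sub, AlgHom.commutes]
      exact sub_self _
    rw [hbot] at h1
    exact sub_eq_zero.mp h1
  have hsubA : Subsingleton (ArtFun.HomSet R.carrier R.res A) := by
    refine ⟨fun φ φ' => Subtype.ext (AlgHom.ext fun r => ?_)⟩
    rw [hr r, AlgHom.commutes, AlgHom.commutes]
  let φ₀ : ArtFun.HomSet R.carrier R.res A := ⟨(Algebra.ofId k A).comp R.res, by
    apply AlgHom.ext; intro r
    show A.res (algebraMap k A (R.res r)) = R.res r
    rw [AlgHom.commutes]; rfl⟩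
  have hsurj : Function.Surjective (ξ.app A) := by
    intro y
    obtain ⟨ψ, -, hψ⟩ := hver (ArtFun.Art.toBase A) A.res_surjective
      (ArtFun.HomSet.map (ArtFun.Art.toBase A) φ₀) y (h0.2.elim _ _)
    exact ⟨ψ, hψ⟩
  refine ⟨⟨ξ.app A φ₀⟩, ⟨fun y y' => ?_⟩⟩
  obtain ⟨ψ, rfl⟩ := hsurj y
  obtain ⟨ψ', rfl⟩ := hsurj y'
  rw [hsubA.elim ψ ψ']

end Groth.Agent.S12249
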