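import Groth.Statements.S12250
import Mathlib
import Groth.Agent.Lib.ArtFun_helper1
import Groth.Agent.Lib.ArtFunFormal_helper1

set_option autoImplicit false
universe u v
open CategoryTheory
open Deform

namespace Groth.Agent.S12250

open ArtFun ArtFun.Art

section FormalFamily
variable {Λ : Type u} {k : Type u} [CommRing Λ] [Field k] [Algebra Λ k]

lemma homSet_map_comp {R : Type u} [CommRing R] [Algebra Λ R] {resR : R →ₐ[Λ] k} {A B C : Art Λ k}
    (f : A ⟶ B) (g : B ⟶ C) (φ : HomSet R resR A) :
    HomSet.map (f ≫ g) φ = HomSet.map g (HomSet.map f φ) := Subtype.ext (AlgHom.ext fun _ => rfl)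

lemma homSet_map_id {R : Type u} [CommRing R] [Algebra Λ R] {resR : R →ₐ[Λ] k} {A : Art Λ k}
    (φ : HomSet R resR A) : HomSet.map (𝟙 A) φ = φ := Subtype.ext (AlgHom.ext fun _ => rfl)

lemma hom_ext_trunc (R : CRing Λ k) (n : ℕ) {A : Art Λ k} (f g : R.trunc n ⟶ A)
    (h : HomSet.map f (R.truncHom n) = HomSet.map g (R.truncHom n)) : f = g := by
  apply Art.hom_ext
  apply AlgHom.ext
  intro x
  obtain ⟨a, rfl⟩ := Ideal.Quotient.mk_surjective x
  exact congrArg (fun ψ : HomSet R.carrier R.res A => ψ.1 a) h

noncomputable def trans (R : CRing Λ k) (n : ℕ) : ∀ d : ℕ, R.trunc (n + d) ⟶ R.trunc n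
  | 0 => 𝟙 _
  | d + 1 => R.truncMap (n + d) ≫ trans R n d

lemma trans_truncHom (R : CRing Λ k) (n d : ℕ) :
    HomSet.map (trans R n d) (R.truncHom (n + d)) = R.truncHom n := by
  induction d with
  | zero => exact homSet_map_id _
  | succ d ih =>
    show HomSet.map (R.truncMap (n + d) ≫ trans R n d) (R.truncHom (n + d + 1)) = _
    rw [homSet_map_comp, CRing.truncMap_truncHom, ih]

lemma trans_elt {F : Art Λ k ⥤ Type v} (R : CRing Λ k) (u : FormalElt F R) (n d : ℕ) :
    F.map (trans R n d) (u.elt (n + d)) = u.elt n := by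
  induction d with
  | zero => exact Lib.ArtFunH1.map_id_apply F _ _
  | succ d ih =>
    show F.map (R.truncMap (n + d) ≫ trans R n d) (u.elt (n + d + 1)) = _
    rw [Lib.ArtFunH1.map_comp_apply, u.compat, ih]

lemma compat_aux {F : Art Λ k ⥤ Type v} (R : CRing Λ k) (u : FormalElt F R) {A : Art Λ k} (n d : ℕ)
    (a : R.trunc n ⟶ A) (b : R.trunc (n + d) ⟶ A)
    (h : HomSet.map a (R.truncHom n) = HomSet.map b (R.truncHom (n + d))) :
    F.map a (u.elt n) = F.map b (u.elt (n + d)) := by
  have hb : trans R n d ≫ a = b := by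
    apply hom_ext_trunc
    rw [homSet_map_comp, trans_truncHom, h]
  rw [← hb, Lib.ArtFunH1.map_comp_apply, trans_elt]

lemma compat_gen {F : Art Λ k ⥤ Type v} (R : CRing Λ k) (u : FormalElt F R) {A : Art Λ k} (n m : ℕ)
    (a : R.trunc n ⟶ A) (b : R.trunc m ⟶ A)
    (h : HomSet.map a (R.truncHom n) = HomSet.map b (R.truncHom m)) :
    F.map a (u.elt n) = F.map b (u.elt m) := by
  rcases le_total n m with hnm | hnm
  · obtain ⟨d, rfl⟩ := Nat.exists_eq_add_of_le hnm
    exact compat_aux R u n d a b h
  · obtain ⟨d, rfl⟩ := Nat.exists_eq_add_of_le hnm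
    exact (compat_aux R u m d b a h.symm).symm

noncomputable def famOf {F : Art Λ k ⥤ Type v} (R : CRing Λ k) (u : FormalElt F R) :
    Family R.carrier R.res F where
  app A φ := F.map (Classical.choose (Classical.choose_spec (Lib.ArtFunH1.exists_factor_trunc R A φ)))
    (u.elt (Classical.choose (Lib.ArtFunH1.exists_factor_trunc R A φ)))
  natural {A B} f φ := by
    have h1 := Classical.choose_spec (Classical.choose_spec (Lib.ArtFunH1.exists_factor_trunc R A φ))
    have h2 := Classical.choose_spec (Classical.choose_spec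
      (Lib.ArtFunH1.exists_factor_trunc R B (HomSet.map f φ)))
    rw [← Lib.ArtFunH1.map_comp_apply]
    apply compat_gen
    rw [h2, homSet_map_comp, h1]

lemma famOf_toFormalElt {F : Art Λ k ⥤ Type v} (R : CRing Λ k) (u : FormalElt F R) :
    (famOf R u).toFormalElt = u := by
  apply FormalElt.ext'
  intro n
  show (famOf R u).app _ (R.truncHom n) = u.elt n
  have h1 := Classical.choose_spec (Classical.choose_spec
    (Lib.ArtFunH1.exists_factor_trunc R (R.trunc n) (R.truncHom n)))
  have h3 := compat_gen R u _ n (Classical.choose (Classical.choose_spec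
    (Lib.ArtFunH1.exists_factor_trunc R (R.trunc n) (R.truncHom n)))) (𝟙 _)
    (by rw [h1, homSet_map_id])
  rw [Lib.ArtFunH1.map_id_apply] at h3
  exact h3

end FormalFamily



/-- Let k be an algebraically closed field, Λ a complete local Noetherian k-algebra with residue field
k, R a complete local Noetherian Λ-algebra with residue field k and F a set-valued functor on local
Artinian Λ-algebras with residue field k. Then the map sending a morphism of functors h_R → F to its
formal element (the compatible sequence of its values on the quotient maps R → R/m^(n+1), n ≥ 0) is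
a bijection between morphisms h_R → F and formal elements of F over R. -/
theorem result
    {k Λ : Type u} [Field k] [IsAlgClosed k] [CommRing Λ] [IsLocalRing Λ] [IsNoetherianRing Λ]
    [IsAdicComplete (IsLocalRing.maximalIdeal Λ) Λ] [Algebra k Λ] [Algebra Λ k] [IsScalarTower k Λ k]
    (R : ArtFun.CRing Λ k) (F : ArtFun.Art Λ k ⥤ Type v) :
    Function.Bijective (fun ξ : ArtFun.Family R.carrier R.res F => ξ.toFormalElt) := by
  constructor
  · intro ξ ξ' h
    have happ : ∀ A φ, ξ.app A φ = ξ'.app A φ :=
      Lib.ArtFunH1.family_app_eq_of_toFormalElt_eq R ξ ξ' h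
    cases ξ with
    | mk app nat =>
      cases ξ' with
      | mk app' nat' =>
        have : app = app' := funext fun A => funext fun φ => happ A φ
        subst this
        rfl
  · intro u
    exact ⟨famOf R u, famOf_toFormalElt R u⟩

end Groth.Agent.S12250
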