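import Groth.Statements.S12252
import Mathlib
import Groth.Agent.Lib.ArtFun_helper1
import Groth.Agent.Lib.ArtFunFormal_helper1

set_option autoImplicit false
universe u v
open CategoryTheory
open Deform

namespace Groth.Agent.S12252

open ArtFun ArtFun.Art

section ProRepUnique
variable {Λ : Type u} {k : Type u} [CommRing Λ] [Field k] [Algebra Λ k] {F : Art Λ k ⥤ Type v}

lemma family_ext {R : Type u} [CommRing R] [Algebra Λ R] {resR : R →ₐ[Λ] k} (ξ ξ' : Family R resR F)
    (h : ∀ A φ, ξ.app A φ = ξ'.app A φ) : ξ = ξ' := by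
  cases ξ with
  | mk app nat =>
    cases ξ' with
    | mk app' nat' =>
      have : app = app' := funext fun A => funext fun φ => h A φ
      subst this
      rfl

def precomp {R S : Type u} [CommRing R] [Algebra Λ R] {resR : R →ₐ[Λ] k} [CommRing S] [Algebra Λ S]
    {resS : S →ₐ[Λ] k} (g : R →ₐ[Λ] S) (hg : resS.comp g = resR) {A : Art Λ k}
    (ψ : HomSet S resS A) : HomSet R resR A :=
  ⟨ψ.1.comp g, by rw [← AlgHom.comp_assoc, ψ.2, hg]⟩

lemma along_app {R S : Type u} [CommRing R] [Algebra Λ R] {resR : R →ₐ[Λ] k} [CommRing S] [Algebra Λ S]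
    {resS : S →ₐ[Λ] k} (ξ : Family R resR F) (g : R →ₐ[Λ] S) (hg : resS.comp g = resR) (A : Art Λ k)
    (ψ : HomSet S resS A) : (ξ.along g hg).app A ψ = ξ.app A (precomp g hg ψ) := rfl

lemma along_congr {R S : Type u} [CommRing R] [Algebra Λ R] {resR : R →ₐ[Λ] k} [CommRing S]
    [Algebra Λ S] {resS : S →ₐ[Λ] k} (ξ : Family R resR F) {g g' : R →ₐ[Λ] S} (h : g = g')
    (hg : resS.comp g = resR) (hg' : resS.comp g' = resR) : ξ.along g hg = ξ.along g' hg' := by
  subst h; rfl

lemma along_comp {R S T : Type u} [CommRing R] [Algebra Λ R] {resR : R →ₐ[Λ] k} [CommRing S]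
    [Algebra Λ S] {resS : S →ₐ[Λ] k} [CommRing T] [Algebra Λ T] {resT : T →ₐ[Λ] k}
    (ξ : Family R resR F) (g : R →ₐ[Λ] S) (hg : resS.comp g = resR) (g' : S →ₐ[Λ] T)
    (hg' : resT.comp g' = resS) (hgg' : resT.comp (g'.comp g) = resR) :
    (ξ.along g hg).along g' hg' = ξ.along (g'.comp g) hgg' := by
  apply family_ext
  intro A ψ
  rfl

lemma along_id {R : Type u} [CommRing R] [Algebra Λ R] {resR : R →ₐ[Λ] k} (ξ : Family R resR F)
    (h : resR.comp (AlgHom.id Λ R) = resR) : ξ.along (AlgHom.id Λ R) h = ξ := by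
  apply family_ext
  intro A ψ
  rw [along_app]
  congr 1

lemma exists_along_eq {R : Type u} [CommRing R] [Algebra Λ R] {resR : R →ₐ[Λ] k}
    (ξ : Family R resR F) (hξ : IsUniversal ξ) (S : CRing Λ k) (ζ : Family S.carrier S.res F) :
    ∃ (g : R →ₐ[Λ] S.carrier) (hg : S.res.comp g = resR), ξ.along g hg = ζ := by
  have hφ : ∀ n, ∃ φ : HomSet R resR (S.trunc n), ξ.app _ φ = ζ.app _ (S.truncHom n) :=
    fun n => (hξ _).2 _
  choose φ hφ using hφ
  have hcompat : ∀ n, HomSet.map (S.truncMap n) (φ (n + 1)) = φ n := by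
    intro n
    apply (hξ _).1
    rw [ξ.natural, hφ, hφ, ← ζ.natural, CRing.truncMap_truncHom]
  obtain ⟨g, hg, hgn⟩ := Lib.ArtFunH1.exists_algHom_of_compatible S φ hcompat
  refine ⟨g, hg, ?_⟩
  apply family_ext
  intro A ψ
  apply Lib.ArtFunH1.family_app_eq_of_toFormalElt_eq S
  apply FormalElt.ext'
  intro n
  show ξ.app _ (precomp g hg (S.truncHom n)) = ζ.app _ (S.truncHom n)
  have h1 : precomp g hg (S.truncHom n) = φ n := hgn n
  rw [h1, hφ]

lemma along_injective {R : Type u} [CommRing R] [Algebra Λ R] {resR : R →ₐ[Λ] k}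
    (ξ : Family R resR F) (hξ : IsUniversal ξ) (S : CRing Λ k) (g g' : R →ₐ[Λ] S.carrier)
    (hg : S.res.comp g = resR) (hg' : S.res.comp g' = resR)
    (h : ξ.along g hg = ξ.along g' hg') : g = g' := by
  apply AlgHom.ext
  intro r
  rw [← sub_eq_zero]
  apply Lib.ArtFunH1.eq_zero_of_forall_mem_mpow
  intro n
  have h1 : ξ.app _ (precomp g hg (S.truncHom n)) = ξ.app _ (precomp g' hg' (S.truncHom n)) :=
    congrArg (fun ζ : Family S.carrier S.res F => ζ.app _ (S.truncHom n)) h
  have h2 := (hξ _).1 h1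
  have h3 := congrArg (fun ψ : HomSet R resR (S.trunc n) => ψ.1 r) h2
  exact (Ideal.Quotient.eq).mp h3

end ProRepUnique



/-- Let k be an algebraically closed field, Λ a complete local Noetherian k-algebra with residue field k
and F a set-valued functor on local Artinian Λ-algebras with residue field k. If (R, u) and (S, v)
both prorepresent F (complete local Noetherian Λ-algebras with residue field k carrying universal
families), then there is a unique isomorphism of Λ-algebras R ≅ S, compatible with the augmentations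
to k, along which the universal family of R is transported to that of S. -/
theorem result
    {k Λ : Type u} [Field k] [IsAlgClosed k] [CommRing Λ] [IsLocalRing Λ] [IsNoetherianRing Λ]
    [IsAdicComplete (IsLocalRing.maximalIdeal Λ) Λ] [Algebra k Λ] [Algebra Λ k] [IsScalarTower k Λ k]
    {F : ArtFun.Art Λ k ⥤ Type v} (P Q : ArtFun.ProRep F) :
    ∃! e : P.ring.carrier ≃ₐ[Λ] Q.ring.carrier,
      ∃ he : Q.ring.res.comp e.toAlgHom = P.ring.res, P.family.along e.toAlgHom he = Q.family := by
  obtain ⟨e₀, he₀, h0⟩ := exists_along_eq P.family P.universal Q.ring Q.family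
  obtain ⟨e₁, he₁, h1⟩ := exists_along_eq Q.family Q.universal P.ring P.family
  have hc10 : P.ring.res.comp (e₁.comp e₀) = P.ring.res := by
    rw [← AlgHom.comp_assoc, he₁, he₀]
  have hc01 : Q.ring.res.comp (e₀.comp e₁) = Q.ring.res := by
    rw [← AlgHom.comp_assoc, he₀, he₁]
  have h10 : e₁.comp e₀ = AlgHom.id Λ P.ring.carrier := by
    apply along_injective P.family P.universal P.ring _ _ hc10 (AlgHom.comp_id _)
    rw [← along_comp P.family e₀ he₀ e₁ he₁ hc10, h0, h1, along_id]
  have h01 : e₀.comp e₁ = AlgHom.id Λ Q.ring.carrier := by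
    apply along_injective Q.family Q.universal Q.ring _ _ hc01 (AlgHom.comp_id _)
    rw [← along_comp Q.family e₁ he₁ e₀ he₀ hc01, h1, h0, along_id]
  have hee : (AlgEquiv.ofAlgHom e₀ e₁ h01 h10).toAlgHom = e₀ := AlgHom.ext fun _ => rfl
  have hres : Q.ring.res.comp (AlgEquiv.ofAlgHom e₀ e₁ h01 h10).toAlgHom = P.ring.res := by
    rw [hee]; exact he₀
  refine ⟨AlgEquiv.ofAlgHom e₀ e₁ h01 h10, ⟨hres, ?_⟩, ?_⟩
  · rw [along_congr P.family hee hres he₀]; exact h0
  · rintro e' ⟨he', h'⟩
    have h2 : e'.toAlgHom = e₀ := by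
      apply along_injective P.family P.universal Q.ring _ _ he' he₀
      rw [h', h0]
    apply AlgEquiv.ext
    intro x
    exact AlgHom.congr_fun h2 x

end Groth.Agent.S12252
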