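import Groth.Statements.S12257
import Mathlib
import Groth.Agent.Lib.ArtFun_helper1

set_option autoImplicit false
universe u v
open CategoryTheory CategoryTheory.Limits
open Deform

namespace Groth.Agent.S12257

/-- Let k be an algebraically closed field, Λ a complete local Noetherian k-algebra with residue field
k, and F, G, H set-valued functors on local Artinian Λ-algebras with residue field k, each with
one-point value at k. If F → G is a smooth morphism of functors and H → G is any morphism, then the
second projection F ×_G H → H of the fibre product of functors is smooth. -/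
theorem result
    {k Λ : Type u} [Field k] [IsAlgClosed k] [CommRing Λ] [IsLocalRing Λ] [IsNoetherianRing Λ]
    [IsAdicComplete (IsLocalRing.maximalIdeal Λ) Λ] [Algebra k Λ] [Algebra Λ k] [IsScalarTower k Λ k]
    {F G H : ArtFun.Art Λ k ⥤ Type v} (η : F ⟶ G) (θ : H ⟶ G)
    (hF : ArtFun.H0 F) (hG : ArtFun.H0 G) (hH : ArtFun.H0 H) (hη : ArtFun.IsSmooth η) :
    ArtFun.IsSmooth (pullback.snd η θ) := by
  rw [Lib.ArtFunH1.isSmooth_iff_lift]
  intro B A μ hμ p h' hp
  rw [Lib.ArtFunH1.isSmooth_iff_lift] at hη
  have hpb := IsPullback.of_hasPullback η θ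
  have hpbA : IsPullback ((pullback.fst η θ).app A) ((pullback.snd η θ).app A) (η.app A)
      (θ.app A) := hpb.map ((evaluation _ _).obj A)
  have hpbB : IsPullback ((pullback.fst η θ).app B) ((pullback.snd η θ).app B) (η.app B)
      (θ.app B) := hpb.map ((evaluation _ _).obj B)
  rw [Limits.Types.isPullback_iff] at hpbA hpbB
  obtain ⟨-, injA, -⟩ := hpbA
  obtain ⟨-, -, exB⟩ := hpbB
  have hcondA : η.app A ((pullback.fst η θ).app A p) = θ.app A ((pullback.snd η θ).app A p) :=
    congrArg (fun t => t.app A p) (pullback.condition (f := η) (g := θ))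
  have hcond : η.app A ((pullback.fst η θ).app A p) = G.map μ (θ.app B h') := by
    rw [hcondA, hp]
    exact NatTrans.naturality_apply θ μ h'
  obtain ⟨z, hz1, hz2⟩ := hη μ hμ _ _ hcond
  obtain ⟨q, hq1, hq2⟩ := exB z h' hz2
  refine ⟨q, ?_, hq2⟩
  apply injA
  constructor
  · have := NatTrans.naturality_apply (pullback.fst η θ) μ q
    rw [this, hq1, hz1]
  · have := NatTrans.naturality_apply (pullback.snd η θ) μ q
    rw [this, hq2, hp]

end Groth.Agent.S12257
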