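import Groth.Statements.S1227
import Mathlib

set_option autoImplicit false
universe u
open FlatMor

namespace Groth.Agent.S1227

open TensorProduct in
theorem aux {A : Type u} [CommRing A] {M N : Type u} [AddCommGroup M] [Module A M]
    [Module.Projective A M]
    [AddCommGroup N] [Module A N] (u : M →ₗ[A] N) (hu : Function.Surjective u) :
    ∃ I : Ideal A, ∀ (B : Type u) [CommRing B] [Algebra A B],
      Function.Bijective (u.baseChange B) ↔ I.map (algebraMap A B) = ⊥ := by
  obtain ⟨s, hs⟩ := Module.projective_def'.1 (inferInstance : Module.Projective A M)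
  refine ⟨Ideal.span {a | ∃ k ∈ LinearMap.ker u, ∃ m : M, a = s k m}, fun B _ _ => ?_⟩
  have hkey : Function.Bijective (u.baseChange B) ↔
      ∀ k ∈ LinearMap.ker u, (1 : B) ⊗ₜ[A] k = 0 := by
    constructor
    · intro hb k hk
      apply hb.1
      rw [LinearMap.baseChange_tmul, (LinearMap.mem_ker.1 hk), TensorProduct.tmul_zero, map_zero]
    · intro hk
      have hzero : ∀ w' : B ⊗[A] (LinearMap.ker u),
          ((LinearMap.ker u).subtype.lTensor B) w' = 0 := by
        intro w'
        induction w' using TensorProduct.induction_on with
        | zero => simp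
        | tmul b k =>
          rw [LinearMap.lTensor_tmul]
          have h1 : b ⊗ₜ[A] ((LinearMap.ker u).subtype k) = b • ((1 : B) ⊗ₜ[A] (k : M)) := by
            rw [TensorProduct.smul_tmul', smul_eq_mul, mul_one]; rfl
          rw [h1, hk k k.2, smul_zero]
        | add w1 w2 h1 h2 => rw [map_add, h1, h2, add_zero]
      constructor
      · rw [injective_iff_map_eq_zero]
        intro w hw
        have hex := lTensor_exact B (LinearMap.exact_subtype_ker_map u) hu
        have hw' : (u.lTensor B) w = 0 := by
          have h2 := congrFun (LinearMap.baseChange_eq_ltensor (A := B) u) w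
          rw [← h2]; exact hw
        obtain ⟨w', rfl⟩ := (hex w).1 hw'
        exact hzero w'
      · rw [LinearMap.baseChange_eq_ltensor]
        exact LinearMap.lTensor_surjective B hu
  rw [hkey]
  constructor
  · intro hk
    rw [Ideal.map_span, Ideal.span_eq_bot]
    rintro _ ⟨a, ⟨k, hkk, m, rfl⟩, rfl⟩
    have h3 := congrArg ((TensorProduct.rid A B).toLinearMap ∘ₗ
      (LinearMap.lTensor B ((Finsupp.lapply m) ∘ₗ s))) (hk k hkk)
    simp only [LinearMap.coe_comp, Function.comp_apply, LinearMap.lTensor_tmul, map_zero,
      LinearEquiv.coe_coe, TensorProduct.rid_tmul, Finsupp.lapply_apply] at h3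
    rw [Algebra.algebraMap_eq_smul_one]
    exact h3
  · intro hI k hkk
    have hI' : ∀ a ∈ Ideal.span {a | ∃ k ∈ LinearMap.ker u, ∃ m : M, a = s k m},
        algebraMap A B a = 0 := by
      intro a ha
      have h4 := Ideal.mem_map_of_mem (algebraMap A B) ha
      rw [hI] at h4
      exact (Submodule.mem_bot B).1 h4
    have hk' : k = Finsupp.linearCombination A id (s k) := by
      have h5 := LinearMap.congr_fun hs k
      simpa using h5.symm
    rw [hk', Finsupp.linearCombination_apply, Finsupp.sum, TensorProduct.tmul_sum]
    refine Finset.sum_eq_zero fun m _ => ?_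
    rw [id, TensorProduct.tmul_smul, TensorProduct.smul_tmul', ← Algebra.algebraMap_eq_smul_one,
      hI' _ (Ideal.subset_span ⟨k, hkk, m, rfl⟩), TensorProduct.zero_tmul]

open TensorProduct in
/-- Let u be a surjective linear map from a projective A-module M to an A-module N. Then there is an
ideal I of A such that for every A-algebra B, the base change u ⊗ 1 from B ⊗ M to B ⊗ N is bijective
if and only if the image of I in B is zero. -/
theorem result {A : Type u} [CommRing A] {M N : Type u} [AddCommGroup M] [Module A M] [Module.Projective A M]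
    [AddCommGroup N] [Module A N] (u : M →ₗ[A] N) (hu : Function.Surjective u) :
    ∃ I : Ideal A, ∀ (B : Type u) [CommRing B] [Algebra A B],
      Function.Bijective (u.baseChange B) ↔ I.map (algebraMap A B) = ⊥ := by
  exact aux u hu

end Groth.Agent.S1227
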