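import Groth.Statements.S12299
import Groth.Agent.Lib.ArtFunTan_helper1

set_option autoImplicit false
universe u v
open CategoryTheory
open ArtFun

namespace Groth.Agent.S12299

/-- Let k be an algebraically closed field, F a set-valued functor on local Artinian k-algebras with
residue field k, and (R, ξ) a miniversal family for F, with R a complete local Noetherian k-algebra
with residue field k: the morphism h_R → F has the lifting property along surjections and is
bijective on the dual numbers. Let S be a complete local Noetherian k-algebra with residue field k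
and g₁, g₂ : R → S two k-algebra maps compatible with the augmentations along which ξ induces the
same formal family over S (the same compatible sequence in the F(S/m^(n+1))). Then g₁ and g₂ induce
the same map R → S/m_S², so the map R/m_R² → S/m_S² attached to a formal family over S is well
defined. (Coefficient rings are taken Noetherian here.) -/
theorem result
    {k : Type u} [Field k] [IsAlgClosed k] {F : ArtFun.Art k k ⥤ Type v}
    (R : ArtFun.CRing k k) (ξ : ArtFun.Family R.carrier R.res F) (hξ : ArtFun.IsMiniversal ξ)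
    (S : ArtFun.CRing k k) (g₁ g₂ : R.carrier →ₐ[k] S.carrier)
    (hg₁ : S.res.comp g₁ = R.res) (hg₂ : S.res.comp g₂ = R.res)
    (h : (ξ.along g₁ hg₁).toFormalElt = (ξ.along g₂ hg₂).toFormalElt) :
    (S.truncHom 1).1.comp g₁ = (S.truncHom 1).1.comp g₂ := by
  open Groth.Agent.Lib.ArtFunH1 ArtFun.Art in
  by_contra hne
  have hex : ∃ r, (S.truncHom 1).1 (g₁ r) ≠ (S.truncHom 1).1 (g₂ r) := by
    by_contra hall
    push Not at hall
    exact hne (AlgHom.ext hall)
  obtain ⟨r, hr⟩ := hex
  have hT : IsLocalRing.maximalIdeal (S.trunc 1) ^ 2 = ⊥ := by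
    rw [← le_bot_iff]
    calc IsLocalRing.maximalIdeal (S.trunc 1) ^ 2
        ≤ ((IsLocalRing.maximalIdeal S.carrier).map (Ideal.Quotient.mk (ArtFun.CRing.mpow S 1))) ^ 2 :=
          Ideal.pow_right_mono (ArtFun.CRing.maximalIdeal_quot_le S 1) _
      _ = (ArtFun.CRing.mpow S 1).map (Ideal.Quotient.mk (ArtFun.CRing.mpow S 1)) := by
          rw [← Ideal.map_pow]
      _ = ⊥ := Ideal.map_quotient_self _
  let σ : base k k ⟶ S.trunc 1 := homMk (Algebra.ofId k (S.trunc 1)) (by
    apply AlgHom.ext
    intro c
    exact (S.trunc 1).res.commutes c)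
  obtain ⟨ℓ, hℓ⟩ := exists_hom_dual_separating (S.trunc 1) σ hT _ _ hr
  apply hℓ
  -- the two composites R → k[ε] have the same image under ξ
  let u₁ : ArtFun.HomSet R.carrier R.res (S.trunc 1) :=
    ⟨(S.truncHom 1).1.comp g₁, by rw [← AlgHom.comp_assoc, (S.truncHom 1).2, hg₁]⟩
  let u₂ : ArtFun.HomSet R.carrier R.res (S.trunc 1) :=
    ⟨(S.truncHom 1).1.comp g₂, by rw [← AlgHom.comp_assoc, (S.truncHom 1).2, hg₂]⟩
  have e1 : ξ.app _ u₁ = ξ.app _ u₂ := congrArg (fun w => w.elt 1) h
  have e2 : ξ.app _ (ArtFun.HomSet.map ℓ u₁) = ξ.app _ (ArtFun.HomSet.map ℓ u₂) := by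
    rw [ξ.natural, ξ.natural, e1]
  have e3 := hξ.2.1 e2
  exact congrArg (fun w : ArtFun.HomSet R.carrier R.res (dual k k) => w.1 r) e3

end Groth.Agent.S12299
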