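import Groth.Statements.S12301
import Groth.Agent.Lib.ArtFunFormal_helper1

set_option autoImplicit false
universe u v
open CategoryTheory
open ArtFun

namespace Groth.Agent.S12301

/-- Let k be an algebraically closed field, f : F₁ → F₂ a morphism of set-valued functors on local
Artinian k-algebras with residue field k, (R₁, ξ₁) a family for F₁ and (R₂, ξ₂) a versal family for
F₂, where R₁, R₂ are complete local Noetherian k-algebras with residue field k and versal is meant
in the strong sense: h_{R₂} → F₂ is surjective on every object and has the lifting property along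
surjections. Then there is a k-algebra map φ : R₂ → R₁, compatible with the augmentations, such that
for every local Artinian A and every u : R₁ → A the element of F₂(A) given by ξ₂ at u ∘ φ equals the
image under f of the element of F₁(A) given by ξ₁ at u; in other words composition with φ, h_{R₁} →
h_{R₂}, covers f. (The published statement assumes (R₁, ξ₁) versal as well; this row asks nothing of
ξ₁, which is all the argument uses, and takes the coefficient rings Noetherian.) -/
theorem result
    {k : Type u} [Field k] [IsAlgClosed k] {F₁ F₂ : ArtFun.Art k k ⥤ Type v} (f : F₁ ⟶ F₂)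
    (R₁ : ArtFun.CRing k k) (ξ₁ : ArtFun.Family R₁.carrier R₁.res F₁)
    (R₂ : ArtFun.CRing k k) (ξ₂ : ArtFun.Family R₂.carrier R₂.res F₂) (hξ₂ : ArtFun.IsVersal ξ₂)
    (hsurj : ∀ A : ArtFun.Art k k, Function.Surjective (ξ₂.app A)) :
    ∃ (φ : R₂.carrier →ₐ[k] R₁.carrier) (hφ : R₁.res.comp φ = R₂.res),
      ∀ (A : ArtFun.Art k k) (u : ArtFun.HomSet R₁.carrier R₁.res A),
        (ξ₂.along φ hφ).app A u = f.app A (ξ₁.app A u) := by
  let S := R₁
  let η : ArtFun.FormalElt F₂ S := (ξ₁.push f).toFormalElt
  have htm : ∀ n, Function.Surjective (S.truncMap n) := by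
    intro n y
    obtain ⟨a, rfl⟩ := Ideal.Quotient.mk_surjective y
    exact ⟨Ideal.Quotient.mk _ a, rfl⟩
  let seq : ∀ n : ℕ, {φ : ArtFun.HomSet R₂.carrier R₂.res (S.trunc n) // ξ₂.app _ φ = η.elt n} :=
    fun n => Nat.rec
      (motive := fun n => {φ : ArtFun.HomSet R₂.carrier R₂.res (S.trunc n) // ξ₂.app _ φ = η.elt n})
      ⟨(hsurj (S.trunc 0) (η.elt 0)).choose, (hsurj (S.trunc 0) (η.elt 0)).choose_spec⟩
      (fun n prev =>
        ⟨(hξ₂ (S.truncMap n) (htm n) prev.1 (η.elt (n + 1)) (by rw [η.compat, prev.2])).choose,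
          (hξ₂ (S.truncMap n) (htm n) prev.1 (η.elt (n + 1))
            (by rw [η.compat, prev.2])).choose_spec.2⟩) n
  have hseq : ∀ n, ArtFun.HomSet.map (S.truncMap n) (seq (n + 1)).1 = (seq n).1 := by
    intro n
    exact (hξ₂ (S.truncMap n) (htm n) (seq n).1 (η.elt (n + 1))
      (by rw [η.compat, (seq n).2])).choose_spec.1
  obtain ⟨g, hg, hgφ⟩ := Groth.Agent.Lib.ArtFunH1.exists_algHom_of_compatible S
    (fun n => (seq n).1) hseq
  refine ⟨g, hg, ?_⟩
  have key : (ξ₂.along g hg).toFormalElt = (ξ₁.push f).toFormalElt := by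
    apply ArtFun.FormalElt.ext'
    intro n
    show ξ₂.app _ _ = η.elt n
    rw [← (seq n).2, ← hgφ n]
  intro A u
  exact Groth.Agent.Lib.ArtFunH1.family_app_eq_of_toFormalElt_eq R₁ _ _ key A u

end Groth.Agent.S12301
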