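import Groth.Statements.S1231
import Mathlib

set_option autoImplicit false
universe u
open FlatMor

namespace Groth.Agent.S1231

section
open TensorProduct

theorem flat_of_unramified {R T : Type u} [CommRing R] [CommRing T] [Algebra R T]
    [Algebra.EssFiniteType R T] [Algebra.FormallyUnramified R T]
    (N : Type u) [AddCommGroup N] [Module T N] [Module R N] [IsScalarTower R T N]
    [Module.Flat R N] : Module.Flat T N := by
  let rR : T ⊗[R] N →ₗ[R] N := TensorProduct.lift ((Algebra.lsmul R R N).toLinearMap)
  have hrR : ∀ (s : T) (n : N), rR (s ⊗ₜ[R] n) = s • n := by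
    intro s n
    show TensorProduct.lift ((Algebra.lsmul R R N).toLinearMap) (s ⊗ₜ[R] n) = s • n
    rw [TensorProduct.lift.tmul]
    rfl
  have hr_smul : ∀ (s : T) (x : T ⊗[R] N), rR (s • x) = s • rR x := by
    intro s x
    induction x using TensorProduct.induction_on with
    | zero => simp
    | tmul a n => rw [TensorProduct.smul_tmul', hrR, hrR, smul_eq_mul, mul_smul]
    | add x y hx hy => rw [smul_add, map_add, map_add, hx, hy, smul_add]
  let r : T ⊗[R] N →ₗ[T] N :=
    { toFun := rR, map_add' := rR.map_add, map_smul' := hr_smul }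
  let g : (T ⊗[R] T) ⊗[R] N →ₗ[R] T ⊗[R] N :=
    (rR.lTensor T) ∘ₗ (TensorProduct.assoc R T T N).toLinearMap
  have hg : ∀ (a b : T) (n : N), g ((a ⊗ₜ[R] b) ⊗ₜ[R] n) = a ⊗ₜ[R] (b • n) := by
    intro a b n
    show (rR.lTensor T) ((TensorProduct.assoc R T T N) ((a ⊗ₜ[R] b) ⊗ₜ[R] n)) = _
    rw [TensorProduct.assoc_tmul, LinearMap.lTensor_tmul, hrR]
  have F2 : ∀ (x : T ⊗[R] T) (s : T) (n : N),
      g (((s ⊗ₜ[R] (1 : T)) * x) ⊗ₜ[R] n) = s • g (x ⊗ₜ[R] n) := by
    intro x s n
    induction x using TensorProduct.induction_on with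
    | zero => simp
    | tmul a b =>
      rw [Algebra.TensorProduct.tmul_mul_tmul, one_mul, hg, hg, TensorProduct.smul_tmul',
        smul_eq_mul]
    | add x y hx hy =>
      rw [mul_add, TensorProduct.add_tmul, map_add, hx, hy, TensorProduct.add_tmul, map_add,
        smul_add]
  have F3 : ∀ (x : T ⊗[R] T) (s : T) (n : N),
      g ((((1 : T) ⊗ₜ[R] s) * x) ⊗ₜ[R] n) = g (x ⊗ₜ[R] (s • n)) := by
    intro x s n
    induction x using TensorProduct.induction_on with
    | zero => simp
    | tmul a b =>
      rw [Algebra.TensorProduct.tmul_mul_tmul, one_mul, hg, hg, mul_comm s b, mul_smul]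
    | add x y hx hy =>
      rw [mul_add, TensorProduct.add_tmul, map_add, hx, hy, TensorProduct.add_tmul, map_add]
  have F4 : ∀ (x : T ⊗[R] T) (n : N),
      rR (g (x ⊗ₜ[R] n)) = (Algebra.TensorProduct.lmul' R x) • n := by
    intro x n
    induction x using TensorProduct.induction_on with
    | zero => simp
    | tmul a b => rw [hg, hrR, Algebra.TensorProduct.lmul'_apply_tmul, mul_smul]
    | add x y hx hy =>
      rw [TensorProduct.add_tmul, map_add, map_add, hx, hy, map_add, add_smul]
  let i : N →ₗ[T] T ⊗[R] N :=
    { toFun := fun n => g ((Algebra.FormallyUnramified.elem R T) ⊗ₜ[R] n)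
      map_add' := fun n n' => by rw [TensorProduct.tmul_add, map_add]
      map_smul' := fun s n => by
        show g ((Algebra.FormallyUnramified.elem R T) ⊗ₜ[R] (s • n)) =
          s • g ((Algebra.FormallyUnramified.elem R T) ⊗ₜ[R] n)
        rw [← F3, Algebra.FormallyUnramified.one_tmul_mul_elem, F2] }
  have hri : r.comp i = LinearMap.id := by
    ext n
    show rR (g ((Algebra.FormallyUnramified.elem R T) ⊗ₜ[R] n)) = n
    rw [F4, Algebra.FormallyUnramified.lmul_elem, one_smul]
  exact Module.Flat.of_retract i r hri

theorem main {R T C : Type u} [CommRing R] [CommRing T] [CommRing C] [Algebra R T]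
    [Algebra.Etale R T] [Algebra T C] [Algebra R C] [IsScalarTower R T C]
    (N : Type u) [AddCommGroup N] [Module C N] [Module T N] [Module R N] [IsScalarTower T C N]
    [IsScalarTower R C N] [IsScalarTower R T N] (q : Ideal C) [q.IsPrime] :
    (FlatCA.FlatAt R q N ↔ FlatCA.FlatAt T q N) ∧ (Module.Flat R N ↔ Module.Flat T N) := by
  have key : ∀ (X : Type u) [AddCommGroup X] [Module T X] [Module R X] [IsScalarTower R T X],
      Module.Flat R X ↔ Module.Flat T X := by
    intro X _ _ _ _
    constructor
    · intro h; exact flat_of_unramified (R := R) (T := T) X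
    · intro h; exact Module.Flat.trans R T X
  exact ⟨key (LocalizedModule q.primeCompl N), key N⟩
end

/-- Let R → T be an étale ring map, C a T-algebra, N a C-module and q a prime of C. Then the
localization N_q is flat over R if and only if it is flat over T. In particular N is flat over R if
and only if it is flat over T. -/
theorem result {R T C : Type u} [CommRing R] [CommRing T] [CommRing C] [Algebra R T] [Algebra.Etale R T]
    [Algebra T C] [Algebra R C] [IsScalarTower R T C]
    (N : Type u) [AddCommGroup N] [Module C N] [Module T N] [Module R N] [IsScalarTower T C N] [IsScalarTower R C N] [IsScalarTower R T N]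
    (q : Ideal C) [q.IsPrime] :
    (FlatCA.FlatAt R q N ↔ FlatCA.FlatAt T q N) ∧ (Module.Flat R N ↔ Module.Flat T N) := by
  exact main N q

end Groth.Agent.S1231
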