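import Groth.Statements.S12315
import Mathlib
import Groth.Agent.Lib.ArtFunTan_helper1

set_option autoImplicit false
universe u v
open CategoryTheory
open SGA7

namespace Groth.Agent.S12315

theorem injective_of_surjective_ringEnd {R : Type*} [CommRing R] [IsNoetherianRing R] (φ : R →+* R)
    (hφ : Function.Surjective φ) : Function.Injective φ := by
  have hpow : ∀ n : ℕ, ∀ x, (φ ^ (n + 1)) x = φ ((φ ^ n) x) := by
    intro n x
    rw [pow_succ']
    rfl
  have hmono : Monotone (fun n : ℕ => RingHom.ker (φ ^ n)) := by
    apply monotone_nat_of_le_succ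
    intro n x hx
    rw [RingHom.mem_ker] at hx ⊢
    rw [hpow, hx, map_zero]
  obtain ⟨N, hN⟩ := monotone_stabilizes_iff_noetherian.2 (inferInstance : IsNoetherian R R)
    ⟨fun n : ℕ => RingHom.ker (φ ^ n), hmono⟩
  have hsurjN : ∀ n : ℕ, Function.Surjective (φ ^ n) := by
    intro n
    induction n with
    | zero => intro x; exact ⟨x, rfl⟩
    | succ n ih =>
      intro x
      obtain ⟨y, rfl⟩ := hφ x
      obtain ⟨z, rfl⟩ := ih y
      exact ⟨z, hpow n z⟩
  rw [injective_iff_map_eq_zero]
  intro x hx
  obtain ⟨y, rfl⟩ := hsurjN N x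
  have hy : y ∈ RingHom.ker (φ ^ (N + 1)) := by
    rw [RingHom.mem_ker, hpow]
    exact hx
  have h2 : RingHom.ker (φ ^ N) = RingHom.ker (φ ^ (N + 1)) := hN (N + 1) (Nat.le_succ N)
  rw [← h2, RingHom.mem_ker] at hy
  exact hy


/-- Let Λ be a complete Noetherian local ring with residue field k (the map Λ → k surjective), and
consider functors on the category of local Artinian Λ-algebras with residue field k. Let F be such a
functor, R a complete local Noetherian Λ-algebra with residue field k, and ξ a family of F over R (a
morphism h_R → F) which is injective on k[ε]: distinct augmented Λ-algebra maps R → k[ε] give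
distinct elements of F(k[ε]). Then every endomorphism of the pair (R, ξ), that is every Λ-algebra
map α : R → R compatible with the augmentation such that transporting ξ along α gives back ξ, is an
automorphism of R. (The published statement is for formal objects of a cofibred groupoid; this row
is the case of a set-valued functor.) -/
theorem result (Λ k : Type u) [CommRing Λ] [IsLocalRing Λ] [IsNoetherianRing Λ]
    [IsAdicComplete (IsLocalRing.maximalIdeal Λ) Λ] [Field k] [Algebra Λ k]
    (hk : Function.Surjective (algebraMap Λ k))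
    (F : ArtFun.Art Λ k ⥤ Type v) (R : ArtFun.CRing Λ k) (ξ : ArtFun.Family R.carrier R.res F)
    (hinj : Function.Injective (ξ.app (ArtFun.Art.dual Λ k)))
    (α : R.carrier →ₐ[Λ] R.carrier) (hα : R.res.comp α = R.res) (hξ : ξ.along α hα = ξ) :
    Function.Bijective α := by
  have hfin : Module.Finite Λ k := Module.Finite.of_surjective (Algebra.linearMap Λ k) hk
  have hsurj : Function.Surjective α := by
    by_contra hns
    obtain ⟨τ₁, τ₂, hne, hcomp⟩ :=
      Groth.Agent.Lib.ArtFunH1.exists_homSet_ne_of_not_surjective R R α hα hns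
    apply hne
    apply hinj
    have h1 : ξ.app _ τ₁ = (ξ.along α hα).app _ τ₁ := by rw [hξ]
    have h2 : ξ.app _ τ₂ = (ξ.along α hα).app _ τ₂ := by rw [hξ]
    rw [h1, h2]
    show ξ.app _ ⟨τ₁.1.comp α, _⟩ = ξ.app _ ⟨τ₂.1.comp α, _⟩
    congr 1
    exact Subtype.ext hcomp
  exact ⟨injective_of_surjective_ringEnd (α : R.carrier →+* R.carrier) hsurj, hsurj⟩

end Groth.Agent.S12315
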