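import Groth.Statements.S12717
import Mathlib.Tactic
import Groth.Agent.Lib.ArtFun_helper1
import Groth.Agent.S12707

set_option autoImplicit false
universe u v
open CategoryTheory
open ArtFun

namespace Groth.Agent.S12717

/-- For functors, a morphism η : F → G of functors on the category of Artinian local Λ-algebras with
residue field k is smooth (F(B) → F(A) ×_{G(A)} G(B) surjective for every surjection B → A) as soon
as this lifting condition holds for all small extensions B → A. -/
theorem result {Λ : Type u} {k : Type u} [CommRing Λ] [Field k] [Algebra Λ k]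
    [IsNoetherianRing Λ] [Module.Finite Λ k]
    {F G : ArtFun.Art Λ k ⥤ Type v} (η : F ⟶ G)
    (h : ∀ ⦃B A : ArtFun.Art Λ k⦄ (μ : B ⟶ A), ArtFun.Art.IsSmallExt μ →
      Function.Surjective (ArtFun.relCmp η μ)) :
    ArtFun.IsSmooth η := by
  intro B A μ hμ
  refine Groth.Agent.S12707.result
    (P := fun A B μ => Function.Surjective (ArtFun.relCmp η μ)) ?_ ?_ ?_ μ hμ
  · -- isomorphisms
    intro A B e he
    rw [Groth.Agent.Lib.ArtFunH1.relCmp_surjective_iff]
    intro x g hxg
    refine ⟨F.map (inv e) x, ?_, ?_⟩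
    · rw [← Groth.Agent.Lib.ArtFunH1.map_comp_apply, IsIso.inv_hom_id,
        Groth.Agent.Lib.ArtFunH1.map_id_apply]
    · have h1 : η.app B (F.map (inv e) x) = G.map (inv e) (η.app A x) :=
        NatTrans.naturality_apply η (inv e) x
      rw [h1, hxg, ← Groth.Agent.Lib.ArtFunH1.map_comp_apply, IsIso.hom_inv_id,
        Groth.Agent.Lib.ArtFunH1.map_id_apply]
  · intro A B p hp
    exact h p hp
  · intro A B C p q hp hq
    rw [Groth.Agent.Lib.ArtFunH1.relCmp_surjective_iff] at hp hq ⊢
    intro x g hxg
    rw [Groth.Agent.Lib.ArtFunH1.map_comp_apply] at hxg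
    obtain ⟨y, hy1, hy2⟩ := hq x (G.map p g) hxg
    obtain ⟨z, hz1, hz2⟩ := hp y g hy2
    exact ⟨z, by rw [Groth.Agent.Lib.ArtFunH1.map_comp_apply, hz1, hy1], hz2⟩

end Groth.Agent.S12717
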