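import Groth.Statements.S12316
import Mathlib
import Groth.Agent.Lib.ArtFunAct_helper1
import Groth.Agent.Lib.ArtFun_helper1
import Groth.Agent.S12717

set_option autoImplicit false
universe u v
open CategoryTheory
open SGA7

namespace Groth.Agent.S12316

open ArtFun ArtFun.Art Groth.Agent.Lib.ArtFunH1 in
theorem key {Λ k : Type u} [CommRing Λ] [Field k] [Algebra Λ k] [IsNoetherianRing Λ]
    [Module.Finite Λ k] {G H : ArtFun.Art Λ k ⥤ Type v} (ψ : G ⟶ H)
    (hS1 : ArtFun.S1 G) (hHeps : ArtFun.Heps G)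
    (hH : ∀ ⦃B A A' A'' : ArtFun.Art Λ k⦄ (p' : B ⟶ A') (p'' : B ⟶ A'') (f' : A' ⟶ A) (f'' : A'' ⟶ A)
      (h : ArtFun.Art.IsFibreProd p' p'' f' f''), Function.Surjective f'' →
        Function.Bijective (ArtFun.cmp H h))
    (hψ : Function.Injective (ArtFun.TangentSpace.map ψ))
    {A'' A : ArtFun.Art Λ k} (f : A'' ⟶ A) (hf : ArtFun.Art.IsSmallExt f) (g g' : G.obj A'')
    (h1 : G.map f g = G.map f g') (h2 : ψ.app A'' g = ψ.app A'' g') : g = g' := by
  obtain ⟨B, p₁, p₂, α, s, hfp1, hfp2, hs1, hs2, hs3⟩ := exists_action_square f hf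
  obtain ⟨w, hw⟩ := hS1 p₁ α f f hfp2 hf.1 ⟨(g, g'), h1⟩
  have hw1 : G.map p₁ w = g := congrArg (fun t => t.1.1) hw
  have hw2 : G.map α w = g' := congrArg (fun t => t.1.2) hw
  obtain ⟨w₀, hw₀⟩ : ∃ w₀ : G.obj B, w₀ = G.map s g := ⟨_, rfl⟩
  have hw01 : G.map p₁ w₀ = g := by rw [hw₀, ← map_comp_apply, hs1, map_id_apply]
  have hw02 : G.map α w₀ = g := by rw [hw₀, ← map_comp_apply, hs2, map_id_apply]
  have hψw : ψ.app B w = ψ.app B w₀ := by
    apply (hH p₁ α f f hfp2 hf.1).1
    apply Subtype.ext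
    apply Prod.ext
    · show H.map p₁ (ψ.app B w) = H.map p₁ (ψ.app B w₀)
      rw [← NatTrans.naturality_apply ψ p₁ w, ← NatTrans.naturality_apply ψ p₁ w₀, hw1, hw01]
    · show H.map α (ψ.app B w) = H.map α (ψ.app B w₀)
      rw [← NatTrans.naturality_apply ψ α w, ← NatTrans.naturality_apply ψ α w₀, hw2, hw02, h2]
  have ht : G.map p₂ w = G.map p₂ w₀ := by
    apply hψ
    show ψ.app (dual Λ k) (G.map p₂ w) = ψ.app (dual Λ k) (G.map p₂ w₀)
    rw [NatTrans.naturality_apply ψ p₂ w, NatTrans.naturality_apply ψ p₂ w₀, hψw]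
  have hww : w = w₀ := by
    apply (hHeps p₁ p₂ hfp1).1
    apply Subtype.ext
    apply Prod.ext
    · show G.map p₁ w = G.map p₁ w₀
      rw [hw1, hw01]
    · exact ht
  rw [← hw2, hww, hw02]


/-- Suppose Λ is a Noetherian local ring, complete for its maximal ideal, whose residue field is k (so Λ
→ k is surjective), and work with functors defined on the category of local Artinian Λ-algebras
having residue field k. Take morphisms φ : F → G and ψ : G → H of such functors. Assume that each of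
F(k), G(k), H(k) consists of a single point; that for G the comparison map on fibre products A₁ ×_A
A₂ is surjective as soon as A₂ → A is surjective, and is bijective for products of the form A' ×_k
k[ε]; that for H the comparison map is bijective on every fibre product A₁ ×_A A₂ with A₂ → A
surjective; and that the induced map on tangent spaces G(k[ε]) → H(k[ε]) coming from ψ is injective.
Under these assumptions, φ ≫ ψ is smooth if and only if both φ and ψ are smooth. (The published
statement is for functors of cofibred groupoids with G semi-homogeneous and H homogeneous; this row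
is the case of set-valued functors.) -/
theorem result (Λ k : Type u) [CommRing Λ] [IsLocalRing Λ] [IsNoetherianRing Λ]
    [IsAdicComplete (IsLocalRing.maximalIdeal Λ) Λ] [Field k] [Algebra Λ k]
    (hk : Function.Surjective (algebraMap Λ k))
    {F G H : ArtFun.Art Λ k ⥤ Type v} (φ : F ⟶ G) (ψ : G ⟶ H)
    (hF : ArtFun.H0 F) (hG : ArtFun.H0 G ∧ ArtFun.S1 G ∧ ArtFun.Heps G) (hH0 : ArtFun.H0 H)
    (hH : ∀ ⦃B A A' A'' : ArtFun.Art Λ k⦄ (p' : B ⟶ A') (p'' : B ⟶ A'') (f' : A' ⟶ A) (f'' : A'' ⟶ A)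
      (h : ArtFun.Art.IsFibreProd p' p'' f' f''), Function.Surjective f'' → Function.Bijective (ArtFun.cmp H h))
    (hψ : Function.Injective (ArtFun.TangentSpace.map ψ)) :
    ArtFun.IsSmooth (φ ≫ ψ) ↔ (ArtFun.IsSmooth φ ∧ ArtFun.IsSmooth ψ) := by
  have hfin : Module.Finite Λ k := Module.Finite.of_surjective (Algebra.linearMap Λ k) hk
  constructor
  · intro hsm
    have hφ : ArtFun.IsSmooth φ := by
      apply Groth.Agent.S12717.result
      intro B A μ hμ
      rw [Groth.Agent.Lib.ArtFunH1.relCmp_surjective_iff]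
      intro x g hxg
      have hsm' := (Groth.Agent.Lib.ArtFunH1.isSmooth_iff_lift (φ ≫ ψ)).1 hsm
      obtain ⟨z, hz1, hz2⟩ := hsm' μ hμ.1 x (ψ.app B g) (by
        rw [Groth.Agent.Lib.ArtFunH1.comp_app_apply, hxg]
        exact NatTrans.naturality_apply ψ μ g)
      refine ⟨z, hz1, ?_⟩
      rw [Groth.Agent.Lib.ArtFunH1.comp_app_apply] at hz2
      apply key ψ hG.2.1 hG.2.2 hH hψ μ hμ
      · rw [← NatTrans.naturality_apply φ μ z, hz1, hxg]
      · exact hz2
    have hφsurj : ∀ A : ArtFun.Art Λ k, Function.Surjective (φ.app A) := by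
      apply Groth.Agent.Lib.ArtFunH1.surjective_app_of_isSmooth φ hφ
      intro y
      obtain ⟨x⟩ := hF.1
      exact ⟨x, hG.1.2.elim _ _⟩
    exact ⟨hφ, Groth.Agent.Lib.ArtFunH1.isSmooth_of_comp_of_surjective φ ψ hφsurj hsm⟩
  · rintro ⟨h1, h2⟩
    exact Groth.Agent.Lib.ArtFunH1.isSmooth_comp φ ψ h1 h2

end Groth.Agent.S12316
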