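import Groth.Statements.S12320
import Mathlib
import Groth.Agent.Lib.ArtFunAct_helper1
import Groth.Agent.Lib.ArtFunTan_helper1
import Groth.Agent.Lib.ArtFun_helper1

set_option autoImplicit false
universe u v
open CategoryTheory
open SGA7

namespace Groth.Agent.S12320

open ArtFun ArtFun.Art Groth.Agent.Lib.ArtFunH1 in
theorem isSmallExt_toBase_dual {Λ k : Type u} [CommRing Λ] [Field k] [Algebra Λ k] :
    ArtFun.Art.IsSmallExt (ArtFun.Art.toBase (ArtFun.Art.dual Λ k)) := by
  refine isSmallExt_of_gen (toBase (dual Λ k)) (dual Λ k).res_surjective (dmk 0 1) ?_ ?_ ?_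
  · apply le_antisymm
    · intro x hx
      have hx0 : dfst x = 0 := (RingHom.mem_ker).1 hx
      rw [Ideal.mem_span_singleton']
      refine ⟨dmk (dsnd x) 0, ?_⟩
      apply dual_ext
      · rw [dfst_mul, dfst_dmk, dfst_dmk, mul_zero, hx0]
      · rw [dsnd_mul, dfst_dmk, dsnd_dmk, dfst_dmk, dsnd_dmk]
        ring
    · rw [Ideal.span_le, Set.singleton_subset_iff]
      show dmk 0 1 ∈ RingHom.ker (toBase (dual Λ k)).toAlgHom
      rw [RingHom.mem_ker]
      rfl
  · intro h
    have h2 := congrArg dsnd h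
    rw [dsnd_dmk, dsnd_zero] at h2
    exact one_ne_zero h2
  · intro x hx
    have hx0 : dfst x = 0 := (mem_maximalIdeal_iff _ x).1 hx
    apply dual_ext
    · rw [dfst_mul, dfst_dmk, mul_zero, dfst_zero]
    · rw [dsnd_mul, dfst_dmk, dsnd_dmk, hx0, dsnd_zero]
      ring


/-- Suppose Λ is a Noetherian local ring, complete for its maximal ideal, whose residue field is k (so
that Λ → k is onto), and work with functors defined on the category of local Artinian Λ-algebras
having residue field k. Take such a functor F for which F(k) is a singleton, for which the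
comparison map F(A₁ ×_A A₂) → F(A₁) ×_{F(A)} F(A₂) is surjective as soon as A₂ → A is surjective,
and for which this map is bijective in the case A' ×_k k[ε]. Call an element a ∈ F(R) versal for
small prolongations of the base point when, given any object R₀ whose augmentation R₀ → k is a small
extension and any b ∈ F(R₀), some morphism R → R₀ sends a to b. Assume a ∈ F(R) has this versality
property, that π₁ : R₁ → R is a small extension together with a₁ ∈ F(R₁) whose image is a, and that
g : R' → R is a morphism together with a' ∈ F(R') whose image is a. Then a morphism f : R' → R₁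
satisfying f ≫ π₁ = g and sending a' to a₁ exists exactly when some morphism f : R' → R₁ satisfying
f ≫ π₁ = g exists at all. (The published statement concerns semi-homogeneous cofibred groupoids;
this row treats only the set-valued functor case.) -/
theorem result (Λ k : Type u) [CommRing Λ] [IsLocalRing Λ] [IsNoetherianRing Λ]
    [IsAdicComplete (IsLocalRing.maximalIdeal Λ) Λ] [Field k] [Algebra Λ k]
    (hk : Function.Surjective (algebraMap Λ k))
    (F : ArtFun.Art Λ k ⥤ Type v) (hF : ArtFun.H0 F ∧ ArtFun.S1 F ∧ ArtFun.Heps F)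
    {R R₁ R' : ArtFun.Art Λ k} (π₁ : R₁ ⟶ R) (hπ : ArtFun.Art.IsSmallExt π₁) (g : R' ⟶ R)
    (a : F.obj R) (a₁ : F.obj R₁) (a' : F.obj R') (h₁ : F.map π₁ a₁ = a) (h' : F.map g a' = a)
    (hvers : ∀ (R₀ : ArtFun.Art Λ k), ArtFun.Art.IsSmallExt (ArtFun.Art.toBase R₀) →
      ∀ b : F.obj R₀, ∃ φ : R ⟶ R₀, F.map φ a = b) :
    (∃ f : R' ⟶ R₁, f ≫ π₁ = g ∧ F.map f a' = a₁) ↔ (∃ f : R' ⟶ R₁, f ≫ π₁ = g) := by
  have hfin : Module.Finite Λ k := Module.Finite.of_surjective (Algebra.linearMap Λ k) hk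
  constructor
  · rintro ⟨f, hf, _⟩
    exact ⟨f, hf⟩
  · rintro ⟨f₀, hf₀⟩
    obtain ⟨B, p₁, p₂, α, s, hfp1, hfp2, hs1, hs2, hs3⟩ :=
      Groth.Agent.Lib.ArtFunH1.exists_action_square π₁ hπ
    have hcomp : F.map π₁ (F.map f₀ a') = F.map π₁ a₁ := by
      rw [← Groth.Agent.Lib.ArtFunH1.map_comp_apply, hf₀, h', h₁]
    obtain ⟨w, hw⟩ := hF.2.1 p₁ α π₁ π₁ hfp2 hπ.1 ⟨(F.map f₀ a', a₁), hcomp⟩
    have hw1 : F.map p₁ w = F.map f₀ a' := congrArg (fun t => t.1.1) hw
    have hw2 : F.map α w = a₁ := congrArg (fun t => t.1.2) hw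
    obtain ⟨φ, hφ⟩ := hvers (ArtFun.Art.dual Λ k) isSmallExt_toBase_dual (F.map p₂ w)
    obtain ⟨m, hm1, hm2⟩ := Groth.Agent.Lib.ArtFunH1.Art.exists_lift_fibreProd hfp1 f₀ (g ≫ φ)
      ((ArtFun.Art.eq_toBase _).trans (ArtFun.Art.eq_toBase _).symm)
    have hmw : F.map m a' = w := by
      apply (hF.2.2 p₁ p₂ hfp1).1
      apply Subtype.ext
      apply Prod.ext
      · show F.map p₁ (F.map m a') = F.map p₁ w
        rw [← Groth.Agent.Lib.ArtFunH1.map_comp_apply, hm1, hw1]
      · show F.map p₂ (F.map m a') = F.map p₂ w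
        rw [← Groth.Agent.Lib.ArtFunH1.map_comp_apply, hm2,
          Groth.Agent.Lib.ArtFunH1.map_comp_apply, h', hφ]
    refine ⟨m ≫ α, ?_, ?_⟩
    · rw [Category.assoc, ← hfp2.w, ← Category.assoc, hm1, hf₀]
    · rw [Groth.Agent.Lib.ArtFunH1.map_comp_apply, hmw, hw2]

end Groth.Agent.S12320
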