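import Groth.Statements.S12321
import Groth.Agent.Lib.ArtFunProl_helper1
import Groth.Agent.S12320
import Groth.Agent.S12713

set_option autoImplicit false
universe u v
open CategoryTheory
open SGA7

namespace Groth.Agent.S12321

/-- Suppose Λ is a Noetherian local ring that is complete, and k is its residue field, so the map Λ → k
is surjective. We look at functors on the category of local Artinian Λ-algebras whose residue field
is k. Take such a functor F for which F(k) is a single point, the comparison map F(A₁ ×_A A₂) →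
F(A₁) ×_{F(A)} F(A₂) is surjective whenever A₂ → A is surjective, and this map is bijective for A'
×_k k[ε]. Call an element a ∈ F(R) versal for small prolongations of the base point when, for each
object R₀ whose augmentation R₀ → k is a small extension and each b ∈ F(R₀), some morphism R → R₀
sends a to b. Assume a ∈ F(R) has this property. Then one can find an object R', a morphism q : R' →
R and an element a' ∈ F(R') whose image is a, satisfying the following. First, q is surjective and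
the maximal ideal annihilates its kernel. Second, q induces an isomorphism m_{R'}/(m_{R'}² + m_Λ R')
→ m_R/(m_R² + m_Λ R) between relative cotangent spaces (only injectivity is stated; surjectivity
comes for free). Third, a' is versal for small prolongations of a: given any small extension π₁ : R₁
→ R and any a₁ ∈ F(R₁) with image a, there is f : R' → R₁ satisfying f ≫ π₁ = q and sending a' to
a₁. (The published statement concerns semi-homogeneous cofibred groupoids; this row treats the case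
of set-valued functors.) -/
theorem result (Λ k : Type u) [CommRing Λ] [IsLocalRing Λ] [IsNoetherianRing Λ]
    [IsAdicComplete (IsLocalRing.maximalIdeal Λ) Λ] [Field k] [Algebra Λ k]
    (hk : Function.Surjective (algebraMap Λ k))
    (F : ArtFun.Art Λ k ⥤ Type v) (hF : ArtFun.H0 F ∧ ArtFun.S1 F ∧ ArtFun.Heps F)
    (R : ArtFun.Art Λ k) (a : F.obj R)
    (hvers : ∀ (R₀ : ArtFun.Art Λ k), ArtFun.Art.IsSmallExt (ArtFun.Art.toBase R₀) →
      ∀ b : F.obj R₀, ∃ φ : R ⟶ R₀, F.map φ a = b) :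
    ∃ (R' : ArtFun.Art Λ k) (q : R' ⟶ R) (a' : F.obj R'), F.map q a' = a ∧
      ArtFun.Art.IsSemismallExt q ∧
      (∀ x' : R', x' ∈ IsLocalRing.maximalIdeal (R' : Type u) →
        q x' ∈ (IsLocalRing.maximalIdeal (R : Type u)) ^ 2 ⊔ (IsLocalRing.maximalIdeal Λ).map (algebraMap Λ R) →
        x' ∈ (IsLocalRing.maximalIdeal (R' : Type u)) ^ 2 ⊔ (IsLocalRing.maximalIdeal Λ).map (algebraMap Λ R')) ∧
      ∀ (R₁ : ArtFun.Art Λ k) (π₁ : R₁ ⟶ R), ArtFun.Art.IsSmallExt π₁ →
        ∀ a₁ : F.obj R₁, F.map π₁ a₁ = a → ∃ f : R' ⟶ R₁, f ≫ π₁ = q ∧ F.map f a' = a₁ := by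
  open Groth.Agent.Lib.SchlH1 Groth.Agent.Lib.ArtFunH1 ArtFun ArtFun.Art in
  haveI : Module.Finite Λ k := Module.Finite.of_surjective (Algebra.linearMap Λ k) hk
  obtain ⟨h0, h1, h2⟩ := hF
  obtain ⟨S, hS, π, hπs, hπk⟩ := exists_min_presentation hk R
  obtain ⟨σ₀, hσ₀⟩ : ∃ σ₀ : Stage S F, σ₀ = ⟨R, π, hπs, a⟩ := ⟨_, rfl⟩
  obtain ⟨σ', hnext⟩ := exists_next h1 σ₀
  obtain ⟨q, hq1, hq2⟩ := hnext.exists_v
  subst hσ₀
  change HomSet.map q σ'.π = π at hq1
  change F.map q σ'.x = a at hq2
  have hker₀ : ∀ t, t ∈ Stage.ker (⟨R, π, hπs, a⟩ : Stage S F) ↔ π.1 t = 0 := fun t => by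
    show t ∈ RingHom.ker π.1 ↔ _
    exact RingHom.mem_ker
  have hqπ : ∀ s, q (σ'.π.1 s) = π.1 s := fun s =>
    congrArg (fun ψ : HomSet S.carrier S.res R => ψ.1 s) hq1
  have hqs : Function.Surjective q := by
    intro y
    obtain ⟨s, rfl⟩ := hπs y
    exact ⟨σ'.π.1 s, hqπ s⟩
  refine ⟨σ'.obj, q, σ'.x, hq2, ⟨hqs, ?_⟩, ?_, ?_⟩
  · rw [eq_bot_iff, Ideal.mul_le]
    intro x hx y hy
    obtain ⟨s, rfl⟩ := σ'.surj x
    obtain ⟨t, rfl⟩ := σ'.surj y
    rw [Ideal.mem_bot, ← map_mul]
    have hs : s ∈ IsLocalRing.maximalIdeal S.carrier := by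
      rw [Art.mem_maximalIdeal_iff, res_hom] at hx
      exact (CRing.mem_maximalIdeal_iff S s).2 hx
    have ht : t ∈ Stage.ker (⟨R, π, hπs, a⟩ : Stage S F) := by
      rw [hker₀, ← hqπ]
      exact RingHom.mem_ker.1 hy
    exact RingHom.mem_ker.1 (hnext.le (Ideal.mul_mem_mul hs ht))
  · intro x' _ hqx'
    obtain ⟨s, rfl⟩ := σ'.surj x'
    rw [hqπ, ← map_relW π hπs] at hqx'
    obtain ⟨t, ht, hts⟩ := (Ideal.mem_map_iff_of_surjective _ hπs).1 hqx'
    have hst : s - t ∈ RingHom.ker π.1 := by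
      rw [RingHom.mem_ker, map_sub]
      have : π.1 t = π.1 s := hts
      rw [this, sub_self]
    have hs : s ∈ IsLocalRing.maximalIdeal S.carrier ^ 2 ⊔
        (IsLocalRing.maximalIdeal Λ).map (algebraMap Λ S.carrier) := by
      have := Ideal.add_mem _ (hπk hst) ht
      rwa [sub_add_cancel] at this
    rw [← map_relW σ'.π σ'.surj]
    exact Ideal.mem_map_of_mem _ hs
  · intro R₁ π₁ hπ₁ a₁ ha₁
    rw [Groth.Agent.S12320.result Λ k hk F ⟨h0, h1, h2⟩ π₁ hπ₁ q a a₁ σ'.x ha₁ hq2 hvers]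
    obtain ⟨θ, hθ⟩ : ∃ θ : HomSet S.carrier S.res R₁, HomSet.map π₁ θ = π := hS π₁ hπ₁.1 π
    have hπθ : ∀ s, π₁ (θ.1 s) = π.1 s := fun s =>
      congrArg (fun ψ : HomSet S.carrier S.res R => ψ.1 s) hθ
    by_cases hsurj : Function.Surjective θ.1
    · have hle : IsLocalRing.maximalIdeal S.carrier * Stage.ker (⟨R, π, hπs, a⟩ : Stage S F) ≤
          RingHom.ker θ.1 := by
        rw [Ideal.mul_le]
        intro s hs t ht
        rw [RingHom.mem_ker, map_mul]
        have e1 : θ.1 s ∈ IsLocalRing.maximalIdeal R₁ := by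
          rw [Art.mem_maximalIdeal_iff, res_hom]
          exact (CRing.mem_maximalIdeal_iff S s).1 hs
        have e2 : θ.1 t ∈ RingHom.ker π₁.toAlgHom := by
          rw [RingHom.mem_ker]
          exact (hπθ t).trans ((hker₀ t).1 ht)
        have e3 := Ideal.mul_mem_mul e1 e2
        rw [hπ₁.2.2.2] at e3
        exact Ideal.mem_bot.1 e3
      have hmin := hnext.min R₁ θ hsurj π₁ a₁ hθ ha₁ hle
      obtain ⟨u, hu⟩ := exists_factor σ'.π σ'.surj θ hmin
      refine ⟨u, ?_⟩
      apply hom_ext_of_surjective σ'.π σ'.surj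
      rw [hmap_comp, hu, hθ, hq1]
    · have hk1 := ker_le_max S θ
      have hk2 := exists_pow_le_ker S _ θ
      obtain ⟨g, hg⟩ := exists_factor (qHom S _ hk1 hk2) (qHom_surjective S _ hk1 hk2) θ (by
        rw [ker_qHom])
      have hgq : ∀ s, g ((qHom S _ hk1 hk2).1 s) = θ.1 s :=
        fun s => congrArg (fun ψ : HomSet S.carrier S.res R₁ => ψ.1 s) hg
      have hgns : ¬ Function.Surjective g := by
        intro hgs
        apply hsurj
        intro c
        obtain ⟨b, rfl⟩ := hgs c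
        obtain ⟨s, rfl⟩ := qHom_surjective S _ hk1 hk2 b
        exact ⟨s, (hgq s).symm⟩
      have hgp : Function.Surjective (g ≫ π₁) := by
        intro y
        obtain ⟨s, rfl⟩ := hπs y
        refine ⟨(qHom S _ hk1 hk2).1 s, ?_⟩
        show π₁ (g ((qHom S _ hk1 hk2).1 s)) = _
        rw [hgq]
        exact hπθ s
      obtain ⟨sec, hsec⟩ := (Groth.Agent.S12713.result π₁ hπ₁).1
        ⟨qObj S _ hk1 hk2, g, hgp, hgns⟩
      exact ⟨q ≫ sec, by rw [Category.assoc, hsec, Category.comp_id]⟩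

end Groth.Agent.S12321
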