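import Groth.Statements.S12417
import Mathlib

set_option autoImplicit false
universe u
open CategoryTheory AlgebraicGeometry
open Props

namespace Groth.Agent.S12417

/-- Let X be a quasi-compact quasi-separated scheme and P a property of opens of X such that (a) P holds
for every affine open, and (b) whenever a quasi-compact open U has a finite affine open covering U =
V_1 ∪ … ∪ V_n with P holding for every intersection V_i ∩ V_j, P holds for U. Then P holds for every
quasi-compact open of X. -/
theorem result (X : Scheme.{u}) [CompactSpace X] [QuasiSeparatedSpace X]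
    (P : X.Opens → Prop) (ha : ∀ U : X.Opens, IsAffineOpen U → P U)
    (hb : ∀ (U : X.Opens) (n : ℕ) (V : Fin n → X.Opens), IsCompact (U : Set X) →
      (∀ i, IsAffineOpen (V i)) → ⨆ i, V i = U → (∀ i j, P (V i ⊓ V j)) → P U)
    (U : X.Opens) (hU : IsCompact (U : Set X)) : P U := by
  have cover : ∀ U : X.Opens, IsCompact (U : Set X) → ∃ (n : ℕ) (V : Fin n → X.Opens),
      (∀ i, IsAffineOpen (V i)) ∧ ⨆ i, V i = U := by
    intro U hU
    obtain ⟨s, hs, e⟩ := isCompact_iff_finite_and_eq_biUnion_affineOpens.mp hU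
    haveI : Finite s := hs.to_subtype
    obtain ⟨n, ⟨eq⟩⟩ := Finite.exists_equiv_fin s
    refine ⟨n, fun i => ((eq.symm i : s) : X.affineOpens).1,
      fun i => ((eq.symm i : s) : X.affineOpens).2, ?_⟩
    rw [e, iSup_subtype']
    exact (eq.symm.iSup_comp (g := fun i : s => ((i : X.affineOpens) : X.Opens)))
  have inter : ∀ (W V₁ V₂ : X.Opens), IsAffineOpen W → V₁ ≤ W → V₂ ≤ W → IsAffineOpen V₁ →
      IsAffineOpen V₂ → IsAffineOpen (V₁ ⊓ V₂) := by
    intro W V₁ V₂ hW h1 h2 a1 a2
    have : IsAffineHom (Limits.pullback.diagonal (𝟙 X)) := inferInstance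
    exact isAffineHom_diagonal_iff.mp this W hW V₁ (by simpa using h1) V₂ (by simpa using h2) a1 a2
  have step1 : ∀ (W U : X.Opens), IsAffineOpen W → U ≤ W → IsCompact (U : Set X) → P U := by
    intro W U hW hUW hU
    obtain ⟨n, V, hV, e⟩ := cover U hU
    refine hb U n V hU hV e fun i j => ha _ (inter W _ _ hW ?_ ?_ (hV i) (hV j))
    · exact (le_iSup V i).trans (e.le.trans hUW)
    · exact (le_iSup V j).trans (e.le.trans hUW)
  obtain ⟨n, V, hV, e⟩ := cover U hU
  refine hb U n V hU hV e fun i j => step1 (V i) _ (hV i) inf_le_left ?_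
  exact QuasiSeparatedSpace.inter_isCompact _ _ (V i).isOpen (hV i).isCompact (V j).isOpen
    (hV j).isCompact

end Groth.Agent.S12417
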