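import Groth.Statements.S12421
import Mathlib.Tactic
import Mathlib.RingTheory.Flat.FaithfullyFlat.Basic

set_option autoImplicit false
universe u
open TensorProduct
open Desc

namespace Groth.Agent.S12421

/-- Let R → R' be faithfully flat and M an R-module. With δ¹ : M ⊗ R' → M ⊗ (R' ⊗ R'), m ⊗ r ↦ m ⊗ (1 ⊗
r) − m ⊗ (r ⊗ 1), and δ² : M ⊗ (R' ⊗ R') → M ⊗ (R' ⊗ (R' ⊗ R')), m ⊗ x ↦ m ⊗ (1 ⊗ x) − m ⊗ (ins₁ x)
+ m ⊗ (ins₂ x), where ins₁ (r₁ ⊗ r₂) = r₁ ⊗ (1 ⊗ r₂) and ins₂ (r₁ ⊗ r₂) = r₁ ⊗ (r₂ ⊗ 1), the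
sequence M ⊗ R' → M ⊗ R'^{⊗2} → M ⊗ R'^{⊗3} is exact: the kernel of δ² is the image of δ¹. (The
published statement asserts exactness of the whole complex; this row states exactness at M ⊗ R′ ⊗ R′
only.) -/
theorem result (R R' : Type u) [CommRing R] [CommRing R'] [Algebra R R']
    [Module.FaithfullyFlat R R'] (M : Type u) [AddCommGroup M] [Module R M] :
    Function.Exact
      (LinearMap.lTensor M (Algebra.TensorProduct.includeRight : R' →ₐ[R] R' ⊗[R] R').toLinearMap -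
        LinearMap.lTensor M
          (Algebra.TensorProduct.includeLeft : R' →ₐ[R] R' ⊗[R] R').toLinearMap)
      (LinearMap.lTensor M
          (Algebra.TensorProduct.includeRight : R' ⊗[R] R' →ₐ[R] R' ⊗[R] (R' ⊗[R] R')).toLinearMap -
        LinearMap.lTensor M
          (Algebra.TensorProduct.map (AlgHom.id R R')
            (Algebra.TensorProduct.includeRight : R' →ₐ[R] R' ⊗[R] R')).toLinearMap +
        LinearMap.lTensor M
          (Algebra.TensorProduct.map (AlgHom.id R R')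
            (Algebra.TensorProduct.includeLeft : R' →ₐ[R] R' ⊗[R] R')).toLinearMap) := by
  set d1 : M ⊗[R] R' →ₗ[R] M ⊗[R] (R' ⊗[R] R') :=
    (LinearMap.lTensor M (Algebra.TensorProduct.includeRight : R' →ₐ[R] R' ⊗[R] R').toLinearMap -
        LinearMap.lTensor M
          (Algebra.TensorProduct.includeLeft : R' →ₐ[R] R' ⊗[R] R').toLinearMap) with hd1
  set d2 : M ⊗[R] (R' ⊗[R] R') →ₗ[R] M ⊗[R] (R' ⊗[R] (R' ⊗[R] R')) :=
    (LinearMap.lTensor M
          (Algebra.TensorProduct.includeRight : R' ⊗[R] R' →ₐ[R] R' ⊗[R] (R' ⊗[R] R')).toLinearMap -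
        LinearMap.lTensor M
          (Algebra.TensorProduct.map (AlgHom.id R R')
            (Algebra.TensorProduct.includeRight : R' →ₐ[R] R' ⊗[R] R')).toLinearMap +
        LinearMap.lTensor M
          (Algebra.TensorProduct.map (AlgHom.id R R')
            (Algebra.TensorProduct.includeLeft : R' →ₐ[R] R' ⊗[R] R')).toLinearMap) with hd2
  let s1 : R' ⊗[R] (M ⊗[R] (R' ⊗[R] R')) →ₗ[R] R' ⊗[R] (M ⊗[R] R') :=
    LinearMap.rTensor (M ⊗[R] R') (LinearMap.mul' R R') ∘ₗ
      (TensorProduct.assoc R R' R' (M ⊗[R] R')).symm.toLinearMap ∘ₗ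
      LinearMap.lTensor R' (TensorProduct.leftComm R M R' R').toLinearMap
  let s2 : R' ⊗[R] (M ⊗[R] (R' ⊗[R] (R' ⊗[R] R'))) →ₗ[R] R' ⊗[R] (M ⊗[R] (R' ⊗[R] R')) :=
    LinearMap.rTensor (M ⊗[R] (R' ⊗[R] R')) (LinearMap.mul' R R') ∘ₗ
      (TensorProduct.assoc R R' R' (M ⊗[R] (R' ⊗[R] R'))).symm.toLinearMap ∘ₗ
      LinearMap.lTensor R' (TensorProduct.leftComm R M R' (R' ⊗[R] R')).toLinearMap
  have key : (LinearMap.lTensor R' d1) ∘ₗ s1 + s2 ∘ₗ (LinearMap.lTensor R' d2) = LinearMap.id := by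
    ext c m a b
    simp [hd1, hd2, s1, s2, TensorProduct.tmul_sub, TensorProduct.tmul_add]
  have hcomp : d2 ∘ₗ d1 = 0 := by
    ext m a
    simp [hd1, hd2, TensorProduct.tmul_sub, TensorProduct.tmul_add]
  have hex : Function.Exact (LinearMap.lTensor R' d1) (LinearMap.lTensor R' d2) := by
    intro z
    constructor
    · intro hz
      refine ⟨s1 z, ?_⟩
      have := LinearMap.congr_fun key z
      simp only [LinearMap.add_apply, LinearMap.coe_comp, Function.comp_apply, hz, map_zero,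
        add_zero, LinearMap.id_coe, id_eq] at this
      exact this
    · rintro ⟨y, rfl⟩
      rw [← LinearMap.comp_apply, ← LinearMap.lTensor_comp, hcomp, LinearMap.lTensor_zero,
        LinearMap.zero_apply]
  exact (Module.FaithfullyFlat.lTensor_exact_iff_exact R R' d1 d2).mp hex

end Groth.Agent.S12421
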