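import Groth.Statements.S12444
import Groth.Agent.Lib.CatSp2_helper8

set_option autoImplicit false
universe u
open PtTop

namespace Groth.Agent.S12444

/-- A topological space X is catenary if and only if it has an open covering by catenary subspaces
(here: every point has a catenary open neighbourhood); and if X is catenary then so is every locally
closed subspace of X. -/
theorem result (X : Type u) [TopologicalSpace X] :
    (PtTop.IsCatenarySpace X ↔
      ∀ x : X, ∃ U : TopologicalSpace.Opens X, x ∈ U ∧ PtTop.IsCatenarySpace U) ∧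
    (PtTop.IsCatenarySpace X → ∀ S : Set X, IsLocallyClosed S → PtTop.IsCatenarySpace S) := by
  have part2 : PtTop.IsCatenarySpace X → ∀ S : Set X, IsLocallyClosed S →
      PtTop.IsCatenarySpace S := by
    intro h S hS
    rw [Groth.Agent.CatSp1H8.isCatenarySpace_iff_cat] at h ⊢
    exact Groth.Agent.CatSp2H8.cat_of_isLocallyClosed (Subtype.val : S → X)
      Topology.IsInducing.subtypeVal (by rw [Subtype.range_coe]; exact hS) h
  refine ⟨⟨fun h x => ⟨⊤, trivial, ?_⟩, fun h => ?_⟩, part2⟩
  · exact part2 h ((⊤ : TopologicalSpace.Opens X) : Set X) isOpen_univ.isLocallyClosed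
  · rw [Groth.Agent.CatSp1H8.isCatenarySpace_iff_cat]
    apply Groth.Agent.CatSp2H8.cat_of_open_cover
    intro x
    obtain ⟨U, hxU, hU⟩ := h x
    exact ⟨(U : Set X), U.2, hxU, (Groth.Agent.CatSp1H8.isCatenarySpace_iff_cat _).mp hU⟩

end Groth.Agent.S12444
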