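import Groth.Statements.S12456
import Groth.Agent.Lib.Thickening4_helper7

set_option autoImplicit false
universe u
open CategoryTheory AlgebraicGeometry
open OmegaSh

namespace Groth.Agent.S12456

/-- Let i : Z → X be an immersion, written as the closed subscheme of an open U ⊆ X cut out by an ideal
sheaf I followed by the inclusion of U. Then the first order infinitesimal neighbourhood of Z in X —
the closed subscheme of U cut out by I² — together with Z ⊂ V(I²) and V(I²) → U → X is a universal
first order thickening of Z over X. (The inequality I² ≤ I is carried as an argument h; it always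
holds.) -/
theorem result {X : Scheme.{u}} (U : X.Opens) (I : (U : Scheme.{u}).IdealSheafData)
    (h : I ^ 2 ≤ I) :
    OmegaSh.IsUnivThickening (I.subschemeι ≫ U.ι) (Scheme.IdealSheafData.inclusion h)
      ((I ^ 2).subschemeι ≫ U.ι) := by
  refine ⟨Groth.Agent.Lib.Thickening4_helper7.fot_inclusion I h, ?_, ?_⟩
  · rw [← Category.assoc, Scheme.IdealSheafData.inclusion_subschemeι]
  · intro T T' t b a ht hw
    have hsurj : Function.Surjective t := ht.1.2.surj
    have hrange : Set.range b ⊆ Set.range U.ι := by
      rintro _ ⟨y, rfl⟩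
      obtain ⟨x, rfl⟩ := hsurj y
      have e1 : b (t x) = U.ι (I.subschemeι (a x)) := by
        have := congrArg (fun k : T ⟶ X => k x) hw
        simpa using this
      rw [e1]
      exact ⟨_, rfl⟩
    have hbU : IsOpenImmersion.lift U.ι b hrange ≫ U.ι = b := IsOpenImmersion.lift_fac _ _ _
    have hw' : a ≫ I.subschemeι = t ≫ IsOpenImmersion.lift U.ι b hrange := by
      rw [← cancel_mono U.ι, Category.assoc, Category.assoc, hbU, hw]
    obtain ⟨a', ha'⟩ := Groth.Agent.Lib.Thickening4_helper7.exists_lift_infNbhd I t ht a _ hw'
    refine ⟨a', ⟨?_, ?_⟩, ?_⟩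
    · rw [← cancel_mono (I ^ 2).subschemeι, Category.assoc, ha', Category.assoc,
        Scheme.IdealSheafData.inclusion_subschemeι, hw']
    · rw [← Category.assoc, ha', hbU]
    · rintro a'' ⟨-, h2⟩
      rw [← cancel_mono ((I ^ 2).subschemeι ≫ U.ι), h2, ← Category.assoc, ha', hbU]

end Groth.Agent.S12456
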