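import Groth.Statements.S12463
import Mathlib
import Groth.Agent.Lib.RedNorm4_helper6
import Groth.Agent.Lib.RedNorm5_helper6
import Groth.Agent.Lib.Branches6_helper6
import Groth.Agent.Lib.Branches7_helper6
-- import your own Groth.Agent.* helpers here

set_option autoImplicit false
universe u
open Variety

namespace Groth.Agent.S12463

/-- Let (A, m) be a strictly henselian reduced Nagata local ring of dimension one with δ-invariant equal
to the number of geometric branches minus one, and A' the integral closure of A in its total ring of
fractions. Then A is a wedge of discrete valuation rings: for every maximal ideal m' of A' the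
localization A'_{m'} is a discrete valuation ring whose residue field is the image of A, and A
consists exactly of the elements of A' congruent to an element of A modulo every maximal ideal of A'
(the displayed inclusion; the reverse inclusion is trivial). (The inequality δ ≥ branches − 1 of the
published statement holds for every reduced Nagata local ring of dimension one and is not restated.) -/
theorem result (A : Type u) [CommRing A] [HenselianLocalRing A]
    [IsSepClosed (IsLocalRing.ResidueField A)] [IsReduced A] (hN : CAlg.IsNagata A) (hdim : ringKrullDim A = 1)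
    (heq : Curv2.deltaInv A + 1 = Brnch.numGeomBranches A) :
    (∀ m' : MaximalSpectrum ↥(integralClosure A (FractionRing A)),
        (∃ _ : IsDomain (Localization.AtPrime m'.asIdeal), IsDiscreteValuationRing (Localization.AtPrime m'.asIdeal)) ∧
        Function.Surjective (⇑(IsLocalRing.residue (Localization.AtPrime m'.asIdeal)) ∘
          ⇑(algebraMap ↥(integralClosure A (FractionRing A)) (Localization.AtPrime m'.asIdeal)) ∘
          ⇑(algebraMap A ↥(integralClosure A (FractionRing A))))) ∧
    ∀ a' : ↥(integralClosure A (FractionRing A)),
      (∃ a : A, ∀ m' : MaximalSpectrum ↥(integralClosure A (FractionRing A)),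
          a' - algebraMap A _ a ∈ m'.asIdeal) →
      a' ∈ (algebraMap A ↥(integralClosure A (FractionRing A))).range := by

  haveI : IsNoetherianRing A := hN.1
  have hfinA : Module.Finite A (integralClosure A (FractionRing A)) := by
    apply Groth.Agent.Lib.RedNorm.finite_integralClosure
    intro p _ _
    exact hN.2 p (FractionRing (A ⧸ p)) inferInstance
  haveI : Module.Finite A (CAlg2.normRed A) :=
    Module.Finite.equiv (Groth.Agent.Lib.Branches.normRedLinearEquiv A)
  haveI : Finite (MaximalSpectrum (CAlg2.normRed A)) :=
    Groth.Agent.Lib.Branches.finite_maximalSpectrum (A := A)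
  haveI : Fintype (MaximalSpectrum (CAlg2.normRed A)) := Fintype.ofFinite _
  have hδ : Curv2.deltaInv A ≠ ⊤ :=
    Groth.Agent.Lib.RedNorm.length_quotient_ne_top_of_finite (le_of_eq hdim)
  have hdN : Module.length A (CAlg2.normRed A ⧸
      LinearMap.range (Algebra.linearMap A (CAlg2.normRed A))) = Curv2.deltaInv A :=
    Groth.Agent.Lib.Branches.length_quotient_normRed_eq A
  have h3 : Brnch.numGeomBranches A =
      ENat.card (Σ m' : MaximalSpectrum (CAlg2.normRed A), Brnch.Emb A m') := by
    unfold Brnch.numGeomBranches
    rw [if_pos (minimalPrimes.finite_of_isNoetherianRing A)]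
  obtain ⟨hle, hsurj⟩ := Groth.Agent.Lib.Branches.equality_case (A := A) (B := CAlg2.normRed A)
    (AlgebraicClosure (IsLocalRing.ResidueField A))
    (@algebraMap (IsLocalRing.ResidueField A) (AlgebraicClosure (IsLocalRing.ResidueField A)) _ _
      (AlgebraicClosure.instAlgebra (IsLocalRing.ResidueField A)))
    (fun m' => by
      haveI := m'.isMaximal
      exact Groth.Agent.Lib.Branches.card_emb_le_one_of_isSepClosed m'.asIdeal _ _)
    (by rw [hdN]; exact hδ)
    (by rw [hdN, heq, h3]; exact le_rfl)
  have hmem := Groth.Agent.Lib.Branches.mem_range_of_length_le (A := A) (B := CAlg2.normRed A)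
    (by rw [hdN]; exact hδ) hle
  have hE := Groth.Agent.Lib.Branches.normRedEquiv_algebraMap A
  refine ⟨fun mm => ⟨?_, ?_⟩, ?_⟩
  · haveI := mm.isMaximal
    exact Groth.Agent.Lib.RedNorm.isDiscreteValuationRing_localization hdim mm.asIdeal
  · haveI := mm.isMaximal
    intro z
    obtain ⟨x, hx⟩ := Ideal.algebraMap_residueField_surjective mm.asIdeal z
    haveI : (mm.asIdeal.comap (Groth.Agent.Lib.Branches.normRedEquiv A).symm.toRingHom).IsMaximal :=
      Ideal.comap_isMaximal_of_surjective _ (Groth.Agent.Lib.Branches.normRedEquiv A).symm.surjective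
    let n : MaximalSpectrum (CAlg2.normRed A) :=
      ⟨mm.asIdeal.comap (Groth.Agent.Lib.Branches.normRedEquiv A).symm.toRingHom, inferInstance⟩
    obtain ⟨a, ha⟩ := hsurj n (Ideal.Quotient.mk _ (Groth.Agent.Lib.Branches.normRedEquiv A x))
    have ha1 : Groth.Agent.Lib.Branches.normRedEquiv A x - algebraMap A (CAlg2.normRed A) a ∈
        n.asIdeal := by
      rw [← Ideal.Quotient.eq, ← ha]
      rfl
    have ha2 : x - algebraMap A _ a ∈ mm.asIdeal := by
      have h4 : (Groth.Agent.Lib.Branches.normRedEquiv A).symm
          (Groth.Agent.Lib.Branches.normRedEquiv A x - algebraMap A (CAlg2.normRed A) a) ∈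
          mm.asIdeal := ha1
      rw [map_sub, RingEquiv.symm_apply_apply, ← hE a, RingEquiv.symm_apply_apply] at h4
      exact h4
    refine ⟨a, ?_⟩
    rw [← hx]
    simp only [Function.comp_apply]
    change IsLocalRing.residue _ (algebraMap _ (Localization.AtPrime mm.asIdeal) (algebraMap A _ a)) =
      IsLocalRing.residue _ (algebraMap _ (Localization.AtPrime mm.asIdeal) x)
    rw [eq_comm, ← sub_eq_zero, ← map_sub]
    have h8 : algebraMap (integralClosure A (FractionRing A)) (Localization.AtPrime mm.asIdeal) x -
        algebraMap (integralClosure A (FractionRing A)) (Localization.AtPrime mm.asIdeal)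
          (algebraMap A (integralClosure A (FractionRing A)) a) =
        algebraMap (integralClosure A (FractionRing A)) (Localization.AtPrime mm.asIdeal)
          (x - algebraMap A (integralClosure A (FractionRing A)) a) :=
      by rw [map_sub]
    rw [h8, IsLocalRing.residue_eq_zero_iff]
    rw [← IsLocalization.AtPrime.map_eq_maximalIdeal mm.asIdeal (Localization.AtPrime mm.asIdeal)]
    exact Ideal.mem_map_of_mem _ ha2
  · rintro a' ⟨a, ha⟩
    have h5 : ∀ n : MaximalSpectrum (CAlg2.normRed A),
        Groth.Agent.Lib.Branches.normRedEquiv A a' - algebraMap A (CAlg2.normRed A) a ∈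
          n.asIdeal := by
      intro n
      haveI := n.isMaximal
      haveI : (n.asIdeal.comap (Groth.Agent.Lib.Branches.normRedEquiv A).toRingHom).IsMaximal :=
        Ideal.comap_isMaximal_of_surjective _ (Groth.Agent.Lib.Branches.normRedEquiv A).surjective
      have h6 := ha ⟨n.asIdeal.comap (Groth.Agent.Lib.Branches.normRedEquiv A).toRingHom,
        inferInstance⟩
      have h7 : Groth.Agent.Lib.Branches.normRedEquiv A (a' - algebraMap A _ a) ∈ n.asIdeal := h6
      rw [map_sub, hE] at h7
      exact h7
    obtain ⟨a₁, ha₁⟩ := hmem (Groth.Agent.Lib.Branches.normRedEquiv A a') a h5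
    refine ⟨a₁, ?_⟩
    apply (Groth.Agent.Lib.Branches.normRedEquiv A).injective
    rw [hE]
    exact ha₁

end Groth.Agent.S12463
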