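import Groth.Statements.S12469
import Mathlib
import Groth.Agent.Lib.InvTensP2_helper5
import Groth.Agent.S12468
import Groth.Agent.Lib.VATens7_helper5

set_option autoImplicit false
universe u
open CategoryTheory CategoryTheory.Limits AlgebraicGeometry TopologicalSpace Opposite
open scoped HomogeneousIdeal
open EGA2

namespace Groth.Agent.S12469

/-- Let q : X → Y be a morphism of schemes, L an invertible O_X-module and K an invertible O_Y-module.
Then L is very ample relative to q (isomorphic to the inverse image of O(1) along a Y-immersion of X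
into the projective bundle P(E) of a quasi-coherent O_Y-module E) if and only if L ⊗ q^*K is. -/
theorem result {X Y : Scheme.{u}} (q : X ⟶ Y) (L : X.Modules)
    (hL : PicF.IsInvertible L) (K : Y.Modules) (hK : PicF.IsInvertible K) :
    RelProj.IsRelVeryAmple q L ↔
      RelProj.IsRelVeryAmple q (CohB1.tensorMod L ((Scheme.Modules.pullback q).obj K)) := by
  have hqK := TensH8.isInvertible_pullback q hK
  constructor
  · intro h
    exact Groth.Agent.S12468.result q L _ hL h hqK K (TensH8.isQuasicoherent_of_isInvertible hK)
      (𝟙 _) inferInstance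
  · intro h
    obtain ⟨K', hK', ⟨e⟩⟩ := Groth.Agent.InvTensP.exists_inverse K hK
    have hqK' := TensH8.isInvertible_pullback q hK'
    have h1 := Groth.Agent.S12468.result q _ _ (TensH8.isInvertible_tensorMod hL hqK) h hqK' K'
      (TensH8.isQuasicoherent_of_isInvertible hK') (𝟙 _) inferInstance
    refine Groth.Agent.VATens.isRelVeryAmple_of_iso q ?_ h1
    exact Groth.Agent.TensInv.assoc L _ _ ≪≫
      Groth.Agent.TensInv.mapL L (Groth.Agent.InvTensP.pullbackTensorIso q hK hK' ≪≫
        (Scheme.Modules.pullback q).mapIso e ≪≫ PBH8.pullbackUnitIso q) ≪≫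
      Groth.Agent.TensInv.rightUnit L

end Groth.Agent.S12469
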