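import Groth.Statements.S12476
import Mathlib
import Groth.Agent.Lib.PBBC1_helper5
import Groth.Agent.Lib.PBundle1_helper5
import Groth.Agent.Lib.CanPhi2_helper5

set_option autoImplicit false
universe u
open CategoryTheory CategoryTheory.Limits AlgebraicGeometry TopologicalSpace Opposite
open scoped HomogeneousIdeal
open EGA2

namespace Groth.Agent.S12476

/-- Let f : X → Y and g : Y → Z be morphisms of schemes and L an invertible O_X-module which is very
ample relative to the composite X → Y → Z (isomorphic to the inverse image of O(1) along a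
Z-immersion of X into the projective bundle of a quasi-coherent O_Z-module). Then L is very ample
relative to f. -/
theorem result {X Y Z : Scheme.{u}} (f : X ⟶ Y) (g : Y ⟶ Z) (L : X.Modules)
    (hL : PicF.IsInvertible L) (hva : RelProj.IsRelVeryAmple (f ≫ g) L) : RelProj.IsRelVeryAmple f L := by
  obtain ⟨E, hE, 𝒮, j, hj, P, p, chart, hP, O1, lam, hO1, i, hi, hip, ⟨eL⟩⟩ := hva
  haveI : E.IsQuasicoherent := hE
  haveI hE' : ((Scheme.Modules.pullback g).obj E).IsQuasicoherent :=
    PBH8.isQuasicoherent_pullback g E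
  obtain ⟨φ, hφ⟩ := Groth.Agent.CanPhi.exists_canPhi hP hO1 j hj.2
  obtain ⟨𝒮', j', hj', P', p', chart', hP', O1', lam', hO1', φ', hφ', -, -⟩ :=
    Groth.Agent.PBundle.exists_projBundle ((Scheme.Modules.pullback g).obj E)
  obtain ⟨h, hh, τ, hpb, -⟩ := Groth.Agent.PBBC.exists_bc g E 𝒮 j hj p chart hP O1 lam hO1 φ hφ
    𝒮' j' hj' p' chart' hP' O1' lam' hO1' φ' hφ'
  have h1 : hpb.lift i f hip ≫ h = i := hpb.lift_fst i f hip
  have h2 : hpb.lift i f hip ≫ p' = f := hpb.lift_snd i f hip
  haveI : IsImmersion (hpb.lift i f hip ≫ h) := by rw [h1]; exact hi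
  refine ⟨_, hE', 𝒮', j', hj', P', p', chart', hP', O1', lam', hO1', hpb.lift i f hip,
    IsImmersion.of_comp (hpb.lift i f hip) h, h2, ⟨?_⟩⟩
  exact eL ≪≫ (Scheme.Modules.pullbackCongr h1.symm).app O1 ≪≫
    (Scheme.Modules.pullbackComp (hpb.lift i f hip) h).symm.app O1 ≪≫
    (Scheme.Modules.pullback (hpb.lift i f hip)).mapIso τ

end Groth.Agent.S12476
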