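import Groth.Statements.S12480
import Mathlib
import Groth.Agent.S5733
import Groth.Agent.Lib.PBundle1_helper5
import Groth.Agent.Lib.QcqsLoc_helper9

set_option autoImplicit false
universe u
open CategoryTheory CategoryTheory.Limits AlgebraicGeometry TopologicalSpace Opposite
open scoped HomogeneousIdeal
open EGA2

namespace Groth.Agent.S12480

/-- Let X be a quasi-affine scheme and L an invertible O_X-module. Then L is very ample relative to the
canonical morphism u : X → Spec Γ(X, O_X): there are a quasi-coherent module E on that spectrum and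
an immersion i of X into the projective bundle P(E), compatible with u, with L isomorphic to
i^*O_{P(E)}(1). (The published statement adds that L is then ample; that assertion is stated
separately.) -/
theorem result (X : Scheme.{u}) [X.IsQuasiAffine] (L : X.Modules)
    (hL : PicF.IsInvertible L) : RelProj.IsRelVeryAmple X.toSpecΓ L := by
  haveI hq : L.IsQuasicoherent := TensH8.isQuasicoherent_of_isInvertible hL
  haveI : QuasiCompact X.toSpecΓ := inferInstance
  haveI : QuasiSeparated X.toSpecΓ := inferInstance
  haveI hE : ((Scheme.Modules.pushforward X.toSpecΓ).obj L).IsQuasicoherent :=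
    QcqsLoc.isQuasicoherent_pushforward_qcqs X.toSpecΓ L
  obtain ⟨𝒮, j, hj, P, p, chart, hP, O1, lam, hO1, φ, hφ, hinv, hepi⟩ :=
    Groth.Agent.PBundle.exists_projBundle ((Scheme.Modules.pushforward X.toSpecΓ).obj L)
  haveI : IsIso (Scheme.Modules.pullbackPushforwardAdjunction X.toSpecΓ).counit :=
    Adjunction.counit_isIso_of_R_fully_faithful _
  have hs : Epi ((Scheme.Modules.pullbackPushforwardAdjunction X.toSpecΓ).counit.app L) :=
    inferInstance
  obtain ⟨r, ⟨hr, τ, hτ⟩, -⟩ := Groth.Agent.S5733.result
    ((Scheme.Modules.pushforward X.toSpecΓ).obj L) hE 𝒮 j hj p chart hP O1 lam hO1 φ hφ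
    X.toSpecΓ L hL ((Scheme.Modules.pullbackPushforwardAdjunction X.toSpecΓ).counit.app L) hs
  haveI : IsImmersion (r ≫ p) := by rw [hr]; infer_instance
  exact ⟨_, hE, 𝒮, j, hj, P, p, chart, hP, O1, lam, hO1, r, IsImmersion.of_comp r p, hr, ⟨τ.symm⟩⟩

end Groth.Agent.S12480
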