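import Groth.Statements.S12481
import Mathlib
import Groth.Agent.Lib.VALoc5_helper5
import Groth.Agent.Lib.PnVA2_helper5

set_option autoImplicit false
universe u
open CategoryTheory CategoryTheory.Limits AlgebraicGeometry TopologicalSpace Opposite
open scoped HomogeneousIdeal
open Mor

namespace Groth.Agent.S12481

/-- (2) ⇒ (1): let f : X ⟶ S be of finite type, L an invertible O_X-module and (V_j) an open covering of
S such that for each j the restriction of L to f⁻¹(V_j) is isomorphic to the inverse image of O(1)
along some immersion of f⁻¹(V_j) into a projective space P^{n_j}_{V_j} over V_j. Then L is very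
ample relative to f: there are a quasi-coherent O_S-module E and an S-immersion i of X into the
projective bundle P(E) with L isomorphic to i^*O_{P(E)}(1). (The converse implication of the
published statement is stated separately.) -/
theorem result {X S : Scheme.{u}} (f : X ⟶ S)
    [LocallyOfFiniteType f] [QuasiCompact f] (L : X.Modules) (hLinv : PicF.IsInvertible L)
    {ι : Type u} (V : ι → S.Opens) (hV : (⨆ j, V j) = ⊤)
    (h : ∀ j, RelAmple.IsRelVeryAmplePn (f ∣_ V j) (L.restrict (f ⁻¹ᵁ V j).ι)) :
    RelProj.IsRelVeryAmple f L := by
  exact Groth.Agent.VALoc.isRelVeryAmple_of_local f L hLinv V hV fun j =>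
    Groth.Agent.PnVA.isRelVeryAmple_of_isRelVeryAmplePn _ _
      (TensH8.isInvertible_of_iso'
        ((Scheme.Modules.restrictFunctorIsoPullback (f ⁻¹ᵁ V j).ι).app L).symm
        (TensH8.isInvertible_pullback (f ⁻¹ᵁ V j).ι hLinv)) (h j)

end Groth.Agent.S12481
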