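import Groth.Statements.S12515
import Mathlib
import Groth.Agent.Lib.FunFldRat_helper2

set_option autoImplicit false
open FunFld

namespace Groth.Agent.S12515

/-- If `char k ≠ 2` and `K` has degree `2` over the rational function field `k(x)`, then `K = k(x)(y)`
for some `y` with `y² = f(x)`, `f` a squarefree polynomial over `k`. -/
theorem result (k K : Type*) [Field k] [Field K] (h2 : ringChar k ≠ 2)
    [Algebra (RatFunc k) K] (hdeg : Module.finrank (RatFunc k) K = 2) :
    ∃ (y : K) (f : Polynomial k), Squarefree f ∧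
      y ^ 2 = algebraMap (RatFunc k) K (algebraMap (Polynomial k) (RatFunc k) f) ∧
      IntermediateField.adjoin (RatFunc k) ({y} : Set K) = ⊤ := by
  classical
  have h2k : (2 : k) ≠ 0 := Ring.two_ne_zero h2
  have h2F : (2 : RatFunc k) ≠ 0 := by
    rw [← map_ofNat (algebraMap k (RatFunc k)) 2]
    exact (_root_.map_ne_zero _).mpr h2k
  obtain ⟨y₁, r, hy₁, hy₁n⟩ := FunFld.exists_sqrt_generator h2F hdeg
  have hr0 : r ≠ 0 := by
    rintro rfl
    rw [map_zero] at hy₁
    have h0 : y₁ = 0 := by
      have := pow_eq_zero_iff (two_ne_zero) |>.mp hy₁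
      exact this
    exact hy₁n ⟨0, by rw [h0, map_zero]⟩
  have hv0 : r.denom ≠ 0 := r.denom_ne_zero
  have hu0 : r.num ≠ 0 := RatFunc.num_ne_zero hr0
  obtain ⟨s, h, hsh, hh⟩ := FunFld.exists_sq_mul_squarefree (r.num * r.denom) (mul_ne_zero hu0 hv0)
  have hs0 : s ≠ 0 := by
    rintro rfl
    apply mul_ne_zero hu0 hv0
    rw [hsh]
    ring
  have hV0 : algebraMap (RatFunc k) K (algebraMap (Polynomial k) (RatFunc k) r.denom) ≠ 0 :=
    (_root_.map_ne_zero _).mpr (RatFunc.algebraMap_ne_zero hv0)
  have hS0 : algebraMap (RatFunc k) K (algebraMap (Polynomial k) (RatFunc k) s) ≠ 0 :=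
    (_root_.map_ne_zero _).mpr (RatFunc.algebraMap_ne_zero hs0)
  have hUV : algebraMap (RatFunc k) K (algebraMap (Polynomial k) (RatFunc k) r.num) *
      algebraMap (RatFunc k) K (algebraMap (Polynomial k) (RatFunc k) r.denom) =
      algebraMap (RatFunc k) K (algebraMap (Polynomial k) (RatFunc k) s) ^ 2 *
        algebraMap (RatFunc k) K (algebraMap (Polynomial k) (RatFunc k) h) := by
    rw [← map_mul, ← map_mul, hsh, map_mul, map_mul, map_pow, map_pow]
  have hy₁' : y₁ ^ 2 * algebraMap (RatFunc k) K (algebraMap (Polynomial k) (RatFunc k) r.denom) =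
      algebraMap (RatFunc k) K (algebraMap (Polynomial k) (RatFunc k) r.num) := by
    have hr : algebraMap (RatFunc k) K r =
        algebraMap (RatFunc k) K (algebraMap (Polynomial k) (RatFunc k) r.num) /
        algebraMap (RatFunc k) K (algebraMap (Polynomial k) (RatFunc k) r.denom) := by
      rw [← map_div₀, RatFunc.num_div_denom]
    rw [hy₁, hr]
    field_simp
  refine ⟨y₁ * algebraMap (RatFunc k) K (algebraMap (Polynomial k) (RatFunc k) r.denom) *
    (algebraMap (RatFunc k) K (algebraMap (Polynomial k) (RatFunc k) s))⁻¹, h, hh, ?_, ?_⟩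
  · field_simp
    linear_combination
      (algebraMap (RatFunc k) K (algebraMap (Polynomial k) (RatFunc k) r.denom)) * hy₁' + hUV
  · apply FunFld.adjoin_eq_top_of_notMem_range hdeg
    rintro ⟨a, ha⟩
    apply hy₁n
    refine ⟨a * algebraMap (Polynomial k) (RatFunc k) s /
      algebraMap (Polynomial k) (RatFunc k) r.denom, ?_⟩
    rw [map_div₀, map_mul, ha]
    field_simp

end Groth.Agent.S12515
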