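import Groth.Statements.S12516
import Mathlib
import Groth.Agent.Lib.FunFldRat_helper2

set_option autoImplicit false
open FunFld

namespace Groth.Agent.S12516

/-- Let `char k ≠ 2`, `K` of degree `2` over `k(x)`, `y ∈ K` with `y² = f(x)` for a squarefree
polynomial `f` of degree `≥ 1`, and `P∞` the place of `k(x)` at which `x` has a pole. If `deg f` is
odd there is a unique place of `K` above `P∞`; it has ramification index `2` and degree `1`. If `deg
f` is even, every place of `K` above `P∞` is unramified and the conorm of `P∞` has degree `2` (so it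
is one place of degree `2` or the sum of two places of degree `1`). -/
theorem result (k K : Type*) [Field k] [Field K] (h2 : ringChar k ≠ 2) [Algebra k K]
    [Algebra (RatFunc k) K] [IsScalarTower k (RatFunc k) K]
    (hdeg : Module.finrank (RatFunc k) K = 2) (y : K) (f : Polynomial k) (hf : Squarefree f)
    (hd : 1 ≤ f.natDegree)
    (heq : y ^ 2 = algebraMap (RatFunc k) K (algebraMap (Polynomial k) (RatFunc k) f))
    (Pinf : FunFld.Place k (RatFunc k)) (hinf : Pinf.ord (RatFunc.X : RatFunc k) < 0) :
    (Odd f.natDegree → (∃! P : FunFld.Place k K, FunFld.IsOver P Pinf) ∧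
      ∀ P : FunFld.Place k K, FunFld.IsOver P Pinf → FunFld.IsOverWith P Pinf 2 ∧ P.deg = 1) ∧
    (Even f.natDegree → (FunFld.conorm K (Finsupp.single Pinf 1)).deg = 2 ∧
      ∀ P : FunFld.Place k K, FunFld.IsOver P Pinf → FunFld.IsOverWith P Pinf 1) := by
  classical
  have hKr := FunFld.isFunctionField_ratFunc (k := k)
  haveI : FiniteDimensional (RatFunc k) K := Module.finite_of_finrank_pos (by omega)
  have h2k : (2 : k) ≠ 0 := Ring.two_ne_zero h2
  have hf0 : f ≠ 0 := by
    rintro rfl
    simp at hd
  have hF0 : algebraMap (Polynomial k) (RatFunc k) f ≠ 0 := RatFunc.algebraMap_ne_zero hf0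
  obtain ⟨hXord, hdegInf⟩ := Pinf.ratFunc_inf hinf
  have hordf : Pinf.ord (algebraMap (Polynomial k) (RatFunc k) f) = -(f.natDegree : ℤ) :=
    Pinf.ratFunc_ord_poly_of_inf hinf hf0
  constructor
  · intro hodd
    have hodd' : Odd (Pinf.ord (algebraMap (Polynomial k) (RatFunc k) f)) := by
      rw [hordf]
      exact ((Int.odd_coe_nat _).mpr hodd).neg
    have htr := FunFld.totally_ramified_of_odd hKr hdeg Pinf (fun Q hQ =>
      ⟨y, algebraMap (Polynomial k) (RatFunc k) f, by
        rw [← heq, Q.ord_pow]
        push_cast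
        ring, hodd'⟩)
    refine ⟨htr.1, fun P hP => ⟨(htr.2 P hP).1, ?_⟩⟩
    rw [(htr.2 P hP).2, hdegInf]
  · intro heven
    constructor
    · rw [FunFld.deg_conorm hKr, hdeg, FunFld.deg_single, hdegInf]
      norm_num
    · intro Q hQ
      obtain ⟨e, he⟩ := hQ
      have hle := he.le_finrank hKr
      rw [hdeg] at hle
      have hpos := he.pos
      rcases (by omega : e = 1 ∨ e = 2) with rfl | rfl
      · exact he
      · exfalso
        have hyr : y ∉ (algebraMap (RatFunc k) K).range := by
          rintro ⟨a, ha⟩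
          apply FunFld.ratFunc_not_sq hf hd 1 a
          apply (algebraMap (RatFunc k) K).injective
          rw [map_one, one_mul, map_pow, ha, heq]
        have hFK0 : algebraMap (RatFunc k) K (algebraMap (Polynomial k) (RatFunc k) f) ≠ 0 :=
          (_root_.map_ne_zero _).mpr hF0
        have hy0 : y ≠ 0 := by
          rintro rfl
          rw [zero_pow two_ne_zero] at heq
          exact hFK0 heq.symm
        obtain ⟨σ, hσ⟩ := FunFld.exists_algEquiv_neg hdeg hyr heq
        obtain ⟨m, hm⟩ := heven
        have hX0 : (RatFunc.X : RatFunc k) ^ m ≠ 0 := pow_ne_zero _ RatFunc.X_ne_zero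
        have hXK0 : algebraMap (RatFunc k) K ((RatFunc.X : RatFunc k) ^ m) ≠ 0 :=
          (_root_.map_ne_zero _).mpr hX0
        have hoy : Q.ord y = -2 * (m : ℤ) := by
          have h3 := he.ord_eq (algebraMap (Polynomial k) (RatFunc k) f)
          rw [← heq, Q.ord_pow, hordf, hm] at h3
          push_cast at h3
          omega
        have hoX : Q.ord (algebraMap (RatFunc k) K ((RatFunc.X : RatFunc k) ^ m)) =
            -2 * (m : ℤ) := by
          rw [he.ord_eq, Pinf.ord_pow, hXord]
          push_cast
          ring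
        have hz0 : y * (algebraMap (RatFunc k) K ((RatFunc.X : RatFunc k) ^ m))⁻¹ ≠ 0 :=
          mul_ne_zero hy0 (inv_ne_zero hXK0)
        have hoz : Q.ord (y * (algebraMap (RatFunc k) K ((RatFunc.X : RatFunc k) ^ m))⁻¹) = 0 := by
          rw [Q.ord_mul hy0 (inv_ne_zero hXK0), Q.ord_inv, hoy, hoX]
          ring
        have hz1 : Q.1 (y * (algebraMap (RatFunc k) K ((RatFunc.X : RatFunc k) ^ m))⁻¹) = 1 :=
          (Q.ord_eq_zero_iff hz0).mp hoz
        have h5 := he.val_conj_sub_lt_one hKr hdeg.symm σ hz1.le
        have h6 : σ (y * (algebraMap (RatFunc k) K ((RatFunc.X : RatFunc k) ^ m))⁻¹) -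
            y * (algebraMap (RatFunc k) K ((RatFunc.X : RatFunc k) ^ m))⁻¹ =
            -(algebraMap k K 2 *
              (y * (algebraMap (RatFunc k) K ((RatFunc.X : RatFunc k) ^ m))⁻¹)) := by
          rw [map_mul, map_inv₀, σ.commutes, hσ, map_ofNat]
          ring
        rw [h6, Valuation.map_neg, map_mul, hz1, mul_one, Q.val_algebraMap h2k] at h5
        exact lt_irrefl _ h5

end Groth.Agent.S12516
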