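import Groth.Statements.S12518
import Mathlib
import Groth.Agent.Lib.FunFldRat_helper2

set_option autoImplicit false
open FunFld

namespace Groth.Agent.S12518

/-- If `k` is perfect of characteristic `2` and `K` is a separable extension of degree `2` of `k(x)`,
then `K = k(x)(y)` for some `y` with `y² + y = f(x)` such that every pole of `f`, at any place of
`k(x)/k` including the infinite one, has odd order. -/
theorem result (k K : Type*) [Field k] [Field K] [PerfectField k] (h2 : ringChar k = 2)
    [Algebra k K] [Algebra (RatFunc k) K] [IsScalarTower k (RatFunc k) K]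
    (hdeg : Module.finrank (RatFunc k) K = 2) [Algebra.IsSeparable (RatFunc k) K] :
    ∃ (y : K) (f : RatFunc k), y ^ 2 + y = algebraMap (RatFunc k) K f ∧
      IntermediateField.adjoin (RatFunc k) ({y} : Set K) = ⊤ ∧
      ∀ P : FunFld.Place k (RatFunc k), P.ord f < 0 → Odd (P.ord f) := by
  have h2k : (2 : k) = 0 := by
    haveI : CharP k 2 := ringChar.of_eq h2
    exact_mod_cast CharP.cast_eq_zero k 2
  have h2F : (2 : RatFunc k) = 0 := by
    rw [← map_ofNat (algebraMap k (RatFunc k)) 2, h2k, map_zero]
  have h2K : (2 : K) = 0 := by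
    rw [← map_ofNat (algebraMap (RatFunc k) K) 2, h2F, map_zero]
  obtain ⟨y₀, f₀, hy₀, hgen⟩ := FunFld.exists_artinSchreier h2F hdeg
  obtain ⟨a, ha⟩ := FunFld.exists_odd_poles h2k FunFld.isFunctionField_ratFunc
    FunFld.ratFunc_genus f₀
  refine ⟨y₀ + algebraMap (RatFunc k) K a, f₀ + a ^ 2 + a, ?_, ?_, ha⟩
  · rw [map_add, map_add, map_pow, ← hy₀]
    linear_combination (y₀ * algebraMap (RatFunc k) K a) * h2K
  · rw [eq_top_iff, ← hgen, IntermediateField.adjoin_simple_le_iff]
    have h1 : y₀ + algebraMap (RatFunc k) K a ∈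
        IntermediateField.adjoin (RatFunc k) ({y₀ + algebraMap (RatFunc k) K a} : Set K) :=
      IntermediateField.mem_adjoin_simple_self _ _
    have h2' : algebraMap (RatFunc k) K a ∈
        IntermediateField.adjoin (RatFunc k) ({y₀ + algebraMap (RatFunc k) K a} : Set K) :=
      IntermediateField.algebraMap_mem _ a
    have := sub_mem h1 h2'
    rwa [add_sub_cancel_right] at this

end Groth.Agent.S12518
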