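import Groth.Statements.S12519
import Mathlib
import Groth.Agent.Lib.FunFldRat_helper2

set_option autoImplicit false
open FunFld

namespace Groth.Agent.S12519

/-- Let `k` be perfect of characteristic `2`, `K` separable of degree `2` over `k(x)`, and `y ∈ K \
k(x)` with `y² + y = f(x)`. At a place `p` of `k(x)/k` where `f` has a pole of odd order there is a
unique place `P` of `K` above `p`, with `e(P|p) = 2` and `deg P = deg p` (residue degree `1`); at a
place where `f` has no pole, every place of `K` above it is unramified. The different is not stated. -/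
theorem result (k K : Type*) [Field k] [Field K] [PerfectField k] (h2 : ringChar k = 2)
    [Algebra k K] [Algebra (RatFunc k) K] [IsScalarTower k (RatFunc k) K]
    (hdeg : Module.finrank (RatFunc k) K = 2) [Algebra.IsSeparable (RatFunc k) K]
    (y : K) (hy : y ∉ Set.range (algebraMap (RatFunc k) K))
    (f : RatFunc k) (heq : y ^ 2 + y = algebraMap (RatFunc k) K f)
    (P₀ : FunFld.Place k (RatFunc k)) :
    ((P₀.ord f < 0 ∧ Odd (P₀.ord f)) → (∃! P : FunFld.Place k K, FunFld.IsOver P P₀) ∧
      ∀ P : FunFld.Place k K, FunFld.IsOver P P₀ → FunFld.IsOverWith P P₀ 2 ∧ P.deg = P₀.deg) ∧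
    (0 ≤ P₀.ord f → ∀ P : FunFld.Place k K, FunFld.IsOver P P₀ → FunFld.IsOverWith P P₀ 1) := by
  classical
  have h2k : (2 : k) = 0 := by
    haveI : CharP k 2 := ringChar.of_eq h2
    exact_mod_cast CharP.cast_eq_zero k 2
  have h2F : (2 : RatFunc k) = 0 := by
    rw [← map_ofNat (algebraMap k (RatFunc k)) 2, h2k, map_zero]
  have hKr := FunFld.isFunctionField_ratFunc (k := k)
  haveI : FiniteDimensional (RatFunc k) K := Module.finite_of_finrank_pos (by omega)
  have hyr : y ∉ (algebraMap (RatFunc k) K).range := fun ⟨a, ha⟩ => hy ⟨a, ha⟩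
  have hy0 : y ≠ 0 := by
    rintro rfl
    exact hyr ⟨0, map_zero _⟩
  constructor
  · rintro ⟨hneg, hodd⟩
    apply FunFld.totally_ramified_of_odd hKr hdeg P₀
    intro Q hQ
    refine ⟨y, f, ?_, hodd⟩
    obtain ⟨e, he⟩ := hQ
    have hof : Q.ord (algebraMap (RatFunc k) K f) = e * P₀.ord f := he.ord_eq f
    have hepos : (0 : ℤ) < e := by exact_mod_cast he.pos
    have hfneg : Q.ord (algebraMap (RatFunc k) K f) < 0 := by
      rw [hof]
      nlinarith
    have hf0 : algebraMap (RatFunc k) K f ≠ 0 := by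
      intro h0
      rw [h0, Q.ord_zero] at hfneg
      exact lt_irrefl _ hfneg
    have hyneg : Q.ord y < 0 := by
      by_contra hge
      push Not at hge
      have h1 : Q.1 y ≤ 1 := (Q.ord_nonneg_iff hy0).mp hge
      have h2' : Q.1 (y ^ 2 + y) ≤ 1 :=
        (Q.1.map_add _ _).trans (max_le (by rw [map_pow]; exact pow_le_one₀ zero_le h1) h1)
      rw [heq] at h2'
      have := (Q.ord_nonneg_iff hf0).mpr h2'
      omega
    have hlt : Q.1 y < Q.1 (y ^ 2) := by
      rw [Q.val_eq_exp_neg_ord hy0, Q.val_eq_exp_neg_ord (pow_ne_zero 2 hy0),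
        WithZero.exp_lt_exp, Q.ord_pow]
      push_cast
      omega
    have hv : Q.1 (y ^ 2 + y) = Q.1 (y ^ 2) := Valuation.map_add_eq_of_lt_left _ hlt
    have hoo : Q.ord (y ^ 2 + y) = Q.ord (y ^ 2) := by
      unfold FunFld.Place.ord
      rw [hv]
    rw [← heq, hoo, Q.ord_pow]
    push_cast
    ring
  · intro hnonneg Q hQ
    obtain ⟨e, he⟩ := hQ
    have hle := he.le_finrank hKr
    rw [hdeg] at hle
    have hpos := he.pos
    rcases (by omega : e = 1 ∨ e = 2) with rfl | rfl
    · exact he
    · exfalso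
      obtain ⟨σ, hσ⟩ := FunFld.exists_algEquiv_add_one h2F hdeg hyr heq
      have hfv : P₀.1 f ≤ 1 := by
        by_cases hf0 : f = 0
        · rw [hf0, map_zero]
          exact zero_le
        · exact (P₀.ord_nonneg_iff hf0).mp hnonneg
      have hy1 : Q.1 y ≤ 1 := by
        by_contra hgt
        push Not at hgt
        have hlt : Q.1 y < Q.1 (y ^ 2) := by
          rw [map_pow, pow_two]
          calc Q.1 y = Q.1 y * 1 := (mul_one _).symm
            _ < Q.1 y * Q.1 y := by
              have h0 : (0 : WithZero (Multiplicative ℤ)) < Q.1 y := lt_trans zero_lt_one hgt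
              exact mul_lt_mul_of_pos_left hgt h0
        have hv : Q.1 (y ^ 2 + y) = Q.1 (y ^ 2) := Valuation.map_add_eq_of_lt_left _ hlt
        rw [heq, he f, map_pow] at hv
        have h3 : P₀.1 f ^ 2 ≤ 1 := pow_le_one₀ zero_le hfv
        rw [hv] at h3
        have h4 : (1 : WithZero (Multiplicative ℤ)) < Q.1 y ^ 2 := one_lt_pow₀ hgt two_ne_zero
        exact absurd h3 (not_le.mpr h4)
      have h5 := he.val_conj_sub_lt_one hKr hdeg.symm σ hy1
      rw [hσ, add_sub_cancel_left, map_one] at h5
      exact lt_irrefl _ h5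

end Groth.Agent.S12519
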