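import Groth.Statements.S12520
import Mathlib
import Groth.Agent.Lib.FunFldGeomB_helper2

set_option autoImplicit false
universe u v
open FunFld

namespace Groth.Agent.S12520

/-- For a geometric function field of one variable `K/k` of characteristic `p > 0` and a geometric
function field `K₀/k₀` with `K₀ ⊆ K` of finite index (and `k₀ ⊆ k` compatibly), the map `Ω_{K₀/k₀} →
Ω_{K/k}` induced by the inclusion vanishes when `K₀ ⊆ kK^p` and is injective otherwise. -/
theorem result (k₀ k : Type u) (K₀ K : Type v) [Field k₀] [Field k] [Field K₀] [Field K]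
    [Algebra k₀ k] [Algebra k₀ K₀] [Algebra k₀ K] [Algebra k K] [Algebra K₀ K]
    [IsScalarTower k₀ k K] [IsScalarTower k₀ K₀ K] [FiniteDimensional K₀ K]
    (p : ℕ) [Fact p.Prime] [CharP K p]
    (hK : FunFld.IsFunctionField k K) (hg : FunFld.IsGeometric k K)
    (hK₀ : FunFld.IsFunctionField k₀ K₀) (hg₀ : FunFld.IsGeometric k₀ K₀) :
    (Set.range (algebraMap K₀ K) ⊆ ↑(IntermediateField.adjoin k (Set.range fun y : K => y ^ p)) →
      KaehlerDifferential.map k₀ k K₀ K = 0) ∧
    (¬ Set.range (algebraMap K₀ K) ⊆ ↑(IntermediateField.adjoin k (Set.range fun y : K => y ^ p)) →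
      Function.Injective (KaehlerDifferential.map k₀ k K₀ K)) := by
  constructor
  · intro hsub
    have hker : LinearMap.ker (KaehlerDifferential.map k₀ k K₀ K) = ⊤ := by
      rw [_root_.eq_top_iff, ← KaehlerDifferential.span_range_derivation k₀ K₀, Submodule.span_le]
      rintro _ ⟨x, rfl⟩
      show KaehlerDifferential.map k₀ k K₀ K (KaehlerDifferential.D k₀ K₀ x) = 0
      rw [KaehlerDifferential.map_D]
      exact FunFld.derivation_kKp p _ _ (hsub ⟨x, rfl⟩)
    exact LinearMap.ker_eq_top.1 hker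
  · intro hnsub
    rw [Set.not_subset] at hnsub
    obtain ⟨_, ⟨x, rfl⟩, hx⟩ := hnsub
    have hx' : algebraMap K₀ K x ∉ FunFld.kKp k K p := hx
    rw [FunFld.mem_kKp_iff_D_eq_zero p hK hg] at hx'
    have hDx : KaehlerDifferential.D k₀ K₀ x ≠ 0 := by
      intro h0
      apply hx'
      rw [← KaehlerDifferential.map_D k₀ k K₀ K, h0, map_zero]
    rw [injective_iff_map_eq_zero]
    intro w hw
    obtain ⟨c, rfl⟩ := FunFld.exists_smul_D_eq hK₀ hg₀ hDx w
    rw [map_smul, KaehlerDifferential.map_D, ← algebraMap_smul K c, smul_eq_zero] at hw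
    rcases hw with hc | hc
    · rw [(map_eq_zero (algebraMap K₀ K)).1 hc, zero_smul]
    · exact absurd hc hx'

end Groth.Agent.S12520
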