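import Groth.Statements.S12524
import Groth.Agent.Lib.DVRPowerSeries_helper3
-- import your own Groth.Agent.* helpers here

set_option autoImplicit false
universe u v
open CAlg
open Groth.Agent.Lib

namespace Groth.Agent.S12524

open IsLocalRing in
/-- Let `A` be a complete discrete valuation ring with maximal ideal `m`, containing a field `K` such
that `K → A → A/m` is bijective (a coefficient field), and let `x` be any generator of `m`. Then the
`K`-algebra map `K[X] → A`, `X ↦ x`, extends to a bijective `K`-algebra map `φ : K⟦X⟧ → A`,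
characterised by `φ(∑ aᵢ Xⁱ) ≡ ∑_{i<n} aᵢ xⁱ (mod mⁿ)` for every `n`. -/
theorem result (K : Type u) (A : Type v) [Field K]
    [CommRing A] [IsDomain A] [IsDiscreteValuationRing A] [Algebra K A]
    [IsAdicComplete (maximalIdeal A) A]
    (hK : Function.Bijective ((residue A).comp (algebraMap K A)))
    (x : A) (hx : maximalIdeal A = Ideal.span {x}) :
    ∃ φ : PowerSeries K →ₐ[K] A, φ PowerSeries.X = x ∧ Function.Bijective φ ∧
      ∀ (f : PowerSeries K) (n : ℕ),
        φ f - (Finset.range n).sum (fun i => algebraMap K A (PowerSeries.coeff i f) * x ^ i) ∈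
          maximalIdeal A ^ n := by
  have hsurj : ∀ a : A, ∃ c : K, algebraMap K A c - a ∈ maximalIdeal A := by
    intro a
    obtain ⟨c, hc⟩ := hK.2 (IsLocalRing.residue A a)
    refine ⟨c, ?_⟩
    exact Ideal.Quotient.eq.1 hc
  obtain ⟨e, he⟩ := DVRPowerSeriesH3.exists_algEquiv K A hsurj x hx
  refine ⟨e.toAlgHom, he, e.bijective, fun f n => ?_⟩
  have h1 := DVRPowerSeriesH3.sub_sum_mem e.toAlgHom f n
  have h2 : (e.toAlgHom : PowerSeries K →ₐ[K] A) PowerSeries.X = x := he
  rw [h2] at h1
  rw [hx, Ideal.span_singleton_pow]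
  exact h1

end Groth.Agent.S12524
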