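import Groth.Statements.S12535
import Mathlib
import Groth.Agent.Lib.FunFldRat_helper2

set_option autoImplicit false
open FunFld

namespace Groth.Agent.S12535

/-- Let `char k ≠ 2`, `K` of degree `2` over `k(x)`, and `y ∈ K` with `y² = f(x)`, `f` a squarefree
polynomial of degree `≥ 1`. Then a place `P` of `K` is a zero of `y` exactly when it lies over a
finite place of `k(x)` where `f` has a zero, and in that case `ord_P(y) = 1`: the divisor of zeros
of `y` is `Σ P_i`, one place over each irreducible factor of `f`, with multiplicity one. -/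
theorem result (k K : Type*) [Field k] [Field K] (h2 : ringChar k ≠ 2) [Algebra k K]
    [Algebra (RatFunc k) K] [IsScalarTower k (RatFunc k) K]
    (hdeg : Module.finrank (RatFunc k) K = 2) (y : K) (f : Polynomial k) (hf : Squarefree f)
    (hd : 1 ≤ f.natDegree)
    (heq : y ^ 2 = algebraMap (RatFunc k) K (algebraMap (Polynomial k) (RatFunc k) f)) (P : FunFld.Place k K) :
    (0 < P.ord y → P.ord y = 1) ∧
    (0 < P.ord y ↔ ∃ P₀ : FunFld.Place k (RatFunc k), FunFld.IsOver P P₀ ∧ 0 ≤ P₀.ord (RatFunc.X : RatFunc k) ∧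
      0 < P₀.ord (algebraMap (Polynomial k) (RatFunc k) f)) := by
  classical
  have hKr := FunFld.isFunctionField_ratFunc (k := k)
  haveI : FiniteDimensional (RatFunc k) K := Module.finite_of_finrank_pos (by omega)
  have hf0 : f ≠ 0 := by
    rintro rfl
    simp at hd
  have hF0 : algebraMap (Polynomial k) (RatFunc k) f ≠ 0 := RatFunc.algebraMap_ne_zero hf0
  obtain ⟨P₀, e, he⟩ := FunFld.exists_isOverWith hKr P
  have hle := he.le_finrank hKr
  rw [hdeg] at hle
  have hepos : (0 : ℤ) < e := by exact_mod_cast he.pos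
  have hrel : 2 * P.ord y = e * P₀.ord (algebraMap (Polynomial k) (RatFunc k) f) := by
    have := he.ord_eq (algebraMap (Polynomial k) (RatFunc k) f)
    rw [← heq, P.ord_pow] at this
    push_cast at this
    exact this
  have key : 0 < P₀.ord (algebraMap (Polynomial k) (RatFunc k) f) →
      0 ≤ P₀.ord (RatFunc.X : RatFunc k) ∧
        P₀.ord (algebraMap (Polynomial k) (RatFunc k) f) = 1 := by
    intro hpos'
    have hX : 0 ≤ P₀.ord (RatFunc.X : RatFunc k) := by
      by_contra hneg
      push Not at hneg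
      have := P₀.ratFunc_ord_poly_of_inf hneg hf0
      omega
    have hXv : P₀.1 (RatFunc.X : RatFunc k) ≤ 1 := (P₀.ord_nonneg_iff RatFunc.X_ne_zero).mp hX
    have hFv : P₀.1 (algebraMap (Polynomial k) (RatFunc k) f) < 1 :=
      (P₀.ord_pos_iff hF0).mp hpos'
    obtain ⟨p, hp, hpf, hpv⟩ := P₀.ratFunc_exists_irreducible hXv hf0 hFv
    exact ⟨hX, P₀.ratFunc_ord_squarefree hp hpv hf hpf⟩
  have hpos_of : 0 < P.ord y → 0 < P₀.ord (algebraMap (Polynomial k) (RatFunc k) f) := by
    intro hpy
    by_contra h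
    push Not at h
    nlinarith [mul_nonneg hepos.le (neg_nonneg.mpr h)]
  constructor
  · intro hpy
    obtain ⟨_, h2'⟩ := key (hpos_of hpy)
    rw [h2'] at hrel
    omega
  · constructor
    · intro hpy
      have h1 := hpos_of hpy
      obtain ⟨hX, _⟩ := key h1
      exact ⟨P₀, ⟨e, he⟩, hX, h1⟩
    · rintro ⟨P₁, ⟨e₁, he₁⟩, _, hpos₁⟩
      have h3 := he₁.ord_eq (algebraMap (Polynomial k) (RatFunc k) f)
      rw [← heq, P.ord_pow] at h3
      push_cast at h3
      have h4 : (0 : ℤ) < e₁ := by exact_mod_cast he₁.pos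
      nlinarith [mul_pos h4 hpos₁]

end Groth.Agent.S12535
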