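import Groth.Statements.S12550
import Mathlib

set_option autoImplicit false
universe u
open GIT

namespace Groth.Agent.S12550

/-- Let V be a finite-dimensional vector space over a field K and x_0, …, x_m non-zero vectors, a
configuration of m + 1 points of the projective space P(V). If for every subspace L with 0 ≠ L ≠ V
the number of indices i with x_i ∈ L, multiplied by dim V, is less than dim L · (m + 1) (the
configuration is stable), then no two proper subspaces L', L'' with L' ∩ L'' = 0 contain between
them all the x_i. -/
theorem result (K : Type u) [Field K]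
    (V : Type u) [AddCommGroup V] [Module K V] [FiniteDimensional K V]
    (m : ℕ) (x : Fin (m + 1) → V) (hx : ∀ i, x i ≠ 0)
    (hst : ∀ L : Submodule K V, L ≠ ⊥ → L ≠ ⊤ →
      Set.ncard {i : Fin (m + 1) | x i ∈ L} * Module.finrank K V < Module.finrank K L * (m + 1)) :
    ¬ ∃ L' L'' : Submodule K V, L' ≠ ⊤ ∧ L'' ≠ ⊤ ∧ Disjoint L' L'' ∧ ∀ i, x i ∈ L' ∨ x i ∈ L'' := by
  rintro ⟨L', L'', hL', hL'', hdisj, hcov⟩
  set S' : Set (Fin (m + 1)) := {i | x i ∈ L'} with hS'
  set S'' : Set (Fin (m + 1)) := {i | x i ∈ L''} with hS''
  have hunion : S' ∪ S'' = Set.univ := by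
    ext i
    simp only [Set.mem_union, Set.mem_univ, iff_true]
    exact hcov i
  have hcard : m + 1 ≤ S'.ncard + S''.ncard := by
    have h1 := Set.ncard_union_le S' S''
    rw [hunion, Set.ncard_univ, Nat.card_fin] at h1
    exact h1
  have hdim : Module.finrank K L' + Module.finrank K L'' ≤ Module.finrank K V := by
    have h1 := Submodule.finrank_sup_add_finrank_inf_eq L' L''
    rw [hdisj.eq_bot, finrank_bot, add_zero] at h1
    rw [← h1]
    exact Submodule.finrank_le _
  have hVpos : 0 < Module.finrank K V := by
    have : Nontrivial V := ⟨⟨x 0, 0, hx 0⟩⟩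
    exact Module.finrank_pos
  by_cases hb' : L' = ⊥
  · -- all points lie in L''
    have hall : ∀ i, x i ∈ L'' := by
      intro i
      rcases hcov i with h | h
      · rw [hb'] at h
        exact absurd ((Submodule.mem_bot K).mp h) (hx i)
      · exact h
    have hne : L'' ≠ ⊥ := by
      intro h
      have := hall 0
      rw [h] at this
      exact hx 0 ((Submodule.mem_bot K).mp this)
    have h1 : S''.ncard * Module.finrank K V < Module.finrank K L'' * (m + 1) := hst L'' hne hL''
    have h2 : S'' = Set.univ := by
      ext i; simp only [hS'', Set.mem_ofPred_eq, Set.mem_univ, iff_true]; exact hall i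
    rw [h2, Set.ncard_univ, Nat.card_fin] at h1
    have h3 : Module.finrank K L'' ≤ Module.finrank K V := Submodule.finrank_le _
    nlinarith
  by_cases hb'' : L'' = ⊥
  · have hall : ∀ i, x i ∈ L' := by
      intro i
      rcases hcov i with h | h
      · exact h
      · rw [hb''] at h
        exact absurd ((Submodule.mem_bot K).mp h) (hx i)
    have h1 : S'.ncard * Module.finrank K V < Module.finrank K L' * (m + 1) := hst L' hb' hL'
    have h2 : S' = Set.univ := by
      ext i; simp only [hS', Set.mem_ofPred_eq, Set.mem_univ, iff_true]; exact hall i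
    rw [h2, Set.ncard_univ, Nat.card_fin] at h1
    have h3 : Module.finrank K L' ≤ Module.finrank K V := Submodule.finrank_le _
    nlinarith
  have h1 : S'.ncard * Module.finrank K V < Module.finrank K L' * (m + 1) := hst L' hb' hL'
  have h2 : S''.ncard * Module.finrank K V < Module.finrank K L'' * (m + 1) := hst L'' hb'' hL''
  nlinarith

end Groth.Agent.S12550
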