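import Groth.Statements.S12555
import Groth.Agent.Lib.InvRey2_helper9

set_option autoImplicit false
universe u
open TensorProduct
open GIT

open Groth.Agent.Lib.InvRey2_helper9 Groth.Agent.Lib.InvRey_helper9 Groth.Agent.Lib.LinRed_helper9 Groth.Agent.Lib.SymComod_helper9 Groth.Agent.Lib.Comod_helper9
namespace Groth.Agent.S12555

/-- Let k be a field, G = Spec A a linearly reductive affine group (A a commutative Hopf algebra whose
finite-dimensional comodules are all semisimple) and V a representation of G of any dimension (an
A-comodule). Then there is exactly one linear map E : V → V commuting with the coaction, with E ∘ E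
= E, and with E x = x exactly for the invariant vectors x. -/
theorem result (k : Type u) [Field k] (A : Type u) [CommRing A] [HopfAlgebra k A]
    (hG : HopfRep.IsLinearlyReductive k A) (V : Type u) [AddCommGroup V] [Module k V] [HopfRep.Comod k A V] :
    ∃! E : V →ₗ[k] V, Hoch.IsComodHom A E ∧ E ∘ₗ E = E ∧ ∀ x : V, E x = x ↔ x ∈ HopfRep.fixedPts k A V := by
  obtain ⟨β, hβ, h1⟩ := exists_leftIntegral k A hG
  refine ⟨rey k A β V, ⟨isComodHom_rey k A β V hG hβ, ?_, ?_⟩, ?_⟩
  · apply LinearMap.ext
    intro v
    exact rey_of_mem_fixedPts k A β V h1 _ (rey_mem_fixedPts k A β V hβ v)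
  · intro x
    constructor
    · intro hx
      rw [← hx]
      exact rey_mem_fixedPts k A β V hβ x
    · intro hx
      exact rey_of_mem_fixedPts k A β V h1 x hx
  · rintro E ⟨hE1, hE2, hE3⟩
    exact eq_rey_of_props k A β V hβ h1 E hE1 hE2 hE3

end Groth.Agent.S12555
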