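import Groth.Statements.S12557
import Groth.Agent.Lib.InvRey2_helper9

set_option autoImplicit false
universe u
open TensorProduct
open GIT

open Groth.Agent.Lib.InvRey2_helper9 Groth.Agent.Lib.InvRey_helper9 Groth.Agent.Lib.LinRed_helper9 Groth.Agent.Lib.SymComod_helper9 Groth.Agent.Lib.Comod_helper9
namespace Groth.Agent.S12557

/-- Let k be a field, G = Spec A a linearly reductive affine group (A a commutative Hopf algebra whose
finite-dimensional comodules are all semisimple) acting on the affine scheme Spec R, R_0 ⊆ R the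
ring of invariants, and (𝔄_i) a family of ideals of R each stable under the coaction. Then the sum
of the 𝔄_i meets R_0 in the sum of the intersections 𝔄_i ∩ R_0. -/
theorem result (k : Type u) [Field k] (A : Type u) [CommRing A] [HopfAlgebra k A]
    (hG : HopfRep.IsLinearlyReductive k A)
    (R : Type u) [CommRing R] [Algebra k R] [HopfRep.Comod k A R] [GLin.IsCoactAlg k A R]
    (ι : Type u) (𝔄 : ι → Ideal R) (h𝔄 : ∀ i, HopfRep.IsSubcomod (k := k) (A := A) ((𝔄 i).restrictScalars k)) :
    (⨆ i, (𝔄 i).restrictScalars k) ⊓ Subalgebra.toSubmodule (GLin.invariants k A R) =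
      ⨆ i, ((𝔄 i).restrictScalars k ⊓ Subalgebra.toSubmodule (GLin.invariants k A R)) := by
  obtain ⟨β, hβ, h1⟩ := exists_leftIntegral k A hG
  apply le_antisymm
  · rintro x ⟨hx1, hx2⟩
    have hx2' : x ∈ HopfRep.fixedPts k A R := hx2
    have key : ∀ z ∈ ⨆ i, (𝔄 i).restrictScalars k, rey k A β R z ∈
        ⨆ i, ((𝔄 i).restrictScalars k ⊓ Subalgebra.toSubmodule (GLin.invariants k A R)) := by
      intro z hz
      refine Submodule.iSup_induction (fun i => (𝔄 i).restrictScalars k)
        (motive := fun z => rey k A β R z ∈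
          ⨆ i, ((𝔄 i).restrictScalars k ⊓ Subalgebra.toSubmodule (GLin.invariants k A R)))
        hz ?_ ?_ ?_
      · intro i z hz
        apply Submodule.mem_iSup_of_mem i
        exact ⟨rey_mem_of_isSubcomod k A β R (𝔄 i) (h𝔄 i) z hz, rey_mem_fixedPts k A β R hβ z⟩
      · rw [map_zero]; exact Submodule.zero_mem _
      · intro a b ha hb
        rw [map_add]; exact Submodule.add_mem _ ha hb
    have h3 := key x hx1
    rwa [rey_of_mem_fixedPts k A β R h1 x hx2'] at h3
  · apply iSup_le
    intro i
    exact inf_le_inf_right _ (le_iSup (fun i => (𝔄 i).restrictScalars k) i)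

end Groth.Agent.S12557
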