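import Groth.Statements.S12591
import Groth.Agent.Lib.FunFldSing6_helper2

set_option autoImplicit false
universe u v
open FunFld

namespace Groth.Agent.S12591

/-- Every place `P` of a geometric function field of one variable `K/k` has a splitting field of finite
degree over `k`: a finite extension `k'` such that every place of `k' ⊗_k K` above `P` has degree
one over `k'`. (The finiteness of the set of singular places and the existence of a purely
inseparable `k'` making `k' ⊗_k K` nonsingular are not stated here.) -/
theorem result (k : Type u) (K : Type v) [Field k] [Field K] [Algebra k K]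
    (hK : FunFld.IsFunctionField k K) (hg : FunFld.IsGeometric k K) (P : FunFld.Place k K) :
    ∃ (k' : Type u) (_ : Field k') (_ : Algebra k k'), FiniteDimensional k k' ∧
      ∀ (K' : Type v) [Field K'] [Algebra K K'] [Algebra k' K'] [Algebra k K']
        [IsScalarTower k k' K'] [IsScalarTower k K K'],
        Function.Bijective (Algebra.TensorProduct.productMap
          (IsScalarTower.toAlgHom k k' K') (IsScalarTower.toAlgHom k K K')) →
        ∀ Q : FunFld.Place k' K', P.1.HasExtension Q.1 → Q.deg = 1 := by
  obtain ⟨k', fk', ak', fd', hsp⟩ := FunFld.Sing.exists_splitting_ext.{u, v, v} hK hg P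
  refine ⟨k', fk', ak', fd', ?_⟩
  intro K' _ _ _ _ _ _ hb Q hQ
  haveI := hQ
  haveI : FiniteDimensional K K' := FunFld.finiteDimensional_constExt hb
  haveI : Algebra.IsAlgebraic k k' := Algebra.IsAlgebraic.of_finite k k'
  refine hsp K' hb Q ?_
  have hext : ∀ x : K, Q.1 (algebraMap K K' x) ≤ 1 ↔ P.1 x ≤ 1 := fun x =>
    Valuation.HasExtension.val_map_le_one_iff P.1 Q.1 x
  obtain ⟨P', e, he⟩ := FunFld.exists_isOverWith hK (FunFld.Sing.downPl (k := k) Q)
  have hPP : P = P' := FunFld.Place.eq_of_forall_le_one (fun a ha => by
    have h1 := (hext a).mpr ha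
    have h2 := he a
    rw [FunFld.Sing.downPl_val] at h2
    rw [h2] at h1
    exact (pow_le_one_iff_of_nonneg zero_le he.pos.ne').mp h1)
  exact hPP ▸ ⟨e, he⟩

end Groth.Agent.S12591
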