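import Groth.Statements.S12599
import Mathlib
import Groth.Agent.Lib.FunFldHasseC_helper2

set_option autoImplicit false
open FunFld

namespace Groth.Agent.S12599

/-- Over an algebraically closed constant field, for a place `P` with local parameter `t`, and a
linearly independent tuple `φ = (φ₀, …, φₙ)` of functions integral at `P`, the matrix of values at
`P` of the Hasse derivatives `D_t^(j)(φᵢ)`, `j = 0, 1, …`, has rank `n + 1`: its rows are linearly
independent over the residue field. -/
theorem result
    (k K : Type*) [Field k] [IsAlgClosed k] [Field K] [Algebra k K]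
    (hK : FunFld.IsFunctionField k K) {n : ℕ} (φ : Fin (n + 1) → K) (hφ : LinearIndependent k φ)
    (P : FunFld.Place k K) (hint : ∀ i, P.1 (φ i) ≤ 1) (t : K) (ht : P.1 t = WithZero.exp (-1))
    (Ht : K →ₐ[k] PowerSeries K) (hHt : LocRes.IsHasseFamily t Ht) :
    LinearIndependent (IsLocalRing.ResidueField P.O)
      (fun i : Fin (n + 1) => fun j : ℕ => FunFld.evalP P (LocRes.hasseD Ht j (φ i))) := by
  classical
  rw [Fintype.linearIndependent_iff]
  intro g hg
  choose a ha using fun i => FunFld.resk_surjective P hK (g i)
  have hfb : ∀ b, FunFld.evalP P (LocRes.hasseD Ht b (∑ i, a i • φ i)) = 0 := by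
    intro b
    rw [(FunFld.evalP_hasseD_sum hK P ht hHt φ hint a b).2]
    have h1 := congrFun hg b
    simp only [Finset.sum_apply, Pi.smul_apply, smul_eq_mul, Pi.zero_apply] at h1
    simp only [ha]
    exact h1
  have hf1 := (FunFld.evalP_hasseD_sum hK P ht hHt φ hint a 0).1
  have hf0 : ∑ i, a i • φ i = 0 := by
    by_contra hne
    obtain ⟨m, -, -, hm⟩ := FunFld.exists_evalP_hasseD_ne_zero hK P ht hHt hf1 hne
    exact hm (hfb m)
  have ha0 := (Fintype.linearIndependent_iff.mp hφ) a hf0
  intro i
  rw [← ha i, ha0 i, map_zero]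

end Groth.Agent.S12599
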