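import Groth.Statements.S12602
import Mathlib
import Groth.Agent.Lib.FunFldJump_helper2

set_option autoImplicit false
open FunFld

namespace Groth.Agent.S12602

/-- Over an algebraically closed constant field, for a birational projective map `φ = (φ₀, …, φₙ)`, `n ≥
1`, with orders `j₁ < ⋯ < jₙ`, and `τ ≠ 1`, the `τ`-orders of `φ` are `(0, j₁, …, j_{m-1}, j_{m+1},
…, jₙ)` for some `m`: the jump indices of `[τ(φ) | D^(0) φ | D^(1) φ | ⋯]` after the leading column
are `0` and the `jₗ` with `l ≠ m`. -/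
theorem result
    (k K : Type*) [Field k] [IsAlgClosed k] [Field K] [Algebra k K]
    (hK : FunFld.IsFunctionField k K) {n : ℕ} (hn : 0 < n) (φ : Fin (n + 1) → K) (hφ : LinearIndependent k φ)
    (h0 : φ 0 ≠ 0) (hbir : IntermediateField.adjoin k (Set.range fun i => φ i / φ 0) = ⊤)
    (τ : K →ₐ[k] K) (hτ : τ ≠ AlgHom.id k K) (s : K) (H : K →ₐ[k] PowerSeries K) (hH : LocRes.IsHasseFamily s H)
    (J : Fin n → ℕ) (hJ : FunFld.IsOrders K (FunFld.hcol (AlgHom.id k K) H φ) J) :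
    ∃ m : Fin n, ∀ j : ℕ,
      FunFld.IsJump K (FunFld.hcol τ H φ) (j + 1) ↔ (j = 0 ∨ ∃ l, l ≠ m ∧ J l = j) := by
  classical
  have hfr : Module.finrank K (Fin (n + 1) → K) = n + 1 := Module.finrank_fin_fun K
  have hd0eq : (fun i => LocRes.hasseD H 0 (φ i)) = φ := by
    funext i
    exact FunFld.hasseD_zero_apply hH _
  have hτ0 : τ (φ 0) ≠ 0 := (map_ne_zero τ).mpr h0
  refine FunFld.jumps_replace_leading hfr (fun j => fun i => LocRes.hasseD H j (φ i))
    (fun i => τ (φ i)) ?_ ?_ (FunFld.hcol (AlgHom.id k K) H φ) (FunFld.hcol τ H φ) ?_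
    (fun j => rfl) rfl (fun j => rfl) J hJ
  · show (fun i => LocRes.hasseD H 0 (φ i)) ≠ 0
    rw [hd0eq]
    intro h
    exact h0 (congrFun h 0)
  · show (fun i => τ (φ i)) ∉ Submodule.span K {fun i => LocRes.hasseD H 0 (φ i)}
    rw [hd0eq, Submodule.mem_span_singleton]
    rintro ⟨a, ha⟩
    have hai : ∀ i, a * φ i = τ (φ i) := fun i => congrFun ha i
    have ha0 : a ≠ 0 := by
      rintro rfl
      apply hτ0
      rw [← hai 0, zero_mul]
    apply hτ
    apply FunFld.eq_id_of_smul_eq φ h0 hbir τ a⁻¹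
    intro i
    rw [← hai i, ← mul_assoc, inv_mul_cancel₀ ha0, one_mul]
  · show (fun i => (AlgHom.id k K) (φ i)) = fun i => LocRes.hasseD H 0 (φ i)
    rw [hd0eq]
    rfl

end Groth.Agent.S12602
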