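import Groth.Statements.S12608
import Mathlib
import Groth.Agent.Lib.FunFldHasseD_helper2
import Groth.Agent.S12605
import Groth.Agent.S12601

set_option autoImplicit false
open FunFld

namespace Groth.Agent.S12608

open WithZero Matrix


/-- Over an algebraically closed constant field, let `φ = (φ₀, …, φₙ)` be an effective projective map
normalized at the place `P`, `t` a local parameter at `P`, `j₁, …, jₙ` the orders of `φ` and `j'₁,
…, j'ₙ` the orders of `φ` at `P`. Then `jₗ ≤ j'ₗ` for all `l`, and the following are equivalent: all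
`j'ₗ = jₗ`; the Wronskian `w_t(φ)` does not vanish at `P`; the Weierstrass divisor `W(φ)` has
coefficient `0` at `P` (the divisor of `dt` in it read through a family of Laurent expansions). -/
theorem result
    (k K : Type*) [Field k] [IsAlgClosed k] [Field K] [Algebra k K]
    (hK : FunFld.IsFunctionField k K) (P : FunFld.Place k K) {n : ℕ} (φ : Fin (n + 1) → K) (hφ : LinearIndependent k φ)
    (heff : (1 : K) ∈ Submodule.span k (Set.range φ)) (hnorm : ∀ i, P.1 (φ i) ≤ 1)
    (t : K) (ht : P.1 t = WithZero.exp (-1))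
    (Ht : K →ₐ[k] PowerSeries K) (hHt : LocRes.IsHasseFamily t Ht)
    (J : Fin n → ℕ) (hJ : FunFld.IsOrders K (FunFld.hcol (AlgHom.id k K) Ht φ) J)
    (J' : Fin n → ℕ) (hJ' : FunFld.IsOrders (IsLocalRing.ResidueField P.O) (FunFld.hcolAt P Ht φ) J')
    (Φ : FunFld.Place k K → (K →ₐ[k] LaurentSeries k))
    (hΦ : ∀ P : FunFld.Place k K, LocRes.IsExpansionAt P.1 (Φ P)) :
    (∀ l, J l ≤ J' l) ∧
    ((∀ l, J' l = J l) ↔ FunFld.evalP P (FunFld.wrMat (AlgHom.id k K) Ht φ J).det ≠ 0) ∧
    ((∀ l, J' l = J l) ↔ FunFld.wDiv (AlgHom.id k K) Ht Φ t φ J P = 0) := by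
  classical
  have hPid : FunFld.IsFixedPt (AlgHom.id k K) P := fun z hz => hz
  have hJ'pos : ∀ l, 0 < J' l := fun l => FunFld.isOrders_at_pos P hHt φ hJ' l
  have hJpos : ∀ l, 0 < J l := fun l => FunFld.isOrders_id_pos hHt φ hJ l
  have hS1 := Groth.Agent.S12605.result k K hK (AlgHom.id k K) P hPid φ hφ heff hnorm t ht Ht hHt
    J' hJ' J' hJ'.1
  have hdetJ' : (FunFld.wrMat (AlgHom.id k K) Ht φ J').det ≠ 0 := by
    have h1 := (hS1.2 (Or.inl hJ'pos)).2
      (by rw [FunFld.det_binomMat_self k J' hJ'.1]; exact one_ne_zero)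
    intro h0
    rw [h0, map_zero] at h1
    exact exp_ne_zero h1.symm
  have hle : ∀ l, J l ≤ J' l :=
    Groth.Agent.S12601.result k K hK φ hφ (AlgHom.id k K) t Ht hHt J hJ J' hJ'.1 hdetJ'
  have hS2 := Groth.Agent.S12605.result k K hK (AlgHom.id k K) P hPid φ hφ heff hnorm t ht Ht hHt
    J' hJ' J hJ.1
  obtain ⟨d, hd⟩ : ∃ d : K, d = (FunFld.wrMat (AlgHom.id k K) Ht φ J).det := ⟨_, rfl⟩
  rw [← hd] at hS2 ⊢
  have hsum_nonneg : 0 ≤ ∑ l, ((J' l : ℤ) - J l) :=
    Finset.sum_nonneg (fun l _ => by have := hle l; omega)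
  have hd1 : P.1 d ≤ 1 := by
    refine hS2.1.trans ?_
    rw [← exp_zero, exp_le_exp]
    omega
  have hd0 : d ≠ 0 := by
    rw [hd]
    exact FunFld.det_wrMat_ne_zero_of_isOrders (AlgHom.id k K) Ht φ ⟨0, hφ.ne_zero 0⟩ J hJ
  have hiff : (∀ l, J' l = J l) ↔ P.1 d = 1 := by
    constructor
    · intro h
      have hJJ : J' = J := funext h
      have h2 := (hS2.2 (Or.inl hJpos)).2
        (by rw [hJJ, FunFld.det_binomMat_self k J hJ.1]; exact one_ne_zero)
      rw [h2, hJJ]
      simp
    · intro h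
      have h3 := hS2.1
      rw [h, ← exp_zero, exp_le_exp] at h3
      have hs0 : ∑ l, ((J' l : ℤ) - J l) = 0 := by omega
      have h4 := (Finset.sum_eq_zero_iff_of_nonneg
        (fun l _ => by have := hle l; omega)).1 hs0
      intro l
      have h5 := h4 l (Finset.mem_univ l)
      omega
  refine ⟨hle, ?_, ?_⟩
  · rw [hiff]
    constructor
    · intro h; exact (FunFld.evalP_ne_zero_iff P h.le).2 h
    · intro h; exact (FunFld.evalP_ne_zero_iff P hd1).1 h
  · rw [hiff]
    have hw : FunFld.wDiv (AlgHom.id k K) Ht Φ t φ J P = P.ord d := by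
      unfold FunFld.wDiv
      rw [Finsupp.add_apply, Finsupp.add_apply, Finsupp.add_apply, Finsupp.smul_apply,
        Finsupp.smul_apply, FunFld.div_apply hK, ← hd,
        FunFld.mapDiv_comp_apply_eq_zero hK hPid φ hnorm heff,
        FunFld.mapDiv_apply_eq_zero P φ hnorm
          (FunFld.exists_val_eq_one_of_one_mem_span P φ hnorm heff),
        FunFld.divDiff_apply_uniformizer Φ P (hΦ P) ht]
      simp
    rw [hw]
    exact (P.ord_eq_zero_iff hd0).symm

end Groth.Agent.S12608
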