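import Groth.Statements.S12610
import Mathlib
import Groth.Agent.Lib.FunFldHasseH_helper2
import Groth.Agent.S12595
import Groth.Agent.S12597
import Groth.Agent.S12598
import Groth.Agent.S12614

set_option autoImplicit false
open FunFld

namespace Groth.Agent.S12610

open WithZero Matrix


/-- Over an algebraically closed constant field, for a birational projective map `φ`, a `k`-endomorphism
`τ ≠ 1` and a place `P` fixed by `τ`, the place `P` is a Weierstrass point of `φ` with respect to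
`τ`: the Weierstrass divisor `W(φ, τ) = [w_s(φ, τ)] + [τ(φ)] + n[φ] + j(φ, τ)[ds]` has positive
coefficient at `P` (the divisor of `ds` read through a family of Laurent expansions). -/
theorem result
    (k K : Type*) [Field k] [IsAlgClosed k] [Field K] [Algebra k K]
    (hK : FunFld.IsFunctionField k K) {n : ℕ} (φ : Fin (n + 1) → K) (hφ : LinearIndependent k φ)
    (h0 : φ 0 ≠ 0) (hbir : IntermediateField.adjoin k (Set.range fun i => φ i / φ 0) = ⊤)
    (τ : K →ₐ[k] K) (hτ : τ ≠ AlgHom.id k K) (P : FunFld.Place k K) (hP : FunFld.IsFixedPt τ P)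
    (s : K) (H : K →ₐ[k] PowerSeries K) (hH : LocRes.IsHasseFamily s H)
    (J : Fin n → ℕ) (hJ : FunFld.IsOrders K (FunFld.hcol τ H φ) J)
    (Φ : FunFld.Place k K → (K →ₐ[k] LaurentSeries k))
    (hΦ : ∀ P : FunFld.Place k K, LocRes.IsExpansionAt P.1 (Φ P)) :
    0 < FunFld.wDiv τ H Φ s φ J P := by
  classical
  obtain ⟨t, ht⟩ := P.exists_uniformizer
  have hb := FunFld.hasseD_one_uniformizer_ne_zero hK hH P ht
  obtain ⟨Ht, hHt⟩ := FunFld.exists_hasseFamily hH hb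
  obtain ⟨i₀, -, hi₀⟩ := Finset.exists_max_image Finset.univ (fun i => P.1 (φ i))
    Finset.univ_nonempty
  have hφi₀ : φ i₀ ≠ 0 := hφ.ne_zero i₀
  obtain ⟨y, hy⟩ : ∃ y : K, y = (φ i₀)⁻¹ := ⟨_, rfl⟩
  have hy0 : y ≠ 0 := by rw [hy]; exact inv_ne_zero hφi₀
  obtain ⟨φ', hφ'def⟩ : ∃ φ' : Fin (n + 1) → K, φ' = y • φ := ⟨_, rfl⟩
  have hφ'i : ∀ i, φ' i = y * φ i := fun i => by rw [hφ'def]; rfl
  have hφ'A : ∀ i, φ' i = y * ∑ j, (1 : Matrix (Fin (n + 1)) (Fin (n + 1)) k) i j • φ j := by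
    intro i
    rw [hφ'i]
    congr 1
    simp [Matrix.one_apply]
  have hnorm : ∀ i, P.1 (φ' i) ≤ 1 := by
    intro i
    rw [hφ'i, hy, map_mul, map_inv₀]
    have hne : P.1 (φ i₀) ≠ 0 := (map_ne_zero P.1).2 hφi₀
    calc (P.1 (φ i₀))⁻¹ * P.1 (φ i) ≤ (P.1 (φ i₀))⁻¹ * P.1 (φ i₀) :=
          mul_le_mul' le_rfl (hi₀ i (Finset.mem_univ i))
      _ = 1 := inv_mul_cancel₀ hne
  have heff : (1 : K) ∈ Submodule.span k (Set.range φ') := by
    have h1 : φ' i₀ = 1 := by rw [hφ'i, hy]; exact inv_mul_cancel₀ hφi₀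
    rw [← h1]
    exact Submodule.subset_span ⟨i₀, rfl⟩
  have hW := Groth.Agent.S12614.result k K hK φ hφ τ s H hH t Ht hHt J hJ 1
    (by rw [Matrix.det_one]; exact one_ne_zero) y hy0 φ' hφ'A Φ hΦ
  rw [← hW]
  have hJt : FunFld.IsOrders K (FunFld.hcol τ Ht φ) J :=
    ((Groth.Agent.S12598.result k K hK φ hφ τ s H hH t Ht hHt).1 J).2 hJ
  have hJ' : FunFld.IsOrders K (FunFld.hcol τ Ht φ') J := by
    rw [hφ'def]
    exact ((Groth.Agent.S12597.result k K hK φ hφ τ t Ht hHt y hy0).1 J).2 hJt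
  have hφ'LI : LinearIndependent k φ' := by
    rw [Fintype.linearIndependent_iff]
    intro c hc
    have h1 : ∑ i, c i • φ' i = y * ∑ i, c i • φ i := by
      rw [Finset.mul_sum]
      apply Finset.sum_congr rfl
      intro i _
      rw [hφ'i, mul_smul_comm]
    rw [h1] at hc
    have h2 := (mul_eq_zero.1 hc).resolve_left hy0
    exact Fintype.linearIndependent_iff.1 hφ c h2
  obtain ⟨d, hd⟩ : ∃ d : K, d = (FunFld.wrMat τ Ht φ' J).det := ⟨_, rfl⟩
  have hd0 : d ≠ 0 := by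
    rw [hd]
    exact FunFld.det_wrMat_ne_zero_of_isOrders τ Ht φ' ⟨0, hφ'LI.ne_zero 0⟩ J hJ'
  have hw : FunFld.wDiv τ Ht Φ t φ' J P = P.ord d := by
    unfold FunFld.wDiv
    rw [Finsupp.add_apply, Finsupp.add_apply, Finsupp.add_apply, Finsupp.smul_apply,
      Finsupp.smul_apply, FunFld.div_apply hK, ← hd,
      FunFld.mapDiv_comp_apply_eq_zero hK hP φ' hnorm heff,
      FunFld.mapDiv_apply_eq_zero P φ' hnorm
        (FunFld.exists_val_eq_one_of_one_mem_span P φ' hnorm heff),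
      FunFld.divDiff_apply_uniformizer Φ P (hΦ P) ht]
    simp
  rw [hw]
  have hjump1 : FunFld.IsJump K (FunFld.hcol τ Ht φ) 1 := by
    by_contra hno
    exact hτ ((Groth.Agent.S12595.result k K hK φ h0 hbir τ t Ht hHt).1 hno)
  obtain ⟨l₀, hl₀⟩ := (hJt.2 0).2 hjump1
  have hentries : ∀ r q, P.1 (FunFld.wrMat τ Ht φ' J r q) ≤ 1 := by
    intro r q
    induction q using Fin.cases with
    | zero => exact FunFld.val_map_le_one_of_isFixedPt hK hP (hnorm r)
    | succ l => exact FunFld.val_hasseD_le_one hK P ht hHt (J l) _ (hnorm r)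
  obtain ⟨hd1, hdev⟩ := FunFld.evalP_det P (FunFld.wrMat τ Ht φ' J) hentries
  have hzero : (Matrix.of fun r q => FunFld.evalP P (FunFld.wrMat τ Ht φ' J r q)).det = 0 := by
    apply Matrix.det_zero_of_column_eq (i := 0) (j := l₀.succ) (Fin.succ_ne_zero l₀).symm
    intro r
    show FunFld.evalP P (τ (φ' r)) = FunFld.evalP P (LocRes.hasseD Ht (J l₀) (φ' r))
    rw [hl₀, FunFld.hasseD_zero_apply hHt]
    exact FunFld.evalP_map_eq_of_isFixedPt hK hP (hnorm r)
  rw [← hd] at hd1 hdev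
  rw [hzero] at hdev
  have hlt : P.1 d < 1 := (FunFld.evalP_eq_zero_iff P hd1).1 hdev
  exact (P.ord_pos_iff hd0).2 hlt

end Groth.Agent.S12610
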