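import Groth.Statements.S12611
import Mathlib
import Groth.Agent.Lib.FunFldHasseI_helper2
import Groth.Agent.S12601
import Groth.Agent.S12605
import Groth.Agent.S12597
import Groth.Agent.S12598

set_option autoImplicit false
open FunFld

namespace Groth.Agent.S12611

open WithZero Matrix


/-- Over an algebraically closed constant field of characteristic `0` or greater than `deg φ`, a
birational projective map `φ = (φ₀, …, φₙ)` is classical: its orders are `(1, 2, …, n)`, and for a
`k`-endomorphism `τ ≠ 1` its `τ`-orders are `(0, 1, …, n-1)`. (The published statement has no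
fixed-point hypothesis for `τ ≠ 1` and is false without one: on a smooth plane cubic in
characteristic `0`, pulling back along multiplication by `-2` gives `τ`-orders `(0, 2)`. This row
assumes `τ` has a strong fixed point — a place whose maximal ideal `τ` maps into its square — which
is what the proof uses, through the equality criterion for Wronskian orders at such a point.) -/
theorem result
    (k K : Type*) [Field k] [IsAlgClosed k] [Field K] [Algebra k K]
    (hK : FunFld.IsFunctionField k K) {n : ℕ} (φ : Fin (n + 1) → K) (hφ : LinearIndependent k φ)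
    (h0 : φ 0 ≠ 0) (hbir : IntermediateField.adjoin k (Set.range fun i => φ i / φ 0) = ⊤)
    (hchar : ringChar k = 0 ∨ (FunFld.mapDiv k φ).deg < ringChar k)
    (τ : K →ₐ[k] K) (s : K) (H : K →ₐ[k] PowerSeries K) (hH : LocRes.IsHasseFamily s H) :
    (τ = AlgHom.id k K → FunFld.IsOrders K (FunFld.hcol τ H φ) (fun l : Fin n => (l : ℕ) + 1)) ∧
    (τ ≠ AlgHom.id k K → (∃ P : FunFld.Place k K, FunFld.IsStrongFixedPt τ P) →
      FunFld.IsOrders K (FunFld.hcol τ H φ) (fun l : Fin n => (l : ℕ))) := by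
  classical
  have hcharN : ∀ m : ℕ, 0 < m → m ≤ ((FunFld.mapDiv k φ).deg).toNat → ((m : ℕ) : k) ≠ 0 := by
    intro m hm hmN h0
    have hdvd := (ringChar.spec k m).1 h0
    rcases hchar with h | h
    · rw [h] at hdvd
      have := Nat.eq_zero_of_zero_dvd hdvd
      omega
    · have h1 := Nat.le_of_dvd hm hdvd
      have h2 : (ringChar k : ℤ) ≤ m := by exact_mod_cast h1
      omega
  have key : ∀ (P : FunFld.Place k K) (I : Fin n → ℕ), StrictMono I → FunFld.IsFixedPt τ P →
      ((∀ l, 0 < I l) ∨ FunFld.IsStrongFixedPt τ P) →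
      (∀ J' : Fin n → ℕ, StrictMono J' → (∀ l, 1 ≤ J' l) →
        (∀ l, J' l ≤ ((FunFld.mapDiv k φ).deg).toNat) → (FunFld.binomMat k J' I).det ≠ 0) →
      ∀ J : Fin n → ℕ, FunFld.IsOrders K (FunFld.hcol τ H φ) J → ∀ l, J l ≤ I l := by
    intro P I hI hP hcond hbin J hJ
    obtain ⟨t, ht⟩ := P.exists_uniformizer
    have hb := FunFld.hasseD_one_uniformizer_ne_zero hK hH P ht
    obtain ⟨Ht, hHt⟩ := FunFld.exists_hasseFamily hH hb
    obtain ⟨y, hy0, hφ'LI, heff, hnorm⟩ := FunFld.exists_normalization P φ hφ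
    obtain ⟨J', hJ'⟩ := FunFld.exists_isOrders_hcolAt hK P ht hHt (y • φ) hφ'LI heff hnorm
    have hJ'pos := fun l => FunFld.isOrders_at_pos P hHt (y • φ) hJ' l
    have hJ'le : ∀ l, J' l ≤ ((FunFld.mapDiv k φ).deg).toNat := by
      intro l
      have h1 := FunFld.isOrders_at_le_deg hK P ht hHt (y • φ) hφ'LI heff hnorm hJ' l
      rw [FunFld.deg_mapDiv_smul hK φ hφ hy0] at h1
      omega
    have hS := Groth.Agent.S12605.result k K hK τ P hP (y • φ) hφ'LI heff hnorm t ht Ht hHt
      J' hJ' I hI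
    have hdet : (FunFld.wrMat τ Ht (y • φ) I).det ≠ 0 := by
      have h1 := (hS.2 hcond).2 (hbin J' hJ'.1 hJ'pos hJ'le)
      intro h0
      rw [h0, map_zero] at h1
      exact exp_ne_zero h1.symm
    have hJt : FunFld.IsOrders K (FunFld.hcol τ Ht φ) J :=
      ((Groth.Agent.S12598.result k K hK φ hφ τ s H hH t Ht hHt).1 J).2 hJ
    have hJφ' : FunFld.IsOrders K (FunFld.hcol τ Ht (y • φ)) J :=
      ((Groth.Agent.S12597.result k K hK φ hφ τ t Ht hHt y hy0).1 J).2 hJt
    exact Groth.Agent.S12601.result k K hK (y • φ) hφ'LI τ t Ht hHt J hJφ' I hI hdet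
  refine ⟨fun hτ => ?_, fun hτ hex => ?_⟩
  · subst hτ
    obtain ⟨J, hJ⟩ := FunFld.exists_isOrders_hcol hK φ hφ (AlgHom.id k K) hH
    obtain ⟨P⟩ := FunFld.exists_place hK
    have hI : StrictMono (fun l : Fin n => (l : ℕ) + 1) := by
      intro a b hab
      show (a : ℕ) + 1 < (b : ℕ) + 1
      have : (a : ℕ) < (b : ℕ) := hab
      omega
    have hle := key P (fun l => (l : ℕ) + 1) hI (fun z hz => hz)
      (Or.inl (fun l => Nat.succ_pos _))
      (fun J' hJ'm hJ'pos hJ'le =>
        FunFld.det_binomMat_succ_ne_zero k J' hJ'm hJ'pos _ hcharN hJ'le) J hJ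
    have hJpos : ∀ l, 1 ≤ J l := fun l => FunFld.isOrders_id_pos hH φ hJ l
    have hJeq : J = fun l : Fin n => (l : ℕ) + 1 :=
      funext (fun l => le_antisymm (hle l) (FunFld.strictMono_add_le J hJ.1 1 hJpos l))
    rw [← hJeq]
    exact hJ
  · obtain ⟨P, hP⟩ := hex
    obtain ⟨J, hJ⟩ := FunFld.exists_isOrders_hcol hK φ hφ τ hH
    have hI : StrictMono (fun l : Fin n => (l : ℕ)) := fun a b hab => hab
    have hle := key P (fun l => (l : ℕ)) hI hP.isFixedPt (Or.inr hP)
      (fun J' hJ'm _ hJ'le =>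
        FunFld.det_binomMat_id_ne_zero k J' hJ'm _ hcharN hJ'le) J hJ
    have hJeq : J = fun l : Fin n => (l : ℕ) :=
      funext (fun l => le_antisymm (hle l) (by
        have := FunFld.strictMono_add_le J hJ.1 0 (fun _ => Nat.zero_le _) l
        omega))
    rw [← hJeq]
    exact hJ

end Groth.Agent.S12611
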