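import Groth.Statements.S12612
import Mathlib
import Groth.Agent.Lib.MvDeriv_helper2

set_option autoImplicit false
open FunFld

namespace Groth.Agent.S12612

/-- For a plane curve given by a homogeneous `f` of degree `e` with `f(1, x, y) = 0` and a change of
projective coordinates `X = AX'` (`A` invertible over `k`), with new affine coordinates `x' =
u₁/u₀`, `y' = u₂/u₀`, `z = 1/u₀ = X₀/X₀'` where `u = A⁻¹(1, x, y)ᵗ`, and `f'(X') = f(AX')`, the
differentials satisfy `dx/f̂_y = det(A) z^(e-3) dx'/f̂'_{y'}`, where `f̂_y = (∂f/∂X₂)(1, x, y)` and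
`f̂'_{y'} = (∂f'/∂X₂')(1, x', y')` are assumed nonzero. (Stated for any field `K` over `k`
containing such `x`, `y`; the published setting is a plane model of a function field over an
algebraically closed field, and the computation uses only the relation `f(1, x, y) = 0`.) -/
theorem result
    (k K : Type*) [Field k] [Field K] [Algebra k K]
    (f : MvPolynomial (Fin 3) k) (e : ℕ) (hf : f.IsHomogeneous e)
    (x y : K) (hfxy : MvPolynomial.aeval ![(1 : K), x, y] f = 0)
    (A : Matrix (Fin 3) (Fin 3) k) (hA : A.det ≠ 0)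
    (u : Fin 3 → K) (hu : ∀ i, ∑ j, algebraMap k K (A i j) * u j = ![(1 : K), x, y] i)
    (hu0 : u 0 ≠ 0)
    (hfy : MvPolynomial.aeval ![(1 : K), x, y] (MvPolynomial.pderiv 2 f) ≠ 0)
    (hfy' : MvPolynomial.aeval ![(1 : K), u 1 / u 0, u 2 / u 0]
      (MvPolynomial.pderiv 2
        (MvPolynomial.aeval (fun i : Fin 3 => ∑ j, MvPolynomial.C (A i j) * MvPolynomial.X j) f)) ≠ 0) :
    (MvPolynomial.aeval ![(1 : K), x, y] (MvPolynomial.pderiv 2 f))⁻¹ • KaehlerDifferential.D k K x =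
      (algebraMap k K A.det * (u 0)⁻¹ ^ ((e : ℤ) - 3) *
        (MvPolynomial.aeval ![(1 : K), u 1 / u 0, u 2 / u 0]
          (MvPolynomial.pderiv 2
            (MvPolynomial.aeval (fun i : Fin 3 => ∑ j, MvPolynomial.C (A i j) * MvPolynomial.X j) f)))⁻¹) •
        KaehlerDifferential.D k K (u 1 / u 0) := by
  classical
  obtain ⟨d, hd⟩ : ∃ d : Derivation k K (KaehlerDifferential k K), d = KaehlerDifferential.D k K :=
    ⟨_, rfl⟩
  rw [← hd]
  obtain ⟨v, hvdef⟩ : ∃ v : Fin 3 → K, v = ![(1 : K), x, y] := ⟨_, rfl⟩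
  rw [← hvdef] at hfxy hfy hu ⊢
  have hv0 : v 0 = 1 := by rw [hvdef]; rfl
  have hv1 : v 1 = x := by rw [hvdef]; rfl
  have hv2 : v 2 = y := by rw [hvdef]; rfl
  obtain ⟨g, hgdef⟩ : ∃ g : Fin 3 → K,
      g = fun i => MvPolynomial.aeval v (MvPolynomial.pderiv i f) := ⟨_, rfl⟩
  have hg : ∀ i, g i = MvPolynomial.aeval v (MvPolynomial.pderiv i f) := fun i => by rw [hgdef]
  rw [← hg 2] at hfy ⊢
  have hE : g 0 + x * g 1 + y * g 2 = 0 := by
    have h1 := congrArg (MvPolynomial.aeval v) hf.sum_X_mul_pderiv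
    rw [map_sum, Fin.sum_univ_three] at h1
    simp only [map_mul, MvPolynomial.aeval_X, map_nsmul, hfxy, smul_zero, ← hg, hv0, hv1, hv2,
      one_mul] at h1
    exact h1
  have hT : g 1 • d x + g 2 • d y = 0 := by
    have h1 := MvDerivH2.derivation_aeval d v f
    rw [hfxy, map_zero, Fin.sum_univ_three, ← hg, ← hg, ← hg, hv0, hv1, hv2,
      Derivation.map_one_eq_zero, smul_zero, zero_add] at h1
    exact h1.symm
  obtain ⟨a, hadef⟩ : ∃ a : Fin 3 → Fin 3 → K, a = fun i j => algebraMap k K (A i j) :=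
    ⟨_, rfl⟩
  have ha : ∀ i j, algebraMap k K (A i j) = a i j := fun i j => by rw [hadef]
  have hda : ∀ i j, d (a i j) = 0 := fun i j => by
    rw [← ha]
    exact Derivation.map_algebraMap d _
  have hR : ∀ i, a i 0 * u 0 + a i 1 * u 1 + a i 2 * u 2 = v i := by
    intro i
    have h1 := hu i
    rw [Fin.sum_univ_three] at h1
    simp only [ha] at h1
    exact h1
  have hdR : ∀ i, a i 0 • d (u 0) + a i 1 • d (u 1) + a i 2 • d (u 2) = d (v i) := by
    intro i
    rw [← hR i]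
    simp only [map_add, Derivation.leibniz, hda, smul_zero, add_zero]
  have hdetA : algebraMap k K A.det = a 0 0 * a 1 1 * a 2 2 - a 0 0 * a 1 2 * a 2 1 -
      a 0 1 * a 1 0 * a 2 2 + a 0 1 * a 1 2 * a 2 0 + a 0 2 * a 1 0 * a 2 1 -
      a 0 2 * a 1 1 * a 2 0 := by
    rw [Matrix.det_fin_three]
    simp only [map_sub, map_add, map_mul, ha]
  have hI' : a 0 2 • (x • d y - y • d x) - a 1 2 • d y + a 2 2 • d x =
      (algebraMap k K A.det) • (u 0 • d (u 1) - u 1 • d (u 0)) := by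
    have h := MvDerivH2.cross_identity a u (fun j => d (u j))
    simp only [hR, hdR] at h
    rw [hv0, hv1, hv2, Derivation.map_one_eq_zero] at h
    rw [hdetA]
    linear_combination (norm := module) h
  obtain ⟨h2, hh2def⟩ : ∃ h2 : K, h2 = a 0 2 * g 0 + a 1 2 * g 1 + a 2 2 * g 2 := ⟨_, rfl⟩
  have hF6 : h2 • d x =
      (algebraMap k K A.det * g 2) • (u 0 • d (u 1) - u 1 • d (u 0)) := by
    rw [hh2def]
    linear_combination (norm := module)
      g 2 • hI' + (a 1 2 - a 0 2 * x) • hT + (a 0 2 * hE) • d x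
  have he : 1 ≤ e := by
    by_contra h
    have he0 : e = 0 := by omega
    subst he0
    have h3 : MvPolynomial.pderiv 2 f = 0 := by
      have h1 := ((MvPolynomial.totalDegree_zero_iff_isHomogeneous (p := f)).2 hf)
      rw [MvPolynomial.totalDegree_eq_zero_iff_eq_C] at h1
      rw [h1, MvPolynomial.pderiv_C]
    apply hfy
    rw [hg, h3, map_zero]
  obtain ⟨e', rfl⟩ : ∃ e', e = e' + 1 := ⟨e - 1, by omega⟩
  have hv' : ∀ j, ![(1 : K), u 1 / u 0, u 2 / u 0] j = (u 0)⁻¹ * u j := by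
    intro j
    fin_cases j
    · show (1 : K) = (u 0)⁻¹ * u 0
      rw [inv_mul_cancel₀ hu0]
    · show u 1 / u 0 = (u 0)⁻¹ * u 1
      rw [div_eq_inv_mul]
    · show u 2 / u 0 = (u 0)⁻¹ * u 2
      rw [div_eq_inv_mul]
  obtain ⟨σ, hσdef⟩ : ∃ σ : Fin 3 → MvPolynomial (Fin 3) k,
      σ = fun i : Fin 3 => ∑ j, MvPolynomial.C (A i j) * MvPolynomial.X j := ⟨_, rfl⟩
  have hσi : ∀ i, σ i = ∑ j, MvPolynomial.C (A i j) * MvPolynomial.X j := fun i => by rw [hσdef]
  rw [← hσdef] at hfy' ⊢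
  have hpd : MvPolynomial.pderiv 2 (MvPolynomial.aeval σ f) =
      ∑ i, MvPolynomial.aeval σ (MvPolynomial.pderiv i f) * MvPolynomial.C (A i 2) := by
    rw [MvDerivH2.derivation_aeval (MvPolynomial.pderiv 2) σ f]
    apply Finset.sum_congr rfl
    intro i _
    rw [smul_eq_mul]
    congr 1
    rw [hσi, map_sum, Fin.sum_univ_three, MvPolynomial.pderiv_C_mul, MvPolynomial.pderiv_C_mul,
      MvPolynomial.pderiv_C_mul, MvPolynomial.pderiv_X_of_ne (by decide),
      MvPolynomial.pderiv_X_of_ne (by decide), MvPolynomial.pderiv_X_self, mul_zero, mul_zero,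
      zero_add, zero_add, mul_one]
  have hσv : (fun i => MvPolynomial.aeval ![(1 : K), u 1 / u 0, u 2 / u 0] (σ i)) =
      fun i => (u 0)⁻¹ * v i := by
    funext i
    rw [hσi, map_sum, Fin.sum_univ_three]
    simp only [map_mul, MvPolynomial.aeval_C, MvPolynomial.aeval_X, hv', ha]
    rw [← hR i]
    ring
  have hg'2 : MvPolynomial.aeval ![(1 : K), u 1 / u 0, u 2 / u 0]
      (MvPolynomial.pderiv 2 (MvPolynomial.aeval σ f)) = (u 0)⁻¹ ^ e' * h2 := by
    rw [hpd, map_sum, Fin.sum_univ_three]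
    simp only [map_mul, MvPolynomial.aeval_C, MvPolynomial.comp_aeval_apply]
    rw [hσv]
    have hhom : ∀ i, MvPolynomial.aeval (fun i => (u 0)⁻¹ * v i) (MvPolynomial.pderiv i f) =
        (u 0)⁻¹ ^ e' * g i := by
      intro i
      have h1 := MvDerivH2.aeval_mul_of_isHomogeneous (hf.pderiv (i := i)) (u 0)⁻¹ v
      rw [Nat.add_sub_cancel] at h1
      rw [h1, hg]
    rw [hhom, hhom, hhom, hh2def]
    simp only [ha]
    ring
  have hh2 : h2 ≠ 0 := by
    intro h0
    apply hfy'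
    rw [hg'2, h0, mul_zero]
  have hc0 : (u 0)⁻¹ ≠ 0 := inv_ne_zero hu0
  have hz : (u 0)⁻¹ ^ (((e' + 1 : ℕ) : ℤ) - 3) = (u 0)⁻¹ ^ e' * u 0 ^ 2 := by
    have h1 : (((e' + 1 : ℕ) : ℤ) - 3) = (e' : ℤ) + (-2) := by
      push_cast
      ring
    rw [h1, zpow_add₀ hc0, zpow_natCast, inv_zpow, zpow_neg, inv_inv]
    simp
  rw [hg'2, hz, Derivation.leibniz_div, smul_smul]
  have hdx : d x = h2⁻¹ • ((algebraMap k K A.det * g 2) • (u 0 • d (u 1) - u 1 • d (u 0))) := by
    rw [← hF6, smul_smul, inv_mul_cancel₀ hh2, one_smul]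
  rw [hdx, smul_smul, smul_smul]
  congr 1
  field_simp

end Groth.Agent.S12612
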