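import Groth.Statements.S12616
import Mathlib
import Groth.Agent.Lib.FunFldHasseJ_helper2
import Groth.Agent.S12612

set_option autoImplicit false
open FunFld

namespace Groth.Agent.S12616

/-- Over an algebraically closed constant field, the adjoint divisor `Δ(φ) = (e - 3)[φ] - [dx/f̂_y]` of
an effective plane map `φ = (1 : x : y)` of degree `e`, with a homogeneous relation `f` of the same
degree `e` satisfying `f(1, x, y) = 0`, depends only on the equivalence class of `φ`: it is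
unchanged under a change of projective coordinates `X = AX'`, with `x' = u₁/u₀`, `y' = u₂/u₀`, `u =
A⁻¹(1, x, y)ᵗ`, `f'(X') = f(AX')`. Here `dx ≠ 0`, both `f̂_y` and `f̂'_{y'}` are nonzero, and
divisors of differentials are read through a family of Laurent expansions. (The published statement
takes `f` to be the minimal relation of `x` and `y` for a plane model `K = k(x, y)`, where the
degree of the map equals the degree of `f`; this row assumes only that `f` is homogeneous of degree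
equal to the degree of the map, which is all the change-of-coordinates computation uses — when the
two degrees differ the two sides differ by a multiple of the divisor of `u₀`.) -/
theorem result
    (k K : Type*) [Field k] [IsAlgClosed k] [Field K] [Algebra k K]
    (hK : FunFld.IsFunctionField k K) (f : MvPolynomial (Fin 3) k) (e : ℕ) (hf : f.IsHomogeneous e)
    (x y : K) (hfxy : MvPolynomial.aeval ![(1 : K), x, y] f = 0)
    (hdx : KaehlerDifferential.D k K x ≠ 0)
    (he : (FunFld.mapDiv k ![(1 : K), x, y]).deg = e)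
    (A : Matrix (Fin 3) (Fin 3) k) (hA : A.det ≠ 0)
    (u : Fin 3 → K) (hu : ∀ i, ∑ j, algebraMap k K (A i j) * u j = ![(1 : K), x, y] i)
    (hu0 : u 0 ≠ 0)
    (hfy : (MvPolynomial.aeval ![(1 : K), x, y] (MvPolynomial.pderiv 2 f)) ≠ 0)
    (hfy' : (MvPolynomial.aeval ![(1 : K), u 1 / u 0, u 2 / u 0] (MvPolynomial.pderiv 2 (MvPolynomial.aeval (fun i : Fin 3 => ∑ j, MvPolynomial.C (A i j) * MvPolynomial.X j) f))) ≠ 0)
    (Φ : FunFld.Place k K → (K →ₐ[k] LaurentSeries k))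
    (hΦ : ∀ P : FunFld.Place k K, LocRes.IsExpansionAt P.1 (Φ P)) :
    ((FunFld.mapDiv k ![(1 : K), x, y]).deg - 3) • FunFld.mapDiv k ![(1 : K), x, y] -
        FunFld.divDiff Φ (MvPolynomial.aeval ![(1 : K), x, y] (MvPolynomial.pderiv 2 f))⁻¹ x =
      ((FunFld.mapDiv k ![(1 : K), u 1 / u 0, u 2 / u 0]).deg - 3) •
          FunFld.mapDiv k ![(1 : K), u 1 / u 0, u 2 / u 0] -
        FunFld.divDiff Φ (MvPolynomial.aeval ![(1 : K), u 1 / u 0, u 2 / u 0] (MvPolynomial.pderiv 2 (MvPolynomial.aeval (fun i : Fin 3 => ∑ j, MvPolynomial.C (A i j) * MvPolynomial.X j) f)))⁻¹ (u 1 / u 0) := by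
  classical
  obtain ⟨fy, hfydef⟩ : ∃ fy : K,
      fy = MvPolynomial.aeval ![(1 : K), x, y] (MvPolynomial.pderiv 2 f) := ⟨_, rfl⟩
  obtain ⟨fy', hfy'def⟩ : ∃ fy' : K, fy' = MvPolynomial.aeval ![(1 : K), u 1 / u 0, u 2 / u 0]
      (MvPolynomial.pderiv 2 (MvPolynomial.aeval
        (fun i : Fin 3 => ∑ j, MvPolynomial.C (A i j) * MvPolynomial.X j) f)) := ⟨_, rfl⟩
  have hkd := Groth.Agent.S12612.result k K f e hf x y hfxy A hA u hu hu0 hfy hfy'
  rw [← hfydef] at hfy hkd ⊢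
  rw [← hfy'def] at hfy' hkd ⊢
  obtain ⟨c0, hc0def⟩ : ∃ c0 : K, c0 = algebraMap k K A.det * (u 0)⁻¹ ^ ((e : ℤ) - 3) :=
    ⟨_, rfl⟩
  rw [← hc0def] at hkd
  have hdet : algebraMap k K A.det ≠ 0 := (map_ne_zero (algebraMap k K)).2 hA
  have hz0 : (u 0)⁻¹ ^ ((e : ℤ) - 3) ≠ 0 := zpow_ne_zero _ (inv_ne_zero hu0)
  have hc0 : c0 ≠ 0 := by
    rw [hc0def]
    exact mul_ne_zero hdet hz0
  have hfyi : fy⁻¹ ≠ 0 := inv_ne_zero hfy
  have hfyi' : fy'⁻¹ ≠ 0 := inv_ne_zero hfy'
  have hdx' : KaehlerDifferential.D k K (u 1 / u 0) ≠ 0 := by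
    intro h0
    rw [h0, smul_zero] at hkd
    exact hdx ((smul_eq_zero.1 hkd).resolve_left hfyi)
  obtain ⟨D1, hD1⟩ := FunFld.exists_derivation_of_D_ne_zero hdx
  obtain ⟨D2, hD2⟩ := FunFld.exists_derivation_of_D_ne_zero hdx'
  -- pointwise relation of the orders of the differentials
  have hord : ∀ P : FunFld.Place k K, LocRes.ordDiff (Φ P) fy⁻¹ x =
      -(((e : ℤ) - 3) * P.ord (u 0)) + LocRes.ordDiff (Φ P) fy'⁻¹ (u 1 / u 0) := by
    intro P
    have h1 := FunFld.laurent_of_kaehler (Φ P) hkd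
    have hDx' : LocRes.D k (Φ P (u 1 / u 0)) ≠ 0 :=
      FunFld.D_expansion_ne_zero' hK D2 hD2 P (Φ P) (hΦ P)
    have hv2 : (Valued.v (Φ P fy'⁻¹ * LocRes.D k (Φ P (u 1 / u 0))) : WithZero (Multiplicative ℤ)) ≠ 0 := by
      rw [map_ne_zero]
      exact mul_ne_zero ((map_ne_zero _).2 hfyi') hDx'
    have hv1 : P.1 c0 ≠ 0 := (map_ne_zero P.1).2 hc0
    have hc0ord : P.ord c0 = -(((e : ℤ) - 3) * P.ord (u 0)) := by
      rw [hc0def, P.ord_mul hdet hz0, P.ord_algebraMap, P.ord_zpow, P.ord_inv]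
      ring
    have hv : (Valued.v (Φ P (c0 * fy'⁻¹) * LocRes.D k (Φ P (u 1 / u 0))) : WithZero (Multiplicative ℤ)) =
        P.1 c0 * Valued.v (Φ P fy'⁻¹ * LocRes.D k (Φ P (u 1 / u 0))) := by
      rw [map_mul (Φ P), mul_assoc, Valuation.map_mul _ (Φ P c0) _, (hΦ P).1]
    unfold LocRes.ordDiff LocRes.vDiff
    rw [h1, hv, WithZero.log_mul hv1 hv2, ← hc0ord]
    unfold FunFld.Place.ord
    ring
  -- the divisors of the two tuples
  have hM : ∀ P : FunFld.Place k K, FunFld.mapDiv k ![(1 : K), u 1 / u 0, u 2 / u 0] P =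
      FunFld.mapDiv k ![(1 : K), x, y] P + P.ord (u 0) := by
    intro P
    rw [FunFld.mapDiv_apply hK, FunFld.mapDiv_apply hK,
      FunFld.minOrd_coord_change P x y A hA u hu hu0]
    ring
  have hMdiv : FunFld.mapDiv k ![(1 : K), u 1 / u 0, u 2 / u 0] =
      FunFld.mapDiv k ![(1 : K), x, y] + FunFld.div k (u 0) := by
    ext P
    rw [Finsupp.add_apply, hM P, FunFld.div_apply hK]
  have hdeg : (FunFld.mapDiv k ![(1 : K), u 1 / u 0, u 2 / u 0]).deg =
      (FunFld.mapDiv k ![(1 : K), x, y]).deg := by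
    rw [hMdiv, FunFld.deg_add, FunFld.deg_div_eq_zero hK, add_zero]
  rw [hdeg, he]
  ext P
  rw [Finsupp.sub_apply, Finsupp.sub_apply, Finsupp.smul_apply, Finsupp.smul_apply,
    FunFld.divDiff_apply hK D1 hD1 Φ hΦ _ hfyi, FunFld.divDiff_apply hK D2 hD2 Φ hΦ _ hfyi',
    hM P, hord P, smul_eq_mul, smul_eq_mul]
  ring

end Groth.Agent.S12616
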