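import Groth.Statements.S12613
import Mathlib
import Groth.Agent.Lib.FunFldAdjA_helper2
import Groth.Agent.Lib.FunFldAdjB_helper2
import Groth.Agent.Lib.FunFldJac4_helper2
import Groth.Agent.Lib.FunFldPM4_helper2
import Groth.Agent.S12616

set_option autoImplicit false
open FunFld

namespace Groth.Agent.S12613

open IntermediateField


/-- Over an algebraically closed constant field, for a birational plane map `φ = (1 : x : y)` of degree
`e` with irreducible relation `f̂(x, y) = 0`, the adjoint divisor `Δ(φ) = (e - 3)[φ] - [dx/f̂_y]`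
has nonnegative coefficient at every place `Q`, and the coefficient is `0` exactly when `φ` is
nonsingular at `Q`. The order of `dx/f̂_y` at `Q` is read through a Laurent expansion at `Q`,
through which that differential is assumed nonzero. -/
theorem result
    (k K : Type*) [Field k] [IsAlgClosed k] [Field K] [Algebra k K]
    (hK : FunFld.IsFunctionField k K) (x y : K) (hxy : IntermediateField.adjoin k ({x, y} : Set K) = ⊤)
    (f : MvPolynomial (Fin 2) k) (hf : Irreducible f) (hfxy : MvPolynomial.aeval ![x, y] f = 0)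
    (Q : FunFld.Place k K) (ΦQ : K →ₐ[k] LaurentSeries k) (hΦQ : LocRes.IsExpansionAt Q.1 ΦQ)
    (hne : LocRes.vDiff ΦQ (MvPolynomial.aeval ![x, y] (MvPolynomial.pderiv 1 f))⁻¹ x ≠ 0) :
    0 ≤ ((FunFld.mapDiv k ![(1 : K), x, y]).deg - 3) * FunFld.mapDiv k ![(1 : K), x, y] Q -
        LocRes.ordDiff ΦQ (MvPolynomial.aeval ![x, y] (MvPolynomial.pderiv 1 f))⁻¹ x ∧
    (((FunFld.mapDiv k ![(1 : K), x, y]).deg - 3) * FunFld.mapDiv k ![(1 : K), x, y] Q -
        LocRes.ordDiff ΦQ (MvPolynomial.aeval ![x, y] (MvPolynomial.pderiv 1 f))⁻¹ x = 0 ↔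
      FunFld.IsNonsingularAt ![(1 : K), x, y] Q) := by
  classical
  obtain ⟨N, hNdef⟩ : ∃ N : K, N = MvPolynomial.aeval ![x, y] (MvPolynomial.pderiv 1 f) :=
    ⟨_, rfl⟩
  rw [← hNdef] at hne ⊢
  have hne' : ΦQ N⁻¹ * LocRes.D k (ΦQ x) ≠ 0 := by
    intro h
    apply hne
    unfold LocRes.vDiff
    rw [h, map_zero]
  have hNi : N⁻¹ ≠ 0 := by
    intro h
    apply hne'
    rw [h, map_zero, zero_mul]
  have hN0 : N ≠ 0 := fun h => hNi (by rw [h, inv_zero])
  have hDx : LocRes.D k (ΦQ x) ≠ 0 := by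
    intro h
    apply hne'
    rw [h, mul_zero]
  have hdx := kaehler_D_ne_zero_of_exp ΦQ hDx
  -- homogenization
  obtain ⟨F, hF⟩ : ∃ F : MvPolynomial (Fin 3) k, F = homog f := ⟨_, rfl⟩
  have hFhom : F.IsHomogeneous f.totalDegree := hF ▸ homog_isHomogeneous f
  have hFf : dehom k 2 F = f := hF ▸ dehom_homog f
  have hcases : ∀ a b : K, (@Fin.cases 2 (fun _ => K) 1 ![a, b]) = ![(1 : K), a, b] := by
    intro a b
    funext i
    refine Fin.cases ?_ ?_ i
    · rfl
    · intro j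
      rfl
  have hFp : MvPolynomial.aeval ![(1 : K), x, y] F = 0 := by
    rw [← hcases, ← aeval_dehom, hFf]
    exact hfxy
  have hFN : MvPolynomial.aeval ![(1 : K), x, y] (MvPolynomial.pderiv 2 F) = N := by
    rw [hNdef, ← hFf, pderiv_dehom, aeval_dehom, hcases]
    rfl
  have he := deg_mapDiv_eq_totalDegree hK x y hxy f hf hfxy
  obtain ⟨A, u, hA, hu, hu0, hQu, hdx', hPM⟩ := exists_good_chart hK x y hxy hdx Q
  have hFN0 : MvPolynomial.aeval ![(1 : K), x, y] (MvPolynomial.pderiv 2 F) ≠ 0 := by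
    rw [hFN]
    exact hN0
  obtain ⟨hF'0, hfy'⟩ := pderiv_coord_change F f.totalDegree hFhom x y hFp A hA u hu hu0
    hFN0 hdx'
  -- a family of expansions
  obtain ⟨s, H, -, -, hH⟩ := exists_hasseFamily_of_isFunctionField hK
  have hex : ∀ P : Place k K, ∃ Φ : K →ₐ[k] LaurentSeries k, LocRes.IsExpansionAt P.1 Φ :=
    fun P => exists_expansion hK hH P
  choose Φ₀ hΦ₀ using hex
  obtain ⟨Φ, hΦdef⟩ : ∃ Φ : Place k K → (K →ₐ[k] LaurentSeries k),
      Φ = Function.update Φ₀ Q ΦQ := ⟨_, rfl⟩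
  have hΦQQ : Φ Q = ΦQ := by rw [hΦdef, Function.update_self]
  have hΦ : ∀ P : Place k K, LocRes.IsExpansionAt P.1 (Φ P) := by
    intro P
    by_cases hP : P = Q
    · subst hP
      rw [hΦQQ]
      exact hΦQ
    · rw [hΦdef, Function.update_of_ne hP]
      exact hΦ₀ P
  have key := Groth.Agent.S12616.result k K hK F f.totalDegree hFhom x y hFp hdx he A hA u hu hu0
    hFN0 hfy' Φ hΦ
  obtain ⟨σ, hσdef⟩ : ∃ σ : Fin 3 → MvPolynomial (Fin 3) k,
      σ = fun i : Fin 3 => ∑ j, MvPolynomial.C (A i j) * MvPolynomial.X j := ⟨_, rfl⟩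
  rw [← hσdef] at key hfy' hF'0
  obtain ⟨u', hu'⟩ : ∃ u' : K, u' = u 1 / u 0 := ⟨_, rfl⟩
  obtain ⟨v', hv'⟩ : ∃ v' : K, v' = u 2 / u 0 := ⟨_, rfl⟩
  rw [← hu'] at key hfy' hF'0 hdx' hPM
  rw [← hv'] at key hfy' hF'0 hPM
  obtain ⟨N', hN'def⟩ : ∃ N' : K, N' = MvPolynomial.aeval ![(1 : K), u', v']
      (MvPolynomial.pderiv 2 (MvPolynomial.aeval σ F)) := ⟨_, rfl⟩
  rw [← hN'def] at key hfy'
  rw [hFN] at key
  have keyQ := DFunLike.congr_fun key Q
  obtain ⟨D1, hD1⟩ := exists_derivation_of_D_ne_zero hdx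
  obtain ⟨D2, hD2⟩ := exists_derivation_of_D_ne_zero hdx'
  have hN'i : N'⁻¹ ≠ 0 := inv_ne_zero hfy'
  rw [Finsupp.sub_apply, Finsupp.sub_apply, Finsupp.smul_apply, Finsupp.smul_apply,
    divDiff_apply hK D1 hD1 Φ hΦ _ hNi, divDiff_apply hK D2 hD2 Φ hΦ _ hN'i, hΦQQ, smul_eq_mul,
    smul_eq_mul] at keyQ
  -- the place is finite in the new chart
  have hpos0 : 0 < Q.1 (u 0) := zero_lt_iff.mpr ((Q.1.ne_zero_iff).mpr hu0)
  have hQu1 : Q.1 u' ≤ 1 := by
    rw [hu', map_div₀]
    exact (div_le_one₀ hpos0).mpr (hQu 1)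
  have hQu2 : Q.1 v' ≤ 1 := by
    rw [hv', map_div₀]
    exact (div_le_one₀ hpos0).mpr (hQu 2)
  have hM0 : mapDiv k ![(1 : K), u', v'] Q = 0 := by
    rw [mapDiv_apply hK, neg_eq_zero]
    apply le_antisymm
    · unfold minOrd
      have h1 := Finset.inf'_le (fun i => Q.ord (![(1 : K), u', v'] i)) (Finset.mem_univ 0)
      refine h1.trans_eq ?_
      exact ord_one Q
    · rw [le_minOrd_iff_of_one_mem Q _ ⟨0, rfl⟩]
      intro i
      rw [neg_zero, WithZero.exp_zero]
      fin_cases i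
      · show Q.1 (1 : K) ≤ 1
        rw [map_one]
      · exact hQu1
      · exact hQu2
  rw [hM0, mul_zero, zero_sub] at keyQ
  have hDu' : LocRes.D k (ΦQ u') ≠ 0 := D_expansion_ne_zero' hK D2 hD2 Q ΦQ hΦQ
  have hsplit := ordDiff_eq_ord_add Q ΦQ hΦQ hN'i hDu'
  rw [hsplit, Q.ord_inv] at keyQ
  -- the relation in the new chart
  obtain ⟨F', hF'⟩ : ∃ F' : MvPolynomial (Fin 3) k, F' = MvPolynomial.aeval σ F := ⟨_, rfl⟩
  rw [← hF'] at hF'0 hN'def
  have hh0 : MvPolynomial.aeval ![u', v'] (dehom k 2 F') = 0 := by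
    rw [aeval_dehom, hcases]
    exact hF'0
  have hhN : MvPolynomial.aeval ![u', v'] (MvPolynomial.pderiv 1 (dehom k 2 F')) = N' := by
    rw [pderiv_dehom, aeval_dehom, hcases, hN'def]
    rfl
  have hσdeg : ∀ i, (σ i).totalDegree ≤ 1 := by
    intro i
    rw [hσdef]
    apply MvPolynomial.totalDegree_finsetSum_le
    intro j _
    refine (MvPolynomial.totalDegree_mul _ _).trans ?_
    rw [MvPolynomial.totalDegree_C, MvPolynomial.totalDegree_X, zero_add]
  have hF'deg : (dehom k 2 F').totalDegree ≤ f.totalDegree := by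
    refine (totalDegree_dehom_le F').trans ?_
    rw [hF']
    refine (totalDegree_aeval_le σ hσdeg F).trans ?_
    exact hFhom.totalDegree_le
  -- the degree of the new chart
  have hMdiv : mapDiv k ![(1 : K), u', v'] = mapDiv k ![(1 : K), x, y] + div k (u 0) := by
    ext P
    rw [Finsupp.add_apply, mapDiv_apply hK, mapDiv_apply hK, div_apply hK, hu', hv',
      minOrd_coord_change P x y A hA u hu hu0]
    ring
  have hdeg' : (mapDiv k ![(1 : K), u', v']).deg = (mapDiv k ![(1 : K), x, y]).deg := by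
    rw [hMdiv, deg_add, deg_div_eq_zero hK, add_zero]
  have hfin : (Module.finrank k⟮u'⟯ K : ℤ) = f.totalDegree := by
    rw [← deg_poleDiv_eq hK hPM.tr, hPM.poleDiv_eq_mapDiv hK, hdeg', he]
  have hdegle : (dehom k 2 F').totalDegree ≤ Module.finrank k⟮u'⟯ K := by
    have h1 : (Module.finrank k⟮u'⟯ K) = f.totalDegree := by exact_mod_cast hfin
    rw [h1]
    exact hF'deg
  have hFC := final_chart hK hPM Q hQu1 (dehom k 2 F') hh0 hdegle (by rw [hhN]; exact hfy') ΦQ
    hΦQ hdx'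
  rw [hhN] at hFC
  -- nonsingularity in the two charts
  have hns : IsNonsingularAt ![(1 : K), u', v'] Q ↔ IsNonsingularAt ![(1 : K), x, y] Q := by
    have e1 : ![(1 : K), u', v'] = fun i => (u 0)⁻¹ * u i := by
      funext i
      fin_cases i
      · show (1 : K) = (u 0)⁻¹ * u 0
        rw [inv_mul_cancel₀ hu0]
      · show u' = (u 0)⁻¹ * u 1
        rw [hu', div_eq_inv_mul]
      · show v' = (u 0)⁻¹ * u 2
        rw [hv', div_eq_inv_mul]
    rw [e1, isNonsingularAt_mul_left_iff u Q (inv_ne_zero hu0)]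
    have hinv := inv_coord A hA u ![(1 : K), x, y] hu
    have hspan : Submodule.span k (Set.range u) =
        Submodule.span k (Set.range ![(1 : K), x, y]) := by
      apply le_antisymm
      · apply Submodule.span_le.mpr
        rintro _ ⟨l, rfl⟩
        show u l ∈ _
        rw [← hinv l]
        refine Submodule.sum_mem _ fun i _ => ?_
        rw [← Algebra.smul_def]
        exact Submodule.smul_mem _ _ (Submodule.subset_span ⟨i, rfl⟩)
      · apply Submodule.span_le.mpr
        rintro _ ⟨i, rfl⟩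
        show ![(1 : K), x, y] i ∈ _
        rw [← hu i]
        refine Submodule.sum_mem _ fun j _ => ?_
        rw [← Algebra.smul_def]
        exact Submodule.smul_mem _ _ (Submodule.subset_span ⟨j, rfl⟩)
    exact ⟨isNonsingularAt_of_span_eq _ _ hspan Q, isNonsingularAt_of_span_eq _ _ hspan.symm Q⟩
  rw [keyQ]
  constructor
  · linarith [hFC.1]
  · rw [← hns, ← hFC.2]
    constructor
    · intro h
      linarith
    · intro h
      linarith

end Groth.Agent.S12613
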