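import Groth.Statements.S12617
import Mathlib
import Groth.Agent.Lib.FunFldHasseD_helper2

set_option autoImplicit false
open FunFld

namespace Groth.Agent.S12617

open WithZero Matrix


/-- Over an algebraically closed constant field, if the effective projective map `φ = (φ₀, …, φₙ)`, `n ≥
1`, normalized at `P`, is nonsingular at `P`, then its first order at `P` is `1`. -/
theorem result
    (k K : Type*) [Field k] [IsAlgClosed k] [Field K] [Algebra k K]
    (hK : FunFld.IsFunctionField k K) (P : FunFld.Place k K) {n : ℕ} (hn : 0 < n) (φ : Fin (n + 1) → K)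
    (hφ : LinearIndependent k φ)
    (heff : (1 : K) ∈ Submodule.span k (Set.range φ)) (hnorm : ∀ i, P.1 (φ i) ≤ 1) (hns : FunFld.IsNonsingularAt φ P)
    (t : K) (ht : P.1 t = WithZero.exp (-1))
    (Ht : K →ₐ[k] PowerSeries K) (hHt : LocRes.IsHasseFamily t Ht)
    (J' : Fin n → ℕ) (hJ' : FunFld.IsOrders (IsLocalRing.ResidueField P.O) (FunFld.hcolAt P Ht φ) J') :
    J' ⟨0, hn⟩ = 1 := by
  classical
  have hex : ∃ f ∈ Submodule.span k (Set.range φ), P.1 f = WithZero.exp (-1 : ℤ) :=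
    (FunFld.exists_uniformizer_inLocRing_iff hK φ P heff hnorm).1
      ⟨t, hns t (by rw [ht]; exact FunFld.exp_neg_one_lt_one.le), ht⟩
  obtain ⟨f, hf, hfv⟩ := hex
  have hjump := FunFld.isJump_of_val_eq hK P ht hHt φ hnorm (j := 1) le_rfl hf
    (by rw [hfv]; norm_num)
  obtain ⟨l, hl⟩ := (hJ'.2 1).2 hjump
  have h1 := FunFld.isOrders_at_pos P hHt φ hJ' ⟨0, hn⟩
  have h2 : J' ⟨0, hn⟩ ≤ J' l := hJ'.1.monotone (Fin.le_def.mpr (Nat.zero_le _))
  omega

end Groth.Agent.S12617
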