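import Groth.Statements.S12620
import Mathlib
-- import your own Groth.Agent.* helpers here

set_option autoImplicit false
universe u v w
open LocRes


namespace Groth.Agent.S12620

/-- Let `K` be a field with a valuation `w` into `ℤ ∪ {0}` and `φ : K → F((X))` a `k`-algebra expansion
at `w` in a local parameter (valuation-compatible, valuation ring onto the coefficient field `F`,
`w` normalised). Then for every nonzero `f` the residue of the logarithmic differential `f⁻¹ df`
read through `φ` — the `X⁻¹`-coefficient of `φ(f)⁻¹ · (φ f)′` — is the order of `f` at `w` (the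
integer `n` with `w f = exp (-n)`), viewed in `F`. (The published statement is for a complete field
with a perfect coefficient field and its intrinsic residue; read through an expansion neither
completeness nor perfectness plays a role.) -/
theorem result {k : Type u} {K : Type v} {F : Type w} [CommRing k] [Field K] [Field F]
    [Algebra k K] [Algebra k F]
    (w : Valuation K (WithZero (Multiplicative ℤ))) (φ : K →ₐ[k] LaurentSeries F)
    (hφ : LocRes.IsExpansionAt w φ) (f : K) (hf : f ≠ 0) :
    LocRes.resExp φ f⁻¹ f = ((-WithZero.log (w f) : ℤ) : F) := by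
  classical
  obtain ⟨hv, -, -⟩ := hφ
  set g : LaurentSeries F := φ f with hg
  have hg0 : g ≠ 0 := by
    rw [hg, Ne, map_eq_zero_iff φ φ.toRingHom.injective]; exact hf
  set n : ℤ := g.order with hn
  set U : PowerSeries F := LaurentSeries.powerSeriesPart g with hU
  have hgU : (HahnSeries.single n (1 : F) : LaurentSeries F) * (U : LaurentSeries F) = g :=
    LaurentSeries.single_order_mul_powerSeriesPart g
  have hU0 : PowerSeries.constantCoeff U ≠ 0 := by
    rw [← PowerSeries.coeff_zero_eq_constantCoeff_apply, hU,
      LaurentSeries.powerSeriesPart_coeff, Nat.cast_zero, add_zero]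
    exact fun h => hg0 (HahnSeries.coeff_order_eq_zero.1 h)
  have hUunit : IsUnit U := PowerSeries.isUnit_iff_constantCoeff.2 (isUnit_iff_ne_zero.2 hU0)
  obtain ⟨V, hUV⟩ := hUunit.exists_right_inv
  have hUV' : (U : LaurentSeries F) * (V : LaurentSeries F) = 1 := by
    rw [← map_mul, hUV, map_one]
  -- the inverse of g
  have hginv : g⁻¹ = (HahnSeries.single (-n) (1 : F) : LaurentSeries F) * (V : LaurentSeries F) := by
    apply inv_eq_of_mul_eq_one_right
    rw [← hgU]
    calc (HahnSeries.single n (1 : F) : LaurentSeries F) * (U : LaurentSeries F) *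
          (HahnSeries.single (-n) 1 * (V : LaurentSeries F))
        = (HahnSeries.single n (1 : F) * HahnSeries.single (-n) (1 : F)) *
            ((U : LaurentSeries F) * (V : LaurentSeries F)) := by ring
      _ = 1 := by
          rw [hUV', HahnSeries.single_mul_single, add_neg_cancel, mul_one, mul_one]
          rfl
  -- the derivative of g
  have hDg : LocRes.D F g = (HahnSeries.single n (1 : F) : LaurentSeries F) *
      ((PowerSeries.derivative F U : PowerSeries F) : LaurentSeries F) +
      HahnSeries.single (n - 1) (n • (1 : F)) * (U : LaurentSeries F) := by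
    rw [← hgU, LocRes.D_apply, LocRes.derivative_single_mul, ← LocRes.D_apply, LocRes.D_coe]
  have hprod : g⁻¹ * LocRes.D F g =
      ((V * PowerSeries.derivative F U : PowerSeries F) : LaurentSeries F) +
        HahnSeries.single (-1) (n • (1 : F)) := by
    rw [hginv, hDg]
    have e1 : (HahnSeries.single (-n) (1 : F) : LaurentSeries F) * HahnSeries.single n (1 : F) = 1 := by
      rw [HahnSeries.single_mul_single, neg_add_cancel, mul_one]; rfl
    have e2 : (HahnSeries.single (-n) (1 : F) : LaurentSeries F) *
        HahnSeries.single (n - 1) (n • (1 : F)) = HahnSeries.single (-1) (n • (1 : F)) := by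
      rw [HahnSeries.single_mul_single, one_mul]; congr 1; ring
    have e3 : (V : LaurentSeries F) * (U : LaurentSeries F) = 1 := by rw [mul_comm]; exact hUV'
    calc (HahnSeries.single (-n) (1 : F) : LaurentSeries F) * (V : LaurentSeries F) *
          (HahnSeries.single n (1 : F) *
            ((PowerSeries.derivative F U : PowerSeries F) : LaurentSeries F) +
            HahnSeries.single (n - 1) (n • (1 : F)) * (U : LaurentSeries F))
        = ((HahnSeries.single (-n) (1 : F) : LaurentSeries F) * HahnSeries.single n (1 : F)) *
            ((V : LaurentSeries F) *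
              ((PowerSeries.derivative F U : PowerSeries F) : LaurentSeries F)) +
          ((HahnSeries.single (-n) (1 : F) : LaurentSeries F) *
            HahnSeries.single (n - 1) (n • (1 : F))) *
              ((V : LaurentSeries F) * (U : LaurentSeries F)) := by ring
      _ = _ := by
          rw [e1, e2, e3, one_mul, mul_one, ← map_mul]
  -- the valuation
  have hval : Valued.v g = WithZero.exp (-n) := by
    have hne : Valued.v g ≠ 0 := (Valuation.ne_zero_iff _).2 hg0
    have h1 : Valued.v g ≤ WithZero.exp (-n) :=
      (LaurentSeries.valuation_le_iff_coeff_lt_eq_zero F).2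
        (fun m hm => HahnSeries.coeff_eq_zero_of_lt_order hm)
    have h2 : ¬ Valued.v g ≤ WithZero.exp (-(n + 1)) := by
      intro h
      have := (LaurentSeries.valuation_le_iff_coeff_lt_eq_zero F).1 h n (by lia)
      exact hg0 (HahnSeries.coeff_order_eq_zero.1 this)
    rw [← WithZero.exp_log hne] at h1 h2 ⊢
    rw [WithZero.exp_le_exp] at h1 h2
    congr 1
    lia
  unfold LocRes.resExp
  rw [map_inv₀, ← hg, hprod, LocRes.res_apply, HahnSeries.coeff_add, HahnSeries.coeff_single_same]
  have hz : ((V * PowerSeries.derivative F U : PowerSeries F) : LaurentSeries F).coeff (-1) = 0 :=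
    (PowerSeries.coeff_coe _ (-1)).trans (if_pos (by lia))
  rw [hz, zero_add, ← hv f, ← hg, hval, WithZero.log_exp, neg_neg]
  simp

end Groth.Agent.S12620
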