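import Groth.Statements.S12631
import Mathlib
import Groth.Agent.Lib.TateWeilB_helper2

set_option autoImplicit false
universe u v w
open FunFld

namespace Groth.Agent.S12631

open FunFld TateRes


/-- Let `K/k` be a geometric function field of one variable of genus one all of whose places carry a
Laurent expansion over `k` in a local parameter (so every place is separable), and `v ∈ K` with `dv
≠ 0`. Then there is a nonzero `u ∈ K` whose differential `u dv` has divisor zero — the order of
`φ_P(u) · (φ_P v)′` is `0` at every place `P` — and such a `u` is unique up to a factor from `k`.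
(The published statement concerns elliptic curves over algebraically closed fields; this row is the
form for any constant field under the stated separability of all places.) -/
theorem result (k : Type u) (K : Type v) [Field k] [Field K] [Algebra k K]
    (hK : FunFld.IsFunctionField k K) (hg : FunFld.IsGeometric k K) (h1 : FunFld.genus k K = 1)
    (F : FunFld.Place k K → Type w) [∀ P, Field (F P)] [∀ P, Algebra k (F P)] [∀ P, FiniteDimensional k (F P)]
    (φ : ∀ P, K →ₐ[k] LaurentSeries (F P)) (hφ : ∀ P, LocRes.IsExpansionAt P.1 (φ P))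
    (v : K) (hv : KaehlerDifferential.D k K v ≠ 0) :
    (∃ u : K, u ≠ 0 ∧ ∀ P, LocRes.vDiff (φ P) u v = 1) ∧
      ∀ u u' : K, u ≠ 0 → (∀ P, LocRes.vDiff (φ P) u v = 1) → (∀ P, LocRes.vDiff (φ P) u' v = 1) →
        ∃ c : k, u' = c • u := by
  have hL0 : ∀ z : K, (∀ P : Place k K, P.1 z ≤ 1) → ∃ c : k, z = algebraMap k K c := by
    intro z hz
    have h2 : z ∈ L (0 : Divisor k K) := fun P => by
      rw [Finsupp.coe_zero, Pi.zero_apply, WithZero.exp_zero]; exact hz P
    rw [L_zero_eq_one hK, Submodule.mem_one] at h2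
    obtain ⟨c, hc⟩ := h2
    exact ⟨c, hc.symm⟩
  refine ⟨?_, ?_⟩
  · obtain ⟨C, hC, -, hcan, -, -⟩ := exists_div_resForm hK F φ hφ hg (one_ne_zero (α := K)) hv
    have hne := vDiff_ne_zero hK F φ hφ hg (one_ne_zero (α := K)) hv
    have hell : ell C = 1 := by rw [ell_of_isCanonical hK hcan, h1]
    have hdeg : Divisor.deg C = 0 := by rw [deg_of_isCanonical hK hcan, h1]; norm_num
    obtain ⟨x, hxL, hx0⟩ : ∃ x : K, x ∈ L C ∧ x ≠ 0 := by
      by_contra hcon
      push Not at hcon
      have hbot : L C = ⊥ := by
        rw [eq_bot_iff]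
        intro x hx
        rw [Submodule.mem_bot]
        exact hcon x hx
      unfold ell at hell
      rw [hbot, finrank_bot] at hell
      exact zero_ne_one hell
    have hE : 0 ≤ div k x + C := (mem_L_iff_div hK hx0 C).mp hxL
    have hE0 : div k x + C = 0 := eq_zero_of_nonneg_of_deg_le_zero hK hE (by
      rw [deg_add, deg_div_eq_zero hK, hdeg, add_zero])
    refine ⟨x, hx0, fun P => ?_⟩
    have h2 : (div k x + C) P = 0 := by rw [hE0]; rfl
    rw [Finsupp.add_apply, div_apply hK, hC P] at h2
    have h3 := vDiff_mul_left (hφ P) x 1 v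
    rw [mul_one] at h3
    rw [h3, P.val_eq_exp_neg_ord hx0, ← WithZero.exp_log (hne P), ← WithZero.exp_add,
      ← WithZero.exp_zero, WithZero.exp_inj]
    unfold LocRes.ordDiff at h2
    omega
  · intro u u' hu hu1 hu'1
    have hz : ∀ P : Place k K, P.1 (u' * u⁻¹) ≤ 1 := by
      intro P
      have h3 := vDiff_mul_left (hφ P) (u' * u⁻¹) u v
      rw [inv_mul_cancel_right₀ hu, hu1 P, hu'1 P, mul_one] at h3
      exact h3.symm.le
    obtain ⟨c, hc⟩ := hL0 _ hz
    refine ⟨c, ?_⟩
    rw [Algebra.smul_def, ← hc, inv_mul_cancel_right₀ hu]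

end Groth.Agent.S12631
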