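import Groth.Statements.S12692
import Mathlib
import Groth.Agent.S12146
import Groth.Agent.Lib.RelProj_helper3
import Groth.Agent.Lib.SymInv2_helper5
import Groth.Agent.Lib.QCAlgMod_helper9
import Groth.Agent.Lib.SpecChart_helper5

set_option autoImplicit false
universe u
open CategoryTheory CategoryTheory.Limits AlgebraicGeometry TopologicalSpace Opposite
open scoped HomogeneousIdeal
noncomputable section
open Coh

namespace Groth.Agent.S12692

/-- Let X be a quasi-compact scheme, L an invertible O_X-module with graded symmetric algebra 𝒮L =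
⊕_{d≥0} L^{⊗d} (whose relative Proj PL, given with its charts, is identified with X by its structure
morphism), f : X → Y a quasi-compact morphism to an AFFINE scheme Y, 𝒜 a quasi-coherent graded
O_Y-algebra given with a graded f-morphism u : 𝒜 → f_*𝒮L which is bijective on global sections — so
that Γ(Y, 𝒜) is the graded ring S = ⊕_d Γ(X, L^{⊗d}) and P = Proj(𝒜) (given with its charts) is
Proj(S) — and r : G(u) → P the canonical morphism on its open of definition G(u) ⊆ PL. If G(u) is
all of PL (that is, every point of X lies in an open X_s for some homogeneous s ∈ S_+), then r is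
quasi-compact and has dense image. (The published statement forms the homogeneous spectrum of the
graded ring S itself, with no base scheme; any affine Y under X gives the same graded ring, the same
homogeneous spectrum and the same morphism.) -/
theorem result {X Y P PL : Scheme.{u}} [CompactSpace X]
    (f : X ⟶ Y) [QuasiCompact f] (hY : IsAffineOpen (⊤ : Y.Opens))
    (L : X.Modules) (hL : PicF.IsInvertible L) (hLq : Coh.IsQCoh L)
    (𝒮L : RelProj.QCGrAlg X) (jL : L ⟶ 𝒮L.toModule) (hjL : RelProj.IsGrSymAlg L 𝒮L jL)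
    (pL : PL ⟶ X) (chartL : ∀ (U : X.Opens) (hU : IsAffineOpen U), (((pL ⁻¹ᵁ U : PL.Opens) : Scheme.{u}) ≅ Proj (𝒮L.deg U hU)))
    (hPL : RelProj.IsRelProj 𝒮L pL chartL)
    (𝒜 : RelProj.QCGrAlg Y) (u : RelProj.QGrHom f 𝒜 𝒮L)
    (p : P ⟶ Y) (chart : ∀ (U : Y.Opens) (hU : IsAffineOpen U), (((p ⁻¹ᵁ U : P.Opens) : Scheme.{u}) ≅ Proj (𝒜.deg U hU)))
    (hP : RelProj.IsRelProj 𝒜 p chart)
    (r : ((RelProj.domQ u pL chartL : PL.Opens) : Scheme.{u}) ⟶ P)
    (hr : RelProj.IsProjQMapOn u p chart pL chartL (RelProj.domQ u pL chartL) r)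
    (hu : Function.Bijective (u.app ⊤).hom)
    (htop : RelProj.domQ u pL chartL = ⊤) :
    QuasiCompact r ∧ IsDominant r := by
  have hsep : IsSeparated p :=
    Groth.Agent.Lib.RelProj_helper3.of_chart @IsSeparated hP fun U hU => inferInstance
  haveI : IsAffine Y := by
    have h1 : IsAffine ((⊤ : Y.Opens) : Scheme.{u}) := hY
    exact IsAffine.of_isIso (Y.topIso).inv
  haveI : QuasiSeparatedSpace P := quasiSeparatedSpace_of_quasiSeparated p
  haveI : IsIso pL := Groth.Agent.SymInv.isIso_pL L 𝒮L jL hL hjL hPL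
  haveI : IsIso (RelProj.domQ u pL chartL).ι := Groth.Agent.SpecChart.isIso_ι_of_eq_top _ htop
  haveI : CompactSpace ((RelProj.domQ u pL chartL : PL.Opens) : Scheme.{u}) :=
    QuasiCompact.compactSpace_of_compactSpace ((RelProj.domQ u pL chartL).ι ≫ pL)
  refine ⟨inferInstance, ?_⟩
  refine (Groth.Agent.S12146.result f L hL hLq 𝒜 𝒮L jL hjL u p chart hP pL chartL hPL r hr hY).mpr ?_
  intro n hn s hs hloc
  choose V hV hxV hnil using hloc
  choose k hk using hnil
  obtain ⟨t, ht⟩ := isCompact_univ.elim_finite_subcover (fun x : X => ((V x : X.Opens) : Set X))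
    (fun x => (V x).isOpen) (fun x _ => Set.mem_iUnion.mpr ⟨x, hxV x⟩)
  have hN : ∀ x ∈ t, ((u.appLE ⊤ (V x) (le_top.trans (Scheme.Hom.preimage_top f).ge)).hom s) ^
      (t.sup k) = 0 := fun x hx => pow_eq_zero_of_le (Finset.le_sup hx) (hk x)
  have h0 : (u.app ⊤).hom (s ^ t.sup k) = 0 := by
    have h1 := QcqsLoc.eq_of_cover (F := 𝒮L.toModule) (U := f ⁻¹ᵁ ⊤)
      (QCAlgMod.ofB 𝒮L.toQCAlg ((u.app ⊤).hom (s ^ t.sup k))) 0 (fun y hy => by
        obtain ⟨x, hx⟩ := Set.mem_iUnion.mp (ht (Set.mem_univ y))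
        obtain ⟨hxt, hyx⟩ := Set.mem_iUnion.mp hx
        refine ⟨V x, le_top.trans (Scheme.Hom.preimage_top f).ge, hyx, ?_⟩
        have h2 : QcqsLoc.rF 𝒮L.toModule (le_top.trans (Scheme.Hom.preimage_top f).ge :
            V x ≤ f ⁻¹ᵁ ⊤) (QCAlgMod.ofB 𝒮L.toQCAlg ((u.app ⊤).hom (s ^ t.sup k))) =
            QCAlgMod.ofB 𝒮L.toQCAlg
              (((u.appLE ⊤ (V x) (le_top.trans (Scheme.Hom.preimage_top f).ge)).hom s) ^
                (t.sup k)) := by
          rw [← map_pow]
          rfl
        rw [h2, hN x hxt]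
        exact (map_zero _).symm)
    exact h1
  have h3 : s ^ t.sup k = 0 := hu.1 (h0.trans (map_zero _).symm)
  exact ⟨t.sup k, h3⟩

end Groth.Agent.S12692
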