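import Groth.Statements.S12712
import Groth.Agent.Lib.ArtFunSepFib_helper1

set_option autoImplicit false
universe u v
open CategoryTheory
open ArtFun ArtFun.Art

namespace Groth.Agent.S12712

/-- If k is separable over the image of Λ → k, then for any two morphisms f₁ : A₁ → A and f₂ : A₂ → A in
the category of Artinian local Λ-algebras with residue field k the set-theoretic fibre product A₁
×_A A₂ is again an object of the category. -/
theorem result {Λ : Type u} {k : Type u} [CommRing Λ] [Field k] [Algebra Λ k]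
    [IsNoetherianRing Λ] [Module.Finite Λ k]
    [Algebra.IsSeparable (↥(algebraMap Λ k).range) k]
    {A A₁ A₂ : ArtFun.Art Λ k} (f₁ : A₁ ⟶ A) (f₂ : A₂ ⟶ A) :
    ∃ (B : ArtFun.Art Λ k) (p₁ : B ⟶ A₁) (p₂ : B ⟶ A₂), ArtFun.Art.IsFibreProd p₁ p₂ f₁ f₂ := by
  exact ⟨Groth.Agent.Lib.ArtFunH1.sepFibObj f₁ f₂, Groth.Agent.Lib.ArtFunH1.sepFibFst f₁ f₂,
    Groth.Agent.Lib.ArtFunH1.sepFibSnd f₁ f₂, Groth.Agent.Lib.ArtFunH1.isFibreProd_sepFib f₁ f₂⟩

end Groth.Agent.S12712
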