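import Groth.Statements.S12715
import Mathlib
import Groth.Agent.S12731

set_option autoImplicit false
universe u v
open CategoryTheory
open ArtFun

namespace Groth.Agent.S12715

/-- For Λ Noetherian with a finite map to the field k and S a complete local Noetherian Λ-algebra with
residue field k (through a surjective map S → k over Λ), the space of Λ-derivations S → k is
finite-dimensional over k. -/
theorem result {Λ : Type u} {k : Type u} [CommRing Λ] [Field k] [Algebra Λ k]
    [IsNoetherianRing Λ] [Module.Finite Λ k]
    (S : Type u) [CommRing S] [Algebra Λ S] [IsLocalRing S] [IsNoetherianRing S]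
    [IsAdicComplete (IsLocalRing.maximalIdeal S) S] [Algebra S k] [IsScalarTower Λ S k]
    (hres : Function.Surjective (algebraMap S k)) :
    Module.Finite k (Derivation Λ S k) := by
  classical
  let R : CRing Λ k :=
    { carrier := S
      res := IsScalarTower.toAlgHom Λ S k
      res_surjective := by
        intro x
        obtain ⟨s, hs⟩ := hres x
        exact ⟨s, hs⟩
      isAdicComplete := inferInstance }
  obtain ⟨n, g, hg⟩ : ∃ (n : ℕ) (g : Fin n → S), ∀ r : S, ∃ c : Fin n → Λ,
      r - ∑ i, c i • g i ∈ CRing.mpow R 1 := Groth.Agent.S12731.exists_gens R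
  have hres0 : ∀ a : S, a ∈ IsLocalRing.maximalIdeal S → algebraMap S k a = 0 := fun a ha =>
    (CRing.mem_maximalIdeal_iff R a).1 ha
  have hkill : ∀ (D : Derivation Λ S k) (a : S), a ∈ CRing.mpow R 1 → D a = 0 := by
    intro D a ha
    let K : Ideal S :=
      { carrier := {a | algebraMap S k a = 0 ∧ D a = 0}
        add_mem' := by
          intro x y hx hy
          exact ⟨by rw [map_add, hx.1, hy.1, add_zero], by rw [map_add, hx.2, hy.2, add_zero]⟩
        zero_mem' := ⟨map_zero _, map_zero _⟩
        smul_mem' := by
          intro c x hx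
          refine ⟨by rw [smul_eq_mul, map_mul, hx.1, mul_zero], ?_⟩
          rw [smul_eq_mul, Derivation.leibniz, hx.2, smul_zero, zero_add, Algebra.smul_def, hx.1,
            zero_mul] }
    have hle : IsLocalRing.maximalIdeal S * IsLocalRing.maximalIdeal S ≤ K := by
      rw [Ideal.mul_le]
      intro x hx y hy
      refine ⟨by rw [map_mul, hres0 x hx, zero_mul], ?_⟩
      rw [Derivation.leibniz, Algebra.smul_def, Algebra.smul_def, hres0 x hx, hres0 y hy, zero_mul,
        zero_mul, add_zero]
    have ha' : a ∈ IsLocalRing.maximalIdeal S * IsLocalRing.maximalIdeal S := by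
      have h1 : a ∈ IsLocalRing.maximalIdeal S ^ (1 + 1) := ha
      rwa [pow_succ, pow_one] at h1
    exact (hle ha').2
  let Ψ : Derivation Λ S k →ₗ[k] (Fin n → k) :=
    { toFun := fun D i => D (g i)
      map_add' := fun D D' => rfl
      map_smul' := fun c D => rfl }
  have hinj : Function.Injective Ψ := by
    intro D D' h
    have h1 : ∀ i, D (g i) = D' (g i) := fun i => congrFun h i
    apply Derivation.ext
    intro r
    obtain ⟨c, hc⟩ := hg r
    have e1 : ∀ E : Derivation Λ S k, E r = ∑ i, c i • E (g i) := by
      intro E
      have e : r = (r - ∑ i, c i • g i) + ∑ i, c i • g i := by ring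
      calc E r = E ((r - ∑ i, c i • g i) + ∑ i, c i • g i) := by rw [← e]
        _ = ∑ i, c i • E (g i) := by
          rw [map_add, hkill E _ hc, zero_add, map_sum]
          exact Finset.sum_congr rfl (fun i _ => E.map_smul (c i) (g i))
    rw [e1 D, e1 D']
    exact Finset.sum_congr rfl (fun i _ => by rw [h1 i])
  exact Module.Finite.of_injective Ψ hinj

end Groth.Agent.S12715
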