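import Groth.Statements.S12716
import Groth.Agent.Lib.ArtFunTan_helper1

set_option autoImplicit false
universe u v
open CategoryTheory
open ArtFun

namespace Groth.Agent.S12716

/-- Let f : R → S be a morphism of complete local Noetherian Λ-algebras with residue field k (Λ
Noetherian, Λ → k finite). If the restriction map Der_Λ(S, k) → Der_Λ(R, k) is injective — two
Λ-derivations S → k that agree after composing with f are equal — then f is surjective. -/
theorem result {Λ : Type u} {k : Type u} [CommRing Λ] [Field k] [Algebra Λ k]
    [IsNoetherianRing Λ] [Module.Finite Λ k]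
    (R : ArtFun.CRing Λ k)
    (S : Type u) [CommRing S] [Algebra Λ S] [IsLocalRing S] [IsNoetherianRing S]
    [IsAdicComplete (IsLocalRing.maximalIdeal S) S] [Algebra S k] [IsScalarTower Λ S k]
    (hres : Function.Surjective (algebraMap S k))
    (f : R.carrier →ₐ[Λ] S) (hf : (IsScalarTower.toAlgHom Λ S k).comp f = R.res)
    (hinj : ∀ D₁ D₂ : Derivation Λ S k, (∀ r : R.carrier, D₁ (f r) = D₂ (f r)) → D₁ = D₂) :
    Function.Surjective f := by
  open Groth.Agent.Lib.ArtFunH1 in
  let S' : ArtFun.CRing Λ k :=
    { carrier := S
      res := IsScalarTower.toAlgHom Λ S k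
      res_surjective := hres
      isAdicComplete := inferInstance }
  by_contra hns
  obtain ⟨D, hadd, hmul, hDf, x₀, hx₀⟩ := exists_deriv_of_not_surjective R S' f hf hns
  have hmul' : ∀ s t : S, D (s * t) = algebraMap S k s * D t + algebraMap S k t * D s := hmul
  have hDalg : ∀ c : Λ, D (algebraMap Λ S c) = 0 := by
    intro c
    rw [← f.commutes c]
    exact hDf _
  let D' : Derivation Λ S k :=
    { toFun := D
      map_add' := hadd
      map_smul' := by
        intro c s
        rw [Algebra.smul_def, hmul', hDalg, mul_zero, add_zero, RingHom.id_apply,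
          ← IsScalarTower.algebraMap_apply, Algebra.smul_def]
      map_one_eq_zero' := by
        have := hDf 1
        rwa [map_one] at this
      leibniz' := by
        intro a b
        show D (a * b) = a • D b + b • D a
        rw [hmul', Algebra.smul_def, Algebra.smul_def] }
  have h0 : D' = 0 := hinj D' 0 (fun r => by
    show D (f r) = 0
    exact hDf r)
  apply hx₀
  have := congrArg (fun E : Derivation Λ S k => E x₀) h0
  exact this

end Groth.Agent.S12716
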