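import Groth.Statements.S12733
import Groth.Agent.Lib.ArtFunAct_helper1

set_option autoImplicit false
universe u v
open CategoryTheory
open ArtFun

namespace Groth.Agent.S12733

/-- Let F, G be deformation functors on Artinian local Λ-algebras with residue field k (value at k a
point, and condition (RS): the comparison map for A₁ ×_A A₂ is bijective whenever A₂ → A is
surjective). A smooth morphism φ : F → G inducing a bijection on tangent spaces is an isomorphism:
every φ_A is bijective. -/
theorem result {Λ : Type u} {k : Type u} [CommRing Λ] [Field k] [Algebra Λ k]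
    [IsNoetherianRing Λ] [Module.Finite Λ k]
    {F G : ArtFun.Art Λ k ⥤ Type v}
    (hF0 : ArtFun.H0 F) (hF : (∀ ⦃B A A' A'' : ArtFun.Art Λ k⦄ (p' : B ⟶ A') (p'' : B ⟶ A'') (f' : A' ⟶ A) (f'' : A'' ⟶ A)
        (h : ArtFun.Art.IsFibreProd p' p'' f' f''), Function.Surjective f'' → Function.Bijective (ArtFun.cmp F h)))
    (hG0 : ArtFun.H0 G) (hG : (∀ ⦃B A A' A'' : ArtFun.Art Λ k⦄ (p' : B ⟶ A') (p'' : B ⟶ A'') (f' : A' ⟶ A) (f'' : A'' ⟶ A)
        (h : ArtFun.Art.IsFibreProd p' p'' f' f''), Function.Surjective f'' → Function.Bijective (ArtFun.cmp G h)))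
    (φ : F ⟶ G) (hφ : ArtFun.IsSmooth φ) (hd : Function.Bijective (ArtFun.TangentSpace.map φ))
    (A : ArtFun.Art Λ k) : Function.Bijective (φ.app A) := by
  open Groth.Agent.Lib.ArtFunH1 ArtFun.Art in
  constructor
  · -- injectivity, by induction along small extensions
    have key := Groth.Agent.S12707.result (Λ := Λ) (k := k)
      (fun A B f => Function.Injective (φ.app A) → Function.Injective (φ.app B))
      (by
        intro A B e he hA x y hxy
        have h1 : φ.app A (F.map e x) = φ.app A (F.map e y) := by
          rw [NatTrans.naturality_apply, NatTrans.naturality_apply, hxy]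
        have h2 := congrArg (F.map (inv e)) (hA h1)
        rwa [← map_comp_apply, ← map_comp_apply, IsIso.hom_inv_id, map_id_apply, map_id_apply] at h2)
      (by
        intro A A'' f hf hA x y hxy
        obtain ⟨B, p₁, p₂, α, s, hsq1, hsq2, hs1, hs2, hs3⟩ := exists_action_square f hf
        have hfxy : F.map f x = F.map f y := by
          apply hA
          rw [NatTrans.naturality_apply, NatTrans.naturality_apply, hxy]
        obtain ⟨ζ, hζ1, hζ2⟩ := (cmp_surjective_iff hsq2).1 (hF p₁ α f f hsq2 hf.1).2 x y hfxy
        have e1 : φ.app B ζ = G.map s (φ.app A'' x) := by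
          apply (cmp_injective_iff hsq2).1 (hG p₁ α f f hsq2 hf.1).1
          · rw [← NatTrans.naturality_apply, hζ1, ← map_comp_apply, hs1, map_id_apply]
          · rw [← NatTrans.naturality_apply, hζ2, ← map_comp_apply, hs2, map_id_apply, hxy]
        have e2 : F.map p₂ ζ = F.map p₂ (F.map s x) := by
          apply hd.1
          show φ.app _ (F.map p₂ ζ) = φ.app _ (F.map p₂ (F.map s x))
          rw [NatTrans.naturality_apply, NatTrans.naturality_apply, NatTrans.naturality_apply, e1]
        have e3 : ζ = F.map s x := by
          apply (cmp_injective_iff hsq1).1 (hF p₁ p₂ _ _ hsq1 (dual Λ k).res_surjective).1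
          · rw [hζ1, ← map_comp_apply, hs1, map_id_apply]
          · exact e2
        rw [← hζ2, e3, ← map_comp_apply, hs2, map_id_apply])
      (by
        intro A B C p q hp hq hA
        exact hp (hq hA))
      (toBase A) A.res_surjective
    apply key
    intro x y _
    exact hF0.2.elim _ _
  · apply surjective_app_of_isSmooth φ hφ
    intro g
    obtain ⟨x₀⟩ := hF0.1
    exact ⟨x₀, hG0.2.elim _ _⟩

end Groth.Agent.S12733
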