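import Groth.Statements.S12735
import Groth.Agent.Lib.ArtFunTan_helper1
import Groth.Agent.S12758

set_option autoImplicit false
universe u v
open CategoryTheory
open ArtFun

namespace Groth.Agent.S12735

/-- Let U be a prorepresentable functor on Artinian local Λ-algebras with residue field k and φ : U → U
an endomorphism of functors which is bijective on the tangent space U(k[ε]). Then φ is an
isomorphism: every component is bijective. -/
theorem result {Λ : Type u} {k : Type u} [CommRing Λ] [Field k] [Algebra Λ k]
    [IsNoetherianRing Λ] [Module.Finite Λ k]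
    {U : ArtFun.Art Λ k ⥤ Type v} (hU : ArtFun.IsProrepresentable U)
    (φ : U ⟶ U) (hd : Function.Bijective (ArtFun.TangentSpace.map φ)) (A : ArtFun.Art Λ k) :
    Function.Bijective (φ.app A) := by
  open Groth.Agent.Lib.ArtFunH1 in
  obtain ⟨P⟩ := hU
  have huniv := P.universal
  have h0 : ArtFun.H0 U := h0_of_surjective P.family (huniv _).2
  have hvers : ArtFun.IsVersal P.family := by
    intro B A' μ hμ φ₀ y hy
    obtain ⟨ψ, hψ⟩ := (huniv B).2 y
    refine ⟨ψ, ?_, hψ⟩
    apply (huniv A').1
    rw [P.family.natural, hψ, hy]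
  obtain ⟨g, hg, hgE⟩ := Groth.Agent.S12720.result h0 P.ring P.family hvers P.ring
    (P.family.push φ).toFormalElt
  have hkey : ∀ (A : ArtFun.Art Λ k) (u : ArtFun.HomSet P.ring.carrier P.ring.res A),
      (P.family.along g hg).app A u = φ.app A (P.family.app A u) := fun A u =>
    family_app_eq_of_toFormalElt_eq P.ring (P.family.along g hg) (P.family.push φ) hgE A u
  have hgs : Function.Surjective g := by
    by_contra hns
    obtain ⟨τ₁, τ₂, hne, hcomp⟩ := exists_homSet_ne_of_not_surjective P.ring P.ring g hg hns
    apply hne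
    apply (huniv _).1
    apply hd.1
    show φ.app _ (P.family.app _ τ₁) = φ.app _ (P.family.app _ τ₂)
    rw [← hkey, ← hkey]
    show P.family.app _ _ = P.family.app _ _
    congr 1
    exact Subtype.ext hcomp
  have hgi : Function.Injective g :=
    Groth.Agent.S12758.injective_of_surjective_ringEnd (g : P.ring.carrier →+* P.ring.carrier) hgs
  constructor
  · intro x y hxy
    obtain ⟨u, rfl⟩ := (huniv A).2 x
    obtain ⟨v, rfl⟩ := (huniv A).2 y
    rw [← hkey, ← hkey] at hxy
    have h1 := (huniv A).1 hxy
    congr 1
    apply Subtype.ext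
    apply AlgHom.ext
    intro r
    obtain ⟨r', rfl⟩ := hgs r
    exact AlgHom.congr_fun (congrArg Subtype.val h1) r'
  · intro y
    obtain ⟨v, rfl⟩ := (huniv A).2 y
    let e : P.ring.carrier ≃ₐ[Λ] P.ring.carrier := AlgEquiv.ofBijective g ⟨hgi, hgs⟩
    have he : ∀ r, e.symm (g r) = r := fun r => e.symm_apply_apply r
    have hres : ∀ r, P.ring.res (e.symm r) = P.ring.res r := by
      intro r
      obtain ⟨r', rfl⟩ := hgs r
      rw [he]
      exact (AlgHom.congr_fun hg r').symm
    let u : ArtFun.HomSet P.ring.carrier P.ring.res A :=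
      ⟨v.1.comp (e.symm : P.ring.carrier →ₐ[Λ] P.ring.carrier), by
        apply AlgHom.ext
        intro r
        show A.res (v.1 (e.symm r)) = P.ring.res r
        rw [← hres r]
        exact AlgHom.congr_fun v.2 (e.symm r)⟩
    refine ⟨P.family.app A u, ?_⟩
    rw [← hkey]
    show P.family.app _ _ = P.family.app _ _
    congr 1
    apply Subtype.ext
    apply AlgHom.ext
    intro r
    show v.1 (e.symm (g r)) = v.1 r
    rw [he]

end Groth.Agent.S12735
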