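import Groth.Statements.S12742
import Groth.Agent.Lib.ArtFunAct_helper1

set_option autoImplicit false
universe u v
open CategoryTheory
open ArtFun

namespace Groth.Agent.S12742

/-- For functors, a morphism f : F → G of deformation functors on Artinian local Λ-algebras with residue
field k (values at k a point, condition (RS) for both) is smooth if and only if (1) it is surjective
on tangent spaces and (2) for every small extension A' → A and every x ∈ F(A) whose image in G(A)
lifts to G(A'), x lifts to F(A'). -/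
theorem result {Λ : Type u} {k : Type u} [CommRing Λ] [Field k] [Algebra Λ k]
    [IsNoetherianRing Λ] [Module.Finite Λ k]
    {F G : ArtFun.Art Λ k ⥤ Type v}
    (hF0 : ArtFun.H0 F) (hF : (∀ ⦃B A A' A'' : ArtFun.Art Λ k⦄ (p' : B ⟶ A') (p'' : B ⟶ A'') (f' : A' ⟶ A) (f'' : A'' ⟶ A)
        (h : ArtFun.Art.IsFibreProd p' p'' f' f''), Function.Surjective f'' → Function.Bijective (ArtFun.cmp F h)))
    (hG0 : ArtFun.H0 G) (hG : (∀ ⦃B A A' A'' : ArtFun.Art Λ k⦄ (p' : B ⟶ A') (p'' : B ⟶ A'') (f' : A' ⟶ A) (f'' : A'' ⟶ A)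
        (h : ArtFun.Art.IsFibreProd p' p'' f' f''), Function.Surjective f'' → Function.Bijective (ArtFun.cmp G h)))
    (f : F ⟶ G) :
    ArtFun.IsSmooth f ↔
      (Function.Surjective (ArtFun.TangentSpace.map f) ∧
        ∀ ⦃A' A : ArtFun.Art Λ k⦄ (μ : A' ⟶ A), ArtFun.Art.IsSmallExt μ → ∀ x : F.obj A,
          (∃ y' : G.obj A', G.map μ y' = f.app A x) → ∃ x' : F.obj A', F.map μ x' = x) := by
  open Groth.Agent.Lib.ArtFunH1 ArtFun.Art in
  constructor
  · intro hs
    rw [isSmooth_iff_lift] at hs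
    refine ⟨?_, ?_⟩
    · intro g
      obtain ⟨x₀⟩ := hF0.1
      obtain ⟨z, -, hz⟩ := hs (toBase (dual Λ k)) (dual Λ k).res_surjective x₀ g (hG0.2.elim _ _)
      exact ⟨z, hz⟩
    · intro A' A μ hμ x ⟨y', hy'⟩
      obtain ⟨z, hz, -⟩ := hs μ hμ.1 x y' hy'.symm
      exact ⟨z, hz⟩
  · rintro ⟨ht, hl⟩
    intro B A μ hμ
    refine Groth.Agent.S12707.result (Λ := Λ) (k := k)
      (fun A B μ => Function.Surjective (ArtFun.relCmp f μ)) ?_ ?_ ?_ μ hμ
    · intro A B e he
      rw [relCmp_surjective_iff]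
      intro x g hxg
      refine ⟨F.map (inv e) x, ?_, ?_⟩
      · rw [← map_comp_apply, IsIso.inv_hom_id, map_id_apply]
      · rw [NatTrans.naturality_apply, hxg, ← map_comp_apply, IsIso.hom_inv_id, map_id_apply]
    · intro A A' μ hμ
      rw [relCmp_surjective_iff]
      intro x g hxg
      obtain ⟨x', hx'⟩ := hl μ hμ x ⟨g, hxg.symm⟩
      obtain ⟨B, p₁, p₂, α, s, hsq1, hsq2, hs1, hs2, hs3⟩ := exists_action_square μ hμ
      have hGx : G.map μ (f.app A' x') = G.map μ g := by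
        rw [← NatTrans.naturality_apply, hx', hxg]
      obtain ⟨γ, hγ1, hγ2⟩ := (cmp_surjective_iff hsq2).1 (hG p₁ α μ μ hsq2 hμ.1).2 _ _ hGx
      obtain ⟨w, hw⟩ := ht (G.map p₂ γ)
      obtain ⟨ζ, hζ1, hζ2⟩ := (cmp_surjective_iff hsq1).1
        (hF p₁ p₂ _ _ hsq1 (dual Λ k).res_surjective).2 x' w (hF0.2.elim _ _)
      have hφζ : f.app B ζ = γ := by
        apply (cmp_injective_iff hsq1).1 (hG p₁ p₂ _ _ hsq1 (dual Λ k).res_surjective).1
        · rw [← NatTrans.naturality_apply, hζ1, hγ1]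
        · rw [← NatTrans.naturality_apply, hζ2]
          exact hw
      refine ⟨F.map α ζ, ?_, ?_⟩
      · rw [← map_comp_apply, ← hsq2.w, map_comp_apply, hζ1, hx']
      · rw [NatTrans.naturality_apply, hφζ, hγ2]
    · intro A B C p q hp hq
      rw [relCmp_surjective_iff] at hp hq ⊢
      intro x g hxg
      rw [map_comp_apply] at hxg
      obtain ⟨z₁, hz1, hz2⟩ := hq x (G.map p g) hxg
      obtain ⟨z, hz3, hz4⟩ := hp z₁ g hz2
      exact ⟨z, by rw [map_comp_apply, hz3, hz1], hz4⟩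

end Groth.Agent.S12742
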