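import Groth.Statements.S12744
import Mathlib.Tactic
import Groth.Agent.Lib.ArtFun_helper1

set_option autoImplicit false
universe u v
open CategoryTheory
open ArtFun

namespace Groth.Agent.S12744

/-- For functors, if η : F → G is a smooth morphism of functors on Artinian local Λ-algebras with
residue field k and F(k) → G(k) is surjective, then for every complete local Noetherian R with
residue field k the induced map on formal elements over R (compatible systems of elements over the
truncations R/m^(n+1)) is surjective. -/
theorem result {Λ : Type u} {k : Type u} [CommRing Λ] [Field k] [Algebra Λ k]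
    [IsNoetherianRing Λ] [Module.Finite Λ k]
    {F G : ArtFun.Art Λ k ⥤ Type v} (η : F ⟶ G) (hη : ArtFun.IsSmooth η)
    (h0 : Function.Surjective (η.app (ArtFun.Art.base Λ k))) (R : ArtFun.CRing Λ k) :
    Function.Surjective (fun u : ArtFun.FormalElt F R => u.map η) := by
  have hη' := (Groth.Agent.Lib.ArtFunH1.isSmooth_iff_lift η).1 hη
  have hsurjall := Groth.Agent.Lib.ArtFunH1.surjective_app_of_isSmooth η hη h0
  intro v
  have htm : ∀ n, Function.Surjective (R.truncMap n) := by
    intro n y
    obtain ⟨a, rfl⟩ := Ideal.Quotient.mk_surjective y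
    exact ⟨Ideal.Quotient.mk _ a, rfl⟩
  -- recursive construction
  let seq : ∀ n : ℕ, {x : F.obj (R.trunc n) // η.app _ x = v.elt n} := fun n =>
    Nat.rec (motive := fun n => {x : F.obj (R.trunc n) // η.app _ x = v.elt n})
      ⟨(hsurjall (R.trunc 0) (v.elt 0)).choose, (hsurjall (R.trunc 0) (v.elt 0)).choose_spec⟩
      (fun n prev =>
        let hz := hη' (R.truncMap n) (htm n) prev.1 (v.elt (n + 1))
          (by rw [prev.2, v.compat])
        ⟨hz.choose, hz.choose_spec.2⟩) n
  have hseq : ∀ n, F.map (R.truncMap n) (seq (n + 1)).1 = (seq n).1 := by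
    intro n
    exact (hη' (R.truncMap n) (htm n) (seq n).1 (v.elt (n + 1))
          (by rw [(seq n).2, v.compat])).choose_spec.1
  refine ⟨⟨fun n => (seq n).1, hseq⟩, ?_⟩
  apply ArtFun.FormalElt.ext'
  intro n
  exact (seq n).2

end Groth.Agent.S12744
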