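import Groth.Statements.S12746
import Groth.Agent.Lib.ArtFunInd_helper1
import Groth.Agent.Lib.FunctorPullback_helper1

set_option autoImplicit false
universe u v
open CategoryTheory
open ArtFun

namespace Groth.Agent.S12746

/-- For functors, if F, G, H are functors on Artinian local Λ-algebras with residue field k satisfying
(RS) and f : H → F, g : G → F are morphisms, then the fibre product functor H ×_F G satisfies (RS). -/
theorem result {Λ : Type u} {k : Type u} [CommRing Λ] [Field k] [Algebra Λ k]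
    [IsNoetherianRing Λ] [Module.Finite Λ k]
    {F G H : ArtFun.Art Λ k ⥤ Type v} (f : H ⟶ F) (g : G ⟶ F)
    (hF : (∀ ⦃B A A' A'' : ArtFun.Art Λ k⦄ (p' : B ⟶ A') (p'' : B ⟶ A'') (f' : A' ⟶ A) (f'' : A'' ⟶ A)
        (h : ArtFun.Art.IsFibreProd p' p'' f' f''), Function.Surjective f'' → Function.Bijective (ArtFun.cmp F h))) (hG : (∀ ⦃B A A' A'' : ArtFun.Art Λ k⦄ (p' : B ⟶ A') (p'' : B ⟶ A'') (f' : A' ⟶ A) (f'' : A'' ⟶ A)
        (h : ArtFun.Art.IsFibreProd p' p'' f' f''), Function.Surjective f'' → Function.Bijective (ArtFun.cmp G h))) (hH : (∀ ⦃B A A' A'' : ArtFun.Art Λ k⦄ (p' : B ⟶ A') (p'' : B ⟶ A'') (f' : A' ⟶ A) (f'' : A'' ⟶ A)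
        (h : ArtFun.Art.IsFibreProd p' p'' f' f''), Function.Surjective f'' → Function.Bijective (ArtFun.cmp H h))) :
    (∀ ⦃B A A' A'' : ArtFun.Art Λ k⦄ (p' : B ⟶ A') (p'' : B ⟶ A'') (f' : A' ⟶ A) (f'' : A'' ⟶ A)
        (h : ArtFun.Art.IsFibreProd p' p'' f' f''), Function.Surjective f'' → Function.Bijective (ArtFun.cmp (CategoryTheory.Limits.pullback f g) h)) := by
  open Groth.Agent.Lib.ArtFunH1 Groth.Agent.Lib.FunctorPullbackH1 CategoryTheory.Limits in
  intro B A A' A'' p' p'' f' f'' hsq hs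
  have nat1 : ∀ {X Y : ArtFun.Art Λ k} (μ : X ⟶ Y) (z : (pullback f g).obj X),
      (pullback.fst f g).app Y ((pullback f g).map μ z) = H.map μ ((pullback.fst f g).app X z) :=
    fun μ z => NatTrans.naturality_apply (pullback.fst f g) μ z
  have nat2 : ∀ {X Y : ArtFun.Art Λ k} (μ : X ⟶ Y) (z : (pullback f g).obj X),
      (pullback.snd f g).app Y ((pullback f g).map μ z) = G.map μ ((pullback.snd f g).app X z) :=
    fun μ z => NatTrans.naturality_apply (pullback.snd f g) μ z
  constructor
  · rw [cmp_injective_iff]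
    intro z w h1 h2
    apply pullback_obj_ext
    · apply (cmp_injective_iff hsq).1 (hH p' p'' f' f'' hsq hs).1
      · rw [← nat1, ← nat1, h1]
      · rw [← nat1, ← nat1, h2]
    · apply (cmp_injective_iff hsq).1 (hG p' p'' f' f'' hsq hs).1
      · rw [← nat2, ← nat2, h1]
      · rw [← nat2, ← nat2, h2]
  · rw [cmp_surjective_iff]
    intro x' x'' hx
    obtain ⟨a, ha1, ha2⟩ := (cmp_surjective_iff hsq).1 (hH p' p'' f' f'' hsq hs).2
      ((pullback.fst f g).app _ x') ((pullback.fst f g).app _ x'') (by rw [← nat1, ← nat1, hx])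
    obtain ⟨b, hb1, hb2⟩ := (cmp_surjective_iff hsq).1 (hG p' p'' f' f'' hsq hs).2
      ((pullback.snd f g).app _ x') ((pullback.snd f g).app _ x'') (by rw [← nat2, ← nat2, hx])
    have hab : f.app B a = g.app B b := by
      apply (cmp_injective_iff hsq).1 (hF p' p'' f' f'' hsq hs).1
      · rw [← NatTrans.naturality_apply f, ← NatTrans.naturality_apply g, ha1, hb1]
        exact pullback_condition_app f g _ x'
      · rw [← NatTrans.naturality_apply f, ← NatTrans.naturality_apply g, ha2, hb2]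
        exact pullback_condition_app f g _ x''
    obtain ⟨z, hz1, hz2⟩ := pullback_obj_exists f g B a b hab
    refine ⟨z, ?_, ?_⟩
    · apply pullback_obj_ext
      · rw [nat1, hz1, ha1]
      · rw [nat2, hz2, hb1]
    · apply pullback_obj_ext
      · rw [nat1, hz1, ha2]
      · rw [nat2, hz2, hb2]

end Groth.Agent.S12746
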