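import Groth.Statements.S12747
import Groth.Agent.Lib.ArtFunAct_helper1
import Groth.Agent.Lib.FunctorPullback_helper1

set_option autoImplicit false
universe u v
open CategoryTheory
open ArtFun

namespace Groth.Agent.S12747

open Groth.Agent.Lib.ArtFunH1 ArtFun.Art in
theorem key {Λ : Type u} {k : Type u} [CommRing Λ] [Field k] [Algebra Λ k]
    [IsNoetherianRing Λ] [Module.Finite Λ k]
    {F G : ArtFun.Art Λ k ⥤ Type v} (q : G ⟶ F)
    (hF : (∀ ⦃B A A' A'' : ArtFun.Art Λ k⦄ (p' : B ⟶ A') (p'' : B ⟶ A'') (f' : A' ⟶ A) (f'' : A'' ⟶ A)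
        (h : ArtFun.Art.IsFibreProd p' p'' f' f''), Function.Surjective f'' → Function.Bijective (ArtFun.cmp F h)))
    (hG : (∀ ⦃B A A' A'' : ArtFun.Art Λ k⦄ (p' : B ⟶ A') (p'' : B ⟶ A'') (f' : A' ⟶ A) (f'' : A'' ⟶ A)
        (h : ArtFun.Art.IsFibreProd p' p'' f' f''), Function.Surjective f'' → Function.Bijective (ArtFun.cmp G h)))
    (hq : Function.Injective (ArtFun.TangentSpace.map q))
    ⦃A B : ArtFun.Art Λ k⦄ (μ : B ⟶ A) (hμ : Function.Surjective μ) :
    ∀ a b : G.obj B, q.app B a = q.app B b → G.map μ a = G.map μ b → a = b := by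
  refine Groth.Agent.S12707.result (Λ := Λ) (k := k)
    (fun A B μ => ∀ a b : G.obj B, q.app B a = q.app B b → G.map μ a = G.map μ b → a = b)
    ?_ ?_ ?_ μ hμ
  · intro A B e he a b _ hab
    have h2 := congrArg (G.map (inv e)) hab
    rwa [← map_comp_apply, ← map_comp_apply, IsIso.hom_inv_id, map_id_apply, map_id_apply] at h2
  · intro A B μ hμ a b hqab hab
    obtain ⟨C, p₁, p₂, α, s, hsq1, hsq2, hs1, hs2, hs3⟩ := exists_action_square μ hμ
    obtain ⟨ζ, hζ1, hζ2⟩ := (cmp_surjective_iff hsq2).1 (hG p₁ α μ μ hsq2 hμ.1).2 a b hab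
    have e1 : q.app C ζ = F.map s (q.app B a) := by
      apply (cmp_injective_iff hsq2).1 (hF p₁ α μ μ hsq2 hμ.1).1
      · rw [← NatTrans.naturality_apply, hζ1, ← map_comp_apply, hs1, map_id_apply]
      · rw [← NatTrans.naturality_apply, hζ2, ← map_comp_apply, hs2, map_id_apply, hqab]
    have e2 : G.map p₂ ζ = G.map p₂ (G.map s a) := by
      apply hq
      show q.app _ (G.map p₂ ζ) = q.app _ (G.map p₂ (G.map s a))
      rw [NatTrans.naturality_apply, NatTrans.naturality_apply, NatTrans.naturality_apply, e1]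
    have e3 : ζ = G.map s a := by
      apply (cmp_injective_iff hsq1).1 (hG p₁ p₂ _ _ hsq1 (dual Λ k).res_surjective).1
      · rw [hζ1, ← map_comp_apply, hs1, map_id_apply]
      · exact e2
    rw [← hζ2, e3, ← map_comp_apply, hs2, map_id_apply]
  · intro A B C p r hp hr a b hqab hab
    rw [map_comp_apply, map_comp_apply] at hab
    apply hp a b hqab
    apply hr _ _ _ hab
    rw [NatTrans.naturality_apply, NatTrans.naturality_apply, hqab]


/-- For functors, let H₁ → G, H₂ → G and q : G → F be morphisms of functors on Artinian local Λ-algebras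
with residue field k where F and G are deformation functors (value at k a point, condition (RS)) and
q is injective on tangent spaces. Then the induced morphism H₁ ×_G H₂ → H₁ ×_F H₂ is smooth. (The
published statement also assumes that infinitesimal automorphisms of G map onto those of F; for
functors that condition is empty.) -/
theorem result {Λ : Type u} {k : Type u} [CommRing Λ] [Field k] [Algebra Λ k]
    [IsNoetherianRing Λ] [Module.Finite Λ k]
    {F G H₁ H₂ : ArtFun.Art Λ k ⥤ Type v} (p₁ : H₁ ⟶ G) (p₂ : H₂ ⟶ G) (q : G ⟶ F)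
    (hF0 : ArtFun.H0 F) (hF : (∀ ⦃B A A' A'' : ArtFun.Art Λ k⦄ (p' : B ⟶ A') (p'' : B ⟶ A'') (f' : A' ⟶ A) (f'' : A'' ⟶ A)
        (h : ArtFun.Art.IsFibreProd p' p'' f' f''), Function.Surjective f'' → Function.Bijective (ArtFun.cmp F h)))
    (hG0 : ArtFun.H0 G) (hG : (∀ ⦃B A A' A'' : ArtFun.Art Λ k⦄ (p' : B ⟶ A') (p'' : B ⟶ A'') (f' : A' ⟶ A) (f'' : A'' ⟶ A)
        (h : ArtFun.Art.IsFibreProd p' p'' f' f''), Function.Surjective f'' → Function.Bijective (ArtFun.cmp G h)))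
    (hq : Function.Injective (ArtFun.TangentSpace.map q)) :
    ArtFun.IsSmooth (CategoryTheory.Limits.pullback.map p₁ p₂ (p₁ ≫ q) (p₂ ≫ q) (𝟙 H₁) (𝟙 H₂) q
      (CategoryTheory.Category.id_comp _).symm (CategoryTheory.Category.id_comp _).symm) := by
  open Groth.Agent.Lib.ArtFunH1 Groth.Agent.Lib.FunctorPullbackH1 CategoryTheory.Limits in
  rw [isSmooth_iff_lift]
  intro B A μ hμ x y hxy
  set Φ := pullback.map p₁ p₂ (p₁ ≫ q) (p₂ ≫ q) (𝟙 H₁) (𝟙 H₂) q
      (CategoryTheory.Category.id_comp _).symm (CategoryTheory.Category.id_comp _).symm with hΦ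
  have hΦ1 : ∀ (X : ArtFun.Art Λ k) (z : (pullback p₁ p₂).obj X),
      (pullback.fst (p₁ ≫ q) (p₂ ≫ q)).app X (Φ.app X z) = (pullback.fst p₁ p₂).app X z := by
    intro X z
    have : Φ ≫ pullback.fst (p₁ ≫ q) (p₂ ≫ q) = pullback.fst p₁ p₂ ≫ 𝟙 H₁ := pullback.lift_fst _ _ _
    rw [Category.comp_id] at this
    exact congrArg (fun η : pullback p₁ p₂ ⟶ H₁ => η.app X z) this
  have hΦ2 : ∀ (X : ArtFun.Art Λ k) (z : (pullback p₁ p₂).obj X),
      (pullback.snd (p₁ ≫ q) (p₂ ≫ q)).app X (Φ.app X z) = (pullback.snd p₁ p₂).app X z := by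
    intro X z
    have : Φ ≫ pullback.snd (p₁ ≫ q) (p₂ ≫ q) = pullback.snd p₁ p₂ ≫ 𝟙 H₂ := pullback.lift_snd _ _ _
    rw [Category.comp_id] at this
    exact congrArg (fun η : pullback p₁ p₂ ⟶ H₂ => η.app X z) this
  have hy1 : H₁.map μ ((pullback.fst (p₁ ≫ q) (p₂ ≫ q)).app B y) = (pullback.fst p₁ p₂).app A x := by
    rw [← NatTrans.naturality_apply, ← hxy, hΦ1]
  have hy2 : H₂.map μ ((pullback.snd (p₁ ≫ q) (p₂ ≫ q)).app B y) = (pullback.snd p₁ p₂).app A x := by
    rw [← NatTrans.naturality_apply, ← hxy, hΦ2]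
  have hab : p₁.app B ((pullback.fst (p₁ ≫ q) (p₂ ≫ q)).app B y) =
      p₂.app B ((pullback.snd (p₁ ≫ q) (p₂ ≫ q)).app B y) := by
    apply key q hF hG hq μ hμ
    · exact pullback_condition_app (p₁ ≫ q) (p₂ ≫ q) B y
    · rw [← NatTrans.naturality_apply p₁, ← NatTrans.naturality_apply p₂, hy1, hy2]
      exact pullback_condition_app p₁ p₂ A x
  obtain ⟨z, hz1, hz2⟩ := pullback_obj_exists p₁ p₂ B _ _ hab
  refine ⟨z, ?_, ?_⟩
  · apply pullback_obj_ext
    · rw [NatTrans.naturality_apply, hz1, hy1]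
    · rw [NatTrans.naturality_apply, hz2, hy2]
  · apply pullback_obj_ext
    · rw [hΦ1, hz1]
    · rw [hΦ2, hz2]

end Groth.Agent.S12747
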