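import Groth.Statements.S12748
import Groth.Agent.Lib.PSComplete_helper1
import Groth.Agent.S12714

set_option autoImplicit false
universe u v
open CategoryTheory
open ArtFun ArtFun.CRing

namespace Groth.Agent.S12748

/-- Let R' → R be a morphism of complete local Noetherian Λ-algebras with residue field k with an
R'-algebra retraction ρ : R → R', so that R = R' ⊕ I for the ideal I = ker ρ; let x₁, …, x_r ∈ I map
to a basis of I/m_R I and let φ : R'[[X₁, …, X_r]] → R be an R'-algebra map sending X_i to x_i. If
for all large n the induced map R'[[X]]/m^n → R/m_R^n has a left inverse — a Λ-algebra map g_n : R →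
R'[[X]]/m^n with g_n ∘ φ equal to the quotient map — then φ is an isomorphism. -/
theorem result {Λ : Type u} {k : Type u} [CommRing Λ] [Field k] [Algebra Λ k]
    [IsNoetherianRing Λ] [Module.Finite Λ k]
    (R' R : ArtFun.CRing Λ k) [Algebra R'.carrier R.carrier] [IsScalarTower Λ R'.carrier R.carrier]
    (hc : R.res.comp (IsScalarTower.toAlgHom Λ R'.carrier R.carrier) = R'.res)
    (ρ : R.carrier →ₐ[R'.carrier] R'.carrier)
    (r : ℕ) (x : Fin r → R.carrier) (hxI : ∀ i, ρ (x i) = 0)
    (hspan : Ideal.span (Set.range x) ⊔ IsLocalRing.maximalIdeal R.carrier * RingHom.ker ρ = RingHom.ker ρ)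
    (hli : ∀ c : Fin r → R.carrier, (∑ i, c i * x i) ∈ IsLocalRing.maximalIdeal R.carrier * RingHom.ker ρ →
      ∀ i, c i ∈ IsLocalRing.maximalIdeal R.carrier)
    (φ : MvPowerSeries (Fin r) R'.carrier →ₐ[R'.carrier] R.carrier) (hφ : ∀ i, φ (MvPowerSeries.X i) = x i)
    (hinv : ∃ N : ℕ, ∀ n, N ≤ n →
      ∃ g : R.carrier →ₐ[Λ] (MvPowerSeries (Fin r) R'.carrier ⧸
          IsLocalRing.maximalIdeal (MvPowerSeries (Fin r) R'.carrier) ^ n),
        ∀ s, g (φ s) = Ideal.Quotient.mk _ s) :
    Function.Bijective φ := by
  open Groth.Agent.Lib.PSCompleteH1 Groth.Agent.Lib.PSEvalH1 MvPowerSeries in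
  constructor
  · obtain ⟨N, hN⟩ := hinv
    rw [injective_iff_map_eq_zero]
    intro s hs
    have hmem : ∀ n, s ∈ IsLocalRing.maximalIdeal (MvPowerSeries (Fin r) R'.carrier) ^ n := by
      intro n
      obtain ⟨g, hg⟩ := hN (max n N) (le_max_right _ _)
      have h1 := hg s
      rw [hs, map_zero] at h1
      have h2 : s ∈ IsLocalRing.maximalIdeal (MvPowerSeries (Fin r) R'.carrier) ^ (max n N) :=
        Ideal.Quotient.eq_zero_iff_mem.1 h1.symm
      exact Ideal.pow_le_pow_right (le_max_left _ _) h2
    have hbot := Ideal.iInf_pow_eq_bot_of_isLocalRing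
      (IsLocalRing.maximalIdeal (MvPowerSeries (Fin r) R'.carrier))
      (IsLocalRing.maximalIdeal.isMaximal _).ne_top
    have hs' : s ∈ (⨅ i, IsLocalRing.maximalIdeal (MvPowerSeries (Fin r) R'.carrier) ^ i) := by
      rw [Ideal.mem_iInf]
      exact hmem
    rw [hbot] at hs'
    exact (Ideal.mem_bot).1 hs'
  · let P : ArtFun.CRing Λ k := psCRing R' r
    let φ' : P.carrier →ₐ[Λ] R.carrier := φ.restrictScalars Λ
    have hkerρ : RingHom.ker ρ ≤ IsLocalRing.maximalIdeal R.carrier := by
      apply IsLocalRing.le_maximalIdeal
      intro h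
      have h1 : (1 : R.carrier) ∈ RingHom.ker ρ := by
        rw [h]
        trivial
      rw [RingHom.mem_ker, map_one] at h1
      exact one_ne_zero h1
    have hresx : ∀ a, a ∈ RingHom.ker ρ → R.res a = 0 := fun a ha =>
      (ArtFun.CRing.mem_maximalIdeal_iff R a).1 (hkerρ ha)
    have hresalg : ∀ c : R'.carrier, R.res (algebraMap R'.carrier R.carrier c) = R'.res c :=
      fun c => AlgHom.congr_fun hc c
    have hf : R.res.comp φ' = P.res := by
      letI : Algebra R'.carrier k := R'.res.toRingHom.toAlgebra
      let ε₁ : MvPowerSeries (Fin r) R'.carrier →ₐ[R'.carrier] k :=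
        { toRingHom := (R.res : R.carrier →+* k).comp
            (φ : MvPowerSeries (Fin r) R'.carrier →+* R.carrier)
          commutes' := fun c => by
            show R.res (φ (algebraMap R'.carrier _ c)) = R'.res c
            rw [AlgHom.commutes, hresalg] }
      let ε₂ : MvPowerSeries (Fin r) R'.carrier →ₐ[R'.carrier] k :=
        { toRingHom := (R'.res : R'.carrier →+* k).comp constantCoeff
          commutes' := fun c => by
            show R'.res (constantCoeff
              (algebraMap R'.carrier (MvPowerSeries (Fin r) R'.carrier) c)) = R'.res c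
            rw [← MvPowerSeries.c_eq_algebraMap, constantCoeff_C] }
      have h12 : ε₁ = ε₂ := by
        apply algHom_ext_of_nilpotent
        · intro i
          show R.res (φ (X i)) = R'.res (constantCoeff (X i))
          rw [hφ, constantCoeff_X, map_zero]
          exact hresx _ (RingHom.mem_ker.2 (hxI i))
        · intro i
          show IsNilpotent (R.res (φ (X i)))
          rw [hφ, hresx _ (RingHom.mem_ker.2 (hxI i))]
          exact IsNilpotent.zero
      apply AlgHom.ext
      intro s
      exact AlgHom.congr_fun h12 s
    have hmap : Ideal.map φ' (IsLocalRing.maximalIdeal P.carrier) ⊔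
        IsLocalRing.maximalIdeal R.carrier ^ 2 = IsLocalRing.maximalIdeal R.carrier := by
      apply le_antisymm
      · refine sup_le ?_ (Ideal.pow_le_self two_ne_zero)
        rw [Ideal.map_le_iff_le_comap]
        intro s hs
        rw [Ideal.mem_comap, ArtFun.CRing.mem_maximalIdeal_iff]
        have h1 : R.res (φ' s) = P.res s := AlgHom.congr_fun hf s
        rw [h1]
        exact (ArtFun.CRing.mem_maximalIdeal_iff P s).1 hs
      · intro a ha
        have ha0 : R.res a = 0 := (ArtFun.CRing.mem_maximalIdeal_iff R a).1 ha
        have hker : a - algebraMap R'.carrier R.carrier (ρ a) ∈ RingHom.ker ρ := by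
          rw [RingHom.mem_ker, map_sub, AlgHom.commutes]
          exact sub_self (ρ a)
        have hρm : ρ a ∈ IsLocalRing.maximalIdeal R'.carrier := by
          rw [ArtFun.CRing.mem_maximalIdeal_iff, ← hresalg]
          have e : algebraMap R'.carrier R.carrier (ρ a) =
              a - (a - algebraMap R'.carrier R.carrier (ρ a)) := by ring
          rw [e, map_sub, ha0, hresx _ hker, sub_zero]
        have h1 : algebraMap R'.carrier R.carrier (ρ a) ∈
            Ideal.map φ' (IsLocalRing.maximalIdeal P.carrier) := by
          have hC : (C (ρ a) : MvPowerSeries (Fin r) R'.carrier) ∈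
              IsLocalRing.maximalIdeal P.carrier := by
            show (C (ρ a) : MvPowerSeries (Fin r) R'.carrier) ∈
              IsLocalRing.maximalIdeal (MvPowerSeries (Fin r) R'.carrier)
            rw [Groth.Agent.Lib.PSCompleteH1.mem_maximalIdeal_iff, constantCoeff_C]
            exact hρm
          have h2 := Ideal.mem_map_of_mem φ' hC
          have e : φ' (C (ρ a)) = algebraMap R'.carrier R.carrier (ρ a) := by
            show φ (C (ρ a)) = _
            rw [MvPowerSeries.c_eq_algebraMap, AlgHom.commutes]
          rw [e] at h2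
          exact h2
        have h3 : a - algebraMap R'.carrier R.carrier (ρ a) ∈
            Ideal.map φ' (IsLocalRing.maximalIdeal P.carrier) ⊔
              IsLocalRing.maximalIdeal R.carrier ^ 2 := by
          rw [← hspan] at hker
          rcases Submodule.mem_sup.1 hker with ⟨y, hy, z, hz, hyz⟩
          rw [← hyz]
          refine Ideal.add_mem _ (Ideal.mem_sup_left ?_) (Ideal.mem_sup_right ?_)
          · have hle : Ideal.span (Set.range x) ≤
                Ideal.map φ' (IsLocalRing.maximalIdeal P.carrier) := by
              rw [Ideal.span_le]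
              rintro _ ⟨i, rfl⟩
              rw [← hφ i]
              show φ' (X i) ∈ _
              apply Ideal.mem_map_of_mem φ'
              show (X i : MvPowerSeries (Fin r) R'.carrier) ∈
                IsLocalRing.maximalIdeal (MvPowerSeries (Fin r) R'.carrier)
              rw [Groth.Agent.Lib.PSCompleteH1.mem_maximalIdeal_iff, constantCoeff_X]
              exact Ideal.zero_mem _
            exact hle hy
          · rw [pow_two]
            exact Ideal.mul_mono_right hkerρ hz
        have e : a = (a - algebraMap R'.carrier R.carrier (ρ a)) +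
            algebraMap R'.carrier R.carrier (ρ a) := by ring
        rw [e]
        exact Ideal.add_mem _ h3 (Ideal.mem_sup_left h1)
    exact ((Groth.Agent.S12714.result P R φ' hf).out 1 0).1 hmap

end Groth.Agent.S12748
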