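import Groth.Statements.S12750
import Groth.Agent.Lib.ArtFunEss_helper1

set_option autoImplicit false
universe u v
open CategoryTheory
open ArtFun ArtFun.Art

namespace Groth.Agent.S12750

open ArtFun ArtFun.Art Groth.Agent.Lib.ArtFunH1 CategoryTheory in
theorem surjective_of_comp_quot {Λ : Type u} {k : Type u} [CommRing Λ] [Field k] [Algebra Λ k]
    [IsNoetherianRing Λ] [Module.Finite Λ k] {C A A' : ArtFun.Art Λ k} (h : C ⟶ A) (qA : A ⟶ A')
    (hkA : RingHom.ker qA.toAlgHom =
      Ideal.map (algebraMap Λ A) (RingHom.ker (algebraMap Λ k)) ⊔ IsLocalRing.maximalIdeal A ^ 2)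
    (hs : Function.Surjective (h ≫ qA)) : Function.Surjective h := by
  apply ((Groth.Agent.S12709.result h).out 0 2).2
  apply le_antisymm
  · refine sup_le (sup_le ?_ ?_) (Ideal.pow_le_self two_ne_zero)
    · exact le_trans le_sup_left (relIdeal_le A)
    · rw [Ideal.map_le_iff_le_comap]
      intro x hx
      rw [Ideal.mem_comap, Art.mem_maximalIdeal_iff]
      show A.res (h x) = 0
      rw [Art.res_app]
      exact (Art.mem_maximalIdeal_iff C x).1 hx
  · intro a ha
    obtain ⟨c, hc⟩ := hs (qA a)
    have hc' : qA (h c) = qA a := hc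
    have hcm : c ∈ IsLocalRing.maximalIdeal C := by
      rw [Art.mem_maximalIdeal_iff, ← Art.res_app h, ← Art.res_app qA, hc', Art.res_app]
      exact (Art.mem_maximalIdeal_iff A a).1 ha
    have hker : a - h c ∈ RingHom.ker qA.toAlgHom := by
      rw [RingHom.mem_ker, map_sub, sub_eq_zero]
      exact hc'.symm
    rw [hkA] at hker
    have e : a = (a - h c) + h c := by ring
    rw [e]
    refine Ideal.add_mem _ ?_ (Ideal.mem_sup_left (Ideal.mem_sup_right (Ideal.mem_map_of_mem _ hcm)))
    rcases Submodule.mem_sup.1 hker with ⟨y, hy, z, hz, hyz⟩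
    rw [← hyz]
    exact Ideal.add_mem _ (Ideal.mem_sup_left (Ideal.mem_sup_left hy)) (Ideal.mem_sup_right hz)


/-- (1) ⇔ (3): let f : B → A be a morphism in the category of Artinian local Λ-algebras with residue
field k, and let q_B : B → B', q_A : A → A' be the quotients by m_Λ B + m_B² and m_Λ A + m_A² (m_Λ
the kernel of Λ → k), realised as surjective morphisms with these kernels, with f' : B' → A' the
induced morphism. Then f is an essential surjection — surjective, and every morphism g into B whose
composite with f is surjective is itself surjective — if and only if f' is. (The intermediate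
equivalence with the map B/m_B² → A/m_A² is the special case Λ-structure trivialised and follows by
applying this one twice.) -/
theorem result {Λ : Type u} {k : Type u} [CommRing Λ] [Field k] [Algebra Λ k]
    [IsNoetherianRing Λ] [Module.Finite Λ k]
    {A B A' B' : ArtFun.Art Λ k} (f : B ⟶ A)
    (qB : B ⟶ B') (hqB : Function.Surjective qB)
    (hkB : RingHom.ker qB.toAlgHom = Ideal.map (algebraMap Λ B) (RingHom.ker (algebraMap Λ k)) ⊔ IsLocalRing.maximalIdeal B ^ 2)
    (qA : A ⟶ A') (hqA : Function.Surjective qA)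
    (hkA : RingHom.ker qA.toAlgHom = Ideal.map (algebraMap Λ A) (RingHom.ker (algebraMap Λ k)) ⊔ IsLocalRing.maximalIdeal A ^ 2)
    (f' : B' ⟶ A') (hf' : qB ≫ f' = f ≫ qA) :
    (Function.Surjective f ∧ ∀ (C : ArtFun.Art Λ k) (g : C ⟶ B), Function.Surjective (g ≫ f) → Function.Surjective g) ↔ (Function.Surjective f' ∧ ∀ (C : ArtFun.Art Λ k) (g : C ⟶ B'), Function.Surjective (g ≫ f') → Function.Surjective g) := by
  open Groth.Agent.Lib.ArtFunH1 ArtFun.Art in
  have hcomm : ∀ b : B, f' (qB b) = qA (f b) := fun b =>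
    congrArg (fun t : B ⟶ A' => t b) hf'
  constructor
  · rintro ⟨hfs, hess⟩
    refine ⟨?_, ?_⟩
    · intro a'
      obtain ⟨a, rfl⟩ := hqA a'
      obtain ⟨b, rfl⟩ := hfs a
      exact ⟨qB b, hcomm b⟩
    · intro C' g' hg'
      have hfp := isFibreProd_fib g' qB hqB
      have hp₁ : Function.Surjective (fibFst g' qB hqB) := by
        intro c'
        obtain ⟨b, hb⟩ := hqB (g' c')
        obtain ⟨w, hw, _⟩ := hfp.surj c' b hb.symm
        exact ⟨w, hw⟩
      have hcs : Function.Surjective ((fibSnd g' qB hqB ≫ f) ≫ qA) := by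
        intro a'
        obtain ⟨c', hc'⟩ := hg' a'
        obtain ⟨w, rfl⟩ := hp₁ c'
        refine ⟨w, ?_⟩
        show qA (f (fibSnd g' qB hqB w)) = a'
        rw [← hcomm, ← hfp.w_apply w]
        exact hc'
      have h2 := hess _ _ (surjective_of_comp_quot _ qA hkA hcs)
      intro b'
      obtain ⟨b, rfl⟩ := hqB b'
      obtain ⟨w, rfl⟩ := h2 b
      exact ⟨fibFst g' qB hqB w, hfp.w_apply w⟩
  · rintro ⟨hfs', hess'⟩
    have hfs : Function.Surjective f := by
      apply surjective_of_comp_quot f qA hkA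
      intro a'
      obtain ⟨b', rfl⟩ := hfs' a'
      obtain ⟨b, rfl⟩ := hqB b'
      exact ⟨b, (hcomm b).symm⟩
    refine ⟨hfs, fun C g hgf => ?_⟩
    apply surjective_of_comp_quot g qB hkB
    apply hess'
    intro a'
    obtain ⟨a, rfl⟩ := hqA a'
    obtain ⟨c, hc⟩ := hgf a
    refine ⟨c, ?_⟩
    show f' (qB (g c)) = qA a
    rw [hcomm]
    exact congrArg qA hc

end Groth.Agent.S12750
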