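import Groth.Statements.S1276
import Mathlib

set_option autoImplicit false
universe u
open FlatMor

namespace Groth.Agent.S1276

section
open TensorProduct

theorem support_baseChange {B F : Type u} [CommRing B] [CommRing F] [Algebra B F] (N : Type u)
    [AddCommGroup N] [Module B N] [Module.Finite B N] (x : PrimeSpectrum F) :
    x ∈ Module.support F (F ⊗[B] N) ↔
      PrimeSpectrum.comap (algebraMap B F) x ∈ Module.support B N := by
  rw [Module.mem_support_iff_nontrivial_residueField_tensorProduct,
    Module.mem_support_iff_nontrivial_residueField_tensorProduct]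
  obtain ⟨y, hy⟩ : ∃ y : PrimeSpectrum B, y = PrimeSpectrum.comap (algebraMap B F) x := ⟨_, rfl⟩
  rw [← hy]
  have hyx : y.asIdeal = Ideal.comap (Algebra.ofId B F).toRingHom x.asIdeal := by
    rw [hy]; rfl
  let φ : y.asIdeal.ResidueField →ₐ[B] x.asIdeal.ResidueField :=
    Ideal.ResidueField.mapₐ y.asIdeal x.asIdeal (Algebra.ofId B F) hyx
  letI : Algebra y.asIdeal.ResidueField x.asIdeal.ResidueField := φ.toRingHom.toAlgebra
  haveI : IsScalarTower B y.asIdeal.ResidueField x.asIdeal.ResidueField :=
    IsScalarTower.of_algebraMap_eq (fun b => (φ.commutes b).symm)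
  let e1 := AlgebraTensorModule.cancelBaseChange B F x.asIdeal.ResidueField
    x.asIdeal.ResidueField N
  let e2 := AlgebraTensorModule.cancelBaseChange B y.asIdeal.ResidueField
    x.asIdeal.ResidueField x.asIdeal.ResidueField N
  rw [e1.toEquiv.nontrivial_congr, ← e2.toEquiv.nontrivial_congr]
  exact Module.FaithfullyFlat.nontrivial_tensorProduct_iff_right _ _

theorem exists_fg_le_map_eq {B F : Type u} [CommRing B] [CommRing F] (φ : B →+* F) (I : Ideal B)
    (h : (I.map φ).FG) : ∃ J : Ideal B, J.FG ∧ J ≤ I ∧ J.map φ = I.map φ := by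
  classical
  have h' : (Submodule.span F (φ '' (I : Set B))).FG := h
  obtain ⟨s', hs', hspan⟩ := (Submodule.fg_span_iff_fg_span_finset_subset _).mp h'
  obtain ⟨T, hT, hTs⟩ := Finset.subset_set_image_iff.mp hs'
  refine ⟨Ideal.span (T : Set B), ⟨T, rfl⟩, Ideal.span_le.mpr hT, ?_⟩
  rw [Ideal.map_span]
  show Ideal.span (φ '' (T : Set B)) = Ideal.span (φ '' (I : Set B))
  have : (φ '' (T : Set B)) = (s' : Set F) := by
    rw [← hTs, Finset.coe_image]
  rw [this]
  exact hspan.symm

attribute [local instance] Algebra.TensorProduct.rightAlgebra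

theorem main {A B : Type u} [CommRing A] [CommRing B] [Algebra A B] [Algebra.FiniteType A B]
    (N : Type u) [AddCommGroup N] [Module B N] [Module A N] [IsScalarTower A B N]
    [Module.Finite B N] (p : Ideal A) [p.IsPrime] :
    ∃ J : Ideal B, J.FG ∧ J ≤ Module.annihilator B N ∧
      ∀ x : PrimeSpectrum (p.Fiber B), FlatCA.fiberIdeal p J ≤ x.asIdeal ↔
        x ∈ Module.support (p.Fiber B) (FlatCA.fiberMod p B N) := by
  haveI : IsNoetherianRing (p.Fiber B) :=
    Algebra.FiniteType.isNoetherianRing p.ResidueField (p.Fiber B)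
  have hfg : ((Module.annihilator B N).map (algebraMap B (p.Fiber B))).FG :=
    IsNoetherian.noetherian _
  obtain ⟨J, hJfg, hJle, hJmap⟩ := exists_fg_le_map_eq (algebraMap B (p.Fiber B)) _ hfg
  refine ⟨J, hJfg, hJle, fun x => ?_⟩
  have h1 : FlatCA.fiberIdeal p J = J.map (algebraMap B (p.Fiber B)) := rfl
  rw [h1, hJmap, Ideal.map_le_iff_le_comap]
  have h2 := support_baseChange (B := B) (F := p.Fiber B) N x
  have h3 : x ∈ Module.support (p.Fiber B) (FlatCA.fiberMod p B N) ↔
      x ∈ Module.support (p.Fiber B) ((p.Fiber B) ⊗[B] N) := Iff.rfl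
  rw [h3, h2, Module.mem_support_iff_of_finite]
  rfl
end

/-- Let B be a finite type A-algebra, N a finite B-module and p a prime of A. Then there is a finitely
generated ideal J of B annihilating N (so N is a module on the finitely presented closed subscheme
V(J) of Spec B) such that a point of the fibre Spec(κ(p) ⊗ B) lies in V(J) if and only if it lies in
the support of the fibre module of N. -/
theorem result {A B : Type u} [CommRing A] [CommRing B] [Algebra A B] [Algebra.FiniteType A B]
    (N : Type u) [AddCommGroup N] [Module B N] [Module A N] [IsScalarTower A B N] [Module.Finite B N] (p : Ideal A) [p.IsPrime] :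
    ∃ J : Ideal B, J.FG ∧ J ≤ Module.annihilator B N ∧
      ∀ x : PrimeSpectrum (p.Fiber B), FlatCA.fiberIdeal p J ≤ x.asIdeal ↔ x ∈ Module.support (p.Fiber B) (FlatCA.fiberMod p B N) := by
  exact main N p

end Groth.Agent.S1276
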