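import Groth.Statements.S6401
import Groth.Agent.Lib.FibCat_helper6

set_option autoImplicit false
open CategoryTheory
universe v u
open FibCat

namespace Groth.Agent.S6401

/-- For categories `𝒳, 𝒴, 𝒮` fibred in groupoids over `C` and functors `F : 𝒳 ⟶ 𝒮`, `G : 𝒴 ⟶ 𝒮` over
`C`, the 2-fibre product `𝒳 ×_𝒮 𝒴` over `C` is fibred in groupoids over `C`. -/
theorem result {C : Type u} [Category.{v} C] {𝒳 𝒴 𝒮 : BasedCategory.{v, max u v} C} (F : 𝒳 ⥤ᵇ 𝒮) (G : 𝒴 ⥤ᵇ 𝒮) (h𝒳 : FibCat.IsFibGrpd 𝒳.p) (h𝒴 : FibCat.IsFibGrpd 𝒴.p) (h𝒮 : FibCat.IsFibGrpd 𝒮.p) :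
    FibCat.IsFibGrpd (FibCat.fp F G).p := by
  refine ⟨?_, ?_⟩
  · intro X R f
    change R ⟶ 𝒳.p.obj X.obj.fst at f
    have hy : 𝒴.p.obj X.obj.snd = 𝒳.p.obj X.obj.fst := Lib.FibCat_helper6.fp_obj_snd_proj X
    obtain ⟨x', φ, hφ⟩ := h𝒳.exists_lift (x := X.obj.fst) f
    obtain ⟨y', ψ, hψ⟩ := Lib.FibCat_helper6.exists_lift_of_isFibGrpd h𝒴 hy f
    have h3 : 𝒮.p.IsStronglyCartesian f (F.map φ) :=
      Lib.FibCat_helper6.isStronglyCartesian_of_isFibGrpd h𝒮 f _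
    have h4 : 𝒮.p.IsStronglyCartesian f (G.map ψ) :=
      Lib.FibCat_helper6.isStronglyCartesian_of_isFibGrpd h𝒮 f _
    exact ⟨Lib.FibCat_helper6.fpLiftObj X f φ ψ hφ hψ h3 h4,
      Lib.FibCat_helper6.fpLiftHom X f φ ψ hφ hψ h3 h4,
      Lib.FibCat_helper6.fpLiftHom_isHomLift X f φ ψ hφ hψ h3 h4⟩
  · intro X' X m
    have a1 : 𝒳.p.IsHomLift ((FibCat.fp F G).p.map m) m.hom.fst :=
      Lib.FibCat_helper6.fp_isHomLift_fst m _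
    have a2 : 𝒴.p.IsHomLift ((FibCat.fp F G).p.map m) m.hom.snd :=
      Lib.FibCat_helper6.fp_isHomLift_snd' m _
    exact Lib.FibCat_helper6.fp_isStronglyCartesian m _
      (Lib.FibCat_helper6.isStronglyCartesian_of_isFibGrpd h𝒳 _ _)
      (Lib.FibCat_helper6.isStronglyCartesian_of_isFibGrpd h𝒴 _ _)
      (Lib.FibCat_helper6.isStronglyCartesian_of_isFibGrpd h𝒮 _ _)

end Groth.Agent.S6401
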