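import Groth.Statements.S12800
import Groth.Agent.S6401
import Groth.Agent.Lib.FibCat2_helper6
-- import your own Groth.Agent.* helpers here

set_option autoImplicit false
open CategoryTheory
universe v u
open FibCat

namespace Groth.Agent.S12800

/-- For categories `𝒮`, `𝒯` fibred in groupoids over `C`, a category `ℛ` fibred in setoids over `C`, a
functor `f : 𝒯 ⟶ 𝒮` over `C` with faithful underlying functor and a functor `g : ℛ ⟶ 𝒮` over `C`,
the 2-fibre product `𝒯 ×_𝒮 ℛ` over `C` is fibred in setoids. (The published statement takes stacks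
in groupoids over a site and concludes a stack in setoids; the stack property of the 2-fibre product
is the separate result on 2-fibre products of stacks in groupoids, and the setoid property stated
here needs no topology.) -/
theorem result {C : Type u} [Category.{v} C] {𝒮 𝒯 ℛ : BasedCategory.{v, max u v} C}
    (h𝒮 : FibCat.IsFibGrpd 𝒮.p) (h𝒯 : FibCat.IsFibGrpd 𝒯.p) (hℛ : FibCat.IsFibSetoid ℛ.p) (f : 𝒯 ⥤ᵇ 𝒮) [f.toFunctor.Faithful] (g : ℛ ⥤ᵇ 𝒮) :
    FibCat.IsFibSetoid (FibCat.fp f g).p := by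
  refine ⟨Groth.Agent.S6401.result f g h𝒯 hℛ.1 h𝒮, ?_⟩
  intro U a b
  constructor
  intro m m'
  have hm : (fp f g).p.IsHomLift (𝟙 U) m.1 := m.2
  have hm' : (fp f g).p.IsHomLift (𝟙 U) m'.1 := m'.2
  have h1 : ℛ.p.IsHomLift (𝟙 U) m.1.hom.snd := Lib.FibCat_helper6.fp_isHomLift_snd' m.1 (𝟙 U)
  have h2 : ℛ.p.IsHomLift (𝟙 U) m'.1.hom.snd := Lib.FibCat_helper6.fp_isHomLift_snd' m'.1 (𝟙 U)
  have e2 : m.1.hom.snd = m'.1.hom.snd := Lib.FibCat2_helper6.eq_of_isFibSetoid hℛ (U := U) _ _
  have w1 := m.1.hom.w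
  have w2 := m'.1.hom.w
  have e1 : m.1.hom.fst = m'.1.hom.fst := by
    apply f.toFunctor.map_injective
    have : f.map m.1.hom.fst ≫ b.1.obj.iso.hom = f.map m'.1.hom.fst ≫ b.1.obj.iso.hom := by
      rw [w1, w2, e2]
    exact (cancel_mono b.1.obj.iso.hom).1 this
  apply Subtype.ext
  apply ObjectProperty.hom_ext
  exact Limits.CategoricalPullback.hom_ext e1 e2

end Groth.Agent.S12800
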