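import Groth.Statements.S6418
-- import your own Groth.Agent.* helpers here

set_option autoImplicit false
open CategoryTheory
universe v₁ u₁ v₂ u₂
open FibCat

namespace Groth.Agent.S6418

theorem over_ext {T : Type u₂} [Category.{v₂} T] {U : T} {X Y : Over U} (h : X.left = Y.left)
    (h2 : X.hom = eqToHom h ≫ Y.hom) : X = Y := by
  obtain ⟨l, ⟨⟨⟩⟩, hom⟩ := X
  obtain ⟨l', ⟨⟨⟩⟩, hom'⟩ := Y
  change l = l' at h
  subst h
  simp at h2
  subst h2
  rfl

/-- A lift of `f.left` with respect to `p' ⋙ forget` is a lift of `f` w.r.t. `p'`, the source being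
forced. -/
theorem over_lift {𝒮 : Type u₁} [Category.{v₁} 𝒮] {C : Type u₂} [Category.{v₂} C] {U : C}
    (p' : 𝒮 ⥤ Over U) {a b : 𝒮} {R : Over U} (f : R ⟶ p'.obj a) (φ : b ⟶ a)
    (hφ : (p' ⋙ Over.forget U).IsHomLift f.left φ) : p'.IsHomLift f φ := by
  have h1 : (p'.obj b).left = R.left := IsHomLift.domain_eq (p' ⋙ Over.forget U) f.left φ
  have h2 : (p'.map φ).left = eqToHom h1 ≫ f.left := by
    have := IsHomLift.fac' (p' ⋙ Over.forget U) f.left φ
    simpa using this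
  have ha : p'.obj b = R := by
    apply over_ext h1
    rw [← Over.w f, ← Category.assoc, ← h2, Over.w]
  subst ha
  have : f = p'.map φ := by
    ext
    simpa using h2.symm
  rw [this]
  infer_instance

theorem over_lift' {𝒮 : Type u₁} [Category.{v₁} 𝒮] {C : Type u₂} [Category.{v₂} C] {U : C}
    (p' : 𝒮 ⥤ Over U) {a b : 𝒮} {R S : Over U} (f : R ⟶ S) (φ : b ⟶ a) (hS : p'.obj a = S)
    (hφ : (p' ⋙ Over.forget U).IsHomLift f.left φ) : p'.IsHomLift f φ := by
  subst hS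
  exact over_lift p' f φ hφ

theorem over_lift_forget {𝒮 : Type u₁} [Category.{v₁} 𝒮] {C : Type u₂} [Category.{v₂} C] {U : C}
    (p' : 𝒮 ⥤ Over U) {a b : 𝒮} {R S : Over U} (f : R ⟶ S) (φ : b ⟶ a)
    [p'.IsHomLift f φ] : (p' ⋙ Over.forget U).IsHomLift f.left φ := by
  subst_hom_lift p' f φ
  exact IsHomLift.map (p' ⋙ Over.forget U) φ

theorem over_isStronglyCartesian {𝒮 : Type u₁} [Category.{v₁} 𝒮] {C : Type u₂} [Category.{v₂} C] {U : C}
    (p' : 𝒮 ⥤ Over U) {a b : 𝒮} {R : Over U} (f : R ⟶ p'.obj a) (φ : b ⟶ a)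
    (hφ : (p' ⋙ Over.forget U).IsStronglyCartesian f.left φ) : p'.IsStronglyCartesian f φ := by
  have : p'.IsHomLift f φ := over_lift p' f φ hφ.toIsHomLift
  refine { toIsHomLift := this, universal_property' := ?_ }
  intro a' g φ' hφ'
  have hq : (p' ⋙ Over.forget U).IsHomLift (g.left ≫ f.left) φ' := by
    have := over_lift_forget p' (g ≫ f) φ'
    simpa using this
  obtain ⟨χ, ⟨hχ1, hχ2⟩, hχu⟩ :=
    Functor.IsStronglyCartesian.universal_property (p' ⋙ Over.forget U) f.left φ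
      g.left (g.left ≫ f.left) rfl φ'
  refine ⟨χ, ⟨?_, hχ2⟩, ?_⟩
  · exact over_lift' p' g χ (IsHomLift.domain_eq p' f φ) hχ1
  · rintro χ₂ ⟨hχ₂1, hχ₂2⟩
    exact hχu χ₂ ⟨over_lift_forget p' g χ₂, hχ₂2⟩

/-- If `p' : 𝒮 ⥤ C/U` composed with the forgetful functor `C/U ⥤ C` is a fibred category, then so is
`p'`. -/
theorem result {𝒮 : Type u₁} [Category.{v₁} 𝒮] {C : Type u₂} [Category.{v₂} C] {U : C} (p' : 𝒮 ⥤ Over U) [(p' ⋙ Over.forget U).IsFibered] : p'.IsFibered := by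
  apply Functor.IsFibered.of_exists_isStronglyCartesian
  intro a R f
  obtain ⟨b, φ, hφ⟩ := Functor.IsPreFibered.exists_isCartesian' (p := p' ⋙ Over.forget U) (a := a) f.left
  exact ⟨b, φ, over_isStronglyCartesian p' f φ
    (@Functor.IsFibered.isStronglyCartesian_of_isCartesian _ _ _ _ (p' ⋙ Over.forget U) _ _ _
      f.left _ _ φ hφ)⟩

end Groth.Agent.S6418
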