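import Groth.Statements.S12806
import Groth.Agent.S6411
import Groth.Agent.Lib.FibCat12_helper6
-- import your own Groth.Agent.* helpers here

set_option autoImplicit false
open CategoryTheory
universe v u
open FibCat

namespace Groth.Agent.S12806

/-- Let `𝒮` be fibred in groupoids over `C`, `U` an object of `C` and `x, y : C/U ⟶ 𝒮` two functors over
`C` (objects over `U` in 2-Yoneda form), with `e` the 2-isomorphism identifying their composites
with the structure functor. Then the 2-fibre product over `C` of `(x, y) : C/U ⟶ 𝒮 ×_C 𝒮` with the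
diagonal `𝒮 ⟶ 𝒮 ×_C 𝒮` is fibred in setoids over `C/U` through its first projection. (The published
statement is for a fibred category with `x`, `y` the functors given by chosen pullbacks; this row is
the case of a category fibred in groupoids, where every functor over `C` out of `C/U` is of that
kind.) -/
theorem result {C : Type u} [Category.{v} C] {𝒮 : BasedCategory.{v, max u v} C} (h𝒮 : FibCat.IsFibGrpd 𝒮.p)
    (U : C) (x y : FibCat.overCat U ⥤ᵇ 𝒮)
    (e : BasedFunctor.comp x (FibCat.toSelf 𝒮) ≅ BasedFunctor.comp y (FibCat.toSelf 𝒮)) :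
    FibCat.IsFibSetoid (FibCat.fpFst (FibCat.fpLift x y e) (FibCat.diag (FibCat.toSelf 𝒮))).toFunctor := by
  have h𝒮2 : IsFibGrpd (fp (toSelf 𝒮) (toSelf 𝒮)).p := Lib.FibCat12_helper6.isFibGrpd_prod h𝒮 h𝒮
  refine ⟨Groth.Agent.S6411.result h𝒮 h𝒮2 (diag (toSelf 𝒮)) U (fpLift x y e), ?_⟩
  intro A a b
  constructor
  intro m m'
  have hm : (fpFst (fpLift x y e) (diag (toSelf 𝒮))).toFunctor.IsHomLift (𝟙 A) m.1 := m.2
  have hm' : (fpFst (fpLift x y e) (diag (toSelf 𝒮))).toFunctor.IsHomLift (𝟙 A) m'.1 := m'.2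
  have e1 : m.1.hom.fst = m'.1.hom.fst := by
    have h1 := IsHomLift.fac' (fpFst (fpLift x y e) (diag (toSelf 𝒮))).toFunctor (𝟙 A) m.1
    have h2 := IsHomLift.fac' (fpFst (fpLift x y e) (diag (toSelf 𝒮))).toFunctor (𝟙 A) m'.1
    exact h1.trans h2.symm
  have w1 := m.1.hom.w
  have w2 := m'.1.hom.w
  have e2 : (diag (toSelf 𝒮)).map m.1.hom.snd = (diag (toSelf 𝒮)).map m'.1.hom.snd := by
    have : a.1.obj.iso.hom ≫ (diag (toSelf 𝒮)).map m.1.hom.snd =
        a.1.obj.iso.hom ≫ (diag (toSelf 𝒮)).map m'.1.hom.snd := by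
      rw [← w1, ← w2, e1]
    exact (cancel_epi a.1.obj.iso.hom).1 this
  have e3 : m.1.hom.snd = m'.1.hom.snd := congrArg (fun k => k.hom.fst) e2
  apply Subtype.ext
  apply ObjectProperty.hom_ext
  exact Limits.CategoricalPullback.hom_ext e1 e3

end Groth.Agent.S12806
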