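import Groth.Statements.S12851
import Groth.Agent.Lib.AlgStLocal_lead

set_option autoImplicit false
open CategoryTheory AlgebraicGeometry
universe u
open AlgSt

namespace Groth.Agent.S12851

/-- Let `P` be a property of morphisms of algebraic spaces over `S` which is stable under base change,
fppf local on the base and local on the source in the fppf topology; let `x : 𝒳 ⟶ 𝒴` and `y : 𝒴 ⟶ 𝒵`
be 1-morphisms of algebraic stacks over `S` representable by algebraic spaces with `x` surjective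
and flat and locally of finite presentation. If `y ∘ x` has `P` then `y` has `P`. (Stability under
base change is asked for every pullback square of fppf sheaves whose four corners are algebraic
spaces.) -/
theorem result {S : Scheme.{u}} {𝒳 𝒴 𝒵 : AlgSt.Cat S}
    (h𝒳 : AlgSt.IsAlgStack Scheme.fppfPrecoverage 𝒳) (h𝒴 : AlgSt.IsAlgStack Scheme.fppfPrecoverage 𝒴) (h𝒵 : AlgSt.IsAlgStack Scheme.fppfPrecoverage 𝒵)
    (P : MorphismProperty (AlgSp.Sp S))
    (hPb : ∀ ⦃X₁ Y₁ X₂ Y₂ : AlgSp.Sp S⦄, AlgSp.IsAlgSpace X₁ → AlgSp.IsAlgSpace Y₁ → AlgSp.IsAlgSpace X₂ →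
      AlgSp.IsAlgSpace Y₂ → ∀ (a : X₁ ⟶ Y₁) (b : Y₂ ⟶ Y₁) (a' : X₂ ⟶ Y₂) (b' : X₂ ⟶ X₁),
      IsPullback b' a' a b → P a → P a')
    (hP : AlgSp.IsLocalOnBase AlgSp.IsFppfCover P) (hP' : AlgSp.IsLocalOnSource AlgSp.IsFppfCover P)
    (x : 𝒳 ⥤ᵇ 𝒴) (y : 𝒴 ⥤ᵇ 𝒵) (hy : AlgSt.RepByAlgSp1 y)
    (hx₁ : AlgSt.RepByAlgSpWith (AlgSp.LocP @Flat) x)
    (hx₂ : AlgSt.RepByAlgSpWith (AlgSp.LocP @LocallyOfFinitePresentation) x)
    (hx₃ : AlgSt.RepByAlgSpWith AlgSp.IsSurjectiveMor x)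
    (h : AlgSt.RepByAlgSpWith P (BasedFunctor.comp x y)) : AlgSt.RepByAlgSpWith P y := by
  open Groth.Agent.Lib.AlgStLocal Groth.Agent.Lib.OfPshWith Groth.Agent.Lib.AlgStBC
    Groth.Agent.Lib.AlgSpLocP4_helper7 Groth.Agent.Lib.AlgSpLocP7_helper7 in
  exact repWith_of_forall_space P y (fun Z t =>
    exists_space_of_source_cover h𝒳.isStack.1 h𝒴.isStack.1 h𝒵.isStack.1 P hPb hP AlgSp.IsFppfCover hP'
      x y hy (repByAlgSp1_of_repWith x hx₁)
      (fun Y' u X' d eX heX iX =>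
        ⟨fun _ => ⟨prop_of_repWith_ofSp _ (isoInv_locP _ etLocal_flat) (schemeTestable_locP _) d
            (FibCat.fpFst u x) eX heX iX (repWith_baseChange _ x u hx₁),
          prop_of_repWith_ofSp _ (isoInv_locP _ etLocal_locallyOfFinitePresentation)
            (schemeTestable_locP _) d (FibCat.fpFst u x) eX heX iX (repWith_baseChange _ x u hx₂)⟩,
          fun p => ⟨PUnit.unit, prop_of_repWith_ofSp _ isoInv_isSurjectiveMor
            schemeTestable_isSurjectiveMor d (FibCat.fpFst u x) eX heX iX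
            (repWith_baseChange _ x u hx₃) p⟩⟩) h Z t)

end Groth.Agent.S12851
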