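import Groth.Statements.S12921
import Groth.Agent.Lib.Reynolds_helper9

set_option autoImplicit false
universe u v w
open HopfRep

namespace Groth.Agent.S12921

/-- Let `k` be a commutative ring, `A` a commutative Hopf algebra over `k`, flat as a `k`-module, `B` a
commutative `k`-algebra with a coaction of `A` that is an algebra map and admits a total integral (a
comodule map `α : A → B` with `α 1 = 1`), and `C = B^A` the subring of invariants. Then for every
ideal `c` of `C` one has `cB ∩ C = c`. (The published statement assumes only that taking invariants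
is exact on `(B, A)`-modules; a total integral, assumed here, gives that exactness.) -/
theorem result
    (k : Type u) [CommRing k] (A : Type v) [CommRing A] [HopfAlgebra k A] [Module.Flat k A]
    (B : Type w) [CommRing B] [Algebra k B] [HopfRep.Comod k A B] [GLin.IsCoactAlg k A B]
    (htame : ∃ α : A →ₗ[k] B, Hoch.IsComodHom A α ∧ α 1 = 1)
    (c : Ideal (GLin.invariants k A B)) :
    (c.map (algebraMap (GLin.invariants k A B) B)).comap (algebraMap (GLin.invariants k A B) B) = c := by
  obtain ⟨α, hα, hα1⟩ := htame
  haveI : TameAct.IsHopfMod k A B B := Groth.Agent.Lib.Reynolds_helper9.isHopfMod_self k A B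
  apply le_antisymm _ Ideal.le_comap_map
  intro x hx
  rw [Ideal.mem_comap] at hx
  -- the Reynolds operator as a map `B → C`
  have hR : ∀ b : B, TameAct.reynolds k A B B α b ∈ GLin.invariants k A B := fun b =>
    Groth.Agent.Lib.Reynolds_helper9.reynolds_mem_fixedPts k A B B α hα b
  -- induction on membership in the extended ideal
  have key : ∀ y ∈ c.map (algebraMap (GLin.invariants k A B) B), ∀ b : B,
      (⟨TameAct.reynolds k A B B α (b * y), hR _⟩ : GLin.invariants k A B) ∈ c := by
    intro y hy
    refine Submodule.span_induction (p := fun y _ => ∀ b : B,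
      (⟨TameAct.reynolds k A B B α (b * y), hR _⟩ : GLin.invariants k A B) ∈ c) ?_ ?_ ?_ ?_ hy
    · rintro _ ⟨z, hz, rfl⟩ b
      have hfix : (z : B) ∈ HopfRep.fixedPts k A B := z.2
      have h1 : TameAct.reynolds k A B B α (b * algebraMap (GLin.invariants k A B) B z) =
          (z : B) * TameAct.reynolds k A B B α b := by
        have := Groth.Agent.Lib.Reynolds_helper9.reynolds_smul_of_mem_fixedPts k A B B α (z : B) hfix b
        rw [smul_eq_mul, smul_eq_mul] at this
        rw [mul_comm]
        exact this
      have h2 : (⟨TameAct.reynolds k A B B α (b * algebraMap (GLin.invariants k A B) B z), hR _⟩ :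
          GLin.invariants k A B) = z * ⟨TameAct.reynolds k A B B α b, hR b⟩ := by
        apply Subtype.ext
        exact h1
      rw [h2]
      exact c.mul_mem_right _ hz
    · intro b
      have : (⟨TameAct.reynolds k A B B α (b * 0), hR _⟩ : GLin.invariants k A B) = 0 := by
        apply Subtype.ext; simp
      rw [this]; exact c.zero_mem
    · intro y z _ _ hy hz b
      have : (⟨TameAct.reynolds k A B B α (b * (y + z)), hR _⟩ : GLin.invariants k A B) =
          ⟨TameAct.reynolds k A B B α (b * y), hR _⟩ + ⟨TameAct.reynolds k A B B α (b * z), hR _⟩ := by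
        apply Subtype.ext; simp [mul_add]
      rw [this]; exact c.add_mem (hy b) (hz b)
    · intro b' y _ hy b
      have : b * (b' • y) = (b * b') * y := by rw [smul_eq_mul, mul_assoc]
      simp only [this]
      exact hy (b * b')
  have hfix : (x : B) ∈ HopfRep.fixedPts k A B := x.2
  have := key _ hx 1
  simp only [one_mul] at this
  have hx' : (⟨TameAct.reynolds k A B B α (algebraMap (GLin.invariants k A B) B x), hR _⟩ :
      GLin.invariants k A B) = x := by
    apply Subtype.ext
    exact Groth.Agent.Lib.Reynolds_helper9.reynolds_of_mem_fixedPts k A B B α hα1 _ hfix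
  rwa [hx'] at this

end Groth.Agent.S12921
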