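import Groth.Statements.S12923
import Groth.Agent.Lib.Reynolds_helper9

set_option autoImplicit false
universe u v w
open HopfRep

namespace Groth.Agent.S12923

/-- Let `k` be a commutative ring, `A` a commutative Hopf algebra over `k`, flat as a `k`-module, `B` a
commutative `k`-algebra with a coaction of `A` that is an algebra map and admits a total integral (a
comodule map `α : A → B` with `α 1 = 1`), `C = B^A`, and `b` an ideal of `B` which is a subcomodule
(a closed subscheme of `Spec B` stable under the action). Then the image of `V(b)` under `Spec B →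
Spec C` is the closed set `V(b ∩ C)`. (The published statement assumes only that taking invariants
is exact on `(B, A)`-modules; a total integral, assumed here, gives that exactness.) -/
theorem result
    (k : Type u) [CommRing k] (A : Type v) [CommRing A] [HopfAlgebra k A] [Module.Flat k A]
    (B : Type w) [CommRing B] [Algebra k B] [HopfRep.Comod k A B] [GLin.IsCoactAlg k A B]
    (htame : ∃ α : A →ₗ[k] B, Hoch.IsComodHom A α ∧ α 1 = 1)
    (b : Ideal B) (hb : HopfRep.IsSubcomod (k := k) (A := A) (b.restrictScalars k)) :
    PrimeSpectrum.comap (algebraMap (GLin.invariants k A B) B) '' PrimeSpectrum.zeroLocus (b : Set B) =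
      PrimeSpectrum.zeroLocus ((b.comap (algebraMap (GLin.invariants k A B) B) : Ideal (GLin.invariants k A B)) : Set (GLin.invariants k A B)) := by
  obtain ⟨α, hα, hα1⟩ := htame
  haveI : TameAct.IsHopfMod k A B B := Groth.Agent.Lib.Reynolds_helper9.isHopfMod_self k A B
  apply Set.Subset.antisymm
  · rintro _ ⟨q, hq, rfl⟩
    rw [PrimeSpectrum.mem_zeroLocus] at hq ⊢
    intro x hx
    exact hq hx
  · intro p hp
    rw [PrimeSpectrum.mem_zeroLocus] at hp
    set f := algebraMap (GLin.invariants k A B) B with hf
    set g : GLin.invariants k A B →+* B ⧸ b := (Ideal.Quotient.mk b).comp f with hg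
    have hcm : (p.asIdeal.map g).comap g = p.asIdeal := by
      apply le_antisymm _ Ideal.le_comap_map
      intro x hx
      rw [Ideal.mem_comap, hg, ← Ideal.map_map] at hx
      rw [Ideal.mem_map_iff_of_surjective _ Ideal.Quotient.mk_surjective] at hx
      obtain ⟨y, hy, hyx⟩ := hx
      rw [RingHom.comp_apply, Ideal.Quotient.eq] at hyx
      -- f x = y - (y - f x)
      obtain ⟨z, hz, hzy⟩ := Groth.Agent.Lib.Reynolds_helper9.reynolds_mem_of_mem_map k A B α hα hα1
        p.asIdeal y hy
      have hβ := Groth.Agent.Lib.Reynolds_helper9.reynolds_mem_of_isSubcomod k A B α b hb _ hyx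
      have hβ' : TameAct.reynolds k A B B α (y - f x) ∈ GLin.invariants k A B :=
        Groth.Agent.Lib.Reynolds_helper9.reynolds_mem_fixedPts k A B B α hα _
      have hx1 : TameAct.reynolds k A B B α (f x) = f x :=
        Groth.Agent.Lib.Reynolds_helper9.reynolds_of_mem_fixedPts k A B B α hα1 _ x.2
      have hw : (⟨_, hβ'⟩ : GLin.invariants k A B) ∈ p.asIdeal := by
        apply hp
        show f ⟨_, hβ'⟩ ∈ b
        exact hβ
      have hxe : x = z - ⟨_, hβ'⟩ := by
        apply Subtype.ext
        show f x = (z : B) - TameAct.reynolds k A B B α (y - f x)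
        rw [map_sub, hzy, hx1]; ring
      rw [hxe]
      exact p.asIdeal.sub_mem hz hw
    obtain ⟨q', hq', hq'p⟩ := (Ideal.comap_map_eq_self_iff_of_isPrime p.asIdeal).mp hcm
    refine ⟨⟨q'.comap (Ideal.Quotient.mk b), inferInstance⟩, ?_, ?_⟩
    · rw [PrimeSpectrum.mem_zeroLocus]
      intro β hβ
      show Ideal.Quotient.mk b β ∈ q'
      rw [Ideal.Quotient.eq_zero_iff_mem.mpr hβ]
      exact q'.zero_mem
    · apply PrimeSpectrum.ext
      show (q'.comap (Ideal.Quotient.mk b)).comap f = p.asIdeal
      rw [Ideal.comap_comap]
      exact hq'p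

end Groth.Agent.S12923
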