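import Groth.Statements.S12925
import Groth.Agent.S12927

set_option autoImplicit false
universe u w
open HopfRep TensorProduct

namespace Groth.Agent.S12925

/-- Let `k` be a commutative ring, `M` a commutative group and `B` a commutative `k`-algebra with a
coaction of the group algebra `k[M]` that is an algebra map (an action of the diagonalizable group
scheme `D(M) = Spec k[M]` on `Spec B`). Then the action is tame: there is a comodule map `α : k[M] →
B`, for the regular coaction on `k[M]`, with `α 1 = 1`. -/
theorem result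
    (k : Type u) [CommRing k] (M : Type u) [CommGroup M]
    (B : Type w) [CommRing B] [Algebra k B] [HopfRep.Comod k (MonoidAlgebra k M) B]
    [GLin.IsCoactAlg k (MonoidAlgebra k M) B] :
    ∃ α : MonoidAlgebra k M →ₗ[k] B, Hoch.IsComodHom (MonoidAlgebra k M) α ∧ α 1 = 1 := by
  classical
  let α₀ : MonoidAlgebra k M →ₗ[k] k :=
    (Finsupp.lapply (1 : M)) ∘ₗ (MonoidAlgebra.coeffLinearEquiv k).toLinearMap
  have h1 : α₀ 1 = 1 := by
    simp [α₀, MonoidAlgebra.one_def]
  have h₀ : @Hoch.IsComodHom k _ (MonoidAlgebra k M) _ _ _ (MonoidAlgebra k M) _ _ _ k _ _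
      (HopfRep.Comod.trivial k (MonoidAlgebra k M) k) α₀ := by
    unfold Hoch.IsComodHom
    apply MonoidAlgebra.lhom_ext'
    intro m
    apply LinearMap.ext_ring
    show (α₀ (MonoidAlgebra.single m 1)) ⊗ₜ[k] (1 : MonoidAlgebra k M) =
      α₀.rTensor (MonoidAlgebra k M) (CoalgebraStruct.comul (R := k) (MonoidAlgebra.single m (1 : k)))
    rw [MonoidAlgebra.comul_single]
    simp only [CommSemiring.comul_apply, TensorProduct.map_tmul, LinearMap.rTensor_tmul,
      MonoidAlgebra.lsingle_apply]
    by_cases hm : m = 1
    · subst hm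
      simp [α₀, MonoidAlgebra.one_def]
    · have : α₀ (MonoidAlgebra.single m 1) = 0 := by
        simp [α₀, Finsupp.single_apply, hm]
      rw [this, TensorProduct.zero_tmul, TensorProduct.zero_tmul]
  exact Groth.Agent.S12927.totalIntegral_of_trivial k (MonoidAlgebra k M) B α₀ h₀ h1

end Groth.Agent.S12925
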