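import Groth.Statements.S12926
import Groth.Agent.Lib.Comod_helper9

set_option autoImplicit false
universe u v
open HopfRep TensorProduct

namespace Groth.Agent.S12926

/-- Let `k` be a commutative ring and `A` a commutative bialgebra over `k`, flat as a `k`-module. If the
submodule `k · 1` of the regular comodule `A` has a complement `H` which is a subcomodule — the case
used when `A` is cosemisimple, i.e. every subcomodule of every comodule is a direct summand as a
comodule — then the trivial action of `Spec A` on `Spec k` is tame: there is a comodule map `α : A →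
k`, for the regular coaction on `A` and the trivial coaction `r ↦ r ⊗ 1` on `k`, with `α 1 = 1`. -/
theorem result
    (k : Type u) [CommRing k] (A : Type v) [CommRing A] [Bialgebra k A] [Module.Flat k A]
    (H : Submodule k A) (hH : HopfRep.IsSubcomod (k := k) (A := A) H)
    (hc : IsCompl (Submodule.span k {(1 : A)}) H) :
    ∃ α : A →ₗ[k] k, @Hoch.IsComodHom k _ A _ _ _ A _ _ _ k _ _ (HopfRep.Comod.trivial k A k) α ∧ α 1 = 1 := by
  -- projection onto `k·1` along `H`, followed by the counit
  let p : A →ₗ[k] A := (Submodule.span k {(1 : A)}).subtype ∘ₗ (Submodule.projectionOnto _ _ hc)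
  let α : A →ₗ[k] k := (CoalgebraStruct.counit (R := k) (A := A)) ∘ₗ p
  have hp1 : p 1 = 1 := by
    have h1 : (1 : A) ∈ Submodule.span k {(1 : A)} := Submodule.mem_span_singleton_self 1
    have := Submodule.projectionOnto_apply_left hc ⟨1, h1⟩
    show ((Submodule.projectionOnto _ _ hc (1 : A) : Submodule.span k {(1 : A)}) : A) = 1
    have h2 : (Submodule.projectionOnto _ _ hc) ((⟨1, h1⟩ : Submodule.span k {(1 : A)}) : A) = ⟨1, h1⟩ := this
    simpa using congrArg Subtype.val h2
  have hpH : ∀ h ∈ H, p h = 0 := by
    intro h hh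
    have : (Submodule.projectionOnto _ _ hc) h = 0 :=
      (Submodule.projectionOnto_apply_eq_zero_iff hc).mpr hh
    show ((Submodule.projectionOnto _ _ hc h : Submodule.span k {(1 : A)}) : A) = 0
    rw [this]; rfl
  have hα1 : α 1 = 1 := by
    show CoalgebraStruct.counit (R := k) (p 1) = 1
    rw [hp1, Bialgebra.counit_one]
  have hαH : ∀ h ∈ H, α h = 0 := by
    intro h hh
    show CoalgebraStruct.counit (R := k) (p h) = 0
    rw [hpH h hh, map_zero]
  refine ⟨α, ?_, hα1⟩
  apply LinearMap.ext
  intro a
  show (α a) ⊗ₜ[k] (1 : A) = α.rTensor A (CoalgebraStruct.comul (R := k) a)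
  -- decompose `a = c • 1 + h`
  have hsup : a ∈ Submodule.span k {(1 : A)} ⊔ H := by rw [hc.sup_eq_top]; trivial
  obtain ⟨x, hx, h, hh, rfl⟩ := Submodule.mem_sup.mp hsup
  obtain ⟨c, rfl⟩ := Submodule.mem_span_singleton.mp hx
  have hαrH : α.rTensor A (CoalgebraStruct.comul (R := k) h) = 0 := by
    obtain ⟨y, hy⟩ := hH h hh
    have : HopfRep.Comod.coact (k := k) (A := A) (V := A) h = CoalgebraStruct.comul (R := k) h := rfl
    rw [← this, ← hy, ← LinearMap.comp_apply, ← LinearMap.rTensor_comp]
    have hz : α ∘ₗ H.subtype = 0 := by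
      apply LinearMap.ext; intro z; exact hαH z.1 z.2
    rw [hz, LinearMap.rTensor_zero, LinearMap.zero_apply]
  rw [map_add, map_add, map_add, hαrH, hαH h hh, add_zero, add_zero, map_smul, map_smul, map_smul, hα1,
    Bialgebra.comul_one, Algebra.TensorProduct.one_def, LinearMap.rTensor_tmul, hα1,
    TensorProduct.smul_tmul', smul_eq_mul, mul_one]

end Groth.Agent.S12926
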