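import Groth.Statements.S12929
import Groth.Prelude.Def_ComodTens

set_option autoImplicit false
universe u v w w'
open HopfRep TensorProduct

namespace Groth.Agent.S12929

section Aux
variable {k : Type u} [CommRing k] {A : Type v} [AddCommGroup A] [Module k A] [Coalgebra k A]
  {N : Type w'} [AddCommGroup N] [Module k N] {M : Type w} [AddCommGroup M] [Module k M]

/-- `n ⊗ t ↦ (id ⊗ ε ⊗ id)`-contraction. -/
theorem aux1 (n : N) (t : A ⊗[k] A) :
    ((TensorProduct.rid k N).toLinearMap ∘ₗ (Coalgebra.counit (R := k) (A := A)).lTensor N).rTensor A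
      ((TensorProduct.assoc k N A A).symm (n ⊗ₜ[k] t)) =
      n ⊗ₜ[k] (TensorProduct.lid k A ((Coalgebra.counit (R := k) (A := A)).rTensor A t)) := by
  induction t using TensorProduct.induction_on with
  | zero => simp
  | add x y hx hy => simp only [TensorProduct.tmul_add, map_add, hx, hy]
  | tmul a b => simp [TensorProduct.smul_tmul]

theorem aux2 (x : N ⊗[k] A) :
    ((TensorProduct.rid k N).toLinearMap ∘ₗ (Coalgebra.counit (R := k) (A := A)).lTensor N).rTensor A
      ((TensorProduct.assoc k N A A).symm ((Coalgebra.comul (R := k) (A := A)).lTensor N x)) = x := by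
  induction x using TensorProduct.induction_on with
  | zero => simp
  | add x y hx hy => simp only [map_add, hx, hy]
  | tmul n a =>
    rw [LinearMap.lTensor_tmul, aux1, Coalgebra.rTensor_counit_comul, TensorProduct.lid_tmul, one_smul]

theorem aux3 (h : M →ₗ[k] N) (x : M ⊗[k] A) :
    (TensorProduct.rid k N) ((Coalgebra.counit (R := k) (A := A)).lTensor N (h.rTensor A x)) =
      h (TensorProduct.rid k M ((Coalgebra.counit (R := k) (A := A)).lTensor M x)) := by
  induction x using TensorProduct.induction_on with
  | zero => simp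
  | add x y hx hy => simp only [map_add, hx, hy]
  | tmul m a => simp

end Aux

/-- Let `k` be a commutative ring, `A` a commutative Hopf algebra over `k`, `M` a right `A`-comodule and
`N` a `k`-module; give `N ⊗ A` the coaction `id ⊗ Δ`. Then for every `k`-linear map `h : M → N` the
composite `(h ⊗ id_A) ∘ ρ_M : M → N ⊗ A` is a comodule map, and every comodule map `f : M → N ⊗ A`
is of this form for exactly one `h` (which is `(id_N ⊗ ε) ∘ f`): comodule maps `M → N ⊗ A`
correspond bijectively to linear maps `M → N`. -/
theorem result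
    (k : Type u) [CommRing k] (A : Type v) [CommRing A] [HopfAlgebra k A]
    (M : Type w) [AddCommGroup M] [Module k M] [HopfRep.Comod k A M]
    (N : Type w') [AddCommGroup N] [Module k N] :
    (∀ h : M →ₗ[k] N, Hoch.IsComodHom A
        ((Hoch.Ind.equiv k A N).toLinearMap ∘ₗ h.rTensor A ∘ₗ HopfRep.Comod.coact (k := k) (A := A))) ∧
      ∀ f : M →ₗ[k] Hoch.Ind k A N, Hoch.IsComodHom A f →
        ∃! h : M →ₗ[k] N,
          f = (Hoch.Ind.equiv k A N).toLinearMap ∘ₗ h.rTensor A ∘ₗ HopfRep.Comod.coact (k := k) (A := A) := by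
  have hcoassoc : ∀ m : M, (TensorProduct.assoc k M A A).symm
      ((Coalgebra.comul (R := k) (A := A)).lTensor M (HopfRep.Comod.coact (k := k) (A := A) m)) =
      (HopfRep.Comod.coact (k := k) (A := A) (V := M)).rTensor A (HopfRep.Comod.coact (k := k) (A := A) m) := by
    intro m
    have hc := LinearMap.congr_fun (HopfRep.Comod.coassoc (k := k) (A := A) (V := M)) m
    simp only [LinearMap.coe_comp, Function.comp_apply, LinearEquiv.coe_coe] at hc
    rw [← hc, LinearEquiv.symm_apply_apply]
  have hcounit : ∀ m : M, TensorProduct.rid k M ((Coalgebra.counit (R := k) (A := A)).lTensor M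
      (HopfRep.Comod.coact (k := k) (A := A) m)) = m := by
    intro m
    have hc := LinearMap.congr_fun (HopfRep.Comod.counit_comp (k := k) (A := A) (V := M)) m
    simp only [LinearMap.coe_comp, Function.comp_apply, LinearMap.flip_apply, TensorProduct.mk_apply] at hc
    rw [hc, TensorProduct.rid_tmul, one_smul]
  have hpart1 : ∀ h : M →ₗ[k] N, Hoch.IsComodHom A
      ((Hoch.Ind.equiv k A N).toLinearMap ∘ₗ h.rTensor A ∘ₗ HopfRep.Comod.coact (k := k) (A := A)) := by
    intro h
    apply LinearMap.ext
    intro m
    show (TensorProduct.assoc k N A A).symm ((Coalgebra.comul (R := k) (A := A)).lTensor N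
        (h.rTensor A (HopfRep.Comod.coact (k := k) (A := A) m))) =
      (h.rTensor A ∘ₗ HopfRep.Comod.coact (k := k) (A := A)).rTensor A (HopfRep.Comod.coact (k := k) (A := A) m)
    rw [ComodTens.lTensor_rTensor_comm, LinearMap.rTensor_comp, LinearMap.comp_apply, ← hcoassoc,
      LinearEquiv.symm_apply_eq, ComodTens.assoc_rTensor_rTensor, LinearEquiv.apply_symm_apply]
  refine ⟨hpart1, ?_⟩
  intro f hf
  let ctr : Hoch.Ind k A N →ₗ[k] N :=
    (TensorProduct.rid k N).toLinearMap ∘ₗ (Coalgebra.counit (R := k) (A := A)).lTensor N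
  refine ⟨ctr ∘ₗ f, ?_, ?_⟩
  · apply LinearMap.ext
    intro m
    have h1 := LinearMap.congr_fun hf m
    simp only [LinearMap.comp_apply] at h1
    have h1' : (TensorProduct.assoc k N A A).symm ((Coalgebra.comul (R := k) (A := A)).lTensor N (f m)) =
        f.rTensor A (HopfRep.Comod.coact (k := k) (A := A) m) := h1
    show f m = (ctr ∘ₗ f).rTensor A (HopfRep.Comod.coact (k := k) (A := A) m)
    rw [LinearMap.rTensor_comp, LinearMap.comp_apply, ← h1']
    exact (aux2 (f m)).symm
  · intro h' hh'
    apply LinearMap.ext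
    intro m
    have : f m = h'.rTensor A (HopfRep.Comod.coact (k := k) (A := A) m) := by
      rw [hh']; rfl
    show h' m = ctr (f m)
    rw [this]
    show h' m = (TensorProduct.rid k N) ((Coalgebra.counit (R := k) (A := A)).lTensor N
      (h'.rTensor A (HopfRep.Comod.coact (k := k) (A := A) m)))
    rw [aux3, hcounit]

end Groth.Agent.S12929
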