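import Groth.Statements.S12932
import Mathlib
-- import your own Groth.Agent.* helpers here

set_option autoImplicit false
universe u v
open scoped BigOperators
open InvTh

namespace Groth.Agent.S12932

/-- Let `B` be a commutative ring with an action of a finite group `Γ` by ring automorphisms, and call a
prime ideal `P` of `B` tame when the order of its inertia group `{γ | γ • x - x ∈ P for all x}` is
not divisible by the characteristic of `B/P` (its ramification group is trivial). Then every prime
of `B` is tame if and only if the trace `b ↦ Σ_γ γ • b`, which takes values in the invariant ring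
`B^Γ` and is `B^Γ`-linear, is onto `B^Γ` — equivalently, some element of `B` has trace `1`. -/
theorem result
    (B : Type u) [CommRing B] (Γ : Type v) [Group Γ] [Fintype Γ] [MulSemiringAction Γ B] :
    (∃ b : B, ∑ γ : Γ, γ • b = 1) ↔
      ∀ P : Ideal B, P.IsPrime → ((Nat.card (P.inertia Γ) : ℕ) : B ⧸ P) ≠ 0 := by

  classical
  -- fibres of the characters `γ ↦ (b ↦ [γ • b])` are right cosets of the inertia group
  have fiber : ∀ (P : Ideal B) (γ0 : Γ),
      (Finset.univ.filter (fun γ : Γ => ∀ b : B, γ • b - γ0 • b ∈ P)).card =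
        Nat.card (P.inertia Γ) := by
    intro P γ0
    rw [Nat.card_eq_fintype_card, Fintype.card_subtype]
    symm
    refine Finset.card_bij (fun τ _ => τ * γ0) ?_ ?_ ?_
    · intro τ hτ
      simp only [Finset.mem_filter, Finset.mem_univ, true_and] at hτ ⊢
      intro b
      rw [mul_smul]
      exact hτ (γ0 • b)
    · intro τ _ τ' _ h
      exact mul_right_cancel h
    · intro γ hγ
      simp only [Finset.mem_filter, Finset.mem_univ, true_and] at hγ
      refine ⟨γ * γ0⁻¹, ?_, by simp⟩
      simp only [Finset.mem_filter, Finset.mem_univ, true_and]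
      intro x
      have := hγ (γ0⁻¹ • x)
      rwa [smul_inv_smul, ← mul_smul] at this
  -- the characters
  have key : ∀ (P : Ideal B) [P.IsPrime],
      ∃ ψ : Γ → (B →* (B ⧸ P)), (∀ γ b, ψ γ b = Ideal.Quotient.mk P (γ • b)) ∧
        ∀ γ0 : Γ, (Finset.univ.filter (fun γ : Γ => ψ γ = ψ γ0)).card = Nat.card (P.inertia Γ) := by
    intro P _
    refine ⟨fun γ => (((Ideal.Quotient.mk P).comp (MulSemiringAction.toRingHom Γ B γ) :
      B →+* B ⧸ P) : B →* B ⧸ P), fun γ b => rfl, fun γ0 => ?_⟩
    rw [← fiber P γ0]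
    congr 1
    ext γ
    simp only [Finset.mem_filter, Finset.mem_univ, true_and]
    constructor
    · intro h b
      have := DFunLike.congr_fun h b
      exact Ideal.Quotient.eq.mp this
    · intro h
      ext b
      exact Ideal.Quotient.eq.mpr (h b)
  constructor
  · rintro ⟨b, hb⟩ P hP hzero
    haveI := hP
    obtain ⟨ψ, hψ, hcard⟩ := key P
    have e1 : (1 : B ⧸ P) = ∑ γ : Γ, ψ γ b := by
      rw [← map_one (Ideal.Quotient.mk P), ← hb, map_sum]
      exact Finset.sum_congr rfl (fun γ _ => (hψ γ b).symm)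
    rw [Finset.sum_comp (fun φ : B →* (B ⧸ P) => φ b) ψ] at e1
    have e2 : ∑ φ ∈ Finset.univ.image ψ,
        (Finset.univ.filter (fun γ : Γ => ψ γ = φ)).card • φ b = 0 := by
      refine Finset.sum_eq_zero (fun φ hφ => ?_)
      obtain ⟨γ0, -, rfl⟩ := Finset.mem_image.mp hφ
      rw [hcard γ0, ← Nat.cast_smul_eq_nsmul (B ⧸ P), hzero, zero_smul]
    rw [e2] at e1
    exact one_ne_zero e1
  · intro htame
    obtain ⟨A, hA⟩ : ∃ A : Subring B, A = FixedPoints.subring B Γ := ⟨_, rfl⟩
    have hAmem : ∀ b : B, b ∈ A ↔ ∀ γ : Γ, γ • b = b := by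
      intro b; rw [hA]; rfl
    haveI : Algebra.IsInvariant A B Γ := ⟨fun b hb => ⟨⟨b, (hAmem b).mpr hb⟩, rfl⟩⟩
    haveI : SMulCommClass Γ A B := ⟨fun γ a b => by
      show γ • ((a : B) * b) = (a : B) * γ • b
      rw [smul_mul', (hAmem a).mp a.2 γ]⟩
    have hint : Algebra.IsIntegral A B := Algebra.IsInvariant.isIntegral A B Γ
    have htr : ∀ b : B, ∑ γ : Γ, γ • b ∈ A := by
      intro b
      rw [hAmem]
      intro γ'
      rw [Finset.smul_sum]
      simp only [← mul_smul]
      exact Fintype.sum_equiv (Equiv.mulLeft γ') _ _ (fun γ => rfl)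
    let I : Ideal A :=
      { carrier := {a | ∃ b : B, ∑ γ : Γ, γ • b = (a : B)}
        add_mem' := by
          rintro a a' ⟨b, hb⟩ ⟨b', hb'⟩
          refine ⟨b + b', ?_⟩
          simp only [smul_add, Finset.sum_add_distrib, hb, hb', Subring.coe_add]
        zero_mem' := ⟨0, by simp⟩
        smul_mem' := by
          rintro c a ⟨b, hb⟩
          refine ⟨(c : B) * b, ?_⟩
          simp only [smul_mul', (hAmem c).mp c.2, ← Finset.mul_sum, hb, smul_eq_mul,
            Subring.coe_mul] }
    suffices h : I = ⊤ by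
      have h1 : (1 : A) ∈ I := by rw [h]; trivial
      obtain ⟨b, hb⟩ := h1
      exact ⟨b, by rw [hb]; rfl⟩
    have hinj : Function.Injective (algebraMap A B) := Subtype.val_injective
    refine (Ideal.map_eq_top_iff (algebraMap A B) hinj ?_).mp ?_
    · exact fun b => (hint.isIntegral b)
    by_contra hne
    obtain ⟨P, hPmax, hle⟩ := Ideal.exists_le_maximal _ hne
    haveI : P.IsPrime := hPmax.isPrime
    have hall : ∀ b : B, ∑ γ : Γ, γ • b ∈ P := by
      intro b
      refine hle ?_
      have : (⟨∑ γ : Γ, γ • b, htr b⟩ : A) ∈ I := ⟨b, rfl⟩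
      exact Ideal.mem_map_of_mem _ this
    obtain ⟨ψ, hψ, hcard⟩ := key P
    have hsum : ∑ φ ∈ Finset.univ.image ψ,
        (((Finset.univ.filter (fun γ : Γ => ψ γ = φ)).card : ℕ) : B ⧸ P) • (φ : B → B ⧸ P) = 0 := by
      funext b
      rw [Finset.sum_apply]
      simp only [Pi.smul_apply, smul_eq_mul, Pi.zero_apply]
      have e1 : ∑ γ : Γ, ψ γ b = 0 := by
        have : Ideal.Quotient.mk P (∑ γ : Γ, γ • b) = 0 :=
          Ideal.Quotient.eq_zero_iff_mem.mpr (hall b)
        rw [map_sum] at this
        rw [← this]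
        exact Finset.sum_congr rfl (fun γ _ => hψ γ b)
      rw [Finset.sum_comp (fun φ : B →* (B ⧸ P) => φ b) ψ] at e1
      rw [← e1]
      refine Finset.sum_congr rfl (fun φ _ => ?_)
      rw [nsmul_eq_mul]
    have hli := linearIndependent_iff'.mp (linearIndependent_monoidHom B (B ⧸ P))
      (Finset.univ.image ψ)
      (fun φ => (((Finset.univ.filter (fun γ : Γ => ψ γ = φ)).card : ℕ) : B ⧸ P)) hsum
      (ψ 1) (Finset.mem_image_of_mem ψ (Finset.mem_univ 1))
    rw [hcard 1] at hli
    exact htame P inferInstance hli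

end Groth.Agent.S12932
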