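import Groth.Statements.S12936
import Mathlib

set_option autoImplicit false
universe u v
open InvTh

namespace Groth.Agent.S12936

/-- Let `B` be a commutative ring with an action of a finite group `Γ` by ring automorphisms and `P` a
maximal ideal of `B`, with decomposition group `D_P = {γ | γP = P}` and decomposition ring `D =
B^{D_P}`. Then `D = B^Γ + (P ∩ D)`: every element of `B` fixed by `D_P` is congruent modulo `P` to a
`Γ`-invariant element. Hence the residue field of `D` at `P ∩ D` is that of `B^Γ` at `P ∩ B^Γ`; for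
an arbitrary prime `P` the same equality of residue fields follows by localising at `P ∩ B^Γ`. (The
published statement prints this residue field as `k(P)`; the proof establishes the equality with the
residue field of `B^Γ` stated here.) -/
theorem result
    (B : Type u) [CommRing B] (Γ : Type v) [Group Γ] [Finite Γ] [MulSemiringAction Γ B]
    (P : Ideal B) [P.IsMaximal] (x : B)
    (hx : ∀ γ : Γ, (∀ y : B, y ∈ P ↔ γ • y ∈ P) → γ • x = x) :
    ∃ c : B, (∀ γ : Γ, γ • c = c) ∧ x - c ∈ P := by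
  classical
  haveI : Fintype Γ := Fintype.ofFinite Γ
  haveI hPprime : P.IsPrime := Ideal.IsMaximal.isPrime ‹_›
  -- the decomposition group
  let D : Subgroup Γ :=
    { carrier := {γ | ∀ y : B, y ∈ P ↔ γ • y ∈ P}
      mul_mem' := fun {a b} ha hb y => by rw [mul_smul, ← ha, ← hb]
      one_mem' := fun y => by rw [one_smul]
      inv_mem' := fun {a} ha y => by
        have := ha (a⁻¹ • y)
        rw [smul_inv_smul] at this
        exact this.symm }
  have hDmem : ∀ γ : Γ, γ ∈ D ↔ ∀ y : B, y ∈ P ↔ γ • y ∈ P := fun γ => Iff.rfl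
  -- elements outside `D` move some element of `P` out of `P`
  have hout : ∀ σ : Γ, σ ∉ D → ∃ p ∈ P, σ • p ∉ P := by
    intro σ hσ
    by_contra hcon
    push Not at hcon
    apply hσ
    have hle : P ≤ P.comap (MulSemiringAction.toRingHom Γ B σ) := fun p hp => hcon p hp
    have hne : P.comap (MulSemiringAction.toRingHom Γ B σ) ≠ ⊤ :=
      (Ideal.IsPrime.comap (MulSemiringAction.toRingHom Γ B σ)).ne_top
    have heq := (Ideal.IsMaximal.eq_of_le ‹P.IsMaximal› hne hle)
    intro y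
    conv_lhs => rw [heq]
    rfl
  choose! q hqP hq using hout
  -- e₀
  let e₀ : B := ∏ τ ∈ Finset.univ.filter (fun τ : Γ => τ ∉ D), τ⁻¹ • q τ⁻¹
  have hinvD : ∀ τ : Γ, τ ∉ D → τ⁻¹ ∉ D := fun τ hτ h => hτ (inv_inv τ ▸ D.inv_mem h)
  have he₀P : e₀ ∉ P := by
    intro hmem
    obtain ⟨τ, hτ, hτP⟩ := Ideal.IsPrime.prod_mem_iff.mp hmem
    rw [Finset.mem_filter] at hτ
    exact hq τ⁻¹ (hinvD τ hτ.2) hτP
  have he₀σ : ∀ σ : Γ, σ ∉ D → σ • e₀ ∈ P := by
    intro σ hσ
    rw [Finset.smul_prod']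
    apply Ideal.prod_mem (i := σ) _ (Finset.mem_filter.mpr ⟨Finset.mem_univ _, hσ⟩)
    rw [smul_inv_smul]
    exact hqP σ⁻¹ (hinvD σ hσ)
  -- invert `e₀` modulo `P`
  obtain ⟨u, hu⟩ : ∃ u : B, u * e₀ - 1 ∈ P := by
    obtain ⟨u, hu⟩ := Ideal.Quotient.exists_inv (I := P)
      (a := Ideal.Quotient.mk P e₀) (by rwa [Ne, Ideal.Quotient.eq_zero_iff_mem])
    obtain ⟨u, rfl⟩ := Ideal.Quotient.mk_surjective u
    refine ⟨u, ?_⟩
    rw [← Ideal.Quotient.eq_zero_iff_mem, map_sub, map_mul, map_one, mul_comm, hu, sub_self]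
  let e : B := u * e₀
  have heσ : ∀ σ : Γ, σ ∉ D → σ • e ∈ P := by
    intro σ hσ
    rw [smul_mul']
    exact Ideal.mul_mem_left _ _ (he₀σ σ hσ)
  -- norm over `D`
  let e' : B := ∏ h : D, (h : Γ) • e
  have he'1 : e' - 1 ∈ P := by
    rw [← Ideal.Quotient.eq_zero_iff_mem, map_sub, map_one, map_prod, sub_eq_zero]
    apply Finset.prod_eq_one
    intro h _
    rw [← sub_eq_zero, ← map_one (Ideal.Quotient.mk P), ← map_sub, Ideal.Quotient.eq_zero_iff_mem]
    have : (h : Γ) • e - 1 = (h : Γ) • (e - 1) := by rw [smul_sub, smul_one]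
    rw [this]
    exact ((hDmem h).mp h.2 _).mp hu
  have he'D : ∀ h : D, (h : Γ) • e' = e' := by
    intro h
    rw [Finset.smul_prod']
    simp only [← mul_smul]
    exact Fintype.prod_equiv (Equiv.mulLeft h) _ _ (fun h' => rfl)
  have he'σ : ∀ σ : Γ, σ ∉ D → σ • e' ∈ P := by
    intro σ hσ
    rw [Finset.smul_prod']
    apply Ideal.prod_mem (i := (1 : D)) _ (Finset.mem_univ _)
    rw [OneMemClass.coe_one, one_smul]
    exact heσ σ hσ
  -- z
  let z : B := e' * x
  have hzx : x - z ∈ P := by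
    have : x - z = -((e' - 1) * x) := by ring
    rw [this]
    exact neg_mem (Ideal.mul_mem_right _ _ he'1)
  have hzD : ∀ h : Γ, h ∈ D → h • z = z := by
    intro h hh
    rw [smul_mul', he'D ⟨h, hh⟩, hx h ((hDmem h).mp hh)]
  have hzσ : ∀ σ : Γ, σ ∉ D → σ • z ∈ P := by
    intro σ hσ
    rw [smul_mul']
    exact Ideal.mul_mem_right _ _ (he'σ σ hσ)
  -- sum over the orbit
  let O : Finset B := Finset.univ.image (fun σ : Γ => σ • z)
  refine ⟨∑ w ∈ O, w, ?_, ?_⟩
  · intro γ
    rw [Finset.smul_sum]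
    refine Finset.sum_bij (fun w _ => γ • w) ?_ ?_ ?_ ?_
    · intro w hw
      obtain ⟨σ, -, rfl⟩ := Finset.mem_image.mp hw
      exact Finset.mem_image.mpr ⟨γ * σ, Finset.mem_univ _, mul_smul _ _ _⟩
    · intro w _ w' _ hww'
      exact (MulAction.injective γ) hww'
    · intro w hw
      obtain ⟨σ, -, rfl⟩ := Finset.mem_image.mp hw
      exact ⟨γ⁻¹ • σ • z, Finset.mem_image.mpr ⟨γ⁻¹ * σ, Finset.mem_univ _, mul_smul _ _ _⟩,
        smul_inv_smul _ _⟩
    · intro w _; rfl
  · have hzO : z ∈ O := Finset.mem_image.mpr ⟨1, Finset.mem_univ _, one_smul _ _⟩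
    rw [← Finset.add_sum_erase O _ hzO]
    have : x - (z + ∑ w ∈ O.erase z, w) = (x - z) - ∑ w ∈ O.erase z, w := by ring
    rw [this]
    refine sub_mem hzx (Ideal.sum_mem _ ?_)
    intro w hw
    obtain ⟨hwz, hwO⟩ := Finset.mem_erase.mp hw
    obtain ⟨σ, -, rfl⟩ := Finset.mem_image.mp hwO
    apply hzσ
    intro hσ
    exact hwz (hzD σ hσ)

end Groth.Agent.S12936
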