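import Groth.Statements.S12946
import Mathlib.RingTheory.Unramified.LocalStructure
import Mathlib.AlgebraicGeometry.Morphisms.QuasiFinite
import Mathlib.AlgebraicGeometry.Morphisms.FormallyUnramified

set_option autoImplicit false
universe u
open CategoryTheory AlgebraicGeometry
open AlgSt

namespace Groth.Agent.S12946

/-- A DM morphism of algebraic stacks is quasi-DM (an unramified morphism of algebraic spaces being
locally quasi-finite). -/
theorem result
    (S : Scheme.{u}) (𝒳 : AlgSt.Cat S) (𝒴 : AlgSt.Cat S)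
    (h𝒳 : AlgSt.IsAlgStack Scheme.fppfPrecoverage 𝒳)
    (h𝒴 : AlgSt.IsAlgStack Scheme.fppfPrecoverage 𝒴)
    (f : 𝒳 ⥤ᵇ 𝒴) :
    AlgSt.IsDMMor f → AlgSt.IsQuasiDMMor f := by
  intro h
  intro U y
  obtain ⟨F, e, he, hP⟩ := h U y
  refine ⟨F, e, he, ?_⟩
  intro U' V' a b g ha hb hab
  obtain ⟨h1, h2⟩ := hP a b g ha hb hab
  refine ⟨?_, h1⟩
  haveI : LocallyOfFiniteType g.left := h1
  haveI : FormallyUnramified g.left := h2
  constructor
  intro W hW V hV e'
  have hft := Scheme.Hom.finiteType_appLE (f := g.left) hW hV e'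
  have hfu := Scheme.Hom.formallyUnramified_appLE (f := g.left) hW hV e'
  algebraize [(g.left.appLE W V e').hom]
  show Algebra.QuasiFinite _ _
  infer_instance

end Groth.Agent.S12946
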