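import Groth.Statements.S12970
import Groth.Agent.Lib.AlgStLocal3_lead

set_option autoImplicit false
universe u
open CategoryTheory AlgebraicGeometry
open AlgSt

namespace Groth.Agent.S12970

/-- Let 𝒳 be an algebraic stack and W → 𝒳 a surjective, flat, locally finitely presented morphism from
an algebraic space which is moreover locally quasi-finite. Then 𝒳 is quasi-DM over the base scheme.
(The published statement concludes quasi-DM over the integers; this row concludes it over the base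
scheme, which is equivalent for algebraic stacks.) -/
theorem result
    (S : Scheme.{u}) (𝒳 : AlgSt.Cat S)
    (h𝒳 : AlgSt.IsAlgStack Scheme.fppfPrecoverage 𝒳)
    (W : AlgSp.Space S) (w : AlgSt.ofSp W.obj ⥤ᵇ 𝒳)
    (hw₁ : AlgSt.RepByAlgSpWith (AlgSp.LocP @Flat) w)
    (hw₂ : AlgSt.RepByAlgSpWith (AlgSp.LocP @LocallyOfFinitePresentation) w)
    (hw₃ : AlgSt.RepByAlgSpWith AlgSp.IsSurjectiveMor w)
    (hw₄ : AlgSt.RepByAlgSpWith (AlgSp.LocP (@LocallyQuasiFinite ⊓ @LocallyOfFiniteType)) w) :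
    AlgSt.IsQuasiDMOver 𝒳 := by
  open Groth.Agent.Lib.AlgStLocal Groth.Agent.Lib.AlgStDiagRep Groth.Agent.Lib.AlgSpLocP7_helper7
    Groth.Agent.Lib.AlgSpLocP4_helper7 in
  exact repWith_diag_toSelf_of_cover h𝒳.isStack.1 (Stk.isFibGrpd_ofPsh W.obj.obj) h𝒳.diag _
    (bc_locP _ etLocal_locallyQuasiFinite)
    (fun _ _ _ hX hY hZ a b ha hb => locP_comp etLocal_locallyQuasiFinite hX hY hZ a b ha hb)
    isLocalOnBase_fppf_lqf w hw₁ hw₂ hw₃ hw₄
    (isQuasiDMMor_of_repByAlgSp1 _ (repByAlgSp1_toSelf_ofSp W))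

end Groth.Agent.S12970
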