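import Groth.Statements.S13016
import Groth.Agent.Lib.OfPshWith2_lead

set_option autoImplicit false
universe u
open CategoryTheory AlgebraicGeometry
open AlgSt

namespace Groth.Agent.S13016

/-- In a 2-commutative triangle of algebraic stacks f : 𝒳 → 𝒴, a : 𝒳 → 𝒵, b : 𝒴 → 𝒵 with b ∘ f
2-isomorphic to a, if a is affine and the diagonal of b is affine then f is affine. -/
theorem result
    (S : Scheme.{u}) (𝒳 : AlgSt.Cat S) (𝒴 : AlgSt.Cat S) (𝒵 : AlgSt.Cat S)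
    (h𝒳 : AlgSt.IsAlgStack Scheme.fppfPrecoverage 𝒳)
    (h𝒴 : AlgSt.IsAlgStack Scheme.fppfPrecoverage 𝒴)
    (h𝒵 : AlgSt.IsAlgStack Scheme.fppfPrecoverage 𝒵)
    (f : 𝒳 ⥤ᵇ 𝒴) (a : 𝒳 ⥤ᵇ 𝒵) (b : 𝒴 ⥤ᵇ 𝒵) (e : BasedFunctor.comp f b ≅ a) :
    AlgSt.RepByAlgSpWith AlgSp.IsAffineMor a → AlgSt.RepByAlgSpWith AlgSp.IsAffineMor (FibCat.diag b) → AlgSt.RepByAlgSpWith AlgSp.IsAffineMor f := by
  intro ha hb
  exact Groth.Agent.Lib.OfPshWith.repWith_of_triangle h𝒳.isStack.1 h𝒴.isStack.1 h𝒵.isStack.1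
    AlgSp.IsAffineMor Groth.Agent.Lib.OfPshWith.isoInv_isAffineMor
    Groth.Agent.Lib.OfPshWith.schemeTestable_isAffineMor
    (fun _ _ _ _ _ _ a b ha hb => Groth.Agent.Lib.AlgSpAffineMorH7.isAffineMor_comp a b ha hb)
    f a b e ha hb

end Groth.Agent.S13016
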