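import Groth.Statements.S13041
import Mathlib

set_option autoImplicit false
universe u
open MaxMod

namespace Groth.Agent.S13041

/-- Let R be a domain with fraction field K, let A → B be a homomorphism of commutative R-algebras that
are flat over R, with B module-finite over A, such that the induced map K ⊗_R A → K ⊗_R B is
bijective. If the A-linear map Hom_A(B, A) → A evaluating at 1 is surjective, then A → B is
bijective. (The published statement concerns a finite morphism of flat schemes over a discrete
valuation ring, with locally free relative dualizing sheaves, that is an isomorphism over a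
schematically dense open and whose trace map on dualizing sheaves is surjective; this row is the
statement about rings to which the printed proof reduces it and which that proof establishes, and
the argument uses only that R is a domain.) -/
theorem result
    (R K A B : Type u) [CommRing R] [IsDomain R] [Field K] [Algebra R K] [IsFractionRing R K]
    [CommRing A] [CommRing B] [Algebra R A] [Algebra R B] [Algebra A B] [IsScalarTower R A B]
    [Module.Flat R A] [Module.Flat R B] [Module.Finite A B]
    (hK : Function.Bijective
      (Algebra.TensorProduct.map (AlgHom.id R K) (IsScalarTower.toAlgHom R A B)))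
    (htr : Function.Surjective (fun u : B →ₗ[A] A => u 1)) :
    Function.Bijective (algebraMap A B) := by
  classical
  obtain ⟨u, hu⟩ := htr 1
  have hu1 : u 1 = 1 := hu
  have hualg : ∀ a : A, u (algebraMap A B a) = a := by
    intro a
    rw [Algebra.algebraMap_eq_smul_one, map_smul, hu1, smul_eq_mul, mul_one]
  constructor
  · intro a a' h
    have := congrArg u h
    rwa [hualg, hualg] at this
  · intro b
    have hL : ∀ ξ : TensorProduct R K A, ∃ r : R, r ≠ 0 ∧ ∃ a : A,
        r • ξ = (1 : K) ⊗ₜ[R] a := by
      intro ξ
      induction ξ using TensorProduct.induction_on with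
      | zero => exact ⟨1, one_ne_zero, 0, by simp⟩
      | tmul k a =>
        obtain ⟨n, d, hd, rfl⟩ := IsFractionRing.div_surjective (A := R) k
        have hd0 : d ≠ 0 := nonZeroDivisors.ne_zero hd
        refine ⟨d, hd0, n • a, ?_⟩
        have hdK : algebraMap R K d ≠ 0 := by
          intro h0
          exact hd0 ((IsFractionRing.injective R K) (by rw [h0, map_zero]))
        calc d • ((algebraMap R K n / algebraMap R K d) ⊗ₜ[R] a)
            = (d • (algebraMap R K n / algebraMap R K d)) ⊗ₜ[R] a := TensorProduct.smul_tmul' _ _ _
          _ = (algebraMap R K n) ⊗ₜ[R] a := by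
              congr 1
              rw [Algebra.smul_def]
              field_simp
          _ = (n • (1 : K)) ⊗ₜ[R] a := by rw [Algebra.algebraMap_eq_smul_one]
          _ = (1 : K) ⊗ₜ[R] (n • a) := by rw [TensorProduct.smul_tmul]
      | add ξ₁ ξ₂ h₁ h₂ =>
        obtain ⟨r₁, hr₁, a₁, e₁⟩ := h₁
        obtain ⟨r₂, hr₂, a₂, e₂⟩ := h₂
        refine ⟨r₁ * r₂, mul_ne_zero hr₁ hr₂, r₂ • a₁ + r₁ • a₂, ?_⟩
        calc (r₁ * r₂) • (ξ₁ + ξ₂) = r₂ • (r₁ • ξ₁) + r₁ • (r₂ • ξ₂) := by
              rw [smul_add, mul_smul r₁ r₂ ξ₂, mul_comm r₁ r₂, mul_smul]
          _ = _ := by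
              rw [e₁, e₂, ← TensorProduct.tmul_smul, ← TensorProduct.tmul_smul,
                ← TensorProduct.tmul_add]
    obtain ⟨ξ, hξ⟩ := hK.2 ((1 : K) ⊗ₜ[R] b)
    obtain ⟨r, hr, a, hra⟩ := hL ξ
    have h1 : (1 : K) ⊗ₜ[R] (r • b) = (1 : K) ⊗ₜ[R] (algebraMap A B a) := by
      have := congrArg
        (Algebra.TensorProduct.map (AlgHom.id R K) (IsScalarTower.toAlgHom R A B)) hra
      rw [map_smul, hξ, ← TensorProduct.tmul_smul] at this
      simpa using this
    have hinj := Algebra.TensorProduct.includeRight_injective (R := R) (A := K) (B := B)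
      (IsFractionRing.injective R K)
    have h2 : r • b = algebraMap A B a := hinj (by simpa using h1)
    have h3 : r • u b = a := by
      have := congrArg u h2
      rwa [hualg, LinearMap.map_smul_of_tower] at this
    refine ⟨u b, ?_⟩
    have hreg := Module.Flat.isSMulRegular_of_nonZeroDivisors (M := B)
      (mem_nonZeroDivisors_of_ne_zero hr)
    apply hreg
    show r • algebraMap A B (u b) = r • b
    rw [h2, ← h3, Algebra.algebraMap_eq_smul_one, Algebra.algebraMap_eq_smul_one, smul_assoc]

end Groth.Agent.S13041
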