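import Groth.Statements.S13042
import Mathlib

set_option autoImplicit false
universe u
open MaxMod

namespace Groth.Agent.S13042

open MvPolynomial in
/-- Let p be a prime, R a local ring of characteristic p, λ an element of the maximal ideal of R and f ∈
R. Then there is an isomorphism of R-algebras R[W₁, W₂]/(W₁^p − f, W₂^p − f) ≅ R[x, W]/(x^p, W^p −
f) with W₁ ↦ x + W + λ·x·W and W₂ ↦ W; that is, Spec R[W]/(W^p − f) with the action w ↦ x + w + λxw
is a torsor under the group scheme Spec R[x]/(x^p) with law x₁ ∘ x₂ = x₁ + x₂ + λx₁x₂. (The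
published statement is over a complete discrete valuation ring of characteristic p with λ a nonzero
nonunit, and also asserts that for f in the fraction field with negative valuation v(f) > −p·v(λ)
the torsor W^p = f extends to a torsor over R, using the coordinate 1/W; that second case fails: for
p = 2, λ = π a uniformizer and f = 1/π, every model is Spec R[π^a t] with t² = π, and none of these
is a torsor since the coaction sends t to t − π(1 + t)x. Only the case f ∈ R is stated, and the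
argument there uses only that R is local of characteristic p.) -/
theorem result
    (p : ℕ) [Fact p.Prime] (R : Type u) [CommRing R] [IsLocalRing R] [CharP R p]
    (lam f : R) (hlam : lam ∈ IsLocalRing.maximalIdeal R) :
    ∃ e : (MvPolynomial (Fin 2) R ⧸ Ideal.span {(X 0 ^ p - C f : MvPolynomial (Fin 2) R), X 1 ^ p - C f}) ≃ₐ[R]
        (MvPolynomial (Fin 2) R ⧸ Ideal.span {(X 0 ^ p : MvPolynomial (Fin 2) R), X 1 ^ p - C f}),
      e (Ideal.Quotient.mk _ (X 0)) = Ideal.Quotient.mk _ (X 0 + X 1 + C lam * X 0 * X 1) ∧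
      e (Ideal.Quotient.mk _ (X 1)) = Ideal.Quotient.mk _ (X 1) := by
  classical
  have hp : p.Prime := Fact.out
  obtain ⟨I, hI⟩ : ∃ I : Ideal (MvPolynomial (Fin 2) R),
      I = Ideal.span {(X 0 ^ p - C f : MvPolynomial (Fin 2) R), X 1 ^ p - C f} := ⟨_, rfl⟩
  obtain ⟨J, hJ⟩ : ∃ J : Ideal (MvPolynomial (Fin 2) R),
      J = Ideal.span {(X 0 ^ p : MvPolynomial (Fin 2) R), X 1 ^ p - C f} := ⟨_, rfl⟩
  rw [← hI, ← hJ]
  have hI0 : (X 0 ^ p - C f : MvPolynomial (Fin 2) R) ∈ I := by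
    rw [hI]; exact Ideal.subset_span (by simp)
  have hI1 : (X 1 ^ p - C f : MvPolynomial (Fin 2) R) ∈ I := by
    rw [hI]; exact Ideal.subset_span (by simp)
  have hJ0 : (X 0 ^ p : MvPolynomial (Fin 2) R) ∈ J := by
    rw [hJ]; exact Ideal.subset_span (by simp)
  have hJ1 : (X 1 ^ p - C f : MvPolynomial (Fin 2) R) ∈ J := by
    rw [hJ]; exact Ideal.subset_span (by simp)
  -- the unit
  obtain ⟨v, hv⟩ : ∃ v : R, v * (1 + lam ^ p * f) = 1 := by
    have hmem : -(lam ^ p * f) ∈ nonunits R := by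
      rw [← IsLocalRing.mem_maximalIdeal]
      exact Ideal.neg_mem_iff _ |>.mpr
        (Ideal.mul_mem_right _ _ (Ideal.pow_mem_of_mem _ hlam p hp.pos))
    have hu := IsLocalRing.isUnit_one_sub_self_of_mem_nonunits _ hmem
    rw [sub_neg_eq_add] at hu
    obtain ⟨u, hu'⟩ := hu
    exact ⟨↑u⁻¹, by rw [← hu']; exact u.inv_mul⟩
  obtain ⟨w, hw⟩ : ∃ w : MvPolynomial (Fin 2) R, w = X 0 + X 1 + C lam * X 0 * X 1 := ⟨_, rfl⟩
  obtain ⟨U, hU⟩ : ∃ U : MvPolynomial (Fin 2) R, U = C v * (1 + C lam * X 1) ^ (p - 1) :=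
    ⟨_, rfl⟩
  have hUeq : U * (1 + C lam * X 1) - 1 = C v * C lam ^ p * (X 1 ^ p - C f) := by
    have hp1 : (1 + C lam * X 1 : MvPolynomial (Fin 2) R) ^ (p - 1) * (1 + C lam * X 1) =
        (1 + C lam * X 1) ^ p := by
      rw [← pow_succ, Nat.sub_add_cancel hp.one_le]
    have hvC : (C v : MvPolynomial (Fin 2) R) * (1 + C lam ^ p * C f) = 1 := by
      rw [← C_pow, ← C_mul, ← C_1, ← C_add, ← C_mul, hv]
    rw [hU, mul_assoc, hp1, add_pow_char, one_pow, mul_pow]
    linear_combination hvC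
  have hUI : U * (1 + C lam * X 1) - 1 ∈ I := by
    rw [hUeq]; exact I.mul_mem_left _ hI1
  have hUJ : U * (1 + C lam * X 1) - 1 ∈ J := by
    rw [hUeq]; exact J.mul_mem_left _ hJ1
  let Φ : MvPolynomial (Fin 2) R →ₐ[R] MvPolynomial (Fin 2) R :=
    aeval (fun i : Fin 2 => if i = 0 then w else X 1)
  let Ψ : MvPolynomial (Fin 2) R →ₐ[R] MvPolynomial (Fin 2) R :=
    aeval (fun i : Fin 2 => if i = 0 then (X 0 - X 1) * U else X 1)
  have hΦ0 : Φ (X 0) = w := by simp [Φ]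
  have hΦ1 : Φ (X 1) = X 1 := by simp [Φ]
  have hΦC : ∀ r : R, Φ (C r) = C r := by intro r; simp [Φ]
  have hΨ0 : Ψ (X 0) = (X 0 - X 1) * U := by simp [Ψ]
  have hΨ1 : Ψ (X 1) = X 1 := by simp [Ψ]
  have hΨC : ∀ r : R, Ψ (C r) = C r := by intro r; simp [Ψ]
  have hΦU : Φ U = U := by
    rw [hU, map_mul, map_pow, map_add, map_one, map_mul, hΦC, hΦC, hΦ1]
  have hwp : w ^ p - C f ∈ J := by
    have : w ^ p - C f = X 0 ^ p * (1 + C lam ^ p * X 1 ^ p) + (X 1 ^ p - C f) := by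
      rw [hw, add_pow_char, add_pow_char, mul_pow, mul_pow]; ring
    rw [this]
    exact J.add_mem (J.mul_mem_right _ hJ0) hJ1
  have hΦI : I ≤ J.comap Φ := by
    rw [hI, Ideal.span_le]
    intro x hx
    rcases hx with rfl | rfl
    · show Φ (X 0 ^ p - C f) ∈ J
      rw [map_sub, map_pow, hΦ0, hΦC]
      exact hwp
    · show Φ (X 1 ^ p - C f) ∈ J
      rw [map_sub, map_pow, hΦ1, hΦC]
      exact hJ1
  have hΨJ : J ≤ I.comap Ψ := by
    rw [hJ, Ideal.span_le]
    intro x hx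
    rcases hx with rfl | rfl
    · show Ψ (X 0 ^ p) ∈ I
      rw [map_pow, hΨ0, mul_pow, sub_pow_char]
      have : (X 0 ^ p - X 1 ^ p : MvPolynomial (Fin 2) R) =
          (X 0 ^ p - C f) - (X 1 ^ p - C f) := by ring
      rw [this]
      exact I.mul_mem_right _ (I.sub_mem hI0 hI1)
    · show Ψ (X 1 ^ p - C f) ∈ I
      rw [map_sub, map_pow, hΨ1, hΨC]
      exact hI1
  let φ := Ideal.quotientMapₐ J Φ hΦI
  let ψ := Ideal.quotientMapₐ I Ψ hΨJ
  have hφmk : ∀ x, φ (Ideal.Quotient.mk I x) = Ideal.Quotient.mk J (Φ x) := fun x => rfl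
  have hψmk : ∀ x, ψ (Ideal.Quotient.mk J x) = Ideal.Quotient.mk I (Ψ x) := fun x => rfl
  have h1 : ψ.comp φ = AlgHom.id R _ := by
    apply Ideal.Quotient.algHom_ext
    apply MvPolynomial.algHom_ext
    intro i
    simp only [AlgHom.comp_apply, Ideal.Quotient.mkₐ_eq_mk, AlgHom.id_apply, hφmk, hψmk]
    rw [Ideal.Quotient.eq]
    fin_cases i
    · show Ψ (Φ (X 0)) - X 0 ∈ I
      rw [hΦ0, hw, map_add, map_add, map_mul, map_mul, hΨ0, hΨ1, hΨC]
      have : (X 0 - X 1) * U + X 1 + C lam * ((X 0 - X 1) * U) * X 1 - X 0 =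
          (X 0 - X 1) * (U * (1 + C lam * X 1) - 1) := by ring
      rw [this]
      exact I.mul_mem_left _ hUI
    · show Ψ (Φ (X 1)) - X 1 ∈ I
      rw [hΦ1, hΨ1, sub_self]
      exact I.zero_mem
  have h2 : φ.comp ψ = AlgHom.id R _ := by
    apply Ideal.Quotient.algHom_ext
    apply MvPolynomial.algHom_ext
    intro i
    simp only [AlgHom.comp_apply, Ideal.Quotient.mkₐ_eq_mk, AlgHom.id_apply, hφmk, hψmk]
    rw [Ideal.Quotient.eq]
    fin_cases i
    · show Φ (Ψ (X 0)) - X 0 ∈ J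
      rw [hΨ0, map_mul, map_sub, hΦ0, hΦ1, hΦU, hw]
      have : (X 0 + X 1 + C lam * X 0 * X 1 - X 1) * U - X 0 =
          X 0 * (U * (1 + C lam * X 1) - 1) := by ring
      rw [this]
      exact J.mul_mem_left _ hUJ
    · show Φ (Ψ (X 1)) - X 1 ∈ J
      rw [hΨ1, hΦ1, sub_self]
      exact J.zero_mem
  refine ⟨AlgEquiv.ofAlgHom φ ψ h2 h1, ?_, ?_⟩
  · show φ (Ideal.Quotient.mk I (X 0)) = _
    rw [hφmk, hΦ0, hw]
  · show φ (Ideal.Quotient.mk I (X 1)) = _
    rw [hφmk, hΦ1]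

end Groth.Agent.S13042
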