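import Groth.Statements.S13048
import Mathlib

set_option autoImplicit false
universe u
open FrobAlg

namespace Groth.Agent.S13048

/-- Let k be an algebraically closed field of characteristic p > 0 and let A be a reduced finitely
generated commutative k-algebra with connected spectrum (A ≠ 0 and 0, 1 are its only idempotents).
If x ∈ A is a p^n-th power in A for every n ≥ 0, then x lies in the image of k; that is, ⋂_n A^{p^n}
= k. (The published statement is: for an artinian local ring R of characteristic p and a flat
R-algebra A of finite type, the maps A^ét → O(π₀(A)) → A^{p^∞/R} from the largest étale subalgebra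
to the preperfection are isomorphisms. This row is the case R = k algebraically closed and A reduced
with connected spectrum, where A^ét = k and the preperfection is ⋂_n A^{p^n}; the printed proof
reduces to this case and its last step proves it.) -/
theorem result
    (p : ℕ) [Fact p.Prime] (k : Type u) [Field k] [IsAlgClosed k] [CharP k p]
    (A : Type u) [CommRing A] [Algebra k A] [Algebra.FiniteType k A] [IsReduced A] [Nontrivial A]
    (hconn : ∀ e : A, IsIdempotentElem e → e = 0 ∨ e = 1)
    (x : A) (hx : ∀ n : ℕ, ∃ a : A, a ^ p ^ n = x) :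
    x ∈ (algebraMap k A).range := by
  classical
  haveI : IsNoetherianRing A := Algebra.FiniteType.isNoetherianRing k A
  haveI : CharP A p := charP_of_injective_algebraMap (FaithfulSMul.algebraMap_injective k A) p
  have hres : ∀ (m : Ideal A), m.IsMaximal → ∀ y : A, ∃ c : k, y - algebraMap k A c ∈ m := by
    intro m hm y
    letI : Field (A ⧸ m) := Ideal.Quotient.field m
    haveI : Algebra.FiniteType k (A ⧸ m) :=
      Algebra.FiniteType.of_surjective (Ideal.Quotient.mkₐ k m) (Ideal.Quotient.mkₐ_surjective k m)
    haveI : Module.Finite k (A ⧸ m) := finite_of_finite_type_of_isJacobsonRing k (A ⧸ m)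
    have hbij : Function.Bijective (algebraMap k (A ⧸ m)) :=
      IsAlgClosed.algebraMap_bijective_of_isIntegral
    obtain ⟨c, hc⟩ := hbij.2 (Ideal.Quotient.mk m y)
    refine ⟨c, ?_⟩
    rw [← Ideal.Quotient.eq, ← hc]
    rfl
  have hloc : ∀ (m : Ideal A), m.IsMaximal →
      ∃ c : k, ∃ s : A, s ∉ m ∧ s * (x - algebraMap k A c) = 0 := by
    intro m hm
    obtain ⟨c, hc⟩ := hres m hm x
    have hpow : ∀ n : ℕ, x - algebraMap k A c ∈ m ^ (p ^ n) := by
      intro n
      obtain ⟨a, ha⟩ := hx n
      obtain ⟨cn, hcn⟩ := hres m hm a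
      have h1 : (a - algebraMap k A cn) ^ p ^ n ∈ m ^ p ^ n := Ideal.pow_mem_pow hcn _
      rw [sub_pow_char_pow, ha, ← map_pow] at h1
      have h2 : x - algebraMap k A (cn ^ p ^ n) ∈ m :=
        Ideal.pow_le_self (pow_ne_zero _ (Fact.out : p.Prime).ne_zero) h1
      have h3 : algebraMap k A (cn ^ p ^ n - c) ∈ m := by
        have := Ideal.sub_mem _ hc h2
        have e : (x - algebraMap k A c) - (x - algebraMap k A (cn ^ p ^ n)) =
            algebraMap k A (cn ^ p ^ n - c) := by rw [map_sub]; ring
        rwa [e] at this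
      have h4 : cn ^ p ^ n - c = 0 := by
        by_contra hne
        have hu : IsUnit (algebraMap k A (cn ^ p ^ n - c)) := (IsUnit.mk0 _ hne).map _
        exact hm.ne_top (Ideal.eq_top_of_isUnit_mem _ h3 hu)
      have h5 : cn ^ p ^ n = c := sub_eq_zero.mp h4
      rwa [h5] at h1
    have hinf : x - algebraMap k A c ∈ (⨅ i : ℕ, m ^ i • ⊤ : Submodule A A) := by
      rw [Submodule.mem_iInf]
      intro i
      have : m ^ i • (⊤ : Submodule A A) = m ^ i := by
        rw [Ideal.smul_eq_mul, Ideal.mul_top]
      rw [this]
      exact Ideal.pow_le_pow_right (Nat.lt_pow_self (Fact.out : p.Prime).one_lt).le (hpow i)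
    obtain ⟨r, hr⟩ := (Ideal.mem_iInf_smul_pow_eq_bot_iff m (x - algebraMap k A c)).mp hinf
    refine ⟨c, 1 - r, ?_, ?_⟩
    · intro h
      exact hm.ne_top ((Ideal.eq_top_iff_one _).mpr (by simpa using Ideal.add_mem _ h r.2))
    · rw [sub_mul, one_mul, ← smul_eq_mul, hr, sub_self]
  let ann : k → Ideal A := fun c => (Ideal.span {x - algebraMap k A c}).annihilator
  have hann : ∀ c s, s ∈ ann c ↔ s * (x - algebraMap k A c) = 0 := by
    intro c s
    simp only [ann]
    rw [Ideal.span, Submodule.mem_annihilator_span_singleton, smul_eq_mul]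
  have htop : (⨆ c : k, ann c) = ⊤ := by
    by_contra hne
    obtain ⟨m, hm, hle⟩ := Ideal.exists_le_maximal _ hne
    obtain ⟨c, s, hs, hsz⟩ := hloc m hm
    exact hs (hle (Submodule.mem_iSup_of_mem c ((hann c s).mpr hsz)))
  have h1mem : (1 : A) ∈ ⨆ c : k, ann c := by rw [htop]; trivial
  obtain ⟨f, hf, hsum⟩ := (Submodule.mem_iSup_iff_exists_finsupp ann 1).mp h1mem
  have horth : ∀ c c' : k, c ≠ c' → f c * f c' = 0 := by
    intro c c' hne
    have h1 := (hann c (f c)).mp (hf c)
    have h2 := (hann c' (f c')).mp (hf c')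
    have hu : IsUnit (algebraMap k A (c' - c)) :=
      (IsUnit.mk0 _ (sub_ne_zero.mpr hne.symm)).map _
    have : f c * f c' * algebraMap k A (c' - c) = 0 := by
      have e : f c * f c' * algebraMap k A (c' - c) =
          f c' * (f c * (x - algebraMap k A c)) - f c * (f c' * (x - algebraMap k A c')) := by
        rw [map_sub]; ring
      rw [e, h1, h2]; simp
    exact (hu.mul_left_eq_zero).mp this
  have hidem : ∀ c : k, IsIdempotentElem (f c) := by
    intro c
    have : f c = f c * f c := by
      calc f c = f c * 1 := (mul_one _).symm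
        _ = f c * ∑ c' ∈ f.support, f c' := by rw [← hsum]; rfl
        _ = ∑ c' ∈ f.support, f c * f c' := Finset.mul_sum _ _ _
        _ = f c * f c := by
            apply Finset.sum_eq_single c
            · intro c' _ hne; exact horth c c' hne.symm
            · intro hc; rw [Finsupp.notMem_support_iff.mp hc, mul_zero]
    exact this.symm
  have hex : ∃ c : k, f c ≠ 0 := by
    by_contra hall
    push_neg at hall
    have : (1 : A) = 0 := by rw [← hsum]; simp [Finsupp.sum, hall]
    exact one_ne_zero this
  obtain ⟨c, hc⟩ := hex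
  have h1 : f c = 1 := (hconn _ (hidem c)).resolve_left hc
  have h2 := (hann c (f c)).mp (hf c)
  rw [h1, one_mul] at h2
  exact ⟨c, (sub_eq_zero.mp h2).symm⟩

end Groth.Agent.S13048
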