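import Groth.Statements.S13049


set_option autoImplicit false
universe u
open FrobAlg

namespace Groth.Agent.S13049

/-- Let p be a prime and A a commutative ring of characteristic p whose nilradical N satisfies x^(p^e) =
0 for all x ∈ N and some fixed e (for instance A Noetherian). Then the map between the inverse-limit
perfections along the absolute Frobenius, lim (⋯ → A → A) → lim (⋯ → A/N → A/N), induced by the
projection A → A/N, is bijective. (The published argument takes A of finite type over a field, where
the nilradical is finitely generated; this row assumes only that the nilradical is killed by one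
fixed iterate of Frobenius, which is all that argument uses.) -/
theorem result
    (p : ℕ) [Fact p.Prime] (A : Type u) [CommRing A] [CharP A p]
    [CharP (A ⧸ nilradical A) p] (e : ℕ) (he : ∀ x ∈ nilradical A, x ^ p ^ e = 0) :
    Function.Bijective (Perfection.map p (Ideal.Quotient.mk (nilradical A))) := by
  classical
  have hpow : ∀ (f : Perfection A p) (m n : ℕ),
      Perfection.coeff A p (m + n) f ^ p ^ n = Perfection.coeff A p m f := by
    intro f m n
    exact Perfection.coeffMonoidHom_pow_p_pow' f m n
  have hpow' : ∀ (f : Perfection (A ⧸ nilradical A) p) (m n : ℕ),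
      Perfection.coeff (A ⧸ nilradical A) p (m + n) f ^ p ^ n =
        Perfection.coeff (A ⧸ nilradical A) p m f := by
    intro f m n
    exact Perfection.coeffMonoidHom_pow_p_pow' f m n
  constructor
  · rw [injective_iff_map_eq_zero]
    intro f hf
    ext n
    have h1 : Ideal.Quotient.mk (nilradical A) (Perfection.coeff A p (n + e) f) = 0 := by
      have := congrArg (Perfection.coeff (A ⧸ nilradical A) p (n + e)) hf
      simpa using this
    have h2 : Perfection.coeff A p (n + e) f ∈ nilradical A := Ideal.Quotient.eq_zero_iff_mem.mp h1
    rw [← hpow f n e, he _ h2]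
    simp
  · intro g
    have hsurj : Function.Surjective (Ideal.Quotient.mk (nilradical A)) :=
      Ideal.Quotient.mk_surjective
    choose y hy using fun n => hsurj (Perfection.coeff (A ⧸ nilradical A) p n g)
    have key : ∀ n, (y (n + 1 + e) ^ p ^ e) ^ p = y (n + e) ^ p ^ e := by
      intro n
      have h1 : y (n + 1 + e) ^ p - y (n + e) ∈ nilradical A := by
        rw [← Ideal.Quotient.eq_zero_iff_mem, map_sub, map_pow, hy, hy]
        have : n + 1 + e = (n + e) + 1 := by omega
        rw [this, Perfection.coeff_pow_p', sub_self]
      have h2 := he _ h1
      rw [sub_pow_char_pow] at h2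
      rw [← pow_mul, mul_comm, pow_mul]
      exact sub_eq_zero.mp h2
    refine ⟨⟨fun n => y (n + e) ^ p ^ e, fun n => key n⟩, ?_⟩
    ext n
    rw [Perfection.coeff_map, Perfection.coeff_mk, map_pow, hy, hpow']

end Groth.Agent.S13049
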