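import Groth.Statements.S13051
import Mathlib
import Groth.Agent.Lib.ZetaPS_helper8

set_option autoImplicit false
universe u
open CategoryTheory AlgebraicGeometry
open Zeta

namespace Groth.Agent.S13051

/-- For a scheme X of finite type over a finite field k, Z(X, t) = ∏ over the closed points x of (1 −
t^{deg x})^{−1}, that is ∏_{r ≥ 1} (1 − t^r)^{−a_r} with a_r the number of closed points of residue
degree r; equivalently, for every n the product Z(X, t) · ∏_{r = 1}^{n} (1 − t^r)^{a_r} is ≡ 1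
modulo t^{n+1}. In particular Z(X, t) has integer coefficients. (Stated for any scheme of finite
type over k; reducedness plays no role.) -/
theorem result {k : Type u} [Field k] [Finite k] {X : Scheme.{u}}
    (f : X ⟶ Spec (CommRingCat.of k)) [LocallyOfFiniteType f] [QuasiCompact f] :
    (∀ n : ℕ, PowerSeries.trunc (n + 1)
        (Zeta.zetaFun f * ∏ r ∈ Finset.Icc 1 n, (1 - PowerSeries.X ^ r) ^ Zeta.degCount f r) = 1) ∧
      ∀ n : ℕ, ∃ z : ℤ, PowerSeries.coeff n (Zeta.zetaFun f) = (z : ℚ) := by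
  classical
  obtain ⟨a, ha⟩ : ∃ a : ℕ → ℕ, a = fun r => Zeta.degCount f r := ⟨_, rfl⟩
  have haf : ∀ r, Zeta.degCount f r = a r := by intro r; rw [ha]
  set L := Zeta.logZeta f with hLdef
  have hL0 : PowerSeries.constantCoeff L = 0 := by
    rw [← PowerSeries.coeff_zero_eq_constantCoeff_apply, hLdef, Zeta.logZeta,
      PowerSeries.coeff_mk]
    simp
  have hL' : ∀ j, PowerSeries.coeff j (PowerSeries.derivative ℚ L) =
      (Zeta.nPts f (j + 1) : ℚ) := by
    intro j
    rw [PowerSeries.coeff_derivative, hLdef, Zeta.logZeta, PowerSeries.coeff_mk]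
    have : ((j : ℚ) + 1) ≠ 0 := by positivity
    push_cast
    field_simp
  have hZ : Zeta.zetaFun f = PowerSeries.subst L (PowerSeries.exp ℚ) := rfl
  have hZ' := Groth.Agent.ZetaPS.derivative_exp_subst hL0
  have hZ0 := Groth.Agent.ZetaPS.constantCoeff_exp_subst hL0
  have hmain : ∀ n : ℕ, ∀ j, 1 ≤ j → j ≤ n → PowerSeries.coeff j
      (Zeta.zetaFun f * ∏ r ∈ Finset.Icc 1 n, (1 - PowerSeries.X ^ r : PowerSeries ℚ) ^ a r) = 0 := by
    intro n
    have hfac : ∀ r, (1 - PowerSeries.X ^ r : PowerSeries ℚ) =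
        1 - PowerSeries.C 1 * PowerSeries.X ^ r := by
      intro r; rw [map_one, one_mul]
    simp only [hfac]
    obtain ⟨P, hP⟩ : ∃ P : PowerSeries ℚ, P = ∏ r ∈ Finset.Icc 1 n,
        (1 - PowerSeries.C (1 : ℚ) * PowerSeries.X ^ r) ^ a r := ⟨_, rfl⟩
    rw [← hP]
    obtain ⟨h, hh⟩ : ∃ h : ℕ → PowerSeries ℚ, h = fun r : ℕ =>
        -(PowerSeries.C (1 : ℚ) * ((r : PowerSeries ℚ) * PowerSeries.X ^ (r - 1))) *
          Groth.Agent.ZetaPS.geom 1 r := ⟨_, rfl⟩
    have hP' : PowerSeries.derivative ℚ P =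
        P * ∑ r ∈ Finset.Icc 1 n, (a r : PowerSeries ℚ) * h r := by
      rw [hP]
      apply Groth.Agent.ZetaPS.derivative_prod_pow
      intro r hr
      rw [hh]
      exact Groth.Agent.ZetaPS.derivative_one_sub 1 (Finset.mem_Icc.mp hr).1
    obtain ⟨D, hD⟩ : ∃ D : PowerSeries ℚ, D = PowerSeries.derivative ℚ L +
        ∑ r ∈ Finset.Icc 1 n, (a r : PowerSeries ℚ) * h r := ⟨_, rfl⟩
    have hW' : PowerSeries.derivative ℚ (Zeta.zetaFun f * P) = (Zeta.zetaFun f * P) * D := by
      rw [Derivation.leibniz, hP', hZ, hZ', smul_eq_mul, smul_eq_mul, hD]; ring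
    apply Groth.Agent.ZetaPS.coeff_eq_zero_of_ode hW' n
    intro j hj
    rw [hD, map_add, hL' j, map_sum]
    have hterm : ∀ r ∈ Finset.Icc 1 n, PowerSeries.coeff j ((a r : PowerSeries ℚ) * h r) =
        if r ∣ j + 1 then -((r : ℚ) * (a r : ℚ)) else 0 := by
      intro r hr
      have hc : (a r : PowerSeries ℚ) = PowerSeries.C (a r : ℚ) :=
        (map_natCast (PowerSeries.C (R := ℚ)) (a r)).symm
      rw [hc, PowerSeries.coeff_C_mul, hh]
      dsimp only
      rw [Groth.Agent.ZetaPS.coeff_logDeriv 1 (Finset.mem_Icc.mp hr).1 j]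
      split_ifs
      · simp; ring
      · simp
    rw [Finset.sum_congr rfl hterm, ← Finset.sum_filter]
    have hdiv : Finset.filter (fun r => r ∣ j + 1) (Finset.Icc 1 n) = (j + 1).divisors := by
      ext d
      simp only [Finset.mem_filter, Finset.mem_Icc, Nat.mem_divisors]
      constructor
      · rintro ⟨_, hd⟩; exact ⟨hd, by omega⟩
      · rintro ⟨hd, _⟩
        have h1 := Nat.le_of_dvd (by omega) hd
        have h2 := Nat.pos_of_dvd_of_pos hd (by omega)
        exact ⟨⟨h2, by omega⟩, hd⟩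
    rw [hdiv, Zeta.nPts, Finset.sum_neg_distrib]
    push_cast
    simp only [haf]
    ring
  have hW0 : ∀ n, PowerSeries.coeff 0
      (Zeta.zetaFun f * ∏ r ∈ Finset.Icc 1 n, (1 - PowerSeries.X ^ r : PowerSeries ℚ) ^ a r) = 1 := by
    intro n
    rw [PowerSeries.coeff_zero_eq_constantCoeff_apply, map_mul, hZ, hZ0, one_mul, map_prod]
    apply Finset.prod_eq_one
    intro r hr
    rw [map_pow, map_sub, map_one, map_pow, PowerSeries.constantCoeff_X,
      zero_pow (by have := (Finset.mem_Icc.mp hr).1; omega), sub_zero, one_pow]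
  simp only [haf]
  refine ⟨?_, ?_⟩
  · intro n
    ext j
    rw [PowerSeries.coeff_trunc, Polynomial.coeff_one]
    by_cases hj : j < n + 1
    · rw [if_pos hj]
      by_cases hj0 : j = 0
      · subst hj0
        simpa using hW0 n
      · rw [hmain n j (by omega) (by omega)]
        simp [hj0]
    · rw [if_neg hj]
      have : j ≠ 0 := by omega
      simp [this]
  · intro n
    obtain ⟨Pz, hPz⟩ : ∃ Pz : PowerSeries ℤ, Pz = ∏ r ∈ Finset.Icc 1 n,
        (1 - PowerSeries.X ^ r) ^ a r := ⟨_, rfl⟩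
    have hPzunit : IsUnit Pz := by
      rw [PowerSeries.isUnit_iff_constantCoeff, hPz, map_prod]
      have : ∏ r ∈ Finset.Icc 1 n,
          PowerSeries.constantCoeff ((1 - PowerSeries.X ^ r : PowerSeries ℤ) ^ a r) = 1 := by
        apply Finset.prod_eq_one
        intro r hr
        rw [map_pow, map_sub, map_one, map_pow, PowerSeries.constantCoeff_X,
          zero_pow (by have := (Finset.mem_Icc.mp hr).1; omega), sub_zero, one_pow]
      rw [this]
      exact isUnit_one
    obtain ⟨V, hV⟩ := hPzunit.exists_right_inv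
    have hmapP : PowerSeries.map (Int.castRingHom ℚ) Pz =
        ∏ r ∈ Finset.Icc 1 n, (1 - PowerSeries.X ^ r : PowerSeries ℚ) ^ a r := by
      rw [hPz, map_prod]
      apply Finset.prod_congr rfl
      intro r _
      rw [map_pow, map_sub, map_one, map_pow, PowerSeries.map_X]
    have hZeq : Zeta.zetaFun f =
        (Zeta.zetaFun f * ∏ r ∈ Finset.Icc 1 n, (1 - PowerSeries.X ^ r : PowerSeries ℚ) ^ a r) *
          PowerSeries.map (Int.castRingHom ℚ) V := by
      rw [← hmapP, mul_assoc, ← map_mul, hV, map_one, mul_one]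
    refine ⟨PowerSeries.coeff n V, ?_⟩
    rw [hZeq, PowerSeries.coeff_mul, Finset.sum_eq_single (0, n)]
    · rw [hW0 n, one_mul, PowerSeries.coeff_map]
      rfl
    · rintro ⟨i, l⟩ hx hne
      have hil : i + l = n := Finset.HasAntidiagonal.mem_antidiagonal.mp hx
      have hi : i ≠ 0 := by
        intro h0
        apply hne
        subst h0
        simp only [zero_add] at hil
        rw [hil]
      dsimp only
      rw [hmain n i (by omega) (by omega), zero_mul]
    · intro hnot
      exact absurd (Finset.HasAntidiagonal.mem_antidiagonal.mpr (by simp)) hnot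

end Groth.Agent.S13051
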