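import Groth.Statements.S13059
import Mathlib

set_option autoImplicit false
universe u
open Zeta

namespace Groth.Agent.S13059

/-- Let B : V × W → K be a perfect pairing of finite-dimensional vector spaces over a field K, c ∈ K
nonzero, and f, g endomorphisms of V, W with B(f v, g w) = c · B(v, w) for all v, w. Then det(Id − t
g) = (−1)^r c^r t^r det(f)^{−1} det(Id − c^{−1} t^{−1} f) with r the common dimension; stated
cleared of denominators as det(f) · det(Id − t g) = (−1)^r c^r · det(t Id − c^{−1} f) in K[t],
det(Id − t g) being the reverse of the characteristic polynomial of g. -/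
theorem result (K : Type u) [Field K] (V W : Type u)
    [AddCommGroup V] [Module K V] [FiniteDimensional K V] [AddCommGroup W] [Module K W]
    [FiniteDimensional K W] (B : V →ₗ[K] W →ₗ[K] K) [B.IsPerfPair] (f : V →ₗ[K] V) (g : W →ₗ[K] W)
    (c : K) (hc : c ≠ 0) (hfg : ∀ (v : V) (w : W), B (f v) (g w) = c * B v w) :
    LinearMap.det f • (LinearMap.charpoly g).reverse =
      ((-1) ^ Module.finrank K W * c ^ Module.finrank K W) • (c⁻¹ • f).charpoly := by
  classical
  let b := Module.finBasis K V
  let b' : Module.Basis (Fin (Module.finrank K V)) K W :=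
    b.dualBasis.map B.flip.toPerfPair.symm
  have hpair : ∀ i j, B (b i) (b' j) = if i = j then 1 else 0 := by
    intro i j
    simp only [b', Module.Basis.map_apply]
    rw [LinearMap.apply_toPerfPair_flip, Module.Basis.dualBasis_apply_self]
  have hone : LinearMap.toMatrix₂ b b' B = 1 := by
    ext i j
    rw [LinearMap.toMatrix₂_apply, hpair, Matrix.one_apply]
  have hcompl : B.compl₁₂ f g = c • B := by
    apply LinearMap.ext₂
    intro v w
    simp [LinearMap.compl₁₂_apply, hfg]
  obtain ⟨F, hF⟩ : ∃ F, F = LinearMap.toMatrix b b f := ⟨_, rfl⟩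
  obtain ⟨G, hG⟩ : ∃ G, G = LinearMap.toMatrix b' b' g := ⟨_, rfl⟩
  have hFG : F.transpose * G = c • (1 : Matrix _ _ K) := by
    have h1 := LinearMap.toMatrix₂_compl₁₂ b b' b b' B f g
    rw [hcompl, map_smul, hone, Matrix.mul_one, ← hF, ← hG] at h1
    exact h1.symm
  have h1 : (F.map Polynomial.C).transpose * G.map Polynomial.C =
      (Polynomial.C c) • (1 : Matrix _ _ (Polynomial K)) := by
    have h2 := congrArg (fun M : Matrix _ _ K => M.map (Polynomial.C : K →+* Polynomial K)) hFG
    simp only [Matrix.map_mul, Matrix.transpose_map] at h2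
    rw [h2]
    ext i j
    simp [Matrix.one_apply, Matrix.smul_apply]
    split_ifs <;> simp
  have key : (F.map Polynomial.C).transpose *
      (1 - (Polynomial.X : Polynomial K) • G.map Polynomial.C) =
      ((-Polynomial.C c) • Matrix.charmatrix (c⁻¹ • F)).transpose := by
    rw [Matrix.mul_sub, Matrix.mul_one, Matrix.mul_smul, h1]
    apply Matrix.ext
    intro i j
    simp only [Matrix.sub_apply, Matrix.transpose_apply, Matrix.map_apply, Matrix.smul_apply,
      Matrix.one_apply, Matrix.charmatrix_apply, Matrix.diagonal_apply, smul_eq_mul]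
    by_cases hij : i = j
    · subst hij
      simp only [if_true, map_mul]
      have : Polynomial.C c * Polynomial.C c⁻¹ = (1 : Polynomial K) := by
        rw [← Polynomial.C_mul, mul_inv_cancel₀ hc, Polynomial.C_1]
      linear_combination (-Polynomial.C (F i i)) * this
    · have hji : ¬ j = i := fun h => hij h.symm
      simp only [if_neg hij, if_neg hji, map_mul]
      have : Polynomial.C c * Polynomial.C c⁻¹ = (1 : Polynomial K) := by
        rw [← Polynomial.C_mul, mul_inv_cancel₀ hc, Polynomial.C_1]
      linear_combination (-Polynomial.C (F j i)) * this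
  have hdet := congrArg Matrix.det key
  rw [Matrix.det_mul, Matrix.det_transpose, Matrix.det_transpose, Matrix.det_smul] at hdet
  have hdF : (F.map Polynomial.C).det = Polynomial.C F.det := by
    have := (RingHom.map_det (Polynomial.C : K →+* Polynomial K) F).symm
    simpa [RingHom.mapMatrix_apply] using this
  have hrank : Module.finrank K W = Module.finrank K V := by
    rw [Module.finrank_eq_card_basis b']
    simp
  have e1 : LinearMap.det f = F.det := by rw [hF, LinearMap.det_toMatrix]
  have e2 : (LinearMap.charpoly g).reverse = G.charpolyRev := by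
    rw [← Matrix.reverse_charpoly, hG, LinearMap.charpoly_toMatrix]
  have e3 : (c⁻¹ • f).charpoly = (c⁻¹ • F).charpoly := by
    rw [hF, ← map_smul, LinearMap.charpoly_toMatrix]
  rw [e1, e2, e3, hrank, Polynomial.smul_eq_C_mul, Polynomial.smul_eq_C_mul]
  rw [hdF, Fintype.card_fin] at hdet
  have e4 : Polynomial.C ((-1) ^ Module.finrank K V * c ^ Module.finrank K V) =
      (-Polynomial.C c) ^ Module.finrank K V := by
    rw [← mul_pow, Polynomial.C_pow]
    simp
  rw [e4]
  exact hdet

end Groth.Agent.S13059
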