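import Groth.Statements.S13060
import Mathlib

set_option autoImplicit false
universe u v w x
open TensorProduct
open Zeta

namespace Groth.Agent.S13060

/-- Let k be a field, V and W vector spaces over k and G a group acting on V by k-linear automorphisms;
for the induced action on V ⊗_k W (trivial on W) one has (V ⊗_k W)^G = V^G ⊗_k W, i.e. the
invariants of V ⊗ W are the image of V^G ⊗ W → V ⊗ W. -/
theorem result {k : Type u} [Field k] {G : Type v} [Group G]
    {V : Type w} {W : Type x} [AddCommGroup V] [Module k V] [AddCommGroup W] [Module k W]
    (ρ : Representation k G V) :
    (ρ.tprod (Representation.trivial k G W)).invariants =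
      LinearMap.range (TensorProduct.map ρ.invariants.subtype (LinearMap.id : W →ₗ[k] W)) := by
  classical
  apply le_antisymm
  · intro t ht
    rw [Representation.mem_invariants] at ht
    let b := Module.Basis.ofVectorSpace k W
    let e := TensorProduct.equivFinsuppOfBasisRight (M := V) b
    have hsum : ∀ (T : V →ₗ[k] V) (s : _ →₀ V),
        TensorProduct.map T (LinearMap.id : W →ₗ[k] W) (e.symm s) =
          e.symm (s.mapRange T (map_zero T)) := by
      intro T s
      rw [TensorProduct.equivFinsuppOfBasisRight_symm_apply,
        TensorProduct.equivFinsuppOfBasisRight_symm_apply, map_finsuppSum,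
        Finsupp.sum_mapRange_index]
      · simp
      · intro i; simp
    have hinv : ∀ i, e t i ∈ ρ.invariants := by
      intro i
      rw [Representation.mem_invariants]
      intro g
      have h1 := ht g
      rw [Representation.tprod_apply] at h1
      have h2 : TensorProduct.map (ρ g) (Representation.trivial k G W g) t =
          TensorProduct.map (ρ g) (LinearMap.id : W →ₗ[k] W) t := rfl
      rw [h2] at h1
      have h3 := hsum (ρ g) (e t)
      rw [LinearEquiv.symm_apply_apply, h1] at h3
      have h4 : e t = (e t).mapRange (ρ g) (map_zero _) := by
        have := congrArg e h3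
        rwa [LinearEquiv.apply_symm_apply] at this
      have := DFunLike.congr_fun h4 i
      rw [Finsupp.mapRange_apply] at this
      exact this.symm
    have ht' : t = e.symm (e t) := (LinearEquiv.symm_apply_apply e t).symm
    rw [ht', TensorProduct.equivFinsuppOfBasisRight_symm_apply]
    apply Submodule.sum_mem
    intro i _
    exact ⟨(⟨e t i, hinv i⟩ : ρ.invariants) ⊗ₜ b i, by simp⟩
  · rintro _ ⟨s, rfl⟩
    rw [Representation.mem_invariants]
    intro g
    induction s using TensorProduct.induction_on with
    | zero => simp
    | tmul v w =>
      simp only [TensorProduct.map_tmul, Representation.tprod_apply, Submodule.subtype_apply,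
        LinearMap.id_apply, Representation.trivial_apply]
      rw [(Representation.mem_invariants ρ _).mp v.2 g]
    | add x y hx hy => rw [map_add, map_add, hx, hy]

end Groth.Agent.S13060
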