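import Groth.Statements.S13061
import Mathlib

set_option autoImplicit false
universe u v w
open Zeta

namespace Groth.Agent.S13061

/-- Let A be a commutative algebra over a field k, G a finite group acting on A by k-algebra
automorphisms and I ⊆ A an ideal preserved by G. If p^n is the largest power of p = char(k) dividing
|G| (with p^n = 1 when char(k) = 0), then for every G-invariant b ∈ A/I the power b^{p^n} lies in
the image of A^G → (A/I)^G. (The published statement takes A finitely generated over k, which the
proof does not use.) -/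
theorem result {k : Type u} [Field k]
    {A : Type v} [CommRing A] [Algebra k A] {G : Type w} [Group G] [Finite G]
    [MulSemiringAction G A] [SMulCommClass G k A] (I : Ideal A)
    (hI : ∀ (g : G) (a : A), a ∈ I → g • a ∈ I) (u : A) (hu : ∀ g : G, g • u - u ∈ I) :
    ∃ a : A, (∀ g : G, g • a = a) ∧
      Ideal.Quotient.mk I a =
        Ideal.Quotient.mk I u ^ (ringChar k ^ (Nat.card G).factorization (ringChar k)) := by
  classical
  haveI : Fintype G := Fintype.ofFinite G
  set p := ringChar k with hp
  set n := (Nat.card G).factorization p with hn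
  set q := p ^ n with hq
  obtain ⟨m, hm, hmk, hchoose⟩ : ∃ m : ℕ, Nat.card G = q * m ∧ (m : k) ≠ 0 ∧
      (((Nat.card G).choose q : ℕ) : k) = (m : k) := by
    have hcard : Nat.card G ≠ 0 := Nat.card_pos.ne'
    haveI : CharP k p := ringChar.charP k
    rcases CharP.char_is_prime_or_zero k p with hpp | hp0
    · haveI : Fact p.Prime := ⟨hpp⟩
      have h1 : Nat.card G = q * (Nat.card G / q) :=
        (Nat.mul_div_cancel' (Nat.ordProj_dvd _ _)).symm
      refine ⟨Nat.card G / q, h1, ?_, ?_⟩
      · rw [Ne, CharP.cast_eq_zero_iff k p]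
        exact Nat.not_dvd_ordCompl hpp hcard
      · have h2 := Choose.choose_pow_mul_pow_mul_modEq_choose_nat (p := p) (k := n)
          (a := Nat.card G / q) (b := 1)
        rw [Nat.choose_one_right, mul_one, ← hq, ← h1] at h2
        exact (CharP.natCast_eq_natCast k p).mpr h2
    · have hq1 : q = 1 := by
        rw [hq, hn, hp0]
        simp
      haveI : CharP k 0 := by rw [← hp0]; infer_instance
      haveI : CharZero k := CharP.charP_to_charZero k
      refine ⟨Nat.card G, by rw [hq1, one_mul], by exact_mod_cast hcard, ?_⟩
      rw [hq1, Nat.choose_one_right]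
  obtain ⟨E, hE⟩ : ∃ E : A, E = ∑ S ∈ Finset.powersetCard q (Finset.univ : Finset G),
      ∏ g ∈ S, g • u := ⟨_, rfl⟩
  have hEinv : ∀ h : G, h • E = E := by
    intro h
    have h0 : h • E = MulSemiringAction.toRingHom G A h E := rfl
    rw [h0, hE, map_sum]
    simp only [map_prod, MulSemiringAction.toRingHom_apply, smul_smul]
    apply Finset.sum_equiv (Equiv.mulLeft h).finsetCongr
    · intro S
      simp only [Finset.mem_powersetCard, Finset.subset_univ, true_and,
        Equiv.finsetCongr_apply, Finset.card_map]
    · intro S _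
      rw [Equiv.finsetCongr_apply, Finset.prod_map]
      rfl
  have hmkE : Ideal.Quotient.mk I E =
      (((Nat.card G).choose q : ℕ) : A ⧸ I) * (Ideal.Quotient.mk I u) ^ q := by
    rw [hE, map_sum]
    have hS : ∀ S ∈ Finset.powersetCard q (Finset.univ : Finset G),
        Ideal.Quotient.mk I (∏ g ∈ S, g • u) = (Ideal.Quotient.mk I u) ^ q := by
      intro S hS
      rw [map_prod, Finset.prod_congr rfl (fun g _ => Ideal.Quotient.eq.mpr (hu g)),
        Finset.prod_const, (Finset.mem_powersetCard.mp hS).2]
    rw [Finset.sum_congr rfl hS, Finset.sum_const, Finset.card_powersetCard, Finset.card_univ,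
      nsmul_eq_mul, Nat.card_eq_fintype_card]
  refine ⟨algebraMap k A (m : k)⁻¹ * E, ?_, ?_⟩
  · intro g
    rw [smul_mul', hEinv g, Algebra.algebraMap_eq_smul_one, smul_comm, smul_one]
  · rw [map_mul, hmkE, ← mul_assoc]
    have h1 : (((Nat.card G).choose q : ℕ) : A ⧸ I) =
        Ideal.Quotient.mk I (algebraMap k A (((Nat.card G).choose q : ℕ) : k)) := by
      rw [map_natCast, map_natCast]
    rw [h1, hchoose, ← map_mul, ← map_mul, inv_mul_cancel₀ hmk, map_one, map_one, one_mul]

end Groth.Agent.S13061
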