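import Groth.Statements.S13065
import Mathlib

set_option autoImplicit false
universe u
open Zeta

namespace Groth.Agent.S13065

/-- Let k be a finite field with q elements and characteristic p, n ≥ 2, and f ∈ k[x_0, …, x_n]
homogeneous of degree n + 1, defining the hypersurface Z ⊂ P^n_k. Then #Z(F_q) ≢ 1 (mod p) if and
only if the coefficient of (x_0 ⋯ x_n)^{q−1} in f^{q−1} is nonzero. Stated through the affine count:
#Z(F_q) ≡ 1 (mod p) exactly when p divides the number of zeros of f in k^{n+1} (as (q − 1) #Z(F_q) +
1 is that number). -/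
theorem result {k : Type u} [Field k] [Finite k] (p : ℕ)
    [CharP k p] (n : ℕ) (hn : 2 ≤ n) (f : MvPolynomial (Fin (n + 1)) k)
    (hf : f.IsHomogeneous (n + 1)) :
    p ∣ Nat.card {a : Fin (n + 1) → k // MvPolynomial.eval a f = 0} ↔
      MvPolynomial.coeff (Finsupp.equivFunOnFinite.symm fun _ : Fin (n + 1) => Nat.card k - 1)
        (f ^ (Nat.card k - 1)) = 0 := by
  classical
  haveI : Fintype k := Fintype.ofFinite k
  have hqc : Nat.card k = Fintype.card k := Nat.card_eq_fintype_card
  rw [hqc, Nat.card_eq_fintype_card]
  set q := Fintype.card k with hq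
  have hq2 : 2 ≤ q := by
    have := Fintype.one_lt_card (α := k)
    omega
  have hq1 : 0 < q - 1 := by omega
  set e₀ : Fin (n + 1) →₀ ℕ := Finsupp.equivFunOnFinite.symm fun _ : Fin (n + 1) => q - 1 with he₀
  have he₀i : ∀ i, e₀ i = q - 1 := by intro i; simp [he₀]
  set F := f ^ (q - 1) with hF
  have hFhom : F.IsHomogeneous ((n + 1) * (q - 1)) := hf.pow (q - 1)
  have hS0 : ∀ j, j < q - 1 → ∑ t : k, t ^ j = 0 := fun j hj =>
    FiniteField.sum_pow_lt_card_sub_one k j hj
  have hS1 : ∑ t : k, t ^ (q - 1) = -1 := by
    have h1 : ∀ t : k, t ^ (q - 1) = if t ≠ 0 then 1 else 0 := by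
      intro t
      split_ifs with ht
      · exact FiniteField.pow_card_sub_one_eq_one t ht
      · push Not at ht
        rw [ht, zero_pow hq1.ne']
    rw [Finset.sum_congr rfl (fun t _ => h1 t), Finset.sum_boole, Finset.filter_ne',
      Finset.card_erase_of_mem (Finset.mem_univ _), Finset.card_univ, Nat.cast_sub (by omega),
      FiniteField.cast_card_eq_zero]
    simp
  have hmono : ∀ d : Fin (n + 1) →₀ ℕ,
      ∑ x : Fin (n + 1) → k, ∏ i, x i ^ d i = ∏ i, ∑ t : k, t ^ d i := by
    intro d
    rw [Finset.prod_univ_sum, Fintype.piFinset_univ]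
  have key1 : ∑ x : Fin (n + 1) → k, MvPolynomial.eval x F =
      MvPolynomial.coeff e₀ F * (-1) ^ (n + 1) := by
    calc ∑ x : Fin (n + 1) → k, MvPolynomial.eval x F
        = ∑ x : Fin (n + 1) → k, ∑ d ∈ F.support, F.coeff d * ∏ i, x i ^ d i := by
          simp only [MvPolynomial.eval_eq']
      _ = ∑ d ∈ F.support, ∑ x : Fin (n + 1) → k, F.coeff d * ∏ i, x i ^ d i :=
          Finset.sum_comm
      _ = ∑ d ∈ F.support, F.coeff d * ∏ i, ∑ t : k, t ^ d i := by
          apply Finset.sum_congr rfl
          intro d _
          rw [← Finset.mul_sum, hmono]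
      _ = F.coeff e₀ * ∏ i : Fin (n + 1), ∑ t : k, t ^ e₀ i := by
          apply Finset.sum_eq_single e₀
          · intro d hd hne
            have hdeg : d.degree = (n + 1) * (q - 1) := by
              by_contra hcon
              exact (MvPolynomial.mem_support_iff.mp hd) (hFhom.coeff_eq_zero hcon)
            have hex : ∃ i, d i < q - 1 := by
              by_contra hall
              push Not at hall
              apply hne
              have hsum : ∑ i, d i = ∑ i : Fin (n + 1), (q - 1) := by
                rw [← Finsupp.degree_eq_sum, hdeg]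
                simp
              have heq : ∀ i ∈ (Finset.univ : Finset (Fin (n + 1))), q - 1 = d i := by
                have := (Finset.sum_eq_sum_iff_of_le (fun i _ => hall i)).mp hsum.symm
                exact this
              ext i
              rw [he₀i i]
              exact (heq i (Finset.mem_univ i)).symm
            obtain ⟨i, hi⟩ := hex
            rw [Finset.prod_eq_zero (Finset.mem_univ i) (hS0 _ hi), mul_zero]
          · intro hnot
            rw [MvPolynomial.notMem_support_iff.mp hnot, zero_mul]
      _ = MvPolynomial.coeff e₀ F * (-1) ^ (n + 1) := by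
          simp only [he₀i, hS1, Finset.prod_const, Finset.card_univ, Fintype.card_fin]
  have key2 : ∑ x : Fin (n + 1) → k, (1 - MvPolynomial.eval x F) =
      (Fintype.card {a : Fin (n + 1) → k // MvPolynomial.eval a f = 0} : k) := by
    have h1 : ∀ x : Fin (n + 1) → k,
        (1 - MvPolynomial.eval x F) = if MvPolynomial.eval x f = 0 then 1 else 0 := by
      intro x
      rw [hF, map_pow]
      split_ifs with hx
      · rw [hx, zero_pow hq1.ne', sub_zero]
      · rw [FiniteField.pow_card_sub_one_eq_one _ hx, sub_self]
    rw [Finset.sum_congr rfl (fun x _ => h1 x), Finset.sum_boole, Fintype.card_subtype]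
  have key3 : (Fintype.card {a : Fin (n + 1) → k // MvPolynomial.eval a f = 0} : k) =
      -(MvPolynomial.coeff e₀ F * (-1) ^ (n + 1)) := by
    rw [← key2, Finset.sum_sub_distrib, key1, Finset.sum_const, Finset.card_univ,
      Fintype.card_pi_const, nsmul_eq_mul, mul_one, Nat.cast_pow,
      FiniteField.cast_card_eq_zero, zero_pow (by omega), zero_sub]
  rw [← CharP.cast_eq_zero_iff k p, key3, neg_eq_zero, mul_eq_zero]
  constructor
  · rintro (h | h)
    · exact h
    · exact absurd h (pow_ne_zero _ (by simp))
  · intro h
    exact Or.inl h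

end Groth.Agent.S13065
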