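import Groth.Statements.S13066
import Mathlib

set_option autoImplicit false
universe u
open Zeta

namespace Groth.Agent.S13066

/-- Let k be a finite field with q elements and characteristic p, n ≥ 2, and f ∈ k[x_0, …, x_n]
homogeneous of degree n + 1. Then the coefficient of (x_0 ⋯ x_n)^{q−1} in f^{q−1} is nonzero if and
only if the coefficient of (x_0 ⋯ x_n)^{p−1} in f^{p−1} is nonzero. -/
theorem result {k : Type u} [Field k] [Finite k]
    (p : ℕ) [CharP k p] (n : ℕ) (hn : 2 ≤ n) (f : MvPolynomial (Fin (n + 1)) k)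
    (hf : f.IsHomogeneous (n + 1)) :
    MvPolynomial.coeff (Finsupp.equivFunOnFinite.symm fun _ : Fin (n + 1) => Nat.card k - 1)
        (f ^ (Nat.card k - 1)) ≠ 0 ↔
      MvPolynomial.coeff (Finsupp.equivFunOnFinite.symm fun _ : Fin (n + 1) => p - 1)
        (f ^ (p - 1)) ≠ 0 := by
  classical
  haveI : Fintype k := Fintype.ofFinite k
  obtain ⟨r, hpp, hcard⟩ := FiniteField.card k p
  haveI : Fact p.Prime := ⟨hpp⟩
  haveI : ExpChar k p := ExpChar.prime hpp
  have hqc : Nat.card k = p ^ (r : ℕ) := by rw [Nat.card_eq_fintype_card, hcard]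
  rw [hqc]
  obtain ⟨e, he⟩ : ∃ e : ℕ → (Fin (n + 1) →₀ ℕ),
      e = fun s => Finsupp.equivFunOnFinite.symm fun _ : Fin (n + 1) => p ^ s - 1 := ⟨_, rfl⟩
  have hei : ∀ s i, e s i = p ^ s - 1 := by intro s i; simp [he]
  set g := f ^ (p - 1) with hg
  have hghom : g.IsHomogeneous ((n + 1) * (p - 1)) := hf.pow (p - 1)
  have he1 : (Finsupp.equivFunOnFinite.symm fun _ : Fin (n + 1) => p - 1) = e 1 := by
    ext i; simp [he]
  have hel : (Finsupp.equivFunOnFinite.symm fun _ : Fin (n + 1) => p ^ (r : ℕ) - 1) = e r := by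
    rw [he]
  rw [he1, hel]
  have hexp : ∀ s, p ^ (s + 1) - 1 = (p ^ s - 1) + (p - 1) * p ^ s := by
    intro s
    obtain ⟨t, ht⟩ : ∃ t, p ^ s = t + 1 :=
      ⟨p ^ s - 1, (Nat.sub_add_cancel (Nat.one_le_pow _ _ hpp.pos)).symm⟩
    obtain ⟨p', hp'⟩ : ∃ p', p = p' + 1 := ⟨p - 1, (Nat.sub_add_cancel hpp.one_le).symm⟩
    rw [pow_succ, ht]
    have h1 : (t + 1) * p = (t + (p - 1) * (t + 1)) + 1 := by
      rw [hp']
      simp only [Nat.add_sub_cancel]
      ring
    rw [h1, Nat.add_sub_cancel, Nat.add_sub_cancel]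
  have step : ∀ s, MvPolynomial.coeff (e (s + 1)) (f ^ (p ^ (s + 1) - 1)) =
      MvPolynomial.coeff (e s) (f ^ (p ^ s - 1)) * (MvPolynomial.coeff (e 1) g) ^ (p ^ s) := by
    intro s
    have hps : p ^ s ≠ 0 := pow_ne_zero _ hpp.ne_zero
    have hB : g ^ (p ^ s) = MvPolynomial.map (iterateFrobenius k p s)
        (MvPolynomial.expand (p ^ s) g) :=
      (MvPolynomial.map_iterateFrobenius_expand p g s).symm
    have hsum_e : e s + p ^ s • e 1 = e (s + 1) := by
      ext i
      simp only [Finsupp.coe_add, Finsupp.coe_smul, Pi.add_apply, Pi.smul_apply, hei,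
        smul_eq_mul, pow_one]
      rw [hexp s]; ring
    rw [hexp s, pow_add, pow_mul, ← hg, MvPolynomial.coeff_mul]
    rw [Finset.sum_eq_single (e s, p ^ s • e 1)]
    · dsimp only
      rw [hB, MvPolynomial.coeff_map, MvPolynomial.coeff_expand_smul _ hps, iterateFrobenius_def]
    · rintro ⟨a, b⟩ hx hne
      by_contra hne0
      have hx2 : MvPolynomial.coeff b (g ^ p ^ s) ≠ 0 := right_ne_zero_of_mul hne0
      rw [hB, MvPolynomial.coeff_map] at hx2
      have hx2' : MvPolynomial.coeff b (MvPolynomial.expand (p ^ s) g) ≠ 0 := by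
        intro h0; rw [h0, map_zero] at hx2; exact hx2 rfl
      have hmem := MvPolynomial.support_expand_subset g (MvPolynomial.mem_support_iff.mpr hx2')
      rw [Finset.mem_image] at hmem
      obtain ⟨d, hd, rfl⟩ := hmem
      have hanti : a + p ^ s • d = e (s + 1) := Finset.HasAntidiagonal.mem_antidiagonal.mp hx
      have hdeg : d.degree = (n + 1) * (p - 1) := by
        by_contra hcon
        exact (MvPolynomial.mem_support_iff.mp hd) (hghom.coeff_eq_zero hcon)
      have hdi : ∀ i, d i ≤ p - 1 := by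
        intro i
        have h1 := DFunLike.congr_fun hanti i
        simp only [Finsupp.coe_add, Finsupp.coe_smul, Pi.add_apply, Pi.smul_apply, hei,
          smul_eq_mul] at h1
        have h2 : p ^ (s + 1) = p ^ s * p := pow_succ _ _
        have h3 : 1 ≤ p ^ (s + 1) := Nat.one_le_pow _ _ hpp.pos
        have h4 : p ^ s * d i < p ^ s * p := by
          rw [← h2]
          generalize p ^ s * d i = Y at h1 ⊢
          omega
        have h5 : d i < p := Nat.lt_of_mul_lt_mul_left h4
        omega
      have hd_eq : d = e 1 := by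
        have hsum : ∑ i, d i = ∑ i : Fin (n + 1), (p - 1) := by
          rw [← Finsupp.degree_eq_sum, hdeg]; simp
        have heq := (Finset.sum_eq_sum_iff_of_le (fun i _ => hdi i)).mp hsum
        ext i
        rw [hei, pow_one]
        exact heq i (Finset.mem_univ i)
      apply hne
      have hx1eq : a = e s := by
        have := hanti
        rw [hd_eq, ← hsum_e] at this
        exact add_right_cancel this
      rw [hx1eq, hd_eq]
    · intro hnot
      exact absurd (Finset.HasAntidiagonal.mem_antidiagonal.mpr hsum_e) hnot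
  have hC : ∀ s, 1 ≤ s → (MvPolynomial.coeff (e s) (f ^ (p ^ s - 1)) ≠ 0 ↔
      MvPolynomial.coeff (e 1) g ≠ 0) := by
    intro s hs
    induction s, hs using Nat.le_induction with
    | base => rw [pow_one]
    | succ s hs ih =>
      rw [step, mul_ne_zero_iff, ih, pow_ne_zero_iff (pow_ne_zero _ hpp.ne_zero)]
      tauto
  exact hC r r.pos

end Groth.Agent.S13066
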