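import Groth.Statements.S13075
import Mathlib

set_option autoImplicit false
open Zeta

namespace Groth.Agent.S13075

/-- For the formal power series exp(t) = ∑_{m ≥ 0} t^m / m! and log(1 + t) = ∑_{m ≥ 1} (−1)^{m+1} t^m /
m over ℚ, log(exp(u)) = u and exp(log(1 + u)) = 1 + u for every u ∈ tℚ⟦t⟧; stated for u = t (the
general case is obtained by substitution): substituting exp(t) − 1 into log(1 + ·) gives t, and
substituting log(1 + t) into exp gives 1 + t. -/
theorem result :
    PowerSeries.subst (PowerSeries.exp ℚ - 1)
        (PowerSeries.mk fun m : ℕ => if m = 0 then (0 : ℚ) else (-1) ^ (m + 1) / (m : ℚ)) =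
      PowerSeries.X ∧
    PowerSeries.subst (PowerSeries.mk fun m : ℕ => if m = 0 then (0 : ℚ) else (-1) ^ (m + 1) / (m : ℚ))
        (PowerSeries.exp ℚ) = 1 + PowerSeries.X := by
  have hlog : (PowerSeries.mk fun m : ℕ => if m = 0 then (0 : ℚ) else (-1) ^ (m + 1) / (m : ℚ)) =
      PowerSeries.log ℚ := by
    ext n
    simp [PowerSeries.coeff_log]
  rw [hlog]
  set G : PowerSeries ℚ := PowerSeries.mk fun n => algebraMap ℚ ℚ ((-1 : ℚ) ^ n) with hG
  have hdlog : PowerSeries.derivative ℚ (PowerSeries.log ℚ) = G := PowerSeries.deriv_log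
  have hG1 : G * (1 + PowerSeries.X) = 1 := by
    ext n
    rw [mul_add, mul_one, map_add]
    cases n with
    | zero => simp [hG]
    | succ n =>
      rw [PowerSeries.coeff_succ_mul_X]
      simp [hG, pow_succ]
  have hs1 : PowerSeries.HasSubst (PowerSeries.exp ℚ - 1) := PowerSeries.HasSubst.exp_sub_one
  have hs2 : PowerSeries.HasSubst (PowerSeries.log ℚ) := PowerSeries.HasSubst.log
  constructor
  · apply PowerSeries.derivative.ext
    · rw [PowerSeries.derivative_subst hs1, hdlog, PowerSeries.derivative_X, map_sub,
        PowerSeries.derivative_exp, PowerSeries.derivative_one, sub_zero]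
      have h := congrArg (PowerSeries.substAlgHom hs1) hG1
      rw [map_mul, map_add, map_one, PowerSeries.substAlgHom_X, PowerSeries.coe_substAlgHom] at h
      have e : PowerSeries.exp ℚ = 1 + (PowerSeries.exp ℚ - 1) := by ring
      calc PowerSeries.subst (PowerSeries.exp ℚ - 1) G * PowerSeries.exp ℚ
          = PowerSeries.subst (PowerSeries.exp ℚ - 1) G * (1 + (PowerSeries.exp ℚ - 1)) := by
            rw [← e]
        _ = 1 := h
    · rw [PowerSeries.constantCoeff_X]
      exact PowerSeries.constantCoeff_logOf (f := PowerSeries.exp ℚ) PowerSeries.constantCoeff_exp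
  · set H := PowerSeries.subst (PowerSeries.log ℚ) (PowerSeries.exp ℚ) with hH
    have hH' : PowerSeries.derivative ℚ H = H * G := by
      rw [hH, PowerSeries.derivative_subst hs2, PowerSeries.derivative_exp, hdlog]
    have hG' : PowerSeries.derivative ℚ G = -(G * G) := by
      have h0 := congrArg (PowerSeries.derivative ℚ) hG1
      rw [Derivation.leibniz, map_add, PowerSeries.derivative_X] at h0
      rw [PowerSeries.derivative_one] at h0
      simp only [zero_add, smul_eq_mul, mul_one] at h0
      linear_combination G * h0 - (PowerSeries.derivative ℚ G) * hG1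
    have hHexp : H = 1 + PowerSeries.subst (PowerSeries.log ℚ) (PowerSeries.exp ℚ - 1) := by
      have h1 : PowerSeries.subst (PowerSeries.log ℚ) (1 : PowerSeries ℚ) = 1 := by
        rw [← PowerSeries.coe_substAlgHom hs2, map_one]
      rw [PowerSeries.subst_sub hs2, h1, hH]
      ring
    have c1 : PowerSeries.constantCoeff H = 1 := by
      rw [hHexp, map_add, map_one]
      have : PowerSeries.constantCoeff
          (PowerSeries.subst (PowerSeries.log ℚ) (PowerSeries.exp ℚ - 1)) = 0 :=
        PowerSeries.constantCoeff_subst_eq_zero PowerSeries.constantCoeff_log _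
          (by simp [PowerSeries.constantCoeff_exp])
      rw [this, add_zero]
    have c2 : PowerSeries.constantCoeff G = 1 := by
      simp [hG, ← PowerSeries.coeff_zero_eq_constantCoeff_apply]
    have hHG : H * G = 1 := by
      have hconst : PowerSeries.derivative ℚ (H * G) =
          PowerSeries.derivative ℚ (1 : PowerSeries ℚ) := by
        rw [Derivation.leibniz, hH', hG', PowerSeries.derivative_one, smul_eq_mul, smul_eq_mul]
        ring
      apply PowerSeries.derivative.ext hconst
      rw [map_mul, map_one, c1, c2, one_mul]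
    calc H = H * (G * (1 + PowerSeries.X)) := by rw [hG1, mul_one]
      _ = (H * G) * (1 + PowerSeries.X) := by ring
      _ = 1 + PowerSeries.X := by rw [hHG, one_mul]

end Groth.Agent.S13075
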