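import Groth.Statements.S13081
import Mathlib
import Groth.Agent.Lib.IsQuot4_helper8

set_option autoImplicit false
universe u
open CategoryTheory AlgebraicGeometry Limits
open Zeta

namespace Groth.Agent.S13081

/-- Let G be a finite group acting by algebraic automorphisms over k on a scheme X of finite type over k
admitting a quotient X → X/G, and H a normal subgroup of G. Then X/H carries an induced action of
G/H and its quotient by this action is X/G: the induced morphism r : X/H → X/G is a quotient of X/H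
by G/H. The induced action ρ̄ is pinned by p_H ≫ ρ̄(ḡ) = ρ(g) ≫ p_H and r by p_H ≫ r = p. -/
theorem result {k : Type u} [Field k] {G : Type u} [Group G]
    [Finite G] {X XG XH : Scheme.{u}} (fX : X ⟶ Spec (CommRingCat.of k)) [LocallyOfFiniteType fX]
    [QuasiCompact fX] (ρ : G →* Aut X) (hρ : ∀ g, (ρ g).hom ≫ fX = fX) (p : X ⟶ XG)
    (hP : SGA1.IsQuot ρ p) (H : Subgroup G) [H.Normal] (pH : X ⟶ XH)
    (hPH : SGA1.IsQuot (ρ.comp H.subtype) pH) (ρbar : G ⧸ H →* Aut XH)
    (hρbar : ∀ g : G, pH ≫ (ρbar (QuotientGroup.mk g)).hom = (ρ g).hom ≫ pH)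
    (r : XH ⟶ XG) (hr : pH ≫ r = p) :
    SGA1.IsQuot ρbar r := by
  subst hr
  haveI hepi : Epi pH := IsQuotH8.epi_of_isQuot _ pH hPH
  have hinv : ∀ g : G ⧸ H, (ρbar g).hom ≫ r = r := by
    intro g
    induction g using QuotientGroup.induction_on with
    | H g =>
      rw [← cancel_epi pH, ← Category.assoc, hρbar g, Category.assoc]
      exact hP.inv g
  have hinj : ∀ U : XG.Opens, Function.Injective (r.app U).hom := by
    intro U a b hab
    apply hP.injective U
    change (pH.app (r ⁻¹ᵁ U)).hom ((r.app U).hom a) = (pH.app (r ⁻¹ᵁ U)).hom ((r.app U).hom b)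
    rw [hab]
  refine ⟨⟨fun U hU => ?_⟩, hinv, hinj, fun U s => ⟨?_, fun hs => ?_⟩⟩
  · exact IsQuotH8.isAffineOpen_of_isQuot _ pH hPH (r ⁻¹ᵁ U) (hP.affine.isAffine_preimage U hU)
  · rintro ⟨t, rfl⟩ g
    exact IsQuotH8.act_app ρbar r hinv g U t
  · have h1 : ∀ g : G, (IsQuotH8.act ρ (pH ≫ r) hP.inv g U).hom ((pH.app (r ⁻¹ᵁ U)).hom s) =
        (pH.app (r ⁻¹ᵁ U)).hom s := by
      intro g
      have := IsQuotH8.appLE_comp_eq (ρ g).hom (ρbar (QuotientGroup.mk g)).hom pH (hρbar g)
        (r ⁻¹ᵁ U) (SGA1.preimage_le_of_inv ρbar r hinv _ U)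
        (SGA1.preimage_le_of_inv ρ (pH ≫ r) hP.inv g U) s
      rw [hs (QuotientGroup.mk g)] at this
      exact this
    obtain ⟨t, ht⟩ := (hP.range_iff U _).mpr h1
    refine ⟨t, ?_⟩
    apply hPH.injective (r ⁻¹ᵁ U)
    exact ht

end Groth.Agent.S13081
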