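import Groth.Statements.S13088
import Mathlib

set_option autoImplicit false
universe u
open Lie3Mod

namespace Groth.Agent.S13088

/-- Let A be a commutative domain and D = A[a,b,c,d,e,f,g,h,i]. Then the ideal L = (a − i, b + f, d + h)
of D is minimal among the prime ideals of D containing the Jacobi ideal I = (Q1, Q2, Q3), where Q1 =
ah + di − fg − bg, Q2 = ie + bd − fh − ae, Q3 = hc + dc − af − bi. (The published statement is made
with a regular base ring in force, used there as a domain; the printed argument uses only that the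
base ring is a domain, which is the hypothesis taken here.) -/
theorem result (A : Type u) [CommRing A] [IsDomain A] :
    Lie3Mod.idL A ∈ (Lie3Mod.idI A).minimalPrimes := by
  classical
  let φ : Lie3Mod.D A →ₐ[A] Lie3Mod.D A := MvPolynomial.aeval
    (fun j : Fin 9 => if j = 0 then (MvPolynomial.X 8 : Lie3Mod.D A) else
      if j = 1 then -MvPolynomial.X 5 else if j = 3 then -MvPolynomial.X 7 else MvPolynomial.X j)
  have m1 : Lie3Mod.L1 A ∈ Lie3Mod.idL A := Ideal.subset_span (by simp)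
  have m2 : Lie3Mod.L2 A ∈ Lie3Mod.idL A := Ideal.subset_span (by simp)
  have m3 : Lie3Mod.L3 A ∈ Lie3Mod.idL A := Ideal.subset_span (by simp)
  have n1 : Lie3Mod.Q1 A ∈ Lie3Mod.idI A := Ideal.subset_span (by simp)
  have n2 : Lie3Mod.Q2 A ∈ Lie3Mod.idI A := Ideal.subset_span (by simp)
  have n3 : Lie3Mod.Q3 A ∈ Lie3Mod.idI A := Ideal.subset_span (by simp)
  have hφX : ∀ j : Fin 9,
      (MvPolynomial.X j : Lie3Mod.D A) - φ (MvPolynomial.X j) ∈ Lie3Mod.idL A := by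
    intro j
    simp only [φ, MvPolynomial.aeval_X]
    by_cases h0 : j = 0
    · subst h0
      simp only [if_true]
      exact m1
    by_cases h1 : j = 1
    · subst h1
      simp only [if_neg h0, if_true]
      have : (MvPolynomial.X 1 : Lie3Mod.D A) - -MvPolynomial.X 5 = Lie3Mod.L2 A := by
        simp only [Lie3Mod.L2, sub_neg_eq_add]
      rw [this]
      exact m2
    by_cases h3 : j = 3
    · subst h3
      simp only [if_neg h0, if_neg h1, if_true]
      have : (MvPolynomial.X 3 : Lie3Mod.D A) - -MvPolynomial.X 7 = Lie3Mod.L3 A := by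
        simp only [Lie3Mod.L3, sub_neg_eq_add]
      rw [this]
      exact m3
    simp only [if_neg h0, if_neg h1, if_neg h3, sub_self]
    exact Ideal.zero_mem _
  have hsub : ∀ p : Lie3Mod.D A, p - φ p ∈ Lie3Mod.idL A := by
    intro p
    induction p using MvPolynomial.induction_on with
    | C a =>
      have : φ (MvPolynomial.C a) = MvPolynomial.C a := by simp [φ]
      rw [this, sub_self]
      exact Ideal.zero_mem _
    | add p q hp hq =>
      have : p + q - φ (p + q) = (p - φ p) + (q - φ q) := by rw [map_add]; ring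
      rw [this]
      exact Ideal.add_mem _ hp hq
    | mul_X p j hp =>
      have : p * MvPolynomial.X j - φ (p * MvPolynomial.X j) =
          (p - φ p) * MvPolynomial.X j + φ p * (MvPolynomial.X j - φ (MvPolynomial.X j)) := by
        rw [map_mul]; ring
      rw [this]
      exact Ideal.add_mem _ (Ideal.mul_mem_right _ _ hp) (Ideal.mul_mem_left _ _ (hφX j))
  have hL1 : φ (Lie3Mod.L1 A) = 0 := by
    simp [φ, Lie3Mod.L1, Lie3Mod.va, Lie3Mod.vi]
  have hL2 : φ (Lie3Mod.L2 A) = 0 := by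
    simp [φ, Lie3Mod.L2, Lie3Mod.vb, Lie3Mod.vf]
  have hL3 : φ (Lie3Mod.L3 A) = 0 := by
    simp [φ, Lie3Mod.L3, Lie3Mod.vd, Lie3Mod.vh]
  have hLeq : Lie3Mod.idL A = RingHom.ker (φ : Lie3Mod.D A →+* Lie3Mod.D A) := by
    apply le_antisymm
    · rw [Lie3Mod.idL, Ideal.span_le]
      intro x hx
      rcases hx with rfl | rfl | rfl
      · exact hL1
      · exact hL2
      · exact hL3
    · intro p hp
      have h1 := hsub p
      have h2 : φ p = 0 := hp
      rwa [h2, sub_zero] at h1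
  have hprime : (Lie3Mod.idL A).IsPrime := by
    rw [hLeq]
    exact RingHom.ker_isPrime _
  have hIL : Lie3Mod.idI A ≤ Lie3Mod.idL A := by
    rw [Lie3Mod.idI, Ideal.span_le]
    intro x hx
    rcases hx with rfl | rfl | rfl
    · have : Lie3Mod.Q1 A = Lie3Mod.vh * Lie3Mod.L1 A - Lie3Mod.vg * Lie3Mod.L2 A +
          Lie3Mod.vi * Lie3Mod.L3 A := by
        simp only [Lie3Mod.Q1, Lie3Mod.L1, Lie3Mod.L2, Lie3Mod.L3]; ring
      rw [SetLike.mem_coe, this]
      exact Ideal.add_mem _ (Ideal.sub_mem _ (Ideal.mul_mem_left _ _ m1) (Ideal.mul_mem_left _ _ m2))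
        (Ideal.mul_mem_left _ _ m3)
    · have : Lie3Mod.Q2 A = -Lie3Mod.ve * Lie3Mod.L1 A - Lie3Mod.vh * Lie3Mod.L2 A +
          Lie3Mod.vb * Lie3Mod.L3 A := by
        simp only [Lie3Mod.Q2, Lie3Mod.L1, Lie3Mod.L2, Lie3Mod.L3]; ring
      rw [SetLike.mem_coe, this]
      exact Ideal.add_mem _ (Ideal.sub_mem _ (Ideal.mul_mem_left _ _ m1) (Ideal.mul_mem_left _ _ m2))
        (Ideal.mul_mem_left _ _ m3)
    · have : Lie3Mod.Q3 A = -Lie3Mod.vf * Lie3Mod.L1 A - Lie3Mod.vi * Lie3Mod.L2 A +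
          Lie3Mod.vc * Lie3Mod.L3 A := by
        simp only [Lie3Mod.Q3, Lie3Mod.L1, Lie3Mod.L2, Lie3Mod.L3]; ring
      rw [SetLike.mem_coe, this]
      exact Ideal.add_mem _ (Ideal.sub_mem _ (Ideal.mul_mem_left _ _ m1) (Ideal.mul_mem_left _ _ m2))
        (Ideal.mul_mem_left _ _ m3)
  have hadj1 : Lie3Mod.detM A * Lie3Mod.L1 A ∈ Lie3Mod.idI A := by
    have : Lie3Mod.detM A * Lie3Mod.L1 A =
        (-(Lie3Mod.vh * Lie3Mod.vc) + Lie3Mod.vb * Lie3Mod.vi) * Lie3Mod.Q1 A +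
        (Lie3Mod.vg * Lie3Mod.vc - Lie3Mod.vi ^ 2) * Lie3Mod.Q2 A +
        (-(Lie3Mod.vg * Lie3Mod.vb) + Lie3Mod.vi * Lie3Mod.vh) * Lie3Mod.Q3 A := by
      simp only [Lie3Mod.detM, Lie3Mod.Q1, Lie3Mod.Q2, Lie3Mod.Q3, Lie3Mod.L1]; ring
    rw [this]
    exact Ideal.add_mem _ (Ideal.add_mem _ (Ideal.mul_mem_left _ _ n1) (Ideal.mul_mem_left _ _ n2))
      (Ideal.mul_mem_left _ _ n3)
  have hadj2 : Lie3Mod.detM A * Lie3Mod.L2 A ∈ Lie3Mod.idI A := by
    have : Lie3Mod.detM A * Lie3Mod.L2 A =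
        (Lie3Mod.ve * Lie3Mod.vc - Lie3Mod.vb * Lie3Mod.vf) * Lie3Mod.Q1 A +
        (Lie3Mod.vh * Lie3Mod.vc + Lie3Mod.vi * Lie3Mod.vf) * Lie3Mod.Q2 A +
        (-(Lie3Mod.vh * Lie3Mod.vb + Lie3Mod.vi * Lie3Mod.ve)) * Lie3Mod.Q3 A := by
      simp only [Lie3Mod.detM, Lie3Mod.Q1, Lie3Mod.Q2, Lie3Mod.Q3, Lie3Mod.L2]; ring
    rw [this]
    exact Ideal.add_mem _ (Ideal.add_mem _ (Ideal.mul_mem_left _ _ n1) (Ideal.mul_mem_left _ _ n2))
      (Ideal.mul_mem_left _ _ n3)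
  have hadj3 : Lie3Mod.detM A * Lie3Mod.L3 A ∈ Lie3Mod.idI A := by
    have : Lie3Mod.detM A * Lie3Mod.L3 A =
        (Lie3Mod.ve * Lie3Mod.vi - Lie3Mod.vh * Lie3Mod.vf) * Lie3Mod.Q1 A +
        (Lie3Mod.vh * Lie3Mod.vi + Lie3Mod.vg * Lie3Mod.vf) * Lie3Mod.Q2 A +
        (-(Lie3Mod.vh ^ 2) - Lie3Mod.vg * Lie3Mod.ve) * Lie3Mod.Q3 A := by
      simp only [Lie3Mod.detM, Lie3Mod.Q1, Lie3Mod.Q2, Lie3Mod.Q3, Lie3Mod.L3]; ring
    rw [this]
    exact Ideal.add_mem _ (Ideal.add_mem _ (Ideal.mul_mem_left _ _ n1) (Ideal.mul_mem_left _ _ n2))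
      (Ideal.mul_mem_left _ _ n3)
  refine ⟨⟨hprime, hIL⟩, ?_⟩
  rintro q ⟨hqp, hIq⟩ hqL
  have hdet : Lie3Mod.detM A ∉ q := by
    intro hd
    have h1 : Lie3Mod.detM A ∈ Lie3Mod.idL A := hqL hd
    rw [hLeq] at h1
    have h2 : φ (Lie3Mod.detM A) = 0 := h1
    have h3 := congrArg
      (MvPolynomial.eval (fun j : Fin 9 => if j = 4 ∨ j = 8 then (1 : A) else 0)) h2
    simp [φ, Lie3Mod.detM, Lie3Mod.va, Lie3Mod.vb, Lie3Mod.vc, Lie3Mod.vd, Lie3Mod.ve,
      Lie3Mod.vf, Lie3Mod.vg, Lie3Mod.vh, Lie3Mod.vi] at h3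
  rw [Lie3Mod.idL, Ideal.span_le]
  intro x hx
  rcases hx with rfl | rfl | rfl
  · exact (hqp.mem_or_mem (hIq hadj1)).resolve_left hdet
  · exact (hqp.mem_or_mem (hIq hadj2)).resolve_left hdet
  · exact (hqp.mem_or_mem (hIq hadj3)).resolve_left hdet

end Groth.Agent.S13088
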