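import Groth.Statements.S13096
import Mathlib
import Groth.Agent.Lib.SurjEndo_helper7

set_option autoImplicit false
universe u v
open CAlg

namespace Groth.Agent.S13096

/-- Let R be a commutative ring and R' a commutative R-algebra of finite presentation. Then every
surjective R-algebra endomorphism α : R' → R' is bijective (an automorphism). -/
theorem result (R : Type u) [CommRing R]
    (R' : Type v) [CommRing R'] [Algebra R R'] [Algebra.FinitePresentation R R']
    (α : R' →ₐ[R] R') (hα : Function.Surjective α) : Function.Bijective α := by
  exact Groth.Agent.Lib.SurjEndoH7.bijective_of_surjective α hα

end Groth.Agent.S13096
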