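import Groth.Statements.S13097
import Mathlib
import Groth.Agent.Lib.UnivHomeo4_helper6
-- import your own Groth.Agent.* helpers here

set_option autoImplicit false
universe u
open FlatMor

namespace Groth.Agent.S13097

open CategoryTheory AlgebraicGeometry in
/-- Let f : X → S be a quasi-compact, separated morphism of schemes with a section e : S → X (e followed
by f is the identity of S), and U ⊆ S an open subscheme such that f⁻¹(U) is schematically dense in X
(for every open V of X, restriction of functions from V to V ∩ f⁻¹(U) is injective) and such that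
the restriction f⁻¹(U) → U of f is a homeomorphism of underlying spaces. Then f is universally a
homeomorphism (every base change of f is a homeomorphism), and f is finite as soon as it is locally
of finite type. (The published statement also lists surjectivity of f, which a section forces, and
offers as an alternative to the section the hypothesis that f be flat, still with f⁻¹(U) → U only a
homeomorphism; that flat alternative fails: the spectrum of a separable quadratic field extension
over the spectrum of the ground field, with U the whole base, is flat, surjective, quasi-compact,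
separated and a homeomorphism over U, yet not universally injective. Only the case of a section,
whose published proof is complete, is stated here.) -/
theorem result {X S : Scheme.{u}} (f : X ⟶ S)
    [QuasiCompact f] [IsSeparated f] (U : S.Opens)
    (hdense : CInt.IsSchematicallyDense (f ⁻¹ᵁ U)) (hU : IsHomeomorph (f ∣_ U).base)
    (e : S ⟶ X) (he : e ≫ f = 𝟙 S) :
    FlatMor.IsUnivHomeo f ∧ (LocallyOfFiniteType f → IsFinite f) := by

  classical
  -- schematically dense implies dense
  have hd : Dense ((f ⁻¹ᵁ U : X.Opens) : Set X) := by
    rw [dense_iff_inter_open]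
    intro V hV hVne
    by_contra hempty
    rw [Set.not_nonempty_iff_eq_empty] at hempty
    have hVU : (⟨V, hV⟩ : X.Opens) ⊓ (f ⁻¹ᵁ U) = ⊥ := by
      apply TopologicalSpace.Opens.ext
      exact hempty
    have hinj := hdense ⟨V, hV⟩
    haveI : Subsingleton Γ(X, (⟨V, hV⟩ : X.Opens) ⊓ (f ⁻¹ᵁ U)) := by
      rw [hVU]; infer_instance
    haveI : Nonempty (⟨V, hV⟩ : X.Opens) := hVne.to_subtype
    haveI : Nontrivial Γ(X, (⟨V, hV⟩ : X.Opens)) := Scheme.component_nontrivial X _
    exact absurd (hinj (Subsingleton.elim _ _) : (0 : Γ(X, (⟨V, hV⟩ : X.Opens))) = 1) zero_ne_one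
  haveI : IsClosedImmersion (e ≫ f) := by rw [he]; infer_instance
  haveI : IsClosedImmersion e := IsClosedImmersion.of_comp e f
  have hfe : ∀ s : S, f (e s) = s := fun s => by
    have := congrArg (fun g : S ⟶ S => g s) he
    simpa using this
  have hsub : ((f ⁻¹ᵁ U : X.Opens) : Set X) ⊆ Set.range e := by
    intro x hx
    refine ⟨f x, ?_⟩
    have hx' : e (f x) ∈ f ⁻¹ᵁ U := by
      show f (e (f x)) ∈ U
      rw [hfe]; exact hx
    have := hU.injective (a₁ := ⟨e (f x), hx'⟩) (a₂ := ⟨x, hx⟩) (by
      apply Subtype.ext
      rw [morphismRestrict_base_coe, morphismRestrict_base_coe]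
      exact hfe _)
    exact congrArg Subtype.val this
  haveI : Surjective e := ⟨by
    have hcl : IsClosed (Set.range e) := e.isClosedEmbedding.isClosed_range
    have h1 : closure ((f ⁻¹ᵁ U : X.Opens) : Set X) ⊆ Set.range e := closure_minimal hsub hcl
    rw [hd.closure_eq] at h1
    exact Set.range_eq_univ.mp (Set.eq_univ_of_univ_subset h1)⟩
  haveI : Surjective f := ⟨fun s => ⟨e s, hfe s⟩⟩
  have hUH : FlatMor.IsUnivHomeo f := by
    rw [Groth.Agent.Lib.UnivHomeo.isUnivHomeo_iff]
    refine ⟨?_, ?_, inferInstance⟩
    · haveI : UniversallyClosed (e ≫ f) := by rw [he]; infer_instance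
      exact UniversallyClosed.of_comp_surjective e f
    · haveI : UniversallyInjective (e ≫ f) := by rw [he]; infer_instance
      exact Groth.Agent.Lib.UnivHomeo.universallyInjective_of_comp_of_surjective e f
  refine ⟨hUH, fun hlft => ?_⟩
  rw [IsFinite.iff_isIntegralHom_and_locallyOfFiniteType]
  exact ⟨((Groth.Agent.Lib.UnivHomeo.isUnivHomeo_iff_isIntegralHom f).mp hUH).1, hlft⟩

end Groth.Agent.S13097
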