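import Groth.Statements.S13098
import Mathlib

set_option autoImplicit false
universe u v
open Lie3Mod

namespace Groth.Agent.S13098

/-- Let R be a commutative ring, M an R-module with a basis x = bs 0, y = bs 1, z = bs 2 indexed by Fin
3, and B an R-bilinear alternating map on M (B m m = 0) with B x y = a x + b y + c z, B x z = d x +
e y + f z and B y z = g x + h y + i z. Then B satisfies the Jacobi identity for all triples if and
only if the three Jacobi polynomials vanish: ah + di − fg − bg = 0, ie + bd − fh − ae = 0 and hc +
dc − af − bi = 0. (This is the statement that Lie brackets on a based free module of rank 3 are the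
points of the closed subscheme of affine 9-space defined by these three equations.) -/
theorem result (R : Type u) [CommRing R] (M : Type v) [AddCommGroup M] [Module R M]
    (bs : Module.Basis (Fin 3) R M) (B : M →ₗ[R] M →ₗ[R] M) (halt : ∀ m : M, B m m = 0)
    (a b c d e f g h i : R)
    (hxy : B (bs 0) (bs 1) = a • bs 0 + b • bs 1 + c • bs 2)
    (hxz : B (bs 0) (bs 2) = d • bs 0 + e • bs 1 + f • bs 2)
    (hyz : B (bs 1) (bs 2) = g • bs 0 + h • bs 1 + i • bs 2) :
    (∀ u v w : M, B u (B v w) + B v (B w u) + B w (B u v) = 0) ↔
      (a * h + d * i - f * g - b * g = 0 ∧ i * e + b * d - f * h - a * e = 0 ∧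
        h * c + d * c - a * f - b * i = 0) := by
  classical
  have hanti : ∀ u v : M, B u v = -B v u := by
    intro u v
    have h1 := halt (u + v)
    simp only [map_add, LinearMap.add_apply, halt, zero_add, add_zero] at h1
    exact eq_neg_of_add_eq_zero_right h1
  have h00 : B (bs 0) (bs 0) = 0 := halt _
  have h11 : B (bs 1) (bs 1) = 0 := halt _
  have h22 : B (bs 2) (bs 2) = 0 := halt _
  have h10 : B (bs 1) (bs 0) = -(a • bs 0 + b • bs 1 + c • bs 2) := by rw [hanti, hxy]
  have h20 : B (bs 2) (bs 0) = -(d • bs 0 + e • bs 1 + f • bs 2) := by rw [hanti, hxz]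
  have h21 : B (bs 2) (bs 1) = -(g • bs 0 + h • bs 1 + i • bs 2) := by rw [hanti, hyz]
  have h3 : ∀ (P : Fin 3 → Prop), P 0 → P 1 → P 2 → ∀ j, P j := by
    intro P p0 p1 p2 j
    fin_cases j <;> assumption
  constructor
  · intro H
    have hj := H (bs 0) (bs 1) (bs 2)
    simp only [hxy, hxz, hyz, h00, h11, h22, h10, h20, h21, map_add, map_smul, map_neg,
      smul_zero, LinearMap.add_apply, LinearMap.neg_apply, LinearMap.smul_apply] at hj
    have h' : (a * h + d * i - f * g - b * g) • bs 0 + (i * e + b * d - f * h - a * e) • bs 1 +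
        (h * c + d * c - a * f - b * i) • bs 2 = 0 := by
      rw [← hj]
      module
    have hli := Fintype.linearIndependent_iff.mp bs.linearIndependent
      ![a * h + d * i - f * g - b * g, i * e + b * d - f * h - a * e, h * c + d * c - a * f - b * i]
      (by simpa [Fin.sum_univ_three] using h')
    exact ⟨by simpa using hli 0, by simpa using hli 1, by simpa using hli 2⟩
  · rintro ⟨q1, q2, q3⟩
    have hbasis : ∀ j k l : Fin 3,
        B (bs j) (B (bs k) (bs l)) + B (bs k) (B (bs l) (bs j)) + B (bs l) (B (bs j) (bs k)) = 0 := by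
      refine h3 _ ?_ ?_ ?_ <;> refine h3 _ ?_ ?_ ?_ <;> refine h3 _ ?_ ?_ ?_ <;>
      (simp only [hxy, hxz, hyz, h00, h11, h22, h10, h20, h21, map_add, map_smul, map_neg,
        smul_zero, LinearMap.add_apply, LinearMap.neg_apply, LinearMap.smul_apply, map_zero,
        neg_zero, add_zero, zero_add]) <;>
      first
        | module
        | linear_combination (norm := module) q1 • bs 0 + q2 • bs 1 + q3 • bs 2
        | linear_combination (norm := module) -(q1 • bs 0) - q2 • bs 1 - q3 • bs 2
    have step1 : ∀ (j k : Fin 3) (w : M),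
        B (bs j) (B (bs k) w) + B (bs k) (B w (bs j)) + B w (B (bs j) (bs k)) = 0 := by
      intro j k w
      have : (B (bs j)) ∘ₗ (B (bs k)) + (B (bs k)) ∘ₗ (B.flip (bs j)) + B.flip (B (bs j) (bs k)) = 0 := by
        apply bs.ext
        intro l
        simpa using hbasis j k l
      simpa using LinearMap.congr_fun this w
    have step2 : ∀ (j : Fin 3) (v w : M),
        B (bs j) (B v w) + B v (B w (bs j)) + B w (B (bs j) v) = 0 := by
      intro j v w
      have : (B (bs j)) ∘ₗ (B.flip w) + B.flip (B w (bs j)) + (B w) ∘ₗ (B (bs j)) = 0 := by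
        apply bs.ext
        intro l
        simpa using step1 j l w
      simpa using LinearMap.congr_fun this v
    intro u v w
    have : B.flip (B v w) + (B v) ∘ₗ (B w) + (B w) ∘ₗ (B.flip v) = 0 := by
      apply bs.ext
      intro l
      simpa using step2 l v w
    simpa using LinearMap.congr_fun this u

end Groth.Agent.S13098
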