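import Groth.Statements.S13114
import Mathlib

set_option autoImplicit false
universe u
open HilbChow

namespace Groth.Agent.S13114

/-- Let k be an algebraically closed field, A a commutative local k-algebra of finite dimension n over k
and u a unit of A. Then the determinant of multiplication by u on the k-vector space A, mapped to
the residue field of A, equals the n-th power of the residue class of u. -/
theorem result
    (k A : Type u) [Field k] [IsAlgClosed k] [CommRing A] [Algebra k A] [IsLocalRing A]
    [Module.Finite k A] (u : Aˣ) :
    algebraMap k (IsLocalRing.ResidueField A) (Algebra.norm k (u : A)) =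
      IsLocalRing.residue A (u : A) ^ Module.finrank k A := by
  classical
  haveI : IsArtinianRing A := IsArtinianRing.of_finite k A
  haveI : Module.Finite k (IsLocalRing.ResidueField A) :=
    Module.Finite.of_surjective
      (IsScalarTower.toAlgHom k A (IsLocalRing.ResidueField A)).toLinearMap
      (IsLocalRing.residue_surjective)
  obtain ⟨c, hc⟩ := (IsAlgClosed.algebraMap_bijective_of_isIntegral
    (k := k) (K := IsLocalRing.ResidueField A)).2 (IsLocalRing.residue A (u : A))
  set ν : A := (u : A) - algebraMap k A c with hνdef
  have hν : ν ∈ IsLocalRing.maximalIdeal A := by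
    rw [← IsLocalRing.residue_eq_zero_iff, hνdef, map_sub, ← hc]
    rw [sub_eq_zero]
    exact IsScalarTower.algebraMap_apply k A (IsLocalRing.ResidueField A) c
  have hnil : IsNilpotent ν := by
    have h1 : IsNilpotent (Ideal.jacobson (⊥ : Ideal A)) :=
      IsArtinianRing.isNilpotent_jacobson_bot
    rw [IsLocalRing.jacobson_eq_maximalIdeal ⊥ bot_ne_top] at h1
    obtain ⟨N, hN⟩ := h1
    refine ⟨N, ?_⟩
    have := Ideal.pow_mem_pow hν N
    rw [hN] at this
    simpa using this
  have hnil' : IsNilpotent (Algebra.lmul k A (-ν)) := (hnil.neg).map (Algebra.lmul k A)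
  have hu : Algebra.lmul k A (u : A) =
      algebraMap k (Module.End k A) c - Algebra.lmul k A (-ν) := by
    rw [map_neg, sub_neg_eq_add, ← AlgHom.commutes (Algebra.lmul k A) c, ← map_add, hνdef]
    congr 1
    ring
  rw [Algebra.norm_apply, hu, ← LinearMap.eval_charpoly,
    IsNilpotent.charpoly_eq_X_pow_finrank hnil', Polynomial.eval_pow,
    Polynomial.eval_X, map_pow, hc]

end Groth.Agent.S13114
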