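import Groth.Statements.S13120
import Mathlib
import Groth.Agent.Lib.KumFam_helper9

set_option autoImplicit false
universe u
open KumFam

namespace Groth.Agent.S13120

open MvPolynomial in
/-- Let R be a commutative ring of characteristic 2 and l0, l2, l4, s0, s2, s4, τ ∈ R with τ a unit.
Inside R[u, v] (u = X 0, v = X 1) let A = R[u², u³, v², v³] be the coordinate ring of the product of
two cuspidal curves, and let D be the R-derivation of R[u, v] with D(u) = v²(l0 u⁴ + τ u³ + l2 u² +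
l4) and D(v) = u²(s0 v⁴ + τ v³ + s2 v² + s4); D is u²v² times the rational vector field (l0 u² + τ u
+ l2 + l4 u⁻²) ∂_u + (s0 v² + τ v + s2 + s4 v⁻²) ∂_v, which maps A into itself, and u²v² is a
non-zero-divisor, so the kernel of that vector field on A is the set of a ∈ A with D(a) = 0. Then
for a ∈ A: D(a) = 0 if and only if a ∈ R[u², v², g], where g = (s0 v⁴ + s2 v² + s4) u³ + (l0 u⁴ + l2
u² + l4) v³ + τ u³ v³. (The published statement identifies this kernel with the ring of invariants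
of the corresponding action of the group scheme of square roots of unity; this row states the kernel
computation that is actually carried out.) -/
theorem result (R : Type u) [CommRing R] [CharP R 2]
    (l0 l2 l4 s0 s2 s4 τ : R) (hτ : IsUnit τ) (a : MvPolynomial (Fin 2) R)
    (ha : a ∈ Algebra.adjoin R
      ({X 0 ^ 2, X 0 ^ 3, X 1 ^ 2, X 1 ^ 3} : Set (MvPolynomial (Fin 2) R))) :
    MvPolynomial.mkDerivation R
        (![X 1 ^ 2 * (C l0 * X 0 ^ 4 + C τ * X 0 ^ 3 + C l2 * X 0 ^ 2 + C l4),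
          X 0 ^ 2 * (C s0 * X 1 ^ 4 + C τ * X 1 ^ 3 + C s2 * X 1 ^ 2 + C s4)] :
          Fin 2 → MvPolynomial (Fin 2) R) a = 0 ↔
      a ∈ Algebra.adjoin R
        ({X 0 ^ 2, X 1 ^ 2,
          (C s0 * X 1 ^ 4 + C s2 * X 1 ^ 2 + C s4) * X 0 ^ 3 +
            (C l0 * X 0 ^ 4 + C l2 * X 0 ^ 2 + C l4) * X 1 ^ 3 +
            C τ * X 0 ^ 3 * X 1 ^ 3} : Set (MvPolynomial (Fin 2) R)) := by
  classical
  obtain ⟨t, rfl⟩ := hτ
  set τ : R := (t : R) with hτdef
  set τi : R := ((t⁻¹ : Rˣ) : R) with hτi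
  have hu : τ * τi = 1 := Units.mul_inv t
  have hu' : (C τ : MvPolynomial (Fin 2) R) * C τi = 1 := by rw [← C_mul, hu, C_1]
  set F : MvPolynomial (Fin 2) R := C l0 * X 0 ^ 2 + C l2 * X 0 + C l4 with hF
  set G : MvPolynomial (Fin 2) R := C s0 * X 1 ^ 2 + C s2 * X 1 + C s4 with hG
  set A : MvPolynomial (Fin 2) R := X 1 * F with hA
  set A' : MvPolynomial (Fin 2) R := X 0 * G with hA'
  set B : MvPolynomial (Fin 2) R := C τ * X 0 * X 1 with hB
  have hw : ((C s0 * X 1 ^ 4 + C s2 * X 1 ^ 2 + C s4) * X 0 ^ 3 +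
            (C l0 * X 0 ^ 4 + C l2 * X 0 ^ 2 + C l4) * X 1 ^ 3 +
            C τ * X 0 ^ 3 * X 1 ^ 3 : MvPolynomial (Fin 2) R) =
      Lib.KumFam.φ A' * X 0 + Lib.KumFam.φ A * X 1 + Lib.KumFam.φ B * (X 0 * X 1) := by
    simp only [hA, hA', hB, hF, hG, map_add, map_mul, map_pow, expand_C, expand_X]
    ring
  rw [hw]
  set D := MvPolynomial.mkDerivation R
        (![X 1 ^ 2 * (C l0 * X 0 ^ 4 + C τ * X 0 ^ 3 + C l2 * X 0 ^ 2 + C l4),
          X 0 ^ 2 * (C s0 * X 1 ^ 4 + C τ * X 1 ^ 3 + C s2 * X 1 ^ 2 + C s4)] :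
          Fin 2 → MvPolynomial (Fin 2) R) with hD
  have hx : D (X 0) = Lib.KumFam.φ A + Lib.KumFam.φ B * X 0 := by
    rw [hD, mkDerivation_X]
    simp only [hA, hB, hF, map_add, map_mul, map_pow, expand_C, expand_X, Matrix.cons_val_zero]
    ring
  have hy : D (X 1) = Lib.KumFam.φ A' + Lib.KumFam.φ B * X 1 := by
    rw [hD, mkDerivation_X]
    simp only [hA', hB, hG, map_add, map_mul, map_pow, expand_C, expand_X, Matrix.cons_val_one,
      Matrix.cons_val_zero]
    ring
  constructor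
  · intro hDa
    obtain ⟨a₀, a₁, a₂, a₃, rfl⟩ := Lib.KumFam.cusp_form a ha
    obtain ⟨h1, h2⟩ := Lib.KumFam.D_eq_zero_iff D A A' B hx hy _ _ _ _ hDa
    have h1' : a₁ * C τ + a₃ * G = 0 := by
      apply Lib.KumFam.cancel_XXY 0 0 1
      rw [← h1, hA', hB]; ring
    have h2' : a₂ * C τ + a₃ * F = 0 := by
      apply Lib.KumFam.cancel_XXY 0 1 1
      rw [← h2, hA, hB]; ring
    have hb := Lib.KumFam.solve_unit τ τi hu a₁ a₃ G h1'
    have hc := Lib.KumFam.solve_unit τ τi hu a₂ a₃ F h2'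
    have hb' : Lib.KumFam.φ (X 0 * a₁) = Lib.KumFam.φ (C τi * a₃) * Lib.KumFam.φ A' := by
      rw [← map_mul]; congr 1; rw [hb, hA']; ring
    have hc' : Lib.KumFam.φ (X 1 * a₂) = Lib.KumFam.φ (C τi * a₃) * Lib.KumFam.φ A := by
      rw [← map_mul]; congr 1; rw [hc, hA]; ring
    have hd' : Lib.KumFam.φ (X 0 * X 1 * a₃) = Lib.KumFam.φ (C τi * a₃) * Lib.KumFam.φ B := by
      rw [← map_mul]; congr 1; rw [hB]
      linear_combination (-(X 0 * X 1 * a₃)) * hu'
    have key : Lib.KumFam.φ a₀ + Lib.KumFam.φ (X 0 * a₁) * X 0 + Lib.KumFam.φ (X 1 * a₂) * X 1 +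
        Lib.KumFam.φ (X 0 * X 1 * a₃) * (X 0 * X 1) =
        Lib.KumFam.φ a₀ + Lib.KumFam.φ (C τi * a₃) *
          (Lib.KumFam.φ A' * X 0 + Lib.KumFam.φ A * X 1 + Lib.KumFam.φ B * (X 0 * X 1)) := by
      linear_combination X 0 * hb' + X 1 * hc' + (X 0 * X 1) * hd'
    rw [key]
    refine Subalgebra.add_mem _ (Lib.KumFam.φ_mem_adjoin _ (by simp) (by simp) _)
      (Subalgebra.mul_mem _ (Lib.KumFam.φ_mem_adjoin _ (by simp) (by simp) _)
        (Algebra.subset_adjoin (by simp)))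
  · intro hmem
    clear ha
    induction hmem using Algebra.adjoin_induction with
    | mem x hx =>
      simp only [Set.mem_insert_iff, Set.mem_singleton_iff] at hx
      rcases hx with rfl | rfl | rfl
      · have := Lib.KumFam.D_φ D (X 0); rwa [expand_X] at this
      · have := Lib.KumFam.D_φ D (X 1); rwa [expand_X] at this
      · exact Lib.KumFam.D_w D A A' B hx hy
    | algebraMap r => exact Derivation.map_algebraMap D r
    | add x y _ _ hx' hy' => rw [map_add, hx', hy', add_zero]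
    | mul x y _ _ hx' hy' => rw [Derivation.leibniz, hx', hy', smul_zero, smul_zero, add_zero]

end Groth.Agent.S13120
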