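import Groth.Statements.S13121
import Mathlib
import Groth.Agent.Lib.KumFam_helper9

set_option autoImplicit false
universe u
open KumFam

namespace Groth.Agent.S13121

open MvPolynomial in
/-- Let R be a commutative ring of characteristic 2 and l0, l2, l4, s0, s2, s4, τ ∈ R with τ a unit. In
R[u, v] (u = X 0, v = X 1) put g = (s0 v⁴ + s2 v² + s4) u³ + (l0 u⁴ + l2 u² + l4) v³ + τ u³ v³. Then
the kernel of the R-algebra homomorphism R[a, b, c] → R[u, v] (a = X 0, b = X 1, c = X 2) with a ↦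
u², b ↦ v², c ↦ g is the ideal generated by c² + s0² a³ b⁴ + s2² a³ b² + s4² a³ + l0² a⁴ b³ + l2² a²
b³ + l4² b³ + τ² a³ b³; its image is the subalgebra R[u², v², g], which is therefore presented by
this one equation. -/
theorem result (R : Type u) [CommRing R] [CharP R 2]
    (l0 l2 l4 s0 s2 s4 τ : R) (hτ : IsUnit τ) :
    RingHom.ker (MvPolynomial.aeval (R := R) (S₁ := MvPolynomial (Fin 2) R)
        ![X 0 ^ 2, X 1 ^ 2,
          (C s0 * X 1 ^ 4 + C s2 * X 1 ^ 2 + C s4) * X 0 ^ 3 +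
            (C l0 * X 0 ^ 4 + C l2 * X 0 ^ 2 + C l4) * X 1 ^ 3 +
            C τ * X 0 ^ 3 * X 1 ^ 3]) =
      Ideal.span {(X 2 ^ 2 + C (s0 ^ 2) * X 0 ^ 3 * X 1 ^ 4 + C (s2 ^ 2) * X 0 ^ 3 * X 1 ^ 2 +
        C (s4 ^ 2) * X 0 ^ 3 + C (l0 ^ 2) * X 0 ^ 4 * X 1 ^ 3 + C (l2 ^ 2) * X 0 ^ 2 * X 1 ^ 3 +
        C (l4 ^ 2) * X 1 ^ 3 + C (τ ^ 2) * X 0 ^ 3 * X 1 ^ 3 : MvPolynomial (Fin 3) R)} := by
  classical
  set A : MvPolynomial (Fin 2) R := X 1 * (C l0 * X 0 ^ 2 + C l2 * X 0 + C l4) with hA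
  set A' : MvPolynomial (Fin 2) R := X 0 * (C s0 * X 1 ^ 2 + C s2 * X 1 + C s4) with hA'
  set B : MvPolynomial (Fin 2) R := C τ * X 0 * X 1 with hB
  have hw : ((C s0 * X 1 ^ 4 + C s2 * X 1 ^ 2 + C s4) * X 0 ^ 3 +
            (C l0 * X 0 ^ 4 + C l2 * X 0 ^ 2 + C l4) * X 1 ^ 3 +
            C τ * X 0 ^ 3 * X 1 ^ 3 : MvPolynomial (Fin 2) R) =
      Lib.KumFam.φ A' * X 0 + Lib.KumFam.φ A * X 1 + Lib.KumFam.φ B * (X 0 * X 1) := by
    simp only [hA, hA', hB, map_add, map_mul, map_pow, expand_C, expand_X]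
    ring
  rw [hw]
  rw [Lib.KumFam.ker_eq_span A' A B (Lib.KumFam.regular_C_unit_X τ hτ)]
  congr 2
  simp only [Lib.KumFam.relE, Lib.KumFam.ι, hA, hA', hB, map_add, map_mul, map_pow, rename_C,
    rename_X, Fin.castSucc_zero, Fin.castSucc_one]
  linear_combination ((C s0 * C s2 * X 1 ^ 3 + C s0 * C s4 * X 1 ^ 2 + C s2 * C s4 * X 1) * X 0 ^ 3
    + (C l0 * C l2 * X 0 ^ 3 + C l0 * C l4 * X 0 ^ 2 + C l2 * C l4 * X 0) * X 1 ^ 3) *
    (Lib.KumFam.two_eq_zero3 (R := R))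

end Groth.Agent.S13121
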