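import Groth.Statements.S13122
import Mathlib
import Groth.Agent.Lib.KumFam_helper9

set_option autoImplicit false
universe u
open KumFam

namespace Groth.Agent.S13122

open MvPolynomial in
/-- Let R be a commutative ring of characteristic 2 and l0, l2, l4, s0, s2, s4, τ ∈ R with τ a unit. On
R[x, y] (x = X 0, y = X 1; the coordinates u⁻¹, v⁻¹ of the smooth chart of the product of two
cuspidal curves) let D be the R-derivation with D(x) = l4 x⁴ + l2 x² + τ x + l0 and D(y) = s4 y⁴ +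
s2 y² + τ y + s0, and put h = (s4 y⁴ + s2 y² + s0) x + (l4 x⁴ + l2 x² + l0) y + τ x y. Then: (1) for
p ∈ R[x, y], D(p) = 0 if and only if p lies in the image of the R-algebra homomorphism R[a, b, c] →
R[x, y] (a = X 0, b = X 1, c = X 2) with a ↦ x², b ↦ y², c ↦ h; (2) the kernel of that homomorphism
is the ideal generated by c² + τ² a b + (s4² b⁴ + s2² b² + s0²) a + (l4² a⁴ + l2² a² + l0²) b. (The
published statement asserts that the ring of invariants of the action of the group scheme of square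
roots of unity given by this vector field is R[a, b, c] modulo this equation, by the same
computation as on the other chart; this row pins the generator h and states the kernel computation.) -/
theorem result (R : Type u) [CommRing R]
    [CharP R 2] (l0 l2 l4 s0 s2 s4 τ : R) (hτ : IsUnit τ) :
    (∀ p : MvPolynomial (Fin 2) R,
      MvPolynomial.mkDerivation R
          (![C l4 * X 0 ^ 4 + C l2 * X 0 ^ 2 + C τ * X 0 + C l0,
            C s4 * X 1 ^ 4 + C s2 * X 1 ^ 2 + C τ * X 1 + C s0] :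
            Fin 2 → MvPolynomial (Fin 2) R) p = 0 ↔
        p ∈ (MvPolynomial.aeval (R := R) (S₁ := MvPolynomial (Fin 2) R)
          ![X 0 ^ 2, X 1 ^ 2,
            (C s4 * X 1 ^ 4 + C s2 * X 1 ^ 2 + C s0) * X 0 +
              (C l4 * X 0 ^ 4 + C l2 * X 0 ^ 2 + C l0) * X 1 + C τ * X 0 * X 1]).range) ∧
    RingHom.ker (MvPolynomial.aeval (R := R) (S₁ := MvPolynomial (Fin 2) R)
        ![X 0 ^ 2, X 1 ^ 2,
          (C s4 * X 1 ^ 4 + C s2 * X 1 ^ 2 + C s0) * X 0 +
            (C l4 * X 0 ^ 4 + C l2 * X 0 ^ 2 + C l0) * X 1 + C τ * X 0 * X 1]) =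
      Ideal.span {(X 2 ^ 2 + C (τ ^ 2) * X 0 * X 1 +
        (C (s4 ^ 2) * X 1 ^ 4 + C (s2 ^ 2) * X 1 ^ 2 + C (s0 ^ 2)) * X 0 +
        (C (l4 ^ 2) * X 0 ^ 4 + C (l2 ^ 2) * X 0 ^ 2 + C (l0 ^ 2)) * X 1 : MvPolynomial (Fin 3) R)} := by
  classical
  obtain ⟨t, rfl⟩ := hτ
  set τ : R := (t : R) with hτdef
  set τi : R := ((t⁻¹ : Rˣ) : R) with hτi
  have hu : τ * τi = 1 := Units.mul_inv t
  set A : MvPolynomial (Fin 2) R := C l4 * X 0 ^ 2 + C l2 * X 0 + C l0 with hA
  set A' : MvPolynomial (Fin 2) R := C s4 * X 1 ^ 2 + C s2 * X 1 + C s0 with hA'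
  set B : MvPolynomial (Fin 2) R := C τ with hB
  have hw : ((C s4 * X 1 ^ 4 + C s2 * X 1 ^ 2 + C s0) * X 0 +
      (C l4 * X 0 ^ 4 + C l2 * X 0 ^ 2 + C l0) * X 1 + C τ * X 0 * X 1 : MvPolynomial (Fin 2) R) =
      Lib.KumFam.φ A' * X 0 + Lib.KumFam.φ A * X 1 + Lib.KumFam.φ B * (X 0 * X 1) := by
    simp only [hA, hA', hB, map_add, map_mul, map_pow, expand_C, expand_X]
    ring
  rw [hw]
  set D := MvPolynomial.mkDerivation R
          (![C l4 * X 0 ^ 4 + C l2 * X 0 ^ 2 + C τ * X 0 + C l0,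
            C s4 * X 1 ^ 4 + C s2 * X 1 ^ 2 + C τ * X 1 + C s0] :
            Fin 2 → MvPolynomial (Fin 2) R) with hD
  have hx : D (X 0) = Lib.KumFam.φ A + Lib.KumFam.φ B * X 0 := by
    rw [hD, mkDerivation_X]
    simp only [hA, hB, map_add, map_mul, map_pow, expand_C, expand_X, Matrix.cons_val_zero]
    ring
  have hy : D (X 1) = Lib.KumFam.φ A' + Lib.KumFam.φ B * X 1 := by
    rw [hD, mkDerivation_X]
    simp only [hA', hB, map_add, map_mul, map_pow, expand_C, expand_X, Matrix.cons_val_one,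
      Matrix.cons_val_zero]
    ring
  refine ⟨fun p => ⟨fun hp => ?_, fun hp => ?_⟩, ?_⟩
  · obtain ⟨a, b, c, d, rfl⟩ := Lib.KumFam.parity_exists p
    obtain ⟨h1, h2⟩ := Lib.KumFam.D_eq_zero_iff D A A' B hx hy a b c d hp
    have hb := Lib.KumFam.solve_unit τ τi hu b d A' h1
    have hc := Lib.KumFam.solve_unit τ τi hu c d A h2
    have hd : d = C τi * d * B := by
      have hu' : (C τ : MvPolynomial (Fin 2) R) * C τi = 1 := by rw [← C_mul, hu, C_1]
      rw [hB]
      linear_combination (-d) * hu'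
    apply Lib.KumFam.mem_range_of_eq _ _ a (C τi * d)
    have hb' := congrArg Lib.KumFam.φ hb
    have hc' := congrArg Lib.KumFam.φ hc
    have hd' := congrArg Lib.KumFam.φ hd
    rw [map_mul] at hb' hc' hd'
    linear_combination X 0 * hb' + X 1 * hc' + (X 0 * X 1) * hd'
  · obtain ⟨q, rfl⟩ := hp
    exact Lib.KumFam.D_aeval D _ (Lib.KumFam.D_w D A A' B hx hy) q
  · rw [Lib.KumFam.ker_eq_span A' A B (Lib.KumFam.regular_C_unit τ ⟨t, rfl⟩)]
    congr 2
    simp only [Lib.KumFam.relE, Lib.KumFam.ι, hA, hA', hB, map_add, map_mul, map_pow, rename_C,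
      rename_X, Fin.castSucc_zero, Fin.castSucc_one, C_pow]
    linear_combination ((C s4 * C s2 * X 1 ^ 3 + C s4 * C s0 * X 1 ^ 2 + C s2 * C s0 * X 1) * X 0
      + (C l4 * C l2 * X 0 ^ 3 + C l4 * C l0 * X 0 ^ 2 + C l2 * C l0 * X 0) * X 1) *
      (Lib.KumFam.two_eq_zero3 (R := R))

end Groth.Agent.S13122
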