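import Groth.Statements.S13124
import Mathlib
-- import your own Groth.Agent.* helpers here

set_option autoImplicit false
universe u v w
open KumFam
open TensorProduct

namespace Groth.Agent.S13124

/-- Let k be a commutative ring, A a commutative k-bialgebra that is flat over k, and R a commutative
k-algebra which is an integrally closed domain, with a coaction R → R ⊗ A that is an algebra
homomorphism. Then the ring of invariants (the elements f with coaction f ⊗ 1) is an integrally
closed domain. (The published statement is for a finite group scheme acting on a normal scheme whose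
quotient is, locally, the spectrum of the ring of invariants; this row is the affine integral case
and allows any commutative bialgebra flat over k, flatness being automatic over a field.) -/
theorem result (k : Type u) [CommRing k]
    (A : Type v) [CommRing A] [Bialgebra k A] [Module.Flat k A]
    (R : Type w) [CommRing R] [Algebra k R] [IsDomain R] [IsIntegrallyClosed R]
    [HopfRep.Comod k A R] [GLin.IsCoactAlg k A R] :
    IsIntegrallyClosed (GLin.invariants k A R) := by
  classical
  set S := GLin.invariants k A R with hS
  rw [isIntegrallyClosed_iff (FractionRing S)]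
  intro x hx
  obtain ⟨a, b, hb, rfl⟩ := IsFractionRing.div_surjective (A := S) x
  have hb0 : (b : S) ≠ 0 := nonZeroDivisors.ne_zero hb
  have hbR : (b : R) ≠ 0 := fun h => hb0 (Subtype.ext h)
  -- the map of fraction fields
  have hinj : Function.Injective (algebraMap S R) := Subtype.val_injective
  let φ : FractionRing S →+* FractionRing R :=
    IsFractionRing.lift (K := FractionRing S) (g := (algebraMap R (FractionRing R)).comp (algebraMap S R))
      ((IsFractionRing.injective R (FractionRing R)).comp hinj)
  have hφ : ∀ s : S, φ (algebraMap S (FractionRing S) s) = algebraMap R (FractionRing R) (s : R) := by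
    intro s
    exact IsFractionRing.lift_algebraMap _ s
  -- integrality of the image
  have hint : IsIntegral R (φ (algebraMap S (FractionRing S) a / algebraMap S (FractionRing S) b)) := by
    refine hx.map_of_comp_eq (algebraMap S R) φ ?_
    ext s
    simp [hφ]
  obtain ⟨r, hr⟩ := (isIntegrallyClosed_iff (FractionRing R)).1 inferInstance hint
  have hrb : r * (b : R) = (a : R) := by
    apply IsFractionRing.injective R (FractionRing R)
    rw [map_mul, hr, map_div₀, hφ, hφ]
    have : algebraMap R (FractionRing R) (b : R) ≠ 0 := by
      intro h
      exact hbR ((map_eq_zero_iff _ (IsFractionRing.injective R (FractionRing R))).1 h)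
    field_simp
  -- r is invariant
  have hrS : r ∈ S := by
    rw [hS, GLin.mem_invariants_iff]
    have ha : HopfRep.Comod.coact (k := k) (A := A) (a : R) = (a : R) ⊗ₜ[k] (1 : A) := a.2
    have hb' : HopfRep.Comod.coact (k := k) (A := A) (b : R) = (b : R) ⊗ₜ[k] (1 : A) := b.2
    have h1 : HopfRep.Comod.coact (k := k) (A := A) r * ((b : R) ⊗ₜ[k] (1 : A)) =
        (r ⊗ₜ[k] (1 : A)) * ((b : R) ⊗ₜ[k] (1 : A)) := by
      rw [← hb', ← GLin.IsCoactAlg.coact_mul, hrb, ha, hb', Algebra.TensorProduct.tmul_mul_tmul,
        hrb, one_mul]
    -- multiplication by b ⊗ 1 is injective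
    have hmulinj : Function.Injective (LinearMap.rTensor A (LinearMap.mulRight k (b : R))) := by
      apply Module.Flat.rTensor_preserves_injective_linearMap
      intro y z hyz
      simp only [LinearMap.mulRight_apply] at hyz
      exact mul_right_cancel₀ hbR hyz
    have hmul : ∀ t : TensorProduct k R A, LinearMap.rTensor A (LinearMap.mulRight k (b : R)) t =
        t * ((b : R) ⊗ₜ[k] (1 : A)) := by
      intro t
      induction t using TensorProduct.induction_on with
      | zero => simp
      | tmul y c => simp [Algebra.TensorProduct.tmul_mul_tmul]
      | add y z hy hz => rw [map_add, hy, hz, add_mul]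
    apply hmulinj
    rw [hmul, hmul, h1]
  refine ⟨⟨r, hrS⟩, ?_⟩
  have hb1 : algebraMap S (FractionRing S) b ≠ 0 := by
    intro h
    exact hb0 ((map_eq_zero_iff _ (IsFractionRing.injective S (FractionRing S))).1 h)
  rw [eq_div_iff hb1, ← map_mul]
  congr 1
  exact Subtype.ext hrb

end Groth.Agent.S13124
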