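import Groth.Statements.S13125
import Mathlib

set_option autoImplicit false
universe u v
open KumFam

namespace Groth.Agent.S13125

/-- Let A be a commutative ring graded by an additive monoid ι (an abelian group in the published
statement) through additive subgroups 𝒜 i, and I an ideal of A. Then I is a homogeneous ideal if and
only if A/I carries a structure of ι-graded ring ℬ for which the quotient map sends 𝒜 i into ℬ i for
all i. -/
theorem result (ι : Type u) [DecidableEq ι] [AddMonoid ι]
    (A : Type v) [CommRing A] (𝒜 : ι → AddSubgroup A) [GradedRing 𝒜] (I : Ideal A) :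
    I.IsHomogeneous 𝒜 ↔
      ∃ ℬ : ι → AddSubgroup (A ⧸ I), Nonempty (GradedRing ℬ) ∧
        ∀ i : ι, (𝒜 i).map (Ideal.Quotient.mk I : A →+ A ⧸ I) ≤ ℬ i := by
  classical
  constructor
  · intro hI
    let ℬ : ι → AddSubgroup (A ⧸ I) := fun i => (𝒜 i).map (Ideal.Quotient.mk I : A →+ A ⧸ I)
    let f : ∀ i, 𝒜 i →+ ℬ i := fun i =>
      { toFun := fun a => ⟨Ideal.Quotient.mk I a.1, ⟨a.1, a.2, rfl⟩⟩
        map_zero' := Subtype.ext (map_zero (Ideal.Quotient.mk I))
        map_add' := fun a b => Subtype.ext (map_add (Ideal.Quotient.mk I) a.1 b.1) }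
    let φ : A →+ DirectSum ι (fun i => ℬ i) :=
      (DirectSum.map f).comp (DirectSum.decomposeAddEquiv 𝒜).toAddMonoidHom
    have hφ : ∀ r, φ r = DirectSum.map f (DirectSum.decompose 𝒜 r) := fun r => rfl
    have hφI : ∀ r ∈ I.toAddSubgroup, φ r = 0 := by
      intro r hr
      rw [hφ]
      refine DFinsupp.ext fun i => Subtype.ext ?_
      rw [DirectSum.map_apply]
      show Ideal.Quotient.mk I ((DirectSum.decompose 𝒜 r) i : A) = 0
      exact Ideal.Quotient.eq_zero_iff_mem.mpr (hI i hr)
    let ψ : A ⧸ I →+ DirectSum ι (fun i => ℬ i) :=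
      QuotientAddGroup.lift I.toAddSubgroup φ hφI
    have hψ : ∀ a, ψ (Ideal.Quotient.mk I a) = φ a := fun a => rfl
    have h1 : ∀ y : DirectSum ι (fun i => 𝒜 i),
        DirectSum.coeAddMonoidHom ℬ (DirectSum.map f y) =
          Ideal.Quotient.mk I (DirectSum.coeAddMonoidHom 𝒜 y) := by
      intro y
      induction y using DirectSum.induction_on with
      | zero => simp
      | of i a =>
        rw [DirectSum.map_of, DirectSum.coeAddMonoidHom_of, DirectSum.coeAddMonoidHom_of]
        rfl
      | add y z hy hz => rw [map_add, map_add, map_add, map_add, hy, hz]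
    refine ⟨ℬ, ⟨{ one_mem := ?_, mul_mem := ?_, decompose' := ψ, left_inv := ?_, right_inv := ?_ }⟩,
      fun i => le_rfl⟩
    · exact ⟨1, SetLike.GradedOne.one_mem, map_one (Ideal.Quotient.mk I)⟩
    · rintro i j _ _ ⟨a, ha, rfl⟩ ⟨b, hb, rfl⟩
      exact ⟨a * b, SetLike.GradedMul.mul_mem ha hb, map_mul (Ideal.Quotient.mk I) a b⟩
    · intro x
      obtain ⟨a, rfl⟩ := Ideal.Quotient.mk_surjective x
      rw [hψ, hφ, h1]
      congr 1
      exact DirectSum.Decomposition.left_inv (ℳ := 𝒜) a
    · intro y
      induction y using DirectSum.induction_on with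
      | zero => simp
      | of i b =>
        obtain ⟨b, a, ha, rfl⟩ := b
        rw [DirectSum.coeAddMonoidHom_of]
        show ψ (Ideal.Quotient.mk I a) = _
        rw [hψ, hφ, DirectSum.decompose_of_mem 𝒜 ha, DirectSum.map_of]
        rfl
      | add y z hy hz => rw [map_add, map_add, hy, hz]
  · rintro ⟨ℬ, ⟨hG⟩, hle⟩
    have key : ∀ r : A, ∀ i, ((DirectSum.decompose ℬ (Ideal.Quotient.mk I r)) i : A ⧸ I) =
        Ideal.Quotient.mk I ((DirectSum.decompose 𝒜 r) i : A) := by
      intro r
      induction r using DirectSum.Decomposition.inductionOn 𝒜 with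
      | zero => intro i; simp
      | @homogeneous j m =>
        intro i
        have hm : Ideal.Quotient.mk I (m : A) ∈ ℬ j := hle j ⟨m, m.2, rfl⟩
        by_cases h : j = i
        · subst h
          rw [DirectSum.decompose_of_mem_same ℬ hm, DirectSum.decompose_of_mem_same 𝒜 m.2]
        · rw [DirectSum.decompose_of_mem_ne ℬ hm h, DirectSum.decompose_of_mem_ne 𝒜 m.2 h, map_zero]
      | add a b ha hb =>
        intro i
        rw [map_add, DirectSum.decompose_add, DirectSum.decompose_add, DirectSum.add_apply,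
          DirectSum.add_apply, AddMemClass.coe_add, AddMemClass.coe_add, map_add, ha, hb]
    intro i r hr
    have h2 := key r i
    rw [Ideal.Quotient.eq_zero_iff_mem.mpr hr, DirectSum.decompose_zero, DirectSum.zero_apply,
      ZeroMemClass.coe_zero] at h2
    exact Ideal.Quotient.eq_zero_iff_mem.mp h2.symm

end Groth.Agent.S13125
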