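import Groth.Statements.S13127
import Mathlib
import Groth.Agent.Lib.PowerSeriesInv_helper4

set_option autoImplicit false
universe u
open KumFam

namespace Groth.Agent.S13127

section
open MvPowerSeries Groth.Agent.Lib.PSInvH4

theorem main (R : Type u) [CommRing R] [CharP R 2]
    (l0 l2 l4 s0 s2 s4 τ lam sig κ₁ κ₂ : R) (hl4 : IsUnit l4) (hs4 : IsUnit s4) (hlam : IsUnit lam)
    (hsig : IsUnit sig) (h₁ : s4 ^ 2 * κ₁ ^ 3 = sig ^ 2) (h₂ : l4 ^ 2 * κ₂ ^ 3 = lam ^ 2) :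
    ∃ φ : MvPowerSeries (Fin 3) R ≃ₐ[R] MvPowerSeries (Fin 3) R,
      φ ((X 2 ^ 2 + C (s0 ^ 2) * X 0 ^ 3 * X 1 ^ 4 + C (s2 ^ 2) * X 0 ^ 3 * X 1 ^ 2 +
          C (s4 ^ 2) * X 0 ^ 3 + C (l0 ^ 2) * X 0 ^ 4 * X 1 ^ 3 + C (l2 ^ 2) * X 0 ^ 2 * X 1 ^ 3 +
          C (l4 ^ 2) * X 1 ^ 3 + C (τ ^ 2) * X 0 ^ 3 * X 1 ^ 3 : MvPowerSeries (Fin 3) R)) =
        (X 2 ^ 2 + C (sig ^ 2) * X 0 ^ 3 + C (lam ^ 2) * X 1 ^ 3 : MvPowerSeries (Fin 3) R) := by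
  obtain ⟨s4i, hs4i⟩ := hs4.exists_right_inv
  obtain ⟨l4i, hl4i⟩ := hl4.exists_right_inv
  obtain ⟨sigi, hsigi⟩ := hsig.exists_right_inv
  obtain ⟨lami, hlami⟩ := hlam.exists_right_inv
  obtain ⟨κ₁i, hκ₁i⟩ : ∃ κ₁i, κ₁ * κ₁i = 1 :=
    ⟨κ₁ ^ 2 * s4 ^ 2 * sigi ^ 2, by
      linear_combination (sigi ^ 2) * h₁ + (sig * sigi + 1) * hsigi⟩
  obtain ⟨κ₂i, hκ₂i⟩ : ∃ κ₂i, κ₂ * κ₂i = 1 :=
    ⟨κ₂ ^ 2 * l4 ^ 2 * lami ^ 2, by
      linear_combination (lami ^ 2) * h₂ + (lam * lami + 1) * hlami⟩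
  have hR1 : sig ^ 2 * κ₁i ^ 3 = s4 ^ 2 := by
    linear_combination (-(κ₁i ^ 3)) * h₁ +
      (s4 ^ 2 * (κ₁ ^ 2 * κ₁i ^ 2 + κ₁ * κ₁i + 1)) * hκ₁i
  have hR1' : lam ^ 2 * κ₂i ^ 3 = l4 ^ 2 := by
    linear_combination (-(κ₂i ^ 3)) * h₂ +
      (l4 ^ 2 * (κ₂ ^ 2 * κ₂i ^ 2 + κ₂ * κ₂i + 1)) * hκ₂i
  have hR2 : s4 ^ 2 * s4i ^ 2 = 1 := by linear_combination (s4 * s4i + 1) * hs4i
  have hR2' : l4 ^ 2 * l4i ^ 2 = 1 := by linear_combination (l4 * l4i + 1) * hl4i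
  obtain ⟨Yb, hYb⟩ : ∃ Yb : MvPowerSeries (Fin 3) R,
      Yb = C (s2 ^ 2) * X 1 ^ 2 + C (s0 ^ 2) * X 1 ^ 4 + C (τ ^ 2) * X 1 ^ 3 := ⟨_, rfl⟩
  obtain ⟨Ya, hYa⟩ : ∃ Ya : MvPowerSeries (Fin 3) R,
      Ya = C (l2 ^ 2) * X 0 ^ 2 + C (l0 ^ 2) * X 0 ^ 4 := ⟨_, rfl⟩
  have hYb0 : constantCoeff (C (s4i ^ 2) * Yb) = 0 := by
    rw [hYb]
    simp only [map_add, map_mul, map_pow, constantCoeff_C, constantCoeff_X]
    ring
  have hYa0 : constantCoeff (C (l4i ^ 2) * Ya) = 0 := by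
    rw [hYa]
    simp only [map_add, map_mul, map_pow, constantCoeff_C, constantCoeff_X]
    ring
  obtain ⟨wb, hwb0, hwb⟩ := exists_cube_root (R := R) (C (s4i ^ 2) * Yb) hYb0
  obtain ⟨wa, hwa0, hwa⟩ := exists_cube_root (R := R) (C (l4i ^ 2) * Ya) hYa0
  have e1 : (C (sig ^ 2) * C κ₁i ^ 3 : MvPowerSeries (Fin 3) R) = C (s4 ^ 2) := by
    rw [← map_pow, ← map_mul, hR1]
  have e2 : (C (s4 ^ 2) * C (s4i ^ 2) : MvPowerSeries (Fin 3) R) = 1 := by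
    rw [← map_mul, hR2, map_one]
  have e1' : (C (lam ^ 2) * C κ₂i ^ 3 : MvPowerSeries (Fin 3) R) = C (l4 ^ 2) := by
    rw [← map_pow, ← map_mul, hR1']
  have e2' : (C (l4 ^ 2) * C (l4i ^ 2) : MvPowerSeries (Fin 3) R) = 1 := by
    rw [← map_mul, hR2', map_one]
  have hu3 : C (sig ^ 2) * (C κ₁i * wb) ^ 3 = C (s4 ^ 2) + Yb := by
    rw [mul_pow, hwb]
    linear_combination (1 + C (s4i ^ 2) * Yb) * e1 + Yb * e2
  have hv3 : C (lam ^ 2) * (C κ₂i * wa) ^ 3 = C (l4 ^ 2) + Ya := by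
    rw [mul_pow, hwa]
    linear_combination (1 + C (l4i ^ 2) * Ya) * e1' + Ya * e2'
  obtain ⟨e, he⟩ := exists_algEquiv_of_diag (σ := Fin 3) (R := R)
    ![C κ₁i * wb, C κ₂i * wa, 1] (by
    intro i
    fin_cases i
    · show IsUnit (constantCoeff (C κ₁i * wb))
      rw [map_mul, constantCoeff_C]
      exact (IsUnit.of_mul_eq_one κ₁ (by rw [mul_comm]; exact hκ₁i)).mul hwb0
    · show IsUnit (constantCoeff (C κ₂i * wa))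
      rw [map_mul, constantCoeff_C]
      exact (IsUnit.of_mul_eq_one κ₂ (by rw [mul_comm]; exact hκ₂i)).mul hwa0
    · show IsUnit (constantCoeff (1 : MvPowerSeries (Fin 3) R))
      rw [map_one]
      exact isUnit_one)
  have he0 : e (X 0) = X 0 * (C κ₁i * wb) := he 0
  have he1 : e (X 1) = X 1 * (C κ₂i * wa) := he 1
  have he2 : e (X 2) = X 2 := by rw [he 2]; exact mul_one _
  have heC : ∀ r : R, e (C r) = C r := fun r => e.commutes r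
  refine ⟨e.symm, ?_⟩
  rw [AlgEquiv.symm_apply_eq]
  simp only [map_add e, map_mul e, map_pow e, he0, he1, he2, heC]
  rw [hYb] at hu3
  rw [hYa] at hv3
  linear_combination (-(X 0 ^ 3)) * hu3 + (-(X 1 ^ 3)) * hv3

end

open MvPowerSeries in
/-- Let R be a commutative ring of characteristic 2 and l0, l2, l4, s0, s2, s4, τ, lam, sig ∈ R with l4,
s4, lam, sig units, and let κ₁, κ₂ ∈ R satisfy s4² κ₁³ = sig² and l4² κ₂³ = lam² (cube roots of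
sig²/s4² and lam²/l4²). In the power series ring R[[a, b, c]] (a = X 0, b = X 1, c = X 2) put F = c²
+ s0² a³ b⁴ + s2² a³ b² + s4² a³ + l0² a⁴ b³ + l2² a² b³ + l4² b³ + τ² a³ b³ and F₀ = c² + sig² a³ +
lam² b³. Then some R-algebra automorphism of R[[a, b, c]] maps F to F₀; consequently R[[a, b,
c]]/(F) ≅ R[[a, b, c]]/(F₀). (In the published statement lam, sig are the representatives in the
ground field of the residues of l4, s4 at a rational point, so that F₀ is the equation of the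
special fibre made constant; this row takes them to be arbitrary units.) -/
theorem result (R : Type u) [CommRing R] [CharP R 2]
    (l0 l2 l4 s0 s2 s4 τ lam sig κ₁ κ₂ : R) (hl4 : IsUnit l4) (hs4 : IsUnit s4) (hlam : IsUnit lam)
    (hsig : IsUnit sig) (h₁ : s4 ^ 2 * κ₁ ^ 3 = sig ^ 2) (h₂ : l4 ^ 2 * κ₂ ^ 3 = lam ^ 2) :
    ∃ φ : MvPowerSeries (Fin 3) R ≃ₐ[R] MvPowerSeries (Fin 3) R,
      φ ((X 2 ^ 2 + C (s0 ^ 2) * X 0 ^ 3 * X 1 ^ 4 + C (s2 ^ 2) * X 0 ^ 3 * X 1 ^ 2 +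
          C (s4 ^ 2) * X 0 ^ 3 + C (l0 ^ 2) * X 0 ^ 4 * X 1 ^ 3 + C (l2 ^ 2) * X 0 ^ 2 * X 1 ^ 3 +
          C (l4 ^ 2) * X 1 ^ 3 + C (τ ^ 2) * X 0 ^ 3 * X 1 ^ 3 : MvPowerSeries (Fin 3) R)) =
        (X 2 ^ 2 + C (sig ^ 2) * X 0 ^ 3 + C (lam ^ 2) * X 1 ^ 3 : MvPowerSeries (Fin 3) R) := by
  exact main R l0 l2 l4 s0 s2 s4 τ lam sig κ₁ κ₂ hl4 hs4 hlam hsig h₁ h₂

end Groth.Agent.S13127
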