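import Groth.Statements.S13128
import Mathlib
import Groth.Agent.Lib.PowerSeriesInv_helper4

set_option autoImplicit false
universe u
open KumFam

namespace Groth.Agent.S13128

section
open MvPowerSeries Groth.Agent.Lib.PSInvH4

theorem main (R : Type u) [CommRing R] [CharP R 2]
    (l0 l2 l4 s0 s2 s4 τ α β : R) (hτ : IsUnit τ)
    (hα : l4 ^ 2 * α ^ 4 + l2 ^ 2 * α ^ 2 + τ ^ 2 * α + l0 ^ 2 = 0)
    (hβ : s4 ^ 2 * β ^ 4 + s2 ^ 2 * β ^ 2 + τ ^ 2 * β + s0 ^ 2 = 0) :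
    ∃ φ : MvPowerSeries (Fin 3) R ≃ₐ[R] MvPowerSeries (Fin 3) R,
      φ ((X 2 ^ 2 + C (τ ^ 2) * X 0 * X 1 + (C (s4 ^ 2) * X 1 ^ 4 + C (s2 ^ 2) * X 1 ^ 2) * X 0 +
          (C (l4 ^ 2) * X 0 ^ 4 + C (l2 ^ 2) * X 0 ^ 2) * X 1 + C (l4 ^ 2 * β) * X 0 ^ 4 +
          C (l2 ^ 2 * β) * X 0 ^ 2 + C (s4 ^ 2 * α) * X 1 ^ 4 + C (s2 ^ 2 * α) * X 1 ^ 2 :
          MvPowerSeries (Fin 3) R)) =
        (X 2 ^ 2 + X 0 * X 1 : MvPowerSeries (Fin 3) R) := by
  obtain ⟨τi, hτi⟩ := hτ.exists_right_inv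
  have h2R : (2 : R) = 0 := CharTwo.two_eq_zero
  obtain ⟨α', hα'⟩ : ∃ α' : R, α' ^ 2 = α := by
    refine ⟨(l4 * α ^ 2 + l2 * α + l0) * τi, ?_⟩
    linear_combination (τi ^ 2) * hα +
      (τi ^ 2 * (l4 * l2 * α ^ 3 + l4 * l0 * α ^ 2 + l2 * l0 * α) - α) * h2R +
      (-α * (τ * τi + 1)) * hτi
  obtain ⟨β', hβ'⟩ : ∃ β' : R, β' ^ 2 = β := by
    refine ⟨(s4 * β ^ 2 + s2 * β + s0) * τi, ?_⟩
    linear_combination (τi ^ 2) * hβ +
      (τi ^ 2 * (s4 * s2 * β ^ 3 + s4 * s0 * β ^ 2 + s2 * s0 * β) - β) * h2R +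
      (-β * (τ * τi + 1)) * hτi
  have h2 : (2 : MvPowerSeries (Fin 3) R) = 0 := two_eq_zero' (R := R) (Fin 3)
  have hA : (C α' : MvPowerSeries (Fin 3) R) ^ 2 = C α := by rw [← map_pow, hα']
  have hB : (C β' : MvPowerSeries (Fin 3) R) ^ 2 = C β := by rw [← map_pow, hβ']
  obtain ⟨W, hW⟩ : ∃ W : MvPowerSeries (Fin 3) R,
      W = C (τ ^ 2) + C (s4 ^ 2) * X 1 ^ 3 + C (s2 ^ 2) * X 1 + C (l4 ^ 2) * X 0 ^ 3 +
        C (l2 ^ 2) * X 0 := ⟨_, rfl⟩
  obtain ⟨d, hd⟩ : ∃ d : MvPowerSeries (Fin 3) R,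
      d = C β' * (C l4 * X 0 ^ 2 + C l2 * X 0) + C α' * (C s4 * X 1 ^ 2 + C s2 * X 1) :=
    ⟨_, rfl⟩
  have hW0 : constantCoeff W = τ ^ 2 := by
    rw [hW]
    simp only [map_add, map_mul, map_pow, constantCoeff_C, constantCoeff_X]
    ring
  have hd0 : constantCoeff d = 0 := by
    rw [hd]
    simp only [map_add, map_mul, map_pow, constantCoeff_C, constantCoeff_X]
    ring
  -- first automorphism: X 0 ↦ X 0 * W
  obtain ⟨ea, hea⟩ := exists_algEquiv_of_diag (σ := Fin 3) (R := R) ![W, 1, 1] (by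
    intro i
    fin_cases i
    · show IsUnit (constantCoeff W)
      rw [hW0]
      exact hτ.pow 2
    · show IsUnit (constantCoeff (1 : MvPowerSeries (Fin 3) R))
      rw [map_one]
      exact isUnit_one
    · show IsUnit (constantCoeff (1 : MvPowerSeries (Fin 3) R))
      rw [map_one]
      exact isUnit_one)
  have ha0 : ea (X 0) = X 0 * W := hea 0
  have ha1 : ea (X 1) = X 1 := by rw [hea 1]; exact mul_one _
  have ha2 : ea (X 2) = X 2 := by rw [hea 2]; exact mul_one _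
  -- second automorphism: X 2 ↦ X 2 + d
  obtain ⟨φc, hφc⟩ := exists_algHom (σ := Fin 3) (τ := Fin 3) (R := R) ![X 0, X 1, X 2 + d] (by
    intro i
    fin_cases i
    · exact constantCoeff_X 0
    · exact constantCoeff_X 1
    · show constantCoeff (X 2 + d) = 0
      rw [map_add, constantCoeff_X, hd0, add_zero])
  obtain ⟨ψc, hψc⟩ := exists_algHom (σ := Fin 3) (τ := Fin 3) (R := R) ![X 0, X 1, X 2 - d] (by
    intro i
    fin_cases i
    · exact constantCoeff_X 0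
    · exact constantCoeff_X 1
    · show constantCoeff (X 2 - d) = 0
      rw [map_sub, constantCoeff_X, hd0, sub_zero])
  have hc0 : φc (X 0) = X 0 := hφc 0
  have hc1 : φc (X 1) = X 1 := hφc 1
  have hc2 : φc (X 2) = X 2 + d := hφc 2
  have hp0 : ψc (X 0) = X 0 := hψc 0
  have hp1 : ψc (X 1) = X 1 := hψc 1
  have hp2 : ψc (X 2) = X 2 - d := hψc 2
  have hcC : ∀ r : R, φc (C r) = C r := fun r => φc.commutes r
  have hpC : ∀ r : R, ψc (C r) = C r := fun r => ψc.commutes r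
  have hcd : φc d = d := by
    rw [hd]
    simp only [map_add φc, map_mul φc, map_pow φc, hcC, hc0, hc1]
  have hpd : ψc d = d := by
    rw [hd]
    simp only [map_add ψc, map_mul ψc, map_pow ψc, hpC, hp0, hp1]
  have hcW : φc W = W := by
    rw [hW]
    simp only [map_add φc, map_mul φc, map_pow φc, hcC, hc0, hc1]
  have hcb : Function.Bijective φc := by
    refine bijective_of_shear φc ψc 2 d hd0 ?_ hc2 ?_ hp2 hcd hpd
    · intro i hi
      fin_cases i
      · exact hc0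
      · exact hc1
      · exact absurd rfl hi
    · intro i hi
      fin_cases i
      · exact hp0
      · exact hp1
      · exact absurd rfl hi
  obtain ⟨ec, hec⟩ : ∃ ec : MvPowerSeries (Fin 3) R ≃ₐ[R] MvPowerSeries (Fin 3) R,
      ∀ f, ec f = φc f := ⟨AlgEquiv.ofBijective φc hcb, fun f => rfl⟩
  refine ⟨(ea.trans ec).symm, ?_⟩
  rw [AlgEquiv.symm_apply_eq, AlgEquiv.trans_apply]
  simp only [map_add ea, map_mul ea, map_pow ea, ha0, ha1, ha2, hec, map_add φc, map_mul φc,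
    map_pow φc, hc0, hc1, hc2, hcW]
  rw [hW, hd]
  simp only [map_mul, map_pow]
  linear_combination
    (-(X 2 * (C β' * (C l4 * X 0 ^ 2 + C l2 * X 0) + C α' * (C s4 * X 1 ^ 2 + C s2 * X 1)) +
      (C β' * (C l4 * X 0 ^ 2 + C l2 * X 0)) * (C α' * (C s4 * X 1 ^ 2 + C s2 * X 1)) +
      C β' ^ 2 * C l4 * C l2 * X 0 ^ 3 + C α' ^ 2 * C s4 * C s2 * X 1 ^ 3)) * h2 +
    (-(C l4 ^ 2 * X 0 ^ 4 + C l2 ^ 2 * X 0 ^ 2)) * hB +
    (-(C s4 ^ 2 * X 1 ^ 4 + C s2 ^ 2 * X 1 ^ 2)) * hA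

end

open MvPowerSeries in
/-- Let R be a commutative ring of characteristic 2, l0, l2, l4, s0, s2, s4, τ ∈ R with τ a unit, and α,
β ∈ R with l4² α⁴ + l2² α² + τ² α + l0² = 0 and s4² β⁴ + s2² β² + τ² β + s0² = 0. In characteristic
2 these relations give τ² α = (l4 α² + l2 α + l0)² and τ² β = (s4 β² + s2 β + s0)², so α = α′² and β
= β′² with α′ = (l4 α² + l2 α + l0)/τ and β′ = (s4 β² + s2 β + s0)/τ. In R[[a, b, c]] (a = X 0, b =
X 1, c = X 2) put h = c² + τ² a b + (s4² b⁴ + s2² b²) a + (l4² a⁴ + l2² a²) b + l4² β a⁴ + l2² β a²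
+ s4² α b⁴ + s2² α b²; this is the chart equation c² + τ² a b + (s4² b⁴ + s2² b² + s0²) a + (l4² a⁴
+ l2² a² + l0²) b after the substitution a ↦ a + α, b ↦ b + β, c ↦ c + τ α′ β′, which moves the
point (α, β, τ α′ β′) of that surface, where all partial derivatives vanish, to the origin. Then
some R-algebra automorphism of R[[a, b, c]] maps h to c² + a b; consequently R[[a, b, c]]/(h) ≅
R[[a, b, c]]/(c² + a b), the completed local ring of an ordinary double point, constant over R. (The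
published statement translates only a and b, so that its h carries the additional constant term τ² α
β; with that term h is a unit of R[[a, b, c]] whenever τ α β is a unit, for instance c² + a b + 1
over the field with two elements with l0 = s0 = τ = α = β = 1 and l2 = l4 = s2 = s4 = 0, and no ring
automorphism carries a unit to c² + a b. The published proof begins by shifting c by a polynomial in
a, b whose constant term is τ α′ β′, a substitution of the polynomial ring which removes the term τ²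
α β, and the rest of its argument takes place in R[[a, b, c]]; this row states the result for the
fully translated equation, which is what that argument proves.) -/
theorem result (R : Type u) [CommRing R] [CharP R 2]
    (l0 l2 l4 s0 s2 s4 τ α β : R) (hτ : IsUnit τ)
    (hα : l4 ^ 2 * α ^ 4 + l2 ^ 2 * α ^ 2 + τ ^ 2 * α + l0 ^ 2 = 0)
    (hβ : s4 ^ 2 * β ^ 4 + s2 ^ 2 * β ^ 2 + τ ^ 2 * β + s0 ^ 2 = 0) :
    ∃ φ : MvPowerSeries (Fin 3) R ≃ₐ[R] MvPowerSeries (Fin 3) R,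
      φ ((X 2 ^ 2 + C (τ ^ 2) * X 0 * X 1 + (C (s4 ^ 2) * X 1 ^ 4 + C (s2 ^ 2) * X 1 ^ 2) * X 0 +
          (C (l4 ^ 2) * X 0 ^ 4 + C (l2 ^ 2) * X 0 ^ 2) * X 1 + C (l4 ^ 2 * β) * X 0 ^ 4 +
          C (l2 ^ 2 * β) * X 0 ^ 2 + C (s4 ^ 2 * α) * X 1 ^ 4 + C (s2 ^ 2 * α) * X 1 ^ 2 :
          MvPowerSeries (Fin 3) R)) =
        (X 2 ^ 2 + X 0 * X 1 : MvPowerSeries (Fin 3) R) := by
  exact main R l0 l2 l4 s0 s2 s4 τ α β hτ hα hβ

end Groth.Agent.S13128
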