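import Groth.Statements.S13130
import Mathlib
-- import your own Groth.Agent.* helpers here

set_option autoImplicit false
universe u v
open KumFam

namespace Groth.Agent.S13130

/-- Let R be a nontrivial commutative ring and M a commutative group, with group algebra R[M], the
coordinate ring of the diagonalizable group scheme D(M) over Spec R. Then D(M) is integral over Spec
R, i.e. R[M] is an integral R-algebra, if and only if M is a torsion group. (The published statement
is over an arbitrary base scheme; the question is local and this row is the affine form, with R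
nontrivial so that the elements of M are R-linearly independent.) -/
theorem result (R : Type u) [CommRing R] [Nontrivial R]
    (M : Type v) [CommGroup M] :
    Algebra.IsIntegral R (MonoidAlgebra R M) ↔ IsMulTorsion M := by

  classical
  constructor
  · intro hint m
    by_contra hm
    have hinj : Function.Injective (fun i : ℕ => m ^ i) := injective_pow_iff_not_isOfFinOrder.mpr hm
    obtain ⟨P, hmonic, hP⟩ := Algebra.IsIntegral.isIntegral (R := R) (MonoidAlgebra.of R M m)
    rw [Polynomial.eval₂_eq_sum_range] at hP
    have h1 := congrArg (fun z : MonoidAlgebra R M => z.coeff (m ^ P.natDegree)) hP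
    simp only [MonoidAlgebra.coeff_sum, MonoidAlgebra.coeff_zero, Finsupp.coe_zero, Pi.zero_apply,
      Finsupp.coe_finset_sum, Finset.sum_apply] at h1
    have key : ∀ i : ℕ, ((algebraMap R (MonoidAlgebra R M) (P.coeff i) *
        (MonoidAlgebra.of R M m) ^ i).coeff) (m ^ P.natDegree) =
        if i = P.natDegree then P.coeff i else 0 := by
      intro i
      rw [← Algebra.smul_def, ← map_pow, MonoidAlgebra.of_apply, MonoidAlgebra.coeff_smul,
        MonoidAlgebra.coeff_single, Finsupp.smul_apply, Finsupp.single_apply, smul_eq_mul]
      by_cases hi : i = P.natDegree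
      · subst hi; simp
      · have : m ^ i ≠ m ^ P.natDegree := fun h => hi (hinj h)
        rw [if_neg this, if_neg hi, mul_zero]
    rw [Finset.sum_congr rfl (fun i _ => key i), Finset.sum_ite_eq'] at h1
    simp only [Finset.mem_range, Nat.lt_succ_self, if_true] at h1
    rw [Polynomial.coeff_natDegree, hmonic.leadingCoeff] at h1
    exact one_ne_zero h1
  · intro htors
    constructor
    intro f
    have hle : Algebra.adjoin R (MonoidAlgebra.of R M '' (f.coeff.support : Set M)) ≤
        integralClosure R (MonoidAlgebra R M) := by
      apply Algebra.adjoin_le
      rintro _ ⟨m, _, rfl⟩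
      show IsIntegral R _
      obtain ⟨k, hk, hmk⟩ := isOfFinOrder_iff_pow_eq_one.mp (htors m)
      refine ⟨Polynomial.X ^ k - Polynomial.C 1, Polynomial.monic_X_pow_sub_C 1 hk.ne', ?_⟩
      rw [Polynomial.eval₂_sub, Polynomial.eval₂_pow, Polynomial.eval₂_X, Polynomial.eval₂_C,
        ← map_pow, hmk, map_one, map_one, sub_self]
    exact hle (MonoidAlgebra.mem_adjoin_support f)

end Groth.Agent.S13130
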