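import Groth.Statements.S13135
import Groth.Agent.Lib.ArtinLocalReg_helper9

set_option autoImplicit false
universe u
open CAlg

namespace Groth.Agent.S13135

/-- Let A' be an Artinian local ring, I a proper ideal, A = A'/I and f_1, …, f_m a regular sequence in
A[x_1, …, x_n]. For every choice of lifts f'_1, …, f'_m in A'[x_1, …, x_n] the quotient A'[x]/(f'_1,
…, f'_m) is flat over A' (so it is a flat lifting of A[x]/(f_1, …, f_m)). (The published statement
is for a surjection of local Artinian algebras with a fixed residue field over a ring of Witt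
vectors; only the Artinian local base and the proper ideal are used, which is the form taken here.) -/
theorem result
    {A' : Type u} [CommRing A'] [IsArtinianRing A'] [IsLocalRing A'] (I : Ideal A') (hI : I ≠ ⊤)
    {n m : ℕ} (f : Fin m → MvPolynomial (Fin n) (A' ⧸ I))
    (hreg : RingTheory.Sequence.IsRegular (MvPolynomial (Fin n) (A' ⧸ I)) (List.ofFn f))
    (f' : Fin m → MvPolynomial (Fin n) A') (hf' : ∀ i, MvPolynomial.map (Ideal.Quotient.mk I) (f' i) = f i) :
    Module.Flat A' (MvPolynomial (Fin n) A' ⧸ Ideal.span (Set.range f')) := by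
  have hnil : IsNilpotent (IsLocalRing.maximalIdeal A') := by
    have := IsArtinianRing.isNilpotent_jacobson_bot (R := A')
    rwa [IsLocalRing.jacobson_eq_maximalIdeal ⊥ bot_ne_top] at this
  have hπ : Function.Surjective (MvPolynomial.map (σ := Fin n) (Ideal.Quotient.mk I)) :=
    MvPolynomial.map_surjective _ Ideal.Quotient.mk_surjective
  have hK : RingHom.ker (MvPolynomial.map (σ := Fin n) (Ideal.Quotient.mk I)) =
      I.map (algebraMap A' (MvPolynomial (Fin n) A')) := by
    rw [MvPolynomial.ker_map, Ideal.mk_ker, MvPolynomial.algebraMap_eq]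
  have hrs : (List.ofFn f').map (MvPolynomial.map (σ := Fin n) (Ideal.Quotient.mk I)) =
      List.ofFn f := by
    rw [List.map_ofFn]
    congr 1
    funext i
    exact hf' i
  have hflat := Groth.Agent.Lib.ArtinLocalReg.flat_quot_span_range hnil I hI
    (MvPolynomial.map (σ := Fin n) (Ideal.Quotient.mk I)) hπ hK (List.ofFn f')
    (by rw [hrs]; exact hreg.toIsWeaklyRegular)
  have hspan : Ideal.ofList (List.ofFn f') = Ideal.span (Set.range f') := by
    unfold Ideal.ofList
    congr 1
    ext x
    simp [List.mem_ofFn]
  rwa [hspan] at hflat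

end Groth.Agent.S13135
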