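import Groth.Statements.S13141
import Mathlib

set_option autoImplicit false
universe u v w w'
open scoped TensorProduct
open GrpAlg

namespace Groth.Agent.S13141

/-- Let G be a finite group, R a commutative ring with |G| invertible in R, M a projective R-module with
an R-linear G-action and S an R-algebra. The natural map M^G ⊗_R S → M ⊗_R S is injective and its
image is the submodule of G-invariants of M ⊗_R S (G acting on the first factor); that is, M^G ⊗_R S
→ (M ⊗_R S)^G is bijective. -/
theorem result
    (R : Type u) [CommRing R] (G : Type v) [Group G] [Finite G] (hG : IsUnit ((Nat.card G : ℕ) : R))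
    (M : Type w) [AddCommGroup M] [Module R M] [Module.Projective R M] (ρ : Representation R G M)
    (S : Type w') [CommRing S] [Algebra R S] :
    Function.Injective (TensorProduct.map ρ.invariants.subtype (LinearMap.id : S →ₗ[R] S)) ∧
    LinearMap.range (TensorProduct.map ρ.invariants.subtype (LinearMap.id : S →ₗ[R] S)) =
      ⨅ g : G, LinearMap.eqLocus (LinearMap.rTensor S (ρ g)) LinearMap.id := by
  cases nonempty_fintype G
  rw [Nat.card_eq_fintype_card] at hG
  letI : Invertible (Fintype.card G : R) := hG.invertible
  have hproj := ρ.isProj_averageMap
  -- the projection onto invariants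
  let e : M →ₗ[R] ρ.invariants := hproj.codRestrict
  have he1 : e ∘ₗ ρ.invariants.subtype = LinearMap.id := by
    apply LinearMap.ext
    intro x
    exact hproj.codRestrict_apply_cod x
  have he2 : ρ.invariants.subtype ∘ₗ e = ρ.averageMap := by
    ext x
    rfl
  have havg : ρ.averageMap = ⅟(Fintype.card G : R) • ∑ g : G, ρ g := by
    simp [Representation.averageMap, GroupAlgebra.average, map_sum]
  constructor
  · apply Function.LeftInverse.injective (g := TensorProduct.map e (LinearMap.id : S →ₗ[R] S))
    intro x
    rw [← LinearMap.comp_apply, ← TensorProduct.map_comp, he1, LinearMap.id_comp,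
      TensorProduct.map_id, LinearMap.id_apply]
  · apply le_antisymm
    · rintro _ ⟨x, rfl⟩
      rw [Submodule.mem_iInf]
      intro g
      rw [LinearMap.mem_eqLocus, LinearMap.id_apply, LinearMap.rTensor, ← LinearMap.comp_apply,
        ← TensorProduct.map_comp, LinearMap.id_comp]
      congr 2
      ext m
      exact m.2 g
    · intro y hy
      rw [Submodule.mem_iInf] at hy
      have hy' : ∀ g : G, LinearMap.rTensor S (ρ g) y = y := fun g => by
        have := hy g
        rwa [LinearMap.mem_eqLocus, LinearMap.id_apply] at this
      have h1 : LinearMap.rTensor S ρ.averageMap y = y := by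
        rw [havg, ← LinearMap.coe_rTensorHom, map_smul, map_sum, LinearMap.smul_apply,
          LinearMap.sum_apply]
        simp only [LinearMap.coe_rTensorHom, hy']
        rw [Finset.sum_const, Finset.card_univ, ← Nat.cast_smul_eq_nsmul R, smul_smul,
          invOf_mul_self, one_smul]
      refine ⟨TensorProduct.map e LinearMap.id y, ?_⟩
      rw [← LinearMap.comp_apply, ← TensorProduct.map_comp, he2, LinearMap.id_comp]
      exact h1

end Groth.Agent.S13141
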