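import Groth.Statements.S13142
import Mathlib

set_option autoImplicit false
universe u v
open GrpAlg

namespace Groth.Agent.S13142

/-- Let G be a finite group and R a commutative ring with |G| invertible in R, acting on R[x_1, …, x_n]
by R-algebra automorphisms. The invariant subring R[x_1, …, x_n]^G is a flat R-module (so the
quotient of affine n-space over R by G is flat over R). -/
theorem result
    (R : Type u) [CommRing R] (G : Type v) [Group G] [Finite G] (hG : IsUnit ((Nat.card G : ℕ) : R))
    (n : ℕ) (ρ : G →* (MvPolynomial (Fin n) R ≃ₐ[R] MvPolynomial (Fin n) R)) :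
    Module.Flat R ↥(⨅ g : G, LinearMap.eqLocus (ρ g).toLinearMap (LinearMap.id : MvPolynomial (Fin n) R →ₗ[R] MvPolynomial (Fin n) R)) := by
  cases nonempty_fintype G
  rw [Nat.card_eq_fintype_card] at hG
  obtain ⟨u, hu⟩ := hG
  set P := MvPolynomial (Fin n) R
  set N : Submodule R P := ⨅ g : G, LinearMap.eqLocus (ρ g).toLinearMap (LinearMap.id : P →ₗ[R] P)
  have hN : ∀ x : P, x ∈ N ↔ ∀ g : G, ρ g x = x := by
    intro x
    simp only [N, Submodule.mem_iInf, LinearMap.mem_eqLocus, LinearMap.id_apply,
      AlgEquiv.toLinearMap_apply]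
  let E : P →ₗ[R] P := (↑u⁻¹ : R) • ∑ g : G, (ρ g).toLinearMap
  have hE : ∀ x, E x = (↑u⁻¹ : R) • ∑ g : G, ρ g x := by
    intro x
    simp only [E, LinearMap.smul_apply, LinearMap.sum_apply, AlgEquiv.toLinearMap_apply]
  have hEmem : ∀ x, E x ∈ N := by
    intro x
    rw [hN]
    intro h
    rw [hE, map_smul, map_sum]
    congr 1
    have : ∀ g : G, ρ h (ρ g x) = ρ (h * g) x := fun g => by rw [map_mul]; rfl
    simp_rw [this]
    exact Fintype.sum_bijective (fun g => h * g) (Group.mulLeft_bijective h) _ _ (fun _ => rfl)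
  have hEid : ∀ x ∈ N, E x = x := by
    intro x hx
    rw [hN] at hx
    rw [hE]
    simp_rw [hx]
    rw [Finset.sum_const, Finset.card_univ, ← Nat.cast_smul_eq_nsmul R, smul_smul, ← hu,
      Units.inv_mul, one_smul]
  have hproj : Module.Projective R N :=
    Module.Projective.of_split N.subtype (E.codRestrict N hEmem) (by
      apply LinearMap.ext
      intro x
      apply Subtype.ext
      exact hEid x x.2)
  infer_instance

end Groth.Agent.S13142
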