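import Groth.Statements.S13149
import Mathlib
-- import your own Groth.Agent.* helpers here

set_option autoImplicit false
universe u
open CAlg

namespace Groth.Agent.S13149

theorem det3 {R : Type*} [CommRing R] (x y z : Fin 3 → R) :
    Matrix.det (Matrix.of ![x, y, z]) =
      x 0 * y 1 * z 2 - x 0 * y 2 * z 1 - x 1 * y 0 * z 2 + x 1 * y 2 * z 0
        + x 2 * y 0 * z 1 - x 2 * y 1 * z 0 := by
  rw [Matrix.det_fin_three]; simp

theorem det_eq_zero_of_collinear {R : Type*} [CommRing R] (x y z n : Fin 3 → R)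
    (hn : ∃ i, IsUnit (n i)) (hx : dotProduct x n = 0) (hy : dotProduct y n = 0)
    (hz : dotProduct z n = 0) : Matrix.det (Matrix.of ![x, y, z]) = 0 := by
  rw [det3]
  simp only [dotProduct, Fin.sum_univ_three] at hx hy hz
  obtain ⟨i, hi⟩ := hn
  rw [← hi.mul_right_eq_zero]
  fin_cases i
  · simp only [Fin.zero_eta]
    linear_combination (y 1 * z 2 - y 2 * z 1) * hx - (x 1 * z 2 - x 2 * z 1) * hy
      + (x 1 * y 2 - x 2 * y 1) * hz
  · simp only [Fin.mk_one]
    linear_combination -(y 0 * z 2 - y 2 * z 0) * hx + (x 0 * z 2 - x 2 * z 0) * hy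
      - (x 0 * y 2 - x 2 * y 0) * hz
  · simp only [Fin.reduceFinMk]
    linear_combination (y 0 * z 1 - y 1 * z 0) * hx - (x 0 * z 1 - x 1 * z 0) * hy
      + (x 0 * y 1 - x 1 * y 0) * hz

theorem prop_of_minors {R : Type*} [CommRing R] (x w : Fin 3 → R) (k : Fin 3) (hk : IsUnit (w k))
    (hx : ∃ i, IsUnit (x i)) (hm : ∀ i, x i * w k = x k * w i) :
    ∃ t : R, IsUnit t ∧ x = t • w := by
  obtain ⟨v, hv⟩ := hk.exists_right_inv
  have hxi : ∀ i, x i = (x k * v) * w i := by
    intro i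
    have := hm i
    linear_combination v * this - x i * hv
  refine ⟨x k * v, ?_, ?_⟩
  · obtain ⟨i, hi⟩ := hx
    rw [hxi i] at hi
    exact isUnit_of_mul_isUnit_left hi
  · ext i
    simp only [Pi.smul_apply, smul_eq_mul]
    exact hxi i
theorem core (p : ℕ) [Fact p.Prime] (A : Type u) [CommRing A]
    (r : (Fin 3 → ZMod p) → (Fin 3 → A))
    (hpt : ∀ v : Fin 3 → ZMod p, v ≠ 0 → ∃ i, IsUnit (r v i))
    (hdet : ∀ u v w : Fin 3 → ZMod p, u ≠ 0 → v ≠ 0 → w ≠ 0 →
      Matrix.det (Matrix.of ![u, v, w]) = 0 → Matrix.det (Matrix.of ![r u, r v, r w]) = 0)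
    (h0 : r ![1, 0, 0] = ![1, 0, 0]) (h1 : r ![0, 1, 0] = ![0, 1, 0])
    (h2 : r ![0, 0, 1] = ![0, 0, 1])
    (c0 c1 c2 : A) (hc : r ![1, 1, 1] = ![c0, c1, c2])
    (hc0 : IsUnit c0) (hc1 : IsUnit c1) (hc2 : IsUnit c2) :
    (p : A) = 0 := by
  have hne : ∀ (a b c : ZMod p), (a ≠ 0 ∨ b ≠ 0 ∨ c ≠ 0) → (![a, b, c] : Fin 3 → ZMod p) ≠ 0 := by
    intro a b c h h'
    have e0 := congrFun h' 0
    have e1 := congrFun h' 1
    have e2 := congrFun h' 2
    simp at e0 e1 e2
    tauto
  have one_ne : (1 : ZMod p) ≠ 0 := one_ne_zero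
  -- Q1
  obtain ⟨t1, ht1, hq1⟩ : ∃ t : A, IsUnit t ∧ r ![0, 1, 1] = t • ![0, c1, c2] := by
    have ea := hdet ![0, 1, 0] ![0, 0, 1] ![0, 1, 1] (hne _ _ _ (by simp)) (hne _ _ _ (by simp))
      (hne _ _ _ (by simp)) (by rw [det3]; simp)
    have eb := hdet ![1, 0, 0] ![1, 1, 1] ![0, 1, 1] (hne _ _ _ (by simp)) (hne _ _ _ (by simp))
      (hne _ _ _ (by simp)) (by rw [det3]; simp)
    rw [h1, h2, det3] at ea
    rw [h0, hc, det3] at eb
    simp at ea eb
    refine prop_of_minors _ _ 2 (by simpa using hc2) (hpt _ (hne _ _ _ (by simp))) ?_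
    intro i
    fin_cases i
    · simp [ea]
    · simp
      linear_combination -eb
    · simp
  -- Q2
  obtain ⟨t2, ht2, hq2⟩ : ∃ t : A, IsUnit t ∧ r ![1, 1, 0] = t • ![c0, c1, 0] := by
    have ea := hdet ![1, 0, 0] ![0, 1, 0] ![1, 1, 0] (hne _ _ _ (by simp)) (hne _ _ _ (by simp))
      (hne _ _ _ (by simp)) (by rw [det3]; simp)
    have eb := hdet ![0, 0, 1] ![1, 1, 1] ![1, 1, 0] (hne _ _ _ (by simp)) (hne _ _ _ (by simp))
      (hne _ _ _ (by simp)) (by rw [det3]; simp)
    rw [h0, h1, det3] at ea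
    rw [h2, hc, det3] at eb
    simp at ea eb
    refine prop_of_minors _ _ 1 (by simpa using hc1) (hpt _ (hne _ _ _ (by simp))) ?_
    intro i
    fin_cases i
    · simp
      linear_combination -eb
    · simp
    · simp [ea]
  -- the chain
  have chain : ∀ n : ℕ, ∃ α : A, IsUnit α ∧
      r ![-(n : ZMod p), 0, 1] = α • ![-(n : A) * c0, 0, c2] := by
    intro n
    induction n with
    | zero =>
      obtain ⟨v, hv⟩ := hc2.exists_left_inv
      refine ⟨v, IsUnit.of_mul_eq_one c2 hv, ?_⟩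
      simp only [Nat.cast_zero, neg_zero, zero_mul]
      rw [h2]
      ext i
      fin_cases i <;> simp [hv]
    | succ n ih =>
      obtain ⟨α, hα, ha⟩ := ih
      -- b_n
      obtain ⟨β, hβ, hb⟩ : ∃ β : A, IsUnit β ∧
          r ![-(n : ZMod p), 1, 1] = β • ![-(n : A) * c0, c1, c2] := by
        have ea := hdet ![-(n : ZMod p), 0, 1] ![0, 1, 0] ![-(n : ZMod p), 1, 1]
          (hne _ _ _ (by simp)) (hne _ _ _ (by simp)) (hne _ _ _ (by simp)) (by rw [det3]; simp)
        have eb := hdet ![0, 1, 1] ![1, 0, 0] ![-(n : ZMod p), 1, 1]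
          (hne _ _ _ (by simp)) (hne _ _ _ (by simp)) (hne _ _ _ (by simp)) (by rw [det3]; simp)
        rw [ha, h1, det3] at ea
        rw [hq1, h0, det3] at eb
        simp at ea eb
        refine prop_of_minors _ _ 2 (by simpa using hc2) (hpt _ (hne _ _ _ (by simp))) ?_
        intro i
        fin_cases i
        · simp
          rw [← sub_eq_zero, ← hα.mul_right_eq_zero]
          linear_combination -ea
        · simp
          rw [← sub_eq_zero, ← ht1.mul_right_eq_zero]
          linear_combination eb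
        · simp
      -- a_{n+1}
      have ea := hdet ![-(n : ZMod p), 1, 1] ![1, 1, 0] ![-((n + 1 : ℕ) : ZMod p), 0, 1]
        (hne _ _ _ (by simp)) (hne _ _ _ (by simp)) (hne _ _ _ (by simp))
        (by rw [det3]; simp; ring)
      have eb := hdet ![1, 0, 0] ![0, 0, 1] ![-((n + 1 : ℕ) : ZMod p), 0, 1]
        (hne _ _ _ (by simp)) (hne _ _ _ (by simp)) (hne _ _ _ (by simp)) (by rw [det3]; simp)
      rw [hb, hq2, det3] at ea
      rw [h0, h2, det3] at eb
      simp at ea eb
      refine prop_of_minors _ _ 2 (by simpa using hc2) (hpt _ (hne _ _ _ (by simp))) ?_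
      intro i
      fin_cases i
      · simp
        rw [← sub_eq_zero, ← hβ.mul_right_eq_zero, ← ht2.mul_right_eq_zero,
          ← hc1.mul_right_eq_zero]
        linear_combination -ea + (β * t2 * c2 * c0) * eb
      · simp [eb]
      · simp
  obtain ⟨α, hα, ha⟩ := chain p
  have hp0 : ((p : ℕ) : ZMod p) = 0 := ZMod.natCast_self p
  rw [hp0, neg_zero, h2] at ha
  have e0 := congrFun ha 0
  simp at e0
  have e1 : α * ((p : A) * c0) = 0 := by first | exact e0 | exact e0.symm
  rw [hα.mul_right_eq_zero, hc0.mul_left_eq_zero] at e1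
  exact e1


/-- Let A be a local ring and ρ a map from the points of the projective plane over F_p to the points of
the projective plane over A (vectors with a unit coordinate, up to units) taking collinear triples
to collinear triples (three points are collinear when a vector with a unit coordinate is orthogonal
to all three). If ρ sends the standard frame (1:0:0), (0:1:0), (0:0:1), (1:1:1) to four points in
general position, then p = 0 in A. (The published statement asks only that ρ preserve collinearity;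
a constant map does so over any ring, and the published argument begins by moving the images of the
standard frame to the standard frame, which needs them in general position — that condition is made
a hypothesis here.) -/
theorem result
    (p : ℕ) [Fact p.Prime] (A : Type u) [CommRing A] [IsLocalRing A]
    (ρ : (Fin 3 → ZMod p) → (Fin 3 → A))
    (hpt : ∀ v : Fin 3 → ZMod p, v ≠ 0 → ∃ i, IsUnit (ρ v i))
    (hcol : ∀ u v w : Fin 3 → ZMod p, u ≠ 0 → v ≠ 0 → w ≠ 0 →
      Matrix.det (Matrix.of ![u, v, w]) = 0 →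
      ∃ n : Fin 3 → A, (∃ i, IsUnit (n i)) ∧
        dotProduct (ρ u) n = 0 ∧ dotProduct (ρ v) n = 0 ∧ dotProduct (ρ w) n = 0)
    (hgen : IsUnit (Matrix.det (Matrix.of ![ρ (Pi.single 0 1), ρ (Pi.single 1 1), ρ (Pi.single 2 1)])) ∧
      IsUnit (Matrix.det (Matrix.of ![ρ (Pi.single 0 1), ρ (Pi.single 1 1), ρ (fun _ => 1)])) ∧
      IsUnit (Matrix.det (Matrix.of ![ρ (Pi.single 0 1), ρ (Pi.single 2 1), ρ (fun _ => 1)])) ∧
      IsUnit (Matrix.det (Matrix.of ![ρ (Pi.single 1 1), ρ (Pi.single 2 1), ρ (fun _ => 1)]))) :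
    (p : A) = 0 := by

  classical
  obtain ⟨hg0, hg1, hg2, hg3⟩ := hgen
  have E0 : (Pi.single 0 1 : Fin 3 → ZMod p) = ![1, 0, 0] := by ext i; fin_cases i <;> simp
  have E1 : (Pi.single 1 1 : Fin 3 → ZMod p) = ![0, 1, 0] := by ext i; fin_cases i <;> simp
  have E2 : (Pi.single 2 1 : Fin 3 → ZMod p) = ![0, 0, 1] := by ext i; fin_cases i <;> simp
  have EE : (fun _ => 1 : Fin 3 → ZMod p) = ![1, 1, 1] := by ext i; fin_cases i <;> simp
  simp only [E0, E1, E2, EE] at hg0 hg1 hg2 hg3
  obtain ⟨M, hM⟩ : ∃ M : Matrix (Fin 3) (Fin 3) A,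
      M = Matrix.of ![ρ ![1, 0, 0], ρ ![0, 1, 0], ρ ![0, 0, 1]] := ⟨_, rfl⟩
  have hMu : IsUnit M.det := by rw [hM]; exact hg0
  have hMt : IsUnit (M.transpose).det := by rwa [Matrix.det_transpose]
  obtain ⟨T, hT⟩ : ∃ T : Matrix (Fin 3) (Fin 3) A, T = (M.transpose)⁻¹ := ⟨_, rfl⟩
  have hTM : T * M.transpose = 1 := by rw [hT]; exact Matrix.nonsing_inv_mul _ hMt
  have hMT : M.transpose * T = 1 := by rw [hT]; exact Matrix.mul_nonsing_inv _ hMt
  have hTu : IsUnit T.det := by
    have : T.det * (M.transpose).det = 1 := by rw [← Matrix.det_mul, hTM, Matrix.det_one]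
    exact IsUnit.of_mul_eq_one _ this
  have hrows : ∀ x y z : Fin 3 → A,
      Matrix.of ![T.mulVec x, T.mulVec y, T.mulVec z] = Matrix.of ![x, y, z] * T.transpose := by
    intro x y z
    ext i j
    fin_cases i <;> simp [Matrix.mul_apply, Matrix.mulVec, dotProduct, mul_comm]
  have hdetT : ∀ x y z : Fin 3 → A, Matrix.det (Matrix.of ![T.mulVec x, T.mulVec y, T.mulVec z]) =
      Matrix.det (Matrix.of ![x, y, z]) * T.det := by
    intro x y z
    rw [hrows, Matrix.det_mul, Matrix.det_transpose]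
  have h0 : T.mulVec (ρ ![1, 0, 0]) = ![1, 0, 0] := by
    have : ρ ![1, 0, 0] = M.transpose.mulVec ![1, 0, 0] := by
      ext j; simp [Matrix.mulVec, dotProduct, Fin.sum_univ_three, hM]
    rw [this, Matrix.mulVec_mulVec, hTM, Matrix.one_mulVec]
  have h1 : T.mulVec (ρ ![0, 1, 0]) = ![0, 1, 0] := by
    have : ρ ![0, 1, 0] = M.transpose.mulVec ![0, 1, 0] := by
      ext j; simp [Matrix.mulVec, dotProduct, Fin.sum_univ_three, hM]
    rw [this, Matrix.mulVec_mulVec, hTM, Matrix.one_mulVec]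
  have h2 : T.mulVec (ρ ![0, 0, 1]) = ![0, 0, 1] := by
    have : ρ ![0, 0, 1] = M.transpose.mulVec ![0, 0, 1] := by
      ext j; simp [Matrix.mulVec, dotProduct, Fin.sum_univ_three, hM]
    rw [this, Matrix.mulVec_mulVec, hTM, Matrix.one_mulVec]
  obtain ⟨c, hcdef⟩ : ∃ c : Fin 3 → A, c = T.mulVec (ρ ![1, 1, 1]) := ⟨_, rfl⟩
  have hc : T.mulVec (ρ ![1, 1, 1]) = ![c 0, c 1, c 2] := by
    rw [← hcdef]; ext i; fin_cases i <;> simp
  have hc2 : IsUnit (c 2) := by
    have := hg1.mul hTu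
    rw [← hdetT, h0, h1, hc, det3] at this
    simpa using this
  have hc1 : IsUnit (c 1) := by
    have := hg2.mul hTu
    rw [← hdetT, h0, h2, hc, det3] at this
    simpa using this
  have hc0 : IsUnit (c 0) := by
    have := hg3.mul hTu
    rw [← hdetT, h1, h2, hc, det3] at this
    simpa using this
  refine core p A (fun v => T.mulVec (ρ v)) ?_ ?_ h0 h1 h2 (c 0) (c 1) (c 2) hc hc0 hc1 hc2
  · intro v hv
    by_contra hcon
    push_neg at hcon
    obtain ⟨i, hi⟩ := hpt v hv
    have e : ρ v = M.transpose.mulVec (T.mulVec (ρ v)) := by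
      rw [Matrix.mulVec_mulVec, hMT, Matrix.one_mulVec]
    have hmem : ρ v i ∈ IsLocalRing.maximalIdeal A := by
      rw [e]
      simp only [Matrix.mulVec, dotProduct]
      refine Ideal.sum_mem _ (fun j _ => Ideal.mul_mem_left _ _ ?_)
      rw [IsLocalRing.mem_maximalIdeal, mem_nonunits_iff]
      exact hcon j
    exact (IsLocalRing.mem_maximalIdeal _).mp hmem hi
  · intro u v w hu hv hw hd
    obtain ⟨n, hn, hx, hy, hz⟩ := hcol u v w hu hv hw hd
    show Matrix.det (Matrix.of ![T.mulVec (ρ u), T.mulVec (ρ v), T.mulVec (ρ w)]) = 0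
    rw [hdetT, det_eq_zero_of_collinear _ _ _ n hn hx hy hz, zero_mul]

end Groth.Agent.S13149
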