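import Groth.Statements.S13151
import Mathlib

set_option autoImplicit false
universe u
open CAlg

namespace Groth.Agent.S13151

/-- Let A → B be an injective ring homomorphism of integral domains which is integral, with A integrally
closed, and let π be an element of A. Then the contraction to A of the ideal πB is πA, i.e. an
element of A which is a multiple of π in B is already a multiple of π in A; in particular if B/πB is
an integral domain then A/πA is an integral domain. (The published statement is for an integral
dominant morphism of integral schemes flat over a discrete valuation ring, with normal target and π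
a uniformizer; flatness and the valuation ring play no role, so π is an arbitrary element here.) -/
theorem result {A B : Type u} [CommRing A] [CommRing B]
    [IsDomain A] [IsDomain B] [IsIntegrallyClosed A] [Algebra A B] [Algebra.IsIntegral A B]
    (hinj : Function.Injective (algebraMap A B)) (π : A) :
    (Ideal.span {algebraMap A B π}).comap (algebraMap A B) = Ideal.span {π} ∧
      (IsDomain (B ⧸ Ideal.span {algebraMap A B π}) → IsDomain (A ⧸ Ideal.span {π})) := by
  have hcomap : (Ideal.span {algebraMap A B π}).comap (algebraMap A B) = Ideal.span {π} := by
    apply le_antisymm
    · intro a ha
      rw [Ideal.mem_comap, Ideal.mem_span_singleton] at ha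
      obtain ⟨b, hb⟩ := ha
      rw [Ideal.mem_span_singleton]
      by_cases hπ : π = 0
      · subst hπ
        rw [map_zero, zero_mul] at hb
        have : a = 0 := hinj (by rw [hb, map_zero])
        rw [this]
      · set K := FractionRing A
        set L := FractionRing B
        have hinjL : Function.Injective ((algebraMap B L).comp (algebraMap A B)) :=
          (IsFractionRing.injective B L).comp hinj
        let j : K →+* L := IsFractionRing.lift (g := (algebraMap B L).comp (algebraMap A B)) hinjL
        have hj : ∀ y : A, j (algebraMap A K y) = algebraMap B L (algebraMap A B y) := fun y =>
          IsFractionRing.lift_algebraMap hinjL y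
        have hπK : algebraMap A K π ≠ 0 := by
          intro h
          exact hπ (IsFractionRing.injective A K (by rw [h, map_zero]))
        set x : K := algebraMap A K a / algebraMap A K π
        have hjx : j x = algebraMap B L b := by
          have hπL : algebraMap B L (algebraMap A B π) ≠ 0 := by
            rw [← hj]
            exact fun h => hπK (j.injective (by rw [h, map_zero]))
          rw [map_div₀, hj, hj, hb, map_mul, mul_div_cancel_left₀ _ hπL]
        have hint : IsIntegral A x := by
          obtain ⟨p, hpm, hp⟩ := Algebra.IsIntegral.isIntegral (R := A) b
          refine ⟨p, hpm, ?_⟩
          apply j.injective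
          rw [Polynomial.hom_eval₂, map_zero, hjx]
          have : j.comp (algebraMap A K) = (algebraMap B L).comp (algebraMap A B) :=
            RingHom.ext hj
          rw [this, ← Polynomial.hom_eval₂, hp, map_zero]
        obtain ⟨a', ha'⟩ := IsIntegrallyClosed.isIntegral_iff.mp hint
        refine ⟨a', ?_⟩
        apply IsFractionRing.injective A K
        rw [map_mul, ha', mul_div_cancel₀ _ hπK]
    · rw [Ideal.span_le, Set.singleton_subset_iff]
      exact Ideal.subset_span rfl
  refine ⟨hcomap, fun hdom => ?_⟩
  have hle : Ideal.span {π} ≤ (Ideal.span {algebraMap A B π}).comap (algebraMap A B) := hcomap.ge
  exact Function.Injective.isDomain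
    (Ideal.quotientMap (Ideal.span {algebraMap A B π}) (algebraMap A B) hle)
    (Ideal.quotientMap_injective' hcomap.le)

end Groth.Agent.S13151
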