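import Groth.Statements.S13154
import Mathlib

set_option autoImplicit false
universe u
open scoped TensorProduct
open CAlg

namespace Groth.Agent.S13154

section
open TensorProduct
universe v
variable {R : Type v} [CommRing R] [IsDomain R] [IsDiscreteValuationRing R]
  {K : Type v} [Field K] [Algebra R K] [IsFractionRing R K]

lemma K_elem {ϖ : R} (hϖ : Irreducible ϖ) (x : K) :
    ∃ (n : ℕ) (r : R), (ϖ ^ n) • x = algebraMap R K r := by
  obtain ⟨a, s, hs, rfl⟩ := IsFractionRing.div_surjective (A := R) x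
  have hs0 : s ≠ 0 := nonZeroDivisors.ne_zero hs
  obtain ⟨n, u, rfl⟩ := IsDiscreteValuationRing.eq_unit_mul_pow_irreducible hs0 hϖ
  refine ⟨n, a * ↑u⁻¹, ?_⟩
  have hne : algebraMap R K (↑u * ϖ ^ n) ≠ 0 :=
    (map_ne_zero_iff _ (IsFractionRing.injective R K)).mpr hs0
  rw [Algebra.smul_def, mul_div_assoc', div_eq_iff hne, ← map_mul, ← map_mul]
  congr 1
  rw [mul_assoc a, ← mul_assoc (↑u⁻¹ : R), Units.inv_mul, one_mul, mul_comm]

lemma exists_pow_smul_eq_one_tmul {ϖ : R} (hϖ : Irreducible ϖ) {N : Type v} [AddCommGroup N]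
    [Module R N] (z : K ⊗[R] N) :
    ∃ (n : ℕ) (c : N), (ϖ ^ n) • z = (1 : K) ⊗ₜ[R] c := by
  induction z using TensorProduct.induction_on with
  | zero => exact ⟨0, 0, by simp⟩
  | tmul x m =>
    obtain ⟨n, r, h⟩ := K_elem hϖ x
    refine ⟨n, r • m, ?_⟩
    rw [smul_tmul', h, Algebra.algebraMap_eq_smul_one, smul_tmul]
  | add z₁ z₂ h₁ h₂ =>
    obtain ⟨n₁, c₁, e₁⟩ := h₁
    obtain ⟨n₂, c₂, e₂⟩ := h₂
    refine ⟨n₁ + n₂, ϖ ^ n₂ • c₁ + ϖ ^ n₁ • c₂, ?_⟩
    rw [smul_add, pow_add, mul_smul, mul_smul, smul_comm (ϖ ^ n₁) (ϖ ^ n₂) z₁, e₁, e₂, tmul_add,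
      tmul_smul, tmul_smul]

variable {A : Type v} [CommRing A] [Algebra R A] [Module.FaithfullyFlat R A]
  {B₁ : Type v} [CommRing B₁] [Algebra R B₁] [Module.Flat R B₁]

lemma jA_injective : Function.Injective
    (Algebra.TensorProduct.map (Algebra.TensorProduct.includeRight : A →ₐ[R] K ⊗[R] A)
      (AlgHom.id R B₁)) := by
  have : FaithfulSMul R K :=
    (faithfulSMul_iff_algebraMap_injective R K).mpr (IsFractionRing.injective R K)
  have h1 : Function.Injective (TensorProduct.mk R K A 1) :=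
    Module.Flat.tensorProduct_mk_injective R A K
  have h2 := Module.Flat.rTensor_preserves_injective_linearMap (M := B₁) _ h1
  have e : ⇑(Algebra.TensorProduct.map (Algebra.TensorProduct.includeRight : A →ₐ[R] K ⊗[R] A)
      (AlgHom.id R B₁)) = ⇑((TensorProduct.mk R K A 1).rTensor B₁) := by
    funext z
    induction z using TensorProduct.induction_on with
    | zero => simp
    | tmul a b => rfl
    | add x y hx hy => rw [map_add, map_add, hx, hy]
  rw [e]; exact h2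

omit [IsDomain R] [IsDiscreteValuationRing R] in
lemma exists_eq_pow_smul_of_tmul {ϖ : R} (n : ℕ) {N : Type v} [AddCommGroup N] [Module R N]
    (c : N) (y : A ⊗[R] N) (h : (ϖ ^ n) • y = (1 : A) ⊗ₜ[R] c) : ∃ c' : N, c = (ϖ ^ n) • c' := by
  have hkill : ∀ w : A ⊗[R] (N ⧸ LinearMap.range ((ϖ ^ n) • (LinearMap.id : N →ₗ[R] N))),
      (ϖ ^ n) • w = 0 := by
    intro w
    induction w using TensorProduct.induction_on with
    | zero => simp
    | tmul a q =>
      obtain ⟨m, rfl⟩ := Submodule.Quotient.mk_surjective _ q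
      have hmem : ϖ ^ n • m ∈ LinearMap.range ((ϖ ^ n) • (LinearMap.id : N →ₗ[R] N)) :=
        ⟨m, rfl⟩
      rw [← tmul_smul, ← Submodule.Quotient.mk_smul,
        (Submodule.Quotient.mk_eq_zero _).mpr hmem, tmul_zero]
    | add x y hx hy => rw [smul_add, hx, hy, add_zero]
  have h1 : (1 : A) ⊗ₜ[R]
      ((LinearMap.range ((ϖ ^ n) • (LinearMap.id : N →ₗ[R] N))).mkQ c) = 0 := by
    have := congrArg ((LinearMap.range ((ϖ ^ n) • (LinearMap.id : N →ₗ[R] N))).mkQ.lTensor A) h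
    rw [map_smul, hkill, LinearMap.lTensor_tmul] at this
    exact this.symm
  have h2 : (LinearMap.range ((ϖ ^ n) • (LinearMap.id : N →ₗ[R] N))).mkQ c = 0 :=
    Module.FaithfullyFlat.tensorProduct_mk_injective (A := R) (B := A) _
      (by rw [TensorProduct.mk_apply, h1, map_zero])
  rw [Submodule.mkQ_apply, Submodule.Quotient.mk_eq_zero] at h2
  obtain ⟨c', hc'⟩ := h2
  exact ⟨c', hc'.symm⟩

theorem exists_common {ϖ : R} (hϖ : Irreducible ϖ) (x : K ⊗[R] B₁) (y : A ⊗[R] B₁)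
    (hxy : Algebra.TensorProduct.map (Algebra.TensorProduct.includeLeft : K →ₐ[R] K ⊗[R] A)
        (AlgHom.id R B₁) x =
      Algebra.TensorProduct.map (Algebra.TensorProduct.includeRight : A →ₐ[R] K ⊗[R] A)
        (AlgHom.id R B₁) y) :
    ∃ c' : B₁, x = (1 : K) ⊗ₜ[R] c' ∧ y = (1 : A) ⊗ₜ[R] c' := by
  have : Module.Flat R K := IsLocalization.flat K (nonZeroDivisors R)
  obtain ⟨n, c, hc⟩ := exists_pow_smul_eq_one_tmul hϖ x
  have h1 : (ϖ ^ n) • y = (1 : A) ⊗ₜ[R] c := by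
    apply jA_injective (K := K)
    rw [map_smul, ← hxy, ← map_smul, hc]
    rfl
  obtain ⟨c', rfl⟩ := exists_eq_pow_smul_of_tmul n c y h1
  have hreg : ϖ ^ n ∈ nonZeroDivisors R :=
    mem_nonZeroDivisors_of_ne_zero (pow_ne_zero n hϖ.ne_zero)
  refine ⟨c', ?_, ?_⟩
  · have := Module.Flat.isSMulRegular_of_nonZeroDivisors (M := K ⊗[R] B₁) hreg
    apply this
    show (ϖ ^ n) • x = (ϖ ^ n) • ((1 : K) ⊗ₜ[R] c')
    rw [hc, tmul_smul]
  · have := Module.Flat.isSMulRegular_of_nonZeroDivisors (M := A ⊗[R] B₁) hreg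
    apply this
    show (ϖ ^ n) • y = (ϖ ^ n) • ((1 : A) ⊗ₜ[R] c')
    rw [h1, tmul_smul]

omit [IsDomain R] [IsDiscreteValuationRing R] [IsFractionRing R K] in
lemma one_tmul_algebraMap (B : Type v) [CommRing B] [Algebra R B] (r : R) :
    (1 : K) ⊗ₜ[R] (algebraMap R B r) = algebraMap K (K ⊗[R] B) (algebraMap R K r) := by
  rw [Algebra.TensorProduct.algebraMap_apply, Algebra.algebraMap_self_apply,
    Algebra.algebraMap_eq_smul_one r, Algebra.algebraMap_eq_smul_one r, smul_tmul]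

theorem main {B₂ : Type v} [CommRing B₂] [Algebra R B₂]
    (φK : K ⊗[R] B₂ →ₐ[K] K ⊗[R] B₁) (φA : A ⊗[R] B₂ →ₐ[A] A ⊗[R] B₁)
    (hcomp : ∀ b : B₂,
      Algebra.TensorProduct.map (Algebra.TensorProduct.includeLeft : K →ₐ[R] K ⊗[R] A)
          (AlgHom.id R B₁) (φK (1 ⊗ₜ b)) =
        Algebra.TensorProduct.map (Algebra.TensorProduct.includeRight : A →ₐ[R] K ⊗[R] A)
          (AlgHom.id R B₁) (φA (1 ⊗ₜ b))) :
    ∃! φ : B₂ →ₐ[R] B₁, (∀ b : B₂, φK (1 ⊗ₜ b) = 1 ⊗ₜ φ b) ∧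
      (∀ b : B₂, φA (1 ⊗ₜ b) = 1 ⊗ₜ φ b) := by
  obtain ⟨ϖ, hϖ⟩ := IsDiscreteValuationRing.exists_irreducible R
  have : Module.Flat R K := IsLocalization.flat K (nonZeroDivisors R)
  have : FaithfulSMul R K :=
    (faithfulSMul_iff_algebraMap_injective R K).mpr (IsFractionRing.injective R K)
  have hι : Function.Injective (TensorProduct.mk R K B₁ 1) :=
    Module.Flat.tensorProduct_mk_injective R B₁ K
  choose f hfK hfA using fun b : B₂ =>
    exists_common hϖ (φK (1 ⊗ₜ b)) (φA (1 ⊗ₜ b)) (hcomp b)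
  have hι' : ∀ c c' : B₁, (1 : K) ⊗ₜ[R] c = 1 ⊗ₜ c' → c = c' := fun c c' h => hι h
  have emul : ∀ (B : Type v) [CommRing B] [Algebra R B] (b b' : B),
      (1 : K) ⊗ₜ[R] (b * b') = (1 ⊗ₜ b) * (1 ⊗ₜ b') := fun B _ _ b b' => by
    rw [Algebra.TensorProduct.tmul_mul_tmul, mul_one]
  let φ : B₂ →ₐ[R] B₁ :=
    { toFun := f
      map_one' := hι' _ _ (by
        rw [← hfK, ← Algebra.TensorProduct.one_def, map_one, Algebra.TensorProduct.one_def])
      map_mul' := fun b b' => hι' _ _ (by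
        rw [← hfK, emul, map_mul, hfK, hfK, ← emul])
      map_zero' := hι' _ _ (by rw [← hfK, tmul_zero, map_zero, tmul_zero])
      map_add' := fun b b' => hι' _ _ (by rw [← hfK, tmul_add, map_add, hfK, hfK, tmul_add])
      commutes' := fun r => hι' _ _ (by
        rw [← hfK, one_tmul_algebraMap, AlgHom.commutes, ← one_tmul_algebraMap]) }
  refine ⟨φ, ⟨hfK, hfA⟩, ?_⟩
  rintro φ' ⟨h1, _⟩
  apply AlgHom.ext
  intro b
  exact hι' _ _ (by rw [← h1 b, hfK b]; rfl)

end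

/-- Let R be a discrete valuation ring with fraction field K, A a faithfully flat R-algebra (an affine
faithfully flat base change S' → S = Spec R) and B₁, B₂ flat R-algebras (two affine S-schemes X₁ =
Spec B₁, X₂ = Spec B₂, flat over S). Suppose given a K-algebra homomorphism φ_K : K ⊗ B₂ → K ⊗ B₁ (a
morphism of the generic fibres X₁,K → X₂,K) and an A-algebra homomorphism φ_A : A ⊗ B₂ → A ⊗ B₁ (a
morphism X₁ ×_S S' → X₂ ×_S S' over S') which coincide after base change to K ⊗ A, in the sense that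
for every b ∈ B₂ the images of φ_K(1 ⊗ b) and φ_A(1 ⊗ b) in (K ⊗ A) ⊗ B₁ agree. Then there is
exactly one R-algebra homomorphism φ : B₂ → B₁ (a morphism X₁ → X₂) whose base changes to K and to A
are φ_K and φ_A. (The published statement assumes only X₂ flat over S; flatness of X₁ is also
needed: with B₂ = R[t], B₁ = R[e]/(e², πe) for a uniformizer π and A = R[x], the maps t ↦ 0 over K
and t ↦ e x over A agree over K ⊗ A = K[x] but come from no map over R.) -/
theorem result (R : Type u) [CommRing R] [IsDomain R]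
    [IsDiscreteValuationRing R] (K : Type u) [Field K] [Algebra R K] [IsFractionRing R K]
    (A : Type u) [CommRing A] [Algebra R A] [Module.FaithfullyFlat R A]
    (B₁ B₂ : Type u) [CommRing B₁] [CommRing B₂] [Algebra R B₁] [Algebra R B₂]
    [Module.Flat R B₁] [Module.Flat R B₂]
    (φK : K ⊗[R] B₂ →ₐ[K] K ⊗[R] B₁) (φA : A ⊗[R] B₂ →ₐ[A] A ⊗[R] B₁)
    (hcomp : ∀ b : B₂,
      Algebra.TensorProduct.map (Algebra.TensorProduct.includeLeft : K →ₐ[R] K ⊗[R] A) (AlgHom.id R B₁)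
          (φK (1 ⊗ₜ b)) =
        Algebra.TensorProduct.map (Algebra.TensorProduct.includeRight : A →ₐ[R] K ⊗[R] A) (AlgHom.id R B₁)
          (φA (1 ⊗ₜ b))) :
    ∃! φ : B₂ →ₐ[R] B₁, (∀ b : B₂, φK (1 ⊗ₜ b) = 1 ⊗ₜ φ b) ∧ (∀ b : B₂, φA (1 ⊗ₜ b) = 1 ⊗ₜ φ b) := by
  exact main φK φA hcomp

end Groth.Agent.S13154
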