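import Groth.Statements.S13162
import Mathlib

set_option autoImplicit false
universe u v
open ZeroCyc

namespace Groth.Agent.S13162

/-- Let a finite group G act on a commutative ring A by ring automorphisms and let p be a prime such
that every integer prime to p is a unit in A. If I is an ideal of A and f ∈ A has G-invariant class
modulo I, then f^(p^k) is congruent modulo I to a G-invariant element of A, where p^k is the exact
power of p dividing the order of G. (The published statement assumes I stable under G, so that G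
acts on A/I and the claim reads: the p^k-th power of an invariant of A/I lies in the image of the
invariants of A; the form here asks only that the class of f be invariant.) -/
theorem result {A : Type u} [CommRing A] {G : Type v} [Group G] [Fintype G]
    [MulSemiringAction G A] (p : ℕ) [Fact p.Prime]
    (hA : ∀ m : ℕ, ¬ p ∣ m → IsUnit (m : A))
    (I : Ideal A) (f : A) (hf : ∀ g : G, g • f - f ∈ I) :
    ∃ a : A, (∀ g : G, g • a = a) ∧ a - f ^ (p ^ (Fintype.card G).factorization p) ∈ I := by
  classical
  obtain ⟨P⟩ : Nonempty (Sylow p G) := inferInstance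
  set k := (Fintype.card G).factorization p with hk
  have hcardP : Fintype.card (P : Subgroup G) = p ^ k := by
    rw [← Nat.card_eq_fintype_card, P.card_eq_multiplicity, Nat.card_eq_fintype_card]
  set Nf : A := ∏ h : (P : Subgroup G), (h : G) • f with hNf
  have hgN : ∀ g : G, g • Nf = ∏ h : (P : Subgroup G), (g * (h : G)) • f := by
    intro g
    rw [hNf, Finset.smul_prod']
    simp only [mul_smul]
  have hprod : ∀ g : G, g • Nf - f ^ (p ^ k) ∈ I := by
    intro g
    rw [hgN, ← Ideal.Quotient.eq, map_prod, map_pow]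
    rw [Finset.prod_eq_pow_card (b := Ideal.Quotient.mk I f)
      (fun (h : (P : Subgroup G)) _ => Ideal.Quotient.eq.mpr (hf (g * (h : G)))),
      Finset.card_univ, hcardP]
  have hPinv : ∀ h₀ : G, h₀ ∈ (P : Subgroup G) → h₀ • Nf = Nf := by
    intro h₀ hh₀
    rw [hgN]
    exact Fintype.prod_equiv (Equiv.mulLeft (⟨h₀, hh₀⟩ : (P : Subgroup G))) _ _ (fun h => rfl)
  have hcoset : ∀ x y : G, x⁻¹ * y ∈ (P : Subgroup G) → y • Nf = x • Nf := by
    intro x y hxy
    have h1 : y = x * (x⁻¹ * y) := by group
    rw [h1, mul_smul, hPinv _ hxy]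
  set a' : A := ∑ q : G ⧸ (P : Subgroup G), (Quotient.out q : G) • Nf with ha'
  have ha'inv : ∀ g : G, g • a' = a' := by
    intro g
    rw [ha', Finset.smul_sum]
    simp only [← mul_smul]
    conv_rhs =>
      rw [← Equiv.sum_comp (MulAction.toPerm g : Equiv.Perm (G ⧸ (P : Subgroup G)))
        (fun q => (Quotient.out q : G) • Nf)]
    refine Finset.sum_congr rfl fun q _ => ?_
    apply hcoset
    rw [← QuotientGroup.eq, MulAction.toPerm_apply, QuotientGroup.out_eq']
    conv_lhs => rw [← QuotientGroup.out_eq' q]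
    rfl
  set m := Fintype.card (G ⧸ (P : Subgroup G)) with hm
  have hmp : ¬ p ∣ m := by
    have := P.not_dvd_index
    rwa [Subgroup.index_eq_card, Nat.card_eq_fintype_card] at this
  obtain ⟨u, hu⟩ := hA m hmp
  have hgm : ∀ g : G, g • (m : A) = m := by
    intro g
    have h6 := map_natCast (MulSemiringAction.toRingHom G A g) m
    rwa [MulSemiringAction.toRingHom_apply] at h6
  have hguinv : ∀ g : G, g • ((u⁻¹ : Aˣ) : A) = ((u⁻¹ : Aˣ) : A) := by
    intro g
    apply Units.eq_inv_of_mul_eq_one_left
    have h2 : g • (((u⁻¹ : Aˣ) : A) * (u : A)) = 1 := by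
      rw [Units.inv_mul, smul_one]
    rw [smul_mul', hu, hgm, mul_comm] at h2
    rw [hu]
    exact h2
  refine ⟨((u⁻¹ : Aˣ) : A) * a', fun g => ?_, ?_⟩
  · rw [smul_mul', hguinv, ha'inv]
  · have h3 : a' - (m : A) * f ^ (p ^ k) ∈ I := by
      have h4 : (m : A) * f ^ (p ^ k) = ∑ _q : G ⧸ (P : Subgroup G), f ^ (p ^ k) := by
        rw [Finset.sum_const, Finset.card_univ, nsmul_eq_mul]
      rw [h4, ha', ← Finset.sum_sub_distrib]
      exact I.sum_mem fun q _ => hprod _
    have h5 : ((u⁻¹ : Aˣ) : A) * a' - f ^ (p ^ k) =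
        ((u⁻¹ : Aˣ) : A) * (a' - (m : A) * f ^ (p ^ k)) := by
      rw [mul_sub, ← mul_assoc, ← hu, Units.inv_mul, one_mul]
    rw [h5]
    exact I.mul_mem_left _ h3

end Groth.Agent.S13162
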