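import Groth.Statements.S13175
import Mathlib

set_option autoImplicit false
universe u v w
open scoped TensorProduct
open ZeroCyc

namespace Groth.Agent.S13175

theorem rTensor_eq_map {A : Type u} [CommRing A] {P S : Type u} [CommRing P] [Algebra A P]
    [CommRing S] [Algebra A S] (ψ : P →ₐ[A] S) (D : Type w) [CommRing D]
    [Algebra A D] (z : P ⊗[A] D) :
    ψ.toLinearMap.rTensor D z = Algebra.TensorProduct.map ψ (AlgHom.id A D) z := by
  induction z using TensorProduct.induction_on with
  | zero => simp
  | tmul a b => simp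
  | add a b ha hb => rw [map_add, map_add, ha, hb]

/-- Let B and C be A-algebras and F : B → C a polynomial law. If the maps F over the polynomial rings
A[t_1, …, t_n], n ≥ 0, are multiplicative (send 1 to 1 and products to products), then F is a
multiplicative law: F sends 1 to 1 and products to products over every A-algebra. -/
theorem result {A : Type u} [CommRing A] {B : Type v} [CommRing B] [Algebra A B] {C : Type w} [CommRing C] [Algebra A C]
    (F : B →ₚₗ[A] C)
    (h1 : ∀ n : ℕ, F.toFun' (MvPolynomial (Fin n) A) 1 = 1)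
    (hmul : ∀ (n : ℕ) (x y : MvPolynomial (Fin n) A ⊗[A] B),
      F.toFun' (MvPolynomial (Fin n) A) (x * y) = F.toFun' (MvPolynomial (Fin n) A) x * F.toFun' (MvPolynomial (Fin n) A) y) :
    ∀ (S : Type u) [CommRing S] [Algebra A S], F.toFun' S 1 = 1 ∧
      ∀ x y : S ⊗[A] B, F.toFun' S (x * y) = F.toFun' S x * F.toFun' S y := by
  intro S _ _
  constructor
  · let ψ₀ : MvPolynomial (Fin 0) A →ₐ[A] S := MvPolynomial.aeval (fun i => i.elim0)
    have h := PolynomialLaw.isCompat_apply' (f := F) ψ₀ (1 : MvPolynomial (Fin 0) A ⊗[A] B)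
    rw [h1 0, rTensor_eq_map, rTensor_eq_map, map_one, map_one] at h
    exact h.symm
  · intro x y
    set t : S ⊗[A] (B × B) := LinearMap.lTensor S (LinearMap.inl A B B) x +
      LinearMap.lTensor S (LinearMap.inr A B B) y with ht
    obtain ⟨n, ψ, p, hp⟩ := PolynomialLaw.exists_lift t
    set x' := LinearMap.lTensor (MvPolynomial (Fin n) A) (LinearMap.fst A B B) p with hx'
    set y' := LinearMap.lTensor (MvPolynomial (Fin n) A) (LinearMap.snd A B B) p with hy'
    have hxx : ψ.toLinearMap.rTensor B x' = x := by
      rw [hx', ← LinearMap.comp_apply, LinearMap.rTensor_comp_lTensor, ← LinearMap.lTensor_comp_rTensor,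
        LinearMap.comp_apply, hp, ht, map_add, ← LinearMap.comp_apply, ← LinearMap.comp_apply,
        ← LinearMap.lTensor_comp, ← LinearMap.lTensor_comp]
      simp
    have hyy : ψ.toLinearMap.rTensor B y' = y := by
      rw [hy', ← LinearMap.comp_apply, LinearMap.rTensor_comp_lTensor, ← LinearMap.lTensor_comp_rTensor,
        LinearMap.comp_apply, hp, ht, map_add, ← LinearMap.comp_apply, ← LinearMap.comp_apply,
        ← LinearMap.lTensor_comp, ← LinearMap.lTensor_comp]
      simp
    have hxy : ψ.toLinearMap.rTensor B (x' * y') = x * y := by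
      rw [rTensor_eq_map, map_mul, ← rTensor_eq_map, ← rTensor_eq_map, hxx, hyy]
    rw [← hxy, ← PolynomialLaw.isCompat_apply', hmul, rTensor_eq_map, map_mul, ← rTensor_eq_map, ← rTensor_eq_map,
      PolynomialLaw.isCompat_apply', PolynomialLaw.isCompat_apply', hxx, hyy]

end Groth.Agent.S13175
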