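import Groth.Statements.S13176
import Mathlib
import Groth.Agent.Lib.QuotPts1_helper8
import Groth.Agent.Lib.UnivHomeo1_helper6
import Groth.Agent.S13596

set_option autoImplicit false
universe u
open CategoryTheory CategoryTheory.Limits AlgebraicGeometry
open ZeroCyc

namespace Groth.Agent.S13176

/-- Let a finite group G act on a scheme X over S through ρ, let q : X → Y be a quotient of X by G over
S (affine, G-invariant, O_Y = the G-invariant sections of O_X), let S' → S be any morphism and X' =
X ×_S S' with the induced action ρ', and let r : X' → Y' be a quotient of X' by G. Then the morphism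
Y' → Y ×_S S' through which the canonical map X' → Y ×_S S' factors via r is a universal
homeomorphism. (The published statement assumes every G-orbit lies in an affine open, which is what
makes the quotients exist; here the two quotients are hypotheses.) -/
theorem result {X Y S S' Y' : Scheme.{u}} {G : Type u} [Group G] [Finite G]
    (ρ : G →* Aut X) (f : X ⟶ S) (hρ : ∀ σ : G, (ρ σ).hom ≫ f = f)
    (q : X ⟶ Y) (h : Y ⟶ S) (hq : q ≫ h = f) (hquot : SGA1.IsQuot ρ q)
    (g : S' ⟶ S)
    (ρ' : G →* Aut (pullback f g))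
    (hρ' : ∀ σ : G, (ρ' σ).hom ≫ pullback.fst f g = pullback.fst f g ≫ (ρ σ).hom ∧
      (ρ' σ).hom ≫ pullback.snd f g = pullback.snd f g)
    (r : pullback f g ⟶ Y') (hr : SGA1.IsQuot ρ' r)
    (m : Y' ⟶ pullback h g)
    (hm : r ≫ m = pullback.map f g h g q (𝟙 S') (𝟙 S)
      ((Category.comp_id f).trans hq.symm) ((Category.comp_id g).trans (Category.id_comp g).symm)) :
    FlatMor.IsUnivHomeo m := by
  have hqint : IsIntegralHom q := Groth.Agent.S13596.result ρ q hquot
  have hqS : Surjective q := ⟨(Groth.Agent.S2908.result ρ q hquot).1⟩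
  have hrS : Surjective r := ⟨(Groth.Agent.S2908.result ρ' r hr).1⟩
  have hq'S : Surjective (r ≫ m) := by
    rw [hm]
    exact MorphismProperty.pullbackMap (P := @Surjective) hqS
      (inferInstance : Surjective (𝟙 S')) hq.symm (Category.id_comp g).symm
  have hq'UC : UniversallyClosed (r ≫ m) := by
    rw [hm]
    exact MorphismProperty.pullbackMap (P := @UniversallyClosed)
      (inferInstance : UniversallyClosed q)
      (inferInstance : UniversallyClosed (𝟙 S')) hq.symm (Category.id_comp g).symm
  have hmUC : UniversallyClosed m := UniversallyClosed.of_comp_surjective r m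
  have hmS : Surjective m := Surjective.of_comp r m
  have hfst : r ≫ m ≫ pullback.fst h g = pullback.fst f g ≫ q := by
    rw [← Category.assoc, hm]
    exact pullback.lift_fst _ _ _
  have hsnd : r ≫ m ≫ pullback.snd h g = pullback.snd f g := by
    rw [← Category.assoc, hm]
    exact (pullback.lift_snd _ _ _).trans (Category.comp_id _)
  have hmUI : UniversallyInjective m := by
    refine ((tfae_universallyInjective m).out 0 3).mpr ?_
    have hRS : Surjective (pullback.map (r ≫ m) (r ≫ m) m m r r (𝟙 _)
        ((Category.comp_id _).trans rfl) ((Category.comp_id _).trans rfl)) :=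
      MorphismProperty.pullbackMap (P := @Surjective) hrS hrS rfl rfl
    refine ⟨fun w => ?_⟩
    obtain ⟨z, rfl⟩ := hRS.surj w
    obtain ⟨ζ, hζ0⟩ : ∃ ζ : Spec (CommRingCat.of (IsLocalRing.ResidueField
        ((pullback (r ≫ m) (r ≫ m)).presheaf.stalk z))) ⟶ pullback (r ≫ m) (r ≫ m),
      ζ = (pullback (r ≫ m) (r ≫ m)).fromSpecResidueField z := ⟨_, rfl⟩
    have hζpt : ζ.base (IsLocalRing.closedPoint _) = z := by
      rw [hζ0]; exact Scheme.fromSpecResidueField_apply _ _
    have hcond : (ζ ≫ pullback.fst _ _) ≫ r ≫ m = (ζ ≫ pullback.snd _ _) ≫ r ≫ m := by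
      rw [Category.assoc, Category.assoc, pullback.condition]
    have h1 : ((ζ ≫ pullback.fst _ _) ≫ pullback.fst f g) ≫ q =
        ((ζ ≫ pullback.snd _ _) ≫ pullback.fst f g) ≫ q := by
      have := congrArg (· ≫ pullback.fst h g) hcond
      simpa only [Category.assoc, hfst] using this
    have h2 : (ζ ≫ pullback.fst _ _) ≫ pullback.snd f g =
        (ζ ≫ pullback.snd _ _) ≫ pullback.snd f g := by
      have := congrArg (· ≫ pullback.snd h g) hcond
      simpa only [Category.assoc, hsnd] using this
    obtain ⟨g₁, hg₁⟩ := IsQuotH8.exists_eq_comp_of_comp_eq ρ q hquot _ _ _ h1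
    have hba : ζ ≫ pullback.snd _ _ = (ζ ≫ pullback.fst _ _) ≫ (ρ' g₁).hom := by
      apply pullback.hom_ext
      · rw [hg₁, Category.assoc _ (ρ' g₁).hom, (hρ' g₁).1, ← Category.assoc]
      · rw [Category.assoc _ (ρ' g₁).hom, (hρ' g₁).2, h2]
    have hlift : 𝟙 _ ≫ r ≫ m = (ρ' g₁).hom ≫ r ≫ m := by
      rw [Category.id_comp, ← Category.assoc, hr.inv g₁]
    have hζ : ζ = (ζ ≫ pullback.fst _ _) ≫ pullback.lift (𝟙 _) (ρ' g₁).hom hlift := by
      apply pullback.hom_ext
      · rw [Category.assoc, pullback.lift_fst, Category.comp_id]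
      · rw [Category.assoc, pullback.lift_snd, ← hba]
    have hLR : pullback.lift (𝟙 _) (ρ' g₁).hom hlift ≫
        pullback.map (r ≫ m) (r ≫ m) m m r r (𝟙 _)
          ((Category.comp_id _).trans rfl) ((Category.comp_id _).trans rfl) =
        r ≫ pullback.diagonal m := by
      apply pullback.hom_ext
      · simp only [Category.assoc, pullback.diagonal_fst, Category.comp_id]
        rw [show pullback.map (r ≫ m) (r ≫ m) m m r r (𝟙 _)
          ((Category.comp_id _).trans rfl) ((Category.comp_id _).trans rfl) ≫ pullback.fst m m =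
          pullback.fst _ _ ≫ r from pullback.lift_fst _ _ _, ← Category.assoc, pullback.lift_fst,
          Category.id_comp]
      · simp only [Category.assoc, pullback.diagonal_snd, Category.comp_id]
        rw [show pullback.map (r ≫ m) (r ≫ m) m m r r (𝟙 _)
          ((Category.comp_id _).trans rfl) ((Category.comp_id _).trans rfl) ≫ pullback.snd m m =
          pullback.snd _ _ ≫ r from pullback.lift_snd _ _ _, ← Category.assoc, pullback.lift_snd,
          hr.inv g₁]
    have hcomp : ζ ≫
        pullback.map (r ≫ m) (r ≫ m) m m r r (𝟙 _)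
          ((Category.comp_id _).trans rfl) ((Category.comp_id _).trans rfl) =
        ((ζ ≫ pullback.fst _ _) ≫ r) ≫ pullback.diagonal m := by
      calc ζ ≫ pullback.map (r ≫ m) (r ≫ m) m m r r (𝟙 _)
            ((Category.comp_id _).trans rfl) ((Category.comp_id _).trans rfl)
          = ((ζ ≫ pullback.fst _ _) ≫ pullback.lift (𝟙 _) (ρ' g₁).hom hlift) ≫
            pullback.map (r ≫ m) (r ≫ m) m m r r (𝟙 _)
            ((Category.comp_id _).trans rfl) ((Category.comp_id _).trans rfl) := by rw [← hζ]
        _ = (ζ ≫ pullback.fst _ _) ≫ (pullback.lift (𝟙 _) (ρ' g₁).hom hlift ≫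
            pullback.map (r ≫ m) (r ≫ m) m m r r (𝟙 _)
            ((Category.comp_id _).trans rfl) ((Category.comp_id _).trans rfl)) :=
          Category.assoc _ _ _
        _ = (ζ ≫ pullback.fst _ _) ≫ (r ≫ pullback.diagonal m) := by rw [hLR]
        _ = _ := (Category.assoc _ _ _).symm
    refine ⟨((ζ ≫ pullback.fst _ _) ≫ r).base (IsLocalRing.closedPoint _), ?_⟩
    calc (pullback.diagonal m).base (((ζ ≫ pullback.fst _ _) ≫ r).base (IsLocalRing.closedPoint _))
        = (((ζ ≫ pullback.fst _ _) ≫ r) ≫ pullback.diagonal m).base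
            (IsLocalRing.closedPoint _) := rfl
      _ = (ζ ≫
        pullback.map (r ≫ m) (r ≫ m) m m r r (𝟙 _)
          ((Category.comp_id _).trans rfl) ((Category.comp_id _).trans rfl)).base
            (IsLocalRing.closedPoint _) := by rw [hcomp]
      _ = (pullback.map (r ≫ m) (r ≫ m) m m r r (𝟙 _)
          ((Category.comp_id _).trans rfl) ((Category.comp_id _).trans rfl)).base
          (ζ.base (IsLocalRing.closedPoint _)) := rfl
      _ = _ := by rw [hζpt]
  exact (Groth.Agent.Lib.UnivHomeo.isUnivHomeo_iff m).mpr ⟨hmUC, hmUI, hmS⟩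

end Groth.Agent.S13176
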