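import Groth.Statements.S13177
import Mathlib
import Groth.Agent.Lib.QuotRad2_helper8
import Groth.Agent.Lib.UnivHomeo1_helper6
import Groth.Agent.S13596

set_option autoImplicit false
universe u
open CategoryTheory CategoryTheory.Limits AlgebraicGeometry
open ZeroCyc

namespace Groth.Agent.S13177

/-- Let a finite group G act on a scheme X with quotient q : X → Y (affine, G-invariant, O_Y = the
invariant sections), let i : Z → X be a G-stable closed subscheme with the induced action and r : Z
→ W a quotient of Z by G, and let q(Z) be the scheme-theoretic image of Z in Y. Then the morphism W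
→ q(Z) through which Z → q(Z) factors via r is a schematically dominant universal homeomorphism.
(The published statement assumes the quotient of X exists; here both quotients are hypotheses.) -/
theorem result {X Y Z W : Scheme.{u}} {G : Type u} [Group G] [Finite G]
    (ρ : G →* Aut X) (q : X ⟶ Y) (hquot : SGA1.IsQuot ρ q)
    (i : Z ⟶ X) [IsClosedImmersion i] (ρZ : G →* Aut Z) (hρZ : ∀ σ : G, (ρZ σ).hom ≫ i = i ≫ (ρ σ).hom)
    (r : Z ⟶ W) (hr : SGA1.IsQuot ρZ r)
    (m : W ⟶ (i ≫ q).ker.subscheme) (hm : r ≫ m ≫ (i ≫ q).ker.subschemeι = i ≫ q) :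
    FlatMor.IsUnivHomeo m ∧ IsSchemeTheoreticallyDominant m := by
  have hqint : IsIntegralHom q := Groth.Agent.S13596.result ρ q hquot
  have hqaff : IsAffineHom q := hquot.affine
  have hrsurj : Function.Surjective r.base := (Groth.Agent.S2908.result ρZ r hr).1
  have hφ : r ≫ (m ≫ (i ≫ q).ker.subschemeι) = i ≫ q := hm
  have hUI : UniversallyInjective (m ≫ (i ≫ q).ker.subschemeι) :=
    IsQuotH8.universallyInjective_of_immersion ρ q hquot i ρZ hρZ r hr _ hφ
  have hUIm : UniversallyInjective m := by
    have hpc : MorphismProperty.HasOfPostcompProperty @UniversallyInjective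
        (MorphismProperty.monomorphisms Scheme.{u}) :=
      MorphismProperty.hasOfPostcompProperty_iff_le_diagonal.mpr fun _ _ f hf ↦ by
        have : Mono f := hf
        show UniversallyInjective (pullback.diagonal f)
        infer_instance
    exact MorphismProperty.of_postcomp (W := @UniversallyInjective)
      (W' := MorphismProperty.monomorphisms Scheme.{u}) m (i ≫ q).ker.subschemeι
      (MorphismProperty.monomorphisms.infer_property _) hUI
  have hrS : Surjective r := ⟨hrsurj⟩
  have hUC : UniversallyClosed (m ≫ (i ≫ q).ker.subschemeι) := by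
    have : UniversallyClosed (r ≫ (m ≫ (i ≫ q).ker.subschemeι)) := by
      rw [hφ]; infer_instance
    exact UniversallyClosed.of_comp_surjective r _
  have hUCm : UniversallyClosed m := UniversallyClosed.of_comp_of_isSeparated m (i ≫ q).ker.subschemeι
  have hrm : r ≫ m = (i ≫ q).toImage := by
    rw [← cancel_mono (i ≫ q).ker.subschemeι, Category.assoc, hm]
    exact (Scheme.Hom.toImage_imageι (i ≫ q)).symm
  have hsurj : Surjective m := by
    refine ⟨fun z => ?_⟩
    have hcl : IsClosed (Set.range (i ≫ q).base) := by
      have : IsClosedMap (i ≫ q).base := (i ≫ q).isClosedMap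
      exact this.isClosed_range
    have hz : (i ≫ q).ker.subschemeι.base z ∈ Set.range (i ≫ q).base := by
      have h1 : (i ≫ q).ker.subschemeι.base z ∈ ((i ≫ q).ker.support : Set Y) := by
        rw [← Scheme.IdealSheafData.range_subschemeι]
        exact ⟨z, rfl⟩
      rw [Scheme.Hom.support_ker, hcl.closure_eq] at h1
      exact h1
    obtain ⟨z', hz'⟩ := hz
    refine ⟨r.base z', ?_⟩
    apply (i ≫ q).ker.subschemeι.isEmbedding.injective
    rw [← hz']
    exact congrArg (fun f => f.base z') hm
  refine ⟨(Groth.Agent.Lib.UnivHomeo.isUnivHomeo_iff m).mpr ⟨hUCm, hUIm, hsurj⟩, ?_⟩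
  refine ⟨?_⟩
  rw [eq_bot_iff]
  calc m.ker ≤ (r ≫ m).ker := Scheme.Hom.le_ker_comp r m
    _ = ⊥ := by rw [hrm]; exact IsQuotH8.ker_toImage_eq_bot (i ≫ q)

end Groth.Agent.S13177
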