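import Groth.Statements.S13186
import Mathlib
import Groth.Agent.Lib.GalDatumSplit_helper6
-- import your own Groth.Agent.* helpers here

set_option autoImplicit false
universe u
open GalCoh

namespace Groth.Agent.S13186

/-- Let L/K be a finite Galois extension of fields, n a natural number, and B a map from the Galois
group of L over K to the invertible n × n matrices over L such that B(σ) · σ(B(τ)) = B(στ) for all
σ, τ (σ acting on matrices entrywise, στ applying τ first) and det B(σ) = 1 for every σ. Then there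
is an invertible matrix A over L of determinant 1 with B(σ) = A⁻¹ · σ(A) for every σ; that is, every
1-cocycle of the Galois group with values in SL_n(L) is the coboundary of an element of SL_n(L), so
H¹ of the Galois group with values in SL_n(L) is a point. (The published statement says that every
torsor under the special linear group over K is trivial; this row is the finite-Galois-level cocycle
form that its proof establishes.) -/
theorem result (K L : Type u) [Field K] [Field L]
    [Algebra K L] [FiniteDimensional K L] [IsGalois K L] (n : ℕ)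
    (B : (L ≃ₐ[K] L) → GL (Fin n) L)
    (hB : ∀ σ τ : L ≃ₐ[K] L,
      (B σ : Matrix (Fin n) (Fin n) L) * (B τ : Matrix (Fin n) (Fin n) L).map σ =
        (B (σ * τ) : Matrix (Fin n) (Fin n) L))
    (hdet : ∀ σ : L ≃ₐ[K] L, Matrix.det (B σ : Matrix (Fin n) (Fin n) L) = 1) :
    ∃ A : GL (Fin n) L, Matrix.det (A : Matrix (Fin n) (Fin n) L) = 1 ∧ ∀ σ : L ≃ₐ[K] L,
      (B σ : Matrix (Fin n) (Fin n) L) =
        ((A⁻¹ : GL (Fin n) L) : Matrix (Fin n) (Fin n) L) * (A : Matrix (Fin n) (Fin n) L).map σ := by

  classical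
  let D : Groth.Agent.Lib.GalDatum.Datum K L (Fin n) :=
    { g := fun σ => (B σ : Matrix (Fin n) (Fin n) L)
      gi := fun σ => ((B σ)⁻¹ : GL (Fin n) L)
      c := fun _ _ => 1
      g_gi := fun σ => by
        rw [← Matrix.GeneralLinearGroup.coe_mul, mul_inv_cancel]; rfl
      gi_g := fun σ => by
        rw [← Matrix.GeneralLinearGroup.coe_mul, inv_mul_cancel]; rfl
      c_ne := fun _ _ => one_ne_zero
      mul := fun σ τ => by
        rw [one_smul]
        exact hB σ τ }
  let T : D.Triv :=
    { d := fun _ => 1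
      d_ne := fun _ => one_ne_zero
      hd := fun σ τ => by simp [D] }
  obtain ⟨H, Hi, hHHi, hHiH, hfix⟩ := T.exists_fixed_matrix
  have hfix' : ∀ σ : L ≃ₐ[K] L, (B σ : Matrix (Fin n) (Fin n) L) * Hi⁻¹.map σ = H := by
    intro σ
    have h := hfix σ
    simp only [T, D, inv_one, one_smul] at h
    have hHi : Hi⁻¹ = H := Matrix.inv_eq_left_inv hHHi
    rw [hHi]
    exact h
  have hHi : Hi⁻¹ = H := Matrix.inv_eq_left_inv hHHi
  -- B σ = H * σ(Hi)
  have hB2 : ∀ σ : L ≃ₐ[K] L, (B σ : Matrix (Fin n) (Fin n) L) = H * Hi.map σ := by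
    intro σ
    have h := hfix' σ
    rw [hHi] at h
    have h2 : H.map σ * Hi.map σ = 1 := by
      have := congrArg (fun M : Matrix (Fin n) (Fin n) L => M.map σ) hHHi
      simp only [Matrix.map_mul] at this
      rw [this]
      ext i j
      simp [Matrix.one_apply, apply_ite]
    calc (B σ : Matrix (Fin n) (Fin n) L)
        = (B σ : Matrix (Fin n) (Fin n) L) * (H.map σ * Hi.map σ) := by rw [h2, mul_one]
      _ = ((B σ : Matrix (Fin n) (Fin n) L) * H.map σ) * Hi.map σ := by rw [mul_assoc]
      _ = H * Hi.map σ := by rw [h]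
  -- determinant
  obtain ⟨δ, hδ⟩ : ∃ δ : L, δ = Hi.det := ⟨_, rfl⟩
  have hdetH : H.det * δ = 1 := by rw [hδ, ← Matrix.det_mul, hHHi, Matrix.det_one]
  have hδ0 : δ ≠ 0 := right_ne_zero_of_mul_eq_one hdetH
  have hσδ : ∀ σ : L ≃ₐ[K] L, σ δ = δ := by
    intro σ
    have h1 := congrArg Matrix.det (hB2 σ)
    rw [hdet σ, Matrix.det_mul] at h1
    have h2 : (Hi.map σ).det = σ δ := by
      rw [hδ]
      exact (RingHom.map_det (σ : L →+* L) Hi).symm
    rw [h2] at h1
    have h3 : H.det = δ⁻¹ := eq_inv_of_mul_eq_one_left hdetH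
    rw [h3] at h1
    field_simp at h1
    exact h1.symm
  rcases Nat.eq_zero_or_pos n with hn | hn
  · subst hn
    refine ⟨1, by simp, fun σ => ?_⟩
    exact Subsingleton.elim _ _
  · haveI : NeZero n := ⟨hn.ne'⟩
    obtain ⟨v, hv⟩ : ∃ v : Fin n → L, v = fun i => if i = 0 then δ⁻¹ else 1 := ⟨_, rfl⟩
    obtain ⟨w, hw⟩ : ∃ w : Fin n → L, w = fun i => if i = 0 then δ else 1 := ⟨_, rfl⟩
    have hvw : Matrix.diagonal v * Matrix.diagonal w = 1 := by
      rw [Matrix.diagonal_mul_diagonal, ← Matrix.diagonal_one]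
      congr 1
      funext i
      rw [hv, hw]
      by_cases hi : i = 0 <;> simp [hi, hδ0]
    have hwv : Matrix.diagonal w * Matrix.diagonal v = 1 := by
      rw [Matrix.diagonal_mul_diagonal, ← Matrix.diagonal_one]
      congr 1
      funext i
      rw [hv, hw]
      by_cases hi : i = 0 <;> simp [hi, hδ0]
    have hdv : (Matrix.diagonal v).det = δ⁻¹ := by
      rw [Matrix.det_diagonal, hv]
      simp [Finset.prod_ite_eq']
    have hσw : ∀ σ : L ≃ₐ[K] L, (Matrix.diagonal w).map σ = Matrix.diagonal w := by
      intro σ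
      ext i j
      rw [hw]
      by_cases hij : i = j
      · subst hij
        by_cases hi : i = 0 <;> simp [hi, hσδ σ]
      · simp [hij]
    have hσv : ∀ σ : L ≃ₐ[K] L, (Matrix.diagonal v).map σ = Matrix.diagonal v := by
      intro σ
      ext i j
      rw [hv]
      by_cases hij : i = j
      · subst hij
        by_cases hi : i = 0 <;> simp [hi, hσδ σ]
      · simp [hij]
    -- A := diag v * Hi, A⁻¹ = H * diag w
    let A : GL (Fin n) L :=
      { val := Matrix.diagonal v * Hi
        inv := H * Matrix.diagonal w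
        val_inv := by
          rw [mul_assoc, ← mul_assoc Hi, hHiH, one_mul, hvw]
        inv_val := by
          rw [mul_assoc, ← mul_assoc (Matrix.diagonal w), hwv, one_mul, hHHi] }
    refine ⟨A, ?_, fun σ => ?_⟩
    · show (Matrix.diagonal v * Hi).det = 1
      rw [Matrix.det_mul, hdv, ← hδ]
      exact inv_mul_cancel₀ hδ0
    · show (B σ : Matrix (Fin n) (Fin n) L) =
        (H * Matrix.diagonal w) * (Matrix.diagonal v * Hi).map σ
      rw [Matrix.map_mul, hσv σ, mul_assoc, ← mul_assoc (Matrix.diagonal w), hwv, one_mul]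
      exact hB2 σ

end Groth.Agent.S13186
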