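import Groth.Statements.S13188
import Mathlib
-- import your own Groth.Agent.* helpers here

set_option autoImplicit false
universe u v w
open Brauer

namespace Groth.Agent.S13188

/-- Let K be a field with property C_2 for systems of forms and D a finite-dimensional central division
algebra over K with dim_K D = d². Let N : D → K be multiplicative, a reduced norm of D over K, and
given in the coordinates of a K-basis b of D by a homogeneous polynomial F of degree d, i.e. N(Σ x_i
b_i) = F(x) for every coordinate vector x (the reduced norm of a central simple algebra of dimension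
d² is such a polynomial map of degree d; these data record it). Then N : D → K is surjective. -/
theorem result (K : Type u) [Field K] (hK : Curves.IsCi K 2)
    (D : Type v) [DivisionRing D] [Algebra K D] [Algebra.IsCentral K D] [FiniteDimensional K D]
    (d : ℕ) (hd : Module.finrank K D = d ^ 2)
    (N : D →* K) (hN : CSAGal.IsRedNorm K D N)
    {ι : Type w} [Fintype ι] (b : Module.Basis ι K D)
    (F : MvPolynomial ι K) (hF : F.IsHomogeneous d)
    (hNF : ∀ x : ι → K, N (∑ i, x i • b i) = MvPolynomial.eval x F) :
    Function.Surjective N := by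

  classical
  intro a
  have hcard : Fintype.card ι = d ^ 2 := by rw [← Module.finrank_eq_card_basis b, hd]
  have hdpos : 0 < d := by
    rcases Nat.eq_zero_or_pos d with h | h
    · exfalso
      rw [h] at hd
      have : 0 < Module.finrank K D := Module.finrank_pos
      simp at hd; omega
    · exact h
  have hscal : ∀ (c : K) (x : ι → K),
      MvPolynomial.eval (fun i => c * x i) F = c ^ d * MvPolynomial.eval x F := by
    intro c x
    rw [MvPolynomial.eval_eq', MvPolynomial.eval_eq', Finset.mul_sum]
    refine Finset.sum_congr rfl fun m hm => ?_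
    have hmd : m.degree = d := by
      by_contra hne
      exact (MvPolynomial.mem_support_iff.mp hm) (hF.coeff_eq_zero hne)
    have : ∏ i, (c * x i) ^ m i = c ^ d * ∏ i, x i ^ m i := by
      simp_rw [mul_pow]
      rw [Finset.prod_mul_distrib, Finset.prod_pow_eq_pow_sum, ← Finsupp.degree_eq_sum, hmd]
    rw [this]; ring
  let e : ι ≃ Fin (d ^ 2) := Fintype.equivFinOfCardEq hcard
  let f : ι → Fin (d ^ 2 + 1) := fun i => Fin.castSucc (e i)
  let G : MvPolynomial (Fin (d ^ 2 + 1)) K :=
    MvPolynomial.rename f F - MvPolynomial.C a * MvPolynomial.X (Fin.last _) ^ d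
  have hG : G.IsHomogeneous d :=
    (hF.rename_isHomogeneous).sub (MvPolynomial.isHomogeneous_C_mul_X_pow a _ d)
  obtain ⟨z, hz0, hz⟩ := hK 1 (d ^ 2 + 1) (fun _ => G) (fun _ => d) (fun _ => hG)
    (fun _ => hdpos) (by simp)
  have hz' := hz 0
  simp only [G, map_sub, map_mul, map_pow, MvPolynomial.eval_rename, MvPolynomial.eval_C,
    MvPolynomial.eval_X] at hz'
  obtain ⟨x, hx⟩ : ∃ x : ι → K, x = z ∘ f := ⟨_, rfl⟩
  obtain ⟨t, ht⟩ : ∃ t : K, t = z (Fin.last _) := ⟨_, rfl⟩
  rw [← hx, ← ht] at hz'
  have hN0 : ∀ y : D, y ≠ 0 → N y ≠ 0 := by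
    intro y hy h0
    have : N y * N y⁻¹ = 1 := by rw [← map_mul, mul_inv_cancel₀ hy, map_one]
    rw [h0, zero_mul] at this
    exact zero_ne_one this
  by_cases ht0 : t = 0
  · exfalso
    have h1 : MvPolynomial.eval x F = 0 := by
      rw [ht0, zero_pow hdpos.ne', mul_zero, sub_zero] at hz'
      exact hz'
    have h2 : N (∑ i, x i • b i) = 0 := by rw [hNF, h1]
    have h3 : ∑ i, x i • b i = 0 := by
      by_contra hne
      exact hN0 _ hne h2
    have h4 : ∀ i, x i = 0 := Fintype.linearIndependent_iff.mp b.linearIndependent x h3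
    apply hz0
    funext j
    refine Fin.lastCases ?_ (fun j' => ?_) j
    · rw [← ht, ht0]; rfl
    · have := h4 (e.symm j')
      rw [hx] at this
      simpa [f] using this
  · refine ⟨∑ i, (t⁻¹ * x i) • b i, ?_⟩
    have h1 : MvPolynomial.eval x F = a * t ^ d := sub_eq_zero.mp hz'
    rw [hNF, hscal, h1, inv_pow]
    field_simp

end Groth.Agent.S13188
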