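import Groth.Statements.S13189
import Mathlib

set_option autoImplicit false
universe u
open CAlg

namespace Groth.Agent.S13189

/-- For a finite field K of cardinality q and n ≥ 0, a polynomial p in n variables over K vanishes at
every point of K^n if and only if p belongs to the ideal generated by the X_i^q − X_i, i = 1, …, n;
in other words that ideal is the kernel of the evaluation homomorphism from K[X_1, …, X_n] to the
ring of K-valued functions on K^n. -/
theorem result (K : Type u) [Field K] [Fintype K]
    (n : ℕ) (p : MvPolynomial (Fin n) K) :
    (∀ a : Fin n → K, MvPolynomial.eval a p = 0) ↔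
      p ∈ Ideal.span (Set.range fun i : Fin n =>
        (MvPolynomial.X i ^ Fintype.card K - MvPolynomial.X i : MvPolynomial (Fin n) K)) := by
  classical
  set q := Fintype.card K with hq
  have hq2 : 2 ≤ q := Fintype.one_lt_card
  set I : Ideal (MvPolynomial (Fin n) K) := Ideal.span (Set.range fun i : Fin n =>
        (MvPolynomial.X i ^ q - MvPolynomial.X i : MvPolynomial (Fin n) K)) with hI
  have hgen : ∀ i : Fin n, (MvPolynomial.X i ^ q - MvPolynomial.X i : MvPolynomial (Fin n) K) ∈ I :=
    fun i => Ideal.subset_span ⟨i, rfl⟩
  constructor
  · -- reduce modulo I to a polynomial of restricted degree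
    intro h
    -- W = restrictDegree + I as a K-submodule
    let W : Submodule K (MvPolynomial (Fin n) K) :=
      MvPolynomial.restrictDegree (Fin n) K (q - 1) ⊔ I.restrictScalars K
    have hmon : ∀ (s : Fin n →₀ ℕ) (c : K), (∀ j, s j ≤ q - 1) → ∀ i : Fin n,
        MvPolynomial.monomial s c * MvPolynomial.X i ∈ W := by
      intro s c hs i
      by_cases hsi : s i < q - 1
      · apply Submodule.mem_sup_left
        rw [MvPolynomial.X, MvPolynomial.monomial_mul, MvPolynomial.mem_restrictDegree]
        intro t ht j
        have htm := MvPolynomial.support_monomial_subset ht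
        rw [Finset.mem_singleton] at htm
        subst htm
        by_cases hji : j = i
        · subst hji
          simp only [Finsupp.coe_add, Pi.add_apply, Finsupp.single_eq_same]
          omega
        · simp only [Finsupp.coe_add, Pi.add_apply, Finsupp.single_eq_of_ne hji, add_zero]
          exact hs j
      · have hsi' : s i = q - 1 := le_antisymm (hs i) (not_lt.mp hsi)
        -- s = t + (q-1) e_i with t i = 0
        set t : Fin n →₀ ℕ := s.erase i with ht
        have hst : s = t + Finsupp.single i (q - 1) := by
          rw [ht, ← hsi', Finsupp.erase_add_single]
        have e1 : MvPolynomial.monomial s c * MvPolynomial.X i =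
            MvPolynomial.monomial t c * MvPolynomial.X i +
              MvPolynomial.monomial t c * (MvPolynomial.X i ^ q - MvPolynomial.X i) := by
          have : MvPolynomial.monomial s c =
              MvPolynomial.monomial t c * (MvPolynomial.X i : MvPolynomial (Fin n) K) ^ (q - 1) := by
            rw [hst, MvPolynomial.X_pow_eq_monomial, MvPolynomial.monomial_mul, mul_one]
          rw [this]
          have hqq : q = (q - 1) + 1 := by omega
          rw [mul_sub, mul_assoc, ← pow_succ, ← hqq]
          ring
        rw [e1]
        refine Submodule.add_mem _ (Submodule.mem_sup_left ?_) (Submodule.mem_sup_right ?_)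
        · rw [MvPolynomial.X, MvPolynomial.monomial_mul, MvPolynomial.mem_restrictDegree]
          intro u hu j
          have hum := MvPolynomial.support_monomial_subset hu
          rw [Finset.mem_singleton] at hum
          subst hum
          by_cases hji : j = i
          · subst hji
            simp only [Finsupp.coe_add, Pi.add_apply, Finsupp.single_eq_same, ht,
              Finsupp.erase_same]
            omega
          · simp only [Finsupp.coe_add, Pi.add_apply, Finsupp.single_eq_of_ne hji, add_zero, ht,
              Finsupp.erase_ne hji]
            exact hs j
        · exact Ideal.mul_mem_left _ _ (hgen i)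
    have hW : ∀ p : MvPolynomial (Fin n) K, p ∈ W := by
      intro p
      induction p using MvPolynomial.induction_on with
      | C a =>
        apply Submodule.mem_sup_left
        rw [MvPolynomial.mem_restrictDegree]
        intro s hs j
        have := MvPolynomial.support_monomial_subset (hs : s ∈ (MvPolynomial.monomial 0 a).support)
        rw [Finset.mem_singleton] at this
        subst this
        simp
      | add p r hp hr => exact Submodule.add_mem _ hp hr
      | mul_X p i hp =>
        obtain ⟨r, hr, j, hj, rfl⟩ := Submodule.mem_sup.mp hp
        rw [add_mul]
        refine Submodule.add_mem _ ?_ (Submodule.mem_sup_right (Ideal.mul_mem_right _ _ hj))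
        rw [MvPolynomial.as_sum r, Finset.sum_mul]
        refine Submodule.sum_mem _ fun s hs => ?_
        exact hmon s _ (fun j => (MvPolynomial.mem_restrictDegree _ _ _).mp hr s hs j) i
    obtain ⟨r, hr, j, hj, hrj⟩ := Submodule.mem_sup.mp (hW p)
    have hjI : j ∈ I := hj
    have hevalI : ∀ j ∈ I, ∀ a : Fin n → K, MvPolynomial.eval a j = 0 := by
      intro j hj a
      have hle : I ≤ RingHom.ker (MvPolynomial.eval a) := by
        rw [hI, Ideal.span_le]
        rintro _ ⟨i, rfl⟩
        simp only [SetLike.mem_coe, RingHom.mem_ker, map_sub, map_pow, MvPolynomial.eval_X]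
        rw [hq, FiniteField.pow_card, sub_self]
      exact hle hj
    have hr0 : r = 0 := by
      have hup : Function.Injective (ULift.up.{u} : Fin n → ULift.{u} (Fin n)) :=
        ULift.up_injective
      apply MvPolynomial.rename_injective _ hup
      rw [map_zero]
      apply MvPolynomial.eq_zero_of_eval_eq_zero (ULift.{u} (Fin n)) K
      · intro a
        rw [MvPolynomial.eval_rename]
        have h1 := h (a ∘ ULift.up)
        rw [← hrj, map_add, hevalI j hjI _, add_zero] at h1
        exact h1
      · rw [MvPolynomial.mem_restrictDegree]
        intro s hs i
        rw [MvPolynomial.support_rename_of_injective hup, Finset.mem_image] at hs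
        obtain ⟨t, ht, rfl⟩ := hs
        obtain ⟨i⟩ := i
        rw [Finsupp.mapDomain_apply hup]
        exact (MvPolynomial.mem_restrictDegree _ _ _).mp hr t ht i
    rw [← hrj, hr0, zero_add]
    exact hjI
  · intro hp a
    have hle : I ≤ RingHom.ker (MvPolynomial.eval a) := by
      rw [hI, Ideal.span_le]
      rintro _ ⟨i, rfl⟩
      simp only [SetLike.mem_coe, RingHom.mem_ker, map_sub, map_pow, MvPolynomial.eval_X]
      rw [hq, FiniteField.pow_card, sub_self]
    exact hle hp

end Groth.Agent.S13189
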