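import Groth.Statements.S13194
import Mathlib
import Groth.Agent.Lib.ContH90_helper6
-- import your own Groth.Agent.* helpers here

set_option autoImplicit false
universe u
open GalCoh

namespace Groth.Agent.S13194

/-- Let K be a field of characteristic p > 0, L a separable closure of K, and χ a locally constant map
from the automorphism group of L over K (Krull topology) to Z/pZ with χ(στ) = χ(σ) + χ(τ) for all σ,
τ — a continuous 1-cocycle for the trivial action. Then there is an element x of L with x^p − x in K
such that σ(x) − x equals χ(σ), read in the prime field of L, for every σ. Together with the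
elementary facts that σ ↦ σ(x) − x is such a cocycle for every x with x^p − x in K and vanishes
exactly when x lies in K, this identifies the first continuous cohomology group of the absolute
Galois group of K with coefficients Z/pZ with K/℘(K), ℘(y) = y^p − y. -/
theorem result (p : ℕ) [Fact p.Prime]
    (K L : Type u) [Field K] [Field L] [Algebra K L] [CharP K p] [IsSepClosure K L]
    (χ : (L ≃ₐ[K] L) → ZMod p) (hχ : ∀ σ τ : L ≃ₐ[K] L, χ (σ * τ) = χ σ + χ τ)
    (hlc : IsLocallyConstant χ) :
    ∃ x : L, x ^ p - x ∈ Set.range (algebraMap K L) ∧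
      ∀ σ : L ≃ₐ[K] L, σ x - x = ((χ σ).val : L) := by

  haveI : CharP L p := charP_of_injective_algebraMap (algebraMap K L).injective p
  let g : ZMod p → L := fun z => ((z.val : ℕ) : L)
  have hg : ∀ z w : ZMod p, g (z + w) = g z + g w := by
    intro z w
    simp only [g]
    rw [ZMod.natCast_val, ZMod.natCast_val, ZMod.natCast_val, ZMod.cast_add (dvd_refl p)]
  have ha : ∀ σ τ : L ≃ₐ[K] L, g (χ (σ * τ)) = g (χ σ) + σ (g (χ τ)) := by
    intro σ τ
    rw [hχ, hg]
    congr 1
    simp only [g]
    rw [map_natCast]
  obtain ⟨y, hy⟩ := Groth.Agent.Lib.ContH90.additive_hilbert90 (fun σ => g (χ σ)) ha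
    (hlc.comp g)
  refine ⟨y, ?_, fun σ => (hy σ).symm⟩
  rw [InfiniteGalois.mem_range_algebraMap_iff_fixed]
  intro σ
  have h1 : σ y = y + g (χ σ) := by
    have := hy σ
    rw [this]; ring
  rw [map_sub, map_pow, h1, add_pow_char]
  have h2 : g (χ σ) ^ p = g (χ σ) := by
    have e : ∀ z : ZMod p, g z = ZMod.castHom (dvd_refl p) L z := fun z => by
      simp only [g]; rw [ZMod.natCast_val]; rfl
    rw [e, ← map_pow, ZMod.pow_card]
  rw [h2]
  ring

end Groth.Agent.S13194
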