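import Groth.Statements.S13198
import Mathlib
-- import your own Groth.Agent.* helpers here

set_option autoImplicit false
universe u
open scoped TensorProduct
set_option maxSynthPendingDepth 3
open IsLocalRing
open Hensel

namespace Groth.Agent.S13198

/-- Let R be a local ring which is strictly henselian (henselian, with separably closed residue field),
A a local ring which is an integral R-algebra with local structure map and whose residue field is
purely inseparable over that of R, and B a local ring with a local homomorphism R → B. Then A ⊗_R B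
is a local ring, the map B → A ⊗_R B is local, and the residue field extension of A ⊗_R B over B is
purely inseparable: every element of A ⊗_R B has a p^n-th power, p the characteristic exponent of
the residue field of B, congruent modulo the maximal ideal to an element 1 ⊗ b. -/
theorem result
    (R A B : Type u) [CommRing R] [HenselianLocalRing R] [IsSepClosed (IsLocalRing.ResidueField R)]
    [CommRing A] [IsLocalRing A] [Algebra R A] [IsLocalHom (algebraMap R A)] [Algebra.IsIntegral R A]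
    [IsPurelyInseparable (IsLocalRing.ResidueField R) (IsLocalRing.ResidueField A)]
    [CommRing B] [IsLocalRing B] [Algebra R B] [IsLocalHom (algebraMap R B)] :
    ∃ _ : IsLocalRing (A ⊗[R] B),
      IsLocalHom (Algebra.TensorProduct.includeRight : B →ₐ[R] A ⊗[R] B).toRingHom ∧
      ∀ x : A ⊗[R] B, ∃ (n : ℕ) (b : B),
        x ^ (ringExpChar (IsLocalRing.ResidueField B)) ^ n - (1 : A) ⊗ₜ[R] b ∈ IsLocalRing.maximalIdeal (A ⊗[R] B) := by
  let T := A ⊗[R] B
  let kR := ResidueField R
  let kA := ResidueField A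
  let kB := ResidueField B
  have hE0 : ExpChar (ResidueField B) (ringExpChar (ResidueField B)) := ringExpChar.expChar _
  generalize ringExpChar (ResidueField B) = p at hE0 ⊢
  haveI : ExpChar kB p := hE0
  haveI : ExpChar kR p := RingHom.expChar (algebraMap kR kB) (algebraMap kR kB).injective p
  let α : A →+* T := algebraMap A T
  let β : B →ₐ[R] T := Algebra.TensorProduct.includeRight
  letI : Algebra B T := β.toRingHom.toAlgebra
  have hαβ : ∀ r : R, α (algebraMap R A r) = algebraMap B T (algebraMap R B r) := by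
    intro r
    show algebraMap A T (algebraMap R A r) = β (algebraMap R B r)
    rw [β.commutes, ← IsScalarTower.algebraMap_apply]
  haveI : Algebra.IsIntegral B T := ⟨fun z => by
    induction z using TensorProduct.induction_on with
    | zero => exact isIntegral_zero
    | tmul a b =>
      have h1 : IsIntegral B (α a) := by
        have ha : IsIntegral R a := Algebra.IsIntegral.isIntegral (R := R) a
        exact ha.map_of_comp_eq (algebraMap R B) α (by
          ext r
          exact (hαβ r).symm)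
      have h2 : IsIntegral B (algebraMap B T b) := isIntegral_algebraMap
      have h3 : a ⊗ₜ[R] b = α a * algebraMap B T b := by
        show a ⊗ₜ[R] b = (a ⊗ₜ[R] (1 : B)) * ((1 : A) ⊗ₜ[R] b)
        rw [Algebra.TensorProduct.tmul_mul_tmul, mul_one, one_mul]
      rw [h3]
      exact h1.mul h2
    | add a b ha hb => exact ha.add hb⟩
  -- nontriviality
  let ψ : A ⊗[R] B →ₐ[R] kA ⊗[kR] kB :=
    (Algebra.TensorProduct.mapOfCompatibleSMul kR R R kA kB).comp
      (Algebra.TensorProduct.map (IsScalarTower.toAlgHom R A kA) (IsScalarTower.toAlgHom R B kB))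
  haveI : Nontrivial (kA ⊗[kR] kB) :=
    (Algebra.TensorProduct.includeLeft_injective (S := kR) (A := kA) (B := kB) (R := kR)
      (algebraMap kR kB).injective).nontrivial
  haveI : Nontrivial T := ψ.toRingHom.domain_nontrivial
  have hNB : ∀ N : Ideal T, N.IsMaximal → N.comap (algebraMap B T) = maximalIdeal B := by
    intro N hN
    haveI := hN
    have hmax : (N.comap (algebraMap B T)).IsMaximal :=
      Ideal.isMaximal_comap_of_isIntegral_of_isMaximal N
    exact IsLocalRing.eq_maximalIdeal hmax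
  have hNA : ∀ N : Ideal T, N.IsMaximal → N.comap α = maximalIdeal A := by
    intro N hN
    haveI := hN
    haveI : (N.comap α).IsPrime := Ideal.comap_isPrime α N
    have h1 : (N.comap α).comap (algebraMap R A) = maximalIdeal R := by
      rw [← IsLocalRing.maximalIdeal_comap (algebraMap R B), ← hNB N hN]
      ext r
      simp only [Ideal.mem_comap]
      rw [hαβ r]
    have h2 : (N.comap α).IsMaximal :=
      Ideal.isMaximal_of_isIntegral_of_isMaximal_comap (R := R) (N.comap α) (by
        rw [h1]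
        exact maximalIdeal.isMaximal R)
    exact IsLocalRing.eq_maximalIdeal h2
  let 𝔞 : Ideal T := (maximalIdeal A).map α ⊔ (maximalIdeal B).map (algebraMap B T)
  have h𝔞 : ∀ N : Ideal T, N.IsMaximal → 𝔞 ≤ N := by
    intro N hN
    refine sup_le ?_ ?_
    · rw [Ideal.map_le_iff_le_comap, hNA N hN]
    · rw [Ideal.map_le_iff_le_comap, hNB N hN]
  have hp : p = 1 ∨ (p.Prime ∧ (p : T) ∈ 𝔞) := by
    have hE : ExpChar kB p := inferInstance
    cases hE with
    | zero => left; rfl
    | prime hprime =>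
      right
      refine ⟨hprime, ?_⟩
      have h1 : ((p : ℕ) : B) ∈ maximalIdeal B := by
        rw [← residue_eq_zero_iff, map_natCast]
        exact CharP.cast_eq_zero kB p
      have h2 : ((p : ℕ) : T) = algebraMap B T ((p : ℕ) : B) := (map_natCast _ _).symm
      rw [h2]
      exact Ideal.mem_sup_right (Ideal.mem_map_of_mem _ h1)
  have hadd : ∀ (x y : T) (n : ℕ), (x + y) ^ p ^ n - (x ^ p ^ n + y ^ p ^ n) ∈ 𝔞 := by
    intro x y n
    rcases hp with h1 | ⟨hpr, hmem⟩
    · rw [h1, one_pow, pow_one, pow_one, pow_one, sub_self]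
      exact 𝔞.zero_mem
    · obtain ⟨r, hr⟩ := exists_add_pow_prime_pow_eq hpr x y n
      rw [hr]
      have h2 : x ^ p ^ n + y ^ p ^ n + (p : T) * x * y * r - (x ^ p ^ n + y ^ p ^ n) =
          (x * y * r) * (p : T) := by ring
      rw [h2]
      exact 𝔞.mul_mem_left _ hmem
  have hcong : ∀ (a b : T) (m : ℕ), a - b ∈ 𝔞 → a ^ m - b ^ m ∈ 𝔞 := by
    intro a b m hab
    obtain ⟨c, hc⟩ := sub_dvd_pow_sub_pow a b m
    rw [hc]
    exact 𝔞.mul_mem_right _ hab
  have hpowA : ∀ a : A, ∃ (n : ℕ) (r : R), a ^ p ^ n - algebraMap R A r ∈ maximalIdeal A := by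
    intro a
    obtain ⟨n, c, hc⟩ := (isPurelyInseparable_iff_pow_mem kR p).mp
      (inferInstance : IsPurelyInseparable kR kA) (residue A a)
    obtain ⟨r, rfl⟩ := residue_surjective c
    refine ⟨n, r, ?_⟩
    rw [← residue_eq_zero_iff, map_sub, map_pow, ← hc]
    exact sub_self _
  have hmain : ∀ x : T, ∃ (n : ℕ) (b : B), x ^ p ^ n - β b ∈ 𝔞 := by
    intro x
    induction x using TensorProduct.induction_on with
    | zero => exact ⟨0, 0, by simp⟩
    | tmul a b =>
      obtain ⟨n, r, hr⟩ := hpowA a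
      refine ⟨n, r • b ^ p ^ n, ?_⟩
      have h1 : (a ⊗ₜ[R] b) ^ p ^ n - β (r • b ^ p ^ n) =
          (β (b ^ p ^ n)) * α (a ^ p ^ n - algebraMap R A r) := by
        show (a ⊗ₜ[R] b) ^ p ^ n - (1 : A) ⊗ₜ[R] (r • b ^ p ^ n) =
          ((1 : A) ⊗ₜ[R] (b ^ p ^ n)) * ((a ^ p ^ n - algebraMap R A r) ⊗ₜ[R] (1 : B))
        rw [Algebra.TensorProduct.tmul_pow, Algebra.TensorProduct.tmul_mul_tmul, mul_one, one_mul,
          TensorProduct.sub_tmul, TensorProduct.tmul_smul, TensorProduct.smul_tmul',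
          Algebra.smul_def, mul_one]
      rw [h1]
      exact 𝔞.mul_mem_left _ (Ideal.mem_sup_left (Ideal.mem_map_of_mem _ hr))
    | add x y hx hy =>
      obtain ⟨n₁, s₁, h₁⟩ := hx
      obtain ⟨n₂, s₂, h₂⟩ := hy
      refine ⟨n₁ + n₂, s₁ ^ p ^ n₂ + s₂ ^ p ^ n₁, ?_⟩
      have e1 : x ^ p ^ (n₁ + n₂) - β (s₁ ^ p ^ n₂) ∈ 𝔞 := by
        rw [pow_add, pow_mul, map_pow]
        exact hcong _ _ _ h₁
      have e2 : y ^ p ^ (n₁ + n₂) - β (s₂ ^ p ^ n₁) ∈ 𝔞 := by
        rw [add_comm n₁ n₂, pow_add, pow_mul, map_pow]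
        exact hcong _ _ _ h₂
      have e3 := hadd x y (n₁ + n₂)
      have e4 : (x + y) ^ p ^ (n₁ + n₂) - β (s₁ ^ p ^ n₂ + s₂ ^ p ^ n₁) =
          ((x + y) ^ p ^ (n₁ + n₂) - (x ^ p ^ (n₁ + n₂) + y ^ p ^ (n₁ + n₂))) +
          ((x ^ p ^ (n₁ + n₂) - β (s₁ ^ p ^ n₂)) + (y ^ p ^ (n₁ + n₂) - β (s₂ ^ p ^ n₁))) := by
        rw [map_add]
        ring
      rw [e4]
      exact 𝔞.add_mem e3 (𝔞.add_mem e1 e2)
  have hpne : ∀ n : ℕ, p ^ n ≠ 0 := by
    intro n
    rcases hp with h1 | ⟨hpr, -⟩
    · rw [h1, one_pow]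
      exact one_ne_zero
    · exact pow_ne_zero _ hpr.ne_zero
  have hle : ∀ N₁ N₂ : Ideal T, N₁.IsMaximal → N₂.IsMaximal → N₁ ≤ N₂ := by
    intro N₁ N₂ hN₁ hN₂ x hx
    obtain ⟨n, s, hs⟩ := hmain x
    have h1 : β s ∈ N₁ := by
      have := N₁.sub_mem (N₁.pow_mem_of_mem hx (p ^ n) (Nat.pos_of_ne_zero (hpne n)))
        (h𝔞 N₁ hN₁ hs)
      rwa [sub_sub_cancel] at this
    have h2 : s ∈ N₁.comap (algebraMap B T) := h1
    rw [hNB N₁ hN₁, ← hNB N₂ hN₂] at h2
    have h3 : β s ∈ N₂ := h2
    have h4 : x ^ p ^ n ∈ N₂ := by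
      have := N₂.add_mem (h𝔞 N₂ hN₂ hs) h3
      rwa [sub_add_cancel] at this
    exact hN₂.isPrime.mem_of_pow_mem _ h4
  have hloc : IsLocalRing T := by
    obtain ⟨N₀, hN₀⟩ := Ideal.exists_maximal T
    refine IsLocalRing.of_unique_max_ideal ⟨N₀, hN₀, fun N hN => ?_⟩
    exact le_antisymm (hle N N₀ hN hN₀) (hle N₀ N hN₀ hN)
  haveI := hloc
  have h𝔞max : 𝔞 ≤ maximalIdeal T := h𝔞 _ (maximalIdeal.isMaximal T)
  refine ⟨hloc, ⟨fun b hb => ?_⟩, fun x => ?_⟩
  · by_contra hcon
    have h1 : b ∈ maximalIdeal B := hcon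
    have h2 : β b ∈ maximalIdeal T :=
      h𝔞max (Ideal.mem_sup_right (Ideal.mem_map_of_mem (algebraMap B T) h1))
    exact h2 hb
  · obtain ⟨n, b, hb⟩ := hmain x
    exact ⟨n, b, h𝔞max hb⟩

end Groth.Agent.S13198
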