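import Groth.Statements.S13200
import Groth.Agent.Lib.NormalComplDomain_helper3
import Groth.Agent.Lib.GRingIso_helper3
import Groth.Agent.Lib.QuotFormalFibre_helper3
import Groth.Agent.Lib.HensIntegral_helper3
-- import your own Groth.Agent.* helpers here

set_option autoImplicit false
universe u
open Hensel


namespace Groth.Agent.S13200

/-- Let R be an excellent local ring which is strictly henselian (henselian with separably closed
residue field), and let R^ denote its completion at the maximal ideal. An element Δ of R is a prime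
element of R exactly when its image in R^ is a prime element of R^. -/
theorem result
    (R : Type u) [CommRing R] [HenselianLocalRing R] [IsSepClosed (IsLocalRing.ResidueField R)]
    (hR : EGA4.IsExcellent R) (Δ : R) :
    Prime Δ ↔ Prime (algebraMap R (AdicCompletion (IsLocalRing.maximalIdeal R) R) Δ) := by
  obtain ⟨hN, -, hG, -⟩ := hR
  haveI := hN
  obtain ⟨hloc, hnoeth, hcompl, hff, hlh, hmap⟩ := Groth.Agent.Lib.AnUnramH3.completion_facts R
  haveI := hff
  have hinj : Function.Injective
      (algebraMap R (AdicCompletion (IsLocalRing.maximalIdeal R) R)) :=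
    FaithfulSMul.algebraMap_injective _ _
  have hreg := Groth.Agent.Lib.GRingIsoH3.isRegularHom_cpl_of_isGRing R hG
  have hnorm : EGA4.HasGeomNormalFormalFibres R :=
    (Groth.Agent.Lib.FFTransferH3.isNormalHom_of_isRegularHom R _ hreg).2
  have hmapI : (Ideal.span {Δ}).map
      (algebraMap R (AdicCompletion (IsLocalRing.maximalIdeal R) R)) =
      Ideal.span {algebraMap R (AdicCompletion (IsLocalRing.maximalIdeal R) R) Δ} := by
    rw [Ideal.map_span, Set.image_singleton]
  constructor
  · intro hΔ
    have hIprime : (Ideal.span {Δ}).IsPrime := (Ideal.span_singleton_prime hΔ.ne_zero).mpr hΔ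
    haveI : IsDomain (R ⧸ Ideal.span {Δ}) := Ideal.Quotient.isDomain _
    haveI : Nontrivial (R ⧸ Ideal.span {Δ}) := inferInstance
    haveI : Algebra.IsIntegral R (R ⧸ Ideal.span {Δ}) :=
      Algebra.isIntegral_of_surjective Ideal.Quotient.mk_surjective
    haveI : HenselianLocalRing (R ⧸ Ideal.span {Δ}) :=
      Groth.Agent.Lib.HensIntegralH3.henselianLocalRing_of_isIntegral R _
    have hD := Groth.Agent.Lib.QuotFormalFibreH3.hasGeomNormalFormalFibres_quotient R
      (Ideal.span {Δ}) hnorm
    haveI hfin := Groth.Agent.Lib.NormalComplDomainH3.finite_integralClosure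
      (R ⧸ Ideal.span {Δ}) hD
    haveI : IsLocalRing (integralClosure (R ⧸ Ideal.span {Δ})
        (FractionRing (R ⧸ Ideal.span {Δ}))) :=
      Groth.Agent.Lib.HensIntDom.isLocalRing_of_finite_domain (R ⧸ Ideal.span {Δ}) _
    haveI hdom : IsDomain (EGA4.Cpl (R ⧸ Ideal.span {Δ})) :=
      Groth.Agent.Lib.NormalComplDomainH3.isDomain_cpl_of_isLocalRing_integralClosure
        (R ⧸ Ideal.span {Δ}) hD
    obtain ⟨e⟩ := Groth.Agent.Lib.GRingCoreH3.exists_ringEquiv_tensor_cpl_of_surjective R
      (R ⧸ Ideal.span {Δ}) Ideal.Quotient.mk_surjective (R ⧸ Ideal.span {Δ})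
    let e2 := (Algebra.TensorProduct.quotIdealMapEquivQuotTensor
      (AdicCompletion (IsLocalRing.maximalIdeal R) R) (Ideal.span {Δ})).toRingEquiv.trans
      (e.trans (Algebra.TensorProduct.lid (R ⧸ Ideal.span {Δ})
        (EGA4.Cpl (R ⧸ Ideal.span {Δ}))).toRingEquiv)
    haveI : IsDomain (AdicCompletion (IsLocalRing.maximalIdeal R) R ⧸
        (Ideal.span {Δ}).map (algebraMap R (AdicCompletion (IsLocalRing.maximalIdeal R) R))) :=
      e2.toMulEquiv.isDomain _
    have hp : ((Ideal.span {Δ}).map
        (algebraMap R (AdicCompletion (IsLocalRing.maximalIdeal R) R))).IsPrime :=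
      (Ideal.Quotient.isDomain_iff_prime _).mp inferInstance
    rw [hmapI] at hp
    exact (Ideal.span_singleton_prime (by
      rw [Ne, map_eq_zero_iff _ hinj]; exact hΔ.ne_zero)).mp hp
  · intro hΔ
    have hΔ0 : Δ ≠ 0 := fun h => hΔ.ne_zero (by rw [h, map_zero])
    have hp : (Ideal.span
        {algebraMap R (AdicCompletion (IsLocalRing.maximalIdeal R) R) Δ}).IsPrime :=
      (Ideal.span_singleton_prime hΔ.ne_zero).mpr hΔ
    rw [← hmapI] at hp
    have hcomap : ((Ideal.span {Δ}).map
        (algebraMap R (AdicCompletion (IsLocalRing.maximalIdeal R) R))).comap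
        (algebraMap R (AdicCompletion (IsLocalRing.maximalIdeal R) R)) = Ideal.span {Δ} :=
      Ideal.comap_map_eq_self_of_faithfullyFlat _
    have hIp : (Ideal.span {Δ}).IsPrime := by
      rw [← hcomap]
      exact Ideal.comap_isPrime _ _
    exact (Ideal.span_singleton_prime hΔ0).mp hIp

end Groth.Agent.S13200
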