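import Groth.Statements.S13202
import Groth.Agent.Lib.SmoothPrime2_helper3
-- import your own Groth.Agent.* helpers here

set_option autoImplicit false
universe u
open Hensel


namespace Groth.Agent.S13202

/-- Let R be a Noetherian regular ring (every localization at a prime ideal is a regular local ring) and
Δ ∈ R. The element Δ is étale-universally prime — meaning that for every prime ideal p of R
containing Δ and every strict henselization T of R_p, the image of Δ in T is a prime element —
exactly when for every smooth R-algebra R', every prime ideal q of R' and every strict henselization
T of R'_q, the image of Δ in T is either invertible or a prime element. (Smooth R-algebras and their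
strict henselizations are taken in the universe of R.) -/
theorem result
    (R : Type u) [CommRing R] [IsNoetherianRing R]
    (hreg : ∀ (p : Ideal R) [p.IsPrime], IsRegularLocalRing (Localization.AtPrime p)) (Δ : R) :
    (∀ (p : Ideal R) [p.IsPrime], Δ ∈ p →
        ∀ (T : Type u) [CommRing T] [IsLocalRing T] [Algebra (Localization.AtPrime p) T]
          [IsLocalHom (algebraMap (Localization.AtPrime p) T)]
          [Hensel.IsStrictHenselization (Localization.AtPrime p) T],
          Prime (algebraMap (Localization.AtPrime p) T (algebraMap R (Localization.AtPrime p) Δ))) ↔
    (∀ (R' : Type u) [CommRing R'] [Algebra R R'] [Algebra.Smooth R R'] (q : Ideal R') [q.IsPrime]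
        (T : Type u) [CommRing T] [IsLocalRing T] [Algebra (Localization.AtPrime q) T]
          [IsLocalHom (algebraMap (Localization.AtPrime q) T)]
          [Hensel.IsStrictHenselization (Localization.AtPrime q) T],
        IsUnit (algebraMap (Localization.AtPrime q) T (algebraMap R' (Localization.AtPrime q) (algebraMap R R' Δ))) ∨
          Prime (algebraMap (Localization.AtPrime q) T (algebraMap R' (Localization.AtPrime q) (algebraMap R R' Δ)))) := by
  constructor
  · intro h R' _ _ _ q _ T _ _ _ _ _
    by_cases hΔ : algebraMap R R' Δ ∈ q
    · right
      haveI : (q.comap (algebraMap R R')).IsPrime := Ideal.comap_isPrime _ _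
      haveI := Groth.Agent.Lib.StrictHens.isStrictHenselization_shens
        (R := Localization.AtPrime (q.comap (algebraMap R R')))
      have h1 := h (q.comap (algebraMap R R')) hΔ
        (Groth.Agent.Lib.StrictHens.SHens (Localization.AtPrime (q.comap (algebraMap R R'))))
      exact Groth.Agent.Lib.SmoothUnibranchH3.prime_of_prime_strict_of_smooth q
        (q.comap (algebraMap R R')) rfl _ T Δ hΔ h1
    · left
      exact ((IsLocalization.AtPrime.isUnit_to_map_iff (Localization.AtPrime q) q _).mpr hΔ).map _
  · intro h p _ hΔp T _ _ _ _ _
    rcases h R p T with hu | hp
    · exfalso
      have h1 : algebraMap R (Localization.AtPrime p) (algebraMap R R Δ) ∈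
          IsLocalRing.maximalIdeal (Localization.AtPrime p) :=
        (IsLocalization.AtPrime.to_map_mem_maximal_iff (Localization.AtPrime p) p _).mpr hΔp
      have h2 := isUnit_of_map_unit (algebraMap (Localization.AtPrime p) T) _ hu
      exact h1 h2
    · exact hp

end Groth.Agent.S13202
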