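import Groth.Statements.S13206
import Mathlib

set_option autoImplicit false
universe u
open CategoryTheory AlgebraicGeometry
open AlgGrp

namespace Groth.Agent.S13206

/-- Let X → S be a separated morphism of schemes and let a finite group G act on X through
S-automorphisms. Then the functor of G-fixed points is represented by a closed subscheme of X: there
are a scheme Z and a closed immersion i : Z → X with i ∘ g = i for all g ∈ G such that every
morphism x : T → X with g ∘ x = x for all g ∈ G factors uniquely through i. (The published statement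
is for an algebraic space X over S, also treats the locally separated case and notes compatibility
with base change; this row is the separated case for schemes.) -/
theorem result
    {X S : Scheme.{u}} (p : X ⟶ S) [IsSeparated p]
    (G : Type u) [Group G] [Finite G] (ρ : G →* Aut X) (hρ : ∀ g : G, (ρ g).hom ≫ p = p) :
    ∃ (Z : Scheme.{u}) (i : Z ⟶ X), IsClosedImmersion i ∧ (∀ g : G, i ≫ (ρ g).hom = i) ∧
      ∀ (T : Scheme.{u}) (x : T ⟶ X), (∀ g : G, x ≫ (ρ g).hom = x) → ∃! z : T ⟶ Z, z ≫ i = x := by
  let X' : Over S := Over.mk p
  haveI : IsSeparated X'.hom := ‹IsSeparated p›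
  let φ : G → (X' ⟶ X') := fun g => Over.homMk (ρ g).hom (hρ g)
  let e : ∀ g : G, Limits.equalizer (φ g) (𝟙 X') ⟶ X' := fun g => Limits.equalizer.ι (φ g) (𝟙 X')
  let J : G → X.IdealSheafData := fun g => (e g).left.ker
  let I : X.IdealSheafData := ⨆ g, J g
  have hfac : ∀ (g : G) (T : Scheme.{u}) (x : T ⟶ X), x ≫ (ρ g).hom = x → J g ≤ x.ker := by
    intro g T x hx
    let x' : Over.mk (x ≫ p) ⟶ X' := Over.homMk x rfl
    have hx' : x' ≫ φ g = x' ≫ 𝟙 X' := by
      ext
      change x ≫ (ρ g).hom = x ≫ 𝟙 X
      rw [hx, Category.comp_id]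
    have h1 : (Limits.equalizer.lift x' hx').left ≫ (e g).left = x := by
      rw [← Over.comp_left, Limits.equalizer.lift_ι]
      rfl
    have := Scheme.Hom.le_ker_comp (Limits.equalizer.lift x' hx').left (e g).left
    rwa [h1] at this
  refine ⟨I.subscheme, I.subschemeι, inferInstance, ?_, ?_⟩
  · intro g
    have hle : (e g).left.ker ≤ I.subschemeι.ker := by
      rw [Scheme.IdealSheafData.ker_subschemeι]
      exact le_iSup J g
    have hl := IsClosedImmersion.lift_fac (e g).left I.subschemeι hle
    have hc : (e g).left ≫ (ρ g).hom = (e g).left := by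
      have h2 : (e g ≫ φ g).left = (e g ≫ 𝟙 X').left :=
        congrArg CommaMorphism.left (Limits.equalizer.condition (φ g) (𝟙 X'))
      rw [Over.comp_left, Category.comp_id] at h2
      exact h2
    rw [← hl, Category.assoc, hc]
  · intro T x hx
    have hle : I.subschemeι.ker ≤ x.ker := by
      rw [Scheme.IdealSheafData.ker_subschemeι]
      exact iSup_le fun g => hfac g T x (hx g)
    refine ⟨IsClosedImmersion.lift I.subschemeι x hle, IsClosedImmersion.lift_fac _ _ _, ?_⟩
    intro z hz
    rw [← cancel_mono I.subschemeι, hz, IsClosedImmersion.lift_fac]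

end Groth.Agent.S13206
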