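import Groth.Statements.S1323
import Groth.Agent.Lib.Nil4_helper8

set_option autoImplicit false
universe u
open FlatMor

namespace Groth.Agent.S1323

open AlgebraicGeometry CategoryTheory Limits in
/-- Let S ⟶ S' be a finite order thickening, let X' ⟶ Y' be a morphism of schemes over S' with X' flat
over S', and let X ⟶ Y be its base change to S. Then X ⟶ Y is finite locally free of rank d if and
only if X' ⟶ Y' is. -/
theorem result (d : ℕ) {X X' Y Y' S S' : Scheme.{u}} (iX : X ⟶ X') (iY : Y ⟶ Y') (iS : S ⟶ S')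
    (f : X ⟶ Y) (f' : X' ⟶ Y') (g : Y ⟶ S) (g' : Y' ⟶ S')
    (hS : MoreMor.IsFiniteOrderThickening iS) (hcX : IsPullback iX (f ≫ g) (f' ≫ g') iS) (hcY : IsPullback iY g g' iS)
    (w : iX ≫ f' = f ≫ iY) [Flat (f' ≫ g')] :
    Mor2.IsFinLocFreeOfDeg d f ↔ Mor2.IsFinLocFreeOfDeg d f' := by
  have htop := NilH8.isPullback_top hcX hcY w
  have hYthick := NilH8.isFiniteOrderThickening_of_isPullback hS hcY
  haveI := hYthick.1.1
  haveI := hYthick.1.2
  constructor
  · rintro ⟨⟨hfin, hflat, hfp⟩, hrank⟩
    haveI := hfin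
    haveI : Flat f' := NilH8.flat_of_finiteOrderThickening hS hcX hcY w hflat
    haveI : LocallyOfFinitePresentation f' :=
      NilH8.locallyOfFinitePresentation_of_finiteOrderThickening hS hcX hcY w hfp
    haveI : IsFinite f' := NilH8.isFinite_of_thickenings iX iY f f' hYthick.1 htop
    refine ⟨⟨inferInstance, inferInstance, inferInstance⟩, fun y' => ?_⟩
    obtain ⟨y, rfl⟩ := iY.surjective y'
    rw [← Scheme.Hom.finrank_of_isPullback iX f f' iY htop y]
    exact hrank y
  · rintro ⟨⟨hfin, hflat, hfp⟩, hrank⟩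
    haveI := hfin
    haveI := hflat
    refine ⟨⟨MorphismProperty.of_isPullback (P := @IsFinite) htop hfin,
      MorphismProperty.of_isPullback (P := @Flat) htop hflat,
      MorphismProperty.of_isPullback (P := @LocallyOfFinitePresentation) htop hfp⟩, fun y => ?_⟩
    rw [Scheme.Hom.finrank_of_isPullback iX f f' iY htop y]
    exact hrank (iY y)

end Groth.Agent.S1323
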