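import Groth.Statements.S13360
import Mathlib

set_option autoImplicit false
universe u
open UltraProd

namespace Groth.Agent.S13360

section Ultra
variable {ι : Type u} (R : ι → Type u) [∀ i, CommRing (R i)] [∀ i, IsDomain (R i)]
  (P : Ideal (∀ i, R i)) [hP : P.IsPrime]

open Classical in
/-- indicator idempotent of a subset of the index set -/
noncomputable def ind (S : Set ι) : ∀ i, R i := fun i => if i ∈ S then 1 else 0

/-- the ultrafilter attached to a prime of the product -/
def U : Set (Set ι) := {S | ind R S ∉ P}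

omit [∀ i, IsDomain (R i)] in
theorem ind_mul_compl (S : Set ι) : ind R S * ind R Sᶜ = 0 := by
  funext i
  by_cases hi : i ∈ S <;> simp [ind, hi]

omit [∀ i, IsDomain (R i)] in
theorem ind_add_compl (S : Set ι) : ind R S + ind R Sᶜ = 1 := by
  funext i
  by_cases hi : i ∈ S <;> simp [ind, hi]

omit [∀ i, IsDomain (R i)] in
theorem ind_inter (S T : Set ι) : ind R (S ∩ T) = ind R S * ind R T := by
  funext i
  by_cases hi : i ∈ S <;> by_cases hj : i ∈ T <;> simp [ind, hi, hj]

omit [∀ i, IsDomain (R i)] in
include hP in
theorem U_or (S : Set ι) : S ∈ U R P ∨ Sᶜ ∈ U R P := by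
  by_contra hcon
  push Not at hcon
  have h1 : ind R S ∈ P := by
    by_contra h; exact hcon.1 h
  have h2 : ind R Sᶜ ∈ P := by
    by_contra h; exact hcon.2 h
  have := P.add_mem h1 h2
  rw [ind_add_compl] at this
  exact hP.ne_top ((Ideal.eq_top_iff_one P).2 this)

omit [∀ i, IsDomain (R i)] hP in
theorem U_mono {S T : Set ι} (h : S ⊆ T) (hS : S ∈ U R P) : T ∈ U R P := by
  intro hT
  apply hS
  have : ind R S = ind R S * ind R T := by
    rw [← ind_inter, Set.inter_eq_left.2 h]
  rw [this]
  exact P.mul_mem_left _ hT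

omit [∀ i, IsDomain (R i)] in
include hP in
theorem U_inter {S T : Set ι} (hS : S ∈ U R P) (hT : T ∈ U R P) : S ∩ T ∈ U R P := by
  intro h
  rw [ind_inter] at h
  rcases hP.mem_or_mem h with h | h
  · exact hS h
  · exact hT h

include hP in
theorem map_eq_zero_iff' (a : ∀ i, R i) :
    algebraMap (∀ i, R i) (Localization.AtPrime P) a = 0 ↔ {i | a i = 0} ∈ U R P := by
  rw [IsLocalization.map_eq_zero_iff P.primeCompl]
  constructor
  · rintro ⟨⟨m, hm⟩, hma⟩
    have hm' : m ∉ P := hm
    have hsub : {i | m i = 0}ᶜ ⊆ {i | a i = 0} := by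
      intro i hi
      have := congrFun hma i
      simp only [Pi.mul_apply, Pi.zero_apply, mul_eq_zero] at this
      rcases this with h | h
      · exact absurd h hi
      · exact h
    apply U_mono R P hsub
    rcases U_or R P {i | m i = 0} with h | h
    · exfalso
      have h0 : ind R {i | m i = 0} * m = 0 := by
        funext i
        by_cases hi : m i = 0 <;> simp [ind, hi]
      have : ind R {i | m i = 0} * m ∈ P := by rw [h0]; exact P.zero_mem
      rcases hP.mem_or_mem this with h' | h'
      · exact h h'
      · exact hm' h'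
    · exact h
  · intro h
    refine ⟨⟨ind R {i | a i = 0}, h⟩, ?_⟩
    funext i
    by_cases hi : a i = 0 <;> simp [ind, hi]

include hP in
theorem mk'_eq_zero_iff' (a : ∀ i, R i) (s : P.primeCompl) :
    IsLocalization.mk' (Localization.AtPrime P) a s = 0 ↔ {i | a i = 0} ∈ U R P := by
  rw [← map_eq_zero_iff' R P a, IsLocalization.mk'_eq_zero_iff, IsLocalization.map_eq_zero_iff P.primeCompl]

include hP in
theorem isDomain_loc : IsDomain (Localization.AtPrime P) := by
  haveI : NoZeroDivisors (Localization.AtPrime P) := by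
    constructor
    intro x y hxy
    obtain ⟨a, s, rfl⟩ := IsLocalization.exists_mk'_eq P.primeCompl x
    obtain ⟨b, s', rfl⟩ := IsLocalization.exists_mk'_eq P.primeCompl y
    rw [← IsLocalization.mk'_mul, mk'_eq_zero_iff'] at hxy
    rw [mk'_eq_zero_iff', mk'_eq_zero_iff']
    rcases U_or R P {i | a i = 0} with h | h
    · exact Or.inl h
    · right
      refine U_mono R P ?_ (U_inter R P h hxy)
      rintro i ⟨hi1, hi2⟩
      simp only [Set.mem_ofPred_eq, Pi.mul_apply, mul_eq_zero] at hi2
      rcases hi2 with h' | h'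
      · exact absurd h' hi1
      · exact h'
  exact NoZeroDivisors.to_isDomain _

end Ultra

/-- If (R_i) is a nonempty family of valuation rings, then the localization of the product ring ∏ R_i at
any prime ideal is a valuation ring: a domain in which, of any two elements, one divides the other. -/
theorem result {ι : Type u} [Nonempty ι] (R : ι → Type u)
    [∀ i, CommRing (R i)] [∀ i, IsDomain (R i)] [∀ i, ValuationRing (R i)]
    (P : Ideal (∀ i, R i)) [P.IsPrime] :
    IsDomain (Localization.AtPrime P) ∧ PreValuationRing (Localization.AtPrime P) := by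
  classical
  refine ⟨isDomain_loc R P, ⟨?_⟩⟩
  intro x y
  obtain ⟨a, s, rfl⟩ := IsLocalization.exists_mk'_eq P.primeCompl x
  obtain ⟨b, s', rfl⟩ := IsLocalization.exists_mk'_eq P.primeCompl y
  -- helper: if b = a * r on a set of U then mk' b s' = mk' a s * c
  have key : ∀ (a b : ∀ i, R i) (s s' : P.primeCompl), {i | a i ∣ b i} ∈ U R P →
      ∃ c : Localization.AtPrime P, IsLocalization.mk' (Localization.AtPrime P) a s * c =
        IsLocalization.mk' (Localization.AtPrime P) b s' := by
    intro a b s s' hS
    have hch : ∀ i, ∃ r : R i, a i ∣ b i → b i = a i * r := by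
      intro i
      by_cases h : a i ∣ b i
      · obtain ⟨r, hr⟩ := h
        exact ⟨r, fun _ => hr⟩
      · exact ⟨0, fun h' => absurd h' h⟩
    choose r hr using hch
    have hz : algebraMap (∀ i, R i) (Localization.AtPrime P) (b - a * r) = 0 := by
      rw [map_eq_zero_iff' R P]
      refine U_mono R P ?_ hS
      intro i hi
      simp only [Set.mem_ofPred_eq, Pi.sub_apply, Pi.mul_apply]
      rw [hr i hi, sub_self]
    rw [map_sub, sub_eq_zero, map_mul] at hz
    refine ⟨IsLocalization.mk' (Localization.AtPrime P) (r * (s : ∀ i, R i)) s', ?_⟩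
    rw [← IsLocalization.mk'_mul, IsLocalization.mk'_eq_iff_eq_mul]
    have h1 : IsLocalization.mk' (Localization.AtPrime P) b s' *
        (algebraMap (∀ i, R i) (Localization.AtPrime P)) ((s * s' : P.primeCompl) : ∀ i, R i) =
        algebraMap (∀ i, R i) (Localization.AtPrime P) b *
          algebraMap (∀ i, R i) (Localization.AtPrime P) (s : ∀ i, R i) := by
      rw [Submonoid.coe_mul, map_mul, mul_comm (algebraMap _ _ (s : ∀ i, R i)), ← mul_assoc,
        IsLocalization.mk'_spec]
    rw [h1, hz, map_mul, map_mul]
    ring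
  rcases U_or R P {i | a i ∣ b i} with h | h
  · obtain ⟨c, hc⟩ := key a b s s' h
    exact ⟨c, Or.inl hc⟩
  · have h' : {i | b i ∣ a i} ∈ U R P := by
      refine U_mono R P ?_ h
      intro i hi
      rcases ValuationRing.dvd_total (a i) (b i) with h1 | h1
      · exact absurd h1 hi
      · exact h1
    obtain ⟨c, hc⟩ := key b a s' s h'
    exact ⟨c, Or.inr hc⟩

end Groth.Agent.S13360
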