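import Groth.Statements.S13359
import Mathlib
import Groth.Agent.S13360

set_option autoImplicit false
universe u
open UltraProd

namespace Groth.Agent.S13359

open Polynomial in
/-- fraction-free form of integral closedness -/
theorem dvd_of_homogeneous_monic {D : Type*} [CommRing D] [IsDomain D] [IsIntegrallyClosed D]
    (q : D[X]) (hq : q.Monic) (α β : D) (hβ : β ≠ 0)
    (h : ∑ j ∈ Finset.range (q.natDegree + 1), q.coeff j * α ^ j * β ^ (q.natDegree - j) = 0) :
    β ∣ α := by
  have hβ' : algebraMap D (FractionRing D) β ≠ 0 := by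
    rwa [Ne, map_eq_zero_iff _ (IsFractionRing.injective D (FractionRing D))]
  set y : (FractionRing D) := algebraMap D (FractionRing D) α / algebraMap D (FractionRing D) β with hy
  have hint : IsIntegral D y := by
    refine ⟨q, hq, ?_⟩
    rw [← aeval_def, aeval_eq_sum_range]
    have h1 : (∑ j ∈ Finset.range (q.natDegree + 1), q.coeff j • y ^ j) *
        (algebraMap D (FractionRing D) β) ^ q.natDegree = 0 := by
      rw [Finset.sum_mul]
      rw [← map_zero (algebraMap D (FractionRing D)), ← h, map_sum]
      apply Finset.sum_congr rfl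
      intro j hj
      rw [Finset.mem_range] at hj
      have hjn : q.natDegree = j + (q.natDegree - j) := by omega
      rw [Algebra.smul_def, map_mul, map_mul, map_pow, map_pow, hy, div_pow]
      have hkey : ∀ (c a b : FractionRing D), b ≠ 0 →
          c * (a ^ j / b ^ j) * b ^ q.natDegree = c * a ^ j * b ^ (q.natDegree - j) := by
        intro c a b hb
        conv_lhs => rw [hjn, pow_add]
        have hbj : b ^ j ≠ 0 := pow_ne_zero j hb
        field_simp
      exact hkey _ _ _ hβ'
    rcases mul_eq_zero.1 h1 with h2 | h2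
    · exact h2
    · exact absurd h2 (pow_ne_zero _ hβ')
  obtain ⟨r, hr⟩ := (IsIntegrallyClosed.isIntegral_iff (R := D) (K := (FractionRing D))).1 hint
  refine ⟨r, ?_⟩
  apply IsFractionRing.injective D (FractionRing D)
  rw [map_mul, hr, hy, mul_div_cancel₀ _ hβ']

/-- If (R_i) is a nonempty family of integrally closed domains, then the localization of the product
ring ∏ R_i at any prime ideal is an integrally closed domain. -/
theorem result {ι : Type u} [Nonempty ι] (R : ι → Type u)
    [∀ i, CommRing (R i)] [∀ i, IsDomain (R i)] [∀ i, IsIntegrallyClosed (R i)]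
    (P : Ideal (∀ i, R i)) [P.IsPrime] :
    IsDomain (Localization.AtPrime P) ∧ IsIntegrallyClosed (Localization.AtPrime P) := by
  classical
  haveI hdom : IsDomain (Localization.AtPrime P) := Groth.Agent.S13360.isDomain_loc R P
  refine ⟨hdom, ?_⟩
  rw [isIntegrallyClosed_iff (FractionRing (Localization.AtPrime P))]
  intro x hx
  -- notation
  set ι : (∀ i, R i) →+* Localization.AtPrime P := algebraMap _ _ with hι
  set ιL : Localization.AtPrime P →+* FractionRing (Localization.AtPrime P) := algebraMap _ _ with hιL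
  have hιLinj : Function.Injective ιL := IsFractionRing.injective _ _
  -- write x as a quotient of images of elements of the product
  obtain ⟨α, β, hβ, rfl⟩ := IsFractionRing.div_surjective (A := Localization.AtPrime P) x
  obtain ⟨a, s, rfl⟩ := IsLocalization.exists_mk'_eq P.primeCompl α
  obtain ⟨b, s', rfl⟩ := IsLocalization.exists_mk'_eq P.primeCompl β
  have hsu : IsUnit (ι (s : ∀ i, R i)) := IsLocalization.map_units _ s
  have hs'u : IsUnit (ι (s' : ∀ i, R i)) := IsLocalization.map_units _ s'
  have hb0 : ι b ≠ 0 := by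
    intro hb
    have : IsLocalization.mk' (Localization.AtPrime P) b s' = 0 := by
      rw [IsLocalization.mk'_eq_zero_iff]
      exact (IsLocalization.map_eq_zero_iff P.primeCompl _ b).1 hb
    exact (nonZeroDivisors.ne_zero hβ) this
  -- a multiple of x integral over the product
  obtain ⟨t, ht⟩ := IsIntegral.exists_multiple_integral_of_isLocalization P.primeCompl _ hx
  obtain ⟨q, hqm, hq0⟩ := ht
  -- the numerator and denominator at the level of the product
  set a₁ : ∀ i, R i := (t : ∀ i, R i) * a * (s' : ∀ i, R i) with ha₁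
  set b₁ : ∀ i, R i := b * (s : ∀ i, R i) with hb₁
  have hb₁0 : ι b₁ ≠ 0 := by
    rw [hb₁, map_mul]; exact mul_ne_zero hb0 hsu.ne_zero
  have hb₁K : ιL (ι b₁) ≠ 0 := fun h => hb₁0 (hιLinj (by rw [h, map_zero]))
  have hz : (t • (ιL (IsLocalization.mk' (Localization.AtPrime P) a s) /
      ιL (IsLocalization.mk' (Localization.AtPrime P) b s'))) = ιL (ι a₁) / ιL (ι b₁) := by
    rw [Submonoid.smul_def, Algebra.smul_def, IsScalarTower.algebraMap_apply (∀ i, R i)
      (Localization.AtPrime P) (FractionRing (Localization.AtPrime P))]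
    have h1 : ι a = IsLocalization.mk' (Localization.AtPrime P) a s * ι (s : ∀ i, R i) :=
      (IsLocalization.mk'_spec _ a s).symm
    have h2 : ι b = IsLocalization.mk' (Localization.AtPrime P) b s' * ι (s' : ∀ i, R i) :=
      (IsLocalization.mk'_spec _ b s').symm
    have hsK : ιL (ι (s : ∀ i, R i)) ≠ 0 := fun h => hsu.ne_zero (hιLinj (by rw [h, map_zero]))
    have hs'K : ιL (ι (s' : ∀ i, R i)) ≠ 0 := fun h => hs'u.ne_zero (hιLinj (by rw [h, map_zero]))
    have hβK : ιL (IsLocalization.mk' (Localization.AtPrime P) b s') ≠ 0 := by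
      intro h
      exact (nonZeroDivisors.ne_zero hβ) (hιLinj (by rw [h, map_zero]))
    rw [← hιL, ← hι, ha₁, hb₁]
    simp only [map_mul]
    rw [h1, h2]
    simp only [map_mul]
    field_simp
  rw [hz] at hq0
  -- the homogeneous relation
  set H : ∀ i, R i := ∑ j ∈ Finset.range (q.natDegree + 1),
    q.coeff j * a₁ ^ j * b₁ ^ (q.natDegree - j) with hH
  have hH0 : ι H = 0 := by
    apply hιLinj
    rw [map_zero]
    rw [← Polynomial.aeval_def, Polynomial.aeval_eq_sum_range] at hq0
    have h1 : (∑ j ∈ Finset.range (q.natDegree + 1), q.coeff j • (ιL (ι a₁) / ιL (ι b₁)) ^ j) *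
        (ιL (ι b₁)) ^ q.natDegree = 0 := by rw [hq0, zero_mul]
    rw [← h1, Finset.sum_mul, hH, map_sum, map_sum]
    apply Finset.sum_congr rfl
    intro j hj
    rw [Finset.mem_range] at hj
    have hjn : q.natDegree = j + (q.natDegree - j) := by omega
    rw [Algebra.smul_def, IsScalarTower.algebraMap_apply (∀ i, R i)
      (Localization.AtPrime P) (FractionRing (Localization.AtPrime P)),
      map_mul, map_mul, map_pow, map_pow, map_mul, map_mul, map_pow, map_pow, div_pow]
    have hkey : ∀ (c u v : FractionRing (Localization.AtPrime P)), v ≠ 0 →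
        c * u ^ j * v ^ (q.natDegree - j) = c * (u ^ j / v ^ j) * v ^ q.natDegree := by
      intro c u v hv
      conv_rhs => rw [hjn, pow_add]
      have hvj : v ^ j ≠ 0 := pow_ne_zero j hv
      field_simp
    exact hkey _ _ _ hb₁K
  have hZH : {i | H i = 0} ∈ Groth.Agent.S13360.U R P :=
    (Groth.Agent.S13360.map_eq_zero_iff' R P H).1 hH0
  have hZb : {i | b₁ i = 0}ᶜ ∈ Groth.Agent.S13360.U R P := by
    rcases Groth.Agent.S13360.U_or R P {i | b₁ i = 0} with h | h
    · exact absurd ((Groth.Agent.S13360.map_eq_zero_iff' R P b₁).2 h) hb₁0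
    · exact h
  -- componentwise divisibility
  have hdvd : ∀ i, i ∈ {i | H i = 0} ∩ {i | b₁ i = 0}ᶜ → b₁ i ∣ a₁ i := by
    rintro i ⟨hi1, hi2⟩
    have hqi : (q.map (Pi.evalRingHom R i)).Monic := hqm.map _
    have hdeg : (q.map (Pi.evalRingHom R i)).natDegree = q.natDegree := hqm.natDegree_map _
    apply dvd_of_homogeneous_monic (q.map (Pi.evalRingHom R i)) hqi (a₁ i) (b₁ i) hi2
    rw [hdeg]
    have := hi1
    simp only [Set.mem_ofPred_eq, hH, Finset.sum_apply, Pi.mul_apply, Pi.pow_apply] at this
    simpa [Polynomial.coeff_map] using this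
  have hch : ∀ i, ∃ r : R i, b₁ i ∣ a₁ i → a₁ i = b₁ i * r := by
    intro i
    by_cases h : b₁ i ∣ a₁ i
    · obtain ⟨r, hr⟩ := h
      exact ⟨r, fun _ => hr⟩
    · exact ⟨0, fun h' => absurd h' h⟩
  choose r hr using hch
  have hrel : ι a₁ = ι b₁ * ι r := by
    rw [← map_mul, ← sub_eq_zero, ← map_sub, Groth.Agent.S13360.map_eq_zero_iff' R P]
    refine Groth.Agent.S13360.U_mono R P ?_ (Groth.Agent.S13360.U_inter R P hZH hZb)
    intro i hi
    simp only [Set.mem_ofPred_eq, Pi.sub_apply, Pi.mul_apply]
    rw [hr i (hdvd i hi), sub_self]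
  -- conclude
  refine ⟨IsLocalization.mk' (Localization.AtPrime P) r t, ?_⟩
  have hβK : ιL (IsLocalization.mk' (Localization.AtPrime P) b s') ≠ 0 := by
    intro h
    exact (nonZeroDivisors.ne_zero hβ) (hιLinj (by rw [h, map_zero]))
  rw [eq_div_iff hβK, ← map_mul]
  apply congrArg ιL
  rw [← IsLocalization.mk'_mul, IsLocalization.mk'_eq_iff_eq]
  rw [ha₁, hb₁] at hrel
  simp only [map_mul] at hrel
  simp only [Submonoid.coe_mul, map_mul]
  rw [← hι]
  linear_combination (-1 : Localization.AtPrime P) * hrel

end Groth.Agent.S13359
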