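import Groth.Statements.S13361
import Groth.Agent.Lib.EssentialElt_helper2

set_option autoImplicit false
universe u
open ProCompl

namespace Groth.Agent.S13361

/-- A finite abelian group with a nonzero element contained in every nonzero subgroup is isomorphic to a
cyclic group of prime-power order Z/p^n. -/
theorem result {A : Type u} [AddCommGroup A] [Finite A]
    (a : A) (ha : a ≠ 0) (h : ∀ B : AddSubgroup A, B ≠ ⊥ → a ∈ B) :
    ∃ p n : ℕ, p.Prime ∧ Nonempty (A ≃+ ZMod (p ^ n)) := by
  haveI : Fintype A := Fintype.ofFinite A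
  letI : DecidableEq A := Classical.decEq A
  have hmem := Groth.Agent.Lib.EssentialElt.mem_zmultiples_of_prime_nsmul_eq_zero a ha h
  have hzne : ∀ y : A, y ≠ 0 → a ∈ AddSubgroup.zmultiples y := fun y hy =>
    h _ (by rw [Ne, AddSubgroup.zmultiples_eq_bot]; exact hy)
  have Hq : ∀ q : ℕ, q.Prime → (Finset.univ.filter (fun x : A => q • x = 0)).card ≤ q := by
    intro q hq
    have hqpos : (0 : ℤ) < q := by exact_mod_cast hq.pos
    by_cases hex : ∃ y : A, y ≠ 0 ∧ q • y = 0
    · obtain ⟨y, hy0, hqy⟩ := hex
      have hya : a ∈ AddSubgroup.zmultiples y := hzne y hy0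
      have hsub : Finset.univ.filter (fun x : A => q • x = 0) ⊆
          (Finset.range q).image (fun j : ℕ => j • y) := by
        intro x hx
        simp only [Finset.mem_filter, Finset.mem_univ, true_and] at hx
        have hxa := hmem q hq x hx
        have hxy : x ∈ AddSubgroup.zmultiples y := (AddSubgroup.zmultiples_le.2 hya) hxa
        obtain ⟨k, rfl⟩ := AddSubgroup.mem_zmultiples_iff.1 hxy
        have hnn := Int.emod_nonneg k hqpos.ne'
        have hlt := Int.emod_lt_of_pos k hqpos
        refine Finset.mem_image.2 ⟨(k % q).toNat, Finset.mem_range.2 (by omega), ?_⟩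
        have h1 : ((k % q).toNat : ℤ) = k % q := Int.toNat_of_nonneg hnn
        show (k % (q : ℤ)).toNat • y = k • y
        rw [← natCast_zsmul, h1]
        have h2 : k = k % q + (k / q) * q := by
          have := Int.emod_add_mul_ediv k q
          linarith
        conv_rhs => rw [h2]
        rw [add_smul, mul_smul, natCast_zsmul, hqy, smul_zero, add_zero]
      calc (Finset.univ.filter (fun x : A => q • x = 0)).card
          ≤ ((Finset.range q).image (fun j : ℕ => j • y)).card := Finset.card_le_card hsub
        _ ≤ (Finset.range q).card := Finset.card_image_le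
        _ = q := Finset.card_range q
    · push Not at hex
      have hsub : Finset.univ.filter (fun x : A => q • x = 0) ⊆ {0} := by
        intro x hx
        simp only [Finset.mem_filter, Finset.mem_univ, true_and] at hx
        rw [Finset.mem_singleton]
        by_contra hx0
        exact hex x hx0 hx
      calc (Finset.univ.filter (fun x : A => q • x = 0)).card
          ≤ ({0} : Finset A).card := Finset.card_le_card hsub
        _ = 1 := Finset.card_singleton 0
        _ ≤ q := hq.one_lt.le
  have hcyc : IsAddCyclic A :=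
    isAddCyclic_of_card_nsmul_eq_zero_le (Groth.Agent.Lib.EssentialElt.card_nsmul_eq_zero_le Hq)
  have hcard_pos : Nat.card A ≠ 0 := Nat.card_pos.ne'
  have hnontriv : Nat.card A ≠ 1 := by
    intro h1
    haveI := (Nat.card_eq_one_iff_unique.1 h1).1
    exact ha (Subsingleton.elim _ _)
  obtain ⟨p, hp, hpdvd⟩ := Nat.exists_prime_and_dvd hnontriv
  have hkill : ∀ d : ℕ, d.Prime → d ∣ Nat.card A → d • a = 0 := by
    intro d hd hdd
    haveI := Fact.mk hd
    obtain ⟨x, hx⟩ := exists_prime_addOrderOf_dvd_card' (G := A) d hdd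
    have hx0 : x ≠ 0 := by
      rintro rfl
      rw [addOrderOf_zero] at hx
      exact hd.one_lt.ne hx
    obtain ⟨k, hk⟩ := AddSubgroup.mem_zmultiples_iff.1 (hzne x hx0)
    rw [← hk, ← natCast_zsmul, smul_comm, natCast_zsmul, ← hx, addOrderOf_nsmul_eq_zero, smul_zero]
  have huniq : ∀ {d : ℕ}, d.Prime → d ∣ Nat.card A → d = p := by
    intro d hd hdd
    by_contra hne
    have hda := hkill d hd hdd
    have hpa := hkill p hp hpdvd
    have hcop : Nat.Coprime d p := (Nat.coprime_primes hd hp).2 hne
    have h1 := addOrderOf_dvd_of_nsmul_eq_zero hda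
    have h2 := addOrderOf_dvd_of_nsmul_eq_zero hpa
    have h3 := Nat.dvd_gcd h1 h2
    rw [hcop.gcd_eq_one] at h3
    exact ha (AddMonoid.addOrderOf_eq_one_iff.1 (Nat.dvd_one.1 h3))
  obtain ⟨m, hm⟩ : ∃ m, Nat.card A = p ^ m :=
    ⟨_, Nat.eq_prime_pow_of_unique_prime_dvd hcard_pos huniq⟩
  exact ⟨p, m, hp, ⟨hm ▸ (zmodAddCyclicAddEquiv hcyc).symm⟩⟩

end Groth.Agent.S13361
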