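import Groth.Statements.S13362
import Groth.Agent.Lib.EssentialElt_helper2

set_option autoImplicit false
universe u
open ProCompl

namespace Groth.Agent.S13362

/-- An abelian group of finite exponent having a nonzero element contained in every nonzero subgroup is
finite. -/
theorem result {A : Type u} [AddCommGroup A]
    (hA : AddMonoid.exponent A ≠ 0) (a : A) (ha : a ≠ 0) (h : ∀ B : AddSubgroup A, B ≠ ⊥ → a ∈ B) :
    Finite A := by
  have he : 0 < AddMonoid.exponent A := Nat.pos_of_ne_zero hA
  have hfin_a : IsOfFinAddOrder a :=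
    isOfFinAddOrder_iff_nsmul_eq_zero.2 ⟨_, he, AddMonoid.exponent_nsmul_eq_zero a⟩
  have hza : (AddSubgroup.zmultiples a : Set A).Finite := finite_zmultiples.2 hfin_a
  have H : ∀ p : ℕ, p.Prime → {x : A | p • x = 0}.Finite := fun p hp =>
    hza.subset (fun x hx =>
      Groth.Agent.Lib.EssentialElt.mem_zmultiples_of_prime_nsmul_eq_zero a ha h p hp x hx)
  have main := Groth.Agent.Lib.EssentialElt.finite_of_nsmul_eq_zero H _ he ⊤
    (fun x _ => AddMonoid.exponent_nsmul_eq_zero x)
  rw [AddSubgroup.coe_top] at main
  exact Set.finite_univ_iff.1 main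

end Groth.Agent.S13362
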