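import Groth.Statements.S13363
import Groth.Agent.S13362
import Mathlib.Topology.Algebra.OpenSubgroup
import Mathlib.Order.Zorn

set_option autoImplicit false
universe u
open ProCompl

namespace Groth.Agent.S13363

/-- Let A be a topological abelian group such that the subgroup n·A is open for each n > 0, and a ∈ A.
Then A has an open subgroup of finite index not containing a if and only if a does not lie in the
subgroup of divisible elements ∩_n nA. -/
theorem result {A : Type u} [AddCommGroup A]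
    [TopologicalSpace A] [IsTopologicalAddGroup A]
    (hn : ∀ n : ℕ, 0 < n → IsOpen (Set.range (fun x : A => n • x))) (a : A) :
    (∃ B : AddSubgroup A, IsOpen (B : Set A) ∧ B.FiniteIndex ∧ a ∉ B) ↔
      ¬ (∀ n : ℕ, 0 < n → ∃ b : A, n • b = a) := by
  constructor
  · rintro ⟨B, _, hBfi, haB⟩ hdiv
    obtain ⟨b, hb⟩ := hdiv B.index (Nat.pos_of_ne_zero hBfi.index_ne_zero)
    exact haB (hb ▸ B.nsmul_index_mem b)
  · intro hnd
    push Not at hnd
    obtain ⟨n, hn0, hna⟩ := hnd
    obtain ⟨nA, hnA⟩ : ∃ nA : AddSubgroup A, nA = (nsmulAddMonoidHom n : A →+ A).range := ⟨_, rfl⟩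
    have hnAo : IsOpen (nA : Set A) := by
      have h1 : (nA : Set A) = Set.range (fun x : A => n • x) := by rw [hnA]; rfl
      rw [h1]
      exact hn n hn0
    have hmemnA : ∀ x : A, n • x ∈ nA := fun x => by rw [hnA]; exact ⟨x, rfl⟩
    have hanA : a ∉ nA := by
      rw [hnA]
      rintro ⟨b, hb⟩
      exact hna b hb
    obtain ⟨B, -, hBmax⟩ := zorn_le_nonempty₀ {C : AddSubgroup A | nA ≤ C ∧ a ∉ C} (by
        intro c hc hchain y hy
        refine ⟨sSup c, ⟨le_trans (hc hy).1 (le_sSup hy), ?_⟩, fun z hz => le_sSup hz⟩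
        intro ha'
        obtain ⟨C, hC, haC⟩ :=
          (AddSubgroup.mem_sSup_of_directedOn ⟨y, hy⟩ hchain.directedOn).1 ha'
        exact (hc hC).2 haC) nA ⟨le_rfl, hanA⟩
    have hBs : nA ≤ B ∧ a ∉ B := hBmax.prop
    have hQexp : AddMonoid.exponent (A ⧸ B) ≠ 0 := by
      rw [AddMonoid.exponent_ne_zero]
      refine ⟨n, hn0, ?_⟩
      intro q
      obtain ⟨x, rfl⟩ := QuotientAddGroup.mk_surjective q
      rw [← QuotientAddGroup.mk_nsmul, QuotientAddGroup.eq_zero_iff]
      exact hBs.1 (hmemnA x)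
    have hane : (a : A ⧸ B) ≠ 0 := by
      rw [Ne, QuotientAddGroup.eq_zero_iff]
      exact hBs.2
    have hess : ∀ C : AddSubgroup (A ⧸ B), C ≠ ⊥ → (a : A ⧸ B) ∈ C := by
      intro C hC
      by_contra haC
      have hle : B ≤ C.comap (QuotientAddGroup.mk' B) := by
        intro x hx
        rw [AddSubgroup.mem_comap]
        have h1 : (QuotientAddGroup.mk' B) x = 0 := (QuotientAddGroup.eq_zero_iff x).2 hx
        rw [h1]
        exact C.zero_mem
      have hB' : nA ≤ C.comap (QuotientAddGroup.mk' B) ∧ a ∉ C.comap (QuotientAddGroup.mk' B) :=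
        ⟨le_trans hBs.1 hle, haC⟩
      have hge := hBmax.le_of_ge hB' hle
      apply hC
      rw [eq_bot_iff]
      intro q hq
      obtain ⟨x, rfl⟩ := QuotientAddGroup.mk_surjective q
      rw [AddSubgroup.mem_bot, QuotientAddGroup.eq_zero_iff]
      exact hge hq
    haveI : Finite (A ⧸ B) := Groth.Agent.S13362.result hQexp (a : A ⧸ B) hane hess
    exact ⟨B, AddSubgroup.isOpen_mono hBs.1 hnAo, AddSubgroup.finiteIndex_of_finite_quotient, hBs.2⟩

end Groth.Agent.S13363
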