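import Groth.Statements.S13365
import Mathlib.Topology.Algebra.OpenSubgroup
import Mathlib.Topology.Separation.Profinite

set_option autoImplicit false
universe u
open ProCompl

namespace Groth.Agent.S13365

/-- The quotient of a profinite (compact, Hausdorff, totally disconnected) abelian topological group by
a compact subgroup is profinite. -/
theorem result {A : Type u} [AddCommGroup A] [TopologicalSpace A]
    [IsTopologicalAddGroup A] [CompactSpace A] [T2Space A] [TotallyDisconnectedSpace A]
    (B : AddSubgroup A) (hB : IsCompact (B : Set A)) :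
    CompactSpace (A ⧸ B) ∧ T2Space (A ⧸ B) ∧ TotallyDisconnectedSpace (A ⧸ B) := by
  haveI hBc : IsClosed (B : Set A) := hB.isClosed
  refine ⟨inferInstance, inferInstance, ?_⟩
  haveI : TotallySeparatedSpace (A ⧸ B) := by
    rw [totallySeparatedSpace_iff_exists_isClopen]
    intro x y hxy
    have hz : y - x ≠ 0 := sub_ne_zero.2 (Ne.symm hxy)
    have hW : IsOpen ((fun a : A => (a : A ⧸ B)) ⁻¹' ({y - x}ᶜ : Set (A ⧸ B))) :=
      (isClosed_singleton.isOpen_compl).preimage QuotientAddGroup.continuous_mk
    have h0 : (0 : A) ∈ (fun a : A => (a : A ⧸ B)) ⁻¹' ({y - x}ᶜ : Set (A ⧸ B)) := by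
      simp only [Set.mem_preimage, Set.mem_compl_iff, Set.mem_singleton_iff]
      rw [QuotientAddGroup.mk_zero]
      exact fun h => hz h.symm
    obtain ⟨V, hV, h0V, hVW⟩ := compact_exists_isClopen_in_isOpen hW h0
    obtain ⟨H, hH⟩ := IsTopologicalAddGroup.exist_openAddSubgroup_sub_clopen_nhds_of_zero hV h0V
    let V' : AddSubgroup (A ⧸ B) := (H : AddSubgroup A).map (QuotientAddGroup.mk' B)
    have hV'open : IsOpen (V' : Set (A ⧸ B)) := by
      have h1 : (V' : Set (A ⧸ B)) = (fun a : A => (a : A ⧸ B)) '' (H : Set A) := rfl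
      rw [h1]
      exact QuotientAddGroup.isOpenMap_coe _ H.isOpen
    have hV'clopen : IsClopen (V' : Set (A ⧸ B)) :=
      ⟨AddSubgroup.isClosed_of_isOpen V' hV'open, hV'open⟩
    have hzV' : y - x ∉ V' := by
      rintro ⟨a, ha, haz⟩
      have h2 := hVW (hH ha)
      simp only [Set.mem_preimage, Set.mem_compl_iff, Set.mem_singleton_iff] at h2
      exact h2 haz
    refine ⟨(fun w => w - x) ⁻¹' (V' : Set (A ⧸ B)),
      hV'clopen.preimage (continuous_id.sub continuous_const), ?_, ?_⟩
    · simp only [Set.mem_preimage, sub_self]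
      exact V'.zero_mem
    · simp only [Set.mem_compl_iff, Set.mem_preimage]
      exact hzV'
  infer_instance

end Groth.Agent.S13365
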