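import Groth.Statements.S13368
import Groth.Agent.Lib.DVRpBasis_helper3
-- import your own Groth.Agent.* helpers here

set_option autoImplicit false
universe u
open GaDual
set_option maxSynthPendingDepth 3

namespace Groth.Agent.S13368

/-- Let R be a discrete valuation ring of prime characteristic p whose fraction field k has degree p
over its subfield k^p of p-th powers, and π a uniformizer. Then every element of R is, in a unique
way, a sum of π^i c_i^p over 0 ≤ i < p with c_i in R, and the Kähler differentials of R (absolute,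
i.e. over the integers, equivalently over the prime field) form a free module of rank one generated
by dπ. -/
theorem result (p : ℕ) [Fact p.Prime] {R : Type u} [CommRing R]
    [IsDomain R] [IsDiscreteValuationRing R] [CharP R p]
    (kp : Subfield (FractionRing R)) (hkp : ∀ x : FractionRing R, x ∈ kp ↔ ∃ y : FractionRing R, y ^ p = x)
    (hdeg : Module.finrank kp (FractionRing R) = p)
    (π : R) (hπ : Irreducible π) :
    (∀ r : R, ∃! c : Fin p → R, r = ∑ i : Fin p, π ^ (i : ℕ) * c i ^ p) ∧
      Function.Bijective (fun r : R => r • KaehlerDifferential.D ℤ R π) := by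
  classical
  have hp : p.Prime := Fact.out
  have hp0 : 0 < p := hp.pos
  set K := FractionRing R with hK
  haveI : CharP K p := charP_of_injective_algebraMap (IsFractionRing.injective R K) p
  have hinj : Function.Injective (algebraMap R K) := IsFractionRing.injective R K
  -- clearing denominators for p-th roots
  have clear : ∀ g : Fin p → kp, ∃ (d : R) (c : Fin p → R), d ≠ 0 ∧
      ∀ i, (algebraMap R K (c i)) ^ p = (algebraMap R K d) ^ p * (g i : K) := by
    intro g
    have hy : ∀ i, ∃ y : K, y ^ p = (g i : K) := fun i => (hkp _).1 (g i).2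
    choose y hy using hy
    obtain ⟨b, hb⟩ := IsLocalization.exist_integer_multiples_of_finite (nonZeroDivisors R) y
    choose c hc using hb
    refine ⟨(b : R), c, nonZeroDivisors.coe_ne_zero b, fun i => ?_⟩
    rw [hc i, Algebra.smul_def, mul_pow, hy]
  -- key sum identity
  have hsum : ∀ (g : Fin p → kp) (d : R) (c : Fin p → R),
      (∀ i, (algebraMap R K (c i)) ^ p = (algebraMap R K d) ^ p * (g i : K)) →
      algebraMap R K (∑ i : Fin p, π ^ (i : ℕ) * c i ^ p) =
        (algebraMap R K d) ^ p * ∑ i : Fin p, g i • (algebraMap R K π) ^ (i : ℕ) := by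
    intro g d c h
    rw [map_sum, Finset.mul_sum]
    refine Finset.sum_congr rfl fun i _ => ?_
    rw [map_mul, map_pow, map_pow, h i, Subfield.smul_def]
    ring
  -- linear independence
  have hli : LinearIndependent kp (fun i : Fin p => (algebraMap R K π) ^ (i : ℕ)) := by
    rw [Fintype.linearIndependent_iff]
    intro g hg i
    obtain ⟨d, c, hd, hc⟩ := clear g
    have h1 := hsum g d c hc
    rw [hg, mul_zero] at h1
    have h2 : ∑ i : Fin p, π ^ (i : ℕ) * c i ^ p = 0 := hinj (by rw [h1, map_zero])
    have h3 := Groth.Agent.Lib.DVRpH3.eq_zero_of_sum_eq_zero p hp0 hπ c h2 i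
    have h4 := hc i
    rw [h3, map_zero, zero_pow hp0.ne'] at h4
    have hd' : (algebraMap R K d) ^ p ≠ 0 :=
      pow_ne_zero _ (fun h => hd (hinj (by rw [h, map_zero])))
    have h5 : (g i : K) = 0 := by
      rcases mul_eq_zero.1 h4.symm with h | h
      · exact absurd h hd'
      · exact h
    exact Subtype.ext h5
  haveI : FiniteDimensional kp K := Module.finite_of_finrank_pos (by rw [hdeg]; exact hp0)
  have hspan : Submodule.span kp (Set.range fun i : Fin p => (algebraMap R K π) ^ (i : ℕ)) = ⊤ :=
    hli.span_eq_top_of_card_eq_finrank' (by rw [Fintype.card_fin, hdeg])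
  -- existence
  have hex : ∀ r : R, ∃ c : Fin p → R, r = ∑ i : Fin p, π ^ (i : ℕ) * c i ^ p := by
    intro r
    have hmem : algebraMap R K r ∈
        Submodule.span kp (Set.range fun i : Fin p => (algebraMap R K π) ^ (i : ℕ)) := by
      rw [hspan]; trivial
    obtain ⟨g, hg⟩ := (Submodule.mem_span_range_iff_exists_fun kp).1 hmem
    obtain ⟨d, c, hd, hc⟩ := clear g
    have h1 := hsum g d c hc
    rw [hg, ← map_pow, ← map_mul] at h1
    have h2 : ∑ i : Fin p, π ^ (i : ℕ) * c i ^ p = d ^ p * r := hinj h1
    have hdvd := Groth.Agent.Lib.DVRpH3.dvd_of_sum_eq p hp0 hπ c d r hd h2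
    choose e he using hdvd
    refine ⟨e, ?_⟩
    have hdp : d ^ p ≠ 0 := pow_ne_zero _ hd
    apply mul_left_cancel₀ hdp
    rw [← h2, Finset.mul_sum]
    refine Finset.sum_congr rfl fun i _ => ?_
    rw [he i]; ring
  -- uniqueness
  have huniq : ∀ (c c' : Fin p → R),
      ∑ i : Fin p, π ^ (i : ℕ) * c i ^ p = ∑ i : Fin p, π ^ (i : ℕ) * c' i ^ p → c = c' := by
    intro c c' h
    have h0 : ∑ i : Fin p, π ^ (i : ℕ) * (c i - c' i) ^ p = 0 := by
      have : ∀ i : Fin p, π ^ (i : ℕ) * (c i - c' i) ^ p =
          π ^ (i : ℕ) * c i ^ p - π ^ (i : ℕ) * c' i ^ p := fun i => by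
        rw [sub_pow_char (c i) (c' i), mul_sub]
      rw [Finset.sum_congr rfl fun i _ => this i, Finset.sum_sub_distrib, h, sub_self]
    funext i
    have := Groth.Agent.Lib.DVRpH3.eq_zero_of_sum_eq_zero p hp0 hπ (fun i => c i - c' i) h0 i
    exact sub_eq_zero.1 this
  refine ⟨fun r => ?_, ?_, ?_⟩
  · obtain ⟨c, hc⟩ := hex r
    exact ⟨c, hc, fun c' hc' => (huniq c c' (hc.symm.trans hc')).symm⟩
  · -- injectivity
    have hnotpow : ∀ y : K, y ^ p ≠ algebraMap R K π := by
      intro y hy
      have hyint : IsIntegral R y := by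
        refine ⟨Polynomial.X ^ p - Polynomial.C π, ?_, ?_⟩
        · exact Polynomial.monic_X_pow_sub_C π hp.ne_zero
        · simp [hy]
      obtain ⟨f, hf⟩ := IsIntegrallyClosed.isIntegral_iff.1 hyint
      have hfp : f ^ p = π := hinj (by rw [map_pow, hf, hy])
      have hp1 : p = (p - 1) + 1 := (Nat.sub_add_cancel hp.one_le).symm
      have hfu : IsUnit f := by
        have h' : π = f * f ^ (p - 1) := by rw [← pow_succ', ← hp1, hfp]
        rcases hπ.isUnit_or_isUnit h' with h | h
        · exact h
        · exact (isUnit_pow_iff (by have := hp.two_le; omega)).1 h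
      exact hπ.not_isUnit (hfp ▸ hfu.pow p)
    have hD := Groth.Agent.Lib.DVRpH3.D_ne_zero_of_not_pow p (algebraMap R K π) hnotpow
    let k₀ : Subfield K := ⊥
    haveI := IsScalarTower.of_algebraMap_eq' (R := ℤ) (S := k₀) (A := K) (Subsingleton.elim _ _)
    intro r r' hrr'
    have h0 : (r - r') • KaehlerDifferential.D ℤ R π = 0 := by
      rw [sub_smul]; exact sub_eq_zero.2 hrr'
    have h1 := congrArg (KaehlerDifferential.map ℤ k₀ R K) h0
    rw [map_smul, KaehlerDifferential.map_D, map_zero, ← algebraMap_smul K] at h1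
    rcases smul_eq_zero.1 h1 with h | h
    · exact sub_eq_zero.1 (hinj (by rw [h, map_zero]))
    · exact absurd h hD
  · -- surjectivity
    intro ω
    have hmem : ω ∈ Submodule.span R {KaehlerDifferential.D ℤ R π} := by
      have htop : ω ∈ Submodule.span R (Set.range (KaehlerDifferential.D ℤ R)) := by
        rw [KaehlerDifferential.span_range_derivation]; trivial
      refine Submodule.span_le.2 ?_ htop
      rintro _ ⟨r, rfl⟩
      obtain ⟨c, hc⟩ := hex r
      rw [hc, map_sum]
      refine Submodule.sum_mem _ fun i _ => ?_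
      rw [Derivation.leibniz, Derivation.leibniz_pow, Derivation.leibniz_pow]
      have hpz : (p : ℕ) • (c i ^ (p - 1) • KaehlerDifferential.D ℤ R (c i)) = 0 := by
        rw [← Nat.cast_smul_eq_nsmul R, CharP.cast_eq_zero R p, zero_smul]
      rw [hpz, smul_zero, zero_add]
      refine Submodule.smul_mem _ _ (Submodule.smul_of_tower_mem _ _ ?_)
      exact Submodule.smul_mem _ _ (Submodule.mem_span_singleton_self _)
    obtain ⟨a, ha⟩ := Submodule.mem_span_singleton.1 hmem
    exact ⟨a, ha⟩

end Groth.Agent.S13368
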