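import Groth.Statements.S13369
import Groth.Agent.Lib.PDescent_helper3
-- import your own Groth.Agent.* helpers here

set_option autoImplicit false
universe u
open GaDual
set_option maxSynthPendingDepth 3

namespace Groth.Agent.S13369

/-- For a normal Noetherian domain A of prime characteristic p, an element whose differential vanishes
in the absolute Kähler differentials of A is a p-th power; that is, the sequence F : A → A, d : A →
Ω_A (F the Frobenius) is exact at the middle term. (The published statement is for normal locally
Noetherian schemes of characteristic p; this row is the case of the spectrum of a normal Noetherian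
domain.) -/
theorem result (p : ℕ) [Fact p.Prime] {A : Type u} [CommRing A] [IsDomain A]
    [IsNoetherianRing A] [IsIntegrallyClosed A] [CharP A p] (s : A) (hs : KaehlerDifferential.D ℤ A s = 0) :
    ∃ f : A, f ^ p = s := by
  classical
  set K := FractionRing A with hK
  haveI : CharP K p := charP_of_injective_algebraMap (IsFractionRing.injective A K) p
  -- step 1: D ℤ K (algebraMap s) = 0
  have h1 : KaehlerDifferential.D ℤ K (algebraMap A K s) = 0 := by
    have := KaehlerDifferential.map_D ℤ ℤ A K s
    rw [hs, map_zero] at this
    exact this.symm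
  -- prime subfield
  let k₀ : Subfield K := ⊥
  haveI := IsScalarTower.of_algebraMap_eq' (R := ℤ) (S := k₀) (A := K) (Subsingleton.elim _ _)
  have h2 : KaehlerDifferential.D k₀ K (algebraMap A K s) = 0 := by
    have := KaehlerDifferential.map_D ℤ k₀ K K (algebraMap A K s)
    rw [h1, map_zero] at this
    simpa using this.symm
  -- step 2 : algebraMap s ∈ PK
  have h3 : algebraMap A K s ∈ Groth.Agent.Lib.PBasisH3.PK p k₀ K := by
    by_contra hcon
    exact Groth.Agent.Lib.PBasisH3.D_ne_zero_of_notMem p _ hcon h2
  -- the Frobenius range as an intermediate field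
  have hbot : ∀ x : K, x ∈ k₀ → x ∈ (frobenius K p).fieldRange := fun x hx =>
    (bot_le : (⊥ : Subfield K) ≤ (frobenius K p).fieldRange) hx
  let E : IntermediateField k₀ K :=
    Subfield.toIntermediateField (frobenius K p).fieldRange (fun x => hbot _ x.2)
  have hle : Groth.Agent.Lib.PBasisH3.PK p k₀ K ≤ E := by
    rw [IntermediateField.adjoin_le_iff]
    rintro _ ⟨z, rfl⟩
    exact ⟨z, rfl⟩
  obtain ⟨b, hb⟩ : ∃ b : K, b ^ p = algebraMap A K s := by
    obtain ⟨b, hb⟩ := hle h3
    exact ⟨b, by simpa [frobenius_def] using hb⟩
  -- b is integral over A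
  have hbint : IsIntegral A b := by
    refine ⟨Polynomial.X ^ p - Polynomial.C s, ?_, ?_⟩
    · exact Polynomial.monic_X_pow_sub_C s (Fact.out : p.Prime).ne_zero
    · simp [hb]
  obtain ⟨f, hf⟩ := IsIntegrallyClosed.isIntegral_iff.1 hbint
  refine ⟨f, IsFractionRing.injective A K ?_⟩
  rw [map_pow, hf, hb]

end Groth.Agent.S13369
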