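import Groth.Statements.S13386
import Mathlib

set_option autoImplicit false
universe u
open scoped TensorProduct
open ZeroCyc

namespace Groth.Agent.S13386

/-- Let A' = T⁻¹A be a localization of the ring A, M an A-module and M' = A' ⊗_A M. In the divided power
algebra Γ_{A'}(M') the A'-span of the d-th divided powers γ_d(1 ⊗ m), m ∈ M, is the A'-span of
γ_d(M'). (The published statement phrases this as the surjectivity of the natural map from (γ_d(M))
⊗_A A' onto (γ_d(M')); its further clause through the base-change isomorphism Γ_A(M) ⊗_A A' ≅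
Γ_{A'}(M') is not restated here.) -/
theorem result {A A' M : Type u} [CommRing A] [CommRing A']
    [Algebra A A'] (T : Submonoid A) [IsLocalization T A'] [AddCommGroup M] [Module A M] (d : ℕ) :
    Submodule.span A' (Set.range fun m : M => DividedPowerAlgebra.dp A' d ((1 : A') ⊗ₜ[A] m)) =
      Submodule.span A' (Set.range (DividedPowerAlgebra.dp A' d (M := A' ⊗[A] M))) := by
  apply le_antisymm
  · apply Submodule.span_mono
    rintro _ ⟨m, rfl⟩; exact ⟨_, rfl⟩
  · rw [Submodule.span_le]
    rintro _ ⟨y, rfl⟩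
    have hy : ∃ (u : A') (m : M), y = u ⊗ₜ[A] m := by
      induction y using TensorProduct.induction_on with
      | zero => exact ⟨0, 0, by simp⟩
      | tmul a' m => exact ⟨a', m, rfl⟩
      | add y₁ y₂ h₁ h₂ =>
        obtain ⟨u₁, m₁, rfl⟩ := h₁
        obtain ⟨u₂, m₂, rfl⟩ := h₂
        obtain ⟨⟨a₁, t₁⟩, h1⟩ := IsLocalization.surj T u₁
        obtain ⟨⟨a₂, t₂⟩, h2⟩ := IsLocalization.surj T u₂
        simp only at h1 h2
        obtain ⟨w, hw⟩ : ∃ w : A', w * (algebraMap A A' t₁ * algebraMap A A' t₂) = 1 := by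
          have h3 := IsLocalization.mk'_spec A' 1 (t₁ * t₂)
          exact ⟨IsLocalization.mk' A' 1 (t₁ * t₂), by simpa using h3⟩
        refine ⟨w, (a₁ * (t₂ : A)) • m₁ + (a₂ * (t₁ : A)) • m₂, ?_⟩
        have e1 : u₁ = (a₁ * (t₂ : A)) • w := by
          rw [Algebra.smul_def, map_mul, ← h1]
          calc u₁ = u₁ * (w * (algebraMap A A' t₁ * algebraMap A A' t₂)) := by rw [hw, mul_one]
            _ = _ := by ring
        have e2 : u₂ = (a₂ * (t₁ : A)) • w := by
          rw [Algebra.smul_def, map_mul, ← h2]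
          calc u₂ = u₂ * (w * (algebraMap A A' t₁ * algebraMap A A' t₂)) := by rw [hw, mul_one]
            _ = _ := by ring
        rw [TensorProduct.tmul_add, ← TensorProduct.smul_tmul, ← TensorProduct.smul_tmul,
          ← e1, ← e2]
    obtain ⟨u, m, rfl⟩ := hy
    have e3 : (u ⊗ₜ[A] m : A' ⊗[A] M) = u • ((1 : A') ⊗ₜ[A] m) := by
      rw [TensorProduct.smul_tmul', smul_eq_mul, mul_one]
    rw [e3, DividedPowerAlgebra.dp_smul]
    exact Submodule.smul_mem _ _ (Submodule.subset_span ⟨m, rfl⟩)

end Groth.Agent.S13386
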