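import Groth.Statements.S13402
import Mathlib

set_option autoImplicit false
universe u v w
open Hopf

open scoped TensorProduct
namespace Groth.Agent.S13402

/-- Let k be a field and let A and B be finite-dimensional commutative and cocommutative Hopf algebras
over k (finite commutative k-group schemes G = Spec A and H = Spec B). Let f : B → A be a bialgebra
map (a homomorphism G → H) which is injective and such that the ideal of A generated by the image of
the augmentation ideal of B is the augmentation ideal of A (the homomorphism G → H has trivial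
kernel). Then f is bijective, so G → H is an isomorphism; this is what makes the category of finite
commutative k-group schemes abelian. -/
theorem result (k : Type u) [Field k] (A : Type v) (B : Type w)
    [CommRing A] [HopfAlgebra k A] [Module.Finite k A] [Coalgebra.IsCocomm k A]
    [CommRing B] [HopfAlgebra k B] [Module.Finite k B] [Coalgebra.IsCocomm k B]
    (f : B →ₐc[k] A) (hinj : Function.Injective f)
    (hker : Ideal.map f (RingHom.ker (Bialgebra.counitAlgHom k B)) = RingHom.ker (Bialgebra.counitAlgHom k A)) :
    Function.Bijective f := by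
  refine ⟨hinj, ?_⟩
  letI : Algebra B A := (f : B →ₐ[k] A).toRingHom.toAlgebra
  have halg : ∀ b : B, algebraMap B A b = f b := fun _ => rfl
  haveI : IsScalarTower k B A := IsScalarTower.of_algebraMap_eq (fun r => by
    rw [halg, AlgHomClass.commutes])
  haveI : Module.Finite B A := Module.Finite.of_restrictScalars_finite k B A
  let ιL : A →ₐ[k] A ⊗[B] A := Algebra.TensorProduct.includeLeft
  let ιR : A →ₐ[k] A ⊗[B] A :=
    (Algebra.TensorProduct.includeRight : A →ₐ[B] A ⊗[B] A).restrictScalars k
  have hLR : ιL.comp (f : B →ₐ[k] A) = ιR.comp (f : B →ₐ[k] A) := by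
    ext b
    show (f b) ⊗ₜ[B] (1 : A) = (1 : A) ⊗ₜ[B] (f b)
    have h1 : f b = b • (1 : A) := by
      rw [Algebra.smul_def, mul_one, halg]
    rw [h1, TensorProduct.smul_tmul]
  let compHom : WithConv (A →ₐ[k] A ⊗[B] A) →* WithConv (B →ₐ[k] A ⊗[B] A) :=
    { toFun := fun g => WithConv.toConv (g.ofConv.comp (f : B →ₐ[k] A))
      map_one' := by
        apply WithConv.ofConv_injective
        show ((Algebra.ofId k (A ⊗[B] A)).comp (Bialgebra.counitAlgHom k A)).comp (f : B →ₐ[k] A) =
          (Algebra.ofId k (A ⊗[B] A)).comp (Bialgebra.counitAlgHom k B)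
        rw [AlgHom.comp_assoc, BialgHom.counitAlgHom_comp]
      map_mul' := by
        intro g g'
        apply WithConv.ofConv_injective
        exact AlgHom.convMul_comp_bialgHom_distrib g g' f }
  let gL : WithConv (A →ₐ[k] A ⊗[B] A) := WithConv.toConv ιL
  let gR : WithConv (A →ₐ[k] A ⊗[B] A) := WithConv.toConv ιR
  let u : WithConv (A →ₐ[k] A ⊗[B] A) := WithConv.toConv (ιL.comp (HopfAlgebra.antipodeAlgHom k A))
  have hu : u * gL = 1 := by
    have h1 := AlgHom.comp_convMul_distrib ιL (WithConv.toConv (HopfAlgebra.antipodeAlgHom k A))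
      (WithConv.toConv (AlgHom.id k A))
    rw [AlgHom.antipode_id_cancel] at h1
    apply WithConv.ofConv_injective
    simp only [WithConv.ofConv_toConv, AlgHom.comp_id] at h1
    rw [← h1]
    apply AlgHom.ext
    intro a
    show _ = ιL (algebraMap k A (Coalgebra.counit (R := k) a))
    rw [AlgHom.commutes]
    rfl
  have hβf : compHom (u * gR) = 1 := by
    rw [map_mul]
    have : compHom gR = compHom gL := by
      show WithConv.toConv (ιR.comp (f : B →ₐ[k] A)) = WithConv.toConv (ιL.comp (f : B →ₐ[k] A))
      rw [hLR]
    rw [this, ← map_mul, hu, map_one]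
  have hβb : ∀ b : B, (u * gR).ofConv (f b) =
      algebraMap k (A ⊗[B] A) (Coalgebra.counit (R := k) b) := by
    intro b
    have h1 := congrArg (fun g : WithConv (B →ₐ[k] A ⊗[B] A) => g.ofConv b) hβf
    exact h1
  have hle : RingHom.ker (Bialgebra.counitAlgHom k A) ≤ RingHom.ker (u * gR).ofConv := by
    rw [← hker, Ideal.map_le_iff_le_comap]
    intro b hb
    rw [Ideal.mem_comap, RingHom.mem_ker]
    rw [RingHom.mem_ker] at hb
    show (u * gR).ofConv (f b) = 0
    rw [hβb]
    have : Coalgebra.counit (R := k) b = 0 := hb
    rw [this, map_zero]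
  have hβ : u * gR = 1 := by
    apply WithConv.ofConv_injective
    apply AlgHom.ext
    intro a
    have h1 : a - algebraMap k A (Coalgebra.counit (R := k) a) ∈
        RingHom.ker (Bialgebra.counitAlgHom k A) := by
      rw [RingHom.mem_ker, map_sub, AlgHom.commutes]
      show Coalgebra.counit (R := k) a - algebraMap k k (Coalgebra.counit (R := k) a) = 0
      simp
    have h2 := hle h1
    rw [RingHom.mem_ker, map_sub, sub_eq_zero, AlgHom.commutes] at h2
    rw [h2]
    rfl
  have hLReq : gL = gR := by
    calc gL = gL * (u * gR) := by rw [hβ, mul_one]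
      _ = (u * gL) * gR := by rw [← mul_assoc, mul_comm gL u]
      _ = gR := by rw [hu, one_mul]
  have hepi : Algebra.IsEpi B A := by
    rw [Algebra.isEpi_iff_forall_one_tmul_eq]
    intro a
    have h1 := congrArg (fun g : WithConv (A →ₐ[k] A ⊗[B] A) => g.ofConv a) hLReq
    exact h1.symm
  have hsurj := Algebra.isEpi_iff_surjective_algebraMap_of_finite.mp hepi
  intro a
  obtain ⟨b, hb⟩ := hsurj a
  exact ⟨b, hb⟩

end Groth.Agent.S13402
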