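import Groth.Statements.S13409
import Mathlib

set_option autoImplicit false
universe u v
open CombGraph

namespace Groth.Agent.S13409

/-- Let `A` be an abelian group and `G` a finite connected simple graph on `V` that is bipartite for a
two-colouring `c : V → Bool` (adjacent vertices get different colours). If `a : V → A` has the same
sum over the vertices of each colour, then some labelling `x` of the edges by elements of `A` has,
at every vertex `v`, the sum of `x` over the edges incident to `v` equal to `a v`. (The published
statement concerns finite bipartite graphs in general; this row treats simple graphs.) -/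
theorem result {V : Type u} [Fintype V] [DecidableEq V]
    (G : SimpleGraph V) [DecidableRel G.Adj] (hconn : G.Connected) (c : V → Bool)
    (hbip : ∀ v w : V, G.Adj v w → c v ≠ c w) (A : Type v) [AddCommGroup A] (a : V → A)
    (hsum : ∑ v ∈ Finset.univ.filter (fun v => c v = true), a v =
      ∑ v ∈ Finset.univ.filter (fun v => c v = false), a v) :
    ∃ x : Sym2 V → A, ∀ v : V, ∑ e ∈ G.incidenceFinset v, x e = a v := by
  classical
  let S : AddSubgroup (V → A) :=
    { carrier := {b | ∃ x : Sym2 V → A, ∀ v : V, ∑ e ∈ G.incidenceFinset v, x e = b v}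
      zero_mem' := ⟨0, fun v => by simp⟩
      add_mem' := by
        rintro b b' ⟨x, hx⟩ ⟨y, hy⟩
        exact ⟨x + y, fun v => by simp [Finset.sum_add_distrib, hx, hy]⟩
      neg_mem' := by
        rintro b ⟨x, hx⟩
        exact ⟨-x, fun v => by simp [Finset.sum_neg_distrib, hx]⟩ }
  suffices hmem : a ∈ S from hmem
  have hedge : ∀ v w : V, G.Adj v w → ∀ α : A,
      ((Pi.single v α : V → A) + (Pi.single w α : V → A)) ∈ S := by
    intro v w hvw α
    refine ⟨fun e => if e = s(v, w) then α else 0, fun u => ?_⟩
    rw [Finset.sum_ite_eq']
    simp only [SimpleGraph.mem_incidenceFinset, SimpleGraph.mk'_mem_incidenceSet_iff,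
      Pi.add_apply, Pi.single_apply]
    have hne : v ≠ w := G.ne_of_adj hvw
    by_cases h1 : u = v
    · subst h1
      simp [hvw, hne]
    · by_cases h2 : u = w
      · subst h2
        simp [hvw, h1]
      · simp [h1, h2]
  have hwalk : ∀ (v w : V) (p : G.Walk v w) (α : A),
      (c v = c w → ((Pi.single v α : V → A) - (Pi.single w α : V → A)) ∈ S) ∧
      (c v ≠ c w → ((Pi.single v α : V → A) + (Pi.single w α : V → A)) ∈ S) := by
    intro v w p
    induction p with
    | nil =>
      intro α
      exact ⟨fun _ => by rw [sub_self]; exact S.zero_mem, fun h => absurd rfl h⟩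
    | @cons v v' w hadj p ih =>
      intro α
      have hc := hbip v v' hadj
      have he := hedge v v' hadj α
      constructor
      · intro hvw
        have h3 : c v' ≠ c w := by rw [← hvw]; exact fun h => hc h.symm
        have h2 := (ih α).2 h3
        have h4 : (Pi.single v α : V → A) - (Pi.single w α : V → A) =
            ((Pi.single v α : V → A) + (Pi.single v' α : V → A)) -
            ((Pi.single v' α : V → A) + (Pi.single w α : V → A)) := by abel
        rw [h4]; exact S.sub_mem he h2
      · intro hvw
        have h3 : c v' = c w := by
          revert hc hvw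
          cases c v <;> cases c v' <;> cases c w <;> simp
        have h1 := (ih α).1 h3
        have h4 : (Pi.single v α : V → A) + (Pi.single w α : V → A) =
            ((Pi.single v α : V → A) + (Pi.single v' α : V → A)) -
            ((Pi.single v' α : V → A) - (Pi.single w α : V → A)) := by abel
        rw [h4]; exact S.sub_mem he h1
  obtain ⟨v₀⟩ := hconn.nonempty
  obtain ⟨s, hs⟩ : ∃ s : V → A, ∀ v, s v = if c v = c v₀ then -a v else a v :=
    ⟨_, fun _ => rfl⟩
  have hzero : ∑ v, s v = 0 := by
    simp only [hs]
    rw [Finset.sum_ite, Finset.sum_neg_distrib]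
    cases hcv : c v₀
    · have h1 : Finset.univ.filter (fun v => ¬ c v = false) =
          Finset.univ.filter (fun v => c v = true) := by
        apply Finset.filter_congr; intro v _; simp
      rw [h1, hsum]; exact neg_add_cancel _
    · have h1 : Finset.univ.filter (fun v => ¬ c v = true) =
          Finset.univ.filter (fun v => c v = false) := by
        apply Finset.filter_congr; intro v _; simp
      rw [h1, hsum]; exact neg_add_cancel _
  have ht : ∀ v, ((Pi.single v (a v) : V → A) + (Pi.single v₀ (s v) : V → A)) ∈ S := by
    intro v
    obtain ⟨p⟩ := hconn.preconnected v v₀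
    by_cases hcv : c v = c v₀
    · have h5 := (hwalk v v₀ p (a v)).1 hcv
      rw [hs, if_pos hcv, Pi.single_neg, ← sub_eq_add_neg]; exact h5
    · have h5 := (hwalk v v₀ p (a v)).2 hcv
      rw [hs, if_neg hcv]; exact h5
  have hsumS := S.sum_mem (fun v (_ : v ∈ Finset.univ) => ht v)
  have hfin : ∑ v, ((Pi.single v (a v) : V → A) + (Pi.single v₀ (s v) : V → A)) = a := by
    funext u
    simp only [Finset.sum_apply, Pi.add_apply, Pi.single_apply, Finset.sum_add_distrib]
    rw [Finset.sum_ite_eq]
    by_cases hu : u = v₀
    · simp [hu, hzero]
    · simp [hu]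
  rw [hfin] at hsumS; exact hsumS

end Groth.Agent.S13409
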