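import Groth.Statements.S13410
import Mathlib
import Groth.Agent.S13409

set_option autoImplicit false
universe u v
open CombGraph

namespace Groth.Agent.S13410

/-- Let `A` be an abelian group and `G` a finite connected simple graph on `V`, bipartite for a
two-colouring `c`. Consider the additive group of labellings `x : Sym2 V → A` vanishing off the edge
set and with `∑_{e ∋ v} x e = 0` at every vertex `v`. If `e₀` is an edge whose deletion leaves `G`
connected, then evaluation at `e₀` restricted to this group is surjective and split: there is an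
additive map `φ : A → (Sym2 V → A)` with values in this group and with `φ a e₀ = a` for all `a`.
(The published statement concerns finite bipartite graphs in general; this row treats simple
graphs.) -/
theorem result {V : Type u} [Fintype V]
    [DecidableEq V] (G : SimpleGraph V) [DecidableRel G.Adj] (hconn : G.Connected) (c : V → Bool)
    (hbip : ∀ v w : V, G.Adj v w → c v ≠ c w) (A : Type v) [AddCommGroup A] (e₀ : Sym2 V)
    (he₀ : e₀ ∈ G.edgeSet) (hdel : (G.deleteEdges {e₀}).Connected) :
    ∃ φ : A →+ (Sym2 V → A),
      (∀ a : A, (∀ e : Sym2 V, e ∉ G.edgeSet → φ a e = 0) ∧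
        ∀ v : V, ∑ e ∈ G.incidenceFinset v, φ a e = 0) ∧
      ∀ a : A, φ a e₀ = a := by
  classical
  induction e₀ using Sym2.ind with
  | h v₀ w₀ =>
    have hadj : G.Adj v₀ w₀ := (SimpleGraph.mem_edgeSet G).mp he₀
    have hne : v₀ ≠ w₀ := G.ne_of_adj hadj
    have hcol : c v₀ ≠ c w₀ := hbip v₀ w₀ hadj
    have hbip' : ∀ v w, (G.deleteEdges {s(v₀, w₀)}).Adj v w → c v ≠ c w := fun v w h =>
      hbip v w (by rw [SimpleGraph.deleteEdges_adj] at h; exact h.1)
    let a' : V → ℤ := fun u => -(if u = v₀ then 1 else 0) - (if u = w₀ then 1 else 0)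
    have hsum : ∑ v ∈ Finset.univ.filter (fun v => c v = true), a' v =
        ∑ v ∈ Finset.univ.filter (fun v => c v = false), a' v := by
      simp only [a', Finset.sum_sub_distrib, Finset.sum_neg_distrib, Finset.sum_ite_eq',
        Finset.mem_filter, Finset.mem_univ, true_and]
      revert hcol
      cases c v₀ <;> cases c w₀ <;> simp
    obtain ⟨x, hx⟩ := Groth.Agent.S13409.result (G.deleteEdges {s(v₀, w₀)}) hdel c hbip' ℤ a' hsum
    have hE' : ∀ e : Sym2 V, e ∈ (G.deleteEdges {s(v₀, w₀)}).edgeSet ↔
        e ∈ G.edgeSet ∧ e ≠ s(v₀, w₀) := by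
      intro e
      rw [SimpleGraph.edgeSet_deleteEdges]
      simp
    let x₀ : Sym2 V → ℤ := fun e => (if e = s(v₀, w₀) then 1 else 0) +
      (if e ∈ (G.deleteEdges {s(v₀, w₀)}).edgeSet then x e else 0)
    let φ : A →+ (Sym2 V → A) :=
      { toFun := fun a e => x₀ e • a
        map_zero' := funext fun e => smul_zero _
        map_add' := fun a b => funext fun e => smul_add _ _ _ }
    have hφ : ∀ a e, φ a e = x₀ e • a := fun a e => rfl
    refine ⟨φ, fun a => ⟨?_, ?_⟩, ?_⟩
    · intro e he
      rw [hφ]
      have h1 : e ≠ s(v₀, w₀) := fun h => he (h ▸ he₀)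
      have h2 : e ∉ (G.deleteEdges {s(v₀, w₀)}).edgeSet := fun h => he ((hE' e).mp h).1
      simp only [x₀, if_neg h1, if_neg h2, add_zero, zero_smul]
    · intro v
      simp only [hφ]
      rw [← Finset.sum_smul]
      have h0 : ∑ e ∈ G.incidenceFinset v, x₀ e = 0 := by
        simp only [x₀]
        rw [Finset.sum_add_distrib, Finset.sum_ite_eq', ← Finset.sum_filter]
        have hset : (G.incidenceFinset v).filter
            (fun e => e ∈ (G.deleteEdges {s(v₀, w₀)}).edgeSet) =
            (G.deleteEdges {s(v₀, w₀)}).incidenceFinset v := by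
          ext e
          simp only [Finset.mem_filter, SimpleGraph.mem_incidenceFinset]
          constructor
          · rintro ⟨h1, h2⟩
            exact ⟨h2, h1.2⟩
          · rintro ⟨h1, h2⟩
            exact ⟨⟨((hE' e).mp h1).1, h2⟩, h1⟩
        rw [hset, hx v]
        simp only [SimpleGraph.mem_incidenceFinset, SimpleGraph.mk'_mem_incidenceSet_iff, a']
        by_cases h1 : v = v₀
        · subst h1
          simp [hadj, hne]
        · by_cases h2 : v = w₀
          · subst h2
            simp [hadj, h1]
          · simp [h1, h2]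
      rw [h0, zero_smul]
    · intro a
      rw [hφ]
      have h2 : s(v₀, w₀) ∉ (G.deleteEdges {s(v₀, w₀)}).edgeSet := fun h => ((hE' _).mp h).2 rfl
      simp only [x₀, if_true, if_neg h2, add_zero, one_smul]

end Groth.Agent.S13410
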