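import Groth.Statements.S13418
import Mathlib

set_option autoImplicit false
universe u
open CategoryTheory AlgebraicGeometry
open NeronHD

namespace Groth.Agent.S13418

open CategoryTheory AlgebraicGeometry Limits in
theorem aux {S : Scheme.{u}} (S₀ : S.Opens)
    (N M : Over S)
    (hN : ∀ Z : Over S, Smooth Z.hom → Function.Bijective (fun g : Z ⟶ N => (Over.pullback S₀.ι).map g))
    (hM : ∀ Z : Over S, Smooth Z.hom → Function.Bijective (fun g : Z ⟶ M => (Over.pullback S₀.ι).map g)) :
    ∀ Z : Over S, Smooth Z.hom → Function.Bijective (fun g : Z ⟶ Over.mk (Limits.pullback.fst N.hom M.hom ≫ N.hom) => (Over.pullback S₀.ι).map g) := by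
  let P : Over S := Over.mk (Limits.pullback.fst N.hom M.hom ≫ N.hom)
  let π₁ : P ⟶ N := Over.homMk (pullback.fst N.hom M.hom) rfl
  let π₂ : P ⟶ M := Over.homMk (pullback.snd N.hom M.hom) (pullback.condition.symm)
  let F := Over.pullback S₀.ι
  let adj := Over.mapPullbackAdj S₀.ι
  have jm : ∀ (W : Over S) (a b : W ⟶ P), a ≫ π₁ = b ≫ π₁ → a ≫ π₂ = b ≫ π₂ → a = b := by
    intro W a b h1 h2
    apply Over.OverMorphism.ext
    apply pullback.hom_ext
    · exact congrArg (fun t => t.left) h1
    · exact congrArg (fun t => t.left) h2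
  have Fjm : ∀ (W : Over (S₀ : Scheme.{u})) (a b : W ⟶ F.obj P), a ≫ F.map π₁ = b ≫ F.map π₁ →
      a ≫ F.map π₂ = b ≫ F.map π₂ → a = b := by
    intro W a b h1 h2
    apply (adj.homEquiv W P).symm.injective
    apply jm
    · rw [← Adjunction.homEquiv_naturality_right_symm, ← Adjunction.homEquiv_naturality_right_symm, h1]
    · rw [← Adjunction.homEquiv_naturality_right_symm, ← Adjunction.homEquiv_naturality_right_symm, h2]
  intro Z hZ
  constructor
  · intro g g' h
    have h' : F.map g = F.map g' := h
    apply jm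
    · apply (hN Z hZ).1
      show F.map (g ≫ π₁) = F.map (g' ≫ π₁)
      rw [F.map_comp, F.map_comp, h']
    · apply (hM Z hZ).1
      show F.map (g ≫ π₂) = F.map (g' ≫ π₂)
      rw [F.map_comp, F.map_comp, h']
  · intro h
    obtain ⟨a, ha⟩ := (hN Z hZ).2 (h ≫ F.map π₁)
    obtain ⟨b, hb⟩ := (hM Z hZ).2 (h ≫ F.map π₂)
    have ha' : F.map a = h ≫ F.map π₁ := ha
    have hb' : F.map b = h ≫ F.map π₂ := hb
    let g : Z ⟶ P := Over.homMk (pullback.lift a.left b.left (by rw [Over.w a, Over.w b]))
      (by
        show pullback.lift a.left b.left _ ≫ pullback.fst N.hom M.hom ≫ N.hom = Z.hom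
        rw [pullback.lift_fst_assoc, Over.w a])
    refine ⟨g, ?_⟩
    show F.map g = h
    have hg1 : g ≫ π₁ = a := by
      apply Over.OverMorphism.ext
      show pullback.lift a.left b.left _ ≫ pullback.fst N.hom M.hom = a.left
      rw [pullback.lift_fst]
    have hg2 : g ≫ π₂ = b := by
      apply Over.OverMorphism.ext
      show pullback.lift a.left b.left _ ≫ pullback.snd N.hom M.hom = b.left
      rw [pullback.lift_snd]
    apply Fjm
    · rw [← F.map_comp, hg1, ha']
    · rw [← F.map_comp, hg2, hb']

/-- Let S be a locally Noetherian scheme over a field of characteristic 0 and S₀ ⊆ S a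
scheme-theoretically dense open. If N and M are smooth S-schemes having the Néron mapping property
for S₀ ⊆ S (for every smooth S-scheme Z, restriction to S₀ is a bijection from S-morphisms Z → N
onto S₀-morphisms Z|S₀ → N|S₀), then the fibre product N ×_S M has the Néron mapping property for S₀
⊆ S (its smoothness over S being automatic). (This row is the case of schemes, with smooth test
schemes, of a statement about algebraic spaces.) -/
theorem result {k : Type u} [Field k] [CharZero k] {S : Scheme.{u}} (σ : S ⟶ Spec (CommRingCat.of k)) [IsLocallyNoetherian S] (S₀ : S.Opens) (hS₀ : CInt.IsSchematicallyDense S₀)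
    (N M : Over S) [Smooth N.hom] [Smooth M.hom]
    (hN : ∀ Z : Over S, Smooth Z.hom → Function.Bijective (fun g : Z ⟶ N => (Over.pullback S₀.ι).map g))
    (hM : ∀ Z : Over S, Smooth Z.hom → Function.Bijective (fun g : Z ⟶ M => (Over.pullback S₀.ι).map g)) :
    ∀ Z : Over S, Smooth Z.hom → Function.Bijective (fun g : Z ⟶ Over.mk (Limits.pullback.fst N.hom M.hom ≫ N.hom) => (Over.pullback S₀.ι).map g) := by
  exact aux S₀ N M hN hM

end Groth.Agent.S13418
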