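import Groth.Statements.S13419
import Mathlib

set_option autoImplicit false
universe u
open CategoryTheory AlgebraicGeometry
open NeronHD

namespace Groth.Agent.S13419

open CategoryTheory in
theorem bij_transfer {C : Type*} [Category C] {D : Type*} [Category D] {F G : C ⥤ D} (α : F ≅ G)
    (X Y : C) :
    Function.Bijective (fun g : X ⟶ Y => F.map g) ↔
      Function.Bijective (fun g : X ⟶ Y => G.map g) := by
  have h : (fun g : X ⟶ Y => G.map g) =
      (Iso.homCongr (α.app X) (α.app Y)) ∘ (fun g : X ⟶ Y => F.map g) := by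
    funext g
    simp only [Function.comp_apply, Iso.homCongr_apply, Iso.app_inv, Iso.app_hom]
    rw [α.hom.naturality g, Iso.inv_hom_id_app_assoc]
  rw [h]
  exact (Equiv.comp_bijective _ _).symm

open CategoryTheory Limits in
theorem pullbackCongrIso {C : Type*} [Category C] {X Y : C} {f g : X ⟶ Y} (h : f = g)
    [i1 : HasPullbacksAlong f] [i2 : HasPullbacksAlong g] :
    Nonempty (Over.pullback f ≅ Over.pullback g) := by
  subst h
  exact ⟨Iso.refl _⟩

open CategoryTheory AlgebraicGeometry in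
theorem setup {S : Scheme.{u}} (S₀ S₁ : S.Opens) (h01 : S₀ ≤ S₁) :
    ∃ (E : Over (S₀ : Scheme.{u}) ⥤
        Over ((S₁.ι ⁻¹ᵁ S₀ : (S₁ : Scheme.{u}).Opens) : Scheme.{u})),
      E.IsEquivalence ∧ Nonempty (Over.pullback S₁.ι ⋙ Over.pullback (S₁.ι ⁻¹ᵁ S₀).ι ≅
        Over.pullback S₀.ι ⋙ E) := by
  have e : (Scheme.Opens.isoOfLE h01).hom ≫ S₀.ι = (S₁.ι ⁻¹ᵁ S₀).ι ≫ S₁.ι :=
    Scheme.Opens.isoOfLE_hom_ι h01
  obtain ⟨β⟩ := pullbackCongrIso e.symm
  exact ⟨Over.pullback (Scheme.Opens.isoOfLE h01).hom,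
    (Over.mapPullbackAdj (Scheme.Opens.isoOfLE h01).hom).isEquivalence_right_of_isEquivalence_left,
    ⟨(Over.pullbackComp _ _).symm ≪≫ β ≪≫
    Over.pullbackComp (Scheme.Opens.isoOfLE h01).hom S₀.ι⟩⟩

open CategoryTheory AlgebraicGeometry in
theorem aux {S : Scheme.{u}} (S₀ S₁ : S.Opens) (h01 : S₀ ≤ S₁) (N : Over S)
    (hN1 : ∀ Z : Over S, Smooth Z.hom →
      Function.Bijective (fun g : Z ⟶ N => (Over.pullback S₁.ι).map g))
    (hN10 : ∀ Z : Over (S₁ : Scheme.{u}), Smooth Z.hom →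
      Function.Bijective (fun g : Z ⟶ (Over.pullback S₁.ι).obj N =>
        (Over.pullback (S₁.ι ⁻¹ᵁ S₀).ι).map g)) :
    ∀ Z : Over S, Smooth Z.hom →
      Function.Bijective (fun g : Z ⟶ N => (Over.pullback S₀.ι).map g) := by
  intro Z hZ
  obtain ⟨E, hE, ⟨α⟩⟩ := setup S₀ S₁ h01
  haveI := hZ
  have hsm : Smooth ((Over.pullback S₁.ι).obj Z).hom := by
    show Smooth (Limits.pullback.snd Z.hom S₁.ι)
    infer_instance
  have h1 : Function.Bijective (fun g : Z ⟶ N =>
      (Over.pullback S₁.ι ⋙ Over.pullback (S₁.ι ⁻¹ᵁ S₀).ι).map g) :=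
    (hN10 _ hsm).comp (hN1 Z hZ)
  have h2 := (bij_transfer α Z N).mp h1
  have hE' : Function.Bijective
      (fun h : (Over.pullback S₀.ι).obj Z ⟶ (Over.pullback S₀.ι).obj N => E.map h) :=
    ⟨E.map_injective, E.map_surjective⟩
  exact (Function.Bijective.of_comp_iff' hE' _).mp h2

/-- Let S be a locally Noetherian scheme over a field of characteristic 0, S₀ ⊆ S₁ ⊆ S opens with S₀
scheme-theoretically dense in S, and N a smooth S-scheme. If N has the Néron mapping property for S₁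
⊆ S and the restriction N|S₁ has the Néron mapping property for S₀ ⊆ S₁ (in both cases: restriction
of morphisms from smooth schemes over the base is bijective), then N has the Néron mapping property
for S₀ ⊆ S. (Case of schemes, with smooth test schemes, of a statement about algebraic spaces.) -/
theorem result {k : Type u} [Field k] [CharZero k] {S : Scheme.{u}} (σ : S ⟶ Spec (CommRingCat.of k)) [IsLocallyNoetherian S] (S₀ S₁ : S.Opens) (h01 : S₀ ≤ S₁) (hS₀ : CInt.IsSchematicallyDense S₀)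
    (N : Over S) [Smooth N.hom]
    (hN1 : ∀ Z : Over S, Smooth Z.hom → Function.Bijective (fun g : Z ⟶ N => (Over.pullback S₁.ι).map g))
    (hN10 : ∀ Z : Over (S₁ : Scheme.{u}), Smooth Z.hom → Function.Bijective (fun g : Z ⟶ (Over.pullback S₁.ι).obj N => (Over.pullback (S₁.ι ⁻¹ᵁ S₀).ι).map g)) :
    ∀ Z : Over S, Smooth Z.hom → Function.Bijective (fun g : Z ⟶ N => (Over.pullback S₀.ι).map g) := by
  exact aux S₀ S₁ h01 N hN1 hN10

end Groth.Agent.S13419
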