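import Groth.Statements.S4997
import Groth.Agent.Lib.SmoothQF_lead

set_option autoImplicit false
universe u
open CategoryTheory CategoryTheory.Limits AlgebraicGeometry TopologicalSpace
open Unram17

namespace Groth.Agent.S4997

/-- A morphism of schemes is etale if and only if it is smooth and locally quasi-finite. -/
theorem result {X Y : Scheme.{u}} (f : X ⟶ Y) :
    Etale f ↔ Smooth f ∧ LocallyQuasiFinite f := by
  rw [HasRingHomProperty.iff_appLE (P := @Etale), HasRingHomProperty.iff_appLE (P := @Smooth),
    HasRingHomProperty.iff_appLE (P := @LocallyQuasiFinite)]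
  simp only [Groth.Agent.Lib.SmoothQF.ringHom_etale_iff]
  exact ⟨fun h => ⟨fun U V e => (h U V e).1, fun U V e => (h U V e).2⟩,
    fun h U V e => ⟨h.1 U V e, h.2 U V e⟩⟩

end Groth.Agent.S4997
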