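import Groth.Statements.S13423
import Groth.Agent.Lib.GUComponents_helper3
import Groth.Agent.Lib.UnramFibre_helper9
import Groth.Agent.S4997
-- import your own Groth.Agent.* helpers here

set_option autoImplicit false
universe u
open CategoryTheory AlgebraicGeometry

open NeronHD

namespace Groth.Agent.S13423

/-- Let S be a reduced, locally Noetherian scheme over a field of characteristic 0 whose local rings are
all geometrically unibranch, and let f : X → S be quasi-finite (locally of finite type,
quasi-compact, with finite discrete fibres), separated and dominant, with X connected and nonempty,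
such that every fibre X_s over the residue field k(s) is smooth. Then f is étale. (Case of schemes
of a statement about algebraic spaces.) -/
theorem result {k : Type u} [Field k] [CharZero k] {S : Scheme.{u}} (σ : S ⟶ Spec (CommRingCat.of k)) [IsLocallyNoetherian S] [IsReduced S]
    (hS : ∀ s : S, CAlg2.IsGeomUnibranch (S.presheaf.stalk s))
    {X : Scheme.{u}} (f : X ⟶ S) [LocallyOfFiniteType f] [QuasiCompact f] [LocallyQuasiFinite f] [IsSeparated f] [IsDominant f]
    [ConnectedSpace X]
    (hfib : ∀ s : S, Smooth (Limits.pullback.snd f (S.fromSpecResidueField s))) :
    Etale f := by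
  haveI : FormallyUnramified f := by
    apply Groth.Agent.Lib.UnramFibre.formallyUnramified_of_fiberToSpecResidueField
    intro s
    haveI := hfib s
    haveI : LocallyQuasiFinite (Limits.pullback.snd f (S.fromSpecResidueField s)) := inferInstance
    haveI : Etale (Limits.pullback.snd f (S.fromSpecResidueField s)) :=
      (Groth.Agent.S4997.result _).mpr ⟨hfib s, inferInstance⟩
    exact inferInstanceAs (FormallyUnramified (Limits.pullback.snd f (S.fromSpecResidueField s)))
  haveI : IrreducibleSpace S :=
    Groth.Agent.Lib.GUComponentsH3.irreducibleSpace_of_denseRange f f.continuous f.denseRange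
      (Groth.Agent.Lib.GUComponentsH3.isOpen_of_mem_irreducibleComponents_of_isGeomUnibranch hS)
  haveI : IsIntegral S := isIntegral_of_irreducibleSpace_of_isReduced S
  exact Groth.Agent.Lib.UnramGUH3.etale_of_unramified_of_connected f hS
    (Groth.Agent.Lib.GUComponentsH3.exists_map_eq_genericPoint f)

end Groth.Agent.S13423
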