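import Groth.Statements.S13427
import Mathlib

set_option autoImplicit false
universe u
open CategoryTheory AlgebraicGeometry
open NeronHD

namespace Groth.Agent.S13427

open CategoryTheory AlgebraicGeometry Limits in
theorem aux {S : Scheme.{u}} (S₀ : S.Opens)
    (G H : Over S)
    (hG : ∀ Z : Over S, Smooth Z.hom → Function.Bijective (fun g : Z ⟶ G => (Over.pullback S₀.ι).map g))
    (hH : ∀ Z : Over S, Smooth Z.hom → Function.Bijective (fun g : Z ⟶ H => (Over.pullback S₀.ι).map g))
    (f : G ⟶ H) (e : S ⟶ H.left) (he : e ≫ H.hom = 𝟙 S) :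
    ∀ Z : Over S, Smooth Z.hom → Function.Bijective (fun g : Z ⟶ Over.mk (Limits.pullback.snd f.left e) => (Over.pullback S₀.ι).map g) := by
  let K : Over S := Over.mk (Limits.pullback.snd f.left e)
  have hκw : pullback.fst f.left e ≫ G.hom = pullback.snd f.left e := by
    rw [← Over.w f, ← Category.assoc, pullback.condition, Category.assoc, he, Category.comp_id]
  let κ : K ⟶ G := Over.homMk (pullback.fst f.left e) hκw
  let F := Over.pullback S₀.ι
  let adj := Over.mapPullbackAdj S₀.ι
  let ε : ∀ W : Over S, W ⟶ H := fun W => Over.homMk (W.hom ≫ e) (by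
    rw [Category.assoc, he, Category.comp_id])
  have eps_nat : ∀ {W W' : Over S} (u : W ⟶ W'), u ≫ ε W' = ε W := by
    intro W W' u
    apply Over.OverMorphism.ext
    show u.left ≫ W'.hom ≫ e = W.hom ≫ e
    rw [← Category.assoc, Over.w u]
  have hκε : κ ≫ f = ε K := by
    apply Over.OverMorphism.ext
    show pullback.fst f.left e ≫ f.left = pullback.snd f.left e ≫ e
    exact pullback.condition
  have κmono : ∀ (W : Over S) (a b : W ⟶ K), a ≫ κ = b ≫ κ → a = b := by
    intro W a b h1
    apply Over.OverMorphism.ext
    apply pullback.hom_ext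
    · exact congrArg (fun t => t.left) h1
    · have ha := Over.w a
      have hb := Over.w b
      exact ha.trans hb.symm
  have Fκmono : ∀ (W : Over (S₀ : Scheme.{u})) (a b : W ⟶ F.obj K), a ≫ F.map κ = b ≫ F.map κ →
      a = b := by
    intro W a b h1
    apply (adj.homEquiv W K).symm.injective
    apply κmono
    rw [← Adjunction.homEquiv_naturality_right_symm, ← Adjunction.homEquiv_naturality_right_symm, h1]
  have Fε : ∀ (Z : Over S) (h : F.obj Z ⟶ F.obj K), h ≫ F.map (ε K) = F.map (ε Z) := by
    intro Z h
    apply (adj.homEquiv (F.obj Z) H).symm.injective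
    rw [Adjunction.homEquiv_naturality_right_symm, eps_nat]
    have h1 : F.map (ε Z) = 𝟙 _ ≫ F.map (ε Z) := (Category.id_comp _).symm
    rw [h1, Adjunction.homEquiv_naturality_right_symm, eps_nat]
  intro Z hZ
  constructor
  · intro g g' h
    have h' : F.map g = F.map g' := h
    apply κmono
    apply (hG Z hZ).1
    show F.map (g ≫ κ) = F.map (g' ≫ κ)
    rw [F.map_comp, F.map_comp, h']
  · intro h
    obtain ⟨a, ha⟩ := (hG Z hZ).2 (h ≫ F.map κ)
    have ha' : F.map a = h ≫ F.map κ := ha
    have haf : a ≫ f = ε Z := by
      apply (hH Z hZ).1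
      show F.map (a ≫ f) = F.map (ε Z)
      rw [F.map_comp, ha', Category.assoc, ← F.map_comp, hκε, Fε]
    have hafl : a.left ≫ f.left = Z.hom ≫ e := congrArg (fun t => t.left) haf
    let g : Z ⟶ K := Over.homMk (pullback.lift a.left Z.hom hafl)
      (by
        show pullback.lift a.left Z.hom _ ≫ pullback.snd f.left e = Z.hom
        rw [pullback.lift_snd])
    refine ⟨g, ?_⟩
    show F.map g = h
    have hg1 : g ≫ κ = a := by
      apply Over.OverMorphism.ext
      show pullback.lift a.left Z.hom _ ≫ pullback.fst f.left e = a.left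
      rw [pullback.lift_fst]
    apply Fκmono
    rw [← F.map_comp, hg1, ha']

/-- Let S be a locally Noetherian scheme over a field of characteristic 0, S₀ ⊆ S a scheme-theoretically
dense open, and G, H smooth S-schemes with the Néron mapping property for S₀ ⊆ S (restriction to S₀
of S-morphisms from smooth S-schemes is bijective). Let f : G → H be an S-morphism and e : S → H a
section of H → S, and let K = G ×_H S be the fibre of f over e (the case in view: f a homomorphism
of smooth group schemes, e the unit, K the kernel, so that 1 → K → G → H is left exact). If K → S is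
smooth, then K has the Néron mapping property for S₀ ⊆ S. (Case of schemes, with smooth test
schemes, of a statement about group algebraic spaces.) -/
theorem result {k : Type u} [Field k] [CharZero k] {S : Scheme.{u}} (σ : S ⟶ Spec (CommRingCat.of k)) [IsLocallyNoetherian S] (S₀ : S.Opens) (hS₀ : CInt.IsSchematicallyDense S₀)
    (G H : Over S) [Smooth G.hom] [Smooth H.hom]
    (hG : ∀ Z : Over S, Smooth Z.hom → Function.Bijective (fun g : Z ⟶ G => (Over.pullback S₀.ι).map g))
    (hH : ∀ Z : Over S, Smooth Z.hom → Function.Bijective (fun g : Z ⟶ H => (Over.pullback S₀.ι).map g))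
    (f : G ⟶ H) (e : S ⟶ H.left) (he : e ≫ H.hom = 𝟙 S)
    [Smooth (Limits.pullback.snd f.left e)] :
    ∀ Z : Over S, Smooth Z.hom → Function.Bijective (fun g : Z ⟶ Over.mk (Limits.pullback.snd f.left e) => (Over.pullback S₀.ι).map g) := by
  exact aux S₀ G H hG hH f e he

end Groth.Agent.S13427
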