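import Groth.Statements.S13434
import Mathlib
import Groth.Agent.Lib.MonoTgt6_helper9

set_option autoImplicit false
universe u
open W4c1hilbpn

namespace Groth.Agent.S13434

open W4c1hilbpn in
/-- Let k be an infinite field, n ≥ 2, S the polynomial ring over k in n variables, I a monomial ideal
of S of finite colength and T(I) = Hom_S(I, S/I) with its grading by integer vectors. The graded
piece of T(I) in every multidegree all of whose entries are nonnegative, or all of whose entries are
negative, vanishes, and T(I) is spanned by its pieces of non-constant sign pattern (the spans, over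
the sets N of variable indices that are neither empty nor all indices, of the graded pieces whose
multidegree is negative exactly at N). -/
theorem result (k : Type u) [Field k] [Infinite k]
    (n : ℕ) (hn : 2 ≤ n) (I : Ideal (MvPolynomial (Fin n) k)) (hI : IsMonomial I)
    [Module.Finite k (MvPolynomial (Fin n) k ⧸ I)] :
    (∀ α : Fin n → ℤ, ((∀ i, 0 ≤ α i) ∨ (∀ i, α i < 0)) → tPiece I α = ⊥) ∧
      (⨆ N : {N : Set (Fin n) // N.Nonempty ∧ N ≠ Set.univ}, sigPiece I N.1) = ⊤ := by
  have hnt : Nontrivial (Fin n) := Fin.nontrivial_iff_two_le.mpr hn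
  have h1 : ∀ α : Fin n → ℤ, ((∀ i, 0 ≤ α i) ∨ (∀ i, α i < 0)) → tPiece I α = ⊥ := by
    rintro α (h | h)
    · exact Groth.Agent.MonoTgt9.tPiece_eq_bot_of_nonneg I hI α h
    · exact Groth.Agent.MonoTgt9.tPiece_eq_bot_of_neg I hI α h
  refine ⟨h1, ?_⟩
  rw [eq_top_iff, ← Groth.Agent.MonoTgt9.iSup_tPiece_eq_top I hI]
  apply iSup_le
  intro α
  by_cases h : (∀ i, 0 ≤ α i) ∨ (∀ i, α i < 0)
  · rw [h1 α h]; exact bot_le
  · have h' : (∃ i, α i < 0) ∧ (∃ i, 0 ≤ α i) := by
      constructor
      · by_contra hc
        apply h; left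
        intro i
        by_contra hi
        exact hc ⟨i, not_le.mp hi⟩
      · by_contra hc
        apply h; right
        intro i
        by_contra hi
        exact hc ⟨i, not_lt.mp hi⟩
    let N : Set (Fin n) := {i | α i < 0}
    have hN : N.Nonempty ∧ N ≠ Set.univ := by
      constructor
      · obtain ⟨i, hi⟩ := h'.1
        exact ⟨i, hi⟩
      · intro hu
        obtain ⟨i, hi⟩ := h'.2
        have : i ∈ N := hu ▸ Set.mem_univ i
        exact absurd this (not_lt.mpr hi)
    refine le_trans ?_ (le_iSup (fun N : {N : Set (Fin n) // N.Nonempty ∧ N ≠ Set.univ} => sigPiece I N.1) ⟨N, hN⟩)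
    unfold sigPiece
    exact le_iSup (fun α : {α : Fin n → ℤ // ∀ i, α i < 0 ↔ i ∈ N} => tPiece I α.1) ⟨α, fun i => Iff.rfl⟩

end Groth.Agent.S13434
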