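import Groth.Statements.S13438
import Mathlib
import Groth.Agent.Lib.MonoTgt7_helper9

set_option autoImplicit false
universe u
open W4c1hilbpn

open Groth.Agent.MonoTgt9
namespace Groth.Agent.S13438

open W4c1hilbpn in
/-- Let k be an infinite field, S = k[x,y,z], and T(I) = Hom_S(I, S/I) graded by triples of integers (a
graded piece is indexed by its multidegree; its sign pattern records which of the three entries are
negative); let I be a monomial ideal of finite colength whose minimal monomial generators include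
x^a1 y^a2, x^b1 z^b3 and y^c2 z^c3 with all six exponents positive, and assume a1 ≥ b1 and a2 ≥ c2,
or b1 ≥ a1 and b3 ≥ c3, or c2 ≥ a2 and c3 ≥ b3. Then T(I) has a nonzero graded piece whose sign
pattern is negative at exactly two of the three variables. (The published statement draws the
conclusion that the corresponding point of the Hilbert scheme of points of affine 3-space is
singular; this row records the nonvanishing of a tangent piece of forbidden sign pattern, from which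
singularity follows by the smoothness criterion for monomial points.) -/
theorem result (k : Type u) [Field k] [Infinite k]
    (I : Ideal (MvPolynomial (Fin 3) k)) (hI : IsMonomial I) [Module.Finite k (MvPolynomial (Fin 3) k ⧸ I)]
    (a1 a2 b1 b3 c2 c3 : ℕ) (ha1 : 0 < a1) (ha2 : 0 < a2) (hb1 : 0 < b1) (hb3 : 0 < b3)
    (hc2 : 0 < c2) (hc3 : 0 < c3)
    (hA : e3 a1 a2 0 ∈ exps I ∧ e3 (a1 - 1) a2 0 ∉ exps I ∧ e3 a1 (a2 - 1) 0 ∉ exps I)
    (hB : e3 b1 0 b3 ∈ exps I ∧ e3 (b1 - 1) 0 b3 ∉ exps I ∧ e3 b1 0 (b3 - 1) ∉ exps I)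
    (hC : e3 0 c2 c3 ∈ exps I ∧ e3 0 (c2 - 1) c3 ∉ exps I ∧ e3 0 c2 (c3 - 1) ∉ exps I)
    (hcase : (b1 ≤ a1 ∧ c2 ≤ a2) ∨ (a1 ≤ b1 ∧ c3 ≤ b3) ∨ (a2 ≤ c2 ∧ b3 ≤ c3)) :
    sigPiece I ({0, 1} : Set (Fin 3)) ≠ ⊥ ∨ sigPiece I ({0, 2} : Set (Fin 3)) ≠ ⊥ ∨
      sigPiece I ({1, 2} : Set (Fin 3)) ≠ ⊥ := by
  have key := Groth.Agent.MonoTgt9.exists_tPiece_ne_bot I hI
  have hle3 : ∀ {a b c a' b' c' : ℕ}, a ≤ a' → b ≤ b' → c ≤ c' → e3 a b c ≤ e3 a' b' c' :=
    fun h0 h1 h2 => e3_le_e3 h0 h1 h2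
  rcases hcase with ⟨h1, h2⟩ | ⟨h1, h2⟩ | ⟨h1, h2⟩
  · left
    have hγ0 : e3 0 0 (max b3 c3) ∉ exps I := by
      rcases le_total b3 c3 with h | h
      · rw [max_eq_right h]
        intro hc; exact hC.2.1 (exps_of_le I hc (hle3 (Nat.zero_le _) (Nat.zero_le _) le_rfl))
      · rw [max_eq_left h]
        intro hc; exact hB.2.1 (exps_of_le I hc (hle3 (Nat.zero_le _) (Nat.zero_le _) le_rfl))
    have hmin : ∀ i, 0 < e3 a1 a2 0 i → e3 a1 a2 0 - Finsupp.single i 1 ∉ exps I := by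
      intro i hi
      fin_cases i
      · show e3 a1 a2 0 - Finsupp.single 0 1 ∉ exps I
        rw [e3_sub_single0]; exact hA.2.1
      · show e3 a1 a2 0 - Finsupp.single 1 1 ∉ exps I
        rw [e3_sub_single1]; exact hA.2.2
      · exfalso
        have h0 : e3 a1 a2 0 2 = 0 := e3_apply2 _ _ _
        have hi' : 0 < e3 a1 a2 0 2 := hi
        omega
    obtain ⟨γ, hle, hγ, hne⟩ := key (e3 a1 a2 0) (e3 0 0 (max b3 c3)) hA.1 hmin hγ0
    rw [e3_le_iff] at hle
    have hγ0' : γ 0 < b1 := by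
      by_contra hc
      apply hγ
      apply exps_of_le I hB.1
      rw [e3_le_iff]
      exact ⟨not_lt.mp hc, Nat.zero_le _, le_trans (le_max_left _ _) hle.2.2⟩
    have hγ1' : γ 1 < c2 := by
      by_contra hc
      apply hγ
      apply exps_of_le I hC.1
      rw [e3_le_iff]
      exact ⟨Nat.zero_le _, not_lt.mp hc, le_trans (le_max_right _ _) hle.2.2⟩
    apply sigPiece_ne_bot_of_tPiece I (dv γ (e3 a1 a2 0)) _ _ hne
    intro i
    fin_cases i
    · show dv γ (e3 a1 a2 0) 0 < 0 ↔ (0 : Fin 3) ∈ ({0, 1} : Set (Fin 3))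
      have hm : (0 : Fin 3) ∈ ({0, 1} : Set (Fin 3)) := by simp
      refine ⟨fun _ => hm, fun _ => ?_⟩
      simp only [dv, e3_apply0]; omega
    · show dv γ (e3 a1 a2 0) 1 < 0 ↔ (1 : Fin 3) ∈ ({0, 1} : Set (Fin 3))
      have hm : (1 : Fin 3) ∈ ({0, 1} : Set (Fin 3)) := by simp
      refine ⟨fun _ => hm, fun _ => ?_⟩
      simp only [dv, e3_apply1]; omega
    · show dv γ (e3 a1 a2 0) 2 < 0 ↔ (2 : Fin 3) ∈ ({0, 1} : Set (Fin 3))
      have hm : (2 : Fin 3) ∉ ({0, 1} : Set (Fin 3)) := by simp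
      refine ⟨fun h => ?_, fun h => absurd h hm⟩
      simp only [dv, e3_apply2] at h; omega
  · right; left
    have hγ0 : e3 0 (max a2 c2) 0 ∉ exps I := by
      rcases le_total a2 c2 with h | h
      · rw [max_eq_right h]
        intro hc; exact hC.2.2 (exps_of_le I hc (hle3 (Nat.zero_le _) le_rfl (Nat.zero_le _)))
      · rw [max_eq_left h]
        intro hc; exact hA.2.1 (exps_of_le I hc (hle3 (Nat.zero_le _) le_rfl (Nat.zero_le _)))
    have hmin : ∀ i, 0 < e3 b1 0 b3 i → e3 b1 0 b3 - Finsupp.single i 1 ∉ exps I := by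
      intro i hi
      fin_cases i
      · show e3 b1 0 b3 - Finsupp.single 0 1 ∉ exps I
        rw [e3_sub_single0]; exact hB.2.1
      · exfalso
        have h0 : e3 b1 0 b3 1 = 0 := e3_apply1 _ _ _
        have hi' : 0 < e3 b1 0 b3 1 := hi
        omega
      · show e3 b1 0 b3 - Finsupp.single 2 1 ∉ exps I
        rw [e3_sub_single2]; exact hB.2.2
    obtain ⟨γ, hle, hγ, hne⟩ := key (e3 b1 0 b3) (e3 0 (max a2 c2) 0) hB.1 hmin hγ0
    rw [e3_le_iff] at hle
    have hγ0' : γ 0 < a1 := by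
      by_contra hc
      apply hγ
      apply exps_of_le I hA.1
      rw [e3_le_iff]
      exact ⟨not_lt.mp hc, le_trans (le_max_left _ _) hle.2.1, Nat.zero_le _⟩
    have hγ2' : γ 2 < c3 := by
      by_contra hc
      apply hγ
      apply exps_of_le I hC.1
      rw [e3_le_iff]
      exact ⟨Nat.zero_le _, le_trans (le_max_right _ _) hle.2.1, not_lt.mp hc⟩
    apply sigPiece_ne_bot_of_tPiece I (dv γ (e3 b1 0 b3)) _ _ hne
    intro i
    fin_cases i
    · show dv γ (e3 b1 0 b3) 0 < 0 ↔ (0 : Fin 3) ∈ ({0, 2} : Set (Fin 3))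
      have hm : (0 : Fin 3) ∈ ({0, 2} : Set (Fin 3)) := by simp
      refine ⟨fun _ => hm, fun _ => ?_⟩
      simp only [dv, e3_apply0]; omega
    · show dv γ (e3 b1 0 b3) 1 < 0 ↔ (1 : Fin 3) ∈ ({0, 2} : Set (Fin 3))
      have hm : (1 : Fin 3) ∉ ({0, 2} : Set (Fin 3)) := by simp
      refine ⟨fun h => ?_, fun h => absurd h hm⟩
      simp only [dv, e3_apply1] at h; omega
    · show dv γ (e3 b1 0 b3) 2 < 0 ↔ (2 : Fin 3) ∈ ({0, 2} : Set (Fin 3))
      have hm : (2 : Fin 3) ∈ ({0, 2} : Set (Fin 3)) := by simp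
      refine ⟨fun _ => hm, fun _ => ?_⟩
      simp only [dv, e3_apply2]; omega
  · right; right
    have hγ0 : e3 (max a1 b1) 0 0 ∉ exps I := by
      rcases le_total a1 b1 with h | h
      · rw [max_eq_right h]
        intro hc; exact hB.2.2 (exps_of_le I hc (hle3 le_rfl (Nat.zero_le _) (Nat.zero_le _)))
      · rw [max_eq_left h]
        intro hc; exact hA.2.2 (exps_of_le I hc (hle3 le_rfl (Nat.zero_le _) (Nat.zero_le _)))
    have hmin : ∀ i, 0 < e3 0 c2 c3 i → e3 0 c2 c3 - Finsupp.single i 1 ∉ exps I := by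
      intro i hi
      fin_cases i
      · exfalso
        have h0 : e3 0 c2 c3 0 = 0 := e3_apply0 _ _ _
        have hi' : 0 < e3 0 c2 c3 0 := hi
        omega
      · show e3 0 c2 c3 - Finsupp.single 1 1 ∉ exps I
        rw [e3_sub_single1]; exact hC.2.1
      · show e3 0 c2 c3 - Finsupp.single 2 1 ∉ exps I
        rw [e3_sub_single2]; exact hC.2.2
    obtain ⟨γ, hle, hγ, hne⟩ := key (e3 0 c2 c3) (e3 (max a1 b1) 0 0) hC.1 hmin hγ0
    rw [e3_le_iff] at hle
    have hγ1' : γ 1 < a2 := by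
      by_contra hc
      apply hγ
      apply exps_of_le I hA.1
      rw [e3_le_iff]
      exact ⟨le_trans (le_max_left _ _) hle.1, not_lt.mp hc, Nat.zero_le _⟩
    have hγ2' : γ 2 < b3 := by
      by_contra hc
      apply hγ
      apply exps_of_le I hB.1
      rw [e3_le_iff]
      exact ⟨le_trans (le_max_right _ _) hle.1, Nat.zero_le _, not_lt.mp hc⟩
    apply sigPiece_ne_bot_of_tPiece I (dv γ (e3 0 c2 c3)) _ _ hne
    intro i
    fin_cases i
    · show dv γ (e3 0 c2 c3) 0 < 0 ↔ (0 : Fin 3) ∈ ({1, 2} : Set (Fin 3))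
      have hm : (0 : Fin 3) ∉ ({1, 2} : Set (Fin 3)) := by simp
      refine ⟨fun h => ?_, fun h => absurd h hm⟩
      simp only [dv, e3_apply0] at h; omega
    · show dv γ (e3 0 c2 c3) 1 < 0 ↔ (1 : Fin 3) ∈ ({1, 2} : Set (Fin 3))
      have hm : (1 : Fin 3) ∈ ({1, 2} : Set (Fin 3)) := by simp
      refine ⟨fun _ => hm, fun _ => ?_⟩
      simp only [dv, e3_apply1]; omega
    · show dv γ (e3 0 c2 c3) 2 < 0 ↔ (2 : Fin 3) ∈ ({1, 2} : Set (Fin 3))
      have hm : (2 : Fin 3) ∈ ({1, 2} : Set (Fin 3)) := by simp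
      refine ⟨fun _ => hm, fun _ => ?_⟩
      simp only [dv, e3_apply2]; omega

end Groth.Agent.S13438
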