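import Groth.Statements.S13439
import Mathlib
import Groth.Agent.Lib.MonoTgt9_helper9
import Groth.Agent.S13438

set_option autoImplicit false
universe u
open W4c1hilbpn

open Groth.Agent.MonoTgt9
namespace Groth.Agent.S13439

open W4c1hilbpn in
/-- Let k be an infinite field, S = k[x,y,z], and T(I) = Hom_S(I, S/I) graded by triples of integers (a
graded piece is indexed by its multidegree; its sign pattern records which of the three entries are
negative); let I be a strongly stable ideal of finite colength (variables ordered x > y > z). Then x
lies in I if and only if the three graded pieces of T(I) whose sign pattern is negative at exactly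
two of the three variables all vanish. (The published statement phrases the right-hand side as
smoothness of the corresponding point of the Hilbert scheme of points of affine 3-space, which for a
monomial point is equivalent to this vanishing; the row records the vanishing condition, which is
what the argument establishes.) -/
theorem result (k : Type u) [Field k] [Infinite k]
    (I : Ideal (MvPolynomial (Fin 3) k)) (hI : IsStronglyStable I) [Module.Finite k (MvPolynomial (Fin 3) k ⧸ I)] :
    (MvPolynomial.X 0 : MvPolynomial (Fin 3) k) ∈ I ↔
      (sigPiece I ({1, 2} : Set (Fin 3)) = ⊥ ∧ sigPiece I ({0, 2} : Set (Fin 3)) = ⊥ ∧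
        sigPiece I ({0, 1} : Set (Fin 3)) = ⊥) := by
  have hmono := hI.1
  have hX : (MvPolynomial.X 0 : MvPolynomial (Fin 3) k) ∈ I ↔ e3 1 0 0 ∈ exps I := by
    rw [e3_100]; exact Iff.rfl
  rw [hX]
  constructor
  · intro hx
    rw [e3_100] at hx
    refine ⟨?_, ?_, ?_⟩
    · unfold sigPiece
      rw [iSup_eq_bot]
      rintro ⟨α, hα⟩
      show tPiece I α = ⊥
      have h0 : 0 ≤ α 0 := by
        by_contra hc
        have := (hα 0).mp (not_le.mp hc)
        simp at this
      have h1 : α 1 < 0 := (hα 1).mpr (by simp)
      have h2 : α 2 < 0 := (hα 2).mpr (by simp)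
      rcases h0.lt_or_eq with h | h
      · exact tPiece_eq_bot_of_var_mem_pos I hmono α 0 hx h
      · apply tPiece_eq_bot_of_nonpos_two_neg I hmono α _ 1 2 (by decide) h1 h2
        intro i
        fin_cases i
        · exact h.symm.le
        · exact h1.le
        · exact h2.le
    · unfold sigPiece
      rw [iSup_eq_bot]
      rintro ⟨α, hα⟩
      show tPiece I α = ⊥
      have h0 : α 0 < 0 := (hα 0).mpr (by simp)
      have h2 : α 2 < 0 := (hα 2).mpr (by simp)
      exact tPiece_eq_bot_of_var_mem I hmono α 0 2 (by decide) hx h0 h2
    · unfold sigPiece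
      rw [iSup_eq_bot]
      rintro ⟨α, hα⟩
      show tPiece I α = ⊥
      have h0 : α 0 < 0 := (hα 0).mpr (by simp)
      have h1 : α 1 < 0 := (hα 1).mpr (by simp)
      exact tPiece_eq_bot_of_var_mem I hmono α 0 1 (by decide) hx h0 h1
  · rintro ⟨h12, h02, h01⟩
    by_contra hx
    obtain ⟨a, b, c, ha, hb, hc, hA, hB, hC⟩ := ss_gens I hI hx
    have := Groth.Agent.S13438.result k I hmono 1 a 1 b 1 c (by omega) ha (by omega) hb (by omega) hc
      hA hB hC (Or.inl ⟨le_rfl, by omega⟩)
    rcases this with h | h | h
    · exact h h01
    · exact h h02
    · exact h h12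

end Groth.Agent.S13439
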