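import Groth.Statements.S13441
import Mathlib

set_option autoImplicit false
universe u
open W4c1hilbpn

namespace Groth.Agent.S13441

section
open MvPolynomial W4c1hilbpn

theorem e3_apply2 (a b c : ℕ) : e3 a b c 2 = c := by simp [e3]
theorem e3_apply1 (a b c : ℕ) : e3 a b c 1 = b := by simp [e3]
theorem e3_apply0 (a b c : ℕ) : e3 a b c 0 = a := by simp [e3]

theorem e3_shift_yx (i j c : ℕ) :
    e3 i (j+1) c - Finsupp.single 1 1 + Finsupp.single 0 1 = e3 (i+1) j c := by
  ext idx
  simp only [Finsupp.coe_add, Finsupp.coe_tsub, Pi.add_apply, Pi.sub_apply, Finsupp.single_apply]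
  fin_cases idx
  · show e3 i (j+1) c 0 - _ + _ = e3 (i+1) j c 0
    simp [e3_apply0]
  · show e3 i (j+1) c 1 - _ + _ = e3 (i+1) j c 1
    simp [e3_apply1]
  · show e3 i (j+1) c 2 - _ + _ = e3 (i+1) j c 2
    simp [e3_apply2]

theorem e3_shift_zx (i b j : ℕ) :
    e3 i b (j+1) - Finsupp.single 2 1 + Finsupp.single 0 1 = e3 (i+1) b j := by
  ext idx
  simp only [Finsupp.coe_add, Finsupp.coe_tsub, Pi.add_apply, Pi.sub_apply, Finsupp.single_apply]
  fin_cases idx
  · show e3 i b (j+1) 0 - _ + _ = e3 (i+1) b j 0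
    simp [e3_apply0]
  · show e3 i b (j+1) 1 - _ + _ = e3 (i+1) b j 1
    simp [e3_apply1]
  · show e3 i b (j+1) 2 - _ + _ = e3 (i+1) b j 2
    simp [e3_apply2]

theorem finite_nonexps {σ : Type*} {k : Type*} [Field k] (I : Ideal (MvPolynomial σ k))
    (hI : IsMonomial I) [Module.Finite k (MvPolynomial σ k ⧸ I)] :
    Finite {β : σ →₀ ℕ // β ∉ exps I} := by
  classical
  have hli : LinearIndependent k (fun β : {β : σ →₀ ℕ // β ∉ exps I} =>
      Ideal.Quotient.mk I (monomial β.1 (1:k))) := by
    rw [linearIndependent_iff']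
    intro s g hg β₀ hβ₀
    by_contra hne
    have hp : (∑ β ∈ s, monomial β.1 (g β)) ∈ I := by
      rw [← Ideal.Quotient.eq_zero_iff_mem, map_sum, ← hg]
      apply Finset.sum_congr rfl
      intro β _
      rw [← Ideal.Quotient.mkₐ_eq_mk k, ← map_smul, smul_monomial, smul_eq_mul, mul_one]
    have hcoeff : coeff β₀.1 (∑ β ∈ s, monomial β.1 (g β)) = g β₀ := by
      rw [coeff_sum, Finset.sum_eq_single β₀]
      · rw [coeff_monomial, if_pos rfl]
      · intro b _ hb
        rw [coeff_monomial, if_neg]
        intro h; exact hb (Subtype.ext h)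
      · intro h; exact absurd hβ₀ h
    have hsupp : β₀.1 ∈ (∑ β ∈ s, monomial β.1 (g β)).support := by
      rw [mem_support_iff, hcoeff]; exact hne
    exact β₀.2 (hI _ hp _ hsupp)
  exact hli.finite_of_isNoetherian

theorem aux (k : Type u) [Field k]
    (I : Ideal (MvPolynomial (Fin 3) k)) (hI : IsStronglyStable I)
    [Module.Finite k (MvPolynomial (Fin 3) k ⧸ I)] (i j : ℕ) :
    stairZ I (i + 1) j ≤ stairZ I i (j + 1) ∧ stairY I (i + 1) j ≤ stairY I i (j + 1) := by
  haveI := finite_nonexps I hI.1
  constructor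
  · unfold stairZ
    haveI : Finite {c : ℕ // e3 i (j + 1) c ∉ exps I} :=
      Finite.of_injective (fun c => (⟨e3 i (j+1) c.1, c.2⟩ : {β : Fin 3 →₀ ℕ // β ∉ exps I}))
        (by
          intro c c' h
          have h1 := congrArg (fun t => t.1 2) h
          simp only [e3_apply2] at h1
          exact Subtype.ext h1)
    apply Nat.card_le_card_of_injective
      (fun c : {c : ℕ // e3 (i + 1) j c ∉ exps I} =>
        (⟨c.1, fun h => c.2 (by
          have h1 := hI.2 _ h 0 1 (by decide) (by rw [e3_apply1]; omega)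
          rwa [e3_shift_yx] at h1)⟩ : {c : ℕ // e3 i (j + 1) c ∉ exps I}))
    intro c c' h
    exact Subtype.ext (congrArg (fun t => t.1) h)
  · unfold stairY
    haveI : Finite {b : ℕ // e3 i b (j + 1) ∉ exps I} :=
      Finite.of_injective (fun b => (⟨e3 i b.1 (j+1), b.2⟩ : {β : Fin 3 →₀ ℕ // β ∉ exps I}))
        (by
          intro b b' h
          have h1 := congrArg (fun t => t.1 1) h
          simp only [e3_apply1] at h1
          exact Subtype.ext h1)
    apply Nat.card_le_card_of_injective
      (fun b : {b : ℕ // e3 (i + 1) b j ∉ exps I} =>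
        (⟨b.1, fun h => b.2 (by
          have h1 := hI.2 _ h 0 2 (by decide) (by rw [e3_apply2]; omega)
          rwa [e3_shift_zx] at h1)⟩ : {b : ℕ // e3 i b (j + 1) ∉ exps I}))
    intro b b' h
    exact Subtype.ext (congrArg (fun t => t.1) h)
end

open W4c1hilbpn in
/-- Let k be an infinite field, S = k[x,y,z] with variables ordered x > y > z, and I a strongly stable
ideal of finite colength, with staircase numbers b^z_{i,j} = the number of c with x^i y^j z^c
outside I and b^y_{i,j} = the number of b with x^i y^b z^j outside I. Then b^z_{i+1,j} ≤ b^z_{i,j+1}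
and b^y_{i+1,j} ≤ b^y_{i,j+1} for all i and j (equivalently the maximum of the two neighbouring
staircase numbers is the second one). -/
theorem result (k : Type u) [Field k] [Infinite k]
    (I : Ideal (MvPolynomial (Fin 3) k)) (hI : IsStronglyStable I) [Module.Finite k (MvPolynomial (Fin 3) k ⧸ I)] (i j : ℕ) :
    stairZ I (i + 1) j ≤ stairZ I i (j + 1) ∧ stairY I (i + 1) j ≤ stairY I i (j + 1) := by
  exact aux k I hI i j

end Groth.Agent.S13441
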