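import Groth.Statements.S13444
import Mathlib
import Groth.Agent.Lib.HilbLen2_helper5
import Groth.Agent.Lib.HilbLen3_helper5

set_option autoImplicit false
universe u
open W4c1hilbpn

namespace Groth.Agent.S13444

/-- Let R be a regular local ring of Krull dimension 2 and I, J ideals of R such that R/I and R/J have
finite length. Then the length of Hom_R(I, R/J) equals the length of R/J plus the length of (I :
J)/I; here the last length is moved to the other side as the length of R/(I : J), using that I ⊆ (I
: J) and all lengths are finite. -/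
theorem result (R : Type u) [CommRing R]
    [IsRegularLocalRing R] (hdim : ringKrullDim R = 2) (I J : Ideal R)
    (hI : Module.length R (R ⧸ I) < ⊤) (hJ : Module.length R (R ⧸ J) < ⊤) :
    Module.length R (↥I →ₗ[R] (R ⧸ J)) + Module.length R (R ⧸ I.colon J) =
      Module.length R (R ⧸ J) + Module.length R (R ⧸ I) := by
  have hI' : IsFiniteLength R (R ⧸ I) := Module.length_ne_top_iff.mp hI.ne
  have hJ' : IsFiniteLength R (R ⧸ J) := Module.length_ne_top_iff.mp hJ.ne
  have hIne : I ≠ ⊥ := by
    rintro rfl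
    have e : (R ⧸ (⊥ : Ideal R)) ≃ₗ[R] R := Submodule.quotEquivOfEqBot ⊥ rfl
    have hR : IsFiniteLength R R := by
      rw [← Module.length_ne_top_iff, ← e.length_eq]
      exact hI.ne
    haveI : IsArtinianRing R := (isFiniteLength_iff_isNoetherian_isArtinian.mp hR).2
    have h0 : ringKrullDim R ≤ ((0 : ℕ) : WithBot ℕ∞) :=
      Ring.krullDimLE_iff.mp (inferInstance : Ring.KrullDimLE 0 R)
    rw [hdim] at h0
    have h00 : ((2 : ℕ) : WithBot ℕ∞) ≤ ((0 : ℕ) : WithBot ℕ∞) := h0
    have : (2 : ℕ) ≤ 0 := by exact_mod_cast h00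
    omega
  obtain ⟨h1, hfin⟩ := Groth.Agent.Lib.HilbLen.length_hom_ideal R hdim I hIne (R ⧸ J) hJ
  have h2 := Groth.Agent.Lib.HilbLen.length_ext_two R hdim (R ⧸ I) (R ⧸ J) hI' hJ' hfin
  have h3 := Groth.Agent.Lib.HilbLen.length_colon I J
  rw [h1, h2, add_assoc, h3]

end Groth.Agent.S13444
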