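import Groth.Statements.S13453
import Mathlib
import Groth.Agent.S13441

set_option autoImplicit false
universe u
open W4c1hilbpn

namespace Groth.Agent.S13453

section
open MvPolynomial W4c1hilbpn Groth.Agent.S13441

theorem e3_shift_zy (a b c : ℕ) :
    e3 a b (c+1) - Finsupp.single 2 1 + Finsupp.single 1 1 = e3 a (b+1) c := by
  ext idx
  simp only [Finsupp.coe_add, Finsupp.coe_tsub, Pi.add_apply, Pi.sub_apply, Finsupp.single_apply]
  fin_cases idx
  · show e3 a b (c+1) 0 - _ + _ = e3 a (b+1) c 0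
    simp [e3_apply0]
  · show e3 a b (c+1) 1 - _ + _ = e3 a (b+1) c 1
    simp [e3_apply1]
  · show e3 a b (c+1) 2 - _ + _ = e3 a (b+1) c 2
    simp [e3_apply2]

theorem sh_eq (a : ℕ) (β : Fin 2 →₀ ℕ) :
    Finsupp.mapDomain Fin.succ β + Finsupp.single (0 : Fin 3) a = e3 a (β 0) (β 1) := by
  ext idx
  simp only [Finsupp.coe_add, Pi.add_apply, Finsupp.single_apply]
  fin_cases idx
  · show Finsupp.mapDomain Fin.succ β 0 + _ = e3 a (β 0) (β 1) 0
    rw [Finsupp.mapDomain_notin_range _ _ (by rintro ⟨x, hx⟩; exact Fin.succ_ne_zero x hx),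
      e3_apply0]
    simp
  · show Finsupp.mapDomain Fin.succ β (Fin.succ 0) + _ = e3 a (β 0) (β 1) 1
    rw [Finsupp.mapDomain_apply (Fin.succ_injective _), e3_apply1]
    simp
  · show Finsupp.mapDomain Fin.succ β (Fin.succ 1) + _ = e3 a (β 0) (β 1) 2
    rw [Finsupp.mapDomain_apply (Fin.succ_injective _), e3_apply2]
    simp

variable {k : Type u} [Field k]

theorem mono_shift (a : ℕ) (β : Fin 2 →₀ ℕ) (c : k) :
    rename Fin.succ (monomial β c) * (X 0 : MvPolynomial (Fin 3) k) ^ a =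
      monomial (e3 a (β 0) (β 1)) c := by
  rw [rename_monomial, X_pow_eq_monomial, monomial_mul, mul_one, sh_eq]

theorem coeff_shift (a : ℕ) (β : Fin 2 →₀ ℕ) (p : MvPolynomial (Fin 2) k) :
    coeff (e3 a (β 0) (β 1)) (rename Fin.succ p * (X 0 : MvPolynomial (Fin 3) k) ^ a) =
      coeff β p := by
  rw [← sh_eq, X_pow_eq_monomial, coeff_mul_monomial, mul_one,
    coeff_rename_mapDomain _ (Fin.succ_injective _)]

theorem sum_form (a : ℕ) (p : MvPolynomial (Fin 2) k) :
    rename Fin.succ p * (X 0 : MvPolynomial (Fin 3) k) ^ a =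
      ∑ β ∈ p.support, monomial (e3 a (β 0) (β 1)) (coeff β p) := by
  conv_lhs => rw [p.as_sum]
  rw [map_sum, Finset.sum_mul]
  apply Finset.sum_congr rfl
  intro β _
  exact mono_shift a β _

theorem mem_slice (I : Ideal (MvPolynomial (Fin 3) k)) (a : ℕ) (f : MvPolynomial (Fin 2) k) :
    f ∈ sliceX I a ↔ rename Fin.succ f * (X 0 : MvPolynomial (Fin 3) k) ^ a ∈ I := by
  unfold sliceX
  rw [Ideal.mem_comap, Submodule.mem_colon_singleton, smul_eq_mul]
  rfl

theorem aux (I : Ideal (MvPolynomial (Fin 3) k)) (hI : IsStronglyStable I) (i : ℕ) :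
    IsStronglyStable (sliceX I i) ∧
      (sliceX I i).colon {(MvPolynomial.X 0 : MvPolynomial (Fin 2) k)} ≤ sliceX I (i + 1) := by
  have hexps : ∀ (a : ℕ) (β : Fin 2 →₀ ℕ),
      β ∈ exps (sliceX I a) ↔ e3 a (β 0) (β 1) ∈ exps I := by
    intro a β
    show monomial β (1:k) ∈ sliceX I a ↔ monomial (e3 a (β 0) (β 1)) (1:k) ∈ I
    rw [mem_slice, mono_shift]
  have hmono : ∀ a, IsMonomial (sliceX I a) := by
    intro a p hp β hβ
    rw [mem_slice] at hp
    have h1 : e3 a (β 0) (β 1) ∈ (rename Fin.succ p * (X 0 : MvPolynomial (Fin 3) k) ^ a).support := by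
      rw [mem_support_iff, coeff_shift]; exact mem_support_iff.mp hβ
    exact (hexps a β).mpr (hI.1 _ hp _ h1)
  refine ⟨⟨hmono i, ?_⟩, ?_⟩
  · intro β hβ i' j' hij hpos
    have h1 := i'.isLt
    have h2 := j'.isLt
    have h3 : i'.val < j'.val := hij
    obtain rfl : i' = 0 := Fin.ext (by show i'.val = 0; omega)
    obtain rfl : j' = 1 := Fin.ext (by show j'.val = 1; omega)
    have e0 : (β - Finsupp.single (1 : Fin 2) 1 + Finsupp.single (0 : Fin 2) 1 : Fin 2 →₀ ℕ) 0 = β 0 + 1 := by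
      simp [Finsupp.single_apply]
    have e1 : (β - Finsupp.single (1 : Fin 2) 1 + Finsupp.single (0 : Fin 2) 1 : Fin 2 →₀ ℕ) 1 = β 1 - 1 := by
      simp [Finsupp.single_apply]
    rw [hexps, e0, e1]
    have hβ' := (hexps i β).mp hβ
    obtain ⟨c, hc⟩ : ∃ c, β 1 = c + 1 := ⟨β 1 - 1, by omega⟩
    rw [hc] at hβ' ⊢
    have h4 := hI.2 _ hβ' 1 2 (by decide) (by rw [e3_apply2]; omega)
    rw [e3_shift_zy] at h4
    rwa [Nat.add_sub_cancel]
  · intro f hf
    rw [Submodule.mem_colon_singleton, smul_eq_mul, mem_slice] at hf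
    rw [mem_slice, sum_form]
    apply Ideal.sum_mem
    intro β hβ
    have hne : coeff β f ≠ 0 := mem_support_iff.mp hβ
    have hmem : e3 (i+1) (β 0) (β 1) ∈ exps I := by
      have h1 : e3 i ((β + Finsupp.single (0 : Fin 2) 1 : Fin 2 →₀ ℕ) 0) ((β + Finsupp.single (0 : Fin 2) 1 : Fin 2 →₀ ℕ) 1) ∈
          (rename Fin.succ (f * X 0) * (X 0 : MvPolynomial (Fin 3) k) ^ i).support := by
        rw [mem_support_iff, coeff_shift, coeff_mul_X]; exact hne
      have h2 := hI.1 _ hf _ h1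
      have e0 : (β + Finsupp.single (0 : Fin 2) 1 : Fin 2 →₀ ℕ) 0 = β 0 + 1 := by simp
      have e1 : (β + Finsupp.single (0 : Fin 2) 1 : Fin 2 →₀ ℕ) 1 = β 1 := by simp
      rw [e0, e1] at h2
      have h3 := hI.2 _ h2 0 1 (by decide) (by rw [e3_apply1]; omega)
      rwa [e3_shift_yx] at h3
    have h5 : monomial (e3 (i+1) (β 0) (β 1)) (coeff β f) =
        C (coeff β f) * monomial (e3 (i+1) (β 0) (β 1)) (1 : k) := by
      rw [C_mul_monomial, mul_one]
    rw [h5]
    exact Ideal.mul_mem_left _ _ hmem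
end

open W4c1hilbpn in
/-- Let k be an infinite field, S = k[x,y,z] with variables ordered x > y > z, and I a strongly stable
ideal of finite colength; write I_i for the ideal of polynomials f in k[y,z] with x^i f in I (so I
is the direct sum of the x^i I_i). Then each I_i is a strongly stable ideal of k[y,z] (with y > z)
and the ideal quotient (I_i : y) is contained in I_{i+1}. -/
theorem result (k : Type u) [Field k] [Infinite k]
    (I : Ideal (MvPolynomial (Fin 3) k)) (hI : IsStronglyStable I) [Module.Finite k (MvPolynomial (Fin 3) k ⧸ I)] (i : ℕ) :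
    IsStronglyStable (sliceX I i) ∧
      (sliceX I i).colon {(MvPolynomial.X 0 : MvPolynomial (Fin 2) k)} ≤ sliceX I (i + 1) := by
  exact aux I hI i

end Groth.Agent.S13453
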