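import Groth.Statements.S13455
import Mathlib

set_option autoImplicit false
universe u
open W4c1hilbpn

namespace Groth.Agent.S13455


section aux
open MvPolynomial
variable {k : Type u} [Field k] {n : ℕ}

theorem XX_eq (p q : Fin (n + 1)) : (X p * X q : MvPolynomial (Fin (n + 1)) k) =
    monomial (Finsupp.single p 1 + Finsupp.single q 1) 1 := by
  show monomial (Finsupp.single p 1) 1 * monomial (Finsupp.single q 1) 1 = _
  rw [monomial_mul, one_mul]

theorem X_eq (p : Fin (n + 1)) : (X p : MvPolynomial (Fin (n + 1)) k) =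
    monomial (Finsupp.single p 1) 1 := rfl

theorem Xsq_eq (p : Fin (n + 1)) : (X p ^ 2 : MvPolynomial (Fin (n + 1)) k) =
    monomial (Finsupp.single p 2) 1 := by
  rw [X_pow_eq_monomial]

theorem single_le_iff (p : Fin (n + 1)) (t : ℕ) (μ : Fin (n + 1) →₀ ℕ) :
    Finsupp.single p t ≤ μ ↔ t ≤ μ p := by
  constructor
  · intro h; have := h p; simpa using this
  · intro h l
    by_cases hl : l = p
    · subst hl; simpa using h
    · have : ¬ p = l := fun h' => hl h'.symm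
      simp [Finsupp.single_apply, this]

theorem single_add_single_le (p q : Fin (n + 1)) (hpq : p ≠ q) (μ : Fin (n + 1) →₀ ℕ)
    (hp : 1 ≤ μ p) (hq : 1 ≤ μ q) : Finsupp.single p 1 + Finsupp.single q 1 ≤ μ := by
  intro l
  simp only [Finsupp.coe_add, Pi.add_apply, Finsupp.single_apply]
  by_cases h1 : p = l
  · subst h1
    have : ¬ q = p := fun h => hpq h.symm
    simp [this]; exact hp
  · by_cases h2 : q = l
    · subst h2; simp [h1]; exact hq
    · simp [h1, h2]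

theorem le_of_single_add_single_le (p q : Fin (n + 1)) (μ : Fin (n + 1) →₀ ℕ)
    (h : Finsupp.single p 1 + Finsupp.single q 1 ≤ μ) : 1 ≤ μ p ∧ 1 ≤ μ q ∧ (p = q → 2 ≤ μ p) := by
  refine ⟨?_, ?_, ?_⟩
  · have := h p; simp only [Finsupp.coe_add, Pi.add_apply, Finsupp.single_eq_same] at this; omega
  · have := h q; simp only [Finsupp.coe_add, Pi.add_apply, Finsupp.single_eq_same] at this; omega
  · intro hpq; subst hpq
    have := h p; simp only [Finsupp.coe_add, Pi.add_apply, Finsupp.single_eq_same] at this; omega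

end aux

/-- Let k be an algebraically closed field of characteristic different from 2, k0 ≥ 1 and n ≥ 2k0 - 1
natural numbers, S = k[x_0, ..., x_n], and e1 ≤ e2 ≤ k0 - 1. The ideal generated by all products x_p
x_q with e1 ≤ p, q ≤ e2 together with the products x_p x_{n-k0+1+q} for e1 ≤ p < q ≤ e2 is the
intersection, over j from e1 to e2, of the ideals generated by the variables x_i with e1 ≤ i ≤ e2
and i ≠ j, the square x_j^2, and the variables x_{n-k0+1+q} for j < q ≤ e2 (a primary decomposition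
of this monomial ideal). -/
theorem result (k : Type u) [Field k] [IsAlgClosed k] (hchar : ringChar k ≠ 2)
    (n k0 e1 e2 : ℕ) (hk : 1 ≤ k0) (hn : 2 * k0 ≤ n + 1) (he : e1 ≤ e2) (he2 : e2 + 1 ≤ k0) :
    Ideal.span ({f : MvPolynomial (Fin (n + 1)) k | ∃ p q : Fin (n + 1), e1 ≤ p.val ∧ p.val ≤ e2 ∧ e1 ≤ q.val ∧ q.val ≤ e2 ∧
        f = MvPolynomial.X p * MvPolynomial.X q} ∪
      {f : MvPolynomial (Fin (n + 1)) k | ∃ p q m : Fin (n + 1), e1 ≤ p.val ∧ p.val < q.val ∧ q.val ≤ e2 ∧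
        m.val + k0 = n + 1 + q.val ∧ f = MvPolynomial.X p * MvPolynomial.X m}) =
    ⨅ j : Fin (n + 1), ⨅ (_ : e1 ≤ j.val ∧ j.val ≤ e2),
      Ideal.span ({f : MvPolynomial (Fin (n + 1)) k | ∃ i : Fin (n + 1), e1 ≤ i.val ∧ i.val ≤ e2 ∧ i ≠ j ∧ f = MvPolynomial.X i} ∪
        {MvPolynomial.X j ^ 2} ∪
        {f : MvPolynomial (Fin (n + 1)) k | ∃ q m : Fin (n + 1), j.val < q.val ∧ q.val ≤ e2 ∧ m.val + k0 = n + 1 + q.val ∧
          f = MvPolynomial.X m}) := by
  classical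
  -- exponent sets
  let SL : Set (Fin (n + 1) →₀ ℕ) :=
    {s | ∃ p q : Fin (n + 1), e1 ≤ p.val ∧ p.val ≤ e2 ∧ e1 ≤ q.val ∧ q.val ≤ e2 ∧
        s = Finsupp.single p 1 + Finsupp.single q 1} ∪
    {s | ∃ p q m : Fin (n + 1), e1 ≤ p.val ∧ p.val < q.val ∧ q.val ≤ e2 ∧
        m.val + k0 = n + 1 + q.val ∧ s = Finsupp.single p 1 + Finsupp.single m 1}
  let SR : Fin (n + 1) → Set (Fin (n + 1) →₀ ℕ) := fun j =>
    {s | ∃ i : Fin (n + 1), e1 ≤ i.val ∧ i.val ≤ e2 ∧ i ≠ j ∧ s = Finsupp.single i 1} ∪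
      {Finsupp.single j 2} ∪
    {s | ∃ q m : Fin (n + 1), j.val < q.val ∧ q.val ≤ e2 ∧ m.val + k0 = n + 1 + q.val ∧
        s = Finsupp.single m 1}
  have hL : ({f : MvPolynomial (Fin (n + 1)) k | ∃ p q : Fin (n + 1), e1 ≤ p.val ∧ p.val ≤ e2 ∧ e1 ≤ q.val ∧ q.val ≤ e2 ∧
        f = MvPolynomial.X p * MvPolynomial.X q} ∪
      {f : MvPolynomial (Fin (n + 1)) k | ∃ p q m : Fin (n + 1), e1 ≤ p.val ∧ p.val < q.val ∧ q.val ≤ e2 ∧
        m.val + k0 = n + 1 + q.val ∧ f = MvPolynomial.X p * MvPolynomial.X m}) =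
      (fun s => MvPolynomial.monomial s (1:k)) '' SL := by
    ext f
    constructor
    · rintro (⟨p, q, h1, h2, h3, h4, rfl⟩ | ⟨p, q, m, h1, h2, h3, h4, rfl⟩)
      · exact ⟨_, Or.inl ⟨p, q, h1, h2, h3, h4, rfl⟩, (XX_eq p q).symm⟩
      · exact ⟨_, Or.inr ⟨p, q, m, h1, h2, h3, h4, rfl⟩, (XX_eq p m).symm⟩
    · rintro ⟨s, (⟨p, q, h1, h2, h3, h4, rfl⟩ | ⟨p, q, m, h1, h2, h3, h4, rfl⟩), rfl⟩
      · exact Or.inl ⟨p, q, h1, h2, h3, h4, (XX_eq p q).symm⟩
      · exact Or.inr ⟨p, q, m, h1, h2, h3, h4, (XX_eq p m).symm⟩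
  have hR : ∀ j : Fin (n + 1), ({f : MvPolynomial (Fin (n + 1)) k | ∃ i : Fin (n + 1), e1 ≤ i.val ∧ i.val ≤ e2 ∧ i ≠ j ∧ f = MvPolynomial.X i} ∪
        {MvPolynomial.X j ^ 2} ∪
        {f : MvPolynomial (Fin (n + 1)) k | ∃ q m : Fin (n + 1), j.val < q.val ∧ q.val ≤ e2 ∧ m.val + k0 = n + 1 + q.val ∧
          f = MvPolynomial.X m}) = (fun s => MvPolynomial.monomial s (1:k)) '' SR j := by
    intro j
    ext f
    constructor
    · rintro ((⟨i, h1, h2, h3, rfl⟩ | hf) | ⟨q, m, h1, h2, h3, rfl⟩)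
      · exact ⟨_, Or.inl (Or.inl ⟨i, h1, h2, h3, rfl⟩), rfl⟩
      · rw [Set.mem_singleton_iff] at hf
        exact ⟨_, Or.inl (Or.inr rfl), by rw [hf, Xsq_eq]⟩
      · exact ⟨_, Or.inr ⟨q, m, h1, h2, h3, rfl⟩, rfl⟩
    · rintro ⟨s, ((⟨i, h1, h2, h3, rfl⟩ | hs) | ⟨q, m, h1, h2, h3, rfl⟩), rfl⟩
      · exact Or.inl (Or.inl ⟨i, h1, h2, h3, rfl⟩)
      · rw [Set.mem_singleton_iff] at hs
        refine Or.inl (Or.inr ?_)
        rw [Set.mem_singleton_iff, hs, Xsq_eq]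
      · exact Or.inr ⟨q, m, h1, h2, h3, rfl⟩
  rw [hL]
  simp_rw [hR]
  -- the combinatorial equivalence on exponent vectors
  have hvalid : e2 < n + 1 := by omega
  have key : ∀ μ : Fin (n + 1) →₀ ℕ, (∃ s ∈ SL, s ≤ μ) ↔
      ∀ j : Fin (n + 1), (e1 ≤ j.val ∧ j.val ≤ e2) → ∃ s ∈ SR j, s ≤ μ := by
    intro μ
    constructor
    · rintro ⟨s, (⟨p, q, h1, h2, h3, h4, rfl⟩ | ⟨p, q, m, h1, h2, h3, h4, rfl⟩), hle⟩ j hj
      · obtain ⟨hp, hq, hpq⟩ := le_of_single_add_single_le p q μ hle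
        by_cases hpj : p = j
        · by_cases hqj : q = j
          · refine ⟨Finsupp.single j 2, Or.inl (Or.inr rfl), ?_⟩
            rw [single_le_iff, ← hpj]
            exact hpq (hpj.trans hqj.symm)
          · exact ⟨Finsupp.single q 1, Or.inl (Or.inl ⟨q, h3, h4, hqj, rfl⟩),
              (single_le_iff q 1 μ).mpr hq⟩
        · exact ⟨Finsupp.single p 1, Or.inl (Or.inl ⟨p, h1, h2, hpj, rfl⟩),
            (single_le_iff p 1 μ).mpr hp⟩
      · obtain ⟨hp, hm, _⟩ := le_of_single_add_single_le p m μ hle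
        by_cases hpj : p = j
        · refine ⟨Finsupp.single m 1, Or.inr ⟨q, m, ?_, h3, h4, rfl⟩, (single_le_iff m 1 μ).mpr hm⟩
          rw [← hpj]; exact h2
        · exact ⟨Finsupp.single p 1, Or.inl (Or.inl ⟨p, h1, by omega, hpj, rfl⟩),
            (single_le_iff p 1 μ).mpr hp⟩
    · intro h
      -- a helper: the case of an index i0 in range with μ i0 ≥ 1
      have step : ∀ i0 : Fin (n + 1), e1 ≤ i0.val → i0.val ≤ e2 → 1 ≤ μ i0 → ∃ s ∈ SL, s ≤ μ := by
        intro i0 hi1 hi2 hμ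
        obtain ⟨s, hs, hle⟩ := h i0 ⟨hi1, hi2⟩
        rcases hs with (⟨i, h1, h2, h3, rfl⟩ | hs) | ⟨q, m, h1, h2, h3, rfl⟩
        · refine ⟨_, Or.inl ⟨i0, i, hi1, hi2, h1, h2, rfl⟩, ?_⟩
          exact single_add_single_le i0 i (Ne.symm h3) μ hμ ((single_le_iff i 1 μ).mp hle)
        · rw [Set.mem_singleton_iff] at hs
          rw [hs, single_le_iff] at hle
          refine ⟨_, Or.inl ⟨i0, i0, hi1, hi2, hi1, hi2, rfl⟩, ?_⟩
          rw [← Finsupp.single_add, single_le_iff]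
          exact hle
        · refine ⟨_, Or.inr ⟨i0, q, m, hi1, h1, h2, h3, rfl⟩, ?_⟩
          have hne : i0 ≠ m := by
            intro hc
            have : i0.val = m.val := congrArg Fin.val hc
            omega
          exact single_add_single_le i0 m hne μ hμ ((single_le_iff m 1 μ).mp hle)
      obtain ⟨s, hs, hle⟩ := h ⟨e2, hvalid⟩ ⟨he, le_rfl⟩
      rcases hs with (⟨i, h1, h2, h3, rfl⟩ | hs) | ⟨q, m, h1, h2, h3, rfl⟩
      · exact step i h1 h2 ((single_le_iff i 1 μ).mp hle)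
      · rw [Set.mem_singleton_iff] at hs
        rw [hs, single_le_iff] at hle
        exact step ⟨e2, hvalid⟩ he le_rfl (by omega)
      · exfalso
        simp only at h1
        omega
  ext f
  rw [MvPolynomial.mem_ideal_span_monomial_image]
  simp only [Ideal.mem_iInf]
  constructor
  · intro hf j hj
    rw [MvPolynomial.mem_ideal_span_monomial_image]
    intro μ hμ
    exact (key μ).mp (hf μ hμ) j hj
  · intro hf μ hμ
    apply (key μ).mpr
    intro j hj
    have := hf j hj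
    rw [MvPolynomial.mem_ideal_span_monomial_image] at this
    exact this μ hμ

end Groth.Agent.S13455
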