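import Groth.Statements.S13456
import Mathlib
import Groth.Agent.Lib.GrStrat1_helper5

set_option autoImplicit false
universe u
open W4c1hilbpn

namespace Groth.Agent.S13456

open TensorProduct in
/-- Let A be a Noetherian ring, R a finitely generated graded A-algebra (graded by the integers), M a
finitely generated graded R-module and h a function from the integers to the natural numbers. Then
the functor sending an A-algebra B to the condition 'every graded piece of M ⊗_A B is a finitely
generated locally free B-module of rank h(v)' is represented by a locally closed subscheme of Spec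
A: there are ideals a and b of A such that, for every A-algebra B, all B ⊗_A M_v are finitely
generated projective of constant rank h(v) if and only if a generates the zero ideal of B and b
generates the unit ideal of B. (The graded pieces M_v are assumed finitely generated over A, as they
are when R is positively graded with degree-zero part finite over A; the published setup allows any
finitely generated graded algebra, where graded pieces need not be finitely generated over A. Test
algebras B range over one universe.) -/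
theorem result
    (A : Type u) [CommRing A] [IsNoetherianRing A]
    (R : Type u) [CommRing R] [Algebra A R] [Algebra.FiniteType A R]
    (𝒜 : ℤ → Submodule A R) [GradedAlgebra 𝒜]
    (M : Type u) [AddCommGroup M] [Module A M] [Module R M] [IsScalarTower A R M] [Module.Finite R M]
    (ℳ : ℤ → Submodule A M) [DirectSum.Decomposition ℳ] [SetLike.GradedSMul 𝒜 ℳ]
    (hfg : ∀ v : ℤ, Module.Finite A ↥(ℳ v)) (h : ℤ → ℕ) :
    ∃ a b : Ideal A, ∀ (B : Type u) [CommRing B] [Algebra A B],
      ((∀ v : ℤ, Module.Finite B (B ⊗[A] ↥(ℳ v)) ∧ Module.Projective B (B ⊗[A] ↥(ℳ v)) ∧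
          ∀ p : PrimeSpectrum B, Module.rankAtStalk (B ⊗[A] ↥(ℳ v)) p = h v) ↔
        (Ideal.map (algebraMap A B) a = ⊥ ∧ Ideal.map (algebraMap A B) b = ⊤)) := by
  classical
  let a : Ideal A := ⨆ (v : ℤ) (k : ℕ) (_ : k < h v), Fitt.ideal A ↥(ℳ v) k
  let C : Ideal A → Prop := fun q => a ≤ q ∧ ∃ v : ℤ, Fitt.ideal A ↥(ℳ v) (h v) ≤ q
  -- the retractions
  let π : ∀ v : ℤ, M →ₗ[A] ↥(ℳ v) := fun v =>
    (DirectSum.component A ℤ (fun i => ↥(ℳ i)) v) ∘ₗ (DirectSum.decomposeLinearEquiv ℳ).toLinearMap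
  have hπ : ∀ (v : ℤ) (x : ↥(ℳ v)), π v ((ℳ v).subtype x) = x := by
    intro v x
    change DirectSum.component A ℤ (fun i => ↥(ℳ i)) v (DirectSum.decompose ℳ (x : M)) = x
    rw [DirectSum.decompose_coe]
    exact DirectSum.of_eq_same (β := fun i => ↥(ℳ i)) v x
  have hspec : ∀ p q : Ideal A, p.IsPrime → q.IsPrime → p ≤ q → C p → C q := by
    rintro p q - - hpq ⟨h1, v, h2⟩
    exact ⟨le_trans h1 hpq, v, le_trans h2 hpq⟩
  have hopen : ∀ p : Ideal A, p.IsPrime → ¬ C p → ∃ f : A, f ∉ p ∧
      ∀ q : Ideal A, q.IsPrime → p ≤ q → f ∉ q → ¬ C q := by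
    intro p hp hCp
    by_cases hap : a ≤ p
    · haveI := hp
      obtain ⟨f, hfp, hf⟩ := Groth.Agent.Lib.GrStrat.exists_spread R M (fun v : ℤ => ↥(ℳ v))
        (fun v => (ℳ v).subtype) π hπ p
      refine ⟨f, hfp, fun q hq hpq hfq hCq => ?_⟩
      obtain ⟨-, v, hv⟩ := hCq
      exact hf v (h v) q hq hpq hfq (fun hle => hCp ⟨hap, v, hle⟩) hv
    · obtain ⟨f, hfa, hfp⟩ := SetLike.not_le_iff_exists.mp hap
      exact ⟨f, hfp, fun q _ _ hfq hCq => hfq (hCq.1 hfa)⟩
  obtain ⟨c, hc⟩ := Groth.Agent.Lib.GrStrat.exists_ideal_of_specialization C hspec hopen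
  refine ⟨a, c, ?_⟩
  intro B _ _
  -- the condition for a single degree
  have key : ∀ v : ℤ, (Module.Finite B (B ⊗[A] ↥(ℳ v)) ∧ Module.Projective B (B ⊗[A] ↥(ℳ v)) ∧
      ∀ p : PrimeSpectrum B, Module.rankAtStalk (B ⊗[A] ↥(ℳ v)) p = h v) ↔
      ((∀ k, k < h v → (Fitt.ideal A ↥(ℳ v) k).map (algebraMap A B) = ⊥) ∧
        (Fitt.ideal A ↥(ℳ v) (h v)).map (algebraMap A B) = ⊤) := by
    intro v
    haveI := hfg v
    haveI : Module.FinitePresentation A ↥(ℳ v) := Module.finitePresentation_of_finite A _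
    have h1 := Groth.Agent.Lib.GrStrat.proj_rank_iff_fitt (B := B) (B ⊗[A] ↥(ℳ v)) (h v)
    simp only [FittH8.fitt_baseChange] at h1
    rw [← h1]
    exact ⟨fun hh => hh.2, fun hh => ⟨inferInstance, hh⟩⟩
  have hamap : Ideal.map (algebraMap A B) a = ⊥ ↔
      ∀ (v : ℤ) (k : ℕ), k < h v → (Fitt.ideal A ↥(ℳ v) k).map (algebraMap A B) = ⊥ := by
    constructor
    · intro ha v k hk
      rw [eq_bot_iff, ← ha]
      exact Ideal.map_mono (le_iSup_of_le v (le_iSup_of_le k (le_iSup_of_le hk le_rfl)))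
    · intro hall
      rw [eq_bot_iff, Ideal.map_le_iff_le_comap]
      refine iSup_le fun v => iSup_le fun k => iSup_le fun hk => ?_
      rw [← Ideal.map_le_iff_le_comap, hall v k hk]
  constructor
  · intro hall
    have h1 : ∀ v, _ := fun v => (key v).mp (hall v)
    refine ⟨hamap.mpr fun v k hk => (h1 v).1 k hk, ?_⟩
    by_contra hne
    obtain ⟨Q, hQ, hle⟩ := Ideal.exists_le_maximal _ hne
    haveI := hQ.isPrime
    have hq : (Q.comap (algebraMap A B)).IsPrime := Ideal.comap_isPrime _ _
    have hcq : c ≤ Q.comap (algebraMap A B) := Ideal.map_le_iff_le_comap.mp hle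
    obtain ⟨-, v, hv⟩ := (hc _ hq).mpr hcq
    have h2 : (Fitt.ideal A ↥(ℳ v) (h v)).map (algebraMap A B) ≤ Q :=
      Ideal.map_le_iff_le_comap.mpr hv
    rw [(h1 v).2] at h2
    exact hQ.ne_top (top_le_iff.mp h2)
  · rintro ⟨ha, hctop⟩ v
    rw [key v]
    refine ⟨fun k hk => hamap.mp ha v k hk, ?_⟩
    by_contra hne
    obtain ⟨Q, hQ, hle⟩ := Ideal.exists_le_maximal _ hne
    haveI := hQ.isPrime
    have hq : (Q.comap (algebraMap A B)).IsPrime := Ideal.comap_isPrime _ _
    have haq : a ≤ Q.comap (algebraMap A B) := by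
      rw [← Ideal.map_le_iff_le_comap, ha]
      exact bot_le
    have hcq : c ≤ Q.comap (algebraMap A B) :=
      (hc _ hq).mp ⟨haq, v, Ideal.map_le_iff_le_comap.mp hle⟩
    have h2 : c.map (algebraMap A B) ≤ Q := Ideal.map_le_iff_le_comap.mpr hcq
    rw [hctop] at h2
    exact hQ.ne_top (top_le_iff.mp h2)

end Groth.Agent.S13456
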