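import Groth.Statements.S13459
import Mathlib
import Groth.Agent.Lib.Snap75_helper9
import Groth.Agent.Lib.Snap69_helper9
import Groth.Agent.Lib.DegPull5_helper9
import Groth.Agent.Lib.BirCurve3_helper9

set_option autoImplicit false
universe u
open CategoryTheory CategoryTheory.Limits AlgebraicGeometry
open Surf

namespace Groth.Agent.S13459

/-- Let k be a field and S an integral surface (dimension two) which is smooth over k and projective (a
closed immersion into some P^n_k over k). Let i : C → S be the closed immersion of an integral curve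
(dimension one) all of whose local rings are regular, with ideal sheaf I ⊆ O_S, and let L be an
invertible O_S-module with an inverse L' (L ⊗ L' ≅ O_S). Then the intersection number of O_S(C) with
L, namely the alternating sum χ(O_S) − χ(I) − χ(L') + χ(I ⊗ L') formed with the inverses I = O_S(−C)
and L' (packaged as FGA.intNum), equals the degree of the restriction of L to C, the degree of a
module M on C being χ(M) − χ(O_C). -/
theorem result (k : Type u) [Field k] (S : Scheme.{u}) [S.Over (Spec (CommRingCat.of k))]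
    [IsIntegral S] (hdim : topologicalKrullDim S = 2) [Smooth (S ↘ (Spec (CommRingCat.of k)))]
    (hproj : ∃ (n : ℕ) (ι : S ⟶ CohB1.ProjSpace n k), IsClosedImmersion ι ∧ ι ≫ CohB1.ProjSpace.toSpec n k = (S ↘ (Spec (CommRingCat.of k))))
    (C : Scheme.{u}) (i : C ⟶ S) [IsClosedImmersion i] [IsIntegral C] (hC : topologicalKrullDim C = 1)
    (hCreg : ∀ c : C, IsRegularLocalRing (C.presheaf.stalk c))
    (L L' : S.Modules) (hL : PicF.IsInvertible L) (hLL' : Nonempty (CohB1.tensorMod L L' ≅ Coh.structureModule S)) :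
    letI : C.Over (Spec (CommRingCat.of k)) := ⟨i ≫ (S ↘ (Spec (CommRingCat.of k)))⟩
    FGA.intNum k S 2 ![ClSub.idealMod i.ker, L'] (Coh.structureModule S) =
      Curv2.deg k C ((Scheme.Modules.pullback i).obj L) 1 := by
  letI instC : C.Over (Spec (CommRingCat.of k)) := ⟨i ≫ (S ↘ Spec (CommRingCat.of k))⟩
  obtain ⟨n, ι, hι, hcomp⟩ := hproj
  haveI : IsProper (S ↘ Spec (CommRingCat.of k)) :=
    Snap9.isProper_of_closed_projSpace k n S ι hcomp
  haveI : IsLocallyNoetherian S :=
    LocallyOfFiniteType.isLocallyNoetherian (S ↘ Spec (CommRingCat.of k))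
  have hiC : i ≫ (S ↘ Spec (CommRingCat.of k)) = C ↘ Spec (CommRingCat.of k) := rfl
  haveI : IsProper (C ↘ Spec (CommRingCat.of k)) := by
    rw [← hiC]
    infer_instance
  have hd : topologicalKrullDim S ≤ ((2 : ℕ) : WithBot ℕ∞) := by
    rw [hdim]
    norm_num
  obtain ⟨ε⟩ := hLL'
  have hL'inv : PicF.IsInvertible L' :=
    InvTensH8.isInvertible_of_tensor_iso (Groth.Agent.TensInv.comm L' L ≪≫ ε)
  have hIcoh : Coh.IsCoh (ClSub.idealMod i.ker) := CurveIdeal.isCoh_idealMod i.ker
  have hOcoh := CohDevH8.isCoh_structureModule S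
  have hPcoh : Coh.IsCoh ((Scheme.Modules.pushforward i).obj (SerreCrit.OO C)) :=
    BirCurve.isCoh_push_OO i
  have hS := Snap9.sesCl_shortExact i
  have h1 := EulerField.euler_additive k S (Snap9.sesCl i) hS hIcoh hOcoh hPcoh
  have hS' := Groth.Agent.TensInv.shortExact_tR (L := L') (L' := L)
    ⟨Groth.Agent.TensInv.comm L' L ≪≫ ε⟩ (Snap9.sesCl i) hS
  have h2 := EulerField.euler_additive k S _ hS'
    (Snap9.isCoh_tensorMod hIcoh hL'inv) (Snap9.isCoh_tensorMod hOcoh hL'inv)
    (Snap9.isCoh_tensorMod hPcoh hL'inv)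
  have h3 := BirCurve.euler_push k i hiC (SerreCrit.OO C)
  have h4 := DegPull.euler_pullback_eq k i hiC L'
    (FLFH8.IsFinLocFreeOfRank.isFinLocFree _ (FLFH8.finLocFreeOfRank_one_of_isInvertible hL'inv))
  have h5 := Snap9.deg_pullback_inverse k C (X := S) (le_of_eq hC) i L L' ⟨ε⟩
  have e1 := CurveTens.euler_of_iso k S (Groth.Agent.CMMul.unitorL (ClSub.idealMod i.ker))
  have e2 := CurveTens.euler_of_iso k S
    (Groth.Agent.TensInv.mapR (Groth.Agent.CMMul.unitorL (ClSub.idealMod i.ker)) L')
  rw [Snap9.intNum_eq_altSum k S 2 hd]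
  have hl : List.ofFn ![ClSub.idealMod i.ker, L'] = [ClSub.idealMod i.ker, L'] := by simp
  rw [hl]
  simp only [Snap9.altSum_cons, Snap9.altSum_nil]
  unfold Curv2.deg at h5 ⊢
  change Curv2.euler k S (Coh.structureModule S) =
    Curv2.euler k S (ClSub.idealMod i.ker) +
      Curv2.euler k S ((Scheme.Modules.pushforward i).obj (SerreCrit.OO C)) at h1
  change Curv2.euler k S (CohB1.tensorMod (Coh.structureModule S) L') =
    Curv2.euler k S (CohB1.tensorMod (ClSub.idealMod i.ker) L') +
      Curv2.euler k S (CohB1.tensorMod ((Scheme.Modules.pushforward i).obj (SerreCrit.OO C)) L')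
    at h2
  rw [e1, e2, h1, h2]
  rw [h3]
  rw [← h4]
  push_cast at h5 ⊢
  simp only [one_mul] at h5 ⊢
  show _ = Curv2.euler k C ((Scheme.Modules.pullback i).obj L) - Curv2.euler k C (SerreCrit.OO C)
  have h6 : Curv2.euler k C ((Scheme.Modules.pullback i).obj L) - Curv2.euler k C (SerreCrit.OO C) +
      (Curv2.euler k C ((Scheme.Modules.pullback i).obj L') - Curv2.euler k C (SerreCrit.OO C)) = 0 := h5
  linarith

end Groth.Agent.S13459
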