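import Groth.Statements.S13542
import Groth.Agent.Lib.ProjAff1_helper8
import Groth.Agent.Lib.ProjAff2_helper8
import Groth.Agent.Lib.ResDesc2_helper8
import Groth.Agent.Lib.Fpqc1_helper8
import Groth.Agent.Lib.TensQC3_helper8
import Groth.Agent.Lib.GenPush1_helper8

set_option autoImplicit false
universe u
open CategoryTheory CategoryTheory.Limits AlgebraicGeometry
open ResProp

namespace Groth.Agent.S13542

/-- In the case of schemes over an affine base, let f : X ⟶ Y be finite, flat, of finite presentation
and surjective between quasi-compact quasi-separated schemes. If a family (E_i) of finitely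
presented quasi-coherent modules on X is generating, i.e. every quasi-coherent module on X is a
quotient of a direct sum of copies of the E_i, then the family of direct images (f_*E_i) is
generating on Y. (The published statement is for morphisms of algebraic stacks and families
generating relative to a further morphism; this row is the case of schemes with the absolute notion
of a generating family.) -/
theorem result {X Y : Scheme.{u}}
    [CompactSpace X] [QuasiSeparatedSpace X] [CompactSpace Y] [QuasiSeparatedSpace Y]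
    (f : X ⟶ Y) [IsFinite f] [Flat f] [LocallyOfFinitePresentation f] [Surjective f]
    {ι : Type u} (E : ι → X.Modules) (hE : ∀ i, Coh.IsQCoh (E i) ∧ CohB1.IsFP (E i))
    (hgen : ∀ M : X.Modules, Coh.IsQCoh M →
      ∃ (κ : Type u) (j : κ → ι) (π : (∐ fun k : κ => E (j k)) ⟶ M), Epi π) :
    ∀ N : Y.Modules, Coh.IsQCoh N →
      ∃ (κ : Type u) (j : κ → ι) (π : (∐ fun k : κ => (Scheme.Modules.pushforward f).obj (E (j k))) ⟶ N), Epi π := by
  intro N hN
  have hf' : Mor2.IsFinLocFree f := ⟨inferInstance, inferInstance, inferInstance⟩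
  haveI : IsAffineHom f := inferInstance
  have hA : FlatMod.IsFinLocFree (FLFH8.pushO f) := ((FLFH8.isFinLocFree_iff f).mpr hf').2
  have hnz : ∀ y : Y, Nontrivial ((FLFH8.pushO f).presheaf.stalk y) :=
    Groth.Agent.Lib.ResDescH8.nontrivial_stalk_pushO f
  have hdual : FlatMod.IsFinLocFree (Groth.Agent.Lib.ResDescH8.dualA (FLFH8.pushO f)) :=
    Groth.Agent.Lib.ResDescH8.isFinLocFree_dual _ hA
  haveI : N.IsQuasicoherent := hN
  haveI : (Groth.Agent.Lib.ResDescH8.dualA (FLFH8.pushO f)).IsQuasicoherent :=
    FLFH8.isQuasicoherent_of_finLocFree _ hdual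
  let M' : Y.Modules := CohB1.tensorMod N (Groth.Agent.Lib.ResDescH8.dualA (FLFH8.pushO f))
  haveI : M'.IsQuasicoherent := TensQCH8.isQuasicoherent_tensorMod _ _
  haveI : ((Scheme.Modules.pullback f).obj M').IsQuasicoherent :=
    PBH8.isQuasicoherent_pullback f M'
  haveI : (Coh.structureModule X).IsQuasicoherent := SerreCrit.isQuasicoherent_OO
  let G : X.Modules :=
    CohB1.tensorMod ((Scheme.Modules.pullback f).obj M') (Coh.structureModule X)
  haveI hGq : G.IsQuasicoherent := TensQCH8.isQuasicoherent_tensorMod _ _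
  obtain ⟨κ, j, π', hπ'⟩ := hgen G hGq
  haveI := hπ'
  haveI : ∀ k, (E (j k)).IsQuasicoherent := fun k => (hE (j k)).1
  haveI h2 : IsIso (PFormH9.projMap f M' (Coh.structureModule X)) :=
    Groth.Agent.Lib.ProjAffH8.isIso_projMap_of_isAffineHom f M' (Coh.structureModule X)
  haveI h3 : Epi ((Groth.Agent.Lib.ResDescH8.adjA (FLFH8.pushO f) hA).counit.app N) :=
    Groth.Agent.Lib.ResDescH8.epi_counit _ hA hnz N
  let φ3 : CohB1.tensorMod M' (FLFH8.pushO f) ⟶ N :=
    (Groth.Agent.Lib.ResDescH8.adjA (FLFH8.pushO f) hA).counit.app N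
  haveI h3' : Epi φ3 := h3
  let φ2 : (Scheme.Modules.pushforward f).obj G ⟶ CohB1.tensorMod M' (FLFH8.pushO f) :=
    inv (PFormH9.projMap f M' (Coh.structureModule X))
  haveI h2' : Epi φ2 := inferInstanceAs (Epi (inv (PFormH9.projMap f M' (Coh.structureModule X))))
  haveI h23 : Epi (φ2 ≫ φ3) := epi_comp φ2 φ3
  exact ⟨κ, j, _, Groth.Agent.Lib.GenPushH8.epi_desc_pushforward f (fun k => E (j k)) G π' N
    (φ2 ≫ φ3)⟩

end Groth.Agent.S13542
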