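import Groth.Statements.S13590
import Groth.Agent.Lib.ClosedAdj_helper2
import Groth.Agent.Lib.Leray_helper9
import Groth.Agent.Lib.HZshFunctor_helper2

set_option autoImplicit false
universe u
open CategoryTheory TopologicalSpace
open SuppFam

namespace Groth.Agent.S13590

/-- For an abelian sheaf `F` on a topological space `X` and a locally closed `Z = V ∖ W` (`W ≤ V`
opens), if `F` is injective then the sheaf `Γ_Z(F) = i_* i^!(F)` of sections of `F` with supports in
`Z` is injective. -/
theorem result {X : TopCat.{u}} (F : CohTop.Ab X) {W V : Opens X} (h : W ≤ V)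
    (hF : Injective F) : Injective ((SuppFam.sectSuppLC h).obj F) := by
  haveI := hF
  have key : ∀ {Y : TopCat.{u}} (U : Opens Y) (G : CohTop.Ab Y), Injective G →
      Injective ((LocCohZ.sectSuppF U).obj G) := by
    intro Y U G hG
    haveI := hG
    haveI : (Groth.Agent.Lib.ClosedAdj.E U).IsRightAdjoint :=
      (Groth.Agent.Lib.ClosedAdj.adjLE U).isRightAdjoint
    haveI : (Groth.Agent.Lib.ClosedAdj.E U).PreservesMonomorphisms := inferInstance
    have h1 : Injective ((LocCohZ.sectSuppF U ⋙ Groth.Agent.Lib.ClosedAdj.L U).obj G) :=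
      Injective.injective_of_adjoint (Groth.Agent.Lib.ClosedAdj.adjunction U) G
    have h2 : Injective ((Groth.Agent.Lib.ClosedAdj.E U).obj
        ((LocCohZ.sectSuppF U ⋙ Groth.Agent.Lib.ClosedAdj.L U).obj G)) :=
      Leray.injective_push _ _ h1
    exact Injective.of_iso
      (asIso ((Groth.Agent.Lib.ClosedAdj.adjLE U).unit.app (CohCx.sectSupp U G))).symm h2
  show Injective ((CohTop.push (CohCx.incl V)).obj
    ((LocCohZ.sectSuppF (inOpen V W)).obj ((CohTop.restrFunctor V).obj F)))
  exact Leray.injective_push _ _ (key _ _ (Groth.Agent.Lib.HZshFunctor.injective_restr' V F hF))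

end Groth.Agent.S13590
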