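import Groth.Statements.S13602
import Groth.Agent.Lib.SymAff_helper6

set_option autoImplicit false
universe u
open CategoryTheory AlgebraicGeometry
open SymProd

namespace Groth.Agent.S13602

/-- Let f : X ⟶ S be a morphism of schemes satisfying (AF): every finite set of points of X over a
single point of S lies in an affine open of X. Then for every d ≥ 0 and every point x of the d-fold
fibre power X ×_S ⋯ ×_S X, some affine open of the fibre power contains the whole orbit of x under
the symmetric group on d letters permuting the factors. (With the existence of a quotient by a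
finite group whose orbits lie in affine opens, this is the existence of the symmetric power
Sym^d(X/S) for X/S satisfying (AF).) -/
theorem result {X S : Scheme.{u}} (f : X ⟶ S) (hAF : SymProd.IsAF f)
    (d : ℕ) (x : ↥(SymProd.fibPow f d)) :
    ∃ U : (SymProd.fibPow f d).Opens, IsAffineOpen U ∧
      ∀ σ : Equiv.Perm (Fin d), (SymProd.permHom f d σ).base x ∈ U := by
  classical
  obtain ⟨V, hV, hsV, -⟩ := exists_isAffineOpen_mem_and_subset
    (x := (Limits.WidePullback.base (fun _ : Fin d => f)).base x) (U := ⊤) trivial
  let T : Finset X := Finset.univ.image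
    (fun i : Fin d => (Limits.WidePullback.π (fun _ : Fin d => f) i).base x)
  have hT : ∀ y ∈ T, f.base y = (Limits.WidePullback.base (fun _ : Fin d => f)).base x := by
    intro y hy
    obtain ⟨i, -, rfl⟩ := Finset.mem_image.mp hy
    exact Groth.Agent.Lib.SymAffH6.π_base_apply f d i x
  obtain ⟨U₀, hU₀, hTU₀⟩ := hAF _ T hT
  obtain ⟨D, hD, hDV, -, hTD⟩ := Groth.Agent.Lib.FinDescH6.exists_affine_between hU₀
    (f ⁻¹ᵁ V) (T : Set X) T.finite_toSet
    (by
      intro y hy
      change f.base y ∈ V
      rw [hT y hy]
      exact hsV)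
    (fun y hy => hTU₀ y hy)
  refine ⟨Groth.Agent.Lib.SymAffH6.symOpen f d V D,
    Groth.Agent.Lib.SymAffH6.isAffineOpen_symOpen f d hV hD hDV, fun σ => ?_⟩
  have hx : x ∈ Groth.Agent.Lib.SymAffH6.symOpen f d V D := by
    rw [Groth.Agent.Lib.SymAffH6.mem_symOpen]
    refine ⟨hsV, fun i => hTD ?_⟩
    exact Finset.mem_coe.mpr (Finset.mem_image.mpr ⟨i, Finset.mem_univ _, rfl⟩)
  have := Groth.Agent.Lib.SymAffH6.permHom_preimage_symOpen f d V D σ
  rw [← this] at hx
  exact hx

end Groth.Agent.S13602
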