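import Groth.Statements.S13603
import Mathlib

set_option autoImplicit false
universe u v
open CAlg

namespace Groth.Agent.S13603

/-- Let a group G act on a commutative ring B by ring automorphisms so that every element of B has a
finite orbit, and let S ⊆ B be a multiplicative set of G-fixed elements (so each g ∈ G induces an
endomorphism of the localization S⁻¹B; the hypothesis that g maps S into S is implied by the
previous one and is only carried to name that endomorphism). Then an element of S⁻¹B is fixed by all
of G if and only if it is a fraction b/s with b fixed by G and s ∈ S: the canonical map S⁻¹(B^G) →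
(S⁻¹B)^G is onto. -/
theorem result {B : Type u} [CommRing B]
    {G : Type v} [Group G] [MulSemiringAction G B] (hfin : ∀ b : B, (MulAction.orbit G b).Finite)
    (S : Submonoid B) (hS : ∀ (g : G) (s : B), s ∈ S → g • s = s)
    (hS' : ∀ g : G, S ≤ S.comap (MulSemiringAction.toRingHom G B g)) (x : Localization S) :
    (∀ g : G, IsLocalization.map (Localization S) (MulSemiringAction.toRingHom G B g) (hS' g) x = x) ↔
      ∃ (b : B) (s : S), (∀ g : G, g • b = b) ∧ x = IsLocalization.mk' (Localization S) b s := by
  classical
  constructor
  · intro hx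
    obtain ⟨b, s, rfl⟩ := IsLocalization.exists_mk'_eq S x
    have hc : ∀ b' ∈ MulAction.orbit G b, ∃ c : S, (c : B) * b' = c * b := by
      rintro _ ⟨g, rfl⟩
      have h1 := hx g
      rw [IsLocalization.map_mk', IsLocalization.eq] at h1
      obtain ⟨c, hc⟩ := h1
      refine ⟨c * s, ?_⟩
      have h2 : (MulSemiringAction.toRingHom G B g) (s : B) = s := hS g s s.2
      have h3 : (MulSemiringAction.toRingHom G B g) b = g • b := rfl
      simp only [h2, h3] at hc
      simp only [Submonoid.coe_mul]
      linear_combination hc
    choose! c hc using hc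
    have ht : ∀ b' ∈ MulAction.orbit G b,
        ((∏ b'' ∈ (hfin b).toFinset, c b'' : S) : B) * b'
          = ((∏ b'' ∈ (hfin b).toFinset, c b'' : S) : B) * b := by
      intro b' hb'
      have hmem : b' ∈ (hfin b).toFinset := (hfin b).mem_toFinset.mpr hb'
      have h4 : (∏ b'' ∈ (hfin b).toFinset, c b'' : S)
          = c b' * ∏ b'' ∈ (hfin b).toFinset.erase b', c b'' :=
        (Finset.mul_prod_erase _ _ hmem).symm
      rw [h4, Submonoid.coe_mul]
      linear_combination ((∏ b'' ∈ (hfin b).toFinset.erase b', c b'' : S) : B) * hc b' hb'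
    refine ⟨((∏ b'' ∈ (hfin b).toFinset, c b'' : S) : B) * b,
      (∏ b'' ∈ (hfin b).toFinset, c b'' : S) * s, ?_, ?_⟩
    · intro g
      rw [smul_mul', hS g _ (∏ b'' ∈ (hfin b).toFinset, c b'' : S).2]
      exact ht _ ⟨g, rfl⟩
    · rw [IsLocalization.eq]
      exact ⟨1, by simp only [Submonoid.coe_mul]; ring⟩
  · rintro ⟨b, s, hb, rfl⟩ g
    rw [IsLocalization.map_mk']
    congr 1
    · exact hb g
    · exact Subtype.ext (hS g s s.2)

end Groth.Agent.S13603
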