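import Groth.Statements.S13605
import Groth.Agent.Lib.SymAff_helper6

set_option autoImplicit false
universe u
open CategoryTheory AlgebraicGeometry
open CategoryTheory.Limits
open SymProd

namespace Groth.Agent.S13605

/-- Let f : X ⟶ S be a morphism of schemes satisfying (AF) (every finite set of points of X over a
single point of S lies in an affine open of X), let 𝒮 be a cover of S by affine opens, let d ≥ 1 and
let (Y, q, g) be a d-th symmetric power of X over S: q : X ×_S ⋯ ×_S X ⟶ Y is a quotient by the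
symmetric group on d letters permuting the factors (affine, invariant, sections of O_Y = invariant
sections) and q ≫ g is the structure map of the fibre power. Then Y is covered by affine opens of
the form Sym^d(U/V) with V in the given cover: for every point y of Y there are V ∈ 𝒮 and an affine
open U ⊆ f⁻¹V of X such that the open W = ⋂_i pr_i⁻¹ U of the fibre power (the fibre power of U over
V) is affine and stable under every permutation of the factors, and an affine open W' of Y
containing y with q⁻¹ W' = W. (The published statement also fixes an affine open cover of X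
subordinate to the cover of S, in which any d points over a common point of a member V lie in a
common member mapping into V, and concludes that the corresponding opens Sym^d(U/V) cover Y; this
row states the pointwise form, producing U for each y.) -/
theorem result {X S Y : Scheme.{u}} (f : X ⟶ S) (hAF : SymProd.IsAF f)
    (𝒮 : Set S.Opens) (h𝒮 : ∀ V ∈ 𝒮, IsAffineOpen V) (hcov : ∀ s : S, ∃ V ∈ 𝒮, s ∈ V)
    (d : ℕ) (hd : 0 < d) (q : SymProd.fibPow f d ⟶ Y) (g : Y ⟶ S) (hq : SymProd.IsSymProd f d q g) (y : Y) :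
    ∃ V ∈ 𝒮, ∃ U : X.Opens, IsAffineOpen U ∧ U ≤ f ⁻¹ᵁ V ∧
      ∃ W : (SymProd.fibPow f d).Opens,
        (W : Set ↥(SymProd.fibPow f d)) =
          ⋂ i : Fin d, (WidePullback.π (fun _ : Fin d => f) i).base ⁻¹' (U : Set X) ∧
        IsAffineOpen W ∧ (∀ σ : Equiv.Perm (Fin d), (SymProd.permHom f d σ) ⁻¹ᵁ W = W) ∧
        ∃ W' : Y.Opens, y ∈ W' ∧ IsAffineOpen W' ∧ q ⁻¹ᵁ W' = W := by
  classical
  have hQ := hq.isQuot
  obtain ⟨hsurj, horb, -⟩ := Groth.Agent.S2908.result (permActU f d) q hQ
  obtain ⟨x, rfl⟩ := hsurj y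
  obtain ⟨V, hV𝒮, hsV⟩ := hcov ((WidePullback.base (fun _ : Fin d => f)).base x)
  have hV := h𝒮 V hV𝒮
  let T : Finset X := Finset.univ.image
    (fun i : Fin d => (WidePullback.π (fun _ : Fin d => f) i).base x)
  have hT : ∀ y ∈ T, f.base y = (WidePullback.base (fun _ : Fin d => f)).base x := by
    intro y hy
    obtain ⟨i, -, rfl⟩ := Finset.mem_image.mp hy
    exact Groth.Agent.Lib.SymAffH6.π_base_apply f d i x
  obtain ⟨U₀, hU₀, hTU₀⟩ := hAF _ T hT
  obtain ⟨D, hD, hDV, -, hTD⟩ := Groth.Agent.Lib.FinDescH6.exists_affine_between hU₀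
    (f ⁻¹ᵁ V) (T : Set X) T.finite_toSet
    (by
      intro y hy
      change f.base y ∈ V
      rw [hT y hy]
      exact hsV)
    (fun y hy => hTU₀ y hy)
  have hWaff := Groth.Agent.Lib.SymAffH6.isAffineOpen_symOpen f d hV hD hDV
  have hWinv := Groth.Agent.Lib.SymAffH6.permHom_preimage_symOpen f d V D
  have hx : x ∈ Groth.Agent.Lib.SymAffH6.symOpen f d V D := by
    rw [Groth.Agent.Lib.SymAffH6.mem_symOpen]
    refine ⟨hsV, fun i => hTD ?_⟩
    exact Finset.mem_coe.mpr (Finset.mem_image.mpr ⟨i, Finset.mem_univ _, rfl⟩)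
  refine ⟨V, hV𝒮, D, hD, hDV, Groth.Agent.Lib.SymAffH6.symOpen f d V D,
    Groth.Agent.Lib.SymAffH6.symOpen_coe_of_pos f d hd hDV, hWaff, hWinv, ?_⟩
  have hopen : IsOpen (q.base '' (Groth.Agent.Lib.SymAffH6.symOpen f d V D : Set _)) :=
    Groth.Agent.Lib.GQuotH6.isOpenMap_of_isQuot _ q hQ _
      (Groth.Agent.Lib.SymAffH6.symOpen f d V D).2
  have hpre : q ⁻¹ᵁ (⟨_, hopen⟩ : Y.Opens) = Groth.Agent.Lib.SymAffH6.symOpen f d V D := by
    ext z
    constructor
    · rintro ⟨w, hw, hwz⟩
      obtain ⟨g, rfl⟩ := (horb w z).mp hwz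
      rw [SetLike.mem_coe, ← hWinv g.down] at hw
      exact hw
    · intro hz
      exact ⟨z, hz, rfl⟩
  refine ⟨⟨_, hopen⟩, ⟨x, hx, rfl⟩, ?_, hpre⟩
  apply IsQuotH8.isAffineOpen_of_isQuot (permActU f d) q hQ
  rw [hpre]
  exact hWaff

end Groth.Agent.S13605
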