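import Groth.Statements.S13607
import Mathlib

set_option autoImplicit false
open CategoryTheory CategoryTheory.Limits Opposite
universe w v u
open ARSys

namespace Groth.Agent.S13607

/-- In an abelian category linear over a commutative ring A with an ideal J, let X be a J-adic
projective system indexed by the natural numbers and Y a projective system whose n-th term is killed
by J^(n+1) for every n. Then for every r, every morphism from the translate X[r] to Y factors
uniquely through the canonical translation map X[r] ⟶ X: there is exactly one morphism g : X ⟶ Y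
whose n-th component, precomposed with the transition map X_(n+r) ⟶ X_n, is the n-th component of
the given morphism. In particular morphisms X ⟶ Y up to translation are the same as morphisms X ⟶ Y.
(The published statement is for systems of finitely generated modules over a Noetherian ring, and
for systems of sheaves of modules on the small etale site; this row states it in any linear abelian
category, which is all the argument uses.) -/
theorem result {C : Type u} [Category.{v} C] [Abelian C] {A : Type w} [CommRing A] [Linear A C]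
    (J : Ideal A) (X Y : ARSys.PS C) (hX : ARSys.IsAdic J X) (hY : ARSys.TermKilled J Y) (r : ℕ)
    (f : (ARSys.shift C r).obj X ⟶ Y) :
    ∃! g : X ⟶ Y, ∀ n : ℕ, f.app (op n) = ARSys.shiftMap X r n ≫ g.app (op n) := by
  obtain ⟨hXk, hXq⟩ := hX
  have hcancel : ∀ (n m : ℕ) (h : n ≤ m) (Z : C) (ψ ψ' : X.obj (op n) ⟶ Z),
      ARSys.tr X h ≫ ψ = ARSys.tr X h ≫ ψ' → ψ = ψ' := by
    intro n m h Z ψ ψ' heq
    obtain ⟨hk, hq⟩ := hXq n m h
    have hkill : ARSys.HomKilledBy (J ^ (n + 1)) (ARSys.tr X h ≫ ψ) := by
      intro a ha
      have h1 : a • (ARSys.tr X h ≫ ψ) = ARSys.tr X h ≫ (a • 𝟙 _) ≫ ψ := by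
        rw [Linear.smul_comp, Category.id_comp, Linear.comp_smul]
      rw [h1, hk a ha, zero_comp, comp_zero]
    obtain ⟨χ, _, huniq⟩ := hq Z _ hkill
    exact (huniq ψ rfl).trans (huniq ψ' heq.symm).symm
  have hfk : ∀ n, ARSys.HomKilledBy (J ^ (n + 1)) (f.app (op n)) := by
    intro n a ha
    have h1 : a • f.app (op n) = f.app (op n) ≫ (a • 𝟙 _) := by
      rw [Linear.comp_smul, Category.comp_id]
    rw [h1, hY n a ha, comp_zero]
  have hex : ∀ n, ∃ g : X.obj (op n) ⟶ Y.obj (op n), ARSys.shiftMap X r n ≫ g = f.app (op n) := by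
    intro n
    obtain ⟨g, hg, _⟩ := (hXq n (n + r) (Nat.le_add_right n r)).2 _ (f.app (op n)) (hfk n)
    exact ⟨g, hg⟩
  choose g hg using hex
  have hnat : ∀ (n m : ℕ) (h : n ≤ m), ARSys.tr X h ≫ g n = g m ≫ ARSys.tr Y h := by
    intro n m h
    apply hcancel m (m + r) (Nat.le_add_right m r)
    have hfn := f.naturality (homOfLE h).op
    have e1 : ARSys.tr X (Nat.le_add_right m r) ≫ g m ≫ ARSys.tr Y h =
        f.app (op m) ≫ Y.map (homOfLE h).op := by
      rw [← Category.assoc]
      congr 1
      exact hg m
    rw [e1, ← hfn, ← hg n, ← Category.assoc, ← Category.assoc]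
    congr 1
    show X.map _ ≫ X.map _ = X.map _ ≫ X.map _
    rw [← X.map_comp, ← X.map_comp]
    congr 1
  refine ⟨{ app := fun n => g n.unop, naturality := ?_ }, ?_, ?_⟩
  · intro a b φ
    have h : b.unop ≤ a.unop := leOfHom φ.unop
    have hφ : φ = (homOfLE h).op := Quiver.Hom.unop_inj (Subsingleton.elim _ _)
    rw [hφ]
    exact hnat _ _ h
  · intro n
    exact (hg n).symm
  · intro g' hg'
    refine NatTrans.ext (funext fun x => ?_)
    apply hcancel x.unop (x.unop + r) (Nat.le_add_right _ r)
    show ARSys.shiftMap X r x.unop ≫ g'.app (op x.unop) = ARSys.shiftMap X r x.unop ≫ g x.unop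
    rw [hg x.unop, ← hg' x.unop]

end Groth.Agent.S13607
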