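import Groth.Statements.S13608
import Mathlib

set_option autoImplicit false
universe u v
open CAlg

namespace Groth.Agent.S13608

/-- Let A be a commutative ring, I a finitely generated ideal of A and (M_n) an inverse system of
A-modules with transition maps f_n : M_(n+1) → M_n such that I^(n+1) M_n = 0 for every n. If L is an
inverse limit of the system (projections π_n compatible with the f_n, jointly injective, and such
that every compatible family of elements lifts to L), then L is complete and separated for the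
I-adic topology. No surjectivity of the transition maps is assumed. -/
theorem result
    (A : Type u) [CommRing A] (I : Ideal A) (hI : I.FG)
    (M : ℕ → Type v) [∀ n, AddCommGroup (M n)] [∀ n, Module A (M n)]
    (f : ∀ n, M (n + 1) →ₗ[A] M n)
    (hkill : ∀ n, I ^ (n + 1) • (⊤ : Submodule A (M n)) = ⊥)
    (L : Type v) [AddCommGroup L] [Module A L] (π : ∀ n, L →ₗ[A] M n)
    (hπ : ∀ n, f n ∘ₗ π (n + 1) = π n)
    (hinj : ∀ x : L, (∀ n, π n x = 0) → x = 0)
    (hlift : ∀ y : (∀ n, M n), (∀ n, f n (y (n + 1)) = y n) → ∃ x : L, ∀ n, π n x = y n) :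
    IsAdicComplete I L := by
  classical
  have hker : ∀ n, (I ^ (n + 1) • ⊤ : Submodule A L) ≤ LinearMap.ker (π n) := by
    intro n
    rw [Submodule.smul_le]
    intro r hr l _
    rw [LinearMap.mem_ker, map_smul]
    have h1 : r • π n l ∈ (I ^ (n + 1) • ⊤ : Submodule A (M n)) :=
      Submodule.smul_mem_smul hr Submodule.mem_top
    rw [hkill n] at h1
    exact (Submodule.mem_bot A).mp h1
  obtain ⟨πb, hπb⟩ : ∃ πb : ∀ n, (L ⧸ (I ^ (n + 1) • ⊤ : Submodule A L)) →ₗ[A] M n,
      ∀ n l, πb n (Submodule.mkQ _ l) = π n l :=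
    ⟨fun n => Submodule.liftQ _ (π n) (hker n), fun n l => rfl⟩
  have hcompat : ∀ (c : AdicCompletion I L) (n : ℕ),
      f n (πb (n + 1) (c.val (n + 1 + 1))) = πb n (c.val (n + 1)) := by
    intro c n
    obtain ⟨l, hl⟩ := Submodule.mkQ_surjective _ (c.val (n + 1 + 1))
    have h1 : c.val (n + 1) = Submodule.mkQ _ l := by
      rw [← c.prop (Nat.le_succ (n + 1)), ← hl]
      rfl
    rw [h1, ← hl, hπb, hπb, ← hπ n]
    rfl
  have hex : ∀ c : AdicCompletion I L, ∃ x : L, ∀ n, π n x = πb n (c.val (n + 1)) :=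
    fun c => hlift (fun n => πb n (c.val (n + 1))) (hcompat c)
  choose ρ hρ using hex
  have hext : ∀ x y : L, (∀ n, π n x = π n y) → x = y := by
    intro x y h
    have h1 := hinj (x - y) (fun n => by rw [map_sub, h n, sub_self])
    exact sub_eq_zero.mp h1
  have hρadd : ∀ c c', ρ (c + c') = ρ c + ρ c' := by
    intro c c'
    apply hext
    intro n
    rw [map_add, hρ, hρ, hρ, AdicCompletion.val_add_apply, map_add]
  have hρsmul : ∀ (r : A) c, ρ (r • c) = r • ρ c := by
    intro r c
    apply hext
    intro n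
    rw [map_smul, hρ, hρ, AdicCompletion.val_smul_apply, map_smul]
  have hρof : ∀ l, ρ (AdicCompletion.of I L l) = l := by
    intro l
    apply hext
    intro n
    rw [hρ, AdicCompletion.of_apply, hπb]
  obtain ⟨ρl, hρl⟩ : ∃ ρl : AdicCompletion I L →ₗ[A] L, ∀ c, ρl c = ρ c :=
    ⟨{ toFun := ρ, map_add' := hρadd, map_smul' := hρsmul }, fun _ => rfl⟩
  refine { haus' := ?_, prec' := ?_ }
  · intro x hx
    apply hinj
    intro n
    have h1 := hx (n + 1)
    rw [SModEq.zero] at h1
    exact hker n h1
  · intro x hx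
    obtain ⟨c, hc⟩ : ∃ c : AdicCompletion I L, ∀ n, c.val n = Submodule.mkQ _ (x n) :=
      ⟨AdicCompletion.mk I L ⟨x, fun h => hx h⟩, fun n => rfl⟩
    refine ⟨ρ c, fun n => ?_⟩
    rw [SModEq.sub_mem]
    have h1 : AdicCompletion.of I L (x n) - c ∈ (I ^ n • ⊤ : Submodule A (AdicCompletion I L)) := by
      rw [AdicCompletion.pow_smul_top_eq_ker_eval hI, LinearMap.mem_ker, map_sub, sub_eq_zero,
        AdicCompletion.eval_apply, AdicCompletion.eval_apply, AdicCompletion.of_apply, hc]
    have h2 : ρl (AdicCompletion.of I L (x n) - c) ∈ (I ^ n • ⊤ : Submodule A L) := by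
      have h3 : (I ^ n • ⊤ : Submodule A (AdicCompletion I L)).map ρl ≤ I ^ n • ⊤ := by
        rw [Submodule.map_smul'']
        exact Submodule.smul_mono le_rfl le_top
      exact h3 (Submodule.mem_map_of_mem h1)
    have h4 : ρl (AdicCompletion.of I L (x n) - c) = x n - ρ c := by
      rw [map_sub, hρl, hρl, hρof]
    rw [← h4]; exact h2

end Groth.Agent.S13608
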