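import Groth.Statements.S13609
import Mathlib

set_option autoImplicit false
universe u v
open CAlg

namespace Groth.Agent.S13609

/-- A direct summand of a module that is complete and separated for the I-adic topology is again
complete and separated: for a commutative ring A, an ideal I and A-modules M₁, M₂, if M₁ × M₂ is
I-adically complete then so is M₁. -/
theorem result (A : Type u) [CommRing A] (I : Ideal A)
    (M₁ M₂ : Type v) [AddCommGroup M₁] [Module A M₁] [AddCommGroup M₂] [Module A M₂]
    [IsAdicComplete I (M₁ × M₂)] : IsAdicComplete I M₁ := by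
  have key : ∀ {M N : Type v} [AddCommGroup M] [Module A M] [AddCommGroup N] [Module A N]
      (f : M →ₗ[A] N) (n : ℕ) (x y : M), x ≡ y [SMOD (I ^ n • ⊤ : Submodule A M)] →
      f x ≡ f y [SMOD (I ^ n • ⊤ : Submodule A N)] := by
    intro M N _ _ _ _ f n x y h
    rw [SModEq.sub_mem] at h ⊢
    rw [← map_sub]
    have h1 : f (x - y) ∈ Submodule.map f (I ^ n • ⊤ : Submodule A M) :=
      Submodule.mem_map_of_mem h
    rw [Submodule.map_smul''] at h1
    exact Submodule.smul_mono le_rfl le_top h1
  refine { haus' := ?_, prec' := ?_ }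
  · intro x hx
    have h0 : (LinearMap.inl A M₁ M₂ x) = 0 := by
      apply IsHausdorff.haus' (I := I)
      intro n
      have := key (LinearMap.inl A M₁ M₂) n x 0 (hx n)
      rwa [map_zero] at this
    simpa using congrArg Prod.fst h0
  · intro f hf
    obtain ⟨L, hL⟩ := IsPrecomplete.prec' (I := I) (fun n => LinearMap.inl A M₁ M₂ (f n))
      (fun {m n} hmn => key (LinearMap.inl A M₁ M₂) m _ _ (hf hmn))
    refine ⟨L.1, fun n => ?_⟩
    have := key (LinearMap.fst A M₁ M₂) n _ _ (hL n)
    simpa using this

end Groth.Agent.S13609
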