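import Groth.Statements.S13623
import Mathlib

set_option autoImplicit false
universe u
open TensorProduct
open CAlg

namespace Groth.Agent.S13623

open TensorProduct in
theorem subsingleton_of_forall_algClosed (A : Type u) [CommRing A] (C : Type u) [AddCommGroup C]
    [Module A C] [Module.Finite A C]
    (h : ∀ (k : Type u) [Field k] [IsAlgClosed k] [Algebra A k], Subsingleton (k ⊗[A] C)) :
    Subsingleton C := by
  by_contra hns
  rw [not_subsingleton_iff_nontrivial] at hns
  have hsupp : (Module.support A C).Nonempty := by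
    rw [Set.nonempty_iff_ne_empty, Ne, Module.support_eq_empty_iff]
    exact not_subsingleton C
  obtain ⟨p, hp⟩ := hsupp
  rw [Module.mem_support_iff_nontrivial_residueField_tensorProduct] at hp
  have h1 := h (AlgebraicClosure p.asIdeal.ResidueField)
  have e := TensorProduct.AlgebraTensorModule.cancelBaseChange A p.asIdeal.ResidueField
    (AlgebraicClosure p.asIdeal.ResidueField) (AlgebraicClosure p.asIdeal.ResidueField) C
  have h2 : Nontrivial (AlgebraicClosure p.asIdeal.ResidueField ⊗[p.asIdeal.ResidueField]
      (p.asIdeal.ResidueField ⊗[A] C)) :=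
    (Module.FaithfullyFlat.nontrivial_tensorProduct_iff_right _ _).mpr hp
  have h3 : Nontrivial (AlgebraicClosure p.asIdeal.ResidueField ⊗[A] C) := e.injective.nontrivial
  exact not_subsingleton _ h1


/-- Let A be a commutative ring and B a commutative A-algebra, graded by A-submodules B_m (m ≥ 0)
forming a graded-algebra structure, such that every B_m is a finitely generated A-module. If for
every algebraically closed field k and every A-algebra structure on k the k-algebra k ⊗_A B is
generated by the image of B_1 under b ↦ 1 ⊗ b, then its degree-one part B_1 generates the A-algebra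
B. (Algebraically closed fields are taken in the universe of A.) -/
theorem result
    (A : Type u) [CommRing A] (B : Type u) [CommRing B] [Algebra A B]
    (𝒜 : ℕ → Submodule A B) [GradedAlgebra 𝒜]
    (hfin : ∀ m : ℕ, Module.Finite A (𝒜 m))
    (hgen : ∀ (k : Type u) [Field k] [IsAlgClosed k] [Algebra A k],
      Algebra.adjoin k ((Algebra.TensorProduct.includeRight : B →ₐ[A] k ⊗[A] B) '' (𝒜 1 : Set B)) = ⊤) :
    Algebra.adjoin A (𝒜 1 : Set B) = ⊤ := by
  classical
  have hmulg : ∀ i j, 𝒜 i * 𝒜 j ≤ 𝒜 (i + j) := fun i j =>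
    Submodule.mul_le.mpr fun x hx y hy => SetLike.mul_mem_graded hx hy
  have hpowle : ∀ j, (𝒜 1) ^ j ≤ 𝒜 j := by
    intro j
    induction j with
    | zero => rw [pow_zero, Submodule.one_le]; exact SetLike.one_mem_graded 𝒜
    | succ j ih => rw [pow_succ]; exact (mul_le_mul' ih le_rfl).trans (hmulg j 1)
  have key : ∀ m, 𝒜 m ≤ (𝒜 1) ^ m := by
    intro m
    obtain ⟨D', hD'⟩ : ∃ D' : Submodule A (𝒜 m), ∀ x : 𝒜 m, x ∈ D' ↔ (x : B) ∈ (𝒜 1) ^ m :=
      ⟨Submodule.comap (𝒜 m).subtype ((𝒜 1) ^ m), fun x => Iff.rfl⟩
    have hfinm := hfin m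
    have hsub : Subsingleton ((𝒜 m) ⧸ D') := by
      apply subsingleton_of_forall_algClosed A
      intro k _ _ _
      obtain ⟨pr, hpr⟩ : ∃ pr : B →ₗ[A] 𝒜 m, ∀ b, pr b = DirectSum.decompose 𝒜 b m :=
        ⟨(DirectSum.component A ℕ (fun i => 𝒜 i) m) ∘ₗ
          (DirectSum.decomposeLinearEquiv 𝒜).toLinearMap, fun b => rfl⟩
      have hpr_same : ∀ x : 𝒜 m, pr (x : B) = x := by
        intro x
        rw [hpr]
        exact Subtype.ext (DirectSum.decompose_of_mem_same 𝒜 x.2)
      have hpr_ne : ∀ (j : ℕ) (d : B), d ∈ 𝒜 j → j ≠ m → pr d = 0 := by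
        intro j d hd hne
        rw [hpr]
        exact Subtype.ext (DirectSum.decompose_of_mem_ne 𝒜 hd hne)
      have hclos : ∀ y ∈ Submonoid.closure
          ((Algebra.TensorProduct.includeRight : B →ₐ[A] k ⊗[A] B) '' (𝒜 1 : Set B)),
          ∃ j, ∃ d ∈ (𝒜 1) ^ j, y = (1 : k) ⊗ₜ[A] d := by
        intro y hy
        induction hy using Submonoid.closure_induction with
        | mem y hy =>
          obtain ⟨b, hb, rfl⟩ := hy
          exact ⟨1, b, by rw [pow_one]; exact hb, rfl⟩
        | one =>
          exact ⟨0, 1, by rw [pow_zero]; exact Submodule.one_le.mp le_rfl, rfl⟩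
        | mul y y' _ _ hy hy' =>
          obtain ⟨j, d, hd, rfl⟩ := hy
          obtain ⟨j', d', hd', rfl⟩ := hy'
          exact ⟨j + j', d * d', by rw [pow_add]; exact Submodule.mul_mem_mul hd hd',
            by rw [Algebra.TensorProduct.tmul_mul_tmul, one_mul]⟩
      have hspan : ∀ y ∈ Submodule.span k ((Submonoid.closure
          ((Algebra.TensorProduct.includeRight : B →ₐ[A] k ⊗[A] B) '' (𝒜 1 : Set B)) : Set (k ⊗[A] B))),
          LinearMap.baseChange k pr y ∈ LinearMap.range (LinearMap.baseChange k D'.subtype) := by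
        intro y hy
        induction hy using Submodule.span_induction with
        | mem y hy =>
          obtain ⟨j, d, hd, rfl⟩ := hclos y hy
          rw [LinearMap.baseChange_tmul]
          by_cases hj : j = m
          · subst hj
            have hdm : d ∈ 𝒜 j := hpowle j hd
            have hmem : (⟨d, hdm⟩ : 𝒜 j) ∈ D' := (hD' _).mpr hd
            refine ⟨(1 : k) ⊗ₜ[A] (⟨⟨d, hdm⟩, hmem⟩ : D'), ?_⟩
            rw [LinearMap.baseChange_tmul, Submodule.subtype_apply]
            congr 1
            exact (hpr_same ⟨d, hdm⟩).symm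
          · rw [hpr_ne j d (hpowle j hd) hj, TensorProduct.tmul_zero]
            exact Submodule.zero_mem _
        | zero => rw [map_zero]; exact Submodule.zero_mem _
        | add y y' _ _ hy hy' => rw [map_add]; exact Submodule.add_mem _ hy hy'
        | smul c y _ hy => rw [map_smul]; exact Submodule.smul_mem _ c hy
      have hretr : ∀ z : k ⊗[A] (𝒜 m),
          LinearMap.baseChange k pr (LinearMap.baseChange k (𝒜 m).subtype z) = z := by
        intro z
        induction z using TensorProduct.induction_on with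
        | zero => simp
        | tmul c x =>
          rw [LinearMap.baseChange_tmul, LinearMap.baseChange_tmul, Submodule.subtype_apply, hpr_same]
        | add x y hx hy => rw [map_add, map_add, hx, hy]
      have hsurj : ∀ z : k ⊗[A] (𝒜 m), ∃ z' : k ⊗[A] D', LinearMap.lTensor k D'.subtype z' = z := by
        intro z
        have hy : LinearMap.baseChange k (𝒜 m).subtype z ∈ Submodule.span k ((Submonoid.closure
            ((Algebra.TensorProduct.includeRight : B →ₐ[A] k ⊗[A] B) '' (𝒜 1 : Set B)) :
              Set (k ⊗[A] B))) := by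
          rw [← Algebra.adjoin_eq_span, hgen k]
          trivial
        have h1 := hspan _ hy
        rw [hretr z] at h1
        obtain ⟨z', hz'⟩ := h1
        exact ⟨z', hz'⟩
      suffices hzero : ∀ x : k ⊗[A] ((𝒜 m) ⧸ D'), x = 0 from
        ⟨fun x y => by rw [hzero x, hzero y]⟩
      intro x
      obtain ⟨z, rfl⟩ := LinearMap.lTensor_surjective k (D'.mkQ_surjective) x
      obtain ⟨z', rfl⟩ := hsurj z
      rw [← LinearMap.comp_apply, ← LinearMap.lTensor_comp]
      have h0 : D'.mkQ ∘ₗ D'.subtype = 0 := by
        ext d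
        simp
      rw [h0, LinearMap.lTensor_zero, LinearMap.zero_apply]
    intro x hx
    have h1 : D'.mkQ ⟨x, hx⟩ = 0 := Subsingleton.elim _ _
    have h2 : (⟨x, hx⟩ : 𝒜 m) ∈ D' := by
      rw [Submodule.mkQ_apply] at h1
      exact (Submodule.Quotient.mk_eq_zero D').mp h1
    exact (hD' _).mp h2
  have hpowadj : ∀ m, ((𝒜 1) ^ m : Submodule A B) ≤
      Subalgebra.toSubmodule (Algebra.adjoin A (𝒜 1 : Set B)) := by
    intro m
    induction m with
    | zero => rw [pow_zero, Submodule.one_le]; exact Subalgebra.one_mem _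
    | succ m ih =>
      rw [pow_succ, Submodule.mul_le]
      intro x hx y hy
      exact Subalgebra.mul_mem _ (ih hx) (Algebra.subset_adjoin hy)
  rw [eq_top_iff]
  intro b _
  refine DirectSum.Decomposition.inductionOn 𝒜 ?_ ?_ ?_ b
  · exact Subalgebra.zero_mem _
  · intro m x; exact hpowadj m (key m x.2)
  · intro x y hx hy; exact Subalgebra.add_mem _ hx hy

end Groth.Agent.S13623
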