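import Groth.Statements.S13628
import Mathlib

set_option autoImplicit false
universe u
open CategoryTheory CategoryTheory.Limits AlgebraicGeometry Opposite
open FBase

namespace Groth.Agent.S13628

open TensorProduct in
theorem exists_common_ext (κ k κ' : Type u) [Field κ] [Field k] [Field κ'] (φ : κ →+* k) (ψ : κ →+* κ') :
    ∃ (Ω : Type u) (_ : Field Ω) (_ : IsAlgClosed Ω) (a : k →+* Ω) (b : κ' →+* Ω),
      a.comp φ = b.comp ψ := by
  let i1 : Algebra κ k := φ.toAlgebra
  let i2 : Algebra κ κ' := ψ.toAlgebra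
  have hinj : Function.Injective (Algebra.TensorProduct.includeLeft : k →ₐ[κ] k ⊗[κ] κ') :=
    Algebra.TensorProduct.includeLeft_injective (RingHom.injective _)
  have hnt : Nontrivial (k ⊗[κ] κ') := hinj.nontrivial
  obtain ⟨m, hm⟩ := Ideal.exists_maximal (k ⊗[κ] κ')
  let i3 : Field ((k ⊗[κ] κ') ⧸ m) := Ideal.Quotient.field m
  refine ⟨AlgebraicClosure ((k ⊗[κ] κ') ⧸ m), inferInstance, inferInstance,
    ((algebraMap ((k ⊗[κ] κ') ⧸ m) (AlgebraicClosure ((k ⊗[κ] κ') ⧸ m))).comp
      (Ideal.Quotient.mk m)).comp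
        (Algebra.TensorProduct.includeLeft : k →ₐ[κ] k ⊗[κ] κ').toRingHom,
    ((algebraMap ((k ⊗[κ] κ') ⧸ m) (AlgebraicClosure ((k ⊗[κ] κ') ⧸ m))).comp
      (Ideal.Quotient.mk m)).comp
        (Algebra.TensorProduct.includeRight : κ' →ₐ[κ] k ⊗[κ] κ').toRingHom, ?_⟩
  ext x
  simp only [RingHom.comp_apply, AlgHom.toRingHom_eq_coe, RingHom.coe_coe]
  congr 2
  show (φ x) ⊗ₜ[κ] (1 : κ') = (1 : k) ⊗ₜ[κ] (ψ x)
  have h1 : φ x = x • (1 : k) := by rw [Algebra.smul_def, mul_one]; rfl
  have h2 : ψ x = x • (1 : κ') := by rw [Algebra.smul_def, mul_one]; rfl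
  rw [h1, h2, TensorProduct.smul_tmul]


/-- Let P be a property of schemes over fields, invariant under isomorphisms of schemes over the base
field and invariant in both directions under every field extension k → K (Z over k has P if and only
if Z ×_k Spec K over K has P). Let f : X → T be a morphism of schemes, h : T' → T a surjective
morphism of schemes and f' : X' → T' a base change of f along h. If for every algebraically closed
field k and every Spec k → T' the fibre X' ×_{T'} Spec k has P, then for every algebraically closed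
field k and every Spec k → T the fibre X ×_T Spec k has P. (Fields are taken in the universe of the
schemes. The published statement is that families of del Pezzo surfaces form a stack for the étale
topology; this row is the step of its proof that descends the condition on geometric fibres along a
surjective base change, stated for any fibre property with the invariance above.) -/
theorem result
    (P : ∀ (k : Type u) [Field k] (Z : Scheme.{u}), (Z ⟶ Spec (CommRingCat.of k)) → Prop)
    (hiso : ∀ (k : Type u) [Field k] (Z Z' : Scheme.{u}) (e : Z ≅ Z') (g : Z' ⟶ Spec (CommRingCat.of k)),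
      P k Z' g → P k Z (e.hom ≫ g))
    (hext : ∀ (k K : Type u) [Field k] [Field K] (i : k →+* K) (Z : Scheme.{u}) (g : Z ⟶ Spec (CommRingCat.of k)),
      P k Z g ↔ P K (pullback g (Spec.map (CommRingCat.ofHom i))) (pullback.snd g (Spec.map (CommRingCat.ofHom i))))
    {X T X' T' : Scheme.{u}} (f : X ⟶ T) (h : T' ⟶ T) [Surjective h] (f' : X' ⟶ T') (h' : X' ⟶ X)
    (sq : IsPullback h' f' f h)
    (H : ∀ (k : Type u) [Field k] [IsAlgClosed k] (σ' : Spec (CommRingCat.of k) ⟶ T'),
        P k (pullback f' σ') (pullback.snd f' σ'))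
    (k : Type u) [Field k] [IsAlgClosed k] (σ : Spec (CommRingCat.of k) ⟶ T) :
    P k (pullback f σ) (pullback.snd f σ) := by
  classical
  obtain ⟨t, φ, hσ⟩ : ∃ (t : T) (φ : T.residueField t ⟶ CommRingCat.of k),
      σ = Spec.map φ ≫ T.fromSpecResidueField t :=
    ⟨_, ((Scheme.SpecToEquivOfField k T) σ).2,
      ((Scheme.SpecToEquivOfField k T).symm_apply_apply σ).symm⟩
  obtain ⟨t', rfl⟩ := h.surjective t
  obtain ⟨Ω, _, _, a, b, hab⟩ := exists_common_ext _ _ _ φ.hom (h.residueFieldMap t').hom
  obtain ⟨σ', hσ'⟩ : ∃ σ' : Spec (CommRingCat.of Ω) ⟶ T',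
      σ' = Spec.map (CommRingCat.ofHom b) ≫ T'.fromSpecResidueField t' := ⟨_, rfl⟩
  have hcomm : Spec.map (CommRingCat.ofHom a) ≫ σ = σ' ≫ h := by
    rw [hσ, hσ', Category.assoc, ← Scheme.Hom.SpecMap_residueFieldMap_fromSpecResidueField,
      ← Category.assoc, ← Category.assoc, ← Spec.map_comp, ← Spec.map_comp]
    congr 2
    ext x
    exact congrArg (fun g => g x) hab
  have S1 := IsPullback.of_hasPullback f σ
  have S2 := IsPullback.of_hasPullback (pullback.snd f σ) (Spec.map (CommRingCat.ofHom a))
  have SA := S2.paste_horiz S1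
  have S3 := IsPullback.of_hasPullback f' σ'
  have SB := S3.paste_horiz sq
  rw [← hcomm] at SB
  have he : (SA.isoIsPullback _ _ SB).hom ≫ pullback.snd f' σ' =
      pullback.snd (pullback.snd f σ) (Spec.map (CommRingCat.ofHom a)) :=
    IsPullback.isoIsPullback_hom_snd _ _ SA SB
  have h1 := hiso Ω _ _ (SA.isoIsPullback _ _ SB) (pullback.snd f' σ') (H Ω σ')
  rw [he] at h1
  exact (hext k Ω a _ _).mpr h1

end Groth.Agent.S13628
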