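import Groth.Statements.S13631
import Mathlib

set_option autoImplicit false
universe u v w
open CAlg

namespace Groth.Agent.S13631

/-- Let k be a field, R an integral domain which is a k-algebra of infinite dimension over k, M a finite
free R-module, σ a ring automorphism of R mapping the image of k onto itself, and φ : M → M a
σ-semilinear map. If the cokernel of φ is finite-dimensional over k, in the sense that some finitely
generated k-subspace N of M satisfies M = N + φ(M), then φ is injective. -/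
theorem result
    {k : Type u} {R : Type v} {M : Type w} [Field k] [CommRing R] [IsDomain R] [Algebra k R]
    (hR : ¬ Module.Finite k R)
    [AddCommGroup M] [Module R M] [Module k M] [IsScalarTower k R M]
    [Module.Finite R M] [Module.Free R M]
    (σ : R ≃+* R)
    (hσ : ∀ x : k, ∃ y : k, σ (algebraMap k R x) = algebraMap k R y)
    (hσ' : ∀ y : k, ∃ x : k, σ (algebraMap k R x) = algebraMap k R y)
    (φ : M →ₛₗ[(σ : R →+* R)] M)
    (hcoker : ∃ N : Submodule k M, N.FG ∧ ∀ m : M, ∃ n ∈ N, ∃ m' : M, m = n + φ m') :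
    Function.Injective φ := by
  classical
  obtain ⟨ι, _, b⟩ : ∃ (ι : Type w) (_ : Fintype ι), Nonempty (Module.Basis ι R M) :=
    ⟨Module.Free.ChooseBasisIndex R M, inferInstance, ⟨Module.Free.chooseBasis R M⟩⟩
  obtain ⟨b⟩ := b
  obtain ⟨P, hP⟩ : ∃ P : Matrix ι ι R, ∀ i j, P i j = b.repr (φ (b j)) i := ⟨_, fun _ _ => rfl⟩
  have hrepr : ∀ m : M, ∀ i, b.repr (φ m) i = ∑ j, P i j * σ (b.repr m j) := by
    intro m i
    conv_lhs => rw [← b.sum_repr m]
    rw [map_sum, map_sum, Finsupp.coe_finsetSum, Finset.sum_apply]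
    refine Finset.sum_congr rfl fun j _ => ?_
    rw [map_smulₛₗ, map_smul, Finsupp.smul_apply, smul_eq_mul, mul_comm, hP]
    rfl
  by_contra hninj
  rw [injective_iff_map_eq_zero] at hninj
  push Not at hninj
  obtain ⟨m, hm0, hmne⟩ := hninj
  have hv : (fun j => σ (b.repr m j)) ≠ 0 := by
    intro h
    apply hmne
    apply b.repr.injective
    ext j
    have h1 := congrFun h j
    simp only [Pi.zero_apply] at h1
    rw [map_zero, Finsupp.zero_apply]
    exact (EmbeddingLike.map_eq_zero_iff).mp h1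
  have hPv : Matrix.mulVec P (fun j => σ (b.repr m j)) = 0 := by
    funext i
    have h1 := hrepr m i
    rw [hm0, map_zero, Finsupp.zero_apply] at h1
    simp only [Matrix.mulVec, dotProduct, Pi.zero_apply]
    exact h1.symm
  have hdet : P.det = 0 := Matrix.exists_mulVec_eq_zero_iff.mp ⟨_, hv, hPv⟩
  obtain ⟨w, hw0, hwP⟩ := Matrix.exists_vecMul_eq_zero_iff.mpr hdet
  obtain ⟨lam, hlam⟩ : ∃ lam : M →ₗ[R] R, ∀ m, lam m = ∑ i, w i * b.repr m i := by
    refine ⟨∑ i, w i • b.coord i, fun m => ?_⟩
    simp [LinearMap.sum_apply]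
  have hlamφ : ∀ m, lam (φ m) = 0 := by
    intro m
    rw [hlam]
    simp only [hrepr, Finset.mul_sum]
    rw [Finset.sum_comm]
    refine Finset.sum_eq_zero fun j _ => ?_
    have h1 := congrFun hwP j
    simp only [Matrix.vecMul, dotProduct, Pi.zero_apply] at h1
    simp only [← mul_assoc]
    rw [← Finset.sum_mul, h1, zero_mul]
  obtain ⟨i₀, hi₀⟩ := Function.ne_iff.mp hw0
  have ha : w i₀ ≠ 0 := hi₀
  have hlambi : lam (b i₀) = w i₀ := by
    rw [hlam]
    simp [Finsupp.single_apply]
  obtain ⟨N, hNfg, hN⟩ := hcoker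
  obtain ⟨lamk, hlamk⟩ : ∃ lamk : M →ₗ[k] R, ∀ m, lamk m = lam m :=
    ⟨lam.restrictScalars k, fun _ => rfl⟩
  have hrange : ∀ r : R, (LinearMap.mulRight k (w i₀)) r ∈ N.map lamk := by
    intro r
    obtain ⟨n, hn, m', hm'⟩ := hN (r • b i₀)
    refine ⟨n, hn, ?_⟩
    have h1 : lam (r • b i₀) = lam n + lam (φ m') := by rw [hm', map_add]
    rw [hlamφ, add_zero, map_smul, smul_eq_mul, hlambi] at h1
    rw [hlamk, LinearMap.mulRight_apply, ← h1]
  have hfin : Module.Finite k (N.map lamk) := Module.Finite.iff_fg.mpr (hNfg.map _)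
  have hg : Function.Injective ((LinearMap.mulRight k (w i₀)).codRestrict _ hrange) := by
    intro r r' h
    have h1 : r * w i₀ = r' * w i₀ := congrArg Subtype.val h
    exact mul_right_cancel₀ ha h1
  exact hR (Module.Finite.of_injective _ hg)

end Groth.Agent.S13631
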