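import Groth.Statements.S13663
import Mathlib

set_option autoImplicit false
universe u
open GrRing

namespace Groth.Agent.S13663

/-- Let A be a commutative ring graded by the integers whose ideal generated by the homogeneous elements
of positive degree has homogeneous generators f_1, …, f_p, of positive degrees d_1, …, d_p, and let
d be a positive integer divisible by each d_i. Then A_N = A_d · A_{N-d} for every integer N > dp -
(d_1 + ⋯ + d_p). -/
theorem result {R A : Type u} [CommRing R] [CommRing A] [Algebra R A]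
    (𝒜 : ℤ → Submodule R A) [GradedAlgebra 𝒜]
    {p : ℕ} (f : Fin p → A) (deg : Fin p → ℤ) (hdeg : ∀ i, 0 < deg i) (hf : ∀ i, f i ∈ 𝒜 (deg i))
    (hgen : Ideal.span {a : A | ∃ n : ℤ, 0 < n ∧ a ∈ 𝒜 n} = Ideal.span (Set.range f))
    (d : ℤ) (hd : 0 < d) (hdvd : ∀ i, deg i ∣ d) (N : ℤ) (hN : d * p - ∑ i, deg i < N) :
    𝒜 N = 𝒜 d * 𝒜 (N - d) := by
  classical
  apply le_antisymm
  swap
  · rw [Submodule.mul_le]
    intro x hx y hy
    have h := SetLike.mul_mem_graded hx hy
    rwa [add_sub_cancel] at h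
  have hmono : ∀ α : Fin p → ℕ, (∏ i, f i ^ α i) ∈ 𝒜 (∑ i, (α i : ℤ) * deg i) := by
    intro α
    have h := SetLike.prod_pow_mem_graded 𝒜 deg f α (F := Finset.univ) (fun k _ => hf k)
    simpa [nsmul_eq_mul] using h
  have hsingle_sum : ∀ (i : Fin p) (q : ℕ),
      ∑ l, (((Pi.single i q : Fin p → ℕ) l : ℕ) : ℤ) * deg l = (q : ℤ) * deg i := by
    intro i q
    rw [Finset.sum_eq_single i]
    · simp
    · intro l _ hl; simp [Pi.single_eq_of_ne hl]
    · intro h; exact absurd (Finset.mem_univ i) h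
  have hsingle_prod : ∀ (i : Fin p) (q : ℕ),
      ∏ l, f l ^ ((Pi.single i q : Fin p → ℕ) l) = f i ^ q := by
    intro i q
    rw [Finset.prod_eq_single i]
    · simp
    · intro l _ hl; simp [Pi.single_eq_of_ne hl]
    · intro h; exact absurd (Finset.mem_univ i) h
  have hsum_add : ∀ (α : Fin p → ℕ) (i : Fin p) (q : ℕ),
      ∑ l, (((α + Pi.single i q : Fin p → ℕ) l : ℕ) : ℤ) * deg l = ∑ l, (α l : ℤ) * deg l + (q : ℤ) * deg i := by
    intro α i q
    simp only [Pi.add_apply, Nat.cast_add, add_mul, Finset.sum_add_distrib]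
    rw [hsingle_sum]
  have hprod_add : ∀ (α : Fin p → ℕ) (i : Fin p) (q : ℕ),
      ∏ l, f l ^ ((α + Pi.single i q : Fin p → ℕ) l) = (∏ l, f l ^ α l) * f i ^ q := by
    intro α i q
    simp only [Pi.add_apply, pow_add, Finset.prod_mul_distrib]
    rw [hsingle_prod]
  obtain ⟨G, hG⟩ : ∃ G : ℤ → Set A, ∀ n y, y ∈ G n ↔ ∃ (α : Fin p → ℕ) (a : A),
      a ∈ 𝒜 (n - ∑ i, (α i : ℤ) * deg i) ∧ n - ∑ i, (α i : ℤ) * deg i ≤ 0 ∧
        y = a * ∏ i, f i ^ α i :=
    ⟨fun n => {y | ∃ (α : Fin p → ℕ) (a : A),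
      a ∈ 𝒜 (n - ∑ i, (α i : ℤ) * deg i) ∧ n - ∑ i, (α i : ℤ) * deg i ≤ 0 ∧
        y = a * ∏ i, f i ^ α i}, fun _ _ => Iff.rfl⟩
  have hlow : ∀ n : ℤ, n ≤ 0 → ∀ x ∈ 𝒜 n, x ∈ Submodule.span R (G n) := by
    intro n hn x hx
    refine Submodule.subset_span ((hG n x).mpr ⟨fun _ => 0, x, ?_, ?_, ?_⟩)
    · simpa using hx
    · simpa using hn
    · simp
  have key : ∀ b : ℕ, ∀ n : ℤ, n ≤ b → ∀ x ∈ 𝒜 n, x ∈ Submodule.span R (G n) := by
    intro b
    induction b with
    | zero =>
      intro n hn x hx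
      exact hlow n (by simpa using hn) x hx
    | succ b ih =>
      intro n hn x hx
      by_cases hn0 : n ≤ 0
      · exact hlow n hn0 x hx
      · push Not at hn0
        have hxI : x ∈ Ideal.span (Set.range f) := by
          rw [← hgen]; exact Ideal.subset_span ⟨n, hn0, hx⟩
        obtain ⟨c, hc⟩ := (Ideal.mem_span_range_iff_exists_fun).mp hxI
        have hx' : x = ∑ i, ((DirectSum.decompose 𝒜 (c i) (n - deg i) : 𝒜 (n - deg i)) : A) * f i := by
          have h1 : x = GradedRing.proj 𝒜 n x := by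
            rw [GradedRing.proj_apply, DirectSum.decompose_of_mem_same 𝒜 hx]
          rw [h1, ← hc, map_sum]
          refine Finset.sum_congr rfl fun i _ => ?_
          rw [GradedRing.proj_apply]
          have h2 := DirectSum.coe_decompose_mul_add_of_right_mem 𝒜 (i := n - deg i) (a := c i) (hf i)
          rwa [sub_add_cancel] at h2
        rw [hx']
        refine Submodule.sum_mem _ fun i _ => ?_
        have hgi : ((DirectSum.decompose 𝒜 (c i) (n - deg i) : 𝒜 (n - deg i)) : A) ∈
            Submodule.span R (G (n - deg i)) :=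
          ih (n - deg i) (by have := hdeg i; push_cast at hn; omega) _ (SetLike.coe_mem _)
        have hle : Submodule.span R (G (n - deg i)) ≤
            (Submodule.span R (G n)).comap (LinearMap.mulRight R (f i)) := by
          rw [Submodule.span_le]
          intro y hy
          obtain ⟨α, a, ha, hle, rfl⟩ := (hG _ y).mp hy
          rw [SetLike.mem_coe, Submodule.mem_comap, LinearMap.mulRight_apply]
          have e : n - ∑ l, (((α + Pi.single i 1 : Fin p → ℕ) l : ℕ) : ℤ) * deg l =
              n - deg i - ∑ l, (α l : ℤ) * deg l := by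
            rw [hsum_add]; push_cast; ring
          refine Submodule.subset_span ((hG n _).mpr ⟨α + Pi.single i 1, a, ?_, ?_, ?_⟩)
          · rw [e]; exact ha
          · rw [e]; exact hle
          · rw [hprod_add, pow_one, mul_assoc]
        exact hle hgi
  intro x hx
  have hxT := key N.toNat N (Int.self_le_toNat N) x hx
  refine (Submodule.span_le.mpr ?_) hxT
  intro y hy
  obtain ⟨α, a, ha, hle, rfl⟩ := (hG _ y).mp hy
  have hex : ∃ i, ∃ q : ℕ, d = (q : ℤ) * deg i ∧ q ≤ α i := by
    by_contra hcon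
    push Not at hcon
    have hbound : ∀ i, (α i : ℤ) * deg i ≤ d - deg i := by
      intro i
      obtain ⟨qi, hqi⟩ := hdvd i
      have hqpos : 0 < qi := by
        by_contra h
        push Not at h
        have h3 : deg i * qi ≤ 0 := mul_nonpos_of_nonneg_of_nonpos (hdeg i).le h
        omega
      have hq' : d = ((qi.toNat : ℕ) : ℤ) * deg i := by
        rw [Int.toNat_of_nonneg hqpos.le, hqi, mul_comm]
      have hlt := hcon i qi.toNat hq'
      have h1 : (α i : ℤ) ≤ qi - 1 := by
        have h4 : (α i : ℤ) < (qi.toNat : ℤ) := by exact_mod_cast hlt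
        rw [Int.toNat_of_nonneg hqpos.le] at h4
        omega
      calc (α i : ℤ) * deg i ≤ (qi - 1) * deg i := mul_le_mul_of_nonneg_right h1 (hdeg i).le
        _ = d - deg i := by rw [hqi]; ring
    have hsum : ∑ i, (α i : ℤ) * deg i ≤ d * p - ∑ i, deg i := by
      calc ∑ i, (α i : ℤ) * deg i ≤ ∑ i, (d - deg i) := Finset.sum_le_sum fun i _ => hbound i
        _ = d * p - ∑ i, deg i := by
          rw [Finset.sum_sub_distrib, Finset.sum_const, Finset.card_univ, Fintype.card_fin,
            nsmul_eq_mul, mul_comm]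
    linarith
  obtain ⟨i, q, hq, hqα⟩ := hex
  obtain ⟨α', hα'⟩ : ∃ α' : Fin p → ℕ, α = α' + Pi.single i q := by
    refine ⟨α - Pi.single i q, ?_⟩
    funext l
    by_cases hl : l = i
    · subst hl; simp [Nat.sub_add_cancel hqα]
    · simp [Pi.single_eq_of_ne hl]
  rw [hα'] at ha hle ⊢
  rw [SetLike.mem_coe, hprod_add, mul_comm (∏ l, f l ^ α' l), ← mul_assoc, mul_comm a, mul_assoc]
  refine Submodule.mul_mem_mul ?_ ?_
  · have h5 := SetLike.pow_mem_graded q (hf i)
    rwa [nsmul_eq_mul, ← hq] at h5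
  · have h1 := SetLike.mul_mem_graded ha (hmono α')
    have e : N - ∑ l, (((α' + Pi.single i q : Fin p → ℕ) l : ℕ) : ℤ) * deg l + ∑ l, (α' l : ℤ) * deg l = N - d := by
      rw [hsum_add, hq]; ring
    rwa [e] at h1

end Groth.Agent.S13663
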