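import Groth.Statements.S13664
import Mathlib

set_option autoImplicit false
universe u
open GrRing

namespace Groth.Agent.S13664

/-- Let A be a commutative ring graded by the integers whose ideal I generated by the homogeneous
elements of positive degree has homogeneous generators f_1, …, f_p, of positive degrees d_1, …, d_p,
let d be a positive integer divisible by each d_i, and let x be an element of an A-module M. The
following are equivalent: x is annihilated by some power of I; x is annihilated by (A_d)^n for all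
sufficiently large n; there is an integer s such that A_n x = 0 for all n ≥ s. (The published
statement is for a homogeneous element of a graded module; this row drops both the grading of M and
the homogeneity of x, which play no role.) -/
theorem result {R A : Type u} [CommRing R] [CommRing A] [Algebra R A]
    (𝒜 : ℤ → Submodule R A) [GradedAlgebra 𝒜]
    {p : ℕ} (f : Fin p → A) (deg : Fin p → ℤ) (hdeg : ∀ i, 0 < deg i) (hf : ∀ i, f i ∈ 𝒜 (deg i))
    (hgen : Ideal.span {a : A | ∃ n : ℤ, 0 < n ∧ a ∈ 𝒜 n} = Ideal.span (Set.range f))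
    (d : ℤ) (hd : 0 < d) (hdvd : ∀ i, deg i ∣ d)
    {M : Type u} [AddCommGroup M] [Module A M] (x : M) :
    [x ∈ GrLC.gam (Ideal.span (Set.range f)) M,
     ∃ n₀ : ℕ, ∀ n : ℕ, n₀ ≤ n → ∀ r ∈ (𝒜 d) ^ n, r • x = 0,
     ∃ s : ℤ, ∀ n : ℤ, s ≤ n → ∀ r ∈ 𝒜 n, r • x = 0].TFAE := by
  classical
  obtain ⟨J, hJ⟩ : ∃ J : Ideal A, ∀ r, r ∈ J ↔ r • x = 0 :=
    ⟨LinearMap.ker (LinearMap.toSpanSingleton A M x), fun r => by
      rw [LinearMap.mem_ker, LinearMap.toSpanSingleton_apply]⟩
  have hpowle : ∀ n : ℕ, (𝒜 d) ^ n ≤ 𝒜 ((n : ℤ) * d) := by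
    intro n
    induction n with
    | zero =>
      rw [pow_zero, Nat.cast_zero, zero_mul, Submodule.one_le]
      exact SetLike.one_mem_graded 𝒜
    | succ n ih =>
      rw [pow_succ, Submodule.mul_le]
      intro a ha b hb
      have h1 := SetLike.mul_mem_graded (ih ha) hb
      have e : ((n + 1 : ℕ) : ℤ) * d = n * d + d := by push_cast; ring
      rw [e]; exact h1
  tfae_have 1 → 3 := by
    intro h1
    obtain ⟨n, hn⟩ : ∃ n : ℕ, ∀ r ∈ Ideal.span (Set.range f) ^ n, r • x = 0 := h1
    have claim : ∀ n : ℕ, ∃ s : ℤ, ∀ m : ℤ, s ≤ m → ∀ a ∈ 𝒜 m,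
        a ∈ Ideal.span (Set.range f) ^ n := by
      intro n
      induction n with
      | zero => exact ⟨0, fun m _ a _ => by simp⟩
      | succ n ih =>
        obtain ⟨s, hs⟩ := ih
        refine ⟨max s 0 + ∑ i, deg i + 1, fun m hm a ha => ?_⟩
        have hsum0 : 0 ≤ ∑ i, deg i := Finset.sum_nonneg fun i _ => (hdeg i).le
        have hmax1 := le_max_right s 0
        have hmax2 := le_max_left s 0
        have hm0 : 0 < m := by omega
        have haI : a ∈ Ideal.span (Set.range f) := by
          rw [← hgen]; exact Ideal.subset_span ⟨m, hm0, ha⟩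
        obtain ⟨c, hc⟩ := (Ideal.mem_span_range_iff_exists_fun).mp haI
        have ha' : a = ∑ i, ((DirectSum.decompose 𝒜 (c i) (m - deg i) : 𝒜 (m - deg i)) : A) * f i := by
          have h1 : a = GradedRing.proj 𝒜 m a := by
            rw [GradedRing.proj_apply, DirectSum.decompose_of_mem_same 𝒜 ha]
          rw [h1, ← hc, map_sum]
          refine Finset.sum_congr rfl fun i _ => ?_
          rw [GradedRing.proj_apply]
          have h2 := DirectSum.coe_decompose_mul_add_of_right_mem 𝒜 (i := m - deg i) (a := c i) (hf i)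
          rwa [sub_add_cancel] at h2
        rw [ha', pow_succ]
        refine Ideal.sum_mem _ fun i _ => ?_
        refine Ideal.mul_mem_mul ?_ (Ideal.subset_span ⟨i, rfl⟩)
        refine hs (m - deg i) ?_ _ (SetLike.coe_mem _)
        have h1 : deg i ≤ ∑ j, deg j :=
          Finset.single_le_sum (fun j _ => (hdeg j).le) (Finset.mem_univ i)
        omega
    obtain ⟨s, hs⟩ := claim n
    exact ⟨s, fun m hm r hr => hn r (hs m hm r hr)⟩
  tfae_have 3 → 2 := by
    rintro ⟨s, hs⟩
    refine ⟨s.toNat, fun n hn r hr => ?_⟩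
    refine hs ((n : ℤ) * d) ?_ r (hpowle n hr)
    have h1 : s ≤ (s.toNat : ℤ) := Int.self_le_toNat s
    have h2 : (s.toNat : ℤ) ≤ (n : ℤ) := by exact_mod_cast hn
    have h3 : (n : ℤ) ≤ n * d := by
      nlinarith [mul_nonneg (Int.natCast_nonneg n) (by linarith : (0 : ℤ) ≤ d - 1)]
    linarith
  tfae_have 2 → 1 := by
    rintro ⟨n₀, hn₀⟩
    have hrad : Ideal.span (Set.range f) ≤ J.radical := by
      rw [Ideal.span_le]
      rintro _ ⟨i, rfl⟩
      obtain ⟨q, hq⟩ := hdvd i
      have hqpos : 0 < q := by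
        by_contra h
        push Not at h
        have h3 : deg i * q ≤ 0 := mul_nonpos_of_nonneg_of_nonpos (hdeg i).le h
        omega
      refine ⟨q.toNat * n₀, (hJ _).mpr ?_⟩
      apply hn₀ n₀ le_rfl
      rw [pow_mul]
      apply Submodule.pow_mem_pow
      have h5 := SetLike.pow_mem_graded q.toNat (hf i)
      have e : q.toNat • deg i = d := by
        rw [nsmul_eq_mul, Int.toNat_of_nonneg hqpos.le, hq, mul_comm]
      rw [e] at h5
      exact h5
    have hfg : (Ideal.span (Set.range f)).FG := Submodule.fg_span (Set.finite_range f)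
    obtain ⟨k, hk⟩ := Ideal.exists_pow_le_of_le_radical_of_fg hrad hfg
    show ∃ n : ℕ, ∀ r ∈ Ideal.span (Set.range f) ^ n, r • x = 0
    exact ⟨k, fun r hr => (hJ r).mp (hk hr)⟩
  tfae_finish

end Groth.Agent.S13664
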