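import Groth.Statements.S13708
import Mathlib

set_option autoImplicit false
universe u
open CategoryTheory CategoryTheory.Limits AlgebraicGeometry
open ZeroCyc

namespace Groth.Agent.S13708

set_option backward.isDefEq.respectTransparency false in

/-- Let X be a scheme over S such that every finite set of points of X over a common point of S lies in
some affine open subscheme of X (the condition (AF)). Then X is separated over S. (The published
condition (AF) asks for an open U with U → S quasi-affine rather than U affine; with U affine, as
here, the same argument applies verbatim, and the two conditions agree over a quasi-separated base.) -/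
theorem result {X S : Scheme.{u}} (f : X ⟶ S) (hX : SymProd.IsAF f) :
    IsSeparated f := by
  classical
  refine ⟨?_⟩
  apply IsZariskiLocalAtTarget.of_forall_exists_morphismRestrict (P := @IsClosedImmersion)
  intro z
  set x₁ := pullback.fst f f z with hx₁
  set x₂ := pullback.snd f f z with hx₂
  have hx : f x₂ = f x₁ := by
    rw [hx₁, hx₂, ← Scheme.Hom.comp_apply, ← Scheme.Hom.comp_apply, pullback.condition]
  obtain ⟨U, hU, hUT⟩ := hX (f x₁) {x₁, x₂} (by
    intro x hx'
    simp only [Finset.mem_insert, Finset.mem_singleton] at hx'
    rcases hx' with rfl | rfl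
    · rfl
    · exact hx)
  have h1 : x₁ ∈ U := hUT x₁ (by simp)
  have h2 : x₂ ∈ U := hUT x₂ (by simp)
  haveI : IsAffine (U : Scheme.{u}) := hU
  let m : pullback (U.ι ≫ f) (U.ι ≫ f) ⟶ pullback f f :=
    pullback.map (U.ι ≫ f) (U.ι ≫ f) f f U.ι U.ι (𝟙 S) (Category.comp_id _) (Category.comp_id _)
  have hzm : z ∈ m.opensRange := by
    show z ∈ Set.range m
    rw [Scheme.Pullback.range_map]
    refine ⟨?_, ?_⟩
    · show pullback.fst f f z ∈ Set.range U.ι
      rw [Scheme.Opens.range_ι]; exact h1
    · show pullback.snd f f z ∈ Set.range U.ι
      rw [Scheme.Opens.range_ι]; exact h2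
  refine ⟨m.opensRange, hzm, ?_⟩
  rw [MorphismProperty.arrow_mk_iso_iff @IsClosedImmersion
    (morphismRestrictOpensRange (pullback.diagonal f) m)]
  have sq := pullback_map_diagonal_isPullback U.ι U.ι f
  have hsnd : pullback.snd (pullback.diagonal f) m = sq.isoPullback.inv ≫
      pullback.map U.ι U.ι (U.ι ≫ f) (U.ι ≫ f) (𝟙 _) (𝟙 _) f (Category.id_comp _).symm
      (Category.id_comp _).symm := sq.isoPullback_inv_snd.symm
  rw [hsnd, MorphismProperty.cancel_left_of_respectsIso @IsClosedImmersion]
  have htop : pullback.map U.ι U.ι (U.ι ≫ f) (U.ι ≫ f) (𝟙 _) (𝟙 _) f (Category.id_comp _).symm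
      (Category.id_comp _).symm = pullback.fst U.ι U.ι ≫ pullback.diagonal (U.ι ≫ f) := by
    apply pullback.hom_ext
    · simp [pullback.map]
    · simp only [pullback.map, pullback.lift_snd, Category.comp_id, Category.assoc,
        pullback.diagonal_snd]
      rw [← cancel_mono U.ι]
      exact pullback.condition.symm
  rw [htop]
  infer_instance

end Groth.Agent.S13708
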