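import Groth.Statements.S13725
import Mathlib

set_option autoImplicit false
universe u
open scoped TensorProduct
open ZeroCyc

namespace Groth.Agent.S13725

/-- Let k be a field of characteristic p > 0 and let F : k → k be the law x ↦ x^p, multiplicative and
homogeneous of degree p over k. The kernel of F is the zero ideal, but after the flat base change k
→ A' = k[X]/(X^p) the kernel of the base-changed law on A' ⊗_k k is not zero (the class of X lies in
it). So in characteristic p, forming the kernel of a multiplicative law is not compatible with flat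
base change. -/
theorem result {k : Type u} [Field k] (p : ℕ) [Fact p.Prime] [CharP k p] :
    PolLaw.ker (PolLaw.MulLaw.pow k k p).law = ⊥ ∧
      PolLaw.kerBC (PolLaw.MulLaw.pow k k p).law (AdjoinRoot ((Polynomial.X : Polynomial k) ^ p)) ≠ ⊥ := by
  have hp := (Fact.out : p.Prime)
  constructor
  · rw [eq_bot_iff]
    intro b hb
    have hb' : ∀ (S : Type u) [CommSemiring S] [Algebra k S] (x w : S ⊗[k] k),
        (PolLaw.MulLaw.pow k k p).law.toFun' S (x + w * (1 ⊗ₜ[k] b)) =
          (PolLaw.MulLaw.pow k k p).law.toFun' S x := hb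
    have h1 := hb' k 0 1
    have h2 : ((1 : k) ⊗ₜ[k] b : k ⊗[k] k) ^ p = 0 := by
      have h0 : (0 + 1 * ((1 : k) ⊗ₜ[k] b) : k ⊗[k] k) ^ p = (0 : k ⊗[k] k) ^ p := h1
      rwa [zero_add, one_mul, zero_pow hp.ne_zero] at h0
    have h3 := congrArg (Algebra.TensorProduct.lid k k) h2
    rw [map_pow, Algebra.TensorProduct.lid_tmul, map_zero, one_smul] at h3
    exact (Submodule.mem_bot k).2 ((pow_eq_zero_iff hp.ne_zero).1 h3)
  · intro hbot
    have hroot : (AdjoinRoot.root ((Polynomial.X : Polynomial k) ^ p)) ^ p = 0 := by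
      rw [← AdjoinRoot.mk_X, ← map_pow, AdjoinRoot.mk_self]
    have hmem : ((AdjoinRoot.root ((Polynomial.X : Polynomial k) ^ p)) ⊗ₜ[k] (1 : k) :
        AdjoinRoot ((Polynomial.X : Polynomial k) ^ p) ⊗[k] k) ∈
        PolLaw.kerBC (PolLaw.MulLaw.pow k k p).law
          (AdjoinRoot ((Polynomial.X : Polynomial k) ^ p)) := by
      intro R _ _ _ _ x w
      show (x + w * Algebra.TensorProduct.map
        (IsScalarTower.toAlgHom k (AdjoinRoot ((Polynomial.X : Polynomial k) ^ p)) R)
        (AlgHom.id k k) ((AdjoinRoot.root ((Polynomial.X : Polynomial k) ^ p)) ⊗ₜ[k] (1 : k))) ^ p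
        = x ^ p
      rw [Algebra.TensorProduct.map_tmul]
      obtain ⟨r, hr⟩ := exists_add_pow_prime_eq hp x
        (w * ((IsScalarTower.toAlgHom k (AdjoinRoot ((Polynomial.X : Polynomial k) ^ p)) R)
          (AdjoinRoot.root ((Polynomial.X : Polynomial k) ^ p)) ⊗ₜ[k] (AlgHom.id k k) (1 : k)))
      rw [hr]
      have hp0 : ((p : ℕ) : R ⊗[k] k) = 0 := by
        rw [← map_natCast (algebraMap k (R ⊗[k] k)) p, CharP.cast_eq_zero k p, map_zero]
      have hz : (w * ((IsScalarTower.toAlgHom k (AdjoinRoot ((Polynomial.X : Polynomial k) ^ p)) R)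
          (AdjoinRoot.root ((Polynomial.X : Polynomial k) ^ p)) ⊗ₜ[k] (AlgHom.id k k) (1 : k))) ^ p
          = 0 := by
        rw [mul_pow, Algebra.TensorProduct.tmul_pow, ← map_pow, hroot, map_zero,
          TensorProduct.zero_tmul, mul_zero]
      rw [hz, hp0, add_zero, zero_mul, zero_mul, zero_mul, add_zero]
    rw [hbot, Submodule.mem_bot] at hmem
    have h4 := congrArg (Algebra.TensorProduct.rid k k
      (AdjoinRoot ((Polynomial.X : Polynomial k) ^ p))) hmem
    rw [Algebra.TensorProduct.rid_tmul, one_smul, map_zero, ← AdjoinRoot.mk_X,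
      AdjoinRoot.mk_eq_zero] at h4
    have h5 := Polynomial.natDegree_le_of_dvd h4 Polynomial.X_ne_zero
    rw [Polynomial.natDegree_X_pow, Polynomial.natDegree_X] at h5
    have := hp.two_le
    omega

end Groth.Agent.S13725
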