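import Groth.Statements.S13738
import Mathlib

set_option autoImplicit false
universe u
open SGA1

namespace Groth.Agent.S13738

open CategoryTheory CategoryTheory.Limits AlgebraicGeometry in
/-- Let S be a separated irreducible Noetherian scheme, q : X → S finite and surjective with X
separated, and G a finite group acting on X by S-automorphisms, transitively on the geometric points
of X over every geometric point of S. Then every irreducible component of X maps onto S and G acts
transitively on the set of irreducible components of X. -/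
theorem result {X S : Scheme.{u}} [IsNoetherian S] [S.IsSeparated] [X.IsSeparated] [IrreducibleSpace ↥S] (q : X ⟶ S) [IsFinite q] [Surjective q] {G : Type u} [Group G] [Finite G] (ρ : G →* Aut X) (hρ : ∀ g : G, (ρ g).hom ≫ q = q) (htrans : ∀ (Ω : Type u) [Field Ω] [IsAlgClosed Ω] (τ₁ τ₂ : Spec (CommRingCat.of Ω) ⟶ X), τ₁ ≫ q = τ₂ ≫ q → ∃ g : G, τ₁ ≫ (ρ g).hom = τ₂) : (∀ T ∈ irreducibleComponents ↥X, Set.image (fun x => q x) T = Set.univ) ∧ ∀ T₁ ∈ irreducibleComponents ↥X, ∀ T₂ ∈ irreducibleComponents ↥X, ∃ g : G, Set.image (fun x => (ρ g).hom x) T₁ = T₂ := by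
  -- point-level transitivity from geometric transitivity
  have htr : ∀ x₁ x₂ : X, q.base x₁ = q.base x₂ → ∃ g : G, (ρ g).hom.base x₁ = x₂ := by
    intro x₁ x₂ h12
    obtain ⟨w, -, -⟩ := Scheme.Pullback.exists_preimage_pullback
      (f := X.fromSpecResidueField x₁ ≫ q) (g := X.fromSpecResidueField x₂ ≫ q)
      (IsLocalRing.closedPoint _) (IsLocalRing.closedPoint _) (by
        rw [Scheme.Hom.comp_apply, Scheme.Hom.comp_apply, Scheme.fromSpecResidueField_apply,
          Scheme.fromSpecResidueField_apply]
        exact h12)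
    obtain ⟨ζ, -⟩ : ∃ ζ : Spec (CommRingCat.of (AlgebraicClosure (IsLocalRing.ResidueField
        ((pullback (X.fromSpecResidueField x₁ ≫ q)
          (X.fromSpecResidueField x₂ ≫ q)).presheaf.stalk w)))) ⟶ _,
        ζ = Spec.map (CommRingCat.ofHom (algebraMap _ _)) ≫
          Scheme.fromSpecResidueField _ w := ⟨_, rfl⟩
    have hcond : ((ζ ≫ pullback.fst _ _) ≫ X.fromSpecResidueField x₁) ≫ q =
        ((ζ ≫ pullback.snd _ _) ≫ X.fromSpecResidueField x₂) ≫ q := by
      rw [Category.assoc, Category.assoc, Category.assoc, Category.assoc, pullback.condition]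
    obtain ⟨g, hg⟩ := htrans _ _ _ hcond
    refine ⟨g, ?_⟩
    have h1 := congrArg (fun m => m.base (IsLocalRing.closedPoint _)) hg
    simp only [Scheme.Hom.comp_apply, Scheme.fromSpecResidueField_apply] at h1
    exact h1
  have hqcl : IsClosedMap q.base := q.isClosedMap
  have hqc : Continuous q.base := q.continuous
  have hqim : ∀ g : G, ∀ A : Set X, (fun x => q.base x) '' ((fun x => (ρ g).hom.base x) '' A) =
      (fun x => q.base x) '' A := by
    intro g A
    rw [Set.image_image]
    refine Set.image_congr fun x _ => ?_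
    exact congrArg (fun m => m.base x) (hρ g)
  -- generic points
  have hgen : ∀ T ∈ irreducibleComponents ↥X, ∃ ξ : X, IsGenericPoint ξ T := by
    intro T hT
    have hirr : IsIrreducible T := hT.1
    have hcl : IsClosed T := isClosed_of_mem_irreducibleComponents T hT
    exact ⟨hirr.genericPoint, hirr.isGenericPoint_genericPoint hcl⟩
  have himg : ∀ (T : Set X) (ξ : X), IsGenericPoint ξ T →
      (fun x => q.base x) '' T = closure {q.base ξ} := by
    intro T ξ hξ
    rw [← hξ.def, ← hqcl.closure_image_eq_of_continuous hqc, Set.image_singleton]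
  have hη : closure ({genericPoint ↥S} : Set S) = Set.univ := genericPoint_closure _
  have h1 : ∀ T ∈ irreducibleComponents ↥X, (fun x => q.base x) '' T = Set.univ := by
    intro T hT
    obtain ⟨ξ, hξ⟩ := hgen T hT
    obtain ⟨x', hx'⟩ := (inferInstance : Surjective q).surj (genericPoint ↥S)
    have hT' := irreducibleComponent_mem_irreducibleComponents x'
    have hT'cl : IsClosed (irreducibleComponent x') := isClosed_irreducibleComponent
    have himT' : (fun x => q.base x) '' (irreducibleComponent x') = Set.univ := by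
      have hcl' : IsClosed ((fun x => q.base x) '' (irreducibleComponent x')) := hqcl _ hT'cl
      rw [← Set.univ_subset_iff, ← hη]
      refine closure_minimal ?_ hcl'
      rw [Set.singleton_subset_iff]
      exact ⟨x', mem_irreducibleComponent, hx'⟩
    have : q.base ξ ∈ (fun x => q.base x) '' (irreducibleComponent x') := by
      rw [himT']; trivial
    obtain ⟨ξ', hξ'T, hξ'⟩ := this
    obtain ⟨g, hg⟩ := htr ξ' ξ hξ'
    have hirr' : IsIrreducible ((fun x => (ρ g).hom.base x) '' (irreducibleComponent x')) :=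
      hT'.1.image _ (ρ g).hom.continuous.continuousOn
    have hclg : IsClosed ((fun x => (ρ g).hom.base x) '' (irreducibleComponent x')) :=
      (ρ g).hom.isClosedMap _ hT'cl
    have hsub : T ⊆ (fun x => (ρ g).hom.base x) '' (irreducibleComponent x') := by
      rw [← hξ.def]
      refine closure_minimal ?_ hclg
      rw [Set.singleton_subset_iff]
      exact ⟨ξ', hξ'T, hg⟩
    have heq : T = (fun x => (ρ g).hom.base x) '' (irreducibleComponent x') :=
      le_antisymm hsub (hT.2 hirr' hsub)
    rw [heq, hqim, himT']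
  refine ⟨h1, ?_⟩
  intro T₁ hT₁ T₂ hT₂
  obtain ⟨ξ₁, hξ₁⟩ := hgen T₁ hT₁
  obtain ⟨ξ₂, hξ₂⟩ := hgen T₂ hT₂
  have e1 : IsGenericPoint (q.base ξ₁) (Set.univ : Set S) := by
    rw [isGenericPoint_def, ← himg T₁ ξ₁ hξ₁, h1 T₁ hT₁]
  have e2 : IsGenericPoint (q.base ξ₂) (Set.univ : Set S) := by
    rw [isGenericPoint_def, ← himg T₂ ξ₂ hξ₂, h1 T₂ hT₂]
  obtain ⟨g, hg⟩ := htr ξ₁ ξ₂ (e1.eq e2)
  refine ⟨g, ?_⟩
  rw [← hξ₁.def, ← hξ₂.def,
    ← (ρ g).hom.isClosedMap.closure_image_eq_of_continuous (ρ g).hom.continuous,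
    Set.image_singleton, hg]

end Groth.Agent.S13738
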