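import Groth.Statements.S13739
import Mathlib
import Groth.Agent.Lib.SigmaFin1_helper8

set_option autoImplicit false
universe u
open SGA1

namespace Groth.Agent.S13739

open CategoryTheory CategoryTheory.Limits AlgebraicGeometry in
/-- Let S be a separated Noetherian scheme, q : X → S finite surjective with X separated, G a finite
group acting on X by S-automorphisms and transitively on the geometric points of X over every
geometric point of S, and r : Y → X a morphism with Y separated. If υ is the morphism from the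
disjoint union of G copies of Y to Y ×_S X (Y over S through r ≫ q) whose σ-th component is (id_Y, r
≫ σ), then υ is finite and surjective. -/
theorem result {X S Y : Scheme.{u}} [IsNoetherian S] [S.IsSeparated] [X.IsSeparated] [Y.IsSeparated] (q : X ⟶ S) [IsFinite q] [Surjective q] {G : Type u} [Group G] [Finite G] (ρ : G →* Aut X) (hρ : ∀ g : G, (ρ g).hom ≫ q = q) (htrans : ∀ (Ω : Type u) [Field Ω] [IsAlgClosed Ω] (τ₁ τ₂ : Spec (CommRingCat.of Ω) ⟶ X), τ₁ ≫ q = τ₂ ≫ q → ∃ g : G, τ₁ ≫ (ρ g).hom = τ₂) (r : Y ⟶ X) (υ : (∐ fun _ : G => Y) ⟶ pullback (r ≫ q) q) (hυ₁ : ∀ σ : G, Sigma.ι (fun _ : G => Y) σ ≫ υ ≫ pullback.fst (r ≫ q) q = 𝟙 Y) (hυ₂ : ∀ σ : G, Sigma.ι (fun _ : G => Y) σ ≫ υ ≫ pullback.snd (r ≫ q) q = r ≫ (ρ σ).hom) : IsFinite υ ∧ Surjective υ := by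
  have hfstfin : IsFinite (pullback.fst (r ≫ q) q) := inferInstance
  have hcomp : ∀ σ : G, IsFinite (Sigma.ι (fun _ : G => Y) σ ≫ υ) := by
    intro σ
    have h1 : IsFinite ((Sigma.ι (fun _ : G => Y) σ ≫ υ) ≫ pullback.fst (r ≫ q) q) := by
      rw [Category.assoc, hυ₁ σ]
      infer_instance
    exact IsFinite.of_comp _ (pullback.fst (r ≫ q) q)
  have hυ : υ = Sigma.desc (fun σ : G => Sigma.ι (fun _ : G => Y) σ ≫ υ) := by
    apply Sigma.hom_ext
    intro σ
    rw [Sigma.ι_desc]
  refine ⟨?_, ?_⟩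
  · rw [hυ]
    exact SigmaFinH8.isFinite_sigmaDesc G (fun _ : G => Y) _ hcomp
  · refine ⟨fun z => ?_⟩
    obtain ⟨ζ, hζ⟩ : ∃ ζ : Spec (CommRingCat.of (AlgebraicClosure (IsLocalRing.ResidueField
        ((pullback (r ≫ q) q).presheaf.stalk z)))) ⟶ pullback (r ≫ q) q,
        ζ = Spec.map (CommRingCat.ofHom (algebraMap _ _)) ≫
          Scheme.fromSpecResidueField _ z := ⟨_, rfl⟩
    have hζpt : ∀ t, ζ.base t = z := by
      intro t
      rw [hζ, Scheme.Hom.comp_apply]
      exact Scheme.fromSpecResidueField_apply _ _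
    have hcond : ((ζ ≫ pullback.fst _ _) ≫ r) ≫ q = (ζ ≫ pullback.snd _ _) ≫ q := by
      rw [Category.assoc, Category.assoc, Category.assoc, pullback.condition]
    obtain ⟨g, hg⟩ := htrans _ _ _ hcond
    have hζ' : ζ = (ζ ≫ pullback.fst _ _) ≫ (Sigma.ι (fun _ : G => Y) g ≫ υ) := by
      apply pullback.hom_ext
      · rw [Category.assoc (ζ ≫ pullback.fst _ _), Category.assoc (Sigma.ι _ g), hυ₁ g,
          Category.comp_id]
      · rw [Category.assoc (ζ ≫ pullback.fst _ _), Category.assoc (Sigma.ι _ g), hυ₂ g, ← hg,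
          Category.assoc]
    refine ⟨(Sigma.ι (fun _ : G => Y) g).base ((ζ ≫ pullback.fst _ _).base
      (IsLocalRing.closedPoint _)), ?_⟩
    refine Eq.trans ?_ (hζpt (IsLocalRing.closedPoint _))
    conv_rhs => rw [hζ']
    rfl

end Groth.Agent.S13739
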