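import Groth.Statements.S13740
import Mathlib
import Groth.Agent.Lib.QfhQuot1_helper8

set_option autoImplicit false
universe w u
open SGA1

namespace Groth.Agent.S13740

open CategoryTheory CategoryTheory.Limits AlgebraicGeometry in
/-- Let S be a separated Noetherian scheme, π : X → S finite and surjective with X separated, G a finite
group acting on X by S-automorphisms and transitively on the geometric points of X over every
geometric point of S, and F a presheaf of sets on schemes satisfying the sheaf condition for every
finite family of quasi-finite morphisms of finite type whose induced morphism from the disjoint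
union is universally submersive (a qfh-sheaf). Then pulling back along π identifies F(S) with the
G-invariant elements of F(X): F(π) is injective with image the invariants. (The published statement
takes F a qfh-sheaf on Noetherian schemes over S; this row takes a presheaf on all schemes with the
sheaf property for every such family, a stronger hypothesis.) -/
theorem result {X S : Scheme.{u}} [IsNoetherian S] [S.IsSeparated] [X.IsSeparated] (q : X ⟶ S) [IsFinite q] [Surjective q] {G : Type u} [Group G] [Finite G] (ρ : G →* Aut X) (hρ : ∀ g : G, (ρ g).hom ≫ q = q) (htrans : ∀ (Ω : Type u) [Field Ω] [IsAlgClosed Ω] (τ₁ τ₂ : Spec (CommRingCat.of Ω) ⟶ X), τ₁ ≫ q = τ₂ ≫ q → ∃ g : G, τ₁ ≫ (ρ g).hom = τ₂) (F : Scheme.{u}ᵒᵖ ⥤ Type w) (hF : ∀ ⦃T : Scheme.{u}⦄ (E : PreZeroHypercover.{u} T), Finite E.I₀ → (∀ i, LocallyOfFiniteType (E.f i)) → (∀ i, QuasiCompact (E.f i)) → (∀ i, LocallyQuasiFinite (E.f i)) → SGA1.UnivSubmersive (Sigma.desc E.f) → Presieve.IsSheafFor F E.presieve₀) : Function.Injective (F.map q.op) ∧ Set.range (F.map q.op) = {f : F.obj (Opposite.op X) | ∀ g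 : G, F.map (ρ g).hom.op f = f} := by
  -- sheaf condition for the singleton cover {q}
  have hS1 : Presieve.IsSheafFor F (PreZeroHypercover.singleton.{u} q).presieve₀ := by
    haveI : Finite (PreZeroHypercover.singleton.{u} q).I₀ := inferInstanceAs (Finite PUnit)
    refine QfhQuotH8.isSheafFor_of_finite_cover F hF _ (fun _ => ‹IsFinite q›) (fun t => ?_)
    obtain ⟨x, hx⟩ := (inferInstance : Surjective q).surj t
    exact ⟨PUnit.unit, x, hx⟩
  -- key claim
  have hgraph : ∀ g : G, 𝟙 X ≫ q = (ρ g).hom ≫ q := fun g => by rw [Category.id_comp, hρ g]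
  have key : ∀ (f₀ : F.obj (Opposite.op X)), (∀ g : G, F.map (ρ g).hom.op f₀ = f₀) →
      ∀ (T : Scheme.{u}) (a b : T ⟶ X), a ≫ q = b ≫ q → F.map a.op f₀ = F.map b.op f₀ := by
    intro f₀ hf₀ T a b hab
    let E : PreZeroHypercover.{u} T :=
      { I₀ := G
        X := fun g => pullback (pullback.lift a b hab) (pullback.lift (𝟙 X) (ρ g).hom (hgraph g))
        f := fun g => pullback.fst _ _ }
    haveI : Finite E.I₀ := ‹Finite G›
    have hΓcl : ∀ g : G, IsClosedImmersion (pullback.lift (𝟙 X) (ρ g).hom (hgraph g)) := by
      intro g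
      have h1 : IsClosedImmersion (pullback.lift (𝟙 X) (ρ g).hom (hgraph g) ≫ pullback.fst q q) := by
        rw [pullback.lift_fst]; infer_instance
      exact MorphismProperty.of_postcomp (W := @IsClosedImmersion) (W' := @IsSeparated) _
        (pullback.fst q q) inferInstance h1
    have hET : Presieve.IsSheafFor F E.presieve₀ := by
      refine QfhQuotH8.isSheafFor_of_finite_cover F hF E (fun g => ?_) (fun t => ?_)
      · show IsFinite (pullback.fst (pullback.lift a b hab) (pullback.lift (𝟙 X) (ρ g).hom (hgraph g)))
        haveI := hΓcl g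
        infer_instance
      · -- the point d(t) lies on some graph
        obtain ⟨ζ, hζ⟩ : ∃ ζ : Spec (CommRingCat.of (AlgebraicClosure (IsLocalRing.ResidueField
            (T.presheaf.stalk t)))) ⟶ T,
            ζ = Spec.map (CommRingCat.ofHom (algebraMap _ _)) ≫
              Scheme.fromSpecResidueField _ t := ⟨_, rfl⟩
        have hζpt : ∀ s, ζ.base s = t := by
          intro s
          rw [hζ, Scheme.Hom.comp_apply]
          exact Scheme.fromSpecResidueField_apply _ _
        obtain ⟨g, hg⟩ := htrans _ (ζ ≫ a) (ζ ≫ b) (by rw [Category.assoc, Category.assoc, hab])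
        refine ⟨g, ?_⟩
        have hlift : ζ ≫ pullback.lift a b hab =
            (ζ ≫ a) ≫ pullback.lift (𝟙 X) (ρ g).hom (hgraph g) := by
          apply pullback.hom_ext
          · rw [Category.assoc, pullback.lift_fst, Category.assoc, pullback.lift_fst,
              Category.comp_id]
          · rw [Category.assoc, pullback.lift_snd, Category.assoc, pullback.lift_snd, hg]
        refine ⟨(pullback.lift ζ (ζ ≫ a) hlift).base (IsLocalRing.closedPoint _), ?_⟩
        have h3 : pullback.lift ζ (ζ ≫ a) hlift ≫ E.f g = ζ := pullback.lift_fst _ _ _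
        have h4 := congrArg (fun m => m.base (IsLocalRing.closedPoint _)) h3
        exact h4.trans (hζpt _)
    refine hET.isSeparatedFor.ext ?_
    rintro _ _ ⟨g⟩
    show F.map (pullback.fst _ _).op (F.map a.op f₀) = F.map (pullback.fst _ _).op (F.map b.op f₀)
    have e1 : pullback.fst (pullback.lift a b hab) (pullback.lift (𝟙 X) (ρ g).hom (hgraph g)) ≫ a =
        pullback.snd _ _ := by
      have h1 := pullback.condition (f := pullback.lift a b hab)
        (g := pullback.lift (𝟙 X) (ρ g).hom (hgraph g))
      have h2 := congrArg (· ≫ pullback.fst q q) h1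
      simpa only [Category.assoc, pullback.lift_fst, Category.comp_id] using h2
    have e2 : pullback.fst (pullback.lift a b hab) (pullback.lift (𝟙 X) (ρ g).hom (hgraph g)) ≫ b =
        pullback.snd _ _ ≫ (ρ g).hom := by
      have h1 := pullback.condition (f := pullback.lift a b hab)
        (g := pullback.lift (𝟙 X) (ρ g).hom (hgraph g))
      have h2 := congrArg (· ≫ pullback.snd q q) h1
      simpa only [Category.assoc, pullback.lift_snd] using h2
    rw [← FunctorToTypes.map_comp_apply, ← FunctorToTypes.map_comp_apply, ← op_comp, ← op_comp,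
      e1, e2, op_comp, FunctorToTypes.map_comp_apply, hf₀ g]
  refine ⟨?_, ?_⟩
  · intro s₁ s₂ h
    refine hS1.isSeparatedFor.ext ?_
    rintro _ _ ⟨_⟩
    exact h
  · ext f₀
    constructor
    · rintro ⟨s, rfl⟩ g
      rw [← FunctorToTypes.map_comp_apply, ← op_comp, hρ g]
    · intro hf₀
      have hS1' := (Presieve.isSheafFor_arrows_iff (P := F)
        (π := (PreZeroHypercover.singleton.{u} q).f)).mp hS1
      obtain ⟨s, hs, -⟩ := hS1' (fun _ => f₀) (by
        intro i j Z gi gj hgij
        exact key f₀ hf₀ Z gi gj hgij)
      exact ⟨s, hs PUnit.unit⟩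

end Groth.Agent.S13740
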