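import Groth.Statements.S13741
import Mathlib
import Groth.Agent.Lib.QuotPts1_helper8

set_option autoImplicit false
universe u
open SGA1

namespace Groth.Agent.S13741

open CategoryTheory CategoryTheory.Limits AlgebraicGeometry in
/-- Let S be a separated Noetherian scheme, q : X → S finite and surjective with X separated, and G a
finite group acting on X by S-automorphisms. Assume that G acts transitively on every fibre of q,
that each residue field extension k(x)/k(q x) is normal, and that for each x every k(q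
x)-automorphism of k(x) is induced by an element of G fixing x. Then for every algebraically closed
field Ω, any two Ω-points of X with the same composite to S are conjugate under G. -/
theorem result {X S : Scheme.{u}} [IsNoetherian S] [S.IsSeparated] [X.IsSeparated] (q : X ⟶ S) [IsFinite q] [Surjective q] {G : Type u} [Group G] [Finite G] (ρ : G →* Aut X) (hρ : ∀ g : G, (ρ g).hom ≫ q = q) (h1 : ∀ x y : X, q x = q y → ∃ g : G, (ρ g).hom x = y) (h2 : ∀ x : X, @Normal (S.residueField (q x)) (X.residueField x) _ _ (q.residueFieldMap x).hom.toAlgebra) (h3 : ∀ (x : X) (σ : X.residueField x ≅ X.residueField x), q.residueFieldMap x ≫ σ.hom = q.residueFieldMap x → ∃ g : G, X.fromSpecResidueField x ≫ (ρ g).hom = Spec.map σ.hom ≫ X.fromSpecResidueField x) (Ω : Type u) [Field Ω] [IsAlgClosed Ω] (τ₁ τ₂ : Spec (CommRingCat.of Ω) ⟶ X) (hτ : τ₁ ≫ q = τ₂ ≫ q) : ∃ g : G, τ₁ ≫ (ρ g).hom = τ₂ := by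
  have key : ∀ (a' b' : Spec (CommRingCat.of Ω) ⟶ X), a' ≫ q = b' ≫ q →
      a'.base (IsLocalRing.closedPoint Ω) = b'.base (IsLocalRing.closedPoint Ω) →
      ∃ g : G, a' ≫ (ρ g).hom = b' := by
    intro a' b' hab' hpt'
    obtain ⟨⟨x, α⟩, rfl⟩ := (X.SpecToEquivOfField Ω).symm.surjective a'
    obtain ⟨⟨x', β⟩, rfl⟩ := (X.SpecToEquivOfField Ω).symm.surjective b'
    have hx : x = x' := by
      simpa [Scheme.SpecToEquivOfField_symm_apply] using hpt'
    subst hx
    simp only [Scheme.SpecToEquivOfField_symm_apply] at hab' ⊢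
    have hres : q.residueFieldMap x ≫ α = q.residueFieldMap x ≫ β := by
      have e1 : ∀ γ : X.residueField x ⟶ .of Ω, (Spec.map γ ≫ X.fromSpecResidueField x) ≫ q =
          (S.SpecToEquivOfField Ω).symm ⟨q.base x, q.residueFieldMap x ≫ γ⟩ := by
        intro γ
        rw [Scheme.SpecToEquivOfField_symm_apply, Spec.map_comp, Category.assoc, Category.assoc,
          Scheme.Hom.SpecMap_residueFieldMap_fromSpecResidueField]
      rw [e1, e1] at hab'
      have := (S.SpecToEquivOfField Ω).symm.injective hab'
      obtain ⟨e, he⟩ := Scheme.SpecToEquivOfField_eq_iff.mp this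
      simpa using he
    letI := (q.residueFieldMap x).hom.toAlgebra
    haveI : Normal (S.residueField (q.base x)) (X.residueField x) := h2 x
    obtain ⟨τ, hτ'⟩ := IsQuotH8.exists_algEquiv_of_normal (k := S.residueField (q.base x))
      α.hom β.hom (by ext c; exact congrArg (fun f => f.hom c) hres)
    have hτ'' : (τ : X.residueField x ≃+* X.residueField x).toCommRingCatIso.hom ≫ α = β := by
      ext c
      exact (RingHom.congr_fun hτ' c).symm
    obtain ⟨g, hg⟩ := h3 x (τ : X.residueField x ≃+* X.residueField x).toCommRingCatIso (by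
      ext c
      exact τ.commutes c)
    refine ⟨g, ?_⟩
    rw [Category.assoc, hg, ← hτ'', Spec.map_comp, Category.assoc]
  have hpt : q.base (τ₁.base (IsLocalRing.closedPoint Ω)) =
      q.base (τ₂.base (IsLocalRing.closedPoint Ω)) :=
    congrArg (fun m => m.base (IsLocalRing.closedPoint Ω)) hτ
  obtain ⟨g₀, hg₀⟩ := h1 _ _ hpt
  obtain ⟨g, hg⟩ := key (τ₁ ≫ (ρ g₀).hom) τ₂ (by rw [Category.assoc, hρ g₀, hτ]) hg₀
  refine ⟨g * g₀, ?_⟩
  rw [← hg, Category.assoc, IsQuotH8.hom_mul]

end Groth.Agent.S13741
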