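import Groth.Statements.S13757
import Mathlib.Tactic

set_option autoImplicit false
universe u
open LabGraph

namespace Groth.Agent.S13757

/-- Let G be a finite connected multigraph (loops and multiple edges allowed) with vertex set V, edge
set E, endpoint map E → V × V and a labelling of the edges by positive integers l. A vertex
labelling φ : V → ℤ is Cartier when l(e) divides the difference of the values of φ at the two
endpoints of every edge e; its multidegree is the vertex labelling whose value at v is the sum, over
the edge-ends at v, of (value of φ at the other endpoint − φ(v)) / l(e). Then the Cartier vertex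
labellings of multidegree zero are exactly the constant ones: the kernel of the multidegree operator
on Cartier labellings is ℤ, embedded as the constants. -/
theorem result
    {V E : Type u} [Fintype V] [Fintype E] [DecidableEq V] [DecidableEq E]
    (ends : E → V × V) (l : E → ℕ) (hl : ∀ e, 0 < l e) (hconn : LabGraph.Connected ends)
    (φ : V → ℤ) (hφ : LabGraph.IsCartier ends l φ) :
    (∀ v : V, LabGraph.mdeg ends l φ v = 0) ↔ ∀ v w : V, φ v = φ w := by
  constructor
  · intro hm
    -- energy identity
    have hE : ∑ v : V, φ v * mdeg ends l φ v =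
        - ∑ e : E, (l e : ℤ) * ((φ (ends e).1 - φ (ends e).2) / (l e : ℤ)) ^ 2 := by
      unfold mdeg
      simp only [Finset.mul_sum]
      rw [Finset.sum_comm, ← Finset.sum_neg_distrib]
      refine Finset.sum_congr rfl fun e _ => ?_
      simp only [mul_add, mul_ite, mul_zero, Finset.sum_add_distrib, Finset.sum_ite_eq,
        Finset.mem_univ, if_true]
      obtain ⟨c, hc⟩ := hφ e
      have hl0 : (l e : ℤ) ≠ 0 := by exact_mod_cast (hl e).ne'
      have h1 : (φ (ends e).1 - φ (ends e).2) / (l e : ℤ) = c := by
        rw [hc]; exact Int.mul_ediv_cancel_left _ hl0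
      have h2 : (φ (ends e).2 - φ (ends e).1) / (l e : ℤ) = -c := by
        have : φ (ends e).2 - φ (ends e).1 = (l e : ℤ) * (-c) := by linarith
        rw [this]; exact Int.mul_ediv_cancel_left _ hl0
      rw [h1, h2]
      have : φ (ends e).1 = φ (ends e).2 + (l e : ℤ) * c := by linarith
      rw [this]; ring
    have h0 : ∑ e : E, (l e : ℤ) * ((φ (ends e).1 - φ (ends e).2) / (l e : ℤ)) ^ 2 = 0 := by
      have : ∑ v : V, φ v * mdeg ends l φ v = 0 :=
        Finset.sum_eq_zero fun v _ => by rw [hm v, mul_zero]
      rw [hE] at this; linarith
    have hterm : ∀ e : E, φ (ends e).1 = φ (ends e).2 := by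
      intro e
      have hnn : ∀ e ∈ (Finset.univ : Finset E),
          0 ≤ (l e : ℤ) * ((φ (ends e).1 - φ (ends e).2) / (l e : ℤ)) ^ 2 :=
        fun e _ => mul_nonneg (by positivity) (sq_nonneg _)
      have := (Finset.sum_eq_zero_iff_of_nonneg hnn).mp h0 e (Finset.mem_univ e)
      have hl0 : (l e : ℤ) ≠ 0 := by exact_mod_cast (hl e).ne'
      have hq : (φ (ends e).1 - φ (ends e).2) / (l e : ℤ) = 0 := by
        rcases mul_eq_zero.mp this with h | h
        · exact absurd h hl0
        · exact pow_eq_zero_iff (two_ne_zero) |>.mp h
      obtain ⟨c, hc⟩ := hφ e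
      rw [hc, Int.mul_ediv_cancel_left _ hl0] at hq
      rw [hq, mul_zero] at hc
      linarith
    have hadj : ∀ v w, Adj ends v w → φ v = φ w := by
      rintro v w ⟨e, he | he⟩
      · have := hterm e; rw [he] at this; exact this
      · have := hterm e; rw [he] at this; exact this.symm
    intro v w
    induction hconn.2 v w with
    | refl => rfl
    | tail _ h ih => exact ih.trans (hadj _ _ h)
  · intro hc v
    unfold mdeg
    refine Finset.sum_eq_zero fun e _ => ?_
    rw [hc (ends e).2 (ends e).1]
    simp

end Groth.Agent.S13757
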