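import Groth.Statements.S1377
import Mathlib

set_option autoImplicit false
universe u
open FlatMor

namespace Groth.Agent.S1377

open AlgebraicGeometry CategoryTheory Limits in
/-- Let S be a scheme, U ⊆ S an open subscheme whose inclusion U → S is quasi-compact (U retrocompact in
S), and V → U a surjective integral morphism. Then there are a scheme V' and a surjective integral
morphism V' → S whose base change to U is V → U. (The published statement puts no condition on U,
and in that generality it is false: e.g. S = Spec ∏_i ℤ/4^i with U = D(2) ∪ ⋃_i D(e_i), e_i the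
idempotents, and V equal to U except that over D(2) it is cut out by x = (2^i)_i. Stated here with U
→ S quasi-compact, under which hypothesis the published argument applies.) -/
theorem result {S V : Scheme.{u}} (U : S.Opens) [QuasiCompact U.ι]
    (v : V ⟶ (U : Scheme.{u})) [IsIntegralHom v] [Surjective v] :
    ∃ (V' : Scheme.{u}) (π : V' ⟶ S) (i : V ⟶ V'), Surjective π ∧ IsIntegralHom π ∧ IsPullback i v π U.ι := by
  let f : V ⟶ S := v ≫ U.ι
  haveI : QuasiCompact f := by dsimp only [f]; infer_instance
  haveI : QuasiSeparated f := by dsimp only [f]; infer_instance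
  let Zc : TopologicalSpace.Closeds S := ⟨(U : Set S)ᶜ, U.isOpen.isClosed_compl⟩
  let I := Scheme.IdealSheafData.vanishingIdeal Zc
  have hrangeZ : Set.range I.subschemeι = (U : Set S)ᶜ := by
    rw [Scheme.IdealSheafData.range_subschemeι,
      Scheme.IdealSheafData.coe_support_vanishingIdeal]
    rfl
  have hP : IsPullback (𝟙 V) v f U.ι := by
    refine ⟨⟨by simp [f]⟩, ⟨PullbackCone.IsLimit.mk _ (fun s => s.fst) (fun s => by simp)
      (fun s => ?_) (fun s m h1 _ => by simpa using h1)⟩⟩
    rw [← cancel_mono U.ι, Category.assoc]
    exact s.condition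
  haveI : IsIntegralHom (pullback.snd f U.ι) := by
    have h1 : pullback.snd f U.ι = hP.isoPullback.inv ≫ v := by
      rw [Iso.eq_inv_comp]; exact hP.isoPullback_hom_snd
    rw [h1]
    infer_instance
  let E : pullback f U.ι ⟶ pullback f.fromNormalization U.ι :=
    (pullback.snd f U.ι).toNormalization ≫ f.normalizationPullback U.ι
  haveI : IsIso E := by dsimp only [E]; infer_instance
  have hE1 : E ≫ pullback.fst f.fromNormalization U.ι =
      pullback.fst f U.ι ≫ f.toNormalization := by
    dsimp only [E]
    rw [Category.assoc]
    exact Scheme.Hom.toNormalization_normalizationPullback_fst f U.ι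
  have hE2 : E ≫ pullback.snd f.fromNormalization U.ι = pullback.snd f U.ι := by
    dsimp only [E]
    rw [Category.assoc, Scheme.Hom.normalizationPullback_snd,
      Scheme.Hom.toNormalization_fromNormalization]
  have hQ : IsPullback f.toNormalization v f.fromNormalization U.ι := by
    refine IsPullback.of_iso_pullback ⟨?_⟩ (hP.isoPullback ≪≫ asIso E) ?_ ?_
    · rw [Scheme.Hom.toNormalization_fromNormalization]
    · rw [Iso.trans_hom, asIso_hom, Category.assoc, hE1, ← Category.assoc,
        hP.isoPullback_hom_fst, Category.id_comp]
    · rw [Iso.trans_hom, asIso_hom, Category.assoc, hE2, hP.isoPullback_hom_snd]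
  refine ⟨f.normalization ⨿ I.subscheme, coprod.desc f.fromNormalization I.subschemeι,
    f.toNormalization ≫ coprod.inl, ?_, inferInstance, ?_⟩
  · constructor
    intro s
    by_cases hs : s ∈ U
    · obtain ⟨y, hy⟩ := v.surjective ⟨s, hs⟩
      refine ⟨(f.toNormalization ≫ coprod.inl) y, ?_⟩
      rw [← Scheme.Hom.comp_apply, Category.assoc, coprod.inl_desc,
        Scheme.Hom.toNormalization_fromNormalization]
      show U.ι (v y) = s
      rw [hy]
      rfl
    · have hs' : s ∈ Set.range I.subschemeι := by rw [hrangeZ]; exact hs
      obtain ⟨z, hz⟩ := hs'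
      refine ⟨(coprod.inr : I.subscheme ⟶ f.normalization ⨿ I.subscheme) z, ?_⟩
      rw [← Scheme.Hom.comp_apply, coprod.inr_desc]
      exact hz
  · have hrange : ∀ s : PullbackCone (coprod.desc f.fromNormalization I.subschemeι) U.ι,
        Set.range s.fst ⊆ Set.range (coprod.inl : f.normalization ⟶ f.normalization ⨿ I.subscheme) := by
      rintro s _ ⟨t, rfl⟩
      have hcov := (isCompl_range_inl_inr f.normalization I.subscheme).sup_eq_top
      have hmem : s.fst t ∈ Set.range (coprod.inl : f.normalization ⟶ f.normalization ⨿ I.subscheme) ∪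
          Set.range (coprod.inr : I.subscheme ⟶ f.normalization ⨿ I.subscheme) := by
        have : s.fst t ∈ (⊤ : Set ↥(f.normalization ⨿ I.subscheme)) := trivial
        rwa [← hcov] at this
      rcases hmem with h | ⟨z, hz⟩
      · exact h
      · exfalso
        have h1 : (coprod.desc f.fromNormalization I.subschemeι) (s.fst t) = U.ι (s.snd t) := by
          rw [← Scheme.Hom.comp_apply, ← Scheme.Hom.comp_apply, s.condition]
        rw [← hz, ← Scheme.Hom.comp_apply, coprod.inr_desc] at h1
        have h2 : I.subschemeι z ∈ (U : Set S)ᶜ := by rw [← hrangeZ]; exact ⟨z, rfl⟩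
        apply h2
        rw [h1]
        exact (s.snd t).2
    have hcomm : ∀ s : PullbackCone (coprod.desc f.fromNormalization I.subschemeι) U.ι,
        IsOpenImmersion.lift coprod.inl s.fst (hrange s) ≫ f.fromNormalization =
          s.snd ≫ U.ι := by
      intro s
      have h := IsOpenImmersion.lift_fac
        (coprod.inl : f.normalization ⟶ f.normalization ⨿ I.subscheme) s.fst (hrange s)
      calc IsOpenImmersion.lift coprod.inl s.fst (hrange s) ≫ f.fromNormalization
          = IsOpenImmersion.lift coprod.inl s.fst (hrange s) ≫ coprod.inl ≫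
              coprod.desc f.fromNormalization I.subschemeι := by rw [coprod.inl_desc]
        _ = s.fst ≫ coprod.desc f.fromNormalization I.subschemeι := by
            rw [← Category.assoc, h]
        _ = s.snd ≫ U.ι := s.condition
    refine ⟨⟨?_⟩, ⟨PullbackCone.IsLimit.mk _
      (fun s => hQ.lift (IsOpenImmersion.lift coprod.inl s.fst (hrange s)) s.snd (hcomm s))
      (fun s => ?_) (fun s => ?_) (fun s m h1 h2 => ?_)⟩⟩
    · rw [Category.assoc, coprod.inl_desc, Scheme.Hom.toNormalization_fromNormalization]
    · rw [← Category.assoc, hQ.lift_fst, IsOpenImmersion.lift_fac]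
    · exact hQ.lift_snd _ _ _
    · apply hQ.hom_ext
      · rw [hQ.lift_fst, ← cancel_mono (coprod.inl : f.normalization ⟶ f.normalization ⨿ I.subscheme),
          IsOpenImmersion.lift_fac, Category.assoc]
        exact h1
      · rw [hQ.lift_snd]
        exact h2

end Groth.Agent.S1377
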