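import Groth.Statements.S13771
import Mathlib

set_option autoImplicit false
universe u v w
open PLie

namespace Groth.Agent.S13771

section

variable {R : Type u} [CommRing R] {p : ℕ} [CharP R p]
variable {L₁ : Type v} [LieRing L₁] [LieAlgebra R L₁] {L₂ : Type w} [LieRing L₂] [LieAlgebra R L₂]

theorem map_bracketWord (f : L₁ →ₗ⁅R⁆ L₂) {ι : Type} (x : ι → L₁) (x₁ : L₁) (w : List ι) :
    f (PLie.bracketWord x x₁ w) = PLie.bracketWord (fun i => f (x i)) (f x₁) w := by
  induction w with
  | nil => rfl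
  | cons i w ih => rw [PLie.bracketWord_cons, PLie.bracketWord_cons, LieHom.map_lie, ih]

theorem map_jacobson (f : L₁ →ₗ⁅R⁆ L₂) (x₀ x₁ : L₁) :
    f (PLie.jacobson R p x₀ x₁) = PLie.jacobson R p (f x₀) (f x₁) := by
  unfold PLie.jacobson
  rw [map_sum]
  refine Finset.sum_congr rfl fun t _ => ?_
  rw [map_smul, map_bracketWord]
  congr 2
  funext b
  cases b <;> rfl

theorem bracketWord_zero {ι : Type} (x : ι → L₁) (w : List ι) :
    PLie.bracketWord x 0 w = 0 := by
  induction w with
  | nil => rfl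
  | cons i w ih => rw [PLie.bracketWord_cons, ih, lie_zero]

theorem jacobson_zero_right (x₀ : L₁) : PLie.jacobson R p x₀ (0 : L₁) = 0 := by
  unfold PLie.jacobson
  refine Finset.sum_eq_zero fun t _ => ?_
  rw [bracketWord_zero, smul_zero]

theorem ad_pow_map (g : L₁ →ₗ⁅R⁆ L₂) (x : L₁) (n : ℕ) (y : L₁) :
    (LieAlgebra.ad R L₂ (g x) ^ n) (g y) = g ((LieAlgebra.ad R L₁ x ^ n) y) := by
  induction n generalizing y with
  | zero => simp
  | succ n ih =>
    rw [pow_succ', pow_succ', Module.End.mul_apply, Module.End.mul_apply, ih,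
      LieAlgebra.ad_apply, LieAlgebra.ad_apply, LieHom.map_lie]

theorem PMap_ext {ψ ψ' : PLie.PMap R p L₂} (h : ∀ y, ψ y = ψ' y) : ψ = ψ' := by
  rcases ψ with ⟨f1, a1, b1, c1⟩
  rcases ψ' with ⟨f2, a2, b2, c2⟩
  have hf : f1 = f2 := funext h
  subst hf
  rfl

theorem existsUnique_of_surjective (φ : PLie.PMap R p L₁) (g : L₁ →ₗ⁅R⁆ L₂)
    (hg : Function.Surjective g) (hker : ∀ x : L₁, g x = 0 → g (φ x) = 0) :
    ∃! ψ : PLie.PMap R p L₂, PLie.IsPHom φ ψ g := by
  have hwd : ∀ x x' : L₁, g x = g x' → g (φ x) = g (φ x') := by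
    intro x x' h
    have hd : g (x' - x) = 0 := by rw [map_sub, h, sub_self]
    have e : φ x' = φ x + φ (x' - x) - PLie.jacobson R p x (x' - x) := by
      rw [← φ.map_add]; congr 1; abel
    rw [e, map_sub, map_add, hker _ hd, add_zero, map_jacobson, hd, jacobson_zero_right, sub_zero]
  have key : ∀ x : L₁, g (φ (Function.surjInv hg (g x))) = g (φ x) :=
    fun x => hwd _ _ (Function.surjInv_eq hg (g x))
  refine ⟨⟨fun y => g (φ (Function.surjInv hg y)), ?_, ?_, ?_⟩, ?_, ?_⟩
  · intro c y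
    obtain ⟨x, rfl⟩ := hg y
    show g (φ (Function.surjInv hg (c • g x))) = c ^ p • g (φ (Function.surjInv hg (g x)))
    rw [← map_smul, key, key, φ.map_smul, map_smul]
  · intro y
    obtain ⟨x, rfl⟩ := hg y
    ext z
    obtain ⟨w, rfl⟩ := hg z
    show ⁅g (φ (Function.surjInv hg (g x))), g w⁆ = (LieAlgebra.ad R L₂ (g x) ^ p) (g w)
    rw [key, ad_pow_map, ← LieHom.map_lie, ← LieAlgebra.ad_apply (R := R), φ.ad_map]
  · intro y₀ y₁
    obtain ⟨x₀, rfl⟩ := hg y₀
    obtain ⟨x₁, rfl⟩ := hg y₁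
    show g (φ (Function.surjInv hg (g x₀ + g x₁))) =
      g (φ (Function.surjInv hg (g x₀))) + g (φ (Function.surjInv hg (g x₁))) -
        PLie.jacobson R p (g x₀) (g x₁)
    rw [← map_add, key, key, key, φ.map_add, map_sub, map_add, map_jacobson]
  · intro x
    exact (key x).symm
  · intro ψ' hψ'
    apply PMap_ext
    intro y
    obtain ⟨x, rfl⟩ := hg y
    show ψ' (g x) = g (φ (Function.surjInv hg (g x)))
    rw [key]
    exact (hψ' x).symm

end



/-- Let R be a commutative ring of prime characteristic p, L₁ and L₂ Lie algebras over R, φ a p-mapping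
on L₁ and f : L₁ → L₂ a morphism of Lie algebras whose kernel is stable under φ (a p-ideal). Then
the image f(L₁), a Lie subalgebra of L₂, carries exactly one p-mapping ψ for which the corestriction
of f to its image is a morphism of p-Lie algebras, i.e. ψ (f x) = f (φ x) for all x. -/
theorem result (R : Type u) [CommRing R] (p : ℕ) [Fact p.Prime] [CharP R p]
    (L₁ : Type v) [LieRing L₁] [LieAlgebra R L₁] (L₂ : Type w) [LieRing L₂] [LieAlgebra R L₂]
    (φ : PLie.PMap R p L₁) (f : L₁ →ₗ⁅R⁆ L₂) (hker : ∀ x : L₁, f x = 0 → f (φ x) = 0) :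
    ∃! ψ : PLie.PMap R p f.range, PLie.IsPHom φ ψ f.rangeRestrict := by
  apply existsUnique_of_surjective φ f.rangeRestrict f.surjective_rangeRestrict
  intro x hx
  have h1 : f x = 0 := by
    have := congrArg Subtype.val hx
    simpa [LieHom.rangeRestrict_apply] using this
  apply Subtype.ext
  rw [LieHom.rangeRestrict_apply]
  exact hker x h1

end Groth.Agent.S13771
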