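import Groth.Statements.S13784
import Mathlib

set_option autoImplicit false
universe u
open CAlg

namespace Groth.Agent.S13784

/-- Let A be a commutative local ring and G a finite subgroup of Aˣ. If the order of G is invertible in
A, then G is cyclic. -/
theorem result {A : Type u} [CommRing A] [IsLocalRing A]
    (G : Subgroup Aˣ) [Finite G] (hG : IsUnit ((Nat.card G : ℕ) : A)) : IsCyclic G := by
  classical
  let f : G →* IsLocalRing.ResidueField A :=
    ((IsLocalRing.residue A : A →* IsLocalRing.ResidueField A)).comp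
      ((Units.coeHom A).comp G.subtype)
  apply isCyclic_of_injective_ringHom f
  rw [injective_iff_map_eq_one]
  intro u hu
  have hu' : IsLocalRing.residue A ((u : Aˣ) : A) = 1 := hu
  have hpow : ((u : Aˣ) : A) ^ (Nat.card G) = 1 := by
    have h1 : u ^ (Nat.card G) = 1 := pow_card_eq_one'
    have h2 : (((u ^ (Nat.card G) : G) : Aˣ) : A) = 1 := by rw [h1]; rfl
    rwa [Subgroup.coe_pow, Units.val_pow_eq_pow_val] at h2
  have hgeom := geom_sum_mul ((u : Aˣ) : A) (Nat.card G)
  rw [hpow, sub_self] at hgeom
  have hS : IsUnit (∑ i ∈ Finset.range (Nat.card G), ((u : Aˣ) : A) ^ i) := by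
    rw [← IsLocalRing.notMem_maximalIdeal, ← IsLocalRing.residue_eq_zero_iff, map_sum]
    simp only [map_pow, hu', one_pow, Finset.sum_const, Finset.card_range, nsmul_eq_mul, mul_one]
    have h3 := hG.map (IsLocalRing.residue A)
    rw [map_natCast] at h3
    exact h3.ne_zero
  have h4 : ((u : Aˣ) : A) - 1 = 0 := (hS.mul_right_eq_zero).mp hgeom
  exact Subtype.ext (Units.ext (sub_eq_zero.mp h4))

end Groth.Agent.S13784
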