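import Groth.Statements.S13785
import Mathlib
import Groth.Agent.Lib.McCoy_helper8

set_option autoImplicit false
universe u
open CAlg

namespace Groth.Agent.S13785

/-- For any commutative ring A, the determinant of the generic n × n matrix is a nonzerodivisor of the
polynomial ring over A in the n² matrix entries. -/
theorem result (A : Type u) [CommRing A] (n : ℕ) :
    (Matrix.mvPolynomialX (Fin n) (Fin n) A).det ∈ nonZeroDivisors (MvPolynomial (Fin n × Fin n) A) := by
  classical
  apply Groth.Agent.Lib.McCoyH8.mem_nonZeroDivisors_of_smul
  intro r hr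
  have h1 := congrArg (MvPolynomial.eval
    (fun p : Fin n × Fin n => (1 : Matrix (Fin n) (Fin n) A) p.1 p.2)) hr
  rw [MvPolynomial.smul_eval, RingHom.map_det, Matrix.mvPolynomialX_mapMatrix_eval,
    Matrix.det_one, mul_one, map_zero] at h1
  exact h1

end Groth.Agent.S13785
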