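import Groth.Statements.S13786
import Mathlib
import Groth.Agent.Lib.McCoy_helper8

set_option autoImplicit false
universe u
open CAlg

namespace Groth.Agent.S13786

/-- For a commutative ring A and n ≥ 1, with det the determinant of the generic n × n matrix in the
polynomial ring A[X] in n² indeterminates, the A-algebra A[X]/(det) is faithfully flat over A. (For
n = 0 the determinant is 1 and the quotient is the zero ring, so n ≥ 1 is required.) -/
theorem result (A : Type u) [CommRing A] (n : ℕ) (hn : 0 < n) :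
    Module.FaithfullyFlat A
      (MvPolynomial (Fin n × Fin n) A ⧸ Ideal.span {(Matrix.mvPolynomialX (Fin n) (Fin n) A).det}) := by
  classical
  haveI : Nonempty (Fin n) := ⟨⟨0, hn⟩⟩
  have hprim : Ideal.span (Set.range (Matrix.mvPolynomialX (Fin n) (Fin n) A).det.coeff) = ⊤ := by
    obtain ⟨J, hJ⟩ : ∃ J, J = Ideal.span
      (Set.range (Matrix.mvPolynomialX (Fin n) (Fin n) A).det.coeff) := ⟨_, rfl⟩
    rw [← hJ, Ideal.eq_top_iff_one]
    have hmem : ∀ d, MvPolynomial.coeff d (Matrix.mvPolynomialX (Fin n) (Fin n) A).det ∈ J :=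
      fun d => hJ ▸ Ideal.subset_span ⟨d, rfl⟩
    have h0 : MvPolynomial.aeval
        (fun p : Fin n × Fin n => (1 : Matrix (Fin n) (Fin n) (A ⧸ J)) p.1 p.2)
        (Matrix.mvPolynomialX (Fin n) (Fin n) A).det = 0 := by
      rw [MvPolynomial.aeval_def, MvPolynomial.eval₂_eq]
      apply Finset.sum_eq_zero
      intro d _
      have : algebraMap A (A ⧸ J)
          (MvPolynomial.coeff d (Matrix.mvPolynomialX (Fin n) (Fin n) A).det) = 0 :=
        Ideal.Quotient.eq_zero_iff_mem.mpr (hmem d)
      rw [this, zero_mul]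
    rw [AlgHom.map_det, Matrix.mvPolynomialX_mapMatrix_aeval, Matrix.det_one] at h0
    exact Ideal.Quotient.eq_zero_iff_mem.mp (by rw [map_one]; exact h0)
  have hflat := Groth.Agent.Lib.McCoyH8.primitive_flat _ hprim
  refine { toFlat := hflat, submodule_ne_top := ?_ }
  intro m hm htop
  let ψ : MvPolynomial (Fin n × Fin n) A →ₐ[A] A ⧸ m :=
    MvPolynomial.aeval (fun p : Fin n × Fin n => (0 : Matrix (Fin n) (Fin n) (A ⧸ m)) p.1 p.2)
  have hψdet : ψ (Matrix.mvPolynomialX (Fin n) (Fin n) A).det = 0 := by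
    rw [AlgHom.map_det, Matrix.mvPolynomialX_mapMatrix_aeval, Matrix.det_zero]
  let ψ' := Ideal.Quotient.liftₐ
    (Ideal.span {(Matrix.mvPolynomialX (Fin n) (Fin n) A).det}) ψ (by
      intro x hx
      obtain ⟨b, rfl⟩ := Ideal.mem_span_singleton'.mp hx
      rw [map_mul, hψdet, mul_zero])
  have hle : m • (⊤ : Submodule A (MvPolynomial (Fin n × Fin n) A ⧸
      Ideal.span {(Matrix.mvPolynomialX (Fin n) (Fin n) A).det})) ≤
      LinearMap.ker ψ'.toLinearMap := by
    rw [Submodule.smul_le]
    intro a ha c _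
    rw [LinearMap.mem_ker, map_smul, Algebra.smul_def, Ideal.Quotient.algebraMap_eq,
      Ideal.Quotient.eq_zero_iff_mem.mpr ha, zero_mul]
  rw [htop] at hle
  have h2 : ψ'.toLinearMap 1 = 0 := LinearMap.mem_ker.mp (hle Submodule.mem_top)
  have h3 : (1 : A ⧸ m) = 0 := by simpa using h2
  haveI := Ideal.Quotient.nontrivial_iff.mpr hm.ne_top
  exact one_ne_zero h3

end Groth.Agent.S13786
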