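import Groth.Statements.S13787
import Mathlib
import Groth.Agent.S13785

set_option autoImplicit false
universe u
open CAlg

namespace Groth.Agent.S13787

/-- Let A be a nonzero commutative ring and n ≥ 1, let det be the determinant of the generic n × n
matrix in the polynomial ring A[X] in its n² entries, and let A[X, 1/det] be the localization at det
(the coordinate ring of GL_n over A). The homomorphism Aˣ × ℤ → (A[X, 1/det])ˣ sending (a, e) to a ·
det^e is injective. (The published statement takes the exponent in the group of locally constant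
ℤ-valued functions on Spec A, which also covers A = 0; with integer exponents as here, A must be
nonzero and n ≥ 1.) -/
theorem result (A : Type u) [CommRing A] [Nontrivial A] (n : ℕ) (hn : 0 < n) :
    Function.Injective (fun p : Aˣ × ℤ =>
        Units.map (algebraMap A (Localization.Away (Matrix.mvPolynomialX (Fin n) (Fin n) A).det)).toMonoidHom p.1 *
          (IsLocalization.Away.algebraMap_isUnit (S := Localization.Away (Matrix.mvPolynomialX (Fin n) (Fin n) A).det)
            (Matrix.mvPolynomialX (Fin n) (Fin n) A).det).unit ^ p.2) := by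
  classical
  haveI : Nonempty (Fin n) := ⟨⟨0, hn⟩⟩
  have hnzd := Groth.Agent.S13785.result A n
  have hinj : Function.Injective (algebraMap (MvPolynomial (Fin n × Fin n) A)
      (Localization.Away (Matrix.mvPolynomialX (Fin n) (Fin n) A).det)) :=
    IsLocalization.injective _ (Submonoid.powers_le.mpr hnzd)
  have hev : MvPolynomial.eval (fun p : Fin n × Fin n => (0 : Matrix (Fin n) (Fin n) A) p.1 p.2)
      (Matrix.mvPolynomialX (Fin n) (Fin n) A).det = 0 := by
    rw [RingHom.map_det, Matrix.mvPolynomialX_mapMatrix_eval, Matrix.det_zero]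
  have key : ∀ (a a' : Aˣ) (m : ℕ),
      algebraMap A (Localization.Away (Matrix.mvPolynomialX (Fin n) (Fin n) A).det) (a : A) *
        (algebraMap (MvPolynomial (Fin n × Fin n) A)
          (Localization.Away (Matrix.mvPolynomialX (Fin n) (Fin n) A).det)
          (Matrix.mvPolynomialX (Fin n) (Fin n) A).det) ^ m
      = algebraMap A (Localization.Away (Matrix.mvPolynomialX (Fin n) (Fin n) A).det) (a' : A) →
      m = 0 ∧ a = a' := by
    intro a a' m h
    rw [IsScalarTower.algebraMap_apply A (MvPolynomial (Fin n × Fin n) A) _ (a : A),
      IsScalarTower.algebraMap_apply A (MvPolynomial (Fin n × Fin n) A) _ (a' : A),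
      ← map_pow, ← map_mul] at h
    have h1 := hinj h
    have h2 := congrArg (MvPolynomial.eval
      (fun p : Fin n × Fin n => (0 : Matrix (Fin n) (Fin n) A) p.1 p.2)) h1
    rw [map_mul, map_pow, hev, MvPolynomial.algebraMap_eq, MvPolynomial.eval_C,
      MvPolynomial.eval_C] at h2
    rcases Nat.eq_zero_or_pos m with hm | hm
    · subst hm
      refine ⟨rfl, Units.ext ?_⟩
      simpa using h2
    · exfalso
      rw [zero_pow hm.ne', mul_zero] at h2
      exact a'.ne_zero h2.symm
  rintro ⟨a, e⟩ ⟨a', e'⟩ h
  simp only at h
  have h' : Units.map (algebraMap A (Localization.Away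
        (Matrix.mvPolynomialX (Fin n) (Fin n) A).det)).toMonoidHom a *
      (IsLocalization.Away.algebraMap_isUnit
        (S := Localization.Away (Matrix.mvPolynomialX (Fin n) (Fin n) A).det)
        (Matrix.mvPolynomialX (Fin n) (Fin n) A).det).unit ^ (e - e')
      = Units.map (algebraMap A (Localization.Away
        (Matrix.mvPolynomialX (Fin n) (Fin n) A).det)).toMonoidHom a' := by
    rw [zpow_sub, ← mul_assoc, h, mul_assoc, mul_inv_cancel, mul_one]
  obtain ⟨m, hm | hm⟩ := Int.eq_nat_or_neg (e - e')
  · rw [hm, zpow_natCast] at h'
    have h2 := congrArg Units.val h'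
    rw [Units.val_mul, Units.val_pow_eq_pow_val] at h2
    obtain ⟨hm0, haa⟩ := key a a' m h2
    have hee : e = e' := by omega
    rw [haa, hee]
  · rw [hm, zpow_neg, zpow_natCast] at h'
    have h3 : Units.map (algebraMap A (Localization.Away
        (Matrix.mvPolynomialX (Fin n) (Fin n) A).det)).toMonoidHom a' *
      (IsLocalization.Away.algebraMap_isUnit
        (S := Localization.Away (Matrix.mvPolynomialX (Fin n) (Fin n) A).det)
        (Matrix.mvPolynomialX (Fin n) (Fin n) A).det).unit ^ m
      = Units.map (algebraMap A (Localization.Away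
        (Matrix.mvPolynomialX (Fin n) (Fin n) A).det)).toMonoidHom a := by
      rw [← h', mul_assoc, inv_mul_cancel, mul_one]
    have h2 := congrArg Units.val h3
    rw [Units.val_mul, Units.val_pow_eq_pow_val] at h2
    obtain ⟨hm0, haa⟩ := key a' a m h2
    have hee : e = e' := by omega
    rw [haa, hee]

end Groth.Agent.S13787
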