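import Groth.Statements.S13789
import Mathlib

set_option autoImplicit false
universe u
open CAlg

namespace Groth.Agent.S13789

/-- Let A be a commutative ring with total ring of fractions Q and let B be a ring with A ⊆ B ⊆ Q. Then
the inclusion A ⊆ B carries nonzerodivisors of A to nonzerodivisors of B, and every nonzerodivisor
of B has the form r/u with r and u nonzerodivisors of A. -/
theorem result {A Q : Type u} [CommRing A] [CommRing Q] [Algebra A Q] [IsFractionRing A Q] (B : Subalgebra A Q) :
    (∀ a : A, a ∈ nonZeroDivisors A → algebraMap A B a ∈ nonZeroDivisors B) ∧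
    (∀ b : B, b ∈ nonZeroDivisors B → ∃ r u : A, r ∈ nonZeroDivisors A ∧ u ∈ nonZeroDivisors A ∧
      (b : Q) * algebraMap A Q u = algebraMap A Q r) := by
  have hcoe : ∀ a : A, ((algebraMap A B a : B) : Q) = algebraMap A Q a := fun a => rfl
  refine ⟨fun a ha => ?_, fun b hb => ?_⟩
  · apply mem_nonZeroDivisors_of_injective (f := B.val) Subtype.val_injective
    exact (IsLocalization.map_units Q ⟨a, ha⟩).mem_nonZeroDivisors
  · obtain ⟨⟨r, u⟩, h⟩ := IsLocalization.surj (nonZeroDivisors A) (b : Q)
    refine ⟨r, u, ?_, u.2, h⟩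
    rw [mem_nonZeroDivisors_iff_right]
    intro x hx
    have h1 : b * algebraMap A B ((u : A) * x) = 0 := by
      apply Subtype.ext
      rw [MulMemClass.coe_mul, hcoe, map_mul, ← mul_assoc]
      change (b : Q) * algebraMap A Q (u : A) * algebraMap A Q x = 0
      rw [h, ← map_mul, mul_comm, hx, map_zero]
    have h2 : algebraMap A B ((u : A) * x) = 0 := (mem_nonZeroDivisors_iff_left.mp hb) _ h1
    have h3 : (u : A) * x = 0 := by
      have h4 : algebraMap A Q ((u : A) * x) = 0 := by
        rw [← hcoe, h2]; rfl
      exact (IsFractionRing.injective A Q) (by rw [h4, map_zero])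
    exact (mem_nonZeroDivisors_iff_left.mp u.2) x h3

end Groth.Agent.S13789
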