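import Groth.Statements.S13794
import Mathlib.Tactic.LinearCombination
import Mathlib.Tactic.Ring
import Mathlib.Tactic.NormNum
import Mathlib.Algebra.Polynomial.Coeff

set_option autoImplicit false
universe u
open Polynomial
open Curves

namespace Groth.Agent.S13794

/-- Let k be a field of characteristic not 3 and β ∈ k. If a line ax + by + c = 0 with a³ ≠ b³ is the
tangent line at a flex point of the affine cubic x³ + y³ + β = 3xy, then β is a cube in k. Here the
line is normalised to b ≠ 0 (the roles of x and y are symmetric) and the flex-tangency is expressed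
by the restriction of the cubic to the line being λ (x − x₀)³. -/
theorem result {k : Type u} [Field k] (h3 : (3 : k) ≠ 0)
    (β a b c : k) (hb : b ≠ 0) (hab : a ^ 3 ≠ b ^ 3) (lam x₀ : k)
    (hflex : (X : k[X]) ^ 3 + (C (-a / b) * X + C (-c / b)) ^ 3 + C β - 3 * X * (C (-a / b) * X + C (-c / b)) =
      C lam * (X - C x₀) ^ 3) :
    ∃ γ : k, β = γ ^ 3 := by
  set m : k := -a / b with hm
  set n : k := -c / b with hn
  have hP : C (1 + m ^ 3 - lam) * X ^ 3 + C (3 * m ^ 2 * n - 3 * m + 3 * lam * x₀) * X ^ 2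
      + C (3 * m * n ^ 2 - 3 * n - 3 * lam * x₀ ^ 2) * X + C (n ^ 3 + β + lam * x₀ ^ 3)
      = (0 : k[X]) := by
    have e : C (1 + m ^ 3 - lam) * X ^ 3 + C (3 * m ^ 2 * n - 3 * m + 3 * lam * x₀) * X ^ 2
        + C (3 * m * n ^ 2 - 3 * n - 3 * lam * x₀ ^ 2) * X + C (n ^ 3 + β + lam * x₀ ^ 3)
        = ((X : k[X]) ^ 3 + (C m * X + C n) ^ 3 + C β - 3 * X * (C m * X + C n))
          - C lam * (X - C x₀) ^ 3 := by
      simp only [C_add, C_sub, C_mul, C_pow, C_ofNat, C_1]
      ring
    rw [e, hflex, sub_self]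
  have c3 := congrArg (fun p => Polynomial.coeff p 3) hP
  have c2 := congrArg (fun p => Polynomial.coeff p 2) hP
  have c1 := congrArg (fun p => Polynomial.coeff p 1) hP
  have c0 := congrArg (fun p => Polynomial.coeff p 0) hP
  simp only [coeff_add, coeff_C_mul_X_pow, coeff_C_mul_X, coeff_C, coeff_zero] at c3 c2 c1 c0
  norm_num at c3 c2 c1 c0
  have hlam : lam ≠ 0 := by
    intro h0
    have hm3 : m ^ 3 = -1 := by rw [h0] at c3; linear_combination c3
    have hmb : m * b = -a := by rw [hm]; exact div_mul_cancel₀ _ hb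
    apply hab
    have : (m * b) ^ 3 = (-a) ^ 3 := by rw [hmb]
    rw [mul_pow, hm3] at this
    linear_combination this
  have E2 : m ^ 2 * n - m + lam * x₀ = 0 := by
    have h' : 3 * (m ^ 2 * n - m + lam * x₀) = 0 := by linear_combination c2
    exact (mul_eq_zero.mp h').resolve_left h3
  have E1 : m * n ^ 2 - n - lam * x₀ ^ 2 = 0 := by
    have h' : 3 * (m * n ^ 2 - n - lam * x₀ ^ 2) = 0 := by linear_combination c1
    exact (mul_eq_zero.mp h').resolve_left h3
  have hfac : (m * n - 1) * (m ^ 2 * (m * n - 1) - lam * n) = 0 := by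
    linear_combination (-2 * lam * x₀ + (m ^ 2 * n - m + lam * x₀)) * E2 - lam * E1
  rcases mul_eq_zero.mp hfac with h | h
  · have hx : lam * x₀ = 0 := by linear_combination E2 - m * h
    have hx0 : x₀ = 0 := (mul_eq_zero.mp hx).resolve_left hlam
    refine ⟨-n, ?_⟩
    rw [hx0] at c0
    linear_combination c0
  · have hn' : n = -m ^ 2 := by linear_combination -h + n * c3
    have hx : lam * (x₀ - m) = 0 := by
      rw [hn'] at E2
      linear_combination E2 + m * c3
    have hx0 : x₀ = m := sub_eq_zero.mp ((mul_eq_zero.mp hx).resolve_left hlam)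
    refine ⟨-m, ?_⟩
    rw [hx0, hn'] at c0
    linear_combination c0 + m ^ 3 * c3

end Groth.Agent.S13794
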