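import Groth.Statements.S13801
import Mathlib

set_option autoImplicit false
open ChowMon

namespace Groth.Agent.S13801

/-- For a prime p and positive natural numbers a_1, ..., a_k with sum n one has v_p(a_1!) + ... +
v_p(a_k!) ≤ v_p(n!), and the inequality is strict whenever some a_i is not divisible by p^(v_p(n)). -/
theorem result {k : ℕ} (p : ℕ) [Fact p.Prime]
    (a : Fin k → ℕ) (ha : ∀ i, 0 < a i) :
    (∑ i, padicValNat p (a i).factorial ≤ padicValNat p (∑ i, a i).factorial) ∧
      ((∃ i, ¬ p ^ padicValNat p (∑ j, a j) ∣ a i) →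
        ∑ i, padicValNat p (a i).factorial < padicValNat p (∑ i, a i).factorial) := by
  classical
  have hp : p.Prime := Fact.out
  set n := ∑ i, a i with hn
  set M := Nat.multinomial Finset.univ a with hM
  have hspec : (∏ i, (a i).factorial) * M = n.factorial := Nat.multinomial_spec Finset.univ a
  have hMpos : 0 < M := Nat.multinomial_pos _ _
  have hprodne : (∏ i, (a i).factorial) ≠ 0 :=
    Finset.prod_ne_zero_iff.2 (fun i _ => Nat.factorial_ne_zero _)
  have hprodval : padicValNat p (∏ i, (a i).factorial) = ∑ i, padicValNat p (a i).factorial := by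
    have h1 := Nat.factorization_prod (S := Finset.univ) (g := fun i => (a i).factorial)
      (fun i _ => Nat.factorial_ne_zero _)
    have h2 := congrArg (fun f => f p) h1
    simp only [Finsupp.coe_finsetSum, Finset.sum_apply, Nat.factorization_def _ hp] at h2
    exact h2
  have hval : padicValNat p n.factorial =
      ∑ i, padicValNat p (a i).factorial + padicValNat p M := by
    rw [← hspec, padicValNat.mul hprodne hMpos.ne', hprodval]
  refine ⟨by omega, ?_⟩
  rintro ⟨i, hi⟩
  suffices 1 ≤ padicValNat p M by omega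
  have hMfac : M = n.choose (a i) * Nat.multinomial (Finset.univ.erase i) a := by
    have h1 := Nat.multinomial_insert (Finset.notMem_erase i Finset.univ) a
    rw [Finset.insert_erase (Finset.mem_univ i), Finset.add_sum_erase _ _ (Finset.mem_univ i)] at h1
    exact h1
  have hai : a i ≠ 0 := (ha i).ne'
  have hle : a i ≤ n := Finset.single_le_sum (fun j _ => Nat.zero_le _) (Finset.mem_univ i)
  have hlt : padicValNat p (a i) < padicValNat p n := by
    by_contra hcon
    push Not at hcon
    exact hi ((padicValNat_dvd_iff_le hai).2 hcon)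
  obtain ⟨b, hb⟩ : ∃ b, a i = b + 1 := ⟨a i - 1, by omega⟩
  obtain ⟨N, hNn⟩ : ∃ N, n = N + 1 := ⟨n - 1, by omega⟩
  have hbN : b ≤ N := by omega
  have hid := Nat.add_one_mul_choose_eq N b
  have hc1 : N.choose b ≠ 0 := (Nat.choose_pos hbN).ne'
  have hc2 : (N + 1).choose (b + 1) ≠ 0 := (Nat.choose_pos (by omega)).ne'
  have hv := congrArg (padicValNat p) hid
  rw [padicValNat.mul (Nat.succ_ne_zero N) hc1, padicValNat.mul hc2 (Nat.succ_ne_zero b)] at hv
  have hchoose : 1 ≤ padicValNat p (n.choose (a i)) := by
    rw [hb, hNn] at hlt ⊢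
    simp only [Nat.succ_eq_add_one] at hv
    omega
  have hmne : Nat.multinomial (Finset.univ.erase i) a ≠ 0 := (Nat.multinomial_pos _ _).ne'
  have hcne : n.choose (a i) ≠ 0 := (Nat.choose_pos hle).ne'
  rw [hMfac, padicValNat.mul hcne hmne]
  omega

end Groth.Agent.S13801
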