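import Groth.Statements.S13831
import Mathlib
import Groth.Agent.Lib.UnivHomeo30_helper6
-- import your own Groth.Agent.* helpers here

set_option autoImplicit false
universe u
open AlgebraicGeometry
open ChowMon

namespace Groth.Agent.S13831

/-- For a finite universal homeomorphism p : T' → T of Noetherian schemes there is an integer d ≥ 1 such
that for every point t' of T' over t the residue field degree [k(t') : k(t)] is a power of the
exponential characteristic of k(t) dividing d. -/
theorem result {T' T : Scheme.{u}} (p : T' ⟶ T) [IsFinite p] (hp : FlatMor.IsUnivHomeo p)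
    [IsNoetherian T] [IsNoetherian T'] [T.IsSeparated] [T'.IsSeparated] :
    ∃ d : ℕ, 0 < d ∧ ∀ t' : T', ∃ e : ℕ,
      @Module.finrank (T.residueField (p t')) (T'.residueField t') _ _
          (p.residueFieldMap t').hom.toAlgebra.toModule =
        ringExpChar (T.residueField (p t')) ^ e ∧
      ringExpChar (T.residueField (p t')) ^ e ∣ d := by

  classical
  obtain ⟨-, h2, -⟩ := (Groth.Agent.Lib.UnivHomeo.isUnivHomeo_iff p).mp hp
  have hpi0 : Function.Injective p ∧ ∀ x, (p.residueFieldMap x).hom.IsPurelyInseparable :=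
    ((tfae_universallyInjective p).out 0 2).mp h2
  have hpi := hpi0.2
  -- a finite affine cover of `T`
  obtain ⟨t, ht⟩ := (isCompact_univ (X := T)).elim_finite_subcover
    (fun U : T.affineOpens => ((U : T.Opens) : Set T)) (fun U => (U : T.Opens).isOpen) (by
      intro x _
      obtain ⟨U, hxU⟩ := TopologicalSpace.Opens.mem_iSup.mp
        ((iSup_affineOpens_eq_top T).ge (Set.mem_univ x))
      exact Set.mem_iUnion.mpr ⟨U, hxU⟩)
  -- generators
  have hgen : ∀ U : T.affineOpens, ∃ (m : ℕ) (b : Fin m → Γ(T', p ⁻¹ᵁ (U : T.Opens))),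
      ∀ y, ∃ c : Fin m → Γ(T, (U : T.Opens)),
        y = ∑ i, (p.app (U : T.Opens)).hom (c i) * b i := by
    intro U
    have hfin : (p.app (U : T.Opens)).hom.Finite := IsFinite.finite_app p _ U.2
    letI := (p.app (U : T.Opens)).hom.toAlgebra
    haveI : Module.Finite Γ(T, (U : T.Opens)) Γ(T', p ⁻¹ᵁ (U : T.Opens)) := hfin
    obtain ⟨m, b, hb⟩ := Module.Finite.exists_fin (R := Γ(T, (U : T.Opens)))
      (M := Γ(T', p ⁻¹ᵁ (U : T.Opens)))
    refine ⟨m, b, fun y => ?_⟩
    have hy : y ∈ Submodule.span Γ(T, (U : T.Opens)) (Set.range b) := by rw [hb]; trivial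
    obtain ⟨c, hc⟩ := (Submodule.mem_span_range_iff_exists_fun _).mp hy
    refine ⟨c, ?_⟩
    rw [← hc]
    refine Finset.sum_congr rfl fun i _ => ?_
    rw [Algebra.smul_def]; rfl
  choose m b hb using hgen
  refine ⟨∏ U ∈ t, (m U).factorial, Finset.prod_pos fun U _ => Nat.factorial_pos _, ?_⟩
  intro t'
  obtain ⟨U, hUt, hxU⟩ : ∃ U ∈ t, p t' ∈ (U : T.Opens) := by
    have := ht (Set.mem_univ (p t'))
    simpa using this
  letI := (p.residueFieldMap t').hom.toAlgebra
  obtain ⟨hfd, hle⟩ := Groth.Agent.Lib.UnivHomeo.finrank_residueField_le p t' (U.2.preimage p) hxU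
    (RingHom.Finite.to_isIntegral (IsFinite.finite_app p _ U.2)) (m U) (b U) (hb U)
  haveI := hfd
  haveI : IsPurelyInseparable (T.residueField (p t')) (T'.residueField t') := hpi t'
  obtain ⟨e, he⟩ := IsPurelyInseparable.finrank_eq_pow (F := T.residueField (p t'))
    (T'.residueField t') (ringExpChar (T.residueField (p t')))
  refine ⟨e, he, ?_⟩
  rw [← he]
  have hpos : 0 < Module.finrank (T.residueField (p t')) (T'.residueField t') :=
    Module.finrank_pos
  exact (Nat.dvd_factorial hpos hle).trans (Finset.dvd_prod_of_mem _ hUt)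

end Groth.Agent.S13831
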