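import Groth.Statements.S13835
import Mathlib
import Groth.Agent.Lib.UnivHomeo1_helper6
-- import your own Groth.Agent.* helpers here

set_option autoImplicit false
universe u
open AlgebraicGeometry CategoryTheory
open ChowMon

namespace Groth.Agent.S13835

/-- Let p : T' → T be a universal homeomorphism of separated schemes with T reduced and f' : T' → Y a
morphism (Y separated); if T has an open cover by affine opens U_i such that each restriction of f'
to p⁻¹(U_i) factors through p⁻¹(U_i) → U_i, then f' factors through p. -/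
theorem result {T' T Y : Scheme.{u}} (p : T' ⟶ T) (hp : FlatMor.IsUnivHomeo p) [IsReduced T]
    [T.IsSeparated] [T'.IsSeparated] [Y.IsSeparated] (f' : T' ⟶ Y)
    {ι : Type u} (U : ι → T.affineOpens) (hU : ⨆ i, (U i : T.Opens) = ⊤)
    (hloc : ∀ i, ∃ fi : ((U i : T.Opens) : Scheme.{u}) ⟶ Y, (p ⁻¹ᵁ (U i : T.Opens)).ι ≫ f' = (p ∣_ (U i : T.Opens)) ≫ fi) :
    ∃ f : T ⟶ Y, p ≫ f = f' := by

  classical
  obtain ⟨hp1, hp2, hp3⟩ := (Groth.Agent.Lib.UnivHomeo.isUnivHomeo_iff p).mp hp
  haveI := hp3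
  choose fi hfi using hloc
  obtain ⟨𝒰, h𝒰⟩ : ∃ 𝒰 : T.OpenCover,
      𝒰 = T.openCoverOfIsOpenCover (fun i => (U i : T.Opens)) hU := ⟨_, rfl⟩
  subst h𝒰
  have hcompat : ∀ i j, Limits.pullback.fst ((T.openCoverOfIsOpenCover (fun i => (U i : T.Opens)) hU).f i)
      ((T.openCoverOfIsOpenCover (fun i => (U i : T.Opens)) hU).f j) ≫ fi i =
      Limits.pullback.snd ((T.openCoverOfIsOpenCover (fun i => (U i : T.Opens)) hU).f i)
        ((T.openCoverOfIsOpenCover (fun i => (U i : T.Opens)) hU).f j) ≫ fi j := by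
    intro i j
    show Limits.pullback.fst (U i : T.Opens).ι (U j : T.Opens).ι ≫ fi i =
      Limits.pullback.snd (U i : T.Opens).ι (U j : T.Opens).ι ≫ fi j
    haveI : IsReduced (Limits.pullback (U i : T.Opens).ι (U j : T.Opens).ι) :=
      isReduced_of_isOpenImmersion (Limits.pullback.fst (U i : T.Opens).ι (U j : T.Opens).ι)
    obtain ⟨w, hw⟩ : ∃ w : Limits.pullback (U i : T.Opens).ι (U j : T.Opens).ι ⟶ T,
        w = Limits.pullback.fst (U i : T.Opens).ι (U j : T.Opens).ι ≫ (U i : T.Opens).ι := ⟨_, rfl⟩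
    haveI : Surjective (Limits.pullback.snd p w) := MorphismProperty.pullback_snd (P := @Surjective) p w hp3
    haveI : IsDominant (Limits.pullback.snd p w) := inferInstance
    refine ext_of_isDominant (Limits.pullback.snd p w) ?_
    have key : ∀ (k : ι) (a : Limits.pullback (U i : T.Opens).ι (U j : T.Opens).ι ⟶ (U k : T.Opens))
        (ha : a ≫ (U k : T.Opens).ι = w),
        Limits.pullback.snd p w ≫ a ≫ fi k = Limits.pullback.fst p w ≫ f' := by
      intro k a ha
      have hpb := isPullback_morphismRestrict p (U k : T.Opens)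
      have hc : (Limits.pullback.snd p w ≫ a) ≫ (U k : T.Opens).ι = Limits.pullback.fst p w ≫ p := by
        rw [Category.assoc, ha]; exact Limits.pullback.condition.symm
      have hq1 := hpb.lift_fst _ _ hc
      have hq2 := hpb.lift_snd _ _ hc
      rw [← Category.assoc, ← hq1, Category.assoc, ← hfi k, ← Category.assoc, hq2]
    rw [key i (Limits.pullback.fst _ _) hw.symm, key j (Limits.pullback.snd _ _) (Limits.pullback.condition.symm.trans hw.symm)]
  refine ⟨(T.openCoverOfIsOpenCover (fun i => (U i : T.Opens)) hU).glueMorphisms fi hcompat, ?_⟩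
  apply Scheme.hom_ext_of_forall
  intro x
  obtain ⟨i, hi⟩ : ∃ i, p x ∈ (U i : T.Opens) := by
    have hx : p x ∈ ⨆ i, (U i : T.Opens) := hU.symm ▸ (show p x ∈ (⊤ : T.Opens) from trivial)
    exact TopologicalSpace.Opens.mem_iSup.mp hx
  refine ⟨p ⁻¹ᵁ (U i : T.Opens), hi, ?_⟩
  have h1 : (U i : T.Opens).ι ≫
      (T.openCoverOfIsOpenCover (fun i => (U i : T.Opens)) hU).glueMorphisms fi hcompat = fi i :=
    (T.openCoverOfIsOpenCover (fun i => (U i : T.Opens)) hU).ι_glueMorphisms fi hcompat i
  rw [← Category.assoc, ← morphismRestrict_ι, Category.assoc, h1, hfi i]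

end Groth.Agent.S13835
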