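import Groth.Statements.S13840
import Mathlib
import Groth.Agent.Lib.IndexPrimes_helper6
import Groth.Agent.Lib.CancelBC_helper6
-- import your own Groth.Agent.* helpers here

set_option autoImplicit false
universe u v
open scoped TensorProduct
open Brauer

namespace Groth.Agent.S13840

/-- Let κ be a field, L a finite field extension of κ of degree d, A a finite-dimensional central simple
κ-algebra and n a positive integer coprime to d such that the n-fold tensor power of A over κ is
split over κ (the period of A divides n). Then the index of A divides n if and only if the index of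
the L-algebra L ⊗_κ A divides n. (The published statement is for a finite locally free morphism of
schemes Y → X of degree d, a class in H²(X, G_m), a point p of X and the fibre of Y over p, and its
proof uses that the period of the class divides n without stating it; without that hypothesis the
backward implication fails. This row is the case of a point with Y the spectrum of a field, with the
period hypothesis made explicit.) -/
theorem result (κ : Type u) [Field κ] (L : Type u) [Field L] [Algebra κ L]
    [FiniteDimensional κ L] (A : Type v) [Ring A] [Algebra κ A] [Algebra.IsCentral κ A] [IsSimpleRing A]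
    [FiniteDimensional κ A] (n : ℕ) (hn : 0 < n) (hcop : Nat.Coprime n (Module.finrank κ L))
    (hper : Curves.Splits κ (CSAGal.tpow κ A n) κ) :
    (∃ d : ℕ, CSAGal.IsIndex κ A d ∧ d ∣ n) ↔ (∃ d' : ℕ, CSAGal.IsIndex L (L ⊗[κ] A) d' ∧ d' ∣ n) := by

  classical
  constructor
  · rintro ⟨d, ⟨hd0, m, D, instD, algD, hm, hfinD, ⟨iso⟩⟩, hdn⟩
    haveI : FiniteDimensional κ D := Module.finite_of_finrank_pos (by rw [hfinD]; positivity)
    haveI : Algebra.IsCentral κ (Matrix (Fin m) (Fin m) D) :=
      Algebra.IsCentral.of_algEquiv κ _ _ iso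
    haveI : Algebra.IsCentral κ D := Groth.Agent.S0195.isCentral_of_matrix κ D m hm.ne'
    haveI : Algebra.IsCentral L (L ⊗[κ] D) := Groth.Agent.Lib.CSABaseChange.isCentral_baseChange
    haveI : IsSimpleRing (L ⊗[κ] D) := Groth.Agent.Lib.CSABaseChange.isSimpleRing_baseChange
    obtain ⟨r, D'', instD'', algD'', hcD'', hfdD'', d'', hr, hd''0, hfinD'', ⟨iso''⟩⟩ :=
      Groth.Agent.Lib.IndexPrimes.exists_index L (L ⊗[κ] D)
    refine ⟨d'', ⟨hd''0, m * r, D'', instD'', algD'', Nat.mul_pos hm (Nat.pos_of_ne_zero hr),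
      hfinD'', ⟨?_⟩⟩, ?_⟩
    · exact (Algebra.TensorProduct.congr (AlgEquiv.refl : L ≃ₐ[L] L) iso).trans
        ((Groth.Agent.S0195.baseChangeMatrix κ L D m).trans
          ((AlgEquiv.mapMatrix iso'').trans ((Matrix.compAlgEquiv (Fin m) (Fin r) D'' L).trans
            (Matrix.reindexAlgEquiv L D'' finProdFinEquiv))))
    · have h1 : Module.finrank L (L ⊗[κ] D) = r * r * d'' ^ 2 := by
        rw [iso''.toLinearEquiv.finrank_eq, Module.finrank_matrix, Fintype.card_fin, hfinD'']
      rw [Module.finrank_baseChange, hfinD] at h1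
      have h2 : d ^ 2 = (r * d'') ^ 2 := by rw [h1]; ring
      have h3 : d = r * d'' := Nat.pow_left_injective two_ne_zero h2
      exact dvd_trans ⟨r, by rw [h3, mul_comm]⟩ hdn
  · rintro ⟨d', ⟨hd'0, m', D', instD', algD', hm', hfinD', ⟨iso'⟩⟩, hd'n⟩
    obtain ⟨m, D, instD, algD, hcD, hfdD, d, hm, hd0, hfinD, ⟨iso⟩⟩ :=
      Groth.Agent.Lib.IndexPrimes.exists_index κ A
    refine ⟨d, ⟨hd0, m, D, instD, algD, Nat.pos_of_ne_zero hm, hfinD, ⟨iso⟩⟩, ?_⟩
    haveI : FiniteDimensional L D' := Module.finite_of_finrank_pos (by rw [hfinD']; positivity)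
    haveI : Algebra.IsCentral L (L ⊗[κ] A) := Groth.Agent.Lib.CSABaseChange.isCentral_baseChange
    haveI : Algebra.IsCentral L (Matrix (Fin m') (Fin m') D') :=
      Algebra.IsCentral.of_algEquiv L _ _ iso'
    haveI : Algebra.IsCentral L D' := Groth.Agent.S0195.isCentral_of_matrix L D' m' hm'.ne'
    obtain ⟨F, iF, iA, hfdF, hdimF, hsplF⟩ :=
      Groth.Agent.Lib.CSASplit.exists_maximal_subfield L D'
    have hFd' : Module.finrank L F = d' := by
      rw [hfinD'] at hdimF
      exact (Nat.pow_left_injective two_ne_zero hdimF).symm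
    letI : Algebra κ F := ((algebraMap L F).comp (algebraMap κ L)).toAlgebra
    haveI : IsScalarTower κ L F := IsScalarTower.of_algebraMap_eq (fun _ => rfl)
    haveI : FiniteDimensional κ F := Module.Finite.trans L F
    have s1 : Groth.Agent.Lib.CSASplit.SplitsBy L (L ⊗[κ] A) F :=
      (hsplF.matrix m' hm'.ne').congr iso'.symm
    have s2 : Groth.Agent.Lib.CSASplit.SplitsBy κ A F := by
      obtain ⟨c, hc, ⟨ψ⟩⟩ := s1
      exact ⟨c, hc, ⟨(Groth.Agent.Lib.CancelBC.cancelBC κ L F F A).symm.trans ψ⟩⟩
    have s3 : Groth.Agent.Lib.CSASplit.SplitsBy κ D F := s2.of_matrix m hm iso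
    have h1 : d ∣ Module.finrank κ F := Groth.Agent.Lib.CSASplit.dvd_of_splitsBy κ D d hfinD F s3
    have h2 : Module.finrank κ F = Module.finrank κ L * d' := by
      rw [← hFd', Module.finrank_mul_finrank]
    have hcopd : Nat.Coprime d (Module.finrank κ L) := by
      apply Nat.coprime_of_dvd
      intro p hp hpd hpL
      have hpn : p ∣ n := Groth.Agent.Lib.IndexPrimes.prime_dvd_of_dvd_index κ A D m iso d hfinD n
        (Groth.Agent.Lib.BrEq.spl_iff_splitsBy.2 hper) p hp hpd
      have h3 := Nat.dvd_gcd hpn hpL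
      rw [hcop.gcd_eq_one] at h3
      exact hp.one_lt.ne' (Nat.dvd_one.1 h3)
    rw [h2] at h1
    exact dvd_trans (hcopd.dvd_of_dvd_mul_left h1) hd'n

end Groth.Agent.S13840
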