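import Groth.Statements.S13841
import Mathlib
import Groth.Agent.S13840
import Groth.Agent.Lib.IndexPrimes_helper6
-- import your own Groth.Agent.* helpers here

set_option autoImplicit false
universe u v
open scoped TensorProduct
open Brauer

namespace Groth.Agent.S13841

/-- Let k be a field and A a finite-dimensional central simple k-algebra of period n. Then A has index n
if and only if there is a finite field extension k' of k of degree coprime to n such that the index
of the k'-algebra k' ⊗_k A divides n. (The published statement is for a class of period n in H²(X,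
G_m) on a scheme X over k; this row is the case where X is the spectrum of k.) -/
theorem result (k : Type u) [Field k] (A : Type v) [Ring A] [Algebra k A]
    [Algebra.IsCentral k A] [IsSimpleRing A] [FiniteDimensional k A] (n : ℕ) (hper : CSAGal.IsPeriod k A n) :
    CSAGal.IsIndex k A n ↔
      ∃ (k' : Type u) (_ : Field k') (_ : Algebra k k') (_ : FiniteDimensional k k'),
        Nat.Coprime n (Module.finrank k k') ∧ ∃ d' : ℕ, CSAGal.IsIndex k' (k' ⊗[k] A) d' ∧ d' ∣ n := by

  classical
  obtain ⟨hn0, hsplit, hmin⟩ := hper
  constructor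
  · intro hIdx
    refine ⟨k, inferInstance, inferInstance, inferInstance, ?_, ?_⟩
    · rw [Module.finrank_self]; exact Nat.coprime_one_right n
    · exact (Groth.Agent.S13840.result k k A n hn0
        (by rw [Module.finrank_self]; exact Nat.coprime_one_right n) hsplit).1
        ⟨n, hIdx, dvd_refl n⟩
  · rintro ⟨k', iF, iA, iFD, hcop, hex⟩
    obtain ⟨d, hd, hdn⟩ := (Groth.Agent.S13840.result k k' A n hn0 hcop hsplit).2 hex
    have hd' := hd
    obtain ⟨hd0, m, D, instD, algD, hm, hfinD, ⟨iso⟩⟩ := hd'
    haveI : FiniteDimensional k D := Module.finite_of_finrank_pos (by rw [hfinD]; positivity)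
    haveI : Algebra.IsCentral k (Matrix (Fin m) (Fin m) D) :=
      Algebra.IsCentral.of_algEquiv k _ _ iso
    haveI : Algebra.IsCentral k D := Groth.Agent.S0195.isCentral_of_matrix k D m hm.ne'
    have hspl_n : Groth.Agent.Lib.TPow.Spl k (Groth.Agent.Lib.TPow.TP k A n) :=
      Groth.Agent.Lib.BrEq.spl_iff_splitsBy.2 hsplit
    have hmin' : ∀ e', 0 < e' → e' < n →
        ¬ Groth.Agent.Lib.TPow.Spl k (Groth.Agent.Lib.TPow.TP k A e') := by
      intro e' h1 h2 h3
      exact hmin e' h1 h2 (Groth.Agent.Lib.BrEq.spl_iff_splitsBy.1 h3)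
    have hiff := Groth.Agent.Lib.TPow.spl_tpow_iff k A n hn0 hspl_n hmin'
    have hnd : n ∣ d :=
      (hiff d).1 (Groth.Agent.Lib.IndexPrimes.spl_tpow_index k A D m iso d hfinD)
    have hdn' : d = n := Nat.dvd_antisymm hdn hnd
    rw [← hdn']
    exact hd

end Groth.Agent.S13841
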