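import Groth.Statements.S13860
import Mathlib

set_option autoImplicit false
universe u v w
open ModRep

namespace Groth.Agent.S13860

/-- For k a field of characteristic p > 0, G a finite group and P a Sylow p-subgroup of G, a short exact
sequence of k[G]-modules has a k[G]-linear splitting exactly when it has a k[P]-linear one. Stated
here for the surjection of the sequence: a G-equivariant k-linear map g : B → C between k-linear
representations of G admits a G-equivariant k-linear section if and only if it admits a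
P-equivariant k-linear section. -/
theorem result {k : Type u} [Field k] (p : ℕ) [Fact p.Prime]
    [CharP k p] {G : Type v} [Group G] [Finite G] (P : Sylow p G)
    {B C : Type w} [AddCommGroup B] [Module k B] [AddCommGroup C] [Module k C]
    (ρB : Representation k G B) (ρC : Representation k G C)
    (g : B →ₗ[k] C) (hg : ∀ x : G, g ∘ₗ ρB x = ρC x ∘ₗ g) :
    (∃ s : C →ₗ[k] B, g ∘ₗ s = LinearMap.id ∧ ∀ x : G, s ∘ₗ ρC x = ρB x ∘ₗ s) ↔
      (∃ s : C →ₗ[k] B, g ∘ₗ s = LinearMap.id ∧ ∀ x : G, x ∈ P → s ∘ₗ ρC x = ρB x ∘ₗ s) := by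
  classical
  constructor
  · rintro ⟨s, hs, heq⟩
    exact ⟨s, hs, fun x _ => heq x⟩
  · rintro ⟨s, hs, heq⟩
    haveI : Fintype (G ⧸ (P : Subgroup G)) := Fintype.ofFinite _
    have hn : (((P : Subgroup G).index : ℕ) : k) ≠ 0 := by
      intro h0
      rw [CharP.cast_eq_zero_iff k p] at h0
      exact P.not_dvd_index h0
    have hB1 : ∀ (x : G) (b : B), ρB x (ρB x⁻¹ b) = b := by
      intro x b
      have h1 : ρB x * ρB x⁻¹ = 1 := by rw [← map_mul, mul_inv_cancel, map_one]
      exact LinearMap.congr_fun h1 b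
    have hC1 : ∀ (x : G) (c : C), ρC x (ρC x⁻¹ c) = c := by
      intro x c
      have h1 : ρC x * ρC x⁻¹ = 1 := by rw [← map_mul, mul_inv_cancel, map_one]
      exact LinearMap.congr_fun h1 c
    have hC2 : ∀ (x : G) (c : C), ρC x⁻¹ (ρC x c) = c := by
      intro x c
      have h1 : ρC x⁻¹ * ρC x = 1 := by rw [← map_mul, inv_mul_cancel, map_one]
      exact LinearMap.congr_fun h1 c
    have hBm : ∀ (x y : G) (b : B), ρB (x * y) b = ρB x (ρB y b) := by
      intro x y b
      rw [map_mul]; rfl
    have hCm : ∀ (x y : G) (c : C), ρC (x * y) c = ρC x (ρC y c) := by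
      intro x y c
      rw [map_mul]; rfl
    have hg' : ∀ (x : G) (b : B), g (ρB x b) = ρC x (g b) := fun x b =>
      LinearMap.congr_fun (hg x) b
    have hs' : ∀ c : C, g (s c) = c := fun c => LinearMap.congr_fun hs c
    have heq' : ∀ y : G, y ∈ P → ∀ c : C, s (ρC y c) = ρB y (s c) := fun y hy c =>
      LinearMap.congr_fun (heq y hy) c
    let F : G → (C →ₗ[k] B) := fun x => (ρB x) ∘ₗ s ∘ₗ (ρC x⁻¹)
    have hFapp : ∀ (x : G) (c : C), F x c = ρB x (s (ρC x⁻¹ c)) := fun x c => rfl
    have hF : ∀ x y : G, y ∈ P → F (x * y) = F x := by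
      intro x y hy
      apply LinearMap.ext
      intro c
      rw [hFapp, hFapp, mul_inv_rev, hBm, hCm, ← heq' y hy, hC1]
    let Fbar : G ⧸ (P : Subgroup G) → (C →ₗ[k] B) := fun q =>
      Quotient.liftOn' q F (fun a b hab => by
        have h1 : a⁻¹ * b ∈ (P : Subgroup G) := QuotientGroup.leftRel_apply.mp hab
        have h2 : F b = F (a * (a⁻¹ * b)) := by rw [mul_inv_cancel_left]
        rw [h2]; exact (hF a _ h1).symm)
    have hFbar : ∀ x : G, Fbar (QuotientGroup.mk x) = F x := fun x => rfl
    let s' : C →ₗ[k] B := ((((P : Subgroup G).index : ℕ) : k))⁻¹ • ∑ q, Fbar q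
    have hs'app : ∀ c : C, s' c = ((((P : Subgroup G).index : ℕ) : k))⁻¹ • ∑ q, Fbar q c := by
      intro c
      show (((((P : Subgroup G).index : ℕ) : k))⁻¹ • ∑ q, Fbar q) c = _
      rw [LinearMap.smul_apply, LinearMap.sum_apply]
    refine ⟨s', ?_, ?_⟩
    · apply LinearMap.ext
      intro c
      rw [LinearMap.comp_apply, hs'app, map_smul, map_sum, LinearMap.id_apply]
      have h1 : ∀ q : G ⧸ (P : Subgroup G), g (Fbar q c) = c := by
        intro q
        induction q using Quotient.inductionOn' with
        | h x =>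
          show g (F x c) = c
          rw [hFapp, hg', hs', hC1]
      rw [Finset.sum_congr rfl (fun q _ => h1 q), Finset.sum_const, Finset.card_univ,
        ← Nat.card_eq_fintype_card]
      have h2 : Nat.card (G ⧸ (P : Subgroup G)) = (P : Subgroup G).index := rfl
      rw [h2, ← Nat.cast_smul_eq_nsmul k, smul_smul, inv_mul_cancel₀ hn, one_smul]
    · intro y
      apply LinearMap.ext
      intro c
      rw [LinearMap.comp_apply, LinearMap.comp_apply, hs'app, hs'app, map_smul, map_sum]
      congr 1
      have h1 : ∀ q : G ⧸ (P : Subgroup G), ρB y (Fbar q c) = Fbar (y • q) (ρC y c) := by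
        intro q
        induction q using Quotient.inductionOn' with
        | h x =>
          show ρB y (F x c) = Fbar (y • (QuotientGroup.mk x : G ⧸ (P : Subgroup G))) (ρC y c)
          rw [MulAction.Quotient.smul_mk, smul_eq_mul, hFbar, hFapp, hFapp, mul_inv_rev, hBm, hCm, hC2]
      rw [Finset.sum_congr rfl (fun q _ => h1 q)]
      exact (Fintype.sum_equiv (MulAction.toPerm y) (fun q => Fbar (y • q) (ρC y c))
        (fun q => Fbar q (ρC y c)) (fun q => rfl)).symm

end Groth.Agent.S13860
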