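import Groth.Statements.S13877
import Mathlib
import Groth.Agent.Lib.Crimp_helper9

set_option autoImplicit false
universe u v
open Crimp

namespace Groth.Agent.S13877

/-- Over R = k⟦t⟧ with k an algebraically closed field of characteristic zero, let S' be a commutative
R-algebra with an R-basis of size d whose discriminant generates the ideal (t ^ a) (a finite cover
of the formal disk of degree d, unramified over the punctured disk, with branch divisor (t ^ a)),
and let S be an R-subalgebra of S' with an R-basis of size d whose discriminant generates (t ^ b) (a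
crimp with branch divisor (t ^ b)). Then t ^ b annihilates S' / S and twice the R-length of S' / S
plus a equals b. (The published statement is for a family of such subalgebras over a k-scheme T and
also asserts T-flatness of the quotient; this row is its restriction to T a point.) -/
theorem result {k : Type u} [Field k] [IsAlgClosed k] [CharZero k]
    {St : Type v} [CommRing St] [Algebra (PowerSeries k) St] (d a b : ℕ)
    (bt : Module.Basis (Fin d) (PowerSeries k) St)
    (ha : Ideal.span {Algebra.discr (PowerSeries k) ⇑bt} = Ideal.span {(PowerSeries.X : PowerSeries k) ^ a})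
    (S : Subalgebra (PowerSeries k) St) (bS : Module.Basis (Fin d) (PowerSeries k) S)
    (hb : Ideal.span {Algebra.discr (PowerSeries k) ⇑bS} = Ideal.span {(PowerSeries.X : PowerSeries k) ^ b}) :
    (∀ q : St ⧸ Subalgebra.toSubmodule S, ((PowerSeries.X : PowerSeries k) ^ b) • q = 0) ∧
    2 * Module.length (PowerSeries k) (St ⧸ Subalgebra.toSubmodule S) + (a : ℕ∞) = (b : ℕ∞) := by
  classical
  have hX : Irreducible (PowerSeries.X : PowerSeries k) := PowerSeries.X_prime.irreducible
  set N := Subalgebra.toSubmodule S with hN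
  let bN : Module.Basis (Fin d) (PowerSeries k) N := bS.map (Subalgebra.toSubmoduleEquiv S).symm
  have hbN : ∀ j, ((bN j : N) : St) = ((bS j : S) : St) := fun j => rfl
  set δ := bt.det (fun j => ((bS j : S) : St)) with hδ
  have hdis := Lib.Crimp.discr_subalgebra bt S bS
  rw [← hδ] at hdis
  have hat : Associated (Algebra.discr (PowerSeries k) ⇑bt) ((PowerSeries.X : PowerSeries k) ^ a) :=
    Ideal.span_singleton_eq_span_singleton.mp ha
  have hbt : Associated (Algebra.discr (PowerSeries k) ⇑bS) ((PowerSeries.X : PowerSeries k) ^ b) :=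
    Ideal.span_singleton_eq_span_singleton.mp hb
  have hDt : Algebra.discr (PowerSeries k) ⇑bt ≠ 0 := by
    intro h0
    rw [h0] at hat
    exact (pow_ne_zero a hX.ne_zero) (hat.symm.eq_zero_iff.mpr rfl)
  have hDS : Algebra.discr (PowerSeries k) ⇑bS ≠ 0 := by
    intro h0
    rw [h0] at hbt
    exact (pow_ne_zero b hX.ne_zero) (hbt.symm.eq_zero_iff.mpr rfl)
  have hδ0 : δ ≠ 0 := by
    intro h0
    rw [h0] at hdis
    exact hDS (by rw [hdis]; ring)
  have hlen : Module.length (PowerSeries k) (St ⧸ N) = Lib.Crimp.ordL δ := by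
    rw [Lib.Crimp.length_quotient_eq_ordL_det bt N bN]
    rfl
  have hkill : ∀ q : St ⧸ N, δ • q = 0 := fun q => by
    have := Lib.Crimp.det_smul_quotient bt N bN q
    exact this
  constructor
  · intro q
    obtain ⟨u, hu⟩ := hbt
    rw [← hu, hdis]
    rw [show δ ^ 2 * Algebra.discr (PowerSeries k) ⇑bt * ↑u =
      (δ * Algebra.discr (PowerSeries k) ⇑bt * ↑u) * δ by ring, mul_smul, hkill, smul_zero]
  · rw [hlen]
    have h1 : Lib.Crimp.ordL (Algebra.discr (PowerSeries k) ⇑bS) = b := by
      rw [Lib.Crimp.ordL_congr hbt, Lib.Crimp.ordL_pow hX]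
    have h2 : Lib.Crimp.ordL (Algebra.discr (PowerSeries k) ⇑bt) = a := by
      rw [Lib.Crimp.ordL_congr hat, Lib.Crimp.ordL_pow hX]
    rw [← h1, ← h2, hdis, Lib.Crimp.ordL_mul (pow_ne_zero 2 hδ0) hDt, pow_two,
      Lib.Crimp.ordL_mul hδ0 hδ0, two_mul]

end Groth.Agent.S13877
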