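import Groth.Statements.S13879
import Mathlib

set_option autoImplicit false
universe u
open Crimp

namespace Groth.Agent.S13879

/-- Over R = k⟦t⟧ with k an algebraically closed field of characteristic zero, let S' = R × R × R and
let S be the R-submodule R·1 + R·(t ^ m f) + t ^ n S' of S' for some f in S' and natural numbers m,
n. Then S is closed under multiplication (equivalently, is an R-subalgebra of S') if and only if t ^
(2m) f ^ 2 lies in S. (The published statement has m ≤ n and S' / S isomorphic to R / (t ^ m) ⊕ R /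
(t ^ n), under which S has this shape; this row states the criterion for every submodule of this
shape.) -/
theorem result {k : Type u} [Field k] [IsAlgClosed k] [CharZero k] (m n : ℕ) (f : (Fin 3 → PowerSeries k))
    (S : Submodule (PowerSeries k) (Fin 3 → PowerSeries k))
    (hS : S = Submodule.span (PowerSeries k) {(1 : (Fin 3 → PowerSeries k)), ((PowerSeries.X : PowerSeries k) ^ m) • f} ⊔
        Ideal.span {(PowerSeries.X : PowerSeries k) ^ n} • (⊤ : Submodule (PowerSeries k) (Fin 3 → PowerSeries k))) :
    (∀ x ∈ S, ∀ y ∈ S, x * y ∈ S) ↔ ((PowerSeries.X : PowerSeries k) ^ (2 * m)) • (f * f) ∈ S := by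
  classical
  set g : Fin 3 → PowerSeries k := ((PowerSeries.X : PowerSeries k) ^ m) • f with hg
  set T : Submodule (PowerSeries k) (Fin 3 → PowerSeries k) :=
    Ideal.span {(PowerSeries.X : PowerSeries k) ^ n} •
      (⊤ : Submodule (PowerSeries k) (Fin 3 → PowerSeries k)) with hT
  have hgg : g * g = ((PowerSeries.X : PowerSeries k) ^ (2 * m)) • (f * f) := by
    rw [hg, smul_mul_smul_comm, ← pow_add, two_mul]
  have h1S : (1 : Fin 3 → PowerSeries k) ∈ S := by
    rw [hS]; exact Submodule.mem_sup_left (Submodule.subset_span (by simp))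
  have hgS : g ∈ S := by
    rw [hS]; exact Submodule.mem_sup_left (Submodule.subset_span (by simp))
  have hTS : T ≤ S := by rw [hS]; exact le_sup_right
  have hTmul : ∀ z ∈ T, ∀ w : Fin 3 → PowerSeries k, z * w ∈ T := by
    intro z hz w
    refine Submodule.smul_induction_on hz ?_ ?_
    · intro r hr s' _
      rw [smul_mul_assoc]
      exact Submodule.smul_mem_smul hr Submodule.mem_top
    · intro x y hx hy
      rw [add_mul]; exact T.add_mem hx hy
  constructor
  · intro h
    rw [← hgg]; exact h g hgS g hgS
  · intro hgg'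
    rw [← hgg] at hgg'
    intro x hx y hy
    have hx' := hx
    have hy' := hy
    rw [hS, Submodule.mem_sup] at hx' hy'
    obtain ⟨x₁, hx₁, x₂, hx₂, rfl⟩ := hx'
    obtain ⟨y₁, hy₁, y₂, hy₂, rfl⟩ := hy'
    rw [Submodule.mem_span_pair] at hx₁ hy₁
    obtain ⟨a, b, rfl⟩ := hx₁
    obtain ⟨c, d, rfl⟩ := hy₁
    have e : (a • (1 : Fin 3 → PowerSeries k) + b • g + x₂) * (c • (1 : Fin 3 → PowerSeries k) + d • g + y₂) =
        (a * c) • (1 : Fin 3 → PowerSeries k) + (a * d + b * c) • g + (b * d) • (g * g) +
          (x₂ * (c • (1 : Fin 3 → PowerSeries k) + d • g + y₂) +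
            y₂ * (a • (1 : Fin 3 → PowerSeries k) + b • g)) := by
      simp only [Algebra.smul_def, map_mul, map_add]
      ring
    rw [e]
    refine S.add_mem (S.add_mem (S.add_mem (S.smul_mem _ h1S) (S.smul_mem _ hgS))
      (S.smul_mem _ hgg')) (S.add_mem (hTS (hTmul _ hx₂ _)) (hTS (hTmul _ hy₂ _)))

end Groth.Agent.S13879
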