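import Groth.Statements.S13888

set_option autoImplicit false
universe u
open CategoryTheory CategoryTheory.Limits MonoidalCategory
attribute [local instance] HasDerivedCategory.standard
open DTen

namespace Groth.Agent.S13888

/-- For a commutative ring `A` (assuming the derived tensor product on `D(A)` with its triple version
exists, that its symmetry, unit and associativity maps are isomorphisms, and that every `- ⊗^L L`
has a right adjoint `RHom(L, -)`) and objects `K`, `L`, `M` of `D(A)`, the canonical morphism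
`RHom(K ⊗^L L, M) ⟶ RHom(K, RHom(L, M))`, namely the double adjunct of the associativity isomorphism
followed by evaluation at `K ⊗^L L`, is an isomorphism. (Functoriality in the three objects is built
into the construction; the identification on `H^0` with the hom bijection of the adjunction is not
part of this row.) -/
theorem result (A : Type u) [CommRing A] [DTen.HasLTen A] [DTen.HasLTen₃ A]
    [DTen.IsSymMonoidal A] [DTen.HasRHom A] (K L M : Dual.D A) :
    IsIso (DTen.curryHom K L M) := by
  have idKL : (LTen₂ A).map (Prod.mkHom (𝟙 K) (𝟙 L)) = 𝟙 ((LTen₂ A).obj (K, L)) := by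
    have : (Prod.mkHom (𝟙 K) (𝟙 L) : ((K, L) : Dual.D A × Dual.D A) ⟶ (K, L)) = 𝟙 ((K, L) : Dual.D A × Dual.D A) := rfl
    rw [this, CategoryTheory.Functor.map_id]
  have assoc_nat : ∀ {T T' : Dual.D A} (g : T ⟶ T'),
      (LTen₂ A).map (Prod.mkHom ((LTen₂ A).map (Prod.mkHom g (𝟙 K))) (𝟙 L)) ≫ (associator T' K L).hom
        = (associator T K L).hom ≫ (LTen₂ A).map (Prod.mkHom g (𝟙 ((LTen₂ A).obj (K, L)))) := by
    intro T T' g
    have h1 := (assocL A).naturality (X := (T, (K, L))) (Y := (T', (K, L)))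
      (Prod.mkHom g (Prod.mkHom (𝟙 K) (𝟙 L)))
    have h2 := (assocR A).naturality (X := (T, (K, L))) (Y := (T', (K, L)))
      (Prod.mkHom g (Prod.mkHom (𝟙 K) (𝟙 L)))
    have e1 : (LTenL A).map (X := (T, (K, L))) (Y := (T', (K, L))) (Prod.mkHom g (Prod.mkHom (𝟙 K) (𝟙 L)))
        = (LTen₂ A).map (Prod.mkHom ((LTen₂ A).map (Prod.mkHom g (𝟙 K))) (𝟙 L)) := rfl
    have e2 : (LTenR A).map (X := (T, (K, L))) (Y := (T', (K, L))) (Prod.mkHom g (Prod.mkHom (𝟙 K) (𝟙 L)))
        = (LTen₂ A).map (Prod.mkHom g (𝟙 ((LTen₂ A).obj (K, L)))) := by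
      show (LTen₂ A).map (Prod.mkHom g ((LTen₂ A).map (Prod.mkHom (𝟙 K) (𝟙 L)))) = _
      rw [idKL]
    rw [e1] at h1
    rw [e2] at h2
    have hR : IsIso ((assocR A).app (T', (K, L))) := inferInstance
    rw [← cancel_mono ((assocR A).app (T', (K, L))), Category.assoc, Category.assoc, h2,
      associator_hom_assocR_assoc, associator_hom_assocR]
    exact h1
  apply isIso_of_yoneda_map_bijective
  intro T
  have key : (fun (x : T ⟶ (RHomR A ((LTen₂ A).obj (K, L))).obj M) => x ≫ curryHom K L M) =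
      fun x => rhomHomEquiv T K ((RHomR A L).obj M)
        (rhomHomEquiv ((LTen₂ A).obj (T, K)) L M
          ((associator T K L).hom ≫ (rhomHomEquiv T ((LTen₂ A).obj (K, L)) M).symm x)) := by
    funext x
    have n1 : x ≫ curryHom K L M = rhomHomEquiv T K _ ((LTen₂ A).map (Prod.mkHom x (𝟙 K)) ≫
        rhomHomEquiv _ L M (curryHomAux K L M)) :=
      ((rhomAdj A K).homEquiv_naturality_left x (rhomHomEquiv _ _ _ (curryHomAux K L M))).symm
    have n2 : (LTen₂ A).map (Prod.mkHom x (𝟙 K)) ≫ rhomHomEquiv _ L M (curryHomAux K L M) =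
        rhomHomEquiv ((LTen₂ A).obj (T, K)) L M
          ((LTen₂ A).map (Prod.mkHom ((LTen₂ A).map (Prod.mkHom x (𝟙 K))) (𝟙 L)) ≫ curryHomAux K L M) :=
      ((rhomAdj A L).homEquiv_naturality_left ((LTen₂ A).map (Prod.mkHom x (𝟙 K)))
        (curryHomAux K L M)).symm
    have n3 : (rhomHomEquiv T ((LTen₂ A).obj (K, L)) M).symm x =
        (LTen₂ A).map (Prod.mkHom x (𝟙 _)) ≫ ev _ M :=
      (rhomAdj A ((LTen₂ A).obj (K, L))).homEquiv_counit _ _ _
    show x ≫ curryHom K L M = _
    rw [n1, n2, n3]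
    congr 2
    unfold curryHomAux
    rw [← Category.assoc, assoc_nat x, Category.assoc]
  rw [key]
  exact (rhomHomEquiv T K ((RHomR A L).obj M)).bijective.comp
    ((rhomHomEquiv ((LTen₂ A).obj (T, K)) L M).bijective.comp
      (((Iso.homFromEquiv (associator T K L)).symm.bijective).comp
        (rhomHomEquiv T ((LTen₂ A).obj (K, L)) M).symm.bijective))

end Groth.Agent.S13888
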