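import Groth.Statements.S13905
import Mathlib

set_option autoImplicit false
universe u
open ProjGeom

namespace Groth.Agent.S13905

open W4c1etcurveeff3b in
theorem aux (k V : Type u) [Field k]
    [AddCommGroup V] [Module k V] [DecidableEq (Submodule k V)] (n : ℕ) (S : Finset (Submodule k V))
    (hS : InGeneralPosition k V n S) (hn : n ≤ S.card) (H : Submodule k V)
    (hH : Module.finrank k H = n)
    (havoid : ∀ T ⊆ S, T.card = n → ¬ (T.inf id ≤ H)) :
    InGeneralPosition k V n (insert H S) := by
  obtain ⟨hV, hmem, hint, hpt⟩ := hS
  haveI : FiniteDimensional k V := Module.finite_of_finrank_pos (by omega)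
  have hnotle : ∀ T' ⊆ S, T'.card ≤ n → ¬ (T'.inf id ≤ H) := by
    intro T' hT' hc hle
    obtain ⟨T'', hsub, hsub', hcard⟩ := Finset.exists_subsuperset_card_eq hT' hc hn
    exact havoid T'' hsub' hcard (le_trans (Finset.inf_mono hsub) hle)
  have herase : ∀ T ⊆ insert H S, T.erase H ⊆ S := by
    intro T hT K hK
    have hK1 := Finset.mem_of_mem_erase hK
    have hK2 := Finset.ne_of_mem_erase hK
    rcases Finset.mem_insert.mp (hT hK1) with h | h
    · exact absurd h hK2
    · exact h
  have hnotmem : ∀ T ⊆ insert H S, H ∉ T → T ⊆ S := by
    intro T hT hHT K hK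
    rcases Finset.mem_insert.mp (hT hK) with h | h
    · rw [h] at hK; exact absurd hK hHT
    · exact h
  refine ⟨hV, ?_, ?_, ?_⟩
  · intro K hK
    rcases Finset.mem_insert.mp hK with h | hK
    · rw [h]; exact hH
    · exact hmem K hK
  · intro T hT hc
    by_cases hHT : H ∈ T
    · have hT'S : T.erase H ⊆ S := herase T hT
      have hcard : (T.erase H).card + 1 = T.card := Finset.card_erase_add_one hHT
      have hTeq : T.inf id = H ⊓ (T.erase H).inf id := by
        conv_lhs => rw [← Finset.insert_erase hHT, Finset.inf_insert]
        rfl
      have hW := hint (T.erase H) hT'S (by omega)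
      have hWH : ¬ ((T.erase H).inf id ≤ H) := hnotle (T.erase H) hT'S (by omega)
      have hsup : Module.finrank k ↥(H ⊔ (T.erase H).inf id) = n + 1 := by
        have h1 : Module.finrank k ↥(H ⊔ (T.erase H).inf id) ≤ n + 1 := by
          rw [← hV]; exact Submodule.finrank_le _
        have h2 : n < Module.finrank k ↥(H ⊔ (T.erase H).inf id) := by
          rw [← hH]
          have hlt : H < H ⊔ (T.erase H).inf id := by
            refine lt_of_le_of_ne le_sup_left (fun heq => hWH ?_)
            have h3 : (T.erase H).inf id ≤ H ⊔ (T.erase H).inf id := le_sup_right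
            exact le_trans h3 (le_of_eq heq.symm)
          exact Submodule.finrank_lt_finrank_of_lt hlt
        omega
      have hdim := Submodule.finrank_sup_add_finrank_inf_eq H ((T.erase H).inf id)
      rw [hsup, hH, hW] at hdim
      rw [hTeq]
      omega
    · exact hint T (hnotmem T hT hHT) hc
  · intro v hv T hT hvT
    by_cases hHT : H ∈ T
    · have hT'S : T.erase H ⊆ S := herase T hT
      have hcard : (T.erase H).card + 1 = T.card := Finset.card_erase_add_one hHT
      have hvT' : ∀ K ∈ T.erase H, v ∈ K := fun K hK => hvT K (Finset.mem_of_mem_erase hK)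
      have h1 := hpt v hv (T.erase H) hT'S hvT'
      by_contra hgt
      have hTn : (T.erase H).card = n := by omega
      apply havoid (T.erase H) hT'S hTn
      have hdim1 : Module.finrank k ↥((T.erase H).inf id) = 1 := by
        rw [hint (T.erase H) hT'S (by omega), hTn]; omega
      have hvW : v ∈ (T.erase H).inf id := by
        exact (Submodule.span_singleton_le_iff_mem _ _).mp (Finset.le_inf fun K hK =>
          (Submodule.span_singleton_le_iff_mem _ _).mpr (hvT' K hK))
      intro w hw
      have hne : (⟨v, hvW⟩ : ↥((T.erase H).inf id)) ≠ 0 := by
        intro h0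
        exact hv (congrArg Subtype.val h0)
      obtain ⟨c, hc⟩ := (finrank_eq_one_iff_of_nonzero' (⟨v, hvW⟩ : ↥((T.erase H).inf id)) hne).mp
        hdim1 ⟨w, hw⟩
      have hw' : w = c • v := (congrArg Subtype.val hc).symm
      rw [hw']
      exact H.smul_mem c (hvT H hHT)
    · exact hpt v hv T (hnotmem T hT hHT) hvT

open W4c1etcurveeff3b in
/-- Hyperplanes of projective n-space in general position, in linear-algebra form (V of dimension n + 1
over a field k, hyperplanes as n-dimensional subspaces, points as nonzero vectors): if S is a finite
set of hyperplanes in general position with at least n members and H is a hyperplane containing none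
of the lines cut out by n members of S, then S with H added is again in general position. (The
published statement is for hyperplanes of P^n_k and closed points; a closed point lying on n + 1
members is automatically one of the rational points cut out by n of them, so the condition on
nonzero vectors of V is the same condition.) -/
theorem result (k V : Type u) [Field k]
    [AddCommGroup V] [Module k V] [DecidableEq (Submodule k V)] (n : ℕ) (S : Finset (Submodule k V))
    (hS : InGeneralPosition k V n S) (hn : n ≤ S.card) (H : Submodule k V)
    (hH : Module.finrank k H = n)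
    (havoid : ∀ T ⊆ S, T.card = n → ¬ (T.inf id ≤ H)) :
    InGeneralPosition k V n (insert H S) := by
  exact aux k V n S hS hn H hH havoid

end Groth.Agent.S13905
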