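import Groth.Statements.S13913
import Mathlib.RingTheory.MvPolynomial.EulerIdentity
import Mathlib.LinearAlgebra.LinearIndependent.Lemmas
import Mathlib.Tactic.Ring

set_option autoImplicit false
universe u
open PlaneCubic

namespace Groth.Agent.S13913

/-- Over an algebraically closed field of characteristic zero, for linearly independent linear forms z₁,
z₂ and quadratic forms q₁, q₂ in three variables and a nonzero common zero p of z₁ and z₂, the point
p is a singular point of the plane cubic z₁q₂ − z₂q₁ = 0 (all three partial derivatives vanish at p)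
if and only if q₁ and q₂ both vanish at p. -/
theorem result (k : Type u) [Field k] [IsAlgClosed k] [CharZero k]
    (z₁ z₂ q₁ q₂ : MvPolynomial (Fin 3) k) (hz₁ : z₁.IsHomogeneous 1) (hz₂ : z₂.IsHomogeneous 1)
    (hq₁ : q₁.IsHomogeneous 2) (hq₂ : q₂.IsHomogeneous 2) (hind : LinearIndependent k ![z₁, z₂])
    (p : Fin 3 → k) (hp : p ≠ 0) (hp₁ : MvPolynomial.eval p z₁ = 0) (hp₂ : MvPolynomial.eval p z₂ = 0) :
    (∀ i : Fin 3, MvPolynomial.eval p (MvPolynomial.pderiv i (z₁ * q₂ - z₂ * q₁)) = 0) ↔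
      (MvPolynomial.eval p q₁ = 0 ∧ MvPolynomial.eval p q₂ = 0) := by
  have hconst : ∀ (z : MvPolynomial (Fin 3) k), z.IsHomogeneous 1 → ∀ i,
      MvPolynomial.pderiv i z = MvPolynomial.C (MvPolynomial.coeff 0 (MvPolynomial.pderiv i z)) := by
    intro z hz i
    have h1 : (MvPolynomial.pderiv i z).IsHomogeneous (1 - 1) := hz.pderiv
    have h2 : (MvPolynomial.pderiv i z).totalDegree ≤ 0 := h1.totalDegree_le
    exact MvPolynomial.totalDegree_eq_zero_iff_eq_C.1 (Nat.le_zero.1 h2)
  have heuler : ∀ (z : MvPolynomial (Fin 3) k), z.IsHomogeneous 1 →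
      z = ∑ i, MvPolynomial.X i * MvPolynomial.pderiv i z := by
    intro z hz
    have h1 := hz.sum_X_mul_pderiv
    rw [one_smul] at h1
    exact h1.symm
  obtain ⟨a, ha⟩ : ∃ a : Fin 3 → k, ∀ i, MvPolynomial.pderiv i z₁ = MvPolynomial.C (a i) :=
    ⟨fun i => MvPolynomial.coeff 0 (MvPolynomial.pderiv i z₁), hconst z₁ hz₁⟩
  obtain ⟨b, hb⟩ : ∃ b : Fin 3 → k, ∀ i, MvPolynomial.pderiv i z₂ = MvPolynomial.C (b i) :=
    ⟨fun i => MvPolynomial.coeff 0 (MvPolynomial.pderiv i z₂), hconst z₂ hz₂⟩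
  have hgrad : ∀ i, MvPolynomial.eval p (MvPolynomial.pderiv i (z₁ * q₂ - z₂ * q₁)) =
      a i * MvPolynomial.eval p q₂ - b i * MvPolynomial.eval p q₁ := by
    intro i
    rw [map_sub, Derivation.leibniz, Derivation.leibniz, ha, hb]
    simp only [smul_eq_mul, map_sub, map_add, map_mul, hp₁, hp₂, zero_mul, zero_add,
      MvPolynomial.eval_C]
    ring
  constructor
  · intro h
    have h' : ∀ i, a i * MvPolynomial.eval p q₂ - b i * MvPolynomial.eval p q₁ = 0 := fun i => by
      rw [← hgrad i]; exact h i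
    have hz1 : z₁ = ∑ i, MvPolynomial.X i * MvPolynomial.C (a i) := by
      calc z₁ = ∑ i, MvPolynomial.X i * MvPolynomial.pderiv i z₁ := heuler z₁ hz₁
        _ = ∑ i, MvPolynomial.X i * MvPolynomial.C (a i) := by simp only [ha]
    have hz2 : z₂ = ∑ i, MvPolynomial.X i * MvPolynomial.C (b i) := by
      calc z₂ = ∑ i, MvPolynomial.X i * MvPolynomial.pderiv i z₂ := heuler z₂ hz₂
        _ = ∑ i, MvPolynomial.X i * MvPolynomial.C (b i) := by simp only [hb]
    have hcomb : (MvPolynomial.eval p q₂) • z₁ + (-(MvPolynomial.eval p q₁)) • z₂ = 0 := by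
      rw [hz1, hz2, Finset.smul_sum, Finset.smul_sum, ← Finset.sum_add_distrib]
      apply Finset.sum_eq_zero
      intro i _
      rw [MvPolynomial.smul_eq_C_mul, MvPolynomial.smul_eq_C_mul]
      have e : MvPolynomial.C (MvPolynomial.eval p q₂) * (MvPolynomial.X i * MvPolynomial.C (a i)) +
          MvPolynomial.C (-(MvPolynomial.eval p q₁)) * (MvPolynomial.X i * MvPolynomial.C (b i)) =
          MvPolynomial.X i *
            MvPolynomial.C (a i * MvPolynomial.eval p q₂ - b i * MvPolynomial.eval p q₁) := by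
        simp only [map_sub, map_mul, map_neg]
        ring
      rw [e, h' i, map_zero, mul_zero]
    obtain ⟨h1, h2⟩ := (LinearIndependent.pair_iff.1 hind) _ _ hcomb
    exact ⟨neg_eq_zero.1 h2, h1⟩
  · rintro ⟨h1, h2⟩ i
    rw [hgrad i, h1, h2, mul_zero, mul_zero, sub_zero]

end Groth.Agent.S13913
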