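import Groth.Statements.S13916
import Mathlib

set_option autoImplicit false
universe u
open PlaneConic

namespace Groth.Agent.S13916

/-- Over an algebraically closed field k of characteristic zero, with u_0, u_1, u_2 the coordinate
linear forms of k[X_0, X_1, X_2] and 2 × 2 matrices of linear forms compared up to M ↦ g M h with g,
h invertible scalar matrices: (1) the matrices with rows (u_1, 0), (u_0, u_2) and (u_2, 0), (u_0,
u_1) are not equivalent; (2) for α ≠ 0 the matrix with rows (u_1, 0), (αu_0 + βu_1 + γu_2, u_2) is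
equivalent to the one with rows (u_1, 0), (u_0, u_2). -/
theorem result (k : Type u) [Field k] [IsAlgClosed k] [CharZero k] :
    (¬ ∃ g h : GL (Fin 2) k,
      (MvPolynomial.C : k →+* MvPolynomial (Fin 3) k).mapMatrix g.val *
          !![MvPolynomial.X 1, 0; MvPolynomial.X 0, MvPolynomial.X 2] *
        (MvPolynomial.C : k →+* MvPolynomial (Fin 3) k).mapMatrix h.val =
      !![MvPolynomial.X 2, 0; MvPolynomial.X 0, MvPolynomial.X 1]) ∧
    (∀ α β γ : k, α ≠ 0 → ∃ g h : GL (Fin 2) k,
      (MvPolynomial.C : k →+* MvPolynomial (Fin 3) k).mapMatrix g.val *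
          !![MvPolynomial.X 1, 0;
             MvPolynomial.C α * MvPolynomial.X 0 + MvPolynomial.C β * MvPolynomial.X 1 + MvPolynomial.C γ * MvPolynomial.X 2,
             MvPolynomial.X 2] *
        (MvPolynomial.C : k →+* MvPolynomial (Fin 3) k).mapMatrix h.val =
      !![MvPolynomial.X 1, 0; MvPolynomial.X 0, MvPolynomial.X 2]) := by
  classical
  have key : ∀ (p : Fin 3 → k) (g h : Matrix (Fin 2) (Fin 2) k)
      (M M' : Matrix (Fin 2) (Fin 2) (MvPolynomial (Fin 3) k)),
      (MvPolynomial.C : k →+* MvPolynomial (Fin 3) k).mapMatrix g * M *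
        (MvPolynomial.C : k →+* MvPolynomial (Fin 3) k).mapMatrix h = M' →
      g * (MvPolynomial.eval p).mapMatrix M * h = (MvPolynomial.eval p).mapMatrix M' := by
    intro p g h M M' H
    have h1 := congrArg (MvPolynomial.eval p).mapMatrix H
    rw [map_mul, map_mul] at h1
    have hC : ∀ A : Matrix (Fin 2) (Fin 2) k, (MvPolynomial.eval p).mapMatrix
        ((MvPolynomial.C : k →+* MvPolynomial (Fin 3) k).mapMatrix A) = A := by
      intro A; ext i j; simp
    rwa [hC, hC] at h1
  refine ⟨?_, ?_⟩
  · rintro ⟨g, h, H⟩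
    have e1 := key ![0,0,1] g.val h.val _ _ H
    have e2 := key ![1,0,0] g.val h.val _ _ H
    have a1 : g.val 1 1 * h.val 1 0 = 0 := by
      have := congrFun (congrFun e1 1) 0
      simpa [Matrix.mul_apply, Fin.sum_univ_two] using this
    have a2 : g.val 0 1 * h.val 1 0 = 1 := by
      have := congrFun (congrFun e1 0) 0
      simpa [Matrix.mul_apply, Fin.sum_univ_two] using this
    have a3 : g.val 1 1 * h.val 0 0 = 1 := by
      have := congrFun (congrFun e2 1) 0
      simpa [Matrix.mul_apply, Fin.sum_univ_two] using this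
    have hne : h.val 1 0 ≠ 0 := by
      intro h0
      rw [h0, mul_zero] at a2
      exact zero_ne_one a2
    have hg : g.val 1 1 = 0 := by
      rcases mul_eq_zero.mp a1 with h1 | h1
      · exact h1
      · exact absurd h1 hne
    rw [hg, zero_mul] at a3
    exact zero_ne_one a3
  · intro α β γ hα
    have hai : (MvPolynomial.C α⁻¹ : MvPolynomial (Fin 3) k) * MvPolynomial.C α = 1 := by
      rw [← map_mul, inv_mul_cancel₀ hα, map_one]
    refine ⟨Matrix.GeneralLinearGroup.mkOfDetNeZero !![1, 0; -β * α⁻¹, α⁻¹] (by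
        rw [Matrix.det_fin_two_of]; simpa using hα),
      Matrix.GeneralLinearGroup.mkOfDetNeZero !![1, 0; -γ, α] (by
        rw [Matrix.det_fin_two_of]; simpa using hα), ?_⟩
    apply Matrix.ext
    intro i j
    fin_cases i <;> fin_cases j
    · simp [Matrix.mul_apply, Fin.sum_univ_two, Matrix.GeneralLinearGroup.mkOfDetNeZero]
    · simp [Matrix.mul_apply, Fin.sum_univ_two, Matrix.GeneralLinearGroup.mkOfDetNeZero]
    · simp [Matrix.mul_apply, Fin.sum_univ_two, Matrix.GeneralLinearGroup.mkOfDetNeZero]
      linear_combination (MvPolynomial.X 0 : MvPolynomial (Fin 3) k) * hai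
    · simp [Matrix.mul_apply, Fin.sum_univ_two, Matrix.GeneralLinearGroup.mkOfDetNeZero]
      linear_combination (MvPolynomial.X 2 : MvPolynomial (Fin 3) k) * hai

end Groth.Agent.S13916
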