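import Groth.Statements.S13925
import Mathlib.Tactic.Abel
import Mathlib.Tactic.FinCases

set_option autoImplicit false
universe u v w x
open W4c1limliniiii

namespace Groth.Agent.S13925

/-- Let k be a field and U, E, W vector spaces over k with linear maps f : U → E, g' : E → U, f₂ : E → W
and g : W → E such that g' ∘ f = 0, the kernel of f₂ is contained in the image of g, and the image
of g meets the kernel of g' only in 0 — the conditions holding at a point of a linked Grassmannian
at which the linking scalar vanishes. Let V₁ ≤ U and V₂ ≤ E be subspaces and let C' ≤ V₂ be a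
subspace contained in the kernel of g' and meeting f(V₁) only in 0. Then the subspaces f(V₁), ker f₂
∩ V₂ and C' of E are independent: their sum is direct. (The published statement is for two
consecutive members V_{i-1}, V_i of a point of a linked Grassmannian at which the linking scalar
vanishes and adds the decomposition V_i = f(V_{i-1}) ⊕ (ker f_i ∩ V_i) ⊕ C with C ⊇ C'; this row
states the independence, with only the three conditions the argument uses.) -/
theorem result (k : Type u) [Field k]
    (U : Type v) (E : Type w) (W : Type x) [AddCommGroup U] [Module k U] [AddCommGroup E]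
    [Module k E] [AddCommGroup W] [Module k W]
    (f : U →ₗ[k] E) (g' : E →ₗ[k] U) (f₂ : E →ₗ[k] W) (g : W →ₗ[k] E)
    (hgf : g'.comp f = 0) (hII : LinearMap.ker f₂ ≤ LinearMap.range g)
    (hIII : LinearMap.range g ⊓ LinearMap.ker g' = ⊥)
    (V₁ : Submodule k U) (V₂ : Submodule k E) (C' : Submodule k E) (hC : C' ≤ V₂)
    (hCg : C' ≤ LinearMap.ker g') (hCf : Submodule.map f V₁ ⊓ C' = ⊥) :
    iSupIndep ![Submodule.map f V₁, LinearMap.ker f₂ ⊓ V₂, C'] := by
  have hA : Submodule.map f V₁ ≤ LinearMap.ker g' := by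
    rintro _ ⟨v, -, rfl⟩
    rw [LinearMap.mem_ker]
    have := LinearMap.congr_fun hgf v
    simpa using this
  have key : ∀ a ∈ Submodule.map f V₁, ∀ b ∈ LinearMap.ker f₂ ⊓ V₂, ∀ c ∈ C',
      a + b + c = 0 → a = 0 ∧ b = 0 ∧ c = 0 := by
    intro a ha b hb c hc h
    have hb0 : b = 0 := by
      have hbk : b ∈ LinearMap.ker g' := by
        have hb' : b = -(a + c) := by
          rw [eq_neg_iff_add_eq_zero, ← h]; abel
        rw [hb']
        exact Submodule.neg_mem _ (Submodule.add_mem _ (hA ha) (hCg hc))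
      have hbr : b ∈ LinearMap.range g := hII hb.1
      have hb2 : b ∈ LinearMap.range g ⊓ LinearMap.ker g' := ⟨hbr, hbk⟩
      rw [hIII] at hb2
      exact (Submodule.mem_bot k).1 hb2
    subst hb0
    have hac : a = -c := by
      rw [eq_neg_iff_add_eq_zero]; simpa using h
    have ha2 : a ∈ Submodule.map f V₁ ⊓ C' := ⟨ha, by rw [hac]; exact Submodule.neg_mem _ hc⟩
    rw [hCf] at ha2
    have ha0 := (Submodule.mem_bot k).1 ha2
    subst ha0
    refine ⟨rfl, rfl, ?_⟩
    simpa using h
  rw [iSupIndep_def]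
  intro i
  rw [Submodule.disjoint_def]
  intro x hx hx'
  fin_cases i
  · have hle : (⨆ j, ⨆ (_ : j ≠ (0 : Fin 3)), ![Submodule.map f V₁, LinearMap.ker f₂ ⊓ V₂, C'] j)
        ≤ (LinearMap.ker f₂ ⊓ V₂) ⊔ C' := by
      refine iSup₂_le fun j hj => ?_
      fin_cases j
      · exact absurd rfl hj
      · exact le_sup_left
      · exact le_sup_right
    obtain ⟨y, hy, z, hz, rfl⟩ := Submodule.mem_sup.1 (hle hx')
    have hx0 : y + z ∈ Submodule.map f V₁ := hx
    have := key (y + z) hx0 (-y) (Submodule.neg_mem _ hy) (-z) (Submodule.neg_mem _ hz) (by abel)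
    exact this.1
  · have hle : (⨆ j, ⨆ (_ : j ≠ (1 : Fin 3)), ![Submodule.map f V₁, LinearMap.ker f₂ ⊓ V₂, C'] j)
        ≤ Submodule.map f V₁ ⊔ C' := by
      refine iSup₂_le fun j hj => ?_
      fin_cases j
      · exact le_sup_left
      · exact absurd rfl hj
      · exact le_sup_right
    obtain ⟨y, hy, z, hz, rfl⟩ := Submodule.mem_sup.1 (hle hx')
    have hx0 : y + z ∈ LinearMap.ker f₂ ⊓ V₂ := hx
    have := key (-y) (Submodule.neg_mem _ hy) (y + z) hx0 (-z) (Submodule.neg_mem _ hz) (by abel)
    exact this.2.1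
  · have hle : (⨆ j, ⨆ (_ : j ≠ (2 : Fin 3)), ![Submodule.map f V₁, LinearMap.ker f₂ ⊓ V₂, C'] j)
        ≤ Submodule.map f V₁ ⊔ (LinearMap.ker f₂ ⊓ V₂) := by
      refine iSup₂_le fun j hj => ?_
      fin_cases j
      · exact le_sup_left
      · exact le_sup_right
      · exact absurd rfl hj
    obtain ⟨y, hy, z, hz, rfl⟩ := Submodule.mem_sup.1 (hle hx')
    have hx0 : y + z ∈ C' := hx
    have := key (-y) (Submodule.neg_mem _ hy) (-z) (Submodule.neg_mem _ hz) (y + z) hx0 (by abel)
    exact this.2.2

end Groth.Agent.S13925
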