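import Groth.Statements.S13926
import Mathlib.LinearAlgebra.FiniteDimensional.Lemmas
import Mathlib.LinearAlgebra.FiniteDimensional.Basic
import Mathlib.LinearAlgebra.Span.Basic

set_option autoImplicit false
universe u v w
open W4c1limliniiii

namespace Groth.Agent.S13926

/-- Let k be a field, E₁ and E₂ finite-dimensional vector spaces over k of the same dimension, f : E₁ →
E₂ and g : E₂ → E₁ linear maps whose composite g ∘ f is multiplication by a scalar s, and V₁ a
subspace of E₁. Then there is a subspace V₂ of E₂ of the same dimension as V₁ with f(V₁) ≤ V₂ and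
g(V₂) ≤ V₁. (The published statement is the surjectivity of the truncation morphisms of a linked
Grassmannian, with a further assertion on lifting families; this row is the lifting step over a
field — over a point the chain of linked subspaces V_1, …, V_{n'} extends one index at a time — and
assumes only g ∘ f = s.) -/
theorem result (k : Type u) [Field k]
    (E₁ : Type v) (E₂ : Type w) [AddCommGroup E₁] [Module k E₁] [FiniteDimensional k E₁]
    [AddCommGroup E₂] [Module k E₂] [FiniteDimensional k E₂]
    (hdim : Module.finrank k E₁ = Module.finrank k E₂)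
    (f : E₁ →ₗ[k] E₂) (g : E₂ →ₗ[k] E₁) (s : k) (hgf : g.comp f = s • LinearMap.id)
    (V₁ : Submodule k E₁) :
    ∃ V₂ : Submodule k E₂, Module.finrank k V₂ = Module.finrank k V₁ ∧
      Submodule.map f V₁ ≤ V₂ ∧ Submodule.map g V₂ ≤ V₁ := by
  have hW : Submodule.map f V₁ ≤ Submodule.comap g V₁ := by
    rintro _ ⟨v, hv, rfl⟩
    rw [Submodule.mem_comap]
    have h0 := LinearMap.congr_fun hgf v
    simp only [LinearMap.comp_apply, LinearMap.smul_apply, LinearMap.id_apply] at h0
    rw [h0]
    exact V₁.smul_mem s hv
  have hd1 : Module.finrank k (Submodule.map f V₁) ≤ Module.finrank k V₁ :=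
    Submodule.finrank_map_le f V₁
  have hd2 : Module.finrank k V₁ ≤ Module.finrank k (Submodule.comap g V₁) := by
    have h1 := LinearMap.finrank_range_add_finrank_ker (V₁.mkQ.comp g)
    have h2 : LinearMap.ker (V₁.mkQ.comp g) = Submodule.comap g V₁ := by
      rw [LinearMap.ker_comp, Submodule.ker_mkQ]
    rw [h2] at h1
    have h3 : Module.finrank k (LinearMap.range (V₁.mkQ.comp g)) ≤ Module.finrank k (E₁ ⧸ V₁) :=
      Submodule.finrank_le _
    have h4 := Submodule.finrank_quotient_add_finrank V₁
    omega
  have inter : ∀ (j : ℕ) (W₁ W₂ : Submodule k E₂), W₁ ≤ W₂ →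
      Module.finrank k W₁ + j ≤ Module.finrank k W₂ →
      ∃ W : Submodule k E₂, W₁ ≤ W ∧ W ≤ W₂ ∧ Module.finrank k W = Module.finrank k W₁ + j := by
    intro j
    induction j with
    | zero =>
      intro W₁ W₂ h _
      exact ⟨W₁, le_rfl, h, rfl⟩
    | succ j ih =>
      intro W₁ W₂ h hd
      have hne : W₁ ≠ W₂ := by
        rintro rfl
        omega
      obtain ⟨x, hx2, hx1⟩ := SetLike.exists_of_lt (lt_of_le_of_ne h hne)
      have hx0 : x ≠ 0 := by
        rintro rfl
        exact hx1 W₁.zero_mem
      have hdisj : Disjoint W₁ (Submodule.span k {x}) :=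
        (Submodule.disjoint_span_singleton' hx0).2 hx1
      have hfr : Module.finrank k ↥(W₁ ⊔ Submodule.span k {x}) = Module.finrank k W₁ + 1 := by
        have h5 := Submodule.finrank_sup_add_finrank_inf_eq W₁ (Submodule.span k {x})
        rw [hdisj.eq_bot] at h5
        simp only [finrank_bot, finrank_span_singleton hx0] at h5
        omega
      have hle : W₁ ⊔ Submodule.span k {x} ≤ W₂ :=
        sup_le h ((Submodule.span_singleton_le_iff_mem _ _).2 hx2)
      obtain ⟨W, hW1, hW2, hW3⟩ := ih (W₁ ⊔ Submodule.span k {x}) W₂ hle (by omega)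
      exact ⟨W, le_trans le_sup_left hW1, hW2, by omega⟩
  obtain ⟨W, h1, h2, h3⟩ :=
    inter (Module.finrank k V₁ - Module.finrank k (Submodule.map f V₁)) _ _ hW (by omega)
  refine ⟨W, by omega, h1, ?_⟩
  exact Submodule.map_le_iff_le_comap.2 h2

end Groth.Agent.S13926
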