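import Groth.Statements.S13934
import Mathlib
import Groth.Agent.Lib.VBCurve5_helper9

set_option autoImplicit false
universe u
open CategoryTheory CategoryTheory.Limits AlgebraicGeometry
open W4c1limliniiii

namespace Groth.Agent.S13934

/-- On a smooth proper integral curve over an algebraically closed field (any characteristic), let 0 → L
→ E → M → 0 be a short exact sequence of O_X-modules with E finite locally free of rank 2 and degree
0, L and M invertible and deg L > 0 (so M is det E ⊗ L⁻¹). Then: every invertible sheaf N admitting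
a non-zero map N → E has deg N ≤ deg L, so L is the line bundle of maximal degree in E; every
invertible subsheaf N of E of positive degree with invertible quotient E/N coincides with L (some
isomorphism N ≅ L commutes with the inclusions); and E is not an extension of two invertible sheaves
of degree 0. Degrees are χ(−) minus rank times χ(O_X). (The published lemma is stated on a curve of
genus 2 in characteristic p; its argument uses neither, and this row assumes neither.) -/
theorem result (k : Type u) [Field k] [IsAlgClosed k] (X : Scheme.{u}) [X.Over (Spec (CommRingCat.of k))]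
    [IsIntegral X] [IsProper (X ↘ Spec (CommRingCat.of k))] [Smooth (X ↘ Spec (CommRingCat.of k))]
    (hdim : topologicalKrullDim X = 1)
    (S : ShortComplex X.Modules) (hS : S.ShortExact)
    (hE : FlatMod.IsFinLocFreeOfRank 2 S.X₂) (hE0 : Curv2.deg k X S.X₂ 2 = 0)
    (hL : PicF.IsInvertible S.X₁) (hM : PicF.IsInvertible S.X₃) (hpos : 0 < Curv2.deg k X S.X₁ 1) :
    (∀ (N : X.Modules), PicF.IsInvertible N → ∀ j : N ⟶ S.X₂, j ≠ 0 →
        Curv2.deg k X N 1 ≤ Curv2.deg k X S.X₁ 1) ∧
    (∀ (N : X.Modules), PicF.IsInvertible N → ∀ (j : N ⟶ S.X₂), Mono j →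
        PicF.IsInvertible (cokernel j) → 0 < Curv2.deg k X N 1 → ∃ φ : N ≅ S.X₁, φ.hom ≫ S.f = j) ∧
    (∀ (N N' : X.Modules), PicF.IsInvertible N → PicF.IsInvertible N' →
        Curv2.deg k X N 1 = 0 → Curv2.deg k X N' 1 = 0 →
        ∀ (a : N ⟶ S.X₂) (b : S.X₂ ⟶ N') (w : a ≫ b = 0), ¬ (ShortComplex.mk a b w).ShortExact) := by
  haveI : Mono S.f := hS.mono_f
  have r1L := FLFH8.finLocFreeOfRank_one_of_isInvertible hL
  have r1M := FLFH8.finLocFreeOfRank_one_of_isInvertible hM
  have dE := CurveDegAdd.deg_additive k X S hS 1 2 1 r1L hE r1M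
  refine ⟨?_, ?_, ?_⟩
  · intro N hN j hj
    rcases VBCurve.line_hom_cases k X hdim hN hM (j ≫ S.g) with h0 | ⟨-, hle, -⟩
    · have hl : hS.fIsKernel.lift (KernelFork.ofι _ h0) ≫ S.f = j :=
        hS.fIsKernel.fac (KernelFork.ofι _ h0) WalkingParallelPair.zero
      rcases VBCurve.line_hom_cases k X hdim hN hL (hS.fIsKernel.lift (KernelFork.ofι _ h0)) with
        h | ⟨-, hle, -⟩
      · exfalso; apply hj; rw [← hl, h, zero_comp]
      · exact hle
    · linarith
  · intro N hN j hj hq hpos'
    haveI := hj
    rcases VBCurve.line_sub_of_ses k X hdim S hS hL hM hN j hq with h | h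
    · exact h
    · exfalso; linarith
  · intro N N' hN hN' hd hd' a b w hT
    have hma : Mono a := hT.mono_f
    rcases VBCurve.line_hom_cases k X hdim hL hN' (S.f ≫ b) with h0 | ⟨-, hle, -⟩
    · have hl : hT.fIsKernel.lift (KernelFork.ofι _ h0) ≫ a = S.f :=
        hT.fIsKernel.fac (KernelFork.ofι _ h0) WalkingParallelPair.zero
      haveI : Mono (hT.fIsKernel.lift (KernelFork.ofι _ h0)) := by
        have : Mono (hT.fIsKernel.lift (KernelFork.ofι _ h0) ≫ a) := by rw [hl]; infer_instance
        exact mono_of_mono _ a
      have h1 : Curv2.deg k X S.X₁ 1 ≤ Curv2.deg k X N 1 :=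
        (VBCurve.deg_le_of_mono_same_rank k X hdim
          (hT.fIsKernel.lift (KernelFork.ofι _ h0)) r1L
          (FLFH8.finLocFreeOfRank_one_of_isInvertible hN)).1
      linarith
    · linarith

end Groth.Agent.S13934
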