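import Groth.Statements.S13953
import Mathlib

set_option autoImplicit false
universe u
open TateLoc

namespace Groth.Agent.S13953

theorem aux {ι : Type u} (R : ι → Type u)
    [∀ i, CommRing (R i)] [∀ i, IsLocalRing (R i)] {J : Type u}
    (U : J → TopologicalSpace.Opens (PrimeSpectrum (∀ i, R i))) (hU : ⨆ j, U j = ⊤) :
    ∃ (n : ℕ) (c : ι → Fin n), ∀ m : Fin n, ∃ j : J,
      PrimeSpectrum.basicOpen (fun i => if c i = m then (1 : R i) else 0) ≤ U j := by
  classical
  have hs : ∀ j, ∃ s : Set (∀ i, R i), ((U j : Set (PrimeSpectrum (∀ i, R i))))ᶜ =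
      PrimeSpectrum.zeroLocus s := fun j =>
    (PrimeSpectrum.isOpen_iff _).mp (U j).2
  choose s hs using hs
  have htop : Ideal.span (⋃ j, s j) = ⊤ := by
    rw [← PrimeSpectrum.zeroLocus_empty_iff_eq_top, PrimeSpectrum.zeroLocus_span,
      PrimeSpectrum.zeroLocus_iUnion]
    rw [Set.eq_empty_iff_forall_notMem]
    intro x hx
    rw [Set.mem_iInter] at hx
    have hxU : x ∈ (⨆ j, U j : TopologicalSpace.Opens (PrimeSpectrum (∀ i, R i))) := by
      rw [hU]; trivial
    rw [TopologicalSpace.Opens.mem_iSup] at hxU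
    obtain ⟨j, hj⟩ := hxU
    have h1 := hx j
    rw [← hs j] at h1
    exact h1 hj
  obtain ⟨s', hs'sub, hs'top⟩ := (Ideal.span_eq_top_iff_finite _).mp htop
  have h1 : (1 : ∀ i, R i) ∈ Ideal.span (s' : Set (∀ i, R i)) := by rw [hs'top]; trivial
  obtain ⟨f, -, hf⟩ := Submodule.mem_span_finset.mp h1
  have hunit : ∀ i, ∃ a : {a // a ∈ s'}, IsUnit (a.1 i) := by
    intro i
    by_contra hcon
    push_neg at hcon
    have hmem : ∀ a ∈ s', a i ∈ IsLocalRing.maximalIdeal (R i) := fun a ha => hcon ⟨a, ha⟩
    have h1i : (1 : R i) ∈ IsLocalRing.maximalIdeal (R i) := by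
      have h2 : (1 : R i) = ∑ a ∈ s', f a i * a i := by
        have h3 := congrFun hf i
        simp only [Finset.sum_apply, smul_eq_mul, Pi.mul_apply, Pi.one_apply] at h3
        exact h3.symm
      rw [h2]
      exact Ideal.sum_mem _ fun a ha => Ideal.mul_mem_left _ _ (hmem a ha)
    exact (Ideal.ne_top_iff_one _).mp (IsLocalRing.maximalIdeal.isMaximal _).ne_top h1i
  choose ch hch using hunit
  refine ⟨s'.card, fun i => s'.equivFin (ch i), fun m => ?_⟩
  set a := s'.equivFin.symm m with ha
  obtain ⟨j, hj⟩ : ∃ j, a.1 ∈ s j := by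
    have h2 := hs'sub a.2
    rwa [Set.mem_iUnion] at h2
  refine ⟨j, ?_⟩
  intro x hx
  by_contra hxU
  have hxz : x ∈ PrimeSpectrum.zeroLocus (s j) := by rw [← hs j]; exact hxU
  have hax : a.1 ∈ x.asIdeal := hxz hj
  apply (PrimeSpectrum.mem_basicOpen _ _).mp hx
  have he : (fun i => if s'.equivFin (ch i) = m then (1 : R i) else 0) =
      a.1 * (fun i => if s'.equivFin (ch i) = m then Ring.inverse (a.1 i) else 0) := by
    funext i
    simp only [Pi.mul_apply]
    split_ifs with h
    · have hai : ch i = a := by rw [ha, ← h, Equiv.symm_apply_apply]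
      rw [← hai, Ring.mul_inverse_cancel _ (hch i)]
    · rw [mul_zero]
  rw [he]
  exact Ideal.mul_mem_right _ _ hax

/-- Let (R_i) be a family of local commutative rings and R = ∏ R_i. Any open cover of Spec R can be
refined by one coming from a finite partition of the index set: there is a map c from the index set
to a finite set such that, for each value m, the basic open subset of Spec R defined by the
idempotent which is 1 at the indices with c i = m and 0 elsewhere (this open is the spectrum of the
product of the R_i over that class) is contained in some member of the cover. -/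
theorem result {ι : Type u} (R : ι → Type u)
    [∀ i, CommRing (R i)] [∀ i, IsLocalRing (R i)] {J : Type u}
    (U : J → TopologicalSpace.Opens (PrimeSpectrum (∀ i, R i))) (hU : ⨆ j, U j = ⊤) :
    ∃ (n : ℕ) (c : ι → Fin n), ∀ m : Fin n, ∃ j : J,
      PrimeSpectrum.basicOpen (fun i => if c i = m then (1 : R i) else 0) ≤ U j := by
  exact aux R U hU

end Groth.Agent.S13953
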