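import Groth.Statements.S13958
import Mathlib

set_option autoImplicit false
universe u
open TateLoc

namespace Groth.Agent.S13958

theorem resfin (Q : Type u) [CommGroup Q] [Group.FG Q] (q : Q) (hq : q ≠ 1) :
    ∃ (F : Type) (_ : CommGroup F) (_ : Finite F) (f : Q →* F), f q ≠ 1 := by
  obtain ⟨ι, j, _, _, p, hp, e, ⟨E⟩⟩ := CommGroup.equiv_free_prod_prod_multiplicative_zmod Q
  by_cases h1 : (E q).1 = 1
  · haveI : ∀ i, NeZero (p i ^ e i) := fun i => ⟨pow_ne_zero _ (hp i).ne_zero⟩
    refine ⟨(i : ι) → Multiplicative (ZMod (p i ^ e i)), inferInstance, inferInstance,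
      (MonoidHom.snd _ _).comp E.toMonoidHom, ?_⟩
    intro h2
    apply hq
    apply E.injective
    rw [map_one]
    exact Prod.ext h1 h2
  · obtain ⟨j0, hj0⟩ : ∃ j0, (E q).1 j0 ≠ 1 := by
      by_contra hcon
      push Not at hcon
      exact h1 (funext hcon)
    have ha0 : Multiplicative.toAdd ((E q).1 j0) ≠ 0 := fun h => hj0 (by
      rw [← toAdd_eq_zero]; exact h)
    refine ⟨Multiplicative (ZMod ((Multiplicative.toAdd ((E q).1 j0)).natAbs + 1)), inferInstance,
      inferInstance,
      (AddMonoidHom.toMultiplicative (Int.castAddHom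
        (ZMod ((Multiplicative.toAdd ((E q).1 j0)).natAbs + 1)))).comp
        ((Pi.evalMonoidHom _ j0).comp ((MonoidHom.fst _ _).comp E.toMonoidHom)), ?_⟩
    intro h2
    have h3 : ((Multiplicative.toAdd ((E q).1 j0) : ℤ) :
        ZMod ((Multiplicative.toAdd ((E q).1 j0)).natAbs + 1)) = 0 := by
      have h4 := congrArg Multiplicative.toAdd h2
      simpa using h4
    rw [ZMod.intCast_zmod_eq_zero_iff_dvd] at h3
    have h5 := Int.natCast_dvd.mp h3
    have h6 := Nat.le_of_dvd (Int.natAbs_pos.mpr ha0) h5
    omega

open CategoryTheory in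
theorem aux (A' : Type u) [CommGroup A'] [Group.FG A']
    (A : Subgroup A') (x : A')
    (hx : ProfiniteGrp.ProfiniteCompletion.etaFn (GrpCat.of A') x ∈
      Set.range ⇑(ProfiniteGrp.profiniteCompletion.map (GrpCat.ofHom A.subtype)).hom) :
    x ∈ A := by
  by_contra hxA
  have hq : (QuotientGroup.mk x : A' ⧸ A) ≠ 1 := by
    rwa [Ne, QuotientGroup.eq_one_iff]
  obtain ⟨F, _, _, f, hf⟩ := resfin (A' ⧸ A) _ hq
  let φ : A' →* F := f.comp (QuotientGroup.mk' A)
  have hφA : ∀ a ∈ A, φ a = 1 := by
    intro a ha
    show f (QuotientGroup.mk a) = 1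
    rw [(QuotientGroup.eq_one_iff a).mpr ha, map_one]
  have hφx : φ x ≠ 1 := hf
  let N : FiniteIndexNormalSubgroup (GrpCat.of A') :=
    { toSubgroup := φ.ker, isNormal' := inferInstance, isFiniteIndex' := Subgroup.finiteIndex_ker φ }
  obtain ⟨z, hz⟩ := hx
  let ev : ProfiniteGrp.ProfiniteCompletion.completion (GrpCat.of A') →
      ((ProfiniteGrp.ProfiniteCompletion.diagram (GrpCat.of A')).obj N) := fun y => y.1 N
  have hev : Continuous ev := (continuous_apply N).comp continuous_subtype_val
  have hΦ : Continuous ⇑(ProfiniteGrp.profiniteCompletion.map (GrpCat.ofHom A.subtype)).hom :=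
    (ProfiniteGrp.profiniteCompletion.map (GrpCat.ofHom A.subtype)).hom.continuous_toFun
  have hclosed : IsClosed {z | ev ((ProfiniteGrp.profiniteCompletion.map
      (GrpCat.ofHom A.subtype)).hom z) = 1} := isClosed_eq (hev.comp hΦ) continuous_const
  have hdense := ProfiniteGrp.ProfiniteCompletion.denseRange (GrpCat.of A)
  have hall : ∀ z, ev ((ProfiniteGrp.profiniteCompletion.map
      (GrpCat.ofHom A.subtype)).hom z) = 1 := by
    intro z
    have hzc : z ∈ closure (Set.range (ProfiniteGrp.ProfiniteCompletion.etaFn (GrpCat.of A))) :=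
      hdense z
    refine (closure_minimal ?_ hclosed) hzc
    rintro _ ⟨a, rfl⟩
    show ev ((ProfiniteGrp.profiniteCompletion.map (GrpCat.ofHom A.subtype)).hom
      (ProfiniteGrp.ProfiniteCompletion.etaFn _ a)) = 1
    have h1 : (ProfiniteGrp.profiniteCompletion.map (GrpCat.ofHom A.subtype)).hom
        (ProfiniteGrp.ProfiniteCompletion.etaFn (GrpCat.of A) a) =
        ProfiniteGrp.ProfiniteCompletion.etaFn (GrpCat.of A') (a : A') := by
      have h2 := ProfiniteGrp.ProfiniteCompletion.lift_eta
        (GrpCat.ofHom A.subtype ≫ ProfiniteGrp.ProfiniteCompletion.eta (GrpCat.of A'))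
      exact ConcreteCategory.congr_hom h2 a
    rw [h1]
    show (QuotientGroup.mk (a : A') : A' ⧸ φ.ker) = 1
    rw [QuotientGroup.eq_one_iff]
    exact hφA a a.2
  have h2 := hall z
  rw [hz] at h2
  have h3 : (QuotientGroup.mk x : A' ⧸ φ.ker) = 1 := h2
  rw [QuotientGroup.eq_one_iff] at h3
  exact hφx h3

open CategoryTheory in
/-- Let A' be a finitely generated abelian group (written multiplicatively, discrete) and A a subgroup.
If the image of x ∈ A' in the profinite completion of A' lies in the image of the profinite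
completion of A under the map induced by the inclusion, then x ∈ A. (The published statement says
that the square formed by the two completion maps and the two inclusions is Cartesian; given the
injectivity of the induced map on completions, which holds here, that amounts to this membership
criterion.) -/
theorem result (A' : Type u) [CommGroup A'] [Group.FG A']
    (A : Subgroup A') (x : A')
    (hx : ProfiniteGrp.ProfiniteCompletion.etaFn (GrpCat.of A') x ∈
      Set.range ⇑(ProfiniteGrp.profiniteCompletion.map (GrpCat.ofHom A.subtype)).hom) :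
    x ∈ A := by
  exact aux A' A x hx

end Groth.Agent.S13958
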