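import Groth.Statements.S1396
import Groth.Agent.Lib.QuasiAffine_helper3
-- import your own Groth.Agent.* helpers here

set_option autoImplicit false
universe u
open FlatMor
open Groth.Agent.Lib.QuasiAffine_helper3 TopologicalSpace

namespace Groth.Agent.S1396

open AlgebraicGeometry CategoryTheory Limits in
/-- (1) ⇔ (4): a morphism f : X → Y is ind-quasi-affine (the preimage of every affine open is a scheme
all of whose quasi-compact opens are quasi-affine) if and only if for every quasi-compact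
quasi-separated open V of Y and every quasi-compact open U of the preimage of V, the induced
morphism U → V is quasi-affine (quasi-compact with quasi-affine preimages of affine opens). -/
theorem result {X Y : Scheme.{u}} (f : X ⟶ Y) :
    MoreMor.IsIndQuasiAffineHom f ↔ ∀ (V : Y.Opens), IsCompact (V : Set ↑Y) → IsQuasiSeparated (V : Set ↑Y) →
      ∀ (U : X.Opens) (hUV : U ≤ f ⁻¹ᵁ V), IsCompact (U : Set ↑X) → MoreMor.IsQuasiAffineHom (f.resLE V U hUV) := by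
  constructor
  · intro hind V hVc hVq U hUV hUc
    have hUcs : CompactSpace (U : Scheme.{u}) := isCompact_iff_compactSpace.mp hUc
    have hVqs : QuasiSeparatedSpace (V : Scheme.{u}) := (isQuasiSeparated_iff_quasiSeparatedSpace _ V.2).mp hVq
    have hqc : QuasiCompact (f.resLE V U hUV) := inferInstance
    refine ⟨hqc, fun W hW => ?_⟩
    have hTc : IsCompact (((f.resLE V U hUV) ⁻¹ᵁ W : (U : Scheme.{u}).Opens) : Set (U : Scheme.{u})) :=
      QuasiCompact.isCompact_preimage (f := f.resLE V U hUV) _ W.2 hW.isCompact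
    have hW' : IsAffineOpen (V.ι ''ᵁ W) := hW.image_of_isOpenImmersion V.ι
    have hind' := hind (V.ι ''ᵁ W) hW'
    have hsub : U.ι ''ᵁ ((f.resLE V U hUV) ⁻¹ᵁ W) ≤ f ⁻¹ᵁ (V.ι ''ᵁ W) := by
      rintro _ ⟨t, ht, rfl⟩
      refine ⟨(f.resLE V U hUV).base t, ht, ?_⟩
      have := congrArg (fun g : (U : Scheme.{u}) ⟶ Y => g.base t) (Scheme.Hom.resLE_comp_ι f hUV)
      simpa using this
    have hsub' : ((U.ι ''ᵁ ((f.resLE V U hUV) ⁻¹ᵁ W) : X.Opens) : Set X) ⊆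
        Set.range (f ⁻¹ᵁ (V.ι ''ᵁ W)).ι := by
      rw [Scheme.Opens.range_ι]; exact hsub
    have hcimg : IsCompact ((U.ι ''ᵁ ((f.resLE V U hUV) ⁻¹ᵁ W) : X.Opens) : Set X) :=
      hTc.image U.ι.continuous
    have hT'c : IsCompact (((f ⁻¹ᵁ (V.ι ''ᵁ W)).ι ⁻¹ᵁ (U.ι ''ᵁ ((f.resLE V U hUV) ⁻¹ᵁ W)) :
        ((f ⁻¹ᵁ (V.ι ''ᵁ W) : X.Opens) : Scheme.{u}).Opens) : Set ((f ⁻¹ᵁ (V.ι ''ᵁ W) : X.Opens) : Scheme.{u})) :=
      (f ⁻¹ᵁ (V.ι ''ᵁ W)).ι.isOpenEmbedding.isInducing.isCompact_preimage' hcimg hsub'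
    have hqa := hind' _ hT'c
    have himg : (f ⁻¹ᵁ (V.ι ''ᵁ W)).ι ''ᵁ ((f ⁻¹ᵁ (V.ι ''ᵁ W)).ι ⁻¹ᵁ (U.ι ''ᵁ ((f.resLE V U hUV) ⁻¹ᵁ W))) =
        U.ι ''ᵁ ((f.resLE V U hUV) ⁻¹ᵁ W) := by
      apply Opens.ext
      exact Set.image_preimage_eq_of_subset hsub'
    have hqa2 : ((U.ι ''ᵁ ((f.resLE V U hUV) ⁻¹ᵁ W) : X.Opens) : Scheme.{u}).IsQuasiAffine := by
      rw [← himg]
      exact Scheme.IsQuasiAffine.of_isAffineHom ((f ⁻¹ᵁ (V.ι ''ᵁ W)).ι.isoImage _).inv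
    exact Scheme.IsQuasiAffine.of_isAffineHom (U.ι.isoImage ((f.resLE V U hUV) ⁻¹ᵁ W)).hom
  · intro H V hV U' hU'
    have hVa : IsAffine (V : Scheme.{u}) := hV
    have hle : (f ⁻¹ᵁ V).ι ''ᵁ U' ≤ f ⁻¹ᵁ V := Scheme.Opens.ι_image_le _ _
    have hUc : IsCompact (((f ⁻¹ᵁ V).ι ''ᵁ U' : X.Opens) : Set X) := hU'.image (f ⁻¹ᵁ V).ι.continuous
    have h := (H V hV.isCompact hV.isQuasiSeparated _ hle hUc).2 ⊤ (isAffineOpen_top (V : Scheme.{u}))
    have h2 : ((⊤ : (((f ⁻¹ᵁ V).ι ''ᵁ U' : X.Opens) : Scheme.{u}).Opens) : Scheme.{u}).IsQuasiAffine := h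
    have h3 : ((((f ⁻¹ᵁ V).ι ''ᵁ U' : X.Opens) : Scheme.{u})).IsQuasiAffine :=
      Scheme.IsQuasiAffine.of_isAffineHom (Scheme.topIso _).inv
    exact Scheme.IsQuasiAffine.of_isAffineHom ((f ⁻¹ᵁ V).ι.isoImage U').hom

end Groth.Agent.S1396
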