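import Groth.Statements.S13963
import Mathlib.Topology.Algebra.Group.OpenMapping
import Mathlib.Topology.Baire.LocallyCompactRegular
import Mathlib.Topology.Compactness.SigmaCompact
import Mathlib.Tactic.Abel

set_option autoImplicit false
universe u
open TateLoc

namespace Groth.Agent.S13963

/-- Let A' → A → A'' be continuous homomorphisms of locally compact, second-countable, Hausdorff abelian
topological groups which form a short exact sequence of abstract groups (the first injective, the
second surjective, image equal to kernel). If A' and A'' are compact, then A is compact. -/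
theorem result (A' A A'' : Type u)
    [AddCommGroup A'] [TopologicalSpace A'] [IsTopologicalAddGroup A'] [SecondCountableTopology A'] [T2Space A']
    [CompactSpace A']
    [AddCommGroup A] [TopologicalSpace A] [IsTopologicalAddGroup A] [LocallyCompactSpace A]
    [SecondCountableTopology A] [T2Space A]
    [AddCommGroup A''] [TopologicalSpace A''] [IsTopologicalAddGroup A''] [SecondCountableTopology A''] [T2Space A'']
    [CompactSpace A'']
    (f : A' →+ A) (g : A →+ A'') (hf : Continuous f) (hg : Continuous g)
    (hinj : Function.Injective f) (hsurj : Function.Surjective g) (hex : g.ker = f.range) :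
    CompactSpace A := by
  have hgo : IsOpenMap g := g.isOpenMap_of_sigmaCompact hsurj hg
  obtain ⟨K, hKc, hK0⟩ := exists_compact_mem_nhds (0 : A)
  have h0int : (0 : A) ∈ interior K := mem_interior_iff_mem_nhds.2 hK0
  obtain ⟨t, ht⟩ := isCompact_univ.elim_finite_subcover
    (fun a : A => g '' ((fun x => a + x) '' interior K))
    (fun a => hgo _ (isOpenMap_add_left a _ isOpen_interior))
    (fun y _ => by
      obtain ⟨a, rfl⟩ := hsurj y
      exact Set.mem_iUnion.2 ⟨a, ⟨a + 0, ⟨0, h0int, rfl⟩, by rw [add_zero]⟩⟩)
  have hpiece : ∀ a : A, IsCompact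
      ((fun p : A × A' => a + p.1 + f p.2) '' (K ×ˢ (Set.univ : Set A'))) := by
    intro a
    apply (hKc.prod isCompact_univ).image
    exact (continuous_const.add continuous_fst).add (hf.comp continuous_snd)
  have hC : IsCompact
      (⋃ a ∈ t, (fun p : A × A' => a + p.1 + f p.2) '' (K ×ˢ (Set.univ : Set A'))) :=
    t.isCompact_biUnion (fun a _ => hpiece a)
  have huniv : (⋃ a ∈ t, (fun p : A × A' => a + p.1 + f p.2) '' (K ×ˢ (Set.univ : Set A'))) =
      Set.univ := by
    apply Set.eq_univ_of_forall
    intro x
    have hx := ht (Set.mem_univ (g x))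
    obtain ⟨a, hat, hxa⟩ := Set.mem_iUnion₂.1 hx
    obtain ⟨_, ⟨k', hk', rfl⟩, hgk⟩ := hxa
    have hker : x - (a + k') ∈ g.ker := by
      rw [AddMonoidHom.mem_ker, map_sub, hgk, sub_self]
    rw [hex] at hker
    obtain ⟨a', ha'⟩ := hker
    refine Set.mem_iUnion₂.2 ⟨a, hat, ⟨(k', a'), ⟨interior_subset hk', Set.mem_univ _⟩, ?_⟩⟩
    show a + k' + f a' = x
    rw [ha']
    abel
  rw [← isCompact_univ_iff, ← huniv]
  exact hC

end Groth.Agent.S13963
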