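import Groth.Statements.S1397
import Groth.Agent.Lib.QAff2_helper3
-- import your own Groth.Agent.* helpers here

set_option autoImplicit false
universe u
open FlatMor
open AlgebraicGeometry CategoryTheory

namespace Groth.Agent.S1397

open AlgebraicGeometry CategoryTheory Limits in
/-- Ind-quasi-affine morphisms are stable under composition. -/
theorem result {X Y Z : Scheme.{u}} (f : X ⟶ Y) (g : Y ⟶ Z) (hf : MoreMor.IsIndQuasiAffineHom f) (hg : MoreMor.IsIndQuasiAffineHom g) :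
    MoreMor.IsIndQuasiAffineHom (f ≫ g) := by
  classical
  rw [Groth.Agent.Lib.QAff2_helper3.isIndQuasiAffineHom_iff] at hf hg ⊢
  intro W hW A hAW hA
  have hcov : ∀ y : Y, y ∈ g ⁻¹ᵁ W → ∃ V : Y.Opens, IsAffineOpen V ∧ y ∈ V ∧ V ≤ g ⁻¹ᵁ W := by
    intro y hy
    obtain ⟨_, ⟨V₀, hV₀, rfl⟩, hyV₀, hV₀W⟩ :=
      Y.isBasis_affineOpens.exists_subset_of_mem_open hy (g ⁻¹ᵁ W).2
    exact ⟨V₀, hV₀, hyV₀, hV₀W⟩
  choose! Vf hVf_aff hVf_mem hVf_le using hcov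
  have hfA : IsCompact (f '' (A : Set X)) := hA.image f.continuous
  obtain ⟨t, htsub, htfin, ht⟩ := hfA.elim_finite_subcover_image
    (b := f '' (A : Set X)) (c := fun y => ((Vf y : Y.Opens) : Set Y))
    (fun y _ => (Vf y).2) (by
      rintro _ ⟨a, ha, rfl⟩
      exact Set.mem_biUnion (Set.mem_image_of_mem _ ha) (hVf_mem _ (hAW ha)))
  let V' : Y.Opens := ⨆ y ∈ t, Vf y
  have hV'coe : (V' : Set Y) = ⋃ y ∈ t, ((Vf y : Y.Opens) : Set Y) := by
    simp [V']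
  have hV'c : IsCompact (V' : Set Y) := by
    rw [hV'coe]
    exact htfin.isCompact_biUnion fun y hy => by
      obtain ⟨a, ha, rfl⟩ := htsub hy
      exact (hVf_aff _ (hAW ha)).isCompact
  have hV'le : V' ≤ g ⁻¹ᵁ W := by
    refine iSup₂_le fun y hy => ?_
    obtain ⟨a, ha, rfl⟩ := htsub hy
    exact hVf_le _ (hAW ha)
  haveI hV'qa : (V' : Scheme.{u}).IsQuasiAffine := hg W hW V' hV'le hV'c
  have hAV' : A ≤ f ⁻¹ᵁ V' := by
    intro a ha
    have : f a ∈ ⋃ y ∈ t, ((Vf y : Y.Opens) : Set Y) := ht (Set.mem_image_of_mem _ ha)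
    rw [← hV'coe] at this
    exact this
  refine Groth.Agent.Lib.QAff2_helper3.isQuasiAffine_of_forall_exists_section f V' A hAV' hA ?_
  intro x hxA
  let v : (V' : Scheme.{u}) := ⟨f x, hAV' hxA⟩
  obtain ⟨_, ⟨_, ⟨r, hr, rfl⟩, rfl⟩, hvr, -⟩ :=
    (Scheme.IsQuasiAffine.isBasis_basicOpen (V' : Scheme.{u})).exists_subset_of_mem_open
      (Set.mem_univ v) isOpen_univ
  refine ⟨r, ⟨v, hvr, rfl⟩, ?_⟩
  intro B hBA hBf hB
  exact hf (V'.ι ''ᵁ ((V' : Scheme.{u}).basicOpen r)) (hr.image_of_isOpenImmersion V'.ι) B hBf hB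

end Groth.Agent.S1397
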