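import Groth.Statements.S13981
import Groth.Agent.Lib.ArtFunInd_helper1
import Groth.Agent.Lib.ArtFunFormal_helper1
import Groth.Prelude.Def_W4sfdMinVersal

set_option autoImplicit false
universe u v
open CategoryTheory
open ArtFun

namespace Groth.Agent.S13981

open Groth.Agent.Lib.ArtFunH1 ArtFun.Art in
theorem map_maximalIdeal_eq {Λ : Type u} {k : Type u} [CommRing Λ] [Field k] [Algebra Λ k]
    (A' A : ArtFun.CRing Λ k) (g : A'.carrier →ₐ[Λ] A.carrier) (hg : A.res.comp g = A'.res)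
    (hgs : Function.Surjective g) :
    Ideal.map g (IsLocalRing.maximalIdeal A'.carrier) = IsLocalRing.maximalIdeal A.carrier := by
  apply le_antisymm
  · rw [Ideal.map_le_iff_le_comap]
    exact ArtFun.CRing.maximalIdeal_le_comap g hg
  · intro a ha
    obtain ⟨a', rfl⟩ := hgs a
    apply Ideal.mem_map_of_mem
    rw [ArtFun.CRing.mem_maximalIdeal_iff, ← ArtFun.CRing.res_comp_apply g hg]
    exact (ArtFun.CRing.mem_maximalIdeal_iff A _).1 ha

open Groth.Agent.Lib.ArtFunH1 ArtFun.Art in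
theorem truncMapOfHom_surjective {Λ : Type u} {k : Type u} [CommRing Λ] [Field k] [Algebra Λ k]
    (A' A : ArtFun.CRing Λ k) (g : A'.carrier →ₐ[Λ] A.carrier) (hg : A.res.comp g = A'.res)
    (hgs : Function.Surjective g) (n : ℕ) :
    Function.Surjective (ArtFun.CRing.truncMapOfHom g hg n) := by
  intro x
  obtain ⟨a, rfl⟩ := Ideal.Quotient.mk_surjective x
  obtain ⟨a', rfl⟩ := hgs a
  exact ⟨Ideal.Quotient.mk _ a', rfl⟩

theorem truncMap_surjective {Λ : Type u} {k : Type u} [CommRing Λ] [Field k] [Algebra Λ k]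
    (A : ArtFun.CRing Λ k) (n : ℕ) : Function.Surjective (A.truncMap n) := by
  intro y
  obtain ⟨a, rfl⟩ := Ideal.Quotient.mk_surjective y
  exact ⟨Ideal.Quotient.mk _ a, rfl⟩

open Groth.Agent.Lib.ArtFunH1 ArtFun.Art in
/-- The map `A'_{n+1} → A'_n ×_{A_n} A_{n+1}` is surjective. -/
theorem exists_pi {Λ : Type u} {k : Type u} [CommRing Λ] [Field k] [Algebra Λ k]
    [IsNoetherianRing Λ] [Module.Finite Λ k]
    (A' A : ArtFun.CRing Λ k) (g : A'.carrier →ₐ[Λ] A.carrier) (hg : A.res.comp g = A'.res)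
    (hgs : Function.Surjective g) (n : ℕ) :
    ∃ (C : ArtFun.Art Λ k) (q₁ : C ⟶ A'.trunc n) (q₂ : C ⟶ A.trunc (n + 1))
      (π : A'.trunc (n + 1) ⟶ C),
      ArtFun.Art.IsFibreProd q₁ q₂ (ArtFun.CRing.truncMapOfHom g hg n) (A.truncMap n) ∧
      π ≫ q₁ = A'.truncMap n ∧ π ≫ q₂ = ArtFun.CRing.truncMapOfHom g hg (n + 1) ∧
      Function.Surjective π := by
  obtain ⟨C, q₁, q₂, hC⟩ := exists_isFibreProd (ArtFun.CRing.truncMapOfHom g hg n) (A.truncMap n)
    (truncMap_surjective A n)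
  obtain ⟨π, hπ1, hπ2⟩ := Art.exists_lift_fibreProd hC (A'.truncMap n)
    (ArtFun.CRing.truncMapOfHom g hg (n + 1)) (ArtFun.CRing.truncMapOfHom_truncMap g hg n).symm
  refine ⟨C, q₁, q₂, π, hC, hπ1, hπ2, ?_⟩
  intro c
  obtain ⟨a', ha'⟩ := Ideal.Quotient.mk_surjective (q₁ c)
  obtain ⟨a, ha⟩ := Ideal.Quotient.mk_surjective (q₂ c)
  have hc := hC.w_apply c
  rw [← ha', ← ha] at hc
  have hc' : Ideal.Quotient.mk (ArtFun.CRing.mpow A n) (g a') =
      Ideal.Quotient.mk (ArtFun.CRing.mpow A n) a := hc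
  rw [Ideal.Quotient.eq] at hc'
  have hmap : Ideal.map g (ArtFun.CRing.mpow A' n) = ArtFun.CRing.mpow A n := by
    unfold ArtFun.CRing.mpow
    rw [Ideal.map_pow, map_maximalIdeal_eq A' A g hg hgs]
  rw [← hmap] at hc'
  obtain ⟨κ, hκ, hκg⟩ := (Ideal.mem_map_iff_of_surjective g hgs).1 hc'
  refine ⟨Ideal.Quotient.mk _ (a' - κ), ?_⟩
  apply hC.inj
  · have e1 : q₁ (π (Ideal.Quotient.mk _ (a' - κ))) = A'.truncMap n (Ideal.Quotient.mk _ (a' - κ)) :=
      congrArg (fun w : A'.trunc (n + 1) ⟶ A'.trunc n => w (Ideal.Quotient.mk _ (a' - κ))) hπ1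
    rw [e1, ← ha']
    show Ideal.Quotient.mk (ArtFun.CRing.mpow A' n) (a' - κ) = Ideal.Quotient.mk _ a'
    rw [Ideal.Quotient.eq]
    have : a' - κ - a' = -κ := by ring
    rw [this]
    exact Ideal.neg_mem_iff _ |>.2 hκ
  · have e2 : q₂ (π (Ideal.Quotient.mk _ (a' - κ))) =
        ArtFun.CRing.truncMapOfHom g hg (n + 1) (Ideal.Quotient.mk _ (a' - κ)) :=
      congrArg (fun w : A'.trunc (n + 1) ⟶ A.trunc (n + 1) => w (Ideal.Quotient.mk _ (a' - κ))) hπ2
    rw [e2, ← ha]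
    show Ideal.Quotient.mk (ArtFun.CRing.mpow A (n + 1)) (g (a' - κ)) = Ideal.Quotient.mk _ a
    rw [map_sub, hκg]
    congr 1
    ring


/-- Let F be a functor on Artinian local Λ-algebras with residue field k (Λ Noetherian, Λ → k finite and
surjective) satisfying (RS) — the comparison map for A₁ ×_A A₂ is bijective whenever A₂ → A is
surjective — and let ξ be a versal family of F over a complete local Noetherian Λ-algebra R with
residue field k. Then the lifting property defining versality also holds along surjections of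
complete local Noetherian algebras: if g : A' → A is such a surjection, η' is a formal element of F
over A' (a compatible system over the truncations A'/m^(n+1)) and φ : R → A is a map under which the
formal element of ξ becomes the pushforward of η' along g, then φ lifts to ψ : R → A' with g ∘ ψ = φ
and with ξ inducing η' along ψ. (The published statement takes Λ complete local Noetherian with
residue field k; its proof does not use completeness of Λ, and this row assumes only Λ Noetherian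
with Λ → k surjective.) -/
theorem result {Λ : Type u} {k : Type u} [CommRing Λ] [Field k]
    [Algebra Λ k] [IsNoetherianRing Λ] [Module.Finite Λ k] (hΛ : Function.Surjective (algebraMap Λ k))
    {F : ArtFun.Art Λ k ⥤ Type v}
    (hRS : ∀ ⦃B A A₁ A₂ : ArtFun.Art Λ k⦄ (p₁ : B ⟶ A₁) (p₂ : B ⟶ A₂) (f₁ : A₁ ⟶ A) (f₂ : A₂ ⟶ A)
        (h : ArtFun.Art.IsFibreProd p₁ p₂ f₁ f₂), Function.Surjective f₂ → Function.Bijective (ArtFun.cmp F h))
    (R : ArtFun.CRing Λ k) (ξ : ArtFun.Family R.carrier R.res F) (hξ : ArtFun.IsVersal ξ)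
    (A' A : ArtFun.CRing Λ k) (g : A'.carrier →ₐ[Λ] A.carrier) (hg : A.res.comp g = A'.res)
    (hgs : Function.Surjective g) (η' : ArtFun.FormalElt F A')
    (φ : R.carrier →ₐ[Λ] A.carrier) (hφ : A.res.comp φ = R.res)
    (hsq : (ξ.along φ hφ).toFormalElt = η'.push g hg) :
    ∃ (ψ : R.carrier →ₐ[Λ] A'.carrier) (hψ : A'.res.comp ψ = R.res),
      g.comp ψ = φ ∧ (ξ.along ψ hψ).toFormalElt = η' := by
  open Groth.Agent.Lib.ArtFunH1 ArtFun.Art in
  -- the truncations of φ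
  let φn : ∀ n, ArtFun.HomSet R.carrier R.res (A.trunc n) := fun n =>
    ⟨(A.truncHom n).1.comp φ, by rw [← AlgHom.comp_assoc, (A.truncHom n).2, hφ]⟩
  have hφn : ∀ n, ξ.app _ (φn n) = F.map (ArtFun.CRing.truncMapOfHom g hg n) (η'.elt n) :=
    fun n => congrArg (fun w => w.elt n) hsq
  have hφt : ∀ n, ArtFun.HomSet.map (A.truncMap n) (φn (n + 1)) = φn n := fun n =>
    Subtype.ext (AlgHom.ext fun _ => rfl)
  -- base step
  have base : ∃ ψ₀ : ArtFun.HomSet R.carrier R.res (A'.trunc 0),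
      ξ.app _ ψ₀ = η'.elt 0 ∧ ArtFun.HomSet.map (ArtFun.CRing.truncMapOfHom g hg 0) ψ₀ = φn 0 := by
    obtain ⟨ψ₀, h1, h2⟩ := hξ (ArtFun.CRing.truncMapOfHom g hg 0)
      (truncMapOfHom_surjective A' A g hg hgs 0) (φn 0) (η'.elt 0) (hφn 0).symm
    exact ⟨ψ₀, h2, h1⟩
  -- inductive step
  have step : ∀ (n : ℕ) (ψn : ArtFun.HomSet R.carrier R.res (A'.trunc n)),
      ξ.app _ ψn = η'.elt n → ArtFun.HomSet.map (ArtFun.CRing.truncMapOfHom g hg n) ψn = φn n →
      ∃ ψ' : ArtFun.HomSet R.carrier R.res (A'.trunc (n + 1)),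
        ArtFun.HomSet.map (A'.truncMap n) ψ' = ψn ∧ ξ.app _ ψ' = η'.elt (n + 1) ∧
        ArtFun.HomSet.map (ArtFun.CRing.truncMapOfHom g hg (n + 1)) ψ' = φn (n + 1) := by
    intro n ψn hb hc
    obtain ⟨C, q₁, q₂, π, hC, hπ1, hπ2, hπs⟩ := exists_pi A' A g hg hgs n
    obtain ⟨χ, hχ1, hχ2⟩ := HomSet.exists_lift_fibreProd hC ψn (φn (n + 1)) (by rw [hc, hφt])
    have hy : F.map π (η'.elt (n + 1)) = ξ.app _ χ := by
      apply (cmp_injective_iff hC).1 (hRS q₁ q₂ _ _ hC (truncMap_surjective A n)).1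
      · rw [← map_comp_apply, hπ1, η'.compat, ← ξ.natural, hχ1, hb]
      · rw [← map_comp_apply, hπ2, ← ξ.natural, hχ2, hφn]
    obtain ⟨ψ', h1, h2⟩ := hξ π hπs χ (η'.elt (n + 1)) hy
    refine ⟨ψ', ?_, h2, ?_⟩
    · rw [← hχ1, ← h1, ← hπ1]
      rfl
    · rw [← hχ2, ← h1, ← hπ2]
      rfl
  -- the recursion
  let seq : ∀ n : ℕ, {ψ : ArtFun.HomSet R.carrier R.res (A'.trunc n) //
      ξ.app _ ψ = η'.elt n ∧ ArtFun.HomSet.map (ArtFun.CRing.truncMapOfHom g hg n) ψ = φn n} :=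
    fun n => Nat.rec
      (motive := fun n => {ψ : ArtFun.HomSet R.carrier R.res (A'.trunc n) //
        ξ.app _ ψ = η'.elt n ∧ ArtFun.HomSet.map (ArtFun.CRing.truncMapOfHom g hg n) ψ = φn n})
      ⟨base.choose, base.choose_spec⟩
      (fun n prev => ⟨(step n prev.1 prev.2.1 prev.2.2).choose,
        (step n prev.1 prev.2.1 prev.2.2).choose_spec.2⟩) n
  have hseq : ∀ n, ArtFun.HomSet.map (A'.truncMap n) (seq (n + 1)).1 = (seq n).1 := fun n =>
    (step n (seq n).1 (seq n).2.1 (seq n).2.2).choose_spec.1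
  obtain ⟨ψ, hψ, hψn⟩ := exists_algHom_of_compatible A' (fun n => (seq n).1) hseq
  refine ⟨ψ, hψ, ?_, ?_⟩
  · apply AlgHom.ext
    intro r
    show g (ψ r) = φ r
    rw [← sub_eq_zero]
    apply eq_zero_of_forall_mem_mpow A
    intro n
    rw [← Ideal.Quotient.eq]
    have h1 : (seq n).1.1 r = Ideal.Quotient.mk _ (ψ r) :=
      (congrArg (fun w : ArtFun.HomSet R.carrier R.res (A'.trunc n) => w.1 r) (hψn n)).symm
    have h2 : ArtFun.CRing.truncMapOfHom g hg n ((seq n).1.1 r) = (φn n).1 r :=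
      congrArg (fun w : ArtFun.HomSet R.carrier R.res (A.trunc n) => w.1 r) (seq n).2.2
    rw [h1] at h2
    exact h2
  · apply ArtFun.FormalElt.ext'
    intro n
    show ξ.app _ _ = η'.elt n
    rw [← (seq n).2.1, ← hψn n]

end Groth.Agent.S13981
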