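import Groth.Statements.S1399
import Groth.Agent.Lib.QAff2_helper3
-- import your own Groth.Agent.* helpers here

set_option autoImplicit false
universe u
open FlatMor
open AlgebraicGeometry CategoryTheory

namespace Groth.Agent.S1399

open AlgebraicGeometry CategoryTheory Limits in
/-- If g ∘ f is ind-quasi-affine then so is f. -/
theorem result {X Y Z : Scheme.{u}} (f : X ⟶ Y) (g : Y ⟶ Z) (h : MoreMor.IsIndQuasiAffineHom (f ≫ g)) :
    MoreMor.IsIndQuasiAffineHom f := by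
  classical
  rw [Groth.Agent.Lib.QAff2_helper3.isIndQuasiAffineHom_iff] at h ⊢
  intro V hV A hAV hA
  refine Groth.Agent.Lib.QAff2_helper3.isQuasiAffine_of_forall_exists_section f V A hAV hA ?_
  intro x hxA
  obtain ⟨_, ⟨W₀, hW₀, rfl⟩, hzW₀, -⟩ :=
    Z.isBasis_affineOpens.exists_subset_of_mem_open (Set.mem_univ (g (f x))) isOpen_univ
  obtain ⟨W, hW, hzW⟩ : ∃ W : Z.Opens, IsAffineOpen W ∧ g (f x) ∈ W := ⟨W₀, hW₀, hzW₀⟩
  haveI : IsAffine (V : Scheme.{u}) := hV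
  let O : (V : Scheme.{u}).Opens := V.ι ⁻¹ᵁ (g ⁻¹ᵁ W)
  let v : (V : Scheme.{u}) := ⟨f x, hAV hxA⟩
  have hv : v ∈ O := hzW
  obtain ⟨_, ⟨_, ⟨r, rfl⟩, rfl⟩, hvr, hrO⟩ :=
    (isBasis_basicOpen (V : Scheme.{u})).exists_subset_of_mem_open hv O.2
  refine ⟨r, ⟨v, hvr, rfl⟩, ?_⟩
  intro B hBA hBf hB
  refine h W hW B ?_ hB
  intro b hb
  obtain ⟨v', hv', hv'b⟩ := hBf hb
  have h1 : v' ∈ O := hrO hv'
  show (f ≫ g) b ∈ W
  rw [Scheme.Hom.comp_apply, ← hv'b]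
  exact h1

end Groth.Agent.S1399
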