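import Groth.Statements.S13991
import Groth.Agent.Lib.CohDev8_helper8
import Groth.Agent.Lib.SupportCoh_helper9

set_option autoImplicit false
universe u
open CategoryTheory AlgebraicGeometry
open CohGab

namespace Groth.Agent.S13991

/-- Let X be a Noetherian scheme and Z ⊆ X a closed subset. Then Z is irreducible (or empty) if and only
if Coh_Z(X), the coherent O_X-modules supported in Z, is an irreducible Serre subcategory of Coh(X),
i.e. it is not generated as a Serre subcategory by two Serre subcategories properly contained in it: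
whenever J₁, J₂ are Serre classes on coherent modules (middle term of a short exact sequence of
coherent modules belongs iff both outer terms do), both contained in Coh_Z, such that every Serre
class on coherent modules containing J₁ and J₂ contains Coh_Z, then J₁ or J₂ contains Coh_Z.
Consequently the points of X correspond to the irreducible Serre subcategories of finite type other
than the zero subcategory. (The published statement says 'Z is irreducible iff Coh_Z is irreducible'
and deduces a bijection between the points of X and all irreducible Serre subcategories of finite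
type; the zero subcategory Coh_∅ is irreducible in this sense while ∅ is not an irreducible space,
so irreducibility of Z is read here as 'irreducible or empty'. The published statement is also about
coherent sheaves twisted by a class in the second etale cohomology group of the units of the
structure sheaf; this row is its case of the trivial class.) -/
theorem result (X : Scheme.{u}) [IsNoetherian X]
    (Z : TopologicalSpace.Closeds X) :
    IsPreirreducible (↑Z : Set X) ↔
    ∀ J₁ J₂ : ObjectProperty X.Modules, (∀ S : ShortComplex X.Modules, S.ShortExact → Coh.IsCoh S.X₁ → Coh.IsCoh S.X₂ →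
        Coh.IsCoh S.X₃ → (J₁ S.X₂ ↔ J₁ S.X₁ ∧ J₁ S.X₃)) → (∀ S : ShortComplex X.Modules, S.ShortExact → Coh.IsCoh S.X₁ → Coh.IsCoh S.X₂ →
        Coh.IsCoh S.X₃ → (J₂ S.X₂ ↔ J₂ S.X₁ ∧ J₂ S.X₃)) →
      (∀ M : X.Modules, Coh.IsCoh M → J₁ M → CohB1.support M ⊆ (↑Z : Set X)) →
      (∀ M : X.Modules, Coh.IsCoh M → J₂ M → CohB1.support M ⊆ (↑Z : Set X)) →
      (∀ Q : ObjectProperty X.Modules, (∀ S : ShortComplex X.Modules, S.ShortExact → Coh.IsCoh S.X₁ → Coh.IsCoh S.X₂ →
        Coh.IsCoh S.X₃ → (Q S.X₂ ↔ Q S.X₁ ∧ Q S.X₃)) →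
        (∀ M : X.Modules, Coh.IsCoh M → J₁ M → Q M) → (∀ M : X.Modules, Coh.IsCoh M → J₂ M → Q M) →
        ∀ M : X.Modules, Coh.IsCoh M → CohB1.support M ⊆ (↑Z : Set X) → Q M) →
      (∀ M : X.Modules, Coh.IsCoh M → CohB1.support M ⊆ (↑Z : Set X) → J₁ M) ∨
        (∀ M : X.Modules, Coh.IsCoh M → CohB1.support M ⊆ (↑Z : Set X) → J₂ M) := by
  constructor
  · intro hirr J₁ J₂ h1 h2 hJ1Z hJ2Z hgen
    by_contra hcon
    rw [not_or] at hcon
    have c1 : ∀ M : X.Modules, Coh.IsCoh M → J₁ M → ¬ ((Z : Set X) ⊆ CohB1.support M) :=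
      fun M hM hJ hZM => hcon.1 (fun M' hM' hM'Z =>
        CohDevH8.serre_class J₁ h1 hM hJ hM' (hM'Z.trans hZM))
    have c2 : ∀ M : X.Modules, Coh.IsCoh M → J₂ M → ¬ ((Z : Set X) ⊆ CohB1.support M) :=
      fun M hM hJ hZM => hcon.2 (fun M' hM' hM'Z =>
        CohDevH8.serre_class J₂ h2 hM hJ hM' (hM'Z.trans hZM))
    have hirr' := isPreirreducible_iff_isClosed_union_isClosed.mp hirr
    have hQ : ∀ S : ShortComplex X.Modules, S.ShortExact → Coh.IsCoh S.X₁ → Coh.IsCoh S.X₂ →
        Coh.IsCoh S.X₃ →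
        ((CohB1.support S.X₂ ⊆ (Z : Set X) ∧ ¬ ((Z : Set X) ⊆ CohB1.support S.X₂)) ↔
          (CohB1.support S.X₁ ⊆ (Z : Set X) ∧ ¬ ((Z : Set X) ⊆ CohB1.support S.X₁)) ∧
          (CohB1.support S.X₃ ⊆ (Z : Set X) ∧ ¬ ((Z : Set X) ⊆ CohB1.support S.X₃))) := by
      intro S hS k1 k2 k3
      haveI := k1.1
      haveI := k1.2
      haveI := k2.1
      haveI := k3.1
      haveI := k3.2
      have hs := SupportCoh.support_shortExact S hS
      rw [hs, Set.union_subset_iff]
      constructor
      · rintro ⟨⟨a1, a3⟩, hn⟩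
        exact ⟨⟨a1, fun h => hn (h.trans Set.subset_union_left)⟩,
          ⟨a3, fun h => hn (h.trans Set.subset_union_right)⟩⟩
      · rintro ⟨⟨a1, n1⟩, ⟨a3, n3⟩⟩
        refine ⟨⟨a1, a3⟩, fun h => ?_⟩
        rcases hirr' _ _ (SupportCoh.isClosed_support S.X₁) (SupportCoh.isClosed_support S.X₃) h
          with h' | h'
        · exact n1 h'
        · exact n3 h'
    obtain ⟨F, hF, hs⟩ := CohDevH8.exists_isCoh_support_eq Z
    have := hgen (fun M => CohB1.support M ⊆ (Z : Set X) ∧ ¬ ((Z : Set X) ⊆ CohB1.support M)) hQ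
      (fun M hM hJ => ⟨hJ1Z M hM hJ, c1 M hM hJ⟩) (fun M hM hJ => ⟨hJ2Z M hM hJ, c2 M hM hJ⟩)
      F hF hs.le
    exact this.2 hs.ge
  · intro h
    rw [isPreirreducible_iff_isClosed_union_isClosed]
    intro z₁ z₂ hz₁ hz₂ hsub
    have hgen : ∀ Q : ObjectProperty X.Modules,
        (∀ S : ShortComplex X.Modules, S.ShortExact → Coh.IsCoh S.X₁ → Coh.IsCoh S.X₂ →
          Coh.IsCoh S.X₃ → (Q S.X₂ ↔ Q S.X₁ ∧ Q S.X₃)) →
        (∀ M : X.Modules, Coh.IsCoh M → CohB1.support M ⊆ (Z : Set X) ∩ z₁ → Q M) →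
        (∀ M : X.Modules, Coh.IsCoh M → CohB1.support M ⊆ (Z : Set X) ∩ z₂ → Q M) →
        ∀ M : X.Modules, Coh.IsCoh M → CohB1.support M ⊆ (Z : Set X) → Q M := by
      intro Q hQ q1 q2 M hM hMZ
      exact CohDevH8.serre_of_union Q hQ hM z₁ z₂ hz₁ hz₂ (hMZ.trans hsub)
        (fun N hN hs => q1 N hN (hs.trans (Set.inter_subset_inter_left _ hMZ)))
        (fun N hN hs => q2 N hN (hs.trans (Set.inter_subset_inter_left _ hMZ)))
    obtain ⟨F, hF, hs⟩ := CohDevH8.exists_isCoh_support_eq Z
    rcases h (fun M => CohB1.support M ⊆ (Z : Set X) ∩ z₁)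
      (fun M => CohB1.support M ⊆ (Z : Set X) ∩ z₂)
      (CohDevH8.serre_support _) (CohDevH8.serre_support _)
      (fun M _ hJ => hJ.trans Set.inter_subset_left)
      (fun M _ hJ => hJ.trans Set.inter_subset_left) hgen with hl | hr
    · left
      exact (hs.ge.trans (hl F hF hs.le)).trans Set.inter_subset_right
    · right
      exact (hs.ge.trans (hr F hF hs.le)).trans Set.inter_subset_right

end Groth.Agent.S13991
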