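import Groth.Statements.S13995
import Mathlib

set_option autoImplicit false
universe u
open CAlg

namespace Groth.Agent.S13995

theorem aux (R : Type u) [CommRing R] [IsNoetherianRing R] [IsReduced R] (M : Type u) [AddCommGroup M] [Module R M] [Module.Finite R M] (hM : associatedPrimes R M ⊆ minimalPrimes R) (hrk : ∀ p : PrimeSpectrum R, p.asIdeal ∈ minimalPrimes R → Module.finrank (Localization.AtPrime p.asIdeal) (LocalizedModule p.asIdeal.primeCompl M) = 1) (Q : Type u) [AddCommGroup Q] [Module R Q] [Module.Finite R Q] (hQ : associatedPrimes R Q ⊆ minimalPrimes R) (g : M →ₗ[R] Q) (hg : Function.Surjective g) : LinearMap.ker g = ⨅ p ∈ {p : PrimeSpectrum R | p.asIdeal ∈ minimalPrimes R ∧ p ∈ Module.support R Q}, LinearMap.ker (LocalizedModule.mkLinearMap p.asIdeal.primeCompl M) := by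
  apply le_antisymm
  · refine le_iInf₂ fun p hp => ?_
    obtain ⟨hpmin, hpsupp⟩ := hp
    intro m hm
    rw [LinearMap.mem_ker] at hm ⊢
    haveI : Ring.KrullDimLE 0 (Localization.AtPrime p.asIdeal) := .of_isLocalization _ hpmin _
    letI : Field (Localization.AtPrime p.asIdeal) := Ring.KrullDimLE.isField_of_isReduced.toField
    have hrk1 : Module.finrank (Localization.AtPrime p.asIdeal)
        (LocalizedModule p.asIdeal.primeCompl M) = 1 := hrk p hpmin
    let gp := LocalizedModule.map p.asIdeal.primeCompl g
    have hsurj : Function.Surjective gp := LocalizedModule.map_surjective _ g hg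
    haveI : Nontrivial (LocalizedModule p.asIdeal.primeCompl Q) := Module.mem_support_iff.mp hpsupp
    haveI : Module.Finite (Localization.AtPrime p.asIdeal)
        (LocalizedModule p.asIdeal.primeCompl M) :=
      Module.finite_of_finrank_pos (by rw [hrk1]; exact one_pos)
    haveI : Module.Finite (Localization.AtPrime p.asIdeal)
        (LocalizedModule p.asIdeal.primeCompl Q) := Module.Finite.of_surjective gp hsurj
    have hdim : Module.finrank (Localization.AtPrime p.asIdeal) (LinearMap.range gp) +
        Module.finrank (Localization.AtPrime p.asIdeal) (LinearMap.ker gp) =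
        Module.finrank (Localization.AtPrime p.asIdeal)
          (LocalizedModule p.asIdeal.primeCompl M) := LinearMap.finrank_range_add_finrank_ker gp
    rw [hrk1, LinearMap.range_eq_top.mpr hsurj, finrank_top] at hdim
    have hpos : 0 < Module.finrank (Localization.AtPrime p.asIdeal)
        (LocalizedModule p.asIdeal.primeCompl Q) := Module.finrank_pos
    have hker : Module.finrank (Localization.AtPrime p.asIdeal) (LinearMap.ker gp) = 0 := by omega
    have hbot : LinearMap.ker gp = ⊥ := Submodule.finrank_eq_zero.mp hker
    have hm' : LocalizedModule.mkLinearMap p.asIdeal.primeCompl M m ∈ LinearMap.ker gp := by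
      rw [LinearMap.mem_ker, LocalizedModule.mkLinearMap_apply]
      show LocalizedModule.map p.asIdeal.primeCompl g (LocalizedModule.mk m 1) = 0
      rw [LocalizedModule.map_mk, hm, LocalizedModule.zero_mk]
    rw [hbot] at hm'
    exact hm'
  · intro m hm
    rw [LinearMap.mem_ker]
    by_contra hne
    obtain ⟨P, hP, hle⟩ := exists_le_isAssociatedPrime_of_isNoetherianRing R (g m) hne
    have hPmin : P ∈ minimalPrimes R := hQ hP
    have hPprime : P.IsPrime := hP.isPrime
    obtain ⟨-, q, hq⟩ := isAssociatedPrime_iff.mp hP
    have hsupp : (⟨P, hPprime⟩ : PrimeSpectrum R) ∈ Module.support R Q := by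
      rw [Module.mem_support_iff_exists_annihilator]
      refine ⟨q, ?_⟩
      intro r hr
      rw [Submodule.mem_annihilator_span_singleton] at hr
      show r ∈ P
      rw [hq, Submodule.mem_colon_singleton, hr]
      exact Submodule.zero_mem _
    have hmp : m ∈ LinearMap.ker (LocalizedModule.mkLinearMap P.primeCompl M) :=
      (Submodule.mem_iInf _).mp ((Submodule.mem_iInf _).mp hm ⟨P, hPprime⟩) ⟨hPmin, hsupp⟩
    obtain ⟨s, hsP, hs⟩ := LocalizedModule.mem_ker_mkLinearMap_iff.mp hmp
    apply hsP
    apply hle
    rw [Submodule.mem_colon_singleton, ← map_smul, hs, map_zero]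
    exact Submodule.zero_mem _

/-- Let R be a reduced Noetherian ring, M a finitely generated R-module all of whose associated primes
are minimal primes of R and whose localization at each minimal prime p is one-dimensional over the
field R_p, and let g : M → Q be a surjection onto a finitely generated R-module Q all of whose
associated primes are minimal primes of R. Then the kernel of g is the intersection, over the
minimal primes p of R lying in the support of Q, of the kernels of the localization maps M → M_p.
(The published statement is for a torsion-free coherent sheaf F of uniform rank one on a reduced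
connected projective curve over a characteristic-zero algebraically closed field: its non-zero
torsion-free quotients are exactly the maximal torsion-free quotients F_D of the restrictions of F
to subcurves D; this row is the corresponding statement for modules over a reduced Noetherian ring,
a subcurve being a set of minimal primes, and identifies each torsion-free quotient with F_D for D
the set of generic points of its support.) -/
theorem result (R : Type u) [CommRing R] [IsNoetherianRing R] [IsReduced R] (M : Type u) [AddCommGroup M] [Module R M] [Module.Finite R M] (hM : associatedPrimes R M ⊆ minimalPrimes R) (hrk : ∀ p : PrimeSpectrum R, p.asIdeal ∈ minimalPrimes R → Module.finrank (Localization.AtPrime p.asIdeal) (LocalizedModule p.asIdeal.primeCompl M) = 1) (Q : Type u) [AddCommGroup Q] [Module R Q] [Module.Finite R Q] (hQ : associatedPrimes R Q ⊆ minimalPrimes R) (g : M →ₗ[R] Q) (hg : Function.Surjective g) : LinearMap.ker g = ⨅ p ∈ {p : PrimeSpectrum R | p.asIdeal ∈ minimalPrimes R ∧ p ∈ Module.support R Q}, LinearMap.ker (LocalizedModule.mkLinearMap p.asIdeal.primeCompl M) := by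
  exact aux R M hM hrk Q hQ g hg

end Groth.Agent.S13995
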