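import Groth.Statements.S13996
import Mathlib

set_option autoImplicit false
universe u
open CAlg

namespace Groth.Agent.S13996

/-- Let R be a reduced Noetherian local ring of Krull dimension one with maximal ideal m, and M a
non-zero finitely generated R-module. Then M is torsion-free in the sense that no element of m which
is a non-zero-divisor on R is a zero-divisor on M, if and only if M has depth one, i.e. some element
of m is a non-zero-divisor on M. (The published statement is for a non-zero coherent sheaf F on a
connected reduced projective curve over a characteristic-zero algebraically closed field and asserts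
the equivalence of: F torsion-free in the above sense at every closed point; F pure of dimension
one; depth of F_p equal to one at every closed point p. This row is the equivalence of the first and
third conditions at a single closed point p with F_p ≠ 0; at points outside the support the third
condition as published cannot hold, so the row assumes the stalk non-zero.) -/
theorem result (R : Type u) [CommRing R] [IsLocalRing R] [IsNoetherianRing R] [IsReduced R] (hdim : ringKrullDim R = 1) (M : Type u) [AddCommGroup M] [Module R M] [Module.Finite R M] [Nontrivial M] : (∀ r : R, r ∈ IsLocalRing.maximalIdeal R → IsSMulRegular R r → IsSMulRegular M r) ↔ (∃ x : R, x ∈ IsLocalRing.maximalIdeal R ∧ IsSMulRegular M x) := by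
  classical
  have hK1 : Ring.KrullDimLE 1 R := Ring.krullDimLE_iff.mpr (by rw [hdim]; exact_mod_cast le_rfl)
  have hK0 : ¬ Ring.KrullDimLE 0 R := by
    intro h
    have h1 := Ring.krullDimLE_iff.mp h
    rw [hdim] at h1
    have h2 : ((1 : ℕ) : WithBot ℕ∞) ≤ ((0 : ℕ) : WithBot ℕ∞) := by exact_mod_cast h1
    have h3 : (1 : ℕ) ≤ 0 := by exact_mod_cast h2
    omega
  constructor
  · intro H
    have hfin : (minimalPrimes R).Finite := minimalPrimes.finite_of_isNoetherianRing R
    have hex : ∃ x ∈ IsLocalRing.maximalIdeal R, ∀ q ∈ minimalPrimes R, x ∉ q := by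
      by_contra hcon
      push Not at hcon
      have hsub : ((IsLocalRing.maximalIdeal R : Ideal R) : Set R) ⊆
          ⋃ q ∈ (hfin.toFinset : Set (Ideal R)), ((id q : Ideal R) : Set R) := by
        intro x hx
        obtain ⟨q, hq, hxq⟩ := hcon x hx
        exact Set.mem_iUnion₂.mpr ⟨q, by simpa using hq, hxq⟩
      obtain ⟨q, hq, hmq⟩ := (Ideal.subset_union_prime (f := id) ⊥ ⊥
        (fun i hi _ _ => (hfin.mem_toFinset.mp hi).1.1)).mp hsub
      have hq' : q ∈ minimalPrimes R := hfin.mem_toFinset.mp hq
      have hqm : q = IsLocalRing.maximalIdeal R :=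
        le_antisymm (IsLocalRing.le_maximalIdeal hq'.1.1.ne_top) hmq
      apply hK0
      refine Ring.krullDimLE_zero_iff.mpr (fun J hJ => ?_)
      have hJm : J ≤ q := hqm ▸ IsLocalRing.le_maximalIdeal hJ.ne_top
      have hqJ : q ≤ J := hq'.2 ⟨hJ, bot_le⟩ hJm
      have hJeq : J = IsLocalRing.maximalIdeal R := by rw [← hqm]; exact le_antisymm hJm hqJ
      rw [hJeq]; exact IsLocalRing.maximalIdeal.isMaximal R
    obtain ⟨x, hxm, hx⟩ := hex
    refine ⟨x, hxm, H x hxm ?_⟩
    refine isSMulRegular_iff_right_eq_zero_of_smul.mpr (fun y hy => ?_)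
    have hy' : y ∈ nilradical R := by
      rw [nilradical_eq_sInf, Ideal.mem_sInf]
      intro J hJ
      haveI : J.IsPrime := hJ
      obtain ⟨q, hq, hqJ⟩ := Ideal.exists_minimalPrimes_le (bot_le : (⊥ : Ideal R) ≤ J)
      have hxy : x * y ∈ q := by
        rw [← smul_eq_mul, hy]; exact q.zero_mem
      exact hqJ ((hq.1.1.mem_or_mem hxy).resolve_left (hx q hq))
    exact (mem_nilradical.mp hy').eq_zero
  · rintro ⟨x, hxm, hx⟩ r hrm hr
    by_contra hnot
    have hmem : r ∈ ({ r : R | IsSMulRegular M r }ᶜ : Set R) := hnot
    rw [← biUnion_associatedPrimes_eq_compl_regular R M] at hmem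
    obtain ⟨P, hP, hrP⟩ := Set.mem_iUnion₂.mp hmem
    have hPprime : P.IsPrime := IsAssociatedPrime.isPrime hP
    have hrnzd : r ∈ nonZeroDivisors R := by
      rw [mem_nonZeroDivisors_iff_right]
      intro y hy
      exact hr.right_eq_zero_of_smul (by rw [smul_eq_mul, mul_comm]; exact hy)
    have hPmin : P ∉ minimalPrimes R := fun h =>
      notMem_nonZeroDivisors_of_mem_mem_minimalPrimes hrP h hrnzd
    have hPmax : P.IsMaximal := ((Ring.krullDimLE_one_iff.mp hK1) P hPprime).resolve_left hPmin
    have hPeq : P = IsLocalRing.maximalIdeal R := IsLocalRing.eq_maximalIdeal hPmax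
    have hxP : x ∈ P := hPeq ▸ hxm
    have hxz : x ∈ ({ r : R | IsSMulRegular M r }ᶜ : Set R) := by
      rw [← biUnion_associatedPrimes_eq_compl_regular R M]
      exact Set.mem_iUnion₂.mpr ⟨P, hP, hxP⟩
    exact hxz hx

end Groth.Agent.S13996
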