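import Groth.Statements.S13998
import Groth.Agent.Lib.Nil4_helper8

set_option autoImplicit false
universe u
open FlatMor

namespace Groth.Agent.S13998

open AlgebraicGeometry CategoryTheory in
/-- Consider a cartesian square of schemes F₀ ≫ j = i ≫ F (so Y₀ = Y ×_X X₀) in which i : Y₀ ⟶ Y and j :
X₀ ⟶ X are closed immersions surjective on points whose ideals are locally nilpotent (nilpotent on
every affine open), and suppose moreover that the ideal of j is of finite type (finitely generated
on every affine open of X). Then F : Y ⟶ X is finite if and only if F₀ : Y₀ ⟶ X₀ is finite. -/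
theorem result {X X₀ Y Y₀ : Scheme.{u}}
    (F : Y ⟶ X) (F₀ : Y₀ ⟶ X₀) (i : Y₀ ⟶ Y) (j : X₀ ⟶ X)
    (hi : MoreMor.IsThickening i) (hj : MoreMor.IsThickening j)
    (hinil : ∀ U : Y.affineOpens, IsNilpotent (i.ker.ideal U))
    (hjnil : ∀ U : X.affineOpens, IsNilpotent (j.ker.ideal U))
    (hfg : ∀ U : X.affineOpens, (j.ker.ideal U).FG)
    (hc : IsPullback F₀ i j F) :
    IsFinite F ↔ IsFinite F₀ := by
  haveI := hj.1
  haveI := hj.2
  constructor
  · intro hF
    exact MorphismProperty.of_isPullback (P := @IsFinite) hc.flip hF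
  · intro hF₀
    haveI := hF₀
    haveI : LocallyOfFiniteType F := by
      refine Groth.Agent.Lib.NilThick_helper6.of_isPullback_affineHom (P := @LocallyOfFiniteType)
        i j F₀ F hc.flip ?_ inferInstance
      intro U' V' e B b ψ po hb
      refine Groth.Agent.Lib.NilThick_helper6.finiteType_of_pushout_nilpotent (j.app U'.1).hom
        (j.app_surjective U'.1 U'.2) ?_ _ b.hom ψ.hom po hb
      have := hjnil U'
      rwa [Scheme.Hom.ker_apply] at this
    exact NilH8.isFinite_of_thickenings i j F₀ F hj hc.flip

end Groth.Agent.S13998
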