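import Groth.Statements.S14005
import Mathlib

set_option autoImplicit false
universe u
open CategoryTheory AlgebraicGeometry
open CohTop

namespace Groth.Agent.S14005

/-- Take a scheme X with a locally Noetherian underlying topological space, F a sheaf of abelian groups
on X, x a point of X and s an element of the stalk F_x. Then the following are equivalent: (i) s is
the germ of a section t over some open neighbourhood U of x whose support in U is contained in the
closure of {x} (that is, s belongs to the subgroup Γ_x(F) of F_x); (ii) for every generization y ≠ x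
of x the image of s under the cospecialisation map F_x → F_y is zero (that is, viewed as a global
section of the inverse image of F on Spec O_{X,x}, s is supported at the closed point). -/
theorem result {X : Scheme.{u}}
    (hX : ∀ x : X, ∃ U : X.Opens, x ∈ U ∧ TopologicalSpace.NoetherianSpace U)
    (F : TopCat.Sheaf AddCommGrpCat.{u} X.carrier) (x : X) (s : F.presheaf.stalk x) :
    (∃ (U : X.Opens) (hx : x ∈ U) (t : F.presheaf.obj (Opposite.op U)),
        F.presheaf.germ U x hx t = s ∧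
          ∀ (u : X) (hu : u ∈ U), F.presheaf.germ U u hu t ≠ 0 → u ∈ closure ({x} : Set X)) ↔
      ∀ (y : X) (h : y ⤳ x), y ≠ x → F.presheaf.stalkSpecializes h s = 0 := by
  constructor
  · rintro ⟨U, hx, t, rfl, hsupp⟩ y h hne
    by_contra hcon
    have hy : y ∈ U := h.mem_open U.isOpen hx
    have e : F.presheaf.stalkSpecializes h (F.presheaf.germ U x hx t) =
        F.presheaf.germ U y hy t := by
      rw [← ConcreteCategory.comp_apply, TopCat.Presheaf.germ_stalkSpecializes]
    rw [e] at hcon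
    have h2 : x ⤳ y := specializes_iff_mem_closure.mpr (hsupp y hy hcon)
    exact hne (h.antisymm h2).eq
  · intro H
    obtain ⟨U₀, hxU₀, t₀, rfl⟩ := TopCat.Presheaf.germ_exist F.presheaf s
    obtain ⟨N, hxN, hN⟩ := hX x
    obtain ⟨U₁, hU₁def⟩ : ∃ U₁ : X.Opens, U₁ = U₀ ⊓ N := ⟨_, rfl⟩
    have hxU₁ : x ∈ U₁ := by rw [hU₁def]; exact ⟨hxU₀, hxN⟩
    have hle : U₁ ≤ U₀ := by rw [hU₁def]; exact inf_le_left
    obtain ⟨t, ht⟩ : ∃ t : F.presheaf.obj (Opposite.op U₁),
        t = F.presheaf.map (homOfLE hle).op t₀ := ⟨_, rfl⟩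
    have hgerm : ∀ (u : X) (hu : u ∈ U₁),
        F.presheaf.germ U₁ u hu t = F.presheaf.germ U₀ u (hle hu) t₀ := by
      intro u hu
      rw [ht]
      exact TopCat.Presheaf.germ_res_apply F.presheaf (homOfLE hle) u hu t₀
    haveI : TopologicalSpace.NoetherianSpace (U₁ : Set X) := by
      haveI : TopologicalSpace.NoetherianSpace (N : Set X) := hN
      exact TopologicalSpace.NoetherianSpace.of_subset (W := (N : Set X))
        (by rw [hU₁def]; exact Set.inter_subset_right)
    haveI : QuasiSober (U₁ : Set X) := U₁.isOpen.isOpenEmbedding_subtypeVal.quasiSober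
    obtain ⟨T, hTdef⟩ : ∃ T : Set (U₁ : Set X),
        ∀ ub : (U₁ : Set X), ub ∈ T ↔ F.presheaf.germ U₁ ub.1 ub.2 t ≠ 0 :=
      ⟨{ub | F.presheaf.germ U₁ ub.1 ub.2 t ≠ 0}, fun _ => Iff.rfl⟩
    have hT : IsClosed T := by
      rw [← isOpen_compl_iff, isOpen_iff_forall_mem_open]
      intro ub hub
      have hz : F.presheaf.germ U₁ ub.1 ub.2 t = 0 := by
        by_contra hcon
        exact hub ((hTdef ub).mpr hcon)
      have hz' : F.presheaf.germ U₁ ub.1 ub.2 t = F.presheaf.germ U₁ ub.1 ub.2 0 := by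
        rw [hz, map_zero]
      obtain ⟨W, hW, iU, iV, e⟩ := TopCat.Presheaf.germ_eq F.presheaf ub.1 ub.2 ub.2 t 0 hz'
      refine ⟨Subtype.val ⁻¹' (W : Set X), ?_, W.isOpen.preimage continuous_subtype_val, hW⟩
      intro wb hw hwT
      have hw' : wb.1 ∈ W := hw
      apply (hTdef wb).mp hwT
      rw [← TopCat.Presheaf.germ_res_apply F.presheaf iU wb.1 hw' t, e, map_zero, map_zero]
    obtain ⟨S, hSfin, hSclosed, hSirr, hTS⟩ :=
      TopologicalSpace.NoetherianSpace.exists_finite_set_isClosed_irreducible hT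
    obtain ⟨xb, hxb⟩ : ∃ xb : (U₁ : Set X), xb.1 = x := ⟨⟨x, hxU₁⟩, rfl⟩
    obtain ⟨G, hGdef⟩ : ∃ G : Set (U₁ : Set X), G = ⋃₀ {Z ∈ S | xb ∉ Z} := ⟨_, rfl⟩
    have hG : IsClosed G := by
      rw [hGdef, Set.sUnion_eq_biUnion]
      exact (hSfin.subset (Set.sep_subset _ _)).isClosed_biUnion (fun Z hZ => hSclosed Z hZ.1)
    have hxG : xb ∉ G := by
      rw [hGdef]
      rintro ⟨Z, ⟨hZS, hxZ⟩, hxZ'⟩
      exact hxZ hxZ'
    obtain ⟨U₂, hU₂⟩ : ∃ U₂ : X.Opens, (U₂ : Set X) = Subtype.val '' Gᶜ :=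
      ⟨⟨_, U₁.isOpen.isOpenMap_subtype_val _ hG.isOpen_compl⟩, rfl⟩
    have hU₂le : U₂ ≤ U₁ := by
      intro u hu
      have : u ∈ (U₂ : Set X) := hu
      rw [hU₂] at this
      obtain ⟨ub, -, rfl⟩ := this
      exact ub.2
    have hxU₂ : x ∈ U₂ := by
      show x ∈ (U₂ : Set X)
      rw [hU₂]
      exact ⟨xb, hxG, hxb⟩
    refine ⟨U₂, hxU₂, F.presheaf.map (homOfLE hU₂le).op t, ?_, ?_⟩
    · rw [TopCat.Presheaf.germ_res_apply F.presheaf (homOfLE hU₂le) x hxU₂ t, hgerm]
    · intro u hu hne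
      rw [TopCat.Presheaf.germ_res_apply F.presheaf (homOfLE hU₂le) u hu t] at hne
      have hu' : u ∈ (U₂ : Set X) := hu
      rw [hU₂] at hu'
      obtain ⟨ub, hubG, hubu⟩ := hu'
      subst hubu
      have hubT : ub ∈ T := (hTdef ub).mpr hne
      rw [hTS] at hubT
      obtain ⟨Z, hZS, hubZ⟩ := hubT
      have hxZ : xb ∈ Z := by
        by_contra hcon
        apply hubG
        rw [hGdef]
        exact ⟨Z, ⟨hZS, hcon⟩, hubZ⟩
      obtain ⟨ζ, hζ⟩ := QuasiSober.sober (hSirr Z hZS) (hSclosed Z hZS)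
      have hζZ : ζ ∈ Z := hζ.mem
      have hζT : ζ ∈ T := by rw [hTS]; exact ⟨Z, hZS, hζZ⟩
      have hζx : ζ ⤳ xb := hζ.specializes hxZ
      have hζx' : ζ.1 ⤳ x := hxb ▸ hζx.map continuous_subtype_val
      have hζeq : ζ.1 = x := by
        by_contra hcon
        have h0 := H ζ.1 hζx' hcon
        have e : F.presheaf.stalkSpecializes hζx' (F.presheaf.germ U₀ x hxU₀ t₀) =
            F.presheaf.germ U₁ ζ.1 ζ.2 t := by
          rw [← ConcreteCategory.comp_apply, TopCat.Presheaf.germ_stalkSpecializes, hgerm]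
        rw [e] at h0
        exact (hTdef ζ).mp hζT h0
      have hζeq' : ζ = xb := Subtype.ext (hζeq.trans hxb.symm)
      have hxu : xb ⤳ ub := by rw [← hζeq']; exact hζ.specializes hubZ
      have hxu' : x ⤳ ub.1 := hxb ▸ hxu.map continuous_subtype_val
      exact specializes_iff_mem_closure.mp hxu'

end Groth.Agent.S14005
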