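import Groth.Statements.S1401
import Mathlib
import Groth.Agent.Lib.QAffDescent_helper9

set_option autoImplicit false
universe u
open FlatMor

namespace Groth.Agent.S1401

open AlgebraicGeometry CategoryTheory Limits in
theorem isQuasiAffine_of_range_subset {A B Z : Scheme.{u}} (a : A ⟶ Z) (b : B ⟶ Z)
    [IsOpenImmersion a] [IsOpenImmersion b] (hr : Set.range a ⊆ Set.range b)
    [CompactSpace A] [B.IsQuasiAffine] : A.IsQuasiAffine := by
  haveI : IsOpenImmersion (IsOpenImmersion.lift b a hr ≫ b) := by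
    rw [IsOpenImmersion.lift_fac]; infer_instance
  haveI : IsOpenImmersion (IsOpenImmersion.lift b a hr) := IsOpenImmersion.of_comp _ b
  exact Scheme.IsQuasiAffine.of_isImmersion (IsOpenImmersion.lift b a hr)

open AlgebraicGeometry CategoryTheory Limits in
/-- Let S' → S be flat, surjective and quasi-compact and let f' be the base change of f : X → S to S'.
If f' is ind-quasi-affine then so is f. -/
theorem result {X S X' S' : Scheme.{u}} (f : X ⟶ S) (f' : X' ⟶ S') (g' : X' ⟶ X) (g : S' ⟶ S)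
    [Flat g] [Surjective g] [QuasiCompact g] (hc : IsPullback g' f' f g) (hf' : MoreMor.IsIndQuasiAffineHom f') : MoreMor.IsIndQuasiAffineHom f := by
  intro V hV U hU
  haveI : IsAffine (V : Scheme.{u}) := hV
  set UX : X.Opens := (f ⁻¹ᵁ V).ι ''ᵁ U with hUX
  have hUXle : UX ≤ f ⁻¹ᵁ V := (f ⁻¹ᵁ V).ι_image_le U
  have hUXc : IsCompact (UX : Set X) := hU.image (f ⁻¹ᵁ V).ι.continuous
  haveI : CompactSpace (UX : Scheme.{u}) := isCompact_iff_compactSpace.mp hUXc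
  haveI : CompactSpace (U : Scheme.{u}) := isCompact_iff_compactSpace.mp hU
  set UT : S'.Opens := g ⁻¹ᵁ V with hUT
  set UY : X'.Opens := g' ⁻¹ᵁ UX ⊓ f' ⁻¹ᵁ UT with hUYdef
  have sq := Scheme.Hom.isPullback_resLE hc (le_refl UT) hUXle (rfl : UY = _)
  have hQ : (@Surjective ⊓ @Flat ⊓ @QuasiCompact : MorphismProperty Scheme.{u})
      (g.resLE V UT le_rfl) := by
    rw [Scheme.Hom.resLE_eq_morphismRestrict]
    exact MorphismProperty.of_isPullback (isPullback_morphismRestrict g V).flip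
      ⟨⟨inferInstance, inferInstance⟩, inferInstance⟩
  have hqc1 : QuasiCompact (f.resLE V UX hUXle) :=
    (HasAffineProperty.iff_of_isAffine (P := @QuasiCompact)).mpr inferInstance
  have hqc2 := MorphismProperty.of_isPullback (P := @QuasiCompact) sq hqc1
  have hP : Mor2.IsQuasiAffine (f'.resLE UT UY (by simp [hUYdef])) := by
    refine ⟨hqc2, fun O hO => ?_⟩
    set M := (f'.resLE UT UY (by simp [hUYdef])) ⁻¹ᵁ O with hMdef
    have hMc : IsCompact (M : Set UY) :=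
      QuasiCompact.isCompact_preimage (f := f'.resLE UT UY _) _ O.2 hO.isCompact
    haveI : CompactSpace (M : Scheme.{u}) := isCompact_iff_compactSpace.mp hMc
    set O₁ : S'.Opens := UT.ι ''ᵁ O with hO₁def
    have hO₁ : IsAffineOpen O₁ := hO.image_of_isOpenImmersion UT.ι
    set M₁ : X'.Opens := UY.ι ''ᵁ M with hM₁def
    have hM₁le : M₁ ≤ f' ⁻¹ᵁ O₁ := by
      rintro _ ⟨m, hm, rfl⟩
      show f' (UY.ι m) ∈ O₁
      rw [← Scheme.Hom.comp_apply, ← Scheme.Hom.resLE_comp_ι f' (by simp [hUYdef] : UY ≤ f' ⁻¹ᵁ UT),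
        Scheme.Hom.comp_apply]
      exact ⟨_, hm, rfl⟩
    set K : (f' ⁻¹ᵁ O₁).toScheme.Opens := (f' ⁻¹ᵁ O₁).ι ⁻¹ᵁ M₁ with hKdef
    have hKc : IsCompact (K : Set (f' ⁻¹ᵁ O₁).toScheme) := by
      have hM₁c : IsCompact (M₁ : Set X') := hMc.image UY.ι.continuous
      exact ((f' ⁻¹ᵁ O₁).ι.isOpenEmbedding.isInducing.isCompact_preimage_iff
        (by rw [Scheme.Opens.range_ι]; exact hM₁le)).mpr hM₁c
    haveI := hf' O₁ hO₁ K hKc
    refine isQuasiAffine_of_range_subset (M.ι ≫ UY.ι) (K.ι ≫ (f' ⁻¹ᵁ O₁).ι) ?_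
    rintro _ ⟨m, rfl⟩
    have hm1 : (M.ι ≫ UY.ι) m ∈ M₁ := ⟨M.ι m, m.2, rfl⟩
    have hm2 : (M.ι ≫ UY.ι) m ∈ f' ⁻¹ᵁ O₁ := hM₁le hm1
    exact ⟨⟨⟨_, hm2⟩, hm1⟩, rfl⟩
  have hres := Groth.Agent.Lib.QAffDescent.descendsAlong_quasiAffine.of_isPullback sq.flip hQ hP
  haveI := hres.2 ⊤ (isAffineOpen_top _)
  refine isQuasiAffine_of_range_subset (U.ι ≫ (f ⁻¹ᵁ V).ι)
    (((f.resLE V UX hUXle) ⁻¹ᵁ ⊤).ι ≫ UX.ι) ?_
  rintro _ ⟨u, rfl⟩
  have hu : (U.ι ≫ (f ⁻¹ᵁ V).ι) u ∈ UX := ⟨U.ι u, u.2, rfl⟩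
  exact ⟨⟨⟨_, hu⟩, trivial⟩, rfl⟩

end Groth.Agent.S1401
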