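import Groth.Statements.S14032
import Mathlib

set_option autoImplicit false
universe u v
open W4c1frobunstiva

namespace Groth.Agent.S14032

open scoped TensorProduct


open TensorProduct in
/-- Let R be a commutative Noetherian ring with nilradical n, M an R-module and r a natural number. Then
M is NR-free of rank r — generated by r elements such that every linear relation among them has
nilpotent coefficients — if and only if (R/n) ⊗_R M is free of rank r over R/n, in the sense of
admitting a basis indexed by r elements. (The published statement assumes M finitely generated and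
also gives the converse when R is local; over a Noetherian ring the nilradical is nilpotent, the
case used here, and finite generation is not needed.) -/
theorem result (R : Type u) [CommRing R]
    [IsNoetherianRing R] (M : Type v) [AddCommGroup M] [Module R M] (r : ℕ) :
    W4c1frobunstiva.IsNRFree R M r ↔
      Nonempty (Module.Basis (Fin r) (R ⧸ nilradical R) ((R ⧸ nilradical R) ⊗[R] M)) := by
  classical
  have e1 : ∀ (a : R) (x : M), (Ideal.Quotient.mk (nilradical R) a) •
      ((1 : R ⧸ nilradical R) ⊗ₜ[R] x) = (1 : R ⧸ nilradical R) ⊗ₜ[R] (a • x) := by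
    intro a x
    rw [TensorProduct.smul_tmul', smul_eq_mul, mul_one, TensorProduct.tmul_smul,
      TensorProduct.smul_tmul', ← Algebra.algebraMap_eq_smul_one]
    rfl
  have e2 : ∀ (g : Fin r → R) (m : Fin r → M),
      ∑ i, (Ideal.Quotient.mk (nilradical R) (g i)) • ((1 : R ⧸ nilradical R) ⊗ₜ[R] m i) =
        (1 : R ⧸ nilradical R) ⊗ₜ[R] (∑ i, g i • m i) := by
    intro g m
    rw [TensorProduct.tmul_sum]
    exact Finset.sum_congr rfl (fun i _ => e1 _ _)
  have hA : ∀ y : M, (1 : R ⧸ nilradical R) ⊗ₜ[R] y = 0 →
      y ∈ (nilradical R) • (⊤ : Submodule R M) := by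
    intro y hy
    have h1 := congrArg (TensorProduct.quotTensorEquivQuotSMul M (nilradical R)) hy
    rw [TensorProduct.quotTensorEquivQuotSMul_mk_one_tmul, map_zero] at h1
    exact (Submodule.Quotient.mk_eq_zero _).mp h1
  have hone : ∀ z : (R ⧸ nilradical R) ⊗[R] M, ∃ y : M, z = (1 : R ⧸ nilradical R) ⊗ₜ[R] y := by
    intro z
    induction z using TensorProduct.induction_on with
    | zero => exact ⟨0, (TensorProduct.tmul_zero _ _).symm⟩
    | tmul a x =>
      obtain ⟨a, rfl⟩ := Ideal.Quotient.mk_surjective a
      refine ⟨a • x, ?_⟩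
      rw [← e1, TensorProduct.smul_tmul', smul_eq_mul, mul_one]
    | add z z' hz hz' =>
      obtain ⟨y, rfl⟩ := hz
      obtain ⟨y', rfl⟩ := hz'
      exact ⟨y + y', (TensorProduct.tmul_add _ _ _).symm⟩
  constructor
  · rintro ⟨m, hspan, hrel⟩
    have hli : LinearIndependent (R ⧸ nilradical R)
        (fun i => (1 : R ⧸ nilradical R) ⊗ₜ[R] m i) := by
      rw [Fintype.linearIndependent_iff]
      intro gb hgb i
      obtain ⟨g, rfl⟩ : ∃ g : Fin r → R, gb = fun i => Ideal.Quotient.mk (nilradical R) (g i) :=
        ⟨fun i => (Ideal.Quotient.mk_surjective (gb i)).choose,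
          funext fun i => (Ideal.Quotient.mk_surjective (gb i)).choose_spec.symm⟩
      have hgb' : ∑ i, Ideal.Quotient.mk (nilradical R) (g i) •
          ((1 : R ⧸ nilradical R) ⊗ₜ[R] m i) = 0 := hgb
      rw [e2] at hgb'
      have h2 := hA _ hgb'
      rw [← hspan] at h2
      obtain ⟨a, ha, hsum⟩ := (Submodule.mem_ideal_smul_span_iff_exists_sum _ m _).mp h2
      rw [Finsupp.sum_fintype a (fun i c => c • m i) (fun i => zero_smul R (m i))] at hsum
      have h3 : ∑ j, (g j - a j) • m j = 0 := by
        simp only [sub_smul, Finset.sum_sub_distrib, hsum, sub_self]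
      have h4 := hrel _ h3 i
      have h5 : g i - a i ∈ nilradical R := mem_nilradical.mpr h4
      have h6 : g i ∈ nilradical R := by
        have h7 := (nilradical R).add_mem h5 (ha i)
        rwa [sub_add_cancel] at h7
      change Ideal.Quotient.mk (nilradical R) (g i) = 0
      exact Ideal.Quotient.eq_zero_iff_mem.mpr h6
    have hsp : ⊤ ≤ Submodule.span (R ⧸ nilradical R)
        (Set.range fun i => (1 : R ⧸ nilradical R) ⊗ₜ[R] m i) := by
      intro z _
      obtain ⟨y, rfl⟩ := hone z
      have hy : y ∈ Submodule.span R (Set.range m) := by rw [hspan]; exact Submodule.mem_top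
      obtain ⟨c, rfl⟩ := (Submodule.mem_span_range_iff_exists_fun R).mp hy
      rw [← e2]
      exact Submodule.sum_mem _ (fun i _ => Submodule.smul_mem _ _
        (Submodule.subset_span ⟨i, rfl⟩))
    exact ⟨Module.Basis.mk hli hsp⟩
  · rintro ⟨b⟩
    have hm : ∀ i, ∃ y : M, b i = (1 : R ⧸ nilradical R) ⊗ₜ[R] y := fun i => hone (b i)
    choose m hm using hm
    refine ⟨m, ?_, ?_⟩
    · obtain ⟨k, hk⟩ := IsNoetherianRing.isNilpotent_nilradical R
      have hstep : (⊤ : Submodule R M) ≤
          Submodule.span R (Set.range m) ⊔ (nilradical R) • (⊤ : Submodule R M) := by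
        intro x _
        have h1 := b.sum_repr ((1 : R ⧸ nilradical R) ⊗ₜ[R] x)
        obtain ⟨c, hc⟩ : ∃ c : Fin r → R, ∀ i, Ideal.Quotient.mk (nilradical R) (c i) =
            b.repr ((1 : R ⧸ nilradical R) ⊗ₜ[R] x) i :=
          ⟨fun i => (Ideal.Quotient.mk_surjective
              (b.repr ((1 : R ⧸ nilradical R) ⊗ₜ[R] x) i)).choose,
            fun i => (Ideal.Quotient.mk_surjective
              (b.repr ((1 : R ⧸ nilradical R) ⊗ₜ[R] x) i)).choose_spec⟩
        simp only [← hc, hm] at h1
        rw [e2] at h1
        have h2 : (1 : R ⧸ nilradical R) ⊗ₜ[R] (x - ∑ i, c i • m i) = 0 := by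
          rw [TensorProduct.tmul_sub, h1, sub_self]
        have h3 := hA _ h2
        have h4 : x = ∑ i, c i • m i + (x - ∑ i, c i • m i) := by abel
        rw [h4]
        exact Submodule.add_mem_sup (Submodule.sum_mem _ fun i _ =>
          Submodule.smul_mem _ _ (Submodule.subset_span ⟨i, rfl⟩)) h3
      have hind : ∀ j : ℕ, (⊤ : Submodule R M) ≤
          Submodule.span R (Set.range m) ⊔ (nilradical R) ^ j • (⊤ : Submodule R M) := by
        intro j
        induction j with
        | zero => rw [pow_zero, Ideal.one_eq_top, Submodule.top_smul]; exact le_sup_right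
        | succ j ih =>
          refine le_trans hstep (sup_le le_sup_left ?_)
          calc (nilradical R) • (⊤ : Submodule R M)
              ≤ (nilradical R) • (Submodule.span R (Set.range m) ⊔
                  (nilradical R) ^ j • (⊤ : Submodule R M)) := Submodule.smul_mono le_rfl ih
            _ = (nilradical R) • Submodule.span R (Set.range m) ⊔
                  (nilradical R) • ((nilradical R) ^ j • (⊤ : Submodule R M)) :=
                Submodule.smul_sup _ _ _
            _ ≤ Submodule.span R (Set.range m) ⊔
                  (nilradical R) ^ (j + 1) • (⊤ : Submodule R M) := by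
              refine sup_le_sup Submodule.smul_le_right ?_
              rw [← Submodule.mul_smul, ← pow_succ']
      have h8 := hind k
      rw [hk, Ideal.zero_eq_bot, Submodule.bot_smul, sup_bot_eq] at h8
      exact top_le_iff.mp h8
    · intro a ha i
      have h1 : ∑ j, Ideal.Quotient.mk (nilradical R) (a j) • b j = 0 := by
        simp only [hm]
        rw [e2, ha, TensorProduct.tmul_zero]
      have h2 := (Fintype.linearIndependent_iff.mp b.linearIndependent) _ h1 i
      exact mem_nilradical.mp (Ideal.Quotient.eq_zero_iff_mem.mp h2)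

end Groth.Agent.S14032
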