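import Groth.Statements.S14033
import Mathlib

set_option autoImplicit false
universe u v
open W4c1frobunstiva

namespace Groth.Agent.S14033

open DualNumber Pointwise in
/-- Let R be a commutative ring, R[ε] its ring of dual numbers (ε² = 0), M an R[ε]-module and r a
natural number. Then M is free of rank r over R[ε] (admits a basis of r elements) if and only if the
R-modules M/εM and εM are both free of rank r. (The published statement concerns a coherent sheaf on
the product of a scheme S with Spec ℤ[ε] and local freeness of rank r; that assertion is local, and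
this row is its form over one ring, with no finiteness assumption on M and no hypothesis on R.) -/
theorem result (R : Type u) [CommRing R] (M : Type v)
    [AddCommGroup M] [Module R[ε] M] [Module R M] [IsScalarTower R R[ε] M] (r : ℕ) :
    Nonempty (Module.Basis (Fin r) R[ε] M) ↔
      (Nonempty (Module.Basis (Fin r) R (M ⧸ ((ε : R[ε]) • (⊤ : Submodule R[ε] M)))) ∧
        Nonempty (Module.Basis (Fin r) R (((ε : R[ε]) • (⊤ : Submodule R[ε] M)).restrictScalars R))) := by
  classical
  set N : Submodule R[ε] M := (ε : R[ε]) • (⊤ : Submodule R[ε] M) with hN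
  have memN : ∀ m : M, m ∈ N ↔ ∃ m' : M, (ε : R[ε]) • m' = m := by
    intro m
    rw [hN, Submodule.mem_smul_pointwise_iff_exists]
    constructor
    · rintro ⟨b, _, hb⟩; exact ⟨b, hb⟩
    · rintro ⟨b, hb⟩; exact ⟨b, Submodule.mem_top, hb⟩
  have hε2 : ∀ m : M, (ε : R[ε]) • ((ε : R[ε]) • m) = 0 := by
    intro m; rw [← mul_smul, DualNumber.eps_mul_eps, zero_smul]
  have hdecomp : ∀ c : R[ε], c = algebraMap R R[ε] (TrivSqZeroExt.fst c)
      + algebraMap R R[ε] (TrivSqZeroExt.snd c) * ε := by
    intro c
    refine TrivSqZeroExt.ext ?_ ?_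
    · simp [TrivSqZeroExt.algebraMap_eq_inl]
    · simp [TrivSqZeroExt.algebraMap_eq_inl, DualNumber.snd_mul]
  have L : ∀ (c : R[ε]) (m : M), c • m = (TrivSqZeroExt.fst c) • m
      + (TrivSqZeroExt.snd c) • ((ε : R[ε]) • m) := by
    intro c m
    conv_lhs => rw [hdecomp c]
    rw [add_smul, mul_smul, algebraMap_smul, algebraMap_smul]
  let q : M →ₗ[R] M ⧸ N :=
    { toFun := fun m => Submodule.Quotient.mk m
      map_add' := fun _ _ => rfl
      map_smul' := fun _ _ => rfl }
  have hq : ∀ m, q m = 0 ↔ m ∈ N := by
    intro m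
    show (Submodule.Quotient.mk m : M ⧸ N) = 0 ↔ _
    exact Submodule.Quotient.mk_eq_zero N
  have hqε : ∀ m, q ((ε : R[ε]) • m) = 0 := fun m => (hq _).mpr ((memN _).mpr ⟨m, rfl⟩)
  have hq_surj : Function.Surjective q := fun x => Submodule.Quotient.mk_surjective N x
  have hmem : ∀ m : M, (ε : R[ε]) • m ∈ N.restrictScalars R := fun m => (memN _).mpr ⟨m, rfl⟩
  constructor
  · rintro ⟨b⟩
    have hbli : ∀ c : Fin r → R[ε], ∑ i, c i • b i = 0 → ∀ i, c i = 0 :=
      Fintype.linearIndependent_iff.mp b.linearIndependent
    have hbsp : ∀ m : M, ∃ c : Fin r → R[ε], ∑ i, c i • b i = m :=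
      fun m => ⟨b.equivFun m, b.sum_equivFun m⟩
    constructor
    · have hli : LinearIndependent R (fun i => q (b i)) := by
        rw [Fintype.linearIndependent_iff]
        intro g hg i
        have h1 : q (∑ i, g i • b i) = 0 := by
          rw [map_sum]; simpa only [map_smul] using hg
        rw [hq, memN] at h1
        obtain ⟨m', hm'⟩ := h1
        obtain ⟨c, rfl⟩ := hbsp m'
        have h2 : ∑ i, (ε * c i - algebraMap R R[ε] (g i)) • b i = 0 := by
          simp only [sub_smul, Finset.sum_sub_distrib, mul_smul, algebraMap_smul]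
          rw [← Finset.smul_sum, hm', sub_self]
        have h3 := hbli _ h2 i
        have h4 := congrArg TrivSqZeroExt.fst h3
        simpa [TrivSqZeroExt.algebraMap_eq_inl] using h4
      have hsp : ⊤ ≤ Submodule.span R (Set.range fun i => q (b i)) := by
        rintro x -
        obtain ⟨m, rfl⟩ := hq_surj x
        obtain ⟨c, rfl⟩ := hbsp m
        rw [map_sum]
        refine Submodule.sum_mem _ (fun i _ => ?_)
        rw [L (c i) (b i), map_add, map_smul, map_smul, hqε, smul_zero, add_zero]
        exact Submodule.smul_mem _ _ (Submodule.subset_span ⟨i, rfl⟩)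
      exact ⟨Module.Basis.mk hli hsp⟩
    · have hli : LinearIndependent R
          (fun i => (⟨(ε : R[ε]) • b i, hmem (b i)⟩ : N.restrictScalars R)) := by
        rw [Fintype.linearIndependent_iff]
        intro g hg i
        have h1 : ∑ i, g i • ((ε : R[ε]) • b i) = 0 := by
          have := congrArg (fun x : N.restrictScalars R => (x : M)) hg
          simp only [Submodule.coe_sum] at this
          exact this
        have h2 : ∑ i, (algebraMap R R[ε] (g i) * ε) • b i = 0 := by
          simpa only [mul_smul, algebraMap_smul] using h1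
        have h3 := hbli _ h2 i
        have h4 := congrArg TrivSqZeroExt.snd h3
        simpa [TrivSqZeroExt.algebraMap_eq_inl, DualNumber.snd_mul] using h4
      have hsp : ⊤ ≤ Submodule.span R (Set.range
          (fun i => (⟨(ε : R[ε]) • b i, hmem (b i)⟩ : N.restrictScalars R))) := by
        rintro ⟨x, hx⟩ -
        obtain ⟨m, rfl⟩ := (memN x).mp hx
        obtain ⟨c, rfl⟩ := hbsp m
        have hx' : (⟨(ε : R[ε]) • ∑ i, c i • b i, hx⟩ : N.restrictScalars R)
            = ∑ i, TrivSqZeroExt.fst (c i) •
              (⟨(ε : R[ε]) • b i, hmem (b i)⟩ : N.restrictScalars R) := by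
          apply Subtype.ext
          rw [Submodule.coe_sum]
          show (ε : R[ε]) • ∑ i, c i • b i = ∑ i, TrivSqZeroExt.fst (c i) • ((ε : R[ε]) • b i)
          rw [Finset.smul_sum]
          refine Finset.sum_congr rfl (fun i _ => ?_)
          rw [L (c i) (b i), smul_add, smul_comm (ε : R[ε]) (TrivSqZeroExt.fst (c i)) (b i),
            smul_comm (ε : R[ε]) (TrivSqZeroExt.snd (c i)) ((ε : R[ε]) • b i), hε2, smul_zero,
            add_zero]
        rw [hx']
        refine Submodule.sum_mem _ (fun i _ => ?_)
        exact Submodule.smul_mem _ _ (Submodule.subset_span ⟨i, rfl⟩)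
      exact ⟨Module.Basis.mk hli hsp⟩
  · rintro ⟨⟨u⟩, ⟨v⟩⟩
    choose b hb using fun i => hq_surj (u i)
    let w : Fin r → N.restrictScalars R := fun i => ⟨(ε : R[ε]) • b i, hmem (b i)⟩
    let T : (Fin r → R) →ₗ[R] (N.restrictScalars R) := Fintype.linearCombination R w
    have hTcoe : ∀ c : Fin r → R, ((T c : N.restrictScalars R) : M)
        = ∑ i, c i • ((ε : R[ε]) • b i) := by
      intro c
      show ((Fintype.linearCombination R w c : N.restrictScalars R) : M) = _
      rw [Fintype.linearCombination_apply, Submodule.coe_sum]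
      exact Finset.sum_congr rfl (fun i _ => rfl)
    have hrep : ∀ m : M, ∃ a : Fin r → R, ∃ m' : M,
        m = ∑ i, a i • b i + (ε : R[ε]) • m' := by
      intro m
      have h1 : q (m - ∑ i, (u.equivFun (q m)) i • b i) = 0 := by
        rw [map_sub, map_sum]
        simp only [map_smul, hb]
        rw [u.sum_equivFun, sub_self]
      rw [hq, memN] at h1
      obtain ⟨m', hm'⟩ := h1
      exact ⟨u.equivFun (q m), m', by rw [hm']; abel⟩
    have hTsurj : Function.Surjective T := by
      rintro ⟨x, hx⟩
      obtain ⟨m, rfl⟩ := (memN x).mp hx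
      obtain ⟨a, m', hm⟩ := hrep m
      refine ⟨a, Subtype.ext ?_⟩
      rw [hTcoe]
      show _ = (ε : R[ε]) • m
      rw [hm, smul_add, hε2, add_zero, Finset.smul_sum]
      refine Finset.sum_congr rfl (fun i _ => ?_)
      rw [smul_comm]
    have hTinj : Function.Injective T := by
      have h1 : Function.Surjective
          ((v.equivFun : (N.restrictScalars R) →ₗ[R] (Fin r → R)) ∘ₗ T) := by
        rw [LinearMap.coe_comp]
        exact v.equivFun.surjective.comp hTsurj
      have h2 := OrzechProperty.injective_of_surjective_endomorphism _ h1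
      rw [LinearMap.coe_comp] at h2
      exact Function.Injective.of_comp h2
    have hli : LinearIndependent R[ε] b := by
      rw [Fintype.linearIndependent_iff]
      intro c hc
      have h0 : ∑ i, (TrivSqZeroExt.fst (c i)) • b i
          + ∑ i, (TrivSqZeroExt.snd (c i)) • ((ε : R[ε]) • b i) = 0 := by
        rw [← Finset.sum_add_distrib, ← hc]
        exact Finset.sum_congr rfl (fun i _ => (L (c i) (b i)).symm)
      have h1 : ∀ i, TrivSqZeroExt.fst (c i) = 0 := by
        have := congrArg q h0
        rw [map_add, map_sum, map_sum, map_zero] at this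
        simp only [map_smul, hqε, smul_zero, Finset.sum_const_zero, add_zero, hb] at this
        exact Fintype.linearIndependent_iff.mp u.linearIndependent _ this
      have h2 : ∀ i, TrivSqZeroExt.snd (c i) = 0 := by
        have h3 : ∑ i, (TrivSqZeroExt.snd (c i)) • ((ε : R[ε]) • b i) = 0 := by
          simpa [h1] using h0
        have h4 : T (fun i => TrivSqZeroExt.snd (c i)) = 0 :=
          Subtype.ext (by rw [hTcoe]; exact h3)
        have h5 := hTinj (h4.trans (map_zero T).symm)
        intro i; exact congrFun h5 i
      intro i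
      refine TrivSqZeroExt.ext ?_ ?_
      · rw [h1 i]; rfl
      · rw [h2 i]; rfl
    have hsp : ⊤ ≤ Submodule.span R[ε] (Set.range b) := by
      rintro m -
      obtain ⟨a, m', hm⟩ := hrep m
      obtain ⟨a', m'', hm'⟩ := hrep m'
      rw [hm, hm', smul_add, hε2, add_zero]
      refine Submodule.add_mem _ (Submodule.sum_mem _ fun i _ => ?_)
        (Submodule.smul_mem _ _ (Submodule.sum_mem _ fun i _ => ?_))
      · exact Submodule.smul_of_tower_mem _ _ (Submodule.subset_span ⟨i, rfl⟩)
      · exact Submodule.smul_of_tower_mem _ _ (Submodule.subset_span ⟨i, rfl⟩)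
    exact ⟨Module.Basis.mk hli hsp⟩

end Groth.Agent.S14033
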