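import Groth.Statements.S14040
import Mathlib

set_option autoImplicit false
universe u v
open W4c1frobunstiva

namespace Groth.Agent.S14040

open TensorProduct in
/-- Let A be a discrete valuation ring and B a Noetherian A-algebra such that the nilradical of B is
prime and meets the image of A only in 0 — the spectrum of B is irreducible and its generic point
lies over the generic point of A. If every fibre ring κ(p) ⊗_A B, p a prime of A, is reduced, then B
is reduced and flat over A. (Affine form of the statement for a dominant morphism from an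
irreducible scheme to the spectrum of a discrete valuation ring with reduced fibres. The published
statement also covers a scheme that is already reduced and does not assume it locally Noetherian;
this row treats reduced fibres with B Noetherian, without which the square-zero extension A ⊕
Frac(A)/A is a counterexample.) -/
theorem result (A : Type u) [CommRing A]
    [IsDomain A] [IsDiscreteValuationRing A] (B : Type v) [CommRing B] [Algebra A B]
    [IsNoetherianRing B] (hirr : (nilradical B).IsPrime)
    (hdom : (nilradical B).comap (algebraMap A B) = ⊥)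
    (hfib : ∀ p : PrimeSpectrum A, IsReduced (p.asIdeal.ResidueField ⊗[A] B)) :
    IsReduced B ∧ Module.Flat A B := by
  classical
  obtain ⟨π, hπ⟩ := IsDiscreteValuationRing.exists_irreducible A
  have hπ0 : π ≠ 0 := hπ.ne_zero
  obtain ⟨ϖ, hϖ⟩ : ∃ ϖ : B, ϖ = algebraMap A B π := ⟨_, rfl⟩
  have hϖN : ϖ ∉ nilradical B := by
    intro h
    have h' : π ∈ (nilradical B).comap (algebraMap A B) := by
      rw [Ideal.mem_comap, ← hϖ]; exact h
    rw [hdom] at h'
    exact hπ0 h'
  have hfib0 : ∀ (p : PrimeSpectrum A) (n : B), n ∈ nilradical B →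
      (1 : p.asIdeal.ResidueField) ⊗ₜ[A] n = 0 := by
    intro p n hn
    have hred := hfib p
    obtain ⟨j, hj⟩ := hn
    apply IsNilpotent.eq_zero
    refine ⟨j, ?_⟩
    rw [Algebra.TensorProduct.tmul_pow, one_pow, hj, TensorProduct.tmul_zero]
  have htors : ∀ n ∈ nilradical B, ∃ j : ℕ, ϖ ^ j * n = 0 := by
    intro n hn
    have h0 : (1 : (⊥ : Ideal A).ResidueField) ⊗ₜ[A] n = 0 := hfib0 ⟨⊥, Ideal.bot_prime⟩ n hn
    have hloc : IsLocalizedModule (nonZeroDivisors A)
        (TensorProduct.mk A (⊥ : Ideal A).ResidueField B 1) := inferInstance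
    have h1 : (TensorProduct.mk A (⊥ : Ideal A).ResidueField B 1) n = 0 := h0
    rw [IsLocalizedModule.eq_zero_iff (nonZeroDivisors A)] at h1
    obtain ⟨⟨a, ha⟩, has⟩ := h1
    have ha0 : a ≠ 0 := nonZeroDivisors.ne_zero ha
    obtain ⟨j, u, hu⟩ := IsDiscreteValuationRing.eq_unit_mul_pow_irreducible ha0 hπ
    refine ⟨j, ?_⟩
    have has' : algebraMap A B a * n = 0 := by
      rw [← Algebra.smul_def]; exact has
    rw [hu, map_mul, map_pow, ← hϖ, mul_assoc] at has'
    have hunit : IsUnit (algebraMap A B (u : A)) := (u.isUnit.map (algebraMap A B))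
    exact (hunit.mul_right_eq_zero).mp has'
  have hspec : ∀ n ∈ nilradical B, ∃ b, n = ϖ * b := by
    intro n hn
    obtain ⟨m, hm⟩ : ∃ m : Ideal A, m = IsLocalRing.maximalIdeal A := ⟨_, rfl⟩
    have hmmax : m.IsMaximal := hm ▸ IsLocalRing.maximalIdeal.isMaximal A
    have hmprime : m.IsPrime := hmmax.isPrime
    have h0 : (1 : m.ResidueField) ⊗ₜ[A] n = 0 := hfib0 ⟨m, hmprime⟩ n hn
    have hex : Function.Exact (m.subtype : m →ₗ[A] A) (Algebra.linearMap A m.ResidueField) := by
      intro a
      rw [Algebra.linearMap_apply, ← RingHom.mem_ker, Ideal.ker_algebraMap_residueField]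
      simp
    have hsurj : Function.Surjective (Algebra.linearMap A m.ResidueField) :=
      Ideal.algebraMap_residueField_surjective m
    have hex' := rTensor_exact B hex hsurj
    have h1 : (LinearMap.rTensor B (Algebra.linearMap A m.ResidueField)) ((1 : A) ⊗ₜ[A] n) = 0 := by
      rw [LinearMap.rTensor_tmul, Algebra.linearMap_apply, map_one]; exact h0
    obtain ⟨z, hz⟩ := (hex' _).mp h1
    have key : ∀ z : m ⊗[A] B, ∃ b, TensorProduct.lid A B (LinearMap.rTensor B m.subtype z) = ϖ * b := by
      intro z
      induction z using TensorProduct.induction_on with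
      | zero => exact ⟨0, by simp⟩
      | tmul a b =>
        obtain ⟨a, ha⟩ := a
        have hmem : a ∈ Ideal.span {π} := by
          rw [← (IsDiscreteValuationRing.irreducible_iff_uniformizer π).mp hπ, ← hm]; exact ha
        obtain ⟨c, rfl⟩ := Ideal.mem_span_singleton'.mp hmem
        refine ⟨algebraMap A B c * b, ?_⟩
        rw [LinearMap.rTensor_tmul, TensorProduct.lid_tmul, Submodule.subtype_apply, Algebra.smul_def,
          map_mul, ← hϖ]
        ring
      | add x y hx hy =>
        obtain ⟨b1, h1⟩ := hx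
        obtain ⟨b2, h2⟩ := hy
        exact ⟨b1 + b2, by rw [map_add, map_add, h1, h2, mul_add]⟩
    obtain ⟨b, hb⟩ := key z
    rw [hz, TensorProduct.lid_tmul, one_smul] at hb
    exact ⟨b, hb⟩
  have hdiv : ∀ n ∈ nilradical B, ∃ b ∈ nilradical B, n = ϖ * b := by
    intro n hn
    obtain ⟨b, hb⟩ := hspec n hn
    refine ⟨b, ?_, hb⟩
    have : ϖ * b ∈ nilradical B := hb ▸ hn
    exact (hirr.mem_or_mem this).resolve_left hϖN
  have hdivpow : ∀ j : ℕ, ∀ n ∈ nilradical B, ∃ b ∈ nilradical B, n = ϖ ^ j * b := by
    intro j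
    induction j with
    | zero => intro n hn; exact ⟨n, hn, by simp⟩
    | succ j ih =>
      intro n hn
      obtain ⟨b, hb, rfl⟩ := ih n hn
      obtain ⟨c, hc, rfl⟩ := hdiv b hb
      exact ⟨c, hc, by ring⟩
  have hstab := monotone_stabilizes_iff_noetherian.mpr (inferInstance : IsNoetherian B B)
  have hmono : Monotone (fun j : ℕ => (LinearMap.ker (LinearMap.mulLeft B (ϖ ^ j)) : Submodule B B)) := by
    intro i j hij x hx
    rw [LinearMap.mem_ker, LinearMap.mulLeft_apply] at hx ⊢
    obtain ⟨d, rfl⟩ := Nat.exists_eq_add_of_le hij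
    rw [pow_add, mul_comm (ϖ ^ i), mul_assoc, hx, mul_zero]
  obtain ⟨j0, hj0⟩ := hstab ⟨_, hmono⟩
  have hN0 : nilradical B = ⊥ := by
    rw [eq_bot_iff]
    intro n hn
    obtain ⟨b, hb, rfl⟩ := hdivpow j0 n hn
    obtain ⟨j', hj'⟩ := htors b hb
    have hb1 : b ∈ LinearMap.ker (LinearMap.mulLeft B (ϖ ^ (max j0 j'))) := by
      rw [LinearMap.mem_ker, LinearMap.mulLeft_apply]
      obtain ⟨d, hd⟩ := Nat.exists_eq_add_of_le (le_max_right j0 j')
      rw [hd, pow_add, mul_comm (ϖ ^ j'), mul_assoc, hj', mul_zero]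
    have h3 : (LinearMap.ker (LinearMap.mulLeft B (ϖ ^ j0)) : Submodule B B) =
        LinearMap.ker (LinearMap.mulLeft B (ϖ ^ (max j0 j'))) := hj0 (max j0 j') (le_max_left _ _)
    have hb2 : b ∈ LinearMap.ker (LinearMap.mulLeft B (ϖ ^ j0)) := by
      rw [h3]; exact hb1
    rw [LinearMap.mem_ker, LinearMap.mulLeft_apply] at hb2
    rw [hb2]; exact Submodule.zero_mem _
  have hred : IsReduced B := nilradical_eq_bot_iff.mp hN0
  refine ⟨hred, ?_⟩
  have hbp : (⊥ : Ideal B).IsPrime := hN0 ▸ hirr
  have hdomB : IsDomain B := IsDomain.of_bot_isPrime B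
  have hinj : Function.Injective (algebraMap A B) := by
    rw [RingHom.injective_iff_ker_eq_bot]
    rw [hN0] at hdom
    exact hdom
  have htf : Module.IsTorsionFree A B := Module.isTorsionFree_iff_algebraMap_injective.mpr hinj
  infer_instance

end Groth.Agent.S14040
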