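import Groth.Statements.S14043
import Mathlib

set_option autoImplicit false
universe u v
open W4c1frobunstiva

namespace Groth.Agent.S14043

/-- Let R be a commutative Noetherian ring, M an R-module that is NR-free of rank r — generated by some
r elements all of whose linear relations have nilpotent coefficients — and m, m' two generating
families of M, each indexed by the same finite set of size r. Then some invertible r × r matrix T
over R expresses m' in terms of m, m'_j = Σ_i T_{ji} m_i; reducing modulo the nilradical n, such a T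
induces the change-of-basis matrix between the bases of M/nM given by the images of m and m' (an
r-element generating family of M is itself an NR-basis), so only the existence of an invertible T is
asserted here. (T is not unique.) -/
theorem result (R : Type u) [CommRing R]
    [IsNoetherianRing R] (M : Type v) [AddCommGroup M] [Module R M] (r : ℕ)
    (hM : W4c1frobunstiva.IsNRFree R M r) (m m' : Fin r → M)
    (hm : Submodule.span R (Set.range m) = ⊤) (hm' : Submodule.span R (Set.range m') = ⊤) :
    ∃ T : Matrix (Fin r) (Fin r) R, IsUnit T ∧ ∀ j, m' j = ∑ i, T j i • m i := by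
  classical
  obtain ⟨m₀, hm₀span, hm₀rel⟩ := hM
  have key : ∀ (v : Fin r → M), Submodule.span R (Set.range v) = ⊤ →
      ∃ P Q : Matrix (Fin r) (Fin r) R, (∀ j, v j = ∑ i, P j i • m₀ i) ∧
        (∀ j, m₀ j = ∑ i, Q j i • v i) ∧ IsUnit P ∧ IsUnit Q := by
    intro v hv
    have hP : ∀ j, ∃ c : Fin r → R, ∑ i, c i • m₀ i = v j := fun j => by
      have h1 : v j ∈ Submodule.span R (Set.range m₀) := by rw [hm₀span]; exact Submodule.mem_top
      exact (Submodule.mem_span_range_iff_exists_fun R).mp h1
    have hQ : ∀ j, ∃ c : Fin r → R, ∑ i, c i • v i = m₀ j := fun j => by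
      have h1 : m₀ j ∈ Submodule.span R (Set.range v) := by rw [hv]; exact Submodule.mem_top
      exact (Submodule.mem_span_range_iff_exists_fun R).mp h1
    choose P hP using hP
    choose Q hQ using hQ
    have hQP : ∀ j, ∑ l, ((Matrix.of Q * Matrix.of P) j l -
        (1 : Matrix (Fin r) (Fin r) R) j l) • m₀ l = 0 := by
      intro j
      simp only [sub_smul, Finset.sum_sub_distrib, Matrix.mul_apply, Matrix.of_apply,
        Finset.sum_smul, mul_smul]
      rw [Finset.sum_comm]
      simp only [← Finset.smul_sum, hP, hQ]
      simp [Matrix.one_apply]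
    have hnil : ∀ j l, IsNilpotent ((Matrix.of Q * Matrix.of P) j l -
        (1 : Matrix (Fin r) (Fin r) R) j l) := fun j => hm₀rel _ (hQP j)
    have hmap : (Ideal.Quotient.mk (nilradical R)).mapMatrix (Matrix.of Q * Matrix.of P) = 1 := by
      have h2 : (Ideal.Quotient.mk (nilradical R)).mapMatrix (Matrix.of Q * Matrix.of P - 1) = 0 := by
        ext j l
        rw [RingHom.mapMatrix_apply, Matrix.map_apply, Matrix.sub_apply, Matrix.zero_apply]
        exact Ideal.Quotient.eq_zero_iff_mem.mpr (mem_nilradical.mpr (hnil j l))
      rw [map_sub, map_one, sub_eq_zero] at h2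
      exact h2
    have hdet : IsUnit (Matrix.of Q * Matrix.of P).det := by
      have h3 : Ideal.Quotient.mk (nilradical R) ((Matrix.of Q * Matrix.of P).det - 1) = 0 := by
        rw [map_sub, map_one, RingHom.map_det, hmap, Matrix.det_one, sub_self]
      have h4 : IsNilpotent ((Matrix.of Q * Matrix.of P).det - 1) :=
        mem_nilradical.mp (Ideal.Quotient.eq_zero_iff_mem.mp h3)
      have h5 := h4.isUnit_add_one
      rwa [sub_add_cancel] at h5
    rw [Matrix.det_mul] at hdet
    refine ⟨Matrix.of P, Matrix.of Q, fun j => (hP j).symm, fun j => (hQ j).symm,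
      (Matrix.isUnit_iff_isUnit_det _).mpr (isUnit_of_mul_isUnit_right hdet),
      (Matrix.isUnit_iff_isUnit_det _).mpr (isUnit_of_mul_isUnit_left hdet)⟩
  obtain ⟨P, Q, hP, hQ, hPu, hQu⟩ := key m hm
  obtain ⟨P', Q', hP', hQ', hP'u, hQ'u⟩ := key m' hm'
  refine ⟨P' * Q, hP'u.mul hQu, fun j => ?_⟩
  rw [hP' j]
  simp only [Matrix.mul_apply, Finset.sum_smul, mul_smul]
  rw [Finset.sum_comm]
  refine Finset.sum_congr rfl fun i _ => ?_
  rw [hQ i, Finset.smul_sum]

end Groth.Agent.S14043
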