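import Groth.Statements.S14046
import Mathlib

set_option autoImplicit false
universe u v w
open W4c1frobunstiva

namespace Groth.Agent.S14046

open scoped TensorProduct


open TensorProduct in
/-- Let R → A be a homomorphism of commutative rings and I, J ideals of A with I ∩ J = 0 — so that A is
the fibre product of A/I and A/J over A/(I + J), i.e. Spec A is the union of the two closed
subschemes in the strong sense — and suppose A/(I + J) is flat over R. Then this persists under
every base change: for every commutative R-algebra R', the ideals generated by I and J in R' ⊗_R A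
again meet in 0. (This is the ideal-theoretic, affine form of the base-change step; the exact
sequence of unit sheaves deduced from it in the published statement — restriction of units to a
closed subscheme being surjective locally — is not restated. Without flatness of A/(I + J) the
conclusion fails: for A = k[x, y]/(xy) over R = k[u] with u ↦ x + y, I = (x) and J = (y), the base
change to R/(u) gives k[x]/(x²), in which both ideals become (x).) -/
theorem result (R : Type u) (A : Type v)
    [CommRing R] [CommRing A] [Algebra R A] (I J : Ideal A) (hIJ : I ⊓ J = ⊥)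
    [Module.Flat R (A ⧸ (I ⊔ J))] (R' : Type w) [CommRing R'] [Algebra R R'] :
    I.map (Algebra.TensorProduct.includeRight : A →ₐ[R] R' ⊗[R] A) ⊓
      J.map (Algebra.TensorProduct.includeRight : A →ₐ[R] R' ⊗[R] A) = ⊥ := by
  classical
  have key : ∀ (K : Ideal A) (y : R' ⊗[R] A),
      y ∈ K.map (Algebra.TensorProduct.includeRight : A →ₐ[R] R' ⊗[R] A) →
      ((Ideal.Quotient.mkₐ R K).toLinearMap.lTensor R') y = 0 := by
    intro K y hy
    obtain ⟨Φ, hΦ⟩ : ∃ Φ : R' ⊗[R] A →ₐ[R] R' ⊗[R] (A ⧸ K),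
        ∀ z, Φ z = ((Ideal.Quotient.mkₐ R K).toLinearMap.lTensor R') z := by
      refine ⟨Algebra.TensorProduct.map (AlgHom.id R R') (Ideal.Quotient.mkₐ R K), fun z => ?_⟩
      induction z using TensorProduct.induction_on with
      | zero => simp only [map_zero]
      | tmul r a => rfl
      | add z z' hz hz' => rw [map_add, map_add, hz, hz']
    rw [← hΦ]
    have hle : K.map (Algebra.TensorProduct.includeRight : A →ₐ[R] R' ⊗[R] A) ≤
        RingHom.ker Φ.toRingHom := by
      rw [Ideal.map_le_iff_le_comap]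
      intro a ha
      rw [Ideal.mem_comap, RingHom.mem_ker]
      change Φ ((1 : R') ⊗ₜ[R] a) = 0
      rw [hΦ, LinearMap.lTensor_tmul]
      change (1 : R') ⊗ₜ[R] (Ideal.Quotient.mk K a) = 0
      rw [Ideal.Quotient.eq_zero_iff_mem.mpr ha, TensorProduct.tmul_zero]
    exact hle hy
  rw [eq_bot_iff]
  intro x hx
  obtain ⟨hxI, hxJ⟩ := hx
  rw [Ideal.mem_bot]
  -- the exact sequence
  obtain ⟨qI, hqI⟩ : ∃ q : A →ₗ[R] A ⧸ I, q = (Ideal.Quotient.mkₐ R I).toLinearMap := ⟨_, rfl⟩
  obtain ⟨qJ, hqJ⟩ : ∃ q : A →ₗ[R] A ⧸ J, q = (Ideal.Quotient.mkₐ R J).toLinearMap := ⟨_, rfl⟩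
  have hqIa : ∀ a, qI a = Ideal.Quotient.mk I a := fun a => by rw [hqI]; rfl
  have hqJa : ∀ a, qJ a = Ideal.Quotient.mk J a := fun a => by rw [hqJ]; rfl
  obtain ⟨pI, hpI⟩ : ∃ q : A ⧸ I →ₗ[R] A ⧸ (I ⊔ J),
      ∀ a, q (Ideal.Quotient.mk I a) = Ideal.Quotient.mk (I ⊔ J) a :=
    ⟨(Ideal.Quotient.factorₐ R (le_sup_left : I ≤ I ⊔ J)).toLinearMap, fun a => rfl⟩
  obtain ⟨pJ, hpJ⟩ : ∃ q : A ⧸ J →ₗ[R] A ⧸ (I ⊔ J),
      ∀ a, q (Ideal.Quotient.mk J a) = Ideal.Quotient.mk (I ⊔ J) a :=
    ⟨(Ideal.Quotient.factorₐ R (le_sup_right : J ≤ I ⊔ J)).toLinearMap, fun a => rfl⟩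
  have hg_inj : Function.Injective (qI.prod qJ) := by
    rw [injective_iff_map_eq_zero]
    intro a ha
    have h1 : qI a = 0 := congrArg Prod.fst ha
    have h2 : qJ a = 0 := congrArg Prod.snd ha
    rw [hqIa, Ideal.Quotient.eq_zero_iff_mem] at h1
    rw [hqJa, Ideal.Quotient.eq_zero_iff_mem] at h2
    have h3 : a ∈ I ⊓ J := ⟨h1, h2⟩
    rw [hIJ] at h3
    exact h3
  have hf_surj : Function.Surjective (pI.coprod (-pJ)) := by
    intro z
    obtain ⟨a, rfl⟩ := Ideal.Quotient.mk_surjective z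
    refine ⟨(Ideal.Quotient.mk I a, 0), ?_⟩
    rw [LinearMap.coprod_apply, map_zero, add_zero, hpI]
  have hexact : Function.Exact (qI.prod qJ) (pI.coprod (-pJ)) := by
    intro y
    constructor
    · intro hy
      obtain ⟨y1, y2⟩ := y
      obtain ⟨a₁, rfl⟩ := Ideal.Quotient.mk_surjective y1
      obtain ⟨a₂, rfl⟩ := Ideal.Quotient.mk_surjective y2
      rw [LinearMap.coprod_apply, LinearMap.neg_apply, hpI, hpJ, ← sub_eq_add_neg, ← map_sub,
        Ideal.Quotient.eq_zero_iff_mem, Submodule.mem_sup] at hy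
      obtain ⟨i, hi, j, hj, hij⟩ := hy
      refine ⟨a₁ - i, ?_⟩
      refine Prod.ext ?_ ?_
      · change qI (a₁ - i) = _
        rw [hqIa, map_sub, Ideal.Quotient.eq_zero_iff_mem.mpr hi, sub_zero]
      · change qJ (a₁ - i) = _
        rw [hqJa]
        have h4 : a₁ - i = a₂ + j := by linear_combination (-1 : A) * hij
        rw [h4, map_add, Ideal.Quotient.eq_zero_iff_mem.mpr hj, add_zero]
    · rintro ⟨a, rfl⟩
      rw [LinearMap.coprod_apply, LinearMap.neg_apply]
      change pI (qI a) + -pJ (qJ a) = 0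
      rw [hqIa, hqJa, hpI, hpJ, add_neg_cancel]
  have hinj := LinearMap.lTensor_injective_of_exact_of_flat (pI.coprod (-pJ)) hf_surj
    (qI.prod qJ) hg_inj hexact R'
  apply hinj
  rw [map_zero]
  have hdecomp : qI.prod qJ = (LinearMap.inl R (A ⧸ I) (A ⧸ J)).comp qI +
      (LinearMap.inr R (A ⧸ I) (A ⧸ J)).comp qJ := by
    refine LinearMap.ext fun a => ?_
    refine Prod.ext ?_ ?_ <;> simp
  rw [hdecomp, LinearMap.lTensor_add, LinearMap.add_apply, LinearMap.lTensor_comp,
    LinearMap.lTensor_comp, LinearMap.comp_apply, LinearMap.comp_apply]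
  have h1 := key I x hxI
  have h2 := key J x hxJ
  rw [← hqI] at h1
  rw [← hqJ] at h2
  rw [h1, h2, map_zero, map_zero, add_zero]

end Groth.Agent.S14046
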