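import Groth.Statements.S14048
import Mathlib

set_option autoImplicit false
universe u
open TensorProduct
open CAlg

namespace Groth.Agent.S14048

/-- The subring of rationals whose denominator is prime to `p`. -/
def pInt (p : ℕ) (hp : p.Prime) : Subring ℚ where
  carrier := {x | ¬ p ∣ x.den}
  mul_mem' := by
    intro x y hx hy hdvd
    rcases (hp.dvd_mul).mp (hdvd.trans (Rat.mul_den_dvd x y)) with h | h
    exacts [hx h, hy h]
  one_mem' := by
    show ¬ p ∣ (1 : ℚ).den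
    rw [Rat.den_one, Nat.dvd_one]; exact hp.one_lt.ne'
  add_mem' := by
    intro x y hx hy hdvd
    rcases (hp.dvd_mul).mp (hdvd.trans (Rat.add_den_dvd x y)) with h | h
    exacts [hx h, hy h]
  zero_mem' := by
    show ¬ p ∣ (0 : ℚ).den
    rw [Rat.den_zero, Nat.dvd_one]; exact hp.one_lt.ne'
  neg_mem' := by
    intro x hx
    show ¬ p ∣ (-x).den
    rw [Rat.neg_den]; exact hx

theorem mem_pInt (p : ℕ) (hp : p.Prime) (x : ℚ) : x ∈ pInt p hp ↔ ¬ p ∣ x.den := Iff.rfl


/-- Let A be an integral domain in which 2 is invertible and let t be an element of A, so that Spec A is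
a scheme over the affine line Spec ℤ[1/2][t]. Assume that (1) the ℚ-algebra map ℚ[X] → ℚ ⊗_ℤ A
sending X to 1 ⊗ t is bijective (the map Spec A → Spec ℤ[1/2][t] becomes an isomorphism after base
change to ℚ); (2) every prime number is invertible in A/(t) (the fibre over t = 0 is of pure
characteristic zero); and (3) there is a ring homomorphism s : A → ℤ[1/2] with s(t) = 1 (the fibre
over t = 1 admits a section). Then A is not Noetherian. -/
theorem result (A : Type u) [CommRing A]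
    [IsDomain A] (h2 : IsUnit (2 : A)) (t : A)
    (h1 : Function.Bijective (Polynomial.aeval (R := ℚ) ((1 : ℚ) ⊗ₜ[ℤ] t : ℚ ⊗[ℤ] A)))
    (h0 : ∀ p : ℕ, p.Prime → IsUnit ((p : ℕ) : A ⧸ Ideal.span ({t} : Set A)))
    (s : A →+* Localization.Away (2 : ℤ)) (hs : s t = 1) :
    ¬ IsNoetherianRing A := by
  classical
  intro hN
  obtain ⟨j, -⟩ : ∃ j : Localization.Away (2 : ℤ) →+* ℚ, True :=
    ⟨IsLocalization.Away.lift (2 : ℤ) (g := Int.castRingHom ℚ) (by norm_num), trivial⟩
  obtain ⟨ι, hι⟩ : ∃ ι : Localization.Away (2 : ℤ) →+* A, s.comp ι = RingHom.id _ := by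
    refine ⟨IsLocalization.Away.lift (2 : ℤ) (g := Int.castRingHom A) (by simpa using h2), ?_⟩
    exact IsLocalization.ringHom_ext (Submonoid.powers (2 : ℤ)) (RingHom.ext_int _ _)
  obtain ⟨E, hE⟩ : ∃ E : Polynomial ℚ ≃ₐ[ℚ] ℚ ⊗[ℤ] A, E Polynomial.X = (1 : ℚ) ⊗ₜ[ℤ] t :=
    ⟨AlgEquiv.ofBijective _ h1, by simp⟩
  obtain ⟨ψ, hψt, hψs⟩ : ∃ ψ : A →+* Polynomial ℚ, ψ t = Polynomial.X ∧
      ∀ a, Polynomial.eval 1 (ψ a) = j (s a) := by
    refine ⟨(E.symm : ℚ ⊗[ℤ] A →+* Polynomial ℚ).comp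
      (Algebra.TensorProduct.includeRight : A →ₐ[ℤ] ℚ ⊗[ℤ] A).toRingHom, ?_, ?_⟩
    · show E.symm ((1 : ℚ) ⊗ₜ[ℤ] t) = Polynomial.X
      rw [AlgEquiv.symm_apply_eq, hE]
    · intro a
      obtain ⟨L, hL⟩ : ∃ L : ℚ ⊗[ℤ] A →ₐ[ℚ] ℚ, ∀ (q : ℚ) (a : A), L (q ⊗ₜ[ℤ] a) = q * j (s a) := by
        refine ⟨Algebra.TensorProduct.lift (Algebra.ofId ℚ ℚ) ((j.comp s).toIntAlgHom)
          (fun _ _ => Commute.all _ _), ?_⟩
        intro q a
        simp [Algebra.TensorProduct.lift_tmul]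
      have hLE : (L.comp (E : Polynomial ℚ →ₐ[ℚ] ℚ ⊗[ℤ] A)) = Polynomial.aeval (1 : ℚ) := by
        apply Polynomial.algHom_ext
        simp [hE, hL, hs]
      have h3 := congrArg (fun f => f (E.symm ((1 : ℚ) ⊗ₜ[ℤ] a))) hLE
      simp only [AlgHom.comp_apply, AlgEquiv.coe_algHom, AlgEquiv.apply_symm_apply] at h3
      show Polynomial.eval 1 (E.symm ((1 : ℚ) ⊗ₜ[ℤ] a)) = j (s a)
      rw [← Polynomial.coe_aeval_eq_eval, ← h3, hL, one_mul]
  obtain ⟨ψ', hψ'def⟩ : ∃ ψ' : A →+* Polynomial ℚ, ∀ a, ψ' a = (ψ a).comp (Polynomial.X + 1) :=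
    ⟨(Polynomial.compRingHom (Polynomial.X + 1)).comp ψ, fun _ => rfl⟩
  have hψ'0 : ∀ a, (ψ' a).coeff 0 = j (s a) := by
    intro a
    rw [← hψs a, Polynomial.coeff_zero_eq_eval_zero, hψ'def, Polynomial.eval_comp]
    simp
  have hψ't : ψ' t = Polynomial.X + 1 := by
    rw [hψ'def, hψt, Polynomial.X_comp]
  have hψ'ι : ∀ c, ψ' (ι c) = Polynomial.C (j c) := by
    intro c
    have h : (ψ'.comp ι) = (Polynomial.C).comp j :=
      IsLocalization.ringHom_ext (Submonoid.powers (2 : ℤ)) (RingHom.ext_int _ _)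
    exact RingHom.congr_fun h c
  obtain ⟨G, hG⟩ := (isNoetherianRing_iff_ideal_fg A).mp hN (RingHom.ker s)
  obtain ⟨N, hNdef⟩ : ∃ N : ℕ, N = ∏ g ∈ G, ∏ l ∈ Finset.range ((ψ' g).natDegree + 1),
      ((ψ' g).coeff l).den := ⟨_, rfl⟩
  obtain ⟨p, hpN, hp⟩ := Nat.exists_infinite_primes (N + 3)
  have hp2 : p ≠ 2 := by omega
  have hNpos : 0 < N := by
    rw [hNdef]
    exact Finset.prod_pos fun g _ => Finset.prod_pos fun l _ => Rat.den_pos _
  have hgen : ∀ g ∈ G, ∀ l, ¬ p ∣ ((ψ' g).coeff l).den := by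
    intro g hg l hdvd
    by_cases hl : l ∈ Finset.range ((ψ' g).natDegree + 1)
    · have h1 : ((ψ' g).coeff l).den ∣ N := by
        rw [hNdef]
        exact (Finset.dvd_prod_of_mem _ hl).trans (Finset.dvd_prod_of_mem
          (fun g => ∏ l ∈ Finset.range ((ψ' g).natDegree + 1), ((ψ' g).coeff l).den) hg)
      have := Nat.le_of_dvd hNpos (hdvd.trans h1)
      omega
    · rw [Finset.mem_range, not_lt] at hl
      rw [Polynomial.coeff_eq_zero_of_natDegree_lt (by omega), Rat.den_zero, Nat.dvd_one] at hdvd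
      exact hp.one_lt.ne' hdvd
  obtain ⟨S, hS⟩ : ∃ S : Subring ℚ, ∀ x, x ∈ S ↔ ¬ p ∣ x.den := ⟨pInt p hp, mem_pInt p hp⟩
  have h2inv : (2⁻¹ : ℚ) ∈ S := by
    rw [hS]
    have : ((2 : ℕ) : ℚ)⁻¹.den = 2 := Rat.inv_natCast_den_of_pos (by norm_num)
    rw [show (2⁻¹ : ℚ) = ((2 : ℕ) : ℚ)⁻¹ by norm_num, this]
    intro h
    exact hp2 ((Nat.prime_dvd_prime_iff_eq hp Nat.prime_two).mp h)
  have hjS : ∀ c, j c ∈ S := by
    intro c
    obtain ⟨n, a, hna⟩ := IsLocalization.Away.surj (2 : ℤ) c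
    have h := congrArg j hna
    rw [map_mul, map_pow] at h
    have hj2 : j (algebraMap ℤ _ 2) = 2 := by rw [eq_intCast, Int.cast_ofNat]; exact map_ofNat j 2
    have hja : j (algebraMap ℤ _ a) = (a : ℚ) := by simp
    rw [hj2, hja] at h
    have h' : j c = (a : ℚ) * (2⁻¹) ^ n := by
      rw [← h, mul_assoc, ← mul_pow]; norm_num
    rw [h']
    exact S.mul_mem (intCast_mem S a) (S.pow_mem h2inv n)
  have hC : ∀ n, ∀ a, (ψ' a).coeff n ∈ S := by
    intro n
    induction n using Nat.strong_induction_on with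
    | _ n IH =>
      have hM : ∀ x ∈ Ideal.span (G : Set A), s x = 0 ∧ ∀ l ≤ n, (ψ' x).coeff l ∈ S := by
        intro x hx
        induction hx using Submodule.span_induction with
        | mem g hg =>
          refine ⟨?_, fun l _ => (hS _).mpr (hgen g hg l)⟩
          have : g ∈ RingHom.ker s := by rw [← hG]; exact Ideal.subset_span hg
          exact this
        | zero => exact ⟨map_zero _, fun l _ => by simp [S.zero_mem]⟩
        | add x y _ _ hx hy =>
          refine ⟨by rw [map_add, hx.1, hy.1, add_zero], fun l hl => ?_⟩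
          rw [map_add, Polynomial.coeff_add]
          exact S.add_mem (hx.2 l hl) (hy.2 l hl)
        | smul h x _ hx =>
          refine ⟨by rw [smul_eq_mul, map_mul, hx.1, mul_zero], fun l hl => ?_⟩
          rw [smul_eq_mul, map_mul, Polynomial.coeff_mul]
          refine S.sum_mem fun ij hij => ?_
          rw [Finset.HasAntidiagonal.mem_antidiagonal] at hij
          by_cases h0 : ij.2 = 0
          · rw [h0, hψ'0, hx.1, map_zero, mul_zero]; exact S.zero_mem
          · exact S.mul_mem (IH ij.1 (by omega) h) (hx.2 ij.2 (by omega))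
      intro a
      have hker : a - ι (s a) ∈ Ideal.span (G : Set A) := by
        rw [hG, RingHom.mem_ker, map_sub]
        have : s (ι (s a)) = s a := RingHom.congr_fun hι (s a)
        rw [this, sub_self]
      have h1 := (hM _ hker).2 n le_rfl
      have h2 : (ψ' a).coeff n = (ψ' (a - ι (s a))).coeff n + (Polynomial.C (j (s a))).coeff n := by
        rw [← hψ'ι, ← Polynomial.coeff_add, ← map_add, sub_add_cancel]
      rw [h2]
      refine S.add_mem h1 ?_
      rw [Polynomial.coeff_C]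
      split_ifs
      · exact hjS _
      · exact S.zero_mem
  obtain ⟨abar, habar⟩ := (h0 p hp).exists_right_inv
  obtain ⟨a, rfl⟩ := Ideal.Quotient.mk_surjective abar
  have hmem : (p : A) * a - 1 ∈ Ideal.span ({t} : Set A) := by
    rw [← Ideal.Quotient.eq, map_mul, map_natCast, map_one]; exact habar
  obtain ⟨b, hb⟩ := Ideal.mem_span_singleton'.mp hmem
  have h3 := congrArg (fun x => Polynomial.eval (-1) (ψ' x)) hb
  simp only [map_mul, map_sub, map_one, map_natCast, hψ't, Polynomial.eval_mul, Polynomial.eval_sub,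
    Polynomial.eval_add, Polynomial.eval_X, Polynomial.eval_one, Polynomial.eval_natCast] at h3
  have h4 : (p : ℚ) * Polynomial.eval (-1) (ψ' a) = 1 := by linarith
  have h5 : Polynomial.eval (-1) (ψ' a) ∈ S := by
    rw [Polynomial.eval_eq_sum_range]
    exact S.sum_mem fun i _ => S.mul_mem (hC i a) (S.pow_mem (S.neg_mem S.one_mem) i)
  have h6 : Polynomial.eval (-1) (ψ' a) = (p : ℚ)⁻¹ := eq_inv_of_mul_eq_one_right h4
  rw [h6, hS, Rat.inv_natCast_den_of_pos hp.pos] at h5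
  exact h5 dvd_rfl

end Groth.Agent.S14048
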