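import Groth.Statements.S14051
import Mathlib

set_option autoImplicit false
universe u
open CAlg

namespace Groth.Agent.S14051

/-- In a graded algebra generated in degree one (`𝒜 (n+1) = 𝒜 1 * 𝒜 n`), `𝒜 (i+j) = 𝒜 i * 𝒜 j`. -/
theorem grade_add_eq_mul {R : Type*} [CommRing R] {A : Type*} [CommRing A] [Algebra R A]
    (𝒜 : ℕ → Submodule R A) [GradedAlgebra 𝒜]
    (hA : ∀ n : ℕ, 𝒜 (n + 1) = 𝒜 1 * 𝒜 n) (i j : ℕ) : 𝒜 (i + j) = 𝒜 i * 𝒜 j := by
  induction i with
  | zero =>
    rw [zero_add]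
    apply le_antisymm
    · intro x hx
      have h1 : (1 : A) * x ∈ 𝒜 0 * 𝒜 j := Submodule.mul_mem_mul (SetLike.one_mem_graded 𝒜) hx
      rwa [one_mul] at h1
    · rw [Submodule.mul_le]
      intro a ha b hb
      have h2 := SetLike.mul_mem_graded ha hb
      rwa [zero_add] at h2
  | succ i ih =>
    rw [show i + 1 + j = (i + j) + 1 by ring, hA, ih, ← mul_assoc, ← hA]

/-- Main statement, as a reusable lemma. -/
theorem grade_add_eq_smul
    {R : Type*} [CommRing R] {A : Type*} [CommRing A] [Algebra R A]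
    (𝒜 : ℕ → Submodule R A) [GradedAlgebra 𝒜]
    (hA : ∀ n : ℕ, 𝒜 (n + 1) = 𝒜 1 * 𝒜 n)
    {M : Type*} [AddCommGroup M] [Module R M] [Module A M] [IsScalarTower R A M]
    (ℳ : ℕ → Submodule R M) [DirectSum.Decomposition ℳ] [SetLike.GradedSMul 𝒜 ℳ]
    (s : Set M) (n₀ : ℕ) (hs : ∀ y ∈ s, ∃ d : ℕ, d ≤ n₀ ∧ y ∈ ℳ d)
    (hspan : Submodule.span A s = ⊤)
    (n k : ℕ) (hn : n₀ ≤ n) :
    ℳ (n + k) = 𝒜 k • ℳ n := by
  classical
  have hAadd := grade_add_eq_mul 𝒜 hA
  have hsm : ∀ {i j : ℕ} {a : A} {m : M}, a ∈ 𝒜 i → m ∈ ℳ j → a • m ∈ ℳ (i + j) := by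
    intro i j a m ha hm
    have h1 := SetLike.GradedSMul.smul_mem ha hm
    rwa [vadd_eq_add] at h1
  -- the submodules T m
  obtain ⟨T, hT⟩ : ∃ T : ℕ → Submodule R M, ∀ m, T m = Submodule.span R
      {x | ∃ (d : ℕ) (a : A) (y : M), d ≤ n₀ ∧ d ≤ m ∧ y ∈ s ∧ y ∈ ℳ d ∧ a ∈ 𝒜 (m - d) ∧ x = a • y} :=
    ⟨_, fun m => rfl⟩
  have hTle : ∀ m, T m ≤ ℳ m := by
    intro m
    rw [hT, Submodule.span_le]
    rintro x ⟨d, a, y, _, hdm, _, hyd, ha, rfl⟩
    have h1 := hsm ha hyd
    rwa [Nat.sub_add_cancel hdm] at h1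
  have hTsmul : T (n + k) ≤ 𝒜 k • ℳ n := by
    rw [hT, Submodule.span_le]
    rintro x ⟨d, a, y, hdn₀, hdm, _, hyd, ha, rfl⟩
    have hdn : d ≤ n := le_trans hdn₀ hn
    have h1 : n + k - d = k + (n - d) := by omega
    rw [h1, hAadd] at ha
    refine Submodule.mul_induction_on ha ?_ ?_
    · intro b hb c hc
      rw [mul_smul]
      refine Submodule.smul_mem_smul hb ?_
      have h2 := hsm hc hyd
      rwa [Nat.sub_add_cancel hdn] at h2
    · intro u v hu hv
      rw [add_smul]
      exact add_mem hu hv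
  -- homogeneous elements of A move T m into T (m + i)
  have hTmove : ∀ (i : ℕ) (a : A), a ∈ 𝒜 i → ∀ m, ∀ x ∈ T m, a • x ∈ T (m + i) := by
    intro i a ha m x hx
    rw [hT] at hx
    refine Submodule.span_induction (p := fun x _ => a • x ∈ T (m + i)) ?_ ?_ ?_ ?_ hx
    · rintro x ⟨d, a', y, hdn₀, hdm, hys, hyd, ha', rfl⟩
      rw [hT]
      refine Submodule.subset_span ⟨d, a * a', y, hdn₀, le_trans hdm (Nat.le_add_right _ _), hys,
        hyd, ?_, (mul_smul a a' y).symm⟩
      have h1 := SetLike.mul_mem_graded ha ha'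
      have h2 : i + (m - d) = m + i - d := by omega
      rwa [h2] at h1
    · rw [smul_zero]; exact zero_mem _
    · intro u v _ _ hu hv
      rw [smul_add]; exact add_mem hu hv
    · intro r u _ hu
      rw [smul_comm]; exact Submodule.smul_mem _ r hu
  have hall : ∀ x : M, x ∈ ⨆ m, T m := by
    intro x
    have hx : x ∈ Submodule.span A s := by rw [hspan]; exact Submodule.mem_top
    refine Submodule.span_induction (p := fun x _ => x ∈ ⨆ m, T m) ?_ ?_ ?_ ?_ hx
    · intro y hy
      obtain ⟨d, hd, hyd⟩ := hs y hy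
      refine Submodule.mem_iSup_of_mem d ?_
      rw [hT]
      refine Submodule.subset_span ⟨d, 1, y, hd, le_rfl, hy, hyd, ?_, (one_smul A y).symm⟩
      rw [Nat.sub_self]
      exact SetLike.one_mem_graded 𝒜
    · exact zero_mem _
    · intro u v _ _ hu hv
      exact add_mem hu hv
    · intro a u _ hu
      refine DirectSum.Decomposition.inductionOn 𝒜 (motive := fun a => a • u ∈ ⨆ m, T m)
        ?_ ?_ ?_ a
      · rw [zero_smul]; exact zero_mem _
      · intro i ai
        refine Submodule.iSup_induction T (motive := fun u => (ai : A) • u ∈ ⨆ m, T m) hu ?_ ?_ ?_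
        · intro m x hx
          exact Submodule.mem_iSup_of_mem (m + i) (hTmove i ai ai.2 m x hx)
        · rw [smul_zero]; exact zero_mem _
        · intro x y hx hy
          rw [smul_add]; exact add_mem hx hy
      · intro a a' ha ha'
        rw [add_smul]; exact add_mem ha ha'
  have hcomp : ∀ m, ∀ z ∈ ⨆ j, T j, ((DirectSum.decompose ℳ z m : ℳ m) : M) ∈ T m := by
    intro m z hz
    refine Submodule.iSup_induction T
      (motive := fun z => ((DirectSum.decompose ℳ z m : ℳ m) : M) ∈ T m) hz ?_ ?_ ?_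
    · intro j x hx
      by_cases hjm : j = m
      · subst hjm
        rw [DirectSum.decompose_of_mem_same ℳ (hTle j hx)]
        exact hx
      · rw [DirectSum.decompose_of_mem_ne ℳ (hTle j hx) hjm]
        exact zero_mem _
    · rw [DirectSum.decompose_zero, DirectSum.zero_apply, ZeroMemClass.coe_zero]
      exact zero_mem _
    · intro x y hx hy
      rw [DirectSum.decompose_add, DirectSum.add_apply, Submodule.coe_add]
      exact add_mem hx hy
  apply le_antisymm
  · intro x hx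
    have h1 := hcomp (n + k) x (hall x)
    rw [DirectSum.decompose_of_mem_same ℳ hx] at h1
    exact hTsmul h1
  · rw [Submodule.smul_le]
    intro a ha m hm
    have h1 := hsm ha hm
    rwa [add_comm] at h1


/-- Let A be a commutative ℕ-graded algebra over a base ring R which is generated by A_1 as an
A_0-algebra, written as A_{n+1} = A_1 · A_n for every n, and let M be a graded A-module: an A-module
with R-submodules M_n giving a direct-sum decomposition and A_i · M_j ⊆ M_{i+j}. If M is spanned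
over A by a set of homogeneous elements all of degree at most n₀, then for every n ≥ n₀ and every k
≥ 0 the degree-(n+k) part of M is A_k · M_n. -/
theorem result
    (R : Type u) [CommRing R] (A : Type u) [CommRing A] [Algebra R A]
    (𝒜 : ℕ → Submodule R A) [GradedAlgebra 𝒜]
    (hA : ∀ n : ℕ, 𝒜 (n + 1) = 𝒜 1 * 𝒜 n)
    (M : Type u) [AddCommGroup M] [Module R M] [Module A M] [IsScalarTower R A M]
    (ℳ : ℕ → Submodule R M) [DirectSum.Decomposition ℳ] [SetLike.GradedSMul 𝒜 ℳ]
    (s : Set M) (n₀ : ℕ) (hs : ∀ y ∈ s, ∃ d : ℕ, d ≤ n₀ ∧ y ∈ ℳ d)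
    (hspan : Submodule.span A s = ⊤)
    (n k : ℕ) (hn : n₀ ≤ n) :
    ℳ (n + k) = 𝒜 k • ℳ n := by
  exact grade_add_eq_smul 𝒜 hA ℳ s n₀ hs hspan n k hn

end Groth.Agent.S14051
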