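import Groth.Statements.S14053
import Mathlib

set_option autoImplicit false
universe u
open CAlg

namespace Groth.Agent.S14053

/-- Let k be a field and R a commutative ℕ-graded k-algebra with R_0 = k · 1 which is generated as a
k-algebra by R_1, R_2 and R_3, each a finite-dimensional k-vector space, of dimensions d_1, d_2,
d_3. Then for every natural number e ≥ 5 d_1 + 4 d_2 + 3 d_3 the (6e)-th Veronese subring of R is
generated in degree one over k: R_{6em} = (R_{6e})^m for every m > 0. -/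
theorem result
    (k : Type u) [Field k] (R : Type u) [CommRing R] [Algebra k R]
    (ℛ : ℕ → Submodule k R) [GradedAlgebra ℛ]
    (h0 : ℛ 0 = 1)
    (hgen : Algebra.adjoin k ((ℛ 1 : Set R) ∪ (ℛ 2 : Set R) ∪ (ℛ 3 : Set R)) = ⊤)
    [Module.Finite k (ℛ 1)] [Module.Finite k (ℛ 2)] [Module.Finite k (ℛ 3)]
    (e : ℕ) (he : 5 * Module.finrank k (ℛ 1) + 4 * Module.finrank k (ℛ 2) + 3 * Module.finrank k (ℛ 3) ≤ e)
    (m : ℕ) (hm : 0 < m) :
    ℛ (m * (6 * e)) = ℛ (6 * e) ^ m := by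
  classical
  have hmul : ∀ i j, ℛ i * ℛ j ≤ ℛ (i + j) := fun i j =>
    Submodule.mul_le.mpr fun x hx y hy => SetLike.mul_mem_graded hx hy
  have hpow : ∀ i a, ℛ i ^ a ≤ ℛ (a * i) := by
    intro i a
    induction a with
    | zero => rw [pow_zero, zero_mul, h0]
    | succ a ih =>
      rw [pow_succ]
      refine (mul_le_mul' ih le_rfl).trans ((hmul _ _).trans (le_of_eq ?_))
      congr 1; ring
  obtain ⟨W, hW⟩ : ∃ W : ℕ × ℕ × ℕ → Submodule k R,
      ∀ t, W t = ℛ 1 ^ t.1 * ℛ 2 ^ t.2.1 * ℛ 3 ^ t.2.2 := ⟨_, fun _ => rfl⟩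
  have hWdeg : ∀ t : ℕ × ℕ × ℕ, W t ≤ ℛ (t.1 + 2 * t.2.1 + 3 * t.2.2) := by
    intro t
    rw [hW]
    have h1 := hpow 1 t.1
    have h2 := hpow 2 t.2.1
    have h3 := hpow 3 t.2.2
    refine (mul_le_mul' (mul_le_mul' h1 h2) h3).trans ?_
    refine (mul_le_mul' (hmul _ _) le_rfl).trans ((hmul _ _).trans (le_of_eq ?_))
    congr 1; ring
  have hWmul : ∀ s t : ℕ × ℕ × ℕ, W s * W t = W (s + t) := by
    intro s t
    simp only [hW, Prod.fst_add, Prod.snd_add, pow_add]
    ring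
  obtain ⟨M, hM⟩ : ∃ M : Submodule k R, M = ⨆ t, W t := ⟨_, rfl⟩
  have hMM : M * M ≤ M := by
    rw [hM, Submodule.iSup_mul]
    refine iSup_le fun s => ?_
    rw [Submodule.mul_iSup]
    refine iSup_le fun t => ?_
    rw [hWmul]
    exact le_iSup W (s + t)
  have hMtop : ∀ x : R, x ∈ M := by
    intro x
    have hx : x ∈ Algebra.adjoin k ((ℛ 1 : Set R) ∪ (ℛ 2 : Set R) ∪ (ℛ 3 : Set R)) := by
      rw [hgen]; trivial
    induction hx using Algebra.adjoin_induction with
    | mem x hx =>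
      rw [hM]
      rcases hx with (hx | hx) | hx
      · exact Submodule.mem_iSup_of_mem (1, 0, 0) (by rw [hW]; simpa using hx)
      · exact Submodule.mem_iSup_of_mem (0, 1, 0) (by rw [hW]; simpa using hx)
      · exact Submodule.mem_iSup_of_mem (0, 0, 1) (by rw [hW]; simpa using hx)
    | algebraMap r =>
      rw [hM]
      refine Submodule.mem_iSup_of_mem (0, 0, 0) ?_
      rw [hW]
      simp only [pow_zero, mul_one]
      exact Submodule.algebraMap_mem r
    | add x y _ _ hx hy => exact add_mem hx hy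
    | mul x y _ _ hx hy => exact hMM (Submodule.mul_mem_mul hx hy)
  obtain ⟨P, hP⟩ : ∃ P : ℕ → Submodule k R,
      ∀ n, P n = ⨆ (t : ℕ × ℕ × ℕ) (_ : t.1 + 2 * t.2.1 + 3 * t.2.2 = n), W t := ⟨_, fun _ => rfl⟩
  have hPle : ∀ n, ℛ n ≤ P n := by
    intro n x hx
    have hxM : x ∈ ⨆ t, W t := hM ▸ hMtop x
    have key : ∀ n, ((DirectSum.decompose ℛ x n : ℛ n) : R) ∈ P n := by
      refine Submodule.iSup_induction W
        (motive := fun y => ∀ n, ((DirectSum.decompose ℛ y n : ℛ n) : R) ∈ P n) hxM ?_ ?_ ?_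
      · intro t y hy n
        have hyd := hWdeg t hy
        by_cases hn : t.1 + 2 * t.2.1 + 3 * t.2.2 = n
        · subst hn
          rw [DirectSum.decompose_of_mem_same ℛ hyd, hP]
          exact Submodule.mem_iSup_of_mem t (Submodule.mem_iSup_of_mem rfl hy)
        · rw [DirectSum.decompose_of_mem_ne ℛ hyd hn]
          exact zero_mem _
      · intro n
        simp
      · intro y z hy hz n
        rw [DirectSum.decompose_add, DirectSum.add_apply, Submodule.coe_add]
        exact add_mem (hy n) (hz n)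
    have := key n
    rwa [DirectSum.decompose_of_mem_same ℛ hx] at this
  have hrem : ∀ (V : Submodule k R) [Module.Finite k V] (a q : ℕ),
      V ^ a = ⊥ ∨ a % (q + 1) ≤ q * Module.finrank k V := by
    intro V _ a q
    by_cases hV : V = ⊥
    · rcases Nat.eq_zero_or_pos a with rfl | ha
      · right; simp
      · left; rw [hV, ← Submodule.zero_eq_bot, zero_pow ha.ne']
    · right
      have hpos : 1 ≤ Module.finrank k V := Submodule.one_le_finrank_iff.mpr hV
      have h1 : a % (q + 1) ≤ q := Nat.lt_succ_iff.mp (Nat.mod_lt _ (Nat.succ_pos q))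
      exact h1.trans (Nat.le_mul_of_pos_right q hpos)
  have hsplit3 : ∀ x y z : ℕ, e ≤ x + y + z → ∃ x' y' z' : ℕ, x' ≤ x ∧ y' ≤ y ∧ z' ≤ z ∧
      x' + y' + z' = e := by
    intro x y z h
    by_cases h1 : e ≤ x
    · exact ⟨e, 0, 0, h1, Nat.zero_le _, Nat.zero_le _, by omega⟩
    · by_cases h2 : e - x ≤ y
      · exact ⟨x, e - x, 0, le_rfl, h2, Nat.zero_le _, by omega⟩
      · exact ⟨x, y, e - x - y, le_rfl, le_rfl, by omega, by omega⟩
  have hcore : ∀ (E : ℕ), e ≤ E → ∀ t : ℕ × ℕ × ℕ, t.1 + 2 * t.2.1 + 3 * t.2.2 = 6 * e + 6 * E →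
      W t ≤ ℛ (6 * e) * ℛ (6 * E) := by
    rintro E hE ⟨a, b, c⟩ ht
    simp only at ht
    rcases hrem (ℛ 1) a 5 with h1 | h1
    · rw [hW]; simp only [h1, Submodule.bot_mul]; exact bot_le
    rcases hrem (ℛ 2) b 2 with h2 | h2
    · rw [hW]; simp only [h2, Submodule.bot_mul, Submodule.mul_bot]; exact bot_le
    rcases hrem (ℛ 3) c 1 with h3 | h3
    · rw [hW]; simp only [h3, Submodule.mul_bot]; exact bot_le
    have hdiv : e ≤ a / 6 + b / 3 + c / 2 := by omega
    obtain ⟨a'', b'', c'', ha, hb, hc, hsum⟩ := hsplit3 _ _ _ hdiv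
    have ha' : 6 * a'' ≤ a := by omega
    have hb' : 3 * b'' ≤ b := by omega
    have hc' : 2 * c'' ≤ c := by omega
    obtain ⟨a₂, ha₂⟩ := Nat.exists_eq_add_of_le ha'
    obtain ⟨b₂, hb₂⟩ := Nat.exists_eq_add_of_le hb'
    obtain ⟨c₂, hc₂⟩ := Nat.exists_eq_add_of_le hc'
    have hsplit : W (a, b, c) = W (6 * a'', 3 * b'', 2 * c'') * W (a₂, b₂, c₂) := by
      rw [hWmul, ha₂, hb₂, hc₂]; rfl
    rw [hsplit]
    refine mul_le_mul' ((hWdeg _).trans (le_of_eq ?_)) ((hWdeg _).trans (le_of_eq ?_))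
    · congr 1; simp only; omega
    · congr 1; simp only; omega
  have hmain : ∀ m : ℕ, ℛ ((m + 1) * (6 * e)) ≤ ℛ (6 * e) ^ (m + 1) := by
    intro m
    induction m with
    | zero => simp
    | succ m ih =>
      refine (hPle _).trans ?_
      rw [hP]
      refine iSup₂_le fun t ht => ?_
      have h := hcore ((m + 1) * e) (Nat.le_mul_of_pos_left e (Nat.succ_pos m)) t (by rw [ht]; ring)
      rw [pow_succ']
      refine h.trans (mul_le_mul' le_rfl ((le_of_eq ?_).trans ih))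
      congr 1; ring
  obtain ⟨m, rfl⟩ := Nat.exists_eq_succ_of_ne_zero hm.ne'
  exact le_antisymm (hmain m) (hpow _ _)

end Groth.Agent.S14053
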