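import Groth.Statements.S14060
import Mathlib
import Groth.Agent.Lib.ExtChain_helper7

set_option autoImplicit false
universe u
open CategoryTheory CategoryTheory.Limits TopologicalSpace
open CohTop

namespace Groth.Agent.S14060

/-- Let X be a topological space, r ≥ 1 an integer and 0 → F_r → ⋯ → F_2 → F_1 → F_0 → 0 an exact
sequence of sheaves of abelian groups on X, presented as a chain complex F of abelian sheaves
indexed by the natural numbers whose differential F_r → F_{r−1} is a monomorphism, whose
differential F_1 → F_0 is an epimorphism of sheaves, and which is exact at F_j for 1 ≤ j ≤ r − 1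
(for r = 1 the single map F_1 → F_0 is mono and epi). Assume the sheaf cohomology groups H^{j−1}(X,
F_j) vanish for 2 ≤ j ≤ r. Then the map on global sections F_1(X) → F_0(X) is surjective. (The
instance hypothesis that the category of abelian sheaves on X has Ext groups in the universe of X
holds for every X, abelian sheaves on a space forming a Grothendieck abelian category; it is the
setting in which sheaf cohomology is defined.) -/
theorem result (X : TopCat.{u})
    [HasExt.{u} (Sheaf (Opens.grothendieckTopology X) AddCommGrpCat.{u})]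
    (r : ℕ) (hr : 1 ≤ r)
    (F : ChainComplex (Sheaf (Opens.grothendieckTopology X) AddCommGrpCat.{u}) ℕ)
    (hmono : Mono (F.d r (r - 1))) (hepi : Epi (F.d 1 0))
    (hex : ∀ j : ℕ, 1 ≤ j → j < r → F.ExactAt j)
    (hvan : ∀ j : ℕ, 2 ≤ j → j ≤ r → Subsingleton (Sheaf.H (F.X j) (j - 1))) :
    Function.Surjective ((F.d 1 0).hom.app (Opposite.op ⊤)) := by
  obtain ⟨R, rfl⟩ : ∃ R, r = R + 1 := ⟨r - 1, by omega⟩
  intro q
  have hT : IsTerminal (⊤ : Opens X) := isTerminalTop
  set x₀ := (Sheaf.H.equiv₀ (F.X 0) hT).symm q with hx₀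
  obtain ⟨s, hs⟩ := (Abelian.Ext.mk₀_bijective _ _).2 x₀
  obtain ⟨t, ht⟩ := Groth.Agent.Lib.ExtChain_helper7.exists_lift
    ((constantSheaf (Opens.grothendieckTopology X) AddCommGrpCat.{u}).obj
      (AddCommGrpCat.of (ULift ℤ))) R F hmono hepi
    (fun j h1 h2 => hex j h1 (by omega))
    (fun j h1 h2 x => by
      haveI := hvan (j + 1) (by omega) (by omega)
      exact Subsingleton.elim (α := Sheaf.H (F.X (j + 1)) (j + 1 - 1)) x 0) s
  refine ⟨Sheaf.H.equiv₀ (F.X 1) hT (Abelian.Ext.mk₀ t), ?_⟩
  have h1 := Sheaf.H.equiv₀_naturality (hT := hT) (f := F.d 1 0) (Abelian.Ext.mk₀ t)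
  refine h1.trans ?_
  rw [Sheaf.H.map_apply, Abelian.Ext.mk₀_comp_mk₀, ht, hs, hx₀, AddEquiv.apply_symm_apply]

end Groth.Agent.S14060
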