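import Groth.Statements.S14064
import Mathlib
import Groth.Agent.Lib.NegPow_helper5

set_option autoImplicit false
universe u
open CategoryTheory CategoryTheory.Limits AlgebraicGeometry TopologicalSpace
open Surf

namespace Groth.Agent.S14064

/-- Fix a field k, an integral proper k-scheme X, and an invertible O_X-module L with tensor inverse M.
Suppose that L^{⊗j} has a nonzero global section for every j ≥ 4 and that no tensor power L^{⊗j}
with j ≥ 1 is isomorphic to O_X. Then H⁰(X, M^{⊗i}) = 0 for every i ≥ 1: the negative powers of L
have no nonzero global sections. (The published statement is for the canonical module of a minimal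
surface of general type over an algebraically closed field, where the fourth and higher powers are
globally generated by a deep result quoted without proof, and non-triviality of the positive powers
comes from bigness; the published deduction of this part uses exactly the two hypotheses carried
here, on an integral proper X.) -/
theorem result (k : Type u) [Field k]
    (X : Scheme.{u}) [X.Over (Spec (CommRingCat.of k))] [IsProper (X ↘ (Spec (CommRingCat.of k)))] [IsIntegral X]
    (L M : X.Modules) (hL : PicF.IsInvertible L) (hM : ClSub.IsInverseOf M L)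
    (hsec : ∀ j : ℕ, 4 ≤ j → Nontrivial (Coh.HH X (CohB1.tensorPow L j) 0))
    (hnt : ∀ j : ℕ, 1 ≤ j → IsEmpty (CohB1.tensorPow L j ≅ Coh.structureModule X))
    (i : ℕ) (hi : 1 ≤ i) :
    Subsingleton (Coh.HH X (CohB1.tensorPow M i) 0) := by
  by_contra hns
  rw [not_subsingleton_iff_nontrivial] at hns
  have hF : IsField Γ(X, ⊤) :=
    isField_of_universallyClosed k (X ↘ (Spec (CommRingCat.of k)))
  obtain ⟨eML⟩ := hM
  have hMinv : PicF.IsInvertible M := InvTensH8.isInvertible_of_tensor_iso eML
  have hMi : PicF.IsInvertible (CohB1.tensorPow M i) := TensH8.isInvertible_tensorPow hMinv i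
  obtain ⟨t, ht⟩ := Groth.Agent.NegPow.exists_hom_ne_zero _ hns
  have ht4 := Groth.Agent.NegPow.powHom_ne_zero hMi t ht 4
  obtain ⟨e1⟩ := Groth.Agent.NegPow.tensorPow_mul M i 4
  have ht' : SecTwist.powHom t 4 ≫ e1.hom ≠ 0 := by
    intro h0
    apply ht4
    rw [← cancel_mono e1.hom, h0, zero_comp]
  obtain ⟨s, hs⟩ := Groth.Agent.NegPow.exists_hom_ne_zero _ (hsec (i * 4) (by omega))
  obtain ⟨eLM⟩ := Groth.Agent.TensInv.swap ⟨eML⟩
  have hinv := Groth.Agent.NegPow.tensorPow_inverse eLM (i * 4)
  have h := Groth.Agent.InvInt.nonempty_iso_of_sections hF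
    (TensH8.isInvertible_tensorPow hL (i * 4)) (TensH8.isInvertible_tensorPow hMinv (i * 4))
    hinv s hs _ ht'
  exact (hnt (i * 4) (by omega)).false h.some

end Groth.Agent.S14064
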