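import Groth.Statements.S14065
import Mathlib
import Groth.Agent.Lib.OmDualF_helper9
import Groth.Agent.Lib.InvTens2_helper8

set_option autoImplicit false
universe u
open CategoryTheory CategoryTheory.Limits AlgebraicGeometry TopologicalSpace
open Curves

namespace Groth.Agent.S14065

/-- Let k be an algebraically closed field and C a smooth projective connected curve over k — an
integral scheme, proper and smooth over k, of dimension 1 — of genus g = dim_k H¹(C, O_C) with g ≥
2, and let T be the tangent module of C, a tensor inverse of the module of differentials Ω_{C/k}.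
Then dim_k H¹(C, T) = 3g − 3. (The published proof makes this computation, together with the
vanishing of H⁰(C, T), to find the dimension of the tangent space of the moduli stack of genus-g
curves at C; only the dimension of H¹(C, T) is stated here.) -/
theorem result (k : Type u) [Field k] [IsAlgClosed k]
    (C : Scheme.{u}) [C.Over (Spec (CommRingCat.of k))] [IsProper (C ↘ (Spec (CommRingCat.of k)))] [Smooth (C ↘ (Spec (CommRingCat.of k)))] [IsIntegral C]
    (hdim : topologicalKrullDim C = 1) (g : ℕ) (hg : Curv2.genus k C = g) (h2 : 2 ≤ g)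
    (T : C.Modules) (hT : ClSub.IsInverseOf T (Omega.sheaf (C ↘ (Spec (CommRingCat.of k))))) :
    Module.finrank k (Coh.HH C T 1) = 3 * g - 3 := by
  haveI : IsLocallyNoetherian C :=
    LocallyOfFiniteType.isLocallyNoetherian (C ↘ Spec (CommRingCat.of k))
  have hΩ := OmDual.isInvertible_Omega k C hdim
  obtain ⟨e⟩ := hT
  have hTinv : PicF.IsInvertible T :=
    InvTensH8.isInvertible_of_tensor_iso e
  have d1 := CurveTens.deg_tensorMod k C hdim.le hTinv hΩ
  rw [CurveTens.deg_of_iso k C e 1, CurveDeg.deg_structureModule, OmDual.deg_Omega k C hdim, hg] at d1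
  have hdT : Curv2.deg k C T 1 = 2 - 2 * (g : ℤ) := by linarith
  have hneg : Curv2.deg k C T 1 < 0 := by
    rw [hdT]
    have : (2 : ℤ) ≤ (g : ℤ) := by exact_mod_cast h2
    linarith
  have h0 := CurveSD.finrank_HH0_eq_zero_of_deg_neg (k := k) hdim hTinv hneg
  haveI : T.IsQuasicoherent := TensH8.isQuasicoherent_of_isInvertible hTinv
  haveI : (Coh.structureModule C).IsQuasicoherent := TensH8.isQuasicoherent_structureModule
  haveI : Module.Finite k (Coh.HH C (Coh.structureModule C) 0) :=
    ProperFinH9.finite_HH_of_proper k C _ (CohDevH8.isCoh_structureModule C) 0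
  have hO := Groth.Agent.ProjConn.finrank_h0_of_isIntegral k (X := C)
  have hd := hdT
  unfold Curv2.deg at hd
  rw [CurveRR.euler_eq_sub k C hdim.le T, CurveRR.euler_eq_sub k C hdim.le (Coh.structureModule C),
    h0, hO] at hd
  have hgg : (Module.finrank k (Coh.HH C (Coh.structureModule C) 1) : ℤ) = g := by
    exact_mod_cast hg
  rw [hgg] at hd
  push_cast at hd
  have h3 : (Module.finrank k (Coh.HH C T 1) : ℤ) = 3 * (g : ℤ) - 3 := by linarith
  omega

end Groth.Agent.S14065
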