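import Groth.Statements.S14074
import Groth.Agent.Lib.TorSmooth7_helper3
-- import your own Groth.Agent.* helpers here

set_option autoImplicit false
open CategoryTheory AlgebraicGeometry

universe u
attribute [local instance] HasDerivedCategory.standard
open FamCyc

namespace Groth.Agent.S14074

/-- Let h : B ⟶ S be a smooth morphism, φ : X ⟶ B a morphism locally of finite type and F a
quasi-coherent O_X-module of pointwise finite tor dimension over S, i.e. at every point x of X the
stalk F_x is, over the local ring of S below x, isomorphic in the derived category to a bounded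
complex of flat modules. Then F has finite tor dimension over B pointwise in the same sense. -/
theorem result {X B S : Scheme.{u}} (h : B ⟶ S) [Smooth h]
    (φ : X ⟶ B) [LocallyOfFiniteType φ] (F : X.Modules) (hF : Coh.IsQCoh F)
    (hS : ∀ x : X, ∃ a b : ℤ,
      DerSch.HasTorAmplitudeAt (φ ≫ h) a b ((HomologicalComplex.single X.Modules (ComplexShape.up ℤ) 0).obj F) x) :
    ∀ x : X, ∃ a b : ℤ,
      DerSch.HasTorAmplitudeAt φ a b ((HomologicalComplex.single X.Modules (ComplexShape.up ℤ) 0).obj F) x := by
  intro x
  obtain ⟨a, b, hab⟩ := hS x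
  obtain ⟨U, hU, W, hW, hxW, e, hstd⟩ := Smooth.exists_isStandardSmooth h (φ.base x)
  obtain ⟨n, hn⟩ := Groth.Agent.Lib.TorSmoothH3.exists_relDim hstd
  exact ⟨a - n, b, Groth.Agent.Lib.TorSmoothH3.hasTorAmplitudeAt_of_comp_chart φ h n _ a b x
    hU hW hxW e hn hab⟩

end Groth.Agent.S14074
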