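import Groth.Statements.S14075
import Mathlib
import Groth.Agent.Lib.UOMax2_helper8

set_option autoImplicit false
open CategoryTheory AlgebraicGeometry
universe u
open FamCyc

namespace Groth.Agent.S14075

/-- Let f : X ⟶ S be locally of finite type and universally open. Then every point x of X lies on an
irreducible component W of X, given its reduced subscheme structure, such that W ⟶ S is
equidimensional at x. -/
theorem result {X S : Scheme.{u}} (f : X ⟶ S) [LocallyOfFiniteType f]
    [UniversallyOpen f] (x : X) :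
    ∃ W : TopologicalSpace.Closeds X, (W : Set X) ∈ irreducibleComponents (X : Type u) ∧
      ∃ w : ↥((Scheme.IdealSheafData.vanishingIdeal W).subscheme),
        (Scheme.IdealSheafData.vanishingIdeal W).subschemeι.base w = x ∧
        EGA43.IsEquidimAt ((Scheme.IdealSheafData.vanishingIdeal W).subschemeι ≫ f) w := by
  apply EquidimIrrH8.of_fibre_max f
  intro x hmax
  have ha : EGA43.IsUnivOpenAt f x := by
    intro Y' g x' _
    intro N hN
    have hopen : IsOpenMap (Limits.pullback.snd f g).base :=
      (Limits.pullback.snd f g).isOpenMap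
    exact hopen.image_mem_nhds hN
  obtain ⟨η₀, hη₀x, h0⟩ := CodimZeroH8.exists_isMax_ge (f.base x)
  have hη₀max : ∀ b : S, b ⤳ η₀ → b = η₀ := EquidimSubH8.isMax_of_coheight h0
  obtain ⟨z, hzmax, hzx, hzη, hdz⟩ :=
    Groth.Agent.Lib.UOMaxH8.exists_max_specializes f x η₀ hη₀x hη₀max
      (fun U hU => Groth.Agent.Lib.UOMaxH8.a_imp_bprime f x hmax ha U hU η₀ hη₀x)
  obtain ⟨n, hn⟩ := EquidimIrrH8.exists_nat_fibreDimAt f z
  obtain ⟨W, w, hW, hw⟩ := EquiCompH8.exists_sub z x hzx
  have hWc : (W : Set X) ∈ irreducibleComponents (X : Type u) := by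
    rw [hW]; exact (SubCompH8.closure_mem_irreducibleComponents_iff z).mpr hzmax
  refine ⟨W, hWc, w, hw, EquidimIrrH8.core f W z hW.symm hzmax w n hn ?_ ?_⟩
  · rw [hw, ← hn, FibGenH8.fibreDimAt_of_isMax f z hzmax]
    exact hdz
  · rw [hzη]
    exact (SubCompH8.closure_mem_irreducibleComponents_iff η₀).mpr hη₀max

end Groth.Agent.S14075
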