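import Groth.Statements.S14086
import Mathlib
import Groth.Agent.Lib.FibreProd_helper9

set_option autoImplicit false
universe u
open FlatMor

open TensorProduct
namespace Groth.Agent.S14086

/-- Let R be a ring, A and B flat R-algebras, I an ideal of A, B → A/I an injective finite flat map of
R-algebras and P = B ×_{A/I} A the fibre product ring (pairs in B × A with equal image in A/I). For
any R-algebra R' the base change R' ⊗_R P maps injectively to R' ⊗_R A, and any b' in R' ⊗_R B and
a' in R' ⊗_R A with the same image in R' ⊗_R (A/I) are the two components of some element of R' ⊗_R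
P; that is, R' ⊗_R P is the fibre product of R' ⊗_R B and R' ⊗_R A over R' ⊗_R (A/I). -/
theorem result (R A B R' : Type u) [CommRing R] [CommRing A]
    [CommRing B] [CommRing R'] [Algebra R A] [Algebra R B] [Algebra R R'] [Module.Flat R A] [Module.Flat R B]
    (I : Ideal A) [Algebra B (A ⧸ I)] [IsScalarTower R B (A ⧸ I)] [Module.Finite B (A ⧸ I)] [Module.Flat B (A ⧸ I)]
    (hinj : Function.Injective (algebraMap B (A ⧸ I))) :
    Function.Injective (Algebra.TensorProduct.map (AlgHom.id R' R')
        ((AlgHom.snd R B A).comp (AlgHom.equalizer ((IsScalarTower.toAlgHom R B (A ⧸ I)).comp (AlgHom.fst R B A))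
          ((Ideal.Quotient.mkₐ R I).comp (AlgHom.snd R B A))).val)) ∧
    ∀ (b : TensorProduct R R' B) (a : TensorProduct R R' A),
      Algebra.TensorProduct.map (AlgHom.id R' R') (IsScalarTower.toAlgHom R B (A ⧸ I)) b =
        Algebra.TensorProduct.map (AlgHom.id R' R') (Ideal.Quotient.mkₐ R I) a →
      ∃ x : TensorProduct R R' ↥(AlgHom.equalizer ((IsScalarTower.toAlgHom R B (A ⧸ I)).comp (AlgHom.fst R B A))
          ((Ideal.Quotient.mkₐ R I).comp (AlgHom.snd R B A))),
        Algebra.TensorProduct.map (AlgHom.id R' R') ((AlgHom.fst R B A).comp (AlgHom.equalizer ((IsScalarTower.toAlgHom R B (A ⧸ I)).comp (AlgHom.fst R B A))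
          ((Ideal.Quotient.mkₐ R I).comp (AlgHom.snd R B A))).val) x = b ∧
        Algebra.TensorProduct.map (AlgHom.id R' R') ((AlgHom.snd R B A).comp (AlgHom.equalizer ((IsScalarTower.toAlgHom R B (A ⧸ I)).comp (AlgHom.fst R B A))
          ((Ideal.Quotient.mkₐ R I).comp (AlgHom.snd R B A))).val) x = a := by

  classical
  set φ : B →ₐ[R] (A ⧸ I) := IsScalarTower.toAlgHom R B (A ⧸ I) with hφ
  set mk : A →ₐ[R] (A ⧸ I) := Ideal.Quotient.mkₐ R I with hmk
  set P := AlgHom.equalizer (φ.comp (AlgHom.fst R B A)) (mk.comp (AlgHom.snd R B A)) with hP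
  have memP : ∀ (b : B) (a : A), (b, a) ∈ P ↔ φ b = mk a := by
    intro b a
    rw [hP, AlgHom.mem_equalizer]
    simp
  have key : ∀ (X Y : Type u) [CommRing X] [CommRing Y] [Algebra R X] [Algebra R Y]
      (h : X →ₐ[R] Y) (z : R' ⊗[R] X),
      Algebra.TensorProduct.map (AlgHom.id R' R') h z = h.toLinearMap.lTensor R' z := by
    intro X Y _ _ _ _ h z
    induction z using TensorProduct.induction_on with
    | zero => simp
    | tmul s x => rfl
    | add x y hx hy => rw [map_add, map_add, hx, hy]
  set π₁ : P →ₐ[R] B := (AlgHom.fst R B A).comp P.val with hπ₁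
  set π₂ : P →ₐ[R] A := (AlgHom.snd R B A).comp P.val with hπ₂
  have hmem : ∀ p : P, φ (π₁ p) = mk (π₂ p) := by
    intro p
    have hp := p.2
    rw [show (p : B × A) = ((p : B × A).1, (p : B × A).2) from rfl, memP] at hp
    exact hp
  -- the ideal `I` as an `R`-module
  let IR : Submodule R A := I.restrictScalars R
  let ι : IR →ₗ[R] P :=
    { toFun := fun j => ⟨(0, (j : A)), (memP _ _).mpr (by
        rw [map_zero]; exact (Ideal.Quotient.eq_zero_iff_mem.mpr j.2).symm)⟩
      map_add' := fun a b => Subtype.ext (by simp)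
      map_smul' := fun r a => Subtype.ext (by simp) }
  have hι1 : ∀ j, π₁ (ι j) = 0 := fun j => rfl
  have hι2 : ∀ j, π₂ (ι j) = (j : A) := fun j => rfl
  have hmksurj : Function.Surjective mk := Ideal.Quotient.mk_surjective
  have hex : Function.Exact ι π₁.toLinearMap := by
    intro p
    constructor
    · intro h0
      have h0' : π₁ p = 0 := h0
      have hp := hmem p
      rw [h0', map_zero] at hp
      have hI : π₂ p ∈ I := Ideal.Quotient.eq_zero_iff_mem.mp hp.symm
      refine ⟨⟨π₂ p, hI⟩, Subtype.ext ?_⟩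
      exact Prod.ext h0'.symm rfl
    · rintro ⟨j, rfl⟩
      rfl
  have hsurj : Function.Surjective π₁.toLinearMap := by
    intro b
    obtain ⟨a, ha⟩ := hmksurj (φ b)
    exact ⟨⟨(b, a), (memP _ _).mpr ha.symm⟩, rfl⟩
  have hex2 := lTensor_exact R' hex hsurj
  have hsurj2 : Function.Surjective (π₁.toLinearMap.lTensor R') :=
    LinearMap.lTensor_surjective R' hsurj
  have hexI : Function.Exact IR.subtype mk.toLinearMap := by
    intro a
    constructor
    · intro h0
      exact ⟨⟨a, Ideal.Quotient.eq_zero_iff_mem.mp h0⟩, rfl⟩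
    · rintro ⟨j, rfl⟩
      exact Ideal.Quotient.eq_zero_iff_mem.mpr j.2
  have hex3 := lTensor_exact R' hexI hmksurj
  have hcomp1 : ∀ w, π₂.toLinearMap.lTensor R' (ι.lTensor R' w) = IR.subtype.lTensor R' w := by
    intro w
    rw [← LinearMap.comp_apply, ← LinearMap.lTensor_comp]
    rfl
  have hcomp2 : ∀ z, φ.toLinearMap.lTensor R' (π₁.toLinearMap.lTensor R' z) =
      mk.toLinearMap.lTensor R' (π₂.toLinearMap.lTensor R' z) := by
    intro z
    rw [← LinearMap.comp_apply, ← LinearMap.lTensor_comp, ← LinearMap.comp_apply,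
      ← LinearMap.lTensor_comp]
    congr 2
    ext p
    exact hmem p
  simp only [key]
  constructor
  · -- injectivity: the cokernel of `P → A` is `(A ⧸ I) ⧸ B`, flat over `B` hence over `R`
    haveI : Algebra.IsIntegral B (A ⧸ I) := Algebra.IsIntegral.of_finite B (A ⧸ I)
    haveI : Module.FaithfullyFlat B (A ⧸ I) :=
      Groth.Agent.Lib.FibreProd.faithfullyFlat_of_integral_injective hinj
    let C := (A ⧸ I) ⧸ LinearMap.range (Algebra.linearMap B (A ⧸ I))
    haveI : Module.Flat B C := Groth.Agent.Lib.FibreProd.flat_quot_range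
    haveI : Module.Flat R C := Module.Flat.trans R B C
    let q : A →ₗ[R] C :=
      ((LinearMap.range (Algebra.linearMap B (A ⧸ I))).mkQ.restrictScalars R) ∘ₗ mk.toLinearMap
    have hq : Function.Surjective q :=
      (Submodule.mkQ_surjective _).comp hmksurj
    have hπ₂inj : Function.Injective π₂.toLinearMap := by
      rw [← LinearMap.ker_eq_bot, LinearMap.ker_eq_bot']
      intro p hp
      have hp' : π₂ p = 0 := hp
      have h1 := hmem p
      rw [hp', map_zero] at h1
      have h2 : π₁ p = 0 := hinj (by rw [map_zero]; exact h1)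
      exact Subtype.ext (Prod.ext h2 hp')
    have hexq : Function.Exact π₂.toLinearMap q := by
      intro a
      constructor
      · intro h0
        have h0' : (LinearMap.range (Algebra.linearMap B (A ⧸ I))).mkQ (mk a) = 0 := h0
        rw [Submodule.mkQ_apply, Submodule.Quotient.mk_eq_zero] at h0'
        obtain ⟨b, hb⟩ := h0'
        exact ⟨⟨(b, a), (memP _ _).mpr hb⟩, rfl⟩
      · rintro ⟨p, rfl⟩
        show (LinearMap.range (Algebra.linearMap B (A ⧸ I))).mkQ (mk (π₂ p)) = 0
        rw [Submodule.mkQ_apply, Submodule.Quotient.mk_eq_zero, ← hmem p]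
        exact ⟨π₁ p, rfl⟩
    exact Groth.Agent.Lib.FibreProd.lTensor_injective_of_exact_flat π₂.toLinearMap q hπ₂inj hexq hq R'
  · intro b a hba
    obtain ⟨z₀, hz₀⟩ := hsurj2 b
    have h1 : mk.toLinearMap.lTensor R' (π₂.toLinearMap.lTensor R' z₀ - a) = 0 := by
      rw [map_sub, ← hcomp2, hz₀, hba, sub_self]
    obtain ⟨w, hw⟩ := (hex3 _).mp h1
    refine ⟨z₀ - ι.lTensor R' w, ?_, ?_⟩
    · rw [map_sub, hz₀, (hex2 _).mpr ⟨w, rfl⟩, sub_zero]
    · rw [map_sub, hcomp1, hw]
      abel

end Groth.Agent.S14086
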