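import Groth.Statements.S14115
import Mathlib.Tactic.NoncommRing
import Mathlib.Tactic.Abel
import Mathlib.Algebra.BigOperators.Fin
-- import your own Groth.Agent.* helpers here

set_option autoImplicit false
universe u v
open SuperComm

namespace Groth.Agent.S14115

theorem aux1 {S : Type v} [Ring S] (x y0 Y ε a : S) (hε : ∀ b, ε * b = b * ε)
    (h0 : x * y0 + y0 * x = a) :
    x * (y0 * Y) + (ε * (-1)) * (y0 * Y * x) = a * Y - y0 * (x * Y + ε * (Y * x)) := by
  have h1 : x * y0 = a - y0 * x := by rw [← h0]; abel
  have e1 : y0 * (ε * (Y * x)) = ε * (y0 * Y * x) := by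
    rw [← mul_assoc, ← hε y0, mul_assoc, mul_assoc]
  rw [← mul_assoc x, h1, mul_add, e1]
  noncomm_ring

theorem aux2 {S : Type v} [Ring S] (y0 Z ε c : S) (hε : ∀ b, ε * b = b * ε)
    (hc : ∀ b, c * b = b * c) :
    (ε * (-1)) * (c * (y0 * Z)) = -(y0 * (ε * (c * Z))) := by
  have e1 : y0 * (ε * (c * Z)) = ε * (c * (y0 * Z)) := by
    rw [← mul_assoc y0, ← hε y0, mul_assoc, ← mul_assoc y0, ← hc y0, mul_assoc]
  rw [e1]
  noncomm_ring

/-- Let S be an associative unital algebra over a commutative ring R, x an element and y_0, …, y_n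
elements such that the anticommutator x y_i + y_i x equals r_i · 1 for scalars r_i ∈ R. Then the
graded commutator of x with the ordered product y_0 ⋯ y_n, namely x (y_0 ⋯ y_n) + (-1)^n (y_0 ⋯ y_n)
x, equals the sum over p of (-1)^p r_p times the ordered product of the y_q with q ≠ p. (The
published statement takes x homogeneous of degree 1 and the y_i homogeneous of degree -1 in a graded
algebra with unit in degree 0, the signs being those of the supercommutator; this row states the
identity for arbitrary elements satisfying the anticommutation relations, which is what the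
computation proves.) -/
theorem result {R : Type u} {S : Type v} [CommRing R] [Ring S]
    [Algebra R S] (n : ℕ) (x : S) (y : Fin (n + 1) → S) (r : Fin (n + 1) → R)
    (h : ∀ i : Fin (n + 1), x * y i + y i * x = algebraMap R S (r i)) :
    x * (List.ofFn y).prod + (-1 : S) ^ n * ((List.ofFn y).prod * x) =
      ∑ p : Fin (n + 1), (-1 : S) ^ (p : ℕ) * (r p • (List.ofFn (fun q : Fin n => y (p.succAbove q))).prod) := by
  induction n with
  | zero =>
    simp only [List.ofFn_succ, List.ofFn_zero, List.prod_cons, List.prod_nil, mul_one, pow_zero,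
      one_mul, Fin.sum_univ_succ, Fin.val_zero, Finset.univ_eq_empty, Finset.sum_empty, add_zero]
    rw [h 0, Algebra.algebraMap_eq_smul_one]
  | succ n ih =>
    have ih' := ih (fun i => y i.succ) (fun i => r i.succ) (fun i => h i.succ)
    rw [List.ofFn_succ, List.prod_cons, Fin.sum_univ_succ]
    set Y := (List.ofFn fun i : Fin (n + 1) => y i.succ).prod with hY
    have hε : ∀ (m : ℕ) (b : S), (-1 : S) ^ m * b = b * (-1 : S) ^ m := fun m b =>
      ((Commute.neg_one_left b).pow_left m).eq
    have key : x * (y 0 * Y) + (-1 : S) ^ (n + 1) * (y 0 * Y * x) =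
        r 0 • Y - y 0 * (x * Y + (-1 : S) ^ n * (Y * x)) := by
      rw [pow_succ, Algebra.smul_def]
      exact aux1 x (y 0) Y ((-1 : S) ^ n) _ (hε n) (h 0)
    rw [key, ih']
    simp only [Fin.val_zero, pow_zero, one_mul, Fin.succAbove_zero, Fin.val_succ]
    rw [sub_eq_add_neg, ← hY]
    congr 1
    rw [Finset.mul_sum, ← Finset.sum_neg_distrib]
    refine Finset.sum_congr rfl fun p _ => ?_
    rw [List.ofFn_succ, List.prod_cons]
    simp only [Fin.succ_succAbove_zero, Fin.succ_succAbove_succ]
    rw [pow_succ, Algebra.smul_def, Algebra.smul_def]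
    exact (aux2 (y 0) _ ((-1 : S) ^ (p : ℕ)) _ (hε _) (fun b => Algebra.commutes _ b)).symm

end Groth.Agent.S14115
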