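import Groth.Statements.S14118
-- import your own Groth.Agent.* helpers here

set_option autoImplicit false
universe u v w
open SuperComm

namespace Groth.Agent.S14118

section
variable {R : Type u} [CommRing R] {ι : Type v} [Fintype ι] [DecidableEq ι]
  (M : ι → Type w) [∀ i, AddCommGroup (M i)] [∀ i, Module R (M i)]
  [∀ i, Module.Free R (M i)] [∀ i, Module.Finite R (M i)]

/-- the sign `(-1)^|n|` only depends on the parity of `n` -/
theorem sgn_eq (n : ℤ) : ((-1 : R) ^ n.natAbs) = if Even n then 1 else -1 := by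
  split_ifs with h
  · exact (Int.natAbs_even.mpr h).neg_one_pow
  · exact (Int.natAbs_odd.mpr (Int.not_even_iff_odd.mp h)).neg_one_pow

theorem sum_single_comp_proj :
    (∑ k : ι, (LinearMap.single R M k) ∘ₗ (LinearMap.proj k : (Π k, M k) →ₗ[R] M k)) = LinearMap.id := by
  have := LinearMap.lsum_single (R := R) (φ := M) (ι := ι) R
  rwa [LinearMap.lsum_apply] at this

/-- the supertrace as a sum of traces of the diagonal blocks -/
theorem supertrace_eq (s : ι → R) (χ : (Π k, M k) →ₗ[R] (Π k, M k)) :
    LinearMap.trace R (Π k, M k)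
      ((∑ i : ι, (LinearMap.single R M i) ∘ₗ ((s i) • (LinearMap.proj i : (Π k, M k) →ₗ[R] M i))) ∘ₗ χ) =
    ∑ i, s i * LinearMap.trace R (M i) (LinearMap.proj i ∘ₗ χ ∘ₗ LinearMap.single R M i) := by
  have hsum : ∀ (F : ι → ((Π k, M k) →ₗ[R] (Π k, M k))), (∑ i, F i) ∘ₗ χ = ∑ i, F i ∘ₗ χ := by
    intro F
    exact map_sum (LinearMap.lcomp R _ χ) F Finset.univ
  rw [hsum, map_sum]
  refine Finset.sum_congr rfl fun i _ => ?_
  rw [LinearMap.comp_assoc, LinearMap.trace_comp_comm', LinearMap.comp_assoc, LinearMap.smul_comp,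
    map_smul, smul_eq_mul]

/-- the diagonal block of a composite as a sum over the intermediate index -/
theorem block_comp (φ ψ : (Π k, M k) →ₗ[R] (Π k, M k)) (i : ι) :
    LinearMap.proj i ∘ₗ (φ ∘ₗ ψ) ∘ₗ LinearMap.single R M i =
      ∑ k, (LinearMap.proj i ∘ₗ φ ∘ₗ LinearMap.single R M k) ∘ₗ
        (LinearMap.proj k ∘ₗ ψ ∘ₗ LinearMap.single R M i) := by
  have h1 : φ ∘ₗ ψ = φ ∘ₗ (∑ k : ι, (LinearMap.single R M k) ∘ₗ
      (LinearMap.proj k : (Π k, M k) →ₗ[R] M k)) ∘ₗ ψ := by
    rw [sum_single_comp_proj, LinearMap.id_comp]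
  rw [h1]
  ext x
  simp [LinearMap.sum_apply]

end


/-- Let R be a commutative ring and M a finitely ℤ-graded R-module with finitely many nonzero graded
pieces, each finite free, presented as a finite family of finite free R-modules M_i with integer
degrees deg i (the piece of degree n being the product of the M_i with deg i = n); an endomorphism φ
of the total module Π_i M_i has degree a when its (i, j) block vanishes unless deg j = deg i + a;
the supertrace of an endomorphism is the trace of its composite with the grading involution ε = Σ_i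
(-1)^{deg i} pr_i. If φ and ψ have degrees a and b, the supertrace of the supercommutator φψ -
(-1)^{ab} ψφ vanishes. (The published statement allows the graded pieces to be finitely generated
projective; this row takes them finite free, where the trace is the ordinary trace of a free
module.) -/
theorem result {R : Type u} [CommRing R] {ι : Type v} [Fintype ι] [DecidableEq ι]
    (deg : ι → ℤ) (M : ι → Type w) [∀ i, AddCommGroup (M i)] [∀ i, Module R (M i)]
    [∀ i, Module.Free R (M i)] [∀ i, Module.Finite R (M i)]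
    (a b : ℤ) (φ ψ : (Π k, M k) →ₗ[R] (Π k, M k))
    (hφ : ∀ i j : ι, deg j ≠ deg i + a → (LinearMap.proj j) ∘ₗ φ ∘ₗ (LinearMap.single R M i) = 0)
    (hψ : ∀ i j : ι, deg j ≠ deg i + b → (LinearMap.proj j) ∘ₗ ψ ∘ₗ (LinearMap.single R M i) = 0) :
    LinearMap.trace R (Π k, M k)
      ((∑ i : ι, (LinearMap.single R M i) ∘ₗ (((-1 : R) ^ (deg i).natAbs) • (LinearMap.proj i : (Π k, M k) →ₗ[R] M i))) ∘ₗ (φ ∘ₗ ψ - ((-1 : R) ^ (a * b).natAbs) • (ψ ∘ₗ φ))) = 0 := by
  rw [supertrace_eq M (fun i => (-1 : R) ^ (deg i).natAbs)]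
  simp only [LinearMap.sub_comp, LinearMap.comp_sub, LinearMap.smul_comp, LinearMap.comp_smul,
    map_sub, map_smul, smul_eq_mul, mul_sub, Finset.sum_sub_distrib]
  rw [sub_eq_zero]
  simp only [block_comp, map_sum, Finset.mul_sum]
  rw [Finset.sum_comm]
  refine Finset.sum_congr rfl fun k _ => Finset.sum_congr rfl fun i _ => ?_
  -- the `(i, k)` term on the left against the `(k, i)` term on the right
  rw [LinearMap.trace_comp_comm' (LinearMap.proj k ∘ₗ ψ ∘ₗ LinearMap.single R M i)
    (LinearMap.proj i ∘ₗ φ ∘ₗ LinearMap.single R M k)]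
  by_cases h1 : deg i = deg k + a
  · by_cases h2 : deg k = deg i + b
    · have hb : b = -a := by linarith
      rw [← mul_assoc]
      congr 1
      rw [sgn_eq, sgn_eq, sgn_eq, h1, hb]
      by_cases e1 : Even (deg k) <;> by_cases e2 : Even a <;>
        simp [Int.even_add, Int.even_mul, e1, e2]
    · rw [hψ i k h2, LinearMap.zero_comp, map_zero, mul_zero, mul_zero, mul_zero]
  · rw [hφ k i h1, LinearMap.comp_zero, map_zero, mul_zero, mul_zero, mul_zero]

end Groth.Agent.S14118
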