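import Groth.Statements.S14137
import Mathlib
import Groth.Agent.Lib.VBCurve3_helper9

set_option autoImplicit false
universe u
open CategoryTheory CategoryTheory.Limits AlgebraicGeometry
open VBCurve

namespace Groth.Agent.S14137

/-- Let C be a smooth proper geometrically connected curve over a field k (proper, smooth and
geometrically connected over k, of dimension one), and E a finite locally free O_C-module of rank r
≥ 1 which is stable: for every finite locally free submodule G of E of rank r' ≥ 1 whose inclusion
is not an isomorphism one has deg G · r < deg E · r', the degree of a rank-n locally free module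
being χ(G) − n·χ(O_C) (stability tested on proper submodules, equivalent to the definition through
quotient bundles). Then every nonzero endomorphism of E is an isomorphism, i.e. End(E) is a division
ring. (Over an algebraically closed field it follows that End(E) = k; that consequence is not
restated.) -/
theorem result (k : Type u) [Field k] (X : Scheme.{u}) [X.Over (Spec (CommRingCat.of k))]
    [IsProper (X ↘ Spec (CommRingCat.of k))] [Smooth (X ↘ Spec (CommRingCat.of k))]
    [GeometricallyConnected (X ↘ Spec (CommRingCat.of k))] (hdim : topologicalKrullDim ↥X = 1)
    (r : ℕ) (hr : 0 < r) (E : X.Modules) (hE : FlatMod.IsFinLocFreeOfRank r E)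
    (hEst : (∀ (G : X.Modules) (r' : ℕ) (i : G ⟶ E), Mono i → 0 < r' → FlatMod.IsFinLocFreeOfRank r' G → (¬ IsIso i) →
      Curv2.deg k X G r' * (r : ℤ) < Curv2.deg k X E r * (r' : ℤ)))
    (f : E ⟶ E) (hf : f ≠ 0) : IsIso f := by
  haveI : IsIntegral X := VBCurve.isIntegral_of_smooth_geomConn k X
  have hst : ModFun.IsSlopeStable k X E r := by
    intro G r' i hi hpos hlt hG
    refine hEst G r' i hi hpos hG ?_
    intro hiso
    have := VBCurve.rank_eq_of_iso X (asIso i) hG hE
    omega
  have hss := VBCurve.ss_of_stable k X hdim hE hst
  obtain ⟨h1, -, h3⟩ := VBCurve.same_slope_core k X (VBCurve.hreg_of_smooth k X) hdim hr hr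
    hE hE hss hss rfl f hf
  exact h3 (h1 hst).1 rfl

end Groth.Agent.S14137
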