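import Groth.Statements.S14139
import Mathlib
import Groth.Agent.Lib.VBCurve4_helper9

set_option autoImplicit false
universe u
open CategoryTheory CategoryTheory.Limits AlgebraicGeometry
open VBCurve

namespace Groth.Agent.S14139

/-- Let C be a smooth proper geometrically connected curve over a field k (proper, smooth and
geometrically connected over k, of dimension one), and 0 → E₁ → E → E₂ → 0 a short exact sequence of
finite locally free O_C-modules of ranks r₁, r, r₂ ≥ 1 whose slopes are all equal: deg E₁ · r = deg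
E · r₁ and deg E₂ · r = deg E · r₂, the degree of a rank-n locally free module being χ − n·χ(O_C).
Then E is semistable (deg G · r ≤ deg E · r' for every finite locally free submodule G of E of rank
r' ≥ 1) if and only if both E₁ and E₂ are semistable in the same sense. -/
theorem result (k : Type u) [Field k] (X : Scheme.{u}) [X.Over (Spec (CommRingCat.of k))]
    [IsProper (X ↘ Spec (CommRingCat.of k))] [Smooth (X ↘ Spec (CommRingCat.of k))]
    [GeometricallyConnected (X ↘ Spec (CommRingCat.of k))] (hdim : topologicalKrullDim ↥X = 1)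
    (T : ShortComplex X.Modules) (hT : T.ShortExact)
    (r₁ r r₂ : ℕ) (hr₁ : 0 < r₁) (hr : 0 < r) (hr₂ : 0 < r₂)
    (hE₁ : FlatMod.IsFinLocFreeOfRank r₁ T.X₁) (hE : FlatMod.IsFinLocFreeOfRank r T.X₂) (hE₂ : FlatMod.IsFinLocFreeOfRank r₂ T.X₃)
    (hμ₁ : Curv2.deg k X T.X₁ r₁ * (r : ℤ) = Curv2.deg k X T.X₂ r * (r₁ : ℤ))
    (hμ₂ : Curv2.deg k X T.X₃ r₂ * (r : ℤ) = Curv2.deg k X T.X₂ r * (r₂ : ℤ)) :
    (∀ (G : X.Modules) (r' : ℕ) (i : G ⟶ T.X₂), Mono i → 0 < r' → FlatMod.IsFinLocFreeOfRank r' G →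
      Curv2.deg k X G r' * (r : ℤ) ≤ Curv2.deg k X T.X₂ r * (r' : ℤ)) ↔
      ((∀ (G : X.Modules) (r' : ℕ) (i : G ⟶ T.X₁), Mono i → 0 < r' → FlatMod.IsFinLocFreeOfRank r' G →
      Curv2.deg k X G r' * (r₁ : ℤ) ≤ Curv2.deg k X T.X₁ r₁ * (r' : ℤ)) ∧
       (∀ (G : X.Modules) (r' : ℕ) (i : G ⟶ T.X₃), Mono i → 0 < r' → FlatMod.IsFinLocFreeOfRank r' G →
      Curv2.deg k X G r' * (r₂ : ℤ) ≤ Curv2.deg k X T.X₃ r₂ * (r' : ℤ))) := by
  haveI : IsIntegral X := VBCurve.isIntegral_of_smooth_geomConn k X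
  have hreg := VBCurve.hreg_of_smooth k X
  have hmf : Mono T.f := hT.mono_f
  have hrZ : (0 : ℤ) < (r : ℤ) := by exact_mod_cast hr
  have hr₁Z : (0 : ℤ) < (r₁ : ℤ) := by exact_mod_cast hr₁
  have hr₂Z : (0 : ℤ) < (r₂ : ℤ) := by exact_mod_cast hr₂
  constructor
  · intro hss
    refine ⟨?_, ?_⟩
    · intro G r' i hi hpos hG
      have h := hss G r' (i ≫ T.f) (mono_comp' hi hmf) hpos hG
      have h3 : Curv2.deg k X G r' * (r₁ : ℤ) * (r : ℤ) ≤
          Curv2.deg k X T.X₁ r₁ * (r' : ℤ) * (r : ℤ) := by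
        nlinarith [mul_le_mul_of_nonneg_right h hr₁Z.le]
      exact le_of_mul_le_mul_right h3 hrZ
    · intro G r' j hj hpos hG
      haveI := hj
      obtain ⟨P, i, hi, hP, hdegP⟩ := VBCurve.exists_preimage k X hreg hdim.le T hT hE₁ hE hE₂ j hG
      have h := hss P (r₁ + r') i hi (by omega) hP
      rw [hdegP] at h
      push_cast at h
      have h3 : Curv2.deg k X G r' * (r₂ : ℤ) * (r : ℤ) ≤
          Curv2.deg k X T.X₃ r₂ * (r' : ℤ) * (r : ℤ) := by
        have h4 : Curv2.deg k X G r' * (r : ℤ) ≤ Curv2.deg k X T.X₂ r * (r' : ℤ) := by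
          nlinarith [h, hμ₁]
        nlinarith [mul_le_mul_of_nonneg_right h4 hr₂Z.le]
      exact le_of_mul_le_mul_right h3 hrZ
  · rintro ⟨h₁ss, h₂ss⟩
    intro G r' i hi hpos hG
    haveI := hi
    rcases VBCurve.sub_of_ses_cases k X hreg hdim.le T hT
        (FLFH8.IsFinLocFreeOfRank.isFinLocFree _ hE₂) i hG with
      ⟨j, hj⟩ | ⟨K, I, jK, jI, rK, rI, hjK, hjI, hK, hI, hrr, hrI, hdeg, hK0⟩
    · have h := h₁ss G r' j hj hpos hG
      have h3 : Curv2.deg k X G r' * (r : ℤ) * (r₁ : ℤ) ≤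
          Curv2.deg k X T.X₂ r * (r' : ℤ) * (r₁ : ℤ) := by
        nlinarith [mul_le_mul_of_nonneg_right h hrZ.le]
      exact le_of_mul_le_mul_right h3 hr₁Z
    · have hI' := h₂ss I rI jI hjI hrI hI
      have eI : Curv2.deg k X I rI * (r : ℤ) ≤ Curv2.deg k X T.X₂ r * (rI : ℤ) := by
        have h3 : Curv2.deg k X I rI * (r : ℤ) * (r₂ : ℤ) ≤
            Curv2.deg k X T.X₂ r * (rI : ℤ) * (r₂ : ℤ) := by
          nlinarith [mul_le_mul_of_nonneg_right hI' hrZ.le]
        exact le_of_mul_le_mul_right h3 hr₂Z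
      have eK : Curv2.deg k X K rK * (r : ℤ) ≤ Curv2.deg k X T.X₂ r * (rK : ℤ) := by
        rcases Nat.eq_zero_or_pos rK with h0 | hposK
        · rw [hK0 h0, h0]; simp
        · have hK' := h₁ss K rK jK hjK hposK hK
          have h3 : Curv2.deg k X K rK * (r : ℤ) * (r₁ : ℤ) ≤
              Curv2.deg k X T.X₂ r * (rK : ℤ) * (r₁ : ℤ) := by
            nlinarith [mul_le_mul_of_nonneg_right hK' hrZ.le]
          exact le_of_mul_le_mul_right h3 hr₁Z
      rw [hdeg, hrr]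
      push_cast
      nlinarith [eI, eK]

end Groth.Agent.S14139
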