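import Groth.Statements.S1414
-- import your own Groth.Agent.* helpers here

set_option autoImplicit false
universe u
open FlatMor

namespace Groth.Agent.S1414

open AlgebraicGeometry CategoryTheory Limits

set_option backward.isDefEq.respectTransparency.types false in
theorem smooth_isMultiplicative : MorphismProperty.IsMultiplicative @Smooth.{u} :=
  HasRingHomProperty.isMultiplicative RingHom.Smooth.stableUnderComposition
    (RingHom.Smooth.holdsForLocalizationAway.containsIdentities)

set_option backward.isDefEq.respectTransparency.types false in
theorem smooth_hasOfPostcomp_etale :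
    MorphismProperty.HasOfPostcompProperty @Smooth.{u} @Etale.{u} := by
  haveI := smooth_isMultiplicative.{u}
  rw [MorphismProperty.hasOfPostcompProperty_iff_le_diagonal]
  intro X Y f hf
  have : Etale f := hf
  exact inferInstanceAs <| Smooth (pullback.diagonal f)

set_option backward.isDefEq.respectTransparency.types false in
theorem smooth_of_comp {X Y Z : Scheme.{u}} (f : X ⟶ Y) (g : Y ⟶ Z) (h1 : Smooth (f ≫ g))
    (h2 : Etale g) : Smooth f :=
  smooth_hasOfPostcomp_etale.of_postcomp f g h2 h1

open AlgebraicGeometry CategoryTheory Limits in
/-- Let f : X → Y and g : Y → Z with f ≫ g smooth and g étale. Then f is smooth. -/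
theorem result {X Y Z : Scheme.{u}} (f : X ⟶ Y) (g : Y ⟶ Z) [Smooth (f ≫ g)] [Etale g] : Smooth f := by
  exact smooth_of_comp f g inferInstance inferInstance

end Groth.Agent.S1414
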