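import Groth.Statements.S14172
import Groth.Agent.Lib.Rees5_helper1
import Groth.Agent.Lib.IdealDict_lead

set_option autoImplicit false
universe u
open CategoryTheory CategoryTheory.Limits AlgebraicGeometry
open Variety

namespace Groth.Agent.S14172

/-- Let k be an algebraically closed field of characteristic zero (the published statement is over the
complex numbers; this row allows any algebraically closed field of characteristic zero), I a
quasi-coherent ideal sheaf on P^n_k, viewed as an O-module, and d an integer such that I(d) = I ⊗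
O(d) is generated by its global sections. Then reg(I^p) ≤ d p + e for a suitable integer e and every
p ≥ 1: the p-th power I^p is m-regular whenever m ≥ d p + e. -/
theorem result (k : Type u) [Field k] [IsAlgClosed k] [CharZero k]
    (n : ℕ) (I : (CohB1.ProjSpace n k).IdealSheafData) (d : ℤ)
    (hd : Curv2.IsGloballyGenerated (CohB1.tensorMod (ClSub.idealMod I) (Twist.twistProjSpace n k d))) :
    ∃ e : ℤ, ∀ p : ℕ, 1 ≤ p → ∀ m : ℤ, d * (p : ℤ) + e ≤ m →
      Curv2.IsMRegular k n (ClSub.idealMod (I ^ p)) m := by
  by_cases hn : n = 0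
  · subst hn
    exact ⟨0, fun p _ m _ i hi hi0 => absurd hi0 (by omega)⟩
  · have hn1 : 1 ≤ n := Nat.one_le_iff_ne_zero.mpr hn
    by_cases hd0 : d < 0
    · refine ⟨0, fun p hp m _ => ?_⟩
      exact Groth.Agent.Lib.ReesH1.isMRegular_of_isZero' k n
        (Groth.Agent.Lib.ReesH1.isZero_idealMod_pow_of_isZero I
          (Groth.Agent.Lib.ReesH1.isZero_idealMod_of_gg_neg k n hn1 I d hd0 hd) p hp) m
    · obtain ⟨d', rfl⟩ := Int.eq_ofNat_of_zero_le (not_lt.mp hd0)
      obtain ⟨N, s, hs, hiso⟩ := Groth.Agent.Lib.IdealDict.exists_forms_of_gg k n d' I hd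
      exact Groth.Agent.Lib.ReesH1.main_of_dict k n I d' s hs hiso

end Groth.Agent.S14172
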