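import Groth.Statements.S14175
import Mathlib
-- import your own Groth.Agent.* helpers here

set_option autoImplicit false
universe u v w
open GalCoh

namespace Groth.Agent.S14175

/-- Let G be a finite cyclic group generated by t, let m be a natural number dividing the order of G,
and let ρ be a linear representation of G on a module V over a commutative ring k such that m·V = 0
and every element of G whose m-th power is the identity acts trivially on V. Then evaluating a
crossed homomorphism at t induces a bijection from the first cohomology of G with values in V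
(crossed homomorphisms f, i.e. f(gh) = ρ(g)f(h) + f(g), modulo the principal ones g ↦ ρ(g)x − x)
onto the coinvariants V_G (the quotient of V by the span of all ρ(g)v − v): the class of f(t) in V_G
vanishes exactly when f is principal, and every class of V_G is the class of f(t) for some crossed
homomorphism f. The bijection depends on the choice of the generator t. -/
theorem result
    {k : Type u} {G : Type v} {V : Type w} [CommRing k] [Group G] [Finite G]
    [AddCommGroup V] [Module k V] (ρ : Representation k G V)
    (t : G) (ht : ∀ g : G, g ∈ Subgroup.zpowers t)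
    (m : ℕ) (hm : m ∣ Nat.card G) (htors : ∀ v : V, m • v = 0)
    (htriv : ∀ g : G, g ^ m = 1 → ∀ v : V, ρ g v = v) :
    (∀ f : G → V, (∀ g h : G, f (g * h) = ρ g (f h) + f g) →
        (Representation.Coinvariants.mk ρ (f t) = 0 ↔ ∃ x : V, ∀ g : G, f g = ρ g x - x)) ∧
    (∀ v : V, ∃ f : G → V, (∀ g h : G, f (g * h) = ρ g (f h) + f g) ∧
        Representation.Coinvariants.mk ρ (f t) = Representation.Coinvariants.mk ρ v) := by

  classical
  -- every element is a natural power of t
  have hpow : ∀ g : G, ∃ e : ℕ, t ^ e = g := by
    intro g
    have h1 := ht g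
    rw [← mem_powers_iff_mem_zpowers] at h1
    exact (Submonoid.mem_powers_iff g t).mp h1
  have hord : orderOf t = Nat.card G := orderOf_eq_card_of_forall_mem_zpowers ht
  -- geometric sums
  obtain ⟨S, hSdef⟩ : ∃ S : V → ℕ → V, ∀ v j, S v j = ∑ i ∈ Finset.range j, ρ (t ^ i) v :=
    ⟨_, fun _ _ => rfl⟩
  have hS0 : ∀ v, S v 0 = 0 := fun v => by rw [hSdef]; simp
  have hSadd : ∀ v a b, S v (a + b) = S v a + ρ (t ^ a) (S v b) := by
    intro v a b
    rw [hSdef, hSdef, hSdef, Finset.sum_range_add, map_sum]
    congr 1
    refine Finset.sum_congr rfl (fun i _ => ?_)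
    rw [pow_add, map_mul, Module.End.mul_apply]
  have htel : ∀ v j, ρ t (S v j) - S v j = ρ (t ^ j) v - v := by
    intro v j
    induction j with
    | zero => simp [hS0]
    | succ j ih =>
      have h1 : S v (j + 1) = S v j + ρ (t ^ j) v := by
        rw [hSadd, hSdef v 1]; simp
      rw [h1, map_add, add_sub_add_comm, ih]
      have h2 : ρ t (ρ (t ^ j) v) = ρ (t ^ (j + 1)) v := by
        rw [pow_succ', map_mul, Module.End.mul_apply]
      rw [h2]; abel
  constructor
  · intro f hf
    have hf1 : f 1 = 0 := by
      have := hf 1 1
      rw [mul_one, map_one, Module.End.one_apply] at this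
      exact left_eq_add.mp this
    constructor
    · intro h0
      rw [Representation.Coinvariants.mk_eq_zero] at h0
      -- the kernel is the image of ρ t - 1
      have hker : Representation.Coinvariants.ker ρ ≤ LinearMap.range (ρ t - 1) := by
        refine Submodule.span_le.mpr ?_
        rintro _ ⟨⟨g, v⟩, rfl⟩
        obtain ⟨e, rfl⟩ := hpow g
        refine ⟨S v e, ?_⟩
        rw [LinearMap.sub_apply, Module.End.one_apply]
        exact htel v e
      obtain ⟨x, hx⟩ := hker h0
      rw [LinearMap.sub_apply, Module.End.one_apply] at hx
      refine ⟨x, fun g => ?_⟩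
      obtain ⟨e, rfl⟩ := hpow g
      induction e with
      | zero => simp [hf1]
      | succ e ih =>
        rw [pow_succ', hf, ih, ← hx, map_sub, map_mul, Module.End.mul_apply]
        abel
    · rintro ⟨x, hx⟩
      rw [Representation.Coinvariants.mk_eq_zero, hx t]
      exact Representation.Coinvariants.sub_mem_ker t x
  · intro v
    obtain ⟨r, hr⟩ := hm
    -- t^r acts trivially
    have htr : ∀ w : V, ρ (t ^ r) w = w := by
      refine htriv (t ^ r) ?_
      rw [← pow_mul, mul_comm, ← hr]
      exact pow_card_eq_one'
    have hSr : ∀ a : ℕ, S v (a * r) = a • S v r := by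
      intro a
      induction a with
      | zero => simp [hS0]
      | succ a ih =>
        rw [add_mul, one_mul, hSadd, ih, pow_mul, add_smul, one_smul]
        congr 1
        have : ∀ b : ℕ, ∀ w : V, ρ ((t ^ a) ^ r) w = w := by
          intro b w
          rw [← pow_mul, mul_comm, pow_mul]
          have h2 : ∀ c : ℕ, ρ ((t ^ r) ^ c) w = w := by
            intro c
            induction c with
            | zero => simp
            | succ c ihc => rw [pow_succ, map_mul, Module.End.mul_apply, htr, ihc]
          exact h2 a
        rw [← pow_mul, mul_comm, pow_mul]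
        have h2 : ∀ c : ℕ, ∀ w : V, ρ ((t ^ r) ^ c) w = w := by
          intro c w
          induction c with
          | zero => simp
          | succ c ihc => rw [pow_succ, map_mul, Module.End.mul_apply, htr, ihc]
        exact h2 a _
    have hSn : S v (Nat.card G) = 0 := by
      rw [hr, hSr, htors]
    -- periodicity
    have hSper : ∀ q j : ℕ, S v (q * Nat.card G + j) = S v j := by
      intro q j
      induction q with
      | zero => simp
      | succ q ih =>
        have e1 : (q + 1) * Nat.card G + j = Nat.card G + (q * Nat.card G + j) := by ring
        rw [e1, hSadd, hSn, zero_add, ih]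
        have : t ^ Nat.card G = 1 := pow_card_eq_one'
        rw [this, map_one, Module.End.one_apply]
    have hSmod : ∀ a b : ℕ, t ^ a = t ^ b → S v a = S v b := by
      intro a b hab
      rw [pow_eq_pow_iff_modEq, hord] at hab
      have ha : a = (a / Nat.card G) * Nat.card G + a % Nat.card G := by
        rw [mul_comm]; exact (Nat.div_add_mod a _).symm
      have hb : b = (b / Nat.card G) * Nat.card G + b % Nat.card G := by
        rw [mul_comm]; exact (Nat.div_add_mod b _).symm
      rw [ha, hb, hSper, hSper, hab]
    choose e he using hpow
    refine ⟨fun g => S v (e g), ?_, ?_⟩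
    · intro g h
      show S v (e (g * h)) = ρ g (S v (e h)) + S v (e g)
      have h1 : t ^ e (g * h) = t ^ (e g + e h) := by
        rw [he, pow_add, he, he]
      rw [hSmod _ _ h1, hSadd, he, add_comm]
    · show Representation.Coinvariants.mk ρ (S v (e t)) = Representation.Coinvariants.mk ρ v
      have h1 : t ^ e t = t ^ 1 := by rw [he, pow_one]
      rw [hSmod _ _ h1, hSdef]
      simp

end Groth.Agent.S14175
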