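import Groth.Statements.S14205
import Mathlib
import Groth.Agent.Lib.TPow_helper6
-- import your own Groth.Agent.* helpers here

set_option autoImplicit false
universe u v
open scoped TensorProduct
open Brauer

namespace Groth.Agent.S14205


open Groth.Agent.Lib.TPow in
theorem splits_iff_spl (k : Type u) [Field k] (X : Type*) [Ring X] [Algebra k X] :
    Curves.Splits k X k ↔ Spl k X := by
  constructor
  · rintro ⟨n, hn, ⟨e⟩⟩
    exact ⟨n, hn, ⟨(Algebra.TensorProduct.lid k X).symm.trans e⟩⟩
  · rintro ⟨n, hn, ⟨e⟩⟩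
    exact ⟨n, hn, ⟨(Algebra.TensorProduct.lid k X).trans e⟩⟩



/-- Let A be a finite-dimensional central simple algebra over a field k with period p: p is the least
positive integer for which the p-fold tensor power of A over k is a full matrix algebra over k. Then
for every r ≥ 1 the r-fold tensor power of A has period p / gcd(p, r) (the order of the r-th
multiple of an element of order p). -/
theorem result (k : Type u) [Field k] (A : Type v) [Ring A] [Algebra k A]
    [Algebra.IsCentral k A] [IsSimpleRing A] [FiniteDimensional k A] (p : ℕ)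
    (hp : CSAGal.IsPeriod k A p) (r : ℕ) (hr : 0 < r) :
    CSAGal.IsPeriod k (CSAGal.tpow k A r) (p / Nat.gcd p r) := by

  classical
  obtain ⟨hp0, hsp, hmin⟩ := hp
  have key := Groth.Agent.Lib.TPow.spl_tpow_iff k A p hp0 ((splits_iff_spl k _).1 hsp)
    (fun e' h1 h2 h3 => hmin e' h1 h2 ((splits_iff_spl k _).2 h3))
  have nested : ∀ e, Curves.Splits k (CSAGal.tpow k (CSAGal.tpow k A r) e) k ↔ p ∣ r * e := by
    intro e
    obtain ⟨φ⟩ := Groth.Agent.Lib.TPow.nonempty_nested k A r e
    rw [splits_iff_spl]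
    exact ⟨fun h => (key _).1 (h.congr φ), fun h => ((key _).2 h).congr φ.symm⟩
  obtain ⟨g, hg⟩ : ∃ g, g = Nat.gcd p r := ⟨_, rfl⟩
  rw [← hg]
  have hgpos : 0 < g := hg ▸ Nat.gcd_pos_of_pos_left r hp0
  obtain ⟨p', hp'⟩ : g ∣ p := hg ▸ Nat.gcd_dvd_left p r
  obtain ⟨r', hr'⟩ : g ∣ r := hg ▸ Nat.gcd_dvd_right p r
  have hdiv : p / g = p' := Nat.div_eq_of_eq_mul_right hgpos hp'
  have hcop : Nat.Coprime p' r' := by
    have h1 : g * Nat.gcd p' r' = g * 1 := by
      rw [← Nat.gcd_mul_left, ← hp', ← hr', ← hg, mul_one]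
    exact Nat.eq_of_mul_eq_mul_left hgpos h1
  have hp'0 : 0 < p' := by
    rcases Nat.eq_zero_or_pos p' with h | h
    · rw [h, mul_zero] at hp'; omega
    · exact h
  have hiff : ∀ e, p ∣ r * e ↔ p' ∣ e := by
    intro e
    rw [hp', hr', mul_assoc, Nat.mul_dvd_mul_iff_left hgpos]
    constructor
    · intro h
      exact hcop.dvd_of_dvd_mul_left h
    · intro h
      exact Dvd.dvd.mul_left h r'
  rw [hdiv]
  refine ⟨hp'0, (nested p').2 ((hiff p').2 dvd_rfl), fun e' he' hlt hs => ?_⟩
  have h1 : p' ∣ e' := (hiff e').1 ((nested e').1 hs)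
  exact absurd (Nat.le_of_dvd he' h1) (not_le.2 hlt)

end Groth.Agent.S14205
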