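import Groth.Statements.S14211
import Mathlib
import Groth.Agent.S13293
import Groth.Agent.S0198
import Groth.Agent.S0196
import Groth.Agent.Lib.IndexPrimes_helper6
-- import your own Groth.Agent.* helpers here

set_option autoImplicit false
universe u v
open scoped TensorProduct
open Brauer

namespace Groth.Agent.S14211


open Groth.Agent.S13293 in
theorem quat_of_deg_two (k : Type u) [Field k] (h2 : (2 : k) ≠ 0)
    (D : Type v) [DivisionRing D] [Algebra k D] [Algebra.IsCentral k D] [FiniteDimensional k D]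
    (hD : Module.finrank k D = 4) :
    ∃ a b : k, Nonempty (QuaternionAlgebra k a 0 b ≃ₐ[k] D) := by
  classical
  obtain ⟨L, hcomm, hmax, hsep⟩ := Groth.Agent.S0198.result k D
  have hdim := Groth.Agent.S0196.result k D L hcomm hmax
  letI instCR : CommRing ↥L :=
    { (inferInstance : Ring ↥L) with
      mul_comm := fun a b => Subtype.ext (hcomm a.1 a.2 b.1 b.2) }
  letI instF : Field ↥L := fieldOfFiniteDimensional k ↥L
  have hL2 : Module.finrank k ↥L = 2 := by
    rw [hD] at hdim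
    have h4 : (2 : ℕ) ^ 2 = Module.finrank k ↥L ^ 2 := by rw [← hdim]; norm_num
    exact (Nat.pow_left_injective two_ne_zero h4).symm
  haveI : Algebra.IsSeparable k ↥L := hsep
  haveI : Algebra.IsQuadraticExtension k ↥L := { finrank_eq_two' := hL2 }
  haveI : IsGalois k ↥L := inferInstance
  obtain ⟨σ, hσ⟩ := IsCyclic.exists_generator (α := ↥L ≃ₐ[k] ↥L)
  have hcard : Nat.card (↥L ≃ₐ[k] ↥L) = 2 := by rw [IsGalois.card_aut_eq_finrank, hL2]
  have hord : orderOf σ = 2 := by rw [orderOf_eq_card_of_forall_mem_zpowers hσ, hcard]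
  have hσσ : ∀ x : ↥L, σ (σ x) = x := by
    intro x
    have h := pow_orderOf_eq_one σ
    rw [hord, pow_two] at h
    have := congrArg (fun τ : ↥L ≃ₐ[k] ↥L => τ x) h
    simpa [AlgEquiv.mul_apply] using this
  have hσ1 : σ ≠ 1 := by
    intro h
    rw [h, orderOf_one] at hord
    omega
  obtain ⟨θ, hθ⟩ : ∃ θ : ↥L, σ θ ≠ θ := by
    by_contra hcon
    push_neg at hcon
    exact hσ1 (AlgEquiv.ext hcon)
  obtain ⟨α, hαdef⟩ : ∃ α : ↥L, α = θ - σ θ := ⟨_, rfl⟩
  have hα0 : α ≠ 0 := by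
    rw [hαdef]
    exact sub_ne_zero.2 (Ne.symm hθ)
  have hσα : σ α = -α := by
    rw [hαdef, map_sub, hσσ, neg_sub]
  have h2L : (2 : ↥L) ≠ 0 := by
    have h := (algebraMap k ↥L).injective.ne h2
    rwa [map_ofNat, map_zero] at h
  have hneg : -α ≠ α := by
    intro h
    have h3 : (2 : ↥L) * α = 0 := by
      rw [two_mul]
      nth_rewrite 1 [← h]
      exact neg_add_cancel α
    rcases mul_eq_zero.1 h3 with h4 | h4
    · exact h2L h4
    · exact hα0 h4
  -- a
  have hfixall : ∀ x : ↥L, σ x = x → ∀ τ : ↥L ≃ₐ[k] ↥L, τ x = x := by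
    intro x hx τ
    have hle : Subgroup.zpowers σ ≤ MulAction.stabilizer (↥L ≃ₐ[k] ↥L) x := by
      rw [Subgroup.zpowers_le]
      exact hx
    exact hle (hσ τ)
  obtain ⟨a, ha⟩ : ∃ a : k, algebraMap k ↥L a = α * α := by
    apply (IsGalois.mem_range_algebraMap_iff_fixed _).2
    apply hfixall
    rw [map_mul, hσα, neg_mul_neg]
  -- cyclic structure
  have hdim' : Module.finrank k D = Module.finrank k ↥L ^ 2 := hdim
  obtain ⟨b, ι, y, hy, hrel, hgen, -, -⟩ := isCyclic_of_embedding σ hσ L.val hdim'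
  rw [hL2] at hy
  obtain ⟨i, hi⟩ : ∃ i : D, i = ι α := ⟨_, rfl⟩
  have hii : i * i = algebraMap k D a := by
    rw [hi, ← map_mul, ← ha, AlgHom.commutes]
  have hij : i * y = -(y * i) := by
    rw [hi, hrel, hσα, map_neg, mul_neg]
  obtain ⟨q, hqi, hqj, hqk⟩ : ∃ q : QuaternionAlgebra.Basis D a 0 (b : k),
      q.i = i ∧ q.j = y ∧ q.k = i * y :=
    ⟨{ i := i, j := y, k := i * y
       i_mul_i := by rw [hii, zero_smul, add_zero, Algebra.algebraMap_eq_smul_one]
       j_mul_j := by rw [← sq, hy, Algebra.algebraMap_eq_smul_one]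
       i_mul_j := rfl
       j_mul_i := by rw [zero_smul, zero_sub, hij, neg_neg] }, rfl, rfl, rfl⟩
  -- L = k[α]
  have hLtop : Algebra.adjoin k ({α} : Set ↥L) = ⊤ := by
    haveI := Subalgebra.isSimpleOrder_of_finrank hL2
    rcases eq_bot_or_eq_top (Algebra.adjoin k ({α} : Set ↥L)) with h | h
    · exfalso
      have hmem : α ∈ (⊥ : Subalgebra k ↥L) := by
        rw [← h]
        exact Algebra.subset_adjoin (Set.mem_singleton α)
      obtain ⟨c, hc⟩ := Algebra.mem_bot.1 hmem
      apply hneg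
      rw [← hσα, ← hc, AlgEquiv.commutes]
    · exact h
  have hsurj : (q.liftHom).range = ⊤ := by
    rw [QuaternionAlgebra.Basis.range_liftHom, hqi, hqj, hqk, eq_top_iff, ← hgen]
    apply Algebra.adjoin_le
    rintro z (⟨x, rfl⟩ | hz)
    · have hx : x ∈ Algebra.adjoin k ({α} : Set ↥L) := by rw [hLtop]; trivial
      have h3 : ι x ∈ (Algebra.adjoin k ({α} : Set ↥L)).map ι := ⟨x, hx, rfl⟩
      rw [AlgHom.map_adjoin, Set.image_singleton, ← hi] at h3
      exact Algebra.adjoin_mono (by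
        intro w hw
        rw [Set.mem_singleton_iff] at hw
        rw [hw]
        exact Set.mem_insert _ _) h3
    · rw [Set.mem_singleton_iff] at hz
      rw [hz]
      exact Algebra.subset_adjoin (by simp)
  have hsurj' : Function.Surjective q.liftHom := by
    intro z
    have hz : z ∈ (q.liftHom).range := by rw [hsurj]; trivial
    exact hz
  have hfin : Module.finrank k (QuaternionAlgebra k a 0 (b : k)) = Module.finrank k D := by
    rw [QuaternionAlgebra.finrank_eq_four, hD]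
  have hinj : Function.Injective q.liftHom :=
    (LinearMap.injective_iff_surjective_of_finrank_eq_finrank hfin
      (f := q.liftHom.toLinearMap)).2 hsurj'
  exact ⟨a, (b : k), ⟨AlgEquiv.ofBijective q.liftHom ⟨hinj, hsurj'⟩⟩⟩


/-- Let k be a field in which 2 ≠ 0 and A a finite-dimensional central simple k-algebra. Then A has
period 2 and index 2 (its Severi–Brauer variety has type (2, 2, 2m)) if and only if A is isomorphic
over k to a matrix algebra M_m(Q), m ≥ 1, over a quaternion algebra Q = (a, b)_k (the k-algebra with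
basis 1, i, j, ij, i² = a, j² = b, ij = −ji) which is a division ring; moreover such a quaternion
algebra is unique up to k-isomorphism. -/
theorem result (k : Type u) [Field k] (h2 : (2 : k) ≠ 0)
    (A : Type v) [Ring A] [Algebra k A] [Algebra.IsCentral k A] [IsSimpleRing A]
    [FiniteDimensional k A] :
    ((CSAGal.IsPeriod k A 2 ∧ CSAGal.IsIndex k A 2) ↔
      ∃ (a b : k) (m : ℕ), 0 < m ∧ (∀ x : QuaternionAlgebra k a 0 b, x ≠ 0 → IsUnit x) ∧
        Nonempty (A ≃ₐ[k] Matrix (Fin m) (Fin m) (QuaternionAlgebra k a 0 b))) ∧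
    (∀ (a b a' b' : k) (m m' : ℕ),
      (∀ x : QuaternionAlgebra k a 0 b, x ≠ 0 → IsUnit x) →
      (∀ x : QuaternionAlgebra k a' 0 b', x ≠ 0 → IsUnit x) →
      Nonempty (A ≃ₐ[k] Matrix (Fin m) (Fin m) (QuaternionAlgebra k a 0 b)) →
      Nonempty (A ≃ₐ[k] Matrix (Fin m') (Fin m') (QuaternionAlgebra k a' 0 b')) →
      Nonempty (QuaternionAlgebra k a 0 b ≃ₐ[k] QuaternionAlgebra k a' 0 b')) := by

  classical
  have hmne : ∀ (m : ℕ) (X : Type u) [Ring X] [Algebra k X],
      Nonempty (A ≃ₐ[k] Matrix (Fin m) (Fin m) X) → m ≠ 0 := by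
    intro m X _ _ ⟨iso⟩
    rintro rfl
    haveI : Subsingleton (Matrix (Fin 0) (Fin 0) X) := inferInstance
    exact not_subsingleton A (iso.toEquiv.subsingleton)
  have hunique : ∀ (a b a' b' : k) (m m' : ℕ),
      (∀ x : QuaternionAlgebra k a 0 b, x ≠ 0 → IsUnit x) →
      (∀ x : QuaternionAlgebra k a' 0 b', x ≠ 0 → IsUnit x) →
      Nonempty (A ≃ₐ[k] Matrix (Fin m) (Fin m) (QuaternionAlgebra k a 0 b)) →
      Nonempty (A ≃ₐ[k] Matrix (Fin m') (Fin m') (QuaternionAlgebra k a' 0 b')) →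
      Nonempty (QuaternionAlgebra k a 0 b ≃ₐ[k] QuaternionAlgebra k a' 0 b') := by
    intro a b a' b' m m' hdiv hdiv' hiso hiso'
    have hm := hmne m _ hiso
    have hm' := hmne m' _ hiso'
    obtain ⟨iso⟩ := hiso
    obtain ⟨iso'⟩ := hiso'
    letI : DivisionRing (QuaternionAlgebra k a 0 b) :=
      DivisionRing.ofIsUnitOrEqZero (fun x => (em (x = 0)).symm.imp (hdiv x) id)
    letI : DivisionRing (QuaternionAlgebra k a' 0 b') :=
      DivisionRing.ofIsUnitOrEqZero (fun x => (em (x = 0)).symm.imp (hdiv' x) id)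
    exact Groth.Agent.Lib.CSAUnique.nonempty_algEquiv m m' hm hm' (iso.symm.trans iso')
  refine ⟨⟨?_, ?_⟩, hunique⟩
  · rintro ⟨-, hd0, m, D, instD, algD, hm, hfinD, ⟨iso⟩⟩
    haveI : FiniteDimensional k D := Module.finite_of_finrank_pos (by rw [hfinD]; positivity)
    haveI : Algebra.IsCentral k (Matrix (Fin m) (Fin m) D) :=
      Algebra.IsCentral.of_algEquiv k _ _ iso
    haveI : Algebra.IsCentral k D := Groth.Agent.S0195.isCentral_of_matrix k D m hm.ne'
    obtain ⟨a, b, ⟨e⟩⟩ := quat_of_deg_two k h2 D (by rw [hfinD]; norm_num)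
    refine ⟨a, b, m, hm, ?_, ⟨iso.trans (AlgEquiv.mapMatrix e.symm)⟩⟩
    intro x hx
    have hex : e x ≠ 0 := by
      intro h
      exact hx (e.injective (by rw [h, map_zero]))
    exact (isUnit_map_iff e x).1 (IsUnit.mk0 _ hex)
  · rintro ⟨a, b, m, hm, hdiv, ⟨iso⟩⟩
    letI : DivisionRing (QuaternionAlgebra k a 0 b) :=
      DivisionRing.ofIsUnitOrEqZero (fun x => (em (x = 0)).symm.imp (hdiv x) id)
    obtain ⟨m', D', instD', algD', hcD', hfdD', d, hm', hd0, hfinD', ⟨iso'⟩⟩ :=
      Groth.Agent.Lib.IndexPrimes.exists_index k A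
    obtain ⟨eD⟩ := Groth.Agent.Lib.CSAUnique.nonempty_algEquiv m' m hm' hm.ne'
      (iso'.symm.trans iso)
    have hfin4 : Module.finrank k D' = 4 := by
      rw [eD.toLinearEquiv.finrank_eq, QuaternionAlgebra.finrank_eq_four]
    have hd2 : d = 2 := by
      rw [hfin4] at hfinD'
      have h4 : (2 : ℕ) ^ 2 = d ^ 2 := by rw [← hfinD']; norm_num
      exact (Nat.pow_left_injective two_ne_zero h4).symm
    subst hd2
    refine ⟨⟨two_pos, ?_, ?_⟩, ⟨two_pos, m', D', instD', algD', Nat.pos_of_ne_zero hm', hfinD',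
      ⟨iso'⟩⟩⟩
    · exact Groth.Agent.Lib.BrEq.spl_iff_splitsBy.1
        (Groth.Agent.Lib.IndexPrimes.spl_tpow_index k A D' m' iso' 2 hfinD')
    · intro e' he'0 he'2 hspl
      have he'1 : e' = 1 := by omega
      subst he'1
      have h1 : Groth.Agent.Lib.TPow.Spl k (Groth.Agent.Lib.TPow.TP k A 1) :=
        Groth.Agent.Lib.BrEq.spl_iff_splitsBy.2 hspl
      obtain ⟨r, hr, ⟨ψ⟩⟩ := h1.congr (Groth.Agent.Lib.TPow.tpowOne k A).symm
      obtain ⟨eD'⟩ := Groth.Agent.Lib.CSAUnique.nonempty_algEquiv m' r hm' hr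
        (iso'.symm.trans ψ)
      have h5 : Module.finrank k D' = 1 := by
        rw [eD'.toLinearEquiv.finrank_eq, Module.finrank_self]
      rw [hfin4] at h5
      omega

end Groth.Agent.S14211
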