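import Groth.Statements.S14255
import Mathlib
import Groth.Agent.Lib.Perf3_helper6
-- import your own Groth.Agent.* helpers here

set_option autoImplicit false
universe u
open FrobAlg

namespace Groth.Agent.S14255

/-- Let p be a prime, φ : A → B a flat map of commutative rings of characteristic p, i : A → A' and j :
B → B' perfect closures (A', B' perfect rings of characteristic p, every element of A' resp. B' has
a p^n-th power in the image of i resp. j, the kernels of i and j consist of nilpotent elements), and
φ' : A' → B' the induced map, φ' ∘ i = j ∘ φ. Then φ' is flat. (The published statement is that the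
perfection of a flat morphism of schemes over the prime field is flat; this row is its affine case,
to which the published proof reduces.) -/
theorem result (p : ℕ) [Fact p.Prime]
    {A B A' B' : Type u} [CommRing A] [CommRing B] [CommRing A'] [CommRing B']
    [CharP A p] [CharP B p] [CharP A' p] [CharP B' p] [PerfectRing A' p] [PerfectRing B' p]
    (φ : A →+* B) (hflat : φ.Flat) (i : A →+* A') (j : B →+* B') [IsPerfectClosure i p] [IsPerfectClosure j p]
    (φ' : A' →+* B') (hφ : φ'.comp i = j.comp φ) : φ'.Flat := by

  have hp : p.Prime := Fact.out
  have hA'b : Function.Bijective (fun x : A' => x ^ p) := bijective_frobenius A' p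
  have hB'b : Function.Bijective (fun x : B' => x ^ p) := bijective_frobenius B' p
  refine Groth.Agent.Lib.Perf.flat_of_perfection p φ hflat i j φ' hφ (CharP.cast_eq_zero B p)
    (CharP.cast_eq_zero A' p) (CharP.cast_eq_zero B' p) hA'b hB'b
    (fun x => IsPRadical.pow_mem i p x) (fun y => IsPRadical.pow_mem j p y) (fun b hb => ?_)
  have h2 := IsPRadical.ker_le j p (show b ∈ RingHom.ker j from hb)
  rw [pNilradical_prime hp] at h2
  exact h2

end Groth.Agent.S14255
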