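import Groth.Statements.S14257
import Mathlib
import Groth.Agent.Lib.Perf4_helper6
-- import your own Groth.Agent.* helpers here

set_option autoImplicit false
universe u
open TensorProduct
open FrobAlg

namespace Groth.Agent.S14257

/-- Let p be a prime, A a commutative ring of characteristic p, B an etale A-algebra of characteristic
p, A → A' and B → B' perfect closures (A', B' perfect rings of characteristic p, every element of A'
resp. B' has a p^n-th power in the image of A resp. B, and the structure maps have kernels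
consisting of nilpotent elements), B' viewed as an A-algebra through B, and φ' : A' → B' a map of
A-algebras. Then the natural map A' ⊗_A B → B', a ⊗ b ↦ φ'(a) b, is bijective. (The published
statement is for an etale morphism X → Y of schemes over the prime field, where X_perf → X ×_Y
Y_perf is an isomorphism; this row is the affine case.) -/
theorem result (p : ℕ) [Fact p.Prime]
    (A B A' B' : Type u) [CommRing A] [CommRing B] [CommRing A'] [CommRing B']
    [CharP A p] [CharP B p] [CharP A' p] [CharP B' p] [PerfectRing A' p] [PerfectRing B' p]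
    [Algebra A B] [Algebra.Etale A B] [Algebra A A'] [Algebra B B'] [Algebra A B'] [IsScalarTower A B B']
    [IsPerfectClosure (algebraMap A A') p] [IsPerfectClosure (algebraMap B B') p]
    (φ' : A' →ₐ[A] B') :
    Function.Bijective (Algebra.TensorProduct.lift φ' (IsScalarTower.toAlgHom A B B')
      (fun a b => Commute.all (φ' a) (IsScalarTower.toAlgHom A B B' b))) := by

  have hp : p.Prime := Fact.out
  set ψ := Algebra.TensorProduct.lift φ' (IsScalarTower.toAlgHom A B B')
      (fun a b => Commute.all (φ' a) (IsScalarTower.toAlgHom A B B' b)) with hψ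
  have hψ1 : ∀ b : B, ψ ((1 : A') ⊗ₜ[A] b) = algebraMap B B' b := fun b => by
    rw [hψ, Algebra.TensorProduct.lift_tmul, map_one, one_mul]
    rfl
  -- characteristic p
  have hC0 : (p : TensorProduct A A' B) = 0 := by
    have h1 : (p : TensorProduct A A' B) = algebraMap A' (TensorProduct A A' B) (p : A') := by
      rw [map_natCast]
    rw [h1, CharP.cast_eq_zero A' p, map_zero]
  -- C is perfect
  have hCperf : Function.Bijective (fun c : TensorProduct A A' B => c ^ p) := by
    let RA : CommRingCat.{u} := CommRingCat.of A'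
    let RC : CommRingCat.{u} := CommRingCat.of (TensorProduct A A' B)
    haveI hcA : FrobSch.IsCharP (AlgebraicGeometry.Spec RA) p :=
      Groth.Agent.Lib.Perf.isCharP_Spec_of p RA (CharP.cast_eq_zero A' p)
    haveI hcC : FrobSch.IsCharP (AlgebraicGeometry.Spec RC) p :=
      Groth.Agent.Lib.Perf.isCharP_Spec_of p RC hC0
    have hT : FrobSch.IsPerfect (AlgebraicGeometry.Spec RA) p :=
      Groth.Agent.Lib.Perf.isPerfect_Spec p RA (CharP.cast_eq_zero A' p) (bijective_frobenius A' p)
    let g : AlgebraicGeometry.Spec RC ⟶ AlgebraicGeometry.Spec RA :=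
      AlgebraicGeometry.Spec.map (CommRingCat.ofHom (algebraMap A' (TensorProduct A A' B)))
    haveI : AlgebraicGeometry.Etale g := by
      rw [AlgebraicGeometry.HasRingHomProperty.Spec_iff (P := @AlgebraicGeometry.Etale)]
      show (algebraMap A' (TensorProduct A A' B)).Etale
      rw [RingHom.etale_algebraMap]
      infer_instance
    have hZ : FrobSch.IsPerfect (AlgebraicGeometry.Spec RC) p :=
      Groth.Agent.Lib.Perf.isPerfect_of_etale p g hT
    have hbij := Groth.Agent.Lib.Perf.bijective_pow_of_isPerfect p (AlgebraicGeometry.Spec RC) hZ ⊤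
    let e : _ ≃+* TensorProduct A A' B :=
      (AlgebraicGeometry.Scheme.ΓSpecIso RC).commRingCatIsoToRingEquiv
    have heq : (fun c : TensorProduct A A' B => c ^ p) = e ∘ (fun s => s ^ p) ∘ e.symm := by
      funext c
      simp only [Function.comp_apply, map_pow, RingEquiv.apply_symm_apply]
    rw [heq]
    exact e.bijective.comp (hbij.comp e.symm.bijective)
  have hCn : ∀ n : ℕ, Function.Bijective (fun c : TensorProduct A A' B => c ^ p ^ n) := fun n => by
    have := hCperf.iterate n
    rwa [pow_iterate] at this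
  have hB'n : ∀ n : ℕ, Function.Bijective (fun c : B' => c ^ p ^ n) := fun n => by
    have h0 : Function.Bijective (fun x : B' => x ^ p) := bijective_frobenius B' p
    have := h0.iterate n
    rwa [pow_iterate] at this
  -- p-radicality of B → C
  have hrad : ∀ c : TensorProduct A A' B, ∃ (n : ℕ) (b : B), (1 : A') ⊗ₜ[A] b = c ^ p ^ n := by
    intro c
    induction c using TensorProduct.induction_on with
    | zero => exact ⟨0, 0, by rw [TensorProduct.tmul_zero, pow_zero, pow_one]⟩
    | tmul a' b =>
      obtain ⟨n, a, ha⟩ := IsPRadical.pow_mem (algebraMap A A') p a'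
      refine ⟨n, a • b ^ p ^ n, ?_⟩
      rw [Algebra.TensorProduct.tmul_pow, ← ha, TensorProduct.tmul_smul, Algebra.algebraMap_eq_smul_one,
        TensorProduct.smul_tmul']
    | add c1 c2 h1 h2 =>
      obtain ⟨n1, b1, hb1⟩ := h1
      obtain ⟨n2, b2, hb2⟩ := h2
      refine ⟨n1 + n2, b1 ^ p ^ n2 + b2 ^ p ^ n1, ?_⟩
      rw [Groth.Agent.Lib.Perf.add_pow_pp p hC0, TensorProduct.tmul_add, pow_add, pow_mul, ← hb1,
        mul_comm, pow_mul, ← hb2, Algebra.TensorProduct.tmul_pow, Algebra.TensorProduct.tmul_pow,
        one_pow, one_pow]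
  refine ⟨?_, ?_⟩
  · rw [injective_iff_map_eq_zero]
    intro c hc
    obtain ⟨n, b, hb⟩ := hrad c
    have h1 : algebraMap B B' b = 0 := by
      rw [← hψ1, hb, map_pow, hc, zero_pow (pow_ne_zero _ hp.ne_zero)]
    have h2 := IsPRadical.ker_le (algebraMap B B') p (show b ∈ RingHom.ker (algebraMap B B') from h1)
    rw [pNilradical_prime hp] at h2
    obtain ⟨m, hm⟩ := h2
    have h3 : c ^ (p ^ n * m) = 0 := by
      rw [pow_mul, ← hb, Algebra.TensorProduct.tmul_pow, hm, TensorProduct.tmul_zero]
    -- reduce via Frobenius injectivity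
    obtain ⟨k, hk⟩ : ∃ k, p ^ n * m ≤ p ^ k := ⟨p ^ n * m, (Nat.lt_pow_self hp.one_lt).le⟩
    have h4 : c ^ p ^ k = 0 := pow_eq_zero_of_le hk h3
    have h5 := (hCn k).1 (a₁ := c) (a₂ := 0)
    apply h5
    show c ^ p ^ k = 0 ^ p ^ k
    rw [h4, zero_pow (pow_ne_zero _ hp.ne_zero)]
  · intro y
    obtain ⟨n, b, hb⟩ := IsPRadical.pow_mem (algebraMap B B') p y
    obtain ⟨c, hc⟩ := (hCn n).2 ((1 : A') ⊗ₜ[A] b)
    refine ⟨c, ?_⟩
    apply (hB'n n).1
    show ψ c ^ p ^ n = y ^ p ^ n
    rw [← map_pow]
    have hc' : c ^ p ^ n = (1 : A') ⊗ₜ[A] b := hc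
    rw [hc', hψ1, hb]

end Groth.Agent.S14257
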