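import Groth.Statements.S7476
import Mathlib
import Groth.Agent.Lib.ValLift2_helper6
import Groth.Agent.Lib.ValLift3_helper6
-- import your own Groth.Agent.* helpers here

set_option autoImplicit false
universe w u
open HTop

namespace Groth.Agent.S7476

open CategoryTheory CategoryTheory.Limits AlgebraicGeometry in
/-- Let f : X -> Y be a quasi-compact morphism of schemes. Then the one-member family of f is a V
covering if and only if every morphism from the spectrum of a valuation ring to Y lifts to X after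
an extension of valuation rings; and the latter holds if and only if for every morphism Z -> Y and
every specialization z' ⤳ z of points of Z there is a specialization w' ⤳ w of points of Z x_Y X
mapping to z' ⤳ z. -/
theorem result {X Y : Scheme.{u}} (f : X ⟶ Y) [QuasiCompact f] : (HTop.IsVCover (PreZeroHypercover.singleton f) ↔ HTop.HasValLift (PreZeroHypercover.singleton f)) ∧ (HTop.HasValLift (PreZeroHypercover.singleton f) ↔ ∀ (Z : Scheme.{u}) (g : Z ⟶ Y) (z' z : Z), z' ⤳ z → ∃ w' w : ↑(pullback g f), w' ⤳ w ∧ pullback.fst g f w' = z' ∧ pullback.fst g f w = z) := by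

  refine ⟨⟨fun h => (Groth.Agent.Lib.ValLift.hasValLift_singleton_iff f).mpr
      ((Groth.Agent.Lib.ValLift.hasValLift_singleton_iff f).mp
        (Groth.Agent.Lib.ValLift.hasValLift_of_isVCover _ h)), fun H => ?_⟩,
    ⟨fun H Z g z' z hspec => ?_, fun H => ?_⟩⟩
  · replace H := (Groth.Agent.Lib.ValLift.hasValLift_singleton_iff f).mp H
    intro U
    have hO : IsCompact ((f ⁻¹ᵁ U.1 : X.Opens) : Set X) :=
      QuasiCompact.isCompact_preimage (f := f) _ U.1.2 U.2.isCompact
    obtain ⟨s, hs, hsU⟩ := isCompact_iff_finite_and_eq_biUnion_affineOpens.mp hO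
    haveI : Finite s := hs.to_subtype
    obtain ⟨n, ⟨e⟩⟩ := Finite.exists_equiv_fin s
    let a : Fin n → X.affineOpens := fun k => (e.symm k).1
    have hle : ∀ k : Fin n, ((a k : X.affineOpens) : X.Opens) ≤ f ⁻¹ᵁ U.1 := fun k => by
      rw [hsU]
      exact le_iSup₂ (f := fun (i : X.affineOpens) (_ : i ∈ s) => (i : X.Opens))
        (e.symm k).1 (e.symm k).2
    have hcov : ∀ x : X, x ∈ (f ⁻¹ᵁ U.1 : X.Opens) → ∃ k : Fin n, x ∈ ((a k : X.affineOpens) : X.Opens) := by
      intro x hx
      rw [hsU] at hx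
      simp only [TopologicalSpace.Opens.mem_iSup] at hx
      obtain ⟨A, hA, hxA⟩ := hx
      refine ⟨e ⟨A, hA⟩, ?_⟩
      show x ∈ (((e.symm (e ⟨A, hA⟩)).1 : X.affineOpens) : X.Opens)
      rw [e.symm_apply_apply]
      exact hxA
    have hsub : ∀ k : Fin n, Set.range (((a k : X.affineOpens) : X.Opens).ι ≫ f) ⊆ Set.range U.1.ι := by
      intro k
      rintro _ ⟨y, rfl⟩
      rw [Scheme.Opens.range_ι]
      exact hle k y.2
    let F : PreZeroHypercover.{0} (U.1 : Scheme.{u}) :=
      { I₀ := Fin n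
        X := fun k => (((a k : X.affineOpens) : X.Opens) : Scheme.{u})
        f := fun k => IsOpenImmersion.lift U.1.ι (((a k : X.affineOpens) : X.Opens).ι ≫ f) (hsub k) }
    have hFfac : ∀ k : Fin n, F.f k ≫ U.1.ι = ((a k : X.affineOpens) : X.Opens).ι ≫ f :=
      fun k => IsOpenImmersion.lift_fac _ _ _
    refine ⟨F, ⟨U.2, inferInstanceAs (Finite (Fin n)), fun k => (a k).2, ?_⟩,
      fun k => ⟨PUnit.unit, ((a k : X.affineOpens) : X.Opens).ι, (hFfac k).symm⟩⟩
    intro V _ _ g₀
    obtain ⟨W, iD, iV, φ, hext, g'', hg''⟩ := H V (g₀ ≫ U.1.ι)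
    have hx : g'' (IsLocalRing.closedPoint W) ∈ (f ⁻¹ᵁ U.1 : X.Opens) := by
      show f (g'' (IsLocalRing.closedPoint W)) ∈ U.1
      rw [← Scheme.Hom.comp_apply, hg'', ← Category.assoc, Scheme.Hom.comp_apply]
      exact ((Spec.map φ ≫ g₀) (IsLocalRing.closedPoint W)).2
    obtain ⟨k, hk⟩ := hcov _ hx
    obtain ⟨l, hl⟩ := Groth.Agent.Lib.ValLift.exists_lift_of_closedPoint_mem g''
      ((a k : X.affineOpens) : X.Opens).ι (by rw [Scheme.Opens.range_ι]; exact hk)
    refine ⟨W, iD, iV, φ, hext, k, l, ?_⟩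
    rw [← cancel_mono U.1.ι, Category.assoc, Category.assoc]
    show l ≫ F.f k ≫ U.1.ι = _
    rw [hFfac k, ← Category.assoc, hl, hg'']
  · replace H := (Groth.Agent.Lib.ValLift.hasValLift_singleton_iff f).mp H
    obtain ⟨V, iD, iV, v, hvc, hvg⟩ :=
      Groth.Agent.Lib.ValLift.exists_valuationRing_of_specializes hspec
    obtain ⟨W, iD', iV', φ, hext, g'', hg''⟩ := H V (v ≫ g)
    obtain ⟨w', w, hw, h1, h2⟩ := Groth.Agent.Lib.ValLift.exists_specializes_of_lift
      (IsPullback.of_hasPullback g f) φ hext v g'' hg''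
    exact ⟨w', w, hw, h1.trans hvg, h2.trans hvc⟩
  · refine (Groth.Agent.Lib.ValLift.hasValLift_singleton_iff f).mpr ?_
    intro V _ _ g
    obtain ⟨w', w, hw, h1, h2⟩ := H (Spec V) g (Groth.Agent.Lib.ValLift.genericPt V)
      (IsLocalRing.closedPoint V) (Groth.Agent.Lib.ValLift.genericPt_specializes V)
    obtain ⟨W, iD, iV, φ, hext, h, hh, -⟩ :=
      Groth.Agent.Lib.ValLift.exists_valLift_of_specializes (pullback.fst g f) hw h2
        (by rw [h1]; first | done | exact Groth.Agent.Lib.ValLift.genericPt_asIdeal V)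
    refine ⟨W, iD, iV, φ, hext, h ≫ pullback.snd g f, ?_⟩
    rw [Category.assoc, ← pullback.condition, ← Category.assoc, hh]

end Groth.Agent.S7476
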