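import Groth.Statements.S8979
import Mathlib
import Groth.Agent.S7476
-- import your own Groth.Agent.* helpers here

set_option autoImplicit false
universe u
open HTop

namespace Groth.Agent.S8979

open CategoryTheory CategoryTheory.Limits AlgebraicGeometry in
/-- A surjective proper morphism of finite presentation, as a one-member family, is an h covering of its
target. -/
theorem result {X Y : Scheme.{u}} (f : Y ⟶ X) [IsProper f] [Surjective f] [LocallyOfFinitePresentation f] : HTop.IsHCover (PreZeroHypercover.singleton.{0} f) := by

  refine ⟨fun _ => ‹LocallyOfFinitePresentation f›, ?_⟩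
  refine (Groth.Agent.S7476.result.{u,0,0,0} f).1.mpr ?_
  refine (Groth.Agent.Lib.ValLift.hasValLift_singleton_iff f).mpr ?_
  intro V _ _ g
  exact Groth.Agent.Lib.ValLift.exists_valLift_of_universallyClosed f V g

end Groth.Agent.S8979
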