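import Groth.Statements.S14258
import Mathlib
import Groth.Agent.Lib.HCover_helper6
import Groth.Agent.S8979
-- import your own Groth.Agent.* helpers here

set_option autoImplicit false
universe u
open HTop

namespace Groth.Agent.S14258

open CategoryTheory CategoryTheory.Limits AlgebraicGeometry Opposite in
/-- Let S be a scheme and F a sheaf of sets on the big h site of S. Let Y be an affine scheme over S, f
: X ⟶ Y a proper surjective morphism of finite presentation over S which is an isomorphism over the
open complement U of a closed subscheme i : Z ⟶ Y of finite presentation, and E = X ×_Y Z with its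
projections e : E ⟶ X and π : E ⟶ Z. Then the square of sets of sections F(Y) → F(X), F(Z) → F(E) is
cartesian: a section over Z and a section over X with the same restriction to E come from exactly
one section over Y. (The published statement is for quasi-compact quasi-separated schemes of finite
presentation over a quasi-compact quasi-separated S and sheaves on those; this row works on all
S-schemes; with Y affine and f proper the four schemes are quasi-compact and quasi-separated.) -/
theorem result (S : Scheme.{u}) (F : HTop.ShH S)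
    {E Z X Y : Over S} (e : E ⟶ X) (π : E ⟶ Z) (f : X ⟶ Y) (i : Z ⟶ Y) [IsAffine Y.left]
    [IsProper f.left] [Surjective f.left] [LocallyOfFinitePresentation f.left]
    [IsClosedImmersion i.left] [LocallyOfFinitePresentation i.left]
    (hsq : IsPullback e.left π.left f.left i.left)
    (U : Y.left.Opens) (hU : (U : Set Y.left) = (Set.range i.left.base)ᶜ) (hiso : IsIso (f.left ∣_ U))
    (t : F.obj.obj (op Z)) (s' : F.obj.obj (op X)) (hts : F.obj.map π.op t = F.obj.map e.op s') :
    ∃! s : F.obj.obj (op Y), F.obj.map i.op s = t ∧ F.obj.map f.op s = s' := by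

  have hf_cov : HTop.IsHCover (PreZeroHypercover.singleton.{0} f.left) :=
    Groth.Agent.S8979.result f.left
  haveI : IsProper π.left := MorphismProperty.of_isPullback (P := @IsProper) hsq ‹_›
  haveI : Surjective π.left := MorphismProperty.of_isPullback (P := @Surjective) hsq ‹_›
  haveI : LocallyOfFinitePresentation π.left :=
    MorphismProperty.of_isPullback (P := @LocallyOfFinitePresentation) hsq ‹_›
  have hπ_cov : HTop.IsHCover (PreZeroHypercover.singleton.{0} π.left) :=
    Groth.Agent.S8979.result π.left
  have hw : e ≫ f = π ≫ i := Over.OverMorphism.ext hsq.w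
  have hmem_f : Sieve.ofArrows (fun _ : PUnit.{1} => X) (fun _ => f) ∈ HTop.Jh S Y := by
    rw [GrothendieckTopology.mem_over_iff, Sieve.overEquiv_ofArrows]
    exact Precoverage.generate_mem_toGrothendieck
      ((HTop.presieve₀_mem_hPrecoverage_iff (PreZeroHypercover.singleton.{0} f.left)).mpr hf_cov)
  have hsh_f : Presieve.IsSheafFor F.obj
      (Sieve.ofArrows (fun _ : PUnit.{1} => X) (fun _ => f)).arrows :=
    (isSheaf_iff_isSheaf_of_type _ _).mp F.cond _ hmem_f
  rw [← Presieve.isSheafFor_iff_generate, Presieve.ofArrows_pUnit] at hsh_f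
  have key := Presieve.isSheafFor_singleton.mp hsh_f
  have hcompat : ∀ {T : Over S} (a b : T ⟶ X), a ≫ f = b ≫ f →
      F.obj.map a.op s' = F.obj.map b.op s' := by
    intro T a b hab
    have habl : a.left ≫ f.left = b.left ≫ f.left := congrArg CommaMorphism.left hab
    let c : T.left ⟶ pullback f.left f.left := pullback.lift a.left b.left habl
    let Δ : X.left ⟶ pullback f.left f.left := pullback.diagonal f.left
    have hc1 : c ≫ pullback.fst f.left f.left = a.left := pullback.lift_fst _ _ _
    have hc2 : c ≫ pullback.snd f.left f.left = b.left := pullback.lift_snd _ _ _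
    have hΔ1 : Δ ≫ pullback.fst f.left f.left = 𝟙 _ := pullback.diagonal_fst _
    have hΔ2 : Δ ≫ pullback.snd f.left f.left = 𝟙 _ := pullback.diagonal_snd _
    haveI : LocallyOfFinitePresentation Δ := by
      haveI : LocallyOfFinitePresentation (Δ ≫ pullback.fst f.left f.left) := by
        rw [pullback.diagonal_fst]; infer_instance
      exact Lib.HCover.lfp_of_comp Δ (pullback.fst f.left f.left)
    let j₁ : pullback c Δ ⟶ T.left := pullback.fst c Δ
    let j₂ : pullback (a.left ≫ f.left) i.left ⟶ T.left := pullback.fst _ _
    let T₁ : Over S := Over.mk (j₁ ≫ T.hom)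
    let T₂ : Over S := Over.mk (j₂ ≫ T.hom)
    let g₁ : T₁ ⟶ T := Over.homMk j₁ rfl
    let g₂ : T₂ ⟶ T := Over.homMk j₂ rfl
    let Tj : Bool → Over S := fun b => Bool.rec T₂ T₁ b
    let g : ∀ b, Tj b ⟶ T := fun b => Bool.rec (motive := fun b => Tj b ⟶ T) g₂ g₁ b
    have hcov : HTop.IsHCover
        (⟨Bool, fun b => (Tj b).left, fun b => (g b).left⟩ : PreZeroHypercover.{0} T.left) := by
      apply Lib.HCover.isHCover_of_closedImmersions
      · rintro (_ | _)
        · show IsClosedImmersion j₂
          infer_instance
        · show IsClosedImmersion j₁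
          infer_instance
      · rintro (_ | _)
        · show LocallyOfFinitePresentation j₂
          infer_instance
        · show LocallyOfFinitePresentation j₁
          infer_instance
      · intro τ
        by_cases hτ : (a.left ≫ f.left).base τ ∈ Set.range i.left.base
        · refine ⟨false, ?_⟩
          show τ ∈ Set.range j₂.base
          have hr := Scheme.Pullback.range_fst (a.left ≫ f.left) i.left
          rw [hr]; exact hτ
        · refine ⟨true, ?_⟩
          show τ ∈ Set.range j₁.base
          have hτU : (a.left ≫ f.left).base τ ∈ U := by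
            rw [← SetLike.mem_coe, hU]; exact hτ
          let TU : T.left.Opens := (a.left ≫ f.left) ⁻¹ᵁ U
          have hab' : TU.ι ≫ a.left = TU.ι ≫ b.left := by
            have hle_a : TU ≤ a.left ⁻¹ᵁ (f.left ⁻¹ᵁ U) := le_rfl
            have hle_b : TU ≤ b.left ⁻¹ᵁ (f.left ⁻¹ᵁ U) := by
              show (a.left ≫ f.left) ⁻¹ᵁ U ≤ (b.left ≫ f.left) ⁻¹ᵁ U
              rw [habl]
            let a' := a.left.resLE (f.left ⁻¹ᵁ U) TU hle_a
            let b' := b.left.resLE (f.left ⁻¹ᵁ U) TU hle_b
            have ha' : a' ≫ (f.left ⁻¹ᵁ U).ι = TU.ι ≫ a.left := Scheme.Hom.resLE_comp_ι _ _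
            have hb' : b' ≫ (f.left ⁻¹ᵁ U).ι = TU.ι ≫ b.left := Scheme.Hom.resLE_comp_ι _ _
            have hab'' : a' = b' := by
              haveI := hiso
              rw [← cancel_mono (f.left ∣_ U), ← cancel_mono U.ι]
              simp only [Category.assoc, morphismRestrict_ι]
              rw [← Category.assoc, ha', ← Category.assoc, hb', Category.assoc, Category.assoc,
                habl]
            rw [← ha', ← hb', hab'']
          let l : TU.toScheme ⟶ pullback c Δ := pullback.lift TU.ι (TU.ι ≫ a.left) (by
            apply pullback.hom_ext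
            · rw [Category.assoc, hc1, Category.assoc, hΔ1, Category.comp_id]
            · rw [Category.assoc, hc2, Category.assoc, hΔ2, Category.comp_id, hab'])
          refine ⟨l.base ⟨τ, hτU⟩, ?_⟩
          have h1 : l ≫ j₁ = TU.ι := pullback.lift_fst _ _ _
          have h2 := congrArg (fun m => m.base ⟨τ, hτU⟩) h1
          simpa using h2
    apply Lib.HCover.sep_of_isHCover S F Tj g hcov
    rintro (_ | _)
    · show F.obj.map g₂.op (F.obj.map a.op s') = F.obj.map g₂.op (F.obj.map b.op s')
      have cond_a : (j₂ ≫ a.left) ≫ f.left =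
          pullback.snd (a.left ≫ f.left) i.left ≫ i.left := by
        rw [Category.assoc]; exact pullback.condition
      have cond_b : (j₂ ≫ b.left) ≫ f.left =
          pullback.snd (a.left ≫ f.left) i.left ≫ i.left := by
        rw [Category.assoc, ← habl]; exact pullback.condition
      let α₀ : pullback (a.left ≫ f.left) i.left ⟶ E.left := hsq.lift _ _ cond_a
      let β₀ : pullback (a.left ≫ f.left) i.left ⟶ E.left := hsq.lift _ _ cond_b
      have hα_e : α₀ ≫ e.left = j₂ ≫ a.left := hsq.lift_fst _ _ _
      have hα_π : α₀ ≫ π.left = pullback.snd _ _ := hsq.lift_snd _ _ _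
      have hβ_e : β₀ ≫ e.left = j₂ ≫ b.left := hsq.lift_fst _ _ _
      have hβ_π : β₀ ≫ π.left = pullback.snd _ _ := hsq.lift_snd _ _ _
      let α : T₂ ⟶ E := Over.homMk α₀ (by
        show α₀ ≫ E.hom = j₂ ≫ T.hom
        rw [← Over.w e, ← Category.assoc, hα_e, Category.assoc, Over.w a])
      let β : T₂ ⟶ E := Over.homMk β₀ (by
        show β₀ ≫ E.hom = j₂ ≫ T.hom
        rw [← Over.w e, ← Category.assoc, hβ_e, Category.assoc, Over.w b])
      have hαe : α ≫ e = g₂ ≫ a := Over.OverMorphism.ext hα_e
      have hβe : β ≫ e = g₂ ≫ b := Over.OverMorphism.ext hβ_e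
      have hαβ : α ≫ π = β ≫ π := Over.OverMorphism.ext (hα_π.trans hβ_π.symm)
      calc F.obj.map g₂.op (F.obj.map a.op s') = F.obj.map (g₂ ≫ a).op s' := by
            rw [op_comp, FunctorToTypes.map_comp_apply]
        _ = F.obj.map (α ≫ e).op s' := by rw [hαe]
        _ = F.obj.map α.op (F.obj.map e.op s') := by
            rw [op_comp, FunctorToTypes.map_comp_apply]
        _ = F.obj.map α.op (F.obj.map π.op t) := by rw [hts]
        _ = F.obj.map (α ≫ π).op t := by rw [op_comp, FunctorToTypes.map_comp_apply]
        _ = F.obj.map (β ≫ π).op t := by rw [hαβ]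
        _ = F.obj.map β.op (F.obj.map π.op t) := by
            rw [op_comp, FunctorToTypes.map_comp_apply]
        _ = F.obj.map β.op (F.obj.map e.op s') := by rw [hts]
        _ = F.obj.map (β ≫ e).op s' := by rw [op_comp, FunctorToTypes.map_comp_apply]
        _ = F.obj.map (g₂ ≫ b).op s' := by rw [hβe]
        _ = F.obj.map g₂.op (F.obj.map b.op s') := by
            rw [op_comp, FunctorToTypes.map_comp_apply]
    · show F.obj.map g₁.op (F.obj.map a.op s') = F.obj.map g₁.op (F.obj.map b.op s')
      have hg₁ : g₁ ≫ a = g₁ ≫ b := by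
        apply Over.OverMorphism.ext
        show j₁ ≫ a.left = j₁ ≫ b.left
        have h3 : j₁ ≫ c = pullback.snd c Δ ≫ Δ := pullback.condition
        rw [← hc1, ← hc2, ← Category.assoc, ← Category.assoc, h3, Category.assoc, Category.assoc,
          hΔ1, hΔ2]
      rw [← FunctorToTypes.map_comp_apply, ← FunctorToTypes.map_comp_apply, ← op_comp, ← op_comp,
        hg₁]
  obtain ⟨s, hs, huniq⟩ := key s' (fun a b hab => hcompat a b hab)
  refine ⟨s, ⟨?_, hs⟩, fun s₂ hs₂ => huniq s₂ hs₂.2⟩
  apply Lib.HCover.sep_of_isHCover S F (fun _ : PUnit.{1} => E) (fun _ => π) hπ_cov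
  intro _
  rw [← FunctorToTypes.map_comp_apply, ← op_comp, ← hw, op_comp, FunctorToTypes.map_comp_apply, hs,
    hts]

end Groth.Agent.S14258
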