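import Groth.Statements.S14260
import Mathlib
import Groth.Agent.S14255
-- import your own Groth.Agent.* helpers here

set_option autoImplicit false
universe u
open FrobAlg

namespace Groth.Agent.S14260

/-- Let p be a prime, φ : A → B a faithfully flat map of commutative rings of characteristic p, i : A →
A' and j : B → B' perfect closures (A', B' perfect rings of characteristic p, every element of A'
resp. B' has a p^n-th power in the image of i resp. j, the kernels of i and j consist of nilpotent
elements), and φ' : A' → B' the induced map, φ' ∘ i = j ∘ φ. Then φ' is faithfully flat. (The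
published statement is that the perfection of a faithfully flat morphism of schemes over the prime
field is faithfully flat; this row is its affine case, to which the published proof reduces.) -/
theorem result (p : ℕ) [Fact p.Prime]
    {A B A' B' : Type u} [CommRing A] [CommRing B] [CommRing A'] [CommRing B']
    [CharP A p] [CharP B p] [CharP A' p] [CharP B' p] [PerfectRing A' p] [PerfectRing B' p]
    (φ : A →+* B) (hflat : φ.FaithfullyFlat) (i : A →+* A') (j : B →+* B') [IsPerfectClosure i p]
    [IsPerfectClosure j p] (φ' : A' →+* B') (hφ : φ'.comp i = j.comp φ) : φ'.FaithfullyFlat := by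

  have hp : p.Prime := Fact.out
  rw [RingHom.FaithfullyFlat.iff_flat_and_comap_surjective] at hflat ⊢
  refine ⟨Groth.Agent.S14255.result p φ hflat.1 i j φ' hφ, ?_⟩
  intro q
  obtain ⟨r, hr⟩ := hflat.2 (PrimeSpectrum.comap i q)
  letI := j.toAlgebra
  haveI : Algebra.IsIntegral B B' := ⟨fun y => by
    obtain ⟨n, b, hb⟩ := IsPRadical.pow_mem j p y
    refine IsIntegral.of_pow (pow_pos hp.pos n) ?_
    rw [← hb]
    exact isIntegral_algebraMap (R := B) (A := B') (x := b)⟩
  obtain ⟨Q, -, hQ, hQr⟩ := Ideal.exists_ideal_over_prime_of_isIntegral r.asIdeal (⊥ : Ideal B') (by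
    intro b hb
    have hb' : b ∈ RingHom.ker j := by
      rw [Ideal.mem_comap, Ideal.mem_bot] at hb
      exact hb
    have h2 := IsPRadical.ker_le j p hb'
    rw [pNilradical_prime hp] at h2
    exact nilradical_le_prime r.asIdeal h2)
  refine ⟨⟨Q, hQ⟩, ?_⟩
  have key : ∀ q1 q2 : PrimeSpectrum A', PrimeSpectrum.comap i q1 = PrimeSpectrum.comap i q2 →
      q1.asIdeal ≤ q2.asIdeal := by
    intro q1 q2 h x hx
    obtain ⟨n, a, ha⟩ := IsPRadical.pow_mem i p x
    have h1 : a ∈ (PrimeSpectrum.comap i q1).asIdeal := by
      show i a ∈ q1.asIdeal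
      rw [ha]
      exact Ideal.pow_mem_of_mem _ hx _ (pow_pos hp.pos n)
    rw [h] at h1
    have h2 : i a ∈ q2.asIdeal := h1
    rw [ha] at h2
    exact q2.2.mem_of_pow_mem _ h2
  have hinj : ∀ q1 q2 : PrimeSpectrum A', PrimeSpectrum.comap i q1 = PrimeSpectrum.comap i q2 →
      q1 = q2 := fun q1 q2 h =>
    PrimeSpectrum.ext (le_antisymm (key q1 q2 h) (key q2 q1 h.symm))
  apply hinj
  rw [← hr]
  have hQr' : PrimeSpectrum.comap j ⟨Q, hQ⟩ = r := PrimeSpectrum.ext hQr
  rw [← hQr', ← PrimeSpectrum.comap_comp_apply, ← PrimeSpectrum.comap_comp_apply, hφ]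

end Groth.Agent.S14260
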