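import Groth.Statements.S14295
import Mathlib.Tactic.Ring
import Mathlib.Tactic.Abel
import Mathlib.Tactic.Module
import Mathlib.Tactic.NormNum

set_option autoImplicit false
universe u v
open PtDeg

namespace Groth.Agent.S14295

/-- Let A and G be abelian groups, written additively, and f : A → G a map which is pointed of degree 2,
that is f(x+y+z) + f(x) + f(y) + f(z) = f(x+y) + f(x+z) + f(y+z) for all x, y, z in A. Then for
every integer n and every x in A one has f(n·x) = (n(n+1)/2)·f(x) + (n(n−1)/2)·f(−x) (the two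
coefficients are the integers n(n+1)/2 and n(n−1)/2). -/
theorem result {A : Type u} {G : Type v} [AddCommGroup A] [AddCommGroup G]
    (f : A → G) (hf : ∀ x y z : A, f (x + y + z) + f x + f y + f z = f (x + y) + f (x + z) + f (y + z))
    (n : ℤ) (x : A) :
    f (n • x) = (n * (n + 1) / 2) • f x + (n * (n - 1) / 2) • f (-x) := by
  have hf0 : f 0 = 0 := by
    have h := hf 0 0 0
    simp only [add_zero] at h
    have h' : (f 0 + f 0 + f 0) + f 0 = (f 0 + f 0 + f 0) + 0 := by
      rw [add_zero]; exact h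
    exact add_left_cancel h'
  obtain ⟨T, hTdef⟩ : ∃ T : ℤ → ℤ, ∀ k, T k = k * (k + 1) / 2 := ⟨_, fun _ => rfl⟩
  have hT : ∀ k : ℤ, T (k + 1) = T k + (k + 1) := by
    intro k
    rw [hTdef, hTdef]
    have : (k + 1) * (k + 1 + 1) = k * (k + 1) + 2 * (k + 1) := by ring
    rw [this, Int.add_mul_ediv_left _ _ (by norm_num : (2:ℤ) ≠ 0)]
  have hT0 : T 0 = 0 := by rw [hTdef]; norm_num
  have hT1 : T 1 = 1 := by rw [hTdef]; norm_num
  have hT' : ∀ k : ℤ, T k = T (k - 1) + k := by
    intro k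
    have := hT (k - 1)
    rwa [sub_add_cancel] at this
  have hTm1 : T (-1) = 0 := by
    have := hT' 0
    rw [hT0] at this
    simpa using this.symm
  obtain ⟨F, hFdef⟩ : ∃ F : ℤ → G, ∀ m, F m = f (m • x) := ⟨_, fun _ => rfl⟩
  obtain ⟨Gf, hGdef⟩ : ∃ Gf : ℤ → G, ∀ m, Gf m = T m • f x + T (m - 1) • f (-x) :=
    ⟨_, fun _ => rfl⟩
  have hrec : ∀ m : ℤ, F (m + 1) + F (m - 1) = F m + F m + f x + f (-x) := by
    intro m
    rw [hFdef, hFdef, hFdef]
    have h := hf (m • x) x (-x)
    rw [add_neg_cancel_right, add_neg_cancel, hf0, add_zero] at h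
    have e1 : (m + 1) • x = m • x + x := by rw [add_zsmul, one_zsmul]
    have e2 : (m - 1) • x = m • x + -x := by rw [sub_zsmul, one_zsmul]
    rw [e1, e2, ← h]
  have hG : ∀ m : ℤ, Gf (m + 1) + Gf (m - 1) = Gf m + Gf m + f x + f (-x) := by
    intro m
    rw [hGdef, hGdef, hGdef]
    have h1 : T (m + 1) = T (m - 1 - 1) + (m - 1) + m + (m + 1) := by
      rw [hT m, hT' m, hT' (m - 1)]
    have h2 : T m = T (m - 1 - 1) + (m - 1) + m := by rw [hT' m, hT' (m - 1)]
    have h3 : T (m - 1) = T (m - 1 - 1) + (m - 1) := hT' (m - 1)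
    have h4 : m + 1 - 1 = m := by ring
    rw [h4, h1, h2, h3]
    module
  have up : ∀ m : ℤ, F m = Gf m → F (m + 1) = Gf (m + 1) → F (m + 1 + 1) = Gf (m + 1 + 1) := by
    intro m h1 h2
    have a1 := hrec (m + 1)
    have a2 := hG (m + 1)
    rw [add_sub_cancel_right] at a1 a2
    have : F (m + 1 + 1) + F m = Gf (m + 1 + 1) + F m := by
      rw [a1, h2, ← a2, h1]
    exact add_right_cancel this
  have down : ∀ m : ℤ, F m = Gf m → F (m + 1) = Gf (m + 1) → F (m - 1) = Gf (m - 1) := by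
    intro m h1 h2
    have a1 := hrec m
    have a2 := hG m
    have : F (m + 1) + F (m - 1) = F (m + 1) + Gf (m - 1) := by
      rw [a1, h1, ← a2, h2]
    exact add_left_cancel this
  have key : ∀ m : ℤ, F m = Gf m ∧ F (m + 1) = Gf (m + 1) := by
    intro m
    refine Int.induction_on m ?_ ?_ ?_
    · constructor
      · simp [hFdef, hGdef, hf0, hT0, hTm1]
      · simp [hFdef, hGdef, hT0, hT1]
    · intro k ih
      exact ⟨ih.2, up _ ih.1 ih.2⟩
    · intro k ih
      refine ⟨down _ ih.1 ih.2, ?_⟩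
      have : (-(k:ℤ) - 1 + 1) = -(k:ℤ) := by ring
      rw [this]; exact ih.1
  have := (key n).1
  rw [hFdef, hGdef, hTdef, hTdef] at this
  rw [this]
  have e : (n - 1) * (n - 1 + 1) = n * (n - 1) := by ring
  rw [e]

end Groth.Agent.S14295
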