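import Groth.Statements.S14294
import Groth.Agent.S14295
import Mathlib.Tactic.Ring
import Mathlib.Tactic.Abel
import Mathlib.Tactic.Module
import Mathlib.Tactic.NormNum

set_option autoImplicit false
universe u v
open PtDeg

namespace Groth.Agent.S14294

/-- Let A and G be abelian groups, written additively, and f : A → G a map which is pointed of degree 2,
that is f(x+y+z) + f(x) + f(y) + f(z) = f(x+y) + f(x+z) + f(y+z) for all x, y, z in A. If an integer
n satisfies n·x = 0 for every x in A, then 2n·f(x) = 0 for every x in A, and if moreover n is odd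
then n·f(x) = 0 for every x in A. -/
theorem result {A : Type u} {G : Type v} [AddCommGroup A] [AddCommGroup G]
    (f : A → G) (hf : ∀ x y z : A, f (x + y + z) + f x + f y + f z = f (x + y) + f (x + z) + f (y + z))
    (n : ℤ) (hn : ∀ x : A, n • x = 0) :
    (∀ x : A, (2 * n) • f x = 0) ∧ (Odd n → ∀ x : A, n • f x = 0) := by
  have hf0 : f 0 = 0 := by
    have h := hf 0 0 0
    simp only [add_zero] at h
    have h' : (f 0 + f 0 + f 0) + f 0 = (f 0 + f 0 + f 0) + 0 := by
      rw [add_zero]; exact h
    exact add_left_cancel h'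
  have hTT : n * (n + 1) / 2 = n * (n - 1) / 2 + n := by
    have : n * (n + 1) = n * (n - 1) + 2 * n := by ring
    rw [this, Int.add_mul_ediv_left _ _ (by norm_num : (2:ℤ) ≠ 0)]
  have hTT2 : (n + 1) * (n + 1 + 1) / 2 = n * (n - 1) / 2 + n + (n + 1) := by
    have : (n + 1) * (n + 1 + 1) = n * (n - 1) + 2 * (n + (n + 1)) := by ring
    rw [this, Int.add_mul_ediv_left _ _ (by norm_num : (2:ℤ) ≠ 0)]; ring
  have hTT3 : (n + 1) * (n + 1 - 1) / 2 = n * (n - 1) / 2 + n := by
    have : (n + 1) * (n + 1 - 1) = n * (n - 1) + 2 * n := by ring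
    rw [this, Int.add_mul_ediv_left _ _ (by norm_num : (2:ℤ) ≠ 0)]
  have main : ∀ x : A, n • f x + n • f (-x) = 0 ∧
      (0 : G) = (n * (n - 1) / 2 + n) • f x + (n * (n - 1) / 2) • f (-x) := by
    intro x
    have E1 := Groth.Agent.S14295.result f hf n x
    rw [hn x, hf0, hTT] at E1
    have E3 := Groth.Agent.S14295.result f hf (n + 1) x
    rw [add_zsmul, hn x, zero_add, one_zsmul, hTT2, hTT3] at E3
    refine ⟨?_, E1⟩
    generalize n * (n - 1) / 2 = t at E1 E3
    have : n • f x + n • f (-x) = ((t + n + (n + 1)) • f x + (t + n) • f (-x)) - f x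
        - ((t + n) • f x + t • f (-x)) := by module
    rw [this, ← E3, ← E1]; simp
  constructor
  · intro x
    obtain ⟨h1, E1⟩ := main x
    obtain ⟨-, E2⟩ := main (-x)
    rw [neg_neg] at E2
    generalize n * (n - 1) / 2 = t at E1 E2
    have : (2 * n) • f x = (n • f x + n • f (-x)) + ((t + n) • f x + t • f (-x))
        - ((t + n) • f (-x) + t • f x) := by module
    rw [this, h1, ← E1, ← E2]; simp
  · rintro ⟨m, rfl⟩ x
    obtain ⟨h1, E1⟩ := main x
    have ht : (2 * m + 1) * (2 * m + 1 - 1) / 2 = (2 * m + 1) * m := by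
      have : (2 * m + 1) * (2 * m + 1 - 1) = 2 * ((2 * m + 1) * m) := by ring
      rw [this, Int.mul_ediv_cancel_left _ (by norm_num : (2:ℤ) ≠ 0)]
    rw [ht] at E1
    have : (2 * m + 1) • f x = (((2 * m + 1) * m + (2 * m + 1)) • f x
        + ((2 * m + 1) * m) • f (-x)) - m • ((2 * m + 1) • f x + (2 * m + 1) • f (-x)) := by
      module
    rw [this, ← E1, h1]; simp

end Groth.Agent.S14294
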