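import Groth.Statements.S14305
import Mathlib.Algebra.BigOperators.Group.Finset.Powerset
import Mathlib.Algebra.Module.Defs
import Mathlib.Tactic.Abel
import Mathlib.Algebra.BigOperators.GroupWithZero.Action
import Mathlib.Algebra.Module.BigOperators
-- import your own Groth.Agent.* helpers here

set_option autoImplicit false
universe u v
open PtDeg

namespace Groth.Agent.S14305

section helpers

variable {A : Type u} {G : Type v} [AddCommGroup A] [AddCommGroup G]

/-- alternating sum over subsets of `s` -/
def T {ι : Type} [DecidableEq ι] (f : A → G) (s : Finset ι) (w : ι → A) (base : A) : G :=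
  ∑ I ∈ s.powerset, ((-1 : ℤ) ^ I.card) • f (base + ∑ i ∈ I, w i)

theorem T_insert {ι : Type} [DecidableEq ι] (f : A → G) (s : Finset ι) (i : ι) (hi : i ∉ s)
    (w : ι → A) (base : A) :
    T f (insert i s) w base = T f s w base - T f s w (base + w i) := by
  unfold T
  rw [Finset.sum_powerset_insert hi, sub_eq_add_neg, ← Finset.sum_neg_distrib]
  congr 1
  apply Finset.sum_congr rfl
  intro I hI
  have hiI : i ∉ I := fun h => hi (Finset.mem_powerset.mp hI h)
  rw [Finset.card_insert_of_notMem hiI, Finset.sum_insert hiI, pow_succ, mul_neg_one, neg_zsmul,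
    add_assoc]

theorem T_congr {ι : Type} [DecidableEq ι] (f : A → G) (s : Finset ι) (w w' : ι → A)
    (h : ∀ i ∈ s, w i = w' i) (base : A) : T f s w base = T f s w' base := by
  unfold T
  apply Finset.sum_congr rfl
  intro I hI
  rw [Finset.sum_congr rfl (fun i hi => h i (Finset.mem_powerset.mp hI hi))]

theorem T_image {ι κ : Type} [DecidableEq ι] [DecidableEq κ] (f : A → G) (e : ι → κ)
    (he : Function.Injective e) (s : Finset ι) (w : κ → A) (base : A) :
    T f (s.image e) w base = T f s (w ∘ e) base := by
  unfold T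
  rw [Finset.powerset_image, Finset.sum_image (fun I _ J _ h => Finset.image_injective he h)]
  apply Finset.sum_congr rfl
  intro I _
  rw [Finset.card_image_of_injective _ he, Finset.sum_image (fun _ _ _ _ h => he h)]
  rfl

theorem dev_eq (f : A → G) (k : ℕ) (x : Fin k → A) :
    ∑ I ∈ ((Finset.univ : Finset (Fin k)).powerset.erase ∅),
        ((-1 : ℤ) ^ (k + I.card)) • f (∑ i ∈ I, x i) =
      ((-1 : ℤ) ^ k) • (T f Finset.univ x 0 - f 0) := by
  have h := Finset.add_sum_erase (Finset.univ : Finset (Fin k)).powerset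
    (fun I => ((-1 : ℤ) ^ I.card) • f (0 + ∑ i ∈ I, x i)) (Finset.empty_mem_powerset _)
  simp only [Finset.card_empty, pow_zero, Finset.sum_empty, add_zero, one_zsmul] at h
  have h' : T f Finset.univ x 0 - f 0 =
      ∑ I ∈ ((Finset.univ : Finset (Fin k)).powerset.erase ∅),
        ((-1 : ℤ) ^ I.card) • f (0 + ∑ i ∈ I, x i) := by
    unfold T
    rw [← h]; abel
  rw [h', Finset.smul_sum]
  apply Finset.sum_congr rfl
  intro I _
  rw [smul_smul, ← pow_add, zero_add]

theorem T_univ_update (f : A → G) (n : ℕ) (j : Fin n) (y : Fin n → A) (c base : A) :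
    T f Finset.univ (Function.update y j c) base =
      T f (Finset.univ.erase j) y base - T f (Finset.univ.erase j) y (base + c) := by
  have huniv : (Finset.univ : Finset (Fin n)) = insert j (Finset.univ.erase j) :=
    (Finset.insert_erase (Finset.mem_univ j)).symm
  have hcongr : ∀ base', T f (Finset.univ.erase j) (Function.update y j c) base' =
      T f (Finset.univ.erase j) y base' := by
    intro base'
    apply T_congr
    intro i hi
    exact Function.update_of_ne (Finset.ne_of_mem_erase hi) _ _
  conv_lhs => rw [huniv]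
  rw [T_insert f _ j (Finset.notMem_erase j _), hcongr, hcongr, Function.update_self]

theorem T_univ_cons (f : A → G) (n : ℕ) (z : Fin n → A) (b base : A) :
    T f Finset.univ (Fin.cons b z : Fin (n + 1) → A) base =
      T f Finset.univ z base - T f Finset.univ z (base + b) := by
  have huniv : (Finset.univ : Finset (Fin (n + 1))) =
      insert 0 ((Finset.univ : Finset (Fin n)).image Fin.succ) := by
    ext i
    simp only [Finset.mem_univ, Finset.mem_insert, Finset.mem_image, true_and, true_iff]
    refine Fin.cases (Or.inl rfl) (fun k => Or.inr ⟨k, rfl⟩) i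
  have h0 : (0 : Fin (n + 1)) ∉ (Finset.univ : Finset (Fin n)).image Fin.succ := by
    simp only [Finset.mem_image, Finset.mem_univ, true_and, not_exists]
    intro k hk
    exact Fin.succ_ne_zero k hk
  have hcomp : ((Fin.cons b z : Fin (n + 1) → A) ∘ Fin.succ) = z := by
    funext k; simp
  rw [huniv, T_insert f _ 0 h0, T_image f Fin.succ (Fin.succ_injective n),
    T_image f Fin.succ (Fin.succ_injective n), hcomp, Fin.cons_zero]

theorem key (f : A → G) (n : ℕ) (j : Fin n) (y : Fin n → A) (a b : A) :
    ∑ I ∈ ((Finset.univ : Finset (Fin (n + 1))).powerset.erase ∅),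
        ((-1 : ℤ) ^ (n + 1 + I.card)) •
          f (∑ i ∈ I, (Fin.cons b (Function.update y j a) : Fin (n + 1) → A) i) =
      ∑ I ∈ ((Finset.univ : Finset (Fin n)).powerset.erase ∅),
          ((-1 : ℤ) ^ (n + I.card)) • f (∑ i ∈ I, (Function.update y j (a + b)) i) -
        ∑ I ∈ ((Finset.univ : Finset (Fin n)).powerset.erase ∅),
          ((-1 : ℤ) ^ (n + I.card)) • f (∑ i ∈ I, (Function.update y j a) i) -
        ∑ I ∈ ((Finset.univ : Finset (Fin n)).powerset.erase ∅),
          ((-1 : ℤ) ^ (n + I.card)) • f (∑ i ∈ I, (Function.update y j b) i) := by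
  rw [dev_eq f (n + 1), dev_eq f n, dev_eq f n, dev_eq f n, T_univ_cons, T_univ_update,
    T_univ_update, T_univ_update, T_univ_update]
  simp only [zero_add]
  rw [pow_succ, mul_neg_one, neg_zsmul, add_comm b a]
  simp only [smul_sub]
  abel

end helpers

/-- Let A and G be abelian groups, written additively, f : A → G a map and n ≥ 1. For k ≥ 0 the k-th
deviation of f is the map A^k → G, (y_1, …, y_k) ↦ Σ_{∅ ≠ I ⊆ {1,…,k}} (−1)^{k+|I|} f(Σ_{i ∈ I}
y_i). Then f is pointed of degree n, meaning that its (n+1)-st deviation vanishes identically, if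
and only if its n-th deviation is additive in each variable separately (with the other variables
fixed). -/
theorem result {A : Type u} {G : Type v} [AddCommGroup A] [AddCommGroup G]
    (f : A → G) (n : ℕ) (hn : 1 ≤ n) :
    (∀ x : Fin (n + 1) → A, ∑ I ∈ ((Finset.univ : Finset (Fin (n + 1))).powerset.erase ∅), ((-1 : ℤ) ^ (n + 1 + I.card)) • f (∑ i ∈ I, x i) = 0) ↔
      (∀ (j : Fin n) (y : Fin n → A) (a b : A),
        ∑ I ∈ ((Finset.univ : Finset (Fin n)).powerset.erase ∅), ((-1 : ℤ) ^ (n + I.card)) • f (∑ i ∈ I, (Function.update y j (a + b)) i) =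
          ∑ I ∈ ((Finset.univ : Finset (Fin n)).powerset.erase ∅), ((-1 : ℤ) ^ (n + I.card)) • f (∑ i ∈ I, (Function.update y j a) i) + ∑ I ∈ ((Finset.univ : Finset (Fin n)).powerset.erase ∅), ((-1 : ℤ) ^ (n + I.card)) • f (∑ i ∈ I, (Function.update y j b) i)) := by
  constructor
  · intro h j y a b
    have hk := key f n j y a b
    rw [h] at hk
    have h2 := hk.symm
    rw [sub_sub, sub_eq_zero] at h2
    exact h2
  · intro h x
    have hn' : 0 < n := hn
    set j : Fin n := ⟨0, hn'⟩ with hj
    have hx : x = (Fin.cons (x 0) (Function.update (Fin.tail x) j (Fin.tail x j)) : Fin (n + 1) → A) := by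
      rw [Function.update_eq_self, Fin.cons_self_tail]
    rw [hx, key f n j (Fin.tail x) (Fin.tail x j) (x 0), h j (Fin.tail x) (Fin.tail x j) (x 0)]
    abel

end Groth.Agent.S14305
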