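import Groth.Statements.S14309
-- import your own Groth.Agent.* helpers here

set_option autoImplicit false
universe u v w x y
open CAlg

namespace Groth.Agent.S14309

/-- Let R be a commutative ring; A, B, C commutative R-algebras; i : A → B and j : A → C jointly
injective R-algebra maps; c a non-zero-divisor of B; u : C → B/(c) a ring map with u ∘ j equal to i
followed by reduction modulo c; ζ in A with i ζ = c and j ζ = 0; η : R[X_σ, Z] → A an R-algebra map
with η(Z) = ζ; a : R[Y_τ] → B a surjective R-algebra map; η_Z : R[X_σ, Z] → R[Y_τ] a surjective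
R-algebra map with a ∘ η_Z = i ∘ η. Fix c̃ in R[Y_τ] with a(c̃) = c, a family (p_h) generating the
kernel of the composite R[X_σ] → R[X_σ, Z] → A → C, a family (q'_h) generating the kernel of a
together with lifts q_h along η_Z, a family (v_h) generating the kernel of η_Z, and elements g'_h of
R[Y_τ] with η_Z(p_h) + g'_h c̃ in the ideal (q'_h), together with lifts g_h along η_Z. Then the
kernel of η is the ideal generated by the elements Z q_h, Z v_h and p_h + Z g_h. (The published
statement is for the rings of cycle classes, with coefficients ℤ[1/6], of a smooth quotient stack, a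
smooth closed substack whose normal bundle has top Chern class c a non-zero-divisor, and the open
complement; this row states the ring-theoretic content for any such square of commutative rings in
which A embeds in B × C.) -/
theorem result
    {R : Type u} [CommRing R] {A : Type v} {B : Type w} {C : Type x}
    [CommRing A] [CommRing B] [CommRing C] [Algebra R A] [Algebra R B] [Algebra R C]
    (i : A →ₐ[R] B) (j : A →ₐ[R] C)
    (hinj : ∀ t : A, i t = 0 → j t = 0 → t = 0)
    (c : B) (hc : c ∈ nonZeroDivisors B) (u : C →+* B ⧸ Ideal.span ({c} : Set B))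
    (hu : ∀ t : A, u (j t) = Ideal.Quotient.mk (Ideal.span ({c} : Set B)) (i t))
    (ζ : A) (hiζ : i ζ = c) (hjζ : j ζ = 0)
    {σ τ ιp ιq ιv : Type y}
    (η : MvPolynomial (Option σ) R →ₐ[R] A) (hη : η (MvPolynomial.X none) = ζ)
    (a : MvPolynomial τ R →ₐ[R] B) (ha : Function.Surjective a)
    (ηZ : MvPolynomial (Option σ) R →ₐ[R] MvPolynomial τ R)
    (hcomm : ∀ t, a (ηZ t) = i (η t)) (hηZ : Function.Surjective ηZ)
    (cZ : MvPolynomial τ R) (hcZ : a cZ = c)
    (p : ιp → MvPolynomial σ R)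
    (hp : Ideal.span (Set.range p) =
      RingHom.ker ((j.comp η).comp (MvPolynomial.rename (Option.some : σ → Option σ))))
    (q' : ιq → MvPolynomial τ R) (hq' : Ideal.span (Set.range q') = RingHom.ker a)
    (q : ιq → MvPolynomial (Option σ) R) (hq : ∀ h, ηZ (q h) = q' h)
    (v : ιv → MvPolynomial (Option σ) R) (hv : Ideal.span (Set.range v) = RingHom.ker ηZ)
    (g' : ιp → MvPolynomial τ R)
    (hg' : ∀ h, ηZ (MvPolynomial.rename (Option.some : σ → Option σ) (p h)) + g' h * cZ ∈
      Ideal.span (Set.range q'))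
    (g : ιp → MvPolynomial (Option σ) R) (hg : ∀ h, ηZ (g h) = g' h) :
    RingHom.ker η = Ideal.span
      (Set.range (fun h : ιq => MvPolynomial.X none * q h) ∪
        Set.range (fun h : ιv => MvPolynomial.X none * v h) ∪
        Set.range (fun h : ιp =>
          MvPolynomial.rename (Option.some : σ → Option σ) (p h) + MvPolynomial.X none * g h)) := by
  classical
  set Z : MvPolynomial (Option σ) R := MvPolynomial.X none with hZ
  set ρ : MvPolynomial σ R →ₐ[R] MvPolynomial (Option σ) R :=
    MvPolynomial.rename (Option.some : σ → Option σ) with hρ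
  set I : Ideal (MvPolynomial (Option σ) R) := Ideal.span
      (Set.range (fun h : ιq => Z * q h) ∪
        Set.range (fun h : ιv => Z * v h) ∪
        Set.range (fun h : ιp => ρ (p h) + Z * g h)) with hI
  have hc0 : ∀ x : B, c * x = 0 → x = 0 := (mem_nonZeroDivisors_iff.mp hc).1
  have hpmem : ∀ h, j (η (ρ (p h))) = 0 := by
    intro h
    have : p h ∈ RingHom.ker ((j.comp η).comp ρ) := by
      rw [← hp]; exact Ideal.subset_span ⟨h, rfl⟩
    exact this
  have haq' : ∀ h, a (q' h) = 0 := by
    intro h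
    have : q' h ∈ RingHom.ker a := by rw [← hq']; exact Ideal.subset_span ⟨h, rfl⟩
    exact this
  have hηZv : ∀ h, ηZ (v h) = 0 := by
    intro h
    have : v h ∈ RingHom.ker ηZ := by rw [← hv]; exact Ideal.subset_span ⟨h, rfl⟩
    exact this
  have hiZ : ∀ G, i (η (Z * G)) = c * a (ηZ G) := by
    intro G
    rw [map_mul, map_mul, hη, hiζ, hcomm]
  have hjZ : ∀ G, j (η (Z * G)) = 0 := by
    intro G
    rw [map_mul, map_mul, hη, hjζ, zero_mul]
  -- Step A
  have hA : I ≤ RingHom.ker η := by
    rw [hI, Ideal.span_le]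
    rintro x ((⟨h, rfl⟩ | ⟨h, rfl⟩) | ⟨h, rfl⟩)
    · show η (Z * q h) = 0
      apply hinj
      · rw [hiZ, hq, haq', mul_zero]
      · exact hjZ _
    · show η (Z * v h) = 0
      apply hinj
      · rw [hiZ, hηZv, map_zero, mul_zero]
      · exact hjZ _
    · show η (ρ (p h) + Z * g h) = 0
      apply hinj
      · rw [map_add, map_add, hiZ, hg, ← hcomm]
        have h1 := hg' h
        rw [hq'] at h1
        have h2 : a (ηZ (ρ (p h)) + g' h * cZ) = 0 := h1
        rw [map_add, map_mul, hcZ] at h2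
        rw [mul_comm]
        exact h2
      · rw [map_add, map_add, hjZ, add_zero]
        exact hpmem h
  -- helper: Z * span ⊆ I
  have hZspan : ∀ {ι : Type y} (S : ι → MvPolynomial (Option σ) R), (∀ h, Z * S h ∈ I) →
      ∀ Q ∈ Ideal.span (Set.range S), Z * Q ∈ I := by
    intro ι S hS Q hQ
    refine Submodule.span_induction (p := fun Q _ => Z * Q ∈ I) ?_ ?_ ?_ ?_ hQ
    · rintro _ ⟨h, rfl⟩; exact hS h
    · rw [mul_zero]; exact I.zero_mem
    · intro x y _ _ hx hy; rw [mul_add]; exact I.add_mem hx hy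
    · intro r x _ hx
      rw [smul_eq_mul, mul_left_comm]
      exact I.mul_mem_left r hx
  apply le_antisymm _ hA
  intro F hF
  have hF0 : η F = 0 := hF
  -- B1 decomposition
  have hdecomp : ∀ F : MvPolynomial (Option σ) R, ∃ P F1, F = ρ P + Z * F1 := by
    intro F
    induction F using MvPolynomial.induction_on with
    | C r => exact ⟨MvPolynomial.C r, 0, by simp [hρ]⟩
    | add f1 f2 h1 h2 =>
      obtain ⟨P1, G1, e1⟩ := h1
      obtain ⟨P2, G2, e2⟩ := h2
      exact ⟨P1 + P2, G1 + G2, by rw [e1, e2, map_add]; ring⟩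
    | mul_X f n hf =>
      obtain ⟨P1, G1, e1⟩ := hf
      cases n with
      | none => exact ⟨0, f, by rw [map_zero, zero_add, mul_comm]⟩
      | some s =>
        refine ⟨P1 * MvPolynomial.X s, G1 * MvPolynomial.X (some s), ?_⟩
        rw [e1, map_mul, hρ, MvPolynomial.rename_X]
        ring
  obtain ⟨P, F1, rfl⟩ := hdecomp F
  -- B2
  have hP : P ∈ Ideal.span (Set.range p) := by
    rw [hp]
    show j (η (ρ P)) = 0
    have := congrArg j hF0
    rw [map_add, map_add, hjZ, add_zero, map_zero] at this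
    exact this
  -- B3
  have hB3 : ∀ P ∈ Ideal.span (Set.range p), ∃ G', ρ P + Z * G' ∈ I := by
    intro P hP
    refine Submodule.span_induction (p := fun P _ => ∃ G', ρ P + Z * G' ∈ I) ?_ ?_ ?_ ?_ hP
    · rintro _ ⟨h, rfl⟩
      exact ⟨g h, Ideal.subset_span (Or.inr ⟨h, rfl⟩)⟩
    · exact ⟨0, by simp⟩
    · rintro x y _ _ ⟨G1, h1⟩ ⟨G2, h2⟩
      refine ⟨G1 + G2, ?_⟩
      have : ρ (x + y) + Z * (G1 + G2) = (ρ x + Z * G1) + (ρ y + Z * G2) := by
        rw [map_add]; ring
      rw [this]
      exact I.add_mem h1 h2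
    · rintro r x _ ⟨G1, h1⟩
      refine ⟨ρ r * G1, ?_⟩
      have : ρ (r • x) + Z * (ρ r * G1) = ρ r * (ρ x + Z * G1) := by
        rw [smul_eq_mul, map_mul]; ring
      rw [this]
      exact I.mul_mem_left _ h1
  obtain ⟨G', hG'⟩ := hB3 P hP
  have hsplit : ρ P + Z * F1 = (ρ P + Z * G') + Z * (F1 - G') := by ring
  rw [hsplit]
  refine I.add_mem hG' ?_
  set G := F1 - G' with hG
  have hZG : η (Z * G) = 0 := by
    have h1 : η (ρ P + Z * G') = 0 := hA hG'
    have h2 : η (ρ P + Z * F1) = 0 := hF0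
    rw [hsplit, map_add, h1, zero_add] at h2
    exact h2
  -- B4
  have haG : a (ηZ G) = 0 := by
    apply hc0
    rw [← hiZ, hZG, map_zero]
  -- B5
  have hB5 : ∀ y ∈ Ideal.span (Set.range q'), ∃ Q ∈ Ideal.span (Set.range q), ηZ Q = y := by
    intro y hy
    refine Submodule.span_induction
      (p := fun y _ => ∃ Q ∈ Ideal.span (Set.range q), ηZ Q = y) ?_ ?_ ?_ ?_ hy
    · rintro _ ⟨h, rfl⟩
      exact ⟨q h, Ideal.subset_span ⟨h, rfl⟩, hq h⟩
    · exact ⟨0, Ideal.zero_mem _, map_zero _⟩
    · rintro x y _ _ ⟨Q1, h1, e1⟩ ⟨Q2, h2, e2⟩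
      exact ⟨Q1 + Q2, Ideal.add_mem _ h1 h2, by rw [map_add, e1, e2]⟩
    · rintro r x _ ⟨Q1, h1, e1⟩
      obtain ⟨S, hS⟩ := hηZ r
      exact ⟨S * Q1, Ideal.mul_mem_left _ _ h1, by rw [map_mul, hS, e1, smul_eq_mul]⟩
  have hker : ηZ G ∈ Ideal.span (Set.range q') := by rw [hq']; exact haG
  obtain ⟨Q, hQ, hQG⟩ := hB5 _ hker
  have hW : G - Q ∈ Ideal.span (Set.range v) := by
    rw [hv]
    show ηZ (G - Q) = 0
    rw [map_sub, hQG, sub_self]
  have hfin : Z * G = Z * Q + Z * (G - Q) := by ring
  rw [hfin]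
  refine I.add_mem ?_ ?_
  · exact hZspan q (fun h => Ideal.subset_span (Or.inl (Or.inl ⟨h, rfl⟩))) Q hQ
  · exact hZspan v (fun h => Ideal.subset_span (Or.inl (Or.inr ⟨h, rfl⟩))) _ hW

end Groth.Agent.S14309
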