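import Groth.Statements.S14336
import Groth.Agent.Lib.FiberRank_helper9
-- import your own Groth.Agent.* helpers here

set_option autoImplicit false
universe u
open CAlg
open TensorProduct

namespace Groth.Agent.S14336

/-- Let B be a Noetherian ring, K and K' finitely generated flat B-modules and φ : K → K' a B-linear
map; for a prime y of B write κ(y) for its residue field and φ_y for the base change κ(y) ⊗ K → κ(y)
⊗ K'. Then the function y ↦ dim_{κ(y)} Im(φ_y) on Spec B is lower semicontinuous. -/
theorem result (B : Type u) [CommRing B] [IsNoetherianRing B] (K K' : Type u) [AddCommGroup K] [Module B K] [Module.Finite B K] [Module.Flat B K] [AddCommGroup K'] [Module B K'] [Module.Finite B K'] [Module.Flat B K'] (φ : K →ₗ[B] K') : LowerSemicontinuous (fun y : PrimeSpectrum B => Module.finrank y.asIdeal.ResidueField ↥(LinearMap.range (φ.baseChange y.asIdeal.ResidueField))) := by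
  intro x b hb
  have h2 := FiberRank9.eventually_fiber_le (A := B) (K' ⧸ LinearMap.range φ) x
  haveI : Module.FinitePresentation B K' := Module.finitePresentation_of_finite B K'
  have hloc : IsLocallyConstant (Module.rankAtStalk (R := B) K') :=
    Module.isLocallyConstant_rankAtStalk
  have h1 : ∀ᶠ y in nhds x, Module.rankAtStalk (R := B) K' y = Module.rankAtStalk (R := B) K' x :=
    hloc.eventually_eq x
  have key : ∀ z : PrimeSpectrum B,
      Module.finrank z.asIdeal.ResidueField
          (LinearMap.range (φ.baseChange z.asIdeal.ResidueField)) +
        Module.finrank z.asIdeal.ResidueField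
          (z.asIdeal.ResidueField ⊗[B] (K' ⧸ LinearMap.range φ)) =
      Module.rankAtStalk (R := B) K' z := by
    intro z
    rw [Module.rankAtStalk_eq]
    exact FiberRank9.finrank_range_baseChange_add z.asIdeal.ResidueField φ
  filter_upwards [h1, h2] with y hy1 hy2
  have e1 := key x
  have e2 := key y
  simp only at hb
  omega

end Groth.Agent.S14336
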