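import Groth.Statements.S14338
import Groth.Agent.Lib.ReducedRank_helper3
-- import your own Groth.Agent.* helpers here

set_option autoImplicit false
universe u
open CAlg
set_option maxSynthPendingDepth 3

namespace Groth.Agent.S14338

/-- Let B be a Noetherian ring, K and K' finitely generated flat B-modules and φ : K → K' a B-linear
map; for a prime y of B write κ(y) for its residue field and φ_y for the base change κ(y) ⊗ K → κ(y)
⊗ K'. Assume B is reduced and the number dim_{κ(y)} Im(φ_y) is the same for all primes y of B. Then
the cokernel K'/Im φ and the image Im φ are projective (locally free) B-modules. -/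
theorem result (B : Type u) [CommRing B] [IsNoetherianRing B] (K K' : Type u) [AddCommGroup K] [Module B K] [Module.Finite B K] [Module.Flat B K] [AddCommGroup K'] [Module B K'] [Module.Finite B K'] [Module.Flat B K'] (φ : K →ₗ[B] K') [IsReduced B] (hconst : ∃ c : ℕ, ∀ y : PrimeSpectrum B, Module.finrank y.asIdeal.ResidueField ↥(LinearMap.range (φ.baseChange y.asIdeal.ResidueField)) = c) : Module.Projective B (K' ⧸ LinearMap.range φ) ∧ Module.Projective B ↥(LinearMap.range φ) := by
  classical
  have hfpK' : Module.FinitePresentation B K' := Module.finitePresentation_of_finite B K'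
  have hprojK' : Module.Projective B K' := Module.Flat.projective_of_finitePresentation
  obtain ⟨c, hc⟩ := hconst
  have hrank : ∀ y : PrimeSpectrum B, Module.finrank y.asIdeal.ResidueField
      (TensorProduct B y.asIdeal.ResidueField (K' ⧸ LinearMap.range φ)) = Module.rankAtStalk K' y - c := by
    intro y
    have hex : Function.Exact (φ.baseChange y.asIdeal.ResidueField)
        ((LinearMap.range φ).mkQ.baseChange y.asIdeal.ResidueField) := by
      rw [LinearMap.baseChange_eq_ltensor, LinearMap.baseChange_eq_ltensor]
      exact lTensor_exact _ (LinearMap.exact_map_mkQ_range φ) (Submodule.mkQ_surjective _)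
    have hsurj : Function.Surjective
        ((LinearMap.range φ).mkQ.baseChange y.asIdeal.ResidueField) := by
      rw [LinearMap.baseChange_eq_ltensor]
      exact LinearMap.lTensor_surjective _ (Submodule.mkQ_surjective _)
    have h1 := LinearMap.finrank_range_add_finrank_ker
      ((LinearMap.range φ).mkQ.baseChange y.asIdeal.ResidueField)
    rw [LinearMap.range_eq_top.mpr hsurj, finrank_top, LinearMap.exact_iff.mp hex, hc y] at h1
    have h2 := Module.rankAtStalk_eq (M := K') y
    rw [h2]
    exact Nat.eq_sub_of_add_eq h1
  have hconstC : IsLocallyConstant (fun y : PrimeSpectrum B =>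
      Module.finrank y.asIdeal.ResidueField
        (TensorProduct B y.asIdeal.ResidueField (K' ⧸ LinearMap.range φ))) := by
    have h3 : (fun y : PrimeSpectrum B => Module.finrank y.asIdeal.ResidueField
        (TensorProduct B y.asIdeal.ResidueField (K' ⧸ LinearMap.range φ))) =
        (fun n : ℕ => n - c) ∘ (Module.rankAtStalk (R := B) K') := by
      funext y
      exact hrank y
    rw [h3]
    exact (Module.isLocallyConstant_rankAtStalk (R := B) (M := K')).comp _
  have hprojC : Module.Projective B (K' ⧸ LinearMap.range φ) :=
    Groth.Agent.Lib.ReducedRankH3.projective_of_isLocallyConstant_fibreRank hconstC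
  refine ⟨hprojC, ?_⟩
  have htfae := (Function.Exact.split_tfae (LinearMap.exact_subtype_mkQ (LinearMap.range φ))
    Subtype.val_injective (Submodule.mkQ_surjective _)).out 0 1
  obtain ⟨l', hl'⟩ := htfae.mp
    (Module.projective_lifting_property _ _ (Submodule.mkQ_surjective _))
  exact Module.Projective.of_split _ _ hl'

end Groth.Agent.S14338
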