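import Groth.Statements.S14351
import Mathlib.RingTheory.Flat.FaithfullyFlat.Algebra

set_option autoImplicit false
universe u
open CAlg

namespace Groth.Agent.S14351

open TensorProduct in
/-- For ring maps A → B → C with C faithfully flat over B and C faithfully flat over A, the ring B is
faithfully flat over A. -/
theorem result (A B C : Type u) [CommRing A] [CommRing B]
    [CommRing C] [Algebra A B] [Algebra B C] [Algebra A C] [IsScalarTower A B C]
    [Module.FaithfullyFlat B C] [Module.FaithfullyFlat A C] : Module.FaithfullyFlat A B := by
  have hflat : Module.Flat A B := by
    rw [Module.Flat.iff_lTensor_preserves_injective_linearMap]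
    intro N N' _ _ _ _ f hf
    -- the B-linear version
    have h1 : Function.Injective (f.baseChange C) :=
      Module.Flat.lTensor_preserves_injective_linearMap (M := C) f hf
    have h2 : Function.Injective ((f.baseChange B).lTensor C) := by
      have e : (AlgebraTensorModule.cancelBaseChange A B B C N').toLinearMap ∘ₗ
          ((f.baseChange B).lTensor C) =
          (f.baseChange C).restrictScalars B ∘ₗ
            (AlgebraTensorModule.cancelBaseChange A B B C N).toLinearMap := by
        ext c n
        simp
      have : Function.Injective ((AlgebraTensorModule.cancelBaseChange A B B C N').toLinearMap ∘ₗ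
          ((f.baseChange B).lTensor C)) := by
        rw [e]
        exact h1.comp (AlgebraTensorModule.cancelBaseChange A B B C N).injective
      rw [LinearMap.coe_comp] at this
      exact Function.Injective.of_comp this
    exact (Module.FaithfullyFlat.lTensor_injective_iff_injective B C (f.baseChange B)).mp h2
  refine Module.FaithfullyFlat.of_comap_surjective ?_
  intro p
  obtain ⟨q, hq⟩ := PrimeSpectrum.comap_surjective_of_faithfullyFlat (A := A) (B := C) p
  refine ⟨PrimeSpectrum.comap (algebraMap B C) q, ?_⟩
  rw [← hq]
  ext x
  simp [IsScalarTower.algebraMap_apply A B C]

end Groth.Agent.S14351
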