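import Groth.Statements.S14358
-- import your own Groth.Agent.* helpers here

set_option autoImplicit false
universe u
open CAlg

namespace Groth.Agent.S14358

/-- Let A be a Noetherian integral domain with fraction field K and let r ∈ K. Then r belongs to A if
and only if, for every nonzero g ∈ A and every associated prime p of the A-module A/(g), the element
r belongs to the local ring A_p inside K, i.e. s r = a in K for some a ∈ A and some s ∈ A outside p. -/
theorem result (A K : Type u)
    [CommRing A] [IsDomain A] [IsNoetherianRing A] [Field K] [Algebra A K] [IsFractionRing A K]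
    (r : K) :
    r ∈ Set.range (algebraMap A K) ↔
      ∀ g : A, g ≠ 0 → ∀ p ∈ associatedPrimes A (A ⧸ Ideal.span {g}),
        ∃ a s : A, s ∉ p ∧ algebraMap A K s * r = algebraMap A K a := by
  constructor
  · rintro ⟨b, rfl⟩ g _ p hp
    have hprime : p.IsPrime := hp.isPrime
    exact ⟨b, 1, fun h => hprime.ne_top ((Ideal.eq_top_iff_one p).mpr h), by simp⟩
  · intro h
    obtain ⟨a, g, hg, rfl⟩ := IsFractionRing.div_surjective (A := A) r
    have hg0 : g ≠ 0 := nonZeroDivisors.ne_zero hg
    have hgK : algebraMap A K g ≠ 0 := by
      simpa using (IsFractionRing.injective A K).ne hg0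
    by_cases ha : a ∈ Ideal.span ({g} : Set A)
    · obtain ⟨b, rfl⟩ := Ideal.mem_span_singleton'.mp ha
      refine ⟨b, ?_⟩
      rw [map_mul, mul_div_assoc, div_self hgK, mul_one]
    · exfalso
      have hne : (Ideal.Quotient.mk (Ideal.span ({g} : Set A)) a) ≠ 0 := by
        rwa [Ne, Ideal.Quotient.eq_zero_iff_mem]
      obtain ⟨P, hP, hle⟩ := exists_le_isAssociatedPrime_of_isNoetherianRing A
        (M := A ⧸ Ideal.span ({g} : Set A)) _ hne
      obtain ⟨a', s, hs, hsr⟩ := h g hg0 P hP
      apply hs
      apply hle
      rw [Submodule.mem_colon_singleton, Submodule.mem_bot]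
      have h1 : algebraMap A K (s * a) = algebraMap A K (a' * g) := by
        rw [map_mul, map_mul, ← hsr]
        rw [mul_assoc, div_mul_cancel₀ _ hgK]
      have h2 : s * a = a' * g := IsFractionRing.injective A K h1
      rw [Algebra.smul_def, Ideal.Quotient.algebraMap_eq, ← map_mul, h2,
        Ideal.Quotient.eq_zero_iff_mem]
      exact Ideal.mem_span_singleton'.mpr ⟨a', rfl⟩

end Groth.Agent.S14358
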