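import Groth.Statements.S14363
-- import your own Groth.Agent.* helpers here

set_option autoImplicit false
universe u
open CAlg

namespace Groth.Agent.S14363

/-- Let A be a Noetherian ring and 0 → M' → M → M'' → 0 a short exact sequence of A-modules. If a prime
p of A is an associated prime of M'' and is not in the support of M', then p is an associated prime
of M. -/
theorem result (A : Type u) [CommRing A] [IsNoetherianRing A]
    (M' M M'' : Type u) [AddCommGroup M'] [Module A M'] [AddCommGroup M] [Module A M]
    [AddCommGroup M''] [Module A M'']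
    (f : M' →ₗ[A] M) (g : M →ₗ[A] M'') (hf : Function.Injective f) (hg : Function.Surjective g)
    (hfg : Function.Exact f g)
    (p : PrimeSpectrum A) (hp : p.asIdeal ∈ associatedPrimes A M'') (hsupp : p ∉ Module.support A M') :
    p.asIdeal ∈ associatedPrimes A M := by
  classical
  obtain ⟨hprime, x'', hx''⟩ := isAssociatedPrime_iff.mp hp
  obtain ⟨x, rfl⟩ := hg x''
  have hmem : ∀ a : A, a ∈ p.asIdeal ↔ a • g x = 0 := by
    intro a
    rw [hx'', Submodule.mem_colon_singleton, Submodule.mem_bot]
  obtain ⟨S, hS⟩ := (isNoetherianRing_iff_ideal_fg A).mp inferInstance p.asIdeal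
  rw [Module.notMem_support_iff'] at hsupp
  -- for each generator pick y and s
  have h1 : ∀ a ∈ S, ∃ s : A, s ∉ p.asIdeal ∧ s • a • x = 0 := by
    intro a ha
    have hap : a ∈ p.asIdeal := hS ▸ Ideal.subset_span ha
    have h2 : g (a • x) = 0 := by rw [map_smul]; exact (hmem a).mp hap
    obtain ⟨y, hy⟩ := (hfg (a • x)).mp h2
    obtain ⟨s, hs, hsy⟩ := hsupp y
    refine ⟨s, hs, ?_⟩
    rw [← hy, ← map_smul, hsy, map_zero]
  choose! sf hsf1 hsf2 using h1
  set s := ∏ a ∈ S, sf a with hs
  have hsp : s ∉ p.asIdeal := by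
    rw [hs]
    intro hmem'
    obtain ⟨a, ha, ha'⟩ := (Ideal.IsPrime.prod_mem_iff (hp := hprime)).mp hmem'
    exact hsf1 a ha ha'
  have hgen : ∀ a ∈ S, a • s • x = 0 := by
    intro a ha
    have : s = (∏ b ∈ S.erase a, sf b) * sf a := by
      rw [hs, Finset.prod_erase_mul _ _ ha]
    rw [this, smul_comm, mul_smul, hsf2 a ha, smul_zero]
  refine isAssociatedPrime_iff.mpr ⟨hprime, s • x, ?_⟩
  ext b
  rw [Submodule.mem_colon_singleton, Submodule.mem_bot]
  constructor
  · intro hb
    rw [← hS] at hb
    refine Submodule.span_induction (p := fun b _ => b • s • x = 0) ?_ ?_ ?_ ?_ hb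
    · intro a ha; exact hgen a ha
    · simp
    · intro a b _ _ ha hb; rw [add_smul, ha, hb, add_zero]
    · intro c a _ ha; rw [smul_eq_mul, mul_smul, ha, smul_zero]
  · intro hb
    have : (b * s) • g x = 0 := by
      rw [← map_smul, mul_smul, hb, map_zero]
    have h3 := (hmem (b * s)).mpr this
    exact (hprime.mem_or_mem h3).resolve_right hsp

end Groth.Agent.S14363
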