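import Groth.Statements.S14371
import Mathlib
import Groth.Agent.Lib.Regular4_helper5

set_option autoImplicit false
universe u
open CAlg

namespace Groth.Agent.S14371

/-- Let R be a regular local ring of dimension n with maximal ideal m and residue field κ, and I, J
ideals of R such that R/I and R/J are regular local rings of dimensions a and b (two subvarieties
smooth at the point). Suppose the quotient R/(I + J) is local with cotangent space m/(m² + I + J) of
dimension a + b − n over κ (the tangent spaces of the two subvarieties meet in the expected
dimension, i.e. they intersect transversally at the point). Then R/(I + J) is a regular local ring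
of dimension a + b − n; in particular I + J is a prime ideal. (The published statement is about the
local rings of a smooth variety over an algebraically closed field at a point where two smooth
closed subvarieties meet transversally, and also states the resulting equalities of tangent spaces
and of ideals; this row is the local-ring form, for an arbitrary regular local ring.) -/
theorem result {R : Type u} [CommRing R] [IsRegularLocalRing R]
    (I J : Ideal R) [IsRegularLocalRing (R ⧸ I)] [IsRegularLocalRing (R ⧸ J)] [IsLocalRing (R ⧸ (I ⊔ J))]
    (n a b : ℕ) (hn : ringKrullDim R = n) (ha : ringKrullDim (R ⧸ I) = a) (hb : ringKrullDim (R ⧸ J) = b)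
    (ht : Module.finrank (IsLocalRing.ResidueField (R ⧸ (I ⊔ J))) (IsLocalRing.CotangentSpace (R ⧸ (I ⊔ J))) + n = a + b) :
    IsRegularLocalRing (R ⧸ (I ⊔ J)) ∧ ringKrullDim (R ⧸ (I ⊔ J)) = ((a + b - n : ℕ) : WithBot ℕ∞) := by
  have hn' : (IsLocalRing.maximalIdeal R).spanFinrank = n := by
    have := Groth.Agent.RegularLib.spanFinrank_eq_dim R
    rw [hn] at this
    exact_mod_cast this
  have ha' : (IsLocalRing.maximalIdeal (R ⧸ I)).spanFinrank = a := by
    have := Groth.Agent.RegularLib.spanFinrank_eq_dim (R ⧸ I)
    rw [ha] at this
    exact_mod_cast this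
  have hb' : (IsLocalRing.maximalIdeal (R ⧸ J)).spanFinrank = b := by
    have := Groth.Agent.RegularLib.spanFinrank_eq_dim (R ⧸ J)
    rw [hb] at this
    exact_mod_cast this
  have he : (IsLocalRing.maximalIdeal (R ⧸ (I ⊔ J))).spanFinrank =
      Module.finrank (IsLocalRing.ResidueField (R ⧸ (I ⊔ J)))
        (IsLocalRing.CotangentSpace (R ⧸ (I ⊔ J))) :=
    IsLocalRing.spanFinrank_maximalIdeal_eq_finrank_cotangentSpace _
  have key : (IsLocalRing.maximalIdeal (R ⧸ (I ⊔ J))).spanFinrank +
      (IsLocalRing.maximalIdeal R).spanFinrank =
      (IsLocalRing.maximalIdeal (R ⧸ I)).spanFinrank +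
        (IsLocalRing.maximalIdeal (R ⧸ J)).spanFinrank := by
    rw [hn', ha', hb', he]; exact ht
  have hreg := Groth.Agent.RegularLib.transversal R I J key
  refine ⟨hreg, ?_⟩
  have h2 := Groth.Agent.RegularLib.spanFinrank_eq_dim (R ⧸ (I ⊔ J))
  rw [← h2]
  have : (IsLocalRing.maximalIdeal (R ⧸ (I ⊔ J))).spanFinrank = a + b - n := by omega
  rw [this]

end Groth.Agent.S14371
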