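import Groth.Statements.S14385
import Groth.Agent.Lib.EtaFin_helper3
import Groth.Agent.S14384
-- import your own Groth.Agent.* helpers here

set_option autoImplicit false
open scoped TensorProduct

open AlgebraicGeometry
universe u
open CAlg

namespace Groth.Agent.S14385

/-- Let V be a discrete valuation ring of characteristic zero with uniformizer ϖ, whose residue field k
is perfect of characteristic p > 0, with fraction field K; let R be a flat V-algebra of finite type
such that the generic fibre Spec(K ⊗_V R) → Spec K is smooth of relative dimension d; and suppose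
some d-tuple x' of elements of R defines a morphism f' from Spec R to affine d-space over V which is
η-étale, meaning that for some a ∈ R with (a) + (ϖ) = R the localisation R[1/(aϖ)] is étale over
V[T_1, …, T_d] via T_i ↦ x'_i (f' is étale on the generic fibre of an open neighbourhood of the
closed fibre). Then there is a d-tuple x in R whose morphism f is η-étale in the same sense and
finite on each fibre: k ⊗_V R is finite over k[T_1, …, T_d] and K ⊗_V R is finite over K[T_1, …,
T_d] via T_i ↦ 1 ⊗ x_i. -/
theorem result (V : Type u) [CommRing V] [IsDomain V] [IsDiscreteValuationRing V] [CharZero V]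
    (ϖ : V) (hϖ : Irreducible ϖ) (p : ℕ) [Fact p.Prime] [CharP (IsLocalRing.ResidueField V) p]
    [PerfectField (IsLocalRing.ResidueField V)]
    (R : Type u) [CommRing R] [Algebra V R] [Module.Flat V R] [Algebra.FiniteType V R] (d : ℕ)
    (hsm : SmoothOfRelativeDimension d
      (Spec.map (CommRingCat.ofHom (algebraMap (FractionRing V) (FractionRing V ⊗[V] R)))))
    (x' : Fin d → R) (hx' : (∃ a : R, Ideal.span {a} ⊔ Ideal.span {algebraMap V R ϖ} = ⊤ ∧
        ((algebraMap R (Localization.Away (a * algebraMap V R ϖ))).comp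
          (MvPolynomial.aeval x' : MvPolynomial (Fin d) V →ₐ[V] R).toRingHom).Etale)) :
    ∃ x : Fin d → R, (∃ a : R, Ideal.span {a} ⊔ Ideal.span {algebraMap V R ϖ} = ⊤ ∧
        ((algebraMap R (Localization.Away (a * algebraMap V R ϖ))).comp
          (MvPolynomial.aeval x : MvPolynomial (Fin d) V →ₐ[V] R).toRingHom).Etale) ∧
      (MvPolynomial.aeval (fun i => (1 : IsLocalRing.ResidueField V) ⊗ₜ[V] x i) :
          MvPolynomial (Fin d) (IsLocalRing.ResidueField V) →ₐ[IsLocalRing.ResidueField V]
            IsLocalRing.ResidueField V ⊗[V] R).toRingHom.Finite ∧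
      (MvPolynomial.aeval (fun i => (1 : FractionRing V) ⊗ₜ[V] x i) :
          MvPolynomial (Fin d) (FractionRing V) →ₐ[FractionRing V] FractionRing V ⊗[V] R).toRingHom.Finite := by
  classical
  have hpV : (p : V) ≠ 0 := Nat.cast_ne_zero.mpr (Fact.out : p.Prime).ne_zero
  have hpϖ : ϖ ∣ (p : V) := by
    have h0 : IsLocalRing.residue V (p : V) = 0 := by
      rw [map_natCast]
      exact CharP.cast_eq_zero _ p
    have h1 : (p : V) ∈ IsLocalRing.maximalIdeal V := (IsLocalRing.residue_eq_zero_iff _).mp h0
    rw [hϖ.maximalIdeal_eq] at h1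
    exact Ideal.mem_span_singleton.mp h1
  obtain ⟨n, hn⟩ := Groth.Agent.Lib.EtaFinH3.forward V R ϖ p hpϖ x' hx'
  have hR' := (HasRingHomProperty.Spec_iff (P := @SmoothOfRelativeDimension d)).mp hsm
  have hη : ringKrullDim (FractionRing V ⊗[V] R) ≤ d :=
    Groth.Agent.Lib.EtaFinH3.ringKrullDim_le_of_locally (FractionRing V) _ d hR'
  have hN : 1 ≤ p ^ (n + 1) := Nat.one_le_pow _ _ (Fact.out : p.Prime).pos
  obtain ⟨y, hy, hk, hK⟩ := Groth.Agent.Lib.RelNoetherH3.main R d hη x' (p ^ (n + 1)) hN
  have hn2 := Groth.Agent.S14384.result V ϖ hϖ p R d n x' hn y hy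
  refine ⟨fun i => x' i + y i, ?_, hk, hK⟩
  exact Groth.Agent.Lib.EtaFinH3.backward V R ϖ hϖ p hpV hR' _ n hn2

end Groth.Agent.S14385
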