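import Groth.Statements.S14397
-- import your own Groth.Agent.* helpers here

set_option autoImplicit false
universe u
open DualGr

namespace Groth.Agent.S14397

/-- Let (V, E) with endpoint map E → V × V be a finite multigraph (loops and parallel edges allowed; the
order of the two endpoints is an auxiliary orientation), and let D_1, …, D_n be finite sets of edges
such that every edge lies outside at least one D_i. For each i let Γ_i be the multigraph obtained by
contracting the edges of D_i, and let H₁(Γ, ℤ) → H₁(Γ_i, ℤ) be the map of cycle lattices (integer
edge vectors with zero boundary) given by restriction to the surviving edges. Then the map H₁(Γ, ℤ)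
→ ⊕_i H₁(Γ_i, ℤ) has torsion-free cokernel. (The published statement is about the connected labelled
dual graph of the closed fibre of a nodal curve, smooth outside a normal crossing divisor with
components D_1, …, D_n, over a Noetherian regular strictly local base; Γ_i is the dual graph of the
fibre over the generic point of D_i, the lattices are identified with the character groups of the
toric parts of the Picard schemes of these fibres, and the map is the generization map of character
groups; this row states the assertion about cycle lattices, for any finite multigraph, which is what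
the argument establishes.) -/
theorem result
    {V E : Type u} [Fintype V] [Fintype E] [DecidableEq V] [DecidableEq E]
    (ends : E → V × V) {n : ℕ} (D : Fin n → Finset E) (hcover : ∀ e : E, ∃ i : Fin n, e ∉ D i) :
    IsAddTorsionFree (((i : Fin n) → ↥(DualGr.cycleLattice (DualGr.ctrEnds ends (D i)))) ⧸
      LinearMap.range (LinearMap.pi fun i : Fin n => DualGr.genMap ends (D i))) := by
  classical
  constructor
  intro m hm a a' haa'
  have hsub : m • (a - a') = 0 := by
    have : m • a = m • a' := haa'
    rw [smul_sub, this, sub_self]
  suffices h : a - a' = 0 from sub_eq_zero.mp h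
  obtain ⟨c, hc⟩ := Submodule.Quotient.mk_surjective _ (a - a')
  rw [← hc] at hsub ⊢
  rw [← Submodule.Quotient.mk_smul, Submodule.Quotient.mk_eq_zero] at hsub
  rw [Submodule.Quotient.mk_eq_zero]
  obtain ⟨γ, hγ⟩ := hsub
  -- pointwise relation
  have hpt : ∀ (i : Fin n) (e : E) (he : e ∉ D i), γ.1 e = (m : ℤ) * (c i).1 ⟨e, he⟩ := by
    intro i e he
    have h1 := congrFun hγ i
    have h2 : (DualGr.genMap ends (D i) γ).1 ⟨e, he⟩ = (m • c i).1 ⟨e, he⟩ := by
      have : (LinearMap.pi (fun i : Fin n => DualGr.genMap ends (D i)) γ) i = (m • c) i := h1
      rw [LinearMap.pi_apply, Pi.smul_apply] at this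
      rw [this]
    simpa [DualGr.genMap, DualGr.resE] using h2
  choose idx hidx using hcover
  let γ' : E → ℤ := fun e => (c (idx e)).1 ⟨e, hidx e⟩
  have hγγ' : γ.1 = (m : ℤ) • γ' := by
    funext e
    simp only [Pi.smul_apply, smul_eq_mul, γ']
    exact hpt (idx e) e (hidx e)
  have hm' : (m : ℤ) ≠ 0 := by exact_mod_cast hm
  have hγ'mem : γ' ∈ DualGr.cycleLattice ends := by
    have h0 : DualGr.boundaryHom ends γ.1 = 0 := γ.2
    rw [hγγ', map_smul] at h0
    show DualGr.boundaryHom ends γ' = 0
    funext x
    have := congrFun h0 x
    simp only [Pi.smul_apply, smul_eq_mul, Pi.zero_apply, mul_eq_zero] at this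
    exact this.resolve_left hm'
  refine ⟨⟨γ', hγ'mem⟩, ?_⟩
  funext i
  rw [LinearMap.pi_apply]
  apply Subtype.ext
  funext e
  have h1 := hpt i e.1 e.2
  rw [hγγ'] at h1
  simp only [Pi.smul_apply, smul_eq_mul] at h1
  have h2 := mul_left_cancel₀ hm' h1
  simpa [DualGr.genMap, DualGr.resE] using h2

end Groth.Agent.S14397
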