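import Groth.Statements.S14404
import Groth.Agent.Lib.FlatFibDim_helper8
import Groth.Agent.Lib.IrrDim_helper8
import Groth.Agent.Lib.ResTower_helper8
import Groth.Agent.Lib.ResQuot2_helper8

set_option autoImplicit false
universe u
open CategoryTheory AlgebraicGeometry
open FlatMor

namespace Groth.Agent.S14404

/-- Let k be a field, X and Y irreducible schemes of finite type over k and f : X ⟶ Y a flat k-morphism.
Then dim Y ≤ dim X, and for every point y of Y every irreducible component Z of the scheme-theoretic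
fibre of f over y has dim Z + dim Y = dim X; that is, every non-empty fibre has all its irreducible
components of dimension dim X − dim Y. -/
theorem result (k : Type u) [Field k]
    {X Y : Scheme.{u}} (qX : X ⟶ Spec (CommRingCat.of k)) (qY : Y ⟶ Spec (CommRingCat.of k))
    [LocallyOfFiniteType qX] [QuasiCompact qX] [LocallyOfFiniteType qY] [QuasiCompact qY]
    [IrreducibleSpace X] [IrreducibleSpace Y] (f : X ⟶ Y) (hf : f ≫ qY = qX) [Flat f] :
    topologicalKrullDim Y ≤ topologicalKrullDim X ∧
      ∀ (y : Y), ∀ Z ∈ irreducibleComponents (f.fiber y : Type u),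
        topologicalKrullDim Z + topologicalKrullDim Y = topologicalKrullDim X := by
  classical
  letI ovX : X.Over (Spec (CommRingCat.of k)) := ⟨qX⟩
  letI ovY : Y.Over (Spec (CommRingCat.of k)) := ⟨qY⟩
  haveI : LocallyOfFiniteType (X ↘ Spec (CommRingCat.of k)) := ‹LocallyOfFiniteType qX›
  haveI : LocallyOfFiniteType (Y ↘ Spec (CommRingCat.of k)) := ‹LocallyOfFiniteType qY›
  have hf' : f ≫ (Y ↘ Spec (CommRingCat.of k)) = (X ↘ Spec (CommRingCat.of k)) := hf
  haveI : LocallyOfFiniteType (f ≫ qY) := by rw [hf]; infer_instance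
  haveI : LocallyOfFiniteType f := locallyOfFiniteType_of_comp f qY
  haveI : IsLocallyNoetherian Y := LocallyOfFiniteType.isLocallyNoetherian qY
  set ξ : X := genericPoint X with hξdef
  have hξ : ∀ x' : X, ξ ⤳ x' := fun x' => genericPoint_specializes x'
  set η : Y := genericPoint Y with hηdef
  have hη : ∀ y' : Y, η ⤳ y' := fun y' => genericPoint_specializes y'
  have core : ∀ (y : Y), ∀ Z ∈ irreducibleComponents (f.fiber y : Type u),
      ∃ n dY dX : ℕ, topologicalKrullDim Z = n ∧ topologicalKrullDim Y = dY ∧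
        topologicalKrullDim X = dX ∧ n + dY = dX := by
    intro y T hT
    obtain ⟨z₀, hTeq, hmax, hdim⟩ :=
      Groth.Agent.FlatFibDimH8.exists_generic_of_mem_irreducibleComponents (f.fiber y) T hT
    set x := (f.fiberι y).base z₀ with hx
    have hfx : f.base x = y := Groth.Agent.FibRes2H8.fiberι_mem f y z₀
    obtain ⟨n, hn⟩ := Groth.Agent.ResQuot2H8.exists_trdeg_nat f x
    have hht := Groth.Agent.FlatFibDimH8.height_fiber_eq f x y hfx z₀ rfl n hn
    have h0 : ringKrullDim ((f.fiber (f.base x)).presheaf.stalk (f.asFiber x)) = 0 := by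
      rw [← Groth.Agent.FibChainH8.stalk_dim_fiber_eq f x y hfx z₀ rfl,
        AlgebraicGeometry.ringKrullDim_stalk_eq_coheight, Order.coheight_eq_zero.mpr hmax]
      rfl
    have hflat := Groth.Agent.FlatFibDimH8.flat_stalk_dim_eq f x h0
    obtain ⟨a, r, ha, hr, hdX⟩ := Groth.Agent.IrrDimH8.irr_dim k X ξ hξ x
    obtain ⟨a', r', ha', hr', hdY⟩ := Groth.Agent.IrrDimH8.irr_dim k Y η hη (f.base x)
    have haa : a = a' := by
      rw [ha, ha'] at hflat
      exact_mod_cast hflat
    have htower := Groth.Agent.ResTowerH8.trdeg_tower k f hf' x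
    rw [hr, hr', hn] at htower
    have hrr : r' + n = r := by exact_mod_cast htower
    refine ⟨n, a' + r', a + r, ?_, hdY, hdX, by omega⟩
    rw [hdim, hht]
    rfl
  constructor
  · obtain ⟨n, dY, dX, -, hdY, hdX, hsum⟩ := core (f.base ξ)
      (irreducibleComponent (f.asFiber ξ)) (irreducibleComponent_mem_irreducibleComponents _)
    rw [hdY, hdX]
    have : dY ≤ dX := by omega
    exact_mod_cast this
  · intro y T hT
    obtain ⟨n, dY, dX, hn, hdY, hdX, hsum⟩ := core y T hT
    rw [hn, hdY, hdX]
    exact_mod_cast hsum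

end Groth.Agent.S14404
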