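import Groth.Statements.S14405
import Mathlib.Algebra.Polynomial.Degree.Lemmas
import Mathlib.Algebra.Polynomial.Monic
import Mathlib.Algebra.Polynomial.Coeff
import Mathlib.Tactic.Linarith
import Mathlib.Tactic.FieldSimp
import Mathlib.Tactic.Positivity
import Mathlib.Tactic.LinearCombination
import Mathlib.Tactic.Ring
import Mathlib.Algebra.Order.Field.Basic
import Mathlib.Algebra.Order.Field.Rat
import Mathlib.Data.Nat.Choose.Basic

set_option autoImplicit false
open Polynomial
open HilbNum

namespace Groth.Agent.S14405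

/-- the difference polynomial `X^(n+1) - (X-1)^(n+1)` -/
noncomputable def D (n : ℕ) : ℚ[X] := X ^ (n + 1) - (X - C 1) ^ (n + 1)

lemma D_eval (n : ℕ) (x : ℚ) : (D n).eval x = x ^ (n + 1) - (x - 1) ^ (n + 1) := by
  simp [D]

lemma D_natDegree_le (n : ℕ) : (D n).natDegree ≤ n := by
  have h1 : (X ^ (n + 1) : ℚ[X]).degree = ((X - C 1) ^ (n + 1) : ℚ[X]).degree := by
    rw [degree_X_pow, degree_pow, degree_X_sub_C]
    simp
  have h2 : (X ^ (n + 1) : ℚ[X]) ≠ 0 := pow_ne_zero _ X_ne_zero
  have h3 : (X ^ (n + 1) : ℚ[X]).leadingCoeff = ((X - C 1) ^ (n + 1) : ℚ[X]).leadingCoeff := by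
    rw [(monic_X_pow (n + 1)).leadingCoeff, ((monic_X_sub_C (1 : ℚ)).pow (n + 1)).leadingCoeff]
  have h4 := degree_sub_lt_left h1 h2 h3
  rw [degree_X_pow] at h4
  have h5 : (D n).degree < ((n + 1 : ℕ) : WithBot ℕ) := h4
  by_cases h0 : D n = 0
  · rw [h0]; simp
  · have := (natDegree_lt_iff_degree_lt h0).2 h5
    omega

lemma D_coeff (n : ℕ) : (D n).coeff n = (n : ℚ) + 1 := by
  have hx : (X - C 1 : ℚ[X]) = X + C (-1) := by
    rw [map_neg, sub_eq_add_neg]
  rw [D, coeff_sub, coeff_X_pow, hx, coeff_X_add_C_pow]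
  have : n + 1 - n = 1 := by omega
  rw [if_neg (by omega), this, Nat.choose_succ_self_right]
  push_cast
  ring

lemma D_natDegree (n : ℕ) : (D n).natDegree = n := by
  apply natDegree_eq_of_le_of_coeff_ne_zero (D_natDegree_le n)
  rw [D_coeff]
  positivity

lemma D_leadingCoeff (n : ℕ) : (D n).leadingCoeff = (n : ℚ) + 1 := by
  rw [leadingCoeff, D_natDegree, D_coeff]

lemma D_ne_zero (n : ℕ) : D n ≠ 0 := by
  intro h
  have := D_coeff n
  rw [h, coeff_zero] at this
  have h2 : (0 : ℚ) < (n : ℚ) + 1 := by positivity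
  linarith

theorem main : ∀ (d : ℕ) (φ : ℤ → ℚ) (Q : ℚ[X]), Q ≠ 0 → Q.natDegree = d →
    (∀ m : ℤ, φ m - φ (m - 1) = Q.eval (m : ℚ)) →
    ∃ P : ℚ[X], P.natDegree = d + 1 ∧ ∀ m : ℤ, φ m = P.eval (m : ℚ) := by
  intro d
  induction d using Nat.strong_induction_on with
  | _ d ih =>
    intro φ Q hQ hd h
    set a := Q.leadingCoeff with ha
    have ha0 : a ≠ 0 := leadingCoeff_ne_zero.2 hQ
    have hd1 : ((d : ℚ) + 1) ≠ 0 := by positivity
    set c : ℚ := a / ((d : ℚ) + 1) with hc
    have hc0 : c ≠ 0 := div_ne_zero ha0 hd1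
    set R : ℚ[X] := C c * X ^ (d + 1) with hR
    have hRdeg : R.natDegree = d + 1 := natDegree_C_mul_X_pow _ _ hc0
    set Q₁ : ℚ[X] := Q - C c * D d with hQ₁
    set φ₁ : ℤ → ℚ := fun m => φ m - R.eval (m : ℚ) with hφ₁
    have hφ₁Q₁ : ∀ m : ℤ, φ₁ m - φ₁ (m - 1) = Q₁.eval (m : ℚ) := by
      intro m
      simp only [hφ₁, hQ₁, hR, eval_sub, eval_mul, eval_C, eval_pow, eval_X, D_eval]
      have := h m
      push_cast
      linear_combination this
    by_cases hQ₁0 : Q₁ = 0
    · -- φ₁ is constant
      have hconst : ∀ m : ℤ, φ₁ m = φ₁ 0 := by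
        have hstep : ∀ m : ℤ, φ₁ m = φ₁ (m - 1) := by
          intro m
          have := hφ₁Q₁ m
          rw [hQ₁0, eval_zero, sub_eq_zero] at this
          exact this
        intro m
        induction m using Int.induction_on with
        | zero => rfl
        | succ i hi =>
          rw [hstep, ← hi]
          congr 1
          ring
        | pred i hi =>
          rw [← hi, hstep (-(i : ℤ))]
      refine ⟨R + C (φ₁ 0), ?_, ?_⟩
      · rw [natDegree_add_C, hRdeg]
      · intro m
        have := hconst m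
        simp only [hφ₁] at this
        rw [eval_add, eval_C]
        linarith
    · -- induction
      have hdeg : Q₁.degree < Q.degree := by
        apply degree_sub_lt_left
        · rw [degree_C_mul hc0, degree_eq_natDegree hQ, degree_eq_natDegree (D_ne_zero d), hd,
            D_natDegree]
        · exact hQ
        · rw [leadingCoeff_mul, leadingCoeff_C, D_leadingCoeff, hc]
          field_simp
          first | rfl | exact ha.symm
      have hlt : Q₁.natDegree < d := by
        rw [← hd]
        exact natDegree_lt_natDegree hQ₁0 hdeg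
      obtain ⟨P₁, hP₁, hP₁'⟩ := ih Q₁.natDegree hlt φ₁ Q₁ hQ₁0 rfl hφ₁Q₁
      refine ⟨P₁ + R, ?_, ?_⟩
      · rw [natDegree_add_eq_right_of_natDegree_lt (by rw [hP₁, hRdeg]; omega), hRdeg]
      · intro m
        have := hP₁' m
        simp only [hφ₁] at this
        rw [eval_add]
        linarith


/-- Let φ be a function from the integers to the rationals and Q a nonzero polynomial with rational
coefficients of degree d such that φ(m) - φ(m-1) = Q(m) for every integer m. Then there is a
polynomial P with rational coefficients, of degree d + 1, such that φ(m) = P(m) for every integer m.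
(The explicit form of P in the binomial basis is not part of this statement.) -/
theorem result (φ : ℤ → ℚ) (d : ℕ) (Q : ℚ[X]) (hQ : Q ≠ 0)
    (hd : Q.natDegree = d) (h : ∀ m : ℤ, φ m - φ (m - 1) = Q.eval (m : ℚ)) :
    ∃ P : ℚ[X], P.natDegree = d + 1 ∧ ∀ m : ℤ, φ m = P.eval (m : ℚ) := by
  exact main d φ Q hQ hd h

end Groth.Agent.S14405
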