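import Groth.Statements.S14416
import Mathlib.LinearAlgebra.TensorProduct.Quotient
import Mathlib.RingTheory.Nakayama
import Mathlib.LinearAlgebra.FiniteDimensional.Lemmas
import Mathlib.RingTheory.Ideal.Maximal
import Mathlib.LinearAlgebra.Dimension.Constructions
import Mathlib.RingTheory.TensorProduct.Finite

set_option autoImplicit false
universe u
open scoped TensorProduct
open CAlg

namespace Groth.Agent.S14416

open scoped TensorProduct in
/-- For a maximal ideal `m`, if `1 ⊗ x = 0` in `κ(m) ⊗ A` then `x ∈ m A`. -/
lemma mem_smul_top_of_tmul_eq_zero {B A : Type u} [CommRing B] [CommRing A] [Algebra B A]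
    (m : Ideal B) [m.IsMaximal] (x : A)
    (hx : (1 : m.ResidueField) ⊗ₜ[B] x = 0) : x ∈ (m • ⊤ : Submodule B A) := by
  let eκ : (B ⧸ m) ≃ₗ[B] m.ResidueField :=
    LinearEquiv.ofBijective (IsScalarTower.toAlgHom B (B ⧸ m) m.ResidueField).toLinearMap
      m.bijective_algebraMap_quotient_residueField
  have heκ1 : eκ 1 = 1 := map_one (IsScalarTower.toAlgHom B (B ⧸ m) m.ResidueField)
  let E := TensorProduct.congr eκ (LinearEquiv.refl B A)
  have h1 : E ((1 : B ⧸ m) ⊗ₜ[B] x) = 0 := by
    rw [TensorProduct.congr_tmul, heκ1]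
    exact hx
  have h2 : ((1 : B ⧸ m) ⊗ₜ[B] x) = 0 := by
    have := E.injective (h1.trans (map_zero E).symm)
    exact this
  have h3 := congr_arg (TensorProduct.quotTensorEquivQuotSMul A m) h2
  rw [TensorProduct.quotTensorEquivQuotSMul_mk_one_tmul, map_zero,
    Submodule.Quotient.mk_eq_zero] at h3
  exact h3

open scoped TensorProduct in
/-- if the fibre at a maximal ideal has dimension `≤ 1`, every element of `A` is congruent to an
element of `B` modulo `m A`. -/
lemma exists_sub_mem {B A : Type u} [CommRing B] [CommRing A] [Algebra B A] [Module.Finite B A]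
    (m : Ideal B) [m.IsMaximal]
    (h : Module.finrank m.ResidueField (m.ResidueField ⊗[B] A) ≤ 1) (x : A) :
    ∃ b : B, x - algebraMap B A b ∈ (m • ⊤ : Submodule B A) := by
  -- every element of the fibre is a multiple of `1 ⊗ 1`
  have key : ∀ t : m.ResidueField ⊗[B] A, ∃ c : m.ResidueField,
      c • ((1 : m.ResidueField) ⊗ₜ[B] (1 : A)) = t := by
    rcases Nat.lt_or_ge (Module.finrank m.ResidueField (m.ResidueField ⊗[B] A)) 1 with h0 | h1
    · have h0' : Module.finrank m.ResidueField (m.ResidueField ⊗[B] A) = 0 := by omega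
      have hsub : Subsingleton (m.ResidueField ⊗[B] A) :=
        Module.finrank_zero_iff.1 h0'
      intro t
      exact ⟨0, Subsingleton.elim _ _⟩
    · have h1' : Module.finrank m.ResidueField (m.ResidueField ⊗[B] A) = 1 := le_antisymm h h1
      have hnt : Nontrivial (m.ResidueField ⊗[B] A) :=
        Module.nontrivial_of_finrank_pos (R := m.ResidueField) (by omega)
      have hne : ((1 : m.ResidueField) ⊗ₜ[B] (1 : A)) ≠ 0 := by
        rw [← Algebra.TensorProduct.one_def]
        exact one_ne_zero
      exact (finrank_eq_one_iff_of_nonzero' _ hne).1 h1'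
  obtain ⟨c, hc⟩ := key ((1 : m.ResidueField) ⊗ₜ[B] x)
  obtain ⟨b, rfl⟩ := m.algebraMap_residueField_surjective c
  refine ⟨b, mem_smul_top_of_tmul_eq_zero m _ ?_⟩
  rw [TensorProduct.tmul_sub, ← hc, TensorProduct.smul_tmul', smul_eq_mul, mul_one,
    Algebra.algebraMap_eq_smul_one b, Algebra.algebraMap_eq_smul_one b, TensorProduct.smul_tmul,
    sub_self]


/-- Let B → A be a ring map with A a finitely generated B-module such that for every prime ideal p of B
the fibre κ(p) ⊗_B A has dimension at most one over the residue field κ(p). Then B → A is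
surjective. In scheme language: a finite morphism whose degree at every point of the target is 0 or
1 is a closed immersion. (The published statement assumes the two schemes Noetherian; that
hypothesis plays no role and is dropped here.) -/
theorem result
    (B A : Type u) [CommRing B] [CommRing A] [Algebra B A] [Module.Finite B A]
    (h : ∀ p : PrimeSpectrum B,
      Module.finrank p.asIdeal.ResidueField (p.asIdeal.ResidueField ⊗[B] A) ≤ 1) :
    Function.Surjective (algebraMap B A) := by
  classical
  let N : Submodule B A := LinearMap.range (Algebra.linearMap B A)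
  suffices hN : N = ⊤ by
    intro x
    have : x ∈ N := by rw [hN]; trivial
    obtain ⟨b, hb⟩ := this
    exact ⟨b, hb⟩
  by_contra hne
  -- the quotient `Q = A / N`
  have hQfg : (⊤ : Submodule B (A ⧸ N)).FG := Module.finite_def.1 inferInstance
  -- the annihilator of `Q` is proper
  have hann : (⊤ : Submodule B (A ⧸ N)).annihilator ≠ ⊤ := by
    intro htop
    apply hne
    have h1 : (1 : B) ∈ (⊤ : Submodule B (A ⧸ N)).annihilator := by rw [htop]; trivial
    rw [Submodule.mem_annihilator] at h1
    rw [eq_top_iff]
    intro x _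
    have := h1 (Submodule.Quotient.mk x) trivial
    rw [one_smul, Submodule.Quotient.mk_eq_zero] at this
    exact this
  obtain ⟨m, hm, hle⟩ := Ideal.exists_le_maximal _ hann
  have hmQ : (⊤ : Submodule B (A ⧸ N)) ≤ m • ⊤ := by
    intro q _
    obtain ⟨x, rfl⟩ := Submodule.Quotient.mk_surjective N q
    obtain ⟨b, hb⟩ := exists_sub_mem m (h ⟨m, hm.isPrime⟩) x
    have hx : (Submodule.Quotient.mk x : A ⧸ N) = Submodule.Quotient.mk (x - algebraMap B A b) := by
      rw [Submodule.Quotient.mk_sub]
      have : (Submodule.Quotient.mk (algebraMap B A b) : A ⧸ N) = 0 := by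
        rw [Submodule.Quotient.mk_eq_zero]
        exact ⟨b, rfl⟩
      rw [this, sub_zero]
    rw [hx]
    -- image of `m • ⊤` under the quotient map lies in `m • ⊤`
    have : (m • ⊤ : Submodule B A).map N.mkQ ≤ m • ⊤ := by
      rw [Submodule.map_smul'']
      exact Submodule.smul_mono le_rfl le_top
    exact this ⟨_, hb, rfl⟩
  obtain ⟨r, hr1, hr0⟩ :=
    Submodule.exists_sub_one_mem_and_smul_eq_zero_of_fg_of_le_smul m ⊤ hQfg hmQ
  have hrann : r ∈ (⊤ : Submodule B (A ⧸ N)).annihilator := by
    rw [Submodule.mem_annihilator]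
    exact hr0
  have hrm : r ∈ m := hle hrann
  have : (1 : B) ∈ m := by
    have := m.sub_mem hrm hr1
    simpa using this
  exact hm.ne_top ((Ideal.eq_top_iff_one m).2 this)

end Groth.Agent.S14416
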