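import Groth.Statements.S14420
import Mathlib
import Groth.Agent.Lib.DepthChain_helper5
import Groth.Agent.Lib.DepthFinite_helper5
import Groth.Agent.S5150

set_option autoImplicit false
universe u
open CategoryTheory
open LocCoh

namespace Groth.Agent.S14420

/-- Let A be a Noetherian local ring and M, N nonzero finitely generated A-modules. Then Ext^i_A(N, M) =
0 for all i < depth M − dim Supp N. Here depth M = d and the Krull dimension of the support of N = r
are given as natural numbers and the conclusion is stated for every i with i + r < d. -/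
theorem result (A : Type u) [CommRing A] [IsNoetherianRing A]
    [IsLocalRing A] (M N : Type u) [AddCommGroup M] [Module A M] [AddCommGroup N] [Module A N]
    [Module.Finite A M] [Module.Finite A N] [Nontrivial M] [Nontrivial N]
    (d r i : ℕ) (hd : LocCoh.depth A M = d) (hr : Module.supportDim A N = r) (hi : i + r < d) :
    Subsingleton (Abelian.Ext (ModuleCat.of A N) (ModuleCat.of A M) i) := by
  classical
  set J : Ideal A := Module.annihilator A N with hJdef
  have hJtop : J ≠ ⊤ := by
    intro h
    have h1 : (1 : A) ∈ Module.annihilator A N := by rw [← hJdef, h]; trivial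
    obtain ⟨x, hx⟩ := exists_ne (0 : N)
    apply hx
    have h2 := Module.mem_annihilator.1 h1 x
    rwa [one_smul] at h2
  have hJm : J ≤ IsLocalRing.maximalIdeal A := IsLocalRing.le_maximalIdeal hJtop
  have hdimN : ringKrullDim (A ⧸ J) = (r : WithBot ℕ∞) := by
    rw [← hr, Module.supportDim_eq_ringKrullDim_quotient_annihilator]
  have h1 := Groth.Agent.DepthLib.depth_le_idealDepth_add_dim A M J hJtop
  rw [hd, hdimN] at h1
  have h2 : ((d : ℕ) : ℕ∞) ≤ LocCoh.idealDepth J M + (r : ℕ∞) := by
    have h3 : ((LocCoh.idealDepth J M : ℕ∞) : WithBot ℕ∞) + ((r : ℕ) : WithBot ℕ∞) =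
        ((LocCoh.idealDepth J M + (r : ℕ∞) : ℕ∞) : WithBot ℕ∞) := rfl
    rw [h3] at h1
    exact WithBot.coe_le_coe.1 h1
  have h4 : ((i + 1 : ℕ) : ℕ∞) ≤ LocCoh.idealDepth J M := by
    by_cases htop : LocCoh.idealDepth J M = ⊤
    · rw [htop]
      exact le_top
    · obtain ⟨k, hk⟩ := ENat.ne_top_iff_exists.1 htop
      rw [← hk] at h2 ⊢
      have h5 : d ≤ k + r := by exact_mod_cast h2
      have h6 : i + 1 ≤ k := by omega
      exact_mod_cast h6
  rw [Groth.Agent.DepthLib.le_idealDepth_iff] at h4
  rcases h4 with h | ⟨rs, hreg, hmem, hlen⟩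
  · exfalso
    haveI := Groth.Agent.DepthLib.subsingleton_of_smul_top_eq_top' A J hJm M h
    exact not_subsingleton M inferInstance
  · refine Groth.Agent.S5150.result A J M N rs hreg hmem 1 ?_ i (by omega)
    rw [pow_one, eq_bot_iff]
    intro x hx
    refine Submodule.smul_induction_on hx ?_ ?_
    · intro a ha y _
      rw [Submodule.mem_bot]
      exact Module.mem_annihilator.1 ha y
    · intro x y hx hy
      exact Submodule.add_mem _ hx hy

end Groth.Agent.S14420
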