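import Groth.Statements.S14421
import Mathlib.CategoryTheory.Abelian.Refinements
import Mathlib.Algebra.Homology.ShortComplex.ExactFunctor

set_option autoImplicit false
universe u v
open CategoryTheory
open HomAlg

namespace Groth.Agent.S14421

section

variable {C : Type*} [Category C] [Abelian C]

lemma epi_homologyMap_iff (K J : CochainComplex C ℤ) (φ : K ⟶ J) (p : ℤ) [Epi (φ.f (p - 1))] :
    Epi (HomologicalComplex.homologyMap φ p) ↔ Epi (HomologicalComplex.cyclesMap φ p) := by
  constructor
  · intro h
    rw [epi_iff_surjective_up_to_refinements]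
    intro A a
    have h1 : Epi (K.homologyπ p ≫ HomologicalComplex.homologyMap φ p) := epi_comp _ _
    obtain ⟨A₁, p₁, hp₁, w, hw⟩ := surjective_up_to_refinements_of_epi
      (K.homologyπ p ≫ HomologicalComplex.homologyMap φ p) (a ≫ J.homologyπ p)
    rw [HomologicalComplex.homologyπ_naturality] at hw
    have hz : (p₁ ≫ a - w ≫ HomologicalComplex.cyclesMap φ p) ≫ J.homologyπ p = 0 := by
      rw [Preadditive.sub_comp, Category.assoc, Category.assoc, hw, sub_self]
    have hex : (ShortComplex.mk (J.toCycles (p - 1) p) (J.homologyπ p)
        (J.toCycles_comp_homologyπ (p - 1) p)).Exact :=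
      ShortComplex.exact_of_g_is_cokernel _ (J.homologyIsCokernel (p - 1) p (by simp))
    obtain ⟨A₂, p₂, hp₂, y, hy⟩ := hex.exact_up_to_refinements _ hz
    obtain ⟨A₃, p₃, hp₃, x, hx⟩ := surjective_up_to_refinements_of_epi (φ.f (p - 1)) y
    refine ⟨A₃, p₃ ≫ p₂ ≫ p₁, epi_comp _ _, p₃ ≫ p₂ ≫ w + x ≫ K.toCycles (p - 1) p, ?_⟩
    have hnat : K.toCycles (p - 1) p ≫ HomologicalComplex.cyclesMap φ p =
        φ.f (p - 1) ≫ J.toCycles (p - 1) p := by
      rw [← cancel_mono (J.iCycles p)]
      simp
    dsimp at hy
    rw [Preadditive.add_comp, Category.assoc x, hnat, ← Category.assoc x, ← hx, Category.assoc p₃ y,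
      ← hy, Preadditive.comp_sub, Preadditive.comp_sub]
    simp only [Category.assoc]
    abel
  · intro h
    have h1 : Epi (HomologicalComplex.cyclesMap φ p ≫ J.homologyπ p) := epi_comp _ _
    rw [← HomologicalComplex.homologyπ_naturality] at h1
    exact epi_of_epi (K.homologyπ p) _

end


/-- Let φ : K → J be a morphism of cochain complexes of modules over a ring which is surjective in
degree p − 1. Then the map induced on cohomology in degree p is surjective if and only if the map
induced on cocycles in degree p is surjective. (Stated for cochain complexes indexed by the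
integers; the published statement is for three-term complexes in degrees p − 1, p, p + 1, which
embed as such complexes.) -/
theorem result {R : Type u} [Ring R]
    (K J : CochainComplex (ModuleCat.{v} R) ℤ) (φ : K ⟶ J) (p : ℤ) [Epi (φ.f (p - 1))] :
    Epi (HomologicalComplex.homologyMap φ p) ↔ Epi (HomologicalComplex.cyclesMap φ p) := by
  exact epi_homologyMap_iff K J φ p

end Groth.Agent.S14421
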