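import Groth.Statements.S14424
import Mathlib
import Groth.Agent.Lib.DepthRefl_helper5

set_option autoImplicit false
universe u
open LocCoh

namespace Groth.Agent.S14424

/-- Let R be a Noetherian ring. Then R is Cohen–Macaulay (every localization at a prime ideal is a
Cohen–Macaulay local ring) if and only if for every proper ideal a of R the a-depth of R equals the
height (codimension) of a. (The published statement defines a Cohen–Macaulay ring by its
localizations at maximal ideals; this row uses all prime ideals, an equivalent definition because
Cohen–Macaulayness passes to localizations.) -/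
theorem result (R : Type u) [CommRing R] [IsNoetherianRing R] :
    LocCoh.IsCohenMacaulayRing R ↔ ∀ a : Ideal R, a ≠ ⊤ → LocCoh.idealDepth a R = a.height := by
  classical
  constructor
  · intro hCM a ha
    rw [Groth.Agent.DepthLib.idealDepth_eq_iInf a R]
    have hp : ∀ p : PrimeSpectrum R,
        LocCoh.depth (Localization.AtPrime p.asIdeal) (LocalizedModule p.asIdeal.primeCompl R) =
          p.asIdeal.height := by
      intro p
      haveI := hCM.isCohenMacaulayLocalRing_localization p.asIdeal
      have h1 := LocCoh.IsCohenMacaulayLocalRing.supportDim_eq_depth
        (R := Localization.AtPrime p.asIdeal)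
      rw [Module.supportDim_self_eq_ringKrullDim,
        IsLocalization.AtPrime.ringKrullDim_eq_height p.asIdeal] at h1
      rw [Groth.Agent.DepthLib.depth_locSelf]
      exact (WithBot.coe_injective h1).symm
    simp_rw [hp]
    apply le_antisymm
    · rw [Ideal.height_eq_inf_minimalPrimes]
      refine le_iInf₂ fun J hJ => ?_
      exact iInf₂_le_of_le (⟨J, hJ.1.1⟩ : PrimeSpectrum R) hJ.1.2 le_rfl
    · exact le_iInf₂ fun p hpa => Ideal.height_mono hpa
  · intro h
    refine @LocCoh.IsCohenMacaulayRing.mk _ _ inferInstance ?_
    intro p hp
    refine @LocCoh.IsCohenMacaulayLocalRing.mk _ _ inferInstance inferInstance ?_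
    rw [Module.supportDim_self_eq_ringKrullDim, IsLocalization.AtPrime.ringKrullDim_eq_height p]
    have h1 := h p hp.ne_top
    have h2 := Groth.Agent.DepthLib.idealDepth_le_depth_localization p R p le_rfl
    rw [h1, Groth.Agent.DepthLib.depth_locSelf] at h2
    have h3 := Groth.Agent.DepthLib.depth_le_supportDim (Localization.AtPrime p)
      (Localization.AtPrime p)
    rw [Module.supportDim_self_eq_ringKrullDim, IsLocalization.AtPrime.ringKrullDim_eq_height p]
      at h3
    exact le_antisymm (WithBot.coe_le_coe.2 h2) h3

end Groth.Agent.S14424
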