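import Groth.Statements.S14430
import Mathlib
import Groth.Agent.Lib.KRRRes6_helper9
import Groth.Agent.Lib.ResProp_lead
import Groth.Agent.Lib.Tens18_helper8
import Groth.Agent.Lib.Snap20_helper9
import Groth.Agent.Lib.K0Proj2_helper9
import Groth.Agent.Lib.FibCodim2_helper4

set_option autoImplicit false
universe u
open CategoryTheory CategoryTheory.Limits AlgebraicGeometry
open KZero

namespace Groth.Agent.S14430

/-- Let k be an algebraically closed field and X a smooth quasi-projective variety over k — here a
k-scheme smooth over k admitting an immersion into some P^N_k over k. Write K^0(X) for the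
Grothendieck group of finite locally free O_X-modules and K_0(X) for that of coherent O_X-modules
(K_0 of the corresponding full subcategories of O_X-modules, with relations from short exact
sequences all of whose terms lie in the subcategory). Then there is a homomorphism K^0(X) → K_0(X)
sending the class of each finite locally free E to its class as a coherent module (the canonical
one, determined by this), and it is bijective. (The published statement is for smooth
quasi-projective varieties; this row takes a k-scheme smooth over k with an immersion into some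
P^N_k, reduced since smooth; irreducibility is not assumed.) -/
theorem result (k : Type u) [Field k] [IsAlgClosed k] (N : ℕ)
    (X : Scheme.{u}) [X.Over (Spec (CommRingCat.of k))] [Smooth (X ↘ Spec (CommRingCat.of k))]
    (ι : X ⟶ CohB1.ProjSpace N k) [IsImmersion ι] (hι : ι ≫ CohB1.ProjSpace.toSpec N k = X ↘ Spec (CommRingCat.of k)) :
    ∃ α : KZero.K0sub (fun M : X.Modules => FlatMod.IsFinLocFree M) →+ KZero.K0sub (fun M : X.Modules => Coh.IsCoh M),
      (∀ E : X.Modules, FlatMod.IsFinLocFree E →
        α (KZero.clSub (fun M : X.Modules => FlatMod.IsFinLocFree M) E) = KZero.clSub (fun M : X.Modules => Coh.IsCoh M) E) ∧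
      Function.Bijective α := by
  haveI hNoethP : IsNoetherian (CohB1.ProjSpace N k) := Groth.Agent.K0Proj.isNoeth N k
  haveI : IsLocallyNoetherian X :=
    LocallyOfFiniteType.isLocallyNoetherian (X ↘ Spec (CommRingCat.of k))
  have hemb : Topology.IsEmbedding ι := ι.isEmbedding
  haveI : TopologicalSpace.NoetherianSpace X := hemb.isInducing.noetherianSpace
  haveI : CompactSpace X := inferInstance
  haveI : IsNoetherian X := {}
  have hL : CohB1.IsAmple ((Scheme.Modules.pullback ι).obj (Twist.twistProjSpace N k 1)) :=
    TensH8.isAmple_pullback_of_isEmbedding ι hemb (Snap9.isAmple_twist_one_projSpace k N)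
  have hres := Groth.Agent.Lib.ResPropL.hasResolutionProperty_of_isAmple _ hL
  have hX : KRR.HasEnoughLocFree X := fun F hF => hres F hF.1 hF.2
  have hreg : ∀ x : X, IsRegularLocalRing (X.presheaf.stalk x) := fun x =>
    Groth.Agent.Lib.FibCodim2H4.stalk_regular_of_smooth_field (CommRingCat.of k)
      (Field.toIsField k) (X ↘ Spec (CommRingCat.of k)) x
  have h : ∀ M : X.Modules, FlatMod.IsFinLocFree M → Coh.IsCoh M :=
    fun M hM => Groth.Agent.KRRRes.isCoh_of_vb hM
  refine ⟨SGA6.mapSub (𝟭 X.Modules) (KRR.vbP X) (fun M : X.Modules => Coh.IsCoh M) h, ?_,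
    Groth.Agent.KRRRes.main3746 X hreg hX h⟩
  intro E hE
  exact Groth.Agent.KRRRes.mapSub_clSub (𝟭 X.Modules) (KRR.vbP X)
    (fun M : X.Modules => Coh.IsCoh M) h E hE

end Groth.Agent.S14430
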