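import Groth.Statements.S14436
import Mathlib

set_option autoImplicit false
universe u
open CAlg

namespace Groth.Agent.S14436

/-- Let L/K be a finitely generated field extension which is separable in the sense that it has a
transcendence basis a_1, …, a_n over which L is a (finite) separable extension of K(a_1, …, a_n).
Then dim_L Ω_{L/K} = n, the transcendence degree of L over K. -/
theorem result (K L : Type u) [Field K] [Field L] [Algebra K L]
    (hfg : ∃ s : Finset L, IntermediateField.adjoin K (s : Set L) = ⊤)
    (n : ℕ) (a : Fin n → L) (ha : IsTranscendenceBasis K a)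
    (hsep : Algebra.IsSeparable ↥(IntermediateField.adjoin K (Set.range a)) L) :
    Module.finrank L (Ω[L⁄K]) = n := by
  classical
  have haF : ∀ i, a i ∈ IntermediateField.adjoin K (Set.range a) :=
    fun i => IntermediateField.subset_adjoin K _ ⟨i, rfl⟩
  let ψ : MvPolynomial (Fin n) K →ₐ[K] ↥(IntermediateField.adjoin K (Set.range a)) :=
    MvPolynomial.aeval (fun i => (⟨a i, haF i⟩ : ↥(IntermediateField.adjoin K (Set.range a))))
  let φ : MvPolynomial (Fin n) K →ₐ[K] L := MvPolynomial.aeval a
  letI algPF : Algebra (MvPolynomial (Fin n) K) ↥(IntermediateField.adjoin K (Set.range a)) :=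
    ψ.toRingHom.toAlgebra
  letI algPL : Algebra (MvPolynomial (Fin n) K) L := φ.toRingHom.toAlgebra
  haveI : IsScalarTower K (MvPolynomial (Fin n) K) ↥(IntermediateField.adjoin K (Set.range a)) :=
    IsScalarTower.of_algebraMap_eq' (ψ.comp_algebraMap).symm
  haveI : IsScalarTower K (MvPolynomial (Fin n) K) L :=
    IsScalarTower.of_algebraMap_eq' (φ.comp_algebraMap).symm
  have hφψ : ∀ x : MvPolynomial (Fin n) K,
      algebraMap ↥(IntermediateField.adjoin K (Set.range a)) L (ψ x) = φ x := by
    intro x
    have h1 : (IsScalarTower.toAlgHom K ↥(IntermediateField.adjoin K (Set.range a)) L).comp ψ = φ := by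
      apply MvPolynomial.algHom_ext
      intro i
      simp [ψ, φ]
    exact DFunLike.congr_fun h1 x
  haveI : IsScalarTower (MvPolynomial (Fin n) K) ↥(IntermediateField.adjoin K (Set.range a)) L :=
    IsScalarTower.of_algebraMap_eq (fun x => (hφψ x).symm)
  have hinj : Function.Injective φ := ha.1
  have hψinj : Function.Injective ψ := by
    intro x y h
    apply hinj
    rw [← hφψ, ← hφψ, h]
  haveI : FaithfulSMul (MvPolynomial (Fin n) K) ↥(IntermediateField.adjoin K (Set.range a)) :=
    (faithfulSMul_iff_algebraMap_injective _ _).mpr hψinj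
  haveI : IsFractionRing (MvPolynomial (Fin n) K) ↥(IntermediateField.adjoin K (Set.range a)) := by
    refine IsFractionRing.of_field _ _ fun z => ?_
    obtain ⟨r, s, hrs⟩ := (IntermediateField.mem_adjoin_range_iff K a z.1).mp z.2
    refine ⟨r, s, ?_⟩
    apply Subtype.ext
    show (z : L) = ((ψ r / ψ s : ↥(IntermediateField.adjoin K (Set.range a))) : L)
    rw [hrs, IntermediateField.coe_div]
    congr 1
    · exact (hφψ r).symm
    · exact (hφψ s).symm
  haveI : Algebra.FormallyEtale (MvPolynomial (Fin n) K)
      ↥(IntermediateField.adjoin K (Set.range a)) :=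
    Algebra.FormallyEtale.of_isLocalization (nonZeroDivisors (MvPolynomial (Fin n) K))
  haveI := hsep
  haveI : Algebra.FormallyEtale ↥(IntermediateField.adjoin K (Set.range a)) L :=
    Algebra.FormallyEtale.of_isSeparable _ L
  haveI : Algebra.FormallyEtale (MvPolynomial (Fin n) K) L :=
    Algebra.FormallyEtale.comp (MvPolynomial (Fin n) K) ↥(IntermediateField.adjoin K (Set.range a)) L
  haveI : Module.Free (MvPolynomial (Fin n) K) (Ω[MvPolynomial (Fin n) K⁄K]) :=
    Module.Free.of_basis (KaehlerDifferential.mvPolynomialBasis K (Fin n))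
  have e := KaehlerDifferential.tensorKaehlerEquivOfFormallyEtale K (MvPolynomial (Fin n) K) L
  rw [← e.finrank_eq, Module.finrank_baseChange,
    Module.finrank_eq_card_basis (KaehlerDifferential.mvPolynomialBasis K (Fin n))]
  simp

end Groth.Agent.S14436
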