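import Groth.Statements.S14442

set_option autoImplicit false
universe u
open GrNak

namespace Groth.Agent.S14442

/-- Let R be a commutative ℕ-graded ring with irrelevant ideal R_+ = ⊕_{i>0} R_i, M an ℕ-graded R-module
and N a graded submodule of M (closed under taking homogeneous components). If M = R_+ M + N then N
= M. (The published statement is for finitely generated ℤ-graded modules over a graded quotient of a
polynomial ring, whose degrees are then bounded below; stated here for non-negatively graded modules
over any ℕ-graded commutative ring, where the same lowest-degree argument applies without finite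
generation.) -/
theorem result {R : Type u} [CommRing R] {σ : Type u} [SetLike σ R] [AddSubmonoidClass σ R]
    (𝒜 : ℕ → σ) [GradedRing 𝒜]
    {M : Type u} [AddCommGroup M] [Module R M] {τ : Type u} [SetLike τ M] [AddSubmonoidClass τ M]
    (ℳ : ℕ → τ) [DirectSum.Decomposition ℳ] [SetLike.GradedSMul 𝒜 ℳ]
    (N : Submodule R M) (hN : ∀ x ∈ N, ∀ i : ℕ, (DirectSum.decompose ℳ x i : M) ∈ N)
    (h : (HomogeneousIdeal.irrelevant 𝒜).toIdeal • (⊤ : Submodule R M) ⊔ N = ⊤) :
    N = ⊤ := by
  classical
  -- the additive projection onto the `i`-th homogeneous component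
  let π : ℕ → (M →+ M) := fun i =>
    (AddSubmonoidClass.subtype (ℳ i)).comp
      ((DFinsupp.evalAddMonoidHom i).comp (DirectSum.decomposeAddEquiv ℳ).toAddMonoidHom)
  have hπ : ∀ i x, π i x = ((DirectSum.decompose ℳ x i : ℳ i) : M) := fun i x => rfl
  have key : ∀ i : ℕ, ∀ x : M, x ∈ ℳ i → x ∈ N := by
    intro i
    induction i using Nat.strong_induction_on with
    | _ i ih =>
      intro x hx
      have step : ∀ (a : ℕ), 1 ≤ a → ∀ r ∈ 𝒜 a, ∀ m : M, π i (r • m) ∈ N := by
        intro a ha r hr m
        induction m using DirectSum.Decomposition.inductionOn ℳ with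
        | zero => simp
        | @homogeneous b m' =>
          have hmem : r • (m' : M) ∈ ℳ (a + b) := SetLike.GradedSMul.smul_mem hr m'.2
          rw [hπ]
          by_cases hab : a + b = i
          · subst hab
            rw [DirectSum.decompose_of_mem_same ℳ hmem]
            exact N.smul_mem r (ih b (by omega) _ m'.2)
          · rw [DirectSum.decompose_of_mem_ne ℳ hmem hab]
            exact N.zero_mem
        | add m m' h h' =>
          rw [smul_add, map_add]
          exact N.add_mem h h'
      have step2 : ∀ r ∈ (HomogeneousIdeal.irrelevant 𝒜).toIdeal, ∀ m : M, π i (r • m) ∈ N := by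
        intro r hr m
        have hr0 : ((DirectSum.decompose 𝒜 r 0 : 𝒜 0) : R) = 0 := hr
        rw [← DirectSum.sum_support_decompose 𝒜 r, Finset.sum_smul, map_sum]
        refine N.sum_mem (fun a _ => ?_)
        by_cases ha : a = 0
        · subst ha
          rw [hr0, zero_smul, map_zero]
          exact N.zero_mem
        · exact step a (by omega) _ (SetLike.coe_mem _) m
      have hx' : x ∈ (HomogeneousIdeal.irrelevant 𝒜).toIdeal • (⊤ : Submodule R M) ⊔ N := by
        rw [h]; trivial
      obtain ⟨y, hy, z, hz, rfl⟩ := Submodule.mem_sup.1 hx'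
      have hπx : π i (y + z) = y + z := by
        rw [hπ, DirectSum.decompose_of_mem_same ℳ hx]
      rw [← hπx, map_add]
      refine N.add_mem ?_ ?_
      · refine Submodule.smul_induction_on hy (fun r hr n _ => step2 r hr n) (fun a b ha hb => ?_)
        rw [map_add]
        exact N.add_mem ha hb
      · rw [hπ]
        exact hN z hz i
  rw [eq_top_iff]
  intro x _
  rw [← DirectSum.sum_support_decompose ℳ x]
  exact N.sum_mem (fun i _ => key i _ (SetLike.coe_mem _))

end Groth.Agent.S14442
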