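import Groth.Statements.S14447
import Mathlib.CategoryTheory.Limits.Types.Products
import Mathlib.CategoryTheory.Limits.Preserves.Shapes.BinaryProducts
import Mathlib.CategoryTheory.Limits.Preserves.Shapes.Terminal
import Mathlib.CategoryTheory.Limits.Constructions.FiniteProductsOfBinaryProducts

set_option autoImplicit false
universe w v u
open AlgGrp

namespace Groth.Agent.S14447

section

open CategoryTheory CategoryTheory.Limits

variable {C : Type u} [Category.{v} C] [HasFiniteProducts C] [HasCoproducts.{w} C]

/-- the discrete object functor -/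
noncomputable abbrev Fd : Type w ⥤ C := sigmaConst.{w}.obj (⊤_ C)

lemma ι_map {I J : Type w} (f : I ⟶ J) (i : I) :
    Sigma.ι (fun _ : I => ⊤_ C) i ≫ (Fd (C := C)).map f = Sigma.ι (fun _ : J => ⊤_ C) (f i) := by
  dsimp [Fd, sigmaConst]
  rw [Sigma.ι_comp_map']
  simp

/-- `∐_{I × J} pt ⟶ ∐_I ∐_J pt` -/
noncomputable def fwd (I J : Type w) :
    (∐ fun _ : I × J => ⊤_ C) ⟶ ∐ fun _ : I => (∐ fun _ : J => ⊤_ C) :=
  Sigma.desc (fun p : I × J => Sigma.ι (fun _ : J => ⊤_ C) p.2 ≫
    Sigma.ι (fun _ : I => ∐ fun _ : J => ⊤_ C) p.1)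

noncomputable def bwd (I J : Type w) :
    (∐ fun _ : I => (∐ fun _ : J => ⊤_ C)) ⟶ ∐ fun _ : I × J => ⊤_ C :=
  Sigma.desc (fun i => Sigma.desc (fun j => Sigma.ι (fun _ : I × J => ⊤_ C) (i, j)))

lemma fwd_bwd (I J : Type w) : fwd (C := C) I J ≫ bwd I J = 𝟙 _ := by
  apply Sigma.hom_ext
  intro p
  simp [fwd, bwd]

lemma bwd_fwd (I J : Type w) : bwd (C := C) I J ≫ fwd I J = 𝟙 _ := by
  apply Sigma.hom_ext
  intro i
  apply Sigma.hom_ext
  intro j
  simp [fwd, bwd]

instance (I J : Type w) : IsIso (fwd (C := C) I J) :=
  ⟨⟨bwd I J, fwd_bwd I J, bwd_fwd I J⟩⟩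

end


open CategoryTheory CategoryTheory.Limits in
/-- Let C be a category with finite products and with all coproducts indexed by sets, and assume that
for every set I and every object U the canonical arrow ∐_{i∈I} U → (∐_{i∈I} pt) × U, whose i-th
component pairs U → pt → ∐_{i∈I} pt (i-th coprojection) with the identity of U, is an isomorphism.
Then the discrete-object functor from sets to C, I ↦ ∐_{i∈I} pt, preserves finite products. (Sets
are the types of one fixed universe, the one indexing the coproducts. The published statement asks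
only for the coproducts of copies of one object; this row assumes that C has all coproducts indexed
by sets, which Mathlib's discrete-object functor sigmaConst requires.) -/
theorem result {C : Type u} [Category.{v} C]
    [HasFiniteProducts C] [HasCoproducts.{w} C]
    (h : ∀ (I : Type w) (U : C), IsIso (Sigma.desc fun i : I =>
      prod.lift (terminal.from U ≫ Sigma.ι (fun _ : I => ⊤_ C) i) (𝟙 U))) :
    PreservesFiniteProducts (sigmaConst.{w}.obj (⊤_ C)) := by
  -- terminal object
  have hterm : PreservesLimit (Functor.empty.{0} (Type w)) (Fd (C := C)) := by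
    apply preservesLimit_of_preserves_limit_cone (Types.terminalLimitCone.{w}.isLimit)
    refine isLimitChangeEmptyCone C terminalIsTerminal _ ?_
    exact (coproductUniqueIso (fun _ : PUnit.{w + 1} => ⊤_ C)).symm
  have hterm' : PreservesLimitsOfShape (Discrete.{0} PEmpty) (Fd (C := C)) :=
    preservesLimitsOfShape_pempty_of_preservesTerminal _
  -- binary products
  have hbin : ∀ I J : Type w, PreservesLimit (pair I J) (Fd (C := C)) := by
    intro I J
    apply preservesLimit_of_preserves_limit_cone (Types.binaryProductLimit I J)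
    refine (isLimitMapConeBinaryFanEquiv (Fd (C := C)) _ _).symm ?_
    set t : BinaryFan ((Fd (C := C)).obj I) ((Fd (C := C)).obj J) :=
      BinaryFan.mk ((Fd (C := C)).map (TypeCat.ofHom (Prod.fst : I × J → I)))
        ((Fd (C := C)).map (TypeCat.ofHom (Prod.snd : I × J → J))) with ht
    set θ := (Sigma.desc fun i : I =>
      prod.lift (terminal.from (∐ fun _ : J => ⊤_ C) ≫ Sigma.ι (fun _ : I => ⊤_ C) i)
        (𝟙 (∐ fun _ : J => ⊤_ C))) with hθ
    have hθiso : IsIso θ := h I (∐ fun _ : J => ⊤_ C)
    have key : (prodIsProd ((Fd (C := C)).obj I) ((Fd (C := C)).obj J)).lift t = fwd I J ≫ θ := by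
      apply prod.hom_ext
      · have h1 := (prodIsProd ((Fd (C := C)).obj I) ((Fd (C := C)).obj J)).fac t ⟨WalkingPair.left⟩
        have h1' : (prodIsProd ((Fd (C := C)).obj I) ((Fd (C := C)).obj J)).lift t ≫ prod.fst =
            (Fd (C := C)).map (TypeCat.ofHom (Prod.fst : I × J → I)) := h1
        rw [h1']
        apply Sigma.hom_ext
        intro p
        rw [ι_map]
        simp only [fwd, hθ, Category.assoc, colimit.ι_desc_assoc, Cofan.mk_ι_app]
        have : Sigma.ι (fun _ : J => ⊤_ C) p.2 ≫ terminal.from (∐ fun _ : J => ⊤_ C) = 𝟙 _ :=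
          Subsingleton.elim _ _
        erw [prod.lift_fst]
        rw [← Category.assoc, this]
        erw [Category.id_comp]
        rfl
      · have h1 := (prodIsProd ((Fd (C := C)).obj I) ((Fd (C := C)).obj J)).fac t ⟨WalkingPair.right⟩
        have h1' : (prodIsProd ((Fd (C := C)).obj I) ((Fd (C := C)).obj J)).lift t ≫ prod.snd =
            (Fd (C := C)).map (TypeCat.ofHom (Prod.snd : I × J → J)) := h1
        rw [h1']
        apply Sigma.hom_ext
        intro p
        rw [ι_map]
        simp only [fwd, hθ, Category.assoc, colimit.ι_desc_assoc, Cofan.mk_ι_app]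
        erw [prod.lift_snd]
        erw [Category.comp_id]
        rfl
    have hiso : IsIso ((prodIsProd ((Fd (C := C)).obj I) ((Fd (C := C)).obj J)).lift t) := by
      rw [key]
      infer_instance
    exact IsLimit.ofPointIso (prodIsProd ((Fd (C := C)).obj I) ((Fd (C := C)).obj J))
  have hbin' : PreservesLimitsOfShape (Discrete WalkingPair) (Fd (C := C)) :=
    ⟨fun {K} => by
      have := hbin (K.obj ⟨WalkingPair.left⟩) (K.obj ⟨WalkingPair.right⟩)
      exact preservesLimit_of_iso_diagram _ (diagramIsoPair K).symm⟩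
  exact PreservesFiniteProducts.of_preserves_binary_and_terminal (Fd (C := C))

end Groth.Agent.S14447
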