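import Groth.Statements.S14451
import Mathlib
import Groth.Agent.Lib.ExtAdj_helper7

set_option autoImplicit false
universe u
open CategoryTheory CategoryTheory.Limits AlgebraicGeometry
open EtCore

namespace Groth.Agent.S14451

/-- Let f : X ⟶ Y be a morphism of schemes and F an abelian sheaf on the small étale site of X whose
higher direct images R^q f_* F vanish for all q > 0. Then for every p the canonical map H^p(Y, f_*
F) → H^p(X, F) (pull back along f, then apply the counit f⁻¹ f_* F ⟶ F) is bijective. (Exactness of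
f⁻¹, which always holds, is carried as an instance hypothesis.) -/
theorem result {X Y : Scheme.{u}} (f : X ⟶ Y)
    [PreservesFiniteLimits (EtCoh.pull f)] (F : EtCoh.Ab X)
    (hR : ∀ q : ℕ, 0 < q → IsZero ((EtCoh.Rpush f q).obj F)) (p : ℕ) :
    Function.Bijective (EtLim.HofPush f F p) := by
  have hΦ := Groth.Agent.Lib.ExtAdj_helper7.Φ_bijective (EtCoh.pull f) (EtCoh.push f)
    (EtCoh.pullPushAdj f) (EtCoh.const Y ℤ) p F hR
  have key : ∀ e, EtLim.HofPush f F p e =
      (Abelian.Ext.mk₀ (EtCore.pullConst f ℤ).inv).comp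
        (Groth.Agent.Lib.ExtAdj_helper7.Φ (EtCoh.pull f) (EtCoh.push f)
          (EtCoh.pullPushAdj f) (EtCoh.const Y ℤ) F p e) (zero_add p) := by
    intro e
    exact Abelian.Ext.comp_assoc_of_third_deg_zero _ _ _ _
  have hinv : ∀ (a : Abelian.Ext ((EtCoh.pull f).obj (EtCoh.const Y ℤ)) F p),
      (Abelian.Ext.mk₀ (EtCore.pullConst f ℤ).hom).comp
        ((Abelian.Ext.mk₀ (EtCore.pullConst f ℤ).inv).comp a (zero_add p)) (zero_add p) = a := by
    intro a
    rw [Abelian.Ext.mk₀_comp_mk₀_assoc, Iso.hom_inv_id, Abelian.Ext.mk₀_id_comp]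
  have hinv' : ∀ (b : Abelian.Ext (EtCoh.const X ℤ) F p),
      (Abelian.Ext.mk₀ (EtCore.pullConst f ℤ).inv).comp
        ((Abelian.Ext.mk₀ (EtCore.pullConst f ℤ).hom).comp b (zero_add p)) (zero_add p) = b := by
    intro b
    rw [Abelian.Ext.mk₀_comp_mk₀_assoc, Iso.inv_hom_id, Abelian.Ext.mk₀_id_comp]
  constructor
  · intro x y hxy
    rw [key, key] at hxy
    apply hΦ.1
    exact (hinv _).symm.trans ((congrArg (fun t =>
      (Abelian.Ext.mk₀ (EtCore.pullConst f ℤ).hom).comp t (zero_add p)) hxy).trans (hinv _))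
  · intro b
    obtain ⟨e, he⟩ := hΦ.2 ((Abelian.Ext.mk₀ (EtCore.pullConst f ℤ).hom).comp b (zero_add p))
    exact ⟨e, by rw [key, he, hinv']⟩

end Groth.Agent.S14451
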