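import Groth.Statements.S14457
import Mathlib
import Groth.Agent.Lib.EtaleAdjoinRoot_helper6
-- import your own Groth.Agent.* helpers here

set_option autoImplicit false
universe u
open CAlg

namespace Groth.Agent.S14457

open Polynomial in
/-- Let A be a commutative ring, a an element of A and n ≥ 1 an integer. The A-algebra A[T]/(T^n − a) is
etale exactly when either n = 1 or the product n·a is a unit of A. (The exponent n is a positive
integer here; for n = 0 the quotient is (A/(1 − a))[T] and the equivalence fails.) -/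
theorem result (A : Type u) [CommRing A] (a : A) (n : ℕ) (hn : 1 ≤ n) :
    Algebra.Etale A (AdjoinRoot ((X : A[X]) ^ n - C a)) ↔ n = 1 ∨ IsUnit ((n : A) * a) := by

  have hn0 : n ≠ 0 := by omega
  have hmonic : ((X : A[X]) ^ n - C a).Monic := Polynomial.monic_X_pow_sub_C a hn0
  rw [Groth.Agent.Lib.EtaleAdjoinRoot.etale_iff _ hmonic]
  obtain ⟨f, hf⟩ : ∃ f : A[X], f = (X : A[X]) ^ n - C a := ⟨_, rfl⟩
  rw [← hf] at hmonic ⊢
  have hder : derivative f = C (n : A) * X ^ (n - 1) := by
    rw [hf, derivative_sub, derivative_X_pow, derivative_C, sub_zero]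
  have hroot : (AdjoinRoot.root f) ^ n = algebraMap A (AdjoinRoot f) a := by
    have h1 : AdjoinRoot.mk f f = 0 := AdjoinRoot.mk_self
    rw [hf] at h1
    rw [map_sub, map_pow, AdjoinRoot.mk_X, AdjoinRoot.mk_C, sub_eq_zero] at h1
    rw [hf]
    exact h1
  have hmk : AdjoinRoot.mk f (derivative f) =
      algebraMap A (AdjoinRoot f) (n : A) * (AdjoinRoot.root f) ^ (n - 1) := by
    rw [hder, map_mul, map_pow, AdjoinRoot.mk_X, AdjoinRoot.mk_C]
    rfl
  -- units of A are detected in B
  have hunit : ∀ b : A, IsUnit (algebraMap A (AdjoinRoot f) b) → IsUnit b := by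
    intro b hb
    rcases subsingleton_or_nontrivial A with hsub | hnt
    · exact isUnit_of_subsingleton b
    have hdeg : f.natDegree = n := by rw [hf]; exact Polynomial.natDegree_X_pow_sub_C
    let pb := AdjoinRoot.powerBasis' hmonic
    have h1 := Algebra.norm_algebraMap_of_basis pb.basis b
    have h2 : IsUnit (Algebra.norm A (algebraMap A (AdjoinRoot f) b)) := hb.map (Algebra.norm A)
    rw [h1] at h2
    have h3 : Fintype.card (Fin pb.dim) ≠ 0 := by
      rw [Fintype.card_fin]
      change (AdjoinRoot.powerBasis' hmonic).dim ≠ 0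
      rw [AdjoinRoot.powerBasis'_dim, hdeg]
      exact hn0
    exact (isUnit_pow_iff h3).1 h2
  rw [hmk]
  constructor
  · intro h
    by_cases h1 : n = 1
    · exact Or.inl h1
    · right
      have hn2 : n - 1 ≠ 0 := by omega
      have hu1 : IsUnit (algebraMap A (AdjoinRoot f) (n : A)) := isUnit_of_mul_isUnit_left h
      have hu2 : IsUnit ((AdjoinRoot.root f) ^ (n - 1)) := isUnit_of_mul_isUnit_right h
      have hu3 : IsUnit (AdjoinRoot.root f) := (isUnit_pow_iff hn2).1 hu2
      have hu4 : IsUnit (algebraMap A (AdjoinRoot f) a) := by rw [← hroot]; exact hu3.pow n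
      apply hunit
      rw [map_mul]
      exact hu1.mul hu4
  · rintro (h1 | h)
    · subst h1
      simp
    · have hu1 : IsUnit ((n : A)) := isUnit_of_mul_isUnit_left h
      have hu2 : IsUnit a := isUnit_of_mul_isUnit_right h
      have hu3 : IsUnit ((AdjoinRoot.root f) ^ n) := by rw [hroot]; exact hu2.map _
      have hu4 : IsUnit (AdjoinRoot.root f) := (isUnit_pow_iff hn0).1 hu3
      exact (hu1.map _).mul (hu4.pow _)

end Groth.Agent.S14457
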