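import Groth.Statements.S14479
import Mathlib.LinearAlgebra.Matrix.BilinearForm
import Mathlib.Algebra.CharP.Two
import Mathlib.LinearAlgebra.Matrix.Determinant.Basic
import Mathlib.LinearAlgebra.Dimension.Free

set_option autoImplicit false
universe u
open CharCyc

namespace Groth.Agent.S14479

/-- Let V be a finite-dimensional vector space over a field k. If dim V is even or the characteristic of
k is different from 2, there is a bilinear form B on V such that the bilinear form (v, w) ↦ B(v, w)
+ B(w, v) (B plus its transpose, as a map V → V^∨) is nondegenerate. -/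
theorem result (k V : Type u) [Field k] [AddCommGroup V] [Module k V]
    [FiniteDimensional k V] (h : Even (Module.finrank k V) ∨ ringChar k ≠ 2) :
    ∃ B : LinearMap.BilinForm k V, (B + B.flip).Nondegenerate := by
  classical
  -- general principle: a basis and a matrix `Mx` with `det (Mx + Mxᵀ) ≠ 0` give the form
  have key : ∀ {ι : Type} [Fintype ι] [DecidableEq ι] (b : Module.Basis ι k V) (Mx : Matrix ι ι k),
      (Mx + Mx.transpose).det ≠ 0 →
      ∃ B : LinearMap.BilinForm k V, (B + B.flip).Nondegenerate := by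
    intro ι _ _ b Mx hdet
    refine ⟨Matrix.toBilin b Mx, (LinearMap.BilinForm.nondegenerate_iff_det_ne_zero b).2 ?_⟩
    have h1 : LinearMap.BilinForm.toMatrix b (Matrix.toBilin b Mx + (Matrix.toBilin b Mx).flip) =
        Mx + Mx.transpose := by
      rw [map_add, LinearMap.BilinForm.toMatrix_toBilin]
      congr 1
      ext i j
      rw [LinearMap.BilinForm.toMatrix_apply, LinearMap.BilinForm.flip_apply, Matrix.transpose_apply,
        ← LinearMap.BilinForm.toMatrix_apply b, LinearMap.BilinForm.toMatrix_toBilin]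
    rw [h1]
    exact hdet
  rcases h with h | h
  · obtain ⟨m, hm⟩ := h
    let e : Fin (Module.finrank k V) ≃ Fin m ⊕ Fin m := (finCongr hm).trans finSumFinEquiv.symm
    let b : Module.Basis (Fin m ⊕ Fin m) k V := (Module.finBasis k V).reindex e
    refine key b (Matrix.fromBlocks (0 : Matrix (Fin m) (Fin m) k) (1 : Matrix (Fin m) (Fin m) k) (0 : Matrix (Fin m) (Fin m) k) (0 : Matrix (Fin m) (Fin m) k)) ?_
    have hS : Matrix.fromBlocks (0 : Matrix (Fin m) (Fin m) k) (1 : Matrix (Fin m) (Fin m) k) (0 : Matrix (Fin m) (Fin m) k) (0 : Matrix (Fin m) (Fin m) k) +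
        (Matrix.fromBlocks (0 : Matrix (Fin m) (Fin m) k) (1 : Matrix (Fin m) (Fin m) k) (0 : Matrix (Fin m) (Fin m) k) (0 : Matrix (Fin m) (Fin m) k)).transpose =
        Matrix.fromBlocks (0 : Matrix (Fin m) (Fin m) k) (1 : Matrix (Fin m) (Fin m) k) (1 : Matrix (Fin m) (Fin m) k) (0 : Matrix (Fin m) (Fin m) k) := by
      rw [Matrix.fromBlocks_transpose, Matrix.fromBlocks_add]
      simp
    rw [hS]
    have hsq : Matrix.fromBlocks (0 : Matrix (Fin m) (Fin m) k) (1 : Matrix (Fin m) (Fin m) k) (1 : Matrix (Fin m) (Fin m) k) (0 : Matrix (Fin m) (Fin m) k) *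
        Matrix.fromBlocks (0 : Matrix (Fin m) (Fin m) k) (1 : Matrix (Fin m) (Fin m) k) (1 : Matrix (Fin m) (Fin m) k) (0 : Matrix (Fin m) (Fin m) k) = 1 := by
      rw [Matrix.fromBlocks_multiply]
      simp [Matrix.fromBlocks_one]
    intro h0
    have := congr_arg Matrix.det hsq
    rw [Matrix.det_mul, h0, zero_mul, Matrix.det_one] at this
    exact zero_ne_one this
  · refine key (Module.finBasis k V) 1 ?_
    have h2 : (2 : k) ≠ 0 := Ring.two_ne_zero h
    have : (1 : Matrix (Fin (Module.finrank k V)) (Fin (Module.finrank k V)) k) + Matrix.transpose 1 =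
        (2 : k) • 1 := by
      rw [Matrix.transpose_one, two_smul]
    rw [this, Matrix.det_smul, Matrix.det_one, mul_one]
    exact pow_ne_zero _ h2

end Groth.Agent.S14479
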