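import Groth.Statements.S14497
-- (no extra imports)

set_option autoImplicit false
universe v u
open IndCof

namespace Groth.Agent.S14497

open CategoryTheory CategoryTheory.Limits in
lemma comp_cokernel_image {V : Type u} [Category.{v} V] [Abelian V] {A B : V} (g : A ⟶ B) :
    g ≫ cokernel.π (imageSubobject g).arrow = 0 := by
  calc g ≫ cokernel.π (imageSubobject g).arrow
      = (factorThruImageSubobject g ≫ (imageSubobject g).arrow) ≫
          cokernel.π (imageSubobject g).arrow := by rw [imageSubobject_arrow_comp]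
    _ = 0 := by rw [Category.assoc, cokernel.condition, comp_zero]

open CategoryTheory CategoryTheory.Limits in
lemma epi_of_image_eq {V : Type u} [Category.{v} V] [Abelian V] {A B : V} (S : Subobject B)
    (f : A ⟶ (S : V)) (h : imageSubobject (f ≫ S.arrow) = S) : Epi f := by
  have hle : imageSubobject (f ≫ S.arrow) ≤ S := le_of_eq h
  have hge : S ≤ imageSubobject (f ≫ S.arrow) := le_of_eq h.symm
  haveI : IsIso (Subobject.ofLE _ _ hle) :=
    ⟨⟨Subobject.ofLE _ _ hge, by
      rw [Subobject.ofLE_comp_ofLE, Subobject.ofLE_refl], by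
      rw [Subobject.ofLE_comp_ofLE, Subobject.ofLE_refl]⟩⟩
  have hf : factorThruImageSubobject (f ≫ S.arrow) ≫ Subobject.ofLE _ _ hle = f := by
    rw [← cancel_mono S.arrow, Category.assoc, Subobject.ofLE_arrow, imageSubobject_arrow_comp]
  rw [← hf]
  exact epi_comp _ _

open CategoryTheory CategoryTheory.Limits in
lemma image_eq_of_dvd {V : Type u} [Category.{v} V] [Abelian V] {B : V} (B' : Subobject B)
    (hdiv : ∀ k : ℕ, 0 < k → Epi (k • 𝟙 (B' : V))) (M : ℕ)
    (hM : M • 𝟙 (cokernel B'.arrow) = 0) (t : ℕ) (ht0 : 0 < t) (ht : M ∣ t) :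
    imageSubobject (t • 𝟙 B) = B' := by
  apply le_antisymm
  · have w0 : (t • 𝟙 B) ≫ cokernel.π B'.arrow = 0 := by
      rw [Preadditive.nsmul_comp, Category.id_comp]
      have : cokernel.π B'.arrow ≫ (t • 𝟙 (cokernel B'.arrow)) = 0 := by
        obtain ⟨c, rfl⟩ := ht
        rw [mul_comm, mul_smul, hM, smul_zero, comp_zero]
      rwa [Preadditive.comp_nsmul, Category.comp_id] at this
    exact imageSubobject_le (t • 𝟙 B) (Abelian.monoLift B'.arrow (t • 𝟙 B) w0)
      (Abelian.monoLift_comp _ _ _)
  · haveI := hdiv t ht0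
    have w1 : B'.arrow ≫ cokernel.π (imageSubobject (t • 𝟙 B)).arrow = 0 := by
      rw [← cancel_epi (t • 𝟙 (B' : V)), comp_zero]
      have h1 : (t • 𝟙 (B' : V)) ≫ B'.arrow = B'.arrow ≫ (t • 𝟙 B) := by
        rw [Preadditive.nsmul_comp, Preadditive.comp_nsmul, Category.id_comp, Category.comp_id]
      rw [← Category.assoc, h1, Category.assoc, comp_cokernel_image, comp_zero]
    exact Subobject.le_of_comm (Abelian.monoLift _ B'.arrow w1) (Abelian.monoLift_comp _ _ _)

open CategoryTheory CategoryTheory.Limits in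
lemma le_of_divisible {V : Type u} [Category.{v} V] [Abelian V] {B : V} (B' : Subobject B)
    (M : ℕ) (hM0 : 0 < M) (hM : M • 𝟙 (cokernel B'.arrow) = 0)
    (D : Subobject B) (hD : ∀ k : ℕ, 0 < k → Epi (k • 𝟙 (D : V))) : D ≤ B' := by
  haveI := hD M hM0
  have w : D.arrow ≫ cokernel.π B'.arrow = 0 := by
    rw [← cancel_epi (M • 𝟙 (D : V)), comp_zero, Preadditive.nsmul_comp, Category.id_comp]
    have : (D.arrow ≫ cokernel.π B'.arrow) ≫ (M • 𝟙 (cokernel B'.arrow)) = 0 := by
      rw [hM, comp_zero]
    rwa [Preadditive.comp_nsmul, Category.comp_id] at this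
  exact Subobject.le_of_comm (Abelian.monoLift _ D.arrow w) (Abelian.monoLift_comp _ _ _)

open CategoryTheory CategoryTheory.Limits in
/-- Let B be an object of an abelian category and consider the inverse system, indexed by the positive
integers ordered by divisibility, with every term equal to B and transition map from the m-th to the
n-th term (n ∣ m) given by multiplication by m/n. This system is Mittag-Leffler, i.e. for every n
the images in the n-th term of the transition maps are eventually constant, if and only if B has a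
divisible sub-object B' (multiplication by every positive integer is an epimorphism of B') with B/B'
killed by some positive integer. Moreover such a B' is the largest divisible sub-object of B. -/
theorem result
    {V : Type u} [Category.{v} V] [Abelian V] (B : V) :
    ((∀ n : ℕ, 0 < n → ∃ m : ℕ, 0 < m ∧ n ∣ m ∧ ∀ m' : ℕ, 0 < m' → m ∣ m' →
        imageSubobject ((m' / n) • 𝟙 B) = imageSubobject ((m / n) • 𝟙 B)) ↔
      ∃ B' : Subobject B, (∀ k : ℕ, 0 < k → Epi (k • 𝟙 (B' : V))) ∧
        ∃ M : ℕ, 0 < M ∧ M • 𝟙 (cokernel B'.arrow) = 0) ∧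
    (∀ B' : Subobject B, (∀ k : ℕ, 0 < k → Epi (k • 𝟙 (B' : V))) →
      (∃ M : ℕ, 0 < M ∧ M • 𝟙 (cokernel B'.arrow) = 0) →
      ∀ D : Subobject B, (∀ k : ℕ, 0 < k → Epi (k • 𝟙 (D : V))) → D ≤ B') := by
  refine ⟨⟨?_, ?_⟩, ?_⟩
  · intro hML
    obtain ⟨m, hm0, -, hm⟩ := hML 1 one_pos
    simp only [Nat.div_one] at hm
    refine ⟨imageSubobject (m • 𝟙 B), ?_, m, hm0, ?_⟩
    · intro k hk
      have hkm : 0 < k * m := Nat.mul_pos hk hm0
      have himg := hm (k * m) hkm (dvd_mul_left m k)
      have hcomp : (factorThruImageSubobject (m • 𝟙 B) ≫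
          (k • 𝟙 ((imageSubobject (m • 𝟙 B) : Subobject B) : V))) ≫
          (imageSubobject (m • 𝟙 B)).arrow = (k * m) • 𝟙 B := by
        rw [Category.assoc, Preadditive.nsmul_comp, Category.id_comp, Preadditive.comp_nsmul,
          imageSubobject_arrow_comp, mul_smul]
      have hepi : Epi (factorThruImageSubobject (m • 𝟙 B) ≫
          (k • 𝟙 ((imageSubobject (m • 𝟙 B) : Subobject B) : V))) := by
        apply epi_of_image_eq
        rw [hcomp]
        exact himg
      exact epi_of_epi (factorThruImageSubobject (m • 𝟙 B)) _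
    · rw [← cancel_epi (cokernel.π (imageSubobject (m • 𝟙 B)).arrow), comp_zero,
        Preadditive.comp_nsmul, Category.comp_id]
      have := comp_cokernel_image (m • 𝟙 B)
      rwa [Preadditive.nsmul_comp, Category.id_comp] at this
  · rintro ⟨B', hdiv, M, hM0, hM⟩ n hn
    refine ⟨n * M, Nat.mul_pos hn hM0, dvd_mul_right n M, ?_⟩
    intro m' hm' hdvd
    obtain ⟨c, rfl⟩ := hdvd
    have hc : 0 < c := by
      rcases Nat.eq_zero_or_pos c with rfl | hc
      · simp at hm'
      · exact hc
    rw [Nat.mul_assoc, Nat.mul_div_cancel_left _ hn, Nat.mul_div_cancel_left _ hn,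
      image_eq_of_dvd B' hdiv M hM (M * c) (Nat.mul_pos hM0 hc) (dvd_mul_right M c),
      image_eq_of_dvd B' hdiv M hM M hM0 (dvd_refl M)]
  · rintro B' - ⟨M, hM0, hM⟩ D hD
    exact le_of_divisible B' M hM0 hM D hD

end Groth.Agent.S14497
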