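import Groth.Statements.S14498
import Mathlib.CategoryTheory.Abelian.Refinements
import Mathlib.Algebra.Homology.ShortComplex.ExactFunctor

set_option autoImplicit false
universe v u
open AbDiag

namespace Groth.Agent.S14498

open CategoryTheory CategoryTheory.Limits in
/-- In an abelian category, let 0 → F → W → E' → 0 (maps a, b) and 0 → E → W → F' → G → G' → 0 (maps c,
d, e, g) be exact sequences such that the composite F → W → F' is a monomorphism. Then the composite
E → W → E' is a monomorphism, and there is a short exact sequence 0 → Coker(E → E') → Coker(F → F')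
→ Ker(G → G') → 0 whose first map is induced by d (through the quotient map b) and whose second map
is induced by e. -/
theorem result
    {V : Type u} [Category.{v} V] [Abelian V] {F W E' E F' G G' : V}
    (a : F ⟶ W) (b : W ⟶ E') (c : E ⟶ W) (d : W ⟶ F') (e : F' ⟶ G) (g : G ⟶ G')
    [Mono a] [Epi b] (wab : a ≫ b = 0) (hab : (ShortComplex.mk a b wab).Exact)
    [Mono c] (wcd : c ≫ d = 0) (hcd : (ShortComplex.mk c d wcd).Exact)
    (wde : d ≫ e = 0) (hde : (ShortComplex.mk d e wde).Exact)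
    (weg : e ≫ g = 0) (heg : (ShortComplex.mk e g weg).Exact) [Epi g]
    (hmono : Mono (a ≫ d)) :
    Mono (c ≫ b) ∧
      ∃ (φ : cokernel (c ≫ b) ⟶ cokernel (a ≫ d)) (ψ : cokernel (a ≫ d) ⟶ kernel g)
        (w : φ ≫ ψ = 0),
        b ≫ cokernel.π (c ≫ b) ≫ φ = d ≫ cokernel.π (a ≫ d) ∧
        cokernel.π (a ≫ d) ≫ ψ ≫ kernel.ι g = e ∧
        (ShortComplex.mk φ ψ w).ShortExact := by
  have hab_lift : ∀ {A : V} (k : A ⟶ W), k ≫ b = 0 → ∃ f : A ⟶ F, f ≫ a = k := by
    intro A k hk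
    have : Mono (ShortComplex.mk a b wab).f := (inferInstance : Mono a)
    exact ⟨hab.lift k hk, hab.lift_f k hk⟩
  have hcd_lift : ∀ {A : V} (k : A ⟶ W), k ≫ d = 0 → ∃ y : A ⟶ E, y ≫ c = k := by
    intro A k hk
    have : Mono (ShortComplex.mk c d wcd).f := (inferInstance : Mono c)
    exact ⟨hcd.lift k hk, hcd.lift_f k hk⟩
  -- (1) mono
  have h1 : Mono (c ≫ b) := by
    refine Preadditive.mono_of_cancel_zero _ (fun {A} x hx => ?_)
    obtain ⟨f, hf⟩ := hab_lift (x ≫ c) (by rw [Category.assoc]; exact hx)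
    have hf0 : f = 0 := by
      rw [← cancel_mono (a ≫ d), zero_comp, ← Category.assoc, hf, Category.assoc, wcd, comp_zero]
    rw [hf0, zero_comp] at hf
    rw [← cancel_mono c, zero_comp]
    exact hf.symm
  refine ⟨h1, ?_⟩
  -- (2) φ
  have hk : a ≫ d ≫ cokernel.π (a ≫ d) = 0 := by
    rw [← Category.assoc, cokernel.condition]
  have : Epi (ShortComplex.mk a b wab).g := (inferInstance : Epi b)
  let β : E' ⟶ cokernel (a ≫ d) := hab.desc (d ≫ cokernel.π (a ≫ d)) hk
  have hβ : b ≫ β = d ≫ cokernel.π (a ≫ d) := hab.g_desc _ hk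
  have hβ0 : (c ≫ b) ≫ β = 0 := by
    rw [Category.assoc, hβ, ← Category.assoc, wcd, zero_comp]
  let φ : cokernel (c ≫ b) ⟶ cokernel (a ≫ d) := cokernel.desc (c ≫ b) β hβ0
  have hφ : cokernel.π (c ≫ b) ≫ φ = β := cokernel.π_desc _ _ _
  -- (3) ψ
  let ε : F' ⟶ kernel g := kernel.lift g e weg
  have hε : ε ≫ kernel.ι g = e := kernel.lift_ι _ _ _
  have hε0 : (a ≫ d) ≫ ε = 0 := by
    rw [← cancel_mono (kernel.ι g), Category.assoc, hε, zero_comp, Category.assoc, wde, comp_zero]
  let ψ : cokernel (a ≫ d) ⟶ kernel g := cokernel.desc (a ≫ d) ε hε0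
  have hψ : cokernel.π (a ≫ d) ≫ ψ = ε := cokernel.π_desc _ _ _
  have hdε : d ≫ ε = 0 := by
    rw [← cancel_mono (kernel.ι g), Category.assoc, hε, zero_comp, wde]
  -- (4) composition zero
  have w : φ ≫ ψ = 0 := by
    rw [← cancel_epi (cokernel.π (c ≫ b)), ← cancel_epi b, comp_zero, comp_zero,
      ← Category.assoc (cokernel.π (c ≫ b)), hφ, ← Category.assoc, hβ, Category.assoc, hψ, hdε]
  refine ⟨φ, ψ, w, ?_, ?_, ?_⟩
  · rw [hφ, hβ]
  · rw [← Category.assoc, hψ, hε]
  · -- short exactness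
    have hεepi : Epi ε := (ShortComplex.exact_iff_epi_kernel_lift _).1 heg
    have hψepi : Epi ψ := epi_of_epi_fac hψ
    have hφmono : Mono φ := by
      refine Preadditive.mono_of_cancel_zero _ (fun {A} x hx => ?_)
      have hbπ : Epi (b ≫ cokernel.π (c ≫ b)) := epi_comp _ _
      obtain ⟨A₁, p₁, hp₁, w₁, hw₁⟩ := surjective_up_to_refinements_of_epi
        (b ≫ cokernel.π (c ≫ b)) x
      have h2 : (w₁ ≫ d) ≫ cokernel.π (a ≫ d) = 0 := by
        rw [Category.assoc, ← hβ, ← hφ, ← Category.assoc b, ← Category.assoc w₁, ← hw₁,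
          Category.assoc, hx, comp_zero]
      have hex : (ShortComplex.mk (a ≫ d) (cokernel.π (a ≫ d)) (cokernel.condition _)).Exact :=
        ShortComplex.exact_of_g_is_cokernel _ (cokernelIsCokernel _)
      obtain ⟨A₂, p₂, hp₂, f, hf⟩ := hex.exact_up_to_refinements (w₁ ≫ d) h2
      dsimp at hf
      obtain ⟨y, hy⟩ := hcd_lift (p₂ ≫ w₁ - f ≫ a) (by
        rw [Preadditive.sub_comp, Category.assoc, Category.assoc, hf, sub_self])
      have h3 : (p₂ ≫ p₁) ≫ x = 0 := by
        rw [Category.assoc, hw₁, ← Category.assoc p₂]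
        have : p₂ ≫ w₁ = y ≫ c + f ≫ a := by rw [hy]; abel
        rw [this, Preadditive.add_comp, Category.assoc, Category.assoc,
          ← Category.assoc c, cokernel.condition, comp_zero, ← Category.assoc a, wab, zero_comp,
          comp_zero, add_zero]
      have : Epi (p₂ ≫ p₁) := epi_comp _ _
      rw [← cancel_epi (p₂ ≫ p₁), h3, comp_zero]
    refine ShortComplex.ShortExact.mk' ?_ hφmono hψepi
    rw [ShortComplex.exact_iff_exact_up_to_refinements]
    intro A x₂ hx₂
    dsimp at x₂ hx₂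
    obtain ⟨A₁, p₁, hp₁, y, hy⟩ := surjective_up_to_refinements_of_epi (cokernel.π (a ≫ d)) x₂
    have hye : y ≫ e = 0 := by
      rw [← hε, ← hψ, Category.assoc, ← Category.assoc y, ← hy, Category.assoc,
        ← Category.assoc x₂, hx₂, zero_comp, comp_zero]
    obtain ⟨A₂, p₂, hp₂, w₂, hw₂⟩ := hde.exact_up_to_refinements y hye
    dsimp at hw₂
    refine ⟨A₂, p₂ ≫ p₁, epi_comp _ _, w₂ ≫ b ≫ cokernel.π (c ≫ b), ?_⟩
    dsimp
    simp only [Category.assoc]
    rw [hφ, hβ, ← Category.assoc w₂, ← hw₂, Category.assoc, hy]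

end Groth.Agent.S14498
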