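import Groth.Statements.S14503
import Mathlib
import Groth.Agent.Lib.LatticeDet_helper9

set_option autoImplicit false
universe u
open IntTh

namespace Groth.Agent.S14503

/-- Let A ⊆ B be a module-finite extension of domains with A Noetherian local of Krull dimension one, K
⊆ L their fraction fields, and r ∈ B nonzero. Then B/rB has finite length as an A-module and
length_A(B/rB) equals the order at the closed point of A of the norm N_{L/K}(r), i.e.
length_A(A/(a)) − length_A(A/(b)) for N_{L/K}(r) = a/b. -/
theorem result (A : Type u) [CommRing A] [IsDomain A]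
    [IsNoetherianRing A] [IsLocalRing A] (hA : ringKrullDim A = 1) (B : Type u) [CommRing B]
    [IsDomain B] [Algebra A B] (hinj : Function.Injective (algebraMap A B)) [Module.Finite A B]
    (K L : Type u) [Field K] [Field L] [Algebra A K] [IsFractionRing A K] [Algebra B L]
    [IsFractionRing B L] [Algebra K L] [Algebra A L] [IsScalarTower A B L] [IsScalarTower A K L]
    [FiniteDimensional K L] (r : B) (hr : r ≠ 0) :
    Module.length A (B ⧸ Ideal.span {r}) < ⊤ ∧
      ((Module.length A (B ⧸ Ideal.span {r})).toNat : ℤ) =
        CycAlg.ordFrac A K (Algebra.norm K (algebraMap B L r)) := by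
  classical
  have hdim : Ring.KrullDimLE 1 A := by
    rw [Ring.KrullDimLE, Order.krullDimLE_iff]
    exact le_of_eq hA
  let ι : B →ₗ[A] L := (IsScalarTower.toAlgHom A B L).toLinearMap
  have hιapp : ∀ b : B, ι b = algebraMap B L b := fun b => rfl
  have hι : Function.Injective ι := IsFractionRing.injective B L
  let M : Submodule A L := LinearMap.range ι
  let x : L := algebraMap B L r
  have hx : x ≠ 0 := (map_ne_zero_iff _ (IsFractionRing.injective B L)).mpr hr
  let φ : L →ₗ[K] L := Algebra.lmul K L x
  have hφapp : ∀ y : L, φ y = x * y := fun y => rfl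
  have hdet : LinearMap.det φ ≠ 0 := by
    have : Algebra.norm K x ≠ 0 := by
      rw [Ne, Algebra.norm_eq_zero_iff]
      exact hx
    rwa [Algebra.norm_apply] at this
  haveI : Algebra.IsIntegral A B := Algebra.IsIntegral.of_finite A B
  haveI : Algebra.IsAlgebraic A B := inferInstance
  have hinjL : Function.Injective (algebraMap A L) := by
    rw [IsScalarTower.algebraMap_eq A B L]
    exact (IsFractionRing.injective B L).comp hinj
  haveI : Submodule.IsLattice K M := by
    refine ⟨?_, ?_⟩
    · change (LinearMap.range ι).FG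
      rw [LinearMap.range_eq_map]
      exact Module.Finite.fg_top.map ι
    · rw [eq_top_iff]
      intro y _
      have h := IsFractionRing.ideal_span_singleton_map_subset (R := A) (S := B) (K := K)
        (L := L) (a := (1 : B)) (b := (Set.univ : Set B)) hinjL
        (by rw [Submodule.span_univ]; exact fun _ _ => trivial)
      have hy : y ∈ (Ideal.span ({algebraMap B L 1} : Set L) : Set L) := by
        rw [map_one, Ideal.span_singleton_one]
        trivial
      refine Submodule.span_mono ?_ (h hy)
      rintro _ ⟨b, -, rfl⟩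
      exact ⟨b, rfl⟩
  let Q : Submodule A B := (Ideal.span {r}).restrictScalars A
  have hφM : M.map (φ.restrictScalars A) = Q.map ι := by
    apply le_antisymm
    · rintro _ ⟨_, ⟨c, rfl⟩, rfl⟩
      refine ⟨r * c, Ideal.mem_span_singleton'.mpr ⟨c, mul_comm _ _⟩, ?_⟩
      change ι (r * c) = φ (ι c)
      rw [hφapp, hιapp, hιapp, map_mul]
    · rintro _ ⟨y, hy, rfl⟩
      obtain ⟨c, rfl⟩ := Ideal.mem_span_singleton'.mp hy
      refine ⟨ι c, ⟨c, rfl⟩, ?_⟩
      change φ (ι c) = ι (c * r)
      rw [hφapp, hιapp, hιapp, map_mul, mul_comm]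
  have hle : Q.map ι ≤ M := by
    rintro _ ⟨y, -, rfl⟩
    exact ⟨y, rfl⟩
  haveI := Groth.Agent.LatticeDet.isLattice_map (A := A) φ
    (Groth.Agent.LatticeDet.bijective_of_det_ne_zero φ hdet).2 M
  have h1 : Module.length A (↥M ⧸ (M ⊓ M.map (φ.restrictScalars A)).submoduleOf M) =
      Module.length A (B ⧸ Ideal.span {r}) := by
    rw [hφM, inf_eq_right.mpr hle, Groth.Agent.LatticeDet.length_range_quot ι hι Q]
    exact (Submodule.Quotient.restrictScalarsEquiv A (Ideal.span {r})).length_eq
  have h2 : Module.length A (↥(M.map (φ.restrictScalars A)) ⧸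
      (M ⊓ M.map (φ.restrictScalars A)).submoduleOf (M.map (φ.restrictScalars A))) = 0 := by
    rw [hφM, inf_eq_right.mpr hle, Submodule.submoduleOf_self]
    exact Module.length_eq_zero
  have hfin := Groth.Agent.LatticeDet.length_quot_lt_top (K := K) M
    (M.map (φ.restrictScalars A))
  have hmain := Groth.Agent.LatticeDet.delta_eq_ordFrac_det hA M φ hdet
  unfold Groth.Agent.LatticeDet.delta Groth.Agent.LatticeDet.dist at hmain
  rw [h1, h2] at hmain
  rw [h1] at hfin
  refine ⟨hfin, ?_⟩
  rw [Algebra.norm_apply]
  have h3 : ((Module.length A (B ⧸ Ideal.span {r})).toNat : ℤ) =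
      CycAlg.ordFrac A K (LinearMap.det φ) := by simpa using hmain
  exact h3

end Groth.Agent.S14503
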