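import Groth.Statements.S1454
import Mathlib
import Groth.Agent.Lib.UniOpen3_helper8
import Groth.Agent.Lib.FibCoh3_helper8

set_option autoImplicit false
universe u
open FlatMor

namespace Groth.Agent.S1454

open AlgebraicGeometry CategoryTheory Limits in
/-- Consider a locally quasi-finite f : X → Y whose target is locally Noetherian with geometrically
unibranch local rings, and assume every irreducible component of X dominates an irreducible
component of Y (its generic point maps to a generic point of an irreducible component of Y). Then f
is universally open. -/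
theorem result {X Y : Scheme.{u}} (f : X ⟶ Y) [LocallyQuasiFinite f] [LocallyOfFiniteType f] [IsLocallyNoetherian Y]
    (hY : ∀ y : Y, CAlg2.IsGeomUnibranch (Y.presheaf.stalk y))
    (hdom : ∀ Z ∈ irreducibleComponents ↑X, ∀ x : X, IsGenericPoint x Z → ∃ W ∈ irreducibleComponents ↑Y, IsGenericPoint (f x) W) :
    UniversallyOpen f := by
  apply Groth.Agent.Lib.UniOpenH8.universallyOpen_of_equidim hY f
  intro x
  apply EquiCompH8.isEquidimAt_of_maxpts f x 0
  · rw [FibCohH8.fibreDimAt_eq_zero_of_lqf f x]; rfl
  · intro ξ hξmax _
    refine ⟨by rw [FibCohH8.fibreDimAt_eq_zero_of_lqf f ξ]; rfl, ?_⟩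
    have hZ : closure ({ξ} : Set X) ∈ irreducibleComponents (X : Type u) :=
      (SubCompH8.closure_mem_irreducibleComponents_iff ξ).mpr hξmax
    obtain ⟨W, hW, hgen⟩ := hdom _ hZ ξ rfl
    have hW' : closure ({f.base ξ} : Set Y) ∈ irreducibleComponents (Y : Type u) := by
      have : closure ({f.base ξ} : Set Y) = W := hgen
      rw [this]; exact hW
    exact (SubCompH8.closure_mem_irreducibleComponents_iff (f.base ξ)).mp hW'

end Groth.Agent.S1454
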