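import Groth.Statements.S14580
import Groth.Agent.Lib.PropConnFib_helper4

set_option autoImplicit false
universe u
open CategoryTheory MonoidalCategory CartesianMonoidalCategory MonObj GrpObj AlgebraicGeometry CategoryTheory.Limits
open AlgGrp

namespace Groth.Agent.S14580

/-- Let k be a field, G a proper k-group scheme of finite type and N ⊆ G the kernel of the affinization
morphism G → Spec O(G), i.e. the fibre over the image of the unit section (the largest anti-affine
subgroup scheme of G). Then the image of N in G is the connected component of the identity: as N is
smooth, N is the reduced neutral component G⁰_red, which is therefore a smooth connected algebraic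
group. -/
theorem result (k : Type u) [Field k]
    (G : Over (Spec (CommRingCat.of k))) [GrpObj G] [IsProper G.hom] (t : ↥((𝟙_ (Over (Spec (CommRingCat.of k)))).left)) :
    Set.range ⇑(pullback.fst G.left.toSpecΓ (η[G].left ≫ G.left.toSpecΓ)).base = connectedComponent ((η[G]).left.base t) := by
  haveI hsubP : Subsingleton ↥((𝟙_ (Over (Spec (CommRingCat.of k)))).left) :=
    (inferInstance : Subsingleton (PrimeSpectrum k))
  exact @Groth.Agent.Lib.PropConnFibH4.aux k _ G.left _ G.hom ‹IsProper G.hom› hsubP η[G].left t

end Groth.Agent.S14580
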