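import Groth.Statements.S14615
import Mathlib

set_option autoImplicit false
universe u
open Formal2

namespace Groth.Agent.S14615

/-- The solution of `x_m = y_m + t_m x_{m+1}` on the window `[·, J)` with `x_m = 0` for `m ≥ J`. -/
def windowSol (G : ℕ → Type u) [∀ n, AddCommGroup (G n)] (t : ∀ n, G (n + 1) →+ G n)
    (y : ∀ n, G n) (J : ℕ) (m : ℕ) : G m :=
  if h : m < J then y m + t m (windowSol G t y J (m + 1)) else 0
termination_by J - m

lemma windowSol_of_lt (G : ℕ → Type u) [∀ n, AddCommGroup (G n)] (t : ∀ n, G (n + 1) →+ G n)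
    (y : ∀ n, G n) (J : ℕ) (m : ℕ) (h : m < J) :
    windowSol G t y J m = y m + t m (windowSol G t y J (m + 1)) := by
  rw [windowSol, dif_pos h]

/-- Let … → G_2 → G_1 → G_0 be an inverse system of abelian groups with transition maps t_n : G_{n+1} →
G_n, and suppose that for every i there is j ≥ i such that the composite transition map G_j → G_i is
zero; this is expressed by asking that every sequence (x_n) ∈ ∏ G_n satisfying x_n = t_n(x_{n+1})
for i ≤ n < j has x_i = 0. Then both lim G_n and lim¹ G_n vanish: the map (x_n) ↦ (x_n −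
t_n(x_{n+1})) on ∏ G_n, whose kernel is lim and whose cokernel is lim¹, is injective and surjective. -/
theorem result (G : ℕ → Type u)
    [∀ n, AddCommGroup (G n)] (t : ∀ n, G (n + 1) →+ G n)
    (h : ∀ i : ℕ, ∃ j : ℕ, i ≤ j ∧
      ∀ x : ∀ n, G n, (∀ n, i ≤ n → n < j → x n = t n (x (n + 1))) → x i = 0) :
    Formal2.limZero G t = ⊥ ∧ Function.Surjective (Formal2.towerDiff G t) := by
  constructor
  · rw [eq_bot_iff]
    intro x hx
    rw [AddSubgroup.mem_bot]
    have hx' : ∀ n, x n = t n (x (n + 1)) := by
      intro n
      have := congrFun hx n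
      exact sub_eq_zero.mp this
    funext i
    obtain ⟨j, _, hj⟩ := h i
    exact hj x (fun n _ _ => hx' n)
  · intro y
    choose j hj1 hj2 using h
    have key : ∀ i J, j i ≤ J → windowSol G t y J i = windowSol G t y (j i) i := by
      intro i J hJ
      have := hj2 i (fun m => windowSol G t y J m - windowSol G t y (j i) m) (by
        intro m _ hm
        rw [windowSol_of_lt G t y J m (lt_of_lt_of_le hm hJ), windowSol_of_lt G t y (j i) m hm,
          map_sub]
        abel)
      exact sub_eq_zero.mp this
    refine ⟨fun n => windowSol G t y (j n) n, ?_⟩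
    funext n
    change windowSol G t y (j n) n - t n (windowSol G t y (j (n + 1)) (n + 1)) = y n
    set J := max (j n) (j (n + 1)) with hJ
    rw [← key n J (le_max_left _ _), ← key (n + 1) J (le_max_right _ _),
      windowSol_of_lt G t y J n (lt_of_lt_of_le (Nat.lt_of_succ_le (hj1 (n + 1))) (le_max_right _ _))]
    abel

end Groth.Agent.S14615
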