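import Groth.Statements.S14665
import Groth.Agent.Lib.SymBC4_helper6
import Groth.Agent.Lib.SymBC5_helper6
import Groth.Agent.Lib.SymBC6_helper6
import Groth.Agent.S2908
set_option backward.isDefEq.respectTransparency false
set_option backward.isDefEq.respectTransparency.types false

set_option autoImplicit false
universe u
open CategoryTheory CategoryTheory.Limits AlgebraicGeometry
open SymProd

namespace Groth.Agent.S14665

/-- Let f : X ⟶ S be a flat morphism such that every finite set of points of X lying over a single point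
of S is contained in an affine open of X, let n ≥ 0 and let (Y, q, g) be an n-th symmetric power of
X over S (q : X ×_S ⋯ ×_S X ⟶ Y a quotient of the n-fold fibre power by the symmetric group
permuting the factors: affine, invariant, identifying sections of O_Y with invariant sections; q ≫ g
= the structure map). Then the formation of the symmetric power commutes with arbitrary base change:
for any b : S' ⟶ S, with X' = X ×_S S' and f' its projection to S', let c be the morphism from the
n-fold fibre power of X' over S' to that of X over S whose components are the first projections X' ⟶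
X and which lies over b, and let q' be the morphism from the fibre power of X' to Y ×_S S' with
components c ≫ q and the structure map to S'. Then q' together with the projection Y ×_S S' ⟶ S' is
an n-th symmetric power of X' over S'. -/
theorem result {X S S' Y : Scheme.{u}} (f : X ⟶ S) [Flat f]
    (hAF : SymProd.IsAF f) (n : ℕ) (q : SymProd.fibPow f n ⟶ Y) (g : Y ⟶ S) (hq : SymProd.IsSymProd f n q g)
    (b : S' ⟶ S)
    (c : SymProd.fibPow (pullback.snd f b) n ⟶ SymProd.fibPow f n)
    (hcπ : ∀ i : Fin n, c ≫ WidePullback.π (fun _ => f) i = WidePullback.π (fun _ => pullback.snd f b) i ≫ pullback.fst f b)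
    (hcb : c ≫ WidePullback.base (fun _ => f) = WidePullback.base (fun _ => pullback.snd f b) ≫ b)
    (q' : SymProd.fibPow (pullback.snd f b) n ⟶ pullback g b)
    (hq'₁ : q' ≫ pullback.fst g b = c ≫ q)
    (hq'₂ : q' ≫ pullback.snd g b = WidePullback.base (fun _ => pullback.snd f b)) :
    SymProd.IsSymProd (pullback.snd f b) n q' (pullback.snd g b) := by
  classical
  have hPB : IsPullback c (WidePullback.base (fun _ : Fin n => pullback.snd f b))
      (WidePullback.base (fun _ : Fin n => f)) b :=
    Groth.Agent.Lib.SymBCH6.isPullback_fibPow f b n c hcπ hcb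
  have hP' : IsPullback c q' q (pullback.fst g b) := by
    refine IsPullback.of_bot ?_ hq'₁.symm (IsPullback.of_hasPullback g b)
    rw [hq'₂, hq.over]
    exact hPB
  have hρ₁ : ∀ σ, (permActU (pullback.snd f b) n σ).hom ≫ c = c ≫ (permActU f n σ).hom := by
    intro σ
    rw [permActU_hom, permActU_hom]
    exact Groth.Agent.Lib.SymBCH6.permHom_comp_c f b n c hcπ hcb σ.down
  have hρ₂ : ∀ σ, (permActU (pullback.snd f b) n σ).hom ≫ q' = q' := by
    intro σ
    apply pullback.hom_ext
    · rw [Category.assoc, hq'₁, ← Category.assoc, hρ₁, Category.assoc, hq.isQuot.inv]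
    · rw [Category.assoc, hq'₂, permActU_hom, permHom_base]
  have haff : IsAffineHom q' := MorphismProperty.of_isPullback hP' hq.isQuot.affine
  refine ⟨Groth.Agent.Lib.SymBCH6.isQuot_of_good_cover _ q' haff hρ₂ ?_, hq'₂⟩
  intro y'
  obtain ⟨hsurj, -, -⟩ := Groth.Agent.S2908.result (permActU f n) q hq.isQuot
  obtain ⟨x, hx⟩ := hsurj ((pullback.fst g b).base y')
  obtain ⟨V, hV, hsV, -⟩ := exists_isAffineOpen_mem_and_subset
    (x := (WidePullback.base (fun _ : Fin n => f)).base x) (U := ⊤) trivial
  let T : Finset X := Finset.univ.image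
    (fun i : Fin n => (WidePullback.π (fun _ : Fin n => f) i).base x)
  have hT : ∀ y ∈ T, f.base y = (WidePullback.base (fun _ : Fin n => f)).base x := by
    intro y hy
    obtain ⟨i, -, rfl⟩ := Finset.mem_image.mp hy
    exact Groth.Agent.Lib.SymAffH6.π_base_apply f n i x
  obtain ⟨U₀, hU₀, hTU₀⟩ := hAF _ T hT
  obtain ⟨D, hD, hDV, -, hTD⟩ := Groth.Agent.Lib.FinDescH6.exists_affine_between hU₀
    (f ⁻¹ᵁ V) (T : Set X) T.finite_toSet
    (by
      intro y hy
      change f.base y ∈ V
      rw [hT y hy]
      exact hsV)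
    (fun y hy => hTU₀ y hy)
  have hxs : x ∈ Groth.Agent.Lib.SymAffH6.symOpen f n V D := by
    rw [Groth.Agent.Lib.SymAffH6.mem_symOpen]
    refine ⟨hsV, fun i => hTD ?_⟩
    exact Finset.mem_coe.mpr (Finset.mem_image.mpr ⟨i, Finset.mem_univ _, rfl⟩)
  letI : Algebra Γ(S, V) Γ(X, D) := (f.appLE V D hDV).hom.toAlgebra
  haveI : Module.Flat Γ(S, V) Γ(X, D) :=
    (HasRingHomProperty.appLE @Flat f inferInstance ⟨V, hV⟩ ⟨D, hD⟩ hDV :
      (f.appLE V D hDV).hom.Flat)
  obtain ⟨m, J, hmo, hJo, hpb, hJρ, hmg, hr⟩ :=
    Groth.Agent.Lib.SymBCH6.chart_data f n q g hq hV hD hDV rfl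
  have hsy : (pullback.snd g b).base y' ∈ b ⁻¹ᵁ V := by
    change b.base ((pullback.snd g b).base y') ∈ V
    have e : b.base ((pullback.snd g b).base y') =
        (WidePullback.base (fun _ : Fin n => f)).base x := by
      rw [← Scheme.Hom.comp_apply, ← pullback.condition, Scheme.Hom.comp_apply, ← hx,
        ← Scheme.Hom.comp_apply, hq.over]
    rw [e]
    exact hsV
  obtain ⟨V'S, hV'S, hyV'S, hle⟩ := exists_isAffineOpen_mem_and_subset
    (x := (pullback.snd g b).base y') (U := b ⁻¹ᵁ V) hsy
  have hle' : V'S ≤ b ⁻¹ᵁ hV.fromSpec.opensRange := by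
    rw [hV.opensRange_fromSpec]
    exact hle
  have key := Groth.Agent.Lib.SymBCH6.local_bc n q g b c q' (pullback.fst g b)
    (pullback.snd g b) (IsPullback.of_hasPullback g b) hP' (permActU f n)
    (permActU (pullback.snd f b) n) hρ₁ hρ₂ m J hV.fromSpec hpb hJρ hmg V'S hV'S hle'
  refine ⟨_, ?_, key.1, key.2.1, key.2.2⟩
  refine ⟨?_, hyV'S⟩
  change (pullback.fst g b).base y' ∈ Set.range m.base
  rw [← hx]
  exact hr x hxs

end Groth.Agent.S14665
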