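import Groth.Statements.S14679
import Mathlib

set_option autoImplicit false
universe u
open CategoryTheory CategoryTheory.Limits AlgebraicGeometry
open EtBase

namespace Groth.Agent.S14679

/-- Given a morphism of schemes f : X ⟶ Y and a point x ∈ X with image y = f(x), such that the residue
field map κ(y) → κ(x) is bijective; let ℓ be an algebraic extension field of κ(y) and form the base
change X ×_Y Spec ℓ along Spec ℓ ⟶ Spec κ(y) ⟶ Y. Then there is exactly one point of X ×_Y Spec ℓ
mapping to x under the first projection. (The published statement takes ℓ to be an algebraic closure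
of κ(y), noting that any algebraic extension works, and also identifies the local ring at the point
with O_{X,x} ⊗_{O_{Y,y}} ℓ; this row allows any algebraic extension ℓ and states only the first
assertion.) -/
theorem result {X Y : Scheme.{u}} (f : X ⟶ Y) (x : ↥X)
    (hx : Function.Bijective (f.residueFieldMap x).hom)
    (ℓ : Type u) [Field ℓ] [Algebra (Y.residueField (f.base x)) ℓ] [Algebra.IsAlgebraic (Y.residueField (f.base x)) ℓ] :
    ∃! z : ↥(pullback f (Spec.map (CommRingCat.ofHom (algebraMap (Y.residueField (f.base x)) ℓ)) ≫ Y.fromSpecResidueField (f.base x))),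
      (pullback.fst f (Spec.map (CommRingCat.ofHom (algebraMap (Y.residueField (f.base x)) ℓ)) ≫ Y.fromSpecResidueField (f.base x))).base z = x := by
  set a := Spec.map (CommRingCat.ofHom (algebraMap (Y.residueField (f.base x)) ℓ)) with ha
  set r := Y.fromSpecResidueField (f.base x) with hr
  set g' := a ≫ r with hg'
  let p := pullback.fst f g'
  let e := Spec.map (f.residueFieldMap x)
  have he : IsIso e := by
    have : IsIso (f.residueFieldMap x) := (ConcreteCategory.isIso_iff_bijective _).mpr hx
    infer_instance
  have hfac : X.fromSpecResidueField x ≫ f = e ≫ r :=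
    (Scheme.Hom.SpecMap_residueFieldMap_fromSpecResidueField f x).symm
  have hmono : Mono r := inferInstance
  -- the fibre of `p` over `x` is `Spec ℓ`
  have hsnd : IsIso (pullback.snd (X.fromSpecResidueField x ≫ f) g') := by
    refine ⟨pullback.lift (a ≫ inv e) (𝟙 _) (by rw [hfac]; simp [hg']), ?_, pullback.lift_snd _ _ _⟩
    apply pullback.hom_ext
    · rw [Category.assoc, pullback.lift_fst, Category.id_comp]
      have c0 := pullback.condition (f := X.fromSpecResidueField x ≫ f) (g := g')
      have c : pullback.fst (X.fromSpecResidueField x ≫ f) g' ≫ e =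
          pullback.snd (X.fromSpecResidueField x ≫ f) g' ≫ a := by
        apply (cancel_mono r).mp
        rw [Category.assoc, Category.assoc, ← hfac]
        exact c0
      rw [← Category.assoc, ← c, Category.assoc, IsIso.hom_inv_id, Category.comp_id]
    · rw [Category.assoc, pullback.lift_snd, Category.comp_id, Category.id_comp]
  let φ : p.fiber x ⟶ Spec (CommRingCat.of ℓ) :=
    (pullbackSymmetry _ _).hom ≫ (pullbackRightPullbackFstIso f g' (X.fromSpecResidueField x)).hom ≫
      pullback.snd (X.fromSpecResidueField x ≫ f) g'
  have hφ : IsIso φ := inferInstance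
  have hsub : Subsingleton (p.fiber x) := φ.homeomorph.injective.subsingleton
  have hsub2 : Subsingleton (p.base ⁻¹' {x}) := (p.fiberHomeo x).symm.injective.subsingleton
  obtain ⟨pt⟩ : Nonempty (Spec (CommRingCat.of ℓ)) := inferInstance
  obtain ⟨z, hz1, -⟩ := Scheme.Pullback.exists_preimage_pullback (f := f) (g := g') x pt (by
    rw [hg', Scheme.Hom.comp_apply, hr, Scheme.fromSpecResidueField_apply])
  refine ⟨z, hz1, fun z' hz' => ?_⟩
  have := hsub2.elim ⟨z', hz'⟩ ⟨z, hz1⟩
  exact congrArg Subtype.val this

end Groth.Agent.S14679
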