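import Groth.Statements.S14727
import Groth.Agent.Lib.SemilocalCompl_helper3
-- import your own Groth.Agent.* helpers here

set_option autoImplicit false
universe u
open ValPrufer
open Groth.Agent.Lib

namespace Groth.Agent.S14727

/-- Let R be a semilocal ring (finitely many maximal ideals) and I an ideal of R of co-height zero, i.e.
every prime ideal containing I is maximal. Then the canonical map from the I-adic completion of R to
the product, over the maximal ideals m ⊇ I, of the I-adic completions of the local rings R_m
(equivalently their IR_m-adic completions) is bijective; it is the continuous ring isomorphism of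
the source, stated here as bijectivity of the canonical map of completed modules. -/
theorem result
    (R : Type u) [CommRing R] (hR : Finite (MaximalSpectrum R)) (I : Ideal R)
    (hI : ∀ (p : Ideal R), p.IsPrime → I ≤ p → p.IsMaximal) :
    Function.Bijective (LinearMap.pi (fun m : {m : MaximalSpectrum R // I ≤ m.asIdeal} =>
      AdicCompletion.map I (Algebra.linearMap R (Localization.AtPrime m.1.asIdeal)))) := by
  classical
  have hJ : ∀ n, 0 < n → ∀ p : Ideal R, p.IsPrime → I ^ n ≤ p → p.IsMaximal :=
    fun n _ p hp h => hI p hp (hp.le_of_pow_le h)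
  haveI : Finite {m : MaximalSpectrum R // I ≤ m.asIdeal} := Subtype.finite
  have hinj : Function.Injective
      (fun m : {m : MaximalSpectrum R // I ≤ m.asIdeal} => m.1.asIdeal) := by
    intro a b hab
    exact Subtype.ext (MaximalSpectrum.ext hab)
  constructor
  · rw [injective_iff_map_eq_zero]
    intro x hx
    obtain ⟨f, rfl⟩ := AdicCompletion.mk_surjective I R x
    have hmem : ∀ n, f n ∈ I ^ n := by
      intro n
      rcases Nat.eq_zero_or_pos n with rfl | hn
      · simp
      · apply SemilocalComplH3.mem_of_forall_maximal
        intro M hM hle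
        have hIM : I ≤ M := hM.isPrime.le_of_pow_le hle
        let mm : {m : MaximalSpectrum R // I ≤ m.asIdeal} := ⟨⟨M, hM⟩, hIM⟩
        have h1 : AdicCompletion.map I (Algebra.linearMap R (Localization.AtPrime M))
            (AdicCompletion.mk I R f) = 0 := congrFun hx mm
        have h2 := congrArg (fun y => y.val n) h1
        simp only [AdicCompletion.map_mk, AdicCompletion.mk_apply_coe,
          AdicCompletion.val_zero] at h2
        have h3 : algebraMap R (Localization.AtPrime M) (f n) ∈
            (I ^ n • ⊤ : Submodule R (Localization.AtPrime M)) := by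
          simpa using h2
        exact SemilocalComplH3.exists_of_algebraMap_mem (I ^ n) M (f n)
          ((SemilocalComplH3.mem_smul_top_iff _ _ _).1 h3)
    apply AdicCompletion.ext
    intro n
    rw [AdicCompletion.mk_apply_coe, AdicCompletion.val_zero]
    simp only [Pi.zero_apply, Submodule.mkQ_apply, Submodule.Quotient.mk_eq_zero]
    rw [smul_eq_mul, Ideal.mul_top]
    exact hmem n
  · intro y
    choose g hg using fun m => AdicCompletion.mk_surjective I _ (y m)
    have hstep : ∀ n, ∃ r : R, ∀ m : {m : MaximalSpectrum R // I ≤ m.asIdeal},
        algebraMap R (Localization.AtPrime m.1.asIdeal) r - g m n ∈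
          (I ^ n • ⊤ : Submodule R (Localization.AtPrime m.1.asIdeal)) := by
      intro n
      rcases Nat.eq_zero_or_pos n with rfl | hn
      · exact ⟨0, fun m => by rw [pow_zero, Ideal.one_eq_top, Submodule.top_smul]; exact Submodule.mem_top⟩
      · obtain ⟨r, hr⟩ := SemilocalComplH3.exists_forall_sub_mem_map (I ^ n)
          (fun m : {m : MaximalSpectrum R // I ≤ m.asIdeal} => m.1.asIdeal) hinj (hJ n hn)
          (fun m => g m n)
        exact ⟨r, fun m => (SemilocalComplH3.mem_smul_top_iff _ _ _).2 (hr m)⟩
    choose r hr using hstep
    have hcauchy : ∀ n, r n ≡ r (n + 1) [SMOD (I ^ n • ⊤ : Submodule R R)] := by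
      intro n
      rw [SModEq.sub_mem, smul_eq_mul, Ideal.mul_top]
      rcases Nat.eq_zero_or_pos n with rfl | hn
      · simp
      apply SemilocalComplH3.mem_of_forall_maximal
      intro M hM hle
      have hIM : I ≤ M := hM.isPrime.le_of_pow_le hle
      let mm : {m : MaximalSpectrum R // I ≤ m.asIdeal} := ⟨⟨M, hM⟩, hIM⟩
      apply SemilocalComplH3.exists_of_algebraMap_mem (I ^ n) M
      rw [← SemilocalComplH3.mem_smul_top_iff]
      have e1 := hr n mm
      have e2 : algebraMap R (Localization.AtPrime M) (r (n + 1)) - g mm (n + 1) ∈
          (I ^ n • ⊤ : Submodule R (Localization.AtPrime M)) :=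
        Submodule.smul_mono_left (Ideal.pow_le_pow_right (Nat.le_succ n)) (hr (n + 1) mm)
      have e3 : g mm n - g mm (n + 1) ∈
          (I ^ n • ⊤ : Submodule R (Localization.AtPrime M)) := by
        have := (g mm).2 (Nat.le_succ n)
        rwa [SModEq.sub_mem] at this
      have e4 : algebraMap R (Localization.AtPrime M) (r n - r (n + 1)) =
          (algebraMap R (Localization.AtPrime M) (r n) - g mm n) -
            (algebraMap R (Localization.AtPrime M) (r (n + 1)) - g mm (n + 1)) +
            (g mm n - g mm (n + 1)) := by
        rw [map_sub]; abel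
      rw [e4]
      exact Submodule.add_mem _ (Submodule.sub_mem _ e1 e2) e3
    refine ⟨AdicCompletion.mk I R (AdicCompletion.AdicCauchySequence.mk I R r hcauchy), ?_⟩
    funext m
    rw [← hg m]
    show AdicCompletion.map I _ (AdicCompletion.mk I R _) = _
    rw [AdicCompletion.map_mk]
    apply AdicCompletion.ext
    intro n
    rw [AdicCompletion.mk_apply_coe, AdicCompletion.mk_apply_coe]
    simp only [Submodule.mkQ_apply]
    rw [Submodule.Quotient.eq]
    exact hr n m

end Groth.Agent.S14727
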