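import Groth.Statements.S14741
import Groth.Agent.Lib.AffVanish3_helper9

set_option autoImplicit false
universe u
open CategoryTheory AlgebraicGeometry
open ValPrufer

namespace Groth.Agent.S14741

/-- Let R be a semilocal Prüfer domain (an integral domain with finitely many maximal ideals whose
localisations at primes are valuation rings) of finite Krull dimension, m ≥ 1, X a closed subscheme
of projective (m-1)-space over R which is flat over R, and F a finitely presented (equivalently,
coherent) O_X-module. Then H^q(X, F) = 0 for all q > m. -/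
theorem result
    (R : Type u) [CommRing R] [IsDomain R]
    (hR : ∀ (p : Ideal R) [p.IsPrime], ValuationRing (Localization.AtPrime p))
    (hfin : Finite (MaximalSpectrum R)) (hdim : ringKrullDim R < ⊤)
    (m : ℕ) (hm : 1 ≤ m) (X : Scheme.{u}) (ι : X ⟶ CohB1.ProjSpace (m - 1) R) [IsClosedImmersion ι]
    [Flat (ι ≫ CohB1.ProjSpace.toSpec (m - 1) R)]
    (F : X.Modules) (hF : CohB1.IsFP F) (q : ℕ) (hq : m < q) :
    Subsingleton (Coh.HH X F q) := by
  obtain ⟨σ, _⟩ := hF.exists_quasicoherentData
  haveI hqc : F.IsQuasicoherent := σ.isQuasicoherent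
  haveI hsepP : Scheme.IsSeparated (CohB1.ProjSpace (m - 1) R) :=
    inferInstanceAs (Scheme.IsSeparated (Proj (CohB1.polyGrading (m - 1) R)))
  haveI hsepX : Scheme.IsSeparated X := by
    constructor
    have h1 : Limits.terminal.from X = ι ≫ Limits.terminal.from (CohB1.ProjSpace (m - 1) R) :=
      (Limits.terminal.comp_from ι).symm
    rw [h1]
    haveI := hsepP.isSeparated_terminal_from
    infer_instance
  refine AffVanish.HH_subsingleton_of_cover X (m - 1 + 1)
    (fun i => ι ⁻¹ᵁ (AffVanish.stdOpen (m - 1) R i))
    (fun i => (AffVanish.isAffineOpen_stdOpen (m - 1) R i).preimage ι) ?_ ?_ F q (by omega)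
  · rw [← Scheme.Hom.preimage_iSup, AffVanish.iSup_stdOpen, Scheme.Hom.preimage_top]
  · intro V W hV hW
    exact hV.inf hW

end Groth.Agent.S14741
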