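import Groth.Statements.S14743
import Mathlib

set_option autoImplicit false
universe u
open CategoryTheory MonoidalCategory CartesianMonoidalCategory MonObj GrpObj AlgebraicGeometry
open AlgGrp

namespace Groth.Agent.S14743

/-- Over an algebraically closed field k let L, G, B be commutative k-group schemes, i : L → G and π : G
→ B homomorphisms with i the kernel of π, and suppose that every k-morphism B × B → L is constant
(factors through a k-point of L). If π admits a section which is a morphism of k-schemes, then it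
admits a section which is a homomorphism, so the extension splits. (The published statement is for
algebraic groups, that is, of finite type over k; finiteness plays no role and is not assumed here.) -/
theorem result (k : Type u) [Field k] [IsAlgClosed k]
    (L G B : Over (Spec (CommRingCat.of k))) [GrpObj L] [GrpObj G] [GrpObj B]
    [IsCommMonObj L] [IsCommMonObj G] [IsCommMonObj B]
    (i : L ⟶ G) [IsMonHom i] (π : G ⟶ B) [IsMonHom π] (hker : AlgGrp.IsKernel i π)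
    (hconst : ∀ f : B ⊗ B ⟶ L, ∃ l : 𝟙_ (Over (Spec (CommRingCat.of k))) ⟶ L, f = toUnit (B ⊗ B) ≫ l)
    (s : B ⟶ G) (hs : s ≫ π = 𝟙 B) :
    ∃ s' : B ⟶ G, IsMonHom s' ∧ s' ≫ π = 𝟙 B := by
  have hsπ : ∀ {X : Over (Spec (CommRingCat.of k))} (x : X ⟶ B), (x ≫ s) ≫ π = x := fun x => by
    rw [Category.assoc, hs, Category.comp_id]
  have hc : ((μ[B] ≫ s) * ((fst B B ≫ s) * (snd B B ≫ s))⁻¹) ≫ π = 1 := by
    rw [MonObj.mul_comp, GrpObj.inv_comp, MonObj.mul_comp, hsπ, hsπ, hsπ, MonObj.mul_eq_mul]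
    exact mul_inv_cancel _
  obtain ⟨f, hf⟩ : ∃ f : B ⊗ B ⟶ L, f ≫ i = (μ[B] ≫ s) * ((fst B B ≫ s) * (snd B B ≫ s))⁻¹ :=
    ⟨hker.lift _ (toUnit _) (by rw [hc, Hom.one_def]), hker.lift_fst _ _ _⟩
  obtain ⟨l, hl⟩ := hconst f
  have hkey : μ[B] ≫ s = (toUnit (B ⊗ B) ≫ l ≫ i) * ((fst B B ≫ s) * (snd B B ≫ s)) := by
    have h1 : toUnit (B ⊗ B) ≫ l ≫ i = (μ[B] ≫ s) * ((fst B B ≫ s) * (snd B B ≫ s))⁻¹ := by
      rw [← hf, hl, Category.assoc]
    rw [h1, inv_mul_cancel_right]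
  have hu : ∀ (x : B ⊗ B ⟶ B), x ≫ toUnit B ≫ l ≫ i = toUnit (B ⊗ B) ≫ l ≫ i := fun x => by
    rw [← Category.assoc, toUnit_unique (x ≫ toUnit B) (toUnit (B ⊗ B))]
  obtain ⟨s', hs'⟩ : ∃ s' : B ⟶ G, s' = s * (toUnit B ≫ l ≫ i) := ⟨_, rfl⟩
  have hmul : μ[B] ≫ s' = (s' ⊗ₘ s') ≫ μ[G] := by
    have ht : (s' ⊗ₘ s') = lift (fst B B ≫ s') (snd B B ≫ s') := by
      ext <;> simp
    rw [ht, ← Hom.mul_def, hs', MonObj.comp_mul, MonObj.comp_mul, MonObj.comp_mul, hu, hu, hu, hkey]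
    simp only [_root_.mul_comm, _root_.mul_left_comm, _root_.mul_assoc]
  refine ⟨s', ⟨?_, hmul⟩, ?_⟩
  · have e1 : lift η[B] η[B] ≫ μ[B] = η[B] := by
      rw [← Hom.mul_def, MonObj.one_eq_one, _root_.mul_one]
    have e2 : lift η[B] η[B] ≫ μ[B] ≫ s' = lift η[B] η[B] ≫ (s' ⊗ₘ s') ≫ μ[G] := by rw [hmul]
    rw [← Category.assoc, e1, ← Category.assoc, lift_map, ← Hom.mul_def] at e2
    have e3 : (η[B] ≫ s') * 1 = (η[B] ≫ s') * (η[B] ≫ s') := by
      rw [_root_.mul_one]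
      exact e2
    rw [← mul_left_cancel e3, MonObj.one_eq_one]
  · rw [hs', MonObj.mul_comp, hs, Category.assoc, Category.assoc, hker.w]
    have h0 : toUnit B ≫ l ≫ toUnit L ≫ η[B] = 1 := by
      rw [Hom.one_def, ← Category.assoc, ← Category.assoc,
        toUnit_unique ((toUnit B ≫ l) ≫ toUnit L) (toUnit B)]
    rw [h0, _root_.mul_one]

end Groth.Agent.S14743
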