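import Groth.Statements.S14765
import Mathlib
import Groth.Agent.Lib.RefVal19_helper6
import Groth.Agent.Lib.ClosureSpec_helper7
-- import your own Groth.Agent.* helpers here

set_option autoImplicit false
universe u
open CategoryTheory CategoryTheory.Limits AlgebraicGeometry
open Subtr

namespace Groth.Agent.S14765

/-- Let V be a valuation ring and f : X ⟶ Spec V any morphism of schemes. The following are equivalent:
(a) after every base change, every ordered pair of points of the target (a point and a
specialization of it) lifts to an ordered pair of points of the source; (b) every ordered pair of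
points of Spec V lifts to an ordered pair of points of X; (c) every point of Spec V is the image of
a point of X lying in the closure of the generic fibre; (d) the pair formed by the closed point and
the generic point of Spec V lifts to points x, x' of X with x a specialization of x'; (e) there are
a valuation ring W and a morphism Spec W ⟶ X whose composite with f is surjective; (f) there is a
closed subscheme Z of X such that Z ⟶ Spec V is flat and surjective. (The published list also
contains subtrusiveness and universal subtrusiveness, which add submersiveness for the constructible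
topology, and the lifting of arbitrary chains of points; this row omits those items and keeps the
lifting property alone in (a).) -/
theorem result (V : Type u) [CommRing V] [IsDomain V] [ValuationRing V]
    {X : Scheme.{u}} (f : X ⟶ Spec (CommRingCat.of V)) :
    List.TFAE [
      Subtr.UnivSSubtrusive f,
      Subtr.IsSSubtrusive f,
      ∀ y : Spec (CommRingCat.of V), ∃ x : X,
        x ∈ closure (f ⁻¹' {(⟨⊥, Ideal.isPrime_bot⟩ : PrimeSpectrum V)}) ∧ f x = y,
      ∃ x x' : X, x' ⤳ x ∧ f x = IsLocalRing.closedPoint V ∧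
        f x' = (⟨⊥, Ideal.isPrime_bot⟩ : PrimeSpectrum V),
      ∃ (W : Type u) (_ : CommRing W) (_ : IsDomain W) (_ : ValuationRing W)
        (g : Spec (CommRingCat.of W) ⟶ X), Surjective (g ≫ f),
      ∃ (Z : Scheme.{u}) (i : Z ⟶ X), IsClosedImmersion i ∧ Flat (i ≫ f) ∧ Surjective (i ≫ f)] := by

  have hbot : (⟨⊥, Ideal.isPrime_bot⟩ : PrimeSpectrum V) = (⊥ : PrimeSpectrum V) := rfl
  tfae_have 1 → 2 := by
    intro H
    exact H _ _ _ IsPullback.of_id_snd
  tfae_have 2 → 3 := by
    intro H y
    have hy : ((⊥ : PrimeSpectrum V) : Spec (CommRingCat.of V)) ⤳ y := by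
      rw [← PrimeSpectrum.le_iff_specializes]
      exact bot_le
    obtain ⟨x, x', hxx', hx, hx'⟩ := H hy
    refine ⟨x, ?_, hx⟩
    exact hxx'.mem_closed isClosed_closure (subset_closure hx')
  tfae_have 3 → 4 := by
    intro H
    obtain ⟨x, hxcl, hx⟩ := H (IsLocalRing.closedPoint V)
    let ιK : Spec (CommRingCat.of (FractionRing V)) ⟶ Spec (CommRingCat.of V) :=
      Spec.map (CommRingCat.ofHom (algebraMap V (FractionRing V)))
    have hrange : Set.range ιK = {(⊥ : PrimeSpectrum V)} := by
      ext p
      simp only [Set.mem_range, Set.mem_singleton_iff]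
      constructor
      · rintro ⟨q, rfl⟩
        apply PrimeSpectrum.ext
        change Ideal.comap (algebraMap V (FractionRing V)) q.asIdeal = ⊥
        have hq : q.asIdeal = ⊥ := by
          rcases Ideal.eq_bot_or_top q.asIdeal with h | h
          · exact h
          · exact absurd h q.isPrime.ne_top
        rw [hq, ← RingHom.ker_eq_comap_bot]
        exact (RingHom.injective_iff_ker_eq_bot _).mp (IsFractionRing.injective V (FractionRing V))
      · rintro rfl
        refine ⟨(⊥ : PrimeSpectrum (FractionRing V)), ?_⟩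
        apply PrimeSpectrum.ext
        change Ideal.comap (algebraMap V (FractionRing V)) ⊥ = ⊥
        rw [← RingHom.ker_eq_comap_bot]
        exact (RingHom.injective_iff_ker_eq_bot _).mp (IsFractionRing.injective V (FractionRing V))
    have hfib : f ⁻¹' {(⊥ : PrimeSpectrum V)} =
        Set.range (pullback.fst f ιK) := by
      rw [Scheme.Pullback.range_fst, hrange]
    change x ∈ closure (f ⁻¹' {(⊥ : PrimeSpectrum V)}) at hxcl
    rw [hfib] at hxcl
    obtain ⟨t, ht⟩ :=
      Groth.Agent.Lib.ClosureSpecH7.exists_specializes_of_mem_closure_range (pullback.fst f ιK)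
        x hxcl
    refine ⟨x, pullback.fst f ιK t, ht, hx, ?_⟩
    have : f (pullback.fst f ιK t) ∈ Set.range ιK := by
      rw [← Scheme.Hom.comp_apply, pullback.condition, Scheme.Hom.comp_apply]
      exact ⟨_, rfl⟩
    rw [hrange] at this
    exact this
  tfae_have 4 → 5 := by
    rintro ⟨x, x', hxx', hx, hx'⟩
    obtain ⟨W, d, e, hd₁, hd₂⟩ :=
      Groth.Agent.Lib.RefVal.exists_dominating (𝟙 X) x x' hxx'
    refine ⟨↥W, inferInstance, inferInstance, inferInstance, d, ?_⟩
    refine Groth.Agent.Lib.RefVal.surjective_of_generic_closed _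
      (Spec.map (CommRingCat.ofHom W.subtype)
        (IsLocalRing.closedPoint (X.residueField x'))) ?_ ?_
    · rw [Scheme.Hom.comp_apply, ← Scheme.Hom.comp_apply _ d, hd₁, Category.comp_id,
        Scheme.fromSpecResidueField_apply, hx']
      rfl
    · have hloc : IsLocalHom (CommRingCat.ofHom (IsLocalRing.residue ↥W)).hom :=
        IsLocalHom.of_surjective _ IsLocalRing.residue_surjective
      have h1 := Groth.Agent.Lib.RefVal.comp_closedPoint
        (CommRingCat.ofHom (IsLocalRing.residue ↥W)) d
      rw [Scheme.Hom.comp_apply, ← h1, hd₂, Scheme.Hom.comp_apply,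
        Scheme.fromSpecResidueField_apply, hx]
  tfae_have 5 → 4 := by
    rintro ⟨W, _, _, _, g, hg⟩
    obtain ⟨w, hw⟩ := (g ≫ f).surjective (⊥ : PrimeSpectrum V)
    have hcl := Groth.Agent.Lib.RefVal.closedPoint_of_surjective (g ≫ f)
    have hbw : ((⊥ : PrimeSpectrum W) : Spec (CommRingCat.of W)) ⤳ w := by
      rw [← PrimeSpectrum.le_iff_specializes]
      exact bot_le
    have h1 : (g ≫ f) (⊥ : PrimeSpectrum W) ⤳ (⊥ : PrimeSpectrum V) := by
      rw [← hw]
      exact hbw.map (g ≫ f).continuous
    have h2 : (g ≫ f) (⊥ : PrimeSpectrum W) = (⊥ : PrimeSpectrum V) := by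
      apply PrimeSpectrum.ext
      have h1' := (PrimeSpectrum.le_iff_specializes _ _).mpr h1
      have h3 : ((g ≫ f) (⊥ : PrimeSpectrum W)).asIdeal ≤ (⊥ : Ideal V) := h1'
      exact le_antisymm h3 bot_le
    refine ⟨g (IsLocalRing.closedPoint W), g (⊥ : PrimeSpectrum W),
      (IsLocalRing.specializes_closedPoint _).map g.continuous, ?_, ?_⟩
    · rw [← Scheme.Hom.comp_apply, hcl]
    · rw [← Scheme.Hom.comp_apply, h2]
      rfl
  tfae_have 4 → 6 := by
    rintro ⟨x, x', hxx', hx, hx'⟩
    exact Groth.Agent.Lib.RefVal.exists_flat_closed_of_specializes f x x' hxx' hx hx'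
  tfae_have 6 → 1 := by
    rintro ⟨Z, i, -, hflat, hsurj⟩ X' Y' i₁ i₂ f' hsq y y' hyy'
    have hw : pullback.snd (i ≫ f) i₂ ≫ i₂ = (pullback.fst (i ≫ f) i₂ ≫ i) ≫ f := by
      rw [Category.assoc, pullback.condition]
    have hl : hsq.lift (pullback.snd (i ≫ f) i₂) (pullback.fst (i ≫ f) i₂ ≫ i) hw ≫ f' =
        pullback.snd (i ≫ f) i₂ := hsq.lift_fst _ _ _
    obtain ⟨z, hz⟩ := (pullback.snd (i ≫ f) i₂).surjective y
    have hgen : GeneralizingMap (pullback.snd (i ≫ f) i₂) := Flat.generalizingMap _
    obtain ⟨z', hz'z, hz'⟩ := hgen (hz ▸ hyy')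
    refine ⟨hsq.lift (pullback.snd (i ≫ f) i₂) (pullback.fst (i ≫ f) i₂ ≫ i) hw z,
      hsq.lift (pullback.snd (i ≫ f) i₂) (pullback.fst (i ≫ f) i₂ ≫ i) hw z',
      hz'z.map (Scheme.Hom.continuous _), ?_, ?_⟩
    · rw [← Scheme.Hom.comp_apply, hl, hz]
    · rw [← Scheme.Hom.comp_apply, hl, hz']
  tfae_finish

end Groth.Agent.S14765
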