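import Groth.Statements.S14766
import Mathlib
import Groth.Agent.Lib.RefVal18_helper6
-- import your own Groth.Agent.* helpers here

set_option autoImplicit false
universe u
open CategoryTheory CategoryTheory.Limits AlgebraicGeometry
open Subtr

namespace Groth.Agent.S14766

/-- Let V be a discrete valuation ring and f : X ⟶ Spec V any morphism of schemes. Then the underlying
continuous map of f is a quotient map (f is submersive) if and only if every ordered pair of points
of Spec V lifts to an ordered pair of points of X. -/
theorem result (V : Type u) [CommRing V] [IsDomain V]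
    [IsDiscreteValuationRing V] {X : Scheme.{u}} (f : X ⟶ Spec (CommRingCat.of V)) :
    Topology.IsQuotientMap f ↔ Subtr.IsSSubtrusive f := by

  have hcases : ∀ p : Spec (CommRingCat.of V),
      p = (⊥ : PrimeSpectrum V) ∨ p = IsLocalRing.closedPoint V :=
    Groth.Agent.Lib.RefVal.dvr_point_cases V
  have hne : ((⊥ : PrimeSpectrum V) : Spec (CommRingCat.of V)) ≠ IsLocalRing.closedPoint V :=
    Groth.Agent.Lib.RefVal.dvr_bot_ne_closedPoint V
  have hηs : ((⊥ : PrimeSpectrum V) : Spec (CommRingCat.of V)) ⤳ IsLocalRing.closedPoint V :=
    IsLocalRing.specializes_closedPoint _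
  have hsclosed : IsClosed ({IsLocalRing.closedPoint V} : Set (Spec (CommRingCat.of V))) :=
    IsLocalRing.isClosed_singleton_closedPoint V
  constructor
  · intro hq y y' hyy'
    by_cases hyeq : y' = y
    · obtain ⟨x, hx⟩ := hq.surjective y
      exact ⟨x, x, specializes_rfl, hx, by rw [hx, hyeq]⟩
    · -- then y' = η and y = s
      have hy' : y' = (⊥ : PrimeSpectrum V) := by
        rcases hcases y' with h | h
        · exact h
        · exfalso
          apply hyeq
          rw [h] at hyy' ⊢
          exact (hyy'.mem_closed hsclosed rfl).symm
      have hy : y = IsLocalRing.closedPoint V := by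
        rcases hcases y with h | h
        · exact absurd (hy'.trans h.symm) hyeq
        · exact h
      subst hy' hy
      by_contra hcon
      push_neg at hcon
      -- the generic fibre is stable under specialization
      have hηopen : IsOpen ({(⊥ : PrimeSpectrum V)} : Set (Spec (CommRingCat.of V))) := by
        have : ({(⊥ : PrimeSpectrum V)} : Set (Spec (CommRingCat.of V))) =
            ({IsLocalRing.closedPoint V} : Set (Spec (CommRingCat.of V)))ᶜ := by
          ext p
          simp only [Set.mem_singleton_iff, Set.mem_compl_iff]
          constructor
          · rintro rfl; exact hne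
          · intro h; rcases hcases p with h' | h'
            · exact h'
            · exact absurd h' h
        rw [this]
        exact hsclosed.isOpen_compl
      let W : (Spec (CommRingCat.of V)).Opens := ⟨_, hηopen⟩
      have hstab : StableUnderSpecialization ((f ⁻¹ᵁ W : X.Opens) : Set X) := by
        intro x' x hxx' hx'
        have hx'η : f x' = (⊥ : PrimeSpectrum V) := hx'
        change f x = (⊥ : PrimeSpectrum V)
        rcases hcases (f x) with h | h
        · exact h
        · exact absurd hx'η (hcon x x' hxx' h)
      haveI := Groth.Agent.Lib.RefVal.quasiCompact_preimage_ι f W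
      have hcl := Groth.Agent.Lib.RefVal.isClosed_of_quasiCompact_of_stableUnderSpecialization
        (f ⁻¹ᵁ W) hstab
      have hcl2 : IsClosed ({(⊥ : PrimeSpectrum V)} : Set (Spec (CommRingCat.of V))) :=
        (hq.isClosed_preimage).mp hcl
      exact hne (hηs.mem_closed hcl2 rfl).symm
  · intro hs
    have hsurj : Function.Surjective f := by
      intro y
      obtain ⟨x, -, -, hx, -⟩ := hs (specializes_refl y)
      exact ⟨x, hx⟩
    rw [Topology.isQuotientMap_iff_isClosed]
    refine ⟨hsurj, fun Z => ⟨fun h => h.preimage f.continuous, fun h => ?_⟩⟩
    by_cases hη : ((⊥ : PrimeSpectrum V) : Spec (CommRingCat.of V)) ∈ Z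
    · obtain ⟨x, x', hxx', hx, hx'⟩ := hs hηs
      have h1 : x' ∈ f ⁻¹' Z := by
        change f x' ∈ Z
        rw [hx']; exact hη
      have h2 : x ∈ f ⁻¹' Z := hxx'.mem_closed h h1
      have h3 : IsLocalRing.closedPoint V ∈ Z := by
        rw [← hx]; exact h2
      have : Z = Set.univ := by
        ext p
        simp only [Set.mem_univ, iff_true]
        rcases hcases p with h' | h'
        · rw [h']; exact hη
        · rw [h']; exact h3
      rw [this]; exact isClosed_univ
    · have hsub : Z ⊆ {IsLocalRing.closedPoint V} := by
        intro p hp
        rcases hcases p with h' | h'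
        · exact absurd (h' ▸ hp) hη
        · exact h'
      rcases Set.subset_singleton_iff_eq.mp hsub with h' | h'
      · rw [h']; exact isClosed_empty
      · rw [h']; exact hsclosed

end Groth.Agent.S14766
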