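import Groth.Statements.S14767
import Mathlib
import Groth.Agent.Lib.RefVal16_helper6
import Groth.Agent.Lib.ClosureSpec_helper7
-- import your own Groth.Agent.* helpers here

set_option autoImplicit false
universe u
open CategoryTheory CategoryTheory.Limits AlgebraicGeometry
open Subtr

namespace Groth.Agent.S14767

/-- Let f : X ⟶ Y be a quasi-compact morphism of schemes. Then f is universally submersive if and only
if, for every valuation ring V and every morphism Spec V ⟶ Y, the base change X ×_Y Spec V ⟶ Spec V
is submersive (its underlying continuous map is a quotient map). (The published statement asks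
instead that f be universally submersive for the constructible topologies, which holds for
quasi-compact surjective morphisms; both sides here force f to be surjective.) -/
theorem result {X Y : Scheme.{u}} (f : X ⟶ Y) [QuasiCompact f] :
    SGA1.UnivSubmersive f ↔
      ∀ (V : Type u) [CommRing V] [IsDomain V] [ValuationRing V] (g : Spec (CommRingCat.of V) ⟶ Y),
        Topology.IsQuotientMap (pullback.snd f g) := by

  constructor
  · intro H V _ _ _ g
    exact H _ _ _ (IsPullback.of_hasPullback f g).flip
  · intro H X' Y' i₁ i₂ f' hsq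
    change Topology.IsQuotientMap f'
    haveI : QuasiCompact f' :=
      MorphismProperty.of_isPullback (P := @QuasiCompact) hsq.flip inferInstance
    -- key: transport along valuation rings
    have key : ∀ (y y' : Y'), y' ⤳ y → ∀ Z : Set Y', IsClosed (f' ⁻¹' Z) → y' ∈ Z →
        y ∈ Z ∧ ∃ x : X', f' x = y' := by
      intro y y' hyy' Z hZ hy'
      obtain ⟨V, _, _, _, g', v₁, hv₁, hcl⟩ :=
        Groth.Agent.Lib.RefVal.exists_valuationRing_of_specializes y' y hyy'
      have hq := H V (g' ≫ i₂)
      have hw : (pullback.snd f (g' ≫ i₂) ≫ g') ≫ i₂ = pullback.fst f (g' ≫ i₂) ≫ f := by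
        rw [Category.assoc, pullback.condition]
      have hl : hsq.lift (pullback.snd f (g' ≫ i₂) ≫ g') (pullback.fst f (g' ≫ i₂)) hw ≫ f' =
          pullback.snd f (g' ≫ i₂) ≫ g' := hsq.lift_fst _ _ _
      have hpre : (pullback.snd f (g' ≫ i₂)) ⁻¹' (g' ⁻¹' Z) =
          (hsq.lift (pullback.snd f (g' ≫ i₂) ≫ g') (pullback.fst f (g' ≫ i₂)) hw) ⁻¹'
            (f' ⁻¹' Z) := by
        ext p
        simp only [Set.mem_preimage]
        rw [← Scheme.Hom.comp_apply, ← Scheme.Hom.comp_apply, hl]
      have hcl2 : IsClosed (g' ⁻¹' Z) := by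
        rw [← hq.isClosed_preimage, hpre]
        exact hZ.preimage (Scheme.Hom.continuous _)
      have hv₁Z : v₁ ∈ g' ⁻¹' Z := by
        change g' v₁ ∈ Z
        rw [hv₁]; exact hy'
      have hcZ : IsLocalRing.closedPoint V ∈ g' ⁻¹' Z :=
        (IsLocalRing.specializes_closedPoint v₁).mem_closed hcl2 hv₁Z
      refine ⟨by rw [← hcl]; exact hcZ, ?_⟩
      obtain ⟨p, hp⟩ := hq.surjective v₁
      refine ⟨hsq.lift (pullback.snd f (g' ≫ i₂) ≫ g') (pullback.fst f (g' ≫ i₂)) hw p, ?_⟩
      rw [← Scheme.Hom.comp_apply, hl, Scheme.Hom.comp_apply, hp, hv₁]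
    have hsurj : Function.Surjective f' := by
      intro y
      obtain ⟨-, x, hx⟩ := key y y specializes_rfl Set.univ (by simp) (Set.mem_univ _)
      exact ⟨x, hx⟩
    rw [Topology.isQuotientMap_iff_isClosed]
    refine ⟨hsurj, fun Z => ⟨fun h => h.preimage f'.continuous, fun h => ?_⟩⟩
    rw [← closure_subset_iff_isClosed]
    intro y hy
    rw [← Set.image_preimage_eq Z hsurj] at hy
    obtain ⟨z, hz, hzy⟩ :=
      Groth.Agent.Lib.ClosureSpecH7.exists_specializes_of_mem_closure_image f' _ h y hy
    exact (key y (f' z) hzy Z h hz).1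

end Groth.Agent.S14767
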