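import Groth.Statements.S14768
import Mathlib
import Groth.Agent.Lib.RefVal16_helper6
-- import your own Groth.Agent.* helpers here

set_option autoImplicit false
universe u
open CategoryTheory CategoryTheory.Limits AlgebraicGeometry
open Subtr

namespace Groth.Agent.S14768

/-- Let f : X ⟶ Y be any morphism of schemes. Then every base change of f has the lifting property for
ordered pairs of points if and only if this holds for the base changes X ×_Y Spec V ⟶ Spec V along
all morphisms Spec V ⟶ Y with V a valuation ring. (The published statement is about universally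
subtrusive morphisms and assumes f universally submersive for the constructible topologies; the
lifting property alone descends from valuation rings with the same proof, and for quasi-compact f
the two statements agree.) -/
theorem result {X Y : Scheme.{u}} (f : X ⟶ Y) :
    Subtr.UnivSSubtrusive f ↔
      ∀ (V : Type u) [CommRing V] [IsDomain V] [ValuationRing V] (g : Spec (CommRingCat.of V) ⟶ Y),
        Subtr.IsSSubtrusive (pullback.snd f g) := by

  constructor
  · intro H V _ _ _ g
    exact H _ _ _ (IsPullback.of_hasPullback f g).flip
  · intro H X' Y' i₁ i₂ f' hsq y y' hyy'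
    obtain ⟨V, _, _, _, g', v₁, hv₁, hcl⟩ :=
      Groth.Agent.Lib.RefVal.exists_valuationRing_of_specializes y' y hyy'
    obtain ⟨x, x', hxx', hx, hx'⟩ := H V (g' ≫ i₂) (IsLocalRing.specializes_closedPoint v₁)
    have hw : (pullback.snd f (g' ≫ i₂) ≫ g') ≫ i₂ = pullback.fst f (g' ≫ i₂) ≫ f := by
      rw [Category.assoc, pullback.condition]
    refine ⟨hsq.lift (pullback.snd f (g' ≫ i₂) ≫ g') (pullback.fst f (g' ≫ i₂)) hw x,
      hsq.lift (pullback.snd f (g' ≫ i₂) ≫ g') (pullback.fst f (g' ≫ i₂)) hw x',
      hxx'.map (hsq.lift _ _ hw).continuous, ?_, ?_⟩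
    · rw [← Scheme.Hom.comp_apply, hsq.lift_fst, Scheme.Hom.comp_apply, hx, hcl]
    · rw [← Scheme.Hom.comp_apply, hsq.lift_fst, Scheme.Hom.comp_apply, hx', hv₁]

end Groth.Agent.S14768
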