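import Groth.Statements.S14769
import Mathlib
import Groth.Agent.Lib.RefVal17_helper6
-- import your own Groth.Agent.* helpers here

set_option autoImplicit false
universe u
open CategoryTheory CategoryTheory.Limits AlgebraicGeometry
open Subtr

namespace Groth.Agent.S14769

/-- Let f : X ⟶ Y be any morphism of schemes. Then every base change of f has the lifting property for
ordered pairs of points if and only if, for every valuation ring V and morphism g : Spec V ⟶ Y,
there are a valuation ring V', a morphism a : Spec V' ⟶ X and a surjective morphism b : Spec V' ⟶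
Spec V with a ≫ f = b ≫ g. (The published statement assumes f universally submersive for the
constructible topologies and concludes universal subtrusiveness; for quasi-compact f the two agree.) -/
theorem result {X Y : Scheme.{u}} (f : X ⟶ Y) :
    Subtr.UnivSSubtrusive f ↔
      ∀ (V : Type u) [CommRing V] [IsDomain V] [ValuationRing V] (g : Spec (CommRingCat.of V) ⟶ Y),
        ∃ (V' : Type u) (_ : CommRing V') (_ : IsDomain V') (_ : ValuationRing V')
          (a : Spec (CommRingCat.of V') ⟶ X) (b : Spec (CommRingCat.of V') ⟶ Spec (CommRingCat.of V)),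
          Surjective b ∧ a ≫ f = b ≫ g := by

  constructor
  · intro H V _ _ _ g
    have Hp : Subtr.IsSSubtrusive (pullback.snd f g) :=
      H _ _ _ (IsPullback.of_hasPullback f g).flip
    have hη : ((⊥ : PrimeSpectrum V) : Spec (CommRingCat.of V)) ⤳ IsLocalRing.closedPoint V :=
      IsLocalRing.specializes_closedPoint _
    obtain ⟨x, x', hxx', hx, hx'⟩ := Hp hη
    obtain ⟨V', d, e, hd₁, hd₂⟩ :=
      Groth.Agent.Lib.RefVal.exists_dominating (𝟙 (pullback f g)) x x' hxx'
    refine ⟨↥V', inferInstance, inferInstance, inferInstance, d ≫ pullback.fst f g,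
      d ≫ pullback.snd f g, ?_, ?_⟩
    · refine Groth.Agent.Lib.RefVal.surjective_of_generic_closed _
        (Spec.map (CommRingCat.ofHom V'.subtype)
          (IsLocalRing.closedPoint ((pullback f g).residueField x'))) ?_ ?_
      · rw [Scheme.Hom.comp_apply, ← Scheme.Hom.comp_apply _ d, hd₁, Category.comp_id,
          Scheme.fromSpecResidueField_apply, hx']
      · have hloc : IsLocalHom (CommRingCat.ofHom (IsLocalRing.residue ↥V')).hom :=
          IsLocalHom.of_surjective _ IsLocalRing.residue_surjective
        have h1 := Groth.Agent.Lib.RefVal.comp_closedPoint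
          (CommRingCat.ofHom (IsLocalRing.residue ↥V')) d
        rw [Scheme.Hom.comp_apply, ← h1, hd₂, Scheme.Hom.comp_apply,
          Scheme.fromSpecResidueField_apply, hx]
    · rw [Category.assoc, Category.assoc, pullback.condition]
  · intro H X' Y' i₁ i₂ f' hsq y y' hyy'
    obtain ⟨V, _, _, _, g', v₁, hv₁, hcl⟩ :=
      Groth.Agent.Lib.RefVal.exists_valuationRing_of_specializes y' y hyy'
    obtain ⟨V', _, _, _, a, b, hb, hab⟩ := H V (g' ≫ i₂)
    obtain ⟨w, hw⟩ := b.surjective v₁
    have hbcl := Groth.Agent.Lib.RefVal.closedPoint_of_surjective b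
    have hcomm : (b ≫ g') ≫ i₂ = a ≫ f := by
      rw [Category.assoc, hab]
    refine ⟨hsq.lift (b ≫ g') a hcomm (IsLocalRing.closedPoint V'),
      hsq.lift (b ≫ g') a hcomm w,
      (IsLocalRing.specializes_closedPoint w).map (hsq.lift _ _ hcomm).continuous, ?_, ?_⟩
    · rw [← Scheme.Hom.comp_apply, hsq.lift_fst, Scheme.Hom.comp_apply, hbcl, hcl]
    · rw [← Scheme.Hom.comp_apply, hsq.lift_fst, Scheme.Hom.comp_apply, hw, hv₁]

end Groth.Agent.S14769
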