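import Groth.Statements.S14818
import Mathlib
import Groth.Agent.Lib.NormPic1_helper5

set_option autoImplicit false
universe u
open CategoryTheory CategoryTheory.Limits AlgebraicGeometry
open PicF

namespace Groth.Agent.S14818

/-- Let X be a connected locally Noetherian scheme, f : X' → X a finite locally free morphism of
constant degree d (a finite flat covering of X of degree d) and L an invertible O_X-module whose
pullback f^*L is isomorphic to O_{X'}. Then L^{⊗d} ≅ O_X; in particular L has finite order in Pic(X)
dividing the degree of f. -/
theorem result (X X' : Scheme.{u})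
    [IsLocallyNoetherian X] [ConnectedSpace X] (f : X' ⟶ X) (d : ℕ) (hf : Mor2.IsFinLocFreeOfDeg d f)
    (L : X.Modules) (hL : PicF.IsInvertible L)
    (htriv : Nonempty ((Scheme.Modules.pullback f).obj L ≅ Coh.structureModule X')) :
    Nonempty (CohB1.tensorPow L d ≅ Coh.structureModule X) := by
  rcases Nat.eq_zero_or_pos d with rfl | hd
  · exact ⟨Iso.refl _⟩
  · obtain ⟨N⟩ := Groth.Agent.Lib.FlatNormH4.main8878 f d hd hf
    exact Groth.Agent.NormPic.nonempty_tensorPow_iso_of_norm f hL N htriv.some

end Groth.Agent.S14818
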