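import Groth.Statements.S14827
-- import your own Groth.Agent.* helpers here

set_option autoImplicit false
universe u
open CategoryTheory MonoidalCategory CartesianMonoidalCategory MonObj GrpObj AlgebraicGeometry
open AbVar

namespace Groth.Agent.S14827

/-- Over a field k (the published statement is over a base scheme S), let X be a proper k-scheme with
H^0(X, O_X) one-dimensional and a k-rational point x₀, and alb : X → A the Albanese morphism for the
base point x₀ (A an abelian variety — proper, geometrically integral group scheme — with alb(x₀) =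
0, universal among pointed morphisms to geometrically reduced, connected, proper group schemes). For
a second k-rational point x₁ let alb' = alb · (constant map with value alb(x₁))⁻¹, i.e. alb followed
by the translation of A by −alb(x₁). Then alb' is the Albanese morphism of X pointed by x₁: alb'(x₁)
= 0, and every k-morphism g : X → B to an abelian variety B with g(x₁) = 0 equals alb' ≫ h for a
unique homomorphism h : A → B. -/
theorem result (k : Type u) [Field k] (X : Scheme.{u}) [X.Over (Spec (CommRingCat.of k))]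
    [IsProper (X ↘ Spec (CommRingCat.of k))] (h0 : Module.finrank k (Coh.HH X (Coh.structureModule X) 0) = 1)
    (x₀ : 𝟙_ (Over (Spec (CommRingCat.of k))) ⟶ Over.mk (X ↘ Spec (CommRingCat.of k)))
    (A : Over (Spec (CommRingCat.of k))) [GrpObj A] [IsProper A.hom] [GeometricallyIntegral A.hom]
    (alb : Over.mk (X ↘ Spec (CommRingCat.of k)) ⟶ A) (halb : x₀ ≫ alb = η[A])
    (huniv : ∀ (B : Over (Spec (CommRingCat.of k))) [GrpObj B] [IsProper B.hom] [GeometricallyReduced B.hom] [ConnectedSpace ↥B.left]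
      (g : Over.mk (X ↘ Spec (CommRingCat.of k)) ⟶ B), x₀ ≫ g = η[B] → ∃! h : A ⟶ B, IsMonHom h ∧ alb ≫ h = g)
    (x₁ : 𝟙_ (Over (Spec (CommRingCat.of k))) ⟶ Over.mk (X ↘ Spec (CommRingCat.of k))) :
    x₁ ≫ (alb * (toUnit (Over.mk (X ↘ Spec (CommRingCat.of k))) ≫ x₁ ≫ alb)⁻¹) = η[A] ∧
    ∀ (B : Over (Spec (CommRingCat.of k))) [GrpObj B] [IsProper B.hom] [GeometricallyReduced B.hom] [ConnectedSpace ↥B.left]
      (g : Over.mk (X ↘ Spec (CommRingCat.of k)) ⟶ B), x₁ ≫ g = η[B] →
        ∃! h : A ⟶ B, IsMonHom h ∧ (alb * (toUnit (Over.mk (X ↘ Spec (CommRingCat.of k))) ≫ x₁ ≫ alb)⁻¹) ≫ h = g := by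
  have htu : ∀ (y : 𝟙_ (Over (Spec (CommRingCat.of k))) ⟶ (Over.mk (X ↘ Spec (CommRingCat.of k)))), y ≫ toUnit (Over.mk (X ↘ Spec (CommRingCat.of k))) = 𝟙 _ :=
    fun y => toUnit_unique _ _
  constructor
  · rw [MonObj.comp_mul, GrpObj.comp_inv, ← Category.assoc, htu, Category.id_comp, mul_inv_cancel]
    exact (MonObj.one_eq_one A).symm
  · intro B _ _ _ _ g hg
    -- the x₀-pointed version of g
    set g' : (Over.mk (X ↘ Spec (CommRingCat.of k))) ⟶ B := g * (toUnit (Over.mk (X ↘ Spec (CommRingCat.of k))) ≫ x₀ ≫ g)⁻¹ with hg'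
    have hx₀g' : x₀ ≫ g' = η[B] := by
      rw [hg', MonObj.comp_mul, GrpObj.comp_inv, ← Category.assoc, htu, Category.id_comp, mul_inv_cancel]
      exact (MonObj.one_eq_one B).symm
    obtain ⟨h, ⟨hh, hh2⟩, huniq⟩ := huniv B g' hx₀g'
    haveI := hh
    have hx₁g : x₁ ≫ g = 1 := by rw [hg]; exact MonObj.one_eq_one B
    have key : ∀ (h' : A ⟶ B) [IsMonHom h'], alb ≫ h' = g' →
        (alb * (toUnit (Over.mk (X ↘ Spec (CommRingCat.of k))) ≫ x₁ ≫ alb)⁻¹) ≫ h' = g := by
      intro h' _ hh'
      rw [MonObj.mul_comp, GrpObj.inv_comp, Category.assoc, Category.assoc, hh', hg']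
      rw [MonObj.comp_mul, GrpObj.comp_inv, ← Category.assoc x₁, htu, Category.id_comp, hx₁g, _root_.one_mul,
        GrpObj.comp_inv, _root_.inv_inv, inv_mul_cancel_right]
    refine ⟨h, ⟨hh, key h hh2⟩, ?_⟩
    rintro h' ⟨hh', hh'2⟩
    haveI := hh'
    apply huniq
    refine ⟨hh', ?_⟩
    -- alb ≫ h' = g * (toUnit ≫ k) with k determined by the base point x₀
    have e1 : alb ≫ h' = g * (toUnit (Over.mk (X ↘ Spec (CommRingCat.of k))) ≫ x₁ ≫ alb ≫ h') := by
      rw [← hh'2, MonObj.mul_comp, GrpObj.inv_comp, Category.assoc, Category.assoc, inv_mul_cancel_right]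
    have e2 : x₀ ≫ alb ≫ h' = 1 := by
      rw [← Category.assoc, halb, MonObj.one_eq_one A, MonObj.one_comp]
    have e3 : x₁ ≫ alb ≫ h' = (x₀ ≫ g)⁻¹ := by
      have := congrArg (fun f => x₀ ≫ f) e1
      rw [e2, MonObj.comp_mul, ← Category.assoc x₀, htu, Category.id_comp] at this
      exact (eq_inv_of_mul_eq_one_right this.symm)
    rw [e1, e3, hg', GrpObj.comp_inv]

end Groth.Agent.S14827
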