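import Groth.Statements.S14839
import Groth.Agent.Lib.CoeffSpace_helper9

set_option autoImplicit false
universe u v
open HopfRep

namespace Groth.Agent.S14839

open TensorProduct in
/-- Over a field K, every simple coalgebra is finite-dimensional. Here a subcoalgebra of C is a subspace
B whose comultiplication lands in the image of B ⊗ B in C ⊗ C, and C is simple when it is nonzero
and its only subcoalgebras are 0 and C. -/
theorem result {K : Type u} {C : Type v} [Field K] [AddCommGroup C]
    [Module K C] [Coalgebra K C] [Nontrivial C]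
    (hsimple : ∀ B : Submodule K C,
      (∀ b ∈ B, CoalgebraStruct.comul (R := K) b ∈ LinearMap.range (TensorProduct.map B.subtype B.subtype)) →
        B = ⊥ ∨ B = ⊤) :
    Module.Finite K C := by
  classical
  obtain ⟨c, hc⟩ := exists_ne (0 : C)
  letI reg : HopfRep.Comod K C C := HopfRep.Comod.regular K C
  obtain ⟨E, hfin, hcE, hE⟩ :=
    Groth.Agent.Lib.ComodDual_helper9.exists_finite_subcomod_mem (k := K) (C := C) (V := C) c
  haveI := hfin
  haveI : Nontrivial E := ⟨⟨⟨c, hcE⟩, 0, fun h => hc (congrArg Subtype.val h)⟩⟩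
  letI cE : HopfRep.Comod K C E := ComodSub.Comod.restr (HopfRep.Comod.regular K C) E hE
  have hsub : Groth.Agent.Lib.Subcoalg_helper9.IsSubcoalg
      (Groth.Agent.Lib.CoeffSpace_helper9.coeffSpaceSub E hE) :=
    Groth.Agent.Lib.CoeffSpace_helper9.isSubcoalg_coeffSpace
  have hne : Groth.Agent.Lib.CoeffSpace_helper9.coeffSpaceSub E hE ≠ ⊥ :=
    Groth.Agent.Lib.CoeffSpace_helper9.coeffSpace_ne_bot
  haveI hfinD : Module.Finite K (Groth.Agent.Lib.CoeffSpace_helper9.coeffSpaceSub E hE) :=
    Groth.Agent.Lib.CoeffSpace_helper9.finite_coeffSpace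
  rcases hsimple _ hsub with h | h
  · exact absurd h hne
  · rw [h] at hfinD
    exact Module.Finite.equiv (Submodule.topEquiv (R := K) (M := C))

end Groth.Agent.S14839
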