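import Groth.Statements.S1484
import Mathlib.RingTheory.Algebraic.Integral
import Mathlib.RingTheory.Ideal.Operations
-- import your own Groth.Agent.* helpers here

set_option autoImplicit false
universe u
open FlatMor

namespace Groth.Agent.S1484

/-- Step 1: an element of `J` lying in all `p j`, `j ≠ i`, but not in `p i`. -/
theorem exists_mem_not_mem {R : Type u} [CommRing R] {r : ℕ} (p : Fin r → Ideal R) [∀ i, (p i).IsPrime]
    (hp : ∀ i j, i ≠ j → ¬ p i ≤ p j) (J : Ideal R) (hJ : ∀ i, ¬ J ≤ p i) (i : Fin r) :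
    ∃ z ∈ J, (∀ j, j ≠ i → z ∈ p j) ∧ z ∉ p i := by
  classical
  have hprime : (p i).IsPrime := inferInstance
  have h1 : ¬ (J ⊓ (Finset.univ.erase i).inf p) ≤ p i := by
    intro h
    rcases hprime.inf_le.mp h with h | h
    · exact hJ i h
    · obtain ⟨j, hj, hji⟩ := hprime.inf_le'.mp h
      exact hp j i (Finset.ne_of_mem_erase hj) hji
  obtain ⟨z, hz, hzi⟩ := SetLike.not_le_iff_exists.mp h1
  refine ⟨z, hz.1, fun j hj => ?_, hzi⟩
  have h2 : (Finset.univ.erase i).inf p ≤ p j :=
    Finset.inf_le (Finset.mem_erase.mpr ⟨hj, Finset.mem_univ j⟩)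
  exact h2 hz.2

/-- Step 2: if `u ≠ 0` in the residue field of `q` and the residue field is not algebraic over the
subfield `k`, then some multiple `t * z` of a lift `z` of `u` is transcendental. -/
theorem exists_mul_transcendental {R : Type u} [CommRing R] (q : Ideal R) [q.IsPrime]
    (k : Subfield q.ResidueField) (hk : ¬ Algebra.IsAlgebraic ↥k q.ResidueField)
    (z : R) (hz : z ∉ q) :
    ∃ t : R, Transcendental ↥k (algebraMap R q.ResidueField (t * z)) := by
  by_contra hcon
  apply hk
  have hcon' : ∀ t : R, IsAlgebraic ↥k (algebraMap R q.ResidueField (t * z)) := fun t => by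
    by_contra h
    exact hcon ⟨t, h⟩
  have hu : algebraMap R q.ResidueField z ≠ 0 := by
    rwa [Ne, Ideal.algebraMap_residueField_eq_zero]
  have hualg : IsAlgebraic ↥k (algebraMap R q.ResidueField z) := by
    simpa using hcon' 1
  have hR : ∀ t : R, IsAlgebraic ↥k (algebraMap R q.ResidueField t) := fun t => by
    have h1 := (hcon' t).mul hualg.inv
    rwa [map_mul, mul_assoc, mul_inv_cancel₀ hu, mul_one] at h1
  have hQ : ∀ t : R ⧸ q, IsAlgebraic ↥k (algebraMap (R ⧸ q) q.ResidueField t) := fun t => by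
    obtain ⟨t, rfl⟩ := Ideal.Quotient.mk_surjective t
    rw [Ideal.algebraMap_quotient_residueField_mk]
    exact hR t
  refine ⟨fun x => ?_⟩
  obtain ⟨a, b, -, rfl⟩ := IsFractionRing.div_surjective (R ⧸ q) x
  rw [div_eq_mul_inv]
  exact (hQ a).mul (hQ b).inv

/-- Let R be a ring, p_1, …, p_r primes of R none of which is contained in another, k_i ⊆ κ(p_i)
subfields over which κ(p_i) is not algebraic, and J an ideal of R contained in none of the p_i. Then
some x ∈ J has image in κ(p_i) transcendental over k_i for every i. -/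
theorem result {R : Type u} [CommRing R] {r : ℕ} (p : Fin r → Ideal R) [∀ i, (p i).IsPrime]
    (hp : ∀ i j, i ≠ j → ¬ p i ≤ p j) (k : ∀ i, Subfield (p i).ResidueField)
    (hk : ∀ i, ¬ Algebra.IsAlgebraic ↥(k i) (p i).ResidueField) (J : Ideal R) (hJ : ∀ i, ¬ J ≤ p i) :
    ∃ x ∈ J, ∀ i, Transcendental ↥(k i) (algebraMap R (p i).ResidueField x) := by
  classical
  choose z hzJ hzj hzi using exists_mem_not_mem p hp J hJ
  have h2 : ∀ i, ∃ t : R, Transcendental ↥(k i) (algebraMap R (p i).ResidueField (t * z i)) :=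
    fun i => exists_mul_transcendental (p i) (k i) (hk i) (z i) (hzi i)
  choose t ht using h2
  refine ⟨∑ j, t j * z j, J.sum_mem fun j _ => J.mul_mem_left _ (hzJ j), fun i => ?_⟩
  have : algebraMap R (p i).ResidueField (∑ j, t j * z j) =
      algebraMap R (p i).ResidueField (t i * z i) := by
    rw [map_sum]
    refine Finset.sum_eq_single i (fun j _ hj => ?_) (fun h => absurd (Finset.mem_univ i) h)
    rw [Ideal.algebraMap_residueField_eq_zero]
    exact (p i).mul_mem_left _ (hzj j i (Ne.symm hj))
  rw [this]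
  exact ht i

end Groth.Agent.S1484
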