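import Groth.Statements.S14842
import Groth.Agent.Lib.CoeffSpace_helper9
import Groth.Agent.Lib.ComodFlag_helper9

set_option autoImplicit false
universe u v
open HopfRep

namespace Groth.Agent.S14842

open TensorProduct in
/-- Over a field K, every simple subcoalgebra D of a coalgebra C is the coefficient space of a simple
comodule. Precisely: there is a subspace E of C contained in D which is a simple subcomodule of the
regular right comodule C (E is nonzero, stable under the coaction, and its only subcomodules are 0
and E) and such that D is the least subspace D' of C with comul(E) inside the image of E ⊗ D'. Here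
a subcoalgebra of C is a subspace B whose comultiplication lands in the image of B ⊗ B, and a simple
subcoalgebra is a nonzero subcoalgebra D whose only subcoalgebras contained in D are 0 and D.
(Stated for right comodules; the published statement is for left comodules.) -/
theorem result {K : Type u} {C : Type v} [Field K]
    [AddCommGroup C] [Module K C] [Coalgebra K C]
    (D : Submodule K C) (hD0 : D ≠ ⊥) (hD : (∀ b ∈ D, CoalgebraStruct.comul (R := K) b ∈ LinearMap.range (TensorProduct.map D.subtype D.subtype)))
    (hDs : ∀ B : Submodule K C, B ≤ D → (∀ b ∈ B, CoalgebraStruct.comul (R := K) b ∈ LinearMap.range (TensorProduct.map B.subtype B.subtype)) → B = ⊥ ∨ B = D) :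
    ∃ E : Submodule K C, E ≤ D ∧ E ≠ ⊥ ∧ HopfRep.IsSubcomod (k := K) (A := C) E ∧
      (∀ E' : Submodule K C, E' ≤ E → HopfRep.IsSubcomod (k := K) (A := C) E' → E' = ⊥ ∨ E' = E) ∧
      IsLeast {D' : Submodule K C |
        ∀ e ∈ E, CoalgebraStruct.comul (R := K) e ∈ LinearMap.range (TensorProduct.map E.subtype D'.subtype)} D := by
  classical
  letI reg : HopfRep.Comod K C C := HopfRep.Comod.regular K C
  -- D is a subcomodule
  have hDsub : HopfRep.IsSubcomod (k := K) (A := C) D :=
    Groth.Agent.Lib.Subcoalg_helper9.isSubcomod_of_isSubcoalg D hD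
  -- pick a nonzero element of D and its cyclic subcomodule
  obtain ⟨d, hdD, hd0⟩ := (Submodule.ne_bot_iff D).mp hD0
  -- the set of nonzero subcomodules inside D which are finite-dimensional: pick minimal dimension
  let P : ℕ → Prop := fun n => ∃ S : Submodule K C, S ≤ D ∧ HopfRep.IsSubcomod (k := K) (A := C) S ∧ S ≠ ⊥ ∧
    Module.Finite K S ∧ Module.finrank K S = n
  have hP : ∃ n, P n := by
    refine ⟨_, Groth.Agent.Lib.ComodDual_helper9.cyclicSub (k := K) (C := C) d, ?_,
      Groth.Agent.Lib.ComodDual_helper9.isSubcomod_cyclicSub d, ?_,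
      Groth.Agent.Lib.ComodDual_helper9.finite_cyclicSub d, rfl⟩
    · rintro _ ⟨φ, rfl⟩
      exact Groth.Agent.Lib.ComodDual_helper9.act_mem_of_isSubcomod D hDsub φ hdD
    · intro h
      have := Groth.Agent.Lib.ComodDual_helper9.self_mem_cyclicSub (k := K) (C := C) d
      rw [h] at this
      exact hd0 ((Submodule.mem_bot K).mp this)
  obtain ⟨E, hED, hE, hEne, hEfin, hErank⟩ := Nat.find_spec hP
  haveI := hEfin
  have hmin : ∀ E' : Submodule K C, E' ≤ E → HopfRep.IsSubcomod (k := K) (A := C) E' → E' = ⊥ ∨ E' = E := by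
    intro E' hle hE'
    by_cases h0 : E' = ⊥
    · left; exact h0
    · right
      haveI : Module.Finite K E' := Submodule.finiteDimensional_of_le hle
      have h1 : Nat.find hP ≤ Module.finrank K E' :=
        Nat.find_min' hP ⟨E', hle.trans hED, hE', h0, inferInstance, rfl⟩
      exact Submodule.eq_of_le_of_finrank_le hle (hErank ▸ h1)
  refine ⟨E, hED, hEne, hE, hmin, ?_⟩
  -- D = coeffSpaceSub E
  haveI : Nontrivial E := Submodule.nontrivial_iff_ne_bot.mpr hEne
  letI cE : HopfRep.Comod K C E := ComodSub.Comod.restr (HopfRep.Comod.regular K C) E hE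
  have hsub : Groth.Agent.Lib.Subcoalg_helper9.IsSubcoalg
      (Groth.Agent.Lib.CoeffSpace_helper9.coeffSpaceSub E hE) :=
    Groth.Agent.Lib.CoeffSpace_helper9.isSubcoalg_coeffSpace
  have hne : Groth.Agent.Lib.CoeffSpace_helper9.coeffSpaceSub E hE ≠ ⊥ :=
    Groth.Agent.Lib.CoeffSpace_helper9.coeffSpace_ne_bot
  have hle : Groth.Agent.Lib.CoeffSpace_helper9.coeffSpaceSub E hE ≤ D :=
    Groth.Agent.Lib.CoeffSpace_helper9.coeffSpaceSub_le_of_le_isSubcoalg E hE D hD hED
  have heq : Groth.Agent.Lib.CoeffSpace_helper9.coeffSpaceSub E hE = D := by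
    rcases hDs _ hle hsub with h | h
    · exact absurd h hne
    · exact h
  rw [← heq]
  exact Groth.Agent.Lib.CoeffSpace_helper9.isLeast_coeffSpaceSub E hE

end Groth.Agent.S14842
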