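import Groth.Statements.S14846
import Mathlib
-- import your own Groth.Agent.* helpers here

set_option autoImplicit false
universe u v w
open Brauer

namespace Groth.Agent.S14846

section aux
open TensorProduct
open scoped Classical

variable {K : Type*} {L : Type*} [Field K] [Field L] [Algebra K L]
  {A : Type*} [Ring A] [Algebra K A] {ι : Type*} (ℬ : Module.Basis ι K A)

/-- coordinates of `L ⊗ A` w.r.t. a `K`-basis of `A` -/
noncomputable def co : L ⊗[K] A ≃ₗ[K] ι →₀ L := TensorProduct.equivFinsuppOfBasisRight ℬ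

theorem co_tmul (l : L) (a : A) (j : ι) : co ℬ (l ⊗ₜ[K] a) j = ℬ.repr a j • l :=
  TensorProduct.equivFinsuppOfBasisRight_apply_tmul_apply ℬ l a j

/-- the action of the Galois group through the first factor -/
noncomputable abbrev G (γ : L ≃ₐ[K] L) : L ⊗[K] A →ₐ[K] L ⊗[K] A :=
  Algebra.TensorProduct.map (γ : L →ₐ[K] L) (AlgHom.id K A)

theorem G_tmul (γ : L ≃ₐ[K] L) (l : L) (a : A) :
    G (A := A) γ (l ⊗ₜ[K] a) = γ l ⊗ₜ[K] a := by
  simp [G]

theorem co_G (γ : L ≃ₐ[K] L) (x : L ⊗[K] A) (j : ι) : co ℬ (G γ x) j = γ (co ℬ x j) := by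
  induction x using TensorProduct.induction_on with
  | zero => simp
  | tmul l a => rw [G_tmul, co_tmul, co_tmul, map_smul]
  | add x y hx hy => simp only [map_add, Finsupp.add_apply, hx, hy]

theorem co_mul_left (l : L) (x : L ⊗[K] A) (j : ι) :
    co ℬ ((l ⊗ₜ[K] (1 : A)) * x) j = l * co ℬ x j := by
  induction x using TensorProduct.induction_on with
  | zero => simp
  | tmul l' a =>
    rw [Algebra.TensorProduct.tmul_mul_tmul, one_mul, co_tmul, co_tmul, mul_smul_comm]
  | add x y hx hy => simp only [mul_add, map_add, Finsupp.add_apply, hx, hy]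

theorem eq_sum_co (x : L ⊗[K] A) : x = (co ℬ x).sum fun j l => l ⊗ₜ[K] ℬ j := by
  have h := (co ℬ).symm_apply_apply x
  rw [co, TensorProduct.equivFinsuppOfBasisRight_symm_apply] at h
  exact h.symm

theorem G_G (δ γ : L ≃ₐ[K] L) (x : L ⊗[K] A) : G δ (G γ x) = G (δ * γ) x := by
  induction x using TensorProduct.induction_on with
  | zero => simp
  | tmul l a => rw [G_tmul, G_tmul, G_tmul, AlgEquiv.mul_apply]
  | add x y hx hy => simp only [map_add, hx, hy]

theorem G_one (x : L ⊗[K] A) : G (1 : L ≃ₐ[K] L) x = x := by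
  induction x using TensorProduct.induction_on with
  | zero => simp
  | tmul l a => rw [G_tmul, AlgEquiv.one_apply]
  | add x y hx hy => simp only [map_add, hx, hy]

/-- Galois descent for two-sided ideals: a nonzero Galois-stable two-sided ideal of `L ⊗ A`
(`A` simple) is everything. -/
theorem one_mem_of_stable [IsGalois K L] [IsSimpleRing A] (N : TwoSidedIdeal (L ⊗[K] A))
    (hst : ∀ (γ : L ≃ₐ[K] L) (y : L ⊗[K] A), y ∈ N → G γ y ∈ N) (hN : N ≠ ⊥) :
    (1 : L ⊗[K] A) ∈ N := by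
  set ℬ := Module.Basis.ofVectorSpace K A with hℬ
  have hex : ∃ x ∈ N, x ≠ 0 := by
    by_contra hcon
    apply hN
    rw [eq_bot_iff]
    intro x hx
    rw [TwoSidedIdeal.mem_bot]
    by_contra hx0
    exact hcon ⟨x, hx, hx0⟩
  have hP : ∃ n : ℕ, ∃ x ∈ N, x ≠ 0 ∧ (co ℬ x).support.card = n := by
    obtain ⟨x, hx, hx0⟩ := hex
    exact ⟨_, x, hx, hx0, rfl⟩
  obtain ⟨x, hxN, hx0, hxn⟩ := Nat.find_spec hP
  have hmin : ∀ z ∈ N, (co ℬ z).support.card < Nat.find hP → z = 0 := by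
    intro z hz hlt
    by_contra hz0
    exact Nat.find_min hP hlt ⟨z, hz, hz0, rfl⟩
  have hcox : co ℬ x ≠ 0 := fun h => hx0 ((co ℬ).map_eq_zero_iff.1 h)
  obtain ⟨j0, hj0⟩ := Finsupp.support_nonempty_iff.2 hcox
  have hl0 : co ℬ x j0 ≠ 0 := Finsupp.mem_support_iff.1 hj0
  obtain ⟨x', hx'def⟩ : ∃ x', x' = ((co ℬ x j0)⁻¹ ⊗ₜ[K] (1 : A)) * x := ⟨_, rfl⟩
  have hx'N : x' ∈ N := by rw [hx'def]; exact N.mul_mem_left _ _ hxN
  have hco' : ∀ j, co ℬ x' j = (co ℬ x j0)⁻¹ * co ℬ x j := fun j => by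
    rw [hx'def]; exact co_mul_left ℬ _ _ j
  have hco'0 : co ℬ x' j0 = 1 := by rw [hco', inv_mul_cancel₀ hl0]
  have hsupp : (co ℬ x').support ⊆ (co ℬ x).support := by
    intro j hj
    rw [Finsupp.mem_support_iff] at hj ⊢
    intro h0; apply hj; rw [hco', h0, mul_zero]
  have hfix : ∀ (γ : L ≃ₐ[K] L) j, γ (co ℬ x' j) = co ℬ x' j := by
    intro γ j
    have hz : G γ x' - x' = 0 := by
      apply hmin _ (N.sub_mem (hst γ _ hx'N) hx'N)
      rw [← hxn]
      apply Finset.card_lt_card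
      rw [Finset.ssubset_iff_of_subset]
      · refine ⟨j0, hj0, ?_⟩
        rw [Finsupp.mem_support_iff, not_not, map_sub, Finsupp.sub_apply, co_G, hco'0, map_one,
          sub_self]
      · intro i hi
        apply hsupp
        rw [Finsupp.mem_support_iff] at hi ⊢
        intro h0; apply hi
        rw [map_sub, Finsupp.sub_apply, co_G, h0, map_zero, sub_self]
    have h2 := congrArg (fun z => co ℬ z j) hz
    simp only [map_sub, Finsupp.sub_apply, co_G, map_zero, Finsupp.zero_apply] at h2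
    exact sub_eq_zero.1 h2
  have hK : ∀ j, ∃ c : K, algebraMap K L c = co ℬ x' j := fun j =>
    (InfiniteGalois.mem_range_algebraMap_iff_fixed (k := K) (K := L) _).2 (fun γ => hfix γ j)
  choose c hc using hK
  obtain ⟨a, ha⟩ : ∃ a : A, a = (co ℬ x').sum fun j _ => c j • ℬ j := ⟨_, rfl⟩
  have hx'a : x' = (1 : L) ⊗ₜ[K] a := by
    conv_lhs => rw [eq_sum_co ℬ x']
    rw [ha, Finsupp.sum, Finsupp.sum, TensorProduct.tmul_sum]
    apply Finset.sum_congr rfl
    intro j _
    rw [← hc j, Algebra.algebraMap_eq_smul_one, TensorProduct.smul_tmul]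
  obtain ⟨N0, hN0def⟩ : ∃ N0 : TwoSidedIdeal A,
      N0 = N.comap (Algebra.TensorProduct.includeRight : A →ₐ[K] L ⊗[K] A) := ⟨_, rfl⟩
  have haN0 : a ∈ N0 := by
    rw [hN0def, TwoSidedIdeal.mem_comap, Algebra.TensorProduct.includeRight_apply, ← hx'a]
    exact hx'N
  have hN0 : N0 = ⊤ := by
    rcases eq_bot_or_eq_top N0 with h | h
    · exfalso
      rw [h, TwoSidedIdeal.mem_bot] at haN0
      rw [haN0, TensorProduct.tmul_zero] at hx'a
      rw [hx'a, map_zero, Finsupp.zero_apply] at hco'0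
      exact zero_ne_one hco'0
    · exact h
  have h1 : (1 : A) ∈ N0 := (TwoSidedIdeal.one_mem_iff N0).2 hN0
  rw [hN0def, TwoSidedIdeal.mem_comap, Algebra.TensorProduct.includeRight_apply] at h1
  exact h1

end aux


open TensorProduct in
/-- Let L/K be a Galois extension with group Γ = Aut_K(L), and A a K-algebra which is a simple ring. If
L ⊗_K A is semisimple, then Γ, acting on L ⊗_K A through the first tensor factor, permutes its
simple components, i.e. its minimal nonzero two-sided ideals, transitively: any minimal two-sided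
ideal is carried onto any other by some γ ⊗ id. -/
theorem result
    {K : Type u} {L : Type v} [Field K] [Field L] [Algebra K L] [IsGalois K L]
    {A : Type w} [Ring A] [Algebra K A] [IsSimpleRing A]
    [IsSemisimpleRing (L ⊗[K] A)]
    (I J : TwoSidedIdeal (L ⊗[K] A)) (hI : IsAtom I) (hJ : IsAtom J) :
    ∃ γ : L ≃ₐ[K] L, (J : Set (L ⊗[K] A)) =
      Algebra.TensorProduct.map (γ : L →ₐ[K] L) (AlgHom.id K A) '' (I : Set (L ⊗[K] A)) := by

  classical
  by_contra hcon
  push_neg at hcon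
  have hinv : ∀ (γ : L ≃ₐ[K] L) (x : L ⊗[K] A), G γ⁻¹ (G γ x) = x := fun γ x => by
    rw [G_G, inv_mul_cancel, G_one]
  have hinv' : ∀ (γ : L ≃ₐ[K] L) (x : L ⊗[K] A), G γ (G γ⁻¹ x) = x := fun γ x => by
    rw [G_G, mul_inv_cancel, G_one]
  have hdisj : ∀ γ : L ≃ₐ[K] L, ∀ z : L ⊗[K] A, z ∈ J → G γ⁻¹ z ∈ I → z = 0 := by
    intro γ
    rcases hJ.le_iff.1 (inf_le_left : J ⊓ I.comap (G (A := A) γ⁻¹) ≤ J) with h | h
    · intro z hzJ hzI
      have h1 : z ∈ J ⊓ I.comap (G (A := A) γ⁻¹) :=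
        (TwoSidedIdeal.mem_inf _).2 ⟨hzJ, (TwoSidedIdeal.mem_comap _).2 hzI⟩
      rw [h, TwoSidedIdeal.mem_bot] at h1
      exact h1
    · exfalso
      have hJle : ∀ z ∈ J, G γ⁻¹ z ∈ I := by
        intro z hz
        have h1 : z ∈ J ⊓ I.comap (G (A := A) γ⁻¹) := by rw [h]; exact hz
        exact (TwoSidedIdeal.mem_comap _).1 ((TwoSidedIdeal.mem_inf _).1 h1).2
      have hJ'le : J.comap (G (A := A) γ) ≤ I := by
        intro x hx
        have h1 := hJle _ ((TwoSidedIdeal.mem_comap _).1 hx)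
        rwa [hinv] at h1
      have hJ'ne : J.comap (G (A := A) γ) ≠ ⊥ := by
        intro hbot
        apply hJ.1
        rw [eq_bot_iff]
        intro y hy
        rw [TwoSidedIdeal.mem_bot]
        have h1 : G γ⁻¹ y ∈ J.comap (G (A := A) γ) := by
          rw [TwoSidedIdeal.mem_comap, hinv']; exact hy
        rw [hbot, TwoSidedIdeal.mem_bot] at h1
        rw [← hinv' γ y, h1, map_zero]
      have hJ'I : J.comap (G (A := A) γ) = I := (hI.le_iff.1 hJ'le).resolve_left hJ'ne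
      apply hcon γ
      ext y
      constructor
      · intro hy
        exact ⟨G γ⁻¹ y, hJle y hy, hinv' γ y⟩
      · rintro ⟨x, hx, rfl⟩
        have h1 : x ∈ J.comap (G (A := A) γ) := by rw [hJ'I]; exact hx
        exact (TwoSidedIdeal.mem_comap _).1 h1
  obtain ⟨N, hNmem⟩ : ∃ N : TwoSidedIdeal (L ⊗[K] A),
      ∀ y, y ∈ N ↔ ∀ (δ : L ≃ₐ[K] L), ∀ x ∈ J, x * G δ y = 0 := by
    refine ⟨TwoSidedIdeal.mk' {y | ∀ (δ : L ≃ₐ[K] L), ∀ x ∈ J, x * G δ y = 0}
      (by intro δ x _; rw [map_zero, mul_zero])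
      (by intro y z hy hz δ x hx; rw [map_add, mul_add, hy δ x hx, hz δ x hx, add_zero])
      (by intro y hy δ x hx; rw [map_neg, mul_neg, hy δ x hx, neg_zero])
      (by intro r y hy δ x hx; rw [map_mul, ← mul_assoc]; exact hy δ _ (J.mul_mem_right _ _ hx))
      (by intro y r hy δ x hx; rw [map_mul, ← mul_assoc, hy δ x hx, zero_mul]), fun y => ?_⟩
    rw [TwoSidedIdeal.mem_mk']; rfl
  have hIN : I ≤ N := by
    intro y hy
    rw [hNmem]
    intro δ x hx
    apply hdisj δ (x * G δ y) (J.mul_mem_right _ _ hx)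
    rw [map_mul, hinv]
    exact I.mul_mem_left _ _ hy
  have hNne : N ≠ ⊥ := by
    intro h
    apply hI.1
    rw [eq_bot_iff, ← h]; exact hIN
  have hst : ∀ (γ : L ≃ₐ[K] L) (y : L ⊗[K] A), y ∈ N → G γ y ∈ N := by
    intro γ y hy
    rw [hNmem] at hy ⊢
    intro δ x hx
    rw [G_G]
    exact hy (δ * γ) x hx
  have h1 := (hNmem 1).1 (one_mem_of_stable N hst hNne) 1
  apply hJ.1
  rw [eq_bot_iff]
  intro x hx
  rw [TwoSidedIdeal.mem_bot]
  have h2 := h1 x hx
  rwa [map_one, mul_one] at h2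

end Groth.Agent.S14846
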