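import Groth.Statements.S14847
import Groth.Agent.Lib.TraceInt_helper9
import Groth.Agent.Lib.Integral_helper9
import Groth.Agent.S14843

set_option autoImplicit false
universe u v
open HopfRep

namespace Groth.Agent.S14847

open TensorProduct in
/-- When K is a field of characteristic zero and G = Spec A is a finite group scheme over K, the
coordinate Hopf algebra A is cosemisimple, i.e. A is the internal direct sum of simple
subcoalgebras. Here a subcoalgebra of A is a subspace B whose comultiplication lands in the image of
B ⊗ B, and a simple subcoalgebra is a nonzero subcoalgebra D whose only subcoalgebras contained in D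
are 0 and D. -/
theorem result {K : Type u} {A : Type v} [Field K] [CharZero K]
    [CommRing A] [HopfAlgebra K A] [Module.Finite K A] :
    ∃ (ι : Type v) (D : ι → Submodule K A), iSupIndep D ∧ iSup D = ⊤ ∧ ∀ i,
        D i ≠ ⊥ ∧ (∀ b ∈ (D i), CoalgebraStruct.comul (R := K) b ∈ LinearMap.range (TensorProduct.map (D i).subtype (D i).subtype)) ∧
        ∀ B : Submodule K A, B ≤ D i → (∀ b ∈ B, CoalgebraStruct.comul (R := K) b ∈ LinearMap.range (TensorProduct.map B.subtype B.subtype)) → B = ⊥ ∨ B = D i := by
  classical
  haveI : Nontrivial A := by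
    refine ⟨⟨0, 1, fun h => ?_⟩⟩
    have h1 : Coalgebra.counit (R := K) (1 : A) = 1 := Bialgebra.counit_one
    rw [← h, map_zero] at h1
    exact zero_ne_one h1
  have hpos : 0 < Module.finrank K A := Module.finrank_pos
  have hd : ((Module.finrank K A : ℕ) : K) ≠ 0 := by
    exact_mod_cast hpos.ne'
  let α : A →ₗ[K] K := ((Module.finrank K A : ℕ) : K)⁻¹ • Algebra.trace K A
  have hint : ∀ a : A, Groth.Agent.Lib.Integral_helper9.Theta K A α
      (CoalgebraStruct.comul (R := K) a) = α a • (1 : A) := by
    intro a
    have h := TraceInt9.trace_rightIntegral K A a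
    show (TensorProduct.lid K A) ((α.rTensor A) (CoalgebraStruct.comul (R := K) a)) = α a • (1 : A)
    show (TensorProduct.lid K A) (((((Module.finrank K A : ℕ) : K)⁻¹ • Algebra.trace K A).rTensor A)
      (CoalgebraStruct.comul (R := K) a)) = ((((Module.finrank K A : ℕ) : K)⁻¹ • Algebra.trace K A) a) • (1 : A)
    rw [LinearMap.rTensor_smul, LinearMap.smul_apply, map_smul, LinearMap.smul_apply, smul_assoc]
    exact congrArg _ h
  have h1 : α 1 = 1 := by
    show ((Module.finrank K A : ℕ) : K)⁻¹ • Algebra.trace K A 1 = 1
    have : Algebra.trace K A (1 : A) = ((Module.finrank K A : ℕ) : K) := by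
      have := Algebra.trace_algebraMap (S := A) (1 : K)
      rw [map_one] at this
      rw [this, nsmul_eq_mul, mul_one]
    rw [this, smul_eq_mul, inv_mul_cancel₀ hd]
  exact (Groth.Agent.S14843.result (K := K) (C := A)).mpr
    (fun V _ _ _ => Groth.Agent.Lib.Integral_helper9.isSemisimpleComod_of_integral K A α V hint h1)

end Groth.Agent.S14847
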