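import Groth.Statements.S14850
import Groth.Agent.Lib.Cosemisimple_helper9

set_option autoImplicit false
universe u v
open HopfRep
open Groth.Agent.Lib.Comod_helper9 Groth.Agent.Lib.ComodDual_helper9 Groth.Agent.Lib.Subcoalg_helper9
  Groth.Agent.Lib.CoeffSpace_helper9 Groth.Agent.Lib.ComodFlag_helper9 Groth.Agent.Lib.CoeffIso_helper9
  Groth.Agent.Lib.Cosemisimple_helper9

namespace Groth.Agent.S14850

open TensorProduct in
/-- Over a field K, a nonzero coalgebra C is simple if and only if C is isotypic as a right comodule
over itself, i.e. C is the internal direct sum of the images of a family of injective comodule maps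
from one simple right C-comodule E. Here a subcoalgebra of C is a subspace B whose comultiplication
lands in the image of B ⊗ B, and C is simple when its only subcoalgebras are 0 and C. (Stated for
the right regular comodule; the published statement allows left or right.) -/
theorem result {K : Type u} {C : Type v} [Field K] [AddCommGroup C]
    [Module K C] [Coalgebra K C] [Nontrivial C] :
    (∀ B : Submodule K C, (∀ b ∈ B, CoalgebraStruct.comul (R := K) b ∈ LinearMap.range (TensorProduct.map B.subtype B.subtype)) → B = ⊥ ∨ B = ⊤) ↔
    ∃ (E : Type v) (_ : AddCommGroup E) (_ : Module K E) (_ : HopfRep.Comod K C E),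
      HopfRep.IsSimpleComod K C E ∧
      ∃ (ι : Type v) (f : ι → (E →ₗ[K] C)),
        (∀ i, Hoch.IsComodHom C (f i) ∧ Function.Injective (f i)) ∧
        iSupIndep (fun i => LinearMap.range (f i)) ∧ (⨆ i, LinearMap.range (f i)) = ⊤ := by
  classical
  constructor
  · intro hsimple
    -- `⊤` is a simple subcoalgebra
    have htopS : IsSimpleSubcoalg (⊤ : Submodule K C) := by
      refine ⟨top_ne_bot, ?_, fun B _ hB => hsimple B hB⟩
      rw [isSubcoalg_iff]
      intro b _
      exact ⟨fun _ => trivial, fun _ => trivial⟩
    obtain ⟨E, hE, -, hEne, hmin, hcoeff⟩ := exists_simple_subcomod_of_isSimpleSubcoalg ⊤ htopS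
    letI cE : HopfRep.Comod K C E := ComodSub.Comod.restr (HopfRep.Comod.regular K C) E hE
    have hs : HopfRep.IsSimpleComod K C E :=
      isSimpleComod_restr_of_minimal (HopfRep.Comod.regular K C) E hE hEne hmin
    refine ⟨E, inferInstance, inferInstance, cE, hs, ?_⟩
    letI mC := dualModule (HopfRep.Comod.regular K C)
    letI mE := dualModule cE
    haveI := isScalarTower_dual (HopfRep.Comod.regular K C)
    haveI := isScalarTower_dual cE
    haveI : IsSimpleModule (Dual K C) E := isSimpleModule_of_isSimpleComod cE hs
    have hiso_top : isotypicComponent (Dual K C) C E = ⊤ := by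
      rw [← ofDualSubmodule_eq_top_iff (HopfRep.Comod.regular K C),
        ofDualSubmodule_isotypicComponent_eq_coeffSpace hs]
      exact hcoeff
    have hiso : IsIsotypicOfType (Dual K C) C E := IsIsotypicOfType.of_isotypicComponent_eq_top hiso_top
    haveI hss : IsSemisimpleModule (Dual K C) C :=
      isSemisimpleModule_regular_of_iSup_simple (fun _ : Unit => (⊤ : Submodule K C))
        (by simp) (fun _ => htopS)
    obtain ⟨s, hind, hsup, hsimp⟩ := IsSemisimpleModule.exists_sSupIndep_sSup_simples_eq_top (Dual K C) C
    have hex : ∀ m : s, Nonempty (m.1 ≃ₗ[Dual K C] E) := fun m => @hiso m.1 (hsimp m.1 m.2)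
    let e : ∀ m : s, m.1 ≃ₗ[Dual K C] E := fun m => (hex m).some
    let g : ∀ m : s, E →ₗ[Dual K C] C := fun m => m.1.subtype ∘ₗ (e m).symm.toLinearMap
    have hrange : ∀ m : s, LinearMap.range (ofDualLinear cE (HopfRep.Comod.regular K C) (g m)) =
        m.1.restrictScalars K := by
      intro m
      ext x
      constructor
      · rintro ⟨y, rfl⟩
        exact ((e m).symm y).2
      · intro hx
        refine ⟨e m ⟨x, hx⟩, ?_⟩
        show (m.1.subtype ((e m).symm (e m ⟨x, hx⟩)) : C) = x
        rw [LinearEquiv.symm_apply_apply]
        rfl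
    refine ⟨↥s, fun m => ofDualLinear cE (HopfRep.Comod.regular K C) (g m), ?_, ?_, ?_⟩
    · intro m
      refine ⟨isComodHom_ofDualLinear cE (HopfRep.Comod.regular K C) (g m), ?_⟩
      intro x y hxy
      have : (m.1.subtype ((e m).symm x) : C) = m.1.subtype ((e m).symm y) := hxy
      exact (e m).symm.injective (m.1.injective_subtype this)
    · simp only [hrange]
      exact iSupIndep_restrictScalars K _ ((sSupIndep_iff _).mp hind)
    · simp only [hrange]
      rw [← Submodule.restrictScalars_iSup, ← sSup_eq_iSup', hsup, Submodule.restrictScalars_top]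
  · rintro ⟨E, _, _, _, hE, ι, f, hf, -, htop⟩ B hB
    have hle : (⊤ : Submodule K C) ≤ coeffSpace K C E := by
      rw [← htop]
      apply iSup_le
      intro i
      exact range_le_coeffSpace (f i) (hf i).1
    have htop' : coeffSpace K C E = ⊤ := top_le_iff.mp hle
    have hs := isSimpleSubcoalg_coeffSpace (C := C) hE
    rw [htop'] at hs
    exact hs.2.2 B le_top hB

end Groth.Agent.S14850
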