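import Groth.Statements.S14852
import Groth.Agent.Lib.Subcoalg_helper9

set_option autoImplicit false
universe u v w w'
open HopfRep

namespace Groth.Agent.S14852

open TensorProduct in
/-- Over a field K, let C be a cosemisimple coalgebra and D₁ ≠ D₂ simple subcoalgebras of C. If V is a
right C-comodule whose coaction lands in V ⊗ D₁ and W one whose coaction lands in W ⊗ D₂, then the
only comodule map V → W is zero. Here a subcoalgebra of C is a subspace B whose comultiplication
lands in the image of B ⊗ B, and a simple subcoalgebra is a nonzero subcoalgebra D whose only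
subcoalgebras contained in D are 0 and D; cosemisimple means C is the internal direct sum of a
family of simple subcoalgebras. (The published statement is for quasi-coherent G-sheaves on a scheme
with trivial action of G = Spec C; this row is the statement on spaces of sections to which its
proof reduces.) -/
theorem result {K : Type u} {C : Type v} [Field K]
    [AddCommGroup C] [Module K C] [Coalgebra K C]
    (hC : ∃ (ι : Type v) (D : ι → Submodule K C), iSupIndep D ∧ iSup D = ⊤ ∧ ∀ i,
        D i ≠ ⊥ ∧ (∀ b ∈ (D i), CoalgebraStruct.comul (R := K) b ∈ LinearMap.range (TensorProduct.map (D i).subtype (D i).subtype)) ∧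
        ∀ B : Submodule K C, B ≤ D i → (∀ b ∈ B, CoalgebraStruct.comul (R := K) b ∈ LinearMap.range (TensorProduct.map B.subtype B.subtype)) → B = ⊥ ∨ B = D i)
    (D₁ D₂ : Submodule K C) (hne : D₁ ≠ D₂)
    (h₁ : D₁ ≠ ⊥ ∧ (∀ b ∈ D₁, CoalgebraStruct.comul (R := K) b ∈ LinearMap.range (TensorProduct.map D₁.subtype D₁.subtype)) ∧ ∀ B : Submodule K C, B ≤ D₁ → (∀ b ∈ B, CoalgebraStruct.comul (R := K) b ∈ LinearMap.range (TensorProduct.map B.subtype B.subtype)) → B = ⊥ ∨ B = D₁)
    (h₂ : D₂ ≠ ⊥ ∧ (∀ b ∈ D₂, CoalgebraStruct.comul (R := K) b ∈ LinearMap.range (TensorProduct.map D₂.subtype D₂.subtype)) ∧ ∀ B : Submodule K C, B ≤ D₂ → (∀ b ∈ B, CoalgebraStruct.comul (R := K) b ∈ LinearMap.range (TensorProduct.map B.subtype B.subtype)) → B = ⊥ ∨ B = D₂)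
    {V : Type w} [AddCommGroup V] [Module K V] [HopfRep.Comod K C V]
    {W : Type w'} [AddCommGroup W] [Module K W] [HopfRep.Comod K C W]
    (hV : ∀ v : V, HopfRep.Comod.coact (k := K) (A := C) v ∈ LinearMap.range (LinearMap.lTensor V D₁.subtype))
    (hW : ∀ w : W, HopfRep.Comod.coact (k := K) (A := C) w ∈ LinearMap.range (LinearMap.lTensor W D₂.subtype))
    (φ : V →ₗ[K] W) (hφ : Hoch.IsComodHom C φ) : φ = 0 := by
  have hbot : D₁ ⊓ D₂ = ⊥ :=
    Groth.Agent.Lib.Subcoalg_helper9.inf_eq_bot_of_isSimpleSubcoalg_of_ne D₁ D₂ h₁ h₂ hne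
  apply LinearMap.ext
  intro v
  rw [LinearMap.zero_apply]
  apply Groth.Agent.Lib.Subcoalg_helper9.eq_zero_of_coact_eq_zero (k := K) (C := C)
  have h2 := hW (φ v)
  have h1 : HopfRep.Comod.coact (k := K) (A := C) (φ v) ∈ LinearMap.range (LinearMap.lTensor W D₁.subtype) := by
    have := LinearMap.congr_fun hφ v
    simp only [LinearMap.comp_apply] at this
    rw [this]
    obtain ⟨y, hy⟩ := hV v
    rw [← hy]
    exact ⟨φ.rTensor D₁ y, ComodTens.lTensor_rTensor_comm D₁.subtype φ y⟩
  have h3 := Groth.Agent.Lib.Subcoalg_helper9.mem_range_lTensor_subtype_inf D₁ D₂ _ h1 h2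
  rw [hbot] at h3
  obtain ⟨y, hy⟩ := h3
  rw [← hy]
  have : y = 0 := by
    haveI : Subsingleton (W ⊗[K] (⊥ : Submodule K C)) := by
      refine ⟨fun a b => ?_⟩
      have h0 : ∀ z : W ⊗[K] (⊥ : Submodule K C), z = 0 := by
        intro z
        induction z using TensorProduct.induction_on with
        | zero => rfl
        | add x y hx hy => rw [hx, hy, add_zero]
        | tmul w c => rw [Subsingleton.elim c 0, TensorProduct.tmul_zero]
      rw [h0 a, h0 b]
    exact Subsingleton.elim _ _
  rw [this, map_zero]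

end Groth.Agent.S14852
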