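import Groth.Statements.S14866
import Groth.Agent.Lib.DispLift_helper3
-- import your own Groth.Agent.* helpers here

set_option autoImplicit false
universe u v w z
open Disp
open Groth.Agent.Lib.DispLift_helper3

namespace Groth.Agent.S14866

/-- Let p be a prime and S → R a surjective homomorphism of commutative rings with kernel 𝔞, with p
nilpotent in S and with a^N = 0 for every a ∈ 𝔞 for one exponent N; let P_1, P_2 be free
W(S)-modules of finite rank with Frobenius-semilinear endomorphisms F_1, F_2 each carrying a basis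
to a basis. Let 𝔠 be an ideal of W(S) contained in W(𝔞) = ker(W(S) → W(R)) and stable under the
Frobenius of W(S), and let α_0 : P_1 → P_2 be a W(S)-linear map with F_2 α_0 ≡ α_0 F_1 modulo 𝔠·P_2.
Then there is a W(S)-linear map α : P_1 → P_2 with F_2 α = α F_1 which is congruent to α_0 modulo
𝔠·P_2. (The published statement has P_1, P_2 finitely generated projective; this row takes them free
with given finite bases.) -/
theorem result (p : ℕ) [Fact p.Prime] (S R : Type u)
    [CommRing S] [CommRing R] (φ : S →+* R) (hφ : Function.Surjective φ) (hp : IsNilpotent (p : S))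
    (N : ℕ) (hN : ∀ a : S, φ a = 0 → a ^ N = 0)
    (P₁ : Type v) [AddCommGroup P₁] [Module (WittVector p S) P₁]
    (P₂ : Type w) [AddCommGroup P₂] [Module (WittVector p S) P₂]
    (ι₁ ι₂ : Type z) [Finite ι₁] [Finite ι₂]
    (b₁ : Module.Basis ι₁ (WittVector p S) P₁) (b₂ : Module.Basis ι₂ (WittVector p S) P₂)
    (F₁ : P₁ →ₛₗ[(WittVector.frobenius : WittVector p S →+* WittVector p S)] P₁)
    (F₂ : P₂ →ₛₗ[(WittVector.frobenius : WittVector p S →+* WittVector p S)] P₂)
    (hF₁ : LinearIndependent (WittVector p S) (fun i => F₁ (b₁ i)) ∧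
      Submodule.span (WittVector p S) (Set.range fun i => F₁ (b₁ i)) = ⊤)
    (hF₂ : LinearIndependent (WittVector p S) (fun i => F₂ (b₂ i)) ∧
      Submodule.span (WittVector p S) (Set.range fun i => F₂ (b₂ i)) = ⊤)
    (𝔠 : Ideal (WittVector p S)) (h𝔠 : 𝔠 ≤ RingHom.ker (WittVector.map (p := p) φ))
    (h𝔠F : ∀ x ∈ 𝔠, WittVector.frobenius x ∈ 𝔠)
    (α₀ : P₁ →ₗ[WittVector p S] P₂)
    (hα₀ : ∀ x : P₁, F₂ (α₀ x) - α₀ (F₁ x) ∈ 𝔠 • (⊤ : Submodule (WittVector p S) P₂)) :
    ∃ α : P₁ →ₗ[WittVector p S] P₂,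
      (∀ x : P₁, α x - α₀ x ∈ 𝔠 • (⊤ : Submodule (WittVector p S) P₂)) ∧ ∀ x : P₁, F₂ (α x) = α (F₁ x) := by
  classical
  haveI := Fintype.ofFinite ι₁
  obtain ⟨e, he⟩ := hp
  have hN' : ∀ a ∈ RingHom.ker φ, a ^ N = 0 := fun a ha => hN a ((RingHom.mem_ker).mp ha)
  let J : ℕ → Ideal (WittVector p S) := fun k => WI p (bI p (RingHom.ker φ) k)
  have hJ : ∀ k, (J k).map (WittVector.frobenius : WittVector p S →+* WittVector p S) ≤ J (k + 1) :=
    fun k => Ideal.map_le_iff_le_comap.mpr (fun x hx => frobenius_mem_WI p (RingHom.ker φ) k hx)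
  have h0 : 𝔠 ≤ J 0 := h𝔠.trans (ker_map_le_WI p φ)
  have hK : J (e + N) = ⊥ := by
    show WI p (bI p (RingHom.ker φ) (e + N)) = ⊥
    rw [bI_eq_bot p (RingHom.ker φ) e N he hN', WI_bot]
  have h𝔠F' : 𝔠.map (WittVector.frobenius : WittVector p S →+* WittVector p S) ≤ 𝔠 :=
    Ideal.map_le_iff_le_comap.mpr (fun x hx => h𝔠F x hx)
  exact exists_lift _ b₁ F₁ F₂ hF₁ 𝔠 h𝔠F' J hJ h0 (e + N) hK α₀ hα₀

end Groth.Agent.S14866
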