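import Groth.Statements.S14869
import Mathlib

set_option autoImplicit false
universe u v w
open CAlg

namespace Groth.Agent.S14869

open TensorProduct in
/-- Let S → R be a surjective homomorphism of commutative rings, let π : P_1 → P_2 be a surjective
homomorphism of S-modules with P_2 projective, and let π̄ : R ⊗_S P_1 → R ⊗_S P_2 be its base
change. Then every R-linear section σ̄ of π̄ lifts to a section of π: there is an S-linear map σ :
P_2 → P_1 with π ∘ σ = id whose base change R ⊗_S σ is σ̄. -/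
theorem result (S R : Type u) [CommRing S] [CommRing R] [Algebra S R]
    (hSR : Function.Surjective (algebraMap S R))
    (P₁ : Type v) [AddCommGroup P₁] [Module S P₁]
    (P₂ : Type w) [AddCommGroup P₂] [Module S P₂] [Module.Projective S P₂]
    (π : P₁ →ₗ[S] P₂) (hπ : Function.Surjective π)
    (σ' : R ⊗[S] P₂ →ₗ[R] R ⊗[S] P₁) (hσ' : (π.baseChange R).comp σ' = LinearMap.id) :
    ∃ σ : P₂ →ₗ[S] P₁, π.comp σ = LinearMap.id ∧ σ.baseChange R = σ' := by
  obtain ⟨σ₀, hσ₀⟩ := Module.projective_lifting_property π LinearMap.id hπ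
  let m₁ : P₁ →ₗ[S] R ⊗[S] P₁ := TensorProduct.mk S R P₁ 1
  let m₂ : P₂ →ₗ[S] R ⊗[S] P₂ := TensorProduct.mk S R P₂ 1
  have hm₁ : Function.Surjective m₁ := TensorProduct.mk_surjective S P₁ R hSR
  let δ : P₂ →ₗ[S] R ⊗[S] P₁ := (σ'.restrictScalars S).comp m₂ - m₁.comp σ₀
  obtain ⟨τ₁, hτ₁⟩ := Module.projective_lifting_property m₁ δ hm₁
  let σ : P₂ →ₗ[S] P₁ := σ₀ + τ₁ - σ₀.comp (π.comp τ₁)
  have hπσ₀ : ∀ p, π (σ₀ p) = p := fun p => LinearMap.congr_fun hσ₀ p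
  refine ⟨σ, ?_, ?_⟩
  · apply LinearMap.ext; intro p
    show π (σ₀ p + τ₁ p - σ₀ (π (τ₁ p))) = p
    rw [map_sub, map_add, hπσ₀, hπσ₀]; abel
  · have key : ∀ p, (1 : R) ⊗ₜ[S] σ p = σ' (1 ⊗ₜ p) := by
      intro p
      have h1 : (1 : R) ⊗ₜ[S] τ₁ p = σ' (1 ⊗ₜ p) - 1 ⊗ₜ σ₀ p := LinearMap.congr_fun hτ₁ p
      have h2 : (π.baseChange R) (σ' (1 ⊗ₜ p)) = 1 ⊗ₜ p := LinearMap.congr_fun hσ' _
      have h3 : (1 : R) ⊗ₜ[S] π (τ₁ p) = 0 := by
        have : (π.baseChange R) ((1 : R) ⊗ₜ[S] τ₁ p) = 1 ⊗ₜ π (τ₁ p) :=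
          LinearMap.baseChange_tmul _ _ _
        rw [← this, h1, map_sub, h2, LinearMap.baseChange_tmul, hπσ₀, sub_self]
      have h4 : (1 : R) ⊗ₜ[S] σ₀ (π (τ₁ p)) = 0 := by
        have : (σ₀.baseChange R) ((1 : R) ⊗ₜ[S] π (τ₁ p)) = 1 ⊗ₜ σ₀ (π (τ₁ p)) :=
          LinearMap.baseChange_tmul _ _ _
        rw [← this, h3, map_zero]
      show (1 : R) ⊗ₜ[S] (σ₀ p + τ₁ p - σ₀ (π (τ₁ p))) = _
      rw [TensorProduct.tmul_sub, TensorProduct.tmul_add, h1, h4]; abel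
    apply LinearMap.ext; intro z
    induction z using TensorProduct.induction_on with
    | zero => rw [map_zero, map_zero]
    | add x y hx hy => rw [map_add, map_add, hx, hy]
    | tmul r p =>
      have : r ⊗ₜ[S] p = r • ((1 : R) ⊗ₜ[S] p) := by
        rw [TensorProduct.smul_tmul', smul_eq_mul, mul_one]
      rw [this, map_smul, map_smul, LinearMap.baseChange_tmul, key]

end Groth.Agent.S14869
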