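import Groth.Statements.S14871
-- import your own Groth.Agent.* helpers here

set_option autoImplicit false
universe u v
open PLie

namespace Groth.Agent.S14871

/-- Let `L` be a finite-dimensional Lie algebra over a field of characteristic `p` equipped with a
`p`-mapping `φ`. Then the solvable radical of `L` is stable under `φ` (it is a `p`-subalgebra). -/
theorem result
    (k : Type u) [Field k] (p : ℕ) [Fact p.Prime] [CharP k p]
    (L : Type v) [LieRing L] [LieAlgebra k L] [Module.Finite k L]
    (φ : PLie.PMap k p L) (x : L) (hx : x ∈ LieAlgebra.radical k L) :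
    φ x ∈ LieAlgebra.radical k L := by
  have hp : p = (p - 1) + 1 := by
    have := (Fact.out : p.Prime).pos; omega
  -- key: ⁅y, φ x⁆ lies in the radical for all y
  have hkey : ∀ y : L, ⁅y, φ x⁆ ∈ LieAlgebra.radical k L := by
    intro y
    rw [← lie_skew, neg_mem_iff]
    have h1 : ⁅φ x, y⁆ = (LieAlgebra.ad k L x ^ p) y := by
      rw [← φ.ad_map x]; rfl
    rw [h1, hp, pow_succ', Module.End.mul_apply, LieAlgebra.ad_apply]
    exact lie_mem_left k L _ _ _ hx
  -- the ideal `rad + k φ x`
  let I : LieIdeal k L :=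
    { ((LieAlgebra.radical k L : LieIdeal k L) : Submodule k L) ⊔ Submodule.span k {φ x} with
      lie_mem := by
        intro y m hm
        obtain ⟨r, hr, z, hz, rfl⟩ := Submodule.mem_sup.mp hm
        obtain ⟨c, rfl⟩ := Submodule.mem_span_singleton.mp hz
        apply Submodule.mem_sup_left
        rw [lie_add, lie_smul]
        exact add_mem (lie_mem_right k L _ y r hr) (Submodule.smul_mem _ c (hkey y)) }
  have hmemI : ∀ m, m ∈ I ↔ m ∈ ((LieAlgebra.radical k L : LieIdeal k L) : Submodule k L) ⊔ Submodule.span k {φ x} :=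
    fun m => Iff.rfl
  have hI1 : ⁅I, I⁆ ≤ LieAlgebra.radical k L := by
    rw [LieSubmodule.lie_le_iff]
    intro a _ m hm
    obtain ⟨r, hr, z, hz, rfl⟩ := Submodule.mem_sup.mp ((hmemI m).mp hm)
    obtain ⟨c, rfl⟩ := Submodule.mem_span_singleton.mp hz
    rw [lie_add, lie_smul]
    exact add_mem (lie_mem_right k L _ a r hr) (Submodule.smul_mem _ c (hkey a))
  haveI : LieAlgebra.IsSolvable I := by
    obtain ⟨n, hn⟩ := LieAlgebra.IsSolvable.solvable k (LieAlgebra.radical k L)
    rw [LieIdeal.derivedSeries_eq_bot_iff] at hn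
    apply LieAlgebra.IsSolvable.mk (R := k) (k := n + 1)
    rw [LieIdeal.derivedSeries_eq_bot_iff, LieAlgebra.derivedSeriesOfIdeal_add, eq_bot_iff, ← hn]
    apply LieAlgebra.derivedSeriesOfIdeal_mono
    rw [LieAlgebra.derivedSeriesOfIdeal_succ, LieAlgebra.derivedSeriesOfIdeal_zero]
    exact hI1
  have hle : I ≤ LieAlgebra.radical k L := le_sSup (show LieAlgebra.IsSolvable I from inferInstance)
  apply hle
  rw [hmemI]
  exact Submodule.mem_sup_right (Submodule.mem_span_singleton_self _)

end Groth.Agent.S14871
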