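import Groth.Statements.S14872
import Mathlib.Algebra.Lie.Engel

set_option autoImplicit false
universe u v
open PLie

namespace Groth.Agent.S14872

/-- Let `L` be a finite-dimensional Lie algebra over a field of characteristic `p` equipped with a
`p`-mapping `φ`, and let `N` be its nilradical, i.e. the ideal of `L` that is nilpotent as a Lie
ring and contains every ideal of `L` nilpotent as a Lie ring. Then `N` is stable under `φ` (it is a
`p`-subalgebra). (The nilradical is given here through its characterising property; it is not the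
largest submodule on which `L` acts nilpotently.) -/
theorem result
    (k : Type u) [Field k] (p : ℕ) [Fact p.Prime] [CharP k p]
    (L : Type v) [LieRing L] [LieAlgebra k L] [Module.Finite k L]
    (φ : PLie.PMap k p L) (N : LieIdeal k L) (hN : LieRing.IsNilpotent N)
    (hmax : ∀ I : LieIdeal k L, LieRing.IsNilpotent I → I ≤ N)
    (x : L) (hx : x ∈ N) : φ x ∈ N := by
  have hp : p = (p - 1) + 1 := by
    have := (Fact.out : p.Prime).pos; omega
  haveI : LieRing.IsNilpotent N := hN
  -- Step 1: `L` is a nilpotent `N`-module
  have hNL : LieModule.IsNilpotent N L := by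
    rw [LieModule.isNilpotent_iff_forall (R := k)]
    intro a
    obtain ⟨m, hm⟩ := LieModule.exists_forall_pow_toEnd_eq_zero k N N
    refine ⟨m + 1, ?_⟩
    have hres : ∀ (j : ℕ) (y : N), ((LieModule.toEnd k N N a ^ j) y : L) = (LieModule.toEnd k N L a ^ j) (y : L) := by
      intro j
      induction j with
      | zero => intro y; simp
      | succ j ih =>
        intro y
        rw [pow_succ', pow_succ', Module.End.mul_apply, Module.End.mul_apply, LieModule.toEnd_apply_apply,
          LieModule.toEnd_apply_apply, ← ih]
        rfl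
    apply LinearMap.ext
    intro y
    rw [pow_succ, Module.End.mul_apply]
    let z : N := ⟨⁅(a : L), y⁆, lie_mem_left k L N _ _ a.2⟩
    have hz : LieModule.toEnd k N L a y = (z : L) := rfl
    rw [hz, ← hres, hm]
    rfl
  obtain ⟨m, hm⟩ := (LieModule.isNilpotent_iff k N L).mp hNL
  -- Step 2: bracket with an element of `N` moves down the lower central series
  have hstep : ∀ (a : L), a ∈ N → ∀ (j : ℕ) (y : L), y ∈ LieModule.lowerCentralSeries k N L j →
      ⁅a, y⁆ ∈ LieModule.lowerCentralSeries k N L (j + 1) := by
    intro a ha j y hy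
    rw [LieModule.lowerCentralSeries_succ]
    exact LieSubmodule.lie_mem_lie (LieSubmodule.mem_top (⟨a, ha⟩ : N)) hy
  have hstepi : ∀ (i j : ℕ) (y : L), y ∈ LieModule.lowerCentralSeries k N L j →
      (LieAlgebra.ad k L x ^ i) y ∈ LieModule.lowerCentralSeries k N L (j + i) := by
    intro i
    induction i with
    | zero => intro j y hy; simpa using hy
    | succ i ih =>
      intro j y hy
      rw [pow_succ', Module.End.mul_apply, LieAlgebra.ad_apply, ← add_assoc]
      exact hstep x hx _ _ (ih j y hy)
  have hstepp : ∀ (j : ℕ) (y : L), y ∈ LieModule.lowerCentralSeries k N L j →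
      (LieAlgebra.ad k L x ^ p) y ∈ LieModule.lowerCentralSeries k N L (j + 1) := by
    intro j y hy
    have h1 := hstepi p j y hy
    exact LieModule.antitone_lowerCentralSeries k N L (by have := (Fact.out : p.Prime).pos; omega) h1
  -- key: ⁅y, φ x⁆ ∈ N
  have hkey : ∀ y : L, ⁅y, φ x⁆ ∈ N := by
    intro y
    rw [← lie_skew, neg_mem_iff]
    have h1 : ⁅φ x, y⁆ = (LieAlgebra.ad k L x ^ p) y := by
      rw [← φ.ad_map x]; rfl
    rw [h1, hp, pow_succ', Module.End.mul_apply, LieAlgebra.ad_apply]
    exact lie_mem_left k L _ _ _ hx
  -- Step 3: the ideal `N + k φ x`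
  let I : LieIdeal k L :=
    { (N : Submodule k L) ⊔ Submodule.span k {φ x} with
      lie_mem := by
        intro y m hm
        obtain ⟨r, hr, z, hz, rfl⟩ := Submodule.mem_sup.mp hm
        obtain ⟨c, rfl⟩ := Submodule.mem_span_singleton.mp hz
        apply Submodule.mem_sup_left
        rw [lie_add, lie_smul]
        exact add_mem (lie_mem_right k L _ y r hr) (Submodule.smul_mem _ c (hkey y)) }
  have hmemI : ∀ a, a ∈ I ↔ a ∈ (N : Submodule k L) ⊔ Submodule.span k {φ x} := fun a => Iff.rfl
  -- Step 4: every element of `I` acts nilpotently on `L`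
  have hnilI : ∀ a ∈ I, LieAlgebra.ad k L a ^ m = 0 := by
    intro a ha
    obtain ⟨r, hr, z, hz, rfl⟩ := Submodule.mem_sup.mp ((hmemI a).mp ha)
    obtain ⟨c, rfl⟩ := Submodule.mem_span_singleton.mp hz
    have hT : ∀ (j : ℕ) (y : L), y ∈ LieModule.lowerCentralSeries k N L j →
        LieAlgebra.ad k L (r + c • φ x) y ∈ LieModule.lowerCentralSeries k N L (j + 1) := by
      intro j y hy
      rw [map_add, map_smul, LinearMap.add_apply, LinearMap.smul_apply, LieAlgebra.ad_apply, φ.ad_map]
      exact add_mem (hstep r hr j y hy) (Submodule.smul_mem _ c (hstepp j y hy))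
    have hTi : ∀ (i : ℕ) (y : L), (LieAlgebra.ad k L (r + c • φ x) ^ i) y ∈ LieModule.lowerCentralSeries k N L i := by
      intro i
      induction i with
      | zero => intro y; simp
      | succ i ih =>
        intro y
        rw [pow_succ', Module.End.mul_apply]
        exact hT i _ (ih y)
    apply LinearMap.ext
    intro y
    have := hTi m y
    rw [hm] at this
    exact (LieSubmodule.mem_bot _).mp this
  -- Step 5: `I` is nilpotent by Engel
  have hInil : LieRing.IsNilpotent I := by
    rw [LieAlgebra.isNilpotent_iff_forall (R := k)]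
    intro a
    refine ⟨m, ?_⟩
    have hres : ∀ (j : ℕ) (y : I), (((LieAlgebra.ad k I a) ^ j) y : L) = (LieAlgebra.ad k L (a : L) ^ j) (y : L) := by
      intro j
      induction j with
      | zero => intro y; simp
      | succ j ih =>
        intro y
        rw [pow_succ', pow_succ', Module.End.mul_apply, Module.End.mul_apply, LieAlgebra.ad_apply,
          LieAlgebra.ad_apply, ← ih]
        rfl
    apply LinearMap.ext
    intro y
    apply Subtype.ext
    rw [hres, hnilI a a.2]
    rfl
  apply hmax I hInil
  rw [hmemI]
  exact Submodule.mem_sup_right (Submodule.mem_span_singleton_self _)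

end Groth.Agent.S14872
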