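import Groth.Statements.S14896
import Groth.Agent.Lib.ValFin1_helper8

set_option autoImplicit false
universe u
open CAlg

namespace Groth.Agent.S14896

/-- Let L/K be a finite extension of valued fields, v_L extending v_K, with K° = the valuation ring of
v_K having finite spectrum (finite height), and L° the valuation ring of v_L. If L° is local-étale
over K°, i.e. L° is the localization at a prime ideal of some étale K°-algebra B compatibly with the
K°-algebra structures, then L° is étale over K°. (For valued fields of finite height 'unramified' in
the local-étale sense is thus the same as K° → L° étale; the published lemma phrases the hypothesis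
as 'L/K unramified'.) -/
theorem result
    {K L Γ₀ Γ₁ : Type u} [Field K] [Field L] [Algebra K L] [FiniteDimensional K L]
    [LinearOrderedCommGroupWithZero Γ₀] [LinearOrderedCommGroupWithZero Γ₁]
    (vK : Valuation K Γ₀) (vL : Valuation L Γ₁) [vK.HasExtension vL]
    [Finite (PrimeSpectrum vK.valuationSubring)]
    (B : Type u) [CommRing B] [Algebra vK.valuationSubring B] [Algebra.Etale vK.valuationSubring B]
    [Algebra B vL.valuationSubring] [IsScalarTower vK.valuationSubring B vL.valuationSubring]
    (P : Ideal B) [P.IsPrime] [IsLocalization.AtPrime vL.valuationSubring P] :
    Algebra.Etale vK.valuationSubring vL.valuationSubring := by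
  haveI : Algebra.FinitePresentation vK.valuationSubring B := Algebra.Etale.finitePresentation
  haveI : Algebra.QuasiFinite vK.valuationSubring B := inferInstance
  haveI := Algebra.QuasiFinite.finite_primeSpectrum vK.valuationSubring B
  obtain ⟨g, hgq, hg⟩ := Groth.Agent.ValFinH8.exists_mem_forall_not_le P
  haveI := Groth.Agent.ValFinH8.isLocalization_away_of_atPrime (S := vL.valuationSubring) P g hgq hg
  haveI : Algebra.Etale B vL.valuationSubring := Algebra.Etale.of_isLocalizationAway g
  exact Algebra.Etale.comp vK.valuationSubring B vL.valuationSubring

end Groth.Agent.S14896
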