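import Groth.Statements.S14916
import Mathlib
import Groth.Agent.Lib.Perf2_helper6
-- import your own Groth.Agent.* helpers here

set_option autoImplicit false
universe u
open CategoryTheory AlgebraicGeometry
open PerfSch

namespace Groth.Agent.S14916

/-- Let p be a prime and let X, Y, X', Y' be schemes of characteristic p (p = 0 in the structure sheaf).
Let π_X : X' ⟶ X and π_Y : Y' ⟶ Y be perfections: X' is perfect (its absolute Frobenius is an
isomorphism) and every morphism from a perfect scheme of characteristic p to X factors uniquely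
through π_X, and likewise for π_Y. Let f : X ⟶ Y be a morphism and f' : X' ⟶ Y' the induced morphism
of perfections, the one with f' ≫ π_Y = π_X ≫ f. Then f is separated if and only if f' is separated. -/
theorem result (p : ℕ) [Fact p.Prime] {X Y XP YP : Scheme.{u}}
    [FrobSch.IsCharP X p] [FrobSch.IsCharP Y p] [FrobSch.IsCharP XP p] [FrobSch.IsCharP YP p]
    (πX : XP ⟶ X) (πY : YP ⟶ Y) (hX : FrobSch.IsPerfection πX p) (hY : FrobSch.IsPerfection πY p)
    (f : X ⟶ Y) (fP : XP ⟶ YP) (w : fP ≫ πY = πX ≫ f) :
    AlgebraicGeometry.IsSeparated f ↔ AlgebraicGeometry.IsSeparated fP := by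

  obtain ⟨iX, jX, sX⟩ := Groth.Agent.Lib.Perf.facts_of_isPerfection p πX hX
  obtain ⟨iY, jY, sY⟩ := Groth.Agent.Lib.Perf.facts_of_isPerfection p πY hY
  constructor
  · intro hf
    haveI : IsSeparated (fP ≫ πY) := by rw [w]; infer_instance
    exact IsSeparated.of_comp fP πY
  · intro hfP
    haveI : IsSeparated (πX ≫ f) := by rw [← w]; infer_instance
    refine ⟨IsClosedImmersion.of_isPreimmersion _ ?_⟩
    have hq : UniversallyClosed (Limits.pullback.map (πX ≫ f) (πX ≫ f) f f πX πX (𝟙 Y)
        ((Category.comp_id _).trans rfl) ((Category.comp_id _).trans rfl)) :=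
      MorphismProperty.pullbackMap (P := @UniversallyClosed) inferInstance inferInstance rfl rfl
    have h3 : πX ≫ Limits.pullback.diagonal f = Limits.pullback.diagonal (πX ≫ f) ≫
        Limits.pullback.map (πX ≫ f) (πX ≫ f) f f πX πX (𝟙 Y)
          ((Category.comp_id _).trans rfl) ((Category.comp_id _).trans rfl) :=
      Limits.pullback.comp_diagonal πX f
    have e : ∀ x', Limits.pullback.diagonal f (πX x') =
        Limits.pullback.map (πX ≫ f) (πX ≫ f) f f πX πX (𝟙 Y)
          ((Category.comp_id _).trans rfl) ((Category.comp_id _).trans rfl)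
          (Limits.pullback.diagonal (πX ≫ f) x') := by
      intro x'
      rw [← Scheme.Hom.comp_apply, ← Scheme.Hom.comp_apply, h3]
    have hr : Set.range (Limits.pullback.diagonal f) =
        (Limits.pullback.map (πX ≫ f) (πX ≫ f) f f πX πX (𝟙 Y)
          ((Category.comp_id _).trans rfl) ((Category.comp_id _).trans rfl)) ''
          Set.range (Limits.pullback.diagonal (πX ≫ f)) := by
      ext z
      constructor
      · rintro ⟨x, rfl⟩
        obtain ⟨x', rfl⟩ := πX.surjective x
        exact ⟨_, ⟨x', rfl⟩, (e x').symm⟩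
      · rintro ⟨_, ⟨x', rfl⟩, rfl⟩
        exact ⟨πX x', e x'⟩
    rw [hr]
    exact (Scheme.Hom.isClosedMap _) _
      (Limits.pullback.diagonal (πX ≫ f)).isClosedEmbedding.isClosed_range

end Groth.Agent.S14916
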