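import Groth.Statements.S14955
import Mathlib

set_option autoImplicit false
universe u
open TensorProduct
open EtAlg

namespace Groth.Agent.S14955

/-- Let B' = B ×_A A' be a fibre product of commutative rings with A' → A surjective. Then the square is
also a pushout of commutative rings: the canonical map B ⊗_{B'} A' → A is an isomorphism. -/
theorem result (B' B A' A : Type u) [CommRing B'] [CommRing B] [CommRing A'] [CommRing A]
    [Algebra B' B] [Algebra B' A'] [Algebra B A] [Algebra A' A] [Algebra B' A] [IsScalarTower B' B A] [IsScalarTower B' A' A]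
    (hsq : EtMil.IsFibreSquare B' B A' A) : Algebra.IsPushout B' B A' A := by
  obtain ⟨hsurj, hfib⟩ := hsq
  have hfsurj : Function.Surjective (algebraMap B' B) := by
    intro b
    obtain ⟨a', ha'⟩ := hsurj (algebraMap B A b)
    obtain ⟨c, ⟨hc, _⟩, _⟩ := hfib b a' ha'.symm
    exact ⟨c, hc⟩
  have hψ : ∀ (b : B) (a' : A'),
      LinearMap.liftBaseChange B (IsScalarTower.toAlgHom B' A' A).toLinearMap (b ⊗ₜ[B'] a') =
        b • algebraMap A' A a' := fun b a' => LinearMap.liftBaseChange_tmul _ _ _ _
  have hrep : ∀ z : B ⊗[B'] A', ∃ a' : A', z = (1 : B) ⊗ₜ[B'] a' := by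
    intro z
    induction z using TensorProduct.induction_on with
    | zero => exact ⟨0, (TensorProduct.tmul_zero _ _).symm⟩
    | tmul b a' =>
      obtain ⟨c, rfl⟩ := hfsurj b
      refine ⟨c • a', ?_⟩
      rw [TensorProduct.tmul_smul, TensorProduct.smul_tmul', Algebra.smul_def, mul_one]
    | add x y hx hy =>
      obtain ⟨a1, rfl⟩ := hx
      obtain ⟨a2, rfl⟩ := hy
      exact ⟨a1 + a2, (TensorProduct.tmul_add _ _ _).symm⟩
  have hbij : Function.Bijective
      (LinearMap.liftBaseChange B (IsScalarTower.toAlgHom B' A' A).toLinearMap) := by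
    constructor
    · rw [injective_iff_map_eq_zero]
      intro z hz
      obtain ⟨a', rfl⟩ := hrep z
      rw [hψ, one_smul] at hz
      have h0 : algebraMap B A 0 = algebraMap A' A a' := by rw [map_zero, hz]
      obtain ⟨j, ⟨hj1, hj2⟩, _⟩ := hfib 0 a' h0
      rw [← hj2]
      have hj3 : algebraMap B' A' j = j • (1 : A') := by rw [Algebra.smul_def, mul_one]
      rw [hj3, TensorProduct.tmul_smul, TensorProduct.smul_tmul', Algebra.smul_def, hj1, zero_mul,
        TensorProduct.zero_tmul]
    · intro a
      obtain ⟨a', rfl⟩ := hsurj a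
      exact ⟨1 ⊗ₜ a', by rw [hψ, one_smul]⟩
  exact ⟨IsBaseChange.of_equiv (LinearEquiv.ofBijective _ hbij) (fun x => by
    rw [LinearEquiv.ofBijective_apply, hψ, one_smul]; rfl)⟩

end Groth.Agent.S14955
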