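import Groth.Statements.S14956
import Mathlib
import Groth.Agent.Lib.Milnor4_helper6
import Groth.Agent.S14953
-- import your own Groth.Agent.* helpers here

set_option autoImplicit false
universe u
open TensorProduct
open Brauer

namespace Groth.Agent.S14956

/-- Let B' = B ×_A A' be a fibre product of commutative rings with A' → A surjective and D' a B'-algebra
(associative, unital, not necessarily commutative). Then D' is an Azumaya algebra over B' if and
only if B ⊗_{B'} D' is an Azumaya algebra over B and A' ⊗_{B'} D' is an Azumaya algebra over A'.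
(The published statement is for a quasi-coherent algebra on the pushout scheme Y of a closed
immersion and an affine morphism; this row is the case of an affine Y. Azumaya is taken in the
finite-projective-faithful sense.) -/
theorem result (B' B A' A : Type u) [CommRing B'] [CommRing B] [CommRing A'] [CommRing A]
    [Algebra B' B] [Algebra B' A'] [Algebra B A] [Algebra A' A] [Algebra B' A] [IsScalarTower B' B A] [IsScalarTower B' A' A]
    (hsq : EtMil.IsFibreSquare B' B A' A)
    (D' : Type u) [Ring D'] [Algebra B' D'] :
    IsAzumaya B' D' ↔ IsAzumaya B (B ⊗[B'] D') ∧ IsAzumaya A' (A' ⊗[B'] D') := by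

  classical
  constructor
  · intro h
    exact ⟨Groth.Agent.Lib.AzumayaBaseChange.isAzumaya_baseChange B' B D',
      Groth.Agent.Lib.AzumayaBaseChange.isAzumaya_baseChange B' A' D'⟩
  · rintro ⟨hB, hA'⟩
    haveI : Module.Finite B' D' := Groth.Agent.S14953.result B' B A' A hsq D'
    obtain ⟨φ, hφ⟩ : ∃ φ : A ⊗[B] (B ⊗[B'] D') ≃ₗ[A] A ⊗[A'] (A' ⊗[B'] D'),
        ∀ d : D', φ ((1 : A) ⊗ₜ[B] ((1 : B) ⊗ₜ[B'] d)) = (1 : A) ⊗ₜ[A'] ((1 : A') ⊗ₜ[B'] d) := by
      refine ⟨(TensorProduct.AlgebraTensorModule.cancelBaseChange B' B A A D').trans
        (TensorProduct.AlgebraTensorModule.cancelBaseChange B' A' A A D').symm, fun d => ?_⟩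
      rw [LinearEquiv.trans_apply, LinearEquiv.symm_apply_eq,
        TensorProduct.AlgebraTensorModule.cancelBaseChange_tmul,
        TensorProduct.AlgebraTensorModule.cancelBaseChange_tmul, one_smul, one_smul]
    haveI : Module.Finite B' (EtMil.glue B' φ) := Groth.Agent.Lib.Milnor.glue_finite φ hsq
    haveI : Module.Projective B' (EtMil.glue B' φ) := Groth.Agent.Lib.Milnor.glue_projective φ hsq
    obtain ⟨π, hπ⟩ : ∃ π : D' →ₗ[B'] EtMil.glue B' φ,
        ∀ d, (π d : (B ⊗[B'] D') × (A' ⊗[B'] D')) =
          ((1 : B) ⊗ₜ[B'] d, (1 : A') ⊗ₜ[B'] d) := by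
      refine ⟨LinearMap.codRestrict (EtMil.glue B' φ)
        (LinearMap.prod (TensorProduct.mk B' B D' 1) (TensorProduct.mk B' A' D' 1))
        (fun d => ?_), fun d => rfl⟩
      rw [Groth.Agent.Lib.Milnor.mem_glue]
      exact hφ d
    have h1 : Function.Bijective (π.lTensor B) := by
      have hcomp : (LinearMap.liftBaseChange B (EtMil.glueFst B' φ)) ∘ (π.lTensor B) = id := by
        funext z
        induction z using TensorProduct.induction_on with
        | zero => simp
        | tmul b d =>
          rw [Function.comp_apply, LinearMap.lTensor_tmul, LinearMap.liftBaseChange_tmul, id_eq]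
          show b • ((π d : (B ⊗[B'] D') × (A' ⊗[B'] D')).1) = _
          rw [hπ, TensorProduct.smul_tmul', smul_eq_mul, mul_one]
        | add x y hx hy =>
          rw [Function.comp_apply] at hx hy ⊢
          rw [map_add, map_add, hx, hy]
          rfl
      have := (Function.Bijective.of_comp_iff'
        (Groth.Agent.Lib.Milnor.glue_fst_bijective φ hsq) (π.lTensor B)).1
      apply this
      rw [hcomp]
      exact Function.bijective_id
    have h2 : Function.Bijective (π.lTensor A') := by
      have hcomp : (LinearMap.liftBaseChange A' (EtMil.glueSnd B' φ)) ∘ (π.lTensor A') = id := by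
        funext z
        induction z using TensorProduct.induction_on with
        | zero => simp
        | tmul b d =>
          rw [Function.comp_apply, LinearMap.lTensor_tmul, LinearMap.liftBaseChange_tmul, id_eq]
          show b • ((π d : (B ⊗[B'] D') × (A' ⊗[B'] D')).2) = _
          rw [hπ, TensorProduct.smul_tmul', smul_eq_mul, mul_one]
        | add x y hx hy =>
          rw [Function.comp_apply] at hx hy ⊢
          rw [map_add, map_add, hx, hy]
          rfl
      have := (Function.Bijective.of_comp_iff'
        (Groth.Agent.Lib.Milnor.glue_snd_bijective φ hsq) (π.lTensor A')).1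
      apply this
      rw [hcomp]
      exact Function.bijective_id
    have hπbij := Groth.Agent.Lib.Milnor.bijective_of_pair hsq π h1 h2
    haveI : Module.Projective B' D' :=
      Module.Projective.of_equiv (LinearEquiv.ofBijective π hπbij).symm
    exact Groth.Agent.Lib.Milnor.isAzumaya_of_pair hsq D' hB hA'

end Groth.Agent.S14956
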