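import Groth.Statements.S14958
import Mathlib
import Groth.Agent.Lib.TorFib_helper5

set_option autoImplicit false
universe u
open TensorProduct CategoryTheory CategoryTheory.Limits
open EtAlg

namespace Groth.Agent.S14958

/-- Let B' = B ×_A A' be a fibre product of commutative rings with A' → A surjective and L' a B'-module.
Then L' is a fixed point of the glueing adjunction, i.e. the canonical map from L' to the compatible
pairs in (B ⊗_{B'} L') × (A' ⊗_{B'} L') is injective (it is always surjective), if and only if the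
map Tor_1(L', B) ⊕ Tor_1(L', A') → Tor_1(L', A) over B' induced by B → A and A' → A is surjective.
Here Tor_1(L', –) is the first left derived functor of L' ⊗_{B'} – on B'-modules. -/
theorem result (B' B A' A : Type u) [CommRing B'] [CommRing B] [CommRing A'] [CommRing A]
    [Algebra B' B] [Algebra B' A'] [Algebra B A] [Algebra A' A] [Algebra B' A] [IsScalarTower B' B A] [IsScalarTower B' A' A]
    (hsq : EtMil.IsFibreSquare B' B A' A)
    (L' : Type u) [AddCommGroup L'] [Module B' L'] :
    (∀ l : L', ((1 : B) ⊗ₜ[B'] l : B ⊗[B'] L') = 0 → ((1 : A') ⊗ₜ[B'] l : A' ⊗[B'] L') = 0 → l = 0) ↔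
    Epi (biprod.desc
      (((Tor (ModuleCat.{u} B') 1).obj (ModuleCat.of B' L')).map
        (ModuleCat.ofHom (IsScalarTower.toAlgHom B' B A).toLinearMap))
      (((Tor (ModuleCat.{u} B') 1).obj (ModuleCat.of B' L')).map
        (ModuleCat.ofHom (IsScalarTower.toAlgHom B' A' A).toLinearMap))) := by
  classical
  obtain ⟨hsurj, hfib⟩ := hsq
  let bA : B →ₗ[B'] A := (IsScalarTower.toAlgHom B' B A).toLinearMap
  let aA : A' →ₗ[B'] A := (IsScalarTower.toAlgHom B' A' A).toLinearMap
  let ι : B' →ₗ[B'] (B × A') := (Algebra.linearMap B' B).prod (Algebra.linearMap B' A')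
  let p : (B × A') →ₗ[B'] A := bA ∘ₗ LinearMap.fst B' B A' - aA ∘ₗ LinearMap.snd B' B A'
  have hbA : ∀ b, bA b = algebraMap B A b := fun b => rfl
  have haA : ∀ a, aA a = algebraMap A' A a := fun a => rfl
  have hι : Function.Injective ι := by
    intro x y hxy
    have h1 : algebraMap B' B x = algebraMap B' B y := congrArg Prod.fst hxy
    have h2 : algebraMap B' A' x = algebraMap B' A' y := congrArg Prod.snd hxy
    have hc : algebraMap B A (algebraMap B' B y) = algebraMap A' A (algebraMap B' A' y) := by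
      rw [← IsScalarTower.algebraMap_apply, ← IsScalarTower.algebraMap_apply]
    obtain ⟨z, -, hz⟩ := hfib _ _ hc
    rw [hz x ⟨h1, h2⟩, hz y ⟨rfl, rfl⟩]
  have hp : Function.Surjective p := by
    intro a
    obtain ⟨a', rfl⟩ := hsurj a
    exact ⟨(0, -a'), by simp [p, haA]⟩
  have hex : Function.Exact ι p := by
    intro x
    constructor
    · intro hx
      have hx' : algebraMap B A x.1 = algebraMap A' A x.2 := by
        have : bA x.1 - aA x.2 = 0 := by simpa [p] using hx
        exact sub_eq_zero.mp this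
      obtain ⟨z, ⟨hz1, hz2⟩, -⟩ := hfib _ _ hx'
      exact ⟨z, Prod.ext hz1 hz2⟩
    · rintro ⟨z, rfl⟩
      simp [p, ι, hbA, haA, ← IsScalarTower.algebraMap_apply]
  -- Step A
  have hA : (∀ l : L', ((1 : B) ⊗ₜ[B'] l : B ⊗[B'] L') = 0 →
      ((1 : A') ⊗ₜ[B'] l : A' ⊗[B'] L') = 0 → l = 0) ↔
      Function.Injective (ι.rTensor L') := by
    have h1 : ∀ l : L', (ι.rTensor L') ((1 : B') ⊗ₜ l) = ((1 : B), (1 : A')) ⊗ₜ[B'] l := by
      intro l
      simp [ι]
    constructor
    · intro h
      rw [injective_iff_map_eq_zero]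
      intro x hx
      obtain ⟨l, rfl⟩ : ∃ l, x = (1 : B') ⊗ₜ l :=
        ⟨TensorProduct.lid B' L' x, by
          rw [← TensorProduct.lid_symm_apply, LinearEquiv.symm_apply_apply]⟩
      rw [h1] at hx
      have e1 : ((LinearMap.fst B' B A').rTensor L') (((1 : B), (1 : A')) ⊗ₜ[B'] l) =
          (1 : B) ⊗ₜ l := by simp
      have e2 : ((LinearMap.snd B' B A').rTensor L') (((1 : B), (1 : A')) ⊗ₜ[B'] l) =
          (1 : A') ⊗ₜ l := by simp
      rw [h l (by rw [← e1, hx, map_zero]) (by rw [← e2, hx, map_zero]), TensorProduct.tmul_zero]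
    · intro h l hl1 hl2
      have h0 : (ι.rTensor L') ((1 : B') ⊗ₜ l) = 0 := by
        rw [h1]
        have e0 : (((1 : B), (1 : A')) : B × A') =
            LinearMap.inl B' B A' 1 + LinearMap.inr B' B A' 1 := by simp
        have e1 : (LinearMap.inl B' B A' 1) ⊗ₜ[B'] l =
            ((LinearMap.inl B' B A').rTensor L') ((1 : B) ⊗ₜ l) := by simp
        have e2 : (LinearMap.inr B' B A' 1) ⊗ₜ[B'] l =
            ((LinearMap.inr B' B A').rTensor L') ((1 : A') ⊗ₜ l) := by simp
        rw [e0, TensorProduct.add_tmul, e1, e2, hl1, hl2, map_zero, map_zero, add_zero]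
      have h2 := h (h0.trans (map_zero _).symm)
      have h3 := congrArg (TensorProduct.lid B' L') h2
      simpa using h3
  -- the short exact sequence
  let S := ShortComplex.moduleCatMk ι p hex.linearMap_comp_eq_zero
  have hS : S.ShortExact := TorLES.mk_shortExact ι p hι hex hp
  have key := TorFib.epi_tor_one_map_iff (ModuleCat.of B' L') S hS
  set F := (Tor (ModuleCat.{u} B') 1).obj (ModuleCat.of B' L') with hF
  -- Step B
  have hB : Epi (F.map (ModuleCat.ofHom p)) ↔
      Epi (biprod.desc (F.map (ModuleCat.ofHom bA)) (F.map (ModuleCat.ofHom aA))) := by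
    have hp_eq : ModuleCat.ofHom p =
        ModuleCat.ofHom (LinearMap.fst B' B A') ≫ ModuleCat.ofHom bA -
          ModuleCat.ofHom (LinearMap.snd B' B A') ≫ ModuleCat.ofHom aA := rfl
    have hinl : ModuleCat.ofHom (LinearMap.inl B' B A') ≫ ModuleCat.ofHom p =
        ModuleCat.ofHom bA := by
      ext x
      simp [p]
    have hinr : -(ModuleCat.ofHom (LinearMap.inr B' B A') ≫ ModuleCat.ofHom p) =
        ModuleCat.ofHom aA := by
      ext x
      simp [p]
    have h1 : biprod.lift (F.map (ModuleCat.ofHom (LinearMap.fst B' B A')))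
        (-F.map (ModuleCat.ofHom (LinearMap.snd B' B A'))) ≫
        biprod.desc (F.map (ModuleCat.ofHom bA)) (F.map (ModuleCat.ofHom aA)) =
        F.map (ModuleCat.ofHom p) := by
      rw [biprod.lift_desc, hp_eq, Functor.map_sub, Functor.map_comp, Functor.map_comp,
        Preadditive.neg_comp, sub_eq_add_neg]
    have h2 : biprod.desc (F.map (ModuleCat.ofHom (LinearMap.inl B' B A')))
        (-F.map (ModuleCat.ofHom (LinearMap.inr B' B A'))) ≫ F.map (ModuleCat.ofHom p) =
        biprod.desc (F.map (ModuleCat.ofHom bA)) (F.map (ModuleCat.ofHom aA)) := by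
      apply biprod.hom_ext'
      · rw [biprod.inl_desc_assoc, biprod.inl_desc, ← F.map_comp, hinl]
      · rw [biprod.inr_desc_assoc, biprod.inr_desc, Preadditive.neg_comp, ← F.map_comp,
          ← Functor.map_neg, hinr]
    constructor
    · intro h
      exact @epi_of_epi _ _ _ _ _ _ _ (by rw [h1]; exact h)
    · intro h
      exact @epi_of_epi _ _ _ _ _ _ _ (by rw [h2]; exact h)
  rw [hA]
  exact key.symm.trans hB

end Groth.Agent.S14958
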