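import Groth.Statements.S14965
import Mathlib
import Groth.Agent.Lib.Milnor4_helper6
-- import your own Groth.Agent.* helpers here

set_option autoImplicit false
universe u
open TensorProduct
open Brauer

namespace Groth.Agent.S14965

/-- Let B' = B ×_A A' be a fibre product of commutative rings with A' → A surjective, N an Azumaya
B-algebra, M' an Azumaya A'-algebra and φ : A ⊗_B N ≅ A ⊗_{A'} M' an isomorphism of A-algebras. If a
B'-algebra D' with B'-algebra homomorphisms π₁ : D' → N and π₂ : D' → M' is the glued algebra N ×_φ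
M', in the sense that (π₁, π₂) is injective with image the pairs (n, m') satisfying φ(1 ⊗ n) = 1 ⊗
m', then D' is an Azumaya B'-algebra. (The published statement is for Azumaya algebras on the
pushout scheme of a closed immersion and an affine morphism, glued as u_*B' ×_{h_*} f_*A; this row
is the case of an affine pushout.) -/
theorem result (B' B A' A : Type u) [CommRing B'] [CommRing B] [CommRing A'] [CommRing A]
    [Algebra B' B] [Algebra B' A'] [Algebra B A] [Algebra A' A] [Algebra B' A] [IsScalarTower B' B A] [IsScalarTower B' A' A]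
    (hsq : EtMil.IsFibreSquare B' B A' A)
    (N : Type u) [Ring N] [Algebra B N] [Algebra B' N] [IsScalarTower B' B N] [IsAzumaya B N]
    (M' : Type u) [Ring M'] [Algebra A' M'] [Algebra B' M'] [IsScalarTower B' A' M'] [IsAzumaya A' M']
    (φ : A ⊗[B] N ≃ₐ[A] A ⊗[A'] M')
    (D' : Type u) [Ring D'] [Algebra B' D'] (π₁ : D' →ₐ[B'] N) (π₂ : D' →ₐ[B'] M')
    (hinj : ∀ d : D', π₁ d = 0 → π₂ d = 0 → d = 0)
    (himg : ∀ (n : N) (m' : M'), φ ((1 : A) ⊗ₜ[B] n) = (1 : A) ⊗ₜ[A'] m' ↔ ∃ d : D', π₁ d = n ∧ π₂ d = m') :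
    IsAzumaya B' D' := by

  classical
  obtain ⟨φl, hφl⟩ : ∃ φl : A ⊗[B] N ≃ₗ[A] A ⊗[A'] M', ∀ z, φl z = φ z :=
    ⟨φ.toLinearEquiv, fun _ => rfl⟩
  haveI : Module.Finite B' (EtMil.glue B' φl) := Groth.Agent.Lib.Milnor.glue_finite φl hsq
  haveI : Module.Projective B' (EtMil.glue B' φl) := Groth.Agent.Lib.Milnor.glue_projective φl hsq
  obtain ⟨π, hπ⟩ : ∃ π : D' →ₗ[B'] EtMil.glue B' φl, ∀ d, (π d : N × M') = (π₁ d, π₂ d) := by
    refine ⟨LinearMap.codRestrict (EtMil.glue B' φl)
      (LinearMap.prod π₁.toLinearMap π₂.toLinearMap) (fun d => ?_), fun d => rfl⟩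
    rw [Groth.Agent.Lib.Milnor.mem_glue, hφl]
    exact (himg _ _).2 ⟨d, rfl, rfl⟩
  have hπbij : Function.Bijective π := by
    constructor
    · rw [injective_iff_map_eq_zero]
      intro d hd
      have := congrArg Subtype.val hd
      rw [hπ] at this
      exact hinj d (congrArg Prod.fst this) (congrArg Prod.snd this)
    · rintro ⟨⟨n, m'⟩, hg⟩
      have hg' := hg
      rw [Groth.Agent.Lib.Milnor.mem_glue, hφl] at hg'
      obtain ⟨d, h1, h2⟩ := (himg n m').1 hg'
      exact ⟨d, Subtype.ext (by rw [hπ, h1, h2])⟩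
  obtain ⟨e, he⟩ : ∃ e : D' ≃ₗ[B'] EtMil.glue B' φl, ∀ d, e d = π d :=
    ⟨LinearEquiv.ofBijective π hπbij, fun _ => rfl⟩
  haveI : Module.Finite B' D' := Module.Finite.equiv e.symm
  haveI : Module.Projective B' D' := Module.Projective.of_equiv e.symm
  have hB : IsAzumaya B (B ⊗[B'] D') := by
    obtain ⟨f, hf⟩ : ∃ f : B ⊗[B'] D' →ₐ[B] N, ∀ (b : B) (d : D'), f (b ⊗ₜ[B'] d) = b • π₁ d := by
      refine ⟨Algebra.TensorProduct.lift (Algebra.ofId B N) π₁
        (fun b d => Algebra.commutes b (π₁ d)), fun b d => ?_⟩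
      rw [Algebra.TensorProduct.lift_tmul, Algebra.ofId_apply, Algebra.smul_def]
    have hcomp : ∀ z, f z = LinearMap.liftBaseChange B (EtMil.glueFst B' φl)
        ((e.lTensor B) z) := by
      intro z
      induction z using TensorProduct.induction_on with
      | zero => simp
      | tmul b d =>
        rw [hf, LinearEquiv.lTensor_tmul, LinearMap.liftBaseChange_tmul, he]
        show b • π₁ d = b • ((π d : N × M').1)
        rw [hπ]
      | add x y hx hy => rw [map_add, map_add, map_add, hx, hy]
    have hbij : Function.Bijective f := by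
      have : (f : B ⊗[B'] D' → N) = (LinearMap.liftBaseChange B (EtMil.glueFst B' φl)) ∘
          (e.lTensor B) := funext hcomp
      rw [this]
      exact (Groth.Agent.Lib.Milnor.glue_fst_bijective φl hsq).comp (e.lTensor B).bijective
    exact IsAzumaya.of_AlgEquiv B N _ (AlgEquiv.ofBijective f hbij).symm
  have hA' : IsAzumaya A' (A' ⊗[B'] D') := by
    obtain ⟨f, hf⟩ : ∃ f : A' ⊗[B'] D' →ₐ[A'] M',
        ∀ (b : A') (d : D'), f (b ⊗ₜ[B'] d) = b • π₂ d := by
      refine ⟨Algebra.TensorProduct.lift (Algebra.ofId A' M') π₂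
        (fun b d => Algebra.commutes b (π₂ d)), fun b d => ?_⟩
      rw [Algebra.TensorProduct.lift_tmul, Algebra.ofId_apply, Algebra.smul_def]
    have hcomp : ∀ z, f z = LinearMap.liftBaseChange A' (EtMil.glueSnd B' φl)
        ((e.lTensor A') z) := by
      intro z
      induction z using TensorProduct.induction_on with
      | zero => simp
      | tmul b d =>
        rw [hf, LinearEquiv.lTensor_tmul, LinearMap.liftBaseChange_tmul, he]
        show b • π₂ d = b • ((π d : N × M').2)
        rw [hπ]
      | add x y hx hy => rw [map_add, map_add, map_add, hx, hy]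
    have hbij : Function.Bijective f := by
      have : (f : A' ⊗[B'] D' → M') = (LinearMap.liftBaseChange A' (EtMil.glueSnd B' φl)) ∘
          (e.lTensor A') := funext hcomp
      rw [this]
      exact (Groth.Agent.Lib.Milnor.glue_snd_bijective φl hsq).comp (e.lTensor A').bijective
    exact IsAzumaya.of_AlgEquiv A' M' _ (AlgEquiv.ofBijective f hbij).symm
  exact Groth.Agent.Lib.Milnor.isAzumaya_of_pair hsq D' hB hA'

end Groth.Agent.S14965
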