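import Groth.Statements.S14966
import Mathlib

set_option autoImplicit false
universe u
open EtAlg

namespace Groth.Agent.S14966

/-- Let A → A' be an injective homomorphism of commutative rings and let I ⊆ A be the conductor, i.e.
the annihilator of the A-module A'/A. Then the conductor square formed by A → A/I, A → A', A/I →
A'/IA' and A' → A'/IA' is a fibre product square of rings with A' → A'/IA' surjective: A = A/I
×_{A'/IA'} A'. (The published Lemma is for the conductor square of a finite modification of schemes;
this row is the underlying statement for one injective ring map, which needs no finiteness.) -/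
theorem result (A A' : Type u) [CommRing A] [CommRing A'] [Algebra A A']
    (hinj : Function.Injective (algebraMap A A')) :
    EtMil.IsFibreSquare A (A ⧸ Module.annihilator A (A' ⧸ LinearMap.range (Algebra.linearMap A A'))) A'
      (A' ⧸ Ideal.map (algebraMap A A') (Module.annihilator A (A' ⧸ LinearMap.range (Algebra.linearMap A A')))) := by
  have hmemI : ∀ a : A, a ∈ (Module.annihilator A (A' ⧸ LinearMap.range (Algebra.linearMap A A'))) ↔
      ∀ x : A', ∃ y : A, algebraMap A A' y = a • x := by
    intro a
    rw [Module.mem_annihilator]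
    constructor
    · intro h x
      have h' := h (Submodule.Quotient.mk x)
      rw [← Submodule.Quotient.mk_smul, Submodule.Quotient.mk_eq_zero] at h'
      obtain ⟨y, hy⟩ := h'
      exact ⟨y, hy⟩
    · intro h m
      obtain ⟨x, rfl⟩ := Submodule.Quotient.mk_surjective _ m
      rw [← Submodule.Quotient.mk_smul, Submodule.Quotient.mk_eq_zero]
      obtain ⟨y, hy⟩ := h x
      exact ⟨y, hy⟩
  have hmap : ∀ z ∈ Ideal.map (algebraMap A A') (Module.annihilator A (A' ⧸ LinearMap.range (Algebra.linearMap A A'))),
      ∃ i ∈ (Module.annihilator A (A' ⧸ LinearMap.range (Algebra.linearMap A A'))), algebraMap A A' i = z := by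
    intro z hz
    unfold Ideal.map at hz
    induction hz using Submodule.span_induction with
    | mem x hx =>
      obtain ⟨i, hi, rfl⟩ := hx
      exact ⟨i, hi, rfl⟩
    | zero => exact ⟨0, Submodule.zero_mem _, map_zero _⟩
    | add x y _ _ hx hy =>
      obtain ⟨i1, hi1, rfl⟩ := hx
      obtain ⟨i2, hi2, rfl⟩ := hy
      exact ⟨i1 + i2, Submodule.add_mem _ hi1 hi2, map_add _ _ _⟩
    | smul r x _ hx =>
      obtain ⟨i, hi, rfl⟩ := hx
      obtain ⟨y, hy⟩ := (hmemI i).mp hi r
      refine ⟨y, ?_, ?_⟩
      · rw [hmemI]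
        intro x
        obtain ⟨y', hy'⟩ := (hmemI i).mp hi (r * x)
        refine ⟨y', ?_⟩
        rw [hy', Algebra.smul_def y x, hy, Algebra.smul_def, Algebra.smul_def]
        ring
      · rw [hy, Algebra.smul_def, smul_eq_mul, mul_comm]
  refine ⟨Ideal.Quotient.mk_surjective, ?_⟩
  intro b a' hba
  obtain ⟨a₀, rfl⟩ := Ideal.Quotient.mk_surjective b
  have h1 : Ideal.Quotient.mk (Ideal.map (algebraMap A A') (Module.annihilator A (A' ⧸ LinearMap.range (Algebra.linearMap A A')))) (algebraMap A A' a₀) =
      Ideal.Quotient.mk _ a' := hba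
  rw [Ideal.Quotient.eq] at h1
  obtain ⟨i, hiI, hi⟩ := hmap _ h1
  refine ⟨a₀ - i, ⟨?_, ?_⟩, ?_⟩
  · show Ideal.Quotient.mk _ (a₀ - i) = Ideal.Quotient.mk _ a₀
    rw [Ideal.Quotient.eq]
    have : a₀ - i - a₀ = -i := by ring
    rw [this]
    exact Submodule.neg_mem _ hiI
  · rw [map_sub, hi]; ring
  · rintro y ⟨_, hy2⟩
    apply hinj
    rw [hy2, map_sub, hi]; ring

end Groth.Agent.S14966
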