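import Groth.Statements.S14973
import Mathlib

set_option autoImplicit false
universe u v
open Diff16

namespace Groth.Agent.S14973

/-- In ring form. Let B be a commutative ring, L a ring with a ring homomorphism f from B, and L_0, L_1,
L_2, … additive subgroups of L exhausting L such that for every b in B, f(b) commutes with every
element of L_0 and, for each i, the commutator f(b) x - x f(b) of f(b) with an element x of L_(i+1)
lies in L_i. Let M be a multiplicative subset of B. Then M acts invertibly on the right of the left
localisation of L at M (L viewed as a B-module through left multiplication): in elementwise terms,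
(a) if x is in L and m, u are in M with f(u) x f(m) = 0, then f(u') x = 0 for some u' in M; (b) for
every x in L and m in M there are e in M and y in L with f(e) x = y f(m). (The published statement
assumes a filtration satisfying all the axioms of a filtered ring of differential operators on an
affine scheme; this row assumes only an exhaustive family of additive subgroups on which commutators
with the image of B lower the index.) -/
theorem result
    {B : Type u} [CommRing B] {L : Type v} [Ring L] (f : B →+* L) (F : ℕ → AddSubgroup L)
    (hex : ∀ x : L, ∃ i : ℕ, x ∈ F i)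
    (h0 : ∀ x ∈ F 0, ∀ b : B, f b * x = x * f b)
    (hS : ∀ (i : ℕ), ∀ x ∈ F (i + 1), ∀ b : B, f b * x - x * f b ∈ F i)
    (M : Submonoid B) :
    (∀ (x : L) (m u : B), m ∈ M → u ∈ M → f u * x * f m = 0 → ∃ u' ∈ M, f u' * x = 0) ∧
    (∀ (x : L) (m : B), m ∈ M → ∃ e ∈ M, ∃ y : L, f e * x = y * f m) := by
  have hb : ∀ (i : ℕ), ∀ x ∈ F i, ∀ m : B, ∃ y : L, f (m ^ (i + 1)) * x = y * f m := by
    intro i
    induction i with
    | zero =>
      intro x hx m
      refine ⟨x, ?_⟩
      rw [zero_add, pow_one]
      exact h0 x hx m
    | succ i ih =>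
      intro x hx m
      obtain ⟨y', hy'⟩ := ih _ (hS i x hx m) m
      refine ⟨f (m ^ (i + 1)) * x + y', ?_⟩
      have e : f m * x = x * f m + (f m * x - x * f m) := by abel
      calc f (m ^ (i + 1 + 1)) * x = f (m ^ (i + 1)) * (f m * x) := by
            rw [pow_succ, map_mul, mul_assoc]
        _ = f (m ^ (i + 1)) * (x * f m + (f m * x - x * f m)) := by rw [← e]
        _ = f (m ^ (i + 1)) * x * f m + f (m ^ (i + 1)) * (f m * x - x * f m) := by
            rw [mul_add, mul_assoc]
        _ = f (m ^ (i + 1)) * x * f m + y' * f m := by rw [hy']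
        _ = (f (m ^ (i + 1)) * x + y') * f m := by rw [add_mul]
  have ha : ∀ (i : ℕ), ∀ x ∈ F i, ∀ m u : B, m ∈ M → u ∈ M → f u * x * f m = 0 →
      ∃ u' ∈ M, f u' * x = 0 := by
    intro i
    induction i with
    | zero =>
      intro x hx m u hm hu h
      refine ⟨u * m, M.mul_mem hu hm, ?_⟩
      rw [map_mul, mul_assoc, h0 x hx m, ← mul_assoc]
      exact h
    | succ i ih =>
      intro x hx m u hm hu h
      have hcomm : f u * f m = f m * f u := by rw [← map_mul, ← map_mul, mul_comm]
      have t1 : f u * (f m * x) * f m = 0 := by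
        rw [← mul_assoc, hcomm, mul_assoc (f m) (f u) x, mul_assoc (f m) (f u * x) (f m), h,
          mul_zero]
      have t2 : f u * (x * f m) * f m = 0 := by
        rw [← mul_assoc (f u) x (f m), h, zero_mul]
      have hc : f u * (f m * x - x * f m) * f m = 0 := by
        rw [mul_sub, sub_mul, t1, t2, sub_zero]
      obtain ⟨u'', hu'', h2⟩ := ih _ (hS i x hx m) m u hm hu hc
      refine ⟨u'' * (u * m), M.mul_mem hu'' (M.mul_mem hu hm), ?_⟩
      have h3 : f (u * m) * x = f u * (f m * x - x * f m) := by
        rw [map_mul, mul_sub, ← mul_assoc (f u) x (f m), h, sub_zero, mul_assoc]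
      have hcomm2 : f u'' * f u = f u * f u'' := by rw [← map_mul, ← map_mul, mul_comm]
      rw [map_mul, mul_assoc, h3, ← mul_assoc, hcomm2, mul_assoc, h2, mul_zero]
  constructor
  · intro x m u hm hu h
    obtain ⟨i, hi⟩ := hex x
    exact ha i x hi m u hm hu h
  · intro x m hm
    obtain ⟨i, hi⟩ := hex x
    obtain ⟨y, hy⟩ := hb i x hi m
    exact ⟨m ^ (i + 1), M.pow_mem hm _, y, hy⟩

end Groth.Agent.S14973
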