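import Groth.Statements.S14984
import Groth.Agent.Lib.Comod_helper9

set_option autoImplicit false
universe u v w
open HopfRep

open Groth.Agent.Lib.Comod_helper9
open TensorProduct
namespace Groth.Agent.S14984

/-- Let `R` be a commutative ring, `A` a commutative Hopf algebra over `R`, flat as an `R`-module, `B` a
commutative `R`-algebra with a coaction of `A` that is an algebra map (an action of `G = Spec A` on
`X = Spec B`), and `C = B^A` the ring of invariants. If the action base-changed along `R → C` — the
`C`-Hopf algebra `C ⊗ A` coacting on `C ⊗ B` — is tame, i.e. there is a `C`-linear comodule map `β :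
C ⊗ A → C ⊗ B` (regular coaction on the source, base-changed coaction on the target) with `β 1 = 1`,
then the original action is tame: there is an `R`-linear comodule map `α : A → B` with `α 1 = 1`.
(The converse is the case `S = C` of stability of tameness under base change. The published lemma
also lists, as a third equivalent condition, tameness of the action of `C ⊗ A` on `B` itself over
`C`; that condition is not stated here.) -/
theorem result
    (R : Type u) (A : Type v) (B : Type w)
    [CommRing R] [CommRing A] [HopfAlgebra R A] [Module.Flat R A]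
    [CommRing B] [Algebra R B] [HopfRep.Comod R A B] [GLin.IsCoactAlg R A B]
    (h : ∃ β : TensorProduct R ↥(GLin.invariants R A B) A →ₗ[↥(GLin.invariants R A B)]
        TensorProduct R ↥(GLin.invariants R A B) B,
      @Hoch.IsComodHom ↥(GLin.invariants R A B) _ (TensorProduct R ↥(GLin.invariants R A B) A) _ _ _
        (TensorProduct R ↥(GLin.invariants R A B) A) _ _
        (HopfRep.Comod.regular ↥(GLin.invariants R A B) (TensorProduct R ↥(GLin.invariants R A B) A))
        (TensorProduct R ↥(GLin.invariants R A B) B) _ _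
        (CoactBr.Comod.baseChange R ↥(GLin.invariants R A B) A B) β ∧ β 1 = 1) :
    ∃ α : A →ₗ[R] B, Hoch.IsComodHom A α ∧ α 1 = 1 := by
  obtain ⟨β, hβ, hβ1⟩ := h
  let μ : (↥(GLin.invariants R A B)) ⊗[R] B →ₐ[R] B :=
    Algebra.TensorProduct.productMap (GLin.invariants R A B).val (AlgHom.id R B)
  have hμ : ∀ (c : ↥(GLin.invariants R A B)) (b : B), μ (c ⊗ₜ[R] b) = (c : B) * b := fun c b => by
    simp [μ]
  let α : A →ₗ[R] B := μ.toLinearMap ∘ₗ (β.restrictScalars R) ∘ₗ
    (TensorProduct.mk R (↥(GLin.invariants R A B)) A 1)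
  have hαdef : ∀ a, α a = μ (β ((1 : ↥(GLin.invariants R A B)) ⊗ₜ[R] a)) := fun a => rfl
  let θ : ((↥(GLin.invariants R A B)) ⊗[R] B) ⊗[↥(GLin.invariants R A B)]
      ((↥(GLin.invariants R A B)) ⊗[R] A) → B ⊗[R] A := fun x =>
    μ.toLinearMap.rTensor A (TensorProduct.AlgebraTensorModule.cancelBaseChange R
      (↥(GLin.invariants R A B)) (↥(GLin.invariants R A B))
      ((↥(GLin.invariants R A B)) ⊗[R] B) A x)
  have hθadd : ∀ x y, θ (x + y) = θ x + θ y := fun x y => by
    show μ.toLinearMap.rTensor A _ = _
    rw [map_add, map_add]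
  have hθzero : θ 0 = 0 := by
    show μ.toLinearMap.rTensor A _ = _
    rw [map_zero, map_zero]
  have hθtmul : ∀ (m : (↥(GLin.invariants R A B)) ⊗[R] B) (c : ↥(GLin.invariants R A B)) (a : A),
      θ (m ⊗ₜ[↥(GLin.invariants R A B)] (c ⊗ₜ[R] a)) = μ (c • m) ⊗ₜ[R] a := fun m c a => rfl
  have K1 : ∀ (c : ↥(GLin.invariants R A B)) (t : B ⊗[R] A),
      θ (TensorProduct.AlgebraTensorModule.tensorTensorTensorComm R (↥(GLin.invariants R A B)) R
        (↥(GLin.invariants R A B)) (↥(GLin.invariants R A B)) (↥(GLin.invariants R A B)) B A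
        (((1 : ↥(GLin.invariants R A B)) ⊗ₜ[↥(GLin.invariants R A B)] c) ⊗ₜ[R] t)) =
      ((c : B) ⊗ₜ[R] (1 : A)) * t := by
    intro c t
    induction t using TensorProduct.induction_on with
    | zero => rw [TensorProduct.tmul_zero, map_zero, hθzero, mul_zero]
    | add x y hx hy => rw [TensorProduct.tmul_add, map_add, hθadd, hx, hy, mul_add]
    | tmul b₀ b₁ =>
      rw [TensorProduct.AlgebraTensorModule.tensorTensorTensorComm_tmul, hθtmul,
        TensorProduct.smul_tmul', hμ, Algebra.TensorProduct.tmul_mul_tmul, one_mul, smul_eq_mul,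
        mul_one]
  have K1' : ∀ x : (↥(GLin.invariants R A B)) ⊗[R] B,
      θ ((CoactBr.Comod.baseChange R (↥(GLin.invariants R A B)) A B).coact x) =
        HopfRep.Comod.coact (k := R) (A := A) (μ x) := by
    intro x
    induction x using TensorProduct.induction_on with
    | zero => rw [map_zero, hθzero, map_zero, map_zero]
    | add x y hx hy => rw [map_add, hθadd, hx, hy, map_add, map_add]
    | tmul c b =>
      rw [CoactBr.baseChange_coact_tmul, K1, hμ, GLin.IsCoactAlg.coact_mul]
      have hc : HopfRep.Comod.coact (k := R) (A := A) (c : B) = (c : B) ⊗ₜ[R] (1 : A) := c.2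
      rw [hc]
  have K2 : ∀ t : A ⊗[R] A,
      θ ((β.rTensor ((↥(GLin.invariants R A B)) ⊗[R] A))
        (TensorProduct.AlgebraTensorModule.tensorTensorTensorComm R (↥(GLin.invariants R A B)) R
        (↥(GLin.invariants R A B)) (↥(GLin.invariants R A B)) (↥(GLin.invariants R A B)) A A
        (((1 : ↥(GLin.invariants R A B)) ⊗ₜ[↥(GLin.invariants R A B)]
          (1 : ↥(GLin.invariants R A B))) ⊗ₜ[R] t))) = α.rTensor A t := by
    intro t
    induction t using TensorProduct.induction_on with
    | zero => rw [TensorProduct.tmul_zero, map_zero, map_zero, hθzero, map_zero]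
    | add x y hx hy => rw [TensorProduct.tmul_add, map_add, map_add, hθadd, hx, hy, map_add]
    | tmul a₁ a₂ =>
      rw [TensorProduct.AlgebraTensorModule.tensorTensorTensorComm_tmul, LinearMap.rTensor_tmul,
        hθtmul, one_smul, LinearMap.rTensor_tmul, hαdef]
  refine ⟨α, ?_, ?_⟩
  · apply LinearMap.ext
    intro a
    show HopfRep.Comod.coact (k := R) (A := A) (α a) =
      α.rTensor A (CoalgebraStruct.comul (R := R) a)
    rw [hαdef, ← K1', ← K2]
    have h1 := LinearMap.congr_fun hβ ((1 : ↥(GLin.invariants R A B)) ⊗ₜ[R] a)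
    exact congrArg θ h1
  · rw [hαdef, ← Algebra.TensorProduct.one_def, hβ1, map_one]

end Groth.Agent.S14984
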