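import Groth.Statements.S1499
import Mathlib
import Groth.Agent.Lib.VAmpPn14_helper5

set_option autoImplicit false
universe u
attribute [local instance] HasDerivedCategory.standard
open FlatMor

namespace Groth.Agent.S1499

open AlgebraicGeometry CategoryTheory Limits in
/-- Let f : X → Y with Y having an ample family of invertible modules, and suppose some O_X-module is
ample relative to f. Then X has an ample family of invertible modules. -/
theorem result {X Y : Scheme.{u}} (f : X ⟶ Y)
    (hY : MoreMor.HasAmpleFamily Y) (L : X.Modules) (hL : RelAmple.IsRelAmple f L) :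
    MoreMor.HasAmpleFamily X := by
  classical
  obtain ⟨hcY, hfam⟩ := hY
  haveI := hcY
  haveI : QuasiCompact f := hL.1
  have hLi := TensH8.isInvertible_of_isRelAmple f hL
  haveI : CompactSpace X := QuasiCompact.compactSpace_of_compactSpace f
  haveI : QuasiSeparatedSpace Y := by
    choose N n t hNi hn hyt hafft using hfam
    refine Scheme.quasiSeparatedSpace_of_isOpenCover
      (fun y : Y => CohB1.genLocus _ (t y)) ?_ hafft ?_
    · rw [TopologicalSpace.IsOpenCover, eq_top_iff]
      intro y _
      exact TopologicalSpace.Opens.mem_iSup.mpr ⟨y, hyt y⟩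
    · intro x y
      haveI : IsAffineHom (CohB1.genLocus _ (t y)).ι :=
        GenLocH8.isAffineHom_genLocus_ι (TensH8.isInvertible_tensorPow (hNi y) (n y)) (t y)
      have h1 : IsAffineOpen ((CohB1.genLocus _ (t y)).ι ⁻¹ᵁ (CohB1.genLocus _ (t x))) :=
        (hafft x).preimage _
      have h2 := h1.image_of_isOpenImmersion (CohB1.genLocus _ (t y)).ι
      rw [Scheme.Hom.image_preimage_eq_opensRange_inf, Scheme.Opens.opensRange_ι] at h2
      have h3 := h2.isCompact
      rw [inf_comm] at h3
      exact h3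
  haveI : IsSeparated f := TensH8.isSeparated_of_isRelAmple f hL
  haveI : QuasiSeparatedSpace X := quasiSeparatedSpace_of_quasiSeparated f
  refine ⟨inferInstance, fun x => ?_⟩
  obtain ⟨N, n, t, hNi, hn, hyt, hafft⟩ := hfam (f x)
  obtain ⟨k, rfl⟩ : ∃ k, n = k + 1 := ⟨n - 1, by omega⟩
  have hLf : TensH8.IsAmpleOn L (f ⁻¹ᵁ CohB1.genLocus _ t) :=
    ((TensH8.isRelAmple_iff f hLi).mp hL).2 ⟨_, hafft⟩
  obtain ⟨a, σ, O, haffO, hxO, hOle, hloc⟩ := hLf.2 x hyt
  obtain ⟨n0, hn0⟩ := TensH8.exists_hom_comp_step f hNi hLi t σ hOle hloc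
  obtain ⟨τ, hτ⟩ := hn0 n0 le_rfl _ (TensH8.Frame₂.tmul (TensH8.Frame.self L)
    (TensH8.Frame.pow ((Scheme.Modules.pullback f).obj N) n0))
  refine ⟨_, a * k + a + k + 1, τ, ?_, by omega, ?_, ?_⟩
  · exact TensH8.isInvertible_tensorMod hLi
      (TensH8.isInvertible_tensorPow (TensH8.isInvertible_pullback f hNi) n0)
  · rw [hτ]
    exact hxO
  · rw [hτ]
    exact haffO

end Groth.Agent.S1499
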