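import Groth.Statements.S14994
import Groth.Agent.Lib.Torsionless_helper3
-- import your own Groth.Agent.* helpers here

set_option autoImplicit false
universe u
open CAlg
set_option maxSynthPendingDepth 3

namespace Groth.Agent.S14994

/-- Let A be a Noetherian integrally closed domain, M a finitely generated torsion-free A-module, N a
submodule of M and ι : M → M** the canonical map to the double dual. Write N** → M** for the double
dual of the inclusion N → M. Then every m ∈ M whose image ι(m) lies in the image of N** is a torsion
element modulo N: some nonzero a ∈ A satisfies a·m ∈ N. In other words the preimage of N** under ι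
is contained in the saturation of N in M (the preimage of the torsion submodule of M/N), and the two
coincide when M/N is torsion-free. (The published statement asserts equality of the preimage with
the saturation for every N; for N = xA inside M = A = k[x] the saturation is all of M while N** has
image xA = N under the identification M** = M, so only the inclusion stated here holds, and it is
the inclusion later used, for saturated N, where the two sides agree.) -/
theorem result (A : Type u) [CommRing A] [IsDomain A]
    [IsNoetherianRing A] [IsIntegrallyClosed A]
    (M : Type u) [AddCommGroup M] [Module A M] [Module.Finite A M] [NoZeroSMulDivisors A M]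
    (N : Submodule A M) :
    (LinearMap.range N.subtype.dualMap.dualMap).comap (Module.Dual.eval A M) ≤
      (Submodule.torsion A (M ⧸ N)).comap N.mkQ := by
  intro m hm
  rw [Submodule.mem_comap] at hm ⊢
  obtain ⟨ψ, hψ⟩ := hm
  by_contra hq
  obtain ⟨φ, hφ⟩ := Groth.Agent.Lib.Torsionless.exists_dual_ne_zero_of_not_torsion (N.mkQ m) hq
  let Φ : Module.Dual A M := φ ∘ₗ N.mkQ
  have h1 : Module.Dual.eval A M m Φ = φ (N.mkQ m) := rfl
  have h2 : N.subtype.dualMap.dualMap ψ Φ = 0 := by
    rw [LinearMap.dualMap_apply]
    have h3 : N.subtype.dualMap Φ = 0 := by
      ext n
      simp only [Φ, LinearMap.dualMap_apply, LinearMap.comp_apply, Submodule.subtype_apply,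
        Submodule.mkQ_apply, LinearMap.zero_apply]
      rw [(Submodule.Quotient.mk_eq_zero N).2 n.2, map_zero]
    rw [h3, map_zero]
  rw [hψ, h1] at h2
  exact hφ h2

end Groth.Agent.S14994
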