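import Groth.Statements.S15004
-- import your own Groth.Agent.* helpers here

set_option autoImplicit false
universe u v
open Harb

namespace Groth.Agent.S15004

/-- Let C be a finite family of d curves, recorded as an incidence relation between a type of points and
a finite index type, such that any two distinct curves of the family meet in exactly h points; for a
point p write r_p for the number of curves of the family through p. Then for every curve C_i of the
family, Σ_{p ∈ C_i} (r_p − 1) = h (d − 1), the sum being finitely supported. (The published
statement is for a transversal arrangement of curves on a geometrically ruled surface with invariant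
e, all numerically equivalent to a C₀ + b f, where any two of the curves meet transversally in h =
2ab − a²e points; only this common pairwise intersection count enters the proof, and this row states
the identity for an abstract incidence relation.) -/
theorem result (P : Type u) (ι : Type v) [Fintype ι]
    (inc : P → ι → Prop) (h : ℕ)
    (hfin : ∀ i j : ι, i ≠ j → {p : P | inc p i ∧ inc p j}.Finite)
    (hcount : ∀ i j : ι, i ≠ j → {p : P | inc p i ∧ inc p j}.ncard = h) (i : ι) :
    ∑ᶠ p ∈ {p : P | inc p i}, (Nat.card {j : ι // inc p j} - 1) = h * (Fintype.card ι - 1) := by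
  classical
  -- the finite set of points of `C_i` lying on another curve
  let T : Finset P := (Finset.univ.erase i).biUnion (fun j =>
    if hj : j = i then ∅ else (hfin i j (Ne.symm hj)).toFinset)
  have hT : ∀ p : P, p ∈ T ↔ inc p i ∧ ∃ j, j ≠ i ∧ inc p j := by
    intro p
    simp only [T, Finset.mem_biUnion, Finset.mem_erase, Finset.mem_univ, and_true]
    constructor
    · rintro ⟨j, hj, hp⟩
      rw [dif_neg hj] at hp
      rw [Set.Finite.mem_toFinset] at hp
      exact ⟨hp.1, j, hj, hp.2⟩
    · rintro ⟨hi, j, hj, hpj⟩
      refine ⟨j, hj, ?_⟩
      rw [dif_neg hj, Set.Finite.mem_toFinset]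
      exact ⟨hi, hpj⟩
  -- the multiplicity as a finset cardinality
  have hr : ∀ p : P, Nat.card {j : ι // inc p j} = (Finset.univ.filter (fun j => inc p j)).card := by
    intro p
    rw [Nat.card_eq_fintype_card, Fintype.card_subtype]
  have hr' : ∀ p : P, inc p i → Nat.card {j : ι // inc p j} - 1 =
      ((Finset.univ.erase i).filter (fun j => inc p j)).card := by
    intro p hp
    rw [hr p]
    have : (Finset.univ.erase i).filter (fun j => inc p j) =
        (Finset.univ.filter (fun j => inc p j)).erase i := by
      ext j; simp only [Finset.mem_filter, Finset.mem_erase, Finset.mem_univ, true_and]; tauto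
    rw [this, Finset.card_erase_of_mem]
    simp [hp]
  rw [finsum_mem_eq_sum_of_inter_support_eq (t := T)]
  · calc ∑ p ∈ T, (Nat.card {j : ι // inc p j} - 1)
        = ∑ p ∈ T, ∑ j ∈ Finset.univ.erase i, (if inc p j then 1 else 0) := by
          apply Finset.sum_congr rfl
          intro p hp
          rw [hr' p ((hT p).mp hp).1, Finset.card_filter]
      _ = ∑ j ∈ Finset.univ.erase i, ∑ p ∈ T, (if inc p j then 1 else 0) := Finset.sum_comm
      _ = ∑ j ∈ Finset.univ.erase i, h := by
          apply Finset.sum_congr rfl
          intro j hj
          have hji : j ≠ i := Finset.ne_of_mem_erase hj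
          rw [← Finset.card_filter, ← hcount i j (Ne.symm hji),
            Set.ncard_eq_toFinset_card _ (hfin i j (Ne.symm hji))]
          congr 1
          ext p
          simp only [Finset.mem_filter, Set.Finite.mem_toFinset, Set.mem_setOf_eq, hT]
          constructor
          · rintro ⟨⟨hi, _⟩, hj'⟩; exact ⟨hi, hj'⟩
          · rintro ⟨hi, hj'⟩; exact ⟨⟨hi, j, hji, hj'⟩, hj'⟩
      _ = h * (Fintype.card ι - 1) := by
          rw [Finset.sum_const, Finset.card_erase_of_mem (Finset.mem_univ i), Finset.card_univ,
            smul_eq_mul, mul_comm]
  · ext p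
    simp only [Set.mem_inter_iff, Set.mem_setOf_eq, Function.mem_support, Finset.mem_coe, hT]
    constructor
    · rintro ⟨hi, hne⟩
      refine ⟨⟨hi, ?_⟩, hne⟩
      rw [hr' p hi] at hne
      obtain ⟨j, hj⟩ := Finset.card_pos.mp (Nat.pos_of_ne_zero hne)
      rw [Finset.mem_filter, Finset.mem_erase] at hj
      exact ⟨j, hj.1.1, hj.2⟩
    · rintro ⟨⟨hi, _⟩, hne⟩
      exact ⟨hi, hne⟩

end Groth.Agent.S15004
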