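import Groth.Statements.S15005
-- import your own Groth.Agent.* helpers here

set_option autoImplicit false
universe u v
open Harb

namespace Groth.Agent.S15005

/-- Let C be a finite family of d curves, recorded as an incidence relation between a type of points and
a finite index type, such that any two distinct curves of the family meet in exactly h points; let
t_k be the number of k-fold points (points lying on exactly k curves of the family). Then f₂ − f₁ =
Σ_{k ≥ 2} k(k − 1) t_k equals h d(d − 1), where f_i = Σ_{k ≥ 2} k^i t_k. (The published statement is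
for a transversal arrangement of curves on a geometrically ruled surface with invariant e, all
numerically equivalent to a C₀ + b f, where any two of the curves meet transversally in h = 2ab −
a²e points; only this common pairwise intersection count enters the proof, and this row states the
identity for an abstract incidence relation.) -/
theorem result (P : Type u) (ι : Type v) [Fintype ι]
    (inc : P → ι → Prop) (h : ℕ)
    (hfin : ∀ i j : ι, i ≠ j → {p : P | inc p i ∧ inc p j}.Finite)
    (hcount : ∀ i j : ι, i ≠ j → {p : P | inc p i ∧ inc p j}.ncard = h) :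
    ∑ k ∈ Finset.Icc 2 (Fintype.card ι), k * (k - 1) * Nat.card {p : P // Nat.card {j : ι // inc p j} = k} =
      h * (Fintype.card ι * (Fintype.card ι - 1)) := by
  classical
  -- the finite set of multiple points
  let T : Finset P := (Finset.univ.offDiag : Finset (ι × ι)).biUnion (fun ij =>
    if hij : ij.1 = ij.2 then ∅ else (hfin ij.1 ij.2 hij).toFinset)
  have hT : ∀ p : P, p ∈ T ↔ ∃ i j, i ≠ j ∧ inc p i ∧ inc p j := by
    intro p
    simp only [T, Finset.mem_biUnion, Finset.mem_offDiag, Finset.mem_univ, true_and]
    constructor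
    · rintro ⟨⟨i, j⟩, hij, hp⟩
      rw [dif_neg hij, Set.Finite.mem_toFinset] at hp
      exact ⟨i, j, hij, hp.1, hp.2⟩
    · rintro ⟨i, j, hij, hi, hj⟩
      refine ⟨⟨i, j⟩, hij, ?_⟩
      rw [dif_neg hij, Set.Finite.mem_toFinset]
      exact ⟨hi, hj⟩
  -- the multiplicity
  let r : P → ℕ := fun p => (Finset.univ.filter (fun j => inc p j)).card
  have hr : ∀ p : P, Nat.card {j : ι // inc p j} = r p := by
    intro p
    rw [Nat.card_eq_fintype_card, Fintype.card_subtype]
  have hrT : ∀ p : P, 2 ≤ r p → p ∈ T := by
    intro p hp
    obtain ⟨i, hi, j, hj, hij⟩ := Finset.one_lt_card.mp hp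
    rw [Finset.mem_filter] at hi hj
    exact (hT p).mpr ⟨i, j, hij, hi.2, hj.2⟩
  have hTr : ∀ p ∈ T, r p ∈ Finset.Icc 2 (Fintype.card ι) := by
    intro p hp
    obtain ⟨i, j, hij, hi, hj⟩ := (hT p).mp hp
    rw [Finset.mem_Icc]
    constructor
    · apply Finset.one_lt_card.mpr
      exact ⟨i, by simp [hi], j, by simp [hj], hij⟩
    · exact Finset.card_le_univ _
  have hcard : ∀ k ∈ Finset.Icc 2 (Fintype.card ι),
      Nat.card {p : P // Nat.card {j : ι // inc p j} = k} = (T.filter (fun p => r p = k)).card := by
    intro k hk
    have e : {p : P // Nat.card {j : ι // inc p j} = k} ≃ {p // p ∈ T.filter (fun p => r p = k)} :=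
      Equiv.subtypeEquivRight (fun p => by
        rw [Finset.mem_filter, hr p]
        constructor
        · intro h'; exact ⟨hrT p (h' ▸ (Finset.mem_Icc.mp hk).1), h'⟩
        · intro h'; exact h'.2)
    rw [Nat.card_congr e, Nat.card_eq_fintype_card, Fintype.card_coe]
  calc ∑ k ∈ Finset.Icc 2 (Fintype.card ι), k * (k - 1) * Nat.card {p : P // Nat.card {j : ι // inc p j} = k}
      = ∑ k ∈ Finset.Icc 2 (Fintype.card ι), ∑ p ∈ T.filter (fun p => r p = k), r p * (r p - 1) := by
        apply Finset.sum_congr rfl
        intro k hk
        rw [hcard k hk, Finset.card_eq_sum_ones, Finset.mul_sum]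
        apply Finset.sum_congr rfl
        intro p hp
        rw [(Finset.mem_filter.mp hp).2, mul_one]
    _ = ∑ p ∈ T, r p * (r p - 1) := Finset.sum_fiberwise_of_maps_to hTr _
    _ = ∑ p ∈ T, ∑ ij ∈ (Finset.univ.offDiag : Finset (ι × ι)), (if inc p ij.1 ∧ inc p ij.2 then 1 else 0) := by
        apply Finset.sum_congr rfl
        intro p _
        rw [← Finset.card_filter]
        have : (Finset.univ.offDiag : Finset (ι × ι)).filter (fun ij => inc p ij.1 ∧ inc p ij.2) =
            (Finset.univ.filter (fun j => inc p j)).offDiag := by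
          ext ⟨i, j⟩
          simp only [Finset.mem_filter, Finset.mem_offDiag, Finset.mem_univ, true_and]
          tauto
        rw [this, Finset.offDiag_card, Nat.mul_sub_one]
    _ = ∑ ij ∈ (Finset.univ.offDiag : Finset (ι × ι)), ∑ p ∈ T, (if inc p ij.1 ∧ inc p ij.2 then 1 else 0) :=
        Finset.sum_comm
    _ = ∑ ij ∈ (Finset.univ.offDiag : Finset (ι × ι)), h := by
        apply Finset.sum_congr rfl
        rintro ⟨i, j⟩ hij
        have hij' : i ≠ j := by simpa using hij
        rw [← Finset.card_filter, ← hcount i j hij', Set.ncard_eq_toFinset_card _ (hfin i j hij')]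
        congr 1
        ext p
        simp only [Finset.mem_filter, Set.Finite.mem_toFinset, Set.mem_ofPred_eq, hT]
        constructor
        · rintro ⟨_, h'⟩; exact h'
        · rintro ⟨hi, hj⟩; exact ⟨⟨i, j, hij', hi, hj⟩, hi, hj⟩
    _ = h * (Fintype.card ι * (Fintype.card ι - 1)) := by
        rw [Finset.sum_const, Finset.offDiag_card, Finset.card_univ, smul_eq_mul, mul_comm,
          Nat.mul_sub_one]

end Groth.Agent.S15005
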