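import Groth.Statements.S15006
import Mathlib.LinearAlgebra.Dimension.Constructions
import Mathlib.LinearAlgebra.Dimension.Finite
import Mathlib.Tactic.Positivity
import Mathlib.Tactic.Linarith
import Mathlib.Tactic.Ring

set_option autoImplicit false
universe u v
open Harb

namespace Groth.Agent.S15006

/-- Let C be a finite family of d ≥ 2 curves, recorded as an incidence relation between a type of points
and a finite index type, such that any two distinct curves of the family meet in exactly h ≥ 1
points and no point lies on every curve of the family. Then f₀ ≥ d: the number of multiple points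
(points lying on at least two of the curves) is at least the number of curves. (The published
statement is for a transversal arrangement of d ≥ 4 curves on a geometrically ruled surface with
invariant e ≥ 4, all numerically equivalent to a C₀ + b f with a ≥ 1 and b ≥ ae and with no point
common to all of them, satisfying in addition either a ≥ 2, or a = 1 with some four of the curves
having no point in common, where any two of the curves meet transversally in h = 2ab − a²e ≥ 1
points; only d ≥ 2, h ≥ 1 and the absence of a common point enter the proof, and this row states the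
bound for an abstract incidence relation.) -/
theorem result (P : Type u) (ι : Type v) [Fintype ι]
    (inc : P → ι → Prop) (h : ℕ) (hh : 0 < h) (hd : 2 ≤ Fintype.card ι)
    (hfin : ∀ i j : ι, i ≠ j → {p : P | inc p i ∧ inc p j}.Finite)
    (hcount : ∀ i j : ι, i ≠ j → {p : P | inc p i ∧ inc p j}.ncard = h)
    (hnone : ∀ p : P, ∃ i : ι, ¬ inc p i) :
    Fintype.card ι ≤ Nat.card {p : P // 2 ≤ Nat.card {j : ι // inc p j}} := by
  classical
  -- multiplicity ≥ 2 iff two distinct curves through the point
  have hmult : ∀ p : P, 2 ≤ Nat.card {j : ι // inc p j} ↔ ∃ i j : ι, i ≠ j ∧ inc p i ∧ inc p j := by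
    intro p
    rw [Nat.card_eq_fintype_card, Fintype.card_subtype]
    constructor
    · intro h2
      obtain ⟨a, ha, b, hb, hab⟩ := Finset.one_lt_card.mp h2
      simp only [Finset.mem_filter, Finset.mem_univ, true_and] at ha hb
      exact ⟨a, b, hab, ha, hb⟩
    · rintro ⟨a, b, hab, ha, hb⟩
      exact Finset.one_lt_card.mpr ⟨a, by simpa using ha, b, by simpa using hb, hab⟩
  set M : Set P := {p : P | 2 ≤ Nat.card {j : ι // inc p j}} with hM
  have hMfin : M.Finite := by
    have : M ⊆ ⋃ i : ι, ⋃ j : ι, (if i ≠ j then {p : P | inc p i ∧ inc p j} else ∅) := by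
      intro p hp
      obtain ⟨a, b, hab, ha, hb⟩ := (hmult p).mp hp
      simp only [Set.mem_iUnion]
      exact ⟨a, b, by rw [if_pos hab]; exact ⟨ha, hb⟩⟩
    refine Set.Finite.subset ?_ this
    refine Set.finite_iUnion (fun i => Set.finite_iUnion (fun j => ?_))
    by_cases hij : i ≠ j
    · rw [if_pos hij]; exact hfin i j hij
    · rw [if_neg hij]; exact Set.finite_empty
  change Fintype.card ι ≤ Nat.card M
  rw [Nat.card_coe_set_eq, Set.ncard_eq_toFinset_card M hMfin]
  set Mf : Finset P := hMfin.toFinset with hMf
  have hmemMf : ∀ p, p ∈ Mf ↔ p ∈ M := fun p => Set.Finite.mem_toFinset hMfin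
  -- pairwise counts within the multiple points
  set c : ι → ι → ℕ := fun i j => (Mf.filter (fun p => inc p i ∧ inc p j)).card with hc
  have hc_ne : ∀ i j, i ≠ j → c i j = h := by
    intro i j hij
    rw [← hcount i j hij, Set.ncard_eq_toFinset_card _ (hfin i j hij)]
    simp only [hc]
    congr 1
    ext p
    simp only [Finset.mem_filter, Set.Finite.mem_toFinset, Set.mem_ofPred_eq, hmemMf]
    constructor
    · exact fun hp => hp.2
    · exact fun hp => ⟨(hmult p).mpr ⟨i, j, hij, hp.1, hp.2⟩, hp⟩
  have hc_self : ∀ i, h < c i i := by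
    intro i
    by_contra hle
    push Not at hle
    obtain ⟨j, hji⟩ := Fintype.exists_ne_of_one_lt_card hd i
    have hsub : ∀ l, l ≠ i → (Mf.filter (fun p => inc p i ∧ inc p l)) =
        (Mf.filter (fun p => inc p i ∧ inc p i)) := by
      intro l hl
      apply Finset.eq_of_subset_of_card_le
      · intro p hp
        simp only [Finset.mem_filter] at hp ⊢
        exact ⟨hp.1, hp.2.1, hp.2.1⟩
      · change c i i ≤ c i l
        rw [hc_ne i l (Ne.symm hl)]; exact hle
    have hpos : 0 < c i j := by rw [hc_ne i j (Ne.symm hji)]; exact hh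
    obtain ⟨p, hp⟩ := Finset.card_pos.mp hpos
    obtain ⟨l, hl⟩ := hnone p
    have hp' := hp
    simp only [Finset.mem_filter] at hp'
    have hli : l ≠ i := by rintro rfl; exact hl hp'.2.1
    rw [hsub j hji, ← hsub l hli] at hp
    simp only [Finset.mem_filter] at hp
    exact hl hp.2.2
  -- the incidence vectors
  let v : ι → (Mf → ℚ) := fun i p => if inc p.1 i then 1 else 0
  have hdot : ∀ i j, ∑ p : Mf, v i p * v j p = (c i j : ℚ) := by
    intro i j
    simp only [v, hc]
    rw [Finset.card_filter, Nat.cast_sum]
    rw [← Finset.sum_coe_sort Mf]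
    refine Finset.sum_congr rfl (fun p _ => ?_)
    by_cases h1 : inc p.1 i <;> by_cases h2 : inc p.1 j <;> simp [h1, h2]
  have hli : LinearIndependent ℚ v := by
    rw [Fintype.linearIndependent_iff]
    intro g hg
    set s : ℚ := ∑ i, g i with hs
    have key : ∀ j, (h : ℚ) * s + ((c j j : ℚ) - h) * g j = 0 := by
      intro j
      have h0 : ∀ p : Mf, ∑ i, g i * v i p = 0 := by
        intro p
        have := congr_fun hg p
        simpa [Finset.sum_apply, Pi.smul_apply, smul_eq_mul] using this
      have h1 : ∑ p : Mf, (∑ i, g i * v i p) * v j p = 0 := by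
        simp [h0]
      have h2 : ∑ p : Mf, (∑ i, g i * v i p) * v j p = ∑ i, g i * (c i j : ℚ) := by
        simp_rw [Finset.sum_mul]
        rw [Finset.sum_comm]
        refine Finset.sum_congr rfl (fun i _ => ?_)
        rw [← hdot i j, Finset.mul_sum]
        refine Finset.sum_congr rfl (fun p _ => ?_)
        ring
      have h3 : ∑ i, g i * (c i j : ℚ) = (h : ℚ) * s + ((c j j : ℚ) - h) * g j := by
        have : ∀ i, g i * (c i j : ℚ) = (h : ℚ) * g i + (if i = j then ((c j j : ℚ) - h) * g j else 0) := by
          intro i
          by_cases hij : i = j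
          · subst hij; simp; ring
          · rw [hc_ne i j hij]; simp [hij]; ring
        simp_rw [this]
        rw [Finset.sum_add_distrib, ← Finset.mul_sum, Finset.sum_ite_eq' Finset.univ j]
        simp [hs]
      rw [← h3, ← h2, h1]
    have hsum : (h : ℚ) * s ^ 2 + ∑ j, ((c j j : ℚ) - h) * g j ^ 2 = 0 := by
      have : ∑ j, g j * ((h : ℚ) * s + ((c j j : ℚ) - h) * g j) = 0 := by
        simp [key]
      rw [← this]
      simp_rw [mul_add, Finset.sum_add_distrib]
      congr 1
      · rw [← Finset.sum_mul]
        simp_rw [hs.symm]
        ring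
      · refine Finset.sum_congr rfl (fun j _ => ?_)
        ring
    have hpos : ∀ j, 0 < (c j j : ℚ) - h := by
      intro j
      have := hc_self j
      have : (h : ℚ) < c j j := by exact_mod_cast this
      linarith
    have hnn : ∀ j ∈ Finset.univ, 0 ≤ ((c j j : ℚ) - h) * g j ^ 2 := by
      intro j _
      exact mul_nonneg (hpos j).le (sq_nonneg _)
    have hsn : 0 ≤ (h : ℚ) * s ^ 2 := mul_nonneg (by positivity) (sq_nonneg _)
    have hz : ∑ j, ((c j j : ℚ) - h) * g j ^ 2 = 0 := by
      have := Finset.sum_nonneg hnn
      linarith
    intro j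
    have := (Finset.sum_eq_zero_iff_of_nonneg hnn).mp hz j (Finset.mem_univ j)
    rcases mul_eq_zero.mp this with h1 | h1
    · exact absurd h1 (hpos j).ne'
    · exact pow_eq_zero_iff (two_ne_zero) |>.mp h1
  have := hli.fintype_card_le_finrank
  rw [Module.finrank_fintype_fun_eq_card, Fintype.card_coe] at this
  exact this

end Groth.Agent.S15006
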