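import Groth.Statements.S15007
-- import your own Groth.Agent.* helpers here

set_option autoImplicit false
universe u v
open Harb

namespace Groth.Agent.S15007

/-- Let C be a finite family of d ≥ 2 curves, recorded as an incidence relation between a type of points
and a finite index type, such that any two distinct curves of the family meet in exactly h ≥ 1
points and no point lies on every curve of the family. Then f₀ ≥ h + 2: the number of multiple
points (points lying on at least two of the curves) is at least h + 2. (The published claim reads f₀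
≥ 2ab − a²e + 2 for a transversal arrangement of d ≥ 4 curves on a geometrically ruled surface with
invariant e ≥ 4, all numerically equivalent to a C₀ + b f with a ≥ 1 and b ≥ ae and with no point
common to all of them, satisfying in addition either a ≥ 2, or a = 1 with some four of the curves
having no point in common, where any two of the curves meet transversally in h = 2ab − a²e ≥ 1
points; only d ≥ 2, h ≥ 1 and the absence of a common point enter the proof, and this row states the
bound for an abstract incidence relation.) -/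
theorem result (P : Type u) (ι : Type v) [Fintype ι]
    (inc : P → ι → Prop) (h : ℕ) (hh : 0 < h) (hd : 2 ≤ Fintype.card ι)
    (hfin : ∀ i j : ι, i ≠ j → {p : P | inc p i ∧ inc p j}.Finite)
    (hcount : ∀ i j : ι, i ≠ j → {p : P | inc p i ∧ inc p j}.ncard = h)
    (hnone : ∀ p : P, ∃ i : ι, ¬ inc p i) :
    h + 2 ≤ Nat.card {p : P // 2 ≤ Nat.card {j : ι // inc p j}} := by
  classical
  -- multiplicity ≥ 2 iff two distinct curves through the point
  have hmult : ∀ p : P, 2 ≤ Nat.card {j : ι // inc p j} ↔ ∃ i j : ι, i ≠ j ∧ inc p i ∧ inc p j := by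
    intro p
    rw [Nat.card_eq_fintype_card, Fintype.card_subtype]
    constructor
    · intro h2
      obtain ⟨a, ha, b, hb, hab⟩ := Finset.one_lt_card.mp h2
      simp only [Finset.mem_filter, Finset.mem_univ, true_and] at ha hb
      exact ⟨a, b, hab, ha, hb⟩
    · rintro ⟨a, b, hab, ha, hb⟩
      exact Finset.one_lt_card.mpr ⟨a, by simpa using ha, b, by simpa using hb, hab⟩
  set M : Set P := {p : P | 2 ≤ Nat.card {j : ι // inc p j}} with hM
  have hMfin : M.Finite := by
    have : M ⊆ ⋃ i : ι, ⋃ j : ι, (if i ≠ j then {p : P | inc p i ∧ inc p j} else ∅) := by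
      intro p hp
      obtain ⟨a, b, hab, ha, hb⟩ := (hmult p).mp hp
      simp only [Set.mem_iUnion]
      exact ⟨a, b, by rw [if_pos hab]; exact ⟨ha, hb⟩⟩
    refine Set.Finite.subset ?_ this
    refine Set.finite_iUnion (fun i => Set.finite_iUnion (fun j => ?_))
    by_cases hij : i ≠ j
    · rw [if_pos hij]; exact hfin i j hij
    · rw [if_neg hij]; exact Set.finite_empty
  change h + 2 ≤ Nat.card M
  rw [Nat.card_coe_set_eq]
  -- two distinct curves
  obtain ⟨i₁, i₂, h12⟩ := Fintype.one_lt_card_iff.mp hd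
  set S : Set P := {p : P | inc p i₁ ∧ inc p i₂} with hS
  have hSfin : S.Finite := hfin i₁ i₂ h12
  have hScard : S.ncard = h := hcount i₁ i₂ h12
  have hSne : S.Nonempty := by
    rw [← Set.ncard_pos hSfin, hScard]; exact hh
  obtain ⟨p, hp⟩ := hSne
  obtain ⟨i₃, hp3⟩ := hnone p
  have h31 : i₃ ≠ i₁ := by rintro rfl; exact hp3 hp.1
  have h32 : i₃ ≠ i₂ := by rintro rfl; exact hp3 hp.2
  -- a point of C₃ ∩ C₁ off C₂
  have hq : ∃ q, inc q i₃ ∧ inc q i₁ ∧ ¬ inc q i₂ := by
    by_contra hcon
    push Not at hcon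
    have hsub : {q : P | inc q i₃ ∧ inc q i₁} ⊆ S := fun q hq => ⟨hq.2, hcon q hq.1 hq.2⟩
    have heq : {q : P | inc q i₃ ∧ inc q i₁} = S :=
      Set.eq_of_subset_of_ncard_le hsub (by rw [hScard, hcount i₃ i₁ h31]) hSfin
    have : p ∈ {q : P | inc q i₃ ∧ inc q i₁} := by rw [heq]; exact hp
    exact hp3 this.1
  have hq' : ∃ q, inc q i₃ ∧ inc q i₂ ∧ ¬ inc q i₁ := by
    by_contra hcon
    push Not at hcon
    have hsub : {q : P | inc q i₃ ∧ inc q i₂} ⊆ S := fun q hq => ⟨hcon q hq.1 hq.2, hq.2⟩
    have heq : {q : P | inc q i₃ ∧ inc q i₂} = S :=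
      Set.eq_of_subset_of_ncard_le hsub (by rw [hScard, hcount i₃ i₂ h32]) hSfin
    have : p ∈ {q : P | inc q i₃ ∧ inc q i₂} := by rw [heq]; exact hp
    exact hp3 this.1
  obtain ⟨q, hq3, hq1, hq2⟩ := hq
  obtain ⟨q', hq'3, hq'2, hq'1⟩ := hq'
  have hqq' : q ≠ q' := by rintro rfl; exact hq'1 hq1
  have hqS : q ∉ S := fun hq => hq2 hq.2
  have hq'S : q' ∉ S := fun hq => hq'1 hq.1
  have hsubM : insert q (insert q' S) ⊆ M := by
    intro x hx
    rcases hx with rfl | rfl | hx
    · exact (hmult _).mpr ⟨i₃, i₁, h31, hq3, hq1⟩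
    · exact (hmult _).mpr ⟨i₃, i₂, h32, hq'3, hq'2⟩
    · exact (hmult _).mpr ⟨i₁, i₂, h12, hx.1, hx.2⟩
  have hcard : (insert q (insert q' S)).ncard = h + 2 := by
    rw [Set.ncard_insert_of_notMem _ (hSfin.insert q'), Set.ncard_insert_of_notMem hq'S hSfin, hScard]
    rintro (h1 | h1)
    · exact hqq' h1
    · exact hqS h1
  rw [← hcard]
  exact Set.ncard_le_ncard hsubM hMfin

end Groth.Agent.S15007
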