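import Groth.Statements.S15013
import Mathlib
import Groth.Agent.Lib.TorsionFree_helper9
import Groth.Agent.Lib.TorLES_helper5
-- import your own Groth.Agent.* helpers here

set_option autoImplicit false
universe u
open CategoryTheory
open TFCurv

namespace Groth.Agent.S15013

/-- Let O be a one-dimensional Noetherian local domain with algebraically closed residue field whose
integral closure O~ in its fraction field K is a finite O-module, and let w be a canonical ideal of
O, taken here as a nonzero finitely generated O-submodule of K whose injective dimension as an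
O-module is at most one. Then Ext^i_O(M, w) vanishes for all i ≥ 1 and every finitely generated
torsion-free O-module M. -/
theorem result (O : Type u) [CommRing O] [IsDomain O] [IsNoetherianRing O] [IsLocalRing O] (hdim : ringKrullDim O = 1) [IsAlgClosed (IsLocalRing.ResidueField O)] (K : Type u) [Field K] [Algebra O K] [IsFractionRing O K] (hfin : Module.Finite O ↥(integralClosure O K)) (ω : Submodule O K) (hω0 : ω ≠ ⊥) (hωfg : ω.FG) (hωinj : HasInjectiveDimensionLT (ModuleCat.of O ↥ω) 2) (M : Type u) [AddCommGroup M] [Module O M] [Module.Finite O M] [NoZeroSMulDivisors O M] (i : ℕ) (hi : 1 ≤ i) : Subsingleton (Abelian.Ext (ModuleCat.of O M) (ModuleCat.of O ↥ω) i) := by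

  haveI := hωinj
  rcases Nat.lt_or_ge i 2 with h | h
  · have hi1 : i = 1 := by omega
    subst hi1
    obtain ⟨n, g, hg⟩ := Groth.Agent.Lib.TorsionFree_helper9.exists_injective_to_fin_fun O M
    have hS := Groth.Agent.TorLES.mk_shortExact g (LinearMap.range g).mkQ hg
      (LinearMap.exact_map_mkQ_range g) (Submodule.mkQ_surjective _)
    haveI : CategoryTheory.Projective (ModuleCat.of O (Fin n → O)) :=
      (IsProjective.iff_projective _).mp inferInstance
    have key : ∀ x : CategoryTheory.Abelian.Ext (ModuleCat.of O M) (ModuleCat.of O ↥ω) 1,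
        x = 0 := by
      intro x
      obtain ⟨x₂, hx₂⟩ : ∃ x₂ : CategoryTheory.Abelian.Ext (ModuleCat.of O (Fin n → O))
          (ModuleCat.of O ↥ω) 1,
          (CategoryTheory.Abelian.Ext.mk₀ (ModuleCat.ofHom g)).comp x₂ (zero_add 1) = x :=
        CategoryTheory.Abelian.Ext.contravariant_sequence_exact₁ hS
          (ModuleCat.of O ↥ω) x (n₁ := 2) rfl
          (CategoryTheory.Abelian.Ext.eq_zero_of_hasInjectiveDimensionLT _ 2 le_rfl)
      have hx0 : x₂ = 0 := CategoryTheory.Abelian.Ext.eq_zero_of_projective x₂
      rw [← hx₂, hx0, CategoryTheory.Abelian.Ext.comp_zero]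
    exact ⟨fun x y => by rw [key x, key y]⟩
  · exact CategoryTheory.HasInjectiveDimensionLT.subsingleton _ 2 i h _

end Groth.Agent.S15013
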