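import Groth.Statements.S15017
import Mathlib.Tactic.IntervalCases
import Mathlib.Tactic.Ring
import Mathlib.Tactic.Push

set_option autoImplicit false
open TFCurv

namespace Groth.Agent.S15017

/-- Let Γ be a numerical semigroup (a submonoid of (ℕ, +) with finite complement), Γ ≠ ℕ, with conductor
c (every n ≥ c lies in Γ, c − 1 does not). If Γ is symmetric (for x < c, x is a gap exactly when c −
1 − x ∈ Γ) and has multiplicity greater than 2 (neither 1 nor 2 lies in Γ), then Γ is generated by
its elements smaller than c: every minimal generator of Γ is less than the conductor. -/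
theorem result (Γ : AddSubmonoid ℕ) (c : ℕ) (hc : ∀ n : ℕ, c ≤ n → n ∈ Γ) (hc0 : c ≠ 0) (hc1 : c - 1 ∉ Γ) (hsymm : ∀ x : ℕ, x < c → (x ∉ Γ ↔ c - 1 - x ∈ Γ)) (he : (1 : ℕ) ∉ Γ ∧ (2 : ℕ) ∉ Γ) : AddSubmonoid.closure {γ : ℕ | γ ∈ Γ ∧ γ < c} = Γ := by
  obtain ⟨h1, h2⟩ := he
  have hcΓ : c ∈ Γ := hc c le_rfl
  have hc3 : 3 ≤ c := by
    rcases Nat.lt_or_ge c 3 with h | h
    · interval_cases c
      · exact absurd rfl hc0
      · exact absurd hcΓ h1
      · exact absurd hcΓ h2
    · exact h
  have ha : c - 2 ∈ Γ := by
    have := (hsymm 1 (by omega)).mp h1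
    rwa [show c - 1 - 1 = c - 2 by omega] at this
  have hb : c - 3 ∈ Γ := by
    have := (hsymm 2 (by omega)).mp h2
    rwa [show c - 1 - 2 = c - 3 by omega] at this
  have hc5 : 5 ≤ c := by
    by_contra hlt
    have : c = 3 ∨ c = 4 := by omega
    rcases this with rfl | rfl
    · exact h1 ha
    · exact h2 ha
  have hc6 : 6 ≤ c := by
    by_contra hlt
    have : c = 5 := by omega
    subst this
    exact h2 hb
  -- main lemma: every element ≥ c is a sum of two positive elements
  have key : ∀ n, c ≤ n → ∃ s t, s ∈ Γ ∧ t ∈ Γ ∧ 0 < s ∧ 0 < t ∧ s + t = n := by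
    intro n hn
    by_contra hno
    push Not at hno
    set m := n - c + 1 with hm
    have P : ∀ x, x ∈ Γ → 0 < x → x < n → m ≤ x ∧ x - m ∈ Γ := by
      intro x hx hx0 hxn
      have hnx : n - x ∉ Γ := fun h => hno x (n - x) hx h hx0 (by omega) (by omega)
      have hlt : n - x < c := by
        by_contra hge
        exact hnx (hc _ (by omega))
      have := (hsymm (n - x) hlt).mp hnx
      refine ⟨by omega, ?_⟩
      rwa [show c - 1 - (n - x) = x - m by omega] at this
    have D : ∀ x, x ∈ Γ → x < n → ∀ k, k * m ≤ x → x - k * m ∈ Γ := by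
      intro x hx hxn k
      induction k with
      | zero => intro _; simpa using hx
      | succ k ih =>
        intro hk
        have hkm : (k + 1) * m = k * m + m := by ring
        have hk' : k * m ≤ x := by omega
        have h1' := ih hk'
        have := (P (x - k * m) h1' (by omega) (by omega)).2
        rwa [show x - k * m - m = x - (k + 1) * m by omega] at this
    have hmod : ∀ x, x ∈ Γ → x < n → x % m = 0 := by
      intro x hx hxn
      have h := D x hx hxn (x / m) (Nat.div_mul_le_self x m)
      have hx' : x - x / m * m = x % m := by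
        have := Nat.div_add_mod x m
        have h2 : m * (x / m) = x / m * m := Nat.mul_comm _ _
        omega
      rw [hx'] at h
      by_contra hne
      have h3 := (P (x % m) h (Nat.pos_of_ne_zero hne) (lt_of_le_of_lt (Nat.mod_le x m) hxn)).1
      have : x % m < m := Nat.mod_lt _ (by omega)
      omega
    have hma := hmod (c - 2) ha (by omega)
    have hmb := hmod (c - 3) hb (by omega)
    have hm1 : m = 1 := by
      have hd1 : m ∣ c - 2 := Nat.dvd_of_mod_eq_zero hma
      have hd2 : m ∣ c - 3 := Nat.dvd_of_mod_eq_zero hmb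
      have : m ∣ (c - 2) - (c - 3) := Nat.dvd_sub hd1 hd2
      rw [show (c - 2) - (c - 3) = 1 by omega] at this
      exact Nat.dvd_one.mp this
    have := D (c - 2) ha (by omega) (c - 3) (by rw [hm1]; omega)
    rw [hm1, show c - 2 - (c - 3) * 1 = 1 by omega] at this
    exact h1 this
  apply le_antisymm
  · rw [AddSubmonoid.closure_le]; exact fun x hx => hx.1
  · intro n
    induction n using Nat.strong_induction_on with
    | _ n ih =>
      intro hn
      rcases Nat.lt_or_ge n c with hlt | hge
      · exact AddSubmonoid.subset_closure ⟨hn, hlt⟩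
      · obtain ⟨s, t, hs, ht, hs0, ht0, rfl⟩ := key n hge
        exact add_mem (ih s (by omega) hs) (ih t (by omega) ht)

end Groth.Agent.S15017
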