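import Groth.Statements.S15018
import Mathlib.Tactic.IntervalCases
import Mathlib.Tactic.Ring
import Mathlib.Tactic.Push

set_option autoImplicit false
open TFCurv

namespace Groth.Agent.S15018

/-- Let Γ be a numerical semigroup (a submonoid of (ℕ, +) with finite complement), Γ ≠ ℕ, with conductor
c (every n ≥ c lies in Γ, c − 1 does not). Then Γ is symmetric (for x < c, x is a gap exactly when c
− 1 − x ∈ Γ) if and only if there is exactly one gap n of Γ such that Γ ∪ {n} is again stable under
adding elements of Γ, i.e. n + γ ∈ Γ for every nonzero γ ∈ Γ. -/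
theorem result (Γ : AddSubmonoid ℕ) (c : ℕ) (hc : ∀ n : ℕ, c ≤ n → n ∈ Γ) (hc0 : c ≠ 0) (hc1 : c - 1 ∉ Γ) : (∀ x : ℕ, x < c → (x ∉ Γ ↔ c - 1 - x ∈ Γ)) ↔ ∃! n : ℕ, n ∉ Γ ∧ ∀ γ : ℕ, γ ∈ Γ → γ ≠ 0 → n + γ ∈ Γ := by
  have hF : c - 1 ∉ Γ ∧ ∀ γ : ℕ, γ ∈ Γ → γ ≠ 0 → c - 1 + γ ∈ Γ :=
    ⟨hc1, fun γ _ hγ0 => hc _ (by omega)⟩
  constructor
  · intro hsymm
    refine ⟨c - 1, hF, ?_⟩
    rintro n ⟨hn, hnγ⟩
    by_contra hne
    have hnc : n < c := by
      by_contra hge
      exact hn (hc n (by omega))
    have h1 := (hsymm n hnc).mp hn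
    have h2 := hnγ (c - 1 - n) h1 (by omega)
    rw [show n + (c - 1 - n) = c - 1 by omega] at h2
    exact hc1 h2
  · rintro ⟨n₀, hn₀, huniq⟩
    have hn₀F : c - 1 = n₀ := huniq _ hF
    subst hn₀F
    intro x hx
    constructor
    · -- strong induction on `c - x`
      have Q : ∀ k x, x < c → c - x = k → x ∉ Γ → c - 1 - x ∈ Γ := by
        intro k
        induction k using Nat.strong_induction_on with
        | _ k ih =>
          intro x hx hk hxΓ
          by_contra hcon
          have hxPF : x ∉ Γ ∧ ∀ γ : ℕ, γ ∈ Γ → γ ≠ 0 → x + γ ∈ Γ := by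
            refine ⟨hxΓ, fun γ hγ hγ0 => ?_⟩
            by_contra hxγ
            have hlt : x + γ < c := by
              by_contra hge
              exact hxγ (hc _ (by omega))
            have h1 := ih (c - (x + γ)) (by omega) (x + γ) hlt rfl hxγ
            have h2 := add_mem h1 hγ
            rw [show c - 1 - (x + γ) + γ = c - 1 - x by omega] at h2
            exact hcon h2
          have := huniq x hxPF
          subst this
          apply hcon
          rw [show c - 1 - (c - 1) = 0 by omega]
          exact zero_mem Γ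
      exact Q (c - x) x hx rfl
    · intro h1 h2
      have := add_mem h1 h2
      rw [show c - 1 - x + x = c - 1 by omega] at this
      exact hc1 this

end Groth.Agent.S15018
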