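import Groth.Statements.S15019
import Mathlib.Tactic.IntervalCases
import Mathlib.Tactic.Ring
import Mathlib.Tactic.Push
import Mathlib.Order.Interval.Finset.Nat
import Mathlib.Data.Nat.ModEq

set_option autoImplicit false
open TFCurv

namespace Groth.Agent.S15019

/-- Let Γ be a numerical semigroup (a submonoid of (ℕ, +) with finite complement), Γ ≠ ℕ, with conductor
c (every n ≥ c lies in Γ, c − 1 does not), let e be its multiplicity (the least nonzero element of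
Γ), and let S ⊆ ℕ be a Γ-module in normal form: 0 ∈ S and γ + s ∈ S for all γ ∈ Γ, s ∈ S. Then the
set of gaps n of S with S ∪ {n} again a Γ-module (n + γ ∈ S for every nonzero γ ∈ Γ) has at most e −
1 elements, and so does the set of nonzero s ∈ S with S ∖ {s} again a Γ-module (s − γ ∉ S for every
nonzero γ ∈ Γ with γ ≤ s). -/
theorem result (Γ : AddSubmonoid ℕ) (c : ℕ) (hc : ∀ n : ℕ, c ≤ n → n ∈ Γ) (hc0 : c ≠ 0) (hc1 : c - 1 ∉ Γ) (e : ℕ) (he : e ∈ Γ) (he0 : e ≠ 0) (hemin : ∀ γ : ℕ, γ ∈ Γ → γ ≠ 0 → e ≤ γ) (S : Set ℕ) (hS0 : (0 : ℕ) ∈ S) (hS : ∀ γ : ℕ, γ ∈ Γ → ∀ s : ℕ, s ∈ S → γ + s ∈ S) : {n : ℕ | n ∉ S ∧ ∀ γ : ℕ, γ ∈ Γ → γ ≠ 0 → n + γ ∈ S}.encard ≤ ((e - 1 : ℕ) : ℕ∞) ∧ {s : ℕ | s ∈ S ∧ s ≠ 0 ∧ ∀ γ : ℕ, γ ∈ Γ → γ ≠ 0 → γ ≤ s → s - γ ∉ S}.encard ≤ ((e - 1 : ℕ) : ℕ∞) := by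
  have hmul : ∀ k : ℕ, k * e ∈ Γ := by
    intro k
    have := nsmul_mem he k
    simpa [smul_eq_mul] using this
  have he1 : 0 < e := Nat.pos_of_ne_zero he0
  have hcard : ((Finset.Ioo 0 e : Finset ℕ) : Set ℕ).encard = ((e - 1 : ℕ) : ℕ∞) := by
    rw [Set.encard_coe_eq_coe_finsetCard, Nat.card_Ioo]
    simp
  -- two congruent numbers differ by a multiple of `e`
  have hdiff : ∀ n n' : ℕ, n < n' → n % e = n' % e → ∃ k, k ≠ 0 ∧ n' = n + k * e := by
    intro n n' hlt hmod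
    have hd : e ∣ n' - n := (Nat.modEq_iff_dvd' hlt.le).mp hmod
    obtain ⟨k, hk⟩ := hd
    refine ⟨k, ?_, ?_⟩
    · rintro rfl
      simp at hk
      omega
    · rw [Nat.mul_comm] at hk
      omega
  have hzero : ∀ n : ℕ, n % e = 0 → ∃ k, n = k * e := by
    intro n hn
    obtain ⟨k, hk⟩ := Nat.dvd_of_mod_eq_zero hn
    exact ⟨k, by rw [hk, Nat.mul_comm]⟩
  constructor
  · rw [← hcard]
    refine Set.encard_le_encard_of_injOn (f := fun n => n % e) ?_ ?_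
    · rintro n ⟨hnS, hn⟩
      simp only [Finset.coe_Ioo, Set.mem_Ioo]
      refine ⟨Nat.pos_of_ne_zero (fun h0 => ?_), Nat.mod_lt _ he1⟩
      obtain ⟨k, rfl⟩ := hzero n h0
      apply hnS
      have := hS _ (hmul k) 0 hS0
      simpa using this
    · have key : ∀ n n' : ℕ, n ∉ S → (∀ γ : ℕ, γ ∈ Γ → γ ≠ 0 → n + γ ∈ S) → n' ∉ S →
          n < n' → n % e = n' % e → False := by
        intro n n' _ hn hn' hlt hmod
        obtain ⟨k, hk0, rfl⟩ := hdiff n n' hlt hmod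
        exact hn' (hn _ (hmul k) (Nat.mul_ne_zero hk0 he0))
      rintro n ⟨hnS, hn⟩ n' ⟨hn'S, hn'⟩ hmod
      simp only at hmod
      rcases lt_trichotomy n n' with hlt | heq | hgt
      · exact (key n n' hnS hn hn'S hlt hmod).elim
      · exact heq
      · exact (key n' n hn'S hn' hnS hgt hmod.symm).elim
  · rw [← hcard]
    refine Set.encard_le_encard_of_injOn (f := fun n => n % e) ?_ ?_
    · rintro s ⟨hsS, hs0, hs⟩
      simp only [Finset.coe_Ioo, Set.mem_Ioo]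
      refine ⟨Nat.pos_of_ne_zero (fun h0 => ?_), Nat.mod_lt _ he1⟩
      obtain ⟨k, rfl⟩ := hzero s h0
      have hk0 : k ≠ 0 := by rintro rfl; simp at hs0
      apply hs (k * e) (hmul k) (Nat.mul_ne_zero hk0 he0) le_rfl
      simpa using hS0
    · have key : ∀ s s' : ℕ, s ∈ S →
          (∀ γ : ℕ, γ ∈ Γ → γ ≠ 0 → γ ≤ s' → s' - γ ∉ S) →
          s < s' → s % e = s' % e → False := by
        intro s s' hs hs' hlt hmod
        obtain ⟨k, hk0, rfl⟩ := hdiff s s' hlt hmod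
        apply hs' (k * e) (hmul k) (Nat.mul_ne_zero hk0 he0) (by omega)
        simpa using hs
      rintro s ⟨hsS, hs0, hs⟩ s' ⟨hs'S, hs'0, hs'⟩ hmod
      simp only at hmod
      rcases lt_trichotomy s s' with hlt | heq | hgt
      · exact (key s s' hsS hs' hlt hmod).elim
      · exact heq
      · exact (key s' s hs'S hs hgt hmod.symm).elim

end Groth.Agent.S15019
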