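import Groth.Statements.S15024
import Mathlib
import Groth.Agent.Lib.TFCurvTor_helper6
-- import your own Groth.Agent.* helpers here

set_option autoImplicit false
universe u
open CategoryTheory
open TFCurv

namespace Groth.Agent.S15024

/-- Let O be a one-dimensional Noetherian local domain with algebraically closed residue field whose
integral closure O~ in its fraction field K is a finite O-module, M a finitely generated
torsion-free O-module and f : O^n → M an injective O-linear map whose cokernel T has finite length.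
Then Tor_1^O(O~, M) and Tor_1^O(O~, T) are isomorphic (existence of an isomorphism only), and O~ ⊗_O
f : O~ ⊗ O^n → O~ ⊗ M is injective, so that 0 → O~^n → O~ ⊗ M → O~ ⊗ T → 0 is exact. -/
theorem result (O : Type u) [CommRing O] [IsDomain O] [IsNoetherianRing O] [IsLocalRing O] (hdim : ringKrullDim O = 1) [IsAlgClosed (IsLocalRing.ResidueField O)] (K : Type u) [Field K] [Algebra O K] [IsFractionRing O K] (hfin : Module.Finite O ↥(integralClosure O K)) (M : Type u) [AddCommGroup M] [Module O M] [Module.Finite O M] [NoZeroSMulDivisors O M] (n : ℕ) (f : (Fin n → O) →ₗ[O] M) (hf : Function.Injective f) (hT : IsFiniteLength O (M ⧸ LinearMap.range f)) : Nonempty (((Tor (ModuleCat.{u} O) 1).obj (ModuleCat.of O ↥(integralClosure O K))).obj (ModuleCat.of O M) ≅ ((Tor (ModuleCat.{u} O) 1).obj (ModuleCat.of O ↥(integralClosure O K))).obj (ModuleCat.of O (M ⧸ LinearMap.range f))) ∧ Function.Injective (LinearMap.lTensor ↥(integralClosure O K) f) := by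

  classical
  have hdim0 : ringKrullDim O ≠ 0 := by rw [hdim]; exact one_ne_zero
  haveI : NoZeroSMulDivisors O K := ⟨fun {c x} hcx => by
    rw [Algebra.smul_def, mul_eq_zero] at hcx
    rcases hcx with h | h
    · left; exact (IsFractionRing.injective O K) (h.trans (map_zero _).symm)
    · right; exact h⟩
  haveI : NoZeroSMulDivisors O ↥(integralClosure O K) :=
    Function.Injective.noZeroSMulDivisors (integralClosure O K).val Subtype.val_injective
      (map_zero _) (fun c x => map_smul _ c x)
  have htors : ∀ m : M, ∃ a : O, a ≠ 0 ∧ a • m ∈ LinearMap.range f := by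
    intro m
    obtain ⟨a, ha0, ha⟩ := Groth.Agent.Lib.TFCurvTor_helper6.exists_smul_eq_zero_of_fl hdim0 _ hT
      ((LinearMap.range f).mkQ m)
    refine ⟨a, ha0, ?_⟩
    rw [← map_smul, Submodule.mkQ_apply, Submodule.Quotient.mk_eq_zero] at ha
    exact ha
  obtain ⟨a, ha0, ha⟩ :=
    Groth.Agent.Lib.TFCurvTor_helper6.exists_smul_mem_of_fg (LinearMap.range f) htors
  obtain ⟨h, -, hh⟩ := Groth.Agent.Lib.TFCurvTor_helper6.exists_section f hf a ha
  haveI := Groth.Agent.Lib.TFCurvTor_helper6.noZeroSMulDivisors_tensor_pi (O := O)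
    ↥(integralClosure O K) n
  have hinj : Function.Injective (LinearMap.lTensor ↥(integralClosure O K) f) := by
    rw [injective_iff_map_eq_zero]
    intro t ht
    have h1 := Groth.Agent.Lib.TFCurvTor_helper6.smul_eq_zero_of_lTensor_eq_zero
      ↥(integralClosure O K) f h a hh t ht
    exact (smul_eq_zero.mp h1).resolve_left ha0
  refine ⟨?_, hinj⟩
  let S := ShortComplex.moduleCatMk f (LinearMap.range f).mkQ
    (LinearMap.exact_map_mkQ_range f).linearMap_comp_eq_zero
  have hS : S.ShortExact := Groth.Agent.TorLES.mk_shortExact f _ hf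
    (LinearMap.exact_map_mkQ_range f) (Submodule.mkQ_surjective _)
  obtain ⟨⟨w₀, ex2⟩, -, -⟩ :=
    Groth.Agent.TorBal.tor_les_right (ModuleCat.of O ↥(integralClosure O K)) S hS 1
  obtain ⟨-, -, δ, w₁, w₂, ex3, ex1⟩ :=
    Groth.Agent.TorBal.tor_les_right (ModuleCat.of O ↥(integralClosure O K)) S hS 0
  haveI hz : Subsingleton (((Tor (ModuleCat.{u} O) 1).obj
      (ModuleCat.of O ↥(integralClosure O K))).obj (ModuleCat.of O (Fin n → O))) :=
    ModuleCat.subsingleton_of_isZero
      (Groth.Agent.TorLES.torZero_succ_of_flat_right (Fin n → O) 0 ↥(integralClosure O K))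
  have hbinj : Function.Injective (((Tor (ModuleCat.{u} O) 1).obj
      (ModuleCat.of O ↥(integralClosure O K))).map S.g).hom := by
    rw [injective_iff_map_eq_zero]
    intro x hx
    obtain ⟨z, rfl⟩ := (ShortComplex.moduleCat_exact_iff _).mp ex2 x hx
    have hz0 : z = 0 := Subsingleton.elim (α := ↑(((Tor (ModuleCat.{u} O) 1).obj
      (ModuleCat.of O ↥(integralClosure O K))).obj (ModuleCat.of O (Fin n → O)))) z 0
    rw [hz0]
    exact map_zero _
  have hw : ∀ y, (((Tor (ModuleCat.{u} O) 0).obj
      (ModuleCat.of O ↥(integralClosure O K))).map S.f).hom (δ.hom y) = 0 := by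
    intro y
    have := congrArg (fun ψ => ψ.hom y) w₂
    simpa using this
  have hbsurj : Function.Surjective (((Tor (ModuleCat.{u} O) 1).obj
      (ModuleCat.of O ↥(integralClosure O K))).map S.g).hom := by
    intro y
    have h1 : δ.hom y = 0 := by
      apply (Groth.Agent.Lib.TFCurvTor_helper6.e0 ↥(integralClosure O K) S.X₁).injective
      rw [map_zero]
      apply hinj
      have h2 := Groth.Agent.Lib.TFCurvTor_helper6.e0_naturality ↥(integralClosure O K) S.f
        (δ.hom y)
      rw [hw y, map_zero] at h2
      exact h2.symm.trans (map_zero _).symm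
    exact (ShortComplex.moduleCat_exact_iff _).mp ex3 y h1
  exact ⟨(LinearEquiv.ofBijective _ ⟨hbinj, hbsurj⟩).toModuleIso⟩

end Groth.Agent.S15024
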