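import Groth.Statements.S15025
import Mathlib
import Groth.Agent.Lib.TFCurvTor_helper6
-- import your own Groth.Agent.* helpers here

set_option autoImplicit false
universe u
open CategoryTheory
open TFCurv

namespace Groth.Agent.S15025

/-- Let O be a one-dimensional Noetherian local domain with algebraically closed residue field whose
integral closure O~ in its fraction field K is a finite O-module, M a finitely generated
torsion-free O-module and g : M → O^n an injective O-linear map whose cokernel T' has finite length.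
Then the torsion submodule of O~ ⊗_O M is O-linearly isomorphic to Tor_1^O(O~, T') (existence of an
isomorphism only). -/
theorem result (O : Type u) [CommRing O] [IsDomain O] [IsNoetherianRing O] [IsLocalRing O] (hdim : ringKrullDim O = 1) [IsAlgClosed (IsLocalRing.ResidueField O)] (K : Type u) [Field K] [Algebra O K] [IsFractionRing O K] (hfin : Module.Finite O ↥(integralClosure O K)) (M : Type u) [AddCommGroup M] [Module O M] [Module.Finite O M] [NoZeroSMulDivisors O M] (n : ℕ) (g : M →ₗ[O] (Fin n → O)) (hg : Function.Injective g) (hT : IsFiniteLength O ((Fin n → O) ⧸ LinearMap.range g)) : Nonempty (↥(Submodule.torsion O (TensorProduct O ↥(integralClosure O K) M)) ≃ₗ[O] ↑(((Tor (ModuleCat.{u} O) 1).obj (ModuleCat.of O ↥(integralClosure O K))).obj (ModuleCat.of O ((Fin n → O) ⧸ LinearMap.range g)))) := by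

  classical
  have hdim0 : ringKrullDim O ≠ 0 := by rw [hdim]; exact one_ne_zero
  haveI : NoZeroSMulDivisors O K := ⟨fun {c x} hcx => by
    rw [Algebra.smul_def, mul_eq_zero] at hcx
    rcases hcx with h | h
    · left; exact (IsFractionRing.injective O K) (h.trans (map_zero _).symm)
    · right; exact h⟩
  haveI : NoZeroSMulDivisors O ↥(integralClosure O K) :=
    Function.Injective.noZeroSMulDivisors (integralClosure O K).val Subtype.val_injective
      (map_zero _) (fun c x => map_smul _ c x)
  have htors : ∀ v : Fin n → O, ∃ a : O, a ≠ 0 ∧ a • v ∈ LinearMap.range g := by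
    intro v
    obtain ⟨a, ha0, ha⟩ := Groth.Agent.Lib.TFCurvTor_helper6.exists_smul_eq_zero_of_fl hdim0 _ hT ((LinearMap.range g).mkQ v)
    refine ⟨a, ha0, ?_⟩
    rw [← map_smul, Submodule.mkQ_apply, Submodule.Quotient.mk_eq_zero] at ha
    exact ha
  obtain ⟨a, ha0, ha⟩ := Groth.Agent.Lib.TFCurvTor_helper6.exists_smul_mem_of_fg (LinearMap.range g) htors
  obtain ⟨h, -, hh⟩ := Groth.Agent.Lib.TFCurvTor_helper6.exists_section g hg a ha
  have hA : ∀ t : TensorProduct O ↥(integralClosure O K) M,
      LinearMap.lTensor ↥(integralClosure O K) g t = 0 →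
      t ∈ Submodule.torsion O (TensorProduct O ↥(integralClosure O K) M) := by
    intro t ht
    rw [Submodule.mem_torsion_iff]
    exact ⟨⟨a, mem_nonZeroDivisors_of_ne_zero ha0⟩,
      Groth.Agent.Lib.TFCurvTor_helper6.smul_eq_zero_of_lTensor_eq_zero ↥(integralClosure O K) g h a hh t ht⟩
  haveI := Groth.Agent.Lib.TFCurvTor_helper6.noZeroSMulDivisors_tensor_pi (O := O) ↥(integralClosure O K) n
  have hB : ∀ t : TensorProduct O ↥(integralClosure O K) M,
      t ∈ Submodule.torsion O (TensorProduct O ↥(integralClosure O K) M) →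
      LinearMap.lTensor ↥(integralClosure O K) g t = 0 := by
    intro t ht
    rw [Submodule.mem_torsion_iff] at ht
    obtain ⟨c, hc⟩ := ht
    have hc' : (c : O) • t = 0 := hc
    have h1 : (c : O) • LinearMap.lTensor ↥(integralClosure O K) g t = 0 := by
      rw [← map_smul, hc', map_zero]
    exact (smul_eq_zero.mp h1).resolve_left (nonZeroDivisors.coe_ne_zero c)
  let S := ShortComplex.moduleCatMk g (LinearMap.range g).mkQ
    (LinearMap.exact_map_mkQ_range g).linearMap_comp_eq_zero
  have hS : S.ShortExact := Groth.Agent.TorLES.mk_shortExact g _ hg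
    (LinearMap.exact_map_mkQ_range g) (Submodule.mkQ_surjective _)
  obtain ⟨-, -, δ, w₁, w₂, ex3, ex1⟩ :=
    Groth.Agent.TorBal.tor_les_right (ModuleCat.of O ↥(integralClosure O K)) S hS 0
  haveI hz : Subsingleton (((Tor (ModuleCat.{u} O) 1).obj
      (ModuleCat.of O ↥(integralClosure O K))).obj (ModuleCat.of O (Fin n → O))) :=
    ModuleCat.subsingleton_of_isZero
      (Groth.Agent.TorLES.torZero_succ_of_flat_right (Fin n → O) 0 ↥(integralClosure O K))
  have hδinj : Function.Injective δ.hom := by
    rw [injective_iff_map_eq_zero]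
    intro y hy
    obtain ⟨x, rfl⟩ := (ShortComplex.moduleCat_exact_iff _).mp ex3 y hy
    have hx : x = 0 := Subsingleton.elim (α := ↑(((Tor (ModuleCat.{u} O) 1).obj
      (ModuleCat.of O ↥(integralClosure O K))).obj (ModuleCat.of O (Fin n → O)))) x 0
    rw [hx]
    exact map_zero _
  have hw : ∀ y, (((Tor (ModuleCat.{u} O) 0).obj
      (ModuleCat.of O ↥(integralClosure O K))).map S.f).hom (δ.hom y) = 0 := by
    intro y
    have := congrArg (fun ψ => ψ.hom y) w₂
    simpa using this
  let φ : ↑(((Tor (ModuleCat.{u} O) 1).obj (ModuleCat.of O ↥(integralClosure O K))).obj S.X₃)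
      →ₗ[O] TensorProduct O ↥(integralClosure O K) M :=
    (Groth.Agent.Lib.TFCurvTor_helper6.e0 ↥(integralClosure O K) S.X₁).toLinearMap ∘ₗ δ.hom
  have hφ2 : ∀ y, LinearMap.lTensor ↥(integralClosure O K) g (φ y) = 0 := by
    intro y
    have h1 := Groth.Agent.Lib.TFCurvTor_helper6.e0_naturality ↥(integralClosure O K) S.f (δ.hom y)
    rw [hw y, map_zero] at h1
    exact h1.symm
  have hφ3 : ∀ t, LinearMap.lTensor ↥(integralClosure O K) g t = 0 → ∃ y, φ y = t := by
    intro t ht
    have h1 : (((Tor (ModuleCat.{u} O) 0).obj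
        (ModuleCat.of O ↥(integralClosure O K))).map S.f).hom
        ((Groth.Agent.Lib.TFCurvTor_helper6.e0 ↥(integralClosure O K) S.X₁).symm t) = 0 := by
      apply (Groth.Agent.Lib.TFCurvTor_helper6.e0 ↥(integralClosure O K) S.X₂).injective
      rw [Groth.Agent.Lib.TFCurvTor_helper6.e0_naturality, LinearEquiv.apply_symm_apply, map_zero]
      exact ht
    obtain ⟨y, hy⟩ := (ShortComplex.moduleCat_exact_iff _).mp ex1 _ h1
    refine ⟨y, ?_⟩
    show Groth.Agent.Lib.TFCurvTor_helper6.e0 ↥(integralClosure O K) S.X₁ (δ.hom y) = t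
    have hy' : δ.hom y = (Groth.Agent.Lib.TFCurvTor_helper6.e0 ↥(integralClosure O K) S.X₁).symm t := hy
    rw [hy', LinearEquiv.apply_symm_apply]
  have hφinj : Function.Injective φ := (Groth.Agent.Lib.TFCurvTor_helper6.e0 ↥(integralClosure O K) S.X₁).injective.comp hδinj
  let Φ := φ.codRestrict (Submodule.torsion O (TensorProduct O ↥(integralClosure O K) M))
    (fun y => hA _ (hφ2 y))
  have hΦ : Function.Bijective Φ := by
    refine ⟨fun x y hxy => hφinj (congrArg Subtype.val hxy), ?_⟩
    rintro ⟨t, ht⟩
    obtain ⟨y, hy⟩ := hφ3 t (hB t ht)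
    exact ⟨y, Subtype.ext hy⟩
  exact ⟨(LinearEquiv.ofBijective Φ hΦ).symm⟩

end Groth.Agent.S15025
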