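import Groth.Statements.S15036
import Mathlib.Tactic.IntervalCases
import Mathlib.Tactic.Ring
import Mathlib.Tactic.Push
import Mathlib.Data.Nat.Nth
import Mathlib.Data.Nat.Count

set_option autoImplicit false
open TFCurv

namespace Groth.Agent.S15036

/-- Let Γ be a numerical semigroup (a submonoid of (ℕ, +) with finite complement), Γ ≠ ℕ, with conductor
c (every n ≥ c lies in Γ, c − 1 does not); let S ⊆ ℕ be a Γ-module in normal form (0 ∈ S, γ + s ∈ S
for γ ∈ Γ, s ∈ S) with conductor c(S) (all n ≥ c(S) in S, c(S) − 1 ∉ S), and let s be a gap of S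
such that S ∪ {s} is again a Γ-module. Enumerate S increasingly as s_0 < s_1 < ⋯ and put τ_i(S) =
s_i + ℓ(S), where ℓ counts the gaps of Γ filled; since ℓ(S ∪ {s}) = ℓ(S) + 1, the termwise
comparison τ(S) ≤ τ(S ∪ {s}) says that the i-th element of S is at most one more than the i-th
element of S ∪ {s} for every i. This holds if and only if s = c(S) − 1, the largest gap of S. -/
theorem result (Γ : AddSubmonoid ℕ) (c : ℕ) (hc : ∀ n : ℕ, c ≤ n → n ∈ Γ) (hc0 : c ≠ 0) (hc1 : c - 1 ∉ Γ) (S : Set ℕ) (hS0 : (0 : ℕ) ∈ S) (hS : ∀ γ : ℕ, γ ∈ Γ → ∀ s : ℕ, s ∈ S → γ + s ∈ S) (cS : ℕ) (hcS : ∀ n : ℕ, cS ≤ n → n ∈ S) (hcS0 : cS ≠ 0) (hcS1 : cS - 1 ∉ S) (s : ℕ) (hs : s ∉ S) (hs' : ∀ γ : ℕ, γ ∈ Γ → γ ≠ 0 → s + γ ∈ S) : (∀ i : ℕ, Nat.nth (fun m => m ∈ S) i ≤ Nat.nth (fun m => m ∈ insert s S) i + 1) ↔ s + 1 = cS := by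
  classical
  set p : ℕ → Prop := fun m => m ∈ S with hp
  set q : ℕ → Prop := fun m => m ∈ insert s S with hq
  have hpinf : (Set.ofPred p).Infinite := by
    apply Set.infinite_of_forall_exists_gt
    intro a
    exact ⟨max a cS + 1, hcS _ (by omega), by omega⟩
  have hqinf : (Set.ofPred q).Infinite := by
    apply Set.infinite_of_forall_exists_gt
    intro a
    exact ⟨max a cS + 1, Or.inr (hcS _ (by omega)), by omega⟩
  have hs_lt : s < cS := by
    by_contra hge
    exact hs (hcS s (by omega))
  have hqiff : ∀ m, q m ↔ (m = s ∨ p m) := fun m => Iff.rfl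
  have hcount : ∀ m, Nat.count q m = Nat.count p m + if s < m then 1 else 0 := by
    intro m
    induction m with
    | zero => simp
    | succ m ih =>
      rw [Nat.count_succ, Nat.count_succ, ih]
      by_cases hm : m = s
      · subst hm
        have h1 : q m := Or.inl rfl
        have h2 : ¬ p m := hs
        simp [h1, h2]
      · have h1 : q m ↔ p m := by rw [hqiff]; simp [hm]
        by_cases hpm : p m
        · have hqm : q m := h1.mpr hpm
          simp only [hpm, hqm, if_true]
          split_ifs <;> omega
        · have hqm : ¬ q m := fun h => hpm (h1.mp h)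
          simp only [hpm, hqm, if_false]
          split_ifs <;> omega
  constructor
  · intro H
    by_contra hne
    have hlt : s + 1 < cS := by omega
    have h1 : Nat.nth p (Nat.count p cS) = cS := Nat.nth_count (hcS cS le_rfl)
    have h2 : Nat.count p cS = Nat.count p (cS - 1) := by
      have : cS = (cS - 1) + 1 := by omega
      conv_lhs => rw [this]
      rw [Nat.count_succ]
      simp [hp, hcS1]
    have h3 : Nat.count q (cS - 1) = Nat.count p (cS - 1) + 1 := by
      rw [hcount, if_pos (by omega)]
    have h4 : Nat.nth q (Nat.count p cS) < cS - 1 := by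
      rw [← Nat.lt_nth_iff_count_lt hqinf, h3, h2]
      omega
    have := H (Nat.count p cS)
    rw [h1] at this
    omega
  · intro hsc i
    have hqm : q (Nat.nth q i) := Nat.nth_mem_of_infinite hqinf i
    have hci : Nat.count q (Nat.nth q i) = i := Nat.count_nth_of_infinite hqinf i
    set m := Nat.nth q i with hm
    have hgoal : Nat.nth p i < m + 2 := by
      rw [← Nat.lt_nth_iff_count_lt hpinf]
      rw [show m + 2 = (m + 1) + 1 from rfl, Nat.count_succ, Nat.count_succ]
      rw [hcount] at hci
      rcases (hqiff m).mp hqm with hms | hpm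
      · have h1 : p (m + 1) := hcS _ (by omega)
        have h2 : ¬ s < m := by omega
        rw [if_neg h2] at hci
        rw [if_pos h1]
        omega
      · rw [if_pos hpm]
        by_cases hsm : s < m
        · have h1 : p (m + 1) := hcS _ (by omega)
          rw [if_pos hsm] at hci
          rw [if_pos h1]
          omega
        · rw [if_neg hsm] at hci
          omega
    omega

end Groth.Agent.S15036
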