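import Groth.Statements.S15037
import Mathlib.Tactic.IntervalCases
import Mathlib.Tactic.Ring
import Mathlib.Tactic.Push
import Mathlib.Data.Nat.Nth
import Mathlib.Data.Nat.Count

set_option autoImplicit false
open TFCurv

namespace Groth.Agent.S15037

theorem aux (T : Set ℕ) (cT : ℕ) (hcT : ∀ n, cT ≤ n → n ∈ T) (hcT1 : cT = 0 ∨ cT - 1 ∉ T) :
    (T ∩ Set.Iio cT).ncard + Tᶜ.ncard = cT ∧
    (∀ i, (T ∩ Set.Iio cT).ncard ≤ i → Nat.nth (fun m => m ∈ T) i = i + Tᶜ.ncard) ∧
    (∀ i, Nat.nth (fun m => m ∈ T) i ≤ i + Tᶜ.ncard) ∧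
    (1 ≤ (T ∩ Set.Iio cT).ncard →
      Nat.nth (fun m => m ∈ T) ((T ∩ Set.Iio cT).ncard - 1) + 2 ≤ cT) := by
  classical
  set p : ℕ → Prop := fun m => m ∈ T with hp
  have hinf : (Set.ofPred p).Infinite := by
    apply Set.infinite_of_forall_exists_gt
    intro a
    exact ⟨max a cT + 1, hcT _ (by omega), by omega⟩
  have hb : ∀ m, Nat.count p m + Nat.count (fun m => ¬ p m) m = m := by
    intro m
    induction m with
    | zero => simp
    | succ m ih =>
      rw [Nat.count_succ, Nat.count_succ]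
      by_cases h : p m <;> simp [h] <;> omega
  have hfin : Tᶜ.Finite := by
    refine (Set.finite_lt_nat cT).subset (fun n hn => ?_)
    by_contra h
    exact hn (hcT n (by simpa using h))
  have hgap_le : ∀ m, Nat.count (fun m => ¬ p m) m ≤ Tᶜ.ncard := by
    intro m
    rw [Nat.count_eq_card_filter_range, ← Set.ncard_coe_finset]
    apply Set.ncard_le_ncard _ hfin
    intro x hx
    simp only [Finset.coe_filter, Finset.mem_range, Set.mem_ofPred_eq] at hx
    exact hx.2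
  have hgap_eq : ∀ m, cT ≤ m → Nat.count (fun m => ¬ p m) m = Tᶜ.ncard := by
    intro m hm
    rw [Nat.count_eq_card_filter_range, ← Set.ncard_coe_finset]
    congr 1
    ext x
    simp only [Finset.coe_filter, Finset.mem_range, Set.mem_ofPred_eq, Set.mem_compl_iff]
    constructor
    · exact fun h => h.2
    · intro hx
      refine ⟨?_, hx⟩
      by_contra hge
      exact hx (hcT x (by omega))
  have hr : (T ∩ Set.Iio cT).ncard = Nat.count p cT := by
    rw [Nat.count_eq_card_filter_range, ← Set.ncard_coe_finset]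
    congr 1
    ext x
    simp only [Finset.coe_filter, Finset.mem_range, Set.mem_ofPred_eq, Set.mem_inter_iff,
      Set.mem_Iio]
    exact and_comm
  have hd : (T ∩ Set.Iio cT).ncard + Tᶜ.ncard = cT := by
    rw [hr, ← hgap_eq cT le_rfl]; exact hb cT
  refine ⟨hd, ?_, ?_, ?_⟩
  · intro i hi
    have hm : cT ≤ i + Tᶜ.ncard := by omega
    have h1 : Nat.count p (i + Tᶜ.ncard) = i := by
      have := hb (i + Tᶜ.ncard)
      rw [hgap_eq _ hm] at this
      omega
    have h2 := Nat.nth_count (p := p) (hcT _ hm)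
    rw [h1] at h2
    exact h2
  · intro i
    have h1 : Nat.count p (Nat.nth p i) = i := Nat.count_nth_of_infinite hinf i
    have h2 := hb (Nat.nth p i)
    have h3 := hgap_le (Nat.nth p i)
    rw [h1] at h2
    change Nat.nth p i ≤ _
    omega
  · intro h1
    have hcT0 : cT ≠ 0 := by omega
    have hnot : ¬ p (cT - 1) := by
      rcases hcT1 with h | h
      · exact absurd h hcT0
      · exact h
    have h2 : Nat.count p cT = Nat.count p (cT - 1) := by
      have : cT = (cT - 1) + 1 := by omega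
      conv_lhs => rw [this]
      rw [Nat.count_succ]
      simp [hnot]
    have h3 : Nat.nth p ((T ∩ Set.Iio cT).ncard - 1) < cT - 1 := by
      rw [← Nat.lt_nth_iff_count_lt hinf, ← h2, ← hr]
      omega
    change Nat.nth p _ + 2 ≤ cT
    omega

/-- Let Γ be a numerical semigroup (a submonoid of (ℕ, +) with finite complement), Γ ≠ ℕ, with conductor
c (every n ≥ c lies in Γ, c − 1 does not); let S and S' ⊆ ℕ be Γ-modules in normal form with
conductors c(S), c(S'), let δ(S), δ(S') be their numbers of gaps and r(S), r(S') their numbers of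
elements below the conductor, and enumerate them increasingly as s_i, s'_i (i ≥ 0). With τ_i(S) =
s_i + ℓ(S) and ℓ(S) = δ(Γ) − δ(S), the termwise order τ(S) ≤ τ(S') reads s_i + δ(S') ≤ s'_i + δ(S)
for all i. It holds if and only if r(S') ≤ r(S) and s_i + δ(S') ≤ s'_i + δ(S) for all i < r(S')
(beyond r(S) the entries τ_i(S) = i + δ(Γ) are the largest possible). -/
theorem result (Γ : AddSubmonoid ℕ) (c : ℕ) (hc : ∀ n : ℕ, c ≤ n → n ∈ Γ) (hc0 : c ≠ 0) (hc1 : c - 1 ∉ Γ) (S : Set ℕ) (hS0 : (0 : ℕ) ∈ S) (hS : ∀ γ : ℕ, γ ∈ Γ → ∀ s : ℕ, s ∈ S → γ + s ∈ S) (cS : ℕ) (hcS : ∀ n : ℕ, cS ≤ n → n ∈ S) (hcS1 : cS = 0 ∨ cS - 1 ∉ S) (S' : Set ℕ) (hS'0 : (0 : ℕ) ∈ S') (hS' : ∀ γ : ℕ, γ ∈ Γ → ∀ s : ℕ, s ∈ S' → γ + s ∈ S') (cS' : ℕ) (hcS' : ∀ n : ℕ, cS' ≤ n → n ∈ S') (hcS'1 : cS' = 0 ∨ cS' - 1 ∉ S') : (∀ i : ℕ, Nat.nth (fun m => m ∈ S) i + S'ᶜ.ncard ≤ Nat.nth (fun m => m ∈ S') i + Sᶜ.ncard) ↔ ((S' ∩ Set.Iio cS').ncard ≤ (S ∩ Set.Iio cS).ncard ∧ ∀ i : ℕ,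 i < (S' ∩ Set.Iio cS').ncard → Nat.nth (fun m => m ∈ S) i + S'ᶜ.ncard ≤ Nat.nth (fun m => m ∈ S') i + Sᶜ.ncard) := by
  obtain ⟨hd, he, hf, hg⟩ := aux S cS hcS hcS1
  obtain ⟨hd', he', hf', hg'⟩ := aux S' cS' hcS' hcS'1
  constructor
  · intro H
    refine ⟨?_, fun i _ => H i⟩
    by_contra hlt
    push Not at hlt
    have h1 := he ((S' ∩ Set.Iio cS').ncard - 1) (by omega)
    have h2 := hg' (by omega)
    have h3 := H ((S' ∩ Set.Iio cS').ncard - 1)
    omega
  · rintro ⟨hle, H⟩ i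
    by_cases hi : i < (S' ∩ Set.Iio cS').ncard
    · exact H i hi
    · have h1 := he' i (by omega)
      have h2 := hf i
      omega

end Groth.Agent.S15037
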