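import Groth.Statements.S15038
import Groth.Agent.S15017
import Mathlib.Tactic.IntervalCases
import Mathlib.Tactic.Ring
import Mathlib.Tactic.Push
import Mathlib.Order.Interval.Finset.Nat
import Mathlib.Data.Nat.ModEq
import Mathlib.Order.Nat
import Mathlib.Order.Lattice.Nat

set_option autoImplicit false
open TFCurv

namespace Groth.Agent.S15038

/-- Let Γ be a numerical semigroup (a submonoid of (ℕ, +) with finite complement), Γ ≠ ℕ, with conductor
c (every n ≥ c lies in Γ, c − 1 does not). If Γ is symmetric (for x < c, x is a gap exactly when c −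
1 − x ∈ Γ) and its multiplicity e, the least nonzero element of Γ, is greater than 2, then Γ is
generated as an additive monoid by at most e − 1 elements. -/
theorem result (Γ : AddSubmonoid ℕ) (c : ℕ) (hc : ∀ n : ℕ, c ≤ n → n ∈ Γ) (hc0 : c ≠ 0) (hc1 : c - 1 ∉ Γ) (hsymm : ∀ x : ℕ, x < c → (x ∉ Γ ↔ c - 1 - x ∈ Γ)) (e : ℕ) (he : e ∈ Γ) (he0 : e ≠ 0) (hemin : ∀ γ : ℕ, γ ∈ Γ → γ ≠ 0 → e ≤ γ) (he2 : 2 < e) : ∃ G : Finset ℕ, G.card ≤ e - 1 ∧ AddSubmonoid.closure (↑G : Set ℕ) = Γ := by
  classical
  have he1 : 0 < e := Nat.pos_of_ne_zero he0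
  have h1 : (1 : ℕ) ∉ Γ := fun h => by have := hemin 1 h one_ne_zero; omega
  have h2 : (2 : ℕ) ∉ Γ := fun h => by have := hemin 2 h two_ne_zero; omega
  have hclos := Groth.Agent.S15017.result Γ c hc hc0 hc1 hsymm ⟨h1, h2⟩
  have hc_pos : 0 < c := Nat.pos_of_ne_zero hc0
  -- every element ≥ c is a sum of two positive elements of Γ
  have key : ∀ n, n ∈ Γ → c ≤ n → ∃ s t, s ∈ Γ ∧ t ∈ Γ ∧ 0 < s ∧ 0 < t ∧ s + t = n := by
    have Q : ∀ x, x ∈ AddSubmonoid.closure {γ : ℕ | γ ∈ Γ ∧ γ < c} →
        (x < c ∨ ∃ s t, s ∈ Γ ∧ t ∈ Γ ∧ 0 < s ∧ 0 < t ∧ s + t = x) := by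
      intro x hx
      induction hx using AddSubmonoid.closure_induction with
      | mem x hx => exact Or.inl hx.2
      | zero => exact Or.inl hc_pos
      | add x y hx hy ihx ihy =>
        rw [hclos] at hx hy
        rcases Nat.eq_zero_or_pos x with rfl | hx0
        · simpa using ihy
        rcases Nat.eq_zero_or_pos y with rfl | hy0
        · simpa using ihx
        exact Or.inr ⟨x, y, hx, hy, hx0, hy0, rfl⟩
    intro n hn hcn
    rw [← hclos] at hn
    rcases Q n hn with h | h
    · omega
    · exact h
  have hmul : ∀ k : ℕ, k * e ∈ Γ := by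
    intro k
    have := nsmul_mem he k
    simpa [smul_eq_mul] using this
  have hdiff : ∀ n n' : ℕ, n < n' → n % e = n' % e → ∃ k, k ≠ 0 ∧ n' = n + k * e := by
    intro n n' hlt hmod
    have hd : e ∣ n' - n := (Nat.modEq_iff_dvd' hlt.le).mp hmod
    obtain ⟨k, hk⟩ := hd
    refine ⟨k, ?_, ?_⟩
    · rintro rfl
      simp at hk
      omega
    · rw [Nat.mul_comm] at hk
      omega
  have hzero : ∀ n : ℕ, n % e = 0 → ∃ k, n = k * e := by
    intro n hn
    obtain ⟨k, hk⟩ := Nat.dvd_of_mod_eq_zero hn
    exact ⟨k, by rw [hk, Nat.mul_comm]⟩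
  -- Apéry elements
  have hne : ∀ r, r < e → {γ : ℕ | γ ∈ Γ ∧ γ % e = r}.Nonempty := by
    intro r hr
    refine ⟨c * e + r, hc _ ?_, ?_⟩
    · have : c * 1 ≤ c * e := Nat.mul_le_mul_left c he1
      omega
    · rw [Nat.mul_add_mod_of_lt hr]
  set w : ℕ → ℕ := fun r => sInf {γ : ℕ | γ ∈ Γ ∧ γ % e = r} with hw
  have hwmem : ∀ r, r < e → w r ∈ Γ ∧ w r % e = r := fun r hr => Nat.sInf_mem (hne r hr)
  have hFmod0 : (c - 1) % e ≠ 0 := by
    intro h0
    obtain ⟨k, hk⟩ := hzero _ h0
    exact hc1 (hk ▸ hmul k)
  have hFmod : (c - 1) % e ∈ Finset.Ioo 0 e :=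
    Finset.mem_Ioo.mpr ⟨Nat.pos_of_ne_zero hFmod0, Nat.mod_lt _ he1⟩
  refine ⟨insert e (((Finset.Ioo 0 e).erase ((c - 1) % e)).image w), ?_, ?_⟩
  · refine (Finset.card_insert_le _ _).trans ?_
    have h3 := Finset.card_image_le (s := (Finset.Ioo 0 e).erase ((c - 1) % e)) (f := w)
    rw [Finset.card_erase_of_mem hFmod, Nat.card_Ioo] at h3
    omega
  · apply le_antisymm
    · rw [AddSubmonoid.closure_le]
      intro x hx
      simp only [Finset.coe_insert, Finset.coe_image, Set.mem_insert_iff, Set.mem_image,
        Finset.mem_coe, Finset.mem_erase, Finset.mem_Ioo] at hx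
      rcases hx with rfl | ⟨r, ⟨_, _, hr⟩, rfl⟩
      · exact he
      · exact (hwmem r hr).1
    · intro n
      induction n using Nat.strong_induction_on with
      | _ n ih =>
        intro hn
        rcases Nat.eq_zero_or_pos n with rfl | hn0
        · exact zero_mem _
        have hen : e ≤ n := hemin n hn (by omega)
        by_cases hsub : n - e ∈ Γ
        · have h3 := ih (n - e) (by omega) hsub
          have h4 : e ∈ AddSubmonoid.closure
              (↑(insert e (((Finset.Ioo 0 e).erase ((c - 1) % e)).image w)) : Set ℕ) :=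
            AddSubmonoid.subset_closure (by simp)
          have := add_mem h3 h4
          rwa [Nat.sub_add_cancel hen] at this
        · have hr0 : n % e ≠ 0 := by
            intro h0
            obtain ⟨k, rfl⟩ := hzero n h0
            apply hsub
            have hk : k ≠ 0 := by rintro rfl; simp at hn0
            have : k * e - e = (k - 1) * e := by
              rw [Nat.sub_mul, Nat.one_mul]
            rw [this]
            exact hmul _
          have hrlt : n % e < e := Nat.mod_lt _ he1
          have hwn : w (n % e) = n := by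
            have hle : w (n % e) ≤ n := Nat.sInf_le ⟨hn, rfl⟩
            rcases Nat.lt_or_ge (w (n % e)) n with hlt | hge
            · exfalso
              obtain ⟨k, hk0, hk⟩ := hdiff _ _ hlt (hwmem _ hrlt).2
              apply hsub
              have : n - e = w (n % e) + (k - 1) * e := by
                have : k * e = (k - 1) * e + e := by
                  rw [← Nat.succ_mul]
                  congr 1
                  omega
                omega
              rw [this]
              exact add_mem (hwmem _ hrlt).1 (hmul _)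
            · omega
          by_cases hr : n % e = (c - 1) % e
          · have hcn : c ≤ n := by
              by_contra hlt
              have hnF : n ≠ c - 1 := by rintro rfl; exact hc1 hn
              obtain ⟨k, hk0, hk⟩ := hdiff n (c - 1) (by omega) hr
              apply hc1
              rw [hk]
              exact add_mem hn (hmul k)
            obtain ⟨s, t, hs, ht, hs0, ht0, rfl⟩ := key n hn hcn
            exact add_mem (ih s (by omega) hs) (ih t (by omega) ht)
          · apply AddSubmonoid.subset_closure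
            rw [← hwn]
            simp only [Finset.coe_insert, Finset.coe_image, Set.mem_insert_iff, Set.mem_image,
              Finset.mem_coe, Finset.mem_erase, Finset.mem_Ioo]
            exact Or.inr ⟨n % e, ⟨hr, Nat.pos_of_ne_zero hr0, hrlt⟩, rfl⟩

end Groth.Agent.S15038
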