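import Groth.Statements.S15047
import Mathlib
import Groth.Agent.S1156
-- import your own Groth.Agent.* helpers here

set_option autoImplicit false
universe u
open TensorProduct
open Desc

namespace Groth.Agent.S15047

/-- Let A → A' be a faithfully flat homomorphism of commutative rings and M, N any A-modules. An
A'-linear map f : A' ⊗_A M → A' ⊗_A N whose two base changes to A' ⊗_A A' (along a ↦ a ⊗ 1 and a ↦ 1
⊗ a) coincide is the base change of a unique A-linear map h : M → N. Since (A' ⊗_A A') ⊗_A M is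
generated over A' ⊗_A A' by the elements 1 ⊗ m, the agreement of the two base changes is stated on
these generators: for every m, the two images of f (1 ⊗ m) in (A' ⊗_A A') ⊗_A N agree. Equivalently,
the sequence Hom_A(M, N) → Hom_{A'}(A' ⊗ M, A' ⊗ N) ⇉ Hom_{A' ⊗ A'}(A' ⊗ A' ⊗ M, A' ⊗ A' ⊗ N) is an
equalizer diagram. -/
theorem result (A A' : Type u) [CommRing A] [CommRing A'] [Algebra A A']
    [Module.FaithfullyFlat A A'] (M N : Type u) [AddCommGroup M] [Module A M] [AddCommGroup N] [Module A N]
    (f : A' ⊗[A] M →ₗ[A'] A' ⊗[A] N)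
    (hf : ∀ m : M,
      LinearMap.rTensor N (Algebra.TensorProduct.includeLeft : A' →ₐ[A] A' ⊗[A] A').toLinearMap (f (1 ⊗ₜ[A] m)) =
        LinearMap.rTensor N (Algebra.TensorProduct.includeRight : A' →ₐ[A] A' ⊗[A] A').toLinearMap (f (1 ⊗ₜ[A] m))) :
    ∃! h : M →ₗ[A] N, h.baseChange A' = f := by

  have hinj : Function.Injective (TensorProduct.mk A A' N 1) :=
    Module.FaithfullyFlat.tensorProduct_mk_injective (A := A) (B := A') N
  have hmem : ∀ m : M, f (1 ⊗ₜ[A] m) ∈ LinearMap.range (TensorProduct.mk A A' N 1) := by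
    intro m
    apply Groth.Agent.S1156.result A A' N
    have e1 : (TensorProduct.mk A A' (A' ⊗[A] N) 1) =
        (TensorProduct.assoc A A' A' N).toLinearMap ∘ₗ
          (LinearMap.rTensor N (Algebra.TensorProduct.includeRight : A' →ₐ[A] A' ⊗[A] A').toLinearMap) := by
      apply TensorProduct.ext'
      intro a n
      simp
    have e2 : (LinearMap.lTensor A' (TensorProduct.mk A A' N 1)) =
        (TensorProduct.assoc A A' A' N).toLinearMap ∘ₗ
          (LinearMap.rTensor N (Algebra.TensorProduct.includeLeft : A' →ₐ[A] A' ⊗[A] A').toLinearMap) := by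
      apply TensorProduct.ext'
      intro a n
      simp
    rw [e1, e2, LinearMap.comp_apply, LinearMap.comp_apply, hf m]
  choose h0 hh0 using hmem
  have hh0' : ∀ m, (1 : A') ⊗ₜ[A] h0 m = f (1 ⊗ₜ[A] m) := fun m => hh0 m
  let h : M →ₗ[A] N :=
    { toFun := h0
      map_add' := by
        intro m m'
        apply hinj
        change (1 : A') ⊗ₜ[A] h0 (m + m') = (1 : A') ⊗ₜ[A] (h0 m + h0 m')
        rw [hh0' (m + m'), TensorProduct.tmul_add (1 : A') m m', map_add, ← hh0' m, ← hh0' m',
          TensorProduct.tmul_add (1 : A') (h0 m) (h0 m')]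
      map_smul' := by
        intro c m
        apply hinj
        change (1 : A') ⊗ₜ[A] h0 (c • m) = (1 : A') ⊗ₜ[A] ((RingHom.id A) c • h0 m)
        rw [hh0' (c • m), RingHom.id_apply, TensorProduct.tmul_smul c (1 : A') m,
          TensorProduct.tmul_smul c (1 : A') (h0 m), hh0' m, LinearMap.map_smul_of_tower] }
  refine ⟨h, ?_, ?_⟩
  · apply TensorProduct.AlgebraTensorModule.ext
    intro a m
    rw [LinearMap.baseChange_tmul]
    change a ⊗ₜ[A] h0 m = f (a ⊗ₜ[A] m)
    have : a ⊗ₜ[A] m = a • ((1 : A') ⊗ₜ[A] m) := by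
      rw [TensorProduct.smul_tmul', smul_eq_mul, mul_one]
    rw [this, map_smul, ← hh0', TensorProduct.smul_tmul', smul_eq_mul, mul_one]
  · intro h' hh'
    ext m
    apply hinj
    change (1 : A') ⊗ₜ[A] h' m = (1 : A') ⊗ₜ[A] h0 m
    rw [hh0', ← hh', LinearMap.baseChange_tmul]

end Groth.Agent.S15047
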