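import Groth.Statements.S15054
import Groth.Agent.Lib.KernelPoints_helper9

set_option autoImplicit false
universe u
open CategoryTheory CategoryTheory.Limits MonoidalCategory CartesianMonoidalCategory MonObj GrpObj AlgebraicGeometry
open BTGrp
open Groth.Agent.Lib.KernelPoints_helper9

namespace Groth.Agent.S15054

/-- Let ℓ be a prime and G = (G_ν)_ν an ℓ-divisible (Barsotti–Tate) group of height h over a scheme S,
given as the system of its finite locally free layers G_ν of order ℓ^{νh} with inclusions G_ν →
G_{ν+1} exhibiting G_ν as the ℓ^ν-torsion of G_{ν+1} and projections G_{ν+1} → G_ν (multiplication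
by ℓ). Let i_t : G_1 → G_{t+1} denote the iterated inclusions, pinned by i_0 = id and i_{t+1} = i_t
followed by G_{t+1} → G_{t+2}. Then for every t, i_t identifies G_1 with the kernel of
multiplication by ℓ on G_{t+1}: the ℓ-torsion of every layer is the first layer. (The published
statement identifies G_v with the ℓ^v-torsion of G_{v+t} for all v; this row is its case v = 1. The
published base is the spectrum of a Noetherian ring; the argument is formal and any base scheme is
allowed here.) -/
theorem result {S : Scheme.{u}} (ℓ h : ℕ) [Fact ℓ.Prime] (G : BTGrp.ProBT ℓ S h)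
    (i : (t : ℕ) → (G.G 1 ⟶ G.G (t + 1))) (hi0 : i 0 = 𝟙 (G.G 1))
    (hi : ∀ t : ℕ, i (t + 1) = i t ≫ G.incl (t + 1)) (t : ℕ) :
    AlgGrp.IsKernel (i t) ((𝟙 (G.G (t + 1))) ^ ℓ) := by
  induction t with
  | zero =>
    rw [hi0]
    -- multiplication by ℓ on `G 1` is trivial
    have hk := G.isKernel 1
    haveI := mono_of_isKernel hk
    obtain ⟨hw, _⟩ := (isKernel_iff _ _).mp hk
    have h1 : (𝟙 (G.G 1)) ^ ℓ = (1 : G.G 1 ⟶ G.G 1) := by
      rw [← cancel_mono (G.incl 1), MonObj.pow_comp, MonObj.one_comp, Category.id_comp]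
      rw [pow_one, MonObj.comp_pow, Category.comp_id] at hw
      exact hw
    rw [isKernel_iff]
    refine ⟨by rw [Category.id_comp, h1], fun T g _ => ⟨g, Category.comp_id g, fun n hn => ?_⟩⟩
    rw [← hn, Category.comp_id]
  | succ t ih =>
    rw [hi (t)]
    have hk := G.isKernel (t + 1)
    haveI := mono_of_isKernel hk
    obtain ⟨hw, hT⟩ := (isKernel_iff _ _).mp hk
    obtain ⟨hw', hT'⟩ := (isKernel_iff _ _).mp ih
    rw [isKernel_iff]
    constructor
    · rw [MonObj.comp_pow, Category.comp_id, ← MonObj.pow_comp]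
      rw [MonObj.comp_pow, Category.comp_id] at hw'
      rw [hw', MonObj.one_comp]
    · intro T g hg
      rw [MonObj.comp_pow, Category.comp_id] at hg
      have hg' : g ≫ (𝟙 (G.G (t + 1 + 1))) ^ (ℓ ^ (t + 1)) = 1 := by
        rw [MonObj.comp_pow, Category.comp_id, pow_succ', pow_mul, hg, one_pow]
      obtain ⟨m, hm, hmu⟩ := hT T g hg'
      have hm1 : m ≫ (𝟙 (G.G (t + 1))) ^ ℓ = 1 := by
        rw [MonObj.comp_pow, Category.comp_id, ← cancel_mono (G.incl (t + 1)), MonObj.pow_comp,
          MonObj.one_comp, hm, hg]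
      obtain ⟨n, hn, hnu⟩ := hT' T m hm1
      refine ⟨n, ?_, fun n' hn' => ?_⟩
      · change n ≫ i t ≫ G.incl (t + 1) = g
        rw [← Category.assoc, hn, hm]
      · apply hnu
        apply hmu
        change (n' ≫ i t) ≫ G.incl (t + 1) = g
        rw [Category.assoc]
        exact hn'

end Groth.Agent.S15054
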