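import Groth.Statements.S15071
import Groth.Agent.Lib.FlatHart4_helper4
import Groth.Agent.Lib.CohQuot1_helper8
import Groth.Agent.Lib.ProjExtVan3_helper4
import Groth.Agent.Lib.RegKer1_helper8
import Groth.Agent.Lib.FibCodim2_helper4
import Groth.Agent.Lib.PerfFlat1_lead
import Groth.Agent.Lib.SuppFT_helper9
import Groth.Agent.Lib.KerFree1_helper8
import Groth.Agent.Lib.CycLen8_helper8
import Groth.Agent.Lib.CohKer_helper8

set_option autoImplicit false
universe u
open CategoryTheory CategoryTheory.Limits AlgebraicGeometry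
open OrdSurf

namespace Groth.Agent.S15071

/-- Let k be an algebraically closed field of characteristic zero and X a smooth projective surface over
k (an integral k-scheme, smooth over k, of dimension two, admitting a closed immersion over k into
some projective space P^n_k). Let φ : M → N be a monomorphism between finite locally free
O_X-modules. Then either φ is an isomorphism, or the support of the cokernel of φ contains a point
of X whose local ring has Krull dimension at most one, i.e. the support has codimension at most one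
in X. (The published statement phrases the first alternative as M and N being isomorphic; the
argument shows that the given monomorphism is an isomorphism, which is the form stated here.) -/
theorem result (k : Type u) [Field k] [IsAlgClosed k] [CharZero k]
    (X : Scheme.{u}) [X.Over (Spec (CommRingCat.of k))] [IsIntegral X]
    [Smooth (X ↘ Spec (CommRingCat.of k))] (hdim : topologicalKrullDim X = 2)
    (hproj : ∃ (n : ℕ) (ι : X ⟶ CohB1.ProjSpace n k), IsClosedImmersion ι ∧
      ι ≫ CohB1.ProjSpace.toSpec n k = X ↘ Spec (CommRingCat.of k))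
    (M N : X.Modules) (hM : FlatMod.IsFinLocFree M) (hN : FlatMod.IsFinLocFree N)
    (φ : M ⟶ N) [Mono φ] :
    IsIso φ ∨ ∃ x : X, x ∈ CohB1.support (cokernel φ) ∧ ringKrullDim (X.presheaf.stalk x) ≤ 1 := by
  by_contra hcon
  have h1 : ¬ IsIso φ := fun h => hcon (Or.inl h)
  have h2 : ∀ x : X, ringKrullDim (X.presheaf.stalk x) ≤ 1 → x ∉ CohB1.support (cokernel φ) :=
    fun x hx hxs => hcon (Or.inr ⟨x, hxs, hx⟩)
  apply h1
  obtain ⟨n, ι, hι, -⟩ := hproj
  haveI := hι
  haveI : IsNoetherian X := Groth.Agent.Lib.ProjExtVanH4.isNoetherian_of_closedImmersion n k ι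
  have hS : Pi1.IsNormalScheme X := RegKerH8.isNormalScheme_of_regular (fun x =>
    Groth.Agent.Lib.FibCodim2H4.stalk_regular_of_smooth_field (CommRingCat.of k)
      (Field.toIsField k) (X ↘ Spec (CommRingCat.of k)) x)
  have hMc : Coh.IsCoh M := KerFreeH8.isCoh_of_finLocFree hM
  have hNc : Coh.IsCoh N := KerFreeH8.isCoh_of_finLocFree hN
  have hMfl : FlatMod.IsFlat M := Groth.Agent.Lib.DCohLocLead.isFlat_of_isFinLocFree hM
  have hNfl : FlatMod.IsFlat N := Groth.Agent.Lib.DCohLocLead.isFlat_of_isFinLocFree hN
  have hQ : Coh.IsCoh (cokernel φ) := CohKerH8.isCoh_cokernel hMc hNc φ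
  have hcl : IsClosed (CohB1.support (cokernel φ)) :=
    @SuppFT.isClosed_support X (cokernel φ) hQ.2
  let U : X.Opens := ⟨(CohB1.support (cokernel φ))ᶜ, hcl.isOpen_compl⟩
  have hU : ∀ s : X, ringKrullDim (X.presheaf.stalk s) ≤ 1 → s ∈ U := fun s hs => h2 s hs
  haveI i1 : IsIso ((Scheme.Modules.restrictAdjunction U.ι).unit.app M) :=
    Groth.Agent.Lib.FlatHartH4.main16496 X hS M hMc.1 hMfl U hU
  haveI i2 : IsIso ((Scheme.Modules.restrictAdjunction U.ι).unit.app N) :=
    Groth.Agent.Lib.FlatHartH4.main16496 X hS N hNc.1 hNfl U hU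
  have hk : CohB1.support (kernel φ) ⊆ (U : Set X)ᶜ := by
    intro x hx
    exfalso
    exact hx (CycLenH8.subsingleton_stalk_of_isZero (isZero_kernel_of_mono φ) x)
  have hc : CohB1.support (cokernel φ) ⊆ (U : Set X)ᶜ := by
    intro x hx hxU
    exact hxU hx
  haveI i3 : IsIso ((Scheme.Modules.restrictFunctor U.ι).map φ) :=
    Groth.Agent.Lib.CohQuotH8.isIso_restrict_of_support hMc hNc φ U hk hc
  haveI i4 : IsIso ((Scheme.Modules.pushforward U.ι).map
      ((Scheme.Modules.restrictFunctor U.ι).map φ)) := inferInstance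
  have hnat := (Scheme.Modules.restrictAdjunction U.ι).unit.naturality φ
  have hφ : φ = ((Scheme.Modules.restrictAdjunction U.ι).unit.app M ≫
      (Scheme.Modules.pushforward U.ι).map ((Scheme.Modules.restrictFunctor U.ι).map φ)) ≫
      inv ((Scheme.Modules.restrictAdjunction U.ι).unit.app N) := by
    rw [IsIso.eq_comp_inv]
    exact hnat
  rw [hφ]
  infer_instance

end Groth.Agent.S15071
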