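import Groth.Statements.S15084
import Mathlib

set_option autoImplicit false
universe u
open MovLem

namespace Groth.Agent.S15084

/-- Let A be a Noetherian integrally closed domain with fraction field K, let B be a domain with
fraction field L, and let A → B be an injective ring homomorphism, with K → L the induced map of
fraction fields, such that Spec B → Spec A is surjective (every prime ideal of A is the contraction
of a prime ideal of B). If a ∈ K is such that its image in L lies in B, then a ∈ A. (The published
statement: for a surjective morphism f : Y → X of normal integral separated schemes of finite type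
over a perfect field and a Cartier divisor D on X, if f^*D is effective then D is effective; a
Cartier divisor is locally the divisor of a nonzero rational function a, effectivity of div(a) on a
normal scheme means that a is a regular function, and this row is that local statement, which is
what the published proof establishes.) -/
theorem result
    (A B K L : Type u) [CommRing A] [IsDomain A] [IsNoetherianRing A] [IsIntegrallyClosed A]
    [CommRing B] [IsDomain B] [Field K] [Field L]
    [Algebra A B] [Algebra A K] [IsFractionRing A K] [Algebra B L] [IsFractionRing B L]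
    [Algebra K L] [Algebra A L] [IsScalarTower A K L] [IsScalarTower A B L]
    (hinj : Function.Injective (algebraMap A B))
    (hsurj : ∀ p : Ideal A, p.IsPrime → ∃ q : Ideal B, q.IsPrime ∧ q.comap (algebraMap A B) = p)
    (a : K) (ha : algebraMap K L a ∈ (algebraMap B L).range) :
    a ∈ (algebraMap A K).range := by

  classical
  by_contra hna
  let den : K → Ideal A := fun b => (1 : Submodule A K).colon {b}
  have hden : ∀ (b : K) (x : A), x ∈ den b ↔ ∃ c : A, algebraMap A K c = x • b := by
    intro b x
    simp only [den, Submodule.mem_colon_singleton, Submodule.mem_one]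
  let 𝒮 : Set (Ideal A) := {I | ∃ y : A, (y • a) ∉ (algebraMap A K).range ∧ I = den (y • a)}
  have hne : 𝒮.Nonempty := ⟨den a, 1, by simpa using hna, by simp⟩
  obtain ⟨P, ⟨y, hy, rfl⟩, hmax⟩ := set_has_maximal_iff_noetherian.mpr ‹IsNoetherianRing A› 𝒮 hne
  set b := y • a with hb
  have hprime : (den b).IsPrime := by
    rw [Ideal.isPrime_iff]
    constructor
    · rw [Ne, Ideal.eq_top_iff_one, hden]
      rintro ⟨c, hc⟩
      exact hy ⟨c, by simpa using hc⟩
    · intro x₁ x₂ h12
      by_contra hcon
      push_neg at hcon
      obtain ⟨h1, h2⟩ := hcon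
      have h1' : (x₁ * y) • a ∉ (algebraMap A K).range := by
        rintro ⟨c, hc⟩
        exact h1 ((hden b x₁).mpr ⟨c, by rw [hc, hb, mul_smul]⟩)
      have hmem : den ((x₁ * y) • a) ∈ 𝒮 := ⟨x₁ * y, h1', rfl⟩
      have hle : den b ≤ den ((x₁ * y) • a) := by
        intro x hx
        rw [hden] at hx ⊢
        obtain ⟨c, hc⟩ := hx
        refine ⟨x₁ * c, ?_⟩
        rw [map_mul, hc, hb, mul_smul]
        simp only [Algebra.smul_def]
        ring
      have h2' : x₂ ∈ den ((x₁ * y) • a) := by
        rw [hden] at h12 ⊢
        obtain ⟨c, hc⟩ := h12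
        refine ⟨c, ?_⟩
        rw [hc, hb, mul_smul, mul_smul, smul_comm x₂ x₁]
      have hlt : den b < den ((x₁ * y) • a) :=
        lt_of_le_of_ne hle (fun heq => h2 (heq ▸ h2'))
      exact hmax _ hmem hlt
  -- P ≠ ⊥
  have hPne : den b ≠ ⊥ := by
    obtain ⟨⟨n, d⟩, hnd⟩ := IsLocalization.surj (nonZeroDivisors A) b
    have hd : (d : A) ∈ den b := (hden b d).mpr ⟨n, by rw [← hnd, Algebra.smul_def, mul_comm]⟩
    intro hbot
    rw [hbot, Ideal.mem_bot] at hd
    exact nonZeroDivisors.coe_ne_zero d hd
  -- find x₀ ∈ P with x₀ b ∉ P
  have hex : ∃ x₀ ∈ den b, ∃ c₀ : A, algebraMap A K c₀ = x₀ • b ∧ c₀ ∉ den b := by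
    by_contra hcon
    push_neg at hcon
    have hint : IsIntegral A b := by
      refine isIntegral_of_smul_mem_submodule (M := K)
        (Submodule.map (Algebra.linearMap A K) (den b)) ?_ ?_ b ?_
      · intro h
        apply hPne
        rw [eq_bot_iff]
        intro x hx
        have hx' : Algebra.linearMap A K x ∈ Submodule.map (Algebra.linearMap A K) (den b) :=
          ⟨x, hx, rfl⟩
        rw [h, Submodule.mem_bot, Algebra.linearMap_apply] at hx'
        rw [Ideal.mem_bot]
        exact IsFractionRing.injective A K (by rw [hx', map_zero])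
      · exact Submodule.FG.map _ (IsNoetherian.noetherian _)
      · rintro _ ⟨x, hx, rfl⟩
        obtain ⟨c, hc⟩ := (hden b x).mp hx
        refine ⟨c, hcon x hx c hc, ?_⟩
        rw [Algebra.linearMap_apply, Algebra.linearMap_apply, hc, Algebra.smul_def, smul_eq_mul,
          mul_comm]
    obtain ⟨c, hc⟩ := IsIntegrallyClosed.isIntegral_iff.mp hint
    exact hy ⟨c, hc⟩
  obtain ⟨x₀, hx₀, c₀, hc₀, hc₀P⟩ := hex
  obtain ⟨q, hq, hqP⟩ := hsurj (den b) hprime
  obtain ⟨β, hβ⟩ := ha
  apply hc₀P
  rw [← hqP, Ideal.mem_comap]
  have hL : algebraMap B L (algebraMap A B c₀) =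
      algebraMap B L (algebraMap A B x₀ * (algebraMap A B y * β)) := by
    rw [← IsScalarTower.algebraMap_apply, IsScalarTower.algebraMap_apply A K L, hc₀, hb,
      Algebra.smul_def, Algebra.smul_def, map_mul, map_mul, map_mul, map_mul, hβ,
      ← IsScalarTower.algebraMap_apply A K L, ← IsScalarTower.algebraMap_apply A K L,
      ← IsScalarTower.algebraMap_apply A B L, ← IsScalarTower.algebraMap_apply A B L]
  rw [IsFractionRing.injective B L hL]
  apply Ideal.mul_mem_right
  rw [← Ideal.mem_comap, hqP]
  exact hx₀

end Groth.Agent.S15084
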