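import Groth.Statements.S15115
import Groth.Agent.Lib.InvRey_helper9

set_option autoImplicit false
universe u
open HopfRep

open Groth.Agent.Lib.LinRed_helper9 Groth.Agent.Lib.Integral_helper9 Groth.Agent.Lib.InvRey_helper9 Groth.Agent.Lib.Comod_helper9
open TensorProduct
namespace Groth.Agent.S15115

open TensorProduct in
/-- Let k be an algebraically closed field, H a finite-dimensional commutative Hopf algebra over k all
of whose finite-dimensional comodules are semisimple (a finite linearly reductive group scheme G
over k), A a commutative k-algebra, and M an A-module with an H-coaction that is A-linear (G acts on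
M by A-module maps, A carrying the trivial action). Let A' be a commutative A-algebra and N = A' ⊗_A
M its base change, exhibited by an A-linear map φ : M → N, with the induced coaction: A'-linear and
compatible with φ. Then invariants commute with this base change: writing M^G for the A-submodule of
coinvariant elements of M, the natural map A' ⊗_A M^G → N, a' ⊗ m ↦ a' φ(m), is injective and its
image is exactly the set of coinvariant elements of N. (The published statement is the isomorphism
ρ^* π_* F → π'_* σ^* F for a tame Deligne–Mumford stack with coarse moduli space π and any base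
change ρ of the coarse space; this row is the statement about invariants to which its proof reduces
it, for modules that need not be finitely generated.) -/
theorem result (k : Type u) [Field k] [IsAlgClosed k]
    (H : Type u) [CommRing H] [HopfAlgebra k H] [Module.Finite k H] (hred : HopfRep.IsLinearlyReductive k H)
    (A : Type u) [CommRing A] [Algebra k A]
    (M : Type u) [AddCommGroup M] [Module k M] [Module A M] [IsScalarTower k A M] [HopfRep.Comod k H M]
    (hlin : ∀ (a : A) (m : M), HopfRep.Comod.coact (k := k) (A := H) (a • m) = a • HopfRep.Comod.coact (k := k) (A := H) m)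
    (A' : Type u) [CommRing A'] [Algebra k A'] [Algebra A A'] [IsScalarTower k A A']
    (N : Type u) [AddCommGroup N] [Module k N] [Module A N] [Module A' N]
    [IsScalarTower k A N] [IsScalarTower A A' N] [IsScalarTower k A' N] [HopfRep.Comod k H N]
    (φ : M →ₗ[A] N) (hφ : IsBaseChange A' φ)
    (hcomp : ∀ m : M, HopfRep.Comod.coact (k := k) (A := H) (φ m) =
      LinearMap.rTensor H (φ.restrictScalars k) (HopfRep.Comod.coact (k := k) (A := H) m))
    (hlinN : ∀ (a' : A') (n : N), HopfRep.Comod.coact (k := k) (A := H) (a' • n) = a' • HopfRep.Comod.coact (k := k) (A := H) n)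
    (P : Submodule A M) (hP : (P : Set M) = (HopfRep.fixedPts k H M : Set M)) :
    Function.Injective (TensorProduct.lift (((Algebra.lsmul A A N : A' →ₐ[A] Module.End A N).toLinearMap).compl₂ (φ ∘ₗ P.subtype))) ∧
      Set.range (TensorProduct.lift (((Algebra.lsmul A A N : A' →ₐ[A] Module.End A N).toLinearMap).compl₂ (φ ∘ₗ P.subtype))) =
        (HopfRep.fixedPts k H N : Set N) := by
  obtain ⟨β, hβ, h1⟩ := exists_leftIntegral k H hred
  have hPmem : ∀ m : M, m ∈ P ↔ m ∈ HopfRep.fixedPts k H M := fun m => Set.ext_iff.mp hP m
  have hreyA : ∀ (a : A) (m : M), rey k H β M (a • m) = a • rey k H β M m := by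
    intro a m
    rw [rey_apply, rey_apply, hlin, hB_smul]
  have hreyA' : ∀ (a' : A') (n : N), rey k H β N (a' • n) = a' • rey k H β N n := by
    intro a' n
    rw [rey_apply, rey_apply, hlinN, hB_smul]
  let π : M →ₗ[A] P :=
    { toFun := fun m => ⟨rey k H β M m, (hPmem _).mpr (rey_mem_fixedPts k H β M hβ m)⟩
      map_add' := fun x y => Subtype.ext (map_add (rey k H β M) x y)
      map_smul' := fun a x => Subtype.ext (hreyA a x) }
  have hπ : ∀ p : P, π p = p :=
    fun p => Subtype.ext (rey_of_mem_fixedPts k H β M h1 _ ((hPmem _).mp p.2))
  have hπc : ∀ m : M, ((π m : P) : M) = rey k H β M m := fun _ => rfl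
  have hφc : Hoch.IsComodHom H (φ.restrictScalars k) := by
    apply LinearMap.ext
    intro m
    exact hcomp m
  have hT_tmul : ∀ (a' : A') (p : P),
      TensorProduct.lift (((Algebra.lsmul A A N : A' →ₐ[A] Module.End A N).toLinearMap).compl₂
        (φ ∘ₗ P.subtype)) (a' ⊗ₜ[A] p) = a' • φ (p : M) := by
    intro a' p
    simp
  have hTeq : ∀ t : A' ⊗[A] P,
      TensorProduct.lift (((Algebra.lsmul A A N : A' →ₐ[A] Module.End A N).toLinearMap).compl₂
        (φ ∘ₗ P.subtype)) t = hφ.equiv (LinearMap.lTensor A' P.subtype t) := by
    intro t
    induction t using TensorProduct.induction_on with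
    | zero => simp
    | add x y hx hy => rw [map_add, map_add, map_add, hx, hy]
    | tmul a' p => rw [hT_tmul, LinearMap.lTensor_tmul, IsBaseChange.equiv_tmul]; rfl
  constructor
  · have hinj : Function.Injective (LinearMap.lTensor A' P.subtype) := by
      apply Function.LeftInverse.injective (g := LinearMap.lTensor A' π)
      intro t
      rw [← LinearMap.comp_apply, ← LinearMap.lTensor_comp]
      have : π ∘ₗ P.subtype = LinearMap.id := LinearMap.ext hπ
      rw [this, LinearMap.lTensor_id, LinearMap.id_apply]
    intro t t' htt
    rw [hTeq, hTeq] at htt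
    exact hinj (hφ.equiv.injective htt)
  · ext n
    constructor
    · rintro ⟨t, rfl⟩
      show _ ∈ HopfRep.fixedPts k H N
      induction t using TensorProduct.induction_on with
      | zero => rw [map_zero]; exact Submodule.zero_mem _
      | add x y hx hy => rw [map_add]; exact Submodule.add_mem _ hx hy
      | tmul a' p =>
        rw [hT_tmul]
        have hp : HopfRep.Comod.coact (k := k) (A := H) (p : M) = (p : M) ⊗ₜ[k] (1 : H) :=
          (hPmem _).mp p.2
        show HopfRep.Comod.coact (k := k) (A := H) (a' • φ (p : M)) = (a' • φ (p : M)) ⊗ₜ[k] (1 : H)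
        rw [hlinN, hcomp, hp, LinearMap.rTensor_tmul, TensorProduct.smul_tmul']
        rfl
    · intro hn
      have hn' : n ∈ HopfRep.fixedPts k H N := hn
      have key : ∀ t : A' ⊗[A] M, rey k H β N (hφ.equiv t) =
          TensorProduct.lift (((Algebra.lsmul A A N : A' →ₐ[A] Module.End A N).toLinearMap).compl₂
            (φ ∘ₗ P.subtype)) (LinearMap.lTensor A' π t) := by
        intro t
        induction t using TensorProduct.induction_on with
        | zero => simp
        | add x y hx hy => rw [map_add, map_add, map_add, map_add, hx, hy]
        | tmul a' m =>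
          rw [IsBaseChange.equiv_tmul, hreyA', LinearMap.lTensor_tmul, hT_tmul, hπc]
          congr 1
          exact (rey_natural k H β M (φ.restrictScalars k) hφc m).symm
      refine ⟨LinearMap.lTensor A' π (hφ.equiv.symm n), ?_⟩
      rw [← key, LinearEquiv.apply_symm_apply, rey_of_mem_fixedPts k H β N h1 n hn']

end Groth.Agent.S15115
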