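import Groth.Statements.S15116
import Mathlib

set_option autoImplicit false
universe u v
open NRGIT

namespace Groth.Agent.S15116

/-- Let k be a characteristic-zero field and A a commutative k-algebra, graded by the integers with all
pieces of positive degree zero, and D a k-derivation of A that raises degrees by a fixed positive
integer l. If no maximal ideal of A contains both every piece of negative degree and the image of D,
then there is f with D f = 1. (The published statement is for an affine variety with an action of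
the semidirect product of the additive and multiplicative groups, the multiplicative group acting on
the coordinate ring with non-positive weights and on the Lie algebra of the additive group with
positive weight: the derivation is a generator of that Lie algebra, the maximal ideals containing
the pieces of negative degree are the limit points under the multiplicative group, and a limit point
has trivial additive stabiliser exactly when the image of D is not contained in its ideal; this row
keeps only this algebraic content, for any such graded algebra. The first assertion of the published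
lemma, that every point has a limit in the variety under the multiplicative group as t → 0, is not
part of this row.) -/
theorem result (k : Type u) [Field k] [CharZero k]
    (A : Type v) [CommRing A] [Algebra k A] (𝒜 : ℤ → Submodule k A) [GradedAlgebra 𝒜]
    (hpos : ∀ i : ℤ, 0 < i → 𝒜 i = ⊥)
    (D : Derivation k A A) (l : ℤ) (hl : 0 < l)
    (hD : ∀ (i : ℤ) (a : A), a ∈ 𝒜 i → D a ∈ 𝒜 (i + l))
    (hfree : ∀ m : Ideal A, m.IsMaximal → (∀ i : ℤ, i < 0 → (𝒜 i : Set A) ⊆ m) → ∃ a : A, D a ∉ m) :
    ∃ f : A, D f = 1 := by
  classical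
  have hD0 : ∀ c ∈ 𝒜 0, D c = 0 := by
    intro c hc
    have h1 := hD 0 c hc
    rw [zero_add] at h1
    exact (Submodule.mem_bot k).mp ((hpos l hl).le h1)
  have hzero_of_pos : ∀ (i : ℤ), 0 < i → ∀ x : A,
      ((DirectSum.decompose 𝒜 x i : 𝒜 i) : A) = 0 := by
    intro i hi x
    exact (Submodule.mem_bot k).mp ((hpos i hi).le (DirectSum.decompose 𝒜 x i).2)
  have hmul0 : ∀ x y : A, GradedRing.proj 𝒜 0 (x * y) =
      GradedRing.proj 𝒜 0 x * GradedRing.proj 𝒜 0 y := by
    intro x y
    have hterm : ∀ p ∈ (DirectSum.decompose 𝒜 x).support,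
        GradedRing.proj 𝒜 0 (((DirectSum.decompose 𝒜 x p : 𝒜 p) : A) * y) =
        if p = 0 then GradedRing.proj 𝒜 0 x * GradedRing.proj 𝒜 0 y else 0 := by
      intro p _
      have h1 := DirectSum.coe_decompose_mul_add_of_left_mem 𝒜 (i := p) (j := -p) (b := y)
        (DirectSum.decompose 𝒜 x p).2
      rw [add_neg_cancel] at h1
      rw [GradedRing.proj_apply, h1]
      rcases lt_trichotomy p 0 with hp | hp | hp
      · rw [if_neg hp.ne, hzero_of_pos (-p) (by omega) y, mul_zero]
      · subst hp
        simp [GradedRing.proj_apply]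
      · rw [if_neg hp.ne', hzero_of_pos p hp x, zero_mul]
    calc GradedRing.proj 𝒜 0 (x * y)
        = GradedRing.proj 𝒜 0 ((∑ p ∈ (DirectSum.decompose 𝒜 x).support,
            ((DirectSum.decompose 𝒜 x p : 𝒜 p) : A)) * y) := by
          rw [DirectSum.sum_support_decompose 𝒜 x]
      _ = ∑ p ∈ (DirectSum.decompose 𝒜 x).support,
            GradedRing.proj 𝒜 0 (((DirectSum.decompose 𝒜 x p : 𝒜 p) : A) * y) := by
          rw [Finset.sum_mul, map_sum]
      _ = ∑ p ∈ (DirectSum.decompose 𝒜 x).support,
            (if p = 0 then GradedRing.proj 𝒜 0 x * GradedRing.proj 𝒜 0 y else 0) :=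
          Finset.sum_congr rfl hterm
      _ = GradedRing.proj 𝒜 0 x * GradedRing.proj 𝒜 0 y := by
          rw [Finset.sum_ite_eq']
          split_ifs with h0
          · rfl
          · rw [DFinsupp.notMem_support_iff] at h0
            rw [GradedRing.proj_apply, h0]; simp
  have hDproj : ∀ a : A, GradedRing.proj 𝒜 0 (D a) = D (GradedRing.proj 𝒜 (-l) a) := by
    intro a
    have hterm : ∀ q ∈ (DirectSum.decompose 𝒜 a).support,
        GradedRing.proj 𝒜 0 (D ((DirectSum.decompose 𝒜 a q : 𝒜 q) : A)) =
        if q = -l then D (GradedRing.proj 𝒜 (-l) a) else 0 := by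
      intro q _
      have h1 := hD q _ (DirectSum.decompose 𝒜 a q).2
      rw [GradedRing.proj_apply]
      by_cases hq : q = -l
      · subst hq
        rw [if_pos rfl]
        have e0 : -l + l = 0 := by omega
        rw [e0] at h1
        rw [GradedRing.proj_apply]
        exact DirectSum.decompose_of_mem_same 𝒜 h1
      · rw [if_neg hq]
        exact DirectSum.decompose_of_mem_ne 𝒜 h1 (by omega)
    calc GradedRing.proj 𝒜 0 (D a)
        = GradedRing.proj 𝒜 0 (D (∑ q ∈ (DirectSum.decompose 𝒜 a).support,
            ((DirectSum.decompose 𝒜 a q : 𝒜 q) : A))) := by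
          rw [DirectSum.sum_support_decompose 𝒜 a]
      _ = ∑ q ∈ (DirectSum.decompose 𝒜 a).support,
            GradedRing.proj 𝒜 0 (D ((DirectSum.decompose 𝒜 a q : 𝒜 q) : A)) := by
          rw [map_sum, map_sum]
      _ = ∑ q ∈ (DirectSum.decompose 𝒜 a).support,
            (if q = -l then D (GradedRing.proj 𝒜 (-l) a) else 0) :=
          Finset.sum_congr rfl hterm
      _ = D (GradedRing.proj 𝒜 (-l) a) := by
          rw [Finset.sum_ite_eq']
          split_ifs with h0
          · rfl
          · rw [DFinsupp.notMem_support_iff] at h0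
            rw [GradedRing.proj_apply, h0]; simp
  have hT : Ideal.span ({x : A | ∃ i : ℤ, i < 0 ∧ x ∈ 𝒜 i} ∪ Set.range D) = ⊤ := by
    by_contra hne
    obtain ⟨m, hm, hle⟩ := Ideal.exists_le_maximal _ hne
    obtain ⟨a, ha⟩ := hfree m hm
      (fun i hi x hx => hle (Ideal.subset_span (Or.inl ⟨i, hi, hx⟩)))
    exact ha (hle (Ideal.subset_span (Or.inr ⟨a, rfl⟩)))
  have hP : ∀ x ∈ Ideal.span ({x : A | ∃ i : ℤ, i < 0 ∧ x ∈ 𝒜 i} ∪ Set.range D),
      ∃ f : A, GradedRing.proj 𝒜 0 x = D f := by
    intro x hx
    induction hx using Submodule.span_induction with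
    | mem y hy =>
      rcases hy with ⟨i, hi, hyi⟩ | ⟨a, rfl⟩
      · refine ⟨0, ?_⟩
        rw [map_zero, GradedRing.proj_apply]
        exact DirectSum.decompose_of_mem_ne 𝒜 hyi hi.ne
      · exact ⟨_, hDproj a⟩
    | zero => exact ⟨0, by rw [map_zero, map_zero]⟩
    | add x y _ _ hx hy =>
      obtain ⟨f, hf⟩ := hx
      obtain ⟨g, hg⟩ := hy
      exact ⟨f + g, by rw [map_add, map_add, hf, hg]⟩
    | smul c x _ hx =>
      obtain ⟨f, hf⟩ := hx
      refine ⟨GradedRing.proj 𝒜 0 c * f, ?_⟩
      have hc0 : GradedRing.proj 𝒜 0 c ∈ 𝒜 0 := by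
        rw [GradedRing.proj_apply]; exact (DirectSum.decompose 𝒜 c 0).2
      rw [smul_eq_mul, hmul0, hf, Derivation.leibniz, hD0 _ hc0, smul_zero, add_zero, smul_eq_mul]
  obtain ⟨f, hf⟩ := hP 1 (by rw [hT]; exact Submodule.mem_top)
  refine ⟨f, ?_⟩
  rw [← hf, GradedRing.proj_apply]
  exact DirectSum.decompose_of_mem_same 𝒜 (SetLike.one_mem_graded 𝒜)

end Groth.Agent.S15116
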