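import Groth.Statements.S15117
import Groth.Agent.Lib.Comod_helper9
import Groth.Prelude.Def_ComodTens

set_option autoImplicit false
universe u v w
open TensorProduct
open NRGIT

namespace Groth.Agent.S15117

/-- Let k be a field, π : A → B a map of commutative bialgebras over k, W a right A-comodule and V ⊆ W a
subcomodule all of whose elements are coinvariant for the B-coaction induced through π. Then the
coaction of every v ∈ V lies in V ⊗ A' ⊆ W ⊗ A, where A' ⊆ A is the set of elements a with (π ⊗
id)(Δ a) = 1 ⊗ a, i.e. coinvariant for the coaction of B on A through π on the left factor; the row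
states membership in the span of the pure tensors w ⊗ a with w ∈ V and a ∈ A'. (The published
statement is for a linear algebraic group H over an algebraically closed field of characteristic
zero, a normal subgroup N and an H-stable space V of N-invariant sections of a linearised line
bundle, with the coaction landing in O(H)^N ⊗ V, where O(H)^N is the ring of functions on H
invariant under N acting by right multiplication; this row is the comodule form, for any bialgebra
map over a field, where normality of N is not needed.) -/
theorem result (k : Type u) [Field k]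
    (A B : Type v) [CommRing A] [CommRing B] [Bialgebra k A] [Bialgebra k B] (π : A →ₐc[k] B)
    (W : Type w) [AddCommGroup W] [Module k W] [HopfRep.Comod k A W]
    (V : Submodule k W) (hV : HopfRep.IsSubcomod (k := k) (A := A) V)
    (hfix : ∀ v ∈ V, (π.toLinearMap.lTensor W) (HopfRep.Comod.coact (k := k) (A := A) v) = v ⊗ₜ[k] (1 : B))
    (v : W) (hv : v ∈ V) :
    HopfRep.Comod.coact (k := k) (A := A) v ∈
      Submodule.span k {x : W ⊗[k] A | ∃ w ∈ V, ∃ a : A,
        (π.toLinearMap.rTensor A) (Coalgebra.comul (R := k) a) = (1 : B) ⊗ₜ[k] a ∧ x = w ⊗ₜ[k] a} := by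
  classical
  let ρ : W →ₗ[k] W ⊗[k] A := HopfRep.Comod.coact (k := k) (A := A) (V := W)
  let πl : A →ₗ[k] B := π.toLinearMap
  let T : A →ₗ[k] B ⊗[k] A := (πl.rTensor A) ∘ₗ CoalgebraStruct.comul (R := k) (A := A)
  let U : A →ₗ[k] B ⊗[k] A := TensorProduct.mk k B A 1
  let A' : Submodule k A := LinearMap.ker (T - U)
  obtain ⟨x, hx⟩ := hV v hv
  have hx' : V.subtype.rTensor A x = ρ v := hx
  have S1 : ∀ (z : W ⊗[k] A) (a : A),
      (πl.rTensor A).lTensor W (TensorProduct.assoc k W A A (z ⊗ₜ[k] a)) =
        TensorProduct.assoc k W B A ((πl.lTensor W z) ⊗ₜ[k] a) := by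
    intro z a
    induction z using TensorProduct.induction_on with
    | zero => simp
    | add z z' hz hz' => simp only [TensorProduct.add_tmul, map_add, hz, hz']
    | tmul w' a' =>
      rw [TensorProduct.assoc_tmul, LinearMap.lTensor_tmul, LinearMap.rTensor_tmul,
        LinearMap.lTensor_tmul, TensorProduct.assoc_tmul]
  have L : ∀ y : V ⊗[k] A,
      (πl.rTensor A).lTensor W (TensorProduct.assoc k W A A
        ((ρ.rTensor A) (V.subtype.rTensor A y))) = U.lTensor W (V.subtype.rTensor A y) := by
    intro y
    induction y using TensorProduct.induction_on with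
    | zero => simp
    | add y y' hy hy' => simp only [map_add, hy, hy']
    | tmul w a =>
      rw [LinearMap.rTensor_tmul, LinearMap.rTensor_tmul, S1]
      have h := hfix w w.2
      have h' : πl.lTensor W (ρ (V.subtype w)) = (V.subtype w) ⊗ₜ[k] (1 : B) := h
      rw [h', TensorProduct.assoc_tmul, LinearMap.lTensor_tmul]
      rfl
  have hco : TensorProduct.assoc k W A A ((ρ.rTensor A) (ρ v)) =
      (CoalgebraStruct.comul (R := k) (A := A)).lTensor W (ρ v) := by
    have hc := LinearMap.congr_fun (HopfRep.Comod.coassoc (k := k) (A := A) (V := W)) v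
    simpa only [LinearMap.coe_comp, Function.comp_apply, LinearEquiv.coe_coe] using hc
  have hTU : T.lTensor W (ρ v) = U.lTensor W (ρ v) := by
    have h1 : T.lTensor W (ρ v) = (πl.rTensor A).lTensor W
        ((CoalgebraStruct.comul (R := k) (A := A)).lTensor W (ρ v)) :=
      LinearMap.lTensor_comp_apply W (πl.rTensor A) (CoalgebraStruct.comul (R := k) (A := A)) (ρ v)
    rw [h1, ← hco, ← hx', L]
  have hker : (T - U).lTensor V x = 0 := by
    have hinj : Function.Injective (V.subtype.rTensor (B ⊗[k] A)) :=
      Module.Flat.rTensor_preserves_injective_linearMap _ V.injective_subtype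
    apply hinj
    rw [map_zero, ← ComodTens.lTensor_rTensor_comm, hx', LinearMap.lTensor_sub,
      LinearMap.sub_apply, hTU, sub_self]
  have hex : Function.Exact (A'.subtype.lTensor V) ((T - U).lTensor V) :=
    Module.Flat.lTensor_exact V (LinearMap.exact_subtype_ker_map (T - U))
  obtain ⟨y, hy⟩ := (hex x).mp hker
  have hfinal : ∀ y : V ⊗[k] A', V.subtype.rTensor A (A'.subtype.lTensor V y) ∈
      Submodule.span k {x : W ⊗[k] A | ∃ w ∈ V, ∃ a : A,
        (π.toLinearMap.rTensor A) (Coalgebra.comul (R := k) a) = (1 : B) ⊗ₜ[k] a ∧
          x = w ⊗ₜ[k] a} := by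
    intro y
    induction y using TensorProduct.induction_on with
    | zero => simp
    | add y y' hy hy' =>
      rw [map_add, map_add]
      exact Submodule.add_mem _ hy hy'
    | tmul w a =>
      apply Submodule.subset_span
      refine ⟨w, w.2, a, ?_, ?_⟩
      · have ha : (T - U) (a : A) = 0 := a.2
        rw [LinearMap.sub_apply, sub_eq_zero] at ha
        exact ha
      · rw [LinearMap.lTensor_tmul, LinearMap.rTensor_tmul]
        rfl
  have := hfinal y
  rw [hy, hx'] at this
  exact this

end Groth.Agent.S15117
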