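import Groth.Statements.S15125
import Groth.Agent.Lib.SepEq_helper3
-- import your own Groth.Agent.* helpers here

set_option autoImplicit false
universe u
open scoped TensorProduct

open Fields

namespace Groth.Agent.S15125

/-- Let L be a finitely generated field extension of K, and I ⊆ L ⊗_K L the kernel of multiplication L
⊗_K L → L. An element x of L has the property that x ⊗ 1 and 1 ⊗ x have the same image in the I-adic
completion of L ⊗_K L if and only if x is separable algebraic over K. Equivalently, the equaliser of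
the two natural maps from L to that completion is the separable algebraic closure of K in L. -/
theorem result
    (K L : Type u) [Field K] [Field L] [Algebra K L]
    (hfg : (⊤ : IntermediateField K L).FG) (x : L) :
    AdicCompletion.of (KaehlerDifferential.ideal K L) (L ⊗[K] L) (x ⊗ₜ[K] (1 : L)) =
        AdicCompletion.of (KaehlerDifferential.ideal K L) (L ⊗[K] L) ((1 : L) ⊗ₜ[K] x) ↔
      x ∈ separableClosure K L := by
  set I := KaehlerDifferential.ideal K L with hIdef
  have key : (AdicCompletion.of I (L ⊗[K] L) (x ⊗ₜ[K] (1 : L)) =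
      AdicCompletion.of I (L ⊗[K] L) ((1 : L) ⊗ₜ[K] x)) ↔
      ∀ n : ℕ, (x ⊗ₜ[K] (1 : L) - (1 : L) ⊗ₜ[K] x) ∈
        (I ^ n • ⊤ : Submodule (L ⊗[K] L) (L ⊗[K] L)) := by
    constructor
    · intro h n
      have h1 := congrArg (fun z => z.val n) h
      simp only [AdicCompletion.of_apply] at h1
      exact (Submodule.Quotient.eq _).mp h1
    · intro h
      apply AdicCompletion.ext
      intro n
      rw [AdicCompletion.of_apply, AdicCompletion.of_apply]
      exact (Submodule.Quotient.eq _).mpr (h n)
  rw [key, mem_separableClosure_iff]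
  constructor
  · intro h
    haveI : Algebra.EssFiniteType K L := IntermediateField.fg_top_iff.mp hfg
    haveI : IsNoetherianRing (L ⊗[K] L) := Algebra.EssFiniteType.isNoetherianRing L (L ⊗[K] L)
    have hmem : (x ⊗ₜ[K] (1 : L) - (1 : L) ⊗ₜ[K] x) ∈
        (⨅ i : ℕ, I ^ i • ⊤ : Submodule (L ⊗[K] L) (L ⊗[K] L)) := (Submodule.mem_iInf _).mpr h
    obtain ⟨r, hr⟩ := (Ideal.mem_iInf_smul_pow_eq_bot_iff I _).mp hmem
    have hb : Groth.Agent.Lib.SepEqH3.delta (K := K) x * (1 - (r : L ⊗[K] L)) = 0 := by
      have hr' : (r : L ⊗[K] L) * Groth.Agent.Lib.SepEqH3.delta (K := K) x =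
          Groth.Agent.Lib.SepEqH3.delta (K := K) x := hr
      rw [mul_sub, mul_one, mul_comm, hr', sub_self]
    have hr0 : Algebra.TensorProduct.lmul' K (r : L ⊗[K] L) = 0 := RingHom.mem_ker.mp r.2
    have hmu : Algebra.TensorProduct.lmul' K (1 - (r : L ⊗[K] L)) = 1 := by
      rw [map_sub, map_one, hr0, sub_zero]
    by_contra hsep
    have h0 : Algebra.TensorProduct.lmul' K (1 - (r : L ⊗[K] L)) = 0 := by
      by_cases halg : IsIntegral K x
      · exact Groth.Agent.Lib.SepEqH3.ann_le_of_not_separable x halg hsep _ hb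
      · exact Groth.Agent.Lib.SepEqH3.ann_le_of_transcendental x
          (fun h => halg (isAlgebraic_iff_isIntegral.mp h)) _ hb
    rw [hmu] at h0
    exact one_ne_zero h0
  · intro hsep n
    have h1 := Groth.Agent.Lib.SepEqH3.mem_pow_of_separable x hsep n
    rw [smul_eq_mul, Ideal.mul_top]
    exact h1

end Groth.Agent.S15125
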