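import Groth.Statements.S15131
import Groth.Agent.Lib.ArtFunAct_helper1

set_option autoImplicit false
universe u v
open CategoryTheory
open ArtFun

namespace Groth.Agent.S15131

/-- Let k be a field and F a functor on local Artinian k-algebras with residue field k with F(k) a
single point, satisfying (H1) (the comparison map of A₁ ×_A A₂ is surjective when A₂ → A is a small
extension) and (H2) (it is bijective when A = k and A₂ = k[ε]). If the tangent space F(k[ε]) is a
single point then F is the one-point functor: every F(A) has exactly one element. (The converse is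
clear.) -/
theorem result
    {k : Type u} [Field k] (F : ArtFun.Art k k ⥤ Type v)
    (h0 : ArtFun.H0 F) (h1 : ArtFun.Hbar F) (h2 : ArtFun.Heps F)
    (ht : Subsingleton (ArtFun.TangentSpace F)) (A : ArtFun.Art k k) :
    Nonempty (F.obj A) ∧ Subsingleton (F.obj A) := by
  open Groth.Agent.Lib.ArtFunH1 in
  constructor
  · obtain ⟨x₀⟩ := h0.1
    let ι : ArtFun.Art.base k k ⟶ A := ArtFun.Art.homMk (Algebra.ofId k A) (by
      apply AlgHom.ext
      intro c
      exact A.res.commutes c)
    exact ⟨F.map ι x₀⟩
  · have key := Groth.Agent.S12707.result (Λ := k) (k := k)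
      (fun A B f => Subsingleton (F.obj A) → Subsingleton (F.obj B))
      (by
        intro A B e he hA
        refine ⟨fun x y => ?_⟩
        have h1 : F.map e x = F.map e y := Subsingleton.elim _ _
        have h2 := congrArg (F.map (inv e)) h1
        rwa [← map_comp_apply, ← map_comp_apply, IsIso.hom_inv_id, map_id_apply, map_id_apply] at h2)
      (by
        intro A A'' f hf hA
        obtain ⟨B, p₁, p₂, α, s, hsq1, hsq2, hs1, hs2, hs3⟩ := exists_action_square f hf
        refine ⟨fun x y => ?_⟩
        have hxy : F.map f x = F.map f y := Subsingleton.elim _ _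
        obtain ⟨z, hz1, hz2⟩ := (cmp_surjective_iff hsq2).1 (h1 p₁ α f f hsq2 hf) x y hxy
        have hz : z = F.map s x := by
          apply (cmp_injective_iff hsq1).1 (h2 p₁ p₂ hsq1).1
          · rw [hz1, ← map_comp_apply, hs1, map_id_apply]
          · exact ht.elim (α := ArtFun.TangentSpace F) _ _
        rw [← hz2, hz, ← map_comp_apply, hs2, map_id_apply])
      (by
        intro A B C p q hp hq hA
        exact hp (hq hA))
      (ArtFun.Art.toBase A) A.res_surjective
    exact key h0.2

end Groth.Agent.S15131
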