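import Groth.Statements.S15132
import Groth.Agent.Lib.ArtFunAct_helper1

set_option autoImplicit false
universe u v
open CategoryTheory
open ArtFun

namespace Groth.Agent.S15132

/-- Let k be a field and F a functor on local Artinian k-algebras with residue field k with F(k) a
single point. If F satisfies (H1), (H2) and (H4) — surjectivity of the comparison map F(A₁ ×_A A₂) →
F(A₁) ×_{F(A)} F(A₂) when A₂ → A is a small extension, bijectivity when A = k and A₂ = k[ε], and
bijectivity for A₂ ×_A A₂ with A₂ → A a small extension — then F is homogeneous: the comparison map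
is bijective for every fibre-product square in which A₂ → A is surjective. (The converse
implications are immediate.) -/
theorem result
    {k : Type u} [Field k] (F : ArtFun.Art k k ⥤ Type v)
    (h0 : ArtFun.H0 F) (h1 : ArtFun.Hbar F) (h2 : ArtFun.Heps F) (h4 : ArtFun.HSq F)
    ⦃B A A' A'' : ArtFun.Art k k⦄ (p' : B ⟶ A') (p'' : B ⟶ A'') (f' : A' ⟶ A) (f'' : A'' ⟶ A)
    (h : ArtFun.Art.IsFibreProd p' p'' f' f'') (hf : Function.Surjective f'') :
    Function.Bijective (ArtFun.cmp F h) := by
  open Groth.Agent.Lib.ArtFunH1 ArtFun.Art in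
  refine ⟨?_, cmp_surjective_of_smallExt F h1 p' p'' f' f'' h hf⟩
  refine cmp_injective_of_smallExt F ?_ p' p'' f' f'' h hf
  clear h hf p' p'' f' f'' B A A' A''
  intro B A A' A'' p' p'' f' f'' h hf''
  obtain ⟨hsurj, hne, ⟨t, ht⟩, hm⟩ := id hf''
  have hker : RingHom.ker f''.toAlgHom = Ideal.span {t} := ht
  have ht0 : t ≠ 0 := by
    rintro rfl
    apply hne
    rw [hker]
    simp
  have htk : t ∈ RingHom.ker f''.toAlgHom := by
    rw [hker]; exact Ideal.subset_span rfl
  have htm : t ∈ IsLocalRing.maximalIdeal A'' := Groth.Agent.S12707.ker_le_maximalIdeal f'' htk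
  have htx : ∀ x ∈ IsLocalRing.maximalIdeal A'', x * t = 0 := by
    intro x hx
    have := Ideal.mul_mem_mul hx htk
    rw [hm] at this
    exact this
  obtain ⟨tB, hb1, hb2, hkB, htB0, htBx, htBm, hp'surj⟩ :=
    exists_gen_of_isFibreProd h hsurj t hker ht0 htx
  have sqB := isFibreProd_actMap p' tB hkB htB0 htBx htBm
  have sqA := isFibreProd_actMap f'' t hker ht0 htx htm
  have hp'small : IsSmallExt p' := isSmallExt_of_gen p' hp'surj tB hkB htB0 htBx
  rw [cmp_injective_iff]
  intro z w hz1 hz2
  obtain ⟨ζ, hζ1, hζ2⟩ := (cmp_surjective_iff sqB).1 (h1 _ _ _ _ sqB hp'small) z w hz1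
  obtain ⟨g, hg1, hg2⟩ := Art.exists_lift_fibreProd (isFibreProd_act A'') (actFst B ≫ p'')
    (actSnd B) (by
      rw [eq_toBase ((actFst B ≫ p'') ≫ toBase A''), eq_toBase (actSnd B ≫ toBase (dual k k))])
  have hnat := actMap_natural p'' tB t hb2 htBx htBm htx htm g hg1 hg2
  obtain ⟨sB, hsB1, hsB2⟩ := Art.exists_lift_fibreProd sqB (𝟙 B) (𝟙 B) rfl
  obtain ⟨sA, hsA1, hsA2⟩ := Art.exists_lift_fibreProd sqA (𝟙 A'') (𝟙 A'') rfl
  have hsB3 := act_section_snd tB htB0 htBx htBm sB hsB1 hsB2
  have hsA3 := act_section_snd t ht0 htx htm sA hsA1 hsA2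
  have e1 : F.map g ζ = F.map sA (F.map p'' z) := by
    apply (cmp_injective_iff sqA).1 (h4 _ _ f'' sqA hf'').1
    · rw [← map_comp_apply, hg1, map_comp_apply, hζ1, ← map_comp_apply F sA, hsA1, map_id_apply]
    · rw [← map_comp_apply, hnat, map_comp_apply, hζ2, ← map_comp_apply F sA, hsA2, map_id_apply,
        hz2]
  have e2 : F.map (actSnd B) ζ = F.map (actSnd B) (F.map sB z) := by
    calc F.map (actSnd B) ζ = F.map (actSnd A'') (F.map g ζ) := by rw [← map_comp_apply, hg2]
      _ = F.map (actSnd A'') (F.map sA (F.map p'' z)) := by rw [e1]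
      _ = F.map baseToDual (F.map (toBase A'') (F.map p'' z)) := by
          rw [← map_comp_apply, hsA3, map_comp_apply]
      _ = F.map baseToDual (F.map (toBase B) z) := by
          congr 1
          exact h0.2.elim _ _
      _ = F.map (actSnd B) (F.map sB z) := by
          rw [← map_comp_apply, ← map_comp_apply, hsB3]
  have e3 : ζ = F.map sB z := by
    apply (cmp_injective_iff (isFibreProd_act B)).1 (h2 (actFst B) (actSnd B) (isFibreProd_act B)).1
    · rw [hζ1, ← map_comp_apply, hsB1, map_id_apply]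
    · exact e2
  rw [← hζ2, e3, ← map_comp_apply, hsB2, map_id_apply]

end Groth.Agent.S15132
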