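import Groth.Statements.S15135

set_option autoImplicit false
universe u v
open Deform

namespace Groth.Agent.S15135

/-- the submodule attached to `φ` -/
def Lof {R : Type u} [CommRing R] {N : Type v} [AddCommGroup N] [Module R N] (M : Submodule R N)
    (φ : M →ₗ[R] (N ⧸ M)) : Submodule R (N × N) where
  carrier := {z | ∃ h : z.1 ∈ M, Submodule.Quotient.mk z.2 = φ ⟨z.1, h⟩}
  zero_mem' := by
    refine ⟨M.zero_mem, ?_⟩
    have e : (⟨(0 : N × N).1, M.zero_mem⟩ : M) = 0 := rfl
    rw [e, map_zero]; rfl
  add_mem' := by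
    rintro z z' ⟨h, hz⟩ ⟨h', hz'⟩
    refine ⟨M.add_mem h h', ?_⟩
    have e : (⟨(z + z').1, M.add_mem h h'⟩ : M) = ⟨z.1, h⟩ + ⟨z'.1, h'⟩ := rfl
    rw [e, map_add, ← hz, ← hz']; rfl
  smul_mem' := by
    rintro r z ⟨h, hz⟩
    refine ⟨M.smul_mem r h, ?_⟩
    have e : (⟨(r • z).1, M.smul_mem r h⟩ : M) = r • ⟨z.1, h⟩ := rfl
    rw [e, map_smul, ← hz]; rfl

lemma mem_Lof {R : Type u} [CommRing R] {N : Type v} [AddCommGroup N] [Module R N]
    (M : Submodule R N) (φ : M →ₗ[R] (N ⧸ M)) (x y : N) :
    (x, y) ∈ Lof M φ ↔ ∃ h : x ∈ M, Submodule.Quotient.mk y = φ ⟨x, h⟩ := Iff.rfl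


/-- For R-modules M ⊆ N, the first-order embedded deformations of M in N are in canonical bijection with
Hom_R(M, N/M). Writing N ⊗ k[ε] = N ⊕ εN as N × N (the pair (x, y) standing for x + εy), such a
deformation is an R-submodule L of N × N which is stable under multiplication by ε (if (x, y) ∈ L
then (0, x) ∈ L), reduces to M (x ∈ M exactly when (x, y) ∈ L for some y) and is flat over the dual
numbers, flatness being stated elementwise as: (0, y) ∈ L only if y ∈ M (for a submodule reducing to
M this is the equality of the kernel and the image of ε on L, i.e. flatness over k[ε] when R is an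
algebra over a field k). To φ : M → N/M corresponds the submodule of all (x, y) with x ∈ M and y ≡
φ(x) mod M. The first clause says this rule defines exactly one submodule for each φ; the second
says that a submodule has the three properties precisely when its membership is given by this rule
for some φ. (The published statement is a linear isomorphism t_G ≅ Hom_R(M, N/M) for the functor G
of flat deformations of M inside N ⊗ A over local Artinian algebras A; this row states only the
underlying bijection, and the obstruction half is not stated here.) -/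
theorem result
    (R : Type u) [CommRing R] (N : Type v) [AddCommGroup N] [Module R N] (M : Submodule R N) :
    (∀ φ : M →ₗ[R] (N ⧸ M), ∃! L : Submodule R (N × N),
        ∀ x y : N, (x, y) ∈ L ↔ ∃ h : x ∈ M, Submodule.Quotient.mk y = φ ⟨x, h⟩) ∧
    (∀ L : Submodule R (N × N),
      ((∀ x y : N, (x, y) ∈ L → ((0 : N), x) ∈ L) ∧
        (∀ x : N, x ∈ M ↔ ∃ y : N, (x, y) ∈ L) ∧
        (∀ y : N, ((0 : N), y) ∈ L → y ∈ M)) ↔
      ∃ φ : M →ₗ[R] (N ⧸ M), ∀ x y : N, (x, y) ∈ L ↔ ∃ h : x ∈ M, Submodule.Quotient.mk y = φ ⟨x, h⟩) := by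
  constructor
  · intro φ
    refine ⟨Lof M φ, fun x y => mem_Lof M φ x y, fun L hL => ?_⟩
    ext ⟨x, y⟩
    rw [hL x y, mem_Lof]
  · intro L
    constructor
    · rintro ⟨h1, h2, h3⟩
      -- well-definedness
      have hwd : ∀ x y y', (x, y) ∈ L → (x, y') ∈ L →
          (Submodule.Quotient.mk y : N ⧸ M) = Submodule.Quotient.mk y' := by
        intro x y y' hy hy'
        have hsub : ((0 : N), y - y') ∈ L := by
          have := L.sub_mem hy hy'
          simpa using this
        exact (Submodule.Quotient.eq M).mpr (h3 _ hsub)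
      have hex : ∀ x : M, ∃ y : N, ((x : N), y) ∈ L := fun x => (h2 x).mp x.2
      let φ : M →ₗ[R] (N ⧸ M) :=
        { toFun := fun x => Submodule.Quotient.mk (Classical.choose (hex x))
          map_add' := by
            intro x x'
            have h := L.add_mem (Classical.choose_spec (hex x)) (Classical.choose_spec (hex x'))
            rw [← Submodule.Quotient.mk_add]
            exact hwd _ _ _ (Classical.choose_spec (hex (x + x'))) h
          map_smul' := by
            intro r x
            have h := L.smul_mem r (Classical.choose_spec (hex x))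
            rw [RingHom.id_apply, ← Submodule.Quotient.mk_smul]
            exact hwd _ _ _ (Classical.choose_spec (hex (r • x))) h }
      refine ⟨φ, fun x y => ⟨fun hxy => ?_, ?_⟩⟩
      · have hx : x ∈ M := (h2 x).mpr ⟨y, hxy⟩
        refine ⟨hx, ?_⟩
        exact hwd x _ _ hxy (Classical.choose_spec (hex ⟨x, hx⟩))
      · rintro ⟨hx, hy⟩
        have hy₀ := Classical.choose_spec (hex ⟨x, hx⟩)
        have hdiff : y - Classical.choose (hex ⟨x, hx⟩) ∈ M :=
          (Submodule.Quotient.eq M).mp hy
        obtain ⟨z, hz⟩ := (h2 _).mp hdiff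
        have h0 := h1 _ _ hz
        have hsum := L.add_mem hy₀ h0
        simpa using hsum
    · rintro ⟨φ, hφ⟩
      refine ⟨?_, ?_, ?_⟩
      · intro x y hxy
        obtain ⟨hx, -⟩ := (hφ x y).mp hxy
        refine (hφ 0 x).mpr ⟨M.zero_mem, ?_⟩
        have e : (⟨(0 : N), M.zero_mem⟩ : M) = 0 := rfl
        rw [e, map_zero]
        exact (Submodule.Quotient.mk_eq_zero M).mpr hx
      · intro x
        constructor
        · intro hx
          obtain ⟨y, hy⟩ := Submodule.Quotient.mk_surjective M (φ ⟨x, hx⟩)
          exact ⟨y, (hφ x y).mpr ⟨hx, hy⟩⟩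
        · rintro ⟨y, hy⟩
          exact ((hφ x y).mp hy).1
      · intro y hy
        obtain ⟨h0, hy'⟩ := (hφ 0 y).mp hy
        have e : (⟨(0 : N), h0⟩ : M) = 0 := rfl
        rw [e, map_zero] at hy'
        exact (Submodule.Quotient.mk_eq_zero M).mp hy'

end Groth.Agent.S15135
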