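import Groth.Statements.S15155
import Groth.Agent.Lib.AltDet_helper3
-- import your own Groth.Agent.* helpers here

set_option autoImplicit false
open CAlg


namespace Groth.Agent.S15155

/-- Let J be the 2m × 2m block matrix with blocks 0, I_m in the first row and −I_m, 0 in the second,
over the complex numbers. On the set of complex 2m × 2m matrices A with ᵗA · J = J · A (equivalently
ᵗA = J A J⁻¹, J being invertible), the characteristic polynomial is the square of a single
polynomial in the entries of A with coefficients in ℂ[X], and the determinant is the square of a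
single polynomial in the entries of A. -/
theorem result (m : ℕ) :
    (∃ P : MvPolynomial ((Fin m ⊕ Fin m) × (Fin m ⊕ Fin m)) (Polynomial ℂ),
      ∀ A : Matrix (Fin m ⊕ Fin m) (Fin m ⊕ Fin m) ℂ,
        A.transpose * Matrix.fromBlocks 0 1 (-1) 0 = Matrix.fromBlocks 0 1 (-1) 0 * A →
        A.charpoly = (MvPolynomial.eval (fun ij => Polynomial.C (A ij.1 ij.2)) P) ^ 2) ∧
    (∃ Q : MvPolynomial ((Fin m ⊕ Fin m) × (Fin m ⊕ Fin m)) ℂ,
      ∀ A : Matrix (Fin m ⊕ Fin m) (Fin m ⊕ Fin m) ℂ,
        A.transpose * Matrix.fromBlocks 0 1 (-1) 0 = Matrix.fromBlocks 0 1 (-1) 0 * A →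
        A.det = (MvPolynomial.eval (fun ij => A ij.1 ij.2) Q) ^ 2) := by
  classical
  set J : Matrix (Fin m ⊕ Fin m) (Fin m ⊕ Fin m) ℂ := Matrix.fromBlocks 0 1 (-1) 0 with hJ
  have hJT : J.transpose = -J := by
    rw [hJ, Matrix.fromBlocks_transpose, Matrix.fromBlocks_neg]
    simp
  have hJJ : J * J = -1 := by
    rw [hJ, Matrix.fromBlocks_multiply]
    simp only [Matrix.zero_mul, Matrix.mul_zero, Matrix.one_mul, Matrix.mul_one, zero_add,
      add_zero, Matrix.mul_neg, Matrix.neg_mul]
    rw [← Matrix.fromBlocks_one, Matrix.fromBlocks_neg]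
    simp
  have hdetJ : J.det ≠ 0 := by
    intro h
    have h1 := congrArg Matrix.det hJJ
    rw [Matrix.det_mul, h, Matrix.det_neg, Matrix.det_one] at h1
    simp at h1
  obtain ⟨c, hc⟩ := IsAlgClosed.exists_pow_nat_eq (J.det)⁻¹ (n := 2) (by norm_num)
  constructor
  · -- characteristic polynomial
    letI : Invertible (2 : Polynomial ℂ) :=
      ⟨Polynomial.C (1 / 2), by
        rw [← map_ofNat (Polynomial.C (R := ℂ)) 2, ← Polynomial.C_mul]; norm_num, by
        rw [← map_ofNat (Polynomial.C (R := ℂ)) 2, ← Polynomial.C_mul]; norm_num⟩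
    set 𝕄 : Matrix (Fin m ⊕ Fin m) (Fin m ⊕ Fin m)
        (MvPolynomial ((Fin m ⊕ Fin m) × (Fin m ⊕ Fin m)) (Polynomial ℂ)) :=
      (J.map (fun x => MvPolynomial.C (Polynomial.C x))) *
        (Matrix.scalar _ (MvPolynomial.C Polynomial.X) -
          Matrix.of (fun i j => MvPolynomial.X (i, j))) with h𝕄
    obtain ⟨Pf, hPf⟩ := Groth.Agent.Lib.AltDetH3.exists_poly 𝕄
    refine ⟨MvPolynomial.C (Polynomial.C c) * Pf, ?_⟩
    intro A hA
    set a : (Fin m ⊕ Fin m) × (Fin m ⊕ Fin m) → Polynomial ℂ :=
      fun ij => Polynomial.C (A ij.1 ij.2) with ha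
    have key : 𝕄.map (MvPolynomial.eval a) =
        ((Polynomial.C : ℂ →+* Polynomial ℂ).mapMatrix J) * A.charmatrix := by
      rw [← RingHom.mapMatrix_apply, h𝕄, map_mul, map_sub]
      congr 1
      · ext i j
        simp [RingHom.mapMatrix_apply]
      · rw [Matrix.charmatrix]
        congr 1
        · ext i j
          by_cases hij : i = j
          · subst hij
            simp [RingHom.mapMatrix_apply]
          · simp [RingHom.mapMatrix_apply, hij]
        · ext i j
          simp [RingHom.mapMatrix_apply, ha]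
    have hJpT : (((Polynomial.C : ℂ →+* Polynomial ℂ).mapMatrix J)).transpose =
        -((Polynomial.C : ℂ →+* Polynomial ℂ).mapMatrix J) := by
      rw [RingHom.mapMatrix_apply, ← Matrix.transpose_map, hJT]
      ext i j
      simp
    have hN : (((Polynomial.C : ℂ →+* Polynomial ℂ).mapMatrix J) * A.charmatrix).transpose =
        -(((Polynomial.C : ℂ →+* Polynomial ℂ).mapMatrix J) * A.charmatrix) := by
      rw [Matrix.transpose_mul, hJpT, ← Matrix.charmatrix_transpose, Matrix.charmatrix,
        Matrix.charmatrix, Matrix.mul_neg, Matrix.sub_mul, Matrix.mul_sub, ← map_mul, ← map_mul,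
        hA, (Matrix.scalar_commute (Polynomial.X : Polynomial ℂ) (fun _ => Commute.all _ _) _).eq]
    have h1 := hPf a (by rw [key]; exact hN)
    rw [key, Matrix.det_mul, ← RingHom.map_det] at h1
    have h2 : A.charpoly = Polynomial.C ((J.det)⁻¹) * (Polynomial.C J.det * A.charmatrix.det) := by
      rw [← mul_assoc, ← Polynomial.C_mul, inv_mul_cancel₀ hdetJ, Polynomial.C_1, one_mul]
      rfl
    rw [h2, h1, ← hc, map_mul, MvPolynomial.eval_C, Polynomial.C_pow]
    ring
  · -- determinant
    letI : Invertible (2 : ℂ) := invertibleOfNonzero (by norm_num)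
    set 𝕄 : Matrix (Fin m ⊕ Fin m) (Fin m ⊕ Fin m)
        (MvPolynomial ((Fin m ⊕ Fin m) × (Fin m ⊕ Fin m)) ℂ) :=
      (J.map (fun x => MvPolynomial.C x)) * Matrix.of (fun i j => MvPolynomial.X (i, j)) with h𝕄
    obtain ⟨Pf, hPf⟩ := Groth.Agent.Lib.AltDetH3.exists_poly 𝕄
    refine ⟨MvPolynomial.C c * Pf, ?_⟩
    intro A hA
    set a : (Fin m ⊕ Fin m) × (Fin m ⊕ Fin m) → ℂ := fun ij => A ij.1 ij.2 with ha
    have key : 𝕄.map (MvPolynomial.eval a) = J * A := by
      rw [← RingHom.mapMatrix_apply, h𝕄, map_mul]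
      congr 1
      · ext i j
        simp [RingHom.mapMatrix_apply]
      · ext i j
        simp [RingHom.mapMatrix_apply, ha]
    have hN : (J * A).transpose = -(J * A) := by
      rw [Matrix.transpose_mul, hJT, Matrix.mul_neg, hA]
    have h1 := hPf a (by rw [key]; exact hN)
    rw [key, Matrix.det_mul] at h1
    have h2 : A.det = (J.det)⁻¹ * (J.det * A.det) := by
      rw [← mul_assoc, inv_mul_cancel₀ hdetJ, one_mul]
    rw [h2, h1, ← hc, map_mul, MvPolynomial.eval_C]
    ring

end Groth.Agent.S15155
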