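import Groth.Statements.S15162
import Mathlib

set_option autoImplicit false
open Matrix
open BddFin

namespace Groth.Agent.S15162

private lemma det_sub_one (M : Matrix (Fin 2) (Fin 2) ℤ) :
    (M - 1).det = M.det - M.trace + 1 := by
  simp [Matrix.det_fin_two, Matrix.trace_fin_two]; ring

private lemma ch2 (M : Matrix (Fin 2) (Fin 2) ℤ) :
    M * M = algebraMap ℤ (Matrix (Fin 2) (Fin 2) ℤ) M.trace * M
      - algebraMap ℤ (Matrix (Fin 2) (Fin 2) ℤ) M.det := by
  have := Matrix.aeval_self_charpoly M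
  rw [Matrix.charpoly_fin_two] at this
  simp only [map_sub, map_add, map_mul, map_pow, Polynomial.aeval_X, Polynomial.aeval_C] at this
  rw [← sub_eq_zero, ← this, sq]
  abel

private lemma pow_one_add_nilp (N : Matrix (Fin 2) (Fin 2) ℤ) (hNN : N * N = 0) (k : ℕ) :
    (1 + N) ^ k = 1 + (k : ℤ) • N := by
  induction k with
  | zero => simp
  | succ k ih =>
    rw [pow_succ, ih]
    simp only [add_mul, mul_add, one_mul, mul_one, smul_mul_assoc, hNN, smul_zero, add_zero]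
    push_cast
    rw [add_smul, one_smul]
    abel

private lemma unipotent_finite_order (M : Matrix (Fin 2) (Fin 2) ℤ) (hdet : M.det = 1)
    (htr : M.trace = 2) (n : ℕ) (hn : 0 < n) (hM : M ^ n = 1) : M = 1 := by
  have hNN : (M - 1) * (M - 1) = 0 := by
    have h1 : (M - 1) * (M - 1) = M * M - M - M + 1 := by noncomm_ring
    rw [h1, ch2, hdet, htr, map_ofNat, map_one, two_mul]
    abel
  have hM' : M = 1 + (M - 1) := by abel
  have hp := pow_one_add_nilp (M - 1) hNN n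
  rw [← hM', hM] at hp
  have hz : (n : ℤ) • (M - 1) = 0 := by
    have := hp
    rw [left_eq_add] at this
    exact this
  have hN0 : M - 1 = 0 := by
    ext i j
    have := congrFun (congrFun hz i) j
    simp only [Matrix.smul_apply, smul_eq_mul, Matrix.zero_apply] at this
    rcases mul_eq_zero.1 this with h | h
    · exact absurd h (by exact_mod_cast hn.ne')
    · simpa using h
  exact sub_eq_zero.1 hN0

/-- Let Γ be a finite subgroup of GL_2(ℤ) acting on ℤ² by matrix multiplication. If every element of Γ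
has a non-zero fixed vector in ℤ², then there is a non-zero vector of ℤ² fixed by all of Γ. -/
theorem result
    (Γ : Subgroup (Matrix.GeneralLinearGroup (Fin 2) ℤ)) [Finite Γ]
    (h : ∀ γ ∈ Γ, ∃ v : Fin 2 → ℤ, v ≠ 0 ∧ (γ : Matrix (Fin 2) (Fin 2) ℤ) *ᵥ v = v) :
    ∃ v : Fin 2 → ℤ, v ≠ 0 ∧ ∀ γ ∈ Γ, (γ : Matrix (Fin 2) (Fin 2) ℤ) *ᵥ v = v := by
  classical
  have key : ∀ γ ∈ Γ, (γ : Matrix (Fin 2) (Fin 2) ℤ).det = 1 → γ = 1 := by
    intro γ hγ hdet
    obtain ⟨v, hv, hfix⟩ := h γ hγ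
    have h0 : ((γ : Matrix (Fin 2) (Fin 2) ℤ) - 1) *ᵥ v = 0 := by
      rw [Matrix.sub_mulVec, Matrix.one_mulVec, hfix, sub_self]
    have hd : ((γ : Matrix (Fin 2) (Fin 2) ℤ) - 1).det = 0 :=
      Matrix.exists_mulVec_eq_zero_iff.1 ⟨v, hv, h0⟩
    rw [det_sub_one, hdet] at hd
    have htr : (γ : Matrix (Fin 2) (Fin 2) ℤ).trace = 2 := by linarith
    have hord : γ ^ Nat.card Γ = 1 := by
      have := pow_card_eq_one' (G := Γ) (x := ⟨γ, hγ⟩)
      exact congrArg Subtype.val this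
    have hM : (γ : Matrix (Fin 2) (Fin 2) ℤ) ^ Nat.card Γ = 1 := by
      rw [← Units.val_pow_eq_pow_val, hord]; rfl
    have := unipotent_finite_order _ hdet htr (Nat.card Γ) Nat.card_pos hM
    exact Units.ext this
  have hu : ∀ g : Matrix.GeneralLinearGroup (Fin 2) ℤ,
      (g : Matrix (Fin 2) (Fin 2) ℤ).det = 1 ∨ (g : Matrix (Fin 2) (Fin 2) ℤ).det = -1 := by
    intro g
    exact Int.isUnit_iff.1 ((Matrix.isUnit_iff_isUnit_det _).1 g.isUnit)
  by_cases hall : ∀ γ ∈ Γ, (γ : Matrix (Fin 2) (Fin 2) ℤ).det = 1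
  · refine ⟨![1, 0], ?_, fun γ hγ => ?_⟩
    · intro h0
      have := congrFun h0 0
      simp at this
    · rw [key γ hγ (hall γ hγ)]; simp
  · push Not at hall
    obtain ⟨γ₀, hγ₀, hdet₀⟩ := hall
    obtain ⟨v, hv, hfix⟩ := h γ₀ hγ₀
    refine ⟨v, hv, fun γ hγ => ?_⟩
    by_cases hd : (γ : Matrix (Fin 2) (Fin 2) ℤ).det = 1
    · rw [key γ hγ hd]; simp
    · have h1 : (γ : Matrix (Fin 2) (Fin 2) ℤ).det = -1 := (hu γ).resolve_left hd
      have h2 : (γ₀ : Matrix (Fin 2) (Fin 2) ℤ).det = -1 := (hu γ₀).resolve_left hdet₀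
      have h3 : ((γ * γ₀⁻¹ : Matrix.GeneralLinearGroup (Fin 2) ℤ) :
          Matrix (Fin 2) (Fin 2) ℤ).det = 1 := by
        have e : ((γ * γ₀⁻¹ : Matrix.GeneralLinearGroup (Fin 2) ℤ) : Matrix (Fin 2) (Fin 2) ℤ) *
            (γ₀ : Matrix (Fin 2) (Fin 2) ℤ) = (γ : Matrix (Fin 2) (Fin 2) ℤ) := by
          rw [← Units.val_mul, inv_mul_cancel_right]
        have := congrArg Matrix.det e
        rw [Matrix.det_mul, h1, h2] at this
        linarith
      have := key _ (Γ.mul_mem hγ (Γ.inv_mem hγ₀)) h3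
      have hγeq : γ = γ₀ := by rwa [mul_inv_eq_one] at this
      rw [hγeq]; exact hfix

end Groth.Agent.S15162
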