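import Groth.Statements.S15163
import Mathlib
import Groth.Agent.S15162

set_option autoImplicit false
open Matrix
open BddFin

namespace Groth.Agent.S15163

private lemma det_sub_one (M : Matrix (Fin 2) (Fin 2) ℤ) :
    (M - 1).det = M.det - M.trace + 1 := by
  simp [Matrix.det_fin_two, Matrix.trace_fin_two]; ring

private lemma ch2 (M : Matrix (Fin 2) (Fin 2) ℤ) :
    M * M = algebraMap ℤ (Matrix (Fin 2) (Fin 2) ℤ) M.trace * M
      - algebraMap ℤ (Matrix (Fin 2) (Fin 2) ℤ) M.det := by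
  have := Matrix.aeval_self_charpoly M
  rw [Matrix.charpoly_fin_two] at this
  simp only [map_sub, map_add, map_mul, map_pow, Polynomial.aeval_X, Polynomial.aeval_C] at this
  rw [← sub_eq_zero, ← this, sq]
  abel

private lemma pow_one_add_nilp (N : Matrix (Fin 2) (Fin 2) ℤ) (hNN : N * N = 0) (k : ℕ) :
    (1 + N) ^ k = 1 + (k : ℤ) • N := by
  induction k with
  | zero => simp
  | succ k ih =>
    rw [pow_succ, ih]
    simp only [add_mul, mul_add, one_mul, mul_one, smul_mul_assoc, hNN, smul_zero, add_zero]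
    push_cast
    rw [add_smul, one_smul]
    abel

private lemma unipotent_finite_order (M : Matrix (Fin 2) (Fin 2) ℤ) (hdet : M.det = 1)
    (htr : M.trace = 2) (n : ℕ) (hn : 0 < n) (hM : M ^ n = 1) : M = 1 := by
  have hNN : (M - 1) * (M - 1) = 0 := by
    have h1 : (M - 1) * (M - 1) = M * M - M - M + 1 := by noncomm_ring
    rw [h1, ch2, hdet, htr, map_ofNat, map_one, two_mul]
    abel
  have hM' : M = 1 + (M - 1) := by abel
  have hp := pow_one_add_nilp (M - 1) hNN n
  rw [← hM', hM] at hp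
  have hz : (n : ℤ) • (M - 1) = 0 := by
    have := hp
    rw [left_eq_add] at this
    exact this
  have hN0 : M - 1 = 0 := by
    ext i j
    have := congrFun (congrFun hz i) j
    simp only [Matrix.smul_apply, smul_eq_mul, Matrix.zero_apply] at this
    rcases mul_eq_zero.1 this with h | h
    · exact absurd h (by exact_mod_cast hn.ne')
    · simpa using h
  exact sub_eq_zero.1 hN0
private lemma tr_rec (M : Matrix (Fin 2) (Fin 2) ℤ) (k : ℕ) :
    (M ^ (k + 2)).trace = M.trace * (M ^ (k + 1)).trace - M.det * (M ^ k).trace := by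
  have h := ch2 M
  have e : M ^ (k + 2) = M.trace • M ^ (k + 1) - M.det • M ^ k := by
    rw [pow_add, sq, h, mul_sub, Algebra.left_comm, ← pow_succ, ← Algebra.commutes,
      ← Algebra.smul_def, ← Algebra.smul_def]
  rw [e, Matrix.trace_sub, Matrix.trace_smul, Matrix.trace_smul, smul_eq_mul, smul_eq_mul]

private lemma tr_growth (M : Matrix (Fin 2) (Fin 2) ℤ) (hdet : M.det = 1) (ht : 3 ≤ M.trace) :
    ∀ k : ℕ, 2 ≤ (M ^ k).trace ∧ (M ^ k).trace < (M ^ (k + 1)).trace := by
  intro k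
  induction k with
  | zero =>
    simp only [pow_zero, zero_add, pow_one]
    have : (1 : Matrix (Fin 2) (Fin 2) ℤ).trace = 2 := by simp
    rw [this]
    exact ⟨le_refl _, by linarith⟩
  | succ k ih =>
    obtain ⟨h1, h2⟩ := ih
    refine ⟨by linarith, ?_⟩
    rw [tr_rec, hdet, one_mul]
    nlinarith

private lemma tr_le_two (M : Matrix (Fin 2) (Fin 2) ℤ) (hdet : M.det = 1) (n : ℕ) (hn : 0 < n)
    (hM : M ^ n = 1) : M.trace ≤ 2 := by
  by_contra hlt
  push Not at hlt
  have hg := tr_growth M hdet (by linarith)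
  have hmono : ∀ k : ℕ, 0 < k → 2 < (M ^ k).trace := by
    intro k hk
    induction k with
    | zero => exact absurd hk (lt_irrefl _)
    | succ k ih =>
      rcases Nat.eq_zero_or_pos k with rfl | hk'
      · have := (hg 0).2
        simp only [pow_zero, zero_add, pow_one] at this ⊢
        have h1 : (1 : Matrix (Fin 2) (Fin 2) ℤ).trace = 2 := by simp
        linarith
      · have := (hg k).2
        linarith [ih hk']
  have := hmono n hn
  rw [hM] at this
  have h1 : (1 : Matrix (Fin 2) (Fin 2) ℤ).trace = 2 := by simp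
  linarith

private lemma abs_tr_le_two (M : Matrix (Fin 2) (Fin 2) ℤ) (hdet : M.det = 1) (n : ℕ) (hn : 0 < n)
    (hM : M ^ n = 1) : -2 ≤ M.trace ∧ M.trace ≤ 2 := by
  refine ⟨?_, tr_le_two M hdet n hn hM⟩
  have hdet' : (-M).det = 1 := by
    rw [Matrix.det_neg, hdet]; simp
  have hM' : (-M) ^ (2 * n) = 1 := by
    rw [pow_mul, neg_sq, ← pow_mul, mul_comm, pow_mul, hM, one_pow]
  have := tr_le_two (-M) hdet' (2 * n) (by omega) hM'
  rw [Matrix.trace_neg] at this
  linarith

/-- Let Γ be a finite subgroup of GL_2(ℤ) and d > 6 an integer. Suppose some vector w of (ℤ/dℤ)², with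
m·w ≠ 0 for all 0 < m < d, is fixed by the reduction modulo d of every element of Γ. Then some
non-zero vector of ℤ² is fixed by all of Γ. -/
theorem result
    (Γ : Subgroup (Matrix.GeneralLinearGroup (Fin 2) ℤ)) [Finite Γ] (d : ℕ) (hd : 6 < d)
    (w : Fin 2 → ZMod d) (hw : ∀ m : ℕ, 0 < m → m < d → m • w ≠ 0)
    (hfix : ∀ γ ∈ Γ, ((γ : Matrix (Fin 2) (Fin 2) ℤ).map (Int.castRingHom (ZMod d))) *ᵥ w = w) :
    ∃ v : Fin 2 → ℤ, v ≠ 0 ∧ ∀ γ ∈ Γ, (γ : Matrix (Fin 2) (Fin 2) ℤ) *ᵥ v = v := by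
  classical
  have hd0 : 0 < d := by omega
  apply Groth.Agent.S15162.result Γ
  intro γ hγ
  have hord : γ ^ Nat.card Γ = 1 := by
    have := pow_card_eq_one' (G := Γ) (x := ⟨γ, hγ⟩)
    exact congrArg Subtype.val this
  have hcard : 0 < Nat.card Γ := Nat.card_pos
  have hM : (γ : Matrix (Fin 2) (Fin 2) ℤ) ^ Nat.card Γ = 1 := by
    rw [← Units.val_pow_eq_pow_val, hord]; rfl
  have hu : (γ : Matrix (Fin 2) (Fin 2) ℤ).det = 1 ∨ (γ : Matrix (Fin 2) (Fin 2) ℤ).det = -1 :=
    Int.isUnit_iff.1 ((Matrix.isUnit_iff_isUnit_det _).1 γ.isUnit)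
  -- it suffices to show det (M - 1) = 0
  suffices hdet0 : ((γ : Matrix (Fin 2) (Fin 2) ℤ) - 1).det = 0 by
    obtain ⟨v, hv, hv0⟩ := Matrix.exists_mulVec_eq_zero_iff.2 hdet0
    refine ⟨v, hv, ?_⟩
    rw [Matrix.sub_mulVec, Matrix.one_mulVec, sub_eq_zero] at hv0
    exact hv0
  rw [det_sub_one]
  rcases hu with hdet | hdet
  · -- det = 1
    obtain ⟨hlo, hhi⟩ := abs_tr_le_two _ hdet _ hcard hM
    -- d ∣ det (M - 1)
    have hdvd : (d : ℤ) ∣ ((γ : Matrix (Fin 2) (Fin 2) ℤ) - 1).det := by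
      set z := ((γ : Matrix (Fin 2) (Fin 2) ℤ) - 1).det with hz
      have hfixγ := hfix γ hγ
      have h0 : (((γ : Matrix (Fin 2) (Fin 2) ℤ) - 1).map (Int.castRingHom (ZMod d))) *ᵥ w = 0 := by
        rw [← RingHom.mapMatrix_apply, map_sub, map_one, Matrix.sub_mulVec, Matrix.one_mulVec,
          RingHom.mapMatrix_apply, hfixγ, sub_self]
      have h1 : (z : ZMod d) • w = 0 := by
        have := congrArg (fun u => (((γ : Matrix (Fin 2) (Fin 2) ℤ) - 1).map
          (Int.castRingHom (ZMod d))).adjugate *ᵥ u) h0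
        simp only [Matrix.mulVec_mulVec, Matrix.adjugate_mul, Matrix.mulVec_zero] at this
        rw [Matrix.smul_mulVec, Matrix.one_mulVec] at this
        rw [hz]
        have e : (((γ : Matrix (Fin 2) (Fin 2) ℤ) - 1).map (Int.castRingHom (ZMod d))).det =
            ((((γ : Matrix (Fin 2) (Fin 2) ℤ) - 1).det : ℤ) : ZMod d) := by
          rw [← RingHom.mapMatrix_apply, ← RingHom.map_det]; rfl
        rw [e] at this
        exact this
      -- reduce to a natural number multiple
      have hnn : 0 ≤ z % (d : ℤ) := Int.emod_nonneg z (by exact_mod_cast hd0.ne')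
      have hlt : z % (d : ℤ) < d := Int.emod_lt_of_pos z (by exact_mod_cast hd0)
      have hcast : (z : ZMod d) = (((z % (d : ℤ)).toNat : ℕ) : ZMod d) := by
        have h2 : (((z % (d : ℤ)).toNat : ℕ) : ℤ) = z % d := Int.toNat_of_nonneg hnn
        have h3 : (((z % (d : ℤ)).toNat : ℕ) : ZMod d) = (((z % (d : ℤ)) : ℤ) : ZMod d) := by
          rw [← h2, Int.cast_natCast]
          rw [h2]
        rw [h3, ZMod.intCast_mod]
      rw [hcast, Nat.cast_smul_eq_nsmul] at h1
      by_cases hm0 : (z % (d : ℤ)).toNat = 0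
      · have : z % (d : ℤ) = 0 := by
          have h2 : (((z % (d : ℤ)).toNat : ℕ) : ℤ) = z % d := Int.toNat_of_nonneg hnn
          rw [hm0] at h2
          exact_mod_cast h2.symm
        exact Int.dvd_of_emod_eq_zero this
      · exfalso
        refine hw _ (Nat.pos_of_ne_zero hm0) ?_ h1
        have h2 : (((z % (d : ℤ)).toNat : ℕ) : ℤ) = z % d := Int.toNat_of_nonneg hnn
        exact_mod_cast (h2 ▸ hlt)
    rw [det_sub_one, hdet] at hdvd
    -- 1 - t + 1 ∈ [0, 4] and divisible by d > 6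
    obtain ⟨c, hc⟩ := hdvd
    have hd7 : (7 : ℤ) ≤ d := by exact_mod_cast hd
    rw [hdet]
    have : c = 0 := by
      by_contra hc0
      rcases lt_or_gt_of_ne hc0 with h | h
      · nlinarith
      · nlinarith
    rw [this, mul_zero] at hc
    linarith
  · -- det = -1: trace is zero
    have hdet2 : ((γ : Matrix (Fin 2) (Fin 2) ℤ) ^ 2).det = 1 := by
      rw [Matrix.det_pow, hdet]; norm_num
    have hM2 : ((γ : Matrix (Fin 2) (Fin 2) ℤ) ^ 2) ^ Nat.card Γ = 1 := by
      rw [← pow_mul, mul_comm, pow_mul, hM, one_pow]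
    obtain ⟨hlo, hhi⟩ := abs_tr_le_two _ hdet2 _ hcard hM2
    have htr2 : ((γ : Matrix (Fin 2) (Fin 2) ℤ) ^ 2).trace =
        (γ : Matrix (Fin 2) (Fin 2) ℤ).trace ^ 2 + 2 := by
      have := tr_rec (γ : Matrix (Fin 2) (Fin 2) ℤ) 0
      simp only [zero_add, pow_one, pow_zero] at this
      rw [this, hdet]
      have h1 : (1 : Matrix (Fin 2) (Fin 2) ℤ).trace = 2 := by simp
      rw [h1]; ring
    rw [htr2] at hhi
    have ht0 : (γ : Matrix (Fin 2) (Fin 2) ℤ).trace = 0 := by nlinarith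
    rw [hdet, ht0]; norm_num

end Groth.Agent.S15163
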