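import Groth.Statements.S15164
import Mathlib
import Groth.Agent.Lib.AnisotropicUnipotent_helper2

set_option autoImplicit false
universe u v
open BddFin

namespace Groth.Agent.S15164

/-- Let K be a field of characteristic p > 2, V a finite-dimensional K-vector space and q a quadratic
form on V that does not represent zero (q x = 0 only for x = 0). Then the group of K-linear
automorphisms of V preserving q has no element of order p: if g preserves q and g ^ p = 1 then g =
1. (Non-degeneracy of q, also assumed in the published statement, follows from anisotropy since 2 is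
invertible, so it is not repeated here.) -/
theorem result
    (K : Type u) [Field K] (p : ℕ) [Fact p.Prime] [CharP K p] (hp : p ≠ 2)
    (V : Type v) [AddCommGroup V] [Module K V] [FiniteDimensional K V]
    (q : QuadraticForm K V) (hq : q.Anisotropic)
    (g : V ≃ₗ[K] V) (hg : ∀ x : V, q (g x) = q x) (hgp : g ^ p = 1) : g = 1 := by
  classical
  have h2 : (2:K) ≠ 0 := by
    intro h
    have h' : ((2:ℕ):K) = 0 := by exact_mod_cast h
    rw [CharP.cast_eq_zero_iff K p] at h'
    have hp' := (Nat.prime_dvd_prime_iff_eq (Fact.out) Nat.prime_two).mp h'
    exact hp hp'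
  obtain ⟨f, hf⟩ : ∃ f : Module.End K V, f = g.toLinearMap := ⟨_, rfl⟩
  have hfx : ∀ x, f x = g x := fun x => by rw [hf]; rfl
  have hfp : f ^ p = 1 := by
    have := congrArg (LinearEquiv.automorphismGroup.toLinearMapMonoidHom (R := K) (M := V)) hgp
    rw [map_pow, map_one] at this
    rw [hf]
    exact this
  have hnil : IsNilpotent (f - 1) := by
    refine ⟨p, ?_⟩
    have h1 : (Polynomial.X - 1 : Polynomial K) ^ p = Polynomial.X ^ p - 1 := by
      rw [sub_pow_char, one_pow]
    have := congrArg (Polynomial.aeval f) h1
    simpa [hfp] using this
  have h1 := Groth.Agent.Lib.AnisotropicUnipotent.eq_one_of_isNilpotent_sub_one h2 q hq f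
    (fun x => by rw [hfx]; exact hg x) hnil
  ext x
  have := congrArg (fun e : Module.End K V => e x) h1
  simp only [Module.End.one_apply] at this
  rw [hfx] at this
  simpa using this

end Groth.Agent.S15164
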