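import Groth.Statements.S15165
import Mathlib
import Groth.Agent.Lib.AnisotropicUnipotent_helper2

set_option autoImplicit false
universe u v
open Polynomial
open BddFin

namespace Groth.Agent.S15165

/-- Let K be a field of characteristic different from 2 such that K contains all roots of unity (for
every n ≥ 1 the polynomial X^n − 1 splits into linear factors over K), V a finite-dimensional
K-vector space and q a quadratic form on V that does not represent zero. If a K-linear automorphism
g of V preserves q and has finite order (g ^ d = 1 for some d ≥ 1), then g ^ 2 = 1. (The published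
statement also covers perfect fields of characteristic 2; this row is the case of characteristic ≠
2.) -/
theorem result
    (K : Type u) [Field K] (hK : ∀ n : ℕ, 0 < n → (X ^ n - 1 : K[X]).Splits) (h2 : (2 : K) ≠ 0)
    (V : Type v) [AddCommGroup V] [Module K V] [FiniteDimensional K V]
    (q : QuadraticForm K V) (hq : q.Anisotropic)
    (g : V ≃ₗ[K] V) (hg : ∀ x : V, q (g x) = q x) (d : ℕ) (hd : 0 < d) (hgd : g ^ d = 1) :
    g ^ 2 = 1 := by
  classical
  obtain ⟨f, hf⟩ : ∃ f : Module.End K V, f = g.toLinearMap := ⟨_, rfl⟩
  have hfx : ∀ x, f x = g x := fun x => by rw [hf]; rfl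
  have hfd : f ^ d = 1 := by
    have := congrArg (LinearEquiv.automorphismGroup.toLinearMapMonoidHom (R := K) (M := V)) hgd
    rw [map_pow, map_one] at this
    rw [hf]
    exact this
  have haeval : Polynomial.aeval f (X ^ d - 1 : K[X]) = 0 := by simp [hfd]
  have hdvd : minpoly K f ∣ X ^ d - 1 := minpoly.dvd K f haeval
  have hne : (X ^ d - 1 : K[X]) ≠ 0 := by
    have := (monic_X_pow_sub_C (1:K) hd.ne').ne_zero
    simpa using this
  have hint : IsIntegral K f := Algebra.IsIntegral.isIntegral f
  have hsplit : (minpoly K f).Splits := (hK d hd).of_dvd hne hdvd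
  have hroot : ∀ a ∈ (minpoly K f).roots, a ^ 2 = 1 := by
    intro a ha
    have hr : (minpoly K f).IsRoot a := (Polynomial.mem_roots (minpoly.ne_zero hint)).mp ha
    have hev : f.HasEigenvalue a := Module.End.hasEigenvalue_of_isRoot hr
    obtain ⟨v, hv⟩ := hev.exists_hasEigenvector
    have hfv : f v = a • v := hv.apply_eq_smul
    have hv0 : v ≠ 0 := hv.2
    have h1 : q v = (a * a) * q v := by
      conv_lhs => rw [← hg v, ← hfx, hfv, QuadraticMap.map_smul, smul_eq_mul]
    have hqv : q v ≠ 0 := fun h => hv0 (hq v h)
    have h3 : (a * a - 1) * q v = 0 := by linear_combination -h1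
    rcases mul_eq_zero.mp h3 with h | h
    · rw [pow_two]
      exact sub_eq_zero.mp h
    · exact absurd h hqv
  have hprod : ∀ s : Multiset K, (∀ a ∈ s, a ^ 2 = 1) →
      (s.map (fun a => X - C a)).prod ∣ (X ^ 2 - 1 : K[X]) ^ (Multiset.card s) := by
    intro s
    induction s using Multiset.induction_on with
    | empty =>
      intro _
      simp
    | cons a s ih =>
      intro h
      rw [Multiset.map_cons, Multiset.prod_cons, Multiset.card_cons, pow_succ']
      apply mul_dvd_mul
      · refine ⟨X + C a, ?_⟩
        have ha : a ^ 2 = 1 := h a (Multiset.mem_cons_self a s)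
        have hC : (C a : K[X]) ^ 2 = 1 := by rw [← C_pow, ha, C_1]
        linear_combination hC
      · exact ih (fun b hb => h b (Multiset.mem_cons_of_mem hb))
  have hmp : minpoly K f = ((minpoly K f).roots.map (fun a => X - C a)).prod :=
    hsplit.eq_prod_roots_of_monic (minpoly.monic hint)
  have hdvd2 := hprod _ hroot
  rw [← hmp] at hdvd2
  obtain ⟨r, hr⟩ := hdvd2
  have hnil : IsNilpotent (f ^ 2 - 1) := by
    refine ⟨Multiset.card (minpoly K f).roots, ?_⟩
    have := congrArg (Polynomial.aeval f) hr
    simpa [minpoly.aeval] using this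
  have hg2 : ∀ x, q ((f ^ 2) x) = q x := by
    intro x
    rw [pow_two, Module.End.mul_apply, hfx, hfx, hg, hg]
  have h1 := Groth.Agent.Lib.AnisotropicUnipotent.eq_one_of_isNilpotent_sub_one h2 q hq (f ^ 2)
    hg2 hnil
  ext x
  have := congrArg (fun e : Module.End K V => e x) h1
  simp only [Module.End.one_apply, pow_two, Module.End.mul_apply] at this
  rw [hfx, hfx] at this
  simpa [pow_two] using this

end Groth.Agent.S15165
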