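import Groth.Statements.S15167
import Mathlib
import Groth.Agent.Lib.RootPow2_helper6
-- import your own Groth.Agent.* helpers here

set_option autoImplicit false
universe u v
open Polynomial
open BddFin

namespace Groth.Agent.S15167

/-- Let K be a field such that K contains all roots of unity (for every n ≥ 1 the polynomial X^n − 1
splits into linear factors over K), A a central simple K-algebra of dimension n ^ 2, and x an
invertible element of A some power x ^ m (m ≥ 1) of which lies in K. Then there are a positive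
integer r dividing n and elements a_i of K such that the minimal polynomial of x over K is the
product of the polynomials X ^ r − a_i. -/
theorem result
    (K : Type u) [Field K] (hK : ∀ n : ℕ, 0 < n → (X ^ n - 1 : K[X]).Splits)
    (A : Type v) [Ring A] [Algebra K A] [Algebra.IsCentral K A] [IsSimpleRing A] [FiniteDimensional K A]
    (n : ℕ) (hn : Module.finrank K A = n ^ 2)
    (x : A) (hx : IsUnit x) (hxm : ∃ m : ℕ, 0 < m ∧ x ^ m ∈ (algebraMap K A).range) :
    ∃ r : ℕ, 0 < r ∧ r ∣ n ∧ ∃ s : Multiset K, minpoly K x = (s.map fun a : K => X ^ r - C a).prod := by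

  classical
  obtain ⟨m, hm, c, hc⟩ := hxm
  have hApos : 0 < Module.finrank K A := Module.finrank_pos
  have hn0 : n ≠ 0 := by
    rintro rfl
    omega
  have hint : IsIntegral K x := IsIntegral.of_finite K x
  obtain ⟨f, hf⟩ : ∃ f, f = minpoly K x := ⟨_, rfl⟩
  rw [← hf]
  have hfm : f.Monic := hf ▸ minpoly.monic hint
  have hf0 : f ≠ 0 := hfm.ne_zero
  have hfx : aeval x f = 0 := hf ▸ minpoly.aeval K x
  have hc0 : c ≠ 0 := by
    rintro rfl
    rw [map_zero] at hc
    have h1 : IsUnit (x ^ m) := hx.pow m
    rw [← hc] at h1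
    exact not_isUnit_zero h1
  have hdvd : f ∣ X ^ m - C c := by
    rw [hf]
    apply minpoly.dvd
    simp only [map_sub, map_pow, aeval_X, aeval_C]
    rw [hc, sub_self]
  obtain ⟨F, hF⟩ : ∃ F : Multiset K[X], F = UniqueFactorizationMonoid.normalizedFactors f :=
    ⟨_, rfl⟩
  have hFprod : F.prod = f := by
    rw [hF, UniqueFactorizationMonoid.prod_normalizedFactors_eq hf0, hfm.normalize_eq_self]
  have hFirr : ∀ g ∈ F, Irreducible g ∧ g.Monic ∧ g ∣ f := by
    intro g hg
    rw [hF] at hg
    have hirr := UniqueFactorizationMonoid.irreducible_of_normalized_factor g hg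
    refine ⟨hirr, ?_, UniqueFactorizationMonoid.dvd_of_mem_normalizedFactors hg⟩
    exact (Polynomial.normalize_eq_self_iff_monic hirr.ne_zero).1
      (UniqueFactorizationMonoid.normalize_normalized_factor g hg)
  have hfnu : ¬ IsUnit f := hf ▸ minpoly.not_isUnit K x
  obtain ⟨g₀, hg₀⟩ : ∃ g₀, g₀ ∈ F := by
    apply Multiset.exists_mem_of_ne_zero
    rintro h0
    rw [h0, Multiset.prod_zero] at hFprod
    exact hfnu (hFprod ▸ isUnit_one)
  obtain ⟨r, hr⟩ : ∃ r, r = g₀.natDegree := ⟨_, rfl⟩
  obtain ⟨hg₀i, hg₀m, hg₀d⟩ := hFirr g₀ hg₀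
  have hr0 : 0 < r := hr ▸ hg₀i.natDegree_pos
  have hdeg : ∀ g : K[X], g.Monic → Irreducible g → g ∣ f → g.natDegree = r := by
    intro g hgm hgi hgd
    rw [hr]
    exact Groth.Agent.Lib.RootPow2.natDegree_eq_of_irreducible_factors K m hm (hK m hm) c hc0
      g g₀ hgi hgm (hgd.trans hdvd) hg₀i hg₀m (hg₀d.trans hdvd)
  -- r ∣ n
  have hrn : r ∣ n := by
    obtain ⟨T, hT⟩ : ∃ T : Module.End A A, T = LinearMap.toSpanSingleton A A x := ⟨_, rfl⟩
    have hTpow : ∀ (k : ℕ) (a : A), (T ^ k) a = a * x ^ k := by
      intro k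
      induction k with
      | zero => intro a; simp
      | succ k ih =>
        intro a
        rw [pow_succ, Module.End.mul_apply, hT, LinearMap.toSpanSingleton_apply, ← hT, ih,
          smul_eq_mul, pow_succ', mul_assoc]
    have hTaeval : ∀ (p : K[X]) (a : A), aeval T p a = a * aeval x p := by
      intro p
      induction p using Polynomial.induction_on' with
      | add p q hp hq =>
        intro a
        rw [map_add, map_add, LinearMap.add_apply, hp, hq, mul_add]
      | monomial k c' =>
        intro a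
        rw [aeval_monomial, aeval_monomial, Module.End.mul_apply, Module.algebraMap_end_apply,
          hTpow, Algebra.algebraMap_eq_smul_one, smul_mul_assoc, one_mul, mul_smul_comm]
    have hTf : aeval T f = 0 := by
      apply LinearMap.ext
      intro a
      rw [hTaeval, hfx, mul_zero, LinearMap.zero_apply]
    have h1 := Groth.Agent.Lib.RootPow2.dvd_finrank_of_factors (K := K) (B := A) n r hn
      (Module.finrank K A) A T f hTf hdeg rfl
    rw [hn, pow_two, mul_comm r n] at h1
    exact (Nat.mul_dvd_mul_iff_left (Nat.pos_of_ne_zero hn0)).1 h1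
  refine ⟨r, hr0, hrn, F.map (fun g => - g.coeff 0), ?_⟩
  rw [Multiset.map_map, ← hFprod]
  congr 1
  conv_lhs => rw [← Multiset.map_id F]
  apply Multiset.map_congr rfl
  intro g hg
  obtain ⟨hgi, hgm, hgd⟩ := hFirr g hg
  obtain ⟨a, ha⟩ := Groth.Agent.Lib.RootPow.irreducible_factor_eq K m hm (hK m hm) c hc0 g hgi hgm
    (hgd.trans hdvd)
  rw [hdeg g hgm hgi hgd] at ha
  have hcoeff : g.coeff 0 = - a := by
    rw [ha, coeff_sub, coeff_X_pow, coeff_C_zero, if_neg (by omega), zero_sub]
  simp only [id, Function.comp]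
  rw [hcoeff, neg_neg]
  exact ha

end Groth.Agent.S15167
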