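import Groth.Statements.S15168
import Mathlib
import Groth.Agent.Lib.RootPow_helper6
-- import your own Groth.Agent.* helpers here

set_option autoImplicit false
universe u v
open Polynomial
open BddFin

namespace Groth.Agent.S15168

/-- Let K be a field such that K contains all roots of unity (for every n ≥ 1 the polynomial X^n − 1
splits into linear factors over K), A a central division algebra of dimension n ^ 2 over K, and x an
element of A some power x ^ m (m ≥ 1) of which lies in K. Then x ^ n lies in K; that is, the order
of the class of x in the quotient of the unit group of A by that of K divides n. -/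
theorem result
    (K : Type u) [Field K] (hK : ∀ n : ℕ, 0 < n → (X ^ n - 1 : K[X]).Splits)
    (A : Type v) [DivisionRing A] [Algebra K A] [Algebra.IsCentral K A] [FiniteDimensional K A]
    (n : ℕ) (hn : Module.finrank K A = n ^ 2)
    (x : A) (hxm : ∃ m : ℕ, 0 < m ∧ x ^ m ∈ (algebraMap K A).range) :
    x ^ n ∈ (algebraMap K A).range := by

  classical
  obtain ⟨m, hm, c, hc⟩ := hxm
  have hn0 : n ≠ 0 := by
    rintro rfl
    have : 0 < Module.finrank K A := Module.finrank_pos
    omega
  by_cases hx0 : x = 0
  · subst hx0
    exact ⟨0, by rw [map_zero, zero_pow hn0]⟩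
  have hint : IsIntegral K x := IsIntegral.of_finite K x
  have hirr : Irreducible (minpoly K x) := minpoly.irreducible hint
  have hmonic : (minpoly K x).Monic := minpoly.monic hint
  have hc0 : c ≠ 0 := by
    rintro rfl
    rw [map_zero] at hc
    exact hx0 (pow_eq_zero_iff hm.ne' |>.1 hc.symm)
  have hdvd : minpoly K x ∣ X ^ m - C c := by
    apply minpoly.dvd
    simp only [map_sub, map_pow, aeval_X, aeval_C]
    rw [hc, sub_self]
  obtain ⟨a, ha⟩ := Groth.Agent.Lib.RootPow.irreducible_factor_eq K m hm (hK m hm) c hc0
    (minpoly K x) hirr hmonic hdvd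
  have hxr : x ^ (minpoly K x).natDegree = algebraMap K A a := by
    have h := minpoly.aeval K x
    rw [ha] at h
    simp only [map_sub, map_pow, aeval_X, aeval_C] at h
    exact sub_eq_zero.1 h
  obtain ⟨q, hq⟩ := Groth.Agent.Lib.RootPow.natDegree_minpoly_dvd K A n hn x
  refine ⟨a ^ q, ?_⟩
  rw [map_pow, ← hxr, ← pow_mul, ← hq]

end Groth.Agent.S15168
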