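import Groth.Statements.S15169
import Mathlib

set_option autoImplicit false
universe u v
open BddFin

namespace Groth.Agent.S15169

/-- Tower law for the (commutative) subfield generated by an element of a division algebra. -/
private lemma natDegree_minpoly_dvd (K : Type*) [Field K] (A : Type*) [DivisionRing A] [Algebra K A]
    [FiniteDimensional K A] (w : A) :
    (minpoly K w).natDegree ∣ Module.finrank K A ∧
      ((minpoly K w).natDegree = Module.finrank K A → ∀ a b : A, a * b = b * a) := by
  have hint : IsIntegral K w := IsIntegral.of_finite K w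
  set f := minpoly K w with hf
  have hfirr : Irreducible f := minpoly.irreducible hint
  have hfmonic : f.Monic := minpoly.monic hint
  have hfne : f ≠ 0 := hfmonic.ne_zero
  haveI : Fact (Irreducible f) := ⟨hfirr⟩
  let φ : AdjoinRoot f →ₐ[K] A := Ideal.Quotient.liftₐ (Ideal.span {f}) (Polynomial.aeval w) (by
    intro g hg
    obtain ⟨q, rfl⟩ := Ideal.mem_span_singleton.1 hg
    rw [map_mul, hf, minpoly.aeval, zero_mul])
  letI : Module (AdjoinRoot f) A := Module.compHom A (φ : AdjoinRoot f →+* A)
  have hsmul : ∀ (l : AdjoinRoot f) (a : A), l • a = φ l * a := fun l a => rfl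
  haveI : IsScalarTower K (AdjoinRoot f) A := ⟨fun k l a => by
    rw [hsmul, hsmul, map_smul, smul_mul_assoc]⟩
  have htower := Module.finrank_mul_finrank K (AdjoinRoot f) A
  have hfinL : Module.finrank K (AdjoinRoot f) = f.natDegree := by
    rw [(AdjoinRoot.powerBasis hfne).finrank, AdjoinRoot.powerBasis_dim hfne]
  rw [hfinL] at htower
  refine ⟨Dvd.intro _ htower, ?_⟩
  intro heq
  have hpos : 0 < Module.finrank K A := Module.finrank_pos
  have h1 : Module.finrank (AdjoinRoot f) A = 1 := by
    rw [heq] at htower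
    exact Nat.eq_of_mul_eq_mul_left hpos (by rw [htower, mul_one])
  have hsurj : ∀ a : A, ∃ l : AdjoinRoot f, φ l = a := by
    intro a
    obtain ⟨l, hl⟩ := (finrank_eq_one_iff_of_nonzero' (1 : A) one_ne_zero).1 h1 a
    exact ⟨l, by rw [← hl, hsmul, mul_one]⟩
  intro a b
  obtain ⟨l, rfl⟩ := hsurj a
  obtain ⟨m, rfl⟩ := hsurj b
  rw [← map_mul, ← map_mul, mul_comm]

/-- Left `ker D`-linear independence of the powers `u ^ j`, `j < p`, when `D` is a derivation with
`D u = 1`. -/
private lemma indep_pow (K : Type*) [Field K] (p : ℕ) [Fact p.Prime] [CharP K p]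
    (A : Type*) [Ring A] [Algebra K A] (D : Module.End K A) (u : A)
    (hDmul : ∀ x y, D (x * y) = D x * y + x * D y) (hDu : D u = 1) :
    (∀ n : ℕ, D (u ^ (n + 1)) = ((n + 1 : ℕ) : K) • u ^ n) ∧
    ∀ (m : ℕ), m ≤ p → ∀ (P : ℕ → A), (∀ j, D (P j) = 0) →
      ∑ j ∈ Finset.range m, P j * u ^ j = 0 → ∀ j < m, P j = 0 := by
  have hp : p.Prime := Fact.out
  have hDupow : ∀ n : ℕ, D (u ^ (n + 1)) = ((n + 1 : ℕ) : K) • u ^ n := by
    intro n
    induction n with
    | zero => simp [hDu]
    | succ n ih =>
      rw [pow_succ u (n + 1), hDmul, ih, hDu, mul_one, smul_mul_assoc, ← pow_succ]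
      rw [show ((n + 1 + 1 : ℕ) : K) = ((n + 1 : ℕ) : K) + 1 by push_cast; ring, add_smul, one_smul]
  refine ⟨hDupow, ?_⟩
  intro m
  induction m with
  | zero => intro _ P _ _ j hj; exact absurd hj (Nat.not_lt_zero j)
  | succ m ih =>
    intro hm P hP hsum j hj
    have hDsum : ∑ j ∈ Finset.range m, (((j + 1 : ℕ) : K) • P (j + 1)) * u ^ j = 0 := by
      have h0 := congrArg D hsum
      rw [map_zero, map_sum, Finset.sum_range_succ'] at h0
      have hlast : D (P 0 * u ^ 0) = 0 := by rw [pow_zero, mul_one, hP]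
      rw [hlast, add_zero] at h0
      refine (Finset.sum_congr rfl fun j _ => ?_).trans h0
      rw [hDmul, hP, zero_mul, zero_add, hDupow, mul_smul_comm, smul_mul_assoc]
    have hP' : ∀ j, D (((j + 1 : ℕ) : K) • P (j + 1)) = 0 := by
      intro j; rw [map_smul, hP, smul_zero]
    have hz := ih (Nat.le_of_succ_le hm) (fun j => ((j + 1 : ℕ) : K) • P (j + 1)) hP' hDsum
    have hPs : ∀ j, j < m → P (j + 1) = 0 := by
      intro j hj
      have := hz j hj
      rcases smul_eq_zero.1 this with h | h
      · exfalso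
        rw [CharP.cast_eq_zero_iff K p] at h
        have := Nat.le_of_dvd (Nat.succ_pos j) h
        omega
      · exact h
    have hP0 : P 0 = 0 := by
      rw [Finset.sum_range_succ'] at hsum
      rw [Finset.sum_eq_zero (fun j hj => by rw [hPs j (Finset.mem_range.1 hj), zero_mul]),
        zero_add, pow_zero, mul_one] at hsum
      exact hsum
    cases j with
    | zero => exact hP0
    | succ j => exact hPs j (by omega)

/-- (1) ⇒ (2): let K be a field with char K = p > 0 and A a central division K-algebra with dim_K A = p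
^ 2. If some element of A is not separable over K, then there are v, u in A with v ^ p and u ^ p in
K and v * u - u * v = 1 which generate A as a K-algebra. -/
theorem result
    (K : Type u) [Field K] (p : ℕ) [Fact p.Prime] [CharP K p]
    (A : Type v) [DivisionRing A] [Algebra K A] [Algebra.IsCentral K A] [FiniteDimensional K A]
    (hA : Module.finrank K A = p ^ 2) (h : ∃ v : A, ¬ IsSeparable K v) :
    ∃ v u : A, v ^ p ∈ (algebraMap K A).range ∧ u ^ p ∈ (algebraMap K A).range ∧ v * u - u * v = 1 ∧
      Algebra.adjoin K {v, u} = ⊤ := by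
  classical
  have hp : p.Prime := Fact.out
  obtain ⟨w, hw⟩ := h
  have hwK : w ∉ (algebraMap K A).range := by
    rintro ⟨k, rfl⟩
    exact hw (isSeparable_algebraMap k)
  have hcentral : ∀ x : A, (∀ b : A, b * x = x * b) → x ∈ (algebraMap K A).range := by
    intro x hx
    have hcent : x ∈ Subalgebra.center K A := Subalgebra.mem_center_iff.2 hx
    have := Algebra.IsCentral.out hcent
    rw [Algebra.mem_bot] at this
    obtain ⟨k, hk⟩ := this
    exact ⟨k, hk⟩
  have hint : IsIntegral K w := IsIntegral.of_finite K w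
  obtain ⟨hdvd, hcommA⟩ := natDegree_minpoly_dvd K A w
  have hfirr : Irreducible (minpoly K w) := minpoly.irreducible hint
  have hfne : minpoly K w ≠ 0 := (minpoly.monic hint).ne_zero
  rw [hA] at hdvd hcommA
  obtain ⟨k, hk2, hk⟩ := (Nat.dvd_prime_pow hp).1 hdvd
  have hdeg : (minpoly K w).natDegree = p := by
    interval_cases k
    · exfalso; apply hwK; rw [← minpoly.natDegree_eq_one_iff]; simpa using hk
    · simpa using hk
    · exfalso
      apply hwK
      exact hcentral w (fun b => hcommA hk b w)
  have hnsep : ¬ (minpoly K w).Separable := hw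
  obtain ⟨a, ha⟩ : ∃ a : K, algebraMap K A a = w ^ p := by
    rcases Polynomial.separable_or p hfirr with hs | ⟨_, g, hg, hgf⟩
    · exact absurd hs hnsep
    · have hgdeg : g.natDegree = 1 := by
        have := congrArg Polynomial.natDegree hgf
        rw [Polynomial.natDegree_expand, hdeg] at this
        exact Nat.eq_of_mul_eq_mul_right hp.pos (by rw [this, one_mul])
      obtain ⟨b, c, hbc⟩ := Polynomial.exists_eq_X_add_C_of_natDegree_le_one hgdeg.le
      have hb : b ≠ 0 := by
        rintro rfl
        rw [hbc] at hgdeg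
        simp at hgdeg
      have h0 : Polynomial.aeval w (minpoly K w) = 0 := minpoly.aeval K w
      rw [← hgf, hbc] at h0
      simp only [map_add, map_mul, Polynomial.expand_C, Polynomial.expand_X, Polynomial.aeval_C,
        Polynomial.aeval_X, map_pow] at h0
      have h1 : algebraMap K A b * w ^ p = algebraMap K A (-c) := by
        rw [map_neg]; exact eq_neg_of_add_eq_zero_left h0
      refine ⟨b⁻¹ * (-c), ?_⟩
      calc algebraMap K A (b⁻¹ * (-c)) = algebraMap K A b⁻¹ * algebraMap K A (-c) := map_mul _ _ _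
        _ = algebraMap K A b⁻¹ * (algebraMap K A b * w ^ p) := by rw [h1]
        _ = w ^ p := by rw [← mul_assoc, ← map_mul, inv_mul_cancel₀ hb, map_one, one_mul]
  -- the inner derivation `ad w`
  obtain ⟨D, hD, hDp⟩ : ∃ D : Module.End K A, (∀ x, D x = w * x - x * w) ∧ D ^ p = 0 := by
    let Lm : Module.End K A := LinearMap.mulLeft K w
    let Rm : Module.End K A := LinearMap.mulRight K w
    refine ⟨Lm - Rm, fun x => rfl, ?_⟩
    haveI : CharP (Module.End K A) p :=
      Module.charP_end ⟨1, (Ideal.torsionOf_eq_bot_iff_of_noZeroSMulDivisors K (1 : A)).2 one_ne_zero⟩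
    have hcomm : Commute Lm Rm := by
      show Lm * Rm = Rm * Lm
      ext x
      show w * (x * w) = (w * x) * w
      rw [mul_assoc]
    have h1 : ∀ n : ℕ, ∀ x, (Lm ^ n) x = w ^ n * x := by
      intro n
      induction n with
      | zero => intro x; simp
      | succ n ih =>
        intro x
        rw [pow_succ, Module.End.mul_apply, ih]
        show w ^ n * (w * x) = w ^ (n + 1) * x
        rw [pow_succ, mul_assoc]
    have h2 : ∀ n : ℕ, ∀ x, (Rm ^ n) x = x * w ^ n := by
      intro n
      induction n with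
      | zero => intro x; simp
      | succ n ih =>
        intro x
        rw [pow_succ, Module.End.mul_apply, ih]
        show (x * w) * w ^ n = x * w ^ (n + 1)
        rw [pow_succ', mul_assoc]
    rw [sub_pow_char_of_commute p hcomm, sub_eq_zero]
    ext x
    rw [h1, h2, ← ha, Algebra.commutes]
  have hDmul : ∀ x y, D (x * y) = D x * y + x * D y := by
    intro x y; simp only [hD]; noncomm_ring
  obtain ⟨x0, hx0⟩ : ∃ x, D x ≠ 0 := by
    by_contra hall
    push Not at hall
    apply hwK
    apply hcentral
    intro b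
    have := hall b
    rw [hD, sub_eq_zero] at this
    exact this.symm
  have hchain : ∀ (k : ℕ) (x : A), D x ≠ 0 → (D ^ k) x = 0 → ∃ y : A, D y ≠ 0 ∧ D (D y) = 0 := by
    intro k
    induction k with
    | zero =>
      intro x hx h0
      exfalso
      apply hx
      have : x = 0 := by simpa using h0
      rw [this, map_zero]
    | succ k ih =>
      intro x hx h0
      by_cases h1 : D (D x) = 0
      · exact ⟨x, hx, h1⟩
      · refine ih (D x) h1 ?_
        rw [pow_succ, Module.End.mul_apply] at h0
        exact h0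
  obtain ⟨y, hy1, hy2⟩ := hchain p x0 hx0 (by rw [hDp]; rfl)
  obtain ⟨z, hz⟩ : ∃ z, z = D y := ⟨_, rfl⟩
  rw [← hz] at hy1 hy2
  have hzw : w * z = z * w := by
    have := hy2; rw [hD, sub_eq_zero] at this; exact this
  have hwz' : w * z⁻¹ = z⁻¹ * w := by
    have hc : Commute w z := hzw
    exact hc.inv_right₀
  obtain ⟨u, hu⟩ : ∃ u, u = z⁻¹ * y := ⟨_, rfl⟩
  have hvu : w * u - u * w = 1 := by
    have e1 : w * (z⁻¹ * y) = z⁻¹ * (w * y) := by
      calc w * (z⁻¹ * y) = (w * z⁻¹) * y := (mul_assoc _ _ _).symm
        _ = (z⁻¹ * w) * y := by rw [hwz']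
        _ = z⁻¹ * (w * y) := mul_assoc _ _ _
    have e2 : z⁻¹ * y * w = z⁻¹ * (y * w) := mul_assoc _ _ _
    rw [hu, e1, e2, ← mul_sub, ← hD, ← hz]
    exact inv_mul_cancel₀ hy1
  have hDu : D u = 1 := by rw [hD]; exact hvu
  obtain ⟨hDupow, hindep⟩ := indep_pow K p A D u hDmul hDu
  have hDup : D (u ^ p) = 0 := by
    obtain ⟨m, hm⟩ : ∃ m, p = m + 1 := ⟨p - 1, (Nat.succ_pred_eq_of_pos hp.pos).symm⟩
    have := hDupow m
    rw [← hm, CharP.cast_eq_zero K p, zero_smul] at this
    exact this
  have hli0 := linearIndependent_pow (K := K) w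
  rw [hdeg] at hli0
  have hvpow_indep : ∀ c : Fin p → K, ∑ i : Fin p, c i • w ^ (i : ℕ) = 0 → ∀ i, c i = 0 :=
    fun c hc => Fintype.linearIndependent_iff.1 hli0 c hc
  have hli : LinearIndependent K (fun ij : Fin p × Fin p => w ^ (ij.1 : ℕ) * u ^ (ij.2 : ℕ)) := by
    rw [Fintype.linearIndependent_iff]
    intro c hc
    rw [Fintype.sum_prod_type_right] at hc
    let P : ℕ → A := fun j => if h : j < p then ∑ i : Fin p, c (i, ⟨j, h⟩) • w ^ (i : ℕ) else 0
    have hPval : ∀ j : Fin p, P (j : ℕ) = ∑ i : Fin p, c (i, j) • w ^ (i : ℕ) := by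
      intro j
      simp only [P, dif_pos j.2, Fin.eta]
    have hsum' : ∑ j ∈ Finset.range p, P j * u ^ j = 0 := by
      rw [Finset.sum_range, ← hc]
      refine Finset.sum_congr rfl fun j _ => ?_
      rw [hPval, Finset.sum_mul]
      refine Finset.sum_congr rfl fun i _ => ?_
      rw [smul_mul_assoc]
    have hDP : ∀ j, D (P j) = 0 := by
      intro j
      simp only [P]
      split_ifs with h
      · rw [map_sum]
        refine Finset.sum_eq_zero fun i _ => ?_
        rw [map_smul, hD, ← pow_succ', ← pow_succ, sub_self, smul_zero]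
      · exact map_zero D
    rintro ⟨i, j⟩
    have hPj := hindep p le_rfl P hDP hsum' j j.2
    rw [hPval] at hPj
    exact hvpow_indep (fun i => c (i, j)) hPj i
  have hgen : Algebra.adjoin K {w, u} = ⊤ := by
    have hspan := hli.span_eq_top_of_card_eq_finrank'
      (by rw [Fintype.card_prod, Fintype.card_fin, hA, sq])
    rw [← Algebra.toSubmodule_eq_top, eq_top_iff, ← hspan, Submodule.span_le]
    rintro _ ⟨⟨i, j⟩, rfl⟩
    exact Subalgebra.mul_mem _
      (Subalgebra.pow_mem _ (Algebra.subset_adjoin (by simp)) _)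
      (Subalgebra.pow_mem _ (Algebra.subset_adjoin (by simp)) _)
  have hup : u ^ p ∈ (algebraMap K A).range := by
    apply hcentral
    have hle : Algebra.adjoin K {w, u} ≤ Subalgebra.centralizer K {u ^ p} := by
      apply Algebra.adjoin_le
      intro x hx
      rw [SetLike.mem_coe, Subalgebra.mem_centralizer_iff]
      intro g hg
      rw [Set.mem_singleton_iff] at hg
      subst hg
      rcases hx with rfl | rfl
      · have := hDup; rw [hD, sub_eq_zero] at this; exact this.symm
      · rw [← pow_succ, ← pow_succ']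
    intro b
    have hb : b ∈ Subalgebra.centralizer K {u ^ p} := hle (hgen ▸ Algebra.mem_top)
    rw [Subalgebra.mem_centralizer_iff] at hb
    exact (hb _ rfl).symm
  exact ⟨w, u, ⟨a, ha⟩, hup, hvu, hgen⟩

end Groth.Agent.S15169
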