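import Groth.Statements.S1517
import Mathlib

set_option autoImplicit false
universe u
open Brauer

namespace Groth.Agent.S1517

/-- Let A be a ring with no nontrivial two-sided ideals and M a nonzero right ideal, viewed as a right
A-module with endomorphism ring A'. Then every A'-linear endomorphism of M is right multiplication
by exactly one element of A; that is, the natural map from A to the bicommutant of M is a bijection. -/
theorem result (A : Type u) [Ring A] [IsSimpleRing A]
    (M : Submodule Aᵐᵒᵖ A) (hM : M ≠ ⊥)
    (g : Module.End (Module.End Aᵐᵒᵖ M) M) :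
    ∃! a : A, ∀ m : M, (g m : A) = (m : A) * a := by
  classical
  have hmul : ∀ (m : A) (x : A), m ∈ M → m * x ∈ M := by
    intro m x hm
    have := M.smul_mem (MulOpposite.op x) hm
    simpa using this
  let Lu : ∀ u : M, Module.End Aᵐᵒᵖ M := fun u =>
    { toFun := fun m => ⟨(u : A) * (m : A), hmul u m u.2⟩
      map_add' := fun m m' => Subtype.ext (by simp [mul_add])
      map_smul' := fun a m => Subtype.ext (by
        simp only [RingHom.id_apply, Submodule.coe_smul, MulOpposite.smul_eq_mul_unop, mul_assoc]) }
  have hLu : ∀ (u m : M), ((g ⟨(u : A) * (m : A), hmul u m u.2⟩ : M) : A) =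
      (u : A) * ((g m : M) : A) := by
    intro u m
    have := g.map_smul (Lu u) m
    have h1 : (Lu u) • m = ⟨(u : A) * (m : A), hmul u m u.2⟩ := rfl
    have h2 : (Lu u) • (g m) = ⟨(u : A) * ((g m : M) : A), hmul u _ u.2⟩ := rfl
    rw [h1, h2] at this
    exact congrArg Subtype.val this
  have key : ∀ x ∈ Submodule.span A (M : Set A), ∃ b : A, ∀ m : M,
      ((g ⟨(m : A) * x, hmul m x m.2⟩ : M) : A) = (m : A) * b := by
    intro x hx
    induction hx using Submodule.span_induction with
    | mem y hy =>
      exact ⟨((g ⟨y, hy⟩ : M) : A), fun m => hLu m ⟨y, hy⟩⟩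
    | zero =>
      refine ⟨0, fun m => ?_⟩
      have : (⟨(m : A) * 0, hmul m 0 m.2⟩ : M) = 0 := Subtype.ext (mul_zero _)
      rw [this, map_zero, mul_zero]; rfl
    | add x y _ _ ihx ihy =>
      obtain ⟨b, hb⟩ := ihx
      obtain ⟨c, hc⟩ := ihy
      refine ⟨b + c, fun m => ?_⟩
      have : (⟨(m : A) * (x + y), hmul m (x + y) m.2⟩ : M) =
          ⟨(m : A) * x, hmul m x m.2⟩ + ⟨(m : A) * y, hmul m y m.2⟩ := Subtype.ext (mul_add _ _ _)
      rw [this, map_add, Submodule.coe_add, hb, hc, mul_add]
    | smul a x _ ih =>
      obtain ⟨b, hb⟩ := ih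
      refine ⟨a * b, fun m => ?_⟩
      have h1 := hb ⟨(m : A) * a, hmul m a m.2⟩
      have : (⟨(m : A) * (a • x), hmul m (a • x) m.2⟩ : M) =
          ⟨(m : A) * a * x, hmul _ x (hmul m a m.2)⟩ := Subtype.ext (by
        simp only [smul_eq_mul, mul_assoc])
      rw [this, h1, mul_assoc]
  -- the left ideal generated by `M` is two-sided, hence everything
  have htop : (1 : A) ∈ Submodule.span A (M : Set A) := by
    haveI : Ideal.IsTwoSided (Submodule.span A (M : Set A) : Ideal A) := ⟨by
      intro a b ha
      induction ha using Submodule.span_induction with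
      | mem y hy => exact Submodule.subset_span (hmul y b hy)
      | zero => rw [zero_mul]; exact Submodule.zero_mem _
      | add x y _ _ ihx ihy => rw [add_mul]; exact Submodule.add_mem _ ihx ihy
      | smul c x _ ih =>
        rw [smul_eq_mul, mul_assoc]
        exact Submodule.smul_mem _ c ih⟩
    have hne : Ideal.toTwoSided (Submodule.span A (M : Set A) : Ideal A) ≠ ⊥ := by
      intro h
      apply hM
      rw [eq_bot_iff]
      intro y hy
      have : y ∈ Ideal.toTwoSided (Submodule.span A (M : Set A) : Ideal A) :=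
        Ideal.mem_toTwoSided.2 (Submodule.subset_span hy)
      rw [h] at this
      rw [Submodule.mem_bot]
      exact (TwoSidedIdeal.mem_bot A).1 this
    have := (eq_bot_or_eq_top (Ideal.toTwoSided (Submodule.span A (M : Set A) : Ideal A))).resolve_left hne
    have h1 : (1 : A) ∈ Ideal.toTwoSided (Submodule.span A (M : Set A) : Ideal A) := by
      rw [this]; trivial
    exact Ideal.mem_toTwoSided.1 h1
  obtain ⟨b, hb⟩ := key 1 htop
  refine ⟨b, fun m => ?_, ?_⟩
  · have := hb m
    have h1 : (⟨(m : A) * 1, hmul m 1 m.2⟩ : M) = m := Subtype.ext (mul_one _)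
    rw [h1] at this
    exact this
  · intro b' hb'
    -- M (b' - b) = 0 → b' = b
    have hz : ∀ x ∈ Submodule.span A (M : Set A), x * b' = x * b := by
      intro x hx
      induction hx using Submodule.span_induction with
      | mem y hy =>
        have e1 := hb' ⟨y, hy⟩
        have e2 := hb ⟨y, hy⟩
        have h1 : (⟨(y : A) * 1, hmul y 1 hy⟩ : M) = ⟨y, hy⟩ := Subtype.ext (mul_one _)
        rw [h1] at e2
        rw [← e1, ← e2]
      | zero => rw [zero_mul, zero_mul]
      | add x y _ _ ihx ihy => rw [add_mul, add_mul, ihx, ihy]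
      | smul c x _ ih => rw [smul_eq_mul, mul_assoc, mul_assoc, ih]
    have := hz 1 htop
    rwa [one_mul, one_mul] at this

end Groth.Agent.S1517
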