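import Groth.Statements.S15170
import Mathlib

set_option autoImplicit false
universe u v
open BddFin

namespace Groth.Agent.S15170

open Polynomial in
private lemma descPochhammer_char (K : Type*) [Field K] (p : ℕ) [Fact p.Prime] [CharP K p] :
    descPochhammer K p = X ^ p - X := by
  have hp : p.Prime := Fact.out
  classical
  have hinj : Set.InjOn ((↑) : ℕ → K) (Finset.range p : Set ℕ) := by
    intro a ha b hb hab
    exact CharP.natCast_injOn_Iio K p (by simpa using ha) (by simpa using hb) hab
  have hcard : ((Finset.range p).image ((↑) : ℕ → K)).card = p := by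
    rw [Finset.card_image_of_injOn hinj, Finset.card_range]
  have hm1 : (descPochhammer K p).Monic := monic_descPochhammer K p
  have hm2 : (X ^ p - X : K[X]).Monic :=
    monic_X_pow_sub (by rw [degree_X]; exact_mod_cast hp.one_lt)
  have hd1 : (descPochhammer K p).natDegree = p := descPochhammer_natDegree K p
  have hd2 : (X ^ p - X : K[X]).natDegree = p :=
    FiniteField.X_pow_card_sub_X_natDegree_eq K hp.one_lt
  refine Polynomial.eq_of_degree_le_of_eval_finset_eq
    ((Finset.range p).image ((↑) : ℕ → K)) ?_ ?_ ?_ ?_
  · rw [hcard, degree_eq_natDegree hm1.ne_zero, hd1]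
  · rw [degree_eq_natDegree hm1.ne_zero, degree_eq_natDegree hm2.ne_zero, hd1, hd2]
  · rw [hm1.leadingCoeff, hm2.leadingCoeff]
  · intro x hx
    obtain ⟨n, hn, rfl⟩ := Finset.mem_image.1 hx
    rw [descPochhammer_eval_eq_descFactorial,
      Nat.descFactorial_eq_zero_iff_lt.2 (Finset.mem_range.1 hn)]
    simp only [eval_sub, eval_pow, eval_X, Nat.cast_zero]
    have := map_natCast (frobenius K p) n
    rw [frobenius_def] at this
    rw [this, sub_self]

/-- (2) ⇒ (3): let K be a field with char K = p > 0 and A a central division K-algebra with dim_K A = p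
^ 2. If v, u in A satisfy v ^ p ∈ K, u ^ p ∈ K and v * u - u * v = 1, then some Galois extension L
of K with [L : K] = p admits a K-algebra embedding into A (so A has a Galois subfield of degree p
over K). -/
theorem result
    (K : Type u) [Field K] (p : ℕ) [Fact p.Prime] [CharP K p]
    (A : Type v) [DivisionRing A] [Algebra K A] [Algebra.IsCentral K A] [FiniteDimensional K A]
    (hA : Module.finrank K A = p ^ 2) (v u : A) (hv : v ^ p ∈ (algebraMap K A).range)
    (hu : u ^ p ∈ (algebraMap K A).range) (hvu : v * u - u * v = 1) :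
    ∃ (L : Type v) (_ : Field L) (_ : Algebra K L), IsGalois K L ∧ Module.finrank K L = p ∧
      Nonempty (L →ₐ[K] A) := by
  classical
  have hp : p.Prime := Fact.out
  obtain ⟨a, ha⟩ := hv
  obtain ⟨b, hb⟩ := hu
  have hvu' : v * u = u * v + 1 := by rw [← hvu]; abel
  have hv0 : v ≠ 0 := by
    rintro rfl
    simp at hvu'
  set θ : A := u * v with hθ
  have h1 : v * θ = (θ + 1) * v := by
    rw [hθ, ← mul_assoc, hvu']
  have h2 : θ * v = v * (θ - 1) := by
    rw [mul_sub, h1, add_mul, one_mul, mul_one, add_sub_cancel_right]
  have hpow : ∀ n : ℕ, θ ^ n * v = v * (θ - 1) ^ n := by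
    intro n
    induction n with
    | zero => simp
    | succ n ih => rw [pow_succ, mul_assoc, h2, ← mul_assoc, ih, mul_assoc, ← pow_succ]
  have hcomm : ∀ g : Polynomial K, Polynomial.aeval θ g * v = v * Polynomial.aeval (θ - 1) g := by
    intro g
    induction g using Polynomial.induction_on' with
    | add f g hf hg => rw [map_add, map_add, add_mul, mul_add, hf, hg]
    | monomial n c =>
      rw [Polynomial.aeval_monomial, Polynomial.aeval_monomial]
      calc algebraMap K A c * θ ^ n * v = algebraMap K A c * (θ ^ n * v) := mul_assoc _ _ _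
        _ = algebraMap K A c * (v * (θ - 1) ^ n) := by rw [hpow]
        _ = (algebraMap K A c * v) * (θ - 1) ^ n := (mul_assoc _ _ _).symm
        _ = (v * algebraMap K A c) * (θ - 1) ^ n := by rw [Algebra.commutes]
        _ = v * (algebraMap K A c * (θ - 1) ^ n) := mul_assoc _ _ _
  have hk : ∀ k : ℕ, u ^ k * v ^ k = Polynomial.aeval θ (descPochhammer K k) := by
    intro k
    induction k with
    | zero => simp
    | succ k ih =>
      rw [descPochhammer_succ_left, map_mul, Polynomial.aeval_X, Polynomial.aeval_comp, map_sub,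
        Polynomial.aeval_X, map_one]
      calc u ^ (k + 1) * v ^ (k + 1) = u * ((u ^ k * v ^ k) * v) := by
            rw [pow_succ' u, pow_succ v]; simp only [mul_assoc]
        _ = u * (v * Polynomial.aeval (θ - 1) (descPochhammer K k)) := by rw [ih, hcomm]
        _ = θ * Polynomial.aeval (θ - 1) (descPochhammer K k) := by rw [← mul_assoc]
  set c : K := b * a with hc
  have hθp : θ ^ p - θ = algebraMap K A c := by
    have := hk p
    rw [descPochhammer_char K p, map_sub, map_pow, Polynomial.aeval_X] at this
    rw [← this, hc, map_mul, ha, hb]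
  have hint : IsIntegral K θ := IsIntegral.of_finite K θ
  set f := minpoly K θ with hf
  have hfirr : Irreducible f := minpoly.irreducible hint
  have hfmonic : f.Monic := minpoly.monic hint
  have hfne : f ≠ 0 := hfmonic.ne_zero
  have hdvd1 : f ∣ Polynomial.X ^ p - Polynomial.X - Polynomial.C c := by
    apply minpoly.dvd
    rw [map_sub, map_sub, map_pow, Polynomial.aeval_X, Polynomial.aeval_C, hθp, sub_self]
  have hdvd2 : f ∣ f.comp (Polynomial.X + 1) := by
    apply minpoly.dvd
    have h := hcomm (f.comp (Polynomial.X + 1))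
    have h3 : Polynomial.aeval (θ - 1) (f.comp (Polynomial.X + 1)) = 0 := by
      rw [Polynomial.aeval_comp, map_add, Polynomial.aeval_X, map_one, sub_add_cancel]
      exact minpoly.aeval K θ
    rw [h3, mul_zero] at h
    exact (mul_eq_zero.1 h).resolve_right hv0
  haveI : Fact (Irreducible f) := ⟨hfirr⟩
  set r : AdjoinRoot f := AdjoinRoot.root f with hr
  haveI : CharP (AdjoinRoot f) p :=
    charP_of_injective_algebraMap (algebraMap K (AdjoinRoot f)).injective p
  have hfr : Polynomial.aeval r f = 0 := by rw [AdjoinRoot.aeval_eq, AdjoinRoot.mk_self]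
  have hshift : ∀ x : AdjoinRoot f, Polynomial.aeval x f = 0 → Polynomial.aeval (x + 1) f = 0 := by
    intro x hx
    obtain ⟨g, hg⟩ := hdvd2
    have : Polynomial.aeval x (f.comp (Polynomial.X + 1)) = 0 := by rw [hg, map_mul, hx, zero_mul]
    rwa [Polynomial.aeval_comp, map_add, Polynomial.aeval_X, map_one] at this
  have hrn : ∀ n : ℕ, Polynomial.aeval (r + n) f = 0 := by
    intro n
    induction n with
    | zero => simpa using hfr
    | succ n ih =>
      have := hshift _ ih
      rwa [add_assoc, ← Nat.cast_succ] at this
  have hinj : Set.InjOn (fun n : ℕ => r + (n : AdjoinRoot f)) (Finset.range p : Set ℕ) := by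
    intro x hx y hy hxy
    exact CharP.natCast_injOn_Iio (AdjoinRoot f) p (by simpa using hx) (by simpa using hy)
      (add_left_cancel hxy)
  have hsub : (Finset.range p).image (fun n : ℕ => r + (n : AdjoinRoot f)) ⊆
      (f.map (algebraMap K (AdjoinRoot f))).roots.toFinset := by
    intro x hx
    obtain ⟨n, hn, rfl⟩ := Finset.mem_image.1 hx
    rw [Multiset.mem_toFinset, Polynomial.mem_roots (Polynomial.map_ne_zero hfne),
      Polynomial.IsRoot.def, Polynomial.eval_map_algebraMap]
    exact hrn n
  have hcard_ge : p ≤ (f.map (algebraMap K (AdjoinRoot f))).roots.card := by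
    calc p = ((Finset.range p).image (fun n : ℕ => r + (n : AdjoinRoot f))).card := by
          rw [Finset.card_image_of_injOn hinj, Finset.card_range]
      _ ≤ (f.map (algebraMap K (AdjoinRoot f))).roots.toFinset.card := Finset.card_le_card hsub
      _ ≤ (f.map (algebraMap K (AdjoinRoot f))).roots.card := Multiset.toFinset_card_le _
  have hcard_le : (f.map (algebraMap K (AdjoinRoot f))).roots.card ≤ f.natDegree := by
    calc (f.map (algebraMap K (AdjoinRoot f))).roots.card
        ≤ (f.map (algebraMap K (AdjoinRoot f))).natDegree := Polynomial.card_roots' _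
      _ = f.natDegree := Polynomial.natDegree_map _
  have hgeq : (Polynomial.X ^ p - Polynomial.X - Polynomial.C c : Polynomial K) =
      Polynomial.X ^ p - (Polynomial.X + Polynomial.C c) := by ring
  have hg_monic : (Polynomial.X ^ p - Polynomial.X - Polynomial.C c : Polynomial K).Monic := by
    rw [hgeq]
    apply Polynomial.monic_X_pow_sub
    calc (Polynomial.X + Polynomial.C c : Polynomial K).degree = 1 := Polynomial.degree_X_add_C c
      _ < p := by exact_mod_cast hp.one_lt
  have hg_deg : (Polynomial.X ^ p - Polynomial.X - Polynomial.C c : Polynomial K).natDegree = p := by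
    rw [hgeq, Polynomial.natDegree_sub_eq_left_of_natDegree_lt, Polynomial.natDegree_X_pow]
    rw [Polynomial.natDegree_X_add_C, Polynomial.natDegree_X_pow]
    exact hp.one_lt
  have hfeq : Polynomial.X ^ p - Polynomial.X - Polynomial.C c = f :=
    Polynomial.eq_of_monic_of_dvd_of_natDegree_le hfmonic hg_monic hdvd1
      (by rw [hg_deg]; exact hcard_ge.trans hcard_le)
  have hfdeg : f.natDegree = p := by rw [← hfeq, hg_deg]
  have hsep : f.Separable := by
    rw [← hfeq, Polynomial.separable_def]
    have hder : Polynomial.derivative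
        (Polynomial.X ^ p - Polynomial.X - Polynomial.C c : Polynomial K) = -1 := by
      simp [Polynomial.derivative_X_pow]
    rw [hder]
    exact isCoprime_one_right.neg_right
  haveI : Polynomial.IsSplittingField K (AdjoinRoot f) f := by
    refine ⟨?_, ?_⟩
    · rw [Polynomial.splits_iff_card_roots]
      refine le_antisymm ?_ ?_
      · exact Polynomial.card_roots' _
      · rw [Polynomial.natDegree_map, hfdeg]; exact hcard_ge
    · rw [eq_top_iff, ← AdjoinRoot.adjoinRoot_eq_top]
      apply Algebra.adjoin_mono
      rw [Set.singleton_subset_iff, Polynomial.mem_rootSet]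
      exact ⟨hfne, hfr⟩
  haveI : IsGalois K (AdjoinRoot f) := IsGalois.of_separable_splitting_field (p := f) hsep
  have hfin : Module.finrank K (AdjoinRoot f) = p := by
    rw [(AdjoinRoot.powerBasis hfne).finrank, AdjoinRoot.powerBasis_dim hfne, hfdeg]
  let φ : AdjoinRoot f →ₐ[K] A := Ideal.Quotient.liftₐ (Ideal.span {f}) (Polynomial.aeval θ) (by
    intro g hg
    obtain ⟨q, rfl⟩ := Ideal.mem_span_singleton.1 hg
    rw [map_mul, hf, minpoly.aeval, zero_mul])
  have hφinj : Function.Injective φ := (φ : AdjoinRoot f →+* A).injective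
  haveI : Small.{v} (AdjoinRoot f) := small_of_injective hφinj
  let e : Shrink.{v} (AdjoinRoot f) ≃ₐ[K] AdjoinRoot f := Shrink.algEquiv K (AdjoinRoot f)
  refine ⟨Shrink.{v} (AdjoinRoot f), inferInstance, inferInstance, IsGalois.of_algEquiv e.symm, ?_,
    ⟨φ.comp e.toAlgHom⟩⟩
  rw [← hfin]
  exact e.toLinearEquiv.finrank_eq

end Groth.Agent.S15170
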