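import Groth.Statements.S15171
import Mathlib

set_option autoImplicit false
universe u v w
open BddFin

namespace Groth.Agent.S15171

open Polynomial in
private lemma exists_eigen {K : Type*} {V : Type*} [Field K] [AddCommGroup V] [Module K V]
    (D : Module.End K V) : ∀ (l : List K) (y : V), y ≠ 0 →
    Polynomial.aeval D ((l.map (fun c => (X - C c : K[X]))).prod) y = 0 →
      ∃ c ∈ l, ∃ u : V, u ≠ 0 ∧ D u = c • u := by
  intro l
  induction l with
  | nil =>
    intro y hy h
    simp at h
    exact absurd h hy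
  | cons a l ih =>
    intro y hy h
    rw [List.map_cons, List.prod_cons, map_mul, Module.End.mul_apply] at h
    by_cases h0 : Polynomial.aeval D ((l.map (fun c => (X - C c : K[X]))).prod) y = 0
    · obtain ⟨b, hb, u, hu, hDu⟩ := ih y hy h0
      exact ⟨b, List.mem_cons_of_mem _ hb, u, hu, hDu⟩
    · refine ⟨a, List.mem_cons_self, _, h0, ?_⟩
      simpa [sub_eq_zero] using h

open Polynomial in
/-- In characteristic `p`: `X * ∏_{a ≠ 0 in F_p} (X - a) = X ^ p - X` over `K`. -/
private lemma prod_nonzero_zmod (K : Type*) [Field K] (p : ℕ) [Fact p.Prime] [CharP K p] :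
    (X : K[X]) * ((((Finset.univ : Finset (ZMod p)).erase 0).toList.map
      (fun a => (ZMod.castHom (dvd_refl p) K) a)).map (fun c => (X - C c : K[X]))).prod = X ^ p - X := by
  have hp : p.Prime := Fact.out
  have hroots : (X ^ p - X : (ZMod p)[X]).roots = Finset.univ.val := by
    have := FiniteField.roots_X_pow_card_sub_X (ZMod p)
    rwa [ZMod.card] at this
  have hmonic : (X ^ p - X : (ZMod p)[X]).Monic :=
    monic_X_pow_sub (by rw [degree_X]; exact_mod_cast hp.one_lt)
  have hprod := Polynomial.prod_multiset_X_sub_C_of_monic_of_roots_card_eq hmonic (by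
    rw [hroots, FiniteField.X_pow_card_sub_X_natDegree_eq _ hp.one_lt]
    simp [ZMod.card])
  rw [hroots] at hprod
  have h1 : ∏ a : ZMod p, (X - C a : (ZMod p)[X]) = X ^ p - X := by
    rw [Finset.prod_eq_multiset_prod]; exact hprod
  have h2 : (X : (ZMod p)[X]) * ∏ a ∈ (Finset.univ : Finset (ZMod p)).erase 0, (X - C a) = X ^ p - X := by
    rw [← h1, ← Finset.mul_prod_erase Finset.univ _ (Finset.mem_univ (0 : ZMod p))]
    simp
  have h3 := congrArg (Polynomial.map (ZMod.castHom (dvd_refl p) K)) h2
  rw [Polynomial.map_mul, Polynomial.map_X, Polynomial.map_sub, Polynomial.map_pow, Polynomial.map_X,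
    Polynomial.map_prod] at h3
  rw [← h3, List.map_map, Finset.prod_map_toList]
  congr 1
  refine Finset.prod_congr rfl fun a _ => ?_
  simp

private lemma as_gen (K : Type*) [Field K] (p : ℕ) [Fact p.Prime] [CharP K p]
    (L : Type*) [Field L] [Algebra K L] [IsGalois K L] (hL : Module.finrank K L = p) :
    ∃ θ : L, θ ∉ Set.range (algebraMap K L) ∧ ∃ c : K, algebraMap K L c = θ ^ p - θ := by
  have hp : p.Prime := Fact.out
  haveI : FiniteDimensional K L := Module.finite_of_finrank_pos (by rw [hL]; exact hp.pos)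
  haveI : CharP L p := charP_of_injective_algebraMap (algebraMap K L).injective p
  have hcard : Nat.card (L ≃ₐ[K] L) = p := by rw [IsGalois.card_aut_eq_finrank, hL]
  haveI : Finite (L ≃ₐ[K] L) := Nat.finite_of_card_ne_zero (by rw [hcard]; exact hp.ne_zero)
  obtain ⟨σ, hσ⟩ : ∃ σ : L ≃ₐ[K] L, σ ≠ 1 := by
    haveI : Nontrivial (L ≃ₐ[K] L) :=
      (Finite.one_lt_card_iff_nontrivial).1 (by rw [hcard]; exact hp.one_lt)
    exact exists_ne 1
  have hσp : σ ^ p = 1 := by rw [← hcard]; exact pow_card_eq_one'
  have htop : Subgroup.zpowers σ = ⊤ := zpowers_eq_top_of_prime_card hcard hσ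
  have hfix : ∀ x : L, σ x = x → x ∈ Set.range (algebraMap K L) := by
    intro x hx
    rw [IsGalois.mem_range_algebraMap_iff_fixed]
    intro τ
    have hle : Subgroup.zpowers σ ≤ MulAction.stabilizer (L ≃ₐ[K] L) x := by
      rw [Subgroup.zpowers_le]
      exact hx
    have hτ : τ ∈ MulAction.stabilizer (L ≃ₐ[K] L) x := hle (htop ▸ Subgroup.mem_top τ)
    exact hτ
  -- the nilpotent operator σ - 1
  haveI : CharP (Module.End K L) p :=
    Module.charP_end ⟨1, (Ideal.torsionOf_eq_bot_iff_of_noZeroSMulDivisors K (1 : L)).2 one_ne_zero⟩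
  have hpow : ∀ (n : ℕ) (x : L), ((σ.toLinearMap : Module.End K L) ^ n) x = (σ ^ n) x := by
    intro n
    induction n with
    | zero => intro x; simp
    | succ n ih =>
      intro x
      rw [pow_succ, pow_succ, Module.End.mul_apply, ih, AlgEquiv.mul_apply]
      rfl
  have hN : ((σ.toLinearMap : Module.End K L) - 1) ^ p = 0 := by
    rw [sub_pow_char_of_commute p (Commute.one_right _), one_pow, sub_eq_zero]
    ext x
    rw [hpow, hσp]
    rfl
  set N : Module.End K L := (σ.toLinearMap : Module.End K L) - 1 with hNdef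
  have hNapply : ∀ x : L, N x = σ x - x := fun x => rfl
  have hchain : ∀ (k : ℕ) (x : L), N x ≠ 0 → (N ^ k) x = 0 → ∃ w : L, N w ≠ 0 ∧ N (N w) = 0 := by
    intro k
    induction k with
    | zero =>
      intro x hx h0
      exfalso
      apply hx
      have : x = 0 := by simpa using h0
      rw [this, map_zero]
    | succ k ih =>
      intro x hx h0
      by_cases h1 : N (N x) = 0
      · exact ⟨x, hx, h1⟩
      · refine ih (N x) h1 ?_
        rw [pow_succ, Module.End.mul_apply] at h0
        exact h0
  obtain ⟨x0, hx0⟩ : ∃ x : L, N x ≠ 0 := by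
    by_contra hall
    push Not at hall
    apply hσ
    ext x
    have := hall x
    rw [hNapply, sub_eq_zero] at this
    simpa using this
  obtain ⟨w, hw1, hw2⟩ := hchain p x0 hx0 (by rw [hN]; rfl)
  have hz : σ (N w) = N w := by
    have := hw2
    rw [hNapply, sub_eq_zero] at this
    exact this
  obtain ⟨c0, hc0⟩ := hfix (N w) hz
  have hc0ne : c0 ≠ 0 := by
    rintro rfl
    rw [map_zero] at hc0
    exact hw1 hc0.symm
  refine ⟨c0⁻¹ • w, ?_, ?_⟩
  have hσθ : σ (c0⁻¹ • w) = c0⁻¹ • w + 1 := by
    rw [map_smul]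
    have h1 : σ w = w + N w := by rw [hNapply]; ring
    rw [h1, smul_add, ← hc0, Algebra.smul_def (c0⁻¹) (algebraMap K L c0), ← map_mul,
      inv_mul_cancel₀ hc0ne, map_one]
  · rintro ⟨k, hk⟩
    have h1 : σ (c0⁻¹ • w) = c0⁻¹ • w := by rw [← hk, AlgEquiv.commutes]
    rw [hσθ] at h1
    exact one_ne_zero (α := L) (by simp at h1)
  · have hσθ : σ (c0⁻¹ • w) = c0⁻¹ • w + 1 := by
      rw [map_smul]
      have h1 : σ w = w + N w := by rw [hNapply]; ring
      rw [h1, smul_add, ← hc0, Algebra.smul_def (c0⁻¹) (algebraMap K L c0), ← map_mul,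
        inv_mul_cancel₀ hc0ne, map_one]
    have hfixed : σ ((c0⁻¹ • w) ^ p - c0⁻¹ • w) = (c0⁻¹ • w) ^ p - c0⁻¹ • w := by
      rw [map_sub, map_pow, hσθ, add_pow_char, one_pow]
      ring
    obtain ⟨c, hc⟩ := hfix _ hfixed
    exact ⟨c, hc⟩

open Polynomial IntermediateField in
/-- A separable element `u` of a division algebra over a field of characteristic `p` is a
polynomial in `u ^ p`. -/
private lemma sep_mem_adjoin_pow (K : Type*) [Field K] (p : ℕ) [Fact p.Prime] [CharP K p]
    (A : Type*) [DivisionRing A] [Algebra K A] [FiniteDimensional K A] (u : A)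
    (hsep : IsSeparable K u) : ∃ q : K[X], Polynomial.aeval (u ^ p) q = u := by
  have hp : p.Prime := Fact.out
  have hint : IsIntegral K u := IsIntegral.of_finite K u
  set f := minpoly K u with hf
  haveI : Fact (Irreducible f) := ⟨minpoly.irreducible hint⟩
  have hmonic : f.Monic := minpoly.monic hint
  have hfne : f ≠ 0 := hmonic.ne_zero
  set r : AdjoinRoot f := AdjoinRoot.root f with hr
  have hmin : minpoly K r = f := by
    rw [AdjoinRoot.minpoly_root hfne, hmonic.leadingCoeff, inv_one, C_1, mul_one]
  have hsepr : IsSeparable K r := by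
    show (minpoly K r).Separable
    rw [hmin]; exact hsep
  haveI : ExpChar K p := ExpChar.prime hp
  have hadj := IntermediateField.adjoin_simple_eq_adjoin_pow_expChar_of_isSeparable K (AdjoinRoot f) hsepr p
  have hmem : r ∈ K⟮r ^ p⟯ := hadj ▸ IntermediateField.mem_adjoin_simple_self K r
  haveI : Module.Finite K (AdjoinRoot f) := (AdjoinRoot.powerBasis hfne).finite
  have halg : IsAlgebraic K (r ^ p) := (IsIntegral.of_finite K (r ^ p)).isAlgebraic
  have hmem2 : r ∈ (K⟮r ^ p⟯).toSubalgebra := hmem
  rw [IntermediateField.adjoin_simple_toSubalgebra_of_isAlgebraic halg,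
    Algebra.adjoin_singleton_eq_range_aeval] at hmem2
  obtain ⟨q, hq⟩ := hmem2
  refine ⟨q, ?_⟩
  have hq' : Polynomial.aeval r (q.comp (X ^ p) - X) = 0 := by
    rw [map_sub, Polynomial.aeval_comp, map_pow, Polynomial.aeval_X, sub_eq_zero]
    exact hq
  rw [AdjoinRoot.aeval_eq, AdjoinRoot.mk_eq_zero] at hq'
  obtain ⟨g, hg⟩ := hq'
  have h3 : Polynomial.aeval u (q.comp (X ^ p) - X) = 0 := by
    rw [hg, map_mul, hf, minpoly.aeval, zero_mul]
  rw [map_sub, Polynomial.aeval_comp, map_pow, Polynomial.aeval_X, sub_eq_zero] at h3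
  exact h3

/-- (3) ⇒ (1): let K be a field with char K = p > 0 and A a central division K-algebra with dim_K A = p
^ 2. If some Galois extension L of K with [L : K] = p admits a K-algebra embedding into A, then some
element of A is not separable over K. -/
theorem result
    (K : Type u) [Field K] (p : ℕ) [Fact p.Prime] [CharP K p]
    (A : Type v) [DivisionRing A] [Algebra K A] [Algebra.IsCentral K A] [FiniteDimensional K A]
    (hA : Module.finrank K A = p ^ 2) (L : Type w) [Field L] [Algebra K L] [IsGalois K L]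
    (hL : Module.finrank K L = p) (ι : L →ₐ[K] A) :
    ∃ v : A, ¬ IsSeparable K v := by
  classical
  have hp : p.Prime := Fact.out
  obtain ⟨θ, hθK, c, hc⟩ := as_gen K p L hL
  set t : A := ι θ with ht
  have htp : t ^ p = t + algebraMap K A c := by
    have : ι (θ ^ p - θ) = algebraMap K A c := by rw [← hc, AlgHom.commutes]
    rw [map_sub, map_pow] at this
    rw [← this]; abel
  -- left and right multiplication by t
  have hLn : ∀ (n : ℕ) (x : A), ((LinearMap.mulLeft K t) ^ n) x = t ^ n * x := by
    intro n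
    induction n with
    | zero => intro x; simp
    | succ n ih =>
      intro x
      rw [pow_succ, Module.End.mul_apply, ih, LinearMap.mulLeft_apply, ← mul_assoc, ← pow_succ]
  have hRn : ∀ (n : ℕ) (x : A), ((LinearMap.mulRight K t) ^ n) x = x * t ^ n := by
    intro n
    induction n with
    | zero => intro x; simp
    | succ n ih =>
      intro x
      rw [pow_succ, Module.End.mul_apply, ih, LinearMap.mulRight_apply, mul_assoc, ← pow_succ']
  have hcomm : Commute (LinearMap.mulLeft K t) (LinearMap.mulRight K t) := by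
    ext x
    simp [mul_assoc]
  haveI : CharP (Module.End K A) p :=
    Module.charP_end ⟨1, (Ideal.torsionOf_eq_bot_iff_of_noZeroSMulDivisors K (1 : A)).2 one_ne_zero⟩
  set D : Module.End K A := LinearMap.mulLeft K t - LinearMap.mulRight K t with hD
  have hDapply : ∀ x : A, D x = t * x - x * t := fun x => rfl
  have hDp : D ^ p = D := by
    rw [hD, sub_pow_char_of_commute p hcomm]
    ext x
    rw [LinearMap.sub_apply, hLn, hRn, htp, LinearMap.sub_apply, LinearMap.mulLeft_apply,
      LinearMap.mulRight_apply, add_mul, mul_add, Algebra.commutes c x]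
    abel
  -- D is nonzero
  have hinjι : Function.Injective ι := ι.toRingHom.injective
  obtain ⟨x0, hx0⟩ : ∃ x : A, D x ≠ 0 := by
    by_contra hall
    push Not at hall
    have hcen : t ∈ Subalgebra.center K A := by
      rw [Subalgebra.mem_center_iff]
      intro b
      have := hall b
      rw [hDapply, sub_eq_zero] at this
      exact this.symm
    rw [Algebra.IsCentral.center_eq_bot, Algebra.mem_bot] at hcen
    obtain ⟨k, hk⟩ := hcen
    apply hθK
    refine ⟨k, hinjι ?_⟩
    rw [AlgHom.commutes]; exact hk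
  -- an eigenvector with nonzero eigenvalue
  have hpoly := prod_nonzero_zmod K p
  have hkill : Polynomial.aeval D (((((Finset.univ : Finset (ZMod p)).erase 0).toList.map
      (fun a => (ZMod.castHom (dvd_refl p) K) a)).map
        (fun c => (Polynomial.X - Polynomial.C c : Polynomial K))).prod) (D x0) = 0 := by
    have h1 : Polynomial.aeval D (((((Finset.univ : Finset (ZMod p)).erase 0).toList.map
      (fun a => (ZMod.castHom (dvd_refl p) K) a)).map
        (fun c => (Polynomial.X - Polynomial.C c : Polynomial K))).prod * Polynomial.X) x0 = 0 := by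
      rw [mul_comm, hpoly, map_sub, map_pow, Polynomial.aeval_X, hDp, sub_self]
      rfl
    rw [map_mul, Polynomial.aeval_X, Module.End.mul_apply] at h1
    exact h1
  obtain ⟨c', hc'mem, u, hu, hDu⟩ := exists_eigen D _ (D x0) hx0 hkill
  have hc'ne : c' ≠ 0 := by
    rw [List.mem_map] at hc'mem
    obtain ⟨a, ha, rfl⟩ := hc'mem
    rw [Finset.mem_toList, Finset.mem_erase] at ha
    exact (map_ne_zero (ZMod.castHom (dvd_refl p) K)).2 ha.1
  refine ⟨u, fun hsep => ?_⟩
  set s : A := algebraMap K A c' with hs
  have h2 : s * u = u * s := Algebra.commutes c' u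
  have h1 : t * u = u * t + s * u := by
    have := hDu
    rw [hDapply, Algebra.smul_def] at this
    rw [← this]; abel
  have step : ∀ k : ℕ, (t + k • s) * u = u * (t + (k + 1) • s) := by
    intro k
    rw [add_mul, smul_mul_assoc, h1, h2, succ_nsmul, mul_add, mul_add, mul_smul_comm]
    abel
  have key : ∀ k : ℕ, t * u ^ k = u ^ k * (t + k • s) := by
    intro k
    induction k with
    | zero => simp
    | succ k ih => rw [pow_succ, ← mul_assoc, ih, mul_assoc, step, ← mul_assoc]
  have hps : p • s = 0 := by
    rw [hs, ← map_nsmul, nsmul_eq_mul, CharP.cast_eq_zero, zero_mul, map_zero]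
  have hcomm_up : t * u ^ p = u ^ p * t := by rw [key p, hps, add_zero]
  obtain ⟨q, hq⟩ := sep_mem_adjoin_pow K p A u hsep
  have hmemc : u ∈ Subalgebra.centralizer K ({t} : Set A) := by
    rw [← hq]
    have hle : Algebra.adjoin K {u ^ p} ≤ Subalgebra.centralizer K ({t} : Set A) := by
      rw [Algebra.adjoin_le_iff, Set.singleton_subset_iff]
      show u ^ p ∈ Subalgebra.centralizer K ({t} : Set A)
      rw [Subalgebra.mem_centralizer_iff]
      intro g hg
      rw [Set.mem_singleton_iff] at hg
      rw [hg]; exact hcomm_up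
    exact hle (Polynomial.aeval_mem_adjoin_singleton K (u ^ p))
  rw [Subalgebra.mem_centralizer_iff] at hmemc
  have h3 : t * u = u * t := hmemc t rfl
  rw [h3] at h1
  have h4 : s * u = 0 := by
    have := h1
    rwa [left_eq_add] at this
  rcases mul_eq_zero.1 h4 with h5 | h5
  · rw [hs, map_eq_zero] at h5
    exact hc'ne h5
  · exact hu h5

end Groth.Agent.S15171
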