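import Groth.Statements.S15172
import Mathlib.LinearAlgebra.Lagrange
import Mathlib.Algebra.Polynomial.Roots
import Mathlib.Algebra.Polynomial.BigOperators
import Mathlib.Tactic.Ring
import Mathlib.Algebra.CharP.Basic

set_option autoImplicit false
universe u v
open Polynomial
open BddFin

namespace Groth.Agent.S15172

/-- Let L be a field of characteristic p > 0 and s a finite subset of L containing 0 and closed under
addition (a finite additive subgroup). Then the polynomial f = ∏_{a ∈ s} (X - a) is additive: f (x +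
y) = f x + f y for all x, y in any commutative L-algebra (equivalently, as an identity of
polynomials in two variables). -/
theorem result
    (L : Type u) [Field L] (p : ℕ) [Fact p.Prime] [CharP L p] (s : Finset L) (h0 : (0 : L) ∈ s)
    (hadd : ∀ a ∈ s, ∀ b ∈ s, a + b ∈ s) (R : Type v) [CommRing R] [Algebra L R] (x y : R) :
    aeval (x + y) (∏ a ∈ s, (X - C a)) = aeval x (∏ a ∈ s, (X - C a)) + aeval y (∏ a ∈ s, (X - C a)) := by
  classical
  set f : L[X] := ∏ a ∈ s, (X - C a) with hf
  have hnsmul : ∀ (n : ℕ) (b : L), b ∈ s → (n : L) * b ∈ s := by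
    intro n b hb
    induction n with
    | zero => simpa using h0
    | succ k ih =>
      have e : ((k + 1 : ℕ) : L) * b = (k : L) * b + b := by push_cast; ring
      rw [e]; exact hadd _ ih _ hb
  have hneg : ∀ b ∈ s, -b ∈ s := by
    intro b hb
    have hp : 0 < p := (Fact.out : p.Prime).pos
    have h0' : ((p - 1 + 1 : ℕ) : L) = 0 := by
      rw [Nat.sub_add_cancel hp]; exact CharP.cast_eq_zero L p
    have h2 : ((p - 1 : ℕ) : L) = -1 := by
      rw [Nat.cast_add, Nat.cast_one] at h0'
      exact eq_neg_of_add_eq_zero_left h0'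
    have h1 : ((p - 1 : ℕ) : L) * b = -b := by rw [h2]; ring
    rw [← h1]; exact hnsmul _ b hb
  have hsub : ∀ a ∈ s, ∀ b ∈ s, a - b ∈ s := by
    intro a ha b hb
    rw [sub_eq_add_neg]; exact hadd a ha _ (hneg b hb)
  have htrans : ∀ a ∈ s, ∏ b ∈ s, ((C a : L[X]) + X - C b) = f := by
    intro a ha
    rw [hf]
    refine Finset.prod_nbij' (fun b => b - a) (fun b => b + a) ?_ ?_ ?_ ?_ ?_
    · intro b hb; exact hsub b hb a ha
    · intro b hb; exact hadd b hb a ha
    · intro b _; simp
    · intro b _; simp
    · intro b _; simp only [C_sub]; ring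
  let P : L[X][X] := ∏ a ∈ s, (X - C (C a - X))
  let Q : L[X][X] := ∏ a ∈ s, (X - C (C a))
  let H : L[X][X] := P - Q - C f
  have hcard : 0 < s.card := Finset.card_pos.mpr ⟨0, h0⟩
  have hPm : P.Monic := monic_prod_X_sub_C _ _
  have hQm : Q.Monic := monic_prod_X_sub_C _ _
  have hPd : P.natDegree = s.card := natDegree_finsetProd_X_sub_C_eq_card _ _
  have hQd : Q.natDegree = s.card := natDegree_finsetProd_X_sub_C_eq_card _ _
  have hPdeg : P.degree = (s.card : WithBot ℕ) := by
    rw [degree_eq_natDegree hPm.ne_zero, hPd]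
  have hQdeg : Q.degree = (s.card : WithBot ℕ) := by
    rw [degree_eq_natDegree hQm.ne_zero, hQd]
  have hdeg : H.degree < (s.card : WithBot ℕ) := by
    have h1 : (P - Q).degree < (s.card : WithBot ℕ) := by
      rw [← hPdeg]
      exact degree_sub_lt_left (hPdeg.trans hQdeg.symm) hPm.ne_zero
        (hPm.leadingCoeff.trans hQm.leadingCoeff.symm)
    have h2 : (C f : L[X][X]).degree < (s.card : WithBot ℕ) :=
      lt_of_le_of_lt degree_C_le (by exact_mod_cast hcard)
    exact lt_of_le_of_lt (degree_sub_le _ _) (max_lt h1 h2)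
  have hH : H = 0 := by
    refine eq_zero_of_degree_lt_of_eval_index_eq_zero (v := (C : L → L[X])) s
      (C_injective.injOn) hdeg ?_
    intro a ha
    have e1 : eval (C a) P = f := by
      rw [← htrans a ha]
      simp only [P, eval_prod, eval_sub, eval_X, eval_C]
      refine Finset.prod_congr rfl (fun b _ => ?_)
      ring
    have e2 : eval (C a) Q = 0 := by
      simp only [Q, eval_prod, eval_sub, eval_X, eval_C]
      exact Finset.prod_eq_zero ha (sub_self _)
    simp only [H, eval_sub, eval_C, e1, e2]; ring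
  let φ : L[X][X] →+* R := eval₂RingHom (aeval y : L[X] →ₐ[L] R).toRingHom x
  have φX : φ X = x := eval₂_X _ _
  have φC : ∀ q : L[X], φ (C q) = aeval y q := fun q => eval₂_C _ _
  have hφP : φ P = aeval (x + y) f := by
    simp only [P, hf, map_prod]
    refine Finset.prod_congr rfl (fun a _ => ?_)
    rw [map_sub, φX, φC, map_sub, aeval_C, aeval_X, map_sub, aeval_X, aeval_C]
    ring
  have hφQ : φ Q = aeval x f := by
    simp only [Q, hf, map_prod]
    refine Finset.prod_congr rfl (fun a _ => ?_)
    rw [map_sub, φX, φC, aeval_C, map_sub, aeval_X, aeval_C]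
  have hφH : φ H = 0 := by rw [hH, map_zero]
  simp only [H, map_sub, hφP, hφQ, φC] at hφH
  rw [sub_sub, sub_eq_zero] at hφH
  exact hφH

end Groth.Agent.S15172
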