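import Groth.Statements.S15183
import Mathlib

set_option autoImplicit false
universe u v
open Polynomial
open BddFin

namespace Groth.Agent.S15183

/-- Let K be a field such that K contains all roots of unity (for every n ≥ 1 the polynomial X^n − 1
splits into linear factors over K), and A a finite-dimensional central simple K-algebra which is not
a division algebra (some non-zero element is not a unit). Then the quotient of the unit group of A
by that of K has elements of every finite order invertible in K: for every d ≥ 1 with d ≠ 0 in K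
there is a unit x of A with x ^ d in K and x ^ k not in K for 0 < k < d. (The published assertion is
phrased for the automorphism group of the Severi–Brauer variety of A, which is isomorphic to the
units of A modulo those of K; this row is the algebra-side statement its proof establishes.) -/
theorem result
    (K : Type u) [Field K] (hK : ∀ n : ℕ, 0 < n → (X ^ n - 1 : K[X]).Splits)
    (A : Type v) [Ring A] [Algebra K A] [Algebra.IsCentral K A] [IsSimpleRing A] [FiniteDimensional K A]
    (hA : ∃ y : A, y ≠ 0 ∧ ¬ IsUnit y) (d : ℕ) (hd : 0 < d) (hdK : (d : K) ≠ 0) :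
    ∃ x : A, IsUnit x ∧ x ^ d ∈ (algebraMap K A).range ∧
      ∀ k : ℕ, 0 < k → k < d → x ^ k ∉ (algebraMap K A).range := by
  classical
  obtain ⟨y, hy0, hyu⟩ := hA
  -- a primitive `d`-th root of unity
  haveI : NeZero (d : K) := ⟨hdK⟩
  obtain ⟨ζ, hζ⟩ : ∃ ζ : K, IsPrimitiveRoot ζ d := by
    have hne : (Polynomial.X ^ d - 1 : Polynomial K) ≠ 0 := by
      have := Polynomial.X_pow_sub_C_ne_zero hd (1 : K)
      simpa using this
    have hs : (Polynomial.cyclotomic d K).Splits :=
      Polynomial.Splits.of_dvd (hK d hd) hne (Polynomial.cyclotomic.dvd_X_pow_sub_one d K)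
    have hdeg : (Polynomial.cyclotomic d K).degree ≠ 0 := by
      rw [Polynomial.degree_cyclotomic]
      exact_mod_cast (Nat.totient_pos.2 hd).ne'
    obtain ⟨ζ, hζ⟩ := hs.exists_eval_eq_zero hdeg
    exact ⟨ζ, Polynomial.isRoot_cyclotomic_iff.1 hζ⟩
  have hζ0 : ζ ≠ 0 := hζ.ne_zero hd.ne'
  -- an idempotent
  haveI : IsArtinianRing A := IsArtinianRing.of_finite K A
  haveI : IsNoetherianRing A := IsNoetherianRing.of_finite K A
  obtain ⟨e, he, hspan⟩ := IsSemisimpleRing.ideal_eq_span_idempotent (Ideal.span {y} : Ideal A)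
  have hee : e * e = e := he
  have he0 : e ≠ 0 := by
    rintro rfl
    apply hy0
    have : y ∈ (Ideal.span {(0 : A)} : Ideal A) := hspan ▸ Ideal.subset_span rfl
    simpa using this
  have he1 : 1 - e ≠ 0 := by
    intro h
    have h1 : e = 1 := (sub_eq_zero.1 h).symm
    apply hyu
    have hmem : (1 : A) ∈ (Ideal.span {y} : Ideal A) := by
      rw [hspan, h1]; exact Ideal.subset_span rfl
    obtain ⟨z, hz⟩ := Ideal.mem_span_singleton'.1 hmem
    exact ⟨⟨y, z, mul_eq_one_symm hz, hz⟩, rfl⟩
  have h10 : e * (1 - e) = 0 := by rw [mul_sub, mul_one, hee, sub_self]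
  have h01 : (1 - e) * e = 0 := by rw [sub_mul, one_mul, hee, sub_self]
  have h11 : (1 - e) * (1 - e) = 1 - e := by rw [mul_sub, mul_one, h01, sub_zero]
  have hmul : ∀ a b : K, (a • e + (1 - e)) * (b • e + (1 - e)) = (a * b) • e + (1 - e) := by
    intro a b
    rw [add_mul, mul_add, mul_add, smul_mul_smul_comm, hee, smul_mul_assoc, h10, smul_zero,
      mul_smul_comm, h01, smul_zero, h11, add_zero, zero_add]
  have hpow : ∀ k : ℕ, (ζ • e + (1 - e)) ^ k = (ζ ^ k) • e + (1 - e) := by
    intro k
    induction k with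
    | zero => simp
    | succ k ih => rw [pow_succ, ih, hmul, pow_succ]
  refine ⟨ζ • e + (1 - e), ?_, ?_, ?_⟩
  · refine ⟨⟨ζ • e + (1 - e), ζ⁻¹ • e + (1 - e), ?_, ?_⟩, rfl⟩
    · rw [hmul, mul_inv_cancel₀ hζ0, one_smul]; abel
    · rw [hmul, inv_mul_cancel₀ hζ0, one_smul]; abel
  · refine ⟨1, ?_⟩
    rw [hpow, hζ.pow_eq_one, one_smul, map_one]; abel
  · intro k hk0 hkd ⟨c, hc⟩
    rw [hpow, Algebra.algebraMap_eq_smul_one] at hc
    -- multiply by e and by 1 - e
    have h1 := congrArg (fun t => e * t) hc
    have h2 := congrArg (fun t => (1 - e) * t) hc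
    simp only [mul_smul_comm, mul_one, mul_add, hee, h10, h01, h11, smul_zero, add_zero,
      zero_add] at h1 h2
    -- h1 : c • e = ζ^k • e ; h2 : c • (1 - e) = 1 - e
    have hc1 : c = ζ ^ k := by
      have : (c - ζ ^ k) • e = 0 := by rw [sub_smul, h1, sub_self]
      rcases smul_eq_zero.1 this with h | h
      · exact sub_eq_zero.1 h
      · exact absurd h he0
    have hc2 : c = 1 := by
      have : (c - 1) • (1 - e) = 0 := by rw [sub_smul, one_smul, h2, sub_self]
      rcases smul_eq_zero.1 this with h | h
      · exact sub_eq_zero.1 h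
      · exact absurd h he1
    have hk1 : ζ ^ k = 1 := by rw [← hc1, hc2]
    have := (hζ.pow_eq_one_iff_dvd k).1 hk1
    exact absurd (Nat.le_of_dvd hk0 this) (not_le.2 hkd)

end Groth.Agent.S15183
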