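import Groth.Statements.S15184
import Mathlib
import Groth.Agent.S15171

set_option autoImplicit false
universe u v
open BddFin

namespace Groth.Agent.S15184


private lemma finrank_subalgebra_dvd (K : Type*) [Field K] (A : Type*) [DivisionRing A] [Algebra K A]
    [FiniteDimensional K A] (B : Subalgebra K A) : Module.finrank K B ∣ Module.finrank K A := by
  letI : DivisionRing B := divisionRingOfFiniteDimensional K B
  have := Module.finrank_mul_finrank K B A
  exact Dvd.intro _ this

private lemma central_mem (K : Type*) [Field K] (A : Type*) [Ring A] [Algebra K A]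
    [Algebra.IsCentral K A] (x : A) (hx : ∀ b : A, b * x = x * b) : x ∈ (algebraMap K A).range := by
  have hcent : x ∈ Subalgebra.center K A := Subalgebra.mem_center_iff.2 hx
  have := Algebra.IsCentral.out hcent
  rw [Algebra.mem_bot] at this
  obtain ⟨k, hk⟩ := this
  exact ⟨k, hk⟩

/-- Tower law for the (commutative) subfield generated by an element of a division algebra. -/
private lemma natDegree_minpoly_dvd (K : Type*) [Field K] (A : Type*) [DivisionRing A] [Algebra K A]
    [FiniteDimensional K A] (w : A) :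
    (minpoly K w).natDegree ∣ Module.finrank K A ∧
      ((minpoly K w).natDegree = Module.finrank K A → ∀ a b : A, a * b = b * a) := by
  have hint : IsIntegral K w := IsIntegral.of_finite K w
  set f := minpoly K w with hf
  have hfirr : Irreducible f := minpoly.irreducible hint
  have hfmonic : f.Monic := minpoly.monic hint
  have hfne : f ≠ 0 := hfmonic.ne_zero
  haveI : Fact (Irreducible f) := ⟨hfirr⟩
  let φ : AdjoinRoot f →ₐ[K] A := Ideal.Quotient.liftₐ (Ideal.span {f}) (Polynomial.aeval w) (by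
    intro g hg
    obtain ⟨q, rfl⟩ := Ideal.mem_span_singleton.1 hg
    rw [map_mul, hf, minpoly.aeval, zero_mul])
  letI : Module (AdjoinRoot f) A := Module.compHom A (φ : AdjoinRoot f →+* A)
  have hsmul : ∀ (l : AdjoinRoot f) (a : A), l • a = φ l * a := fun l a => rfl
  haveI : IsScalarTower K (AdjoinRoot f) A := ⟨fun k l a => by
    rw [hsmul, hsmul, map_smul, smul_mul_assoc]⟩
  have htower := Module.finrank_mul_finrank K (AdjoinRoot f) A
  have hfinL : Module.finrank K (AdjoinRoot f) = f.natDegree := by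
    rw [(AdjoinRoot.powerBasis hfne).finrank, AdjoinRoot.powerBasis_dim hfne]
  rw [hfinL] at htower
  refine ⟨Dvd.intro _ htower, ?_⟩
  intro heq
  have hpos : 0 < Module.finrank K A := Module.finrank_pos
  have h1 : Module.finrank (AdjoinRoot f) A = 1 := by
    rw [heq] at htower
    exact Nat.eq_of_mul_eq_mul_left hpos (by rw [htower, mul_one])
  have hsurj : ∀ a : A, ∃ l : AdjoinRoot f, φ l = a := by
    intro a
    obtain ⟨l, hl⟩ := (finrank_eq_one_iff_of_nonzero' (1 : A) one_ne_zero).1 h1 a
    exact ⟨l, by rw [← hl, hsmul, mul_one]⟩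
  intro a b
  obtain ⟨l, rfl⟩ := hsurj a
  obtain ⟨m, rfl⟩ := hsurj b
  rw [← map_mul, ← map_mul, mul_comm]


private lemma natDegree_minpoly_eq (K : Type*) [Field K] (p : ℕ) [Fact p.Prime]
    (A : Type*) [DivisionRing A] [Algebra K A] [Algebra.IsCentral K A] [FiniteDimensional K A]
    (hA : Module.finrank K A = p ^ 2) (x : A) (hx : x ∉ (algebraMap K A).range) :
    (minpoly K x).natDegree = p := by
  have hp : p.Prime := Fact.out
  obtain ⟨hdvd, hcommA⟩ := natDegree_minpoly_dvd K A x
  rw [hA] at hdvd hcommA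
  obtain ⟨k, hk2, hk⟩ := (Nat.dvd_prime_pow hp).1 hdvd
  interval_cases k
  · exfalso; apply hx; rw [← minpoly.natDegree_eq_one_iff]; simpa using hk
  · simpa using hk
  · exfalso
    apply hx
    exact central_mem K A x (fun b => hcommA hk b x)

private lemma exists_lift (K : Type*) [Field K] (A : Type*) [Ring A] [Algebra K A] (x : A) :
    ∃ φ : AdjoinRoot (minpoly K x) →ₐ[K] A,
      ∀ q : Polynomial K, φ (AdjoinRoot.mk (minpoly K x) q) = Polynomial.aeval x q :=
  ⟨Ideal.Quotient.liftₐ (Ideal.span {minpoly K x}) (Polynomial.aeval x) (by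
    intro g hg
    obtain ⟨q, rfl⟩ := Ideal.mem_span_singleton.1 hg
    rw [map_mul, minpoly.aeval, zero_mul]), fun q => rfl⟩

private lemma galois_adjoinRoot (K : Type*) [Field K] (f : Polynomial K) [Fact (Irreducible f)]
    (hsep : f.Separable)
    (hs : (f.map (algebraMap K (AdjoinRoot f))).Splits) : IsGalois K (AdjoinRoot f) := by
  haveI : Polynomial.IsSplittingField K (AdjoinRoot f) f := ⟨hs, by
      rw [eq_top_iff, ← AdjoinRoot.adjoinRoot_eq_top]
      apply Algebra.adjoin_mono
      rw [Set.singleton_subset_iff, Polynomial.mem_rootSet]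
      exact ⟨(Fact.out : Irreducible f).ne_zero, by rw [AdjoinRoot.aeval_eq, AdjoinRoot.mk_self]⟩⟩
  exact IsGalois.of_separable_splitting_field (p := f) hsep

private lemma commute_aeval {K A : Type*} [Field K] [Ring A] [Algebra K A] (x y : A)
    (h : x * y = y * x) (q : Polynomial K) :
    x * Polynomial.aeval y q = Polynomial.aeval y q * x := by
  induction q using Polynomial.induction_on' with
  | add f g hf hg => rw [map_add, mul_add, add_mul, hf, hg]
  | monomial n c =>
    rw [Polynomial.aeval_monomial]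
    have h1 : Commute x (algebraMap K A c) := Algebra.commute_algebraMap_right c x
    have h2 : Commute x (y ^ n) := Commute.pow_right h n
    exact (h1.mul_right h2).eq

private lemma mem_adjoin_of_commute (K : Type*) [Field K] (p : ℕ) [Fact p.Prime]
    (A : Type*) [DivisionRing A] [Algebra K A] [Algebra.IsCentral K A] [FiniteDimensional K A]
    (hA : Module.finrank K A = p ^ 2) (x y : A) (hx : x ∉ (algebraMap K A).range)
    (hxy : x * y = y * x) : ∃ q : Polynomial K, Polynomial.aeval x q = y := by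
  have hp : p.Prime := Fact.out
  have hdiv : ∀ d : ℕ, d ∣ p ^ 2 → d = 1 ∨ d = p ∨ d = p ^ 2 := by
    intro d hd
    obtain ⟨k, hk2, hk⟩ := (Nat.dvd_prime_pow hp).1 hd
    interval_cases k
    · left; simpa using hk
    · right; left; simpa using hk
    · right; right; exact hk
  have hd1 : Module.finrank K (Algebra.adjoin K {x}) ∣ p ^ 2 :=
    hA ▸ finrank_subalgebra_dvd K A _
  have hdE : Module.finrank K (Algebra.adjoin K {x, y}) ∣ p ^ 2 :=
    hA ▸ finrank_subalgebra_dvd K A _
  have hle : Algebra.adjoin K {x} ≤ Algebra.adjoin K {x, y} := Algebra.adjoin_mono (by simp)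
  have hmono : Module.finrank K (Algebra.adjoin K {x}) ≤
      Module.finrank K (Algebra.adjoin K {x, y}) :=
    Submodule.finrank_mono (s := Subalgebra.toSubmodule (Algebra.adjoin K {x}))
      (t := Subalgebra.toSubmodule (Algebra.adjoin K {x, y})) (fun z hz => hle hz)
  have h1 : Module.finrank K (Algebra.adjoin K {x}) ≠ 1 := by
    intro h
    have hbot := Subalgebra.eq_bot_of_finrank_one h
    apply hx
    have hxB : x ∈ Algebra.adjoin K {x} := Algebra.subset_adjoin (Set.mem_singleton x)
    rw [hbot, Algebra.mem_bot] at hxB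
    obtain ⟨k, hk⟩ := hxB
    exact ⟨k, hk⟩
  have hE2 : Module.finrank K (Algebra.adjoin K {x, y}) ≠ p ^ 2 := by
    intro h
    have htop : Algebra.adjoin K {x, y} = ⊤ :=
      Subalgebra.eq_of_le_of_finrank_eq le_top (by
        rw [h, ← hA]; exact (Subalgebra.topEquiv.toLinearEquiv.finrank_eq).symm)
    apply hx
    apply central_mem
    intro b
    have hb : b ∈ Algebra.adjoin K {x, y} := htop ▸ Algebra.mem_top
    have hcen : Algebra.adjoin K {x, y} ≤ Subalgebra.centralizer K {x} := by
      apply Algebra.adjoin_le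
      intro z hz
      rw [SetLike.mem_coe, Subalgebra.mem_centralizer_iff]
      intro g hg
      rw [Set.mem_singleton_iff] at hg
      subst hg
      rcases hz with rfl | rfl
      · rfl
      · exact hxy
    have := hcen hb
    rw [Subalgebra.mem_centralizer_iff] at this
    exact (this x rfl).symm
  have hp1 : 1 < p := hp.one_lt
  have hpp : p < p ^ 2 := by nlinarith
  have hB : Module.finrank K (Algebra.adjoin K {x}) =
      Module.finrank K (Algebra.adjoin K {x, y}) := by
    have c1 := hdiv _ hd1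
    have c2 := hdiv _ hdE
    generalize p ^ 2 = N at *
    omega
  have hEq : Algebra.adjoin K {x} = Algebra.adjoin K {x, y} :=
    Subalgebra.eq_of_le_of_finrank_eq hle hB
  have hy : y ∈ Algebra.adjoin K {x} := by
    rw [hEq]; exact Algebra.subset_adjoin (by simp)
  rw [Algebra.adjoin_singleton_eq_range_aeval] at hy
  obtain ⟨q, hq⟩ := hy
  exact ⟨q, hq⟩

open Polynomial IntermediateField in
/-- A separable element `u` of a division algebra over a field of characteristic `p` is a
polynomial in `u ^ p`. -/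
private lemma sep_mem_adjoin_pow (K : Type*) [Field K] (p : ℕ) [Fact p.Prime] [CharP K p]
    (A : Type*) [DivisionRing A] [Algebra K A] [FiniteDimensional K A] (u : A)
    (hsep : IsSeparable K u) : ∃ q : K[X], Polynomial.aeval (u ^ p) q = u := by
  have hp : p.Prime := Fact.out
  have hint : IsIntegral K u := IsIntegral.of_finite K u
  set f := minpoly K u with hf
  haveI : Fact (Irreducible f) := ⟨minpoly.irreducible hint⟩
  have hmonic : f.Monic := minpoly.monic hint
  have hfne : f ≠ 0 := hmonic.ne_zero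
  set r : AdjoinRoot f := AdjoinRoot.root f with hr
  have hmin : minpoly K r = f := by
    rw [AdjoinRoot.minpoly_root hfne, hmonic.leadingCoeff, inv_one, C_1, mul_one]
  have hsepr : IsSeparable K r := by
    show (minpoly K r).Separable
    rw [hmin]; exact hsep
  haveI : ExpChar K p := ExpChar.prime hp
  have hadj := IntermediateField.adjoin_simple_eq_adjoin_pow_expChar_of_isSeparable K (AdjoinRoot f) hsepr p
  have hmem : r ∈ K⟮r ^ p⟯ := hadj ▸ IntermediateField.mem_adjoin_simple_self K r
  haveI : Module.Finite K (AdjoinRoot f) := (AdjoinRoot.powerBasis hfne).finite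
  have halg : IsAlgebraic K (r ^ p) := (IsIntegral.of_finite K (r ^ p)).isAlgebraic
  have hmem2 : r ∈ (K⟮r ^ p⟯).toSubalgebra := hmem
  rw [IntermediateField.adjoin_simple_toSubalgebra_of_isAlgebraic halg,
    Algebra.adjoin_singleton_eq_range_aeval] at hmem2
  obtain ⟨q, hq⟩ := hmem2
  refine ⟨q, ?_⟩
  have hq' : Polynomial.aeval r (q.comp (X ^ p) - X) = 0 := by
    rw [map_sub, Polynomial.aeval_comp, map_pow, Polynomial.aeval_X, sub_eq_zero]
    exact hq
  rw [AdjoinRoot.aeval_eq, AdjoinRoot.mk_eq_zero] at hq'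
  obtain ⟨g, hg⟩ := hq'
  have h3 : Polynomial.aeval u (q.comp (X ^ p) - X) = 0 := by
    rw [hg, map_mul, hf, minpoly.aeval, zero_mul]
  rw [map_sub, Polynomial.aeval_comp, map_pow, Polynomial.aeval_X, sub_eq_zero] at h3
  exact h3


private lemma conj_root {K A : Type*} [Field K] [Ring A] [Algebra K A] (a b c : K) (x d t x₂ : A)
    (ht : t = d * x - x * d) (hx₂ : x₂ * t = t * x)
    (h1 : x ^ 3 + a • x ^ 2 + b • x + c • (1 : A) = 0) :
    (x₂ ^ 3 + a • x₂ ^ 2 + b • x₂ + c • (1 : A)) * t = 0 ∧
    (x₂ ^ 2 + x * x₂ + x ^ 2 + a • x + a • x₂ + b • (1 : A)) * t = 0 := by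
  have hx₂' : ∀ y, x₂ * (t * y) = t * (x * y) := fun y => by rw [← mul_assoc, hx₂, mul_assoc]
  constructor
  · have : (x₂ ^ 3 + a • x₂ ^ 2 + b • x₂ + c • (1 : A)) * t =
        t * (x ^ 3 + a • x ^ 2 + b • x + c • (1 : A)) := by
      simp only [add_mul, mul_add, smul_mul_assoc, mul_smul_comm, one_mul, mul_one, pow_succ,
        pow_zero, mul_assoc, hx₂, hx₂']
    rw [this, h1, mul_zero]
  · have e : (x₂ ^ 2 + x * x₂ + x ^ 2 + a • x + a • x₂ + b • (1 : A)) * t =
        t * x ^ 2 + x * t * x + x ^ 2 * t + a • (x * t) + a • (t * x) + b • t := by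
      simp only [add_mul, smul_mul_assoc, one_mul, pow_succ, pow_zero, mul_assoc, hx₂, hx₂']
    have h1' : x ^ 3 + a • x ^ 2 + b • x = -(c • (1 : A)) := eq_neg_of_add_eq_zero_left h1
    have e2 : t * x ^ 2 + x * t * x + x ^ 2 * t + a • (x * t) + a • (t * x) + b • t =
        d * (x ^ 3 + a • x ^ 2 + b • x) - (x ^ 3 + a • x ^ 2 + b • x) * d := by
      subst ht
      noncomm_ring [smul_add, smul_neg]
    rw [e, e2, h1']
    simp

private lemma wedderburn_core {K A : Type*} [Field K] [Ring A] [Algebra K A] (a b c : K) (x₁ x₂ : A)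
    (h1 : x₁ ^ 3 + a • x₁ ^ 2 + b • x₁ + c • (1 : A) = 0)
    (h2 : x₂ ^ 3 + a • x₂ ^ 2 + b • x₂ + c • (1 : A) = 0)
    (hR : x₂ ^ 2 + x₁ * x₂ + x₁ ^ 2 + a • x₁ + a • x₂ + b • (1 : A) = 0) :
    (x₂ * x₁ - x₁ * x₂) * x₁ = x₂ * (x₂ * x₁ - x₁ * x₂) ∧
    (x₂ * x₁ - x₁ * x₂) ^ 3 * x₁ = x₁ * (x₂ * x₁ - x₁ * x₂) ^ 3 := by
  have I2 : (x₂ * x₁ - x₁ * x₂) * x₁ - x₂ * (x₂ * x₁ - x₁ * x₂) =
      ((x₁ ^ 3 + a • x₁ ^ 2 + b • x₁ + c • (1 : A)) - (x₂ ^ 3 + a • x₂ ^ 2 + b • x₂ + c • (1 : A)))
      - (x₂ ^ 2 + x₁ * x₂ + x₁ ^ 2 + a • x₁ + a • x₂ + b • (1 : A)) * x₁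
      + x₂ * (x₂ ^ 2 + x₁ * x₂ + x₁ ^ 2 + a • x₁ + a • x₂ + b • (1 : A)) := by
    noncomm_ring
  have I3 : (x₂ * x₁ - x₁ * x₂) * x₂ + (a • (1 : A) + x₁ + x₂) * (x₂ * x₁ - x₁ * x₂) =
      ((x₂ ^ 3 + a • x₂ ^ 2 + b • x₂ + c • (1 : A)) - (x₁ ^ 3 + a • x₁ ^ 2 + b • x₁ + c • (1 : A)))
      + (x₂ ^ 2 + x₁ * x₂ + x₁ ^ 2 + a • x₁ + a • x₂ + b • (1 : A)) * (x₁ - x₂) := by
    noncomm_ring
  rw [h1, h2, hR] at I2 I3
  set δ := x₂ * x₁ - x₁ * x₂ with hδ
  have e1 : δ * x₁ = x₂ * δ := by
    have := I2
    simp only [sub_self, zero_mul, mul_zero, add_zero] at this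
    exact sub_eq_zero.1 this
  set x₃ : A := -(a • (1 : A)) - x₁ - x₂ with hx₃
  have e2 : δ * x₂ = x₃ * δ := by
    have := I3
    simp only [sub_self, zero_mul, add_zero] at this
    have h : δ * x₂ = -((a • (1 : A) + x₁ + x₂) * δ) := eq_neg_of_add_eq_zero_left this
    rw [hx₃, h]
    noncomm_ring
  have e3 : δ * x₃ = x₁ * δ := by
    have hx₁ : x₁ = -(a • (1 : A)) - x₂ - x₃ := by rw [hx₃]; abel
    calc δ * x₃ = -(a • δ) - δ * x₁ - δ * x₂ := by rw [hx₃]; noncomm_ring
      _ = -(a • δ) - x₂ * δ - x₃ * δ := by rw [e1, e2]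
      _ = (-(a • (1 : A)) - x₂ - x₃) * δ := by noncomm_ring
      _ = x₁ * δ := by rw [← hx₁]
  refine ⟨e1, ?_⟩
  have s1 : SemiconjBy δ x₁ x₂ := e1
  have s2 : SemiconjBy δ x₂ x₃ := e2
  have s3 : SemiconjBy δ x₃ x₁ := e3
  have s := s3.mul_left (s2.mul_left s1)
  rw [pow_succ', pow_two]
  exact s.eq

/-- Let K be a field with char K = p > 0 and A a central division K-algebra with dim_K A = p ^ 2. If p =
2 or p = 3, then some element of A is not separable over K. -/
theorem result
    (K : Type u) [Field K] (p : ℕ) [Fact p.Prime] [CharP K p]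
    (A : Type v) [DivisionRing A] [Algebra K A] [Algebra.IsCentral K A] [FiniteDimensional K A]
    (hA : Module.finrank K A = p ^ 2) (hp : p = 2 ∨ p = 3) :
    ∃ v : A, ¬ IsSeparable K v := by
  classical
  by_contra hall
  push Not at hall
  have hpp : p.Prime := Fact.out
  obtain ⟨x, hx⟩ : ∃ x : A, x ∉ (algebraMap K A).range := by
    by_contra hcon
    push Not at hcon
    have h1 : Module.finrank K A ≤ 1 := finrank_le_one (1 : A) (fun w => by
      obtain ⟨c, hc⟩ := hcon w
      exact ⟨c, by rw [Algebra.smul_def, mul_one, hc]⟩)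
    rw [hA] at h1
    have : 2 ≤ p := hpp.two_le
    nlinarith
  have hdeg := natDegree_minpoly_eq K p A hA x hx
  have hint : IsIntegral K x := IsIntegral.of_finite K x
  have hfirr : Irreducible (minpoly K x) := minpoly.irreducible hint
  have hfmonic : (minpoly K x).Monic := minpoly.monic hint
  have hfne : minpoly K x ≠ 0 := hfmonic.ne_zero
  have hsep : (minpoly K x).Separable := hall x
  have hfx : Polynomial.aeval x (minpoly K x) = 0 := minpoly.aeval K x
  set f := minpoly K x with hf
  obtain ⟨φ, hφ⟩ : ∃ φ : AdjoinRoot f →ₐ[K] A,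
      ∀ q : Polynomial K, φ (AdjoinRoot.mk f q) = Polynomial.aeval x q := exists_lift K A x
  haveI : Fact (Irreducible f) := ⟨hfirr⟩
  have hφinj : Function.Injective φ := (φ : AdjoinRoot f →+* A).injective
  have hfinL : Module.finrank K (AdjoinRoot f) = p := by
    rw [(AdjoinRoot.powerBasis hfne).finrank, AdjoinRoot.powerBasis_dim hfne, hdeg]
  have key : (Polynomial.map (algebraMap K (AdjoinRoot f)) f).Splits → False := by
    intro hs
    haveI := galois_adjoinRoot K f hsep hs
    obtain ⟨v, hv⟩ := Groth.Agent.S15171.result K p A hA (AdjoinRoot f) hfinL φ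
    exact hv (hall v)
  have hfr : Polynomial.aeval (AdjoinRoot.root f) f = 0 := by
    rw [AdjoinRoot.aeval_eq, AdjoinRoot.mk_self]
  rcases hp with rfl | rfl
  · apply key
    exact Polynomial.Splits.of_natDegree_eq_two (x := AdjoinRoot.root f)
      (by rw [Polynomial.natDegree_map, hdeg]) (by rw [Polynomial.eval_map_algebraMap]; exact hfr)
  · obtain ⟨a, ha⟩ : ∃ a, a = f.coeff 2 := ⟨_, rfl⟩
    obtain ⟨b, hb⟩ : ∃ b, b = f.coeff 1 := ⟨_, rfl⟩
    obtain ⟨c, hc⟩ : ∃ c, c = f.coeff 0 := ⟨_, rfl⟩
    have h3 : f.coeff 3 = 1 := by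
      have := hfmonic.coeff_natDegree
      rwa [hdeg] at this
    have hF : ∀ y : A, Polynomial.aeval y f = y ^ 3 + a • y ^ 2 + b • y + c • (1 : A) := by
      intro y
      rw [Polynomial.aeval_eq_sum_range, hdeg]
      simp only [Finset.sum_range_succ, Finset.sum_range_zero, zero_add, pow_zero, pow_one]
      rw [h3, one_smul, ← ha, ← hb, ← hc]
      abel
    have h1 : x ^ 3 + a • x ^ 2 + b • x + c • (1 : A) = 0 := by rw [← hF]; exact hfx
    obtain ⟨d, hd⟩ : ∃ d, d * x ≠ x * d := by
      by_contra hcon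
      push Not at hcon
      exact hx (central_mem K A x hcon)
    obtain ⟨t, ht⟩ : ∃ t, t = d * x - x * d := ⟨_, rfl⟩
    have ht0 : t ≠ 0 := by rw [ht]; exact sub_ne_zero.2 hd
    obtain ⟨x₂, hx₂def⟩ : ∃ x₂, x₂ = t * x * t⁻¹ := ⟨_, rfl⟩
    have hx₂ : x₂ * t = t * x := by rw [hx₂def, mul_assoc, inv_mul_cancel₀ ht0, mul_one]
    obtain ⟨hF2t, hRt⟩ := conj_root a b c x d t x₂ ht hx₂ h1
    have h2 := (mul_eq_zero.1 hF2t).resolve_right ht0
    have hR := (mul_eq_zero.1 hRt).resolve_right ht0
    by_cases hcomm : x₂ * x = x * x₂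
    · obtain ⟨q, hq⟩ := mem_adjoin_of_commute K 3 A hA x x₂ hx hcomm.symm
      apply key
      have hφr : φ (AdjoinRoot.root f) = x := by
        have := hφ Polynomial.X
        rwa [AdjoinRoot.mk_X, Polynomial.aeval_X] at this
      have hφr₂ : φ (AdjoinRoot.mk f q) = x₂ := by rw [hφ, hq]
      have hfL : f.map (algebraMap K (AdjoinRoot f)) =
          Polynomial.X ^ 3 + Polynomial.C (algebraMap K (AdjoinRoot f) a) * Polynomial.X ^ 2
            + Polynomial.C (algebraMap K (AdjoinRoot f) b) * Polynomial.X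
            + Polynomial.C (algebraMap K (AdjoinRoot f) c) := by
        have h := hfmonic.as_sum
        rw [hdeg] at h
        have h' := congrArg (Polynomial.map (algebraMap K (AdjoinRoot f))) h
        rw [h']
        simp only [Finset.sum_range_succ, Finset.sum_range_zero, zero_add, pow_zero, pow_one,
          mul_one, Polynomial.map_add, Polynomial.map_mul, Polynomial.map_pow, Polynomial.map_X,
          Polynomial.map_C, ← ha, ← hb, ← hc]
        ring
      have hr0 : (AdjoinRoot.root f) ^ 3 + algebraMap K (AdjoinRoot f) a * (AdjoinRoot.root f) ^ 2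
          + algebraMap K (AdjoinRoot f) b * (AdjoinRoot.root f)
          + algebraMap K (AdjoinRoot f) c = 0 := by
        have := hfr
        rw [← Polynomial.eval_map_algebraMap, hfL] at this
        simpa using this
      have hfac : f.map (algebraMap K (AdjoinRoot f)) =
          (Polynomial.X - Polynomial.C (AdjoinRoot.root f)) *
            (Polynomial.C 1 * Polynomial.X ^ 2
              + Polynomial.C (AdjoinRoot.root f + algebraMap K (AdjoinRoot f) a) * Polynomial.X
              + Polynomial.C ((AdjoinRoot.root f) ^ 2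
                  + algebraMap K (AdjoinRoot f) a * AdjoinRoot.root f
                  + algebraMap K (AdjoinRoot f) b)) := by
        rw [hfL]
        have hc' : algebraMap K (AdjoinRoot f) c =
            -((AdjoinRoot.root f) ^ 3 + algebraMap K (AdjoinRoot f) a * (AdjoinRoot.root f) ^ 2
              + algebraMap K (AdjoinRoot f) b * (AdjoinRoot.root f)) := by
          linear_combination hr0
        rw [hc']
        simp only [map_add, map_mul, map_pow, map_neg, map_one]
        ring
      have hq₁ : (Polynomial.C 1 * Polynomial.X ^ 2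
              + Polynomial.C (AdjoinRoot.root f + algebraMap K (AdjoinRoot f) a) * Polynomial.X
              + Polynomial.C ((AdjoinRoot.root f) ^ 2
                  + algebraMap K (AdjoinRoot f) a * AdjoinRoot.root f
                  + algebraMap K (AdjoinRoot f) b) : Polynomial (AdjoinRoot f)).Splits := by
        refine Polynomial.Splits.of_natDegree_eq_two (x := AdjoinRoot.mk f q)
          (Polynomial.natDegree_quadratic one_ne_zero) ?_
        simp only [Polynomial.eval_add, Polynomial.eval_mul, Polynomial.eval_C, Polynomial.eval_X,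
          Polynomial.eval_pow, one_mul]
        apply hφinj
        rw [map_zero]
        have : φ ((AdjoinRoot.mk f q) ^ 2
            + (AdjoinRoot.root f + algebraMap K (AdjoinRoot f) a) * (AdjoinRoot.mk f q)
            + ((AdjoinRoot.root f) ^ 2 + algebraMap K (AdjoinRoot f) a * AdjoinRoot.root f
                + algebraMap K (AdjoinRoot f) b))
            = x₂ ^ 2 + x * x₂ + x ^ 2 + a • x + a • x₂ + b • (1 : A) := by
          simp only [map_add, map_mul, map_pow, map_smul, map_one, hφr, hφr₂,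
            Algebra.algebraMap_eq_smul_one, add_mul, smul_mul_assoc, one_mul]
          abel
        rw [this, hR]
      rw [hfac]
      exact Polynomial.splits_X_sub_C_mul_iff.2 hq₁
    · obtain ⟨hδ1, hδ3⟩ := wedderburn_core a b c x x₂ h1 h2 hR
      have hδ0 : x₂ * x - x * x₂ ≠ 0 := sub_ne_zero.2 hcomm
      obtain ⟨q, hq⟩ := sep_mem_adjoin_pow K 3 A (x₂ * x - x * x₂) (hall _)
      have hc1 : x * (x₂ * x - x * x₂) = (x₂ * x - x * x₂) * x := by
        have := commute_aeval x ((x₂ * x - x * x₂) ^ 3) hδ3.symm q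
        rwa [hq] at this
      have hxx : x * (x₂ * x - x * x₂) = x₂ * (x₂ * x - x * x₂) := by rw [hc1, hδ1]
      have := mul_right_cancel₀ hδ0 hxx
      apply hcomm
      rw [← this]

end Groth.Agent.S15184
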