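import Groth.Statements.S15185
import Mathlib
import Groth.Agent.Lib.RootPow_helper6
-- import your own Groth.Agent.* helpers here

set_option autoImplicit false
universe u v
open Polynomial
open BddFin

namespace Groth.Agent.S15185

/-- Let K be a field of characteristic p > 0 such that K contains all roots of unity (for every n ≥ 1
the polynomial X^n − 1 splits into linear factors over K), A a central division algebra of dimension
n ^ 2 over K, and write n = n' · p ^ m with n' prime to p; let N be the reduced norm of A. Consider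
the kernel of the homomorphism from the units of A modulo those of K to Kˣ/(Kˣ)^(p^m) induced by N.
Every element of finite order of that kernel has order dividing n': if x ≠ 0 in A has x ^ r in K for
some r ≥ 1 and N x is a (p ^ m)-th power of a non-zero element of K, then x ^ n' lies in K. -/
theorem result
    (K : Type u) [Field K] (p : ℕ) [Fact p.Prime] [CharP K p] (hK : ∀ n : ℕ, 0 < n → (X ^ n - 1 : K[X]).Splits)
    (A : Type v) [DivisionRing A] [Algebra K A] [Algebra.IsCentral K A] [FiniteDimensional K A]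
    (n n' m : ℕ) (hA : Module.finrank K A = n ^ 2) (hn : n = n' * p ^ m) (hn' : ¬ p ∣ n')
    (N : A →* K) (hN : CSAGal.IsRedNorm K A N)
    (x : A) (hx : x ≠ 0) (hxr : ∃ r : ℕ, 0 < r ∧ x ^ r ∈ (algebraMap K A).range)
    (hNx : ∃ b : K, b ≠ 0 ∧ N x = b ^ (p ^ m)) :
    x ^ n' ∈ (algebraMap K A).range := by

  classical
  obtain ⟨r, hr0, c, hc⟩ := hxr
  have hc0 : c ≠ 0 := by
    rintro rfl
    rw [map_zero] at hc
    exact hx (pow_eq_zero_iff hr0.ne' |>.1 hc.symm)
  have hint : IsIntegral K x := IsIntegral.of_finite K x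
  obtain ⟨f, hf⟩ : ∃ f, f = minpoly K x := ⟨_, rfl⟩
  have hdvd : f ∣ X ^ r - C c := by
    rw [hf]
    apply minpoly.dvd K x
    rw [map_sub, map_pow, aeval_X, aeval_C, ← hc, sub_self]
  obtain ⟨a, ha⟩ := Groth.Agent.Lib.RootPow.irreducible_factor_eq K r hr0 (hK r hr0) c hc0 f
    (hf ▸ minpoly.irreducible hint) (hf ▸ minpoly.monic hint) hdvd
  have hd : f.natDegree ∣ n := hf ▸ Groth.Agent.Lib.RootPow.natDegree_minpoly_dvd K A n hA x
  have hxd : x ^ f.natDegree = algebraMap K A a := by
    have h0 : aeval x f = 0 := hf ▸ minpoly.aeval K x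
    rw [ha, map_sub, map_pow, aeval_X, aeval_C, sub_eq_zero] at h0
    exact h0
  obtain ⟨q, hq⟩ := hd
  have hy : (x ^ n') ^ (p ^ m) = algebraMap K A (a ^ q) := by
    rw [← pow_mul, ← hn, hq, pow_mul, hxd, map_pow]
  obtain ⟨K', _, _, _, n₁, φ, hφ⟩ := hN
  obtain ⟨b, hb0, hNb⟩ := hNx
  -- n₁ = n
  have hn₁ : n₁ = n := by
    have h1 : Module.finrank K' (TensorProduct K K' A) = Module.finrank K A :=
      Module.finrank_baseChange
    have h2 := φ.toLinearEquiv.finrank_eq
    rw [h1, Module.finrank_matrix, Fintype.card_fin, Module.finrank_self, mul_one, hA, ← sq] at h2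
    exact (Nat.pow_left_injective (by norm_num : 2 ≠ 0) h2).symm
  subst hn₁
  haveI : CharP K' p := charP_of_injective_algebraMap (algebraMap K K').injective p
  haveI : CharP A p := charP_of_injective_algebraMap (algebraMap K A).injective p
  have hY : (φ (TensorProduct.tmul K (1 : K') (x ^ n'))) ^ (p ^ m) =
      algebraMap K' (Matrix (Fin n₁) (Fin n₁) K') (algebraMap K K' (a ^ q)) := by
    rw [← map_pow, Algebra.TensorProduct.tmul_pow, one_pow, hy]
    have : (TensorProduct.tmul K (1 : K') (algebraMap K A (a ^ q)) : TensorProduct K K' A) =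
        algebraMap K' (TensorProduct K K' A) (algebraMap K K' (a ^ q)) := by
      rw [Algebra.TensorProduct.algebraMap_apply, Algebra.algebraMap_self, RingHom.id_apply,
        Algebra.algebraMap_eq_smul_one (a ^ q), Algebra.algebraMap_eq_smul_one (a ^ q),
        TensorProduct.smul_tmul]
    rw [this, AlgEquiv.commutes]
  have hdet : (algebraMap K K' (N (x ^ n'))) ^ (p ^ m) = (algebraMap K K' (a ^ q)) ^ n₁ := by
    rw [hφ, ← Matrix.det_pow, hY, Matrix.algebraMap_eq_diagonal, Matrix.det_diagonal]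
    simp
  have hNy : N (x ^ n') = (b ^ (p ^ m)) ^ n' := by rw [map_pow, hNb]
  have hkey : (b ^ (p ^ m)) ^ n' = (a ^ q) ^ n' := by
    apply (algebraMap K K').injective
    apply iterateFrobenius_inj K' p m
    rw [iterateFrobenius_def, iterateFrobenius_def, ← hNy, hdet, hn, pow_mul, map_pow, map_pow,
      map_pow]
  -- ζ
  have hbp : b ^ (p ^ m) ≠ 0 := pow_ne_zero _ hb0
  obtain ⟨ζ, hζ⟩ : ∃ ζ : K, ζ = a ^ q / b ^ (p ^ m) := ⟨_, rfl⟩
  have hζn : ζ ^ n' = 1 := by
    rw [hζ, div_pow, ← hkey, div_self (pow_ne_zero _ hbp)]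
  have hn'0 : n' ≠ 0 := by
    rintro rfl
    exact hn' (dvd_zero p)
  have hpow : ∃ z : K, ζ = z ^ (p ^ m) := by
    rcases Nat.lt_or_ge 1 n' with h1 | h1
    · have hcop : Nat.Coprime (p ^ m) n' :=
        Nat.Coprime.pow_left m ((Nat.Prime.coprime_iff_not_dvd (Fact.out : p.Prime)).2 hn')
      obtain ⟨s, -, hs⟩ := Nat.exists_mul_mod_eq_one_of_coprime hcop h1
      refine ⟨ζ ^ s, ?_⟩
      rw [← pow_mul, mul_comm s, ← Nat.div_add_mod (p ^ m * s) n', hs, pow_add, pow_mul, hζn,
        one_pow, one_mul, pow_one]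
    · have : n' = 1 := by omega
      rw [this, pow_one] at hζn
      exact ⟨1, by rw [hζn, one_pow]⟩
  obtain ⟨z, hz⟩ := hpow
  have haq : a ^ q = (z * b) ^ (p ^ m) := by
    rw [mul_pow, ← hz, hζ, div_mul_cancel₀ _ hbp]
  have hcomm : Commute (x ^ n') (algebraMap K A (z * b)) := (Algebra.commutes _ _).symm
  have hzero : (x ^ n' - algebraMap K A (z * b)) ^ (p ^ m) = 0 := by
    rw [sub_pow_char_pow_of_commute (p := p) (n := m) hcomm, hy, haq, map_pow, sub_self]
  have := pow_eq_zero_iff (pow_ne_zero m (Fact.out : p.Prime).ne_zero) |>.1 hzero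
  exact ⟨z * b, (sub_eq_zero.1 this).symm⟩

end Groth.Agent.S15185
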