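import Groth.Statements.S15224
import Mathlib.Tactic
import Mathlib.Data.Nat.Choose.Sum

set_option autoImplicit false
open Finset
open W4c2rk2extmaps

namespace Groth.Agent.S15224

theorem q_id (k : ℕ) (hk : 2 ≤ k) :
    (∑ i ∈ Finset.Ico 1 k, (-1 : ℚ) ^ (i - 1) * ((Nat.factorial i : ℚ)⁻¹ * (Nat.factorial (k - i) : ℚ)⁻¹))
      + (-1 : ℚ) ^ (k - 1) * (Nat.factorial k : ℚ)⁻¹ = (Nat.factorial k : ℚ)⁻¹ := by
  have h0 : (∑ i ∈ Finset.range (k + 1), ((-1 : ℤ) ^ i * (k.choose i : ℤ))) = 0 := by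
    rw [Int.alternating_sum_range_choose]; simp; omega
  have h1 : (∑ i ∈ Finset.range (k + 1), ((-1 : ℚ) ^ i * (k.choose i : ℚ))) = 0 := by
    have := congrArg (fun z : ℤ => (z : ℚ)) h0
    simpa using this
  rw [Finset.sum_range_succ, Finset.range_eq_Ico, Finset.sum_eq_sum_Ico_succ_bot (by omega)] at h1
  simp only [pow_zero, Nat.choose_zero_right, Nat.cast_one, mul_one, zero_add, Nat.choose_self] at h1
  have hk! : (Nat.factorial k : ℚ) ≠ 0 := by exact_mod_cast Nat.factorial_ne_zero k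
  have h2 : ∀ i ∈ Finset.Ico 1 k, (-1 : ℚ) ^ (i - 1) * ((Nat.factorial i : ℚ)⁻¹ * (Nat.factorial (k - i) : ℚ)⁻¹)
      = -((Nat.factorial k : ℚ)⁻¹) * ((-1 : ℚ) ^ i * (k.choose i : ℚ)) := by
    intro i hi
    rw [Finset.mem_Ico] at hi
    have hi! : (Nat.factorial i : ℚ) ≠ 0 := by exact_mod_cast Nat.factorial_ne_zero i
    have hki! : (Nat.factorial (k - i) : ℚ) ≠ 0 := by exact_mod_cast Nat.factorial_ne_zero (k - i)
    rw [Nat.cast_choose ℚ hi.2.le]
    obtain ⟨j, rfl⟩ : ∃ j, i = j + 1 := ⟨i - 1, by omega⟩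
    simp only [Nat.add_sub_cancel, pow_succ]
    field_simp
  rw [Finset.sum_congr rfl h2, ← Finset.mul_sum]
  have h3 : ∑ i ∈ Finset.Ico 1 k, ((-1 : ℚ) ^ i * (k.choose i : ℚ)) = -1 - (-1) ^ k := by
    linarith
  rw [h3]
  obtain ⟨j, rfl⟩ : ∃ j, k = j + 1 := ⟨k - 1, by omega⟩
  simp only [Nat.add_sub_cancel, pow_succ]
  ring


/-- In a commutative ℚ-algebra R let y be an element and put c_k = y^k / k! for every k. Then for k ≥ 2,
Σ_{i=1}^{k-1} (-1)^(i-1) c_i c_(k-i) + (-1)^(k-1) c_k = c_k. (The published statement concerns the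
Chern classes of a specific vector bundle on a Jacobian, which are of the form c_k = (4θ)^k / k!;
the printed argument establishes the identity for every sequence of this form in a commutative
ℚ-algebra, which is the form stated here.) -/
theorem result (R : Type*) [CommRing R] [Algebra ℚ R] (y : R)
    (c : ℕ → R) (hc : ∀ k : ℕ, c k = ((Nat.factorial k : ℚ)⁻¹) • y ^ k)
    (k : ℕ) (hk : 2 ≤ k) :
    (∑ i ∈ Finset.Ico 1 k, (-1 : R) ^ (i - 1) * c i * c (k - i)) + (-1 : R) ^ (k - 1) * c k = c k := by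
  have hq := q_id k hk
  have hterm : ∀ i ∈ Finset.Ico 1 k, (-1 : R) ^ (i - 1) * c i * c (k - i)
      = ((-1 : ℚ) ^ (i - 1) * ((Nat.factorial i : ℚ)⁻¹ * (Nat.factorial (k - i) : ℚ)⁻¹)) • y ^ k := by
    intro i hi
    rw [Finset.mem_Ico] at hi
    have hik : i + (k - i) = k := by omega
    have hy : y ^ k = y ^ i * y ^ (k - i) := by rw [← pow_add, hik]
    rw [hc i, hc (k - i), hy]
    simp only [Algebra.smul_def, map_mul, map_pow, map_neg, map_one]
    ring
  rw [Finset.sum_congr rfl hterm, ← Finset.sum_smul]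
  have hlast : (-1 : R) ^ (k - 1) * c k = ((-1 : ℚ) ^ (k - 1) * (Nat.factorial k : ℚ)⁻¹) • y ^ k := by
    rw [hc k]
    simp only [Algebra.smul_def, map_mul, map_pow, map_neg, map_one]
    ring
  rw [hlast, ← add_smul, hq, hc k]

end Groth.Agent.S15224
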