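import Groth.Statements.S15226
import Mathlib
import Groth.Agent.Lib.OmegaUniv2_helper4
import Groth.Agent.Lib.OmegaFSmooth_helper4
import Groth.Agent.Lib.FSmoothIff_helper7
import Groth.Agent.Lib.Horrocks5_helper9
import Groth.Agent.Lib.TensBasis4_helper9
import Groth.Agent.Lib.Higgs1_helper9

set_option autoImplicit false
open CategoryTheory CategoryTheory.Limits AlgebraicGeometry MonoidalCategory
open VBCurve

namespace Groth.Agent.S15226

/-- Let X be a smooth proper integral curve over ℂ of genus at least 2 which is non-hyperelliptic, K a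
module isomorphic to its sheaf of differentials, and E a slope-stable finite locally free module of
rank 2 and degree 0 or 1 which is very stable: every O_X-linear α : E → E ⊗ K with α ∘ α = 0 (as a
map E → (E ⊗ K) ⊗ K) vanishes. Let L be an invertible module occurring as a line subbundle of E of
maximal degree (a monomorphism L → E with invertible quotient exists, and every invertible module
mapping monomorphically into E has degree at most deg L). Then for every non-zero s : L → E and
every non-zero t : E → L ⊗ K the composite L → E → L ⊗ K is non-zero; in other words the pairing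
Hom(L, E) × Hom(E, L ⊗ K) → Hom(L, L ⊗ K) ≅ H^0(K) vanishes on no pair of non-zero elements. -/
theorem result
    (X : Scheme.{0}) [X.Over (Spec (CommRingCat.of ℂ))] [IsIntegral X]
    [IsProper (X ↘ Spec (CommRingCat.of ℂ))] [Smooth (X ↘ Spec (CommRingCat.of ℂ))]
    (hdim : topologicalKrullDim X = 1) (hg : 2 ≤ Curv2.genus ℂ X)
    (hnh : ∀ M : X.Modules, PicF.IsInvertible M → Curv2.deg ℂ X M 1 = 2 →
      Module.finrank ℂ (Coh.HH X M 0) ≤ 1)
    (K : X.Modules) (eK : K ≅ Omega.sheaf (X ↘ Spec (CommRingCat.of ℂ)))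
    (E : X.Modules) (hE : FlatMod.IsFinLocFreeOfRank 2 E)
    (hdegE : Curv2.deg ℂ X E 2 = 0 ∨ Curv2.deg ℂ X E 2 = 1)
    (hst : ModFun.IsSlopeStable ℂ X E 2)
    (hvs : ∀ α : E ⟶ CohB1.tensorMod E K,
        α ≫ (CohB1.sheafifyMod X).map
          (MonoidalCategoryStruct.whiskerRight (C := CohB1.PMod X) α.val (CohB1.toPMod K)) = 0 → α = 0)
    (L : X.Modules) (hL : PicF.IsInvertible L)
    (hmax : ∃ j : L ⟶ E, Mono j ∧ PicF.IsInvertible (cokernel j) ∧
      ∀ (M : X.Modules) (i : M ⟶ E), PicF.IsInvertible M → Mono i → Curv2.deg ℂ X M 1 ≤ Curv2.deg ℂ X L 1)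
    (s : L ⟶ E) (hs : s ≠ 0) (t : E ⟶ CohB1.tensorMod L K) (ht : t ≠ 0) :
    s ≫ t ≠ 0 := by
  intro hst0
  haveI : IsLocallyNoetherian X :=
    LocallyOfFiniteType.isLocallyNoetherian (X ↘ Spec (CommRingCat.of ℂ))
  -- the sheaf of differentials is finite locally free
  have hsm := (Groth.Agent.Lib.FSmoothIffH7.smooth_iff (X ↘ Spec (CommRingCat.of ℂ))).1 inferInstance
  haveI : LocallyOfFinitePresentation (X ↘ Spec (CommRingCat.of ℂ)) := hsm.1
  have hΩ : FlatMod.IsFinLocFree (Omega.sheaf (X ↘ Spec (CommRingCat.of ℂ))) :=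
    Groth.Agent.Lib.OmegaFSmoothH4.main5018 _ hsm.2 _ _
      (Groth.Agent.Lib.OmegaUniv2H4.main5005 (X ↘ Spec (CommRingCat.of ℂ)))
  have hK : FlatMod.IsFinLocFree K := fun x => by
    obtain ⟨U, n, hxU, ⟨α⟩⟩ := hΩ x
    exact ⟨U, n, hxU, ⟨(Scheme.Modules.restrictFunctor U.ι).mapIso eK ≪≫ α⟩⟩
  have hE' : FlatMod.IsFinLocFree E := TensBasis.isFinLocFree_of_rank hE
  haveI hsm : Mono s := Groth.Agent.Horrocks.mono_of_ne_zero_flf hL hE' s hs
  let sK : (Groth.Agent.TensInv.tR K).obj L ⟶ (Groth.Agent.TensInv.tR K).obj E :=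
    (Groth.Agent.TensInv.tR K).map s
  let t' : E ⟶ (Groth.Agent.TensInv.tR K).obj L := t
  haveI hsK : Mono sK := TensBasis.mono_tR hK s
  have hst1 : sK ≫ (Groth.Agent.TensInv.tR K).map t' = 0 := by
    show (Groth.Agent.TensInv.tR K).map s ≫ (Groth.Agent.TensInv.tR K).map t' = 0
    rw [← Functor.map_comp]
    show (Groth.Agent.TensInv.tR K).map (s ≫ t) = 0
    rw [hst0, Functor.map_zero]
  have hα : (t' ≫ sK) ≫ (Groth.Agent.TensInv.tR K).map (t' ≫ sK) = 0 := by
    rw [Functor.map_comp, Category.assoc, ← Category.assoc sK, hst1, zero_comp, comp_zero]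
  have h0 : t' ≫ sK = 0 := hvs (t' ≫ sK) hα
  apply ht
  show t' = 0
  rw [← cancel_mono sK, h0, zero_comp]

end Groth.Agent.S15226
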