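import Groth.Statements.S15229
import Mathlib.Tactic
import Groth.Agent.S15224

set_option autoImplicit false
open Finset
open W4c2rk2extmaps

namespace Groth.Agent.S15229

/-- In a commutative ℚ-algebra R let θ, η be elements and g a natural number, and put c_k = (4θ)^k / k!.
Suppose θ^(g+1) = 0 and that η satisfies the relation η^(g+1) = Σ_{i=1}^{g+1} (-1)^(i-1) c_i
η^(g+1-i). Then η^(g+k) θ^(g-k) = c_k η^g θ^(g-k) for every 1 ≤ k ≤ g. (The published statement
concerns the first Chern class η of the tautological line bundle on a projective bundle P(U) over a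
g-dimensional Jacobian, with c_k the Chern classes of U, which are (4θ)^k / k!; there θ^(g+1)
vanishes for dimension reasons and the displayed relation is the projective-bundle relation, and the
printed argument derives the identity from exactly these three inputs, which is the form stated
here.) -/
theorem result (R : Type*) [CommRing R] [Algebra ℚ R]
    (θ η : R) (g : ℕ) (c : ℕ → R) (hc : ∀ k : ℕ, c k = ((Nat.factorial k : ℚ)⁻¹) • ((4 : R) * θ) ^ k)
    (hθ : θ ^ (g + 1) = 0)
    (hrel : η ^ (g + 1) = ∑ i ∈ Finset.Ico 1 (g + 2), (-1 : R) ^ (i - 1) * c i * η ^ (g + 1 - i))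
    (k : ℕ) (hk1 : 1 ≤ k) (hkg : k ≤ g) :
    η ^ (g + k) * θ ^ (g - k) = c k * η ^ g * θ ^ (g - k) := by
  induction k using Nat.strong_induction_on with
  | _ k ih =>
  set T : R := η ^ g * θ ^ (g - k) with hT
  let f : ℕ → R := fun i => (-1 : R) ^ (i - 1) * c i * η ^ (g + 1 - i) * (η ^ (k - 1) * θ ^ (g - k))
  have hmul : η ^ (g + k) * θ ^ (g - k) = ∑ i ∈ Finset.Ico 1 (g + 2), f i := by
    rw [← Finset.sum_mul, ← hrel, ← mul_assoc, ← pow_add]
    congr 2; omega
  have hcform : ∀ i, c i = (algebraMap ℚ R ((Nat.factorial i : ℚ)⁻¹) * (4 : R) ^ i) * θ ^ i := by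
    intro i; rw [hc i, mul_pow, Algebra.smul_def]; ring
  -- tail terms vanish
  have htail : ∀ i ∈ Finset.Ico (k + 1) (g + 2), f i = 0 := by
    intro i hi
    rw [Finset.mem_Ico] at hi
    have hz : θ ^ i * θ ^ (g - k) = 0 := by
      rw [← pow_add]
      have : i + (g - k) = (g + 1) + (i - k - 1) := by omega
      rw [this, pow_add, hθ, zero_mul]
    show (-1 : R) ^ (i - 1) * c i * η ^ (g + 1 - i) * (η ^ (k - 1) * θ ^ (g - k)) = 0
    rw [hcform i]
    have : (-1 : R) ^ (i - 1) * (algebraMap ℚ R ((Nat.factorial i : ℚ)⁻¹) * (4 : R) ^ i * θ ^ i) *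
        η ^ (g + 1 - i) * (η ^ (k - 1) * θ ^ (g - k))
        = (-1 : R) ^ (i - 1) * (algebraMap ℚ R ((Nat.factorial i : ℚ)⁻¹) * (4 : R) ^ i) *
        η ^ (g + 1 - i) * η ^ (k - 1) * (θ ^ i * θ ^ (g - k)) := by ring
    rw [this, hz, mul_zero]
  -- middle term
  have hmid : f k = (-1 : R) ^ (k - 1) * c k * T := by
    show (-1 : R) ^ (k - 1) * c k * η ^ (g + 1 - k) * (η ^ (k - 1) * θ ^ (g - k)) = _
    have : η ^ (g + 1 - k) * η ^ (k - 1) = η ^ g := by
      rw [← pow_add]; congr 1; omega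
    rw [hT, ← this]; ring
  -- head terms
  have hhead : ∀ i ∈ Finset.Ico 1 k, f i = (-1 : R) ^ (i - 1) * c i * c (k - i) * T := by
    intro i hi
    rw [Finset.mem_Ico] at hi
    have hIH := ih (k - i) (by omega) (by omega) (by omega)
    have h1 : θ ^ (g - (k - i)) = θ ^ i * θ ^ (g - k) := by
      rw [← pow_add]; congr 1; omega
    have h2 : η ^ (g + 1 - i) * η ^ (k - 1) = η ^ (g + (k - i)) := by
      rw [← pow_add]; congr 1; omega
    show (-1 : R) ^ (i - 1) * c i * η ^ (g + 1 - i) * (η ^ (k - 1) * θ ^ (g - k)) = _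
    rw [hcform i]
    set a : R := algebraMap ℚ R ((Nat.factorial i : ℚ)⁻¹) * (4 : R) ^ i with ha
    calc (-1 : R) ^ (i - 1) * (a * θ ^ i) * η ^ (g + 1 - i) * (η ^ (k - 1) * θ ^ (g - k))
        = (-1 : R) ^ (i - 1) * a * ((η ^ (g + 1 - i) * η ^ (k - 1)) * (θ ^ i * θ ^ (g - k))) := by ring
      _ = (-1 : R) ^ (i - 1) * a * (η ^ (g + (k - i)) * θ ^ (g - (k - i))) := by rw [h2, h1]
      _ = (-1 : R) ^ (i - 1) * a * (c (k - i) * η ^ g * θ ^ (g - (k - i))) := by rw [hIH]
      _ = (-1 : R) ^ (i - 1) * a * (c (k - i) * η ^ g * (θ ^ i * θ ^ (g - k))) := by rw [h1]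
      _ = (-1 : R) ^ (i - 1) * (a * θ ^ i) * c (k - i) * T := by rw [hT]; ring
  rw [hmul, ← Finset.sum_Ico_consecutive f (show 1 ≤ k from hk1) (show k ≤ g + 2 by omega),
    Finset.sum_eq_sum_Ico_succ_bot (show k < g + 2 by omega), Finset.sum_eq_zero htail, add_zero,
    Finset.sum_congr rfl hhead, hmid, ← Finset.sum_mul, ← add_mul]
  have hsum : (∑ i ∈ Finset.Ico 1 k, (-1 : R) ^ (i - 1) * c i * c (k - i)) + (-1 : R) ^ (k - 1) * c k
      = c k := by
    rcases Nat.lt_or_ge k 2 with h | h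
    · have : k = 1 := by omega
      subst this
      simp
    · exact Groth.Agent.S15224.result R ((4 : R) * θ) c hc k h
  rw [hsum, hT, mul_assoc]

end Groth.Agent.S15229
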