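import Groth.Statements.S15233
import Mathlib.Tactic

set_option autoImplicit false
universe u
open CategoryTheory CategoryTheory.Limits Opposite
open CohSite

namespace Groth.Agent.S15233

/-- Let C be a small category with a Grothendieck topology J, and let B be a class of objects forming a
prebasis: for every object V and every covering sieve S of V, the arrows of S whose domain lies in B
generate a covering sieve of V. If F is a presheaf of abelian groups on C such that F(U) = 0 for
every object U in B, then the sheafification of F is zero. -/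
theorem result {C : Type u} [SmallCategory C] (J : GrothendieckTopology C)
    (B : ObjectProperty C)
    (hB : ∀ (V : C) (S : Sieve V), S ∈ J V →
      Sieve.generate (fun (U : C) => {g : U ⟶ V | S.arrows g ∧ B U}) ∈ J V)
    (F : Cᵒᵖ ⥤ AddCommGrpCat.{u}) (hF : ∀ U : C, B U → IsZero (F.obj (op U))) :
    IsZero ((presheafToSheaf J AddCommGrpCat.{u}).obj F) := by
  rw [IsZero.iff_id_eq_zero]
  apply ((sheafificationAdjunction J AddCommGrpCat.{u}).homEquiv F _).injective
  -- any two maps from `F` to a sheaf are equal
  have key : ∀ (G : Sheaf J AddCommGrpCat.{u}) (φ ψ : F ⟶ G.obj), φ = ψ := by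
    intro G φ ψ
    ext V : 2
    obtain ⟨V⟩ := V
    let S' : J.Cover V := ⟨Sieve.generate (fun (U : C) => {g : U ⟶ V | (⊤ : Sieve V).arrows g ∧ B U}),
      hB V ⊤ (J.top_mem V)⟩
    refine Presheaf.IsSheaf.hom_ext G.property S' _ _ ?_
    intro I
    obtain ⟨U, h, g, ⟨-, hU⟩, hfac⟩ := I.hf
    have hz : F.map I.f.op = 0 := by
      rw [← hfac, op_comp, F.map_comp]
      have : F.map g.op = 0 := (hF U hU).eq_of_tgt _ _
      rw [this, zero_comp]
    have h1 : φ.app (op V) ≫ G.obj.map I.f.op = 0 := by
      rw [← φ.naturality, hz, zero_comp]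
    have h2 : ψ.app (op V) ≫ G.obj.map I.f.op = 0 := by
      rw [← ψ.naturality, hz, zero_comp]
    rw [h1, h2]
  exact key _ _ _

end Groth.Agent.S15233
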