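import Groth.Statements.S15235
import Mathlib.Tactic
import Mathlib.CategoryTheory.CofilteredSystem
import Mathlib.CategoryTheory.Limits.Types.Images

set_option autoImplicit false
universe u
open CategoryTheory Opposite
open HomAlg3

namespace Groth.Agent.S15235

open CategoryTheory Opposite

section
variable (F : ℕᵒᵖ ⥤ Type u)

/-- transition map -/
noncomputable def T (m n : ℕ) (h : n ≤ m) : F.obj (op m) → F.obj (op n) :=
  fun x => F.map (homOfLE h).op x

theorem T_comp (m n k : ℕ) (h : n ≤ m) (h' : k ≤ n) (x : F.obj (op m)) :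
    T F n k h' (T F m n h x) = T F m k (h'.trans h) x := by
  unfold T
  rw [← Functor.map_comp_apply]
  rfl

theorem T_id (n : ℕ) (x : F.obj (op n)) : T F n n le_rfl x = x := by
  unfold T
  have : (homOfLE (le_refl n)).op = 𝟙 (op n) := rfl
  rw [this, Functor.map_id_apply]

theorem map_eq_T {m n : ℕ} (f : (op m : ℕᵒᵖ) ⟶ op n) (x : F.obj (op m)) :
    F.map f x = T F m n (leOfHom f.unop) x := by
  unfold T
  have : f = (homOfLE (leOfHom f.unop)).op := Subsingleton.elim _ _
  rw [← this]

theorem T_surj (j₀ : ℕ)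
    (hs : ∀ j : ℕ, j₀ ≤ j → Function.Surjective (T F (j + 1) j (Nat.le_succ j)))
    (n : ℕ) (hn : j₀ ≤ n) (m : ℕ) (h : n ≤ m) : Function.Surjective (T F m n h) := by
  induction m, h using Nat.le_induction with
  | base => intro x; exact ⟨x, T_id F n x⟩
  | succ m h ih =>
    intro x
    obtain ⟨y, hy⟩ := ih x
    obtain ⟨z, hz⟩ := hs m (hn.trans h) y
    exact ⟨z, by rw [← T_comp F (m + 1) m n (Nat.le_succ m) h, hz, hy]⟩

theorem T_inj (j₀ : ℕ)
    (hs : ∀ j : ℕ, j₀ ≤ j → Function.Injective (T F (j + 1) j (Nat.le_succ j)))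
    (n : ℕ) (hn : j₀ ≤ n) (m : ℕ) (h : n ≤ m) : Function.Injective (T F m n h) := by
  induction m, h using Nat.le_induction with
  | base => intro x y hxy; rwa [T_id, T_id] at hxy
  | succ m h ih =>
    intro x y hxy
    rw [← T_comp F (m + 1) m n (Nat.le_succ m) h, ← T_comp F (m + 1) m n (Nat.le_succ m) h] at hxy
    exact hs m (hn.trans h) (ih hxy)

theorem sec_T (s : F.sections) (m n : ℕ) (h : n ≤ m) : T F m n h (s.1 (op m)) = s.1 (op n) :=
  s.2 (homOfLE h).op

end


/-- Let (G_j) be an inverse system of abelian groups indexed by the natural numbers, with transition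
maps G_{j+1} → G_j, and let j₀ be a natural number such that the transition map G_{j+1} → G_j is
surjective for every j ≥ j₀. Then: (a) the system satisfies the Mittag-Leffler condition; (b) the
evaluation map from the inverse limit (realised as the set of compatible families) to G_{j₀} is
surjective; (c) if in addition the transition maps G_{j+1} → G_j are injective for every j ≥ j₀,
that evaluation map is bijective. (The published statement indexes the system by the negative
integers and assumes j₀ ≥ 1; this row indexes it by the natural numbers and allows j₀ = 0, which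
changes nothing.) -/
theorem result (G : ℕᵒᵖ ⥤ AddCommGrpCat.{u})
    (j₀ : ℕ) (hs : ∀ j : ℕ, j₀ ≤ j → Function.Surjective (G.map (homOfLE (Nat.le_succ j)).op).hom) :
    (G ⋙ forget AddCommGrpCat.{u}).IsMittagLeffler ∧
      Function.Surjective (fun s : (G ⋙ forget AddCommGrpCat.{u}).sections => s.1 (op j₀)) ∧
      ((∀ j : ℕ, j₀ ≤ j → Function.Injective (G.map (homOfLE (Nat.le_succ j)).op).hom) →
        Function.Bijective (fun s : (G ⋙ forget AddCommGrpCat.{u}).sections => s.1 (op j₀))) := by
  set F : ℕᵒᵖ ⥤ Type u := G ⋙ forget AddCommGrpCat.{u} with hFdef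
  have hs' : ∀ j : ℕ, j₀ ≤ j → Function.Surjective (T F (j + 1) j (Nat.le_succ j)) := fun j hj => hs j hj
  have hsurj : Function.Surjective (fun s : F.sections => s.1 (op j₀)) := by
    intro a
    let sh : ℕᵒᵖ ⥤ ℕᵒᵖ := (Monotone.functor (f := fun n : ℕ => j₀ + n)
      (fun a b h => Nat.add_le_add_left h j₀)).op
    let F' : ℕᵒᵖ ⥤ Type u := sh ⋙ F
    have hF' : ∀ n, Function.Surjective (F'.map (homOfLE (Nat.le_succ n)).op) := by
      intro n x
      obtain ⟨y, hy⟩ := hs' (j₀ + n) (Nat.le_add_right j₀ n) x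
      refine ⟨y, ?_⟩
      rw [← hy]
      exact map_eq_T F _ y
    obtain ⟨t, ht⟩ := Limits.Types.surjective_π_app_zero_of_surjective_map
      (Limits.Types.limitConeIsLimit F') hF' a
    have ht' : ∀ (m n : ℕ) (h : n ≤ m),
        T F (j₀ + m) (j₀ + n) (Nat.add_le_add_left h j₀) (t.1 (op m)) = t.1 (op n) := by
      intro m n h
      have := t.2 (homOfLE h).op
      rw [← this]
      exact (map_eq_T F _ _).symm
    refine ⟨⟨fun j => T F (j₀ + j.unop) j.unop (Nat.le_add_left _ _) (t.1 (op j.unop)), ?_⟩, ?_⟩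
    · intro j j' f
      obtain ⟨m⟩ := j
      obtain ⟨n⟩ := j'
      have hnm : n ≤ m := leOfHom f.unop
      show F.map f (T F (j₀ + m) m _ (t.1 (op m))) = T F (j₀ + n) n _ (t.1 (op n))
      rw [map_eq_T, T_comp, ← ht' m n hnm, T_comp]
    · show T F (j₀ + j₀) j₀ _ (t.1 (op j₀)) = a
      rw [← ht]
      exact ht' j₀ 0 (Nat.zero_le j₀)
  refine ⟨?_, ?_, ?_⟩
  · -- Mittag-Leffler
    intro j
    obtain ⟨n⟩ := j
    refine ⟨op (max n j₀), (homOfLE (le_max_left n j₀)).op, ?_⟩
    intro k g
    obtain ⟨m⟩ := k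
    rintro x ⟨y, rfl⟩
    have hnm : n ≤ m := leOfHom g.unop
    obtain ⟨z, hz⟩ := T_surj F j₀ hs' (max n j₀) (le_max_right n j₀) (max m (max n j₀))
      (le_max_right m (max n j₀)) y
    refine ⟨T F (max m (max n j₀)) m (le_max_left m (max n j₀)) z, ?_⟩
    rw [map_eq_T, map_eq_T, T_comp, ← hz, T_comp]
  · exact hsurj
  · -- bijectivity
    intro hi
    have hi' : ∀ j : ℕ, j₀ ≤ j → Function.Injective (T F (j + 1) j (Nat.le_succ j)) := fun j hj => hi j hj
    refine ⟨?_, ?_⟩
    · intro s s' hss
      apply Subtype.ext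
      funext j
      obtain ⟨n⟩ := j
      have hss' : s.1 (op j₀) = s'.1 (op j₀) := hss
      have h1 : s.1 (op (max n j₀)) = s'.1 (op (max n j₀)) := by
        apply T_inj F j₀ hi' j₀ le_rfl (max n j₀) (le_max_right n j₀)
        rw [sec_T, sec_T, hss']
      rw [← sec_T F s (max n j₀) n (le_max_left n j₀), ← sec_T F s' (max n j₀) n (le_max_left n j₀), h1]
    · exact hsurj

end Groth.Agent.S15235
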