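import Groth.Statements.S15245
import Groth.Agent.Lib.RootDInv_helper8
import Groth.Agent.Lib.RootDBaseZ_helper8

set_option autoImplicit false
universe u
open CategoryTheory AlgebraicGeometry
open RedSub

namespace Groth.Agent.S15245

/-- Let Φ be a finite reduced root system (a reduced root pairing over ℤ on a finite index set) with a
base b, w an element of its Weyl group, given as the product of the reflections along a word l and
acting on the roots, and γ a positive root. Writing ℓ(u) for the number of positive roots a with
u(a) negative, one has ℓ(w) < ℓ(σ_γ w) if and only if w⁻¹(γ) is positive. (Here the length is taken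
as the number of inverted positive roots.) -/
theorem result {idx M N : Type}
    [AddCommGroup M] [AddCommGroup N] [Finite idx]
    (P : RootPairing idx ℤ M N) [P.IsReduced] (b : P.Base) (l : List idx) (c : idx)
    (hc : c ∈ RedSub.posRoots P b) :
    Set.ncard {a : idx | a ∈ RedSub.posRoots P b ∧ RedSub.wordPerm P l a ∈ RedSub.negRoots P b} <
        Set.ncard {a : idx | a ∈ RedSub.posRoots P b ∧
          (P.reflectionPerm c * RedSub.wordPerm P l) a ∈ RedSub.negRoots P b} ↔
      (RedSub.wordPerm P l)⁻¹ c ∈ RedSub.posRoots P b := by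
  have hΔ := Groth.Agent.Lib.RootDBaseZ_helper8.isSimpleSys_of_base b
  have hnegiff : ∀ k : idx, k ∈ RedSub.negRoots P b ↔ k ∉ RootD.posOf P (b.support : Set idx) :=
    fun k => ⟨fun h => Groth.Agent.Lib.RootDBaseZ_helper8.not_mem_posOf_of_neg_mem hΔ h,
      fun h => Groth.Agent.Lib.RootDBaseZ_helper8.neg_mem_of_not_mem_posOf hΔ h⟩
  have h := Groth.Agent.Lib.RootDInv_helper8.ncard_inv_lt_iff hΔ l hc
  have hS1 : {a : idx | a ∈ RedSub.posRoots P b ∧ RedSub.wordPerm P l a ∈ RedSub.negRoots P b} =
      {a | a ∈ RootD.posOf P (b.support : Set idx) ∧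
        Groth.Agent.Lib.RootDExch_helper8.wperm P l a ∉ RootD.posOf P (b.support : Set idx)} := by
    ext a
    simp only [Set.mem_ofPred_eq]
    rw [hnegiff]
    rfl
  have hS2 : {a : idx | a ∈ RedSub.posRoots P b ∧
        (P.reflectionPerm c * RedSub.wordPerm P l) a ∈ RedSub.negRoots P b} =
      {a | a ∈ RootD.posOf P (b.support : Set idx) ∧
        (P.reflectionPerm c * Groth.Agent.Lib.RootDExch_helper8.wperm P l) a ∉
          RootD.posOf P (b.support : Set idx)} := by
    ext a
    simp only [Set.mem_ofPred_eq]
    rw [hnegiff]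
    rfl
  rw [hS1, hS2]
  exact h

end Groth.Agent.S15245
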