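import Groth.Statements.S1526
import Groth.Agent.Lib.ZeroDimAcyc_helper9

set_option autoImplicit false
universe u
open CategoryTheory CategoryTheory.Limits AlgebraicGeometry
open Variety

namespace Groth.Agent.S1526

/-- On a proper scheme over a field, a coherent module whose support has dimension at most zero has
vanishing cohomology in all positive degrees. -/
theorem result (k : Type u) [Field k] (X : Scheme.{u}) [X.Over (Spec (CommRingCat.of k))] [IsProper (X ↘ (Spec (CommRingCat.of k)))]
    (F : X.Modules) (hF : Coh.IsCoh F) (hsupp : topologicalKrullDim (CohB1.support F) ≤ 0)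
    (i : ℕ) (hi : 1 ≤ i) : Subsingleton (Coh.HH X F i) := by
  haveI : IsLocallyNoetherian X :=
    LocallyOfFiniteType.isLocallyNoetherian (X ↘ (Spec (CommRingCat.of k)))
  haveI : SheafOfModules.IsFiniteType (R := X.ringCatSheaf) F := hF.2
  have hcl : IsClosed (CohB1.support F) := SuppFT.isClosed_support F
  have hmax := Order.krullDim_nonpos_iff_forall_isMax.mp hsupp
  have hspec : ∀ {a b : CohB1.support F}, a ⤳ b → a = b := by
    intro a b hab
    let Za : TopologicalSpace.IrreducibleCloseds (CohB1.support F) :=
      ⟨closure {a}, isIrreducible_singleton.closure, isClosed_closure⟩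
    let Zb : TopologicalSpace.IrreducibleCloseds (CohB1.support F) :=
      ⟨closure {b}, isIrreducible_singleton.closure, isClosed_closure⟩
    have hle : Zb ≤ Za := by
      intro z hz
      exact (specializes_iff_closure_subset.mp hab) hz
    have hle' : Za ≤ Zb := hmax Zb hle
    have hba : b ⤳ a := specializes_iff_closure_subset.mpr (fun z hz => hle' hz)
    exact (hab.antisymm hba).eq
  refine ZeroDimAcyc.HH_subsingleton_of_zero_dim X F hF ?_ i hi
  intro x hx
  rw [← closure_eq_iff_isClosed]
  apply Set.Subset.antisymm _ subset_closure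
  intro y hy
  have hxy : x ⤳ y := specializes_iff_mem_closure.mpr hy
  have hyZ : y ∈ CohB1.support F := hcl.closure_subset_iff.mpr (Set.singleton_subset_iff.mpr hx) hy
  have h1 : (⟨x, hx⟩ : CohB1.support F) ⤳ ⟨y, hyZ⟩ := (subtype_specializes_iff _ _).mpr hxy
  have h2 := hspec h1
  exact (congrArg Subtype.val h2).symm

end Groth.Agent.S1526
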