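import Groth.Statements.S1529
import Mathlib
-- import your own Groth.Agent.* helpers here

set_option autoImplicit false
universe u
open CategoryTheory CategoryTheory.Limits AlgebraicGeometry

open Variety

namespace Groth.Agent.S1529

/-- A scheme of finite type over a field whose underlying topological space has Krull dimension at most
zero is affine, and its structure morphism is finite. -/
theorem result (k : Type u) [Field k] (X : Scheme.{u}) [X.Over (Spec (CommRingCat.of k))]
    [LocallyOfFiniteType (X ↘ (Spec (CommRingCat.of k)))] [QuasiCompact (X ↘ (Spec (CommRingCat.of k)))]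
    (hdim : topologicalKrullDim X ≤ 0) :
    IsAffine X ∧ IsFinite (X ↘ (Spec (CommRingCat.of k))) := by
  have hLN : IsLocallyNoetherian X :=
    LocallyOfFiniteType.isLocallyNoetherian (X ↘ (Spec (CommRingCat.of k)))
  have hLA : IsLocallyArtinian X := .of_topologicalKrullDim_le_zero hdim
  have hC : CompactSpace X :=
    QuasiCompact.compactSpace_of_compactSpace (X ↘ (Spec (CommRingCat.of k)))
  have hF : Finite X := finite_of_compact_of_discrete
  have hA : IsAffine X := inferInstance
  refine ⟨hA, ?_⟩
  rw [← MorphismProperty.cancel_left_of_respectsIso (P := @IsFinite) X.isoSpec.inv]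
  obtain ⟨φ, hφ⟩ := Spec.map_surjective (X.isoSpec.inv ≫ (X ↘ (Spec (CommRingCat.of k))))
  have hft : LocallyOfFiniteType (Spec.map φ) := by rw [hφ]; infer_instance
  rw [← hφ, IsFinite.SpecMap_iff]
  rw [HasRingHomProperty.Spec_iff (P := @LocallyOfFiniteType)] at hft
  letI := φ.hom.toAlgebra
  have h1 : Algebra.FiniteType k Γ(X, ⊤) := hft
  have h2 : IsArtinianRing Γ(X, ⊤) := inferInstance
  exact Module.finite_of_isArtinianRing k Γ(X, ⊤)

end Groth.Agent.S1529
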