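import Groth.Statements.S15295
import Mathlib
import Groth.Agent.Lib.ExtBC1_helper9
import Groth.Agent.Lib.DeRham_helper1

set_option autoImplicit false
universe u
open DeRham

namespace Groth.Agent.S15295

open exteriorPower TensorProduct in
/-- The de Rham complex commutes with base change. Let R → A and R → S be ring maps and B = S ⊗_R A (an
R-algebra over A and S with the pushout property), and let ψ be the induced map of de Rham complexes
from the p-forms of A over R to the p-forms of B over S (additive maps sending b₀ db₁ ∧ … ∧ db_p to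
g(b₀) d(g b₁) ∧ … ∧ d(g b_p), g : A → B the structure map). Then in each degree p the S-linear
extension S ⊗_R ⋀^p Ω_{A/R} → ⋀^p Ω_{B/S}, s ⊗ x ↦ s · ψ_p(x), is bijective. (This row states the
degreewise bijectivity, with the base change written S ⊗_R − rather than − ⊗_R S; the compatibility
of ψ with the differentials, which makes this an isomorphism of complexes, holds for any square of
ring maps.) -/
theorem result (R S A B : Type u) [CommRing R] [CommRing S] [CommRing A] [CommRing B]
    [Algebra R S] [Algebra R A] [Algebra R B] [Algebra A B] [Algebra S B]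
    [IsScalarTower R A B] [IsScalarTower R S B] [Algebra.IsPushout R S A B]
    (ψ : ∀ p : ℕ, ↥(⋀[A]^p (Ω[A⁄R])) →+ ↥(⋀[B]^p (Ω[B⁄S])))
    (hψ : DeRham.IsCxMap (KaehlerDifferential.D R A) (KaehlerDifferential.D S B) (algebraMap A B) ψ)
    (p : ℕ) (Φ : S ⊗[R] ↥(⋀[A]^p (Ω[A⁄R])) →+ ↥(⋀[B]^p (Ω[B⁄S])))
    (hΦ : ∀ (s : S) (x : ↥(⋀[A]^p (Ω[A⁄R]))), Φ (s ⊗ₜ[R] x) = s • ψ p x) :
    Function.Bijective Φ := by

  classical
  let e₁ := (Algebra.IsPushout.cancelBaseChange R S A B ↥(⋀[A]^p (Ω[A⁄R]))).symm
  let e₂ := Groth.Agent.ExtBC9.equivP A B (Ω[A⁄R]) p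
  let e₃ := exteriorPower.map p (KaehlerDifferential.tensorKaehlerEquiv R S A B).toLinearMap
  have he₃ : Function.Bijective e₃ :=
    Groth.Agent.ExtBC9.map_bijective_of_equiv p (KaehlerDifferential.tensorKaehlerEquiv R S A B)
  have key : ∀ z, Φ z = e₃ (e₂ (e₁ z)) := by
    intro z
    induction z with
    | zero => simp
    | add x y hx hy => rw [map_add, hx, hy, map_add, map_add, map_add]
    | tmul s x =>
      induction x using Groth.Agent.Lib.DeRhamH1.kaehler_gen_induction with
      | h0 => simp
      | hadd x y hx hy => rw [TensorProduct.tmul_add, map_add, hx, hy, map_add, map_add, map_add]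
      | hgen b₀ b =>
        rw [hΦ, hψ p b₀ b]
        unfold DeRham.gen
        show _ = e₃ (e₂ ((Algebra.IsPushout.cancelBaseChange R S A B ↥(⋀[A]^p (Ω[A⁄R]))).symm _))
        rw [Algebra.IsPushout.cancelBaseChange_symm_tmul, TensorProduct.tmul_smul,
          TensorProduct.smul_tmul']
        show _ = e₃ (Groth.Agent.ExtBC9.equivP A B (Ω[A⁄R]) p _)
        rw [Groth.Agent.ExtBC9.equivP_tmul, map_smul]
        show _ = _ • exteriorPower.map p _ _
        rw [exteriorPower.map_apply_ιMulti]
        have : (⇑(KaehlerDifferential.tensorKaehlerEquiv R S A B).toLinearMap ∘ fun i =>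
            (1 : B) ⊗ₜ[A] (KaehlerDifferential.D R A) (b i)) =
            fun i => (KaehlerDifferential.D S B) ((algebraMap A B) (b i)) := by
          funext i
          simp [KaehlerDifferential.tensorKaehlerEquiv_tmul_D]
        rw [this, ← algebraMap_smul B s, smul_smul, Algebra.smul_def b₀, mul_comm]
  have : (Φ : _ → _) = e₃ ∘ e₂ ∘ e₁ := funext key
  rw [this]
  exact he₃.comp (e₂.bijective.comp e₁.bijective)

end Groth.Agent.S15295
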