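import Groth.Statements.S15297
import Mathlib.Tactic
import Groth.Agent.Lib.DeRham_helper1

set_option autoImplicit false
universe u
open DeRham

namespace Groth.Agent.S15297

open exteriorPower in
/-- Let R → A be a ring map and d a de Rham differential of the Kähler differentials of A over R. Then
each d from p-forms to (p+1)-forms, an R-linear map between A-modules, is a differential operator of
order at most 1 relative to R → A: every commutator of d with multiplication by an element of A is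
A-linear. -/
theorem result (R A : Type u) [CommRing R] [CommRing A] [Algebra R A]
    (d : ∀ p : ℕ, ↥(⋀[A]^p (Ω[A⁄R])) →ₗ[R] ↥(⋀[A]^(p + 1) (Ω[A⁄R])))
    (hd : DeRham.IsDiff (KaehlerDifferential.D R A) d) (p : ℕ) :
    Diff16.IsDiffOpLE R A ↥(⋀[A]^p (Ω[A⁄R])) ↥(⋀[A]^(p + 1) (Ω[A⁄R])) 1 (d p) := by
  intro b a m
  have hcomm : ∀ (D : ↥(⋀[A]^p (Ω[A⁄R])) →ₗ[R] ↥(⋀[A]^(p + 1) (Ω[A⁄R]))) (b : A)
      (m : ↥(⋀[A]^p (Ω[A⁄R]))),
      Diff16.commutator R A ↥(⋀[A]^p (Ω[A⁄R])) ↥(⋀[A]^(p + 1) (Ω[A⁄R])) D b m = D (b • m) - b • D m := by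
    intro D b m
    simp [Diff16.commutator]
  rw [hcomm, hcomm]
  refine Groth.Agent.Lib.DeRhamH1.kaehler_gen_induction R A p
    (fun m => d p (b • a • m) - b • d p (a • m) = a • (d p (b • m) - b • d p m)) (by simp)
    (fun x y hx hy => by
      simp only [smul_add, map_add, smul_sub] at hx hy ⊢
      rw [add_sub_add_comm, hx, hy]; abel) ?_ m
  intro b₀ β
  show d p (b • a • DeRham.gen (KaehlerDifferential.D R A) p b₀ β)
      - b • d p (a • DeRham.gen (KaehlerDifferential.D R A) p b₀ β)
    = a • (d p (b • DeRham.gen (KaehlerDifferential.D R A) p b₀ β)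
      - b • d p (DeRham.gen (KaehlerDifferential.D R A) p b₀ β))
  let v : Fin p → Ω[A⁄R] := fun i => KaehlerDifferential.D R A (β i)
  let L : Ω[A⁄R] →ₗ[A] ↥(⋀[A]^(p + 1) (Ω[A⁄R])) :=
    { toFun := fun m => exteriorPower.ιMulti A (p + 1) (Fin.cons m v)
      map_add' := fun x y => (exteriorPower.ιMulti A (p + 1)).toMultilinearMap.cons_add v x y
      map_smul' := fun c x => (exteriorPower.ιMulti A (p + 1)).toMultilinearMap.cons_smul v c x }
  have hL : ∀ c : A, d p (DeRham.gen (KaehlerDifferential.D R A) p c β)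
      = L (KaehlerDifferential.D R A c) := fun c => hd.1 p c β
  simp only [Groth.Agent.Lib.DeRhamH1.smul_gen, hL, Derivation.leibniz, map_add, map_smul]
  module

end Groth.Agent.S15297
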