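import Groth.Statements.S15322
import Mathlib
-- import your own Groth.Agent.* helpers here

set_option autoImplicit false
universe u
open CategoryTheory AlgebraicGeometry
open AlgebraicGeometry CategoryTheory Limits
open ArLef

namespace Groth.Agent.S15322

/-- Let f : D → C be a morphism, τ an automorphism of C and σ an automorphism of D with σ f = f τ; call
σ a good lifting of τ when the fixed-point scheme of σ is the full preimage of that of τ, i.e. every
morphism z : Z → D with z f τ = z f has z σ = z. If f is etale, separated and surjective with D
connected and the fixed-point scheme of τ is non-empty (some point of C, with its residue field, is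
fixed by τ), then τ has at most one good lifting. (The published statement is for a finite etale
cover of smooth projective irreducible curves over a field and a non-trivial τ; the argument uses
only the hypotheses stated here.) -/
theorem result {C D : Scheme.{u}} (f : D ⟶ C) [Etale f] [IsSeparated f] [Surjective f]
    [ConnectedSpace D] (τ : C ≅ C) (σ σ' : D ≅ D)
    (hσ : σ.hom ≫ f = f ≫ τ.hom) (hσ' : σ'.hom ≫ f = f ≫ τ.hom)
    (good : ∀ (Z : Scheme.{u}) (z : Z ⟶ D), z ≫ f ≫ τ.hom = z ≫ f → z ≫ σ.hom = z)
    (good' : ∀ (Z : Scheme.{u}) (z : Z ⟶ D), z ≫ f ≫ τ.hom = z ≫ f → z ≫ σ'.hom = z)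
    (x : C) (hx : C.fromSpecResidueField x ≫ τ.hom = C.fromSpecResidueField x) :
    σ = σ' := by
  classical
  obtain ⟨y, hy⟩ := f.surjective x
  -- the point `z : Spec κ(y) ⟶ D`
  let z := D.fromSpecResidueField y
  have hzf : z ≫ f ≫ τ.hom = z ≫ f := by
    have h1 : z ≫ f = Spec.map (f.residueFieldMap y) ≫ C.fromSpecResidueField (f y) :=
      (Scheme.Hom.SpecMap_residueFieldMap_fromSpecResidueField f y).symm
    subst hy
    rw [← Category.assoc, h1, Category.assoc, hx]
  have hza : z ≫ σ.hom = z := good _ z hzf
  have hzb : z ≫ σ'.hom = z := good' _ z hzf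
  -- the diagonal is an open and closed immersion
  haveI : IsOpenImmersion (pullback.diagonal f) := inferInstance
  haveI : IsClosedImmersion (pullback.diagonal f) := IsSeparated.isClosedImmersion_diagonal
  have hab : σ.hom ≫ f = σ'.hom ≫ f := hσ.trans hσ'.symm
  let g : D ⟶ pullback f f := pullback.lift σ.hom σ'.hom hab
  let S : Set D := g ⁻¹' Set.range (pullback.diagonal f)
  have hSopen : IsOpen S := (pullback.diagonal f).isOpenEmbedding.isOpen_range.preimage g.continuous
  have hSclosed : IsClosed S :=
    (pullback.diagonal f).isClosedEmbedding.isClosed_range.preimage g.continuous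
  have hyS : y ∈ S := by
    have h1 : z ≫ g = (z ≫ σ.hom) ≫ pullback.diagonal f := by
      apply pullback.hom_ext
      · simp only [g, Category.assoc, pullback.lift_fst, pullback.diagonal_fst, Category.comp_id]
      · simp only [g, Category.assoc, pullback.lift_snd, pullback.diagonal_snd, Category.comp_id,
          hza, hzb]
    obtain ⟨w⟩ : Nonempty (Spec (D.residueField y)) := inferInstance
    have hzw : z w = y := by
      have := D.range_fromSpecResidueField y
      have hw : z w ∈ Set.range z := ⟨w, rfl⟩
      rw [this] at hw
      exact hw
    have h2 := congrArg (fun φ : Spec (D.residueField y) ⟶ pullback f f => φ w) h1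
    simp only [Scheme.Hom.comp_apply] at h2
    rw [hzw] at h2
    exact ⟨_, h2.symm⟩
  have hSuniv : S = Set.univ := IsClopen.eq_univ ⟨hSclosed, hSopen⟩ ⟨y, hyS⟩
  have hrange : Set.range g ⊆ Set.range (pullback.diagonal f) := by
    rintro _ ⟨d, rfl⟩
    have : d ∈ S := by rw [hSuniv]; trivial
    exact this
  let l : D ⟶ D := IsOpenImmersion.lift (pullback.diagonal f) g hrange
  have hl : l ≫ pullback.diagonal f = g := IsOpenImmersion.lift_fac _ _ _
  have h1 : σ.hom = l := by
    have := congrArg (fun φ => φ ≫ pullback.fst f f) hl
    simp only [g, Category.assoc, pullback.lift_fst, pullback.diagonal_fst, Category.comp_id] at this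
    exact this.symm
  have h2 : σ'.hom = l := by
    have := congrArg (fun φ => φ ≫ pullback.snd f f) hl
    simp only [g, Category.assoc, pullback.lift_snd, pullback.diagonal_snd, Category.comp_id] at this
    exact this.symm
  exact Iso.ext (h1.trans h2.symm)

end Groth.Agent.S15322
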