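import Groth.Statements.S15326
import Mathlib
-- import your own Groth.Agent.* helpers here

set_option autoImplicit false
universe u
open ArLef


namespace Groth.Agent.S15326

/-- Let A be a commutative ring, t an element generating a prime ideal (a local equation of an
irreducible component C of the closed fibre), v an element outside (t) with π = vt the uniformizer,
and σ a ring automorphism of A with σ(vt) = vt whose fixed-point ideal is contained in (t^i) for
some i ≥ 1 (C has multiplicity at least i in the fixed locus). Then σ(t) - t lies in t^(i+1) A_(t),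
the localization at the prime (t): σ - 1 vanishes on (t)/(t^(i+1)) at the generic point of C. -/
theorem result (A : Type u) [CommRing A] (t v : A)
    [ht : (Ideal.span ({t} : Set A)).IsPrime] (hv : v ∉ Ideal.span ({t} : Set A))
    (σ : A ≃+* A) (hσ : σ (v * t) = v * t) (i : ℕ) (hi : 1 ≤ i)
    (hI : ArLef.fixIdeal σ ≤ Ideal.span ({t ^ i} : Set A)) :
    algebraMap A (Localization.AtPrime (Ideal.span ({t} : Set A))) (σ t - t) ∈
      Ideal.span ({algebraMap A (Localization.AtPrime (Ideal.span ({t} : Set A))) (t ^ (i + 1))} :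
        Set (Localization.AtPrime (Ideal.span ({t} : Set A)))) := by
  classical
  have h1 : σ t - t ∈ Ideal.span ({t ^ i} : Set A) :=
    hI (Ideal.subset_span ⟨t, rfl⟩)
  have h2 : σ v - v ∈ Ideal.span ({t ^ i} : Set A) :=
    hI (Ideal.subset_span ⟨v, rfl⟩)
  obtain ⟨a, ha⟩ := Ideal.mem_span_singleton'.1 h1
  obtain ⟨b, hb⟩ := Ideal.mem_span_singleton'.1 h2
  obtain ⟨i', rfl⟩ : ∃ i', i = i' + 1 := ⟨i - 1, by lia⟩
  have hσt : σ t = t + a * t ^ (i' + 1) := by rw [ha]; ring
  have hσv : σ v = v + b * t ^ (i' + 1) := by rw [hb]; ring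
  have h3 : σ v * σ t = v * t := by rw [← map_mul]; exact hσ
  -- key identity in A
  have key : v * (σ t - t) = t ^ (i' + 1 + 1) * (-(b + t ^ i' * a * b)) := by
    have : v * (a * t ^ (i' + 1)) = -(b * t ^ (i' + 1) * t + b * t ^ (i' + 1) * (a * t ^ (i' + 1))) := by
      have h4 : (v + b * t ^ (i' + 1)) * (t + a * t ^ (i' + 1)) = v * t := by
        rw [← hσt, ← hσv]; exact h3
      linear_combination h4
    rw [← ha, this]
    ring
  set L := Localization.AtPrime (Ideal.span ({t} : Set A)) with hL
  have hvu : IsUnit (algebraMap A L v) :=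
    IsLocalization.map_units L (⟨v, hv⟩ : (Ideal.span ({t} : Set A)).primeCompl)
  obtain ⟨u, hu⟩ := hvu
  rw [Ideal.mem_span_singleton']
  refine ⟨↑u⁻¹ * algebraMap A L (-(b + t ^ i' * a * b)), ?_⟩
  have key' := congrArg (algebraMap A L) key
  rw [map_mul, map_mul, ← hu] at key'
  have : algebraMap A L (σ t - t) = ↑u⁻¹ * (↑u * algebraMap A L (σ t - t)) := by
    rw [← mul_assoc, Units.inv_mul, one_mul]
  rw [this, key']
  ring

end Groth.Agent.S15326
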