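import Groth.Statements.S15329
import Mathlib
-- import your own Groth.Agent.* helpers here

set_option autoImplicit false
open TensorProduct LaurentPolynomial

universe u v
open CAlg

namespace Groth.Agent.S15329

/-- Let k be a field, E a k-vector space and F an increasing ℤ-indexed filtration of E by subspaces. In
E[T, T⁻¹] = k[T, T⁻¹] ⊗ E the Rees module of (E, F) is the k-span of the elements T^n ⊗ v with v ∈ F
n; it is the module of global sections of the equivariant bundle on the affine line attached to (E,
F), and E[T, T⁻¹] that of its sections away from the origin. For a linear form α on E and an integer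
p, the k[T, T⁻¹]-linear form m ↦ T^p · (id ⊗ α)(m) is the invariant section α of the dual bundle
away from the origin multiplied by T^p, and it extends over the origin exactly when it maps the Rees
module into the polynomial subring k[T]. This happens if and only if α vanishes on F(−p − 1); so the
dual equivariant bundle corresponds to the dual space filtered by the annihilators of the F(−p − 1).
(The published statement has the annihilator of F(−p + 1), over the complex numbers; for E = k with
F n = 0 for n < 0 and F n = E for n ≥ 0 the form with p = 0 and α ≠ 0 maps the Rees module into k[T]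
although α does not vanish on F(1) = E, and the published argument gives the index −p − 1, which
this row states, over any field.) -/
theorem result
    (k : Type u) [Field k] (E : Type v) [AddCommGroup E] [Module k E]
    (F : ℤ → Submodule k E) (hF : Monotone F)
    (α : Module.Dual k E) (p : ℤ) :
    (∀ m ∈ Submodule.span k {x : k[T;T⁻¹] ⊗[k] E | ∃ (n : ℤ) (v : E), v ∈ F n ∧ x = T n ⊗ₜ[k] v},
      T p * (TensorProduct.AlgebraTensorModule.rid k k[T;T⁻¹] k[T;T⁻¹]) (LinearMap.baseChange k[T;T⁻¹] α m)
        ∈ (Polynomial.toLaurent : Polynomial k →+* k[T;T⁻¹]).range) ↔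
    ∀ v ∈ F (-p - 1), α v = 0 := by
  classical
  -- the k-linear map in question
  let Φ : (k[T;T⁻¹] ⊗[k] E) →ₗ[k] k[T;T⁻¹] :=
    (LinearMap.mulLeft k (T p : k[T;T⁻¹])) ∘ₗ
      ((TensorProduct.AlgebraTensorModule.rid k k[T;T⁻¹] k[T;T⁻¹]).toLinearMap.restrictScalars k) ∘ₗ
      ((LinearMap.baseChange k[T;T⁻¹] α).restrictScalars k)
  have hΦ : ∀ m, Φ m = T p * (TensorProduct.AlgebraTensorModule.rid k k[T;T⁻¹] k[T;T⁻¹])
      (LinearMap.baseChange k[T;T⁻¹] α m) := fun m => rfl
  have hgen : ∀ (n : ℤ) (v : E), Φ (T n ⊗ₜ[k] v) = C (α v) * T (p + n) := by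
    intro n v
    rw [hΦ, LinearMap.baseChange_tmul, TensorProduct.AlgebraTensorModule.rid_tmul,
      LaurentPolynomial.smul_eq_C_mul, T_add]
    ring
  -- the range of `toLaurent` as a `k`-submodule
  let P : Submodule k k[T;T⁻¹] :=
    { carrier := (Polynomial.toLaurent : Polynomial k →+* k[T;T⁻¹]).range
      add_mem' := fun ha hb => add_mem ha hb
      zero_mem' := zero_mem _
      smul_mem' := by
        rintro c _ ⟨f, rfl⟩
        refine ⟨Polynomial.C c * f, ?_⟩
        rw [Polynomial.toLaurent_C_mul_eq, LaurentPolynomial.smul_eq_C_mul] }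
  have hP : ∀ x, x ∈ P ↔ x ∈ (Polynomial.toLaurent : Polynomial k →+* k[T;T⁻¹]).range :=
    fun x => Iff.rfl
  have hneg : ∀ (a : k) (n : ℤ), n < 0 →
      C a * T n ∈ (Polynomial.toLaurent : Polynomial k →+* k[T;T⁻¹]).range → a = 0 := by
    intro a n hn hmem
    by_contra ha
    obtain ⟨f, hf⟩ := hmem
    have h1 := support_coeff_C_mul_T_of_ne_zero ha n
    rw [← hf, support_coeff_toLaurent] at h1
    have : n ∈ f.support.map Nat.castEmbedding := by rw [h1]; exact Finset.mem_singleton_self n
    obtain ⟨i, -, hi⟩ := Finset.mem_map.1 this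
    have : (0 : ℤ) ≤ n := by rw [← hi]; exact Int.natCast_nonneg i
    lia
  constructor
  · intro h v hv
    have hmem := h (T (-p - 1) ⊗ₜ[k] v) (Submodule.subset_span ⟨-p - 1, v, hv, rfl⟩)
    rw [← hΦ, hgen] at hmem
    exact hneg _ _ (by lia) hmem
  · intro h m hm
    rw [← hΦ, ← hP]
    refine Submodule.span_induction (p := fun m _ => Φ m ∈ P) ?_ ?_ ?_ ?_ hm
    · rintro _ ⟨n, v, hv, rfl⟩
      rw [hgen, hP]
      by_cases hpn : 0 ≤ p + n
      · obtain ⟨j, hj⟩ := Int.eq_ofNat_of_zero_le hpn
        refine ⟨Polynomial.C (α v) * Polynomial.X ^ j, ?_⟩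
        rw [Polynomial.toLaurent_C_mul_X_pow, hj]
      · have hv' : v ∈ F (-p - 1) := hF (by lia : n ≤ -p - 1) hv
        rw [h v hv', map_zero, zero_mul]
        exact zero_mem _
    · rw [map_zero]; exact zero_mem _
    · intro x y _ _ hx hy
      rw [map_add]; exact add_mem hx hy
    · intro c x _ hx
      rw [map_smul]; exact P.smul_mem c hx

end Groth.Agent.S15329
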