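import Groth.Statements.S15335
import Mathlib
import Groth.Agent.Lib.VBCurve4_helper9

set_option autoImplicit false
universe u
open CategoryTheory CategoryTheory.Limits AlgebraicGeometry
open VBCurve

namespace Groth.Agent.S15335

/-- Let X be a smooth proper integral curve (integral, smooth and proper of dimension one) over an
algebraically closed field k, and E₁, E₂ finite locally free O_X-modules of ranks r₁ ≥ 1, r₂ ≥ 1.
The maximal slope of E₁ ⊕ E₂ is at most the larger of the maximal slopes of E₁ and E₂: if m₁, m₂ are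
rational numbers such that every finite locally free submodule of positive rank of E₁ (resp. E₂) has
slope deg/rank ≤ m₁ (resp. ≤ m₂), degree meaning χ − rank·χ(O_X), then every finite locally free
submodule F of the biproduct E₁ ⊞ E₂ of rank r' ≥ 1 has slope deg F / r' ≤ max(m₁, m₂). -/
theorem result (k : Type u) [Field k] [IsAlgClosed k] (X : Scheme.{u}) [X.Over (Spec (CommRingCat.of k))]
    [IsIntegral X] [IsProper (X ↘ Spec (CommRingCat.of k))] [Smooth (X ↘ Spec (CommRingCat.of k))]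
    (hdim : topologicalKrullDim X = 1)
    (r₁ r₂ : ℕ) (hr₁ : 0 < r₁) (hr₂ : 0 < r₂) (E₁ E₂ : X.Modules)
    (hE₁ : FlatMod.IsFinLocFreeOfRank r₁ E₁) (hE₂ : FlatMod.IsFinLocFreeOfRank r₂ E₂) (m₁ m₂ : ℚ)
    (h₁ : ∀ (G : X.Modules) (r' : ℕ) (i : G ⟶ E₁), Mono i → 0 < r' → FlatMod.IsFinLocFreeOfRank r' G →
      (Curv2.deg k X G r' : ℚ) / r' ≤ m₁)
    (h₂ : ∀ (G : X.Modules) (r' : ℕ) (i : G ⟶ E₂), Mono i → 0 < r' → FlatMod.IsFinLocFreeOfRank r' G →
      (Curv2.deg k X G r' : ℚ) / r' ≤ m₂)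
    (F : X.Modules) (r' : ℕ) (i : F ⟶ E₁ ⊞ E₂) (hi : Mono i) (hr' : 0 < r')
    (hF : FlatMod.IsFinLocFreeOfRank r' F) :
    (Curv2.deg k X F r' : ℚ) / r' ≤ max m₁ m₂ := by
  let T : ShortComplex X.Modules :=
    ShortComplex.mk (biprod.inl : E₁ ⟶ E₁ ⊞ E₂) biprod.snd (by simp)
  have hT : T.ShortExact := (ShortComplex.Splitting.ofHasBinaryBiproduct E₁ E₂).shortExact
  haveI := hi
  have hr'q : (0 : ℚ) < r' := by exact_mod_cast hr'
  have hi' : Mono (show F ⟶ T.X₂ from i) := hi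
  rcases @VBCurve.sub_of_ses_cases k _ X _ _ _ (VBCurve.hreg_of_smooth k X) hdim.le T hT
      (FLFH8.IsFinLocFreeOfRank.isFinLocFree E₂ hE₂) F (show F ⟶ T.X₂ from i) hi' r' hF with
    ⟨j, hj⟩ | ⟨K, I, jK, jI, rK, rI, hjK, hjI, hK, hI, hr, hrI, hdeg, hK0⟩
  · exact (h₁ F r' j hj hr' hF).trans (le_max_left _ _)
  · have hI' := h₂ I rI jI hjI hrI hI
    have hrIq : (0 : ℚ) < rI := by exact_mod_cast hrI
    have e2 : (Curv2.deg k X I rI : ℚ) ≤ m₂ * rI := by rwa [div_le_iff₀ hrIq] at hI'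
    have e1 : (Curv2.deg k X K rK : ℚ) ≤ m₁ * rK := by
      rcases Nat.eq_zero_or_pos rK with h0 | hpos
      · rw [hK0 h0, h0]; simp
      · have h := h₁ K rK jK hjK hpos hK
        have hq : (0 : ℚ) < rK := by exact_mod_cast hpos
        rwa [div_le_iff₀ hq] at h
    rw [div_le_iff₀ hr'q, hdeg, hr]
    push_cast
    have hm1 : m₁ ≤ max m₁ m₂ := le_max_left _ _
    have hm2 : m₂ ≤ max m₁ m₂ := le_max_right _ _
    have hK0' : (0 : ℚ) ≤ rK := by positivity
    nlinarith [mul_le_mul_of_nonneg_right hm1 hK0', mul_le_mul_of_nonneg_right hm2 hrIq.le]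

end Groth.Agent.S15335
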