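import Groth.Statements.S15347
import Mathlib
-- import your own Groth.Agent.* helpers here

set_option autoImplicit false
universe u
open CategoryTheory CategoryTheory.Limits AlgebraicGeometry
open AlgebraicGeometry CategoryTheory Limits
open Mor

namespace Groth.Agent.S15347

/-- Let f : Y ⟶ X be an immersion of schemes. Then: for every valuation ring A with fraction field K and
every commutative square Spec K ⟶ Y, Spec A ⟶ X over f such that some morphism from the spectrum of
the residue field of A to Y lies over Spec A ⟶ X, the square admits a lift; and for every integral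
domain A and every morphism s : Spec A ⟶ X such that the points of a dense subset of Spec A lift to
Y (the residue field of each such point maps to Y over s), there is a nonempty open subscheme U of
Spec A with a morphism U ⟶ Y over s. (The published statement is for a representable, locally
finitely presented morphism of algebraic stacks with locally Noetherian target and a quasi-compact
immersion, and also lists that f is a monomorphism; this row is the case of schemes, for any
immersion and any target.) -/
theorem result {X Y : Scheme.{u}} (f : Y ⟶ X) [IsImmersion f] :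
    (∀ S : ValuativeCommSq f,
        (∃ l₀ : Spec (CommRingCat.of (IsLocalRing.ResidueField S.R)) ⟶ Y,
            l₀ ≫ f = Spec.map (CommRingCat.ofHom (IsLocalRing.residue S.R)) ≫ S.i₂) →
          S.commSq.HasLift) ∧
      ∀ (A : Type u) [CommRing A] [IsDomain A] (s : Spec (CommRingCat.of A) ⟶ X) (D : Set ↥(Spec (CommRingCat.of A))),
        Dense D →
        (∀ p ∈ D, ∃ l : Spec ((Spec (CommRingCat.of A)).residueField p) ⟶ Y,
            l ≫ f = (Spec (CommRingCat.of A)).fromSpecResidueField p ≫ s) →
          ∃ U : (Spec (CommRingCat.of A)).Opens, (U : Set ↥(Spec (CommRingCat.of A))).Nonempty ∧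
            ∃ l : (U : Scheme.{u}) ⟶ Y, l ≫ f = U.ι ≫ s := by
  classical
  constructor
  · rintro S ⟨l₀, hl₀⟩
    have hclosed : S.i₂ (IsLocalRing.closedPoint S.R) ∈ f.coborderRange := by
      obtain ⟨w⟩ : Nonempty (Spec (CommRingCat.of (IsLocalRing.ResidueField S.R))) := inferInstance
      have hw : (Spec.map (CommRingCat.ofHom (IsLocalRing.residue S.R))) w =
          IsLocalRing.closedPoint S.R := by
        show PrimeSpectrum.comap (IsLocalRing.residue S.R) w = IsLocalRing.closedPoint S.R
        rw [← (IsLocalRing.isLocalHom_iff_comap_closedPoint (IsLocalRing.residue S.R)).1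
          inferInstance]
        congr 1
        exact Subsingleton.elim _ _
      have h2 := congrArg
        (fun φ : Spec (CommRingCat.of (IsLocalRing.ResidueField S.R)) ⟶ X => φ w) hl₀
      simp only [Scheme.Hom.comp_apply] at h2
      rw [hw] at h2
      rw [← h2]
      have h3 : f (l₀ w) = f.coborderRange.ι (f.liftCoborder (l₀ w)) := by
        have := congrArg (fun φ : Y ⟶ X => φ (l₀ w)) f.liftCoborder_ι.symm
        simpa only [Scheme.Hom.comp_apply] using this
      rw [h3]
      exact (f.liftCoborder (l₀ w)).2
    have htop : S.i₂ ⁻¹ᵁ f.coborderRange = ⊤ :=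
      (IsLocalRing.closedPoint_mem_iff (S.i₂ ⁻¹ᵁ f.coborderRange)).1 hclosed
    have hr : Set.range S.i₂ ⊆ Set.range f.coborderRange.ι := by
      rintro _ ⟨a, rfl⟩
      rw [Scheme.Opens.range_ι]
      have : a ∈ S.i₂ ⁻¹ᵁ f.coborderRange := by rw [htop]; trivial
      exact this
    let i₂' : Spec (CommRingCat.of S.R) ⟶ f.coborderRange :=
      IsOpenImmersion.lift f.coborderRange.ι S.i₂ hr
    have hi₂' : i₂' ≫ f.coborderRange.ι = S.i₂ := IsOpenImmersion.lift_fac _ _ _
    have hsq : CommSq S.i₁ (Spec.map (CommRingCat.ofHom (algebraMap S.R S.K)))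
        f.liftCoborder i₂' := ⟨by
      rw [← cancel_mono f.coborderRange.ι, Category.assoc, Category.assoc, f.liftCoborder_ι, hi₂']
      exact S.commSq.w⟩
    let S' : ValuativeCommSq f.liftCoborder :=
      { R := S.R, K := S.K, i₁ := S.i₁, i₂ := i₂', commSq := hsq }
    have hex : (ValuativeCriterion.Existence ⊓ @QuasiCompact) f.liftCoborder := by
      rw [← UniversallyClosed.eq_valuativeCriterion]
      infer_instance
    obtain ⟨⟨l⟩⟩ := hex.1 S'
    exact ⟨⟨{ l := l.l
              fac_left := l.fac_left
              fac_right :=
                (congrArg (fun φ => l.l ≫ φ) f.liftCoborder_ι.symm).trans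
                  ((Category.assoc _ _ _).symm.trans
                    ((congrArg (· ≫ f.coborderRange.ι) l.fac_right).trans hi₂')) }⟩⟩
  · intro A _ _ s D hD hlift
    -- the open W = s⁻¹(coborderRange)
    let C := f.coborderRange
    let W : (Spec (CommRingCat.of A)).Opens := s ⁻¹ᵁ C
    have hDW : D ⊆ (W : Set (Spec (CommRingCat.of A))) := by
      intro p hp
      obtain ⟨l, hl⟩ := hlift p hp
      obtain ⟨w⟩ : Nonempty (Spec ((Spec (CommRingCat.of A)).residueField p)) := inferInstance
      have hzw : ((Spec (CommRingCat.of A)).fromSpecResidueField p) w = p := by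
        have := (Spec (CommRingCat.of A)).range_fromSpecResidueField p
        have hw : ((Spec (CommRingCat.of A)).fromSpecResidueField p) w ∈
            Set.range ((Spec (CommRingCat.of A)).fromSpecResidueField p) := ⟨w, rfl⟩
        rw [this] at hw
        exact hw
      have h2 := congrArg
        (fun φ : Spec ((Spec (CommRingCat.of A)).residueField p) ⟶ X => φ w) hl
      simp only [Scheme.Hom.comp_apply] at h2
      rw [hzw] at h2
      show s p ∈ C
      rw [← h2]
      have h3 : f (l w) = C.ι (f.liftCoborder (l w)) := by
        have := congrArg (fun φ : Y ⟶ X => φ (l w)) f.liftCoborder_ι.symm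
        simpa only [Scheme.Hom.comp_apply] using this
      rw [h3]
      exact (f.liftCoborder (l w)).2
    obtain ⟨p₀, hp₀⟩ := hD.nonempty
    refine ⟨W, ⟨p₀, hDW hp₀⟩, ?_⟩
    have hr : Set.range (W.ι ≫ s) ⊆ Set.range C.ι := by
      rintro _ ⟨a, rfl⟩
      rw [Scheme.Opens.range_ι]
      exact a.2
    let g : (W : Scheme) ⟶ C := IsOpenImmersion.lift C.ι (W.ι ≫ s) hr
    have hg : g ≫ C.ι = W.ι ≫ s := IsOpenImmersion.lift_fac _ _ _
    -- the pullback of the closed immersion
    let P := pullback f.liftCoborder g
    let π : P ⟶ (W : Scheme) := pullback.snd f.liftCoborder g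
    haveI : IsClosedImmersion π := inferInstance
    haveI : IsIntegral (Spec (CommRingCat.of A)) := inferInstance
    haveI : IsReduced (W : Scheme) := inferInstance
    haveI : Surjective π := by
      constructor
      have hcl : IsClosed (Set.range π) := π.isClosedEmbedding.isClosed_range
      have hdense : Dense (Set.range π) := by
        have hDW' : Dense (W.ι ⁻¹' D) := by
          rw [dense_iff_inter_open]
          intro O hO hOne
          obtain ⟨o, ho⟩ := hOne
          have hopen : IsOpen (W.ι '' O) := W.ι.isOpenEmbedding.isOpenMap _ hO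
          obtain ⟨q, hqO, hqD⟩ := hD.inter_open_nonempty _ hopen ⟨_, o, ho, rfl⟩
          obtain ⟨q', hq'O, rfl⟩ := hqO
          exact ⟨q', hq'O, hqD⟩
        refine hDW'.mono ?_
        intro q hq
        obtain ⟨l, hl⟩ := hlift (W.ι q) hq
        -- a point of P over q
        let j := (W : Scheme).fromSpecResidueField q
        have hj : j ≫ W.ι = Spec.map (W.ι.residueFieldMap q) ≫
            (Spec (CommRingCat.of A)).fromSpecResidueField (W.ι q) :=
          (Scheme.Hom.SpecMap_residueFieldMap_fromSpecResidueField W.ι q).symm
        have hcomm : (Spec.map (W.ι.residueFieldMap q) ≫ l) ≫ f.liftCoborder = j ≫ g := by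
          rw [← cancel_mono C.ι, Category.assoc, Category.assoc, Category.assoc,
            f.liftCoborder_ι, hl, hg, ← Category.assoc, ← Category.assoc, hj]
        let m : Spec ((W : Scheme).residueField q) ⟶ P := pullback.lift _ _ hcomm
        obtain ⟨w⟩ : Nonempty (Spec ((W : Scheme).residueField q)) := inferInstance
        have hjw : j w = q := by
          have := (W : Scheme).range_fromSpecResidueField q
          have hw : j w ∈ Set.range j := ⟨w, rfl⟩
          rw [this] at hw
          exact hw
        refine ⟨m w, ?_⟩
        have : m ≫ π = j := pullback.lift_snd _ _ _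
        rw [← Scheme.Hom.comp_apply, this, hjw]
      intro x
      have : Set.range π = Set.univ := by
        rw [← hcl.closure_eq]; exact hdense.closure_eq
      have hx : x ∈ Set.range π := by rw [this]; trivial
      exact hx
    haveI : IsIso π := isIso_of_isClosedImmersion_of_surjective π
    refine ⟨inv π ≫ pullback.fst f.liftCoborder g, ?_⟩
    have h1 : pullback.fst f.liftCoborder g ≫ f = π ≫ W.ι ≫ s := by
      calc pullback.fst f.liftCoborder g ≫ f
          = pullback.fst f.liftCoborder g ≫ (f.liftCoborder ≫ C.ι) :=
            congrArg (fun φ => pullback.fst f.liftCoborder g ≫ φ) f.liftCoborder_ι.symm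
        _ = (pullback.fst f.liftCoborder g ≫ f.liftCoborder) ≫ C.ι := (Category.assoc _ _ _).symm
        _ = (π ≫ g) ≫ C.ι := by rw [pullback.condition]
        _ = π ≫ W.ι ≫ s := by rw [Category.assoc, hg]
    rw [Category.assoc, h1, ← Category.assoc, IsIso.inv_hom_id, Category.id_comp]

end Groth.Agent.S15347
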