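import Groth.Statements.S15354
import Mathlib
-- import your own Groth.Agent.* helpers here

set_option autoImplicit false
universe u
open CategoryTheory CategoryTheory.Limits AlgebraicGeometry
open AlgebraicGeometry CategoryTheory
open Mor

namespace Groth.Agent.S15354

/-- Let f : Y ⟶ X be a morphism of schemes, A a valuation ring with fraction field K and residue field
k, and ξ, η : Spec A ⟶ Y two A-points of Y over the same A-point of X. If ξ and η restrict to the
same K-point and to the same k-point of Y, then ξ = η. (The published statement is an equivalence,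
for algebraic spaces locally of finite presentation over a Noetherian scheme, between local
separatedness of f and conditions (a), (b); this row is the necessity of (a) in the case of schemes,
where no hypothesis on f is needed.) -/
theorem result {X Y : Scheme.{u}} (f : Y ⟶ X)
    (A : Type u) [CommRing A] [IsDomain A] [ValuationRing A] (K : Type u) [Field K] [Algebra A K]
    [IsFractionRing A K] (ξ η : Spec (CommRingCat.of A) ⟶ Y) (hf : ξ ≫ f = η ≫ f)
    (hK : Spec.map (CommRingCat.ofHom (algebraMap A K)) ≫ ξ = Spec.map (CommRingCat.ofHom (algebraMap A K)) ≫ η)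
    (hk : Spec.map (CommRingCat.ofHom (IsLocalRing.residue A)) ≫ ξ =
      Spec.map (CommRingCat.ofHom (IsLocalRing.residue A)) ≫ η) :
    ξ = η := by
  classical
  -- the closed point has the same image
  let s : Spec (CommRingCat.of A) := IsLocalRing.closedPoint A
  have hs : ξ s = η s := by
    obtain ⟨w⟩ : Nonempty (Spec (CommRingCat.of (IsLocalRing.ResidueField A))) := inferInstance
    have hw : (Spec.map (CommRingCat.ofHom (IsLocalRing.residue A))) w = s := by
      show PrimeSpectrum.comap (IsLocalRing.residue A) w = IsLocalRing.closedPoint A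
      rw [← (IsLocalRing.isLocalHom_iff_comap_closedPoint (IsLocalRing.residue A)).1 inferInstance]
      congr 1
      exact Subsingleton.elim _ _
    have h2 := congrArg (fun φ : Spec (CommRingCat.of (IsLocalRing.ResidueField A)) ⟶ Y => φ w) hk
    simp only [Scheme.Hom.comp_apply] at h2
    rwa [hw] at h2
  obtain ⟨_, ⟨V₀, hV₀, rfl⟩, hyV₀, -⟩ :=
    Y.isBasis_affineOpens.exists_subset_of_mem_open (Set.mem_univ (ξ s)) isOpen_univ
  obtain ⟨V, hV, hyV⟩ : ∃ V : Y.Opens, IsAffineOpen V ∧ ξ s ∈ V := ⟨V₀, hV₀, hyV₀⟩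
  have hξtop : ξ ⁻¹ᵁ V = ⊤ := (IsLocalRing.closedPoint_mem_iff (ξ ⁻¹ᵁ V)).1 hyV
  have hηtop : η ⁻¹ᵁ V = ⊤ := (IsLocalRing.closedPoint_mem_iff (η ⁻¹ᵁ V)).1 (by
    show η s ∈ V
    rw [← hs]; exact hyV)
  have hξr : Set.range ξ ⊆ Set.range V.ι := by
    rintro _ ⟨a, rfl⟩
    rw [Scheme.Opens.range_ι]
    have : a ∈ ξ ⁻¹ᵁ V := by rw [hξtop]; trivial
    exact this
  have hηr : Set.range η ⊆ Set.range V.ι := by
    rintro _ ⟨a, rfl⟩
    rw [Scheme.Opens.range_ι]
    have : a ∈ η ⁻¹ᵁ V := by rw [hηtop]; trivial
    exact this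
  let ξ' : Spec (CommRingCat.of A) ⟶ V := IsOpenImmersion.lift V.ι ξ hξr
  let η' : Spec (CommRingCat.of A) ⟶ V := IsOpenImmersion.lift V.ι η hηr
  have hξ' : ξ' ≫ V.ι = ξ := IsOpenImmersion.lift_fac _ _ _
  have hη' : η' ≫ V.ι = η := IsOpenImmersion.lift_fac _ _ _
  haveI : IsAffine (V : Scheme) := hV
  have key : ξ' = η' := by
    apply ext_of_isAffine
    let ι := Spec.map (CommRingCat.ofHom (algebraMap A K))
    have h1 : ι ≫ ξ' = ι ≫ η' := by
      rw [← cancel_mono V.ι, Category.assoc, Category.assoc, hξ', hη']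
      exact hK
    have h2 : ξ'.appTop ≫ ι.appTop = η'.appTop ≫ ι.appTop := by
      rw [← Scheme.Hom.comp_appTop, ← Scheme.Hom.comp_appTop, h1]
    have hmono : Mono ι.appTop := by
      apply ConcreteCategory.mono_of_injective
      have hinj : Function.Injective (algebraMap A K) := IsFractionRing.injective A K
      have hnat := Scheme.ΓSpecIso_naturality (CommRingCat.ofHom (algebraMap A K))
      intro a b hab
      have h3 : ((Scheme.ΓSpecIso (CommRingCat.of A)).hom ≫
          CommRingCat.ofHom (algebraMap A K)) a = ((Scheme.ΓSpecIso (CommRingCat.of A)).hom ≫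
          CommRingCat.ofHom (algebraMap A K)) b := by
        rw [← hnat]
        show (Scheme.ΓSpecIso (CommRingCat.of K)).hom (ι.appTop a) =
          (Scheme.ΓSpecIso (CommRingCat.of K)).hom (ι.appTop b)
        rw [hab]
      have h4 : (Scheme.ΓSpecIso (CommRingCat.of A)).hom a =
          (Scheme.ΓSpecIso (CommRingCat.of A)).hom b := hinj h3
      exact (ConcreteCategory.bijective_of_isIso (Scheme.ΓSpecIso (CommRingCat.of A)).hom).1 h4
    exact (cancel_mono ι.appTop).1 h2
  rw [← hξ', ← hη', key]

end Groth.Agent.S15354
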