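import Groth.Statements.S15355
import Mathlib
-- import your own Groth.Agent.* helpers here

set_option autoImplicit false
universe u
open CategoryTheory CategoryTheory.Limits AlgebraicGeometry
open AlgebraicGeometry CategoryTheory
open Mor

namespace Groth.Agent.S15355

/-- Let f : Y ⟶ X be a morphism of schemes, A an integral domain and ξ, η : Spec A ⟶ Y two A-points of Y
over the same A-point of X. If ξ and η induce the same κ(p)-point of Y at every point p of some
dense subset of Spec A, then ξ and η agree on a nonempty open subscheme of Spec A. (The published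
statement is an equivalence, for algebraic spaces locally of finite presentation over a Noetherian
scheme, between local separatedness of f and conditions (a), (b); this row is the necessity of (b)
in the case of schemes, where no hypothesis on f is needed.) -/
theorem result {X Y : Scheme.{u}} (f : Y ⟶ X)
    (A : Type u) [CommRing A] [IsDomain A] (ξ η : Spec (CommRingCat.of A) ⟶ Y) (hf : ξ ≫ f = η ≫ f)
    (D : Set ↥(Spec (CommRingCat.of A))) (hD : Dense D)
    (hpt : ∀ p ∈ D, (Spec (CommRingCat.of A)).fromSpecResidueField p ≫ ξ =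
      (Spec (CommRingCat.of A)).fromSpecResidueField p ≫ η) :
    ∃ U : (Spec (CommRingCat.of A)).Opens, (U : Set ↥(Spec (CommRingCat.of A))).Nonempty ∧ U.ι ≫ ξ = U.ι ≫ η := by
  classical
  obtain ⟨p, hpD⟩ := hD.nonempty
  have hpt' : ∀ q ∈ D, ξ q = η q := by
    intro q hq
    obtain ⟨w⟩ : Nonempty (Spec ((Spec (CommRingCat.of A)).residueField q)) := inferInstance
    have hzw : ((Spec (CommRingCat.of A)).fromSpecResidueField q) w = q := by
      have := (Spec (CommRingCat.of A)).range_fromSpecResidueField q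
      have hw : ((Spec (CommRingCat.of A)).fromSpecResidueField q) w ∈
          Set.range ((Spec (CommRingCat.of A)).fromSpecResidueField q) := ⟨w, rfl⟩
      rw [this] at hw
      exact hw
    have h2 := congrArg (fun φ : Spec ((Spec (CommRingCat.of A)).residueField q) ⟶ Y => φ w)
      (hpt q hq)
    simp only [Scheme.Hom.comp_apply] at h2
    rwa [hzw] at h2
  obtain ⟨_, ⟨V₀, hV₀, rfl⟩, hyV₀, -⟩ :=
    Y.isBasis_affineOpens.exists_subset_of_mem_open (Set.mem_univ (ξ p)) isOpen_univ
  obtain ⟨V, hV, hyV⟩ : ∃ V : Y.Opens, IsAffineOpen V ∧ ξ p ∈ V := ⟨V₀, hV₀, hyV₀⟩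
  let U : (Spec (CommRingCat.of A)).Opens := ξ ⁻¹ᵁ V ⊓ η ⁻¹ᵁ V
  have hpU : p ∈ U := ⟨hyV, by show η p ∈ V; rw [← hpt' p hpD]; exact hyV⟩
  refine ⟨U, ⟨p, hpU⟩, ?_⟩
  have hξr : Set.range (U.ι ≫ ξ) ⊆ Set.range V.ι := by
    rintro _ ⟨a, rfl⟩
    rw [Scheme.Opens.range_ι]
    exact a.2.1
  have hηr : Set.range (U.ι ≫ η) ⊆ Set.range V.ι := by
    rintro _ ⟨a, rfl⟩
    rw [Scheme.Opens.range_ι]
    exact a.2.2
  let ξ' : (U : Scheme) ⟶ V := IsOpenImmersion.lift V.ι (U.ι ≫ ξ) hξr
  let η' : (U : Scheme) ⟶ V := IsOpenImmersion.lift V.ι (U.ι ≫ η) hηr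
  have hξ' : ξ' ≫ V.ι = U.ι ≫ ξ := IsOpenImmersion.lift_fac _ _ _
  have hη' : η' ≫ V.ι = U.ι ≫ η := IsOpenImmersion.lift_fac _ _ _
  haveI : IsAffine (V : Scheme) := hV
  suffices key : ξ' = η' by rw [← hξ', ← hη', key]
  apply ext_of_isAffine
  ext b
  haveI : IsIntegral (Spec (CommRingCat.of A)) := inferInstance
  haveI : IsReduced (U : Scheme) := inferInstance
  set t := ξ'.appTop b - η'.appTop b with ht
  have htz : t = 0 := by
    apply eq_zero_of_basicOpen_eq_bot (X := (U : Scheme))
    by_contra hne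
    obtain ⟨q', hq'⟩ : ∃ q' : (U : Scheme), q' ∈ (U : Scheme).basicOpen t := by
      by_contra hcon
      push_neg at hcon
      apply hne
      ext x
      constructor
      · intro hx; exact absurd hx (hcon x)
      · intro hx; exact absurd hx (by simp)
    have hopen : IsOpen (U.ι '' (((U : Scheme).basicOpen t : (U : Scheme).Opens) : Set (U : Scheme))) :=
      U.ι.isOpenEmbedding.isOpenMap _ ((U : Scheme).basicOpen t).2
    obtain ⟨q, hq, hqD⟩ := hD.inter_open_nonempty _ hopen ⟨_, q', hq', rfl⟩
    obtain ⟨q'', hq''t, rfl⟩ := hq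
    let j := (U : Scheme).fromSpecResidueField q''
    have hj : j ≫ U.ι = Spec.map (U.ι.residueFieldMap q'') ≫
        (Spec (CommRingCat.of A)).fromSpecResidueField (U.ι q'') :=
      (Scheme.Hom.SpecMap_residueFieldMap_fromSpecResidueField U.ι q'').symm
    have h1 : j ≫ ξ' = j ≫ η' := by
      rw [← cancel_mono V.ι, Category.assoc, Category.assoc, hξ', hη', ← Category.assoc,
        ← Category.assoc, hj, Category.assoc, Category.assoc, hpt _ hqD]
    have h2 : j.appTop t = 0 := by
      rw [ht, map_sub, sub_eq_zero]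
      have := congrArg (fun φ : Spec ((U : Scheme).residueField q'') ⟶ (V : Scheme) => φ.appTop b) h1
      simpa using this
    have h3 : j ⁻¹ᵁ ((U : Scheme).basicOpen t) = ⊥ := by
      rw [Scheme.preimage_basicOpen_top, h2, Scheme.basicOpen_zero]
    obtain ⟨w⟩ : Nonempty (Spec ((U : Scheme).residueField q'')) := inferInstance
    have hjw : j w = q'' := by
      have := (U : Scheme).range_fromSpecResidueField q''
      have hw : j w ∈ Set.range j := ⟨w, rfl⟩
      rw [this] at hw
      exact hw
    have : w ∈ j ⁻¹ᵁ ((U : Scheme).basicOpen t) := by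
      show j w ∈ (U : Scheme).basicOpen t
      rw [hjw]; exact hq''t
    rw [h3] at this
    exact this
  exact sub_eq_zero.1 htz

end Groth.Agent.S15355
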