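import Groth.Statements.S15368
import Mathlib

set_option autoImplicit false
universe u v
open TensorProduct
open CAlg

namespace Groth.Agent.S15368

/-- Let R be a discrete valuation ring with uniformizer π and residue field k, n ≥ 0, M₀ a finitely
generated R-module killed by πⁿ and N₀ a submodule of M₀. Then dim_k(N₀/πN₀) ≤ dim_k(M₀/πM₀). The
published lemma is stated for a finitely presented submodule N of a finitely presented module M over
the quotient of the ring of integers of an algebraic closure of K by the elements of valuation ≥ t,
and the published proof reduces it by descent to exactly this statement over the valuation ring of a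
finite extension of K (comparing π-torsion with π-cotorsion by additivity of length); the row states
that step. -/
theorem result
    (R : Type u) [CommRing R] [IsDomain R] [IsDiscreteValuationRing R] (ϖ : R) (hϖ : Irreducible ϖ) (n : ℕ)
    (M : Type v) [AddCommGroup M] [Module R M] [Module.Finite R M] (hM : ∀ m : M, ϖ ^ n • m = 0)
    (N : Submodule R M) :
    Module.finrank (IsLocalRing.ResidueField R) (IsLocalRing.ResidueField R ⊗[R] N) ≤
      Module.finrank (IsLocalRing.ResidueField R) (IsLocalRing.ResidueField R ⊗[R] M) := by
  classical
  obtain ⟨d, hd⟩ : ∃ d, Module.finrank (IsLocalRing.ResidueField R)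
      (IsLocalRing.ResidueField R ⊗[R] M) = d := ⟨_, rfl⟩
  let bk : Module.Basis (Fin d) (IsLocalRing.ResidueField R) (IsLocalRing.ResidueField R ⊗[R] M) :=
    Module.finBasisOfFinrankEq (IsLocalRing.ResidueField R) (IsLocalRing.ResidueField R ⊗[R] M) hd
  have hsurj : Function.Surjective (TensorProduct.mk R (IsLocalRing.ResidueField R) M 1) :=
    TensorProduct.mk_surjective R M (IsLocalRing.ResidueField R) Ideal.Quotient.mk_surjective
  choose f hf using fun i => hsurj (bk i)
  have hspan : Submodule.span R (Set.range f) = ⊤ :=
    IsLocalRing.span_eq_top_of_tmul_eq_basis f bk hf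
  let π : (Fin d → R) →ₗ[R] M := Fintype.linearCombination R f
  have hπsurj : Function.Surjective π := by
    rw [← LinearMap.range_eq_top, Fintype.range_linearCombination, hspan]
  obtain ⟨n', bN'⟩ := Submodule.basisOfPid (Pi.basisFun R (Fin d)) (N.comap π)
  haveI : Module.Free R (N.comap π) := Module.Free.of_basis bN'
  haveI : Module.Finite R (N.comap π) := Module.Finite.of_basis bN'
  let ρ : (N.comap π) →ₗ[R] N := π.restrict (fun x hx => hx)
  have hρsurj : Function.Surjective ρ := by
    rintro ⟨y, hy⟩
    obtain ⟨x, rfl⟩ := hπsurj y
    exact ⟨⟨x, hy⟩, rfl⟩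
  have h1 : Function.Surjective (LinearMap.baseChange (IsLocalRing.ResidueField R) ρ) :=
    LinearMap.lTensor_surjective _ hρsurj
  have h2 : Module.finrank (IsLocalRing.ResidueField R) (IsLocalRing.ResidueField R ⊗[R] N) ≤
      Module.finrank (IsLocalRing.ResidueField R)
        (IsLocalRing.ResidueField R ⊗[R] (N.comap π)) := by
    have h5 := LinearMap.finrank_range_le (LinearMap.baseChange (IsLocalRing.ResidueField R) ρ)
    rwa [LinearMap.range_eq_top.mpr h1, finrank_top] at h5
  have h3 : Module.finrank (IsLocalRing.ResidueField R)
      (IsLocalRing.ResidueField R ⊗[R] (N.comap π)) = Module.finrank R (N.comap π) :=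
    Module.finrank_baseChange
  have h4 : Module.finrank R (N.comap π) ≤ Module.finrank R (Fin d → R) :=
    Submodule.finrank_le (N.comap π)
  rw [Module.finrank_fin_fun] at h4
  omega

end Groth.Agent.S15368
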