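import Groth.Statements.S15391
import Mathlib
-- import your own Groth.Agent.* helpers here

set_option autoImplicit false
universe u
open TensorProduct

open TorFree

namespace Groth.Agent.S15391

/-- Let R be a reduced Noetherian commutative ring, M a finitely generated torsion-free R-module (no
non-zero element of M is annihilated by a non-zero-divisor of R), and t an element of M whose image
1 ⊗ t in the fibre κ(p) ⊗_R M vanishes for every prime ideal p of R, κ(p) being the residue field at
p. Then t = 0. This is the affine form of the claim that a global section of a coherent torsion-free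
module on a reduced Noetherian scheme which vanishes in every fibre is zero. -/
theorem result (R : Type u) [CommRing R] [IsReduced R] [IsNoetherianRing R]
    (M : Type u) [AddCommGroup M] [Module R M] [Module.Finite R M] [Module.IsTorsionFree R M]
    (t : M) (ht : ∀ p : PrimeSpectrum R, (1 : p.asIdeal.ResidueField) ⊗ₜ[R] t = (0 : p.asIdeal.ResidueField ⊗[R] M)) :
    t = 0 := by
  classical
  -- Step 1: for each minimal prime, some element outside kills `t`
  have step1 : ∀ p ∈ minimalPrimes R, ∃ s : R, s ∉ p ∧ s • t = 0 := by
    intro p hp
    haveI : p.IsPrime := hp.1.1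
    set A := Localization.AtPrime p with hA
    have hmax : IsLocalRing.maximalIdeal A = ⊥ := by
      have h1 := IsLocalization.AtPrime.radical_map_of_mem_minimalPrimes (A := A) p ⊥ hp
      rw [Ideal.map_bot, IsLocalization.AtPrime.map_eq_maximalIdeal p A] at h1
      rw [← h1]
      exact nilradical_eq_zero A
    -- the residue field map is bijective
    have hbij : Function.Bijective (algebraMap A p.ResidueField) := by
      constructor
      · rw [injective_iff_map_eq_zero]
        intro a ha
        have : a ∈ IsLocalRing.maximalIdeal A := (IsLocalRing.residue_eq_zero_iff a).1 ha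
        rw [hmax] at this
        exact this
      · exact IsLocalRing.residue_surjective
    let e : A ≃ₗ[R] p.ResidueField :=
      LinearEquiv.ofBijective ((Algebra.linearMap A p.ResidueField).restrictScalars R) hbij
    have h0 : ((1 : A) ⊗ₜ[R] t : A ⊗[R] M) = 0 := by
      apply (TensorProduct.congr e (LinearEquiv.refl R M)).injective
      rw [map_zero, TensorProduct.congr_tmul]
      have : e 1 = 1 := map_one (algebraMap A p.ResidueField)
      rw [this]
      exact ht ⟨p, inferInstance⟩
    have h1 : (TensorProduct.mk R A M 1) t = 0 := h0
    obtain ⟨s, hs⟩ := (IsLocalizedModule.eq_zero_iff p.primeCompl (TensorProduct.mk R A M 1)).1 h1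
    exact ⟨s.1, s.2, hs⟩
  -- Step 2: the annihilator of `t` is not contained in the union of minimal primes
  have hI : ∀ s : R, s ∈ (Submodule.span R {t}).annihilator ↔ s • t = 0 := by
    intro s
    rw [Submodule.mem_annihilator_span_singleton]
  have hfin : (minimalPrimes R).Finite := minimalPrimes.finite_of_isNoetherianRing R
  have hnot : ¬ (((Submodule.span R {t}).annihilator : Ideal R) : Set R) ⊆
      ⋃ p ∈ minimalPrimes R, (id p : Ideal R) := by
    intro hsub
    obtain ⟨p, hp, hle⟩ := (Ideal.subset_union_prime_finite hfin (f := id) 0 0
      (fun _ h _ _ => h.1.1)).1 hsub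
    obtain ⟨s, hsp, hst⟩ := step1 p hp
    exact hsp (hle ((hI s).2 hst))
  rw [Set.not_subset] at hnot
  obtain ⟨s, hsI, hsnot⟩ := hnot
  have hst : s • t = 0 := (hI s).1 hsI
  -- `s` is regular
  have hreg : IsRegular s := by
    rw [isRegular_iff_mem_nonZeroDivisors, mem_nonZeroDivisors_iff_right]
    intro y hy
    by_contra hne
    apply hsnot
    have hmem : s ∈ {x : R | ∃ y ∉ (⊥ : Ideal R).radical, x * y ∈ (⊥ : Ideal R).radical} := by
      refine ⟨y, ?_, ?_⟩
      · rw [Ideal.radical_bot_of_isReduced]; exact hne
      · rw [Ideal.radical_bot_of_isReduced, Ideal.mem_bot, mul_comm]; exact hy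
    rw [← Ideal.iUnion_minimalPrimes] at hmem
    exact hmem
  have := hreg.isSMulRegular (M := M)
  exact this (by show s • t = s • 0; rw [hst, smul_zero])

end Groth.Agent.S15391
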