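import Groth.Statements.S15399
import Groth.Agent.Lib.PicRel5_helper8

set_option autoImplicit false
universe u
open CategoryTheory CategoryTheory.Limits AlgebraicGeometry
open PicGrp

namespace Groth.Agent.S15399

/-- Let X be a quasi-compact separated scheme, J a quasi-coherent ideal of O_X with J² = 0 and X₀ the
closed subscheme it cuts out, with inclusion i, and assume that the restriction of global functions
O_X(X) → O_{X₀}(X₀) is surjective. Assume the Picard group laws on X and X₀ and that pullback of
invertible classes along i is multiplicative. Then the kernel of the pullback homomorphism Pic(X) →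
Pic(X₀) is isomorphic, as a group, to the additive group H¹(X, J) (J viewed as an O_X-module),
written multiplicatively. (Existence of a group isomorphism only; the compatibility of the
isomorphism with pullback along morphisms Y → X is not stated.) -/
theorem result (X : Scheme.{u}) [CompactSpace X] [X.IsSeparated]
    (J : X.IdealSheafData) (hJ : J * J = ⊥)
    [PicGrp.Law X] [PicGrp.Law J.subscheme] (hi : PicGrp.PullMul J.subschemeι)
    (hsurj : Function.Surjective J.subschemeι.appTop.hom) :
    Nonempty ((PicGrp.pullHom J.subschemeι hi).ker ≃* Multiplicative (Coh.HH X (ClSub.idealMod J) 1)) := by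
  obtain ⟨ε, δ₀, α, δ₁, -, -, h3, h4, h5, -⟩ := Groth.Agent.Lib.PicRelH8.thick_seq J hJ hi
  -- restriction of units is surjective
  have hJJ : ∀ a : Γ(X, ⊤), J.subschemeι.appTop.hom a = 0 → a * a = 0 := by
    intro a ha
    obtain ⟨t, ht⟩ := Groth.Agent.Lib.LiftUniqH7.exists_idealSect J ⊤ a ha
    have h := Groth.Agent.Lib.UnitsSeqH7.idealSect_mul_eq_zero J hJ ⊤ t t
    rw [ht] at h
    exact h
  have hu : Function.Surjective (Units.map J.subschemeι.appTop.hom.toMonoidHom) := by
    intro v
    obtain ⟨a, ha⟩ := hsurj (v : Γ(J.subscheme, ⊤))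
    obtain ⟨b, hb⟩ := hsurj ((v⁻¹ : (Γ(J.subscheme, ⊤))ˣ) : Γ(J.subscheme, ⊤))
    have hk : J.subschemeι.appTop.hom (a * b - 1) = 0 := by
      rw [map_sub, map_mul, ha, hb, map_one, Units.mul_inv, sub_self]
    have hnn := hJJ _ hk
    have hinv : a * (b * (1 - (a * b - 1))) = 1 := by
      linear_combination (-1 : Γ(X, ⊤)) * hnn
    exact ⟨⟨a, b * (1 - (a * b - 1)), hinv, (mul_comm _ _).trans hinv⟩, Units.ext ha⟩
  have hδ₀ : δ₀.range = ⊥ := by
    rw [MonoidHom.range_eq_bot_iff, ← MonoidHom.ker_eq_top_iff, h3, MonoidHom.range_eq_top]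
    exact hu
  have hα : Function.Injective α := by
    rw [← MonoidHom.ker_eq_bot_iff, h4, hδ₀]
  rw [h5]
  exact ⟨(MonoidHom.ofInjective hα).symm⟩

end Groth.Agent.S15399
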