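import Groth.Statements.S15412
import Mathlib

set_option autoImplicit false
universe w v u
open CategoryTheory Opposite
open Bitors

namespace Groth.Agent.S15412

private lemma isomFamily_ext {C : Type u} [Category.{v} C] {J : GrothendieckTopology C}
    {G H : Sheaf J GrpCat.{w}} {P : NonAbH1.GSheaf G} (φ1 φ2 : Bitors.IsomFamily P H)
    (h : ∀ (U : Cᵒᵖ) (p : P.P.obj.obj U) (x : H.obj.obj U), φ1.φ p x = φ2.φ p x) : φ1 = φ2 := by
  cases φ1 with
  | mk f1 a1 b1 =>
    cases φ2 with
    | mk f2 a2 b2 =>
      have : @f1 = @f2 := by
        funext U p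
        exact MulEquiv.ext (h U p)
      subst this
      rfl

private lemma rightStr_ext {C : Type u} [Category.{v} C] {J : GrothendieckTopology C}
    {G H : Sheaf J GrpCat.{w}} {P : NonAbH1.GSheaf G} (ρ1 ρ2 : Bitors.RightStr P H)
    (h : ∀ (U : Cᵒᵖ) (p : P.P.obj.obj U) (x : H.obj.obj U), ρ1.rsmul p x = ρ2.rsmul p x) :
    ρ1 = ρ2 := by
  cases ρ1 with
  | mk f1 a1 b1 c1 d1 e1 =>
    cases ρ2 with
    | mk f2 a2 b2 c2 d2 e2 =>
      have : @f1 = @f2 := by
        funext U p x
        exact h U p x
      subst this
      rfl

/-- On a site, let G and H be sheaves of groups and P a sheaf of sets with a left G-action which is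
simply transitive on every set of sections P(U). The right H-actions on P that are compatible with
restriction, commute with the G-action and are simply transitive on every P(U) (for P a G-torsor:
the structures of (G, H)-bitorsor on P) correspond exactly to the families of group isomorphisms φ_p
: H(U) ≃ G(U), one for each section p of P over each U, compatible with restriction and with φ_{g·p}
= g φ_p g⁻¹ (the equivariant maps from P to the sheaf of isomorphisms from H to G); the
correspondence is the rule p · h = φ_p(h) · p, and the statement is that every right structure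
arises by this rule from exactly one family and every family from exactly one right structure. (The
published statement takes P a left G-torsor; only the simple transitivity of the G-action on
sections enters, so local existence of sections is not assumed.) -/
theorem result
    {C : Type u} [Category.{v} C] {J : GrothendieckTopology C}
    (G H : Sheaf J GrpCat.{w}) (P : NonAbH1.GSheaf G) (hP : P.IsPseudoTorsor) :
    (∀ ρ : Bitors.RightStr P H, ∃! φ : Bitors.IsomFamily P H,
        ∀ (U : Cᵒᵖ) (p : P.P.obj.obj U) (h : H.obj.obj U), ρ.rsmul p h = P.smul (φ.φ p h) p) ∧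
    (∀ φ : Bitors.IsomFamily P H, ∃! ρ : Bitors.RightStr P H,
        ∀ (U : Cᵒᵖ) (p : P.P.obj.obj U) (h : H.obj.obj U), ρ.rsmul p h = P.smul (φ.φ p h) p) := by
  have inj : ∀ {U : Cᵒᵖ} (p : P.P.obj.obj U) (g g' : G.obj.obj U),
      P.smul g p = P.smul g' p → g = g' :=
    fun {U} p g g' h => (hP U p (P.smul g' p)).unique h rfl
  constructor
  · intro ρ
    have ex : ∀ (U : Cᵒᵖ) (p : P.P.obj.obj U) (h : H.obj.obj U),
        ∃ g : G.obj.obj U, P.smul g p = ρ.rsmul p h := fun U p h => (hP U p _).exists
    choose ψ hψ using ex
    have ex' : ∀ (U : Cᵒᵖ) (p : P.P.obj.obj U) (g : G.obj.obj U),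
        ∃ h : H.obj.obj U, ρ.rsmul p h = P.smul g p :=
      fun U p g => (ρ.existsUnique_rsmul p _).exists
    choose χ hχ using ex'
    let φ0 : Bitors.IsomFamily P H :=
      { φ := fun {U} p =>
          { toFun := fun h => ψ U p h
            invFun := fun g => χ U p g
            left_inv := fun h =>
              (ρ.existsUnique_rsmul p (P.smul (ψ U p h) p)).unique (hχ U p _) (hψ U p h).symm
            right_inv := fun g => inj p _ _ ((hψ U p _).trans (hχ U p g))
            map_mul' := fun h h' => by
              apply inj p
              rw [hψ, ρ.rsmul_mul, ← hψ U p h, ρ.smul_rsmul, ← hψ U p h', ← P.mul_smul] }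
        map_φ := fun {U V} f p h => by
          apply inj (P.P.obj.map f p)
          show P.smul (G.obj.map f (ψ U p h)) (P.P.obj.map f p) =
            P.smul (ψ V (P.P.obj.map f p) (H.obj.map f h)) (P.P.obj.map f p)
          rw [← P.map_smul, hψ, hψ, ρ.map_rsmul]
        φ_smul := fun {U} g p h => by
          apply inj (P.smul g p)
          show P.smul (ψ U (P.smul g p) h) (P.smul g p) =
            P.smul (g * ψ U p h * g⁻¹) (P.smul g p)
          rw [hψ, ρ.smul_rsmul, ← hψ U p h, ← P.mul_smul, ← P.mul_smul, inv_mul_cancel_right] }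
    refine ⟨φ0, fun U p h => (hψ U p h).symm, ?_⟩
    intro φ' hφ'
    apply isomFamily_ext
    intro U p x
    apply inj p
    rw [← hφ' U p x]
    exact (hψ U p x).symm
  · intro φ
    let ρ0 : Bitors.RightStr P H :=
      { rsmul := fun {U} p h => P.smul (φ.φ p h) p
        rsmul_one := fun {U} p => by rw [map_one, P.one_smul]
        rsmul_mul := fun {U} p h h' => by
          rw [φ.φ_smul, ← P.mul_smul, inv_mul_cancel_right, map_mul]
        map_rsmul := fun {U V} f p h => by rw [P.map_smul, φ.map_φ]
        smul_rsmul := fun {U} g p h => by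
          rw [φ.φ_smul, ← P.mul_smul, inv_mul_cancel_right, P.mul_smul]
        existsUnique_rsmul := fun {U} p q => by
          obtain ⟨g, hg, hguniq⟩ := hP U p q
          refine ⟨(φ.φ p).symm g, ?_, fun h hh => ?_⟩
          · show P.smul (φ.φ p ((φ.φ p).symm g)) p = q
            rw [MulEquiv.apply_symm_apply]; exact hg
          · rw [MulEquiv.eq_symm_apply]; exact hguniq _ hh }
    refine ⟨ρ0, fun U p h => rfl, ?_⟩
    intro ρ' hρ'
    apply rightStr_ext
    intro U p x
    exact hρ' U p x

end Groth.Agent.S15412
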