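import Groth.Statements.S15442
import Mathlib
import Groth.Agent.Lib.WeilCoh_helper5

set_option autoImplicit false
universe u v
open CategoryTheory AlgebraicGeometry
open WeilCoh

namespace Groth.Agent.S15442

/-- Let H^* be a Weil cohomology theory, with coefficient field K of characteristic zero, on nonsingular
connected projective varieties over the algebraically closed field k, and X such a variety. Then the
structure morphism K → H^0(X) is an isomorphism: c ↦ c · 1 is a bijection from K onto the degree-0
part of the cohomology ring. -/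
theorem result (k : Type u) [Field k] [IsAlgClosed k] (K : Type v) [Field K] [CharZero K]
    (T : WeilCoh.Theory k K) (X : WeilCoh.Var k) :
    Function.Bijective (fun c : K =>
      (⟨c • (1 : T.H X), (T.gr X 0).smul_mem c (SetLike.one_mem_graded (T.gr X))⟩ : ↥(T.gr X 0))) := by
  haveI := T.duality X 0 (2 * (dim X.obj.left : ℤ)) (by omega)
  have hfin : Module.finrank K ↥(T.gr X 0) = 1 := by
    rw [Module.finrank_of_isPerfPair (pairing K (T.gr X 0) (T.gr X (2 * (dim X.obj.left : ℤ))) (T.tr X)),
      (LinearEquiv.ofBijective _ (T.tr_bijective X)).finrank_eq, Module.finrank_self]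
  have hone : (⟨(1 : T.H X), SetLike.one_mem_graded (T.gr X)⟩ : ↥(T.gr X 0)) ≠ 0 := by
    intro h0
    have h1 : (1 : T.H X) = 0 := congrArg Subtype.val h0
    obtain ⟨b, hb⟩ := (T.tr_bijective X).2 (1 : K)
    have hb' : T.tr X (b : T.H X) = 1 := hb
    have : (b : T.H X) = 0 := by rw [← mul_one (b : T.H X), h1, mul_zero]
    rw [this, map_zero] at hb'
    exact zero_ne_one hb'
  have hsmul : ∀ c : K, (⟨c • (1 : T.H X), (T.gr X 0).smul_mem c (SetLike.one_mem_graded (T.gr X))⟩ :
      ↥(T.gr X 0)) = c • (⟨(1 : T.H X), SetLike.one_mem_graded (T.gr X)⟩ : ↥(T.gr X 0)) :=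
    fun c => rfl
  constructor
  · intro c c' h
    simp only [hsmul] at h
    exact smul_left_injective K hone h
  · intro w
    obtain ⟨c, hc⟩ := (finrank_eq_one_iff_of_nonzero' _ hone).1 hfin w
    exact ⟨c, by simp only [hsmul]; exact hc⟩

end Groth.Agent.S15442
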