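import Groth.Statements.S15446
import Mathlib
import Groth.Agent.Lib.WeilCoh_helper5

set_option autoImplicit false
universe u v
open CategoryTheory AlgebraicGeometry
open WeilCoh

namespace Groth.Agent.S15446

/-- For a Weil cohomology theory H^* (coefficients in K of characteristic zero, on nonsingular connected
projective varieties over an algebraically closed field k), a morphism f : X → Y of such varieties,
α ∈ H^i(X) and γ ∈ H^j(Y), one has f_*(α ∪ f^*(γ)) = f_*(α) ∪ γ, where f_* is the push-forward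
defined by Tr_Y(f_*(α) ∪ β) = Tr_X(α ∪ f^*(β)). -/
theorem result (k : Type u) [Field k] [IsAlgClosed k] (K : Type v) [Field K] [CharZero K]
    (T : WeilCoh.Theory k K) (X Y : WeilCoh.Var k) (f : X ⟶ Y) (i j : ℤ)
    (a : ↥(T.gr X i)) (c : ↥(T.gr Y j)) :
    (T.push f (i + j) ⟨(a : T.H X) * T.pull f c, SetLike.mul_mem_graded a.2 (T.pull_mem f j c c.2)⟩ : T.H Y) =
      (T.push f i a : T.H Y) * c := by
  have hL := (T.push f (i + j) ⟨(a : T.H X) * T.pull f c,
    SetLike.mul_mem_graded a.2 (T.pull_mem f j c c.2)⟩).2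
  have hR0 : (T.push f i a : T.H Y) * (c : T.H Y) ∈
      T.gr Y (i + 2 * (dim Y.obj.left : ℤ) - 2 * (dim X.obj.left : ℤ) + j) :=
    SetLike.mul_mem_graded (T.push f i a).2 c.2
  have e1 : i + 2 * (dim Y.obj.left : ℤ) - 2 * (dim X.obj.left : ℤ) + j =
      i + j + 2 * (dim Y.obj.left : ℤ) - 2 * (dim X.obj.left : ℤ) := by omega
  rw [e1] at hR0
  refine Groth.Agent.Lib.WeilCohH5.dual_inj T Y _ (2 * (dim X.obj.left : ℤ) - (i + j)) (by omega)
    _ _ hL hR0 ?_
  intro b hb
  have s1 := Groth.Agent.Lib.WeilCohH5.push_spec T f (i + j) ⟨(a : T.H X) * T.pull f c,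
    SetLike.mul_mem_graded a.2 (T.pull_mem f j c c.2)⟩ ⟨b, hb⟩
  have hcb0 : (c : T.H Y) * b ∈ T.gr Y (j + (2 * (dim X.obj.left : ℤ) - (i + j))) :=
    SetLike.mul_mem_graded c.2 hb
  have e2 : j + (2 * (dim X.obj.left : ℤ) - (i + j)) = 2 * (dim X.obj.left : ℤ) - i := by omega
  rw [e2] at hcb0
  have s2 := Groth.Agent.Lib.WeilCohH5.push_spec T f i a ⟨(c : T.H Y) * b, hcb0⟩
  simp only at s1 s2
  have e3 : (T.push f i a : T.H Y) * (c : T.H Y) * b = (T.push f i a : T.H Y) * ((c : T.H Y) * b) :=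
    mul_assoc _ _ _
  rw [s1, e3, s2, map_mul (T.pull f), mul_assoc]

end Groth.Agent.S15446
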