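import Groth.Statements.S15447
import Mathlib
import Groth.Agent.Lib.WeilCoh_helper5

set_option autoImplicit false
universe u v
open CategoryTheory AlgebraicGeometry
open WeilCoh

namespace Groth.Agent.S15447

/-- For a Weil cohomology theory H^* (coefficients in K of characteristic zero, on nonsingular connected
projective varieties over an algebraically closed field k) and morphisms f : X → Y and g : Y → Z of
such varieties, (g ∘ f)_* = g_* ∘ f_* on H^*(X); stated on each H^i(X), with both sides read in the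
total cohomology ring of Z. -/
theorem result (k : Type u) [Field k] [IsAlgClosed k] (K : Type v) [Field K] [CharZero K]
    (T : WeilCoh.Theory k K) (X Y Z : WeilCoh.Var k) (f : X ⟶ Y) (g : Y ⟶ Z) (i : ℤ)
    (a : ↥(T.gr X i)) :
    (T.push (f ≫ g) i a : T.H Z) =
      (T.push g (i + 2 * (WeilCoh.dim Y.obj.left : ℤ) - 2 * (WeilCoh.dim X.obj.left : ℤ))
        (T.push f i a) : T.H Z) := by
  have hL := (T.push (f ≫ g) i a).2
  have hcast : ∀ (m' m : ℤ) (z : T.gr Z m'), m' = m → (z : T.H Z) ∈ T.gr Z m := by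
    intro m' m z h; subst h; exact z.2
  have e1 : i + 2 * (dim Y.obj.left : ℤ) - 2 * (dim X.obj.left : ℤ) + 2 * (dim Z.obj.left : ℤ) -
      2 * (dim Y.obj.left : ℤ) = i + 2 * (dim Z.obj.left : ℤ) - 2 * (dim X.obj.left : ℤ) := by omega
  have hR0 := hcast _ _ (T.push g (i + 2 * (WeilCoh.dim Y.obj.left : ℤ) - 2 * (WeilCoh.dim X.obj.left : ℤ))
        (T.push f i a)) e1
  refine Groth.Agent.Lib.WeilCohH5.dual_inj T Z _ (2 * (dim X.obj.left : ℤ) - i) (by omega)
    _ _ hL hR0 ?_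
  intro b hb
  have s1 := Groth.Agent.Lib.WeilCohH5.push_spec T (f ≫ g) i a ⟨b, hb⟩
  have e2 : 2 * (dim X.obj.left : ℤ) - i =
      2 * (dim Y.obj.left : ℤ) - (i + 2 * (dim Y.obj.left : ℤ) - 2 * (dim X.obj.left : ℤ)) := by omega
  have hb' : b ∈ T.gr Z (2 * (dim Y.obj.left : ℤ) -
      (i + 2 * (dim Y.obj.left : ℤ) - 2 * (dim X.obj.left : ℤ))) := e2 ▸ hb
  have s2 := Groth.Agent.Lib.WeilCohH5.push_spec T g
    (i + 2 * (dim Y.obj.left : ℤ) - 2 * (dim X.obj.left : ℤ)) (T.push f i a) ⟨b, hb'⟩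
  have s3 := Groth.Agent.Lib.WeilCohH5.push_spec T f i a ⟨T.pull g b, T.pull_mem g _ b hb⟩
  simp only at s1 s2 s3
  rw [s1, s2, s3, T.pull_comp]
  rfl

end Groth.Agent.S15447
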