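import Groth.Statements.S15495
import Mathlib

set_option autoImplicit false
universe u
open CAlg

namespace Groth.Agent.S15495

/-- In an Artinian local ring R whose maximal ideal m contains the prime number p, the multiplicative
group 1 + m is annihilated under some power of p: there is n with (1 + x)^(p^n) = 1 for every x in
m. (The published text makes this assertion inside a proof, for Artinian local algebras over the
Witt ring of a perfect field of characteristic p; only p ∈ m and the nilpotence of m are used.) -/
theorem result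
    (R : Type u) [CommRing R] [IsLocalRing R] [IsArtinianRing R]
    (p : ℕ) (hp : p.Prime) (hpm : (p : R) ∈ IsLocalRing.maximalIdeal R) :
    ∃ n : ℕ, ∀ x ∈ IsLocalRing.maximalIdeal R, (1 + x) ^ (p ^ n) = 1 := by
  classical
  obtain ⟨N, hN⟩ : ∃ N : ℕ, IsLocalRing.maximalIdeal R ^ N = ⊥ := by
    have h1 := IsArtinianRing.isNilpotent_jacobson_bot (R := R)
    rw [IsLocalRing.jacobson_eq_maximalIdeal ⊥ bot_ne_top] at h1
    exact h1
  have key : ∀ k : ℕ, ∀ x ∈ IsLocalRing.maximalIdeal R,
      (1 + x) ^ (p ^ k) - 1 ∈ IsLocalRing.maximalIdeal R ^ (k + 1) := by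
    intro k
    induction k with
    | zero => intro x hx; simpa using hx
    | succ k ih =>
      intro x hx
      have hy := ih x hx
      obtain ⟨y, hy'⟩ : ∃ y, y = (1 + x) ^ (p ^ k) - 1 := ⟨_, rfl⟩
      rw [← hy'] at hy
      have hym : y ∈ IsLocalRing.maximalIdeal R :=
        Ideal.pow_le_self (Nat.succ_ne_zero k) hy
      have e1 : (1 + x) ^ (p ^ (k + 1)) = (1 + y) ^ p := by
        rw [pow_succ, pow_mul, hy']; ring_nf
      have hgeom := geom_sum_mul (1 + y) p
      have hS : (∑ i ∈ Finset.range p, (1 + y) ^ i) ∈ IsLocalRing.maximalIdeal R := by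
        rw [← IsLocalRing.residue_eq_zero_iff, map_sum]
        have hy0 : IsLocalRing.residue R y = 0 := (IsLocalRing.residue_eq_zero_iff y).mpr hym
        simp only [map_pow, map_add, map_one, hy0, add_zero, one_pow, Finset.sum_const,
          Finset.card_range, nsmul_eq_mul, mul_one]
        rw [← map_natCast (IsLocalRing.residue R)]
        exact (IsLocalRing.residue_eq_zero_iff _).mpr hpm
      rw [e1, ← hgeom, add_sub_cancel_left, pow_succ (IsLocalRing.maximalIdeal R) (k + 1)]
      exact Ideal.mul_mem_mul_rev hy hS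
  refine ⟨N, fun x hx => ?_⟩
  have h1 := key N x hx
  have h2 : IsLocalRing.maximalIdeal R ^ (N + 1) ≤ IsLocalRing.maximalIdeal R ^ N :=
    Ideal.pow_le_pow_right (Nat.le_succ N)
  have h3 := h2 h1
  rw [hN, Ideal.mem_bot] at h3
  exact sub_eq_zero.mp h3

end Groth.Agent.S15495
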