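import Groth.Statements.S15496
import Mathlib

set_option autoImplicit false
universe u
open CAlg

namespace Groth.Agent.S15496

/-- Let R be a local ring with maximal ideal m, p a prime number lying in m, and suppose the residue
field of R is perfect, i.e. every element is a p-th power; let n ≥ 0. Then every unit of R is the
product of a p^n-th power of a unit and an element of 1 + m, and an element of 1 + m which is a
p^n-th power of a unit is a p^n-th power of an element of 1 + m; so the inclusion of 1 + m in the
unit group induces a bijection between (1 + m)/(1 + m)^(p^n) and Rˣ/(Rˣ)^(p^n). (The published text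
derives this equality of quotients, inside a proof, from perfectness of the base field K for all
Artinian local algebras over its Witt ring, whose residue fields need not be perfect; this row
assumes the residue field of R perfect of characteristic p, which the equality needs, and does not
assume R Artinian.) -/
theorem result
    (R : Type u) [CommRing R] [IsLocalRing R] (p : ℕ) (hp : p.Prime)
    (hpm : (p : R) ∈ IsLocalRing.maximalIdeal R)
    (hperf : ∀ a : IsLocalRing.ResidueField R, ∃ b : IsLocalRing.ResidueField R, b ^ p = a)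
    (n : ℕ) :
    (∀ u : Rˣ, ∃ v : Rˣ, ∃ x ∈ IsLocalRing.maximalIdeal R, (u : R) = (v : R) ^ (p ^ n) * (1 + x)) ∧
    (∀ x ∈ IsLocalRing.maximalIdeal R, (∃ v : Rˣ, (v : R) ^ (p ^ n) = 1 + x) →
      ∃ y ∈ IsLocalRing.maximalIdeal R, (1 + y) ^ (p ^ n) = 1 + x) := by
  classical
  have hroot : ∀ n : ℕ, ∀ a : IsLocalRing.ResidueField R,
      ∃ b : IsLocalRing.ResidueField R, b ^ (p ^ n) = a := by
    intro n
    induction n with
    | zero => intro a; exact ⟨a, by simp⟩
    | succ n ih =>
      intro a
      obtain ⟨b, hb⟩ := ih a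
      obtain ⟨c, hc⟩ := hperf b
      exact ⟨c, by rw [pow_succ, mul_comm, pow_mul, hc, hb]⟩
  have hp0 : (p : IsLocalRing.ResidueField R) = 0 := by
    have : IsLocalRing.residue R (p : R) = 0 :=
      (IsLocalRing.residue_eq_zero_iff _).mpr hpm
    simpa using this
  haveI : CharP (IsLocalRing.ResidueField R) p := (CharP.charP_iff_prime_eq_zero hp).mpr hp0
  haveI : Fact p.Prime := ⟨hp⟩
  refine ⟨?_, ?_⟩
  · intro u
    obtain ⟨b, hb⟩ := hroot n (IsLocalRing.residue R (u : R))
    obtain ⟨v₀, rfl⟩ := IsLocalRing.residue_surjective b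
    have hu : IsLocalRing.residue R (u : R) ≠ 0 := by
      rw [Ne, IsLocalRing.residue_eq_zero_iff]
      intro h
      exact (IsLocalRing.mem_maximalIdeal _).mp h u.isUnit
    have hv0 : IsUnit v₀ := by
      by_contra h
      have : IsLocalRing.residue R v₀ = 0 :=
        (IsLocalRing.residue_eq_zero_iff _).mpr ((IsLocalRing.mem_maximalIdeal _).mpr h)
      rw [this, zero_pow (pow_ne_zero _ hp.ne_zero)] at hb
      exact hu hb.symm
    obtain ⟨v, rfl⟩ := hv0
    refine ⟨v, ((v⁻¹ : Rˣ) : R) ^ (p ^ n) * u - 1, ?_, ?_⟩
    · rw [← IsLocalRing.residue_eq_zero_iff]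
      simp only [map_sub, map_mul, map_pow, map_one]
      rw [← hb, ← mul_pow, ← map_mul, Units.inv_mul, map_one, one_pow, sub_self]
    · have : (v : R) ^ (p ^ n) * (((v⁻¹ : Rˣ) : R) ^ (p ^ n) * u) = u := by
        rw [← mul_assoc, ← mul_pow, Units.mul_inv, one_pow, one_mul]
      rw [add_sub_cancel, this]
  · rintro x hx ⟨v, hv⟩
    refine ⟨(v : R) - 1, ?_, by rw [add_sub_cancel, hv]⟩
    rw [← IsLocalRing.residue_eq_zero_iff, map_sub, map_one]
    have h1 : (IsLocalRing.residue R (v : R)) ^ (p ^ n) = 1 := by
      rw [← map_pow, hv, map_add, map_one, (IsLocalRing.residue_eq_zero_iff _).mpr hx, add_zero]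
    have h2 : (IsLocalRing.residue R (v : R) - 1) ^ (p ^ n) = 0 := by
      rw [sub_pow_char_pow, h1, one_pow, sub_self]
    exact pow_eq_zero_iff (pow_ne_zero _ hp.ne_zero) |>.mp h2

end Groth.Agent.S15496
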