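import Groth.Statements.S15512
import Mathlib
import Groth.Agent.Lib.ExtTop_helper5

set_option autoImplicit false
universe u
open CategoryTheory
open CAlg

namespace Groth.Agent.S15512

/-- Let A be a Noetherian ring which is regular (its localization at every maximal ideal is a regular
local ring) and of finite Krull dimension, M a finitely generated A-module and d a natural number.
If Ext^i_A(M, A) vanishes for every i > d, then the projective dimension of M is at most d. -/
theorem result (A : Type u) [CommRing A]
    [IsNoetherianRing A] (hreg : ∀ m : MaximalSpectrum A, IsRegularLocalRing (Localization.AtPrime m.asIdeal))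
    (hdim : ringKrullDim A < ⊤) (M : Type u) [AddCommGroup M] [Module A M] [Module.Finite A M] (d : ℕ)
    (h : ∀ i : ℕ, d < i → Subsingleton (Abelian.Ext (ModuleCat.of A M) (ModuleCat.of A A) i)) :
    HasProjectiveDimensionLT (ModuleCat.of A M) (d + 1) := by
  classical
  by_cases hM : Subsingleton M
  · haveI := (ModuleCat.isZero_of_subsingleton (ModuleCat.of A M)).hasProjectiveDimensionLT_zero
    exact hasProjectiveDimensionLT_of_ge _ 0 (d + 1) (Nat.zero_le _)
  haveI : Nontrivial M := not_subsingleton_iff_nontrivial.mp hM
  obtain ⟨D, hD⟩ : ∃ D : ℕ, ringKrullDim A ≤ (D : WithBot ℕ∞) := by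
    induction h' : ringKrullDim A using WithBot.recBotCoe with
    | bot => exact ⟨0, bot_le⟩
    | coe v =>
      induction v using ENat.recTopCoe with
      | top => rw [h'] at hdim; exact absurd hdim (lt_irrefl _)
      | coe D => exact ⟨D, le_rfl⟩
  haveI : Module.Finite A (ModuleCat.of A M) := inferInstanceAs (Module.Finite A M)
  have hfin : HasProjectiveDimensionLE (ModuleCat.of A M) D := by
    rw [ModuleCat.hasProjectiveDimensionLE_iff_forall_maximalSpectrum]
    intro m
    haveI := hreg m
    obtain ⟨dm, hdm⟩ := Groth.Agent.GlDim.exists_dim (Localization.AtPrime m.asIdeal)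
    have h1 := Groth.Agent.GlDim.hasProjectiveDimensionLT_of_regular
      (Localization.AtPrime m.asIdeal) dm hdm
      ((ModuleCat.of A M).localizedModule m.asIdeal.primeCompl)
    have hle : dm ≤ D := by
      have h2 : ringKrullDim (Localization.AtPrime m.asIdeal) ≤ ringKrullDim A := by
        rw [IsLocalization.AtPrime.ringKrullDim_eq_height m.asIdeal (Localization.AtPrime m.asIdeal)]
        exact Ideal.height_le_ringKrullDim_of_isPrime
      rw [hdm] at h2
      exact_mod_cast h2.trans hD
    exact hasProjectiveDimensionLT_of_ge _ (dm + 1) (D + 1) (by omega)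
  obtain ⟨r, hr1, hr2⟩ := Groth.Agent.ExtTop.exists_pd M ⟨D + 1, hfin⟩
  have hne := Groth.Agent.ExtTop.ext_top_not_subsingleton M r hr1 hr2
  have hrd : r ≤ d := by
    by_contra hlt
    exact hne (h r (by omega))
  exact hasProjectiveDimensionLT_of_ge _ (r + 1) (d + 1) (by omega)

end Groth.Agent.S15512
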