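import Groth.Statements.S1553
import Groth.Agent.Lib.FibGen2_helper8
import Groth.Agent.Lib.DimGenFib_helper8

set_option autoImplicit false
universe u
open CategoryTheory CategoryTheory.Limits AlgebraicGeometry
open Variety

namespace Groth.Agent.S1553

/-- Let f : X → Y be locally of finite type, x a point with image y such that the local ring of Y at y
is Noetherian, and d a natural number such that at the generic points η of the irreducible
components of X passing through x we have f(η) ≠ y and local fibre dimension d. Then the local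
dimension at x of the fibre over y is at most d + dim O_{Y,y} - 1 (written additively). -/
theorem result {X Y : Scheme.{u}} (f : X ⟶ Y) [LocallyOfFiniteType f]
    (x : X) [IsNoetherianRing (Y.presheaf.stalk (f.base x))] (d : ℕ)
    (hgen : ∀ Z ∈ irreducibleComponents (X : Type u), x ∈ Z → ∀ η : X, IsGenericPoint η Z →
      f.base η ≠ f.base x ∧ FlatMor.fibreDimAt f η = d) :
    FlatMor.fibreDimAt f x + 1 ≤ (d : WithBot ℕ∞) + ringKrullDim (Y.presheaf.stalk (f.base x)) := by
  have hmaxiff : ∀ η : X, (∀ z : X, z ⤳ η → z = η) ↔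
      closure ({η} : Set X) ∈ irreducibleComponents (X : Type u) := fun η =>
    (Groth.Agent.SchFTH8.closure_mem_irreducibleComponents_iff η).symm
  obtain ⟨X', g', f', x', hlft, hx', hdimeq, hmax, hspec, hfib⟩ :=
    FibGenH8.exists_local_baseChange f x
  haveI := hlft
  have h1 : ((Order.coheight (f' x') : ℕ∞) : WithBot ℕ∞) ≤
      ringKrullDim (Y.presheaf.stalk (f x)) := by
    rw [← AlgebraicGeometry.ringKrullDim_stalk_eq_coheight]
    refine (Groth.Agent.DimGenFibH8.stalk_dim_le_topDim _ _).trans ?_
    exact le_of_eq (PrimeSpectrum.topologicalKrullDim_eq_ringKrullDim _)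
  have key := FibGenH8.one_add_fibreDimAt_le f' x' d (by
    intro ξ hξ hsp
    have hmaxX : ∀ z : X, z ⤳ g' ξ → z = g' ξ := hmax ξ hξ
    have hZ := (hmaxiff (g' ξ)).mp hmaxX
    have hsp' : g' ξ ⤳ x := by
      rw [← hx']; exact hspec _ _ hsp
    obtain ⟨hne, hd⟩ := hgen _ hZ hsp'.mem_closure (g' ξ) isGenericPoint_closure
    refine ⟨?_, by rw [hdimeq ξ]; exact hd⟩
    intro heq
    apply hne
    have := hfib ξ x' heq
    rw [hx'] at this
    exact this)
  rw [hdimeq x', hx'] at key
  have h2 : ((Order.coheight (f' x') + (d : ℕ∞) : ℕ∞) : WithBot ℕ∞) ≤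
      (d : WithBot ℕ∞) + ringKrullDim (Y.presheaf.stalk (f x)) := by
    push_cast
    rw [add_comm]
    exact add_le_add_right h1 _
  have h3 : FlatMor.fibreDimAt f x + 1 = ((1 : ℕ∞) : WithBot ℕ∞) + FlatMor.fibreDimAt f x := by
    rw [add_comm]; rfl
  rw [h3]
  exact key.trans h2

end Groth.Agent.S1553
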