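import Groth.Statements.S1554
import Groth.Agent.Lib.FibGen2_helper8
import Groth.Agent.Lib.DimGenFib_helper8

set_option autoImplicit false
universe u
open CategoryTheory CategoryTheory.Limits AlgebraicGeometry
open Variety

namespace Groth.Agent.S1554

/-- Let f : X → Y be locally of finite type, x a point with image y such that the local ring of Y at y
is Noetherian of dimension at most one, and d a natural number such that the local fibre dimension
is d at the generic points of the irreducible components of X passing through x. Then the local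
dimension at x of the fibre over y equals d. -/
theorem result {X Y : Scheme.{u}} (f : X ⟶ Y) [LocallyOfFiniteType f]
    (x : X) [IsNoetherianRing (Y.presheaf.stalk (f.base x))] (hdimY : ringKrullDim (Y.presheaf.stalk (f.base x)) ≤ 1) (d : ℕ)
    (hgen : ∀ Z ∈ irreducibleComponents (X : Type u), x ∈ Z → ∀ η : X, IsGenericPoint η Z → FlatMor.fibreDimAt f η = d) :
    FlatMor.fibreDimAt f x = d := by
  have hmaxiff : ∀ η : X, (∀ z : X, z ⤳ η → z = η) ↔
      closure ({η} : Set X) ∈ irreducibleComponents (X : Type u) := fun η =>
    (Groth.Agent.SchFTH8.closure_mem_irreducibleComponents_iff η).symm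
  apply le_antisymm
  · obtain ⟨X', g', f', x', hlft, hx', hdimeq, hmax, hspec, hfib⟩ :=
      FibGenH8.exists_local_baseChange f x
    haveI := hlft
    rw [← hx', ← hdimeq x']
    apply FibGenH8.fibreDimAt_le_of_codim_le_one f' x' d
    · have h1 : ((Order.coheight (f' x') : ℕ∞) : WithBot ℕ∞) ≤
          ringKrullDim (Y.presheaf.stalk (f x)) := by
        rw [← AlgebraicGeometry.ringKrullDim_stalk_eq_coheight]
        refine (Groth.Agent.DimGenFibH8.stalk_dim_le_topDim _ _).trans ?_
        exact le_of_eq (PrimeSpectrum.topologicalKrullDim_eq_ringKrullDim _)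
      have h2 := h1.trans hdimY
      exact_mod_cast h2
    · intro ξ hξ hsp
      rw [hdimeq ξ]
      have hmaxX : ∀ z : X, z ⤳ g' ξ → z = g' ξ := hmax ξ hξ
      have hZ := (hmaxiff (g' ξ)).mp hmaxX
      refine hgen _ hZ ?_ (g' ξ) isGenericPoint_closure
      have hsp' : g' ξ ⤳ x := by
        rw [← hx']; exact hspec _ _ hsp
      exact hsp'.mem_closure
  · obtain ⟨η, hsp, hη⟩ := CodimZeroH8.exists_isMax_ge x
    have hηmax : ∀ z : X, z ⤳ η → z = η := by
      intro z hz
      have hmax : IsMax η := Order.coheight_eq_zero.mp hη
      have h1 : η ≤ z := hz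
      have h2 : η ⤳ z := hmax h1
      exact (hz.antisymm h2).eq
    have hZ := (hmaxiff η).mp hηmax
    have hd := hgen _ hZ hsp.mem_closure η isGenericPoint_closure
    rw [← hd]
    exact FibGenH8.fibreDimAt_le_of_specializes f hsp

end Groth.Agent.S1554
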