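import Groth.Statements.S15549
import Mathlib
import Groth.Agent.Lib.GrTiQC_helper5
import Groth.Agent.Lib.GradedGen_helper3

set_option autoImplicit false
universe u
open CategoryTheory AlgebraicGeometry
open LocCoh

namespace Groth.Agent.S15549

/-- Let R be a Noetherian commutative ring, positively graded by additive subgroups R_d, with irrelevant
ideal R_+ and X = Proj R, and let M be a graded R-module which is the direct sum of its pieces M_i,
i ≥ 0 (non-negatively graded here). For every i and every m ∈ M_i, the global section of M(i)~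
defined by m (the value m/1 at every point) is zero if and only if some power of R_+ annihilates m.
Equivalently, degree by degree, the kernel of the canonical map from M to the direct sum over all n
of Γ(X, M(n)~) is the R_+-power-torsion submodule H^0_{R_+}(M). -/
theorem result {R σ : Type u} [CommRing R] [IsNoetherianRing R] [SetLike σ R] [AddSubgroupClass σ R]
    (𝒜 : ℕ → σ) [GradedRing 𝒜] {M τ : Type u} [AddCommGroup M] [Module R M] [SetLike τ M] [AddSubgroupClass τ M]
    (ℳ : ℕ → τ) [SetLike.GradedSMul 𝒜 ℳ] [DirectSum.Decomposition ℳ]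
    (i : ℕ) (m : ℳ i) :
    GrMod.alpha 𝒜 ℳ i m = 0 ↔
      ∃ k : ℕ, ∀ r : R, r ∈ (HomogeneousIdeal.irrelevant 𝒜).toIdeal ^ k → r • (m : M) = 0 := by
  classical
  have hval : ∀ y : (⊤ : (Proj 𝒜).Opens), GrMod.val (GrMod.alpha 𝒜 ℳ i m) y = LocalizedModule.mk (m : M) 1 :=
    fun y => rfl
  constructor
  · intro h
    have hpt : ∀ P : ProjectiveSpectrum 𝒜, ∃ u : R, u ∉ P.asHomogeneousIdeal ∧ u • (m : M) = 0 := by
      intro P
      have h1 := hval ⟨P, trivial⟩
      rw [h, Groth.Agent.GrTi.val_zero] at h1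
      exact (Groth.Agent.GrTi.mk_eq_zero_iff 𝒜 P (m : M) 1).mp h1.symm
    have hfg : (HomogeneousIdeal.irrelevant 𝒜).toIdeal.FG := IsNoetherian.noetherian _
    obtain ⟨E, hE, hspan⟩ := Groth.Agent.Lib.GradedGen_helper3.exists_finset_homogeneous_of_fg 𝒜 hfg
    have hrad : (HomogeneousIdeal.irrelevant 𝒜).toIdeal ≤
        ((Submodule.span R {(m : M)}).annihilator).radical := by
      rw [hspan]
      refine Ideal.span_le.mpr ?_
      intro e he
      obtain ⟨d, hd, hed⟩ := hE e (Finset.mem_coe.mp he)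
      obtain ⟨N, hN⟩ := Groth.Agent.Lib.GrModSectH1.pow_smul_eq_zero' 𝒜 ℳ hd hed i (m : M) m.2
        (fun P _ => hpt P)
      refine ⟨N, ?_⟩
      rw [Submodule.mem_annihilator_span_singleton]
      exact hN
    obtain ⟨k, hk⟩ := Ideal.exists_pow_le_of_le_radical_of_fg hrad hfg
    refine ⟨k, fun r hr => ?_⟩
    have := hk hr
    rwa [Submodule.mem_annihilator_span_singleton] at this
  · rintro ⟨k, hk⟩
    refine Groth.Agent.GrTi.ext_val 𝒜 ℳ _ _ fun y => ?_
    rw [hval y, Groth.Agent.GrTi.val_zero]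
    rw [Groth.Agent.GrTi.mk_eq_zero_iff]
    have h1 := y.1.not_irrelevant_le
    rw [SetLike.not_le_iff_exists] at h1
    obtain ⟨a, hairr, hay⟩ := h1
    refine ⟨a ^ k, fun hmem => hay (y.1.isPrime.mem_of_pow_mem k hmem), ?_⟩
    exact hk _ (Ideal.pow_mem_pow hairr k)

end Groth.Agent.S15549
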