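import Groth.Statements.S15557

set_option autoImplicit false
universe v u
open CategoryTheory
open CohDer

namespace Groth.Agent.S15557

open CategoryTheory.Pretriangulated in
/-- Let T = (X, Y, Z) and T' = (X', Y', Z') be distinguished triangles in a pretriangulated category and
assume that every morphism X → Z' and every morphism X → Z'[-1] is zero. Then composing with the
first map X' → Y' of T' is a bijection Hom(X, X') → Hom(X, Y'), and composing with the second map Y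
→ Z of T is a bijection Hom(Z, Z') → Hom(Y, Z'). (The published lemma is for triangulated
categories; the octahedral axiom plays no role.) -/
theorem result {D : Type u} [Category.{v} D] [Preadditive D]
    [Limits.HasZeroObject D] [HasShift D ℤ] [∀ n : ℤ, (shiftFunctor D n).Additive] [Pretriangulated D]
    (T T' : Triangle D) (hT : T ∈ distinguishedTriangles) (hT' : T' ∈ distinguishedTriangles)
    (hXZ : ∀ u : T.obj₁ ⟶ T'.obj₃, u = 0)
    (hXZ' : ∀ u : T.obj₁ ⟶ (shiftFunctor D (-1 : ℤ)).obj T'.obj₃, u = 0) :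
    Function.Bijective (fun u : T.obj₁ ⟶ T'.obj₁ => u ≫ T'.mor₁) ∧
      Function.Bijective (fun w : T.obj₃ ⟶ T'.obj₃ => T.mor₂ ≫ w) := by
  refine ⟨⟨?_, ?_⟩, ⟨?_, ?_⟩⟩
  · -- injectivity of `u ↦ u ≫ f'`
    intro u₁ u₂ h
    have h0 : (u₁ - u₂) ≫ T'.mor₁ = 0 := by
      rw [Preadditive.sub_comp]; exact sub_eq_zero.2 h
    obtain ⟨g, hg⟩ : ∃ g : T.obj₁ ⟶ (shiftFunctor D (-1 : ℤ)).obj T'.obj₃,
        u₁ - u₂ = g ≫ T'.invRotate.mor₁ :=
      Triangle.coyoneda_exact₂ _ (inv_rot_of_distTriang _ hT') (u₁ - u₂) h0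
    rw [hXZ' g, Limits.zero_comp] at hg
    exact sub_eq_zero.1 hg
  · -- surjectivity
    intro v
    obtain ⟨u, hu⟩ : ∃ u : T.obj₁ ⟶ T'.obj₁, v = u ≫ T'.mor₁ :=
      Triangle.coyoneda_exact₂ _ hT' v (hXZ _)
    exact ⟨u, hu.symm⟩
  · -- injectivity of `w ↦ g ≫ w`
    intro w₁ w₂ h
    have h0 : T.mor₂ ≫ (w₁ - w₂) = 0 := by
      rw [Preadditive.comp_sub]; exact sub_eq_zero.2 h
    obtain ⟨t, ht⟩ : ∃ t : (shiftFunctor D (1 : ℤ)).obj T.obj₁ ⟶ T'.obj₃,
        w₁ - w₂ = T.mor₃ ≫ t :=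
      Triangle.yoneda_exact₃ _ hT (w₁ - w₂) h0
    have ht0 : t = 0 := by
      apply (shiftFunctor D (-1 : ℤ)).map_injective
      rw [Functor.map_zero]
      let e := (shiftFunctorCompIsoId D (1 : ℤ) (-1) (by omega)).app T.obj₁
      have := hXZ' (e.inv ≫ (shiftFunctor D (-1 : ℤ)).map t)
      rw [← cancel_epi e.inv, this, Limits.comp_zero]
    rw [ht0, Limits.comp_zero] at ht
    exact sub_eq_zero.1 ht
  · -- surjectivity
    intro y
    obtain ⟨w, hw⟩ : ∃ w : T.obj₃ ⟶ T'.obj₃, y = T.mor₂ ≫ w :=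
      Triangle.yoneda_exact₂ _ hT y (hXZ _)
    exact ⟨w, hw.symm⟩

end Groth.Agent.S15557
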