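import Groth.Statements.S1557
import Mathlib
import Groth.Agent.Lib.DegPull1_helper9
import Groth.Agent.Lib.FLF2_helper8
import Groth.Agent.Lib.CurveTens4_helper9

set_option autoImplicit false
universe u
open CategoryTheory CategoryTheory.Limits AlgebraicGeometry
open Variety

namespace Groth.Agent.S1557

/-- On a proper curve X over k with generic point ξ, for E finite locally free of rank n and F coherent
of generic rank r (the dimension of the stalk F_ξ over the field O_{X,ξ}), one has χ(X, E ⊗ F) = r ·
deg(E) + n · χ(X, F). -/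
theorem result (k : Type u) [Field k] (X : Scheme.{u}) [X.Over (Spec (CommRingCat.of k))]
    [IsIntegral X] [IsProper (X ↘ (Spec (CommRingCat.of k)))] (hdim : topologicalKrullDim X = 1)
    (n : ℕ) (E : X.Modules) (hE : FlatMod.IsFinLocFreeOfRank n E) (F : X.Modules) (hF : Coh.IsCoh F) :
    Curv2.euler k X (CohB1.tensorMod E F) =
      (Module.finrank (X.presheaf.stalk (genericPoint X)) (F.presheaf.stalk (genericPoint X)) : ℤ) * Curv2.deg k X E n +
        n * Curv2.euler k X F := by
  classical
  haveI : IsLocallyNoetherian X :=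
    LocallyOfFiniteType.isLocallyNoetherian (X ↘ Spec (CommRingCat.of k))
  haveI : F.IsQuasicoherent := hF.1
  haveI : SheafOfModules.IsFiniteType (R := X.ringCatSheaf) F := hF.2
  obtain ⟨_, ⟨V, hV : IsAffineOpen V, rfl⟩, hξV, -⟩ :=
    (X.isBasis_affineOpens).exists_subset_of_mem_open (Set.mem_univ (genericPoint X)) isOpen_univ
  have hξV' : genericPoint X ∈ V := hξV
  haveI : IsNoetherianRing Γ(X, V) := IsLocallyNoetherian.component_noetherian ⟨V, hV⟩
  haveI : Module.Finite Γ(X, V) Γ(F, V) := QCohFT.finite_of_isFiniteType F hV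
  haveI : Module.FinitePresentation Γ(X, V) Γ(F, V) := Module.finitePresentation_of_finite _ _
  have hfree : Module.Free (X.presheaf.stalk (genericPoint X))
      (F.presheaf.stalk (genericPoint X)) := by
    letI : Field (X.presheaf.stalk (genericPoint X)) :=
      inferInstanceAs (Field X.functionField)
    exact Module.Free.of_divisionRing _ _
  obtain ⟨f, hξf, r, g, hg, hli⟩ := FLFH8.exists_basis_basicOpen F hV hξV' hfree
  have hW : IsAffineOpen (X.basicOpen f) := hV.basicOpen f
  have hrank := (FLFH8.free_stalk_of_basis F hW hξf g hg hli).2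
  have hdense : Dense ((X.basicOpen f : X.Opens) : Set X) :=
    (X.basicOpen f).isOpen.dense ⟨genericPoint X, hξf⟩
  have key := DegPull.phi_eq_mul_deg k X hdim.le hE hF hW hdense g hg hli
  unfold DegPull.phi at key
  rw [hrank]
  have hbr := CurveTens.euler_of_iso k X ((Groth.Agent.TensInv.commIso E).app F)
  change Curv2.euler k X (CohB1.tensorMod E F) = Curv2.euler k X (CohB1.tensorMod F E) at hbr
  rw [hbr]
  linarith

end Groth.Agent.S1557
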