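import Groth.Statements.S15585
import Mathlib
import Groth.Agent.Lib.RInv5_helper6
-- import your own Groth.Agent.* helpers here

set_option autoImplicit false
universe u v
open RInv

namespace Groth.Agent.S15585

/-- For a local ring `S` (maximal ideal `m`, residue field `k`) and a quadratic etale `S`-algebra `R`,
the ring `R/mR` is a field that is a separable extension of `k` of degree 2, or else it is
isomorphic as a `k`-algebra to `k × k`. -/
theorem result (S : Type u) (R : Type v) [CommRing S]
    [CommRing R] [Algebra S R] [IsLocalRing S] (hq : RInv.IsQuadEtale S R) :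
    (IsField (R ⧸ (IsLocalRing.maximalIdeal S).map (algebraMap S R)) ∧
      Module.finrank (S ⧸ IsLocalRing.maximalIdeal S)
        (R ⧸ (IsLocalRing.maximalIdeal S).map (algebraMap S R)) = 2 ∧
      Algebra.IsSeparable (S ⧸ IsLocalRing.maximalIdeal S)
        (R ⧸ (IsLocalRing.maximalIdeal S).map (algebraMap S R))) ∨
    Nonempty ((R ⧸ (IsLocalRing.maximalIdeal S).map (algebraMap S R)) ≃ₐ[S ⧸ IsLocalRing.maximalIdeal S]
      ((S ⧸ IsLocalRing.maximalIdeal S) × (S ⧸ IsLocalRing.maximalIdeal S))) := by

  obtain ⟨hfin, hproj, hunr, hrank⟩ := hq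
  letI : Field (S ⧸ IsLocalRing.maximalIdeal S) := Ideal.Quotient.field _
  have e := Algebra.TensorProduct.quotIdealMapEquivQuotTensor R (IsLocalRing.maximalIdeal S)
  have hfinA : Module.Finite (S ⧸ IsLocalRing.maximalIdeal S)
      (R ⧸ (IsLocalRing.maximalIdeal S).map (algebraMap S R)) :=
    Module.Finite.equiv e.symm.toLinearEquiv
  have hunrA : Algebra.FormallyUnramified (S ⧸ IsLocalRing.maximalIdeal S)
      (R ⧸ (IsLocalRing.maximalIdeal S).map (algebraMap S R)) :=
    Algebra.FormallyUnramified.of_equiv e.symm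
  have h2 : Module.finrank (S ⧸ IsLocalRing.maximalIdeal S)
      (R ⧸ (IsLocalRing.maximalIdeal S).map (algebraMap S R)) = 2 := by
    rw [e.toLinearEquiv.finrank_eq]
    have hfree : Module.Free S R := Module.free_of_flat_of_isLocalRing
    rw [Module.finrank_baseChange]
    have h3 := congrFun (Module.rankAtStalk_eq_finrank_of_free (R := S) (M := R))
      (IsLocalRing.closedPoint S)
    rw [hrank] at h3
    exact_mod_cast h3.symm
  rcases Groth.Agent.Lib.RInv5.isField_or_equiv_prod h2 with ⟨h1, h3⟩ | h
  · exact Or.inl ⟨h1, h2, h3⟩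
  · exact Or.inr h

end Groth.Agent.S15585
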