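import Groth.Statements.S15588
import Mathlib
import Groth.Agent.Lib.RInv6_helper6
-- import your own Groth.Agent.* helpers here

set_option autoImplicit false
universe u v
open scoped TensorProduct
open RInv

namespace Groth.Agent.S15588

/-- Let `R` be a commutative ring with an involution `lam` and fixed ring `S`, let `W ⊆ Spec S` be the
branch locus (the primes `p` with `S_p ⊗_S R` not quadratic etale over `S_p`) and `I` its vanishing
ideal. Then `lam` is the identity on `R/rad(IR)`, i.e. on the reduced closed subscheme `π⁻¹(W)` of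
`Spec R`: `lam r - r ∈ rad(IR)` for all `r`. Affine-local form of the statement for a good quotient
of schemes by an involution. -/
theorem result (S : Type u) (R : Type v) [CommRing S] [CommRing R]
    [Algebra S R] (lam : R ≃+* R) (hlam : Function.Involutive lam) (hS : RInv.IsFixedRing S R lam)
    (W : Set (PrimeSpectrum S))
    (hW : W = {p : PrimeSpectrum S | ¬ RInv.IsQuadEtale (Localization.AtPrime p.asIdeal) (Localization.AtPrime p.asIdeal ⊗[S] R)})
    (r : R) :
    lam r - r ∈ ((PrimeSpectrum.vanishingIdeal W).map (algebraMap S R)).radical := by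

  have hfixN : lam ((r - lam r) * lam (r - lam r)) = (r - lam r) * lam (r - lam r) := by
    rw [map_mul, hlam (r - lam r), mul_comm]
  obtain ⟨s0, hs0⟩ := (hS.2 _).mp hfixN
  have hs0I : s0 ∈ PrimeSpectrum.vanishingIdeal W := by
    rw [PrimeSpectrum.mem_vanishingIdeal]
    intro p hp
    rw [hW] at hp
    by_contra hnot
    exact hp ((Groth.Agent.Lib.RInv6.isQuadEtale_atPrime_iff hlam hS p).mpr ⟨r, s0, hs0, hnot⟩)
  have h1 : (lam r - r) ^ 2 = -(algebraMap S R s0) := by
    rw [hs0, map_sub, hlam r]; ring
  refine ⟨2, ?_⟩
  rw [h1]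
  exact Ideal.neg_mem_iff _ |>.mpr (Ideal.mem_map_of_mem _ hs0I)

end Groth.Agent.S15588
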