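import Groth.Statements.S15589
import Mathlib
import Groth.Agent.Lib.RInv7_helper6
import Groth.Agent.S15588
-- import your own Groth.Agent.* helpers here

set_option autoImplicit false
universe u v
open scoped TensorProduct
open RInv

namespace Groth.Agent.S15589

/-- Let `R` be a commutative ring with an involution `lam` and fixed ring `S`, `W ⊆ Spec S` the branch
locus (primes `p` with `S_p ⊗_S R` not quadratic etale over `S_p`), `I` its vanishing ideal and `J =
rad(IR)`. Then `Spec(R/J) → Spec(S/I)` is a homeomorphism; if `2` is a unit of `S`, the ring map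
`S/I → R/J` is moreover bijective, so the reduced preimage of the branch locus maps isomorphically
onto it. Affine-local form of the statement for a good quotient of schemes by an involution (the
hypothesis `I ≤ J ∩ S` holds automatically and only serves to write down the map). -/
theorem result (S : Type u) (R : Type v) [CommRing S] [CommRing R]
    [Algebra S R] (lam : R ≃+* R) (hlam : Function.Involutive lam) (hS : RInv.IsFixedRing S R lam)
    (W : Set (PrimeSpectrum S))
    (hW : W = {p : PrimeSpectrum S | ¬ RInv.IsQuadEtale (Localization.AtPrime p.asIdeal) (Localization.AtPrime p.asIdeal ⊗[S] R)})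
    (J : Ideal R) (hJ : J = ((PrimeSpectrum.vanishingIdeal W).map (algebraMap S R)).radical)
    (hIJ : PrimeSpectrum.vanishingIdeal W ≤ J.comap (algebraMap S R)) :
    IsHomeomorph (PrimeSpectrum.comap (Ideal.quotientMap J (algebraMap S R) hIJ)) ∧
      (IsUnit (2 : S) → Function.Bijective (Ideal.quotientMap J (algebraMap S R) hIJ)) := by

  have htrivJ : ∀ r : R, lam r - r ∈ J := by
    intro r; rw [hJ]; exact Groth.Agent.S15588.result S R lam hlam hS W hW r
  -- elements of `S` landing in `J` lie in `I`
  have hcomap : ∀ a : S, algebraMap S R a ∈ J → a ∈ PrimeSpectrum.vanishingIdeal W := by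
    intro a ha
    rw [PrimeSpectrum.mem_vanishingIdeal]
    intro p hp
    obtain ⟨q, hq⟩ := Groth.Agent.Lib.RInv7.exists_prime_over hlam hS p
    have h1 : PrimeSpectrum.vanishingIdeal W ≤ p.asIdeal := by
      intro b hb
      rw [PrimeSpectrum.mem_vanishingIdeal] at hb
      exact hb p hp
    have h2 : (PrimeSpectrum.vanishingIdeal W).map (algebraMap S R) ≤ q.asIdeal := by
      rw [Ideal.map_le_iff_le_comap, hq]; exact h1
    have h3 : J ≤ q.asIdeal := by
      rw [hJ]; exact (q.isPrime.radical_le_iff).mpr h2
    have h4 : algebraMap S R a ∈ q.asIdeal := h3 ha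
    rw [← hq]; exact h4
  have hkerzero : ∀ x : S ⧸ PrimeSpectrum.vanishingIdeal W,
      Ideal.quotientMap J (algebraMap S R) hIJ x = 0 → x = 0 := by
    intro x hx
    obtain ⟨a, rfl⟩ := Ideal.Quotient.mk_surjective x
    rw [Ideal.quotientMap_mk, Ideal.Quotient.eq_zero_iff_mem] at hx
    rw [Ideal.Quotient.eq_zero_iff_mem]
    exact hcomap a hx
  refine ⟨?_, ?_⟩
  · apply PrimeSpectrum.isHomeomorph_comap
    · intro x
      obtain ⟨r, rfl⟩ := Ideal.Quotient.mk_surjective x
      obtain ⟨t, n, ht, hn⟩ := Groth.Agent.Lib.RInv7.exists_trace_norm hlam hS r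
      refine ⟨2, by norm_num, Ideal.Quotient.mk _ n, ?_⟩
      rw [Ideal.quotientMap_mk, ← map_pow, Ideal.Quotient.eq, hn]
      have e : r * lam r - r ^ 2 = r * (lam r - r) := by ring
      rw [e]; exact Ideal.mul_mem_left _ _ (htrivJ r)
    · intro x hx
      rw [RingHom.mem_ker] at hx
      rw [hkerzero x hx]
      exact Ideal.zero_mem _
  · intro h2
    constructor
    · rw [injective_iff_map_eq_zero]
      exact hkerzero
    · intro x
      obtain ⟨r, rfl⟩ := Ideal.Quotient.mk_surjective x
      obtain ⟨t, n, ht, hn⟩ := Groth.Agent.Lib.RInv7.exists_trace_norm hlam hS r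
      obtain ⟨u, hu⟩ := h2
      obtain ⟨hf, hhf⟩ : ∃ hf : S, hf = (↑u⁻¹ : S) := ⟨_, rfl⟩
      have h2h : (2 : S) * hf = 1 := by rw [hhf, ← hu]; exact Units.mul_inv u
      refine ⟨Ideal.Quotient.mk _ (hf * t), ?_⟩
      rw [Ideal.quotientMap_mk, Ideal.Quotient.eq, map_mul, ht]
      have h2h' : (2 : R) * algebraMap S R hf = 1 := by
        have := congrArg (algebraMap S R) h2h
        rwa [map_mul, map_one, map_ofNat] at this
      have e : algebraMap S R hf * (r + lam r) - r = algebraMap S R hf * (lam r - r) := by
        linear_combination r * h2h'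
      rw [e]; exact Ideal.mul_mem_left _ _ (htrivJ r)

end Groth.Agent.S15589
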