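import Groth.Statements.S15590
import Mathlib
import Groth.Agent.Lib.FibreProd_helper9

set_option autoImplicit false
universe u v
open CAlg

namespace Groth.Agent.S15590

/-- Let A → B be an injective homomorphism of commutative rings which makes B a finite flat A-module,
and suppose B is a Dedekind domain (Noetherian, integrally closed, of Krull dimension at most one; a
field is allowed). Then A is a Dedekind domain. -/
theorem result (A : Type u) (B : Type v)
    [CommRing A] [CommRing B] [Algebra A B] [IsDedekindDomain B]
    (hinj : Function.Injective (algebraMap A B)) [Module.Finite A B] [Module.Flat A B] :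
    IsDedekindDomain A := by

  classical
  haveI : IsDomain A := hinj.isDomain (algebraMap A B)
  haveI : Algebra.IsIntegral A B := Algebra.IsIntegral.of_finite A B
  haveI : Module.FaithfullyFlat A B :=
    Groth.Agent.Lib.FibreProd.faithfullyFlat_of_integral_injective hinj
  have hcm : ∀ I : Ideal A, (I.map (algebraMap A B)).comap (algebraMap A B) = I :=
    fun I => Ideal.comap_map_eq_self_of_faithfullyFlat I
  -- Noetherian
  have hnoeth : IsNoetherianRing A := by
    let emb : Ideal A ↪o Ideal B :=
      { toFun := fun I => I.map (algebraMap A B)
        inj' := Ideal.map_injective_of_faithfullyFlat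
        map_rel_iff' := by
          intro I J
          constructor
          · intro h
            have h' : I.map (algebraMap A B) ≤ J.map (algebraMap A B) := h
            have := Ideal.comap_mono (f := algebraMap A B) h'
            rwa [hcm, hcm] at this
          · intro h
            exact Ideal.map_mono h }
    haveI : WellFoundedGT (Ideal B) := isNoetherian_iff'.mp inferInstance
    exact isNoetherian_iff'.mpr (OrderEmbedding.wellFoundedGT emb)
  have hdim : Ring.DimensionLEOne A := by
    constructor
    intro p hp hprime
    obtain ⟨Q, -, hQ₁, hQ₂⟩ := Ideal.exists_ideal_over_prime_of_isIntegral p (⊥ : Ideal B)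
      (by rw [← RingHom.ker_eq_comap_bot, (RingHom.injective_iff_ker_eq_bot _).mp hinj]
          exact bot_le)
    have hQne : Q ≠ ⊥ := by
      rintro rfl
      apply hp
      rw [← hQ₂, ← RingHom.ker_eq_comap_bot, (RingHom.injective_iff_ker_eq_bot _).mp hinj]
    haveI : Q.IsMaximal := hQ₁.isMaximal hQne
    rw [← hQ₂]
    exact Ideal.isMaximal_comap_of_isIntegral_of_isMaximal Q
  have hic : ∀ {x : FractionRing A}, IsIntegral A x →
      ∃ y, algebraMap A (FractionRing A) y = x := by
    intro x hx
    let g : A →+* FractionRing B := (algebraMap B (FractionRing B)).comp (algebraMap A B)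
    have hg : Function.Injective g := (IsFractionRing.injective B (FractionRing B)).comp hinj
    let ψ : FractionRing A →+* FractionRing B := IsFractionRing.lift hg
    have hψ : ∀ a, ψ (algebraMap A (FractionRing A) a) = g a :=
      fun a => IsFractionRing.lift_algebraMap hg a
    have hint : IsIntegral B (ψ x) :=
      IsIntegral.map_of_comp_eq (algebraMap A B) ψ (RingHom.ext fun a => (hψ a).symm) hx
    obtain ⟨y, hy⟩ := IsIntegrallyClosed.algebraMap_eq_of_integral hint
    obtain ⟨a, b, hb, rfl⟩ := IsFractionRing.div_surjective (A := A) x
    have hb0 : algebraMap A (FractionRing A) b ≠ 0 :=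
      IsFractionRing.to_map_ne_zero_of_mem_nonZeroDivisors hb
    rw [map_div₀, hψ, hψ] at hy
    have hgb : g b ≠ 0 := by
      intro h0
      have := hg (h0.trans (map_zero g).symm)
      rw [this, map_zero] at hb0
      exact hb0 rfl
    rw [eq_div_iff hgb] at hy
    have hy' : y * algebraMap A B b = algebraMap A B a := by
      apply IsFractionRing.injective B (FractionRing B)
      rw [map_mul]
      exact hy
    have hmem : a ∈ (Ideal.span {b} : Ideal A) := by
      rw [← hcm (Ideal.span {b}), Ideal.mem_comap, Ideal.map_span, Set.image_singleton,
        Ideal.mem_span_singleton']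
      exact ⟨y, hy'⟩
    obtain ⟨c, hc⟩ := Ideal.mem_span_singleton'.mp hmem
    refine ⟨c, ?_⟩
    rw [eq_div_iff hb0, ← map_mul, hc]
  haveI : IsDedekindRing A := (isDedekindRing_iff (A := A) (FractionRing A)).mpr ⟨hnoeth, hdim, hic⟩
  exact { }

end Groth.Agent.S15590
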