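import Groth.Statements.S15593
import Groth.Agent.Lib.GenFlatHom_lead

set_option autoImplicit false
universe u
open CategoryTheory MonoidalCategory CartesianMonoidalCategory MonObj GrpObj AlgebraicGeometry
open AlgGrp

namespace Groth.Agent.S15593

/-- Let k be a field and f : G ⟶ G' a homomorphism of smooth k-group schemes of finite type. If f is
surjective (on underlying topological spaces) and has trivial kernel, that is, f is a monomorphism,
then f is an isomorphism. No flatness of f is assumed. -/
theorem result (k : Type u) [Field k]
    (G G' : Over (Spec (CommRingCat.of k))) [GrpObj G] [GrpObj G']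
    [Smooth G.hom] [QuasiCompact G.hom] [Smooth G'.hom] [QuasiCompact G'.hom]
    (f : G ⟶ G') [IsMonHom f] [Mono f] [Surjective f.left] : IsIso f := by
  haveI : IsReduced G'.left := Groth.Agent.Lib.GenFlatHom.isReduced_of_smooth G'
  haveI : Flat f.left := Groth.Agent.Lib.GenFlatHom.flat_hom f
  haveI : IsNoetherian G.left := Groth.Agent.Lib.GenFlatHom.isNoetherian_of_ft G
  haveI : QuasiCompact f.left := inferInstance
  haveI : Mono f.left := inferInstance
  haveI : IsIso f.left := Flat.isIso_of_surjective_of_mono f.left
  haveI : IsIso ((Over.forget (Spec (CommRingCat.of k))).map f) := by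
    show IsIso f.left
    infer_instance
  exact isIso_of_reflects_iso f (Over.forget _)

end Groth.Agent.S15593
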