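import Groth.Statements.S15594
import Mathlib
-- import your own Groth.Agent.* helpers here

set_option autoImplicit false
universe u
open TensorProduct
open AGF

namespace Groth.Agent.S15594

/-- Affine form. Let k ⊆ K be a field extension, A a commutative k-algebra and S a set of k-algebra
homomorphisms A → k (rational points of Spec A). The ideal ⋂_{σ ∈ S} ker σ cuts out the Zariski
closure of S with its reduced structure, and its extension to K ⊗_k A equals ⋂_{σ ∈ S} ker σ_K,
where σ_K : K ⊗_k A → K is the K-algebra map induced by σ. In words: the closure of a set of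
rational points is formed compatibly with extension of the ground field. (The published statement is
for schemes locally of finite type; this affine row assumes no finiteness, which the argument does
not use.) -/
theorem result (k K A : Type u) [Field k] [Field K] [Algebra k K]
    [CommRing A] [Algebra k A] (S : Set (A →ₐ[k] k)) :
    Ideal.map (Algebra.TensorProduct.includeRight : A →ₐ[k] K ⊗[k] A) (⨅ σ ∈ S, RingHom.ker σ) =
      ⨅ σ ∈ S, RingHom.ker ((Algebra.TensorProduct.rid k K K).toAlgHom.comp
        (Algebra.TensorProduct.map (AlgHom.id K K) σ)) := by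

  classical
  obtain ⟨ι, ⟨b⟩⟩ : ∃ ι : Type u, Nonempty (Module.Basis ι k K) :=
    ⟨_, ⟨Module.Free.chooseBasis k K⟩⟩
  have hσK : ∀ (σ : A →ₐ[k] k) (c : K) (a : A),
      ((Algebra.TensorProduct.rid k K K).toAlgHom.comp
        (Algebra.TensorProduct.map (AlgHom.id K K) σ)) (c ⊗ₜ[k] a) = σ a • c := by
    intro σ c a
    simp
  apply le_antisymm
  · rw [Ideal.map_le_iff_le_comap]
    intro a ha
    rw [Ideal.mem_comap]
    simp only [Ideal.mem_iInf, RingHom.mem_ker] at ha ⊢
    intro σ hσ
    have h1 := ha σ hσ
    show ((Algebra.TensorProduct.rid k K K).toAlgHom.comp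
        (Algebra.TensorProduct.map (AlgHom.id K K) σ)) ((1 : K) ⊗ₜ[k] a) = 0
    rw [hσK, h1, zero_smul]
  · intro z hz
    simp only [Ideal.mem_iInf, RingHom.mem_ker] at hz
    obtain ⟨c, hc⟩ := TensorProduct.eq_repr_basis_left (R := k) (M := K) (N := A) b z
    have hci : ∀ i, c i ∈ ⨅ σ ∈ S, RingHom.ker σ := by
      intro i
      simp only [Ideal.mem_iInf, RingHom.mem_ker]
      intro σ hσ
      have h1 := hz σ hσ
      rw [← hc, Finsupp.sum, map_sum] at h1
      simp only [hσK] at h1
      have h2 : (Finsupp.linearCombination k b) (c.mapRange σ (map_zero σ)) = 0 := by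
        rw [Finsupp.linearCombination_apply, Finsupp.sum_mapRange_index (by intro i; simp)]
        exact h1
      have h3 := congrArg b.repr h2
      rw [Module.Basis.repr_linearCombination, map_zero] at h3
      have h4 := DFunLike.congr_fun h3 i
      simpa using h4
    rw [← hc, Finsupp.sum]
    apply Ideal.sum_mem
    intro i _
    have e : b i ⊗ₜ[k] c i = (b i ⊗ₜ[k] (1 : A)) *
        (Algebra.TensorProduct.includeRight : A →ₐ[k] K ⊗[k] A) (c i) := by
      rw [Algebra.TensorProduct.includeRight_apply, Algebra.TensorProduct.tmul_mul_tmul, mul_one,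
        one_mul]
    rw [e]
    exact Ideal.mul_mem_left _ _ (Ideal.mem_map_of_mem _ (hci i))

end Groth.Agent.S15594
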