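import Groth.Statements.S15595
import Groth.Agent.Lib.EtStalk_helper8
-- import your own Groth.Agent.* helpers here

set_option autoImplicit false
universe u
open TensorProduct
open TensorProduct
attribute [local instance] RingHom.ker_isPrime
open CAlg

namespace Groth.Agent.S15595

/-- Let k ⊆ K be a field extension and A a Noetherian local k-algebra with residue field k, recorded by
a k-algebra map π : A → k whose kernel is the maximal ideal. Let π_K : K ⊗_k A → K be the induced
K-algebra map, m' its kernel, and A' the localization of K ⊗_k A at m'. Assume A' is Noetherian.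
Then A is a regular local ring if and only if A' is a regular local ring. -/
theorem result (k K A : Type u) [Field k] [Field K]
    [Algebra k K] [CommRing A] [Algebra k A] [IsLocalRing A] [IsNoetherianRing A]
    (π : A →ₐ[k] k) (hπ : RingHom.ker π = IsLocalRing.maximalIdeal A)
    [IsNoetherianRing (Localization.AtPrime (RingHom.ker
      ((Algebra.TensorProduct.rid k K K).toAlgHom.comp (Algebra.TensorProduct.map (AlgHom.id K K) π))))] :
    IsRegularLocalRing A ↔ IsRegularLocalRing (Localization.AtPrime (RingHom.ker
      ((Algebra.TensorProduct.rid k K K).toAlgHom.comp (Algebra.TensorProduct.map (AlgHom.id K K) π)))) := by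
  classical
  -- notation
  set ψ : K ⊗[k] A →ₐ[K] K := (Algebra.TensorProduct.rid k K K).toAlgHom.comp
    (Algebra.TensorProduct.map (AlgHom.id K K) π) with hψ
  letI algAT : Algebra A (K ⊗[k] A) := Algebra.TensorProduct.rightAlgebra
  have hψ1 : ∀ a : A, ψ ((1 : K) ⊗ₜ[k] a) = algebraMap k K (π a) := by
    intro a
    show (Algebra.TensorProduct.rid k K K) ((1 : K) ⊗ₜ[k] π a) = _
    rw [Algebra.TensorProduct.rid_tmul, Algebra.algebraMap_eq_smul_one]
  have hπsurj : Function.Surjective π := fun c => ⟨algebraMap k A c, by rw [π.commutes]; rfl⟩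
  -- the kernel
  have hker : RingHom.ker ψ = (IsLocalRing.maximalIdeal A).map (algebraMap A (K ⊗[k] A)) := by
    rw [← hπ]
    have h1 := Algebra.TensorProduct.lTensor_ker (A := K) π hπsurj
    have h2 : RingHom.ker ψ = RingHom.ker (Algebra.TensorProduct.map (AlgHom.id k K) π) := by
      ext z
      rw [RingHom.mem_ker, RingHom.mem_ker]
      show (Algebra.TensorProduct.rid k K K) (Algebra.TensorProduct.map (AlgHom.id K K) π z) = 0 ↔
        Algebra.TensorProduct.map (AlgHom.id k K) π z = 0
      rw [EmbeddingLike.map_eq_zero_iff]
      rfl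
    rw [h2, h1]
    rfl
  -- flatness of T over A
  haveI hflatT : Module.Flat A (K ⊗[k] A) := by
    let e0 := TensorProduct.comm k A K
    let e : (A ⊗[k] K) ≃ₗ[A] (K ⊗[k] A) :=
      { e0 with
        map_smul' := by
          intro a z
          show e0 (a • z) = a • e0 z
          induction z using TensorProduct.induction_on with
          | zero => simp
          | tmul x y =>
            rw [TensorProduct.smul_tmul', TensorProduct.comm_tmul, TensorProduct.comm_tmul,
              Algebra.smul_def]
            show y ⊗ₜ[k] (a • x) = ((1 : K) ⊗ₜ[k] a) * (y ⊗ₜ[k] x)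
            rw [Algebra.TensorProduct.tmul_mul_tmul, one_mul, smul_eq_mul]
          | add x y hx hy => rw [smul_add, map_add, map_add, smul_add, hx, hy] }
    exact Module.Flat.of_linearEquiv e.symm
  haveI : Module.Flat A (Localization.AtPrime (RingHom.ker ψ)) :=
    Module.Flat.trans A (K ⊗[k] A) (Localization.AtPrime (RingHom.ker ψ))
  haveI hloc : IsLocalHom (algebraMap A (Localization.AtPrime (RingHom.ker ψ))) := by
    constructor
    intro a ha
    rw [IsScalarTower.algebraMap_apply A (K ⊗[k] A) (Localization.AtPrime (RingHom.ker ψ)),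
      IsLocalization.AtPrime.isUnit_to_map_iff _ (RingHom.ker ψ)] at ha
    have h3 : ψ (algebraMap A (K ⊗[k] A) a) ≠ 0 := fun h => ha h
    have h4 : algebraMap A (K ⊗[k] A) a = (1 : K) ⊗ₜ[k] a := rfl
    rw [h4, hψ1] at h3
    have h5 : π a ≠ 0 := fun h => h3 (by rw [h, map_zero])
    have h6 : a ∉ IsLocalRing.maximalIdeal A := by
      rw [← hπ]; exact h5
    by_contra hcon
    exact h6 ((IsLocalRing.mem_maximalIdeal a).mpr hcon)
  have hmax : (IsLocalRing.maximalIdeal A).map
      (algebraMap A (Localization.AtPrime (RingHom.ker ψ))) =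
      IsLocalRing.maximalIdeal (Localization.AtPrime (RingHom.ker ψ)) := by
    rw [← Localization.AtPrime.map_eq_maximalIdeal,
      IsScalarTower.algebraMap_eq A (K ⊗[k] A) (Localization.AtPrime (RingHom.ker ψ)),
      ← Ideal.map_map, ← hker]
  exact (Groth.Agent.EtStalk.isRegularLocalRing_iff_of_flat hmax).symm

end Groth.Agent.S15595
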