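import Groth.Statements.S15605
import Groth.Agent.Lib.TensorJointInj_helper3
-- import your own Groth.Agent.* helpers here

set_option autoImplicit false
universe u
open TensorProduct

open AGF

namespace Groth.Agent.S15605

/-- Affine form. Let k be a field, A and A' finitely generated commutative k-algebras and S, S' sets of
k-algebra homomorphisms A → k, A' → k. The closure of a set of rational points of Spec A is cut out
by the intersection of their kernels. Compatibility of these closures with products: in A ⊗_k A',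
the intersection over (σ, σ') ∈ S × S' of the kernels of σ ⊗ σ' : A ⊗_k A' → k equals the ideal
generated by the images of ⋂_{σ} ker σ and of ⋂_{σ'} ker σ'. -/
theorem result (k A A' : Type u) [Field k] [CommRing A] [Algebra k A]
    [Algebra.FiniteType k A] [CommRing A'] [Algebra k A'] [Algebra.FiniteType k A']
    (S : Set (A →ₐ[k] k)) (S' : Set (A' →ₐ[k] k)) :
    (⨅ σ ∈ S, ⨅ σ' ∈ S', RingHom.ker ((Algebra.TensorProduct.lmul' (S := k) k).comp
        (Algebra.TensorProduct.map σ σ'))) =
      Ideal.map (Algebra.TensorProduct.includeLeft : A →ₐ[k] A ⊗[k] A') (⨅ σ ∈ S, RingHom.ker σ) ⊔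
        Ideal.map (Algebra.TensorProduct.includeRight : A' →ₐ[k] A ⊗[k] A') (⨅ σ' ∈ S', RingHom.ker σ') := by
  classical
  set I : Ideal A := ⨅ σ ∈ S, RingHom.ker σ with hI
  set I' : Ideal A' := ⨅ σ' ∈ S', RingHom.ker σ' with hI'
  apply le_antisymm
  · -- the hard inclusion
    intro t ht
    have hker : RingHom.ker (Algebra.TensorProduct.map (Ideal.Quotient.mkₐ k I)
        (Ideal.Quotient.mkₐ k I')) =
        Ideal.map (Algebra.TensorProduct.includeLeft : A →ₐ[k] A ⊗[k] A') I ⊔
        Ideal.map (Algebra.TensorProduct.includeRight : A' →ₐ[k] A ⊗[k] A') I' := by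
      have := Algebra.TensorProduct.map_ker (Ideal.Quotient.mkₐ k I) (Ideal.Quotient.mkₐ k I')
        (Ideal.Quotient.mkₐ_surjective k I) (Ideal.Quotient.mkₐ_surjective k I')
      have e1 : RingHom.ker (Ideal.Quotient.mkₐ k I) = I := by
        ext x; simp [RingHom.mem_ker, Ideal.Quotient.eq_zero_iff_mem]
      have e2 : RingHom.ker (Ideal.Quotient.mkₐ k I') = I' := by
        ext x; simp [RingHom.mem_ker, Ideal.Quotient.eq_zero_iff_mem]
      rw [e1, e2] at this
      exact this
    rw [← hker, RingHom.mem_ker]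
    have hS : ∀ σ : S, ∀ a ∈ I, (σ.1 : A →ₐ[k] k) a = 0 := by
      intro σ a ha
      have := (Ideal.mem_iInf.1 ha) σ.1
      have := (Ideal.mem_iInf.1 this) σ.2
      exact (RingHom.mem_ker).1 this
    have hS' : ∀ σ : S', ∀ a ∈ I', (σ.1 : A' →ₐ[k] k) a = 0 := by
      intro σ a ha
      have := (Ideal.mem_iInf.1 ha) σ.1
      have := (Ideal.mem_iInf.1 this) σ.2
      exact (RingHom.mem_ker).1 this
    let F : S → (A ⧸ I) →ₗ[k] k := fun σ => (Ideal.Quotient.liftₐ I σ.1 (hS σ)).toLinearMap
    let G : S' → (A' ⧸ I') →ₗ[k] k := fun σ => (Ideal.Quotient.liftₐ I' σ.1 (hS' σ)).toLinearMap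
    refine Groth.Agent.Lib.TensorJointInj_helper3.joint_inj F G ?_ ?_ _ ?_
    · intro v hv
      obtain ⟨a, rfl⟩ := Ideal.Quotient.mk_surjective v
      rw [Ideal.Quotient.eq_zero_iff_mem]
      refine Ideal.mem_iInf.2 fun σ => Ideal.mem_iInf.2 fun hσ => ?_
      rw [RingHom.mem_ker]
      have := hv ⟨σ, hσ⟩
      simpa [F] using this
    · intro v hv
      obtain ⟨a, rfl⟩ := Ideal.Quotient.mk_surjective v
      rw [Ideal.Quotient.eq_zero_iff_mem]
      refine Ideal.mem_iInf.2 fun σ => Ideal.mem_iInf.2 fun hσ => ?_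
      rw [RingHom.mem_ker]
      have := hv ⟨σ, hσ⟩
      simpa [G] using this
    · intro σ σ'
      have h0 : ((Algebra.TensorProduct.lmul' (S := k) k).comp
          (Algebra.TensorProduct.map σ.1 σ'.1)) t = 0 := by
        have := (Ideal.mem_iInf.1 ht) σ.1
        have := (Ideal.mem_iInf.1 this) σ.2
        have := (Ideal.mem_iInf.1 this) σ'.1
        have := (Ideal.mem_iInf.1 this) σ'.2
        exact (RingHom.mem_ker).1 this
      rw [← h0]
      generalize t = s
      induction s using TensorProduct.induction_on with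
      | zero => simp
      | tmul a a' =>
        simp [F, G]
      | add x y hx hy =>
        simp only [map_add, hx, hy]
  · -- the easy inclusion
    refine sup_le ?_ ?_
    · rw [Ideal.map_le_iff_le_comap]
      intro a ha
      rw [Ideal.mem_comap]
      refine Ideal.mem_iInf.2 fun σ => Ideal.mem_iInf.2 fun hσ => Ideal.mem_iInf.2 fun σ' =>
        Ideal.mem_iInf.2 fun hσ' => ?_
      rw [RingHom.mem_ker]
      have h1 : σ a = 0 := by
        have := (Ideal.mem_iInf.1 ha) σ
        have := (Ideal.mem_iInf.1 this) hσ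
        exact (RingHom.mem_ker).1 this
      simp [h1]
    · rw [Ideal.map_le_iff_le_comap]
      intro a ha
      rw [Ideal.mem_comap]
      refine Ideal.mem_iInf.2 fun σ => Ideal.mem_iInf.2 fun hσ => Ideal.mem_iInf.2 fun σ' =>
        Ideal.mem_iInf.2 fun hσ' => ?_
      rw [RingHom.mem_ker]
      have h1 : σ' a = 0 := by
        have := (Ideal.mem_iInf.1 ha) σ'
        have := (Ideal.mem_iInf.1 this) hσ'
        exact (RingHom.mem_ker).1 this
      simp [h1]

end Groth.Agent.S15605
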