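import Groth.Statements.S15613
import Groth.Agent.Lib.SchFin2_helper3
-- import your own Groth.Agent.* helpers here

set_option autoImplicit false
universe u
open SchFin SchFin.GeomPt
open Groth.Agent.Lib.SchFin_helper3 TensorProduct

namespace Groth.Agent.S15613

open SchFin in
/-- For a geometric point of a schematic finite space with values in an algebraically closed field,
hitting the point x with ring map from the ring of x to the field, the kernel of that ring map does
not lift to any point strictly above x: no prime of the ring of such a point contracts to it along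
the restriction map. -/
theorem result (X : RSpace.{u}) (hX : X.IsSchematic) {Ω : Type u} [Field Ω]
    [IsAlgClosed Ω] (ξ : GeomPt X Ω) {x' : X.pt} (hx : ξ.base < x') (P : Ideal (X.ring x')) [P.IsPrime] :
    P.comap (X.res hx.le) ≠ RingHom.ker ξ.toField := by
  intro hP
  have hb00 := (ξ.isSchematic.2.2 0 PUnit.unit PUnit.unit (le_refl _) ξ.base x' hx.le).2
  have hb0 : IsBCAlong (X.res hx.le)
      (SectC.res (RSpace.point Ω).str (ξ.hom.subTgt PUnit.unit hx.le)) :=
    (isBCAlong_resH_zero_iff _ _).1 hb00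
  unfold IsBCAlong at hb0
  letI : Algebra (X.ring ξ.base) (X.ring x') := (X.res hx.le).toAlgebra
  letI : Module (X.ring ξ.base)
      (SectC (Coef.ofHom ξ.hom x' (ξ.hom.wedge PUnit.unit x')
        (ξ.hom.wedge_subset_pre PUnit.unit x')) (RSpace.point Ω).str) :=
    Module.compHom _ (X.res hx.le)
  haveI : IsScalarTower (X.ring ξ.base) (X.ring x')
      (SectC (Coef.ofHom ξ.hom x' (ξ.hom.wedge PUnit.unit x')
        (ξ.hom.wedge_subset_pre PUnit.unit x')) (RSpace.point Ω).str) :=
    IsScalarTower.of_algebraMap_smul fun _ _ => rfl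
  have hempty : IsEmpty ↥(ξ.hom.wedge PUnit.unit x') :=
    ⟨fun q => absurd (show x' ≤ ξ.base from q.2.2) (not_le_of_gt hx)⟩
  haveI : Subsingleton (SectC (Coef.ofHom ξ.hom x' (ξ.hom.wedge PUnit.unit x')
        (ξ.hom.wedge_subset_pre PUnit.unit x')) (RSpace.point Ω).str) :=
    ⟨fun a b => SectC.ext (fun q => (hempty.false q).elim)⟩
  haveI : Subsingleton (X.ring x' ⊗[X.ring ξ.base]
      SectC (Coef.ofHom ξ.hom ξ.base (ξ.hom.wedge PUnit.unit ξ.base)
        (ξ.hom.wedge_subset_pre PUnit.unit ξ.base)) (RSpace.point Ω).str) :=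
    hb0.equiv.injective.subsingleton
  let q0 : ↥(ξ.hom.wedge PUnit.unit ξ.base) := ⟨PUnit.unit, le_refl _, le_refl _⟩
  let g0 : X.ring ξ.base →+* Ω :=
    (Coef.ofHom ξ.hom ξ.base (ξ.hom.wedge PUnit.unit ξ.base)
        (ξ.hom.wedge_subset_pre PUnit.unit ξ.base)).map q0
  letI : Algebra (X.ring ξ.base) Ω := g0.toAlgebra
  let ev : SectC (Coef.ofHom ξ.hom ξ.base (ξ.hom.wedge PUnit.unit ξ.base)
        (ξ.hom.wedge_subset_pre PUnit.unit ξ.base)) (RSpace.point Ω).str →ₗ[X.ring ξ.base] Ω :=
    { toFun := fun c => c.val q0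
      map_add' := fun _ _ => rfl
      map_smul' := fun _ _ => rfl }
  have hev : Function.Surjective ev := fun ω =>
    ⟨SectC.mk (fun _ => ω) (fun _ _ _ => rfl), rfl⟩
  have hs : Function.Surjective (LinearMap.lTensor (X.ring x') ev) :=
    LinearMap.lTensor_surjective _ hev
  haveI : Subsingleton (X.ring x' ⊗[X.ring ξ.base] Ω) := hs.subsingleton
  have hker : PrimeSpectrum.comap (algebraMap (X.ring ξ.base) (X.ring x')) ⟨P, inferInstance⟩ =
      PrimeSpectrum.comap (algebraMap (X.ring ξ.base) Ω) ⟨⊥, Ideal.isPrime_bot⟩ := by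
    apply PrimeSpectrum.ext
    change P.comap (X.res hx.le) = Ideal.comap g0 ⊥
    rw [hP]
    ext r
    rw [RingHom.mem_ker, Ideal.mem_comap, Ideal.mem_bot]
    change ξ.hom.app PUnit.unit r = 0 ↔ ξ.hom.app PUnit.unit (X.res (le_refl ξ.base) r) = 0
    rw [X.res_self]
  obtain ⟨r, -, -⟩ := exists_prime_tensor _ _ hker
  apply r.2.ne_top
  rw [Ideal.eq_top_iff_one]
  rw [Subsingleton.elim (1 : X.ring x' ⊗[X.ring ξ.base] Ω) 0]
  exact zero_mem _

end Groth.Agent.S15613
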