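import Groth.Statements.S15614
import Groth.Agent.Lib.SchFin2_helper3
-- import your own Groth.Agent.* helpers here

set_option autoImplicit false
universe u
open SchFin SchFin.RSpace
open Groth.Agent.Lib.SchFin_helper3 TensorProduct

namespace Groth.Agent.S15614

open SchFin in
/-- In a schematic finite space, let x and y be points above a common point s, P a prime of the ring of
x and Q a prime of the ring of y whose contractions to the ring of s agree. Then the pairs (x, P)
and (y, Q) are related: some point above both x and y carries a prime contracting to P and to Q.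
(The published statement does not carry the hypothesis that, for every two points that lie above a
common point and whose minimal open sets meet, the product of the rings over the intersection of
these minimal open sets is faithfully flat over the ring of sections on it; the published proof
obtains this fact from properties of affine schematic spaces recalled there without proof, and this
row carries it explicitly.) -/
theorem result (X : RSpace.{u}) (hX : X.IsSchematic)
    (hff : ∀ s a b : X.pt, s ≤ a → s ≤ b → (X.up a ∩ X.up b).Nonempty →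
      Module.FaithfullyFlat (X.sectRing (X.up a ∩ X.up b)) ((q : ↥(X.up a ∩ X.up b)) → X.ring q.1))
    {s x y : X.pt} (hx : s ≤ x) (hy : s ≤ y) (P : PrimeSpectrum (X.ring x)) (Q : PrimeSpectrum (X.ring y))
    (hPQ : PrimeSpectrum.comap (X.res hx) P = PrimeSpectrum.comap (X.res hy) Q) :
    X.PairRel ⟨x, P⟩ ⟨y, Q⟩ := by
  classical
  have hb00 := (hX.2.2 0 s x hx y y (le_refl y)).1
  have hb0 : IsBCAlong (X.res hx) (SectC.res X.str ((Hom.id X).subSrc hx y)) :=
    (isBCAlong_resH_zero_iff X.str ((Hom.id X).subSrc hx y)).1 hb00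
  unfold IsBCAlong at hb0
  letI : Algebra (X.ring s) (X.ring x) := (X.res hx).toAlgebra
  letI : Algebra (X.ring s) (X.ring y) := (X.res hy).toAlgebra
  letI : Module (X.ring s)
      (SectC (Coef.ofLE x ((Hom.id X).wedge x y) ((Hom.id X).wedge_subset_up x y)) X.str) :=
    Module.compHom _ (X.res hx)
  haveI : IsScalarTower (X.ring s) (X.ring x)
      (SectC (Coef.ofLE x ((Hom.id X).wedge x y) ((Hom.id X).wedge_subset_up x y)) X.str) :=
    IsScalarTower.of_algebraMap_smul fun _ _ => rfl
  -- sections over the points above `s` and `y` are the ring of `y`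
  let ιe : X.ring y ≃ₗ[X.ring s]
      SectC (Coef.ofLE s ((Hom.id X).wedge s y) ((Hom.id X).wedge_subset_up s y)) X.str :=
    { toFun := fun a => SectC.mk (fun q => X.res (show y ≤ q.1 from q.2.2) a)
        (fun q q' hq => X.res_comp _ _ a)
      map_add' := fun a b => by ext q; exact map_add _ _ _
      map_smul' := fun r a => by
        ext q
        change X.res _ (X.res hy r * a) = X.res _ r * X.res _ a
        rw [map_mul, X.res_comp]
      invFun := fun c => c.val ⟨y, hy, le_refl y⟩
      left_inv := fun a => X.res_self y a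
      right_inv := fun c => by
        ext q
        exact c.compat ⟨y, hy, le_refl y⟩ q (show y ≤ q.1 from q.2.2) }
  -- the ring of sections over the intersection
  have hUx : (Hom.id X).wedge x y ⊆ X.up x := (Hom.id X).wedge_subset_up x y
  have hUy : (Hom.id X).wedge x y ⊆ X.up y := fun q hq => hq.2
  letI : Algebra (X.ring s) (X.sectRing ((Hom.id X).wedge x y)) :=
    ((X.resSect x _ hUx).comp (X.res hx)).toAlgebra
  let fA : X.ring x →ₐ[X.ring s] X.sectRing ((Hom.id X).wedge x y) :=
    { (X.resSect x _ hUx) with commutes' := fun r => rfl }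
  let fB : X.ring y →ₐ[X.ring s] X.sectRing ((Hom.id X).wedge x y) :=
    { (X.resSect y _ hUy) with
      commutes' := fun r => by
        apply Subtype.ext
        funext q
        change X.res _ (X.res hy r) = X.res _ (X.res hx r)
        rw [X.res_comp, X.res_comp] }
  let Ψ := Algebra.TensorProduct.productMap fA fB
  have hΨ : ∀ t : X.ring x ⊗[X.ring s] X.ring y,
      (Ψ t).1 = (hb0.equiv (ιe.lTensor (X.ring x) t)).val := by
    intro t
    induction t using TensorProduct.induction_on with
    | zero =>
      rw [map_zero, map_zero, map_zero]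
      rfl
    | tmul a b =>
      rw [LinearEquiv.lTensor_tmul, IsBaseChange.equiv_tmul]
      funext q
      change (Ψ (a ⊗ₜ[X.ring s] b)).1 q = X.res _ a * X.res _ b
      rw [Algebra.TensorProduct.productMap_apply_tmul]
      rfl
    | add t₁ t₂ h₁ h₂ =>
      rw [map_add, map_add, map_add]
      funext q
      change (Ψ t₁).1 q + (Ψ t₂).1 q = _ + _
      rw [h₁, h₂]
      rfl
  have hΨbij : Function.Bijective Ψ := by
    constructor
    · rw [injective_iff_map_eq_zero]
      intro t ht
      have h1 : hb0.equiv (ιe.lTensor (X.ring x) t) = 0 := by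
        ext q
        rw [← hΨ t, ht]
        rfl
      have h2 := hb0.equiv.injective (h1.trans (map_zero _).symm)
      exact (ιe.lTensor (X.ring x)).injective (h2.trans (map_zero _).symm)
    · intro σ
      refine ⟨(ιe.lTensor (X.ring x)).symm (hb0.equiv.symm (SectC.mk σ.1 σ.2)), ?_⟩
      apply Subtype.ext
      rw [hΨ, LinearEquiv.apply_symm_apply, LinearEquiv.apply_symm_apply]
      rfl
  let e : (X.ring x ⊗[X.ring s] X.ring y) ≃+* X.sectRing ((Hom.id X).wedge x y) :=
    RingEquiv.ofBijective (Ψ : X.ring x ⊗[X.ring s] X.ring y →+* _) hΨbij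
  have heL : ∀ a : X.ring x, e (a ⊗ₜ[X.ring s] 1) = X.resSect x _ hUx a := by
    intro a
    change Ψ (a ⊗ₜ[X.ring s] 1) = _
    rw [Algebra.TensorProduct.productMap_apply_tmul, map_one, mul_one]
    rfl
  have heR : ∀ b : X.ring y, e (1 ⊗ₜ[X.ring s] b) = X.resSect y _ hUy b := by
    intro b
    change Ψ (1 ⊗ₜ[X.ring s] b) = _
    rw [Algebra.TensorProduct.productMap_apply_tmul, map_one, one_mul]
    rfl
  -- a prime of the tensor product over both primes
  obtain ⟨r0, hr0P, hr0Q⟩ := exists_prime_tensor (R := X.ring s) P Q hPQ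
  let r1 : PrimeSpectrum (X.sectRing ((Hom.id X).wedge x y)) :=
    PrimeSpectrum.comap (e.symm : X.sectRing ((Hom.id X).wedge x y) →+* _) r0
  have hr1P : PrimeSpectrum.comap (X.resSect x _ hUx) r1 = P := by
    rw [← hr0P]
    apply PrimeSpectrum.ext
    ext a
    change e.symm (X.resSect x _ hUx a) ∈ r0.asIdeal ↔ a ⊗ₜ[X.ring s] 1 ∈ r0.asIdeal
    rw [← heL a, RingEquiv.symm_apply_apply]
  have hr1Q : PrimeSpectrum.comap (X.resSect y _ hUy) r1 = Q := by
    rw [← hr0Q]
    apply PrimeSpectrum.ext
    ext b
    change e.symm (X.resSect y _ hUy b) ∈ r0.asIdeal ↔ 1 ⊗ₜ[X.ring s] b ∈ r0.asIdeal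
    rw [← heR b, RingEquiv.symm_apply_apply]
  -- the intersection is nonempty
  have hne : (X.up x ∩ X.up y).Nonempty := by
    by_contra hne
    rw [Set.not_nonempty_iff_eq_empty] at hne
    have hemp : IsEmpty ↥((Hom.id X).wedge x y) :=
      ⟨fun q => (Set.eq_empty_iff_forall_notMem.1 hne q.1) q.2⟩
    apply r1.2.ne_top
    rw [Ideal.eq_top_iff_one]
    have : (1 : X.sectRing ((Hom.id X).wedge x y)) = 0 :=
      Subtype.ext (funext fun q => (hemp.false q).elim)
    rw [this]
    exact zero_mem _
  have hff' : Module.FaithfullyFlat (X.sectRing ((Hom.id X).wedge x y))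
      ((q : ↥((Hom.id X).wedge x y)) → X.ring q.1) := hff s x y hx hy hne
  obtain ⟨z, rz, hz⟩ := exists_point_prime X _ hff' r1
  refine ⟨z.1, z.2.1, z.2.2, rz, ?_, ?_⟩
  · have h1 : X.res z.2.1 = (X.evalRing _ z).comp (X.resSect x _ hUx) := rfl
    rw [h1, PrimeSpectrum.comap_comp_apply, hz, hr1P]
  · have h1 : X.res (show y ≤ z.1 from z.2.2) = (X.evalRing _ z).comp (X.resSect y _ hUy) := rfl
    change PrimeSpectrum.comap (X.res (show y ≤ z.1 from z.2.2)) rz = Q
    rw [h1, PrimeSpectrum.comap_comp_apply, hz, hr1Q]

end Groth.Agent.S15614
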