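import Groth.Statements.S15615
import Groth.Agent.S15614
-- import your own Groth.Agent.* helpers here

set_option autoImplicit false
universe u
open SchFin SchFin.RSpace
open Groth.Agent.Lib.SchFin_helper3 TensorProduct

namespace Groth.Agent.S15615

open SchFin in
/-- In a schematic finite space, the relation on pairs (a point together with a prime of its ring) under
which two pairs are related when some pair at a point above both restricts to each of them is an
equivalence relation. (The published statement does not carry the hypothesis that, for every two
points that lie above a common point and whose minimal open sets meet, the product of the rings over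
the intersection of these minimal open sets is faithfully flat over the ring of sections on it; the
published proof obtains this fact from properties of affine schematic spaces recalled there without
proof, and this row carries it explicitly.) -/
theorem result (X : RSpace.{u}) (hX : X.IsSchematic)
    (hff : ∀ s a b : X.pt, s ≤ a → s ≤ b → (X.up a ∩ X.up b).Nonempty →
      Module.FaithfullyFlat (X.sectRing (X.up a ∩ X.up b)) ((q : ↥(X.up a ∩ X.up b)) → X.ring q.1)) :
    Equivalence X.PairRel := by
  refine ⟨?_, ?_, ?_⟩
  · intro a
    exact ⟨a.1, le_refl _, le_refl _, a.2, comap_res_self X _ _ _, comap_res_self X _ _ _⟩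
  · rintro a b ⟨z, hx, hy, r, h1, h2⟩
    exact ⟨z, hy, hx, r, h2, h1⟩
  · rintro a b c ⟨z1, hx1, hy1, r1, h11, h12⟩ ⟨z2, hx2, hy2, r2, h21, h22⟩
    obtain ⟨z, hz1, hz2, r, hr1, hr2⟩ :=
      Groth.Agent.S15614.result X hX hff hy1 hx2 r1 r2 (h12.trans h21.symm)
    refine ⟨z, hx1.trans hz1, hy2.trans hz2, r, ?_, ?_⟩
    · rw [comap_res_trans X hx1 hz1, ← h11]
      exact congrArg _ hr1
    · rw [comap_res_trans X hy2 hz2, ← h22]
      exact congrArg _ hr2

end Groth.Agent.S15615
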