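import Groth.Statements.S15616
import Groth.Agent.S15615
-- import your own Groth.Agent.* helpers here

set_option autoImplicit false
universe u
open SchFin SchFin.RSpace
open Groth.Agent.Lib.SchFin_helper3 TensorProduct

namespace Groth.Agent.S15616

open SchFin in
/-- In a schematic finite space every schematic point, that is, every class of pairs (a point with a
prime of its ring), has exactly one representative whose point lies above the points of all
representatives of the class. (The published statement does not carry the hypothesis that, for every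
two points that lie above a common point and whose minimal open sets meet, the product of the rings
over the intersection of these minimal open sets is faithfully flat over the ring of sections on it;
the published proof obtains this fact from properties of affine schematic spaces recalled there
without proof, and this row carries it explicitly.) -/
theorem result (X : RSpace.{u}) (hX : X.IsSchematic)
    (hff : ∀ s a b : X.pt, s ≤ a → s ≤ b → (X.up a ∩ X.up b).Nonempty →
      Module.FaithfullyFlat (X.sectRing (X.up a ∩ X.up b)) ((q : ↥(X.up a ∩ X.up b)) → X.ring q.1))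
    (c : X.SchPt) :
    ∃! a : X.Pair, Quot.mk X.PairRel a = c ∧ ∀ b : X.Pair, Quot.mk X.PairRel b = c → b.1 ≤ a.1 := by
  classical
  have heq : Equivalence X.PairRel := Groth.Agent.S15615.result X hX hff
  have hrel : ∀ a b : X.Pair, Quot.mk X.PairRel a = Quot.mk X.PairRel b ↔ X.PairRel a b :=
    fun a b => Quot.eq.trans heq.eqvGen_iff
  obtain ⟨a0, rfl⟩ := Quot.exists_rep c
  -- the points carrying a representative
  let T : Set X.pt := {p | ∃ b : X.Pair, X.PairRel a0 b ∧ b.1 = p}
  have hTne : T.Nonempty := ⟨a0.1, a0, heq.refl a0, rfl⟩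
  obtain ⟨m, ⟨a, ha0, ham⟩, hmax⟩ := (Set.toFinite T).exists_maximal hTne
  -- a representative above `a` sits at the point of `a`
  have hup : ∀ (z : X.pt) (r : PrimeSpectrum (X.ring z)) (hz : a.1 ≤ z),
      PrimeSpectrum.comap (X.res hz) r = a.2 → z ≤ a.1 := by
    intro z r hz hr
    have h1 : X.PairRel a ⟨z, r⟩ := ⟨z, hz, le_refl _, r, hr, comap_res_self X _ _ _⟩
    have h2 : z ∈ T := ⟨⟨z, r⟩, heq.trans ha0 h1, rfl⟩
    have := hmax h2 (by rw [← ham]; exact hz)
    rw [← ham] at this
    exact this
  have hbig : ∀ b : X.Pair, Quot.mk X.PairRel b = Quot.mk X.PairRel a0 → b.1 ≤ a.1 := by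
    intro b hb
    have hb0 : X.PairRel a0 b := heq.symm ((hrel b a0).1 hb)
    obtain ⟨z, hz1, hz2, r, hr1, hr2⟩ := heq.trans (heq.symm ha0) hb0
    exact hz2.trans (hup z r hz1 hr1)
  refine ⟨a, ⟨(hrel a a0).2 (heq.symm ha0), hbig⟩, ?_⟩
  rintro a' ⟨ha'c, ha'big⟩
  have h1 : a'.1 ≤ a.1 := hbig a' ha'c
  have h2 : a.1 ≤ a'.1 := ha'big a ((hrel a a0).2 (heq.symm ha0))
  have h3 : a'.1 = a.1 := le_antisymm h1 h2
  have h4 : X.PairRel a a' := heq.trans (heq.symm ha0) (heq.symm ((hrel a' a0).1 ha'c))
  obtain ⟨z, hz1, hz2, r, hr1, hr2⟩ := h4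
  have h5 : z = a.1 := le_antisymm (hup z r hz1 hr1) hz1
  obtain ⟨x, P⟩ := a
  obtain ⟨x', P'⟩ := a'
  simp only at h3 h5 hz1 hz2 hr1 hr2
  subst h3
  subst h5
  rw [comap_res_self] at hr1 hr2
  rw [← hr1, ← hr2]

end Groth.Agent.S15616
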