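import Groth.Statements.S15627
import Groth.Agent.Lib.SchFin3_helper3
import Groth.Agent.S15614
-- import your own Groth.Agent.* helpers here

set_option autoImplicit false
universe u
open SchFin SchFin.GeomPt
open Groth.Agent.Lib.SchFin_helper3 TensorProduct

namespace Groth.Agent.S15627

open SchFin in
/-- Let X be a schematic finite space and Ω an algebraically closed field. Given a pair (x, P) of a
point and a prime of its ring which is the maximal representative of its class (every related pair
sits at a point below x) and a ring map φ from the residue field of P to Ω, there is exactly one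
geometric point of X with values in Ω that hits x and whose ring map from the ring of x to Ω is φ
composed with the passage to the residue field. (The published statement is the resulting bijection
between geometric points with values in Ω and schematic points equipped with an embedding of their
residue field into Ω.) (The published statement does not carry the hypothesis that, for every two
points that lie above a common point and whose minimal open sets meet, the product of the rings over
the intersection of these minimal open sets is faithfully flat over the ring of sections on it; the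
published proof obtains this fact from properties of affine schematic spaces recalled there without
proof, and this row carries it explicitly.) -/
theorem result (X : RSpace.{u}) (hX : X.IsSchematic)
    (hff : ∀ s a b : X.pt, s ≤ a → s ≤ b → (X.up a ∩ X.up b).Nonempty →
      Module.FaithfullyFlat (X.sectRing (X.up a ∩ X.up b)) ((q : ↥(X.up a ∩ X.up b)) → X.ring q.1))
    (Ω : Type u) [Field Ω] [IsAlgClosed Ω] (a : X.Pair) (ha : ∀ b : X.Pair, X.PairRel a b → b.1 ≤ a.1)
    (φ : a.κ →+* Ω) :
    ∃! ξ : GeomPt X Ω, (⟨ξ.base, ξ.toField⟩ : Σ x : X.pt, (X.ring x →+* Ω)) =
      ⟨a.1, φ.comp (algebraMap (X.ring a.1) a.κ)⟩ := by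
  classical
  have subs_tensor : ∀ (R S M : Type u) [CommRing R] [CommRing S] [Algebra R S] [AddCommGroup M]
      [Module R M] [Subsingleton M], Subsingleton (S ⊗[R] M) := by
    intro R S M _ _ _ _ _ _
    refine ⟨fun s t => ?_⟩
    have h0 : ∀ s : S ⊗[R] M, s = 0 := by
      intro s
      induction s using TensorProduct.induction_on with
      | zero => rfl
      | tmul x y => rw [Subsingleton.elim y 0, TensorProduct.tmul_zero]
      | add x y hx hy => rw [hx, hy, add_zero]
    rw [h0 s, h0 t]
  set ψ : X.ring a.1 →+* Ω := φ.comp (algebraMap (X.ring a.1) a.κ) with hψ
  have hker : RingHom.ker ψ = a.2.asIdeal := by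
    rw [hψ, ← RingHom.comap_ker, (RingHom.injective_iff_ker_eq_bot φ).1 φ.injective,
      ← RingHom.ker_eq_comap_bot, Ideal.ker_algebraMap_residueField]
  let f0 : Hom (RSpace.point Ω) X :=
    { fn := fun _ => a.1
      mono := fun _ _ _ => le_refl _
      app := fun _ => ψ
      compat := fun {q q'} h b => by
        change ψ b = ψ (X.res (le_refl a.1) b)
        rw [X.res_self] }
  have hsch : f0.IsSchematic := by
    refine ⟨⟨fun _ => (inferInstance : IsNoetherianRing Ω), fun _ _ _ => RingHom.Flat.id _⟩,
      hX.1, ?_⟩
    intro n x x' hx y y' hy
    haveI : Subsingleton (RSpace.point Ω).pt := (inferInstance : Subsingleton PUnit)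
    cases n with
    | succ n =>
      constructor
      · apply isBCAlong_of_subsingleton
        · haveI := subsingleton_H_succ (Coef.ofLE x (f0.wedge x y) (f0.wedge_subset_up x y))
            (RSpace.point Ω).str n
          exact @subs_tensor _ _ _ _ _ (_) _ _ _
        · exact subsingleton_H_succ _ _ n
      · apply isBCAlong_of_subsingleton
        · haveI := subsingleton_H_succ (Coef.ofHom f0 y (f0.wedge x y) (f0.wedge_subset_pre x y))
            (RSpace.point Ω).str n
          exact @subs_tensor _ _ _ _ _ (_) _ _ _
        · exact subsingleton_H_succ _ _ n
    | zero =>
      constructor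
      · -- source direction
        refine (isBCAlong_resH_zero_iff (RSpace.point Ω).str (f0.subSrc hx y)).2 ?_
        have hepi : @Algebra.IsEpi ((RSpace.point Ω).ring x) ((RSpace.point Ω).ring x') _ _
            ((RSpace.point Ω).res hx).toAlgebra := by
          letI : Algebra ((RSpace.point Ω).ring x) ((RSpace.point Ω).ring x') :=
            ((RSpace.point Ω).res hx).toAlgebra
          exact Algebra.isEpi_of_surjective_algebraMap _ _ (fun b => ⟨b, rfl⟩)
        exact isBCAlong_of_isEpi _ hepi _ (SectC.res_bijective _ _
          (fun q hq => ⟨le_of_eq (Subsingleton.elim _ _), hq.2⟩))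
      · -- target direction
        refine (isBCAlong_resH_zero_iff (RSpace.point Ω).str (f0.subTgt x hy)).2 ?_
        by_cases hy' : y' ≤ a.1
        · exact isBCAlong_of_isEpi _ (isEpi_res X hX hy) _ (SectC.res_bijective _ _
            (fun q hq => ⟨hq.1, hy'⟩))
        · have hempty' : IsEmpty ↥(f0.wedge x y') := ⟨fun q => hy' q.2.2⟩
          by_cases hy0 : y ≤ a.1
          · apply isBCAlong_of_subsingleton
            · -- the key case
              letI : Algebra (X.ring y) (X.ring y') := (X.res hy).toAlgebra
              haveI : Module.Flat (X.ring y) (X.ring y') := hX.1.2 y y' hy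
              let g0 : X.ring y →+* Ω := ψ.comp (X.res hy0)
              letI : Algebra (X.ring y) Ω := g0.toAlgebra
              let q0 : ↥(f0.wedge x y) := ⟨PUnit.unit, le_of_eq (Subsingleton.elim _ _), hy0⟩
              let ev : SectC (Coef.ofHom f0 y (f0.wedge x y) (f0.wedge_subset_pre x y))
                  (RSpace.point Ω).str →ₗ[X.ring y] Ω :=
                { toFun := fun c => c.val q0
                  map_add' := fun _ _ => rfl
                  map_smul' := fun _ _ => rfl }
              have hev : Function.Injective ev := by
                rw [injective_iff_map_eq_zero]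
                intro c hc
                ext q
                have hq : q = q0 := Subsingleton.elim _ _
                rw [hq]
                exact hc
              have hinj : Function.Injective (LinearMap.lTensor (X.ring y') ev) :=
                Module.Flat.lTensor_preserves_injective_linearMap ev hev
              suffices hT : Subsingleton (X.ring y' ⊗[X.ring y] Ω) from hinj.subsingleton
              by_contra hT
              rw [not_subsingleton_iff_nontrivial] at hT
              obtain ⟨r⟩ := (PrimeSpectrum.nonempty_iff_nontrivial).2 hT
              let P' : PrimeSpectrum (X.ring y') :=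
                PrimeSpectrum.comap Algebra.TensorProduct.includeLeftRingHom r
              have hP' : PrimeSpectrum.comap (X.res hy0) a.2 = PrimeSpectrum.comap (X.res hy) P' := by
                apply PrimeSpectrum.ext
                ext b
                have e1 : (X.res hy b) ⊗ₜ[X.ring y] (1 : Ω) = (1 : X.ring y') ⊗ₜ[X.ring y] (g0 b) := by
                  have h1 : X.res hy b = b • (1 : X.ring y') := by
                    rw [Algebra.smul_def, mul_one]
                    rfl
                  have h2 : g0 b = b • (1 : Ω) := by
                    rw [Algebra.smul_def, mul_one]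
                    rfl
                  rw [h1, h2, TensorProduct.smul_tmul]
                change X.res hy0 b ∈ a.2.asIdeal ↔
                  (X.res hy b) ⊗ₜ[X.ring y] (1 : Ω) ∈ r.asIdeal
                rw [e1, ← hker, RingHom.mem_ker]
                change g0 b = 0 ↔ _
                constructor
                · intro h0
                  rw [h0, TensorProduct.tmul_zero]
                  exact zero_mem _
                · intro hmem
                  by_contra hne
                  have hu : IsUnit (g0 b) := IsUnit.mk0 _ hne
                  have hu' : IsUnit ((1 : X.ring y') ⊗ₜ[X.ring y] (g0 b)) :=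
                    hu.map (Algebra.TensorProduct.includeRight :
                      Ω →ₐ[X.ring y] X.ring y' ⊗[X.ring y] Ω)
                  exact r.2.ne_top (Ideal.eq_top_of_isUnit_mem _ hmem hu')
              exact hy' (ha ⟨y', P'⟩ (Groth.Agent.S15614.result X hX hff hy0 hy a.2 P' hP'))
            · exact ⟨fun c d => SectC.ext fun q => (hempty'.false q).elim⟩
          · have hempty : IsEmpty ↥(f0.wedge x y) := ⟨fun q => hy0 q.2.2⟩
            apply isBCAlong_of_subsingleton
            · haveI : Subsingleton (SectC (Coef.ofHom f0 y (f0.wedge x y)
                  (f0.wedge_subset_pre x y)) (RSpace.point Ω).str) :=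
                ⟨fun c d => SectC.ext fun q => (hempty.false q).elim⟩
              exact @subs_tensor _ _ _ _ _ (_) _ _ _
            · exact ⟨fun c d => SectC.ext fun q => (hempty'.false q).elim⟩
  refine ⟨⟨f0, hsch⟩, rfl, ?_⟩
  rintro ⟨⟨fn, mono, app, compat⟩, hs⟩ h
  have h' : (⟨fn PUnit.unit, app PUnit.unit⟩ : Σ x : X.pt, (X.ring x →+* Ω)) = ⟨a.1, ψ⟩ := h
  have hfn : fn = fun _ => a.1 := funext fun v => by
    cases v
    exact (Sigma.mk.inj_iff.1 h').1
  subst hfn
  have happ : app = fun _ => ψ := funext fun v => by
    cases v
    exact eq_of_heq (Sigma.mk.inj_iff.1 h').2
  subst happ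
  rfl

end Groth.Agent.S15627
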