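import Groth.Statements.S1567
import Groth.Agent.Lib.AffStalk_helper3
-- import your own Groth.Agent.* helpers here

set_option autoImplicit false
universe u
open CategoryTheory CategoryTheory.Limits AlgebraicGeometry
open Groth.Agent.Lib.AffStalk_helper3
open Divisors

namespace Groth.Agent.S1567

/-- Let X be locally Noetherian and D a locally principal closed subscheme. At a point ξ of D that is
maximal in D under generisation (a generic point of a component of D), the local ring of X has
dimension at most one. -/
theorem result (X : Scheme.{u}) [IsLocallyNoetherian X]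
    (D : X.IdealSheafData) (hD : Curv2.IsLocPrincipal D) (ξ : X)
    (hξ : ξ ∈ (D.support : Set X)) (hgen : ∀ y ∈ (D.support : Set X), y ⤳ ξ → y = ξ) :
    ringKrullDim (X.presheaf.stalk ξ) ≤ 1 := by
  obtain ⟨U, hξU, f, hf⟩ := hD ξ hξ
  have hU : IsAffineOpen (U : X.Opens) := U.2
  haveI : IsNoetherianRing Γ(X, (U : X.Opens)) := IsLocallyNoetherian.component_noetherian U
  have hdim := ringKrullDim_stalk hU ⟨ξ, hξU⟩
  rw [show ((⟨ξ, hξU⟩ : (U : X.Opens)) : X) = ξ from rfl] at hdim
  rw [hdim]
  have hmin : (hU.primeIdealOf ⟨ξ, hξU⟩).asIdeal ∈ (D.ideal U).minimalPrimes :=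
    primeIdealOf_mem_minimalPrimes hU D ⟨ξ, hξU⟩ hξ hgen
  rw [hf] at hmin
  have h := Ideal.height_le_one_of_isPrincipal_of_mem_minimalPrimes _ _ hmin
  exact_mod_cast h

end Groth.Agent.S1567
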