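import Groth.Statements.S1568
import Groth.Agent.Lib.AffStalk_helper3
-- import your own Groth.Agent.* helpers here

set_option autoImplicit false
universe u
open CategoryTheory CategoryTheory.Limits AlgebraicGeometry
open Groth.Agent.Lib.AffStalk_helper3
open Divisors

namespace Groth.Agent.S1568

/-- Let X be locally Noetherian and D an effective Cartier divisor. At a point ξ of D that is maximal in
D under generisation (a generic point of a component of D), the local ring of X has dimension
exactly one. -/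
theorem result (X : Scheme.{u}) [IsLocallyNoetherian X]
    (D : X.IdealSheafData) (hD : BlowUp.IsEffCartierIdeal D) (ξ : X)
    (hξ : ξ ∈ (D.support : Set X)) (hgen : ∀ y ∈ (D.support : Set X), y ⤳ ξ → y = ξ) :
    ringKrullDim (X.presheaf.stalk ξ) = 1 := by
  obtain ⟨U, hξU, f, hfnzd, hf⟩ := hD ξ
  have hU : IsAffineOpen (U : X.Opens) := U.2
  haveI : IsNoetherianRing Γ(X, (U : X.Opens)) := IsLocallyNoetherian.component_noetherian U
  have hdim := ringKrullDim_stalk hU ⟨ξ, hξU⟩
  rw [show ((⟨ξ, hξU⟩ : (U : X.Opens)) : X) = ξ from rfl] at hdim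
  rw [hdim]
  have hmin : (hU.primeIdealOf ⟨ξ, hξU⟩).asIdeal ∈ (D.ideal U).minimalPrimes :=
    primeIdealOf_mem_minimalPrimes hU D ⟨ξ, hξU⟩ hξ hgen
  rw [hf] at hmin
  have h1 := Ideal.height_le_one_of_isPrincipal_of_mem_minimalPrimes _ _ hmin
  have h2 : (1 : ℕ∞) ≤ (hU.primeIdealOf ⟨ξ, hξU⟩).asIdeal.height :=
    (Ideal.one_le_height_span_singleton_of_mem_nonZeroDivisors hfnzd).trans
      (Ideal.height_mono hmin.1.2)
  have h3 : (hU.primeIdealOf ⟨ξ, hξU⟩).asIdeal.height = 1 := le_antisymm h1 h2
  rw [h3]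
  rfl

end Groth.Agent.S1568
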