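import Groth.Statements.S1569
import Groth.Agent.Lib.AffStalk2_helper3
-- import your own Groth.Agent.* helpers here

set_option autoImplicit false
universe u
open CategoryTheory CategoryTheory.Limits AlgebraicGeometry
open Groth.Agent.Lib.AffStalk_helper3
open Divisors

namespace Groth.Agent.S1569

/-- On a Noetherian scheme, an effective Cartier divisor which is integral as a closed subscheme has a
discrete valuation ring as the local ring of the ambient scheme at its generic point. -/
theorem result (X : Scheme.{u}) [IsNoetherian X]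
    (D : X.IdealSheafData) (hD : BlowUp.IsEffCartierIdeal D) [IsIntegral D.subscheme]
    (ξ : X) (hξ : IsGenericPoint ξ (D.support : Set X)) :
    ∃ _ : IsDomain (X.presheaf.stalk ξ), IsDiscreteValuationRing (X.presheaf.stalk ξ) := by
  obtain ⟨U, hξU, f, hfnzd, hf⟩ := hD ξ
  have hU : IsAffineOpen (U : X.Opens) := U.2
  haveI : IsNoetherianRing Γ(X, (U : X.Opens)) := IsLocallyNoetherian.component_noetherian U
  have hξD : ξ ∈ (D.support : Set X) := hξ.mem
  have hgen : ∀ y ∈ (D.support : Set X), y ⤳ ξ → y = ξ :=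
    fun y hy hys => (hys.antisymm (hξ.specializes hy)).eq
  have hmin : (hU.primeIdealOf ⟨ξ, hξU⟩).asIdeal ∈ (D.ideal U).minimalPrimes :=
    primeIdealOf_mem_minimalPrimes hU D ⟨ξ, hξU⟩ hξD hgen
  have hall : ∀ q ∈ (D.ideal U).minimalPrimes, q = (hU.primeIdealOf ⟨ξ, hξU⟩).asIdeal := by
    intro q hq
    have hqp : q.IsPrime := hq.1.1
    have hyU := fromSpec_mem hU ⟨q, hqp⟩
    have hpy := primeIdealOf_fromSpec hU ⟨q, hqp⟩
    have hyD : hU.fromSpec ⟨q, hqp⟩ ∈ (D.support : Set X) :=
      (mem_support_iff hU D ⟨_, hyU⟩).mpr (by rw [hpy]; exact hq.1.2)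
    have hs : ξ ⤳ hU.fromSpec ⟨q, hqp⟩ := hξ.specializes hyD
    have hle : (hU.primeIdealOf ⟨ξ, hξU⟩).asIdeal ≤ q := by
      have := (specializes_iff hU ⟨_, hyU⟩ ⟨ξ, hξU⟩).mp hs
      rwa [hpy] at this
    exact le_antisymm (hq.2 hmin.1 hle) hle
  have hrad : (D.ideal U).radical = (hU.primeIdealOf ⟨ξ, hξU⟩).asIdeal := by
    rw [← Ideal.sInf_minimalPrimes]
    have : (D.ideal U).minimalPrimes = {(hU.primeIdealOf ⟨ξ, hξU⟩).asIdeal} := by
      ext q; constructor
      · intro hq; exact hall q hq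
      · rintro rfl; exact hmin
    rw [this, sInf_singleton]
  have : IsReduced D.subscheme := inferInstance
  have hR := isRadical_ideal_of_isReduced D U
  rw [hR.radical, hf] at hrad
  have hmax := maximalIdeal_stalk hU ⟨ξ, hξU⟩
  rw [← hrad, Ideal.map_span, Set.image_singleton] at hmax
  exact isDVR_of_maximalIdeal_span_nzd _ (germ_mem_nonZeroDivisors hU ⟨ξ, hξU⟩ f hfnzd) hmax

end Groth.Agent.S1569
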