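import Groth.Statements.S1570
import Groth.Agent.Lib.AffStalk3_helper3
import Groth.Agent.Lib.CartierLoc_helper3
-- import your own Groth.Agent.* helpers here

set_option autoImplicit false
universe u
open CategoryTheory CategoryTheory.Limits AlgebraicGeometry
open Groth.Agent.Lib.AffStalk_helper3 Groth.Agent.Lib.CartierLoc_helper3 TopologicalSpace
open Divisors

namespace Groth.Agent.S1570

/-- Let X be locally Noetherian and D a closed subscheme with ideal sheaf I. If for every point x of D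
the ideal generated by I in the local ring at x is generated by one nonzerodivisor, then D is an
effective Cartier divisor. -/
theorem result (X : Scheme.{u}) [IsLocallyNoetherian X]
    (D : X.IdealSheafData)
    (h : ∀ x ∈ D.support, ∀ (U : X.affineOpens) (hx : x ∈ (U : X.Opens)),
      ∃ g : X.presheaf.stalk x, g ∈ nonZeroDivisors (X.presheaf.stalk x) ∧
        (D.ideal U).map (X.presheaf.germ U x hx).hom = Ideal.span {g}) :
    BlowUp.IsEffCartierIdeal D := by
  intro x
  by_cases hx : x ∈ D.support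
  · obtain ⟨_, ⟨U, hU, rfl⟩, hxU, -⟩ :=
      X.isBasis_affineOpens.exists_subset_of_mem_open (Set.mem_univ x) isOpen_univ
    haveI : IsNoetherianRing Γ(X, U) := IsLocallyNoetherian.component_noetherian ⟨U, hU⟩
    obtain ⟨g, hg, hgI⟩ := h x hx ⟨U, hU⟩ hxU
    letI := TopCat.Presheaf.algebra_section_stalk X.presheaf (⟨x, hxU⟩ : U)
    haveI := hU.isLocalization_stalk ⟨x, hxU⟩
    obtain ⟨r, hr, a, haI, H⟩ := exists_away_principal (D.ideal ⟨U, hU⟩)
      (hU.primeIdealOf ⟨x, hxU⟩).asIdeal (X.presheaf.stalk x) g hg hgI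
    have hloc := hU.isLocalization_basicOpen r
    obtain ⟨h1, h2⟩ := H Γ(X, X.basicOpen r)
    refine ⟨⟨X.basicOpen r, hU.basicOpen r⟩, (mem_basicOpen_iff hU r ⟨x, hxU⟩).mpr hr,
      algebraMap Γ(X, U) Γ(X, X.basicOpen r) a, h2, ?_⟩
    rw [← h1]
    exact (D.map_ideal (U := ⟨X.basicOpen r, hU.basicOpen r⟩) (V := ⟨U, hU⟩)
      (X.basicOpen_le r)).symm
  · obtain ⟨_, ⟨U, hU, rfl⟩, hxU, hUs⟩ :=
      X.isBasis_affineOpens.exists_subset_of_mem_open (show x ∈ (D.support.compl : Set X) from hx)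
        D.support.compl.isOpen
    refine ⟨⟨U, hU⟩, hxU, 1, one_mem _, ?_⟩
    rw [Ideal.span_singleton_one]
    by_contra hne
    obtain ⟨m, hm, hIm⟩ := Ideal.exists_le_maximal _ hne
    have hyU := fromSpec_mem hU ⟨m, hm.isPrime⟩
    have hy : hU.fromSpec ⟨m, hm.isPrime⟩ ∈ D.support :=
      (mem_support_iff hU D ⟨_, hyU⟩).mpr (by rw [primeIdealOf_fromSpec]; exact hIm)
    exact hUs hyU hy

end Groth.Agent.S1570
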