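import Groth.Statements.S15706
import Mathlib

set_option autoImplicit false
universe u
open CAlg

namespace Groth.Agent.S15706

/-- Let A be a Noetherian ring with Serre's property (S_1), stated here in the equivalent form that
every associated prime of A is a minimal prime of A. Let I be an ideal of A and b an element of A/I
which is regular (a non-zero-divisor) in A/I. Then b is the image of a regular element of A. -/
theorem result (A : Type u) [CommRing A]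
    [IsNoetherianRing A] (hS1 : ∀ p ∈ associatedPrimes A A, p ∈ minimalPrimes A) (I : Ideal A)
    (b : A ⧸ I) (hb : b ∈ nonZeroDivisors (A ⧸ I)) :
    ∃ a : A, a ∈ nonZeroDivisors A ∧ Ideal.Quotient.mk I a = b := by
  classical
  obtain ⟨b', rfl⟩ := Ideal.Quotient.mk_surjective b
  have hfin := associatedPrimes.finite A A
  have hTprime : ∀ p ∈ hfin.toFinset, p.IsPrime :=
    fun p hp => (hfin.mem_toFinset.mp hp).isPrime
  have hTmin : ∀ p ∈ hfin.toFinset, p ∈ minimalPrimes A :=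
    fun p hp => hS1 p (hfin.mem_toFinset.mp hp)
  obtain ⟨T₁, hT₁⟩ : ∃ T₁ : Finset (Ideal A), T₁ = hfin.toFinset.filter (fun p => b' ∈ p) :=
    ⟨_, rfl⟩
  obtain ⟨T₂, hT₂⟩ : ∃ T₂ : Finset (Ideal A), T₂ = hfin.toFinset.filter (fun p => b' ∉ p) :=
    ⟨_, rfl⟩
  have hm1 : ∀ p, p ∈ T₁ ↔ p ∈ hfin.toFinset ∧ b' ∈ p := by
    intro p; rw [hT₁, Finset.mem_filter]
  have hm2 : ∀ p, p ∈ T₂ ↔ p ∈ hfin.toFinset ∧ b' ∉ p := by
    intro p; rw [hT₂, Finset.mem_filter]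
  have hI1 : ∀ p ∈ T₁, ¬ I ≤ p := by
    intro p hp hIp
    obtain ⟨hpT, hbp⟩ := (hm1 p).mp hp
    have hPmin := hTmin p hpT
    have hPI : p ∈ I.minimalPrimes :=
      ⟨⟨hTprime p hpT, hIp⟩, fun q hq hqP => hPmin.2 ⟨hq.1, bot_le⟩ hqP⟩
    rw [Ideal.minimalPrimes_eq_comap] at hPI
    obtain ⟨Q, hQ, rfl⟩ := hPI
    have hbQ : Ideal.Quotient.mk I b' ∈ Q := hbp
    exact Set.disjoint_left.mp (Ideal.disjoint_nonZeroDivisors_of_mem_minimalPrimes hQ) hbQ hb
  have hJ1 : ∀ p ∈ T₁, ¬ (I * ∏ q ∈ T₂, q) ≤ p := by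
    intro p hp hJp
    obtain ⟨hpT, hbp⟩ := (hm1 p).mp hp
    have hpp : p.IsPrime := hTprime p hpT
    rw [hpp.mul_le] at hJp
    rcases hJp with h | h
    · exact hI1 p hp h
    · rw [hpp.prod_le] at h
      obtain ⟨q, hq, hqp⟩ := h
      obtain ⟨hqT, hbq⟩ := (hm2 q).mp hq
      have hqmin := hTmin q hqT
      have hpmin := hTmin p hpT
      have hpq : p ≤ q := hpmin.2 ⟨hqmin.1.1, bot_le⟩ hqp
      have hqp' : q = p := le_antisymm hqp hpq
      exact hbq (hqp' ▸ hbp)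
  obtain ⟨i, hiJ, hi⟩ : ∃ i ∈ (I * ∏ q ∈ T₂, q), ∀ p ∈ T₁, i ∉ p := by
    by_contra hcon
    push Not at hcon
    have hsub : (((I * ∏ q ∈ T₂, q : Ideal A)) : Set A)
        ⊆ ⋃ p ∈ (T₁ : Set (Ideal A)), (p : Set A) := by
      intro i hi
      obtain ⟨p, hp, hip⟩ := hcon i hi
      simp only [Set.mem_iUnion]
      exact ⟨p, by exact_mod_cast hp, hip⟩
    rw [Ideal.subset_union_prime (f := fun p : Ideal A => p) ⊥ ⊥
      (fun p hp _ _ => hTprime p ((hm1 p).mp hp).1)] at hsub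
    obtain ⟨p, hp, hle⟩ := hsub
    exact hJ1 p hp hle
  have hiI : i ∈ I := Ideal.mul_le_left hiJ
  have hi2 : ∀ q ∈ T₂, i ∈ q := by
    intro q hq
    have h1 : i ∈ ∏ q ∈ T₂, q := Ideal.mul_le_right hiJ
    have h2 : (∏ q ∈ T₂, q) ≤ q :=
      Ideal.le_of_dvd (Finset.dvd_prod_of_mem (fun q : Ideal A => q) hq)
    exact h2 h1
  refine ⟨b' + i, ?_, ?_⟩
  · by_contra hnz
    have h1 : b' + i ∈ (nonZeroDivisors A : Set A)ᶜ := hnz
    rw [← biUnion_associatedPrimes_eq_compl_nonZeroDivisors] at h1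
    simp only [Set.mem_iUnion] at h1
    obtain ⟨p, hp, hmem⟩ := h1
    have hpT : p ∈ hfin.toFinset := hfin.mem_toFinset.mpr hp
    by_cases hbp : b' ∈ p
    · have hp1 : p ∈ T₁ := (hm1 p).mpr ⟨hpT, hbp⟩
      exact hi p hp1 ((Ideal.add_mem_iff_right p hbp).mp hmem)
    · have hp2 : p ∈ T₂ := (hm2 p).mpr ⟨hpT, hbp⟩
      exact hbp ((Ideal.add_mem_iff_left p (hi2 p hp2)).mp hmem)
  · rw [map_add, Ideal.Quotient.eq_zero_iff_mem.mpr hiI, add_zero]

end Groth.Agent.S15706
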