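import Groth.Statements.S15707
import Mathlib

set_option autoImplicit false
universe u
open CAlg

namespace Groth.Agent.S15707

/-- Let A be a Noetherian ring with Serre's property (S_1), stated here as: every associated prime of A
is a minimal prime. Let I be an ideal and B = A/I. Then the B-module Hom_A(B, A), with B acting
through the source, is torsion-free: an A-linear map φ : B → A which is killed by a regular element
b of B, in the sense that φ(b x) = 0 for all x, is zero. -/
theorem result (A : Type u) [CommRing A]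
    [IsNoetherianRing A] (hS1 : ∀ p ∈ associatedPrimes A A, p ∈ minimalPrimes A) (I : Ideal A)
    (φ : (A ⧸ I) →ₗ[A] A) (b : A ⧸ I) (hb : b ∈ nonZeroDivisors (A ⧸ I))
    (h : ∀ x : A ⧸ I, φ (b * x) = 0) : φ = 0 := by
  classical
  have ha0 : φ 1 = 0 := by
    by_contra hne
    obtain ⟨P, hPass, hPle⟩ := exists_le_isAssociatedPrime_of_isNoetherianRing A (φ 1) hne
    have hPmin : P ∈ minimalPrimes A := hS1 P hPass
    have hPprime : P.IsPrime := Ideal.minimalPrimes_isPrime hPmin
    have hIP : I ≤ P := by
      intro i hi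
      apply hPle
      rw [Submodule.mem_colon_singleton, Submodule.mem_bot, ← map_smul]
      have : i • (1 : A ⧸ I) = 0 := by
        rw [Algebra.smul_def, mul_one, Ideal.Quotient.algebraMap_eq]
        exact Ideal.Quotient.eq_zero_iff_mem.mpr hi
      rw [this, map_zero]
    obtain ⟨b', rfl⟩ := Ideal.Quotient.mk_surjective b
    have hbP : b' ∈ P := by
      apply hPle
      rw [Submodule.mem_colon_singleton, Submodule.mem_bot, ← map_smul]
      have : b' • (1 : A ⧸ I) = Ideal.Quotient.mk I b' * 1 := by
        rw [Algebra.smul_def, Ideal.Quotient.algebraMap_eq]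
      rw [this]
      exact h 1
    have hPI : P ∈ I.minimalPrimes :=
      ⟨⟨hPprime, hIP⟩, fun q hq hqP => hPmin.2 ⟨hq.1, bot_le⟩ hqP⟩
    rw [Ideal.minimalPrimes_eq_comap] at hPI
    obtain ⟨Q, hQ, rfl⟩ := hPI
    have hbQ : Ideal.Quotient.mk I b' ∈ Q := hbP
    exact Set.disjoint_left.mp (Ideal.disjoint_nonZeroDivisors_of_mem_minimalPrimes hQ) hbQ hb
  apply LinearMap.ext
  intro x
  obtain ⟨x', rfl⟩ := Ideal.Quotient.mk_surjective x
  have : Ideal.Quotient.mk I x' = x' • (1 : A ⧸ I) := by
    rw [Algebra.smul_def, mul_one, Ideal.Quotient.algebraMap_eq]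
  rw [this, map_smul, ha0, smul_zero, LinearMap.zero_apply]

end Groth.Agent.S15707
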