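import Groth.Statements.S15708
import Mathlib
-- import your own Groth.Agent.* helpers here

set_option autoImplicit false
universe u v
open CAlg


namespace Groth.Agent.S15708

/-- Let A be a Noetherian commutative ring graded by the natural numbers, J a homogeneous ideal, and
p_1, ..., p_r finitely many prime ideals such that no p_i contains the irrelevant ideal A_+ and no
p_i contains J. Then there is a homogeneous element z of positive degree with z in J and z in no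
p_i. -/
theorem result {R : Type u} {A : Type v} [CommRing R] [CommRing A]
    [Algebra R A] [IsNoetherianRing A] (𝒜 : ℕ → Submodule R A) [GradedRing 𝒜]
    (J : Ideal A) (hJ : J.IsHomogeneous 𝒜) (P : Finset (Ideal A))
    (hP : ∀ p ∈ P, p.IsPrime ∧ ¬ (HomogeneousIdeal.irrelevant 𝒜).toIdeal ≤ p ∧ ¬ J ≤ p) :
    ∃ (z : A) (n : ℕ), 0 < n ∧ z ∈ 𝒜 n ∧ z ∈ J ∧ ∀ p ∈ P, z ∉ p := by
  classical
  set Aplus : Ideal A := (HomogeneousIdeal.irrelevant 𝒜).toIdeal with hAplus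
  have hom_exists : ∀ (I : Ideal A), I.IsHomogeneous 𝒜 → ∀ q : Ideal A, ¬ I ≤ q →
      ∃ (x : A) (d : ℕ), x ∈ 𝒜 d ∧ x ∈ I ∧ x ∉ q := by
    intro I hI q hIq
    by_contra hcon
    push Not at hcon
    apply hIq
    intro x hx
    rw [← DirectSum.sum_support_decompose 𝒜 x]
    refine Ideal.sum_mem _ (fun i _ => ?_)
    exact hcon _ i (SetLike.coe_mem _) (hI i hx)
  let core : Ideal A → Ideal A := fun p => (p.homogeneousCore 𝒜).toIdeal
  have hcore_le : ∀ p, core p ≤ p := fun p => Ideal.toIdeal_homogeneousCore_le 𝒜 p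
  have hcore_hom : ∀ p, (core p).IsHomogeneous 𝒜 := fun p => (p.homogeneousCore 𝒜).isHomogeneous
  have hcore_mem : ∀ (p : Ideal A) (x : A) (d : ℕ), x ∈ 𝒜 d → x ∈ p → x ∈ core p :=
    fun p x d hx hxp => Ideal.mem_homogeneousCore_of_homogeneous_of_mem ⟨d, hx⟩ hxp
  set Q : Finset (Ideal A) := P.image core with hQ
  have hQprop : ∀ q ∈ Q, q.IsPrime ∧ q.IsHomogeneous 𝒜 ∧ ¬ Aplus ≤ q ∧ ¬ J ≤ q := by
    intro q hq
    obtain ⟨p, hp, rfl⟩ := Finset.mem_image.mp hq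
    obtain ⟨hpp, hpA, hpJ⟩ := hP p hp
    exact ⟨Ideal.IsPrime.homogeneousCore hpp, hcore_hom p, fun h => hpA (h.trans (hcore_le p)),
      fun h => hpJ (h.trans (hcore_le p))⟩
  set Q' : Finset (Ideal A) := Q.filter (fun q => Maximal (· ∈ Q) q) with hQ'
  have hQ'sub : ∀ q ∈ Q', q ∈ Q := fun q hq => (Finset.mem_filter.mp hq).1
  have hanti : ∀ q₁ ∈ Q', ∀ q₂ ∈ Q', q₁ ≤ q₂ → q₁ = q₂ := by
    intro q₁ h₁ q₂ h₂ hle
    have hmax := (Finset.mem_filter.mp h₁).2
    exact le_antisymm hle (hmax.2 (hQ'sub _ h₂) hle)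
  have hcover : ∀ q ∈ Q, ∃ q' ∈ Q', q ≤ q' := by
    intro q hq
    obtain ⟨b, hqb, hb⟩ := Q.exists_le_maximal hq
    exact ⟨b, Finset.mem_filter.mpr ⟨hb.prop, hb⟩, hqb⟩
  let K : Ideal A → Ideal A := fun i => J * Aplus * ∏ j ∈ Q'.erase i, j
  have hK_hom : ∀ i, (K i).IsHomogeneous 𝒜 := by
    intro i
    refine Ideal.IsHomogeneous.mul
      (Ideal.IsHomogeneous.mul hJ (HomogeneousIdeal.irrelevant 𝒜).isHomogeneous) ?_
    refine Finset.prod_induction _ (fun I : Ideal A => I.IsHomogeneous 𝒜)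
      (fun a b ha hb => Ideal.IsHomogeneous.mul ha hb) ?_ ?_
    · rw [Ideal.one_eq_top]; exact Ideal.IsHomogeneous.top 𝒜
    · intro j hj; exact (hQprop j (hQ'sub j (Finset.mem_of_mem_erase hj))).2.1
  have hK_not : ∀ i ∈ Q', ¬ K i ≤ i := by
    intro i hi hle
    obtain ⟨hip, -, hiA, hiJ⟩ := hQprop i (hQ'sub i hi)
    rcases (Ideal.IsPrime.mul_le hip).mp hle with h1 | h2
    · rcases (Ideal.IsPrime.mul_le hip).mp h1 with h | h
      · exact hiJ h
      · exact hiA h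
    · obtain ⟨j, hj, hji⟩ := (Ideal.IsPrime.prod_le hip).mp h2
      have := hanti j (Finset.mem_of_mem_erase hj) i hi hji
      exact (Finset.ne_of_mem_erase hj) this
  have hK_J : ∀ i, K i ≤ J := fun i => Ideal.mul_le_left.trans Ideal.mul_le_left
  have hK_A : ∀ i, K i ≤ Aplus := fun i => Ideal.mul_le_left.trans Ideal.mul_le_right
  have hK_j : ∀ i, ∀ j ∈ Q'.erase i, K i ≤ j := fun i j hj =>
    Ideal.mul_le_right.trans (Ideal.prod_le_inf.trans (Finset.inf_le hj))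
  have hchoose : ∀ i : Ideal A, ∃ (x : A) (d : ℕ),
      i ∈ Q' → (x ∈ 𝒜 d ∧ x ∈ K i ∧ x ∉ i ∧ 0 < d) := by
    intro i
    by_cases hi : i ∈ Q'
    · obtain ⟨x, d, hxd, hxK, hxi⟩ := hom_exists (K i) (hK_hom i) i (hK_not i hi)
      refine ⟨x, d, fun _ => ⟨hxd, hxK, hxi, ?_⟩⟩
      rcases Nat.eq_zero_or_pos d with hd | hd
      · exfalso
        subst hd
        have hxA : x ∈ HomogeneousIdeal.irrelevant 𝒜 := hK_A i hxK
        rw [HomogeneousIdeal.mem_irrelevant_iff, GradedRing.proj_apply,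
          DirectSum.decompose_of_mem_same 𝒜 hxd] at hxA
        exact hxi (hxA ▸ i.zero_mem)
      · exact hd
    · exact ⟨0, 0, fun h => absurd h hi⟩
  choose x d hxd using hchoose
  set D : ℕ := ∏ i ∈ Q', d i with hD
  have hDpos : 0 < D := Finset.prod_pos (fun i hi => (hxd i hi).2.2.2)
  have hdvd : ∀ i ∈ Q', d i ∣ D := fun i hi => Finset.dvd_prod_of_mem d hi
  have hepos : ∀ i ∈ Q', 0 < D / d i := fun i hi =>
    Nat.div_pos (Nat.le_of_dvd hDpos (hdvd i hi)) (hxd i hi).2.2.2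
  have hzhom : (∑ i ∈ Q', x i ^ (D / d i)) ∈ 𝒜 D := by
    refine Submodule.sum_mem _ (fun i hi => ?_)
    have := SetLike.pow_mem_graded (D / d i) (hxd i hi).1
    rwa [smul_eq_mul, Nat.div_mul_cancel (hdvd i hi)] at this
  refine ⟨∑ i ∈ Q', x i ^ (D / d i), D, hDpos, hzhom, ?_, ?_⟩
  · refine Ideal.sum_mem _ (fun i hi => ?_)
    exact Ideal.pow_mem_of_mem _ (hK_J i (hxd i hi).2.1) _ (hepos i hi)
  · intro p hp hzp
    have hzq : (∑ i ∈ Q', x i ^ (D / d i)) ∈ core p := hcore_mem p _ D hzhom hzp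
    obtain ⟨q', hq', hle⟩ := hcover (core p) (Finset.mem_image_of_mem core hp)
    have hzq' := hle hzq
    obtain ⟨hq'p, -, -, -⟩ := hQprop q' (hQ'sub q' hq')
    rw [← Finset.add_sum_erase Q' _ hq'] at hzq'
    have hrest : ∑ i ∈ Q'.erase q', x i ^ (D / d i) ∈ q' := by
      refine Ideal.sum_mem _ (fun i hi => ?_)
      have hiQ' := Finset.mem_of_mem_erase hi
      have hne : q' ≠ i := (Finset.ne_of_mem_erase hi).symm
      have : x i ∈ q' := hK_j i q' (Finset.mem_erase.mpr ⟨hne, hq'⟩) (hxd i hiQ').2.1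
      exact Ideal.pow_mem_of_mem _ this _ (hepos i hiQ')
    have hfirst : x q' ^ (D / d q') ∈ q' := (Ideal.add_mem_iff_left q' hrest).mp hzq'
    exact (hxd q' hq').2.2.1 (hq'p.mem_of_pow_mem _ hfirst)

end Groth.Agent.S15708
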