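import Groth.Statements.S1571
import Groth.Agent.Lib.AffStalk3_helper3
-- import your own Groth.Agent.* helpers here

set_option autoImplicit false
universe u
open CategoryTheory CategoryTheory.Limits AlgebraicGeometry
open Groth.Agent.Lib.AffStalk_helper3 TopologicalSpace
open Divisors

namespace Groth.Agent.S1571

/-- The open complement of an effective Cartier divisor is an affine open immersion and is
scheme-theoretically dense. -/
theorem result (S : Scheme.{u}) (D : S.IdealSheafData) (hD : BlowUp.IsEffCartierIdeal D) :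
    IsAffineHom (Scheme.Opens.ι (X := S) D.support.compl) ∧ IsSchemeTheoreticallyDominant (Scheme.Opens.ι (X := S) D.support.compl) := by
  have hAff : IsAffineHom (Scheme.Opens.ι (X := S) D.support.compl) := by
    apply isAffineHom_of_forall_exists_isAffineOpen
    intro x
    obtain ⟨U, hxU, f, _, hf⟩ := hD x
    refine ⟨U.1, hxU, U.2, ?_⟩
    rw [← (Scheme.Opens.ι (X := S) D.support.compl).isAffineOpen_iff_of_isOpenImmersion,
      Scheme.Hom.image_preimage_eq_opensRange_inf, Scheme.Opens.opensRange_ι,
      compl_support_inf_eq_basicOpen D U f hf]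
    exact U.2.basicOpen f
  refine ⟨hAff, ⟨?_⟩⟩
  choose U hxU f hfnzd hf using hD
  refine Scheme.IdealSheafData.ext_of_iSup_eq_top U ?_ ?_
  · exact top_le_iff.mp (fun x _ => Opens.mem_iSup.mpr ⟨x, hxU x⟩)
  · intro x
    rw [Scheme.Hom.ker_apply, Scheme.IdealSheafData.ideal_bot, Pi.bot_apply,
      ← RingHom.injective_iff_ker_eq_bot]
    rw [Scheme.Opens.ι_app]
    refine res_injective_of_eq_basicOpen (U x).2 (f x) (hfnzd x) _ ?_ _
    rw [Scheme.Hom.image_preimage_eq_opensRange_inf, Scheme.Opens.opensRange_ι,
      compl_support_inf_eq_basicOpen D (U x) (f x) (hf x)]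

end Groth.Agent.S1571
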