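import Groth.Statements.S15724
import Mathlib
-- import your own Groth.Agent.* helpers here

set_option autoImplicit false
universe u
open W4c2invhilbsl2


namespace Groth.Agent.S15724

/-- Grade the polynomial ring k[X₀,…,X₄] over a field k by ℤ × ℤ/m, giving X₀ weight (1,0), X₁ and X₂
weight (−p,−1), and X₃ and X₄ weight (q,1), where 0 < p < q are coprime integers and m ≥ 1, and let
P be the principal ideal generated by the weight-zero element X₀^(q−p) − X₁X₄ + X₂X₃ (the equation
of an affine hypersurface). Then every polynomial homogeneous of the weight of X₁ is congruent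
modulo P to some a·X₁ + b·X₂ with a and b homogeneous of weight zero, and every polynomial
homogeneous of the weight of X₃ is congruent modulo P to some a·X₃ + b·X₄ with a and b homogeneous
of weight zero. Equivalently, in the coordinate ring of the hypersurface the weight pieces of the
weights of X₁ and of X₃ are generated over the weight-zero subring (the ring of invariants of the
diagonal action of a one-dimensional torus times the group of m-th roots of unity with these
weights) by X₁, X₂ and by X₃, X₄ respectively. (For the weight of X₁ the congruence is already an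
equality in the polynomial ring; for the weight of X₃ the hypersurface equation is needed, e.g.
X₀^(q+p)X₁ has that weight when m divides 2.) -/
theorem result (k : Type u) [Field k] (p q m : ℕ) (hp : 0 < p) (hpq : p < q) (hcop : Nat.Coprime p q) (hm : 0 < m) (f : MvPolynomial (Fin 5) k) :
    (f ∈ MvPolynomial.weightedHomogeneousSubmodule k (W4c2invhilbsl2.wt5 p q m) (W4c2invhilbsl2.wt5 p q m 1) →
      ∃ a b : MvPolynomial (Fin 5) k, a ∈ MvPolynomial.weightedHomogeneousSubmodule k (W4c2invhilbsl2.wt5 p q m) 0 ∧ b ∈ MvPolynomial.weightedHomogeneousSubmodule k (W4c2invhilbsl2.wt5 p q m) 0 ∧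
        f - (a * MvPolynomial.X (1 : Fin 5) + b * MvPolynomial.X (2 : Fin 5)) ∈ Ideal.span {MvPolynomial.X (0 : Fin 5) ^ (q - p) - MvPolynomial.X 1 * MvPolynomial.X 4 + MvPolynomial.X 2 * MvPolynomial.X 3}) ∧
    (f ∈ MvPolynomial.weightedHomogeneousSubmodule k (W4c2invhilbsl2.wt5 p q m) (W4c2invhilbsl2.wt5 p q m 3) →
      ∃ a b : MvPolynomial (Fin 5) k, a ∈ MvPolynomial.weightedHomogeneousSubmodule k (W4c2invhilbsl2.wt5 p q m) 0 ∧ b ∈ MvPolynomial.weightedHomogeneousSubmodule k (W4c2invhilbsl2.wt5 p q m) 0 ∧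
        f - (a * MvPolynomial.X (3 : Fin 5) + b * MvPolynomial.X (4 : Fin 5)) ∈ Ideal.span {MvPolynomial.X (0 : Fin 5) ^ (q - p) - MvPolynomial.X 1 * MvPolynomial.X 4 + MvPolynomial.X 2 * MvPolynomial.X 3}) := by
  classical
  set w := W4c2invhilbsl2.wt5 p q m with hw
  have hw0 : w 0 = ((1 : ℤ), (0 : ZMod m)) := rfl
  have hw1 : w 1 = (-(p : ℤ), (-1 : ZMod m)) := rfl
  have hw2 : w 2 = (-(p : ℤ), (-1 : ZMod m)) := rfl
  have hw3 : w 3 = ((q : ℤ), (1 : ZMod m)) := rfl
  have hw4 : w 4 = ((q : ℤ), (1 : ZMod m)) := rfl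
  have hqp : ((q - p : ℕ) : ℤ) = (q : ℤ) - p := Nat.cast_sub hpq.le
  have hp' : (0 : ℤ) < p := by exact_mod_cast hp
  have hwt1 : ∀ d : Fin 5 →₀ ℕ,
      (Finsupp.weight w d).1 = (d 0 : ℤ) - p * (d 1 + d 2) + q * (d 3 + d 4) := by
    intro d
    rw [Finsupp.weight_eq_sum, Fin.sum_univ_five, hw0, hw1, hw2, hw3, hw4]
    simp only [Prod.smul_mk, Prod.fst_add, nsmul_eq_mul, mul_one, mul_neg]
    ring
  set X0 : MvPolynomial (Fin 5) k := MvPolynomial.X 0 with hX0
  set X1 : MvPolynomial (Fin 5) k := MvPolynomial.X 1 with hX1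
  set X2 : MvPolynomial (Fin 5) k := MvPolynomial.X 2 with hX2
  set X3 : MvPolynomial (Fin 5) k := MvPolynomial.X 3 with hX3
  set X4 : MvPolynomial (Fin 5) k := MvPolynomial.X 4 with hX4
  set G : MvPolynomial (Fin 5) k := X0 ^ (q - p) - X1 * X4 + X2 * X3 with hG
  set W0 := MvPolynomial.weightedHomogeneousSubmodule k w 0 with hW0
  set I : Ideal (MvPolynomial (Fin 5) k) := Ideal.span {G} with hI
  let e : Fin 5 → (Fin 5 →₀ ℕ) := fun i => Finsupp.single i 1
  set s0 : Fin 5 →₀ ℕ := Finsupp.single 0 (q - p) with hs0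
  have hWe : ∀ i, Finsupp.weight w (e i) = w i := fun i => by
    simp [e, Finsupp.weight_single]
  have hWs0 : Finsupp.weight w s0 = w 1 + w 3 := by
    rw [hs0, Finsupp.weight_single, hw0, hw1, hw3]
    simp only [Prod.smul_mk, nsmul_eq_mul, mul_one, smul_zero, Prod.mk_add_mk, Prod.mk.injEq]
    constructor
    · rw [hqp]; ring
    · ring
  have hXmono : ∀ i, (MvPolynomial.X i : MvPolynomial (Fin 5) k) = MvPolynomial.monomial (e i) 1 :=
    fun i => rfl
  have hX0pow : X0 ^ (q - p) = MvPolynomial.monomial s0 1 := MvPolynomial.X_pow_eq_monomial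
  have hsplit : ∀ (d s : Fin 5 →₀ ℕ) (c : k), s ≤ d →
      MvPolynomial.monomial (d - s) c * MvPolynomial.monomial s 1 = MvPolynomial.monomial d c := by
    intro d s c h
    rw [MvPolynomial.monomial_mul, mul_one, tsub_add_cancel_of_le h]
  have hwadd : ∀ d s : Fin 5 →₀ ℕ, s ≤ d →
      Finsupp.weight w (d - s) = Finsupp.weight w d - Finsupp.weight w s := by
    intro d s h
    rw [eq_sub_iff_add_eq, ← map_add, tsub_add_cancel_of_le h]
  have hele : ∀ (d : Fin 5 →₀ ℕ) (i : Fin 5), 1 ≤ d i → e i ≤ d := fun d i h =>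
    Finsupp.single_le_iff.mpr h
  have Psum : ∀ (g1 g2 f : MvPolynomial (Fin 5) k),
      (∀ d ∈ f.support, ∃ a b, a ∈ W0 ∧ b ∈ W0 ∧
        MvPolynomial.monomial d (MvPolynomial.coeff d f) - (a * g1 + b * g2) ∈ I) →
      ∃ a b, a ∈ W0 ∧ b ∈ W0 ∧ f - (a * g1 + b * g2) ∈ I := by
    intro g1 g2 f hbase
    have := Finset.sum_induction (s := f.support)
      (fun d => MvPolynomial.monomial d (MvPolynomial.coeff d f))
      (fun h => ∃ a b, a ∈ W0 ∧ b ∈ W0 ∧ h - (a * g1 + b * g2) ∈ I) ?_ ?_ hbase
    · rwa [MvPolynomial.support_sum_monomial_coeff] at this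
    · rintro h1 h2 ⟨a, b, ha, hb, hab⟩ ⟨a', b', ha', hb', hab'⟩
      refine ⟨a + a', b + b', W0.add_mem ha ha', W0.add_mem hb hb', ?_⟩
      have := I.add_mem hab hab'
      convert this using 1; ring
    · exact ⟨0, 0, W0.zero_mem, W0.zero_mem, by simp⟩
  constructor
  · intro hf
    apply Psum X1 X2 f
    intro d hd
    have hWd : Finsupp.weight w d = w 1 := hf (MvPolynomial.mem_support_iff.mp hd)
    have h1 := hwt1 d
    rw [hWd, hw1] at h1
    simp only at h1
    have hpos : 1 ≤ d 1 ∨ 1 ≤ d 2 := by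
      by_contra hcon
      push Not at hcon
      have h1' : d 1 = 0 := by omega
      have h2' : d 2 = 0 := by omega
      rw [h1', h2'] at h1
      simp only [Nat.cast_zero, add_zero, mul_zero, sub_zero] at h1
      have h3 : (0:ℤ) ≤ q * (d 3 + d 4) := by positivity
      have h4 : (0:ℤ) ≤ d 0 := by positivity
      linarith
    rcases hpos with h | h
    · refine ⟨MvPolynomial.monomial (d - e 1) (MvPolynomial.coeff d f), 0, ?_, W0.zero_mem, ?_⟩
      · apply MvPolynomial.isWeightedHomogeneous_monomial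
        rw [hwadd d (e 1) (hele d 1 h), hWd, hWe, sub_self]
      · rw [hX1, hXmono 1, hsplit d (e 1) _ (hele d 1 h)]; simp
    · refine ⟨0, MvPolynomial.monomial (d - e 2) (MvPolynomial.coeff d f), W0.zero_mem, ?_, ?_⟩
      · apply MvPolynomial.isWeightedHomogeneous_monomial
        rw [hwadd d (e 2) (hele d 2 h), hWd, hWe, hw1, hw2, sub_self]
      · rw [hX2, hXmono 2, hsplit d (e 2) _ (hele d 2 h)]; simp
  · intro hf
    apply Psum X3 X4 f
    intro d hd
    have hWd : Finsupp.weight w d = w 3 := hf (MvPolynomial.mem_support_iff.mp hd)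
    have h1 := hwt1 d
    rw [hWd, hw3] at h1
    simp only at h1
    by_cases h3 : 1 ≤ d 3
    · refine ⟨MvPolynomial.monomial (d - e 3) (MvPolynomial.coeff d f), 0, ?_, W0.zero_mem, ?_⟩
      · apply MvPolynomial.isWeightedHomogeneous_monomial
        rw [hwadd d (e 3) (hele d 3 h3), hWd, hWe, sub_self]
      · rw [hX3, hXmono 3, hsplit d (e 3) _ (hele d 3 h3)]; simp
    · by_cases h4 : 1 ≤ d 4
      · refine ⟨0, MvPolynomial.monomial (d - e 4) (MvPolynomial.coeff d f), W0.zero_mem, ?_, ?_⟩
        · apply MvPolynomial.isWeightedHomogeneous_monomial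
          rw [hwadd d (e 4) (hele d 4 h4), hWd, hWe, hw3, hw4, sub_self]
        · rw [hX4, hXmono 4, hsplit d (e 4) _ (hele d 4 h4)]; simp
      · have h3' : d 3 = 0 := by omega
        have h4' : d 4 = 0 := by omega
        rw [h3', h4'] at h1
        simp only [Nat.cast_zero, add_zero, mul_zero] at h1
        have hs0d : s0 ≤ d := by
          rw [hs0, Finsupp.single_le_iff]
          have h5 : (0:ℤ) ≤ p * (d 1 + d 2) := by positivity
          have h6 : ((q - p : ℕ) : ℤ) ≤ d 0 := by rw [hqp]; linarith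
          exact_mod_cast h6
        set c := MvPolynomial.coeff d f with hc
        set M' : MvPolynomial (Fin 5) k := MvPolynomial.monomial (d - s0) c with hM'
        have hM'w : MvPolynomial.IsWeightedHomogeneous w M' (Finsupp.weight w (d - s0)) :=
          MvPolynomial.isWeightedHomogeneous_monomial w _ _ rfl
        have hWM : Finsupp.weight w (d - s0) = -w 1 := by
          rw [hwadd d s0 hs0d, hWd, hWs0]; abel
        have ha : X2 * M' ∈ W0 := by
          have := (MvPolynomial.isWeightedHomogeneous_X (R := k) w 2).mul hM'w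
          rw [hWM, hw2, ← hw1, add_neg_cancel] at this
          exact this
        have hb : X1 * M' ∈ W0 := by
          have := (MvPolynomial.isWeightedHomogeneous_X (R := k) w 1).mul hM'w
          rw [hWM, add_neg_cancel] at this
          exact this
        refine ⟨-(X2 * M'), X1 * M', W0.neg_mem ha, hb, ?_⟩
        have hmon : MvPolynomial.monomial d c = M' * X0 ^ (q - p) := by
          rw [hX0pow, hM', hsplit d s0 c hs0d]
        have heq : MvPolynomial.monomial d c - (-(X2 * M') * X3 + X1 * M' * X4) = M' * G := by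
          rw [hmon, hG]; ring
        rw [heq]
        exact Ideal.mul_mem_left _ _ (Ideal.subset_span rfl)

end Groth.Agent.S15724
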