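import Groth.Statements.S15725
import Mathlib
-- import your own Groth.Agent.* helpers here

set_option autoImplicit false
universe u
open W4c2invhilbsl2


namespace Groth.Agent.S15725

/-- Grade the polynomial ring k[X₀,X₁,X₂] over a field k by ℤ × ℤ/m, giving X₀ weight (1,0), X₁ weight
(−p,−1) and X₂ weight (q,1), where 0 < p < q are coprime integers and m ≥ 1 (this three-variable
ring stands for the subring k[X₀,X₁,Xⱼ], j = 3 or 4, of the five-variable ring with the same
weights). Then every polynomial homogeneous of weight (q−p, 0) can be written a·X₀^(q−p) + b·X₁X₂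
with a and b homogeneous of weight zero; in other words the weight-(q−p, 0) piece is generated by
X₀^(q−p) and X₁X₂ as a module over the weight-zero subring. -/
theorem result (k : Type u) [Field k] (p q m : ℕ) (hp : 0 < p) (hpq : p < q) (hcop : Nat.Coprime p q) (hm : 0 < m) (f : MvPolynomial (Fin 3) k)
    (hf : f ∈ MvPolynomial.weightedHomogeneousSubmodule k (W4c2invhilbsl2.wt3 p q m) ((q : ℤ) - (p : ℤ), (0 : ZMod m))) :
    ∃ a b : MvPolynomial (Fin 3) k, a ∈ MvPolynomial.weightedHomogeneousSubmodule k (W4c2invhilbsl2.wt3 p q m) 0 ∧ b ∈ MvPolynomial.weightedHomogeneousSubmodule k (W4c2invhilbsl2.wt3 p q m) 0 ∧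
      f = a * MvPolynomial.X (0 : Fin 3) ^ (q - p) + b * (MvPolynomial.X (1 : Fin 3) * MvPolynomial.X (2 : Fin 3)) := by
  classical
  set w := W4c2invhilbsl2.wt3 p q m with hw
  have hw0 : w 0 = ((1 : ℤ), (0 : ZMod m)) := rfl
  have hw1 : w 1 = (-(p : ℤ), (-1 : ZMod m)) := rfl
  have hw2 : w 2 = ((q : ℤ), (1 : ZMod m)) := rfl
  have hwt1 : ∀ d : Fin 3 →₀ ℕ, (Finsupp.weight w d).1 = (d 0 : ℤ) - p * d 1 + q * d 2 := by
    intro d
    rw [Finsupp.weight_eq_sum, Fin.sum_univ_three, hw0, hw1, hw2]
    simp only [Prod.smul_mk, Prod.fst_add, smul_eq_mul, nsmul_eq_mul, mul_one, mul_neg]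
    ring
  have hqp : ((q - p : ℕ) : ℤ) = (q : ℤ) - p := Nat.cast_sub hpq.le
  set s0 : Fin 3 →₀ ℕ := Finsupp.single 0 (q - p) with hs0
  set s12 : Fin 3 →₀ ℕ := Finsupp.single 1 1 + Finsupp.single 2 1 with hs12
  have hws0 : Finsupp.weight w s0 = ((q : ℤ) - p, (0 : ZMod m)) := by
    rw [hs0, Finsupp.weight_single, hw0]
    simp [hqp]
  have hws12 : Finsupp.weight w s12 = ((q : ℤ) - p, (0 : ZMod m)) := by
    rw [hs12, map_add, Finsupp.weight_single, Finsupp.weight_single, hw1, hw2]
    simp only [one_smul, Prod.mk_add_mk, Prod.mk.injEq]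
    constructor <;> ring
  have hf' : ∀ d ∈ f.support, Finsupp.weight w d = ((q : ℤ) - p, (0 : ZMod m)) := by
    intro d hd
    exact hf (MvPolynomial.mem_support_iff.mp hd)
  have key : ∀ d ∈ f.support, ¬ (q - p ≤ d 0) → s12 ≤ d := by
    intro d hd hlt
    have h1 := hwt1 d
    rw [hf' d hd] at h1
    simp only at h1
    have hp' : (0 : ℤ) < p := by exact_mod_cast hp
    have hd2 : 1 ≤ d 2 := by
      by_contra hcon
      have h0 : d 2 = 0 := by omega
      rw [h0] at h1
      push_cast at h1
      have h3 : (0:ℤ) ≤ p * d 1 := by positivity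
      have h4 : ((q - p : ℕ) : ℤ) ≤ d 0 := by rw [hqp]; linarith
      exact hlt (by exact_mod_cast h4)
    have hd1 : 1 ≤ d 1 := by
      by_contra hcon
      have h0 : d 1 = 0 := by omega
      rw [h0] at h1
      push_cast at h1
      have hq2 : (q : ℤ) ≤ q * d 2 := by
        have h5 : (1 : ℤ) ≤ d 2 := by exact_mod_cast hd2
        have h6 : (0:ℤ) ≤ q := by positivity
        nlinarith
      have h7 : (0 : ℤ) ≤ d 0 := by positivity
      linarith
    rw [Finsupp.le_def]
    intro i
    fin_cases i <;> simp [hs12] <;> omega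
  have key0 : ∀ d : Fin 3 →₀ ℕ, q - p ≤ d 0 → s0 ≤ d := by
    intro d hd
    rw [Finsupp.le_def]
    intro i
    fin_cases i <;> simp [hs0] <;> omega
  have hX0 : (MvPolynomial.X (0 : Fin 3) : MvPolynomial (Fin 3) k) ^ (q - p) =
      MvPolynomial.monomial s0 1 := MvPolynomial.X_pow_eq_monomial
  have hX12 : (MvPolynomial.X (1 : Fin 3) * MvPolynomial.X (2 : Fin 3) : MvPolynomial (Fin 3) k) =
      MvPolynomial.monomial s12 1 := by
    rw [hs12, MvPolynomial.X, MvPolynomial.X, MvPolynomial.monomial_mul, one_mul]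
  have hzero : ∀ (d s : Fin 3 →₀ ℕ), s ≤ d →
      Finsupp.weight w d = ((q : ℤ) - p, (0 : ZMod m)) →
      Finsupp.weight w s = ((q : ℤ) - p, (0 : ZMod m)) → Finsupp.weight w (d - s) = 0 := by
    intro d s hsd hd hs
    have h1 : Finsupp.weight w (d - s) + Finsupp.weight w s = Finsupp.weight w d := by
      rw [← map_add, tsub_add_cancel_of_le hsd]
    rw [hd, hs] at h1
    exact add_eq_right.mp h1
  refine ⟨∑ d ∈ f.support.filter (fun d => q - p ≤ d 0),
      MvPolynomial.monomial (d - s0) (MvPolynomial.coeff d f),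
    ∑ d ∈ f.support.filter (fun d => ¬ q - p ≤ d 0),
      MvPolynomial.monomial (d - s12) (MvPolynomial.coeff d f), ?_, ?_, ?_⟩
  · refine Submodule.sum_mem _ (fun d hd => ?_)
    rw [Finset.mem_filter] at hd
    exact MvPolynomial.isWeightedHomogeneous_monomial w _ _
      (hzero d s0 (key0 d hd.2) (hf' d hd.1) hws0)
  · refine Submodule.sum_mem _ (fun d hd => ?_)
    rw [Finset.mem_filter] at hd
    exact MvPolynomial.isWeightedHomogeneous_monomial w _ _
      (hzero d s12 (key d hd.1 hd.2) (hf' d hd.1) hws12)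
  · rw [hX0, hX12, Finset.sum_mul, Finset.sum_mul]
    have e1 : ∀ d ∈ f.support.filter (fun d => q - p ≤ d 0),
        MvPolynomial.monomial (d - s0) (MvPolynomial.coeff d f) * MvPolynomial.monomial s0 1 =
        MvPolynomial.monomial d (MvPolynomial.coeff d f) := by
      intro d hd
      rw [Finset.mem_filter] at hd
      rw [MvPolynomial.monomial_mul, mul_one, tsub_add_cancel_of_le (key0 d hd.2)]
    have e2 : ∀ d ∈ f.support.filter (fun d => ¬ q - p ≤ d 0),
        MvPolynomial.monomial (d - s12) (MvPolynomial.coeff d f) * MvPolynomial.monomial s12 1 =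
        MvPolynomial.monomial d (MvPolynomial.coeff d f) := by
      intro d hd
      rw [Finset.mem_filter] at hd
      rw [MvPolynomial.monomial_mul, mul_one, tsub_add_cancel_of_le (key d hd.1 hd.2)]
    rw [Finset.sum_congr rfl e1, Finset.sum_congr rfl e2, Finset.sum_filter_add_sum_filter_not,
      MvPolynomial.support_sum_monomial_coeff]

end Groth.Agent.S15725
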