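import Groth.Statements.S15726
import Mathlib
-- import your own Groth.Agent.* helpers here

set_option autoImplicit false
universe u
open W4c2invhilbsl2


namespace Groth.Agent.S15726

/-- Grade the polynomial ring k[X₀,…,X₄] over a field k by ℤ × ℤ/m, giving X₀ weight (1,0), X₁ and X₂
weight (−p,−1), and X₃ and X₄ weight (q,1), where 0 < p < q are coprime integers and m ≥ 1. Then
modulo the principal ideal generated by the weight-zero element X₀^(q−p) − X₁X₄ + X₂X₃ (the equation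
of an affine hypersurface), every polynomial homogeneous of weight (q−p, 0) is congruent to a
combination a₁₃X₁X₃ + a₁₄X₁X₄ + a₂₃X₂X₃ + a₂₄X₂X₄ whose four coefficients are homogeneous of weight
zero. Equivalently, in the coordinate ring of the hypersurface the weight-(q−p, 0) piece is
generated over the weight-zero subring (the invariant ring of the diagonal action with these
weights) by the span of the four products XₐX_b with a ∈ {1,2} and b ∈ {3,4}. (The published
statement is over the complex numbers; this row takes any field.) -/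
theorem result (k : Type u) [Field k] (p q m : ℕ) (hp : 0 < p) (hpq : p < q) (hcop : Nat.Coprime p q) (hm : 0 < m) (f : MvPolynomial (Fin 5) k)
    (hf : f ∈ MvPolynomial.weightedHomogeneousSubmodule k (W4c2invhilbsl2.wt5 p q m) ((q : ℤ) - (p : ℤ), (0 : ZMod m))) :
    ∃ a₁₃ a₁₄ a₂₃ a₂₄ : MvPolynomial (Fin 5) k,
      a₁₃ ∈ MvPolynomial.weightedHomogeneousSubmodule k (W4c2invhilbsl2.wt5 p q m) 0 ∧ a₁₄ ∈ MvPolynomial.weightedHomogeneousSubmodule k (W4c2invhilbsl2.wt5 p q m) 0 ∧ a₂₃ ∈ MvPolynomial.weightedHomogeneousSubmodule k (W4c2invhilbsl2.wt5 p q m) 0 ∧ a₂₄ ∈ MvPolynomial.weightedHomogeneousSubmodule k (W4c2invhilbsl2.wt5 p q m) 0 ∧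
      f - (a₁₃ * (MvPolynomial.X (1 : Fin 5) * MvPolynomial.X 3) + a₁₄ * (MvPolynomial.X (1 : Fin 5) * MvPolynomial.X 4) +
          a₂₃ * (MvPolynomial.X (2 : Fin 5) * MvPolynomial.X 3) + a₂₄ * (MvPolynomial.X (2 : Fin 5) * MvPolynomial.X 4)) ∈
        Ideal.span {MvPolynomial.X (0 : Fin 5) ^ (q - p) - MvPolynomial.X 1 * MvPolynomial.X 4 + MvPolynomial.X 2 * MvPolynomial.X 3} := by
  classical
  set w := W4c2invhilbsl2.wt5 p q m with hw
  have hw0 : w 0 = ((1 : ℤ), (0 : ZMod m)) := rfl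
  have hw1 : w 1 = (-(p : ℤ), (-1 : ZMod m)) := rfl
  have hw2 : w 2 = (-(p : ℤ), (-1 : ZMod m)) := rfl
  have hw3 : w 3 = ((q : ℤ), (1 : ZMod m)) := rfl
  have hw4 : w 4 = ((q : ℤ), (1 : ZMod m)) := rfl
  have hqp : ((q - p : ℕ) : ℤ) = (q : ℤ) - p := Nat.cast_sub hpq.le
  have hp' : (0 : ℤ) < p := by exact_mod_cast hp
  have hwt1 : ∀ d : Fin 5 →₀ ℕ,
      (Finsupp.weight w d).1 = (d 0 : ℤ) - p * (d 1 + d 2) + q * (d 3 + d 4) := by
    intro d
    rw [Finsupp.weight_eq_sum, Fin.sum_univ_five, hw0, hw1, hw2, hw3, hw4]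
    simp only [Prod.smul_mk, Prod.fst_add, nsmul_eq_mul, mul_one, mul_neg]
    ring
  set X0 : MvPolynomial (Fin 5) k := MvPolynomial.X 0 with hX0
  set X1 : MvPolynomial (Fin 5) k := MvPolynomial.X 1 with hX1
  set X2 : MvPolynomial (Fin 5) k := MvPolynomial.X 2 with hX2
  set X3 : MvPolynomial (Fin 5) k := MvPolynomial.X 3 with hX3
  set X4 : MvPolynomial (Fin 5) k := MvPolynomial.X 4 with hX4
  set G : MvPolynomial (Fin 5) k := X0 ^ (q - p) - X1 * X4 + X2 * X3 with hG
  set W0 := MvPolynomial.weightedHomogeneousSubmodule k w 0 with hW0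
  set I : Ideal (MvPolynomial (Fin 5) k) := Ideal.span {G} with hI
  let e : Fin 5 → (Fin 5 →₀ ℕ) := fun i => Finsupp.single i 1
  set s0 : Fin 5 →₀ ℕ := Finsupp.single 0 (q - p) with hs0
  have hWe : ∀ i, Finsupp.weight w (e i) = w i := fun i => by
    simp [e, Finsupp.weight_single]
  have hWs0 : Finsupp.weight w s0 = w 1 + w 3 := by
    rw [hs0, Finsupp.weight_single, hw0, hw1, hw3]
    simp only [Prod.smul_mk, nsmul_eq_mul, mul_one, smul_zero, Prod.mk_add_mk, Prod.mk.injEq]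
    constructor
    · rw [hqp]; ring
    · ring
  have hXmono : ∀ i, (MvPolynomial.X i : MvPolynomial (Fin 5) k) = MvPolynomial.monomial (e i) 1 :=
    fun i => rfl
  have hX0pow : X0 ^ (q - p) = MvPolynomial.monomial s0 1 := MvPolynomial.X_pow_eq_monomial
  have hsplit : ∀ (d s : Fin 5 →₀ ℕ) (c : k), s ≤ d →
      MvPolynomial.monomial (d - s) c * MvPolynomial.monomial s 1 = MvPolynomial.monomial d c := by
    intro d s c h
    rw [MvPolynomial.monomial_mul, mul_one, tsub_add_cancel_of_le h]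
  have hwadd : ∀ d s : Fin 5 →₀ ℕ, s ≤ d →
      Finsupp.weight w (d - s) = Finsupp.weight w d - Finsupp.weight w s := by
    intro d s h
    rw [eq_sub_iff_add_eq, ← map_add, tsub_add_cancel_of_le h]
  have hele : ∀ (d : Fin 5 →₀ ℕ) (i : Fin 5), 1 ≤ d i → e i ≤ d := fun d i h =>
    Finsupp.single_le_iff.mpr h
  have hWd0 : w 1 + w 3 = (((q : ℤ) - p), (0 : ZMod m)) := by
    rw [hw1, hw3]
    simp only [Prod.mk_add_mk, Prod.mk.injEq]
    constructor <;> ring
  have Psum : ∀ (g1 g2 g3 g4 f : MvPolynomial (Fin 5) k),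
      (∀ d ∈ f.support, ∃ a b a' b', a ∈ W0 ∧ b ∈ W0 ∧ a' ∈ W0 ∧ b' ∈ W0 ∧
        MvPolynomial.monomial d (MvPolynomial.coeff d f) -
          (a * g1 + b * g2 + a' * g3 + b' * g4) ∈ I) →
      ∃ a b a' b', a ∈ W0 ∧ b ∈ W0 ∧ a' ∈ W0 ∧ b' ∈ W0 ∧
        f - (a * g1 + b * g2 + a' * g3 + b' * g4) ∈ I := by
    intro g1 g2 g3 g4 f hbase
    have := Finset.sum_induction (s := f.support)
      (fun d => MvPolynomial.monomial d (MvPolynomial.coeff d f))
      (fun h => ∃ a b a' b', a ∈ W0 ∧ b ∈ W0 ∧ a' ∈ W0 ∧ b' ∈ W0 ∧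
        h - (a * g1 + b * g2 + a' * g3 + b' * g4) ∈ I) ?_ ?_ hbase
    · rwa [MvPolynomial.support_sum_monomial_coeff] at this
    · rintro h1 h2 ⟨a, b, a', b', ha, hb, ha', hb', hab⟩ ⟨a2, b2, a2', b2', ha2, hb2, ha2', hb2', hab2⟩
      refine ⟨a + a2, b + b2, a' + a2', b' + b2', W0.add_mem ha ha2, W0.add_mem hb hb2,
        W0.add_mem ha' ha2', W0.add_mem hb' hb2', ?_⟩
      have := I.add_mem hab hab2
      convert this using 1; ring
    · exact ⟨0, 0, 0, 0, W0.zero_mem, W0.zero_mem, W0.zero_mem, W0.zero_mem, by simp⟩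
  apply Psum (X1 * X3) (X1 * X4) (X2 * X3) (X2 * X4) f
  intro d hd
  have hWd : Finsupp.weight w d = w 1 + w 3 := by
    rw [hWd0]; exact hf (MvPolynomial.mem_support_iff.mp hd)
  have h1 := hwt1 d
  rw [hWd, hWd0] at h1
  simp only at h1
  set c := MvPolynomial.coeff d f with hc
  have hXX : ∀ i j : Fin 5, (MvPolynomial.X i * MvPolynomial.X j : MvPolynomial (Fin 5) k) =
      MvPolynomial.monomial (e i + e j) 1 := by
    intro i j
    rw [hXmono i, hXmono j, MvPolynomial.monomial_mul, one_mul]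
  have hWij : ∀ i j : Fin 5, w i = w 1 → w j = w 3 → ∀ hle : e i + e j ≤ d,
      MvPolynomial.monomial (d - (e i + e j)) c ∈ W0 := by
    intro i j hi hj hle
    apply MvPolynomial.isWeightedHomogeneous_monomial
    rw [hwadd d _ hle, hWd, map_add, hWe, hWe, hi, hj, sub_self]
  have hle2 : ∀ i j : Fin 5, i ≠ j → 1 ≤ d i → 1 ≤ d j → e i + e j ≤ d := by
    intro i j hij hi hj
    rw [Finsupp.le_def]
    intro l
    simp only [e, Finsupp.add_apply, Finsupp.single_apply]
    by_cases h1 : i = l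
    · have h2 : j ≠ l := fun h => hij (h1.trans h.symm)
      subst h1; simp [h2]; exact hi
    · by_cases h2 : j = l
      · subst h2; simp [h1]; exact hj
      · simp [h1, h2]
  by_cases h0 : q - p ≤ d 0
  · have hs0d : s0 ≤ d := by rw [hs0, Finsupp.single_le_iff]; exact h0
    set M' : MvPolynomial (Fin 5) k := MvPolynomial.monomial (d - s0) c with hM'
    have hM'0 : M' ∈ W0 := by
      apply MvPolynomial.isWeightedHomogeneous_monomial
      rw [hwadd d s0 hs0d, hWd, hWs0, sub_self]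
    refine ⟨0, M', -M', 0, W0.zero_mem, hM'0, W0.neg_mem hM'0, W0.zero_mem, ?_⟩
    have hmon : MvPolynomial.monomial d c = M' * X0 ^ (q - p) := by
      rw [hX0pow, hM', hsplit d s0 c hs0d]
    have heq : MvPolynomial.monomial d c -
        (0 * (X1 * X3) + M' * (X1 * X4) + -M' * (X2 * X3) + 0 * (X2 * X4)) = M' * G := by
      rw [hmon, hG]; ring
    rw [heq]
    exact Ideal.mul_mem_left _ _ (Ideal.subset_span rfl)
  · have h0' : (d 0 : ℤ) < (q : ℤ) - p := by
      rw [← hqp]; exact_mod_cast (not_le.mp h0)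
    have h34 : 1 ≤ d 3 ∨ 1 ≤ d 4 := by
      by_contra hcon
      push Not at hcon
      have h3' : d 3 = 0 := by omega
      have h4' : d 4 = 0 := by omega
      rw [h3', h4'] at h1
      simp only [Nat.cast_zero, add_zero, mul_zero] at h1
      have h5 : (0:ℤ) ≤ p * (d 1 + d 2) := by positivity
      linarith
    have h12 : 1 ≤ d 1 ∨ 1 ≤ d 2 := by
      by_contra hcon
      push Not at hcon
      have h1' : d 1 = 0 := by omega
      have h2' : d 2 = 0 := by omega
      rw [h1', h2'] at h1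
      simp only [Nat.cast_zero, add_zero, mul_zero, sub_zero] at h1
      have h6 : (1 : ℤ) ≤ (d 3 : ℤ) + d 4 := by
        rcases h34 with h | h
        · have : (1:ℤ) ≤ d 3 := by exact_mod_cast h
          have : (0:ℤ) ≤ d 4 := by positivity
          linarith
        · have : (1:ℤ) ≤ d 4 := by exact_mod_cast h
          have : (0:ℤ) ≤ d 3 := by positivity
          linarith
      have h7 : (0:ℤ) ≤ q := by positivity
      have h8 : (q : ℤ) ≤ q * ((d 3 : ℤ) + d 4) := by nlinarith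
      have h9 : (0:ℤ) ≤ d 0 := by positivity
      linarith
    have fin : ∀ i j : Fin 5, i ≠ j → 1 ≤ d i → 1 ≤ d j →
        MvPolynomial.monomial d c = MvPolynomial.monomial (d - (e i + e j)) c *
          (MvPolynomial.X i * MvPolynomial.X j) := by
      intro i j hij hi hj
      rw [hXX, hsplit d _ c (hle2 i j hij hi hj)]
    rcases h12 with ha | ha <;> rcases h34 with hb | hb
    · refine ⟨MvPolynomial.monomial (d - (e 1 + e 3)) c, 0, 0, 0,
        hWij 1 3 rfl rfl (hle2 1 3 (by decide) ha hb), W0.zero_mem, W0.zero_mem, W0.zero_mem, ?_⟩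
      rw [fin 1 3 (by decide) ha hb]; simp [hX1, hX3]
    · refine ⟨0, MvPolynomial.monomial (d - (e 1 + e 4)) c, 0, 0, W0.zero_mem,
        hWij 1 4 rfl rfl (hle2 1 4 (by decide) ha hb), W0.zero_mem, W0.zero_mem, ?_⟩
      rw [fin 1 4 (by decide) ha hb]; simp [hX1, hX4]
    · refine ⟨0, 0, MvPolynomial.monomial (d - (e 2 + e 3)) c, 0, W0.zero_mem, W0.zero_mem,
        hWij 2 3 rfl rfl (hle2 2 3 (by decide) ha hb), W0.zero_mem, ?_⟩
      rw [fin 2 3 (by decide) ha hb]; simp [hX2, hX3]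
    · refine ⟨0, 0, 0, MvPolynomial.monomial (d - (e 2 + e 4)) c, W0.zero_mem, W0.zero_mem,
        W0.zero_mem, hWij 2 4 rfl rfl (hle2 2 4 (by decide) ha hb), ?_⟩
      rw [fin 2 4 (by decide) ha hb]; simp [hX2, hX4]

end Groth.Agent.S15726
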