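import Groth.Statements.S15727
import Mathlib
-- import your own Groth.Agent.* helpers here

set_option autoImplicit false
universe u
open W4c2invhilbsl2


namespace Groth.Agent.S15727

/-- Let k be an algebraically closed field, 0 < p < q coprime integers and m ≥ 1, and grade k[X₀,…,X₄]
by ℤ × ℤ/m, giving X₀ weight (1,0), X₁ and X₂ weight (−p,−1), and X₃ and X₄ weight (q,1). For s ∈ k
let I_s be the ideal (X₀^(q−p) − X₁X₄, X₂, X₃, s − X₀^(mp)X₁^m), whose generators are homogeneous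
(the last one of weight zero). Then for every weight ν the image in k[X₀,…,X₄]/I_s of the
homogeneous polynomials of weight ν is a k-vector space of dimension at most 1. (The published
statement asserts that this dimension equals 1 for every ν and every s, namely that the quotient has
the Hilbert function of the regular representation of the grading group; this row states the upper
bound, the half obtained from the monomial analysis of the weight pieces, while the lower bound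
there is drawn from the moduli interpretation of these ideals. The published statement is over the
complex numbers; this row takes any algebraically closed field, which is what the reduction to s =
0, 1 by rescaling the variables uses.) -/
theorem result (k : Type u) [Field k] [IsAlgClosed k] (p q m : ℕ) (hp : 0 < p) (hpq : p < q) (hcop : Nat.Coprime p q) (hm : 0 < m) (s : k) (ν : ℤ × ZMod m) :
    Module.rank k (W4c2invhilbsl2.piece k (W4c2invhilbsl2.wt5 p q m) (W4c2invhilbsl2.idealI k p q m s) ν) ≤ 1 := by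
  classical
  set w := W4c2invhilbsl2.wt5 p q m with hw
  have hw0 : w 0 = ((1 : ℤ), (0 : ZMod m)) := rfl
  have hw1 : w 1 = (-(p : ℤ), (-1 : ZMod m)) := rfl
  have hw2 : w 2 = (-(p : ℤ), (-1 : ZMod m)) := rfl
  have hw3 : w 3 = ((q : ℤ), (1 : ZMod m)) := rfl
  have hw4 : w 4 = ((q : ℤ), (1 : ZMod m)) := rfl
  have hqp : ((q - p : ℕ) : ℤ) = (q : ℤ) - p := Nat.cast_sub hpq.le
  have hwt1 : ∀ d : Fin 5 →₀ ℕ,
      (Finsupp.weight w d).1 = (d 0 : ℤ) - p * (d 1 + d 2) + q * (d 3 + d 4) := by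
    intro d
    rw [Finsupp.weight_eq_sum, Fin.sum_univ_five, hw0, hw1, hw2, hw3, hw4]
    simp only [Prod.smul_mk, Prod.fst_add, nsmul_eq_mul, mul_one, mul_neg]
    ring
  have hwt2 : ∀ d : Fin 5 →₀ ℕ,
      (Finsupp.weight w d).2 = -((d 1 : ZMod m) + d 2) + ((d 3 : ZMod m) + d 4) := by
    intro d
    rw [Finsupp.weight_eq_sum, Fin.sum_univ_five, hw0, hw1, hw2, hw3, hw4]
    simp only [Prod.smul_mk, Prod.snd_add, nsmul_eq_mul, mul_one, mul_neg, smul_zero]
    ring
  set X0 : MvPolynomial (Fin 5) k := MvPolynomial.X 0 with hX0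
  set X1 : MvPolynomial (Fin 5) k := MvPolynomial.X 1 with hX1
  set X2 : MvPolynomial (Fin 5) k := MvPolynomial.X 2 with hX2
  set X3 : MvPolynomial (Fin 5) k := MvPolynomial.X 3 with hX3
  set X4 : MvPolynomial (Fin 5) k := MvPolynomial.X 4 with hX4
  set F : MvPolynomial (Fin 5) k := X0 ^ (q - p) - X1 * X4 with hF
  set H : MvPolynomial (Fin 5) k := X0 ^ (m * p) * X1 ^ m with hH
  set I : Ideal (MvPolynomial (Fin 5) k) := W4c2invhilbsl2.idealI k p q m s with hI
  have hFI : F ∈ I := Ideal.subset_span (Or.inl rfl)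
  have hX2I : X2 ∈ I := Ideal.subset_span (Or.inr (Or.inl rfl))
  have hX3I : X3 ∈ I := Ideal.subset_span (Or.inr (Or.inr (Or.inl rfl)))
  have hsHI : MvPolynomial.C s - H ∈ I := Ideal.subset_span (Or.inr (Or.inr (Or.inr rfl)))
  have L1 : ∀ a0 a1 a2 t : ℕ, X0 ^ a0 * X1 ^ (a1 + t) * X4 ^ (a2 + t) -
      X0 ^ (a0 + (q - p) * t) * X1 ^ a1 * X4 ^ a2 ∈ Ideal.span {F} := by
    intro a0 a1 a2 t
    rw [Ideal.mem_span_singleton]
    have h1 : F ∣ (X0 ^ (q - p)) ^ t - (X1 * X4) ^ t := sub_dvd_pow_sub_pow _ _ t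
    have h2 : X0 ^ a0 * X1 ^ (a1 + t) * X4 ^ (a2 + t) -
        X0 ^ (a0 + (q - p) * t) * X1 ^ a1 * X4 ^ a2 =
        -(X0 ^ a0 * X1 ^ a1 * X4 ^ a2) * ((X0 ^ (q - p)) ^ t - (X1 * X4) ^ t) := by
      rw [pow_add, pow_add, pow_add, pow_mul, mul_pow]; ring
    rw [h2]
    exact h1.mul_left _
  have LA : ∀ d0 d1 d2 e0 e1 e2 : ℕ,
      (e0 : ℤ) - (p : ℤ) * e1 + (q : ℤ) * e2 = (d0 : ℤ) - (p : ℤ) * d1 + (q : ℤ) * d2 →
      (d1 : ℤ) - d2 = (e1 : ℤ) - e2 →
      X0 ^ d0 * X1 ^ d1 * X4 ^ d2 - X0 ^ e0 * X1 ^ e1 * X4 ^ e2 ∈ Ideal.span {F} := by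
    intro d0 d1 d2 e0 e1 e2 hn hc
    rcases le_total e1 d1 with h | h
    · obtain ⟨t, rfl⟩ := Nat.exists_eq_add_of_le h
      have hd2 : d2 = e2 + t := by push_cast at hc; omega
      subst hd2
      have he0 : e0 = d0 + (q - p) * t := by
        have : ((e0 : ℕ) : ℤ) = ((d0 + (q - p) * t : ℕ) : ℤ) := by
          push_cast [hqp] at hn ⊢
          linear_combination hn
        exact_mod_cast this
      subst he0
      exact L1 d0 e1 e2 t
    · obtain ⟨t, rfl⟩ := Nat.exists_eq_add_of_le h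
      have he2 : e2 = d2 + t := by push_cast at hc; omega
      subst he2
      have hd0 : d0 = e0 + (q - p) * t := by
        have : ((d0 : ℕ) : ℤ) = ((e0 + (q - p) * t : ℕ) : ℤ) := by
          push_cast [hqp] at hn ⊢
          linear_combination -hn
        exact_mod_cast this
      subst hd0
      have := L1 e0 d1 d2 t
      rw [← neg_sub]
      exact (Ideal.neg_mem_iff _).mpr this
  have shift : ∀ (a0 a1 a2 b0 b1 b2 L : ℕ),
      (b0 : ℤ) - (p : ℤ) * b1 + (q : ℤ) * b2 = (a0 : ℤ) - (p : ℤ) * a1 + (q : ℤ) * a2 →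
      ((a1 : ℤ) - a2) - ((b1 : ℤ) - b2) = (m : ℤ) * L →
      X0 ^ a0 * X1 ^ a1 * X4 ^ a2 - X0 ^ b0 * X1 ^ b1 * X4 ^ b2 * H ^ L ∈ Ideal.span {F} := by
    intro a0 a1 a2 b0 b1 b2 L hn' hc'
    have := LA a0 a1 a2 (b0 + m * p * L) (b1 + m * L) b2
      (by push_cast; linear_combination hn') (by push_cast; linear_combination hc')
    have heq : X0 ^ b0 * X1 ^ b1 * X4 ^ b2 * H ^ L =
        X0 ^ (b0 + m * p * L) * X1 ^ (b1 + m * L) * X4 ^ b2 := by
      rw [hH, mul_pow, ← pow_mul, ← pow_mul, pow_add, pow_add]; ring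
    rw [heq]; exact this
  have hspanF : Ideal.span {F} ≤ I := (Ideal.span_singleton_le_iff_mem (I := I)).mpr hFI
  set π := Ideal.Quotient.mk I with hπ
  have hπH : π H = algebraMap k _ s := by
    have : π (MvPolynomial.C s) = π H := Ideal.Quotient.eq.mpr hsHI
    rw [← this]; rfl
  -- core collinearity for monomials in X0, X1, X4
  have core : ∀ d0 d1 d4 e0 e1 e4 : ℕ,
      (e0 : ℤ) - (p : ℤ) * e1 + (q : ℤ) * e4 = (d0 : ℤ) - (p : ℤ) * d1 + (q : ℤ) * d4 →
      (m : ℤ) ∣ ((d1 : ℤ) - d4) - ((e1 : ℤ) - e4) →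
      ∃ a : k, π (X0 ^ d0 * X1 ^ d1 * X4 ^ d4) = a • π (X0 ^ e0 * X1 ^ e1 * X4 ^ e4) ∨
        π (X0 ^ e0 * X1 ^ e1 * X4 ^ e4) = a • π (X0 ^ d0 * X1 ^ d1 * X4 ^ d4) := by
    intro d0 d1 d4 e0 e1 e4 hn hc
    obtain ⟨l, hl⟩ := hc
    rcases le_total 0 l with hl0 | hl0
    · obtain ⟨L, hL⟩ := Int.eq_ofNat_of_zero_le hl0
      have h1 := hspanF (shift d0 d1 d4 e0 e1 e4 L hn (by rw [hl, hL]))
      have h2 : π (X0 ^ d0 * X1 ^ d1 * X4 ^ d4) = π (X0 ^ e0 * X1 ^ e1 * X4 ^ e4 * H ^ L) :=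
        Ideal.Quotient.eq.mpr h1
      refine ⟨s ^ L, Or.inl ?_⟩
      rw [h2, map_mul, map_pow, hπH, mul_comm, ← map_pow]
      exact (Algebra.smul_def _ _).symm
    · obtain ⟨L, hL⟩ := Int.eq_ofNat_of_zero_le (show 0 ≤ -l by omega)
      have h1 := hspanF (shift e0 e1 e4 d0 d1 d4 L hn.symm (by rw [← hL]; linear_combination -hl))
      have h2 : π (X0 ^ e0 * X1 ^ e1 * X4 ^ e4) = π (X0 ^ d0 * X1 ^ d1 * X4 ^ d4 * H ^ L) :=
        Ideal.Quotient.eq.mpr h1
      refine ⟨s ^ L, Or.inr ?_⟩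
      rw [h2, map_mul, map_pow, hπH, mul_comm, ← map_pow]
      exact (Algebra.smul_def _ _).symm
  -- monomials
  let e : Fin 5 → (Fin 5 →₀ ℕ) := fun i => Finsupp.single i 1
  have hXmono : ∀ i, (MvPolynomial.X i : MvPolynomial (Fin 5) k) = MvPolynomial.monomial (e i) 1 :=
    fun i => rfl
  have hsplit : ∀ (d t : Fin 5 →₀ ℕ) (c : k), t ≤ d →
      MvPolynomial.monomial (d - t) c * MvPolynomial.monomial t 1 = MvPolynomial.monomial d c := by
    intro d t c h
    rw [MvPolynomial.monomial_mul, mul_one, tsub_add_cancel_of_le h]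
  have hzero : ∀ (d : Fin 5 →₀ ℕ), (1 ≤ d 2 ∨ 1 ≤ d 3) → π (MvPolynomial.monomial d 1) = 0 := by
    intro d hd
    rw [hπ, Ideal.Quotient.eq_zero_iff_mem]
    rcases hd with h | h
    · rw [← hsplit d (e 2) 1 (Finsupp.single_le_iff.mpr h), ← hXmono 2]
      exact Ideal.mul_mem_left _ _ hX2I
    · rw [← hsplit d (e 3) 1 (Finsupp.single_le_iff.mpr h), ← hXmono 3]
      exact Ideal.mul_mem_left _ _ hX3I
  have hmono : ∀ (d : Fin 5 →₀ ℕ), d 2 = 0 → d 3 = 0 →
      MvPolynomial.monomial d (1 : k) = X0 ^ d 0 * X1 ^ d 1 * X4 ^ d 4 := by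
    intro d h2 h3
    rw [MvPolynomial.monomial_eq, Finsupp.prod_fintype _ _ (fun i => pow_zero _),
      Fin.prod_univ_five, h2, h3]
    simp only [pow_zero, mul_one, MvPolynomial.C_1, one_mul]
    rfl
  have coll : ∀ d d' : Fin 5 →₀ ℕ, Finsupp.weight w d = Finsupp.weight w d' →
      ∃ a : k, π (MvPolynomial.monomial d 1) = a • π (MvPolynomial.monomial d' 1) ∨
        π (MvPolynomial.monomial d' 1) = a • π (MvPolynomial.monomial d 1) := by
    intro d d' hdd'
    by_cases hd : 1 ≤ d 2 ∨ 1 ≤ d 3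
    · exact ⟨0, Or.inl (by rw [hzero d hd, zero_smul])⟩
    by_cases hd' : 1 ≤ d' 2 ∨ 1 ≤ d' 3
    · exact ⟨0, Or.inr (by rw [hzero d' hd', zero_smul])⟩
    push Not at hd hd'
    have h2 : d 2 = 0 := by omega
    have h3 : d 3 = 0 := by omega
    have h2' : d' 2 = 0 := by omega
    have h3' : d' 3 = 0 := by omega
    rw [hmono d h2 h3, hmono d' h2' h3']
    apply core
    · have := congrArg Prod.fst hdd'
      rw [hwt1, hwt1, h2, h3, h2', h3'] at this
      push_cast at this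
      linear_combination -this
    · have := congrArg Prod.snd hdd'
      rw [hwt2, hwt2, h2, h3, h2', h3'] at this
      have h5 : (((d 1 : ℤ) - d 4 - ((d' 1 : ℤ) - d' 4) : ℤ) : ZMod m) = 0 := by
        push_cast
        simp only [Nat.cast_zero, add_zero, zero_add] at this
        linear_combination -this
      exact (ZMod.intCast_zmod_eq_zero_iff_dvd _ m).mp h5
  -- conclude
  rw [rank_submodule_le_one_iff']
  by_cases hT : ∃ d : Fin 5 →₀ ℕ, Finsupp.weight w d = ν ∧ π (MvPolynomial.monomial d 1) ≠ 0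
  · obtain ⟨d₀, hd₀ν, hd₀⟩ := hT
    refine ⟨π (MvPolynomial.monomial d₀ 1), ?_⟩
    rintro _ ⟨f, hf, rfl⟩
    change π f ∈ _
    rw [← MvPolynomial.support_sum_monomial_coeff f, map_sum]
    refine Submodule.sum_mem _ (fun d hd => ?_)
    have hdν : Finsupp.weight w d = ν := hf (MvPolynomial.mem_support_iff.mp hd)
    have hmc : MvPolynomial.monomial d (MvPolynomial.coeff d f) =
        MvPolynomial.coeff d f • MvPolynomial.monomial d (1 : k) := by
      rw [MvPolynomial.smul_monomial, smul_eq_mul, mul_one]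
    have hπsmul : π (MvPolynomial.coeff d f • MvPolynomial.monomial d (1 : k)) =
        MvPolynomial.coeff d f • π (MvPolynomial.monomial d (1 : k)) :=
      map_smul (Ideal.Quotient.mkₐ k I) _ _
    rw [hmc, hπsmul]
    refine Submodule.smul_mem _ _ ?_
    obtain ⟨a, ha | ha⟩ := coll d d₀ (hdν.trans hd₀ν.symm)
    · rw [ha]; exact Submodule.smul_mem _ _ (Submodule.mem_span_singleton_self _)
    · have ha0 : a ≠ 0 := by
        rintro rfl
        rw [zero_smul] at ha
        exact hd₀ ha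
      have : π (MvPolynomial.monomial d 1) = a⁻¹ • π (MvPolynomial.monomial d₀ 1) := by
        rw [ha, smul_smul, inv_mul_cancel₀ ha0, one_smul]
      rw [this]; exact Submodule.smul_mem _ _ (Submodule.mem_span_singleton_self _)
  · push Not at hT
    refine ⟨0, ?_⟩
    rintro _ ⟨f, hf, rfl⟩
    change π f ∈ _
    rw [← MvPolynomial.support_sum_monomial_coeff f, map_sum]
    refine Submodule.sum_mem _ (fun d hd => ?_)
    have hdν : Finsupp.weight w d = ν := hf (MvPolynomial.mem_support_iff.mp hd)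
    have hmc : MvPolynomial.monomial d (MvPolynomial.coeff d f) =
        MvPolynomial.C (MvPolynomial.coeff d f) * MvPolynomial.monomial d (1 : k) := by
      rw [MvPolynomial.C_mul_monomial, mul_one]
    rw [hmc, map_mul, hT d hdν, mul_zero]
    exact Submodule.zero_mem _

end Groth.Agent.S15727
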