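import Groth.Statements.S15728
import Mathlib
-- import your own Groth.Agent.* helpers here

set_option autoImplicit false
universe u
open W4c2invhilbsl2


namespace Groth.Agent.S15728

/-- Let k be an algebraically closed field, 0 < p < q coprime integers and m ≥ 1; put g = gcd(m, q−p)
and a = m/g, and grade k[X₀,…,X₄] by ℤ × ℤ/m, giving X₀ weight (1,0), X₁ and X₂ weight (−p,−1), and
X₃ and X₄ weight (q,1). For s ∈ k let J_s be the ideal (X₀^g, X₂, X₄, s − X₁^(aq)X₃^(ap)), whose
generators are homogeneous (the last one of weight zero). Then for every weight ν the image in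
k[X₀,…,X₄]/J_s of the homogeneous polynomials of weight ν is a k-vector space of dimension at most
1. (The published statement asserts that this dimension equals 1 for every ν and every s; this row
states the upper bound, the half obtained from the monomial analysis of the weight pieces, while the
lower bound there is drawn from the moduli interpretation of these ideals. The published statement
is over the complex numbers; this row takes any algebraically closed field, which is what the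
reduction to s = 0, 1 by rescaling the variables uses.) -/
theorem result (k : Type u) [Field k] [IsAlgClosed k] (p q m : ℕ) (hp : 0 < p) (hpq : p < q) (hcop : Nat.Coprime p q) (hm : 0 < m) (s : k) (ν : ℤ × ZMod m) :
    Module.rank k (W4c2invhilbsl2.piece k (W4c2invhilbsl2.wt5 p q m) (W4c2invhilbsl2.idealJ k p q m s) ν) ≤ 1 := by
  classical
  set w := W4c2invhilbsl2.wt5 p q m with hw
  have hw0 : w 0 = ((1 : ℤ), (0 : ZMod m)) := rfl
  have hw1 : w 1 = (-(p : ℤ), (-1 : ZMod m)) := rfl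
  have hw2 : w 2 = (-(p : ℤ), (-1 : ZMod m)) := rfl
  have hw3 : w 3 = ((q : ℤ), (1 : ZMod m)) := rfl
  have hw4 : w 4 = ((q : ℤ), (1 : ZMod m)) := rfl
  have hqp : ((q - p : ℕ) : ℤ) = (q : ℤ) - p := Nat.cast_sub hpq.le
  have hwt1 : ∀ d : Fin 5 →₀ ℕ,
      (Finsupp.weight w d).1 = (d 0 : ℤ) - p * (d 1 + d 2) + q * (d 3 + d 4) := by
    intro d
    rw [Finsupp.weight_eq_sum, Fin.sum_univ_five, hw0, hw1, hw2, hw3, hw4]
    simp only [Prod.smul_mk, Prod.fst_add, nsmul_eq_mul, mul_one, mul_neg]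
    ring
  have hwt2 : ∀ d : Fin 5 →₀ ℕ,
      (Finsupp.weight w d).2 = -((d 1 : ZMod m) + d 2) + ((d 3 : ZMod m) + d 4) := by
    intro d
    rw [Finsupp.weight_eq_sum, Fin.sum_univ_five, hw0, hw1, hw2, hw3, hw4]
    simp only [Prod.smul_mk, Prod.snd_add, nsmul_eq_mul, mul_one, mul_neg, smul_zero]
    ring
  set g : ℕ := Nat.gcd m (q - p) with hg
  set a : ℕ := m / g with ha
  set b : ℕ := (q - p) / g with hb
  have hgpos : 0 < g := Nat.gcd_pos_of_pos_left _ hm
  have hga : g * a = m := Nat.mul_div_cancel' (Nat.gcd_dvd_left m (q - p))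
  have hgb : g * b = q - p := Nat.mul_div_cancel' (Nat.gcd_dvd_right m (q - p))
  have hab : Nat.Coprime a b := Nat.coprime_div_gcd_div_gcd hgpos
  set X0 : MvPolynomial (Fin 5) k := MvPolynomial.X 0 with hX0
  set X1 : MvPolynomial (Fin 5) k := MvPolynomial.X 1 with hX1
  set X2 : MvPolynomial (Fin 5) k := MvPolynomial.X 2 with hX2
  set X3 : MvPolynomial (Fin 5) k := MvPolynomial.X 3 with hX3
  set X4 : MvPolynomial (Fin 5) k := MvPolynomial.X 4 with hX4
  set T : MvPolynomial (Fin 5) k := X1 ^ (a * q) * X3 ^ (a * p) with hT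
  set I : Ideal (MvPolynomial (Fin 5) k) := W4c2invhilbsl2.idealJ k p q m s with hI
  have hX0I : X0 ^ g ∈ I := Ideal.subset_span (Or.inl rfl)
  have hX2I : X2 ∈ I := Ideal.subset_span (Or.inr (Or.inl rfl))
  have hX4I : X4 ∈ I := Ideal.subset_span (Or.inr (Or.inr (Or.inl rfl)))
  have hsTI : MvPolynomial.C s - T ∈ I := Ideal.subset_span (Or.inr (Or.inr (Or.inr rfl)))
  set π := Ideal.Quotient.mk I with hπ
  have hπT : π T = algebraMap k _ s := by
    have : π (MvPolynomial.C s) = π T := Ideal.Quotient.eq.mpr hsTI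
    rw [← this]; rfl
  have hmulT : ∀ (M : MvPolynomial (Fin 5) k) (V : ℕ), π (M * T ^ V) = s ^ V • π M := by
    intro M V
    rw [map_mul, map_pow, hπT, mul_comm, ← map_pow]
    exact (Algebra.smul_def _ _).symm
  have core : ∀ d0 d1 d3 e0 e1 e3 : ℕ, d0 < g → e0 < g →
      (e0 : ℤ) - (p : ℤ) * e1 + (q : ℤ) * e3 = (d0 : ℤ) - (p : ℤ) * d1 + (q : ℤ) * d3 →
      (m : ℤ) ∣ ((d1 : ℤ) - d3) - ((e1 : ℤ) - e3) →
      ∃ c : k, π (X0 ^ d0 * X1 ^ d1 * X3 ^ d3) = c • π (X0 ^ e0 * X1 ^ e1 * X3 ^ e3) ∨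
        π (X0 ^ e0 * X1 ^ e1 * X3 ^ e3) = c • π (X0 ^ d0 * X1 ^ d1 * X3 ^ d3) := by
    intro d0 d1 d3 e0 e1 e3 hd0 he0 hn hc
    have hgm : (g : ℤ) ∣ (m : ℤ) := by exact_mod_cast Nat.gcd_dvd_left m (q - p)
    have hgqp : (g : ℤ) ∣ (q : ℤ) - p := by
      rw [← hqp]; exact_mod_cast Nat.gcd_dvd_right m (q - p)
    have hδ0 : (d0 : ℤ) - e0 = (p : ℤ) * (((d1 : ℤ) - d3) - ((e1 : ℤ) - e3)) -
        ((q : ℤ) - p) * ((d3 : ℤ) - e3) := by linear_combination -hn
    have hgδ0 : (g : ℤ) ∣ (d0 : ℤ) - e0 := by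
      rw [hδ0]
      exact dvd_sub (Dvd.dvd.mul_left (hgm.trans hc) _) (Dvd.dvd.mul_right hgqp _)
    have hde0 : (d0 : ℤ) - e0 = 0 := by
      apply Int.eq_zero_of_abs_lt_dvd hgδ0
      rw [abs_lt]
      constructor <;> omega
    have hde : d0 = e0 := by omega
    subst hde
    have hpq' : (p : ℤ) * ((d1 : ℤ) - e1) = (q : ℤ) * ((d3 : ℤ) - e3) := by linear_combination hn
    have hcopZ : IsCoprime (q : ℤ) (p : ℤ) := Nat.isCoprime_iff_coprime.mpr hcop.symm
    have hqd : (q : ℤ) ∣ (d1 : ℤ) - e1 :=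
      hcopZ.dvd_of_dvd_mul_left (Dvd.intro _ hpq'.symm)
    obtain ⟨u, hu⟩ := hqd
    have hq0 : (q : ℤ) ≠ 0 := by
      have : 0 < q := lt_trans hp hpq
      exact_mod_cast this.ne'
    have hu3 : (d3 : ℤ) - e3 = (p : ℤ) * u := by
      apply mul_left_cancel₀ hq0
      rw [← hpq', hu]; ring
    have hmu : ((g : ℤ) * a) ∣ ((g : ℤ) * b) * u := by
      have h1 : ((d1 : ℤ) - d3) - ((e1 : ℤ) - e3) = ((q : ℤ) - p) * u := by
        linear_combination hu - hu3
      rw [h1] at hc
      have h2 : ((g * a : ℕ) : ℤ) = (m : ℤ) := by exact_mod_cast hga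
      have h3 : ((g * b : ℕ) : ℤ) = (q : ℤ) - p := by rw [← hqp]; exact_mod_cast hgb
      push_cast at h2 h3
      rw [h2, h3]; exact hc
    have hgZ : (g : ℤ) ≠ 0 := by exact_mod_cast hgpos.ne'
    have hau : (a : ℤ) ∣ (b : ℤ) * u := by
      rw [mul_assoc] at hmu
      exact (mul_dvd_mul_iff_left hgZ).mp hmu
    have hau' : (a : ℤ) ∣ u :=
      (Nat.isCoprime_iff_coprime.mpr hab).dvd_of_dvd_mul_left hau
    obtain ⟨v, hv⟩ := hau'
    rcases le_total 0 v with hv0 | hv0
    · obtain ⟨V, hV⟩ := Int.eq_ofNat_of_zero_le hv0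
      have h1 : d1 = e1 + a * q * V := by
        have : (d1 : ℤ) = ((e1 + a * q * V : ℕ) : ℤ) := by
          push_cast; rw [← hV]; linear_combination hu + (q : ℤ) * hv
        exact_mod_cast this
      have h3 : d3 = e3 + a * p * V := by
        have : (d3 : ℤ) = ((e3 + a * p * V : ℕ) : ℤ) := by
          push_cast; rw [← hV]; linear_combination hu3 + (p : ℤ) * hv
        exact_mod_cast this
      refine ⟨s ^ V, Or.inl ?_⟩
      rw [← hmulT]
      congr 1
      rw [h1, h3, hT, mul_pow, ← pow_mul, ← pow_mul, pow_add, pow_add]; ring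
    · obtain ⟨V, hV⟩ := Int.eq_ofNat_of_zero_le (show 0 ≤ -v by omega)
      have h1 : e1 = d1 + a * q * V := by
        have : (e1 : ℤ) = ((d1 + a * q * V : ℕ) : ℤ) := by
          push_cast; rw [← hV]; linear_combination -hu - (q : ℤ) * hv
        exact_mod_cast this
      have h3 : e3 = d3 + a * p * V := by
        have : (e3 : ℤ) = ((d3 + a * p * V : ℕ) : ℤ) := by
          push_cast; rw [← hV]; linear_combination -hu3 - (p : ℤ) * hv
        exact_mod_cast this
      refine ⟨s ^ V, Or.inr ?_⟩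
      rw [← hmulT]
      congr 1
      rw [h1, h3, hT, mul_pow, ← pow_mul, ← pow_mul, pow_add, pow_add]; ring
  let e : Fin 5 → (Fin 5 →₀ ℕ) := fun i => Finsupp.single i 1
  have hXmono : ∀ i, (MvPolynomial.X i : MvPolynomial (Fin 5) k) = MvPolynomial.monomial (e i) 1 :=
    fun i => rfl
  have hsplit : ∀ (d t : Fin 5 →₀ ℕ) (c : k), t ≤ d →
      MvPolynomial.monomial (d - t) c * MvPolynomial.monomial t 1 = MvPolynomial.monomial d c := by
    intro d t c h
    rw [MvPolynomial.monomial_mul, mul_one, tsub_add_cancel_of_le h]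
  have hzero : ∀ (d : Fin 5 →₀ ℕ), (g ≤ d 0 ∨ 1 ≤ d 2 ∨ 1 ≤ d 4) →
      π (MvPolynomial.monomial d 1) = 0 := by
    intro d hd
    rw [hπ, Ideal.Quotient.eq_zero_iff_mem]
    rcases hd with h | h | h
    · rw [← hsplit d (Finsupp.single 0 g) 1 (Finsupp.single_le_iff.mpr h),
        ← MvPolynomial.X_pow_eq_monomial]
      exact Ideal.mul_mem_left _ _ hX0I
    · rw [← hsplit d (e 2) 1 (Finsupp.single_le_iff.mpr h), ← hXmono 2]
      exact Ideal.mul_mem_left _ _ hX2I
    · rw [← hsplit d (e 4) 1 (Finsupp.single_le_iff.mpr h), ← hXmono 4]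
      exact Ideal.mul_mem_left _ _ hX4I
  have hmono : ∀ (d : Fin 5 →₀ ℕ), d 2 = 0 → d 4 = 0 →
      MvPolynomial.monomial d (1 : k) = X0 ^ d 0 * X1 ^ d 1 * X3 ^ d 3 := by
    intro d h2 h4
    rw [MvPolynomial.monomial_eq, Finsupp.prod_fintype _ _ (fun i => pow_zero _),
      Fin.prod_univ_five, h2, h4]
    simp only [pow_zero, mul_one, MvPolynomial.C_1, one_mul]
    rfl
  have coll : ∀ d d' : Fin 5 →₀ ℕ, Finsupp.weight w d = Finsupp.weight w d' →
      ∃ c : k, π (MvPolynomial.monomial d 1) = c • π (MvPolynomial.monomial d' 1) ∨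
        π (MvPolynomial.monomial d' 1) = c • π (MvPolynomial.monomial d 1) := by
    intro d d' hdd'
    by_cases hd : g ≤ d 0 ∨ 1 ≤ d 2 ∨ 1 ≤ d 4
    · exact ⟨0, Or.inl (by rw [hzero d hd, zero_smul])⟩
    by_cases hd' : g ≤ d' 0 ∨ 1 ≤ d' 2 ∨ 1 ≤ d' 4
    · exact ⟨0, Or.inr (by rw [hzero d' hd', zero_smul])⟩
    push Not at hd hd'
    have h2 : d 2 = 0 := by omega
    have h4 : d 4 = 0 := by omega
    have h2' : d' 2 = 0 := by omega
    have h4' : d' 4 = 0 := by omega
    rw [hmono d h2 h4, hmono d' h2' h4']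
    apply core _ _ _ _ _ _ hd.1 hd'.1
    · have := congrArg Prod.fst hdd'
      rw [hwt1, hwt1, h2, h4, h2', h4'] at this
      push_cast at this
      linear_combination -this
    · have := congrArg Prod.snd hdd'
      rw [hwt2, hwt2, h2, h4, h2', h4'] at this
      have h5 : (((d 1 : ℤ) - d 3 - ((d' 1 : ℤ) - d' 3) : ℤ) : ZMod m) = 0 := by
        push_cast
        simp only [Nat.cast_zero, add_zero, zero_add] at this
        linear_combination -this
      exact (ZMod.intCast_zmod_eq_zero_iff_dvd _ m).mp h5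
  rw [rank_submodule_le_one_iff']
  by_cases hT' : ∃ d : Fin 5 →₀ ℕ, Finsupp.weight w d = ν ∧ π (MvPolynomial.monomial d 1) ≠ 0
  · obtain ⟨d₀, hd₀ν, hd₀⟩ := hT'
    refine ⟨π (MvPolynomial.monomial d₀ 1), ?_⟩
    rintro _ ⟨f, hf, rfl⟩
    change π f ∈ _
    rw [← MvPolynomial.support_sum_monomial_coeff f, map_sum]
    refine Submodule.sum_mem _ (fun d hd => ?_)
    have hdν : Finsupp.weight w d = ν := hf (MvPolynomial.mem_support_iff.mp hd)
    have hmc : MvPolynomial.monomial d (MvPolynomial.coeff d f) =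
        MvPolynomial.coeff d f • MvPolynomial.monomial d (1 : k) := by
      rw [MvPolynomial.smul_monomial, smul_eq_mul, mul_one]
    have hπsmul : π (MvPolynomial.coeff d f • MvPolynomial.monomial d (1 : k)) =
        MvPolynomial.coeff d f • π (MvPolynomial.monomial d (1 : k)) :=
      map_smul (Ideal.Quotient.mkₐ k I) _ _
    rw [hmc, hπsmul]
    refine Submodule.smul_mem _ _ ?_
    obtain ⟨c, hc | hc⟩ := coll d d₀ (hdν.trans hd₀ν.symm)
    · rw [hc]; exact Submodule.smul_mem _ _ (Submodule.mem_span_singleton_self _)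
    · have hc0 : c ≠ 0 := by
        rintro rfl
        rw [zero_smul] at hc
        exact hd₀ hc
      have : π (MvPolynomial.monomial d 1) = c⁻¹ • π (MvPolynomial.monomial d₀ 1) := by
        rw [hc, smul_smul, inv_mul_cancel₀ hc0, one_smul]
      rw [this]; exact Submodule.smul_mem _ _ (Submodule.mem_span_singleton_self _)
  · push Not at hT'
    refine ⟨0, ?_⟩
    rintro _ ⟨f, hf, rfl⟩
    change π f ∈ _
    rw [← MvPolynomial.support_sum_monomial_coeff f, map_sum]
    refine Submodule.sum_mem _ (fun d hd => ?_)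
    have hdν : Finsupp.weight w d = ν := hf (MvPolynomial.mem_support_iff.mp hd)
    have hmc : MvPolynomial.monomial d (MvPolynomial.coeff d f) =
        MvPolynomial.C (MvPolynomial.coeff d f) * MvPolynomial.monomial d (1 : k) := by
      rw [MvPolynomial.C_mul_monomial, mul_one]
    rw [hmc, map_mul, hT' d hdν, mul_zero]
    exact Submodule.zero_mem _

end Groth.Agent.S15728
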