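import Groth.Statements.S15738
import Mathlib
-- import your own Groth.Agent.* helpers here

set_option autoImplicit false
universe u
open W4c2invhilbsl2


namespace Groth.Agent.S15738

/-- Let k be a field and m ≥ 1; for a monomial X₀^d₀X₁^d₁X₂^d₂ of the polynomial ring in X₀, X₁, X₂ (X₂
standing for Xⱼ, j = 3 or 4, of the five-variable ring) put n = d₀ − p·d₁ + q·d₂ (its weight for the
torus diag(t, t^(−p), t^q)), c = d₁ − d₂ and ω = p·d₁ − q·d₂, so that d₀ = n + ω; here 0 < p < q are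
coprime integers. Take two monomials X₀^d₀X₁^d₁X₂^d₂ and X₀^e₀X₁^e₁X₂^e₂ with the same n and with
values c, c' of c congruent modulo m (so both lie in the same ℤ × ℤ/m-weight piece for the weights
(1,0), (−p,−1), (q,1)). Then: (i) if c = c', the difference of the two monomials lies in the
principal ideal (X₀^(q−p) − X₁X₂); (ii) if c' < c, the monomial X₀^d₀X₁^d₁X₂^d₂ lies in the ideal
(X₀^(q−p) − X₁X₂, X₀^(mp)X₁^m); (iii) in all cases the difference lies in the ideal (X₀^(q−p) −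
X₁X₂, 1 − X₀^(mp)X₁^m). -/
theorem result (k : Type u) [Field k] (p q m : ℕ) (hp : 0 < p) (hpq : p < q) (hcop : Nat.Coprime p q) (hm : 0 < m)
    (d0 d1 d2 e0 e1 e2 : ℕ) (hn : (e0 : ℤ) - (p : ℤ) * e1 + (q : ℤ) * e2 = (d0 : ℤ) - (p : ℤ) * d1 + (q : ℤ) * d2)
    (hc : (m : ℤ) ∣ ((d1 : ℤ) - d2) - ((e1 : ℤ) - e2)) :
    ((d1 : ℤ) - d2 = (e1 : ℤ) - e2 →
      (MvPolynomial.X (0 : Fin 3) ^ d0 * MvPolynomial.X (1 : Fin 3) ^ d1 * MvPolynomial.X (2 : Fin 3) ^ d2 - MvPolynomial.X (0 : Fin 3) ^ e0 * MvPolynomial.X (1 : Fin 3) ^ e1 * MvPolynomial.X (2 : Fin 3) ^ e2 : MvPolynomial (Fin 3) k) ∈ Ideal.span {MvPolynomial.X (0 : Fin 3) ^ (q - p) - MvPolynomial.X (1 : Fin 3) * MvPolynomial.X (2 : Fin 3)}) ∧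
    ((e1 : ℤ) - e2 < (d1 : ℤ) - d2 →
      (MvPolynomial.X (0 : Fin 3) ^ d0 * MvPolynomial.X (1 : Fin 3) ^ d1 * MvPolynomial.X (2 : Fin 3) ^ d2 : MvPolynomial (Fin 3) k) ∈ Ideal.span {MvPolynomial.X (0 : Fin 3) ^ (q - p) - MvPolynomial.X (1 : Fin 3) * MvPolynomial.X (2 : Fin 3), MvPolynomial.X (0 : Fin 3) ^ (m * p) * MvPolynomial.X (1 : Fin 3) ^ m}) ∧
    ((MvPolynomial.X (0 : Fin 3) ^ d0 * MvPolynomial.X (1 : Fin 3) ^ d1 * MvPolynomial.X (2 : Fin 3) ^ d2 - MvPolynomial.X (0 : Fin 3) ^ e0 * MvPolynomial.X (1 : Fin 3) ^ e1 * MvPolynomial.X (2 : Fin 3) ^ e2 : MvPolynomial (Fin 3) k) ∈ Ideal.span {MvPolynomial.X (0 : Fin 3) ^ (q - p) - MvPolynomial.X (1 : Fin 3) * MvPolynomial.X (2 : Fin 3), 1 - MvPolynomial.X (0 : Fin 3) ^ (m * p) * MvPolynomial.X (1 : Fin 3) ^ m}) := by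
  classical
  set X0 : MvPolynomial (Fin 3) k := MvPolynomial.X 0 with hX0
  set X1 : MvPolynomial (Fin 3) k := MvPolynomial.X 1 with hX1
  set X2 : MvPolynomial (Fin 3) k := MvPolynomial.X 2 with hX2
  set F : MvPolynomial (Fin 3) k := X0 ^ (q - p) - X1 * X2 with hF
  set H : MvPolynomial (Fin 3) k := X0 ^ (m * p) * X1 ^ m with hH
  have hqp : ((q - p : ℕ) : ℤ) = (q : ℤ) - p := Nat.cast_sub hpq.le
  have L1 : ∀ a0 a1 a2 s : ℕ, X0 ^ a0 * X1 ^ (a1 + s) * X2 ^ (a2 + s) -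
      X0 ^ (a0 + (q - p) * s) * X1 ^ a1 * X2 ^ a2 ∈ Ideal.span {F} := by
    intro a0 a1 a2 s
    rw [Ideal.mem_span_singleton]
    have h1 : F ∣ (X0 ^ (q - p)) ^ s - (X1 * X2) ^ s := sub_dvd_pow_sub_pow _ _ s
    have h2 : X0 ^ a0 * X1 ^ (a1 + s) * X2 ^ (a2 + s) -
        X0 ^ (a0 + (q - p) * s) * X1 ^ a1 * X2 ^ a2 =
        -(X0 ^ a0 * X1 ^ a1 * X2 ^ a2) * ((X0 ^ (q - p)) ^ s - (X1 * X2) ^ s) := by
      rw [pow_add, pow_add, pow_add, pow_mul, mul_pow]; ring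
    rw [h2]
    exact h1.mul_left _
  have LA : ∀ d0 d1 d2 e0 e1 e2 : ℕ,
      (e0 : ℤ) - (p : ℤ) * e1 + (q : ℤ) * e2 = (d0 : ℤ) - (p : ℤ) * d1 + (q : ℤ) * d2 →
      (d1 : ℤ) - d2 = (e1 : ℤ) - e2 →
      X0 ^ d0 * X1 ^ d1 * X2 ^ d2 - X0 ^ e0 * X1 ^ e1 * X2 ^ e2 ∈ Ideal.span {F} := by
    intro d0 d1 d2 e0 e1 e2 hn hc
    rcases le_total e1 d1 with h | h
    · obtain ⟨s, rfl⟩ := Nat.exists_eq_add_of_le h
      have hd2 : d2 = e2 + s := by push_cast at hc; omega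
      subst hd2
      have he0 : e0 = d0 + (q - p) * s := by
        have : ((e0 : ℕ) : ℤ) = ((d0 + (q - p) * s : ℕ) : ℤ) := by
          push_cast [hqp] at hn ⊢
          linear_combination hn
        exact_mod_cast this
      subst he0
      exact L1 d0 e1 e2 s
    · obtain ⟨s, rfl⟩ := Nat.exists_eq_add_of_le h
      have he2 : e2 = d2 + s := by push_cast at hc; omega
      subst he2
      have hd0 : d0 = e0 + (q - p) * s := by
        have : ((d0 : ℕ) : ℤ) = ((e0 + (q - p) * s : ℕ) : ℤ) := by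
          push_cast [hqp] at hn ⊢
          linear_combination -hn
        exact_mod_cast this
      subst hd0
      have := L1 e0 d1 d2 s
      rw [← neg_sub]
      exact (Ideal.neg_mem_iff _).mpr this
  have hFH : Ideal.span {F} ≤ Ideal.span {F, H} := Ideal.span_mono (by simp)
  have hF1H : Ideal.span {F} ≤ Ideal.span {F, 1 - H} := Ideal.span_mono (by simp)
  have hHmem : H ∈ Ideal.span {F, H} := Ideal.subset_span (by simp)
  have h1Hmem : 1 - H ∈ Ideal.span {F, 1 - H} := Ideal.subset_span (by simp)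
  -- key: shifting by H^L
  have shift : ∀ (a0 a1 a2 b0 b1 b2 L : ℕ),
      (b0 : ℤ) - (p : ℤ) * b1 + (q : ℤ) * b2 = (a0 : ℤ) - (p : ℤ) * a1 + (q : ℤ) * a2 →
      ((a1 : ℤ) - a2) - ((b1 : ℤ) - b2) = (m : ℤ) * L →
      X0 ^ a0 * X1 ^ a1 * X2 ^ a2 - X0 ^ b0 * X1 ^ b1 * X2 ^ b2 * H ^ L ∈ Ideal.span {F} := by
    intro a0 a1 a2 b0 b1 b2 L hn' hc'
    have := LA a0 a1 a2 (b0 + m * p * L) (b1 + m * L) b2
      (by push_cast; linear_combination hn') (by push_cast; linear_combination hc')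
    have heq : X0 ^ b0 * X1 ^ b1 * X2 ^ b2 * H ^ L =
        X0 ^ (b0 + m * p * L) * X1 ^ (b1 + m * L) * X2 ^ b2 := by
      rw [hH, mul_pow, ← pow_mul, ← pow_mul, pow_add, pow_add]; ring
    rw [heq]; exact this
  have hHL : ∀ L : ℕ, 1 - H ^ L ∈ Ideal.span {F, 1 - H} := by
    intro L
    have hd : 1 - H ∣ 1 ^ L - H ^ L := sub_dvd_pow_sub_pow 1 H L
    rw [one_pow] at hd
    obtain ⟨g, hg⟩ := hd
    rw [hg]
    exact Ideal.mul_mem_right _ _ h1Hmem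
  refine ⟨fun h => LA d0 d1 d2 e0 e1 e2 hn h, ?_, ?_⟩
  · intro hlt
    obtain ⟨l, hl⟩ := hc
    have hmZ : (0 : ℤ) < m := by exact_mod_cast hm
    have hl1 : 1 ≤ l := by
      by_contra hcon
      push Not at hcon
      have : (m : ℤ) * l ≤ 0 := mul_nonpos_of_nonneg_of_nonpos hmZ.le (by omega)
      linarith
    obtain ⟨L, hL⟩ := Int.eq_ofNat_of_zero_le (show 0 ≤ l - 1 by omega)
    have hl' : ((d1 : ℤ) - d2) - ((e1 : ℤ) - e2) = (m : ℤ) * ((L + 1 : ℕ) : ℤ) := by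
      rw [hl]; push_cast; rw [← hL]; ring
    have h1 := shift d0 d1 d2 e0 e1 e2 (L + 1) hn hl'
    have h2 : X0 ^ e0 * X1 ^ e1 * X2 ^ e2 * H ^ (L + 1) ∈ Ideal.span {F, H} := by
      rw [pow_succ, ← mul_assoc]
      exact Ideal.mul_mem_left _ _ hHmem
    have := Ideal.add_mem _ (hFH h1) h2
    simpa using this
  · obtain ⟨l, hl⟩ := hc
    have hmZ : (0 : ℤ) < m := by exact_mod_cast hm
    rcases le_total 0 l with hl0 | hl0
    · obtain ⟨L, hL⟩ := Int.eq_ofNat_of_zero_le hl0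
      have h1 := shift d0 d1 d2 e0 e1 e2 L hn (by rw [hl, hL])
      have h2 : X0 ^ e0 * X1 ^ e1 * X2 ^ e2 * H ^ L - X0 ^ e0 * X1 ^ e1 * X2 ^ e2 ∈
          Ideal.span {F, 1 - H} := by
        have : X0 ^ e0 * X1 ^ e1 * X2 ^ e2 * H ^ L - X0 ^ e0 * X1 ^ e1 * X2 ^ e2 =
            -(X0 ^ e0 * X1 ^ e1 * X2 ^ e2) * (1 - H ^ L) := by ring
        rw [this]
        exact Ideal.mul_mem_left _ _ (hHL L)
      have := Ideal.add_mem _ (hF1H h1) h2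
      simpa using this
    · obtain ⟨L, hL⟩ := Int.eq_ofNat_of_zero_le (show 0 ≤ -l by omega)
      have h1 := shift e0 e1 e2 d0 d1 d2 L hn.symm (by rw [← hL]; linear_combination -hl)
      have h2 : X0 ^ d0 * X1 ^ d1 * X2 ^ d2 * H ^ L - X0 ^ d0 * X1 ^ d1 * X2 ^ d2 ∈
          Ideal.span {F, 1 - H} := by
        have : X0 ^ d0 * X1 ^ d1 * X2 ^ d2 * H ^ L - X0 ^ d0 * X1 ^ d1 * X2 ^ d2 =
            -(X0 ^ d0 * X1 ^ d1 * X2 ^ d2) * (1 - H ^ L) := by ring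
        rw [this]
        exact Ideal.mul_mem_left _ _ (hHL L)
      have := Ideal.add_mem _ (hF1H h1) h2
      have h3 := (Ideal.neg_mem_iff _).mpr this
      have heq : -(X0 ^ e0 * X1 ^ e1 * X2 ^ e2 - X0 ^ d0 * X1 ^ d1 * X2 ^ d2 * H ^ L +
          (X0 ^ d0 * X1 ^ d1 * X2 ^ d2 * H ^ L - X0 ^ d0 * X1 ^ d1 * X2 ^ d2)) =
          X0 ^ d0 * X1 ^ d1 * X2 ^ d2 - X0 ^ e0 * X1 ^ e1 * X2 ^ e2 := by ring
      rw [heq] at h3
      exact h3

end Groth.Agent.S15738
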