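import Groth.Statements.S15739
import Mathlib
-- import your own Groth.Agent.* helpers here

set_option autoImplicit false
universe u
open W4c2invhilbsl2


namespace Groth.Agent.S15739

/-- Let k be a field and m ≥ 1, put g = gcd(m, q−p), a = m/g and b = (q−p)/g; for a monomial
X₀^d₀X₁^d₁X₂^d₂ of the polynomial ring in X₀, X₁, X₂ (X₂ standing for Xⱼ, j = 3 or 4, of the
five-variable ring) put n = d₀ − p·d₁ + q·d₂ (its weight for the torus diag(t, t^(−p), t^q)), c = d₁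
− d₂ and ω = p·d₁ − q·d₂, so that d₀ = n + ω; here 0 < p < q are coprime integers. Take two
monomials X₀^d₀X₁^d₁X₂^d₂ and X₀^e₀X₁^e₁X₂^e₂ with the same n, where 0 ≤ n < q − p, whose values c
and c' of c are both divisible by m, and with d₀ < g and e₀ < g (so each has the least ω for its
pair (n, c), as g ≤ q − p). Then: (i) d₀ = e₀, i.e. the two values of ω agree, and m·b divides c −
c'; (ii) if c < c', then X₀^e₀X₁^e₁X₂^e₂ is a multiple of X₀^d₀X₁^d₁X₂^d₂ · X₁^(aq)X₂^(ap); (iii)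
the difference of the two monomials lies in the principal ideal (1 − X₁^(aq)X₂^(ap)). -/
theorem result (k : Type u) [Field k] (p q m : ℕ) (hp : 0 < p) (hpq : p < q) (hcop : Nat.Coprime p q) (hm : 0 < m)
    (d0 d1 d2 e0 e1 e2 : ℕ) (hn : (e0 : ℤ) - (p : ℤ) * e1 + (q : ℤ) * e2 = (d0 : ℤ) - (p : ℤ) * d1 + (q : ℤ) * d2)
    (hn0 : 0 ≤ (d0 : ℤ) - (p : ℤ) * d1 + (q : ℤ) * d2) (hnq : (d0 : ℤ) - (p : ℤ) * d1 + (q : ℤ) * d2 < (q : ℤ) - p)
    (hcd : (m : ℤ) ∣ (d1 : ℤ) - d2) (hce : (m : ℤ) ∣ (e1 : ℤ) - e2)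
    (hd0 : d0 < Nat.gcd m (q - p)) (he0 : e0 < Nat.gcd m (q - p)) :
    (d0 = e0 ∧ ((m : ℤ) * ((q - p) / Nat.gcd m (q - p) : ℕ)) ∣ ((d1 : ℤ) - d2) - ((e1 : ℤ) - e2)) ∧
    ((d1 : ℤ) - d2 < (e1 : ℤ) - e2 →
      (MvPolynomial.X (0 : Fin 3) ^ d0 * MvPolynomial.X (1 : Fin 3) ^ d1 * MvPolynomial.X (2 : Fin 3) ^ d2 * (MvPolynomial.X (1 : Fin 3) ^ (m / Nat.gcd m (q - p) * q) * MvPolynomial.X (2 : Fin 3) ^ (m / Nat.gcd m (q - p) * p)) : MvPolynomial (Fin 3) k) ∣ MvPolynomial.X (0 : Fin 3) ^ e0 * MvPolynomial.X (1 : Fin 3) ^ e1 * MvPolynomial.X (2 : Fin 3) ^ e2) ∧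
    ((MvPolynomial.X (0 : Fin 3) ^ e0 * MvPolynomial.X (1 : Fin 3) ^ e1 * MvPolynomial.X (2 : Fin 3) ^ e2 - MvPolynomial.X (0 : Fin 3) ^ d0 * MvPolynomial.X (1 : Fin 3) ^ d1 * MvPolynomial.X (2 : Fin 3) ^ d2 : MvPolynomial (Fin 3) k) ∈
      Ideal.span {(1 : MvPolynomial (Fin 3) k) - MvPolynomial.X (1 : Fin 3) ^ (m / Nat.gcd m (q - p) * q) * MvPolynomial.X (2 : Fin 3) ^ (m / Nat.gcd m (q - p) * p)}) := by
  classical
  have hqp : ((q - p : ℕ) : ℤ) = (q : ℤ) - p := Nat.cast_sub hpq.le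
  set g : ℕ := Nat.gcd m (q - p) with hg
  set a : ℕ := m / g with ha
  set b : ℕ := (q - p) / g with hb
  have hgpos : 0 < g := Nat.gcd_pos_of_pos_left _ hm
  have hga : g * a = m := Nat.mul_div_cancel' (Nat.gcd_dvd_left m (q - p))
  have hgb : g * b = q - p := Nat.mul_div_cancel' (Nat.gcd_dvd_right m (q - p))
  have hab : Nat.Coprime a b := Nat.coprime_div_gcd_div_gcd hgpos
  set X0 : MvPolynomial (Fin 3) k := MvPolynomial.X 0 with hX0
  set X1 : MvPolynomial (Fin 3) k := MvPolynomial.X 1 with hX1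
  set X2 : MvPolynomial (Fin 3) k := MvPolynomial.X 2 with hX2
  set T : MvPolynomial (Fin 3) k := X1 ^ (a * q) * X2 ^ (a * p) with hT
  have hc : (m : ℤ) ∣ ((d1 : ℤ) - d2) - ((e1 : ℤ) - e2) := dvd_sub hcd hce
  have hgm : (g : ℤ) ∣ (m : ℤ) := by exact_mod_cast Nat.gcd_dvd_left m (q - p)
  have hgqp : (g : ℤ) ∣ (q : ℤ) - p := by
    rw [← hqp]; exact_mod_cast Nat.gcd_dvd_right m (q - p)
  have hδ0 : (d0 : ℤ) - e0 = (p : ℤ) * (((d1 : ℤ) - d2) - ((e1 : ℤ) - e2)) -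
      ((q : ℤ) - p) * ((d2 : ℤ) - e2) := by linear_combination -hn
  have hgδ0 : (g : ℤ) ∣ (d0 : ℤ) - e0 := by
    rw [hδ0]
    exact dvd_sub (Dvd.dvd.mul_left (hgm.trans hc) _) (Dvd.dvd.mul_right hgqp _)
  have hde0 : (d0 : ℤ) - e0 = 0 := by
    apply Int.eq_zero_of_abs_lt_dvd hgδ0
    rw [abs_lt]
    constructor <;> omega
  have hde : d0 = e0 := by omega
  subst hde
  have hpq' : (p : ℤ) * ((d1 : ℤ) - e1) = (q : ℤ) * ((d2 : ℤ) - e2) := by linear_combination hn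
  have hcopZ : IsCoprime (q : ℤ) (p : ℤ) := Nat.isCoprime_iff_coprime.mpr hcop.symm
  have hqd : (q : ℤ) ∣ (d1 : ℤ) - e1 :=
    hcopZ.dvd_of_dvd_mul_left (Dvd.intro _ hpq'.symm)
  obtain ⟨u, hu⟩ := hqd
  have hq0 : (q : ℤ) ≠ 0 := by
    have : 0 < q := lt_trans hp hpq
    exact_mod_cast this.ne'
  have hu3 : (d2 : ℤ) - e2 = (p : ℤ) * u := by
    apply mul_left_cancel₀ hq0
    rw [← hpq', hu]; ring
  have h2 : ((g : ℤ) * a) = (m : ℤ) := by exact_mod_cast hga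
  have h3 : ((g : ℤ) * b) = (q : ℤ) - p := by rw [← hqp]; exact_mod_cast hgb
  have hcu : ((d1 : ℤ) - d2) - ((e1 : ℤ) - e2) = ((q : ℤ) - p) * u := by
    linear_combination hu - hu3
  have hmu : ((g : ℤ) * a) ∣ ((g : ℤ) * b) * u := by
    rw [hcu] at hc
    rw [h2, h3]; exact hc
  have hgZ : (g : ℤ) ≠ 0 := by exact_mod_cast hgpos.ne'
  have hau : (a : ℤ) ∣ (b : ℤ) * u := by
    rw [mul_assoc] at hmu
    exact (mul_dvd_mul_iff_left hgZ).mp hmu
  have hau' : (a : ℤ) ∣ u :=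
    (Nat.isCoprime_iff_coprime.mpr hab).dvd_of_dvd_mul_left hau
  obtain ⟨v, hv⟩ := hau'
  have hcv : ((d1 : ℤ) - d2) - ((e1 : ℤ) - e2) = ((m : ℤ) * (b : ℤ)) * v := by
    rw [hcu, hv, ← h3, ← h2]; ring
  have hTdvd : ∀ V : ℕ, (1 : MvPolynomial (Fin 3) k) - T ∣ 1 - T ^ V := by
    intro V
    have hd : 1 - T ∣ 1 ^ V - T ^ V := sub_dvd_pow_sub_pow 1 T V
    rwa [one_pow] at hd
  refine ⟨⟨rfl, ⟨v, hcv⟩⟩, ?_, ?_⟩
  · intro hlt
    have hv0 : v < 0 := by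
      by_contra hcon
      push Not at hcon
      have hmb : (0 : ℤ) ≤ (m : ℤ) * (b : ℤ) := by positivity
      have : (0 : ℤ) ≤ (m : ℤ) * (b : ℤ) * v := mul_nonneg hmb hcon
      linarith
    obtain ⟨V, hV⟩ := Int.eq_ofNat_of_zero_le (show 0 ≤ -v - 1 by omega)
    have h1 : e1 = d1 + a * q * (V + 1) := by
      have : (e1 : ℤ) = ((d1 + a * q * (V + 1) : ℕ) : ℤ) := by
        push_cast; rw [← hV]; linear_combination -hu - (q : ℤ) * hv
      exact_mod_cast this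
    have h3' : e2 = d2 + a * p * (V + 1) := by
      have : (e2 : ℤ) = ((d2 + a * p * (V + 1) : ℕ) : ℤ) := by
        push_cast; rw [← hV]; linear_combination -hu3 - (p : ℤ) * hv
      exact_mod_cast this
    refine ⟨T ^ V, ?_⟩
    rw [h1, h3', hT, mul_pow, ← pow_mul, ← pow_mul, pow_add, pow_add]
    ring
  · rcases le_total 0 v with hv0 | hv0
    · obtain ⟨V, hV⟩ := Int.eq_ofNat_of_zero_le hv0
      have h1 : d1 = e1 + a * q * V := by
        have : (d1 : ℤ) = ((e1 + a * q * V : ℕ) : ℤ) := by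
          push_cast; rw [← hV]; linear_combination hu + (q : ℤ) * hv
        exact_mod_cast this
      have h3' : d2 = e2 + a * p * V := by
        have : (d2 : ℤ) = ((e2 + a * p * V : ℕ) : ℤ) := by
          push_cast; rw [← hV]; linear_combination hu3 + (p : ℤ) * hv
        exact_mod_cast this
      have heq : X0 ^ d0 * X1 ^ e1 * X2 ^ e2 - X0 ^ d0 * X1 ^ d1 * X2 ^ d2 =
          (X0 ^ d0 * X1 ^ e1 * X2 ^ e2) * (1 - T ^ V) := by
        rw [h1, h3', hT, mul_pow, ← pow_mul, ← pow_mul, pow_add, pow_add]; ring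
      rw [heq, Ideal.mem_span_singleton]
      exact (hTdvd V).mul_left _
    · obtain ⟨V, hV⟩ := Int.eq_ofNat_of_zero_le (show 0 ≤ -v by omega)
      have h1 : e1 = d1 + a * q * V := by
        have : (e1 : ℤ) = ((d1 + a * q * V : ℕ) : ℤ) := by
          push_cast; rw [← hV]; linear_combination -hu - (q : ℤ) * hv
        exact_mod_cast this
      have h3' : e2 = d2 + a * p * V := by
        have : (e2 : ℤ) = ((d2 + a * p * V : ℕ) : ℤ) := by
          push_cast; rw [← hV]; linear_combination -hu3 - (p : ℤ) * hv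
        exact_mod_cast this
      have heq : X0 ^ d0 * X1 ^ e1 * X2 ^ e2 - X0 ^ d0 * X1 ^ d1 * X2 ^ d2 =
          -(X0 ^ d0 * X1 ^ d1 * X2 ^ d2) * (1 - T ^ V) := by
        rw [h1, h3', hT, mul_pow, ← pow_mul, ← pow_mul, pow_add, pow_add]; ring
      rw [heq, Ideal.mem_span_singleton]
      exact (hTdvd V).mul_left _

end Groth.Agent.S15739
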