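import Groth.Statements.S15740
import Mathlib.Tactic.Linarith
import Mathlib.Tactic.Ring

set_option autoImplicit false
open W4c2invhilbsl2

namespace Groth.Agent.S15740

/-- For a monomial X₀^d₀X₁^d₁X₂^d₂ of the polynomial ring in X₀, X₁, X₂ (X₂ standing for Xⱼ, j = 3 or 4,
of the five-variable ring) put n = d₀ − p·d₁ + q·d₂ (its weight for the torus diag(t, t^(−p), t^q)),
c = d₁ − d₂ and ω = p·d₁ − q·d₂, so that d₀ = n + ω; here 0 < p < q are coprime integers. Suppose n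
≥ 0, c > 0 and d₀ < q − p (the last condition says that ω is the least value of ω for the pair (n,
c)). Then ω ≥ 0 if and only if the remainder of p·c on division by q − p, plus n, is less than q −
p. -/
theorem result (p q : ℕ) (hp : 0 < p) (hpq : p < q) (hcop : Nat.Coprime p q) (d0 d1 d2 : ℕ)
    (hn : 0 ≤ (d0 : ℤ) - (p : ℤ) * d1 + (q : ℤ) * d2) (hc : (d2 : ℤ) < d1) (hd0 : d0 < q - p) :
    0 ≤ (p : ℤ) * d1 - (q : ℤ) * d2 ↔
      Int.emod ((p : ℤ) * ((d1 : ℤ) - d2)) ((q : ℤ) - p) + ((d0 : ℤ) - (p : ℤ) * d1 + (q : ℤ) * d2) < (q : ℤ) - p := by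
  have hpq' : (p : ℤ) < q := by exact_mod_cast hpq
  have hD : (0 : ℤ) < (q : ℤ) - p := by linarith
  have hd0' : (d0 : ℤ) < (q : ℤ) - p := by omega
  have hd0nn : (0 : ℤ) ≤ d0 := Nat.cast_nonneg d0
  have hmod : Int.emod ((p : ℤ) * ((d1 : ℤ) - d2)) ((q : ℤ) - p) =
      ((p : ℤ) * d1 - (q : ℤ) * d2) % ((q : ℤ) - p) := by
    have h1 : (p : ℤ) * ((d1 : ℤ) - d2) = ((p : ℤ) * d1 - (q : ℤ) * d2) + ((q : ℤ) - p) * d2 := by
      ring
    show ((p : ℤ) * ((d1 : ℤ) - d2)) % ((q : ℤ) - p) = _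
    rw [h1, Int.add_mul_emod_self_left]
  rw [hmod]
  constructor
  · intro hω
    have hlt : (p : ℤ) * d1 - (q : ℤ) * d2 < (q : ℤ) - p := by linarith
    rw [Int.emod_eq_of_lt hω hlt]
    linarith
  · intro h
    by_contra hω
    push Not at hω
    have hr : 0 ≤ ((p : ℤ) * d1 - (q : ℤ) * d2) % ((q : ℤ) - p) := Int.emod_nonneg _ hD.ne'
    have hdiv := Int.emod_add_mul_ediv ((p : ℤ) * d1 - (q : ℤ) * d2) ((q : ℤ) - p)
    have hq1 : ((p : ℤ) * d1 - (q : ℤ) * d2) / ((q : ℤ) - p) ≤ -1 := by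
      have : ((p : ℤ) * d1 - (q : ℤ) * d2) / ((q : ℤ) - p) < 0 := Int.ediv_neg_of_neg_of_pos hω hD
      linarith
    have h5 : ((q : ℤ) - p) * (((p : ℤ) * d1 - (q : ℤ) * d2) / ((q : ℤ) - p)) ≤ -((q : ℤ) - p) := by
      nlinarith
    linarith

end Groth.Agent.S15740
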