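import Groth.Statements.S1575
import Mathlib
import Groth.Agent.Lib.Hartogs_helper5

set_option autoImplicit false
universe u
open CategoryTheory CategoryTheory.Limits AlgebraicGeometry
open Divisors

namespace Groth.Agent.S1575

/-- Let X be locally Noetherian, F coherent, and U open such that at every point outside U the stalk of
F has depth at least two over the local ring. Then F → j_*(F|_U) is an isomorphism: for every open
V, restriction of sections Γ(V, F) → Γ(V ∩ U, F) is a bijection. -/
theorem result (X : Scheme.{u}) [IsLocallyNoetherian X]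
    (F : X.Modules) (hF : Coh.IsCoh F) (U : X.Opens)
    (hdepth : ∀ x : X, x ∉ U → 2 ≤ LocCoh.depth (X.presheaf.stalk x) (F.presheaf.stalk x)) (V : X.Opens) :
    Function.Bijective (F.val.presheaf.map (homOfLE (inf_le_left : V ⊓ U ≤ V)).op) := by
  obtain ⟨hq, hft⟩ := hF
  haveI : F.IsQuasicoherent := hq
  haveI : SheafOfModules.IsFiniteType (R := X.ringCatSheaf) F := hft
  constructor
  · intro a b hab
    have key : ∀ (a b : Γ(F, V)), QcqsLoc.rF F (inf_le_left : V ⊓ U ≤ V) a =
        QcqsLoc.rF F (inf_le_left : V ⊓ U ≤ V) b → a = b := by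
      intro a b hab'
      have h0 : QcqsLoc.rF F (inf_le_left : V ⊓ U ≤ V) (a - b) = 0 := by
        rw [map_sub, hab', sub_self]
      exact sub_eq_zero.mp (Groth.Agent.Hartogs.inj F U hdepth V (a - b) h0)
    exact key a b hab
  · intro t
    obtain ⟨s, hs⟩ := Groth.Agent.Hartogs.surj F U hdepth V t
    exact ⟨s, hs⟩

end Groth.Agent.S1575
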