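import Groth.Statements.S1576
import Mathlib
import Groth.Agent.Lib.EmbS1_helper5
import Groth.Agent.Lib.QCohFT_helper9

set_option autoImplicit false
universe u
open CategoryTheory CategoryTheory.Limits AlgebraicGeometry
open Divisors

namespace Groth.Agent.S1576

/-- Let X be locally Noetherian and F coherent. Then the associated points of F lying in any
quasi-compact open subset form a finite set. -/
theorem result (X : Scheme.{u}) [IsLocallyNoetherian X]
    (F : X.Modules) (hF : Coh.IsCoh F) (U : X.Opens) (hU : IsCompact (U : Set X)) :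
    {x : X | x ∈ U ∧ Curv2.IsAssPoint F x}.Finite := by
  obtain ⟨hq, hft⟩ := hF
  haveI : F.IsQuasicoherent := hq
  haveI : SheafOfModules.IsFiniteType (R := X.ringCatSheaf) F := hft
  obtain ⟨S, hS, hcov⟩ := isCompact_iff_finite_and_eq_biUnion_affineOpens.mp hU
  have hsub : {x : X | x ∈ U ∧ Curv2.IsAssPoint F x} ⊆
      ⋃ W ∈ S, {x : X | x ∈ (W : X.Opens) ∧ Curv2.IsAssPoint F x} := by
    rintro x ⟨hxU, hxa⟩
    rw [hcov] at hxU
    simp only [TopologicalSpace.Opens.mem_iSup] at hxU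
    obtain ⟨W, hW, hxW⟩ := hxU
    exact Set.mem_biUnion hW ⟨hxW, hxa⟩
  refine Set.Finite.subset (Set.Finite.biUnion hS (fun W _ => ?_)) hsub
  have hW : IsAffineOpen (W : X.Opens) := W.2
  haveI : IsNoetherianRing Γ(X, (W : X.Opens)) := IsLocallyNoetherian.component_noetherian W
  haveI : Module.Finite Γ(X, (W : X.Opens)) Γ(F, (W : X.Opens)) := QCohFT.finite_of_isFiniteType F hW
  have hfin := associatedPrimes.finite Γ(X, (W : X.Opens)) Γ(F, (W : X.Opens))
  classical
  let f : X → Ideal Γ(X, (W : X.Opens)) := fun x =>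
    if h : x ∈ (W : X.Opens) then (hW.primeIdealOf ⟨x, h⟩).asIdeal else ⊥
  apply Set.Finite.of_finite_image (f := f)
  · refine hfin.subset ?_
    rintro _ ⟨x, ⟨hxW, hxa⟩, rfl⟩
    have : f x = (hW.primeIdealOf ⟨x, hxW⟩).asIdeal := dif_pos hxW
    rw [this]
    exact (Groth.Agent.EmbS1.isAssPoint_iff F hW hxW).mp hxa
  · rintro x ⟨hxW, -⟩ y ⟨hyW, -⟩ hxy
    have h1 : f x = (hW.primeIdealOf ⟨x, hxW⟩).asIdeal := dif_pos hxW
    have h2 : f y = (hW.primeIdealOf ⟨y, hyW⟩).asIdeal := dif_pos hyW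
    rw [h1, h2] at hxy
    have h3 : hW.primeIdealOf ⟨x, hxW⟩ = hW.primeIdealOf ⟨y, hyW⟩ := PrimeSpectrum.ext hxy
    have h4 := congrArg (fun P => hW.fromSpec P) h3
    simp only [hW.fromSpec_primeIdealOf] at h4
    exact h4

end Groth.Agent.S1576
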