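import Groth.Statements.S15765
import Mathlib
-- import your own Groth.Agent.* helpers here

set_option autoImplicit false
universe u
open CategoryTheory AlgebraicGeometry

open CAlg

namespace Groth.Agent.S15765

/-- Let B be a topological ring in which the units form an open subset, B₀ → B a ring map with dense
image and X a quasi-affine scheme over B₀. Then the image of any B-point Spec B → X over B₀ is
contained in an affine open of X. (The published statement allows X ind-quasi-affine, i.e. with all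
quasi-compact opens quasi-affine; since a B-point lands in a quasi-compact open, this row's
quasi-affine case carries the content.) -/
theorem result (B : Type u) [CommRing B] [TopologicalSpace B]
    [IsTopologicalRing B] (hB : IsOpen {b : B | IsUnit b})
    (B₀ : Type u) [CommRing B₀] (φ : B₀ →+* B) (hφ : DenseRange φ)
    (X : Scheme.{u}) [X.IsQuasiAffine] (p : X ⟶ Spec (CommRingCat.of B₀))
    (f : Spec (CommRingCat.of B) ⟶ X) (hf : f ≫ p = Spec.map (CommRingCat.ofHom φ)) :
    ∃ U : X.Opens, IsAffineOpen U ∧ Set.range f.base ⊆ (U : Set X) := by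
  classical
  set A : CommRingCat := Γ(X, ⊤) with hA
  set j := X.toSpecΓ with hj
  let ψc : A ⟶ CommRingCat.of B := Spec.preimage (f ≫ j)
  have hψc : Spec.map ψc = f ≫ j := Spec.map_preimage _
  let ψ : A →+* B := ψc.hom
  let πc : CommRingCat.of B₀ ⟶ A := (Scheme.ΓSpecIso (CommRingCat.of B₀)).inv ≫ p.appTop
  have hπc : j ≫ Spec.map πc = p := by
    rw [Spec.map_comp, ← Category.assoc, ← Scheme.toSpecΓ_naturality, Category.assoc,
      toSpecΓ_SpecMap_ΓSpecIso_inv, Category.comp_id]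
  have hπψ : ∀ b₀ : B₀, ψ (πc.hom b₀) = φ b₀ := by
    have h1 : Spec.map (πc ≫ ψc) = Spec.map (CommRingCat.ofHom φ) := by
      rw [Spec.map_comp, hψc, Category.assoc, hπc, hf]
    have h2 : πc ≫ ψc = CommRingCat.ofHom φ := Spec.map_injective h1
    intro b₀
    have := congrArg (fun h => h.hom b₀) h2
    simpa using this
  have hopen : IsOpen (Set.range j.base) := j.isOpenEmbedding.isOpen_range
  obtain ⟨𝔞, h𝔞⟩ := (PrimeSpectrum.isClosed_iff_zeroLocus_ideal _).mp hopen.isClosed_compl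
  have hg : ∀ y : Spec (CommRingCat.of B), (f ≫ j).base y = PrimeSpectrum.comap ψ y := by
    intro y; rw [← hψc]; rfl
  have htop : Ideal.map ψ 𝔞 = ⊤ := by
    by_contra hne
    obtain ⟨𝔓, h𝔓max, h𝔓le⟩ := Ideal.exists_le_maximal _ hne
    let y : PrimeSpectrum B := ⟨𝔓, h𝔓max.isPrime⟩
    have hy : (f ≫ j).base y ∈ PrimeSpectrum.zeroLocus (𝔞 : Set A) := by
      rw [hg y]
      exact (PrimeSpectrum.mem_zeroLocus _ _).mpr
        (fun a ha => h𝔓le (Ideal.mem_map_of_mem ψ ha))
    rw [← h𝔞] at hy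
    exact hy ⟨f.base y, rfl⟩
  have hQ : ∀ x ∈ Ideal.map ψ 𝔞, ∀ c b : B, IsUnit (c + b * x) →
      ∃ a ∈ 𝔞, IsUnit (c + ψ a) := by
    intro x hx
    refine Submodule.span_induction
      (p := fun x _ => ∀ c b : B, IsUnit (c + b * x) → ∃ a ∈ 𝔞, IsUnit (c + ψ a))
      ?_ ?_ ?_ ?_ hx
    · rintro _ ⟨a₀, ha₀, rfl⟩ c b hu
      have hcont : Continuous (fun b' : B => c + b' * ψ a₀) := by fun_prop
      have hopen' : IsOpen ((fun b' : B => c + b' * ψ a₀) ⁻¹' {z | IsUnit z}) :=
        hB.preimage hcont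
      obtain ⟨b₀, hb₀⟩ := hφ.exists_mem_open hopen' ⟨b, hu⟩
      refine ⟨πc.hom b₀ * a₀, 𝔞.mul_mem_left _ ha₀, ?_⟩
      rw [map_mul, hπψ]; exact hb₀
    · intro c b hu
      exact ⟨0, 𝔞.zero_mem, by simpa using hu⟩
    · intro x y _ _ hx hy c b hu
      obtain ⟨ay, hay, huy⟩ := hy (c + b * x) b (by rw [add_assoc, ← mul_add]; exact hu)
      obtain ⟨ax, hax, hux⟩ := hx (c + ψ ay) b (by rw [add_right_comm]; exact huy)
      refine ⟨ax + ay, 𝔞.add_mem hax hay, ?_⟩
      rw [map_add, ← add_assoc, add_right_comm]; exact hux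
    · intro r x _ hx c b hu
      rw [smul_eq_mul, ← mul_assoc] at hu
      exact hx c (b * r) hu
  obtain ⟨a, ha, hua⟩ := hQ 1 (htop ▸ Submodule.mem_top) 0 1 (by simp)
  rw [zero_add] at hua
  refine ⟨j ⁻¹ᵁ PrimeSpectrum.basicOpen a, ?_, ?_⟩
  · have hsub : (PrimeSpectrum.basicOpen a : Set (PrimeSpectrum A)) ⊆ Set.range j.base := by
      intro x hx
      by_contra hnot
      have h1 : x ∈ PrimeSpectrum.zeroLocus (𝔞 : Set A) := by rw [← h𝔞]; exact hnot
      exact hx (h1 ha)
    rw [← Scheme.Hom.isAffineOpen_iff_of_isOpenImmersion j]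
    have himg : j ''ᵁ (j ⁻¹ᵁ PrimeSpectrum.basicOpen a) = PrimeSpectrum.basicOpen a :=
      SetLike.coe_injective (Set.image_preimage_eq_of_subset hsub)
    rw [himg]; exact IsAffineOpen.Spec_basicOpen a
  · rintro _ ⟨y, rfl⟩
    show j.base (f.base y) ∈ PrimeSpectrum.basicOpen a
    have h1 : j.base (f.base y) = PrimeSpectrum.comap ψ y := hg y
    rw [h1]
    exact (PrimeSpectrum.mem_basicOpen _ _).mpr
      (fun hmem => y.isPrime.ne_top (Ideal.eq_top_of_isUnit_mem _ hmem hua))

end Groth.Agent.S15765
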