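import Groth.Statements.S15768
import Mathlib
import Groth.Agent.Lib.HensIdemCompl_helper4
import Groth.Agent.Lib.LaurIdem_lead
import Groth.Agent.Lib.EtaleNbhd_lead

set_option autoImplicit false
universe u
open Polynomial
open CAlg

namespace Groth.Agent.S15768

/-- For any ring R and a henselization B of R[t] along (t), every idempotent of B[1/t] comes from a
unique idempotent of R under R → R[t] → B → B[1/t]. -/
theorem result (R : Type u) [CommRing R]
    (B : Type u) [CommRing B] [Algebra R[X] B] (hB : Hens2.IsPairHenselization R[X] (Ideal.span {(X : R[X])}) B)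
    (e : Localization.Away (algebraMap R[X] B X)) (he : IsIdempotentElem e) :
    ∃! r : R, IsIdempotentElem r ∧
      algebraMap B (Localization.Away (algebraMap R[X] B X)) (algebraMap R[X] B (Polynomial.C r)) = e := by
  classical
  obtain ⟨hHens, hUniv⟩ := hB
  -- notation
  obtain ⟨t, ht⟩ : ∃ t : B, t = algebraMap R[X] B X := ⟨_, rfl⟩
  have hmap : (Ideal.span {(X : R[X])}).map (algebraMap R[X] B) = Ideal.span {t} := by
    rw [Ideal.map_span, Set.image_singleton, ht]
  haveI hHt : HenselianRing B (Ideal.span {t}) := hmap ▸ hHens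
  -- the map to power series
  have hPS : HenselianRing (PowerSeries R) (Ideal.span {(PowerSeries.X : PowerSeries R)}) :=
    inferInstance
  obtain ⟨f, hf⟩ : ∃ f : R[X] →+* PowerSeries R, f = Polynomial.coeToPowerSeries.ringHom :=
    ⟨_, rfl⟩
  have hfX : f X = PowerSeries.X := by rw [hf]; exact Polynomial.coe_X
  have hfI : (Ideal.span {(X : R[X])}).map f ≤ Ideal.span {(PowerSeries.X : PowerSeries R)} := by
    rw [Ideal.map_span, Set.image_singleton, hfX]
  obtain ⟨ι, hι, -⟩ := hUniv (PowerSeries R) _ f hPS hfI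
  have hιa : ∀ p : R[X], ι (algebraMap R[X] B p) = (p : PowerSeries R) := by
    intro p
    have := RingHom.congr_fun hι p
    rw [RingHom.comp_apply] at this
    rw [this, hf]; rfl
  have hιt : ι t = PowerSeries.X := by rw [ht, hιa, Polynomial.coe_X]
  -- hypotheses of the core lemma
  have H2 : ∀ x : PowerSeries R, IsUnit (1 + ι t * x) := by
    intro x
    rw [hιt, PowerSeries.isUnit_iff_constantCoeff]
    simp
  have H3 : ∀ (b : PowerSeries R) (N : ℕ), ∃ (a₀ : B) (y : PowerSeries R),
      ι a₀ = b + (ι t) ^ N * y := by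
    intro b N
    have hdvd : (PowerSeries.X : PowerSeries R) ^ N ∣ ((PowerSeries.trunc N b : R[X]) : PowerSeries R) - b := by
      rw [PowerSeries.X_pow_dvd_iff]
      intro m hm
      rw [map_sub, Polynomial.coeff_coe, PowerSeries.coeff_trunc, if_pos hm, sub_self]
    obtain ⟨y, hy⟩ := hdvd
    refine ⟨algebraMap R[X] B (PowerSeries.trunc N b), y, ?_⟩
    rw [hιa, hιt, ← hy]; ring
  have H4 : ∀ (x : B) (N : ℕ) (w : PowerSeries R), ι x = (ι t) ^ N * w → ∃ c : B, x = t ^ N * c := by
    intro x N w hx
    obtain ⟨z, hz⟩ := (Groth.Agent.Lib.EtaleNbhd.quotient_pow_bijective ⟨hHens, hUniv⟩ N).2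
      (Ideal.Quotient.mk _ x)
    obtain ⟨p, rfl⟩ := Ideal.Quotient.mk_surjective z
    rw [Ideal.quotientMap_mk, Ideal.Quotient.eq, Ideal.map_pow, hmap, Ideal.span_singleton_pow,
      Ideal.mem_span_singleton] at hz
    obtain ⟨c', hc'⟩ := hz
    -- so algebraMap p = x + t^N c'
    have h1 : ((p : R[X]) : PowerSeries R) = (PowerSeries.X : PowerSeries R) ^ N * (w + ι c') := by
      have : ι (algebraMap R[X] B p) = ι x + ι (t ^ N * c') := by
        rw [← map_add, ← hc']; congr 1; ring
      rw [hιa, hx, map_mul, map_pow, hιt] at this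
      rw [this]; ring
    have h2 : (X : R[X]) ^ N ∣ p := by
      rw [Polynomial.X_pow_dvd_iff]
      intro m hm
      have h3 : (PowerSeries.X : PowerSeries R) ^ N ∣ ((p : R[X]) : PowerSeries R) := ⟨_, h1⟩
      rw [PowerSeries.X_pow_dvd_iff] at h3
      have := h3 m hm
      rwa [Polynomial.coeff_coe] at this
    obtain ⟨q, rfl⟩ := h2
    refine ⟨algebraMap R[X] B q - c', ?_⟩
    have h4 : algebraMap R[X] B (X ^ N * q) = t ^ N * algebraMap R[X] B q := by
      rw [map_mul, map_pow, ht]
    rw [h4] at hc'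
    linear_combination -hc'
  have hcore := fun e' he' => Groth.Agent.Lib.HensIdemComplH4.core ι t H2 H3 H4 e' he'
  -- comparison of the localization of power series with Laurent series
  haveI instLoc : IsLocalization (Submonoid.powers (ι t)) (LaurentSeries R) := by
    rw [hιt]; infer_instance
  obtain ⟨ψ, hψ⟩ : ∃ ψ : Localization.Away (ι t) ≃ₐ[PowerSeries R] LaurentSeries R, ψ = ψ :=
    ⟨IsLocalization.algEquiv (Submonoid.powers (ι t)) (Localization.Away (ι t)) (LaurentSeries R),
      rfl⟩
  -- image of a constant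
  have hconst : ∀ r : R, ψ (Localization.awayMap ι t
      (algebraMap B (Localization.Away t) (algebraMap R[X] B (Polynomial.C r)))) =
      HahnSeries.C r := by
    intro r
    have h1 : Localization.awayMap ι t
        (algebraMap B (Localization.Away t) (algebraMap R[X] B (Polynomial.C r))) =
        algebraMap (PowerSeries R) (Localization.Away (ι t))
          (ι (algebraMap R[X] B (Polynomial.C r))) := IsLocalization.map_eq _ _
    rw [h1, AlgEquiv.commutes, hιa, Polynomial.coe_C, LaurentSeries.coe_algebraMap,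
      HahnSeries.ofPowerSeries_C]
  subst ht
  have he' : IsIdempotentElem (Localization.awayMap ι (algebraMap R[X] B X) e) := he.map _
  have heL : IsIdempotentElem (ψ (Localization.awayMap ι (algebraMap R[X] B X) e)) := he'.map _
  obtain ⟨r, ⟨hr, hrC⟩, hruniq⟩ := Groth.Agent.Lib.LaurIdem.main R _ heL
  obtain ⟨e₀, -, he₀uniq⟩ := hcore _ he'
  refine ⟨r, ⟨hr, ?_⟩, ?_⟩
  · have h1 := he₀uniq e ⟨he, rfl⟩
    have h2 := he₀uniq (algebraMap B (Localization.Away (algebraMap R[X] B X))
      (algebraMap R[X] B (Polynomial.C r))) ⟨(hr.map _).map _ |>.map _, ?_⟩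
    · rw [h1, h2]
    · apply ψ.injective
      rw [hconst, hrC]
  · rintro r' ⟨hr', hr'e⟩
    apply hruniq
    refine ⟨hr', ?_⟩
    rw [← hconst, hr'e]

end Groth.Agent.S15768
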