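import Groth.Statements.S1707
import Mathlib
import Groth.Agent.Lib.WeakAssSch_helper4

set_option autoImplicit false
universe u
open CategoryTheory CategoryTheory.Limits AlgebraicGeometry TopologicalSpace
open SDiv

namespace Groth.Agent.S1707

open AlgebraicGeometry CategoryTheory TopologicalSpace Opposite FlatCA
open Groth.Agent.Lib.WeakAss_helper4 Groth.Agent.Lib.QCohLoc_helper4 Groth.Agent.Lib.WeakAssSch_helper4

/-- Let X be a scheme, F a quasi-coherent module and x a point of the support of F such that no other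
point of the support specializes to x. Then x is weakly associated to F. -/
theorem result (X : Scheme.{u}) (F : X.Modules) (hF : Coh.IsQCoh F) (x : ↥X)
    (hx : x ∈ CohB1.support F) (hmax : ∀ y : ↥X, y ∈ CohB1.support F → y ⤳ x → y = x) : Curv2.IsWeakAssPoint F x := by
  haveI : F.IsQuasicoherent := hF
  obtain ⟨U, hU, hxU, -⟩ := (Opens.isBasis_iff_nbhd.mp X.isBasis_affineOpens)
    (show x ∈ (⊤ : X.Opens) from trivial)
  have hloc := locOn_of_isQuasicoherent F hU
  have hnt : Nontrivial (F.presheaf.stalk x) := not_subsingleton_iff_nontrivial.mp hx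
  obtain ⟨z, hz⟩ := exists_ne (0 : F.presheaf.stalk x)
  obtain ⟨g, m, hg, hgm⟩ := hloc.exists_germ_eq_smul hU hxU z
  have hgu : IsUnit (X.presheaf.germ U x hxU g) := (Scheme.mem_basicOpen _ _ _ hxU).mp hg
  have hm0 : F.presheaf.germ U x hxU m ≠ 0 := by
    rw [hgm]; intro h0; exact hz (hgu.smul_eq_zero.mp h0)
  have hle : ann Γ(X, U) m ≤ (hU.primeIdealOf ⟨x, hxU⟩).asIdeal := by
    intro a ha
    by_contra hap
    have hau : IsUnit (X.presheaf.germ U x hxU a) :=
      (Scheme.mem_basicOpen _ _ _ hxU).mp ((notMem_primeIdealOf_iff hU hxU a).mp hap)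
    have : X.presheaf.germ U x hxU a • F.presheaf.germ U x hxU m = 0 := by
      rw [← Groth.Agent.Lib.QCohLoc_helper4.germ_smul, mem_ann.mp ha, map_zero]
    exact hm0 (hau.smul_eq_zero.mp this)
  obtain ⟨q, hq, hqp⟩ := Ideal.exists_minimalPrimes_le hle
  haveI : q.IsPrime := hq.1.1
  obtain ⟨y, hyU, hyq⟩ := exists_point_of_prime hU ⟨q, inferInstance⟩
  have hyx : y ⤳ x := (specializes_iff_primeIdealOf_le hU hxU hyU).mpr (by rw [hyq]; exact hqp)
  have hysupp : y ∈ CohB1.support F := by
    intro hsub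
    have h0 : F.presheaf.germ U y hyU m = 0 := Subsingleton.elim _ _
    obtain ⟨g', hg', hgm'⟩ := hloc.exists_smul_eq_zero_of_germ_eq_zero hU hyU m h0
    have : g' ∉ q := by
      have := (notMem_primeIdealOf_iff hU hyU g').mpr hg'
      rwa [hyq] at this
    exact this (hq.1.2 (mem_ann.mpr hgm'))
  have hyeq : y = x := hmax y hysupp hyx
  have hxy : x ⤳ y := by rw [hyeq]
  have hpq : (hU.primeIdealOf ⟨x, hxU⟩).asIdeal ≤ q := by
    have := (specializes_iff_primeIdealOf_le hU hyU hxU).mp hxy
    rwa [hyq] at this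
  rw [isWeakAssPoint_iff hloc hU hxU, le_antisymm hpq hqp]
  exact ⟨m, hq⟩

end Groth.Agent.S1707
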