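import Groth.Statements.S15770
import Mathlib
-- import your own Groth.Agent.* helpers here

set_option autoImplicit false
universe u
open CAlg


namespace Groth.Agent.S15770

/-- Let B be a topological ring with Bˣ ⊂ B open and M, M' finitely generated projective B-modules, and
endow Hom_B(M, M') with the module topology (the canonical topology of a finite module). Then the
set of surjective B-linear maps M → M' is open. -/
theorem result (B : Type u) [CommRing B] [TopologicalSpace B]
    [IsTopologicalRing B] (hB : IsOpen {b : B | IsUnit b})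
    (M M' : Type u) [AddCommGroup M] [Module B M] [Module.Finite B M] [Module.Projective B M]
    [AddCommGroup M'] [Module B M'] [Module.Finite B M'] [Module.Projective B M']
    [TopologicalSpace (M →ₗ[B] M')] [IsModuleTopology B (M →ₗ[B] M')] :
    IsOpen {f : M →ₗ[B] M' | Function.Surjective f} := by
  classical
  obtain ⟨n, p, hp⟩ := Module.Finite.exists_fin' B M'
  obtain ⟨i, hi⟩ := Module.projective_lifting_property p LinearMap.id hp
  have hpi : ∀ y, p (i y) = y := fun y => by
    have := LinearMap.congr_fun hi y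
    simpa using this
  rw [isOpen_iff_mem_nhds]
  intro f₀ hf₀
  obtain ⟨s₀, hs₀⟩ := Module.projective_lifting_property f₀ LinearMap.id hf₀
  have hfs : ∀ y, f₀ (s₀ y) = y := fun y => by
    have := LinearMap.congr_fun hs₀ y
    simpa using this
  let Λ : (M →ₗ[B] M') →ₗ[B] Matrix (Fin n) (Fin n) B :=
    { toFun := fun f => LinearMap.toMatrix' (i ∘ₗ f ∘ₗ s₀ ∘ₗ p)
      map_add' := by
        intro f g
        rw [← map_add]
        congr 1
        apply LinearMap.ext; intro v; simp
      map_smul' := by
        intro c f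
        rw [RingHom.id_apply, ← map_smul]
        congr 1
        apply LinearMap.ext; intro v; simp }
  have hΛc : Continuous Λ := IsModuleTopology.continuous_of_linearMap Λ
  let K : Matrix (Fin n) (Fin n) B := 1 - LinearMap.toMatrix' (i ∘ₗ p)
  let Θ : (M →ₗ[B] M') → B := fun f => (Λ f + K).det
  have hΘc : Continuous Θ := (hΛc.add continuous_const).matrix_det
  let W : Set (M →ₗ[B] M') := Θ ⁻¹' {b | IsUnit b}
  have hWo : IsOpen W := hB.preimage hΘc
  have hf₀W : f₀ ∈ W := by
    have h1 : Λ f₀ + K = 1 := by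
      show LinearMap.toMatrix' (i ∘ₗ f₀ ∘ₗ s₀ ∘ₗ p) + (1 - LinearMap.toMatrix' (i ∘ₗ p)) = 1
      have h2 : i ∘ₗ f₀ ∘ₗ s₀ ∘ₗ p = i ∘ₗ p := by
        apply LinearMap.ext; intro v; simp [hfs]
      rw [h2]; abel
    show IsUnit ((Λ f₀ + K).det)
    rw [h1, Matrix.det_one]; exact isUnit_one
  refine Filter.mem_of_superset (hWo.mem_nhds hf₀W) ?_
  intro f hf
  have hU : IsUnit (Λ f + K) := (Matrix.isUnit_iff_isUnit_det _).mpr hf
  have hsurj : Function.Surjective (Λ f + K).mulVec := Matrix.mulVec_surjective_iff_isUnit.mpr hU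
  intro y
  obtain ⟨v, hv⟩ := hsurj (i y)
  refine ⟨s₀ (p v), ?_⟩
  have h1 : (Λ f + K).mulVec v = i (f (s₀ (p v))) + (v - i (p v)) := by
    rw [Matrix.add_mulVec]
    show (LinearMap.toMatrix' (i ∘ₗ f ∘ₗ s₀ ∘ₗ p)).mulVec v +
      (1 - LinearMap.toMatrix' (i ∘ₗ p)).mulVec v = _
    rw [LinearMap.toMatrix'_mulVec, Matrix.sub_mulVec, Matrix.one_mulVec,
      LinearMap.toMatrix'_mulVec]
    rfl
  have h2 := congrArg p hv
  rw [h1, map_add, map_sub, hpi, hpi, sub_self, add_zero, hpi] at h2
  exact h2

end Groth.Agent.S15770
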