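import Groth.Statements.S15771
import Mathlib

set_option autoImplicit false
universe u
open TensorProduct
open CAlg

namespace Groth.Agent.S15771

/-- For a ring map B₀ → B with dense image into a topological ring B, a finitely generated B₀-module M₀
and any topological B-module structure on M = B ⊗_{B₀} M₀, the natural map M₀ → M has dense image. -/
theorem result (B₀ B : Type u) [CommRing B₀] [CommRing B] [Algebra B₀ B]
    [TopologicalSpace B] [IsTopologicalRing B] (hφ : DenseRange (algebraMap B₀ B))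
    (M₀ : Type u) [AddCommGroup M₀] [Module B₀ M₀] [Module.Finite B₀ M₀]
    [TopologicalSpace (B ⊗[B₀] M₀)] [IsTopologicalAddGroup (B ⊗[B₀] M₀)] [ContinuousSMul B (B ⊗[B₀] M₀)] :
    DenseRange (fun m : M₀ => (1 : B) ⊗ₜ[B₀] m) := by
  classical
  have hsmul : ∀ b : B, ∀ z ∈ closure (Set.range (fun m : M₀ => (1 : B) ⊗ₜ[B₀] m)),
      b • z ∈ closure (Set.range (fun m : M₀ => (1 : B) ⊗ₜ[B₀] m)) := by
    intro b z hz
    have hb : b ∈ closure (Set.range (algebraMap B₀ B)) := hφ b
    refine map_mem_closure₂ (f := fun (b : B) (z : B ⊗[B₀] M₀) => b • z) continuous_smul hb hz ?_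
    rintro _ ⟨c, rfl⟩ _ ⟨m, rfl⟩
    refine ⟨c • m, ?_⟩
    simp only
    rw [TensorProduct.smul_tmul', smul_eq_mul, mul_one, Algebra.algebraMap_eq_smul_one,
      TensorProduct.smul_tmul]
  have hadd : ∀ x ∈ closure (Set.range (fun m : M₀ => (1 : B) ⊗ₜ[B₀] m)),
      ∀ y ∈ closure (Set.range (fun m : M₀ => (1 : B) ⊗ₜ[B₀] m)),
      x + y ∈ closure (Set.range (fun m : M₀ => (1 : B) ⊗ₜ[B₀] m)) := by
    intro x hx y hy
    refine map_mem_closure₂ (f := fun (x y : B ⊗[B₀] M₀) => x + y) continuous_add hx hy ?_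
    rintro _ ⟨m, rfl⟩ _ ⟨m', rfl⟩
    exact ⟨m + m', by simp [TensorProduct.tmul_add]⟩
  intro z
  induction z using TensorProduct.induction_on with
  | zero => exact subset_closure ⟨0, by simp⟩
  | tmul b m =>
    have h1 : b ⊗ₜ[B₀] m = b • ((1 : B) ⊗ₜ[B₀] m) := by
      rw [TensorProduct.smul_tmul', smul_eq_mul, mul_one]
    rw [h1]
    exact hsmul b _ (subset_closure ⟨m, rfl⟩)
  | add x y hx hy => exact hadd x hx y hy

end Groth.Agent.S15771
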