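import Groth.Statements.S1578
import Mathlib
import Groth.Agent.Lib.WeakAssSch5_helper4

set_option autoImplicit false
universe u
open CategoryTheory CategoryTheory.Limits AlgebraicGeometry
open Divisors

namespace Groth.Agent.S1578

open FlatCA
open Groth.Agent.Lib.WeakAss_helper4 Groth.Agent.Lib.WeakAssSch3_helper4 Groth.Agent.Lib.WeakAssSch5_helper4

theorem colon_eq_ann {A : Type*} [CommRing A] {M : Type*} [AddCommGroup M] [Module A M] (y : M) :
    Submodule.colon (⊥ : Submodule A M) {y} = ann A y := by
  ext r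
  rw [Submodule.mem_colon_singleton, Submodule.mem_bot, mem_ann]

/-- Let M be a module over a ring A, F the associated quasi-coherent module on Spec A, and p a prime of
A. If p is an associated prime of M then p is an associated point of F; the converse holds when p is
finitely generated. -/
theorem result (A : CommRingCat.{u}) (M : ModuleCat.{u} A)
    (p : Spec A) :
    (p.asIdeal ∈ associatedPrimes A M → Curv2.IsAssPoint (tilde M) p) ∧
    (p.asIdeal.FG → Curv2.IsAssPoint (tilde M) p → p.asIdeal ∈ associatedPrimes A M) := by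
  constructor
  · rintro ⟨hpprime, x, hx⟩
    apply (isAssPoint_iff_isWeakAssPoint (tilde M) p).mpr
    apply (mem_weakAss_iff_isWeakAssPoint_tilde A M p).mp
    refine ⟨x, ?_⟩
    show p.asIdeal ∈ (ann A x).minimalPrimes
    rw [← colon_eq_ann, ← Ideal.radical_minimalPrimes, ← hx,
      Ideal.minimalPrimes_eq_subsingleton_self]
    exact Set.mem_singleton _
  · intro hfg hass
    classical
    have hw := (mem_weakAss_iff_isWeakAssPoint_tilde A M p).mpr
      ((isAssPoint_iff_isWeakAssPoint (tilde M) p).mp hass)
    obtain ⟨m, hm⟩ := hw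
    have hpprime : p.asIdeal.IsPrime := p.isPrime
    obtain ⟨G, hG⟩ := hfg
    have hGp : ∀ g ∈ G, g ∈ p.asIdeal := fun g hg => hG ▸ Ideal.subset_span hg
    have key : ∀ g ∈ G, ∃ t : A, ∃ n : ℕ, t ∉ p.asIdeal ∧ t * g ^ n ∈ ann A m := by
      intro g hg
      obtain ⟨t, ht, n, htn⟩ := exists_mul_pow_mem hm (hGp g hg)
      exact ⟨t, n, ht, htn⟩
    choose! t n ht htn using key
    set s : A := ∏ g ∈ G, t g with hs
    have hsp : s ∉ p.asIdeal := by
      intro h
      obtain ⟨g, hg, htg⟩ := (Ideal.IsPrime.prod_mem_iff (hp := hpprime)).mp h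
      exact ht g hg htg
    have hannle : ann A (s • m) ≤ p.asIdeal := by
      intro a ha
      rw [mem_ann, smul_smul] at ha
      have h1 : a * s ∈ p.asIdeal := hm.1.2 (mem_ann.mpr ha)
      exact (hpprime.mem_or_mem h1).resolve_right hsp
    refine ⟨hpprime, s • m, ?_⟩
    rw [colon_eq_ann]
    apply le_antisymm
    · rw [← hG, Ideal.span_le]
      intro g hg
      refine ⟨n g, ?_⟩
      rw [mem_ann, smul_smul]
      obtain ⟨c, hc⟩ : t g ∣ s := Finset.dvd_prod_of_mem t hg
      have h2 : g ^ n g * s = c * (t g * g ^ n g) := by rw [hc]; ring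
      rw [h2, mul_smul, mem_ann.mp (htn g hg), smul_zero]
    · exact (hpprime.radical_le_iff).mpr hannle

end Groth.Agent.S1578
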