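import Groth.Statements.S15784
import Mathlib
-- import your own Groth.Agent.* helpers here

set_option autoImplicit false
universe u
open Neron


namespace Groth.Agent.S15784

/-- Let O be a discrete valuation ring with fraction field L and uniformizer ϖ', let ϖ be an element of
the maximal ideal of O, let q = u·ϖ'^n with u a unit of O and n ≥ 1, and let m ≥ 1 be a divisor of
n. Then the following are equivalent: (i) there is a nonzero element z = w·ϖ'^a of L, with w a unit
of O and a an integer congruent to n/m modulo n, and an integer j such that z^m·q^j lies in 1 + ϖO;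
(ii) ϖ'^n/q is an m-th power in the group of units of O/ϖO, that is, u·(y^m + ϖ·r) = 1 for some y, r
∈ O. (The published statement phrases (i) geometrically, as the existence of a point of order m in
the special fibre of the Néron model of the Weil restriction of the Tate curve with parameter q from
L down to a subfield over which L is totally ramified with ϖ a uniformizer of the subfield, whose
image in the component group also has order m; this row states the equivalence between (i) and (ii)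
that the printed argument establishes.) -/
theorem result
    (O : Type u) [CommRing O] [IsDomain O] [IsDiscreteValuationRing O]
    (L : Type u) [Field L] [Algebra O L] [IsFractionRing O L]
    (ϖ' : O) (hϖ' : Irreducible ϖ') (ϖ : O) (hϖ : ϖ ∈ IsLocalRing.maximalIdeal O)
    (n : ℕ) (hn : 1 ≤ n) (u : Oˣ) (q : O) (hq : q = u * ϖ' ^ n)
    (m : ℕ) (hm : 1 ≤ m) (hmn : m ∣ n) :
    (∃ (w : Oˣ) (a j t : ℤ) (r : O), a = (n / m : ℕ) + t * n ∧
        (algebraMap O L w * algebraMap O L ϖ' ^ a) ^ m * algebraMap O L q ^ j = algebraMap O L (1 + ϖ * r)) ↔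
      ∃ y r : O, (u : O) * (y ^ m + ϖ * r) = 1 := by
  classical
  set φ := algebraMap O L with hφ
  have hφinj : Function.Injective φ := IsFractionRing.injective O L
  have hϖ'0 : ϖ' ≠ 0 := hϖ'.ne_zero
  have hpne : φ ϖ' ≠ 0 := fun h => hϖ'0 (hφinj (by rw [h, map_zero]))
  have hnotunit : ¬ IsUnit ϖ' := hϖ'.not_isUnit
  have hone_add : ∀ x ∈ IsLocalRing.maximalIdeal O, IsUnit (1 + x) := by
    intro x hx
    by_contra hnu
    have h1 : (1 + x) ∈ IsLocalRing.maximalIdeal O := (IsLocalRing.mem_maximalIdeal _).mpr hnu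
    have h2 : (1 : O) ∈ IsLocalRing.maximalIdeal O := by
      have := Ideal.sub_mem _ h1 hx
      simpa using this
    exact (Ideal.ne_top_iff_one _).mp (IsLocalRing.maximalIdeal.isMaximal O).ne_top h2
  have hdiv : ((n / m : ℕ) : ℤ) * (m : ℤ) = n := by exact_mod_cast Nat.div_mul_cancel hmn
  constructor
  · rintro ⟨w, a, j, t, r, ha, hE⟩
    obtain ⟨C, hC⟩ := hone_add (ϖ * r) (Ideal.mul_mem_right _ _ hϖ)
    let U : Oˣ →* Lˣ := Units.map (φ : O →* L)
    have hUinj : Function.Injective U := Units.map_injective hφinj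
    let pL : Lˣ := Units.mk0 (φ ϖ') hpne
    have hEL : (U w * pL ^ a) ^ m * (U u * pL ^ n) ^ j = U C := by
      apply Units.ext
      simp only [Units.val_mul, Units.val_pow_eq_pow_val, Units.val_zpow_eq_zpow_val]
      show (φ ↑w * φ ϖ' ^ a) ^ m * (φ ↑u * φ ϖ' ^ n) ^ j = φ ↑C
      rw [hq, map_mul, map_pow] at hE
      rw [hC]; exact hE
    have e1 : (U w * pL ^ a) ^ m = U w ^ m * pL ^ (a * m) := by
      rw [mul_pow, ← zpow_natCast (pL ^ a) m, ← zpow_mul]
    have e2 : (U u * pL ^ n) ^ j = U u ^ j * pL ^ ((n : ℤ) * j) := by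
      rw [mul_zpow, ← zpow_natCast pL n, ← zpow_mul]
    rw [e1, e2] at hEL
    have h : pL ^ (a * m + n * j) * U u ^ j * U w ^ m = U C := by
      rw [← hEL, zpow_add]; ac_rfl
    have key : ∀ (k : ℤ) (v : Oˣ), pL ^ k = U v → k = 0 := by
      intro k v hk
      have hk' : φ ϖ' ^ k = φ v := by
        have := congrArg Units.val hk
        rw [Units.val_zpow_eq_zpow_val] at this
        exact this
      rcases k with (N | N)
      · rcases Nat.eq_zero_or_pos N with h0 | hpos
        · simp [h0]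
        · exfalso
          have h1 : ϖ' ^ N = v := hφinj (by
            rw [map_pow]
            rw [Int.ofNat_eq_natCast, zpow_natCast] at hk'
            exact hk')
          have h2 : IsUnit (ϖ' ^ N) := h1 ▸ v.isUnit
          exact hnotunit ((isUnit_pow_iff hpos.ne').mp h2)
      · exfalso
        rw [zpow_negSucc] at hk'
        have h1 : φ ϖ' ^ (N + 1) * φ v = 1 := by
          rw [← hk', mul_inv_cancel₀ (pow_ne_zero _ hpne)]
        have h2 : ϖ' ^ (N + 1) * v = 1 := hφinj (by rw [map_mul, map_pow, h1, map_one])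
        have h3 : IsUnit (ϖ' ^ (N + 1)) := IsUnit.of_mul_eq_one _ h2
        exact hnotunit ((isUnit_pow_iff (Nat.succ_ne_zero N)).mp h3)
    have hk0 : a * m + n * j = 0 := by
      apply key _ (C * (w ^ m)⁻¹ * (u ^ j)⁻¹)
      have h' := eq_mul_inv_of_mul_eq (eq_mul_inv_of_mul_eq h)
      rw [h']
      simp only [map_mul, map_inv, map_pow, map_zpow]
    rw [hk0, zpow_zero, one_mul] at h
    have hOu : u ^ j * w ^ m = C := hUinj (by
      simp only [map_mul, map_pow, map_zpow]; exact h)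
    have hn0 : (n : ℤ) ≠ 0 := by exact_mod_cast (by omega : n ≠ 0)
    have hj : 1 + t * m + j = 0 := by
      have : (n : ℤ) * (1 + t * m + j) = 0 := by
        rw [ha] at hk0
        linear_combination hk0 - hdiv
      rcases mul_eq_zero.mp this with h0 | h0
      · exact absurd h0 hn0
      · exact h0
    have hy0 : (w * u ^ (-t)) ^ m = C * u := by
      rw [mul_pow, ← zpow_natCast (u ^ (-t)) m, ← zpow_mul, ← hOu]
      have : -t * (m : ℤ) = j + 1 := by linarith
      rw [this, zpow_add, zpow_one]; ac_rfl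
    refine ⟨((w * u ^ (-t))⁻¹ : Oˣ), ↑u⁻¹ * r * ↑C⁻¹, ?_⟩
    have hy : (((w * u ^ (-t))⁻¹ : Oˣ) : O) ^ m = (↑(C⁻¹) : O) * ↑(u⁻¹) := by
      rw [← Units.val_pow_eq_pow_val, inv_pow, hy0, mul_inv, Units.val_mul]
    rw [hy]
    calc (↑u : O) * (↑C⁻¹ * ↑u⁻¹ + ϖ * (↑u⁻¹ * r * ↑C⁻¹))
        = (↑u * ↑u⁻¹) * (↑C⁻¹ * (1 + ϖ * r)) := by ring
      _ = 1 := by rw [Units.mul_inv, one_mul, ← hC, Units.inv_mul]
  · rintro ⟨y, r, hyr⟩
    have hsum : IsUnit (y ^ m + ϖ * r) :=
      IsUnit.of_mul_eq_one (↑u) (by rw [mul_comm]; exact hyr)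
    have hym : IsUnit (y ^ m) := by
      by_contra hnu
      have h1 : y ^ m ∈ IsLocalRing.maximalIdeal O := (IsLocalRing.mem_maximalIdeal _).mpr hnu
      have h2 : y ^ m + ϖ * r ∈ IsLocalRing.maximalIdeal O :=
        Ideal.add_mem _ h1 (Ideal.mul_mem_right _ _ hϖ)
      exact ((IsLocalRing.mem_maximalIdeal _).mp h2) hsum
    have hyu : IsUnit y := (isUnit_pow_iff (by omega : m ≠ 0)).mp hym
    obtain ⟨Y, rfl⟩ := hyu
    refine ⟨Y⁻¹, ((n / m : ℕ) : ℤ), -1, 0, r * (↑(Y⁻¹) : O) ^ m, by simp, ?_⟩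
    have hu0 : φ ↑u ≠ 0 := (u.isUnit.map φ).ne_zero
    have hpn : φ ϖ' ^ n ≠ 0 := pow_ne_zero _ hpne
    rw [zpow_natCast, zpow_neg_one, mul_pow, ← pow_mul, Nat.div_mul_cancel hmn, hq, map_mul,
      map_pow]
    have hsimp : φ ↑Y⁻¹ ^ m * φ ϖ' ^ n * (φ ↑u * φ ϖ' ^ n)⁻¹ = φ ↑Y⁻¹ ^ m / φ ↑u := by
      field_simp
    rw [hsimp, div_eq_iff hu0, ← map_pow, ← map_mul]
    congr 1
    have zy : (↑(Y⁻¹) : O) ^ m * (↑Y : O) ^ m = 1 := by
      rw [← mul_pow, Units.inv_mul, one_pow]
    linear_combination (-(↑(Y⁻¹) : O) ^ m) * hyr + (↑u : O) * zy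

end Groth.Agent.S15784
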