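import Groth.Statements.S15796
import Mathlib
-- import your own Groth.Agent.* helpers here

set_option autoImplicit false
universe u v
open WildQuot


namespace Groth.Agent.S15796

/-- Let `A` be a Noetherian local ring of Krull dimension `n` whose maximal ideal `m` is generated by
`u_1, …, u_n`, and let a finite group `G` act on `A` by ring automorphisms. If some `σ ∈ G` maps
some `u_i` into the ideal generated by the `u_j` with `j ≠ i`, then the system `u` is not weakly
admissible: for some choice `σ_1, …, σ_n ∈ G` the radical of `(σ_1 u_1, …, σ_n u_n)` does not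
contain `m`. (The published statement is for a linear action on `k[[u_1, …, u_n]]` whose matrix has
a zero diagonal entry; this row assumes instead that some `σ u_i` lies in the ideal generated by the
other `u_j`.) -/
theorem result
    (A : Type u) [CommRing A] [IsLocalRing A] [IsNoetherianRing A]
    (G : Type v) [Group G] [Finite G] [MulSemiringAction G A]
    (n : ℕ) (hn : ringKrullDim A = n) (u : Fin n → A)
    (hu : Ideal.span (Set.range u) = IsLocalRing.maximalIdeal A)
    (σ : G) (i : Fin n) (hσ : σ • u i ∈ Ideal.span (u '' {j | j ≠ i})) :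
    ∃ τ : Fin n → G,
      ¬ IsLocalRing.maximalIdeal A ≤ (Ideal.span (Set.range fun j => τ j • u j)).radical := by
  classical
  refine ⟨fun j => if j = i then σ else 1, ?_⟩
  intro hle
  set S : Set A := u '' {j | j ≠ i} with hS
  have hsub : Ideal.span (Set.range fun j => (if j = i then σ else 1) • u j) ≤ Ideal.span S := by
    rw [Ideal.span_le]
    rintro _ ⟨j, rfl⟩
    by_cases hj : j = i
    · subst hj; simpa using hσ
    · simp only [if_neg hj, one_smul]
      exact Ideal.subset_span ⟨j, hj, rfl⟩
  have hm : IsLocalRing.maximalIdeal A ≤ (Ideal.span S).radical :=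
    hle.trans (Ideal.radical_mono hsub)
  have hSm : Ideal.span S ≤ IsLocalRing.maximalIdeal A := by
    rw [← hu]; apply Ideal.span_mono; rintro _ ⟨j, _, rfl⟩; exact ⟨j, rfl⟩
  have hmin : IsLocalRing.maximalIdeal A ∈ (Ideal.span S).minimalPrimes := by
    refine ⟨⟨inferInstance, hSm⟩, ?_⟩
    rintro q ⟨hq, hSq⟩ _
    exact hm.trans (hq.radical_le_iff.mpr hSq)
  have hfin : S.Finite := (Set.toFinite _).image _
  have hht := Ideal.height_le_card_of_mem_minimalPrimes_span hfin hmin
  have hcard : S.ncard ≤ n - 1 := by
    calc S.ncard ≤ ({j | j ≠ i} : Set (Fin n)).ncard := Set.ncard_image_le (Set.toFinite _)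
      _ = n - 1 := by
        have : ({j | j ≠ i} : Set (Fin n)) = {i}ᶜ := by ext; simp
        rw [this, Set.ncard_compl, Set.ncard_singleton, Nat.card_eq_fintype_card, Fintype.card_fin]
  have hdim : (IsLocalRing.maximalIdeal A).height = (n : ℕ∞) := by
    have := IsLocalRing.maximalIdeal_height_eq_ringKrullDim (R := A)
    rw [hn] at this
    exact_mod_cast this
  have hpos : 0 < n := i.pos
  rw [hdim] at hht
  have h1 : (n : ℕ∞) ≤ ((n - 1 : ℕ) : ℕ∞) := hht.trans (by exact_mod_cast hcard)
  have h2 : n ≤ n - 1 := by exact_mod_cast h1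
  omega

end Groth.Agent.S15796
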