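import Groth.Statements.S15804
import Groth.Agent.Lib.NormalDim2_helper3
-- import your own Groth.Agent.* helpers here

set_option autoImplicit false
universe u v w
open WildQuot


namespace Groth.Agent.S15804

/-- Let `R` be a regular local ring and `A` a normal local domain, finite over `R` (with `R → A`
injective) and with the same residue field; let a finite group `H` act faithfully on `A` by
`R`-algebra automorphisms with ring of invariants exactly `R` (so `Frac(A)/Frac(R)` is Galois with
group `H`); assume `A` has Krull dimension `2`, `H` has order `p ^ 2` for a prime `p`, and `Γ ≤ H`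
is a subgroup of order `p` whose intersection with the inertia subgroup of every non-maximal prime
of `A` is trivial (the action of `Γ` is ramified precisely at the origin). Then every nontrivial
inertia subgroup of a height-one prime of `A` has order `p`, and `H` is commutative with every
element satisfying `h ^ p = 1`, i.e. elementary abelian of order `p ^ 2`. (The published statement
is for `A` a complete regular local ring with an action ramified precisely at the origin, `R =
k[[x_1, …, x_n]]` a norm subring and `H` the Galois group of `Frac(A)/Frac(R)`, when that extension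
is Galois; this row assumes only the hypotheses listed above.) -/
theorem result
    (p : ℕ) [Fact p.Prime] (R : Type u) [CommRing R] [IsRegularLocalRing R]
    (A : Type v) [CommRing A] [IsDomain A] [IsIntegrallyClosed A] [IsLocalRing A]
    [Algebra R A] [Module.Finite R A] (hinj : Function.Injective (algebraMap R A))
    (hres : Function.Surjective (IsLocalRing.residue A ∘ algebraMap R A))
    (H : Type w) [Group H] [Finite H] [MulSemiringAction H A] [SMulCommClass H R A] [FaithfulSMul H A]
    (hfix : ∀ a : A, (∀ h : H, h • a = a) → a ∈ Set.range (algebraMap R A))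
    (hdim : ringKrullDim A = 2) (hcard : Nat.card H = p ^ 2)
    (Γ : Subgroup H) (hΓ : Nat.card Γ = p)
    (hram : ∀ P : Ideal A, P.IsPrime → P ≠ IsLocalRing.maximalIdeal A → P.inertia H ⊓ Γ = ⊥) :
    (∀ P : Ideal A, P.IsPrime → P.height = 1 → P.inertia H ≠ ⊥ → Nat.card (P.inertia H) = p) ∧
      (∀ g h : H, g * h = h * g) ∧ ∀ h : H, h ^ p = 1 := by
  classical
  cases nonempty_fintype H
  haveI : FaithfulSMul R A := (faithfulSMul_iff_algebraMap_injective R A).2 hinj
  have hp := (Fact.out : p.Prime)
  have hne_of_height : ∀ P : Ideal A, P.IsPrime → P.height = 1 →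
      P ≠ IsLocalRing.maximalIdeal A := by
    intro P hP hht h
    have h1 : ((IsLocalRing.maximalIdeal A).height : WithBot ℕ∞) = ringKrullDim A :=
      IsLocalRing.maximalIdeal_height_eq_ringKrullDim
    rw [← h, hht, hdim] at h1
    exact absurd h1 (by norm_num)
  have hΓne : Γ ≠ ⊥ := by
    intro h
    rw [h, Subgroup.card_bot] at hΓ
    exact hp.one_lt.ne hΓ
  refine ⟨?_, ?_, ?_⟩
  · intro P hP hht hI
    have hdvd : Nat.card (P.inertia H) ∣ p ^ 2 := hcard ▸ Subgroup.card_subgroup_dvd_card _
    obtain ⟨k, hk, hk'⟩ := (Nat.dvd_prime_pow hp).1 hdvd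
    interval_cases k
    · exfalso
      rw [pow_zero] at hk'
      exact hI (Subgroup.eq_bot_of_card_eq _ hk')
    · rw [pow_one] at hk'
      exact hk'
    · exfalso
      have htop : P.inertia H = ⊤ := Subgroup.eq_top_of_card_eq _ (by rw [hk', hcard])
      have := hram P hP (hne_of_height P hP hht)
      rw [htop, top_inf_eq] at this
      exact hΓne this
  · exact IsPGroup.commutative_of_card_eq_prime_sq hcard
  · by_contra hcon
    push_neg at hcon
    obtain ⟨h, hh⟩ := hcon
    have hin : ∀ P : Ideal A, P.IsPrime → P ≠ IsLocalRing.maximalIdeal A → ∀ τ : H, τ ≠ 1 →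
        ∃ a : A, τ • a - a ∉ P := by
      intro P hP hPm τ hτ
      by_contra hc
      push_neg at hc
      have hmem : τ ∈ P.inertia H := fun a => hc a
      rw [Groth.Agent.Lib.NormalDim2H3.subgroup_eq_bot_of_cyclic p hcard Γ hΓ h hh _
        (hram P hP hPm)] at hmem
      exact hτ (Subgroup.mem_bot.1 hmem)
    have htr : ∀ s : A, ∃ r : R, algebraMap R A r = ∑ τ : H, τ • s := by
      intro s
      obtain ⟨r, hr⟩ := hfix (∑ τ : H, τ • s) (fun g => by
        rw [Finset.smul_sum]
        refine (Fintype.sum_equiv (Equiv.mulLeft g) _ _ (fun τ => ?_)).trans rfl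
        show g • τ • s = (g * τ) • s
        rw [mul_smul])
      exact ⟨r, hr⟩
    haveI : Module.Flat R A :=
      Groth.Agent.Lib.NormalDim2H3.flat_of_finite_normal R A hinj hdim.le
    have hdimR : (2 : WithBot ℕ∞) ≤ ringKrullDim R := by
      rw [← Groth.Agent.IntegralHeight.ringKrullDim_eq_of_isIntegral_of_injective R A hinj, hdim]
    have hsurj := Groth.Agent.Lib.NormalDim2H3.algebraMap_surjective_of_trivial_inertia R A hres
      hdimR H htr hin
    have hall : ∀ a : A, h • a = a := by
      intro a
      obtain ⟨b, rfl⟩ := hsurj a
      rw [Algebra.algebraMap_eq_smul_one, smul_comm, smul_one]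
    have h1 : h = 1 := FaithfulSMul.eq_of_smul_eq_smul (α := A) (fun a => by rw [hall a, one_smul])
    exact hh (by rw [h1, one_pow])

end Groth.Agent.S15804
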