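import Groth.Statements.S1581
import Mathlib

set_option autoImplicit false
universe u
open CategoryTheory CategoryTheory.Limits AlgebraicGeometry
open Variety

namespace Groth.Agent.S1581

/-- Let X be a scheme over a field k and K a field extension of k. If X_K is proper over K then X is
proper over k. -/
theorem result (k : Type u) [Field k] (X : Scheme.{u}) [X.Over (Spec (CommRingCat.of k))] (K : Type u) [Field K] [Algebra k K]
    [IsProper (Curv2.bcSnd k X K)] : IsProper (X ↘ (Spec (CommRingCat.of k))) := by
  have hq : (@Surjective ⊓ @Flat ⊓ @QuasiCompact : MorphismProperty Scheme.{u})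
      (Spec.map (CommRingCat.ofHom (algebraMap k K))) := by
    refine ⟨⟨?_, ?_⟩, inferInstance⟩
    · constructor
      intro y
      exact ⟨IsLocalRing.closedPoint K, Subsingleton.elim _ _⟩
    · rw [HasRingHomProperty.Spec_iff (P := @Flat)]
      exact RingHom.flat_algebraMap_iff.mpr inferInstance
  have hP : IsProper (pullback.snd (X ↘ Spec (CommRingCat.of k))
      (Spec.map (CommRingCat.ofHom (algebraMap k K)))) := ‹_›
  have h1 : UniversallyClosed (X ↘ Spec (CommRingCat.of k)) :=
    MorphismProperty.of_pullback_snd_of_descendsAlong (P := @UniversallyClosed)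
      (Q := @Surjective ⊓ @Flat ⊓ @QuasiCompact) hq inferInstance
  have h2 : LocallyOfFiniteType (X ↘ Spec (CommRingCat.of k)) :=
    MorphismProperty.of_pullback_snd_of_descendsAlong (P := @LocallyOfFiniteType)
      (Q := @Surjective ⊓ @Flat ⊓ @QuasiCompact) hq inferInstance
  have h3 : (MorphismProperty.diagonal @UniversallyClosed) (X ↘ Spec (CommRingCat.of k)) :=
    MorphismProperty.of_pullback_snd_of_descendsAlong
      (P := MorphismProperty.diagonal @UniversallyClosed)
      (Q := @Surjective ⊓ @Flat ⊓ @QuasiCompact) hq
      (show UniversallyClosed (pullback.diagonal (pullback.snd (X ↘ Spec (CommRingCat.of k))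
        (Spec.map (CommRingCat.ofHom (algebraMap k K))))) from inferInstance)
  have h3' : UniversallyClosed (pullback.diagonal (X ↘ Spec (CommRingCat.of k))) := h3
  have h4 : IsSeparated (X ↘ Spec (CommRingCat.of k)) := by
    constructor
    exact IsClosedImmersion.of_isPreimmersion _
      (pullback.diagonal (X ↘ Spec (CommRingCat.of k))).isClosedMap.isClosed_range
  exact { }

end Groth.Agent.S1581
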