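import Groth.Statements.S15811
import Mathlib

set_option autoImplicit false
universe u
open WildQuot

namespace Groth.Agent.S15811

/-- Let `R` be an integrally closed domain of prime characteristic `p` with fraction field `K`, and `α ∈
R`. Then `α ≠ 0` and the polynomial `T ^ p - α T` splits into linear factors over `K` — which says
that the finite flat group scheme `Spec R[T]/(T ^ p - α T)` of order `p` has constant generic fibre
(its `p` roots are then distinct) — if and only if `α = a ^ (p-1)` for some nonzero `a ∈ R`. (The
published statement is that the generic fibre of the finite flat group scheme of order `p` with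
parameters `α, β` satisfying `α β = 0`, whose underlying scheme is `Spec R[T]/(T ^ p - α T)`, is
constant if and only if `β = 0` and `α` is the `(p-1)`-th power of a nonzero element of `R`; this
row states the polynomial condition, in which `α ≠ 0` already forces `β = 0` over a domain.) -/
theorem result
    (p : ℕ) [Fact p.Prime] (R : Type u) [CommRing R] [IsDomain R] [IsIntegrallyClosed R]
    [CharP R p] (α : R) :
    (α ≠ 0 ∧ (Polynomial.map (algebraMap R (FractionRing R))
        (Polynomial.X ^ p - Polynomial.C α * Polynomial.X)).Splits) ↔
      ∃ a : R, a ≠ 0 ∧ α = a ^ (p - 1) := by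
  classical
  have hp : p.Prime := Fact.out
  have hp2 : 2 ≤ p := hp.two_le
  haveI : CharP (FractionRing R) p :=
    charP_of_injective_algebraMap (IsFractionRing.injective R (FractionRing R)) p
  haveI : ExpChar (FractionRing R) p := ExpChar.prime hp
  constructor
  · rintro ⟨hα, hs⟩
    have hmap : Polynomial.map (algebraMap R (FractionRing R))
        (Polynomial.X ^ p - Polynomial.C α * Polynomial.X) =
        Polynomial.X * (Polynomial.X ^ (p-1) - Polynomial.C (algebraMap R (FractionRing R) α)) := by
      have hpp : p = (p - 1) + 1 := by omega
      conv_lhs => rw [hpp]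
      simp only [Polynomial.map_sub, Polynomial.map_pow, Polynomial.map_X, Polynomial.map_mul,
        Polynomial.map_C]
      ring
    rw [hmap, Polynomial.splits_X_mul] at hs
    have hdeg : (Polynomial.X ^ (p-1) - Polynomial.C (algebraMap R (FractionRing R) α) :
        Polynomial (FractionRing R)).degree ≠ 0 := by
      rw [Polynomial.degree_X_pow_sub_C (by omega : 0 < p - 1)]
      exact_mod_cast (by omega : p - 1 ≠ 0)
    obtain ⟨b, hb⟩ := hs.exists_eval_eq_zero hdeg
    simp only [Polynomial.eval_sub, Polynomial.eval_pow, Polynomial.eval_X,
      Polynomial.eval_C] at hb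
    have hbα : b ^ (p-1) = algebraMap R (FractionRing R) α := sub_eq_zero.mp hb
    have hint : IsIntegral R b := by
      refine ⟨Polynomial.X ^ (p-1) - Polynomial.C α,
        Polynomial.monic_X_pow_sub_C α (by omega), ?_⟩
      simp [Polynomial.eval₂_sub, hbα]
    obtain ⟨a, ha⟩ := IsIntegrallyClosed.isIntegral_iff.mp hint
    refine ⟨a, ?_, ?_⟩
    · rintro rfl
      rw [map_zero] at ha
      rw [← ha, zero_pow (by omega)] at hbα
      exact hα ((map_eq_zero_iff _ (IsFractionRing.injective R (FractionRing R))).mp hbα.symm)
    · apply IsFractionRing.injective R (FractionRing R)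
      rw [map_pow, ha, hbα]
  · rintro ⟨a, ha, rfl⟩
    refine ⟨pow_ne_zero _ ha, ?_⟩
    have hfeq : Polynomial.map (algebraMap R (FractionRing R))
        (Polynomial.X ^ p - Polynomial.C (a ^ (p-1)) * Polynomial.X) =
        Polynomial.X ^ p - Polynomial.C ((algebraMap R (FractionRing R) a) ^ (p-1)) *
          Polynomial.X := by
      simp only [Polynomial.map_sub, Polynomial.map_pow, Polynomial.map_X, Polynomial.map_mul,
        Polynomial.map_C, map_pow]
    rw [hfeq]
    generalize hbdef : algebraMap R (FractionRing R) a = b
    have hb : b ≠ 0 := by
      rw [← hbdef]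
      exact (map_ne_zero_iff _ (IsFractionRing.injective R (FractionRing R))).mpr ha
    have hdeg : (Polynomial.X ^ p - Polynomial.C (b ^ (p-1)) * Polynomial.X :
        Polynomial (FractionRing R)).natDegree ≤ p := by
      refine (Polynomial.natDegree_sub_le _ _).trans
        (max_le (Polynomial.natDegree_X_pow_le p) ?_)
      exact (Polynomial.natDegree_C_mul_le _ _).trans (Polynomial.natDegree_X_le.trans (by omega))
    have hf0 : (Polynomial.X ^ p - Polynomial.C (b ^ (p-1)) * Polynomial.X :
        Polynomial (FractionRing R)) ≠ 0 := by
      intro h0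
      have h1 : (Polynomial.X ^ p - Polynomial.C (b ^ (p-1)) * Polynomial.X :
        Polynomial (FractionRing R)).coeff p = 1 := by
        have hne : ¬ (1 = p) := by omega
        rw [Polynomial.coeff_sub, Polynomial.coeff_X_pow, Polynomial.coeff_C_mul, Polynomial.coeff_X]
        simp [hne]
      rw [h0] at h1
      simp at h1
    have hroot : ∀ i : ℕ, (Polynomial.X ^ p - Polynomial.C (b ^ (p-1)) * Polynomial.X :
        Polynomial (FractionRing R)).IsRoot ((i : FractionRing R) * b) := by
      intro i
      have hi : (i : FractionRing R) ^ p = i := by
        have := map_natCast (frobenius (FractionRing R) p) i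
        rwa [frobenius_def] at this
      rw [Polynomial.IsRoot.def]
      simp only [Polynomial.eval_sub, Polynomial.eval_pow, Polynomial.eval_X, Polynomial.eval_mul,
        Polynomial.eval_C]
      rw [mul_pow, hi]
      have : b ^ p = b ^ (p-1) * b := by rw [← pow_succ, Nat.sub_add_cancel hp.one_le]
      rw [this]; ring
    have hS : (Finset.range p).image (fun i : ℕ => (i : FractionRing R) * b) ⊆
        (Polynomial.X ^ p - Polynomial.C (b ^ (p-1)) * Polynomial.X :
          Polynomial (FractionRing R)).roots.toFinset := by
      intro y hy
      obtain ⟨i, _, rfl⟩ := Finset.mem_image.mp hy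
      rw [Multiset.mem_toFinset, Polynomial.mem_roots hf0]
      exact hroot i
    have hcard : ((Finset.range p).image (fun i : ℕ => (i : FractionRing R) * b)).card = p := by
      rw [Finset.card_image_of_injOn, Finset.card_range]
      intro i hi j hj hij
      have hi' : i ∈ Set.Iio p := Finset.mem_range.mp (Finset.mem_coe.mp hi)
      have hj' : j ∈ Set.Iio p := Finset.mem_range.mp (Finset.mem_coe.mp hj)
      exact CharP.natCast_injOn_Iio (FractionRing R) p hi' hj' (mul_right_cancel₀ hb hij)
    rw [Polynomial.splits_iff_card_roots]
    have h1 : p ≤ (Polynomial.X ^ p - Polynomial.C (b ^ (p-1)) * Polynomial.X :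
          Polynomial (FractionRing R)).roots.card := by
      calc p = _ := hcard.symm
        _ ≤ _ := Finset.card_le_card hS
        _ ≤ _ := Multiset.toFinset_card_le _
    exact le_antisymm (Polynomial.card_roots' _) (hdeg.trans h1)

end Groth.Agent.S15811
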