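import Groth.Statements.S15817
import Mathlib

set_option autoImplicit false
universe u v
open CategoryTheory
open CAlg

namespace Groth.Agent.S15817

/-- Let A be a commutative ring, M an A-module and P, Q submodules of M. Then the commuting square of
quotient projections with corners M/(P ∩ Q), M/P, M/Q and M/(P + Q) is cartesian in the category of
A-modules: M/(P ∩ Q) is the fibre product of M/P and M/Q over M/(P + Q). -/
theorem result (A : Type u) [CommRing A] (M : Type v) [AddCommGroup M] [Module A M]
    (P Q : Submodule A M) :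
    IsPullback (ModuleCat.ofHom (Submodule.factor (inf_le_left : P ⊓ Q ≤ P)))
      (ModuleCat.ofHom (Submodule.factor (inf_le_right : P ⊓ Q ≤ Q)))
      (ModuleCat.ofHom (Submodule.factor (le_sup_left : P ≤ P ⊔ Q)))
      (ModuleCat.ofHom (Submodule.factor (le_sup_right : Q ≤ P ⊔ Q))) := by
  apply IsPullback.of_map_of_faithful (forget (ModuleCat.{v} A))
  rw [CategoryTheory.Limits.Types.isPullback_iff]
  refine ⟨?_, ?_, ?_⟩
  · ext x
    simp
  · intro x y h
    simp only [ModuleCat.hom_ofHom] at h
    obtain ⟨x', rfl⟩ := Submodule.Quotient.mk_surjective (P ⊓ Q) x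
    obtain ⟨y', rfl⟩ := Submodule.Quotient.mk_surjective (P ⊓ Q) y
    obtain ⟨h1, h2⟩ := h
    have h1' : x' - y' ∈ P := (Submodule.Quotient.eq P).mp h1
    have h2' : x' - y' ∈ Q := (Submodule.Quotient.eq Q).mp h2
    exact (Submodule.Quotient.eq (P ⊓ Q)).mpr ⟨h1', h2'⟩
  · intro x y h
    simp only [ModuleCat.hom_ofHom] at h ⊢
    obtain ⟨x', rfl⟩ := Submodule.Quotient.mk_surjective P x
    obtain ⟨y', rfl⟩ := Submodule.Quotient.mk_surjective Q y
    have h' : x' - y' ∈ P ⊔ Q := (Submodule.Quotient.eq (P ⊔ Q)).mp h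
    obtain ⟨p, hp, q, hq, hpq⟩ := Submodule.mem_sup.mp h'
    refine ⟨Submodule.Quotient.mk (x' - p), ?_, ?_⟩
    · refine (Submodule.Quotient.eq P).mpr ?_
      have h3 : x' - p - x' = -p := by abel
      show x' - p - x' ∈ P
      rw [h3]; exact P.neg_mem hp
    · refine (Submodule.Quotient.eq Q).mpr ?_
      have h3 : x' - p - y' = q := by rw [sub_right_comm, ← hpq, add_sub_cancel_left]
      show x' - p - y' ∈ Q
      rw [h3]; exact hq

end Groth.Agent.S15817
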