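import Groth.Statements.S15828
import Groth.Agent.Lib.HomCx2_helper2
import Groth.Agent.Lib.TenExact_helper2

set_option autoImplicit false
universe u
open CategoryTheory CategoryTheory.Limits MonoidalCategory
open Koszul

namespace Groth.Agent.S15828

open CochainComplex CochainComplex.HomComplex in
/-- an isomorphism of arrows induces an isomorphism of mapping cones -/
noncomputable def coneMapIso {C : Type*} [Category C] [Preadditive C] [Limits.HasBinaryBiproducts C]
    {K₁ L₁ K₂ L₂ : CochainComplex C ℤ} (φ₁ : K₁ ⟶ L₁) (φ₂ : K₂ ⟶ L₂) (a : K₁ ≅ K₂) (b : L₁ ≅ L₂)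
    (comm : φ₁ ≫ b.hom = a.hom ≫ φ₂) : mappingCone φ₁ ≅ mappingCone φ₂ where
  hom := mappingCone.map φ₁ φ₂ a.hom b.hom comm
  inv := mappingCone.map φ₂ φ₁ a.inv b.inv (by
    rw [← cancel_mono b.hom, Category.assoc, Category.assoc, b.inv_hom_id, Category.comp_id, comm,
      a.inv_hom_id_assoc])
  hom_inv_id := by
    rw [← mappingCone.map_comp]
    have : ∀ (x : K₁ ⟶ K₁) (y : L₁ ⟶ L₁) (_ : x = 𝟙 _) (_ : y = 𝟙 _) (c : φ₁ ≫ y = x ≫ φ₁),
        mappingCone.map φ₁ φ₁ x y c = 𝟙 _ := by
      intro x y hx hy c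
      subst hx hy
      exact mappingCone.map_id φ₁
    exact this _ _ a.hom_inv_id b.hom_inv_id _
  inv_hom_id := by
    rw [← mappingCone.map_comp]
    have : ∀ (x : K₂ ⟶ K₂) (y : L₂ ⟶ L₂) (_ : x = 𝟙 _) (_ : y = 𝟙 _) (c : φ₂ ≫ y = x ≫ φ₂),
        mappingCone.map φ₂ φ₂ x y c = 𝟙 _ := by
      intro x y hx hy c
      subst hx hy
      exact mappingCone.map_id φ₂
    exact this _ _ a.inv_hom_id b.inv_hom_id _

open Groth.Agent.Lib.HomCx in
lemma smul_id_whiskerRight {A : Type u} [CommRing A] (a : A) (K X : DRing.Cx A) :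
    (a • 𝟙 K) ▷ X = a • 𝟙 (K ⊗ X) := by
  ext i : 1
  apply hom_ext_tensor
  intro p q hpq x y
  rw [whiskerRight_ιt]
  have h1 : ((a • 𝟙 K : K ⟶ K).f p).hom x = a • x := by
    rw [HomologicalComplex.smul_f_apply, HomologicalComplex.id_f]
    rfl
  have h2 : ((a • 𝟙 (K ⊗ X) : K ⊗ X ⟶ K ⊗ X).f i).hom (ιt K X p q i hpq x y) =
      a • ιt K X p q i hpq x y := by
    rw [HomologicalComplex.smul_f_apply, HomologicalComplex.id_f]
    rfl
  rw [h1, h2]
  unfold ιt
  rw [← TensorProduct.smul_tmul', map_smul]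


/-- Let A be a commutative ring and f = (f_1, …, f_r), g = (g_1, …, g_s) finite sequences of elements of
A (Koszul complexes of free modules of finite rank with chosen bases). Then the tensor product of
cochain complexes K(f) ⊗ K(g) is isomorphic to the Koszul complex K(f_1, …, f_r, g_1, …, g_s) of the
concatenated sequence (existence of an isomorphism of cochain complexes of A-modules; the Koszul
complexes are the iterated mapping-cone model and ⊗ is the tensor product of complexes). The second
assertion of the published statement, K(f, g) ≅ Cone(g : K(f) → K(f)) for a single element g, is the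
defining recursion of the mapping-cone model and is not restated. -/
theorem result (A : Type u) [CommRing A] (f g : List A) :
    Nonempty ((MonoidalCategoryStruct.tensorObj (C := DRing.Cx A) (Koszul.koszul A f) (Koszul.koszul A g)) ≅
      Koszul.koszul A (f ++ g)) := by
  induction f with
  | nil => exact ⟨(λ_ (Koszul.koszul A g) : 𝟙_ (DRing.Cx A) ⊗ Koszul.koszul A g ≅ _)⟩
  | cons a f ih =>
    obtain ⟨e⟩ := ih
    have comm : ((a • 𝟙 (Koszul.koszul A f)) ▷ Koszul.koszul A g) ≫ e.hom =
        e.hom ≫ (a • 𝟙 (Koszul.koszul A (f ++ g))) := by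
      rw [smul_id_whiskerRight, Linear.smul_comp, Linear.comp_smul, Category.id_comp,
        Category.comp_id]
    exact ⟨Groth.Agent.Lib.TenExact.coneTensorIso (Koszul.koszul A g)
      (a • 𝟙 (Koszul.koszul A f)) ≪≫ coneMapIso _ _ e e comm⟩

end Groth.Agent.S15828
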