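import Groth.Statements.S15832
import Mathlib.Tactic.Group
import Mathlib.Topology.Constructions.SumProd
import Mathlib.Topology.Algebra.Group.Basic

set_option autoImplicit false
universe u
open TopGrp

namespace Groth.Agent.S15832

theorem aux (T : Type u) [Group T] (𝒢 : Set (Subgroup T)) :
    @NonarchimedeanGroup T _ (TopologicalSpace.generateFrom
      {S : Set T | ∃ Γ ∈ 𝒢, ∃ x y : T, S = (fun g : T => x * g * y) '' (Γ : Set T)}) := by
  obtain ⟨B, hB⟩ : ∃ B : Set (Set T),
      B = {S : Set T | ∃ Γ ∈ 𝒢, ∃ x y : T, S = (fun g : T => x * g * y) '' (Γ : Set T)} := ⟨_, rfl⟩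
  rw [← hB]
  letI τ : TopologicalSpace T := TopologicalSpace.generateFrom B
  have hopen : ∀ Γ ∈ 𝒢, ∀ x y : T, IsOpen ((fun g : T => x * g * y) '' (Γ : Set T)) := by
    intro Γ hΓ x y
    apply TopologicalSpace.isOpen_generateFrom_of_mem
    rw [hB]
    exact ⟨Γ, hΓ, x, y, rfl⟩
  have hinv : Continuous (fun a : T => a⁻¹) := by
    apply continuous_generateFrom_iff.mpr
    intro S hS
    rw [hB] at hS
    obtain ⟨Γ, hΓ, x, y, rfl⟩ := hS
    have : (fun a : T => a⁻¹) ⁻¹' ((fun g : T => x * g * y) '' (Γ : Set T)) =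
        (fun g : T => y⁻¹ * g * x⁻¹) '' (Γ : Set T) := by
      ext a
      simp only [Set.mem_preimage, Set.mem_image, SetLike.mem_coe]
      constructor
      · rintro ⟨γ, hγ, h⟩
        refine ⟨γ⁻¹, Γ.inv_mem hγ, ?_⟩
        rw [← inv_inv a, ← h]
        group
      · rintro ⟨γ, hγ, h⟩
        refine ⟨γ⁻¹, Γ.inv_mem hγ, ?_⟩
        rw [← h]
        group
    rw [this]
    exact hopen Γ hΓ _ _
  have hmul : Continuous (fun p : T × T => p.1 * p.2) := by
    apply continuous_generateFrom_iff.mpr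
    intro S hS
    rw [hB] at hS
    obtain ⟨Γ, hΓ, x, y, rfl⟩ := hS
    rw [isOpen_prod_iff]
    rintro a b ⟨γ, hγ, h⟩
    have hab : a * b = x * γ * y := h.symm
    refine ⟨(fun g : T => (a * b * y⁻¹) * g * (y * b⁻¹)) '' (Γ : Set T),
      (fun g : T => (b * y⁻¹) * g * y) '' (Γ : Set T), hopen Γ hΓ _ _, hopen Γ hΓ _ _,
      ⟨1, Γ.one_mem, by group⟩, ⟨1, Γ.one_mem, by group⟩, ?_⟩
    rintro ⟨a', b'⟩ ⟨⟨γ₁, hγ₁, h₁⟩, ⟨γ₂, hγ₂, h₂⟩⟩
    refine ⟨γ * γ₁ * γ₂, Γ.mul_mem (Γ.mul_mem hγ hγ₁) hγ₂, ?_⟩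
    have h₁' : a' = a * b * y⁻¹ * γ₁ * (y * b⁻¹) := h₁.symm
    have h₂' : b' = b * y⁻¹ * γ₂ * y := h₂.symm
    show x * (γ * γ₁ * γ₂) * y = a' * b'
    rw [h₁', h₂']
    calc x * (γ * γ₁ * γ₂) * y = (x * γ * y) * y⁻¹ * γ₁ * γ₂ * y := by group
      _ = (a * b) * y⁻¹ * γ₁ * γ₂ * y := by rw [hab]
      _ = _ := by group
  have key : ∀ W : Set T, TopologicalSpace.GenerateOpen B W → ∀ g ∈ W,
      ∃ H : Subgroup T, IsOpen (H : Set T) ∧ ∀ h ∈ H, g * h ∈ W := by
    intro W hW
    induction hW with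
    | basic S hS =>
      rw [hB] at hS
      obtain ⟨Γ, hΓ, x, y, rfl⟩ := hS
      rintro g ⟨γ, hγ, rfl⟩
      refine ⟨Γ.map (MulAut.conj ((x * γ * y)⁻¹ * x)).toMonoidHom, ?_, ?_⟩
      · have : ((Γ.map (MulAut.conj ((x * γ * y)⁻¹ * x)).toMonoidHom : Subgroup T) : Set T) =
            (fun g : T => ((x * γ * y)⁻¹ * x) * g * ((x * γ * y)⁻¹ * x)⁻¹) '' (Γ : Set T) := by
          ext z
          simp only [Subgroup.coe_map, MulEquiv.coe_toMonoidHom, MulAut.conj_apply, Set.mem_image,
            SetLike.mem_coe]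
        rw [this]
        exact hopen Γ hΓ _ _
      · rintro h ⟨γ', hγ', rfl⟩
        refine ⟨γ' * γ, Γ.mul_mem hγ' hγ, ?_⟩
        simp only [MulEquiv.coe_toMonoidHom, MulAut.conj_apply]
        group
    | univ =>
      intro g _
      exact ⟨⊤, by simp, fun _ _ => trivial⟩
    | inter s t _ _ ihs iht =>
      rintro g ⟨hgs, hgt⟩
      obtain ⟨H₁, o₁, h₁⟩ := ihs g hgs
      obtain ⟨H₂, o₂, h₂⟩ := iht g hgt
      refine ⟨H₁ ⊓ H₂, ?_, fun h hh => ⟨h₁ h hh.1, h₂ h hh.2⟩⟩
      rw [Subgroup.coe_inf]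
      exact o₁.inter o₂
    | sUnion S _ ih =>
      rintro g ⟨s, hs, hgs⟩
      obtain ⟨H, o, h⟩ := ih s hs g hgs
      exact ⟨H, o, fun z hz => ⟨s, hs, h z hz⟩⟩
  haveI : IsTopologicalGroup T := { continuous_mul := hmul, continuous_inv := hinv }
  refine @NonarchimedeanGroup.mk T _ τ inferInstance ?_
  intro U hU
  obtain ⟨W, hWU, hWo, h1W⟩ := mem_nhds_iff.mp hU
  obtain ⟨H, hHo, hH⟩ := key W hWo 1 h1W
  refine ⟨⟨H, hHo⟩, fun h hh => hWU ?_⟩
  have := hH h hh
  rwa [one_mul] at this


/-- For a group T with a topology, let B be the family of two-sided translates x Γ y, where Γ runs over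
the subgroups of T open in the given topology and x, y over T; the topology generated by B makes T a
topological group in which every neighbourhood of the identity contains a subgroup open for that
topology. (The published statement is for the free topological product of two Noohi groups whose
open subgroups form a basis of neighbourhoods of the identity; the argument uses only the group
structure and the chosen family of subgroups, so the row is stated for an arbitrary group with a
topology. The published conventions include Hausdorffness in the word topological group; this row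
does not assert it, and the published argument does not prove it.) -/
theorem result (T : Type u) [Group T]
    [TopologicalSpace T] :
    @NonarchimedeanGroup T _ (TopologicalSpace.generateFrom
      {S : Set T | ∃ (Γ : OpenSubgroup T) (x y : T), S = (fun g : T => x * g * y) '' (Γ : Set T)}) := by
  have hset : {S : Set T | ∃ (Γ : OpenSubgroup T) (x y : T), S = (fun g : T => x * g * y) '' (Γ : Set T)} =
      {S : Set T | ∃ Γ ∈ {Γ : Subgroup T | IsOpen (Γ : Set T)}, ∃ x y : T,
        S = (fun g : T => x * g * y) '' (Γ : Set T)} := by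
    ext S
    constructor
    · rintro ⟨Γ, x, y, rfl⟩
      exact ⟨Γ.toSubgroup, Γ.isOpen, x, y, rfl⟩
    · rintro ⟨Γ, hΓ, x, y, rfl⟩
      exact ⟨⟨Γ, hΓ⟩, x, y, rfl⟩
  rw [hset]
  exact aux T _

end Groth.Agent.S15832
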