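import Groth.Statements.S15833
import Mathlib

set_option autoImplicit false
universe u
open EtBase

namespace Groth.Agent.S15833

open CategoryTheory CategoryTheory.Limits AlgebraicGeometry in
/-- Let i : X₀ ⟶ X be a surjective closed immersion of schemes and f : Y ⟶ X a morphism. Then f
satisfies the valuative criterion (existence and uniqueness of a lift in every valuative square,
over arbitrary valuation rings) if and only if its base change Y ×_X X₀ ⟶ X₀ does. (The published
statement takes X locally Noetherian and connected, X₀ the reduced closed subscheme with the same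
underlying space and f étale, and combines this step with the equivalence between étale schemes over
X and over X₀ to identify the geometric coverings, i.e. the étale morphisms satisfying the valuative
criterion, of X and of X₀; the argument for this step uses only that X₀ ⟶ X is a surjective closed
immersion and that valuation rings are reduced.) -/
theorem result {X X₀ Y : Scheme.{u}} (i : X₀ ⟶ X)
    [IsClosedImmersion i] [Surjective i] (f : Y ⟶ X) :
    ValuativeCriterion f ↔ ValuativeCriterion (pullback.snd f i) := by
  -- factoring maps from reduced schemes through `i`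
  have hfac : ∀ (T : Scheme.{u}) [IsReduced T] (t : T ⟶ X), ∃ t₀ : T ⟶ X₀, t₀ ≫ i = t := by
    intro T _ t
    have : IsIso (pullback.fst t i) := isIso_of_isClosedImmersion_of_surjective _
    exact ⟨inv (pullback.fst t i) ≫ pullback.snd t i, by
      rw [Category.assoc, ← pullback.condition, IsIso.inv_hom_id_assoc]⟩
  rw [ValuativeCriterion.iff, ValuativeCriterion.iff]
  constructor
  · rintro ⟨hE, hU⟩
    constructor
    · intro S'
      let S : ValuativeCommSq f :=
        { R := S'.R, K := S'.K, i₁ := S'.i₁ ≫ pullback.fst f i, i₂ := S'.i₂ ≫ i,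
          commSq := ⟨by rw [Category.assoc, pullback.condition, ← Category.assoc, S'.commSq.w,
            Category.assoc]⟩ }
      obtain ⟨⟨l⟩⟩ := hE S
      have h1 : l.l ≫ f = S'.i₂ ≫ i := l.fac_right
      have h2 : Spec.map (CommRingCat.ofHom (algebraMap S'.R S'.K)) ≫ l.l =
          S'.i₁ ≫ pullback.fst f i := l.fac_left
      refine ⟨⟨⟨pullback.lift l.l S'.i₂ h1, ?_, ?_⟩⟩⟩
      · apply pullback.hom_ext
        · rw [Category.assoc, pullback.lift_fst, h2]
        · rw [Category.assoc, pullback.lift_snd, S'.commSq.w]
      · exact pullback.lift_snd _ _ _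
    · intro S'
      let S : ValuativeCommSq f :=
        { R := S'.R, K := S'.K, i₁ := S'.i₁ ≫ pullback.fst f i, i₂ := S'.i₂ ≫ i,
          commSq := ⟨by rw [Category.assoc, pullback.condition, ← Category.assoc, S'.commSq.w,
            Category.assoc]⟩ }
      constructor
      intro l₁ l₂
      have key : ∀ l : S'.commSq.LiftStruct, ∃ m : S.commSq.LiftStruct,
          m.l = l.l ≫ pullback.fst f i := fun l =>
        ⟨⟨l.l ≫ pullback.fst f i, by
          show Spec.map (CommRingCat.ofHom (algebraMap S'.R S'.K)) ≫ l.l ≫ pullback.fst f i =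
            S'.i₁ ≫ pullback.fst f i
          rw [← Category.assoc, l.fac_left], by
          show (l.l ≫ pullback.fst f i) ≫ f = S'.i₂ ≫ i
          rw [Category.assoc, pullback.condition, ← Category.assoc, l.fac_right]⟩, rfl⟩
      obtain ⟨m₁, hm₁⟩ := key l₁
      obtain ⟨m₂, hm₂⟩ := key l₂
      have hm : m₁ = m₂ := (hU S).elim m₁ m₂
      have h3 : l₁.l ≫ pullback.fst f i = l₂.l ≫ pullback.fst f i := by
        rw [← hm₁, ← hm₂, hm]
      ext1
      apply pullback.hom_ext h3
      rw [l₁.fac_right, l₂.fac_right]
  · rintro ⟨hE, hU⟩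
    constructor
    · intro S
      have : IsReduced (Spec (.of S.R)) := inferInstance
      obtain ⟨j₂, hj₂⟩ := hfac (Spec (.of S.R)) S.i₂
      let S' : ValuativeCommSq (pullback.snd f i) :=
        { R := S.R, K := S.K,
          i₁ := pullback.lift S.i₁ (Spec.map (CommRingCat.ofHom (algebraMap S.R S.K)) ≫ j₂)
            (by rw [S.commSq.w, Category.assoc, hj₂]),
          i₂ := j₂,
          commSq := ⟨pullback.lift_snd _ _ _⟩ }
      obtain ⟨⟨l⟩⟩ := hE S'
      have h1 : l.l ≫ pullback.snd f i = j₂ := l.fac_right
      have h2 : Spec.map (CommRingCat.ofHom (algebraMap S.R S.K)) ≫ l.l =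
          pullback.lift S.i₁ (Spec.map (CommRingCat.ofHom (algebraMap S.R S.K)) ≫ j₂)
            (by rw [S.commSq.w, Category.assoc, hj₂]) := l.fac_left
      refine ⟨⟨⟨l.l ≫ pullback.fst f i, ?_, ?_⟩⟩⟩
      · rw [← Category.assoc, h2, pullback.lift_fst]
      · rw [Category.assoc, pullback.condition, ← Category.assoc, h1, hj₂]
    · intro S
      have : IsReduced (Spec (.of S.R)) := inferInstance
      obtain ⟨j₂, hj₂⟩ := hfac (Spec (.of S.R)) S.i₂
      let S' : ValuativeCommSq (pullback.snd f i) :=
        { R := S.R, K := S.K,
          i₁ := pullback.lift S.i₁ (Spec.map (CommRingCat.ofHom (algebraMap S.R S.K)) ≫ j₂)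
            (by rw [S.commSq.w, Category.assoc, hj₂]),
          i₂ := j₂,
          commSq := ⟨pullback.lift_snd _ _ _⟩ }
      constructor
      intro l₁ l₂
      have key : ∀ l : S.commSq.LiftStruct, ∃ m : S'.commSq.LiftStruct,
          m.l ≫ pullback.fst f i = l.l := fun l =>
        ⟨⟨pullback.lift l.l j₂ (l.fac_right.trans hj₂.symm), by
          apply pullback.hom_ext
          · rw [Category.assoc, pullback.lift_fst, pullback.lift_fst]
            exact l.fac_left
          · rw [Category.assoc, pullback.lift_snd, pullback.lift_snd], pullback.lift_snd _ _ _⟩,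
          pullback.lift_fst _ _ _⟩
      obtain ⟨m₁, hm₁⟩ := key l₁
      obtain ⟨m₂, hm₂⟩ := key l₂
      have hm : m₁ = m₂ := (hU S').elim m₁ m₂
      ext1
      rw [← hm₁, ← hm₂, hm]

end Groth.Agent.S15833
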