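import Groth.Statements.S15835
import Mathlib.Algebra.Polynomial.Expand
import Mathlib.Algebra.CharP.Lemmas
import Mathlib.RingTheory.Polynomial.Basic
import Mathlib.Tactic.Ring
import Mathlib.RingTheory.Coprime.Lemmas

set_option autoImplicit false
universe u
open SprIso

namespace Groth.Agent.S15835

/-- Over a commutative ring R of prime characteristic p, let n ≥ 1 and let p^m be the largest power of p
dividing n. The locus of n × n matrices with characteristic polynomial t^n is stable under adding a
scalar matrix a·1 with n·a = 0 exactly when a^(p^m) = 0: for X with characteristic polynomial t^n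
and such an a, the matrix X + a·1 has characteristic polynomial t^n if and only if a^(p^m) = 0.
(Stated on points with values in an arbitrary ring of characteristic p; the scheme-theoretic
assertion about the nilpotent scheme of SL_n is this statement for all such rings.) -/
theorem result (p : ℕ) [Fact p.Prime] (R : Type u) [CommRing R]
    [CharP R p] (n : ℕ) (hn : 0 < n) (X : Matrix (Fin n) (Fin n) R) (hX : X.charpoly = Polynomial.X ^ n)
    (a : R) (ha : (n : R) * a = 0) :
    (X + Matrix.scalar (Fin n) a).charpoly = Polynomial.X ^ n ↔ a ^ (p ^ padicValNat p n) = 0 := by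
  have hp := (Fact.out : p.Prime)
  obtain ⟨e, he⟩ : ∃ e, e = padicValNat p n := ⟨_, rfl⟩
  rw [← he]
  obtain ⟨n', hn'⟩ : p ^ e ∣ n := by rw [he]; exact pow_padicValNat_dvd
  have hn'pos : 0 < n' := by
    rcases Nat.eq_zero_or_pos n' with h | h
    · rw [h, mul_zero] at hn'; omega
    · exact h
  have hpn' : ¬ p ∣ n' := by
    intro h
    obtain ⟨m, rfl⟩ := h
    have h1 : p ^ (e + 1) ∣ n := ⟨m, by rw [pow_succ, mul_assoc]; exact hn'⟩
    rw [he] at h1
    exact pow_succ_padicValNat_not_dvd hn.ne' h1
  have hq : 0 < p ^ e := pow_pos hp.pos e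
  have hpow : (Polynomial.X - Polynomial.C a : Polynomial R) ^ n =
      Polynomial.expand R (p ^ e) ((Polynomial.X - Polynomial.C (a ^ p ^ e)) ^ n') := by
    rw [map_pow, map_sub, Polynomial.expand_X, Polynomial.expand_C, Polynomial.C_pow,
      ← sub_pow_char_pow, ← pow_mul, ← hn']
  have hchar : (X + Matrix.scalar (Fin n) a).charpoly = (Polynomial.X - Polynomial.C a) ^ n := by
    have h1 : X + Matrix.scalar (Fin n) a = X - Matrix.scalar (Fin n) (-a) := by
      rw [map_neg, sub_neg_eq_add]
    rw [h1, Matrix.charpoly_sub_scalar, hX, Polynomial.pow_comp, Polynomial.X_comp,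
      Polynomial.C_neg, ← sub_eq_add_neg]
  have hXn : (Polynomial.X : Polynomial R) ^ n =
      Polynomial.expand R (p ^ e) (Polynomial.X ^ n') := by
    rw [map_pow, Polynomial.expand_X, ← pow_mul, ← hn']
  rw [hchar, hpow, hXn, Polynomial.expand_inj hq]
  constructor
  · intro h
    have hc : ((Polynomial.X - Polynomial.C (a ^ p ^ e)) ^ n').coeff (n' - 1) =
        ((Polynomial.X : Polynomial R) ^ n').coeff (n' - 1) := by rw [h]
    rw [sub_eq_add_neg, ← Polynomial.C_neg, Polynomial.coeff_X_add_C_pow,
      Polynomial.coeff_X_pow] at hc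
    have h2 : n' - (n' - 1) = 1 := by omega
    have h3 : n'.choose (n' - 1) = n' := by
      rw [Nat.choose_symm (by omega : 1 ≤ n'), Nat.choose_one_right]
    rw [h2, h3, pow_one, if_neg (by omega)] at hc
    have hcop : Nat.Coprime n' p := Nat.Coprime.symm ((Nat.Prime.coprime_iff_not_dvd hp).2 hpn')
    obtain ⟨u, v, huv⟩ := Nat.isCoprime_iff_coprime.2 hcop
    have hR := congrArg (Int.cast : ℤ → R) huv
    push_cast at hR
    rw [CharP.cast_eq_zero R p, mul_zero, add_zero] at hR
    calc a ^ p ^ e = a ^ p ^ e * ((u : R) * (n' : R)) := by rw [hR, mul_one]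
      _ = -(-a ^ p ^ e * (n' : R)) * (u : R) := by ring
      _ = 0 := by rw [hc, neg_zero, zero_mul]
  · intro h
    rw [h, map_zero, sub_zero]

end Groth.Agent.S15835
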