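import Groth.Statements.S15838
import Mathlib

set_option autoImplicit false
universe u
open scoped TensorProduct
open SprIso

namespace Groth.Agent.S15838

/-- General linear group case: this is the case G = GL(V), to which the general case reduces along a
closed embedding. Let k be a perfect field and V a finite-dimensional k-vector space. If an
invertible endomorphism g of V has multiplicative Jordan decomposition g = t u (t semisimple, u
unipotent, t and u commuting), then the scheme-theoretic centralizer of g in GL(V) is the
centralizer of u inside the centralizer of t: for every commutative k-algebra R, an R-linear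
endomorphism h of R ⊗ V commutes with g_R if and only if it commutes with both t_R and u_R.
Likewise, if an endomorphism X of V has additive Jordan decomposition X = Y + N (Y semisimple, N
nilpotent, commuting), then h commutes with X_R if and only if it commutes with both Y_R and N_R. -/
theorem result (k : Type u) [Field k] [PerfectField k]
    (V : Type u) [AddCommGroup V] [Module k V] [FiniteDimensional k V]
    (R : Type u) [CommRing R] [Algebra k R] (h : Module.End R (R ⊗[k] V)) :
    (∀ (g t u : Module.End k V), IsUnit g → t.IsSemisimple → IsNilpotent (u - 1) → Commute t u → g = t * u →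
      (Commute h (g.baseChange R) ↔ Commute h (t.baseChange R) ∧ Commute h (u.baseChange R))) ∧
    (∀ (X Y N : Module.End k V), Y.IsSemisimple → IsNilpotent N → Commute Y N → X = Y + N →
      (Commute h (X.baseChange R) ↔ Commute h (Y.baseChange R) ∧ Commute h (N.baseChange R))) := by
  classical
  set φ : Module.End k V →ₐ[k] Module.End R (R ⊗[k] V) := Module.End.baseChangeHom k R V with hφ
  have hbc : ∀ f : Module.End k V, f.baseChange R = φ f := fun f => rfl
  -- key lemma: commuting with X_R implies commuting with c_R for c a polynomial in X
  have key : ∀ (X c : Module.End k V), c ∈ Algebra.adjoin k {X} → Commute h (φ X) →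
      Commute h (φ c) := by
    intro X c hc hX
    have h1 : φ c ∈ Algebra.adjoin k {φ X} := by
      have : φ c ∈ (Algebra.adjoin k {X}).map φ := ⟨c, hc, rfl⟩
      rwa [AlgHom.map_adjoin, Set.image_singleton] at this
    exact Algebra.commute_of_mem_adjoin_singleton_of_commute h1 hX
  -- additive statement
  have hadd : ∀ (X Y N : Module.End k V), Y.IsSemisimple → IsNilpotent N → Commute Y N →
      X = Y + N → (Commute h (φ X) ↔ Commute h (φ Y) ∧ Commute h (φ N)) := by
    intro X Y N hY hN hYN hX
    obtain ⟨n₀, hn₀, s₀, hs₀, hn₀nil, hs₀ss, hX₀⟩ := X.exists_isNilpotent_isSemisimple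
    have hcomm₀ : Commute n₀ s₀ := by
      have h1 : Commute X s₀ := Algebra.commute_of_mem_adjoin_self hs₀
      exact (Algebra.commute_of_mem_adjoin_singleton_of_commute hn₀ h1.symm).symm
    have huniq := Module.End.isNilpotent_isSemisimple_unique hN hY hn₀nil hs₀ss hYN.symm hcomm₀
      (by rw [← hX₀, hX, add_comm])
    obtain ⟨rfl, rfl⟩ := huniq
    constructor
    · intro hc
      exact ⟨key X Y hs₀ hc, key X N hn₀ hc⟩
    · rintro ⟨h1, h2⟩
      rw [hX, map_add]
      exact h1.add_right h2
  refine ⟨?_, ?_⟩
  · intro g t u hg ht hu htu hgtu
    simp only [hbc]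
    have hN : IsNilpotent (t * (u - 1)) :=
      Commute.isNilpotent_mul_left (htu.sub_right (Commute.one_right t)) hu
    have hcommN : Commute t (t * (u - 1)) :=
      (Commute.refl t).mul_right (htu.sub_right (Commute.one_right t))
    have hgN : g = t + t * (u - 1) := by rw [hgtu]; noncomm_ring
    have h1 := hadd g t (t * (u - 1)) ht hN hcommN hgN
    have htunit : IsUnit t := by
      rw [hgtu] at hg
      exact ((htu.isUnit_mul_iff).1 hg).1
    constructor
    · intro hc
      have hct : Commute h (φ t) := (h1.1 hc).1
      refine ⟨hct, ?_⟩
      have hφt : IsUnit (φ t) := htunit.map φ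
      obtain ⟨U, hU⟩ := hφt
      have hcinv : Commute h ((U⁻¹ : (Module.End R (R ⊗[k] V))ˣ) : Module.End R (R ⊗[k] V)) := by
        apply Commute.units_inv_right
        rw [hU]; exact hct
      have hu_eq : φ u = ((U⁻¹ : (Module.End R (R ⊗[k] V))ˣ) : Module.End R (R ⊗[k] V)) * φ g := by
        rw [hgtu, map_mul, ← hU, ← mul_assoc, Units.inv_mul, one_mul]
      rw [hu_eq]
      exact hcinv.mul_right hc
    · rintro ⟨hct, hcu⟩
      rw [hgtu, map_mul]
      exact hct.mul_right hcu
  · intro X Y N hY hN hYN hX
    simp only [hbc]
    exact hadd X Y N hY hN hYN hX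

end Groth.Agent.S15838
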