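import Groth.Statements.S15841
import Mathlib.LinearAlgebra.TensorProduct.Tower
import Mathlib.LinearAlgebra.RootSystem.Base

set_option autoImplicit false
universe u
open scoped TensorProduct
open SprIso

namespace Groth.Agent.S15841

/-- For a connected reductive group G with maximal torus T whose derived group is simply connected, and
a Coxeter element w (the product of the simple reflections, each once, in any order), an element of
Lie T = k ⊗ X_*(T) fixed by Ad(w) is killed by the differential of every simple root, i.e. lies in
the centre of Lie G. In root-datum form: let P be a root pairing over ℤ with character lattice M and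
cocharacter lattice N, b a base, and suppose each simple coroot has a dual character ω_i in M with
⟨ω_i, α_i^∨⟩ = 1 and ⟨ω_i, α_j^∨⟩ = 0 for every other simple j (the simply connected derived group
hypothesis). If l lists the simple roots without repetition, w^∨ is the composite of the
coreflections along l acting on N, k is a field and H in k ⊗ N satisfies w^∨_k H = H, then (α_i)_k H
= 0 for every simple root α_i, where (α_i)_k is the base change to k of the functional ⟨α_i, −⟩ on
N. (Stated for an arbitrary field k; the published setting is an algebraically closed field, and the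
argument does not depend on k.) -/
theorem result {ι M N : Type u} [AddCommGroup M] [AddCommGroup N]
    (P : RootPairing ι ℤ M N) (b : P.Base)
    (hsc : ∀ i ∈ b.support, ∃ ω : M, P.coroot' i ω = 1 ∧ ∀ j ∈ b.support, j ≠ i → P.coroot' j ω = 0)
    (l : List ι) (hl : l.Nodup) (hlb : ∀ i : ι, i ∈ l ↔ i ∈ b.support)
    (k : Type u) [Field k] (H : k ⊗[ℤ] N)
    (hH : ((l.map (fun i => ((P.coreflection i : N ≃ₗ[ℤ] N) : N →ₗ[ℤ] N))).prod).baseChange k H = H) :
    ∀ i ∈ b.support, (P.root' i).baseChange k H = 0 := by
  classical
  -- notation
  let s : ι → (N →ₗ[ℤ] N) := fun i => ((P.coreflection i : N ≃ₗ[ℤ] N) : N →ₗ[ℤ] N)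
  have hs : ∀ (i : ι) (y : N), s i y = y - P.root' i y • P.coroot i := fun i y =>
    P.coreflection_apply i y
  choose! ω hω1 hω0 using hsc
  let W : ι → (N →ₗ[ℤ] ℤ) := fun i => P.toLinearMap (ω i)
  have hWco : ∀ i m : ι, W i (P.coroot m) = P.coroot' m (ω i) := fun i m => rfl
  -- integral identities
  have Z1 : ∀ i ∈ b.support, ∀ m ∈ b.support, i ≠ m → W i ∘ₗ s m = W i := by
    intro i hi m hm him
    ext y
    simp only [LinearMap.coe_comp, Function.comp_apply]
    rw [hs, map_sub, map_smul, hWco, hω0 i hi m hm him.symm, smul_zero, sub_zero]
  have Z2 : ∀ i ∈ b.support, W i ∘ₗ s i = W i - P.root' i := by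
    intro i hi
    ext y
    simp only [LinearMap.coe_comp, Function.comp_apply, LinearMap.sub_apply]
    rw [hs, map_sub, map_smul, hWco, hω1 i hi, smul_eq_mul, mul_one]
  have ZB : ∀ (l' : List ι), (∀ m ∈ l', m ∈ b.support) → ∀ i ∈ b.support, i ∉ l' →
      W i ∘ₗ (l'.map s).prod = W i := by
    intro l'
    induction l' with
    | nil => intro _ i _ _; rfl
    | cons m l' ih =>
      intro hl' i hi hil
      rw [List.map_cons, List.prod_cons, Module.End.mul_eq_comp, ← LinearMap.comp_assoc,
        Z1 i hi m (hl' m List.mem_cons_self) (fun h => hil (h ▸ List.mem_cons_self)),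
        ih (fun x hx => hl' x (List.mem_cons_of_mem _ hx)) i hi
          (fun h => hil (List.mem_cons_of_mem _ h))]
  -- base change
  have hsk : ∀ (i : ι) (y : k ⊗[ℤ] N), (s i).baseChange k y =
      y - ((LinearMap.toSpanSingleton ℤ N (P.coroot i)).baseChange k) ((P.root' i).baseChange k y) := by
    intro i y
    have : s i = LinearMap.id - (LinearMap.toSpanSingleton ℤ N (P.coroot i)) ∘ₗ P.root' i := by
      ext z
      simp only [LinearMap.sub_apply, LinearMap.id_coe, id_eq, LinearMap.coe_comp,
        Function.comp_apply, LinearMap.toSpanSingleton_apply]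
      exact hs i z
    rw [this, LinearMap.baseChange_sub, LinearMap.baseChange_id, LinearMap.baseChange_comp]
    rfl
  have hC : ∀ (l' : List ι) (H' : k ⊗[ℤ] N), (∀ j ∈ l', (P.root' j).baseChange k H' = 0) →
      ((l'.map s).prod).baseChange k H' = H' := by
    intro l'
    induction l' with
    | nil => intro H' _; simp [LinearMap.baseChange_one]
    | cons m l' ih =>
      intro H' hH'
      rw [List.map_cons, List.prod_cons, LinearMap.baseChange_mul, Module.End.mul_apply,
        ih H' (fun j hj => hH' j (List.mem_cons_of_mem _ hj)), hsk,
        hH' m List.mem_cons_self, map_zero, sub_zero]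
  have hA : ∀ (l' : List ι), l'.Nodup → (∀ m ∈ l', m ∈ b.support) → ∀ H' : k ⊗[ℤ] N,
      (∀ i ∈ b.support, (W i).baseChange k (((l'.map s).prod).baseChange k H') =
        (W i).baseChange k H') → ∀ j ∈ l', (P.root' j).baseChange k H' = 0 := by
    intro l'
    induction l' with
    | nil => intro _ _ _ _ j hj; simp at hj
    | cons m l' ih =>
      intro hnd hl' H' hyp
      have hm : m ∈ b.support := hl' m List.mem_cons_self
      have hml : m ∉ l' := (List.nodup_cons.mp hnd).1
      have hl'' : ∀ x ∈ l', x ∈ b.support := fun x hx => hl' x (List.mem_cons_of_mem _ hx)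
      set g := (l'.map s).prod with hg
      have hprod : ((m :: l').map s).prod = s m * g := by
        rw [List.map_cons, List.prod_cons]
      have hyp' : ∀ i ∈ b.support, (W i).baseChange k (g.baseChange k H') =
          (W i).baseChange k H' := by
        intro i hi
        by_cases him : i = m
        · subst him
          have := ZB l' hl'' i hi hml
          rw [← hg] at this
          have h2 := congrArg (fun φ => φ.baseChange k H') this
          simp only [LinearMap.baseChange_comp, LinearMap.coe_comp, Function.comp_apply] at h2
          exact h2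
        · have h1 := hyp i hi
          rw [hprod, LinearMap.baseChange_mul, Module.End.mul_apply] at h1
          have h2 := congrArg (fun φ => φ.baseChange k (g.baseChange k H')) (Z1 i hi m hm him)
          simp only [LinearMap.baseChange_comp, LinearMap.coe_comp, Function.comp_apply] at h2
          rw [← h2, h1]
      have hroots := ih (List.nodup_cons.mp hnd).2 hl'' H' hyp'
      have hgH : g.baseChange k H' = H' := hC l' H' hroots
      intro j hj
      rcases List.mem_cons.mp hj with rfl | hj'
      · have h1 := hyp j hm
        rw [hprod, LinearMap.baseChange_mul, Module.End.mul_apply, hgH] at h1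
        have h2 := congrArg (fun φ => φ.baseChange k H') (Z2 j hm)
        simp only [LinearMap.baseChange_comp, LinearMap.coe_comp, Function.comp_apply,
          LinearMap.baseChange_sub, LinearMap.sub_apply] at h2
        rw [h1] at h2
        have h3 : (P.root' j).baseChange k H' =
            (W j).baseChange k H' - ((W j).baseChange k H' - (P.root' j).baseChange k H') := by
          abel
        rw [h3, ← h2, sub_self]
      · exact hroots j hj'
  intro i hi
  refine hA l hl (fun m hm => (hlb m).mp hm) H (fun i' _ => ?_) i ((hlb i).mpr hi)
  have : (l.map s).prod = (l.map (fun i => ((P.coreflection i : N ≃ₗ[ℤ] N) : N →ₗ[ℤ] N))).prod := rfl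
  rw [this, hH]

end Groth.Agent.S15841
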