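import Groth.Statements.S15845
import Mathlib.Tactic.LinearCombination
import Mathlib.Algebra.BigOperators.Fin
import Mathlib.Tactic.Ring

set_option autoImplicit false
universe u
open SprIso

namespace Groth.Agent.S15845

/-- General linear group case: this is the case G = GL_n with its upper-triangular Borel subgroup B
(derived group SL_n simply connected, all primes good, so the hypotheses on the characteristic
hold), together with the companion statement for a regular nilpotent element of Lie B. Let k be a
field and u an n × n upper-triangular matrix over k whose diagonal entries are all equal and whose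
superdiagonal entries u_{i,i+1} are all non-zero — for diagonal 1 this is a regular unipotent
element of B(k), for diagonal 0 a regular nilpotent element of Lie B. Then the centralizer of u in
GL_n is contained in B and is the product of the centre with the centralizer in the unipotent
radical: for every commutative k-algebra R and every invertible x ∈ M_n(R) commuting with u_R, x is
upper triangular and its diagonal entries are all equal. (The smoothness of the centralizer in the
unipotent radical, also part of the published statement, is not stated here.) -/
theorem result (k : Type u) [Field k] (n : ℕ)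
    (u : Matrix (Fin n) (Fin n) k) (htri : ∀ i j : Fin n, j < i → u i j = 0) (hdiag : ∀ i j : Fin n, u i i = u j j)
    (hreg : ∀ (i j : Fin n), j.val = i.val + 1 → u i j ≠ 0)
    (R : Type u) [CommRing R] [Algebra k R] (x : Matrix (Fin n) (Fin n) R) (hx : IsUnit x)
    (hxu : x * u.map (algebraMap k R) = u.map (algebraMap k R) * x) :
    (∀ i j : Fin n, j < i → x i j = 0) ∧ (∀ i j : Fin n, x i i = x j j) := by
  classical
  obtain ⟨U, hU⟩ : ∃ U : Matrix (Fin n) (Fin n) R, U = u.map (algebraMap k R) := ⟨_, rfl⟩
  rw [← hU] at hxu
  have Uapp : ∀ i j : Fin n, U i j = algebraMap k R (u i j) := by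
    intro i j; rw [hU]; rfl
  have Utri : ∀ i j : Fin n, j < i → U i j = 0 := by
    intro i j h; rw [Uapp, htri i j h, map_zero]
  have Udiag : ∀ i j : Fin n, U i i = U j j := by
    intro i j; rw [Uapp, Uapp, hdiag i j]
  have Ureg : ∀ i j : Fin n, j.val = i.val + 1 → IsUnit (U i j) := by
    intro i j h
    have h1 : IsUnit (u i j) := (hreg i j h).isUnit
    rw [Uapp]
    exact h1.map (algebraMap k R)
  have heq : ∀ i j : Fin n, ∑ l, x i l * U l j = ∑ l, U i l * x l j := by
    intro i j
    have := congrFun (congrFun hxu i) j
    simpa [Matrix.mul_apply] using this
  -- Claim 1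
  have lower : ∀ (b : ℕ) (j : Fin n), j.val = b → ∀ i : Fin n, j < i → x i j = 0 := by
    intro b
    induction b using Nat.strong_induction_on with
    | _ b IHb =>
      intro j hj
      have inner : ∀ (m : ℕ) (i : Fin n), j < i → n - i.val = m → x i j = 0 := by
        intro m
        induction m using Nat.strong_induction_on with
        | _ m IHm =>
          intro i hji hm
          have hjiv : j.val < i.val := hji
          have hin : i.val < n := i.isLt
          obtain ⟨i₀, hi₀⟩ : ∃ i₀ : Fin n, i₀.val = i.val - 1 := ⟨⟨i.val - 1, by omega⟩, rfl⟩
          have hji₀ : j ≤ i₀ := by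
            rw [Fin.le_def, hi₀]; omega
          have hi₀i : i₀ ≠ i := by
            intro h
            have := congrArg Fin.val h
            rw [hi₀] at this
            omega
          have hL : ∑ l, x i₀ l * U l j = x i₀ j * U j j := by
            apply Finset.sum_eq_single j
            · intro l _ hl
              rcases lt_or_gt_of_ne hl with h | h
              · have hlv : l.val < b := by rw [← hj]; exact h
                have : x i₀ l = 0 := IHb l.val hlv l rfl i₀ (lt_of_lt_of_le h hji₀)
                rw [this, zero_mul]
              · rw [Utri l j h, mul_zero]
            · intro h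
              exact absurd (Finset.mem_univ j) h
          have hR : ∑ l, U i₀ l * x l j = U i₀ i₀ * x i₀ j + U i₀ i * x i j := by
            apply Finset.sum_eq_add i₀ i hi₀i
            · intro l _ hl
              obtain ⟨hl1, hl2⟩ := hl
              by_cases h : l < i₀
              · rw [Utri i₀ l h, zero_mul]
              · have hl : i < l := by
                  rw [Fin.lt_def]
                  have h1 : ¬ l.val < i₀.val := h
                  have h2 : l.val ≠ i₀.val := fun e => hl1 (Fin.ext e)
                  have h3 : l.val ≠ i.val := fun e => hl2 (Fin.ext e)
                  rw [hi₀] at h1 h2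
                  omega
                have hlv : i.val < l.val := hl
                have hln : l.val < n := l.isLt
                have : x l j = 0 := IHm (n - l.val) (by omega) l (lt_trans hji hl) rfl
                rw [this, mul_zero]
            · intro h
              exact absurd (Finset.mem_univ _) h
            · intro h
              exact absurd (Finset.mem_univ _) h
          have h := heq i₀ j
          rw [hL, hR] at h
          have h2 : U i₀ i * x i j = 0 := by
            linear_combination (-1 : R) * h + x i₀ j * Udiag j i₀
          exact (Ureg i₀ i (by rw [hi₀]; omega)).mul_right_eq_zero.mp h2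
      intro i hji
      exact inner (n - i.val) i hji rfl
  have hlow : ∀ i j : Fin n, j < i → x i j = 0 := fun i j h => lower j.val j rfl i h
  refine ⟨hlow, ?_⟩
  -- Claim 2: consecutive
  have consec : ∀ (a a' : Fin n), a'.val = a.val + 1 → x a a = x a' a' := by
    intro a a' ha
    have haa' : a < a' := by rw [Fin.lt_def]; omega
    have hne : a ≠ a' := ne_of_lt haa'
    have hbig : ∀ l : Fin n, l ≠ a → l ≠ a' → ¬ l < a → a' < l := by
      intro l hl1 hl2 h
      rw [Fin.lt_def]
      have h1 : ¬ l.val < a.val := h
      have h2 : l.val ≠ a.val := fun e => hl1 (Fin.ext e)
      have h3 : l.val ≠ a'.val := fun e => hl2 (Fin.ext e)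
      omega
    have hL : ∑ l, x a l * U l a' = x a a * U a a' + x a a' * U a' a' := by
      apply Finset.sum_eq_add a a' hne
      · intro l _ hl
        obtain ⟨hl1, hl2⟩ := hl
        by_cases h : l < a
        · rw [hlow a l h, zero_mul]
        · rw [Utri l a' (hbig l hl1 hl2 h), mul_zero]
      · intro h
        exact absurd (Finset.mem_univ _) h
      · intro h
        exact absurd (Finset.mem_univ _) h
    have hR : ∑ l, U a l * x l a' = U a a * x a a' + U a a' * x a' a' := by
      apply Finset.sum_eq_add a a' hne
      · intro l _ hl
        obtain ⟨hl1, hl2⟩ := hl
        by_cases h : l < a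
        · rw [Utri a l h, zero_mul]
        · rw [hlow l a' (hbig l hl1 hl2 h), mul_zero]
      · intro h
        exact absurd (Finset.mem_univ _) h
      · intro h
        exact absurd (Finset.mem_univ _) h
    have h := heq a a'
    rw [hL, hR] at h
    have h2 : U a a' * (x a a - x a' a') = 0 := by
      linear_combination h - x a a' * Udiag a' a
    have := (Ureg a a' ha).mul_right_eq_zero.mp h2
    exact sub_eq_zero.mp this
  have all0 : ∀ (m : ℕ) (i : Fin n) (hm : i.val = m) (h0 : 0 < n), x i i = x ⟨0, h0⟩ ⟨0, h0⟩ := by
    intro m
    induction m with
    | zero =>
      intro i hm h0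
      have : i = ⟨0, h0⟩ := Fin.ext hm
      rw [this]
    | succ m ih =>
      intro i hm h0
      have hlt : m < n := by have := i.isLt; omega
      rw [← consec ⟨m, hlt⟩ i (by simp [hm])]
      exact ih ⟨m, hlt⟩ rfl h0
  intro i j
  have h0 : 0 < n := by have := i.isLt; omega
  rw [all0 i.val i rfl h0, all0 j.val j rfl h0]

end Groth.Agent.S15845
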