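import Groth.Statements.S15940
import Mathlib
import Groth.Agent.Lib.UnivHomeo23_helper6
-- import your own Groth.Agent.* helpers here

set_option autoImplicit false
universe u
open HTop

namespace Groth.Agent.S15940

open CategoryTheory AlgebraicGeometry in
/-- Let ν : X' → X be a seminormalization of the scheme X, that is, a universal homeomorphism inducing
isomorphisms on all residue fields which is initial among such morphisms with target X. If X is
seminormal then ν is an isomorphism. (The published statement is the equivalence: ν is an
isomorphism if and only if X is seminormal; the other direction rests on the source of a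
seminormalization being seminormal, which the predicate used here does not record, and is not
restated.) -/
theorem result {X' X : Scheme.{u}} (ν : X' ⟶ X)
    (hν : HTop.IsSeminormalization ν) (hX : HTop.IsSeminormal X) : IsIso ν := by

  obtain ⟨⟨hU, hres⟩, hinit⟩ := hν
  haveI : Surjective X'.nilradical.subschemeι := by
    constructor
    rw [← Set.range_eq_univ, Scheme.IdealSheafData.range_subschemeι]
    rfl
  have hiU := Groth.Agent.Lib.UnivHomeo.isUnivHomeo_of_isClosedImmersion_of_surjective
    X'.nilradical.subschemeι
  have hires := Groth.Agent.Lib.UnivHomeo.residueFieldsIso_of_isPreimmersion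
    X'.nilradical.subschemeι
  have hcU := Groth.Agent.Lib.UnivHomeo.isUnivHomeo_comp _ ν hiU hU
  have hcres := Groth.Agent.Lib.UnivHomeo.residueFieldsIso_comp _ ν hires hres
  haveI : IsReduced X'.nilradical.subscheme :=
    Groth.Agent.Lib.RedFibre.isReduced_nilradical_subscheme X'
  haveI : IsIso (X'.nilradical.subschemeι ≫ ν) :=
    Groth.Agent.Lib.UnivHomeo.isIso_of_isSeminormal _ hX hcU hcres
  have hs : (inv (X'.nilradical.subschemeι ≫ ν) ≫ X'.nilradical.subschemeι) ≫ ν = 𝟙 X := by
    rw [Category.assoc, IsIso.inv_hom_id]
  obtain ⟨h₀, -, huniq⟩ := hinit X' ν hU hres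
  have h1 : ν ≫ (inv (X'.nilradical.subschemeι ≫ ν) ≫ X'.nilradical.subschemeι) = 𝟙 X' :=
    (huniq _ (by show (ν ≫ _) ≫ ν = ν; rw [Category.assoc, hs, Category.comp_id])).trans
      (huniq (𝟙 X') (Category.id_comp ν)).symm
  exact ⟨_, h1, hs⟩

end Groth.Agent.S15940
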