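import Groth.Statements.S15941
import Mathlib

set_option autoImplicit false
universe u
open HTop

namespace Groth.Agent.S15941

/-- An integrally closed integral domain is a seminormal ring, that is, whenever x^3 = y^2 there is
exactly one element a with x = a^2 and y = a^3. (The published statement is for a normal Noetherian
scheme and reduces at once to this affine integral case; the Noetherian hypothesis plays no role.) -/
theorem result (A : Type u) [CommRing A] [IsDomain A]
    [IsIntegrallyClosed A] : HTop.IsSeminormalRing A := by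
  intro x y hxy
  by_cases hx : x = 0
  · subst hx
    have hy : y = 0 := by
      have h2 : y ^ 2 = 0 := by rw [← hxy]; ring
      exact (pow_eq_zero_iff two_ne_zero).mp h2
    subst hy
    refine ⟨0, ⟨by ring, by ring⟩, ?_⟩
    rintro b ⟨hb, _⟩
    have h2 : b ^ 2 = 0 := hb.symm
    exact (pow_eq_zero_iff two_ne_zero).mp h2
  · have hinj := IsFractionRing.injective A (FractionRing A)
    have hxK : algebraMap A (FractionRing A) x ≠ 0 := fun h => hx (hinj (by rw [h, map_zero]))
    obtain ⟨α, hα⟩ : ∃ α : FractionRing A, α = algebraMap A (FractionRing A) y / algebraMap A (FractionRing A) x := ⟨_, rfl⟩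
    have hαx : α * algebraMap A (FractionRing A) x = algebraMap A (FractionRing A) y := by
      rw [hα, div_mul_cancel₀ _ hxK]
    have hα2 : α ^ 2 = algebraMap A (FractionRing A) x := by
      have h1 : α ^ 2 * algebraMap A (FractionRing A) x ^ 2 = algebraMap A (FractionRing A) x * algebraMap A (FractionRing A) x ^ 2 := by
        rw [← mul_pow, hαx, ← map_pow, ← hxy, map_pow]; ring
      exact mul_right_cancel₀ (pow_ne_zero 2 hxK) h1
    have hint : IsIntegral A α := by
      refine ⟨Polynomial.X ^ 2 - Polynomial.C x, Polynomial.monic_X_pow_sub_C x two_ne_zero, ?_⟩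
      simp [hα2]
    obtain ⟨a, ha⟩ := IsIntegrallyClosed.algebraMap_eq_of_integral hint
    have hax : x = a ^ 2 := hinj (by rw [map_pow, ha, hα2])
    have hay : y = a ^ 3 := by
      apply hinj
      rw [map_pow, ha, ← hαx, ← hα2]; ring
    refine ⟨a, ⟨hax, hay⟩, ?_⟩
    rintro b ⟨hbx, hby⟩
    have ha0 : a ^ 2 ≠ 0 := by rw [← hax]; exact hx
    have h3 : b * a ^ 2 = a * a ^ 2 := by
      calc b * a ^ 2 = b * b ^ 2 := by rw [← hax, hbx]
        _ = b ^ 3 := by ring
        _ = a ^ 3 := by rw [← hby, hay]
        _ = a * a ^ 2 := by ring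
    exact mul_right_cancel₀ ha0 h3

end Groth.Agent.S15941
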