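import Groth.Statements.S15955
import Mathlib
import Groth.Agent.Lib.SchPushoutPair_helper5
import Groth.Agent.Lib.SchPushoutIntUniq_helper5
import Groth.Agent.Lib.PinchBCFlat_helper5

set_option autoImplicit false
universe u
open Pinch

namespace Groth.Agent.S15955

open CategoryTheory AlgebraicGeometry in
/-- Let Y be a scheme, f : X → Y a morphism, t : T → Y a scheme affine over Y, ξ : Z → T a morphism with
Z affine over Y via ξ followed by t, and ι : Z → X a closed immersion over Y; assume every point of
Y has an affine open neighbourhood U together with an affine open V of X inside the preimage of U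
containing the image under ι of the part of Z over U; assume moreover that Y is locally Noetherian,
f and t are of finite type and ξ is finite, and let X → P ← T be a push-out of ι and ξ in the
category of schemes; assume finally that ξ is faithfully flat and that over every affine open U of Y
the cokernel of the map from functions on t⁻¹(U) to functions on the part of Z over U is a
projective module over the functions on U. Then for every flat morphism q : F → P the scheme F is
recovered as a push-out: the square formed by F ×_P Z → F ×_P X (induced by ι), F ×_P Z → F ×_P T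
(induced by ξ) and the two projections to F is a push-out square in the category of schemes. (The
published statement adds that this persists after any base change Y' → Y, Noetherian or not; that
addendum is not restated.) -/
theorem result {X Y T Z : Scheme.{u}} (f : X ⟶ Y) (t : T ⟶ Y) (ξ : Z ⟶ T) (ι : Z ⟶ X)
    [IsAffineHom t] [IsAffineHom (ξ ≫ t)] [IsClosedImmersion ι] (hsq : ι ≫ f = ξ ≫ t)
    (hstd : ∀ y : Y, ∃ U : Y.Opens, IsAffineOpen U ∧ y ∈ U ∧ ∃ V : X.Opens, IsAffineOpen V ∧
      V ≤ f ⁻¹ᵁ U ∧ ∀ z : Z, (ξ ≫ t).base z ∈ U → ι.base z ∈ V)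
    [IsLocallyNoetherian Y] [LocallyOfFiniteType f] [QuasiCompact f] [LocallyOfFiniteType t] [QuasiCompact t]
    [IsFinite ξ] {P : Scheme.{u}} (a : X ⟶ P) (b : T ⟶ P) (hP : IsPushout ι ξ a b)
    [Flat ξ] [Surjective ξ]
    (hv : ∀ U : Y.affineOpens, @Pinch.CokerProjective Γ(Y, U) Γ(Z, (ξ ≫ t) ⁻¹ᵁ U) Γ(T, t ⁻¹ᵁ U) _ _ _
      ((ξ ≫ t).app U).hom.toAlgebra (ξ.app (t ⁻¹ᵁ U)).hom)
    {F : Scheme.{u}} (q : F ⟶ P) [Flat q] :
    IsPushout ((Over.pullback q).map (Over.homMk ι rfl : Over.mk (ι ≫ a) ⟶ Over.mk a)).left
      ((Over.pullback q).map (Over.homMk ξ hP.w.symm : Over.mk (ι ≫ a) ⟶ Over.mk b)).left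
      ((Over.pullback q).obj (Over.mk a)).hom ((Over.pullback q).obj (Over.mk b)).hom := by
  have haff := Groth.Agent.ShPushoutInt.haff_of_std f t ξ ι hstd
  have hG := Groth.Agent.ShPushoutInt.isPushout_G_of_isPushout' ι ξ haff a b hP
  haveI : IsIntegralHom a := Groth.Agent.ShPushoutInt.isIntegralHom_inl' ι ξ a b hG haff
  haveI : IsClosedImmersion b := Groth.Agent.ShPushoutInt.isClosedImmersion_inr' ι ξ a b hG haff
  have hT := Groth.Agent.PinchBC.isPushout_baseChange_flat a b (𝟙 P) (ι ≫ a) ι ξ a b rfl hP.w.symm
    (Category.comp_id a) (Category.comp_id b) hG q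
    ((Over.pullback q).map (Over.homMk ι rfl : Over.mk (ι ≫ a) ⟶ Over.mk a)).left
    ((Over.pullback q).map (Over.homMk ξ hP.w.symm : Over.mk (ι ≫ a) ⟶ Over.mk b)).left
    (Limits.pullback.lift (Limits.pullback.fst a q ≫ a) (Limits.pullback.snd a q)
      (by rw [Category.comp_id]; exact Limits.pullback.condition))
    (Limits.pullback.lift (Limits.pullback.fst b q ≫ b) (Limits.pullback.snd b q)
      (by rw [Category.comp_id]; exact Limits.pullback.condition))
    (by simp only [Over.pullback_map_left]; exact Limits.pullback.lift_fst _ _ _)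
    (by simp only [Over.pullback_map_left]; exact Limits.pullback.lift_snd _ _ _)
    (by simp only [Over.pullback_map_left]; exact Limits.pullback.lift_fst _ _ _)
    (by simp only [Over.pullback_map_left]; exact Limits.pullback.lift_snd _ _ _)
    (Limits.pullback.lift_fst _ _ _) (Limits.pullback.lift_snd _ _ _)
    (Limits.pullback.lift_fst _ _ _) (Limits.pullback.lift_snd _ _ _)
  have hS := Groth.Agent.ShPushout.isPushout_of_G _ _ _ _ hT
  refine IsPushout.of_iso hS (Iso.refl _) (Iso.refl _) (Iso.refl _)
    (asIso (Limits.pullback.snd (𝟙 P) q)) (by simp) (by simp) ?_ ?_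
  · rw [Iso.refl_hom, Category.id_comp, asIso_hom, Limits.pullback.lift_snd]
    rfl
  · rw [Iso.refl_hom, Category.id_comp, asIso_hom, Limits.pullback.lift_snd]
    rfl

end Groth.Agent.S15955
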