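import Groth.Statements.S15963
import Mathlib
import Groth.Agent.Lib.UnivHomeo26_helper6
-- import your own Groth.Agent.* helpers here

set_option autoImplicit false
universe u
open HTop

namespace Groth.Agent.S15963

open CategoryTheory AlgebraicGeometry in
/-- Let S be a reduced Noetherian scheme, π : S̃ → S its normalisation (S̃ has integrally closed local
domains, π is integral and an isomorphism over a dense open subset of S with dense preimage), ν : X'
→ S a seminormalization of S (X' seminormal, ν a universal homeomorphism with residue-field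
isomorphisms, initial among such) and g : S̃ → X' a morphism with g followed by ν equal to π. Then ν
and g are scheme-theoretically dominant (the structure sheaf maps injectively into the direct
image), and if π is finite then so are ν and g. -/
theorem result {S Sn X' : Scheme.{u}}
    [IsNoetherian S] [IsReduced S]
    (π : Sn ⟶ S) [IsIntegralHom π] (hn : Pi1.IsNormalScheme Sn)
    (hbir : ∃ U : S.Opens, Dense (U : Set S) ∧ Dense ((π ⁻¹ᵁ U : Sn.Opens) : Set Sn) ∧ IsIso (π ∣_ U))
    (ν : X' ⟶ S) (hν : HTop.IsSeminormalization ν) (hX' : HTop.IsSeminormal X')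
    (g : Sn ⟶ X') (hg : g ≫ ν = π) :
    (IsSchemeTheoreticallyDominant ν ∧ IsSchemeTheoreticallyDominant g) ∧
      (IsFinite π → IsFinite ν ∧ IsFinite g) := by

  obtain ⟨⟨hU, hres⟩, -⟩ := hν
  obtain ⟨h1, h2, h3⟩ := (Groth.Agent.Lib.UnivHomeo.isUnivHomeo_iff_isIntegralHom ν).mp hU
  haveI : IsIntegralHom ν := h1
  haveI : UniversallyInjective ν := h2
  haveI : Surjective ν := h3
  haveI : IsReduced X' := Groth.Agent.Lib.UnivHomeo.isReduced_of_isSeminormal hX'
  have hνd : IsSchemeTheoreticallyDominant ν := IsSchemeTheoreticallyDominant.of_isDominant ν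
  -- π is dominant
  obtain ⟨U, hUd, -, hiso⟩ := hbir
  have hUsub : (U : Set S) ⊆ Set.range π := by
    intro u hu
    haveI := hiso
    obtain ⟨z, hz⟩ := (π ∣_ U).surjective ⟨u, hu⟩
    refine ⟨(π ⁻¹ᵁ U).ι z, ?_⟩
    have := congr($(morphismRestrict_ι π U) z)
    simp only [Scheme.Hom.comp_base, TopCat.comp_app] at this
    rw [← this, hz]
    rfl
  have hπd : Dense (Set.range π) := hUd.mono hUsub
  have hopen : IsOpenMap ν := by
    have : IsHomeomorph ν := hU _ _ _ IsPullback.of_id_snd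
    exact this.isOpenMap
  have hgd : Dense (Set.range g) := by
    refine (hπd.preimage hopen).mono ?_
    rintro x ⟨s, hs⟩
    refine ⟨s, ?_⟩
    apply ν.injective
    rw [← hs, ← hg]
    rfl
  haveI : IsDominant g := ⟨hgd⟩
  have hgsd : IsSchemeTheoreticallyDominant g := IsSchemeTheoreticallyDominant.of_isDominant g
  refine ⟨⟨hνd, hgsd⟩, ?_⟩
  intro hπf
  haveI : IsFinite (g ≫ ν) := hg ▸ hπf
  have hgf : IsFinite g := IsFinite.of_comp g ν
  refine ⟨?_, hgf⟩
  rw [isFinite_iff]
  refine ⟨inferInstance, ?_⟩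
  intro V hV
  haveI : QuasiCompact g := inferInstance
  have hinj : Function.Injective (g.app (ν ⁻¹ᵁ V)) := g.app_injective _
  have hfin : ((g ≫ ν).app V).hom.Finite := (g ≫ ν).finite_app V hV
  haveI : IsNoetherianRing Γ(S, V) := IsLocallyNoetherian.component_noetherian ⟨V, hV⟩
  have hcomp : ((g ≫ ν).app V).hom = (g.app (ν ⁻¹ᵁ V)).hom.comp (ν.app V).hom := by
    rw [Scheme.Hom.comp_app]; rfl
  rw [hcomp] at hfin
  algebraize [(ν.app V).hom, (g.app (ν ⁻¹ᵁ V)).hom,
    (g.app (ν ⁻¹ᵁ V)).hom.comp (ν.app V).hom]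
  haveI : Module.Finite Γ(S, V) Γ(Sn, g ⁻¹ᵁ ν ⁻¹ᵁ V) := hfin
  haveI : IsNoetherian Γ(S, V) Γ(Sn, g ⁻¹ᵁ ν ⁻¹ᵁ V) := isNoetherian_of_isNoetherianRing_of_finite _ _
  change Module.Finite Γ(S, V) Γ(X', ν ⁻¹ᵁ V)
  exact Module.Finite.of_injective
    (IsScalarTower.toAlgHom Γ(S, V) Γ(X', ν ⁻¹ᵁ V) Γ(Sn, g ⁻¹ᵁ ν ⁻¹ᵁ V)).toLinearMap hinj

end Groth.Agent.S15963
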