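import Groth.Statements.S15987
import Mathlib

set_option autoImplicit false
universe u v
open Deform

namespace Groth.Agent.S15987

open TrivSqZeroExt

section Shear
variable {k : Type u} [Field k] {A : Type u} [CommRing A] [Algebra k A]

/-- The `k`-linear map `a + bε ↦ a + (b + D a)ε`. -/
noncomputable def shearLin (D : Derivation k A A) : DualNumber A →ₗ[k] DualNumber A where
  toFun x := inl x.fst + inr (x.snd + D x.fst)
  map_add' x y := by
    refine TrivSqZeroExt.ext ?_ ?_
    · simp
    · simp only [fst_add, snd_add, map_add, snd_inl, snd_inr, zero_add]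
      abel
  map_smul' c x := by
    refine TrivSqZeroExt.ext ?_ ?_
    · simp
    · simp only [fst_smul, snd_smul, snd_add, snd_inl, snd_inr, zero_add, smul_add,
        RingHom.id_apply]
      rw [D.map_smul, smul_zero, zero_add]

theorem shearLin_fst (D : Derivation k A A) (x : DualNumber A) : (shearLin D x).fst = x.fst := by
  change (inl x.fst + inr (x.snd + D x.fst) : DualNumber A).fst = x.fst
  simp

theorem shearLin_snd (D : Derivation k A A) (x : DualNumber A) :
    (shearLin D x).snd = x.snd + D x.fst := by
  change (inl x.fst + inr (x.snd + D x.fst) : DualNumber A).snd = x.snd + D x.fst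
  simp

/-- The `k`-algebra endomorphism `a + bε ↦ a + (b + D a)ε`. -/
noncomputable def shearHom (D : Derivation k A A) : DualNumber A →ₐ[k] DualNumber A :=
  AlgHom.ofLinearMap (shearLin D)
    (by
      refine TrivSqZeroExt.ext ?_ ?_
      · rw [shearLin_fst]
      · rw [shearLin_snd]; simp)
    (fun x y => by
      refine TrivSqZeroExt.ext ?_ ?_
      · rw [shearLin_fst, TrivSqZeroExt.fst_mul, TrivSqZeroExt.fst_mul, shearLin_fst, shearLin_fst]
      · rw [shearLin_snd, DualNumber.snd_mul, DualNumber.snd_mul, shearLin_fst, shearLin_fst,
          shearLin_snd, shearLin_snd, TrivSqZeroExt.fst_mul, Derivation.leibniz, smul_eq_mul,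
          smul_eq_mul]
        ring)

theorem shearHom_fst (D : Derivation k A A) (x : DualNumber A) : (shearHom D x).fst = x.fst :=
  shearLin_fst D x

theorem shearHom_snd (D : Derivation k A A) (x : DualNumber A) :
    (shearHom D x).snd = x.snd + D x.fst :=
  shearLin_snd D x

theorem shearHom_comp_neg (D : Derivation k A A) (x : DualNumber A) :
    shearHom D (shearHom (-D) x) = x := by
  refine TrivSqZeroExt.ext ?_ ?_
  · rw [shearHom_fst, shearHom_fst]
  · rw [shearHom_snd, shearHom_snd, shearHom_fst, Derivation.neg_apply]
    abel

/-- The `k`-algebra automorphism `a + bε ↦ a + (b + D a)ε`. -/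
noncomputable def shearEquiv (D : Derivation k A A) : DualNumber A ≃ₐ[k] DualNumber A :=
  AlgEquiv.ofAlgHom (shearHom D) (shearHom (-D))
    (AlgHom.ext fun x => shearHom_comp_neg D x)
    (AlgHom.ext fun x => by
      have h := shearHom_comp_neg (-D) x
      rwa [neg_neg] at h)

theorem shearEquiv_fst (D : Derivation k A A) (x : DualNumber A) : (shearEquiv D x).fst = x.fst :=
  shearLin_fst D x

theorem shearEquiv_snd (D : Derivation k A A) (x : DualNumber A) :
    (shearEquiv D x).snd = x.snd + D x.fst :=
  shearLin_snd D x

theorem shearEquiv_eps (D : Derivation k A A) :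
    shearEquiv D (DualNumber.eps : DualNumber A) = DualNumber.eps := by
  refine TrivSqZeroExt.ext ?_ ?_
  · rw [shearEquiv_fst]
  · rw [shearEquiv_snd, DualNumber.fst_eps, map_zero, add_zero]

theorem inr_eq_inl_mul_eps {B : Type*} [CommRing B] (b : B) :
    (inr b : DualNumber B) = inl b * DualNumber.eps := by
  change inr b = inl b * inr 1
  rw [TrivSqZeroExt.inl_mul_inr, smul_eq_mul, mul_one]

/-- For an algebra map `φ : A[ε] → B[ε]` with `φ ε = ε` that reduces to `q` modulo `ε`,
the `ε`-component of `φ x`. -/
theorem snd_apply_of_eps {B : Type*} [CommRing B] [Algebra k B]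
    (φ : DualNumber A →ₐ[k] DualNumber B) (q : A →ₐ[k] B)
    (hε : φ DualNumber.eps = DualNumber.eps) (hfst : ∀ x, (φ x).fst = q x.fst)
    (x : DualNumber A) : (φ x).snd = (φ (inl x.fst)).snd + q x.snd := by
  conv_lhs => rw [← TrivSqZeroExt.inl_fst_add_inr_snd_eq x]
  rw [map_add, snd_add, inr_eq_inl_mul_eps, map_mul, hε, DualNumber.snd_mul, hfst,
    DualNumber.snd_eps, DualNumber.fst_eps, fst_inl, mul_one, mul_zero, add_zero]

/-- The derivation `a ↦ (φ a)_ε` of an automorphism that is the identity modulo `ε`. -/
noncomputable def derOf (φ : DualNumber A ≃ₐ[k] DualNumber A) (hfst : ∀ x, (φ x).fst = x.fst) :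
    Derivation k A A :=
  Derivation.mk'
    { toFun := fun a => (φ (inl a)).snd
      map_add' := fun a b => by rw [inl_add, map_add, snd_add]
      map_smul' := fun c a => by rw [inl_smul, map_smul, snd_smul, RingHom.id_apply] }
    (fun a b => by
      change (φ (inl (a * b))).snd = a • (φ (inl b)).snd + b • (φ (inl a)).snd
      rw [inl_mul, map_mul, DualNumber.snd_mul, hfst, hfst, fst_inl, fst_inl, smul_eq_mul,
        smul_eq_mul]
      ring)

theorem derOf_apply (φ : DualNumber A ≃ₐ[k] DualNumber A) (hfst : ∀ x, (φ x).fst = x.fst) (a : A) :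
    derOf φ hfst a = (φ (inl a)).snd := rfl

end Shear


open TrivSqZeroExt in
/-- Let k be a field, A a commutative k-algebra and q_i : A → k (i ∈ ι) k-algebra maps (marked k-points
of Spec A). The k-algebra automorphisms φ of the ring of dual numbers A[ε] that fix ε (so are
k[ε]-linear), are the identity modulo ε, and satisfy q_i((φ x)_ε) = q_i(x_ε) for all i and x
(compatibility with the trivial lifts A[ε] → k[ε] of the marked points) are in bijection with the
k-derivations D : A → A such that q_i ∘ D = 0 for every i, the bijection sending φ to a ↦ (φ(a))_ε.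
(The source identifies the right-hand side with the global vector fields vanishing at the marked
points; the condition the computation yields is q_i ∘ D = 0, which is the same for Spec A smooth
over k but is weaker in general, e.g. for A = k[x]/(x^2) with 2 invertible in k.) -/
theorem result
    (k : Type u) [Field k] (A : Type u) [CommRing A] [Algebra k A] {ι : Type v} (q : ι → (A →ₐ[k] k)) :
    ∃ e : {φ : DualNumber A ≃ₐ[k] DualNumber A //
            φ DualNumber.eps = DualNumber.eps ∧ (∀ x, (φ x).fst = x.fst) ∧
              ∀ i x, q i (φ x).snd = q i x.snd} ≃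
          {D : Derivation k A A // ∀ i a, q i (D a) = 0},
      ∀ φ (a : A), (e φ).1 a = (φ.1 (inl a : DualNumber A)).snd := by
  classical
  refine ⟨{ toFun := fun φ => ⟨derOf φ.1 φ.2.2.1, fun i a => by
              rw [derOf_apply, φ.2.2.2 i (inl a), snd_inl, map_zero]⟩
            invFun := fun D => ⟨shearEquiv D.1, shearEquiv_eps D.1, shearEquiv_fst D.1, fun i x => by
              rw [shearEquiv_snd, map_add, D.2 i x.fst, add_zero]⟩
            left_inv := fun φ => by
              apply Subtype.ext
              refine AlgEquiv.ext fun x => ?_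
              refine TrivSqZeroExt.ext ?_ ?_
              · change (shearEquiv (derOf φ.1 φ.2.2.1) x).fst = (φ.1 x).fst
                rw [shearEquiv_fst, φ.2.2.1 x]
              · change (shearEquiv (derOf φ.1 φ.2.2.1) x).snd = (φ.1 x).snd
                rw [shearEquiv_snd, derOf_apply]
                have h := snd_apply_of_eps (φ.1 : DualNumber A →ₐ[k] DualNumber A) (AlgHom.id k A)
                  φ.2.1 φ.2.2.1 x
                change (φ.1 x).snd = (φ.1 (inl x.fst)).snd + x.snd at h
                rw [h, add_comm]
            right_inv := fun D => by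
              apply Subtype.ext
              refine Derivation.ext fun a => ?_
              change derOf (shearEquiv D.1) (shearEquiv_fst D.1) a = D.1 a
              rw [derOf_apply, shearEquiv_snd, snd_inl, fst_inl, zero_add] }, fun φ a => rfl⟩

end Groth.Agent.S15987
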