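import Groth.Statements.S15988
import Mathlib
import Groth.Agent.S15987

set_option autoImplicit false
universe u v
open Deform

namespace Groth.Agent.S15988

open TrivSqZeroExt in
/-- Let k be a field, A a smooth commutative k-algebra, q_i : A → k (i ∈ ι, ι finite) pairwise distinct
k-algebra maps, and q'_i : A[ε] → k[ε] k-algebra maps with q'_i(ε) = ε which reduce to q_i modulo ε
(marked points of a first-order deformation with underlying trivial deformation). Then some
k-algebra automorphism φ of A[ε] with φ(ε) = ε and φ = id modulo ε carries every q'_i to the trivial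
lift of q_i: q'_i(φ x) = (q_i(x_0), q_i(x_ε)) for all i and x. Together with the triviality of
first-order deformations of a smooth affine scheme this gives the source's statement that
first-order deformations of a smooth affine scheme with marked points are trivial. (The published
statement does not say that the finitely many marked points are distinct; for two coincident points
with different lifts no such automorphism exists, so the points are taken pairwise distinct here,
and the source's non-singular is read as smooth over k.) -/
theorem result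
    (k : Type u) [Field k] (A : Type u) [CommRing A] [Algebra k A] [Algebra.Smooth k A]
    {ι : Type v} [Finite ι] (q : ι → (A →ₐ[k] k)) (hq : Function.Injective q)
    (q' : ι → (DualNumber A →ₐ[k] DualNumber k))
    (hε : ∀ i, q' i DualNumber.eps = DualNumber.eps) (hq' : ∀ i x, (q' i x).fst = q i x.fst) :
    ∃ φ : DualNumber A ≃ₐ[k] DualNumber A,
      φ DualNumber.eps = DualNumber.eps ∧ (∀ x, (φ x).fst = x.fst) ∧
        ∀ i x, (q' i (φ x)).fst = q i x.fst ∧ (q' i (φ x)).snd = q i x.snd := by
  classical
  cases nonempty_fintype ι
  -- separating elements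
  have hsep : ∀ i j, ∃ a : A, i ≠ j → (q i a = 1 ∧ q j a = 0) := by
    intro i j
    by_cases hij : i = j
    · exact ⟨0, fun h => absurd hij h⟩
    · have hne : q i ≠ q j := fun h => hij (hq h)
      obtain ⟨a, ha⟩ : ∃ a, q i a ≠ q j a := by
        by_contra hcon
        push Not at hcon
        exact hne (AlgHom.ext hcon)
      have hd : q i a - q j a ≠ 0 := sub_ne_zero.mpr ha
      have e1 : ∀ c : k, algebraMap k k c = c := fun c => rfl
      refine ⟨(q i a - q j a)⁻¹ • (a - algebraMap k A (q j a)), fun _ => ⟨?_, ?_⟩⟩
      · rw [map_smul, map_sub, AlgHom.commutes, e1, smul_eq_mul]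
        exact inv_mul_cancel₀ hd
      · rw [map_smul, map_sub, AlgHom.commutes, e1, sub_self, smul_zero]
  choose s hs using hsep
  have hE1 : ∀ i, q i (∏ j ∈ Finset.univ.erase i, s i j) = 1 := by
    intro i
    rw [map_prod]
    exact Finset.prod_eq_one fun j hj => (hs i j (Finset.ne_of_mem_erase hj).symm).1
  have hE0 : ∀ i j, i ≠ j → q j (∏ l ∈ Finset.univ.erase i, s i l) = 0 := by
    intro i j hij
    rw [map_prod]
    exact Finset.prod_eq_zero (Finset.mem_erase.mpr ⟨hij.symm, Finset.mem_univ j⟩) (hs i j hij).2
  have hQsurj : ∀ c : ι → k, ∃ a : A, ∀ i, q i a = c i := by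
    intro c
    refine ⟨∑ i, c i • ∏ j ∈ Finset.univ.erase i, s i j, fun j => ?_⟩
    rw [map_sum, Finset.sum_eq_single j]
    · rw [map_smul, hE1, smul_eq_mul, mul_one]
    · intro i _ hij
      rw [map_smul, hE0 i j hij, smul_zero]
    · intro h; exact absurd (Finset.mem_univ j) h
  -- the module structure on ι → k through the points
  let Q : A →ₐ[k] (ι → k) := AlgHom.pi q
  have hQ : ∀ a i, Q a i = q i a := fun a i => rfl
  let modN : Module A (ι → k) := Module.compHom (ι → k) (Q : A →+* (ι → k))
  have hsmul : ∀ (a : A) (n : ι → k), a • n = Q a * n := fun a n => rfl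
  have tower : IsScalarTower k A (ι → k) := ⟨fun c a n => by
    rw [hsmul, hsmul, map_smul, smul_mul_assoc]⟩
  let δlin : A →ₗ[k] (ι → k) :=
    { toFun := fun a i => (q' i (inl a)).snd
      map_add' := fun a b => by
        funext i
        simp only [Pi.add_apply]
        rw [inl_add, map_add, snd_add]
      map_smul' := fun c a => by
        funext i
        simp only [Pi.smul_apply, RingHom.id_apply]
        rw [inl_smul, map_smul, snd_smul] }
  let δ : Derivation k A (ι → k) := Derivation.mk' δlin (fun a b => by
    funext i
    change (q' i (inl (a * b))).snd = q i a * (q' i (inl b)).snd + q i b * (q' i (inl a)).snd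
    rw [inl_mul, map_mul, DualNumber.snd_mul, hq', hq', fst_inl, fst_inl]
    ring)
  have hδ : ∀ a i, δ a i = (q' i (inl a)).snd := fun a i => rfl
  let fQ : A →ₗ[A] (ι → k) :=
    { toFun := fun a => Q a
      map_add' := fun a b => map_add Q a b
      map_smul' := fun a b => by rw [RingHom.id_apply, hsmul, smul_eq_mul, map_mul] }
  have hfQ : Function.Surjective fQ := fun c => by
    obtain ⟨a, ha⟩ := hQsurj c
    exact ⟨a, funext fun i => ha i⟩
  obtain ⟨h, hh⟩ := Module.projective_lifting_property fQ (-δ).liftKaehlerDifferential hfQ
  have hD : ∀ i a, q i ((h.compDer (KaehlerDifferential.D k A)) a) = -(q' i (inl a)).snd := by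
    intro i a
    have h1 := congrArg (fun L : Ω[A⁄k] →ₗ[A] (ι → k) => L (KaehlerDifferential.D k A a) i) hh
    simp only [LinearMap.comp_apply, Derivation.liftKaehlerDifferential_comp_D] at h1
    exact h1
  refine ⟨Groth.Agent.S15987.shearEquiv (h.compDer (KaehlerDifferential.D k A)),
    Groth.Agent.S15987.shearEquiv_eps _, Groth.Agent.S15987.shearEquiv_fst _, fun i x => ⟨?_, ?_⟩⟩
  · rw [hq', Groth.Agent.S15987.shearEquiv_fst]
  · rw [Groth.Agent.S15987.snd_apply_of_eps (q' i) (q i) (hε i) (hq' i),
      Groth.Agent.S15987.shearEquiv_fst, Groth.Agent.S15987.shearEquiv_snd, map_add, hD]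
    ring

end Groth.Agent.S15988
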