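import Groth.Statements.S1599
import Mathlib
import Groth.Agent.Lib.NormalFinExt_helper5
import Groth.Agent.Lib.ComplFinAlg_helper5
import Groth.Agent.Lib.GeomNormal_helper3
import Groth.Agent.Lib.ComplReg_helper3

set_option autoImplicit false
universe u
open CategoryTheory CategoryTheory.Limits AlgebraicGeometry
open Resolve

namespace Groth.Agent.S1599

/-- Let A be a Noetherian local ring with maximal ideal m and B ⊆ C finite A-algebras. If B is a normal
ring and the m-adic completion of C is a normal ring, then the m-adic completion of B is a normal
ring. -/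
theorem result (A : Type u) [CommRing A] [IsLocalRing A] [IsNoetherianRing A]
    (B C : Type u) [CommRing B] [CommRing C] [Algebra A B] [Algebra A C] [Algebra B C] [IsScalarTower A B C]
    [Module.Finite A B] [Module.Finite A C] (hinj : Function.Injective (algebraMap B C))
    (hB : EGA4.IsNormalRing B)
    (hC : EGA4.IsNormalRing (AdicCompletion ((IsLocalRing.maximalIdeal A).map (algebraMap A C)) C)) :
    EGA4.IsNormalRing (AdicCompletion ((IsLocalRing.maximalIdeal A).map (algebraMap A B)) B) := by
  classical
  haveI : IsNoetherianRing B := IsNoetherianRing.of_finite A B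
  haveI : Module.Finite B C := Module.Finite.of_restrictScalars_finite A B C
  set I : Ideal B := (IsLocalRing.maximalIdeal A).map (algebraMap A B) with hI
  have hIC : I.map (algebraMap B C) = (IsLocalRing.maximalIdeal A).map (algebraMap A C) := by
    rw [hI, Ideal.map_map, ← IsScalarTower.algebraMap_eq]
  rw [← hIC] at hC
  haveI : IsNoetherianRing (AdicCompletion I B) :=
    Groth.Agent.Lib.ComplRegH3.isNoetherianRing_adicCompletion B I
  haveI : Module.Flat B (AdicCompletion I B) := AdicCompletion.flat_of_isNoetherian I
  have hE : EGA4.IsNormalRing (TensorProduct B (AdicCompletion I B) C) :=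
    Groth.Agent.Lib.GeomNormalH3.isNormalRing_of_ringEquiv
      (Groth.Agent.Lib.ComplFinAlgH5.tensorEquiv B C I).symm.toRingEquiv hC
  exact Groth.Agent.Lib.NormalFinExtH5.normal_of_finite_ext B (AdicCompletion I B) C hinj hB hE

end Groth.Agent.S1599
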