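import Groth.Statements.S15995
import Mathlib

set_option autoImplicit false
open CategoryTheory AlgebraicGeometry
universe u
open FrobSch

namespace Groth.Agent.S15995

open CategoryTheory.Limits in
theorem relFrob_comp_isIso (p : ℕ) [Fact p.Prime] {X' T S : Scheme.{u}}
    [FrobSch.IsCharP S p] [FrobSch.IsCharP T p] (f : T ⟶ S) (hf : IsIso (FrobSch.relFrob f p))
    (π : X' ⟶ T) (hπ : IsIso (FrobSch.relFrob π p)) : IsIso (FrobSch.relFrob (π ≫ f) p) := by
  have hX' : FrobSch.IsCharP X' p := FrobSch.IsCharP.of_hom π p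
  obtain ⟨u, hu1, hu2⟩ : ∃ u : pullback (π ≫ f) (FrobSch.frob S p) ⟶ pullback f (FrobSch.frob S p),
      u ≫ pullback.fst f (FrobSch.frob S p) = pullback.fst (π ≫ f) (FrobSch.frob S p) ≫ π ∧
      u ≫ pullback.snd f (FrobSch.frob S p) = pullback.snd (π ≫ f) (FrobSch.frob S p) :=
    ⟨pullback.lift (pullback.fst _ _ ≫ π) (pullback.snd _ _)
      (by rw [Category.assoc, pullback.condition]), pullback.lift_fst _ _ _, pullback.lift_snd _ _ _⟩
  have sq1 : IsPullback u (pullback.fst (π ≫ f) (FrobSch.frob S p))
      (pullback.fst f (FrobSch.frob S p)) π := by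
    refine IsPullback.of_right ?_ hu1 (IsPullback.of_hasPullback f (FrobSch.frob S p)).flip
    rw [hu2]
    exact (IsPullback.of_hasPullback (π ≫ f) (FrobSch.frob S p)).flip
  obtain ⟨w, hw1, hw2⟩ : ∃ w : pullback π (FrobSch.frob T p) ⟶ pullback (π ≫ f) (FrobSch.frob S p),
      w ≫ pullback.fst (π ≫ f) (FrobSch.frob S p) = pullback.fst π (FrobSch.frob T p) ∧
      w ≫ pullback.snd (π ≫ f) (FrobSch.frob S p) = pullback.snd π (FrobSch.frob T p) ≫ f :=
    ⟨pullback.lift (pullback.fst _ _) (pullback.snd _ _ ≫ f)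
      (by
        simp only [Category.assoc]
        rw [pullback.condition_assoc, FrobSch.frob_comp]),
      pullback.lift_fst _ _ _, pullback.lift_snd _ _ _⟩
  have comm2 : w ≫ u = pullback.snd π (FrobSch.frob T p) ≫ FrobSch.relFrob f p := by
    apply pullback.hom_ext
    · simp only [Category.assoc]
      rw [hu1, ← Category.assoc, hw1, FrobSch.relFrob_fst, pullback.condition]
    · simp only [Category.assoc]
      rw [hu2, hw2, FrobSch.relFrob_snd]
  have sq2 : IsPullback w (pullback.snd π (FrobSch.frob T p)) u (FrobSch.relFrob f p) := by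
    refine IsPullback.of_right ?_ comm2 sq1.flip
    rw [hw1, FrobSch.relFrob_fst]
    exact IsPullback.of_hasPullback π (FrobSch.frob T p)
  have hw : IsIso w := sq2.isIso_fst_of_isIso hf
  have hfac : FrobSch.relFrob (π ≫ f) p = FrobSch.relFrob π p ≫ w := by
    apply pullback.hom_ext
    · rw [FrobSch.relFrob_fst, Category.assoc, hw1, FrobSch.relFrob_fst]
    · rw [FrobSch.relFrob_snd, Category.assoc, hw2, ← Category.assoc, FrobSch.relFrob_snd]
  rw [hfac]
  infer_instance

open CategoryTheory.Limits in
theorem relFrob_baseChange_isIso (p : ℕ) [Fact p.Prime] {Y T S : Scheme.{u}}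
    [FrobSch.IsCharP S p] [FrobSch.IsCharP T p] (f : T ⟶ S) (r : Y ⟶ S)
    (hr : IsIso (FrobSch.relFrob r p)) :
    IsIso (FrobSch.relFrob (pullback.snd r f) p) := by
  have hY : FrobSch.IsCharP Y p := FrobSch.IsCharP.of_hom r p
  have hYT : FrobSch.IsCharP (pullback r f) p := FrobSch.IsCharP.of_hom (pullback.snd r f) p
  obtain ⟨v, hv1, hv2⟩ : ∃ v : pullback (pullback.snd r f) (FrobSch.frob T p) ⟶
        pullback r (FrobSch.frob S p),
      v ≫ pullback.fst r (FrobSch.frob S p) =
        pullback.fst (pullback.snd r f) (FrobSch.frob T p) ≫ pullback.fst r f ∧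
      v ≫ pullback.snd r (FrobSch.frob S p) =
        pullback.snd (pullback.snd r f) (FrobSch.frob T p) ≫ f :=
    ⟨pullback.lift (pullback.fst _ _ ≫ pullback.fst r f) (pullback.snd _ _ ≫ f)
      (by
        simp only [Category.assoc]
        rw [pullback.condition (f := r) (g := f), pullback.condition_assoc, FrobSch.frob_comp]),
      pullback.lift_fst _ _ _, pullback.lift_snd _ _ _⟩
  have sqR : IsPullback v (pullback.snd (pullback.snd r f) (FrobSch.frob T p))
      (pullback.snd r (FrobSch.frob S p)) f := by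
    refine IsPullback.of_right ?_ hv2 (IsPullback.of_hasPullback r (FrobSch.frob S p))
    rw [hv1, ← FrobSch.frob_comp p f]
    exact (IsPullback.of_hasPullback (pullback.snd r f) (FrobSch.frob T p)).paste_horiz
      (IsPullback.of_hasPullback r f)
  have commL : FrobSch.relFrob (pullback.snd r f) p ≫ v =
      pullback.fst r f ≫ FrobSch.relFrob r p := by
    apply pullback.hom_ext
    · simp only [Category.assoc]
      rw [hv1, FrobSch.relFrob_fst_assoc, FrobSch.relFrob_fst, FrobSch.frob_comp]
    · simp only [Category.assoc]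
      rw [hv2, FrobSch.relFrob_snd_assoc, FrobSch.relFrob_snd, pullback.condition]
  have sqL : IsPullback (FrobSch.relFrob (pullback.snd r f) p) (pullback.fst r f) v
      (FrobSch.relFrob r p) := by
    refine IsPullback.of_right ?_ commL sqR.flip
    rw [FrobSch.relFrob_snd, FrobSch.relFrob_snd]
    exact (IsPullback.of_hasPullback r f).flip
  exact sqL.isIso_fst_of_isIso hr


/-- Coperfection commutes with base restriction. Let S and T be schemes of characteristic p and f : T →
S a relatively perfect morphism (its relative Frobenius T → T^(p/S) is an isomorphism). Let g : X →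
T and let c : X → X' be a T-morphism to a relatively perfect T-scheme π : X' → T which is a
coperfection of X over T: for every relatively perfect T-scheme Y, every T-morphism X → Y factors
uniquely through c. Then X' with structure map π ≫ f is relatively perfect over S and c is a
coperfection of X over S: every S-morphism from X to a relatively perfect S-scheme factors uniquely
through c. (The source works with algebraic spaces; schemes here.) -/
theorem result (p : ℕ) [Fact p.Prime] {X X' T S : Scheme.{u}}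
    [FrobSch.IsCharP S p] [FrobSch.IsCharP T p] (f : T ⟶ S) (hf : IsIso (FrobSch.relFrob f p))
    (g : X ⟶ T) (π : X' ⟶ T) (hπ : IsIso (FrobSch.relFrob π p)) (c : X ⟶ X') (hc : c ≫ π = g)
    (huniv : ∀ (Y : Scheme.{u}) (q : Y ⟶ T), IsIso (FrobSch.relFrob q p) →
      ∀ k : X ⟶ Y, k ≫ q = g → ∃! h : X' ⟶ Y, h ≫ q = π ∧ c ≫ h = k) :
    IsIso (FrobSch.relFrob (π ≫ f) p) ∧
      ∀ (Y : Scheme.{u}) (r : Y ⟶ S), IsIso (FrobSch.relFrob r p) →
        ∀ k : X ⟶ Y, k ≫ r = g ≫ f → ∃! h : X' ⟶ Y, h ≫ r = π ≫ f ∧ c ≫ h = k := by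
  refine ⟨relFrob_comp_isIso p f hf π hπ, ?_⟩
  intro Y r hr k hk
  have hq := relFrob_baseChange_isIso p f r hr
  obtain ⟨hT, ⟨h1, h2⟩, huniq⟩ := huniv (Limits.pullback r f) (Limits.pullback.snd r f) hq
    (Limits.pullback.lift k g hk) (Limits.pullback.lift_snd _ _ _)
  refine ⟨hT ≫ Limits.pullback.fst r f, ⟨?_, ?_⟩, ?_⟩
  · rw [Category.assoc, Limits.pullback.condition, ← Category.assoc, h1]
  · rw [← Category.assoc, h2, Limits.pullback.lift_fst]
  · rintro h' ⟨h'1, h'2⟩
    have hh : Limits.pullback.lift h' π h'1 = hT := huniq _ ⟨Limits.pullback.lift_snd _ _ _, by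
      apply Limits.pullback.hom_ext
      · rw [Category.assoc, Limits.pullback.lift_fst, Limits.pullback.lift_fst, h'2]
      · rw [Category.assoc, Limits.pullback.lift_snd, Limits.pullback.lift_snd, hc]⟩
    rw [← hh, Limits.pullback.lift_fst]

end Groth.Agent.S15995
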