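import Groth.Statements.S16001
import Mathlib

set_option autoImplicit false
universe u
open FrobAlg

namespace Groth.Agent.S16001

open scoped TensorProduct


/-- Let A be a commutative ring of prime characteristic p and B a commutative A-algebra of
characteristic p such that the relative Frobenius B ⊗_{A,Frob} A → B, b ⊗ a ↦ b^p a, is bijective
(that is, Spec B → Spec A is relatively perfect; no finiteness condition is imposed). Then B is
formally étale over A. (The source proves that every perfect algebraic stack over an algebraic space
of characteristic p is formally étale over it; this is the case of an affine scheme over an affine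
base.) -/
theorem result (p : ℕ) [Fact p.Prime] (A : Type u) [CommRing A] [CharP A p]
    (B : Type u) [CommRing B] [Algebra A B] [CharP B p]
    (h : Function.Bijective (FrobAlg.relFrob p A B)) : Algebra.FormallyEtale A B := by
  have hp : p.Prime := Fact.out
  have hrel : ∀ (b : B) (a : A), FrobAlg.relFrob p A B (b ⊗ₜ[A] FrobAlg.toTwist p A a) =
      b ^ p * algebraMap A B a := by
    intro b a
    rfl
  have hsurjT : ∀ t : FrobAlg.Twist p A, ∃ a : A, t = FrobAlg.toTwist p A a := fun t =>
    ⟨(FrobAlg.toTwist p A).symm t, ((FrobAlg.toTwist p A).apply_symm_apply t).symm⟩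
  rw [Algebra.FormallyEtale.iff_comp_bijective]
  intro C _ _ I hI
  rcases subsingleton_or_nontrivial C with hC | hC
  · have : Subsingleton (C ⧸ I) := Ideal.Quotient.mk_surjective.subsingleton
    refine ⟨fun f₁ f₂ _ => AlgHom.ext fun x => Subsingleton.elim _ _, fun f =>
      ⟨?_, AlgHom.ext fun x => Subsingleton.elim _ _⟩⟩
    exact
      { toFun := fun _ => 0
        map_one' := Subsingleton.elim _ _
        map_mul' := fun _ _ => Subsingleton.elim _ _
        map_zero' := rfl
        map_add' := fun _ _ => Subsingleton.elim _ _
        commutes' := fun _ => Subsingleton.elim _ _ }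
  · have hpC : (p : C) = 0 := by
      have h1 : (p : C) = algebraMap A C (p : A) := (map_natCast (algebraMap A C) p).symm
      rw [h1, CharP.cast_eq_zero, map_zero]
    have : CharP C p := (CharP.charP_iff_prime_eq_zero hp).2 hpC
    have hIp : ∀ i ∈ I, frobenius C p i = 0 := by
      intro i hi
      have h2 : i ^ 2 = 0 := by
        have h3 : i ^ 2 ∈ I ^ 2 := Ideal.pow_mem_pow hi 2
        rw [hI] at h3
        exact h3
      rw [frobenius_def, ← Nat.sub_add_cancel hp.two_le, pow_add, h2, mul_zero]
    obtain ⟨φ, hφ⟩ : ∃ φ : C ⧸ I →+* C, ∀ c : C, φ (Ideal.Quotient.mk I c) = c ^ p :=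
      ⟨Ideal.Quotient.lift I (frobenius C p) hIp, fun c => rfl⟩
    have hφmk : ∀ y : C ⧸ I, Ideal.Quotient.mk I (φ y) = y ^ p := by
      intro y
      obtain ⟨c, rfl⟩ := Ideal.Quotient.mk_surjective y
      rw [hφ, map_pow]
    constructor
    · intro f₁ f₂ hf
      have hmk : ∀ x, Ideal.Quotient.mk I (f₁ x) = Ideal.Quotient.mk I (f₂ x) := fun x =>
        congrArg (fun g : B →ₐ[A] C ⧸ I => g x) hf
      have hpow : ∀ b, (f₁ b) ^ p = (f₂ b) ^ p := fun b => by rw [← hφ, ← hφ, hmk]
      have hz : ∀ z : FrobAlg.BaseChange p A B,
          f₁ (FrobAlg.relFrob p A B z) = f₂ (FrobAlg.relFrob p A B z) := by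
        intro z
        induction z using TensorProduct.induction_on with
        | zero => simp only [map_zero]
        | tmul b t =>
          obtain ⟨a, ha⟩ := hsurjT t
          rw [ha]
          rw [hrel, map_mul, map_mul, map_pow, map_pow, hpow, AlgHom.commutes, AlgHom.commutes]
        | add y y' hy hy' => rw [map_add, map_add, map_add, hy, hy']
      refine AlgHom.ext fun x => ?_
      obtain ⟨z, rfl⟩ := h.2 x
      exact hz z
    · intro fbar
      obtain ⟨f, hf⟩ : ∃ f : B →ₐ[A] FrobAlg.Target p A C,
          ∀ b, f b = FrobAlg.toTarget p A C (φ (fbar b)) :=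
        ⟨{ toRingHom := (FrobAlg.toTarget p A C : C →+* FrobAlg.Target p A C).comp
              (φ.comp fbar.toRingHom)
           commutes' := fun a => by
            change FrobAlg.toTarget p A C (φ (fbar (algebraMap A B a))) = _
            rw [AlgHom.commutes, FrobAlg.algebraMap_target]
            congr 1
            exact hφ (algebraMap A C a) }, fun b => rfl⟩
      obtain ⟨G, hG⟩ : ∃ G : FrobAlg.BaseChange p A B →+* C,
          ∀ (b : B) (a : A), G (b ⊗ₜ[A] FrobAlg.toTwist p A a) = φ (fbar b) * algebraMap A C a :=
        ⟨((FrobAlg.toTarget p A C).symm : FrobAlg.Target p A C →+* C).comp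
          (Algebra.TensorProduct.lift f (FrobAlg.inclHom p A C)
            (fun _ _ => Commute.all _ _)).toRingHom, fun b a => by
          change (FrobAlg.toTarget p A C).symm
            (Algebra.TensorProduct.lift f (FrobAlg.inclHom p A C) (fun _ _ => Commute.all _ _)
              (b ⊗ₜ[A] FrobAlg.toTwist p A a)) = _
          rw [Algebra.TensorProduct.lift_tmul, hf]
          rfl⟩
      obtain ⟨F, hF⟩ : ∃ F : B →+* C, ∀ z, F (FrobAlg.relFrob p A B z) = G z :=
        ⟨G.comp ((RingEquiv.ofBijective (FrobAlg.relFrob p A B) h).symm :
            B →+* FrobAlg.BaseChange p A B), fun z => by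
          change G ((RingEquiv.ofBijective (FrobAlg.relFrob p A B) h).symm
            ((RingEquiv.ofBijective (FrobAlg.relFrob p A B) h) z)) = G z
          rw [RingEquiv.symm_apply_apply]⟩
      refine ⟨{ toRingHom := F, commutes' := fun a => ?_ }, ?_⟩
      · have h1 : algebraMap A B a =
            FrobAlg.relFrob p A B ((1 : B) ⊗ₜ[A] FrobAlg.toTwist p A a) := by
          rw [hrel, one_pow, one_mul]
        change F (algebraMap A B a) = algebraMap A C a
        rw [h1, hF, hG, map_one, map_one, one_mul]
      · refine AlgHom.ext fun x => ?_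
        obtain ⟨z, rfl⟩ := h.2 x
        change Ideal.Quotient.mk I (F (FrobAlg.relFrob p A B z)) = fbar (FrobAlg.relFrob p A B z)
        rw [hF]
        induction z using TensorProduct.induction_on with
        | zero => simp only [map_zero]
        | tmul b t =>
          obtain ⟨a, ha⟩ := hsurjT t
          rw [ha]
          rw [hG, hrel, map_mul, hφmk, map_mul, map_pow, AlgHom.commutes]
          rfl
        | add y y' hy hy' => rw [map_add, map_add, map_add, map_add, hy, hy']

end Groth.Agent.S16001
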