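import Groth.Statements.S16014
import Mathlib.Tactic.Ring
import Mathlib.Tactic.Linarith
import Mathlib.Order.Interval.Finset.Basic
import Mathlib.Algebra.BigOperators.Ring.Finset
import Mathlib.Algebra.BigOperators.Group.Finset.Sigma

set_option autoImplicit false
universe u
open W4c3ghconstell

namespace Groth.Agent.S16014

/-- Let B = ⊕_{n ∈ ℤ} ⊕_τ B^n_τ be a bigraded finite-dimensional vector space, τ running over a finite
index set, with B^n = 0 for n < −N and for n > M (N, M integers); put d(n, τ) = dim B^n_τ. For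
rational numbers φ_τ write φ(C) = Σ_τ φ_τ dim C_τ for a τ-graded piece C, and let B^{≥n} = ⊕_{m ≥ n}
B^m, so that dim B^{≥n}_τ = Σ_{n ≤ m ≤ M} d(m, τ). Then Σ_{−N ≤ n ≤ M} n · φ(B^n) = Σ_{−N+1 ≤ n ≤ M}
φ(B^{≥n}) − N · φ(B). (Stated directly on the dimension function d.) -/
theorem result {τ : Type u} [Fintype τ] (d : ℤ → τ → ℕ) (φ : τ → ℚ) (N M : ℤ)
    (hN : ∀ n, n < -N → d n = 0) (hM : ∀ n, M < n → d n = 0) :
    ∑ n ∈ Finset.Icc (-N) M, (n : ℚ) * (∑ t, φ t * (d n t : ℚ)) =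
      ∑ n ∈ Finset.Icc (-N + 1) M, (∑ t, φ t * (∑ m ∈ Finset.Icc n M, (d m t : ℚ))) -
        (N : ℚ) * (∑ t, φ t * (∑ m ∈ Finset.Icc (-N) M, (d m t : ℚ))) := by
  have step2 : ∀ a : ℤ → ℚ, ∑ n ∈ Finset.Icc (-N) M, (n : ℚ) * a n =
      ∑ n ∈ Finset.Icc (-N + 1) M, ∑ m ∈ Finset.Icc n M, a m -
        (N : ℚ) * ∑ m ∈ Finset.Icc (-N) M, a m := by
    intro a
    have h1 : ∑ n ∈ Finset.Icc (-N + 1) M, ∑ m ∈ Finset.Icc n M, a m =
        ∑ m ∈ Finset.Icc (-N + 1) M, ∑ _n ∈ Finset.Icc (-N + 1) m, a m := by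
      apply Finset.sum_comm'
      intro n m
      simp only [Finset.mem_Icc]
      constructor
      · rintro ⟨⟨h1, h2⟩, h3, h4⟩
        exact ⟨⟨h1, h3⟩, by omega, h4⟩
      · rintro ⟨⟨h1, h2⟩, h3, h4⟩
        exact ⟨⟨h1, by omega⟩, h2, h4⟩
    have h2 : ∑ m ∈ Finset.Icc (-N + 1) M, ∑ _n ∈ Finset.Icc (-N + 1) m, a m =
        ∑ m ∈ Finset.Icc (-N + 1) M, ((m : ℚ) + N) * a m := by
      apply Finset.sum_congr rfl
      intro m hm
      rw [Finset.mem_Icc] at hm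
      rw [Finset.sum_const, Int.card_Icc, nsmul_eq_mul]
      have h0 : 0 ≤ m + 1 - (-N + 1) := by omega
      have h3 := Int.toNat_of_nonneg h0
      have h4 : (((m + 1 - (-N + 1)).toNat : ℤ) : ℚ) = ((m + 1 - (-N + 1) : ℤ) : ℚ) := by rw [h3]
      rw [Int.cast_natCast] at h4
      rw [h4]
      push_cast
      ring
    have h3 : ∑ m ∈ Finset.Icc (-N + 1) M, ((m : ℚ) + N) * a m =
        ∑ m ∈ Finset.Icc (-N) M, ((m : ℚ) + N) * a m := by
      apply Finset.sum_subset (Finset.Icc_subset_Icc (by omega) le_rfl)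
      intro x hx hx'
      simp only [Finset.mem_Icc] at hx hx'
      have hxN : x = -N := by omega
      subst hxN
      push_cast
      ring
    rw [h1, h2, h3, Finset.mul_sum, ← Finset.sum_sub_distrib]
    apply Finset.sum_congr rfl
    intro n _
    ring
  have step1 : ∀ (s : Finset ℤ), ∑ t, φ t * ∑ m ∈ s, (d m t : ℚ) =
      ∑ m ∈ s, ∑ t, φ t * (d m t : ℚ) := by
    intro s
    simp_rw [Finset.mul_sum]
    exact Finset.sum_comm
  rw [step2 (fun n => ∑ t, φ t * (d n t : ℚ))]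
  simp_rw [step1]

end Groth.Agent.S16014
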