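import Groth.Statements.S16015
import Mathlib

set_option autoImplicit false
universe u v w
open W4c3ghconstell

namespace Groth.Agent.S16015

/-- Let B be a commutative ring, E a B-module, F a finitely generated projective B-module and β : E → F
a B-linear map. Then there is a unique ideal I of B such that for every commutative B-algebra C the
base change β_C : C ⊗ E → C ⊗ F is zero if and only if the structure map B → C kills I. (The
published statement is for a homomorphism of modules on a scheme T into a locally free module and
produces a closed subscheme T₀ through which a morphism factors exactly when the pulled-back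
homomorphism vanishes; this row is the case of an affine T with affine test schemes and F of finite
rank, to which it reduces.) -/
theorem result {B : Type u} [CommRing B]
    {E : Type v} [AddCommGroup E] [Module B E]
    {F : Type w} [AddCommGroup F] [Module B F] [Module.Finite B F] [Module.Projective B F]
    (β : E →ₗ[B] F) :
    ∃! I : Ideal B, ∀ (C : Type u) [CommRing C] [Algebra B C],
      LinearMap.baseChange C β = 0 ↔ I ≤ RingHom.ker (algebraMap B C) := by
  classical
  obtain ⟨n, p, hp⟩ := Module.Finite.exists_fin' B F
  obtain ⟨s, hs⟩ := Module.projective_lifting_property p LinearMap.id hp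
  have hdec : ∀ x : F, x = ∑ j : Fin n, (s x j) • p (fun k => if j = k then 1 else 0) := by
    intro x
    have h1 : p (s x) = x := by
      have := congrArg (fun g => g x) hs
      simpa using this
    conv_lhs => rw [← h1, LinearMap.pi_apply_eq_sum_univ p (s x)]
  let I : Ideal B := Ideal.span {b | ∃ (ψ : F →ₗ[B] B) (e : E), ψ (β e) = b}
  have hI : ∀ (C : Type u) [CommRing C] [Algebra B C],
      LinearMap.baseChange C β = 0 ↔ I ≤ RingHom.ker (algebraMap B C) := by
    intro C _ _
    constructor
    · intro h0
      show Ideal.span _ ≤ _
      rw [Ideal.span_le]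
      rintro b ⟨ψ, e, rfl⟩
      rw [SetLike.mem_coe, RingHom.mem_ker]
      have h1 : LinearMap.baseChange C β ((1 : C) ⊗ₜ[B] e) = 0 := by rw [h0]; rfl
      rw [LinearMap.baseChange_tmul] at h1
      have h2 := congrArg (LinearMap.baseChange C ψ) h1
      rw [LinearMap.baseChange_tmul, map_zero] at h2
      have h3 := congrArg (TensorProduct.rid B C) h2
      rw [TensorProduct.rid_tmul, map_zero] at h3
      rwa [Algebra.smul_def, mul_one] at h3
    · intro hIle
      apply LinearMap.ext
      intro x
      induction x using TensorProduct.induction_on with
      | zero => simp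
      | tmul c e =>
        rw [LinearMap.baseChange_tmul, LinearMap.zero_apply]
        conv_lhs => rw [hdec (β e)]
        rw [TensorProduct.tmul_sum]
        refine Finset.sum_eq_zero (fun j _ => ?_)
        have hmem : s (β e) j ∈ I := Ideal.subset_span ⟨(LinearMap.proj j).comp s, e, rfl⟩
        have hz : algebraMap B C (s (β e) j) = 0 := (RingHom.mem_ker).mp (hIle hmem)
        rw [TensorProduct.tmul_smul, TensorProduct.smul_tmul', Algebra.smul_def, hz, zero_mul,
          TensorProduct.zero_tmul]
      | add x y hx hy =>
        rw [map_add, hx, hy]; simp
  have kerq : ∀ K : Ideal B, RingHom.ker (algebraMap B (B ⧸ K)) = K := fun K => by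
    rw [Ideal.Quotient.algebraMap_eq]; exact Ideal.mk_ker
  refine ⟨I, hI, fun J hJ => ?_⟩
  apply le_antisymm
  · have h1 := (hI (B ⧸ I)).mpr (kerq I).ge
    have h2 := (hJ (B ⧸ I)).mp h1
    exact h2.trans (kerq I).le
  · have h1 := (hJ (B ⧸ J)).mpr (kerq J).ge
    have h2 := (hI (B ⧸ J)).mp h1
    exact h2.trans (kerq J).le

end Groth.Agent.S16015
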