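import Groth.Statements.S16016
import Mathlib.Tactic.LinearCombination
import Mathlib.Tactic.FinCases
import Mathlib.Algebra.BigOperators.Fin
import Mathlib.Tactic.Ring
import Mathlib.LinearAlgebra.Span.Basic

set_option autoImplicit false
universe u
open W4c3ghconstell

namespace Groth.Agent.S16016

/-- Let k be a field with 2 ≠ 0, index k⁶ by two copies of {0,1,2} (basis vectors p₁, p₂, p₃ in the
first copy and p₄, p₅, p₆ in the second), let Q be the symmetric matrix with blocks ((0, 1), (1,
0)), so that the form it defines pairs pᵢ with pᵢ₊₃, and let W₀ be the span of p₁ and p₂. Then a 6 ×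
6 matrix A satisfies AᵀQ + QA = 0 (A lies in the orthogonal Lie algebra of Q) and has the image of
Aᵀ contained in W₀ if and only if A = a · (E₄₂ − E₅₁) for some scalar a, where Eᵢⱼ is the matrix
unit. (The lemma in the source concludes that the set of such A inside a certain nilpotent orbit
closure of this Lie algebra is one-dimensional; this row is the computation its proof performs,
which determines all such A in the Lie algebra. Characteristic 2 is excluded: there E₁₄ᵀ also
qualifies.) -/
theorem result (k : Type u) [Field k] (h2 : (2 : k) ≠ 0)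
    (A : Matrix (Fin 3 ⊕ Fin 3) (Fin 3 ⊕ Fin 3) k) :
    (A.transpose * Matrix.fromBlocks (0 : Matrix (Fin 3) (Fin 3) k) 1 1 0 +
        Matrix.fromBlocks (0 : Matrix (Fin 3) (Fin 3) k) 1 1 0 * A = 0 ∧
      LinearMap.range (Matrix.mulVecLin A.transpose) ≤
        Submodule.span k {Pi.single (Sum.inl 0 : Fin 3 ⊕ Fin 3) (1 : k), Pi.single (Sum.inl 1 : Fin 3 ⊕ Fin 3) (1 : k)}) ↔
    ∃ a : k, A = a • (Matrix.single (Sum.inr 0) (Sum.inl 1) (1 : k) - Matrix.single (Sum.inr 1) (Sum.inl 0) (1 : k)) := by
  classical
  constructor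
  · rintro ⟨hQ, hR⟩
    have hE : ∀ i j : Fin 3 ⊕ Fin 3, A (Sum.swap j) i + A (Sum.swap i) j = 0 := by
      intro i j
      have := congrFun (congrFun hQ i) j
      rcases i with i | i <;> rcases j with j | j <;>
        simpa [Matrix.mul_apply, Fintype.sum_sum_type, Matrix.one_apply] using this
    have hC : ∀ (r c : Fin 3 ⊕ Fin 3), c ≠ Sum.inl 0 → c ≠ Sum.inl 1 → A r c = 0 := by
      intro r c h0 h1
      have hmem : (Matrix.mulVecLin A.transpose) (Pi.single r 1) ∈
          Submodule.span k {Pi.single (Sum.inl 0 : Fin 3 ⊕ Fin 3) (1 : k),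
            Pi.single (Sum.inl 1 : Fin 3 ⊕ Fin 3) (1 : k)} := hR (LinearMap.mem_range_self _ _)
      rw [Submodule.mem_span_pair] at hmem
      obtain ⟨a, b, hab⟩ := hmem
      have hval : (Matrix.mulVecLin A.transpose (Pi.single r 1)) c = A r c := by
        rw [Matrix.mulVecLin_apply, Matrix.mulVec_single_one]
        rfl
      have := congrFun hab c
      rw [hval] at this
      rw [← this]
      simp [Pi.single_apply, h0, h1]
    have f1 : ∀ r b, A r (Sum.inr b) = 0 := fun r b => hC r _ (by simp) (by simp)
    have f2 : ∀ r, A r (Sum.inl 2) = 0 := fun r => hC r _ (by simp) (by simp)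
    have f3 : ∀ b a', A (Sum.inl b) (Sum.inl a') = 0 := by
      intro b a'
      have := hE (Sum.inl a') (Sum.inr b)
      simpa [f1] using this
    have g : ∀ a' b : Fin 3, A (Sum.inr b) (Sum.inl a') + A (Sum.inr a') (Sum.inl b) = 0 :=
      fun a' b => hE (Sum.inl a') (Sum.inl b)
    have f4 : A (Sum.inr 0) (Sum.inl 0) = 0 := by
      have := g 0 0
      have h : (2:k) * A (Sum.inr 0) (Sum.inl 0) = 0 := by linear_combination this
      exact (mul_eq_zero.mp h).resolve_left h2
    have f5 : A (Sum.inr 1) (Sum.inl 1) = 0 := by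
      have := g 1 1
      have h : (2:k) * A (Sum.inr 1) (Sum.inl 1) = 0 := by linear_combination this
      exact (mul_eq_zero.mp h).resolve_left h2
    have f6 : A (Sum.inr 2) (Sum.inl 0) = 0 := by
      have := g 0 2
      simpa [f2] using this
    have f7 : A (Sum.inr 2) (Sum.inl 1) = 0 := by
      have := g 1 2
      simpa [f2] using this
    have f8 : A (Sum.inr 1) (Sum.inl 0) = - A (Sum.inr 0) (Sum.inl 1) := by
      have := g 0 1
      linear_combination this
    refine ⟨A (Sum.inr 0) (Sum.inl 1), ?_⟩
    ext i j
    rcases i with i | i <;> rcases j with j | j <;> fin_cases i <;> fin_cases j <;>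
      simp [Matrix.single_apply, f1, f2, f3, f4, f5, f6, f7, f8]
  · rintro ⟨a, rfl⟩
    constructor
    · ext i j
      rcases i with i | i <;> rcases j with j | j <;> fin_cases i <;> fin_cases j <;>
        simp [Matrix.mul_apply, Fintype.sum_sum_type, Fin.sum_univ_three, Matrix.single_apply,
          Matrix.one_apply]
    · rintro _ ⟨v, rfl⟩
      rw [Submodule.mem_span_pair]
      refine ⟨-(a * v (Sum.inr 1)), a * v (Sum.inr 0), ?_⟩
      ext c
      rcases c with c | c <;> fin_cases c <;>
        simp [Matrix.mulVec, dotProduct, Fintype.sum_sum_type, Fin.sum_univ_three,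
          Matrix.single_apply, Pi.single_apply]

end Groth.Agent.S16016
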