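import Groth.Statements.S16017
import Mathlib

set_option autoImplicit false
universe u
open W4c3ghconstell

namespace Groth.Agent.S16017

/-- Let ι index the irreducible representations, θ : ι → ℚ a weight negative at only finitely many
indices (the finite set D₋), h h' : ι → ℕ with h' ≤ h pointwise (the isotypic dimensions of an
object and of a sub-object) and Σ_i θ_i h_i summable. For a finite set D of indices put S_D = Σ_{i ∉
D} θ_i h_i, d = #(D ∖ D₋), and θ̃_D = Σ_{i ∈ D} θ_i h'_i + (S_D / d) · Σ_{i ∈ D ∖ D₋} h'_i / h_i,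
the modified weight attached to the parameters chosen for D (for D ⊇ D₋ the first sum is the
negative part plus the part over D ∖ D₋). Then θ̃_D tends to Σ_i θ_i h'_i as D grows through the
finite subsets of ι. (Here D runs over all finite sets of indices and a quotient by zero is zero;
the source lets D run over the finite subsets of the locus θ ≠ 0 containing D₋, and the same tail
estimate gives both.) -/
theorem result {ι : Type u} [DecidableEq ι] (θ : ι → ℚ) (h h' : ι → ℕ)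
    (hle : ∀ i, h' i ≤ h i) (hfin : {i | θ i < 0}.Finite)
    (hsum : Summable (fun i => (θ i : ℝ) * (h i : ℝ))) :
    Filter.Tendsto
      (fun D : Finset ι =>
        (∑ i ∈ D, (θ i : ℝ) * (h' i : ℝ)) +
          ((∑' i, if i ∈ D then (0 : ℝ) else (θ i : ℝ) * (h i : ℝ)) / ((D \ hfin.toFinset).card : ℝ)) *
            ∑ i ∈ D \ hfin.toFinset, ((h' i : ℝ) / (h i : ℝ)))
      Filter.atTop (nhds (∑' i, (θ i : ℝ) * (h' i : ℝ))) := by
  classical
  have hfabs : Summable (fun i => |(θ i : ℝ) * (h i : ℝ)|) := hsum.abs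
  have hg : Summable (fun i => (θ i : ℝ) * (h' i : ℝ)) := by
    refine Summable.of_norm_bounded (g := fun i => |(θ i : ℝ) * (h i : ℝ)|) hfabs (fun i => ?_)
    rw [Real.norm_eq_abs, abs_mul, abs_mul,
      abs_of_nonneg (Nat.cast_nonneg (h' i) : (0 : ℝ) ≤ ((h' i : ℕ) : ℝ)),
      abs_of_nonneg (Nat.cast_nonneg (h i) : (0 : ℝ) ≤ ((h i : ℕ) : ℝ))]
    exact mul_le_mul_of_nonneg_left (Nat.cast_le.mpr (hle i)) (abs_nonneg _)
  have hS : ∀ D : Finset ι, (∑' i, if i ∈ D then (0 : ℝ) else (θ i : ℝ) * (h i : ℝ)) =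
      (∑' i, (θ i : ℝ) * (h i : ℝ)) - ∑ i ∈ D, (θ i : ℝ) * (h i : ℝ) := by
    intro D
    have h1 : (fun i => if i ∈ D then (0 : ℝ) else (θ i : ℝ) * (h i : ℝ)) =
        fun i => (θ i : ℝ) * (h i : ℝ) - (if i ∈ D then (θ i : ℝ) * (h i : ℝ) else 0) := by
      funext i; split_ifs <;> simp
    have h2 : HasSum (fun i => if i ∈ D then (θ i : ℝ) * (h i : ℝ) else 0)
        (∑ i ∈ D, (θ i : ℝ) * (h i : ℝ)) := by
      have h3 : HasSum (fun i => if i ∈ D then (θ i : ℝ) * (h i : ℝ) else 0)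
          (∑ i ∈ D, (if i ∈ D then (θ i : ℝ) * (h i : ℝ) else 0)) :=
        hasSum_sum_of_ne_finset_zero (fun b hb => if_neg hb)
      have h4 : ∑ i ∈ D, (if i ∈ D then (θ i : ℝ) * (h i : ℝ) else 0) =
          ∑ i ∈ D, (θ i : ℝ) * (h i : ℝ) := Finset.sum_congr rfl (fun i hi => if_pos hi)
      rw [h4] at h3
      exact h3
    rw [h1]
    exact (hsum.hasSum.sub h2).tsum_eq
  have ht : Filter.Tendsto (fun D : Finset ι => ∑ i ∈ D, (θ i : ℝ) * (h i : ℝ)) Filter.atTop
      (nhds (∑' i, (θ i : ℝ) * (h i : ℝ))) := hsum.hasSum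
  have hS0 : Filter.Tendsto
      (fun D : Finset ι => ∑' i, if i ∈ D then (0 : ℝ) else (θ i : ℝ) * (h i : ℝ))
      Filter.atTop (nhds 0) := by
    have h5 := (tendsto_const_nhds (x := ∑' i, (θ i : ℝ) * (h i : ℝ))
      (f := (Filter.atTop : Filter (Finset ι)))).sub ht
    rw [sub_self] at h5
    refine h5.congr (fun D => (hS D).symm)
  have hbound : ∀ D : Finset ι,
      ‖((∑' i, if i ∈ D then (0 : ℝ) else (θ i : ℝ) * (h i : ℝ)) /
          ((D \ hfin.toFinset).card : ℝ)) *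
        ∑ i ∈ D \ hfin.toFinset, ((h' i : ℝ) / (h i : ℝ))‖ ≤
      |∑' i, if i ∈ D then (0 : ℝ) else (θ i : ℝ) * (h i : ℝ)| := by
    intro D
    have hr0 : 0 ≤ ∑ i ∈ D \ hfin.toFinset, ((h' i : ℝ) / (h i : ℝ)) :=
      Finset.sum_nonneg (fun i _ => div_nonneg (Nat.cast_nonneg _) (Nat.cast_nonneg _))
    have hr1 : ∑ i ∈ D \ hfin.toFinset, ((h' i : ℝ) / (h i : ℝ)) ≤
        ((D \ hfin.toFinset).card : ℝ) := by
      calc ∑ i ∈ D \ hfin.toFinset, ((h' i : ℝ) / (h i : ℝ))
          ≤ ∑ i ∈ D \ hfin.toFinset, (1 : ℝ) :=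
            Finset.sum_le_sum (fun i _ =>
              div_le_one_of_le₀ (Nat.cast_le.mpr (hle i)) (Nat.cast_nonneg _))
        _ = ((D \ hfin.toFinset).card : ℝ) := by simp
    rw [Real.norm_eq_abs, abs_mul, abs_div, abs_of_nonneg hr0,
      abs_of_nonneg (Nat.cast_nonneg (D \ hfin.toFinset).card :
        (0 : ℝ) ≤ (((D \ hfin.toFinset).card : ℕ) : ℝ))]
    by_cases hd : ((D \ hfin.toFinset).card : ℝ) = 0
    · rw [hd, div_zero, zero_mul]; exact abs_nonneg _
    · have hdpos : (0 : ℝ) < ((D \ hfin.toFinset).card : ℝ) :=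
        lt_of_le_of_ne (Nat.cast_nonneg _) (Ne.symm hd)
      rw [div_mul_eq_mul_div, div_le_iff₀ hdpos]
      exact mul_le_mul_of_nonneg_left hr1 (abs_nonneg _)
  have hterm2 := squeeze_zero_norm hbound (by simpa using hS0.abs)
  have hg' : Filter.Tendsto (fun D : Finset ι => ∑ i ∈ D, (θ i : ℝ) * (h' i : ℝ))
    Filter.atTop (nhds (∑' i, (θ i : ℝ) * (h' i : ℝ))) := hg.hasSum
  have hmain := Filter.Tendsto.add hg' hterm2
  rw [add_zero] at hmain
  exact hmain

end Groth.Agent.S16017
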