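import Groth.Statements.S16030
import Mathlib

set_option autoImplicit false
universe u
open CAlg

namespace Groth.Agent.S16030

/-- For a finite set F of points of the spectrum of a commutative ring A and an open subset U containing
F, some basic open D(a) contains F and is contained in U. -/
theorem result
    (A : Type u) [CommRing A] (F : Set (PrimeSpectrum A)) (hF : F.Finite)
    (U : TopologicalSpace.Opens (PrimeSpectrum A)) (hFU : F ⊆ (U : Set (PrimeSpectrum A))) :
    ∃ a : A, F ⊆ (PrimeSpectrum.basicOpen a : Set (PrimeSpectrum A)) ∧ PrimeSpectrum.basicOpen a ≤ U := by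
  classical
  obtain ⟨J, hJ⟩ := (PrimeSpectrum.isClosed_iff_zeroLocus_ideal _).mp U.isOpen.isClosed_compl
  by_cases hne : F = ∅
  · refine ⟨0, by rw [hne]; exact Set.empty_subset _, ?_⟩
    rw [PrimeSpectrum.basicOpen_zero]; exact bot_le
  obtain ⟨p₀, hp₀⟩ := Set.nonempty_iff_ne_empty.mpr hne
  have hnot : ¬ ((J : Set A) ⊆
      ⋃ p ∈ (hF.toFinset : Set (PrimeSpectrum A)), (p.asIdeal : Set A)) := by
    rw [Ideal.subset_union_prime (f := fun p : PrimeSpectrum A => p.asIdeal) p₀ p₀
      (fun p _ _ _ => p.isPrime)]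
    rintro ⟨p, hp, hle⟩
    have hpF : p ∈ F := hF.mem_toFinset.mp hp
    have h1 : p ∈ (U : Set (PrimeSpectrum A))ᶜ := by
      rw [hJ]; exact (PrimeSpectrum.mem_zeroLocus _ _).mpr hle
    exact h1 (hFU hpF)
  rw [Set.not_subset] at hnot
  obtain ⟨a, haJ, ha⟩ := hnot
  refine ⟨a, ?_, ?_⟩
  · intro p hp
    show p ∈ PrimeSpectrum.basicOpen a
    rw [PrimeSpectrum.mem_basicOpen]
    intro hmem
    apply ha
    simp only [Set.mem_iUnion]
    exact ⟨p, by simpa using hp, hmem⟩
  · intro q hq
    by_contra hqU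
    have h2 : q ∈ PrimeSpectrum.zeroLocus (J : Set A) := by rw [← hJ]; exact hqU
    exact hq (h2 haJ)

end Groth.Agent.S16030
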