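import Groth.Statements.S16072
import Groth.Agent.Lib.AlphaP_helper9

set_option autoImplicit false
universe u
open Hopf

namespace Groth.Agent.S16072

/-- Let p be a prime and R a commutative ring of characteristic p (p = 0 in R, R nonzero). Then the
constant group scheme ℤ/p and the group scheme μ_p of p-th roots of unity over Spec R are not
isomorphic: there is no R-bialgebra isomorphism between the Hopf algebra Maps(ℤ/p, R) of functions
on the cyclic group of order p and the group algebra R[ℤ/p]. (Any nonzero commutative base ring of
characteristic p is allowed. The published statement allows any ring R with p·R = 0; over the zero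
ring both Hopf algebras are the zero ring and hence isomorphic, so R is assumed nonzero here.) -/
theorem result (p : ℕ) [Fact p.Prime] (R : Type u) [CommRing R]
    [CharP R p] :
    IsEmpty (ConstGrp.F R (Multiplicative (ZMod p)) ≃ₐc[R] MonoidAlgebra R (Multiplicative (ZMod p))) := by
  classical
  refine ⟨fun φ => ?_⟩
  haveI : Nontrivial R := AlphaP9.nontrivial_of_charP p R
  set g : Multiplicative (ZMod p) := Multiplicative.ofAdd (1 : ZMod p) with hg
  have hg1 : (1 : Multiplicative (ZMod p)) ≠ g := by
    intro h
    have h' := congrArg Multiplicative.toAdd h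
    rw [hg, toAdd_one, toAdd_ofAdd] at h'
    exact zero_ne_one h'
  have hE : IsIdempotentElem (φ (ConstGrp.e R g)) := by
    have h := ConstGrp.e_mul_e (R := R) g g
    rw [if_pos rfl] at h
    show φ _ * φ _ = φ _
    rw [← map_mul, h]
  have hc : Coalgebra.counit (R := R) (φ (ConstGrp.e R g)) = 0 := by
    rw [CoalgHomClass.counit_comp_apply, ConstGrp.counit_e, if_neg hg1]
  have h0 : φ (ConstGrp.e R g) = 0 :=
    AlphaP9.eq_zero_of_idem p R _ hE _ hc
      (AlphaP9.monoidAlgebra_pow_char p R _ (AlphaP9.zmod_pow p) _)
  have h1 : ConstGrp.e R g = 0 := by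
    apply EquivLike.injective φ
    rw [h0, map_zero]
  have h2 := congrFun h1 g
  rw [ConstGrp.e_apply_self] at h2
  exact one_ne_zero h2

end Groth.Agent.S16072
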