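import Groth.Statements.S16074
import Groth.Agent.Lib.AlphaP_helper9

set_option autoImplicit false
universe u
open Hopf

open scoped TensorProduct
namespace Groth.Agent.S16074

/-- Let p be a prime and R a commutative ring of characteristic p (p = 0 in R, R nonzero). Then μ_p and
α_p over Spec R are not isomorphic: there is no R-bialgebra isomorphism between the group algebra
R[ℤ/p] of the cyclic group of order p (group elements group-like) and the Hopf algebra R[X]/(X^p) of
α_p (X primitive), although the underlying R-algebras R[ℤ/p] = R[Y]/(Y^p) and R[X]/(X^p) are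
isomorphic. (Any nonzero commutative base ring of characteristic p is allowed. The published
statement allows any ring R with p·R = 0; over the zero ring both Hopf algebras are the zero ring
and hence isomorphic, so R is assumed nonzero here.) -/
theorem result (p : ℕ) [Fact p.Prime] (R : Type u) [CommRing R] [CharP R p] :
    IsEmpty (MonoidAlgebra R (Multiplicative (ZMod p)) ≃ₐc[R] AlphaP.A p R) := by
  classical
  refine ⟨fun φ => ?_⟩
  have hy : Coalgebra.comul (R := R) (φ.symm (AlphaP.x p R)) =
      φ.symm (AlphaP.x p R) ⊗ₜ[R] 1 + 1 ⊗ₜ[R] φ.symm (AlphaP.x p R) := by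
    rw [← CoalgHomClass.map_comp_comul_apply φ.symm (AlphaP.x p R), AlphaP.comul_x, map_add,
      TensorProduct.map_tmul, TensorProduct.map_tmul]
    simp
  have h0 := AlphaP9.monoidAlgebra_primitive_eq_zero R _ _ hy
  have h1 : AlphaP.x p R = 0 := by
    apply EquivLike.injective φ.symm
    rw [h0, map_zero]
  exact AlphaP9.x_ne_zero p R h1

end Groth.Agent.S16074
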