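import Groth.Statements.S16075
import Groth.Agent.Lib.AlphaP_helper9

set_option autoImplicit false
universe u
open Hopf

open scoped TensorProduct
namespace Groth.Agent.S16075

/-- Let p be a prime, T a commutative ring of characteristic p (p = 0 in T, T nonzero) and A =
T[X]/(X^p) the Hopf algebra of α_p over Spec T, with X primitive. Then the endomorphisms of the
T-group α_{p,T} are exactly the scalings: every T-bialgebra endomorphism f of A has f(X) = λ·X for a
unique λ ∈ T, and for every λ ∈ T there is a T-bialgebra endomorphism f of A with f(X) = λ·X. So the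
endomorphisms of α_{p,T} correspond bijectively to the elements of T. (Only this bijection is
stated; that it turns addition and composition of endomorphisms into addition and multiplication in
T, and its naturality in T, are not stated here. The zero ring, allowed as T in the published
statement, is excluded by the characteristic hypothesis here.) -/
theorem result (p : ℕ) [Fact p.Prime] (T : Type u) [CommRing T] [CharP T p] :
    (∀ f : AlphaP.A p T →ₐc[T] AlphaP.A p T, ∃! c : T, f (AlphaP.x p T) = c • AlphaP.x p T) ∧
      (∀ c : T, ∃ f : AlphaP.A p T →ₐc[T] AlphaP.A p T, f (AlphaP.x p T) = c • AlphaP.x p T) := by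
  classical
  refine ⟨fun f => ?_, fun c => ⟨AlphaP9.scale p T c, AlphaP9.scale_x p T c⟩⟩
  have hprim : Coalgebra.comul (R := T) (f (AlphaP.x p T)) =
      f (AlphaP.x p T) ⊗ₜ[T] 1 + 1 ⊗ₜ[T] f (AlphaP.x p T) := by
    rw [← CoalgHomClass.map_comp_comul_apply f (AlphaP.x p T), AlphaP.comul_x, map_add,
      TensorProduct.map_tmul, TensorProduct.map_tmul]
    simp
  have hε : Coalgebra.counit (R := T) (f (AlphaP.x p T)) = 0 := by
    rw [CoalgHomClass.counit_comp_apply, AlphaP.counit_x]
  obtain ⟨c, hc⟩ := AlphaP9.alphaP_primitive p T _ hprim hε
  exact ⟨c, hc, fun c' hc' => AlphaP9.smul_x_injective p T c' c (hc'.symm.trans hc)⟩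

end Groth.Agent.S16075
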