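import Groth.Statements.S16081
import Groth.Agent.Lib.ReflHom1_helper8

set_option autoImplicit false
universe u
open CategoryTheory CategoryTheory.Limits AlgebraicGeometry TopologicalSpace
open SDiv

namespace Groth.Agent.S16081

/-- Let X be an integral locally Noetherian scheme and F, G coherent O_X-modules with G reflexive. Then
the sheaf Hom 𝓗om_{O_X}(F, G) is reflexive: its canonical map into its reflexive hull is an
isomorphism. -/
theorem result (X : Scheme.{u}) [IsIntegral X] [IsLocallyNoetherian X] (F G : X.Modules)
    (hF : Coh.IsCoh F) (hG : Coh.IsCoh G) (hGr : RefHull.IsReflexive G) :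
    RefHull.IsReflexive (RefHull.homSh F G) := by
  have hH := HomLinH8.isCoh_homSh F G hF hG
  have h10 : (∀ x : X, RefHull.IsReflexiveAt (RefHull.homSh F G) x) →
      RefHull.IsReflexive (RefHull.homSh F G) :=
    ((HomLinH8.isReflexive_tfae (RefHull.homSh F G) hH).out 1 0).mp
  have h01 : RefHull.IsReflexive G → ∀ x : X, RefHull.IsReflexiveAt G x :=
    ((HomLinH8.isReflexive_tfae G hG).out 0 1).mp
  apply h10
  intro x
  haveI : F.IsQuasicoherent := hF.1
  haveI : SheafOfModules.IsFiniteType (R := X.ringCatSheaf) F := hF.2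
  have hFP : CohB1.IsFP F := FLFH8.isFinitePresentation_of_isCoh F
  haveI : Module.Finite (X.presheaf.stalk x) (F.presheaf.stalk x) := RefHullH8.finite_stalk hF.2 x
  haveI : Module.Finite (X.presheaf.stalk x) (G.presheaf.stalk x) := RefHullH8.finite_stalk hG.2 x
  haveI : Module.IsReflexive (X.presheaf.stalk x) (G.presheaf.stalk x) := h01 hGr x
  haveI := ReflHomH8.isReflexive_hom (X.presheaf.stalk x) (F.presheaf.stalk x)
    (G.presheaf.stalk x)
  exact Module.equiv (LinearEquiv.ofBijective (RefHull.evalStalk F G x)
    (HomLinH8.evalStalk_bijective F G hFP x)).symm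

end Groth.Agent.S16081
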