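import Groth.Statements.S16083
import Groth.Agent.Lib.ReflHom2_helper8

set_option autoImplicit false
universe u
open CategoryTheory CategoryTheory.Limits AlgebraicGeometry TopologicalSpace
open SDiv

namespace Groth.Agent.S16083

/-- Suppose X is a normal scheme that is integral and locally Noetherian, write η for its generic point,
let F and G be coherent O_X-modules, and let T : G_η → F_η be an O_{X,η}-linear map of generic
stalks. Then T extends to a morphism G ⟶ F^** — there is a morphism ψ whose stalk map at η is T
followed by the stalk map at η of the canonical map F ⟶ F^** — if and only if for every point x with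
dim O_{X,x} = 1 the map T sends the image of G_x in G_η into the image of F_x in F_η. -/
theorem result (X : Scheme.{u}) [IsIntegral X] [IsLocallyNoetherian X]
    (hX : Pi1.IsNormalScheme X) (F G : X.Modules) (hF : Coh.IsCoh F) (hG : Coh.IsCoh G)
    (T : ↑(G.presheaf.stalk (genericPoint ↥X)) →ₗ[↑(X.presheaf.stalk (genericPoint ↥X))]
      ↑(F.presheaf.stalk (genericPoint ↥X))) :
    (∃ ψ : G ⟶ RefHull.ddual F, RefHull.stalkMapₗ ψ (genericPoint ↥X) =
        (RefHull.stalkMapₗ (RefHull.bidualMap F) (genericPoint ↥X)).comp T) ↔
      ∀ x : ↥X, ringKrullDim ↑(X.presheaf.stalk x) = 1 →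
        Set.MapsTo ⇑T
          (Set.range ⇑(G.presheaf.stalkSpecializes ((genericPoint_spec ↥X).specializes (Set.mem_univ x))).hom)
          (Set.range ⇑(F.presheaf.stalkSpecializes ((genericPoint_spec ↥X).specializes (Set.mem_univ x))).hom) := by
  set η := genericPoint ↥X with hηdef
  set jη := RefHull.stalkMapₗ (RefHull.bidualMap F) η with hjη
  have hbij := ReflHomH8.stalkMap_bidual_generic_bijective F hF
  constructor
  · rintro ⟨ψ, hψ⟩ x hx m' ⟨m, rfl⟩
    have hc : Order.coheight x ≤ 1 := by
      have h1 := hx
      rw [AlgebraicGeometry.ringKrullDim_stalk_eq_coheight] at h1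
      have h2 : Order.coheight x = 1 := by exact_mod_cast h1
      exact h2.le
    obtain ⟨f, hf⟩ := ReflHomH8.stalkMap_bidual_surjective hX F hF x hc (RefHull.stalkMapₗ ψ x m)
    refine ⟨f, ?_⟩
    apply hbij.1
    have hs : η ⤳ x := (genericPoint_spec ↥X).specializes (Set.mem_univ x)
    have e1 := RefBasisH8.stalkSpecializes_stalkMap (RefHull.bidualMap F) hs f
    have e2 := RefBasisH8.stalkSpecializes_stalkMap ψ hs m
    rw [hf] at e1
    rw [e1] at e2
    rw [hψ] at e2
    exact e2
  · intro h
    have hθ : ∀ (x : X), Order.coheight x ≤ 1 → ∀ m : G.presheaf.stalk x,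
        ∃ g : (RefHull.ddual F).presheaf.stalk x,
          (RefHull.ddual F).presheaf.stalkSpecializes
              ((genericPoint_spec X).specializes (Set.mem_univ x)) g =
            (jη.comp T) (G.presheaf.stalkSpecializes
              ((genericPoint_spec X).specializes (Set.mem_univ x)) m) := by
      intro x hc m
      rcases lt_or_eq_of_le hc with hlt | heq
      · have h0 : Order.coheight x = 0 := Order.lt_one_iff.mp hlt
        obtain rfl := RefHullH8.eq_generic_of_coheight_eq_zero x h0
        refine ⟨(jη.comp T) m, ?_⟩
        have e1 : ∀ (A : X.Modules) (a : A.presheaf.stalk (genericPoint ↥X)),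
            A.presheaf.stalkSpecializes
              ((genericPoint_spec X).specializes (Set.mem_univ (genericPoint ↥X))) a = a := by
          intro A a
          have := TopCat.Presheaf.stalkSpecializes_refl A.presheaf (genericPoint ↥X)
          exact congrArg (fun t => t.hom a) this
        rw [e1, e1]
      · have hd : ringKrullDim ↑(X.presheaf.stalk x) = 1 := by
          rw [AlgebraicGeometry.ringKrullDim_stalk_eq_coheight, heq]
          rfl
        obtain ⟨f, hf⟩ := h x hd ⟨m, rfl⟩
        refine ⟨RefHull.stalkMapₗ (RefHull.bidualMap F) x f, ?_⟩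
        rw [RefBasisH8.stalkSpecializes_stalkMap, LinearMap.comp_apply]
        exact congrArg jη hf
    refine ⟨RefHullH8.S2.genMap (RefHullH8.hasExt_ddual hX F) (RefHullH8.genInj_ddual F)
      (jη.comp T) hθ, ?_⟩
    apply LinearMap.ext
    intro v
    obtain ⟨W, hW, s, rfl⟩ := TopCat.Presheaf.exists_germ_eq G.presheaf v
    rw [← RefHullH8.germ_app]
    exact RefHullH8.S2.isImg_genMap (RefHullH8.hasExt_ddual hX F) (RefHullH8.genInj_ddual F)
      (jη.comp T) hθ W s hW

end Groth.Agent.S16083
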