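import Groth.Statements.S16098
import Groth.Agent.S10997

set_option autoImplicit false
universe u
open AdFn

namespace Groth.Agent.S16098

/-- Let `K/k` be a function field of one variable (every element having finitely many poles, so that the
diagonal `K → A_K` exists), `A_K = ∏'_v (K_v, O_v)` its adele ring over all places, and `S` a
nonempty set of places. (1) For every adele `a` some `f ∈ K` has `a_v - f ∈ O_v` at every place `v ∉
S`: `A_K` is the sum of the principal adeles and the adeles integral outside `S`. (2) An adele `b`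
with `b_v = 0` for `v ∉ S` is a principal adele plus an everywhere-integral adele exactly when some
`S`-integer `f ∈ K` has `b_v - f ∈ O_v` for every `v ∈ S`. (The published statement is for a curve
over an algebraically closed field, possibly singular; here it is stated for the places of a
function field `K/k` of one variable over any field `k` algebraically closed in `K`.) -/
theorem result (k K : Type u) [Field k] [Field K]
    [Algebra k K] (hK : FunFld.IsFunctionField k K) [AdFn.HasFinitePoles k K]
    (S : Set (FunFld.Place k K)) (hS : S.Nonempty) :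
    (∀ a : AdFn.AdeleRing k K, ∃ f : K, ∀ v : FunFld.Place k K, v ∉ S →
        AdFn.AdeleRing.proj v (a - AdFn.AdeleRing.diag f) ∈ AdFn.Ov v) ∧
    (∀ b : AdFn.AdeleRing k K, (∀ v : FunFld.Place k K, v ∉ S → AdFn.AdeleRing.proj v b = 0) →
        ((∃ f : K, ∀ v : FunFld.Place k K, AdFn.AdeleRing.proj v (b - AdFn.AdeleRing.diag f) ∈ AdFn.Ov v) ↔
          ∃ f ∈ AdFn.SInt S, ∀ v ∈ S, AdFn.AdeleRing.proj v b - AdFn.toKv v f ∈ AdFn.Ov v)) := by
  classical
  have hproj : ∀ (v : FunFld.Place k K) (a : AdFn.AdeleRing k K) (f : K),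
      AdFn.AdeleRing.proj v (a - AdFn.AdeleRing.diag f) =
        AdFn.AdeleRing.proj v a - AdFn.toKv v f := by
    intro v a f
    rw [map_sub, AdFn.AdeleRing.proj_diag]
  have hdense : ∀ (v : FunFld.Place k K) (z : AdFn.Kv v),
      ∃ b : K, z - AdFn.toKv v b ∈ AdFn.Ov v := by
    intro v z
    have hU : IsOpen {w : AdFn.Kv v | z - w ∈ AdFn.Ov v} := by
      have hc : Continuous fun w : AdFn.Kv v => z - w := continuous_const.sub continuous_id
      exact (AdFn.isOpen_Ov v).preimage hc
    have hne : ({w : AdFn.Kv v | z - w ∈ AdFn.Ov v}).Nonempty :=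
      ⟨z, by simp only [Set.mem_ofPred_eq, sub_self]; exact zero_mem _⟩
    obtain ⟨x, hwU⟩ :=
      (UniformSpace.Completion.denseRange_coe (α := WithVal v.1)).exists_mem_open hU hne
    refine ⟨x.ofVal, ?_⟩
    have e : AdFn.toKv v x.ofVal = ((x : WithVal v.1) : v.1.Completion) := by
      rw [AdFn.toKv_apply, WithVal.toVal_ofVal]
    rw [e]
    exact hwU
  refine ⟨?_, ?_⟩
  · intro a
    obtain ⟨s0, hs0⟩ := hS
    have hfin : {v : FunFld.Place k K | ¬ (a.1 v ∈ (AdFn.Ov v : Set (AdFn.Kv v)))}.Finite :=
      Filter.eventually_cofinite.mp a.2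
    have hB : {v : FunFld.Place k K | v ∉ S ∧ ¬ (a.1 v ∈ (AdFn.Ov v : Set (AdFn.Kv v)))}.Finite :=
      hfin.subset fun v hv => hv.2
    choose bb hbb using fun v : FunFld.Place k K => hdense v (a.1 v)
    let e := hB.toFinset.equivFin
    obtain ⟨y, hy1, hy2⟩ := Groth.Agent.S10997.result k K hK s0 hB.toFinset.card
      (fun i => ((e.symm i : hB.toFinset) : FunFld.Place k K))
      (fun i j hij => e.symm.injective (Subtype.ext hij))
      (by
        rintro ⟨i, hi⟩
        have hmem : ((e.symm i : hB.toFinset) : FunFld.Place k K) ∈ hB.toFinset := (e.symm i).2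
        have hi' : ((e.symm i : hB.toFinset) : FunFld.Place k K) = s0 := hi
        rw [hi', Set.Finite.mem_toFinset] at hmem
        exact hmem.1 hs0)
      (fun i => bb ((e.symm i : hB.toFinset) : FunFld.Place k K)) (fun _ => 0)
    refine ⟨y, fun v hv => ?_⟩
    rw [hproj, AdFn.AdeleRing.proj_apply]
    by_cases hvB : a.1 v ∈ (AdFn.Ov v : Set (AdFn.Kv v))
    · -- v is a good place: y is integral at v
      have hvr : v ∉ Set.range (fun i => ((e.symm i : hB.toFinset) : FunFld.Place k K)) := by
        rintro ⟨i, hi⟩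
        have hmem : ((e.symm i : hB.toFinset) : FunFld.Place k K) ∈ hB.toFinset := (e.symm i).2
        have hi' : ((e.symm i : hB.toFinset) : FunFld.Place k K) = v := hi
        rw [hi', Set.Finite.mem_toFinset] at hmem
        exact hmem.2 hvB
      have hvs : v ≠ s0 := fun h => hv (h ▸ hs0)
      have hyv : AdFn.toKv v y ∈ AdFn.Ov v := (AdFn.toKv_mem_Ov v y).2 (hy2 v hvs hvr)
      exact sub_mem hvB hyv
    · -- v is a bad place
      have hvmem : v ∈ hB.toFinset := by
        rw [Set.Finite.mem_toFinset]; exact ⟨hv, hvB⟩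
      have hi := hy1 (e ⟨v, hvmem⟩)
      simp only [Equiv.symm_apply_apply, neg_zero, WithZero.exp_zero] at hi
      have h1 : AdFn.toKv v (y - bb v) ∈ AdFn.Ov v := (AdFn.toKv_mem_Ov v _).2 hi.le
      have e2 : a.1 v - AdFn.toKv v y = (a.1 v - AdFn.toKv v (bb v)) - AdFn.toKv v (y - bb v) := by
        rw [map_sub]; ring
      rw [e2]
      exact sub_mem (hbb v) h1
  · intro b hb
    constructor
    · rintro ⟨f, hf⟩
      refine ⟨f, ?_, fun v _ => ?_⟩
      · intro v hv
        have h := hf v
        rw [hproj, hb v hv, zero_sub] at h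
        have h' : AdFn.toKv v f ∈ AdFn.Ov v := by
          have := neg_mem h
          rwa [neg_neg] at this
        exact (AdFn.toKv_mem_Ov v f).1 h'
      · have h := hf v
        rwa [hproj] at h
    · rintro ⟨f, hfS, hf⟩
      refine ⟨f, fun v => ?_⟩
      rw [hproj]
      by_cases hv : v ∈ S
      · exact hf v hv
      · rw [hb v hv, zero_sub]
        exact neg_mem ((AdFn.toKv_mem_Ov v f).2 (hfS v hv))

end Groth.Agent.S16098
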