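import Groth.Statements.S16103
import Groth.Agent.Lib.PBCLoc1_helper2

set_option autoImplicit false
universe u
open Coherent

namespace Groth.Agent.S16103

open AlgebraicGeometry CategoryTheory Scheme.Modules in
/-- Let π : X → Y be proper of finite presentation, F a quasi-coherent O_X-module of finite
presentation, flat over Y, and q a natural number such that H^q(X_y, F|_{X_y}) = 0 and H^{q+2}(X_y,
F|_{X_y}) = 0 for every point y of Y (cohomology of the restriction of F to the scheme-theoretic
fibre). Then R^{q+1} π_* F, the (q+1)-st right derived functor of π_* on O_X-modules applied to F,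
is a finite locally free O_Y-module. (The source's statement, with p = q + 2, asks instead of the
vanishing in degree q only that the degree-q base change map to the fibre be surjective at every
point; the vanishing assumed here is the special case in which that map has zero target.) -/
theorem result
    {X Y : Scheme.{u}} (π : X ⟶ Y) [IsProper π] [LocallyOfFinitePresentation π]
    [HasInjectiveResolutions X.Modules]
    (F : X.Modules) [Coh.IsQCoh F] (hfp : CohB1.IsFP F) (hfl : FlatMod.IsFlatOver π F) (q : ℕ)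
    (hq : ∀ y : Y, Subsingleton (CohIII.fiberH π F y q))
    (hq2 : ∀ y : Y, Subsingleton (CohIII.fiberH π F y (q + 2))) :
    FlatMod.IsFinLocFree ((Coh.Rpush π (q + 1)).obj F) := by
  haveI : F.IsQuasicoherent := ‹Coh.IsQCoh F›
  intro y
  obtain ⟨_, ⟨V, hV : AlgebraicGeometry.IsAffineOpen V, rfl⟩, hyV, -⟩ :=
    (Y.isBasis_affineOpens).exists_subset_of_mem_open (Set.mem_univ y) isOpen_univ
  haveI : AlgebraicGeometry.IsAffine (V : AlgebraicGeometry.Scheme.{u}) := hV
  obtain ⟨P, hP, -, -, hrk, -, hsec⟩ := Groth.Agent.Lib.PBCH2.locPackage' π F hfp hfl V hV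
  have hP' : ∀ i, Module.Finite Γ((V : AlgebraicGeometry.Scheme.{u}), ⊤) (P.X i) ∧
      Module.Projective Γ((V : AlgebraicGeometry.Scheme.{u}), ⊤) (P.X i) := fun i =>
    ⟨(hP i).1, haveI := (hP i).2; inferInstance⟩
  have hd : ∀ i : ℕ, (∀ y : Y, Subsingleton (CohIII.fiberH π F y i)) →
      ∀ x : PrimeSpectrum Γ((V : AlgebraicGeometry.Scheme.{u}), ⊤),
      CohIII.dRank P (-(i : ℤ)) x = 0 := by
    intro i hi x
    obtain ⟨y', rfl⟩ := (AlgebraicGeometry.Scheme.Hom.homeomorph
      (V : AlgebraicGeometry.Scheme.{u}).toSpecΓ).surjective x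
    have h1 := hrk i y'.1 y'.2
    haveI := hi y'.1
    have h2 : CohIII.fiberRank π F i y'.1 = 0 := by
      unfold CohIII.fiberRank
      exact Module.finrank_zero_of_subsingleton
    exact h1.symm.trans h2
  have hex := Groth.Agent.Lib.PBCH2.exact_of_dRank_zero' P hP' (-((q + 1 : ℕ) : ℤ))
    (-((q + 2 : ℕ) : ℤ)) (-(q : ℤ)) (by push_cast; ring) (by push_cast; ring)
    (hd (q + 2) hq2) (hd q hq)
  obtain ⟨hfin, hproj, -⟩ := Groth.Agent.Lib.PBCH2.homology_facts_of_exact' P hP' _ hex
  haveI := hfin
  haveI := hproj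
  haveI : ((Coh.Rpush π (q + 1)).obj F).IsQuasicoherent :=
    RpushQC.isQuasicoherent_Rpush π F (q + 1)
  obtain ⟨e⟩ := hsec (q + 1)
  obtain ⟨U, hyU, hU⟩ := Groth.Agent.Lib.BCLocH2.exists_free_nhd_of_sections
    ((Coh.Rpush π (q + 1)).obj F) V hV hyV (P.homology (-((q + 1 : ℕ) : ℤ))) e
  exact ⟨U, _, hyU, hU⟩

end Groth.Agent.S16103
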