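import Groth.Statements.S16104
import Mathlib
-- import your own Groth.Agent.* helpers here

set_option autoImplicit false
universe u v
open LunaSt


namespace Groth.Agent.S16104

/-- Case of local rings. Let φ : A → B be a local homomorphism of Noetherian local rings whose composite
A → B/m_B² is surjective (the first infinitesimal neighbourhoods give a closed immersion), and
assume that A/m_A^(n+1) and B/m_B^(n+1) have the same length for every n (the associated graded
modules of the two maximal ideals have pieces of the same dimension over the common residue field).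
Then for every n the composite A → B/m_B^(n+1) is surjective with kernel m_A^(n+1): φ identifies all
infinitesimal neighbourhoods. (The published statement is for a pointed morphism of Noetherian local
algebraic stacks; its proof reduces to this case of local rings.) -/
theorem result
    (A : Type u) (B : Type v) [CommRing A] [CommRing B] [IsLocalRing A] [IsLocalRing B]
    [IsNoetherianRing A] [IsNoetherianRing B] (φ : A →+* B) [IsLocalHom φ]
    (h1 : Function.Surjective ((Ideal.Quotient.mk (IsLocalRing.maximalIdeal B ^ 2)).comp φ))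
    (hlen : ∀ n : ℕ, Module.length A (A ⧸ IsLocalRing.maximalIdeal A ^ (n + 1)) =
      Module.length B (B ⧸ IsLocalRing.maximalIdeal B ^ (n + 1))) (n : ℕ) :
    Function.Surjective ((Ideal.Quotient.mk (IsLocalRing.maximalIdeal B ^ (n + 1))).comp φ) ∧
      RingHom.ker ((Ideal.Quotient.mk (IsLocalRing.maximalIdeal B ^ (n + 1))).comp φ) =
        IsLocalRing.maximalIdeal A ^ (n + 1) := by
  classical
  set mA := IsLocalRing.maximalIdeal A with hmA
  set mB := IsLocalRing.maximalIdeal B with hmB
  have hmap_le : mA.map φ ≤ mB := by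
    rw [Ideal.map_le_iff_le_comap]
    intro a ha
    rw [Ideal.mem_comap, hmB, IsLocalRing.mem_maximalIdeal, mem_nonunits_iff]
    intro hu
    exact ((IsLocalRing.mem_maximalIdeal a).1 ha) (isUnit_of_map_unit φ a hu)
  have key0 : ∀ b : B, ∃ a : A, b - φ a ∈ mB := by
    intro b
    obtain ⟨a, ha⟩ := h1 (Ideal.Quotient.mk _ b)
    have hab : φ a - b ∈ mB ^ 2 := Ideal.Quotient.eq.1 ha
    refine ⟨a, ?_⟩
    have : b - φ a = -(φ a - b) := by ring
    rw [this]
    exact neg_mem (Ideal.pow_le_self two_ne_zero hab)
  have h1' : mB ≤ mA.map φ ⊔ mB • mB := by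
    intro b hb
    obtain ⟨a, ha⟩ := h1 (Ideal.Quotient.mk _ b)
    have hab : φ a - b ∈ mB ^ 2 := Ideal.Quotient.eq.1 ha
    have haA : a ∈ mA := by
      by_contra hna
      have hu : IsUnit a := by
        by_contra h; exact hna ((IsLocalRing.mem_maximalIdeal a).2 h)
      have hu' : IsUnit (φ a) := hu.map φ
      have hφa : φ a ∈ mB := by
        have h2 : φ a = (φ a - b) + b := by ring
        rw [h2]; exact Ideal.add_mem _ (Ideal.pow_le_self two_ne_zero hab) hb
      exact (IsLocalRing.mem_maximalIdeal _).1 hφa hu'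
    have hb' : b = φ a - (φ a - b) := by ring
    rw [hb']
    refine Submodule.sub_mem _ (Submodule.mem_sup_left (Ideal.mem_map_of_mem φ haA))
      (Submodule.mem_sup_right ?_)
    rwa [smul_eq_mul, ← pow_two]
  have hle : mB ≤ mA.map φ :=
    Submodule.le_of_le_smul_of_le_jacobson_bot (IsNoetherian.noetherian mB)
      (IsLocalRing.maximalIdeal_le_jacobson ⊥) h1'
  have heq : mA.map φ = mB := le_antisymm hmap_le hle
  have key : ∀ n : ℕ, ∀ b : B, ∃ a : A, b - φ a ∈ mB ^ (n + 1) := by
    intro n
    induction n with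
    | zero =>
      intro b
      obtain ⟨a, ha⟩ := key0 b
      exact ⟨a, by simpa using ha⟩
    | succ n ih =>
      intro b
      obtain ⟨a₀, ha₀⟩ := ih b
      have hc : b - φ a₀ ∈ (mA ^ (n + 1)).map φ := by
        rw [Ideal.map_pow, heq]; exact ha₀
      have aux : ∀ c ∈ (mA ^ (n + 1)).map φ,
          ∃ a ∈ mA ^ (n + 1), c - φ a ∈ mB ^ (n + 1 + 1) := by
        intro c hc
        induction hc using Submodule.span_induction with
        | mem x hx =>
          obtain ⟨y, hy, rfl⟩ := hx
          exact ⟨y, hy, by simp⟩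
        | zero => exact ⟨0, zero_mem _, by simp⟩
        | add x y _ _ hx hy =>
          obtain ⟨a, ha, hxa⟩ := hx
          obtain ⟨a', ha', hya⟩ := hy
          refine ⟨a + a', add_mem ha ha', ?_⟩
          have : x + y - φ (a + a') = (x - φ a) + (y - φ a') := by rw [map_add]; ring
          rw [this]; exact add_mem hxa hya
        | smul r x _ hx =>
          obtain ⟨a, ha, hxa⟩ := hx
          obtain ⟨a', ha'⟩ := key0 r
          refine ⟨a' * a, Ideal.mul_mem_left _ _ ha, ?_⟩
          have : r • x - φ (a' * a) = r * (x - φ a) + (r - φ a') * φ a := by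
            rw [map_mul, smul_eq_mul]; ring
          rw [this]
          refine add_mem (Ideal.mul_mem_left _ _ hxa) ?_
          have hφa : φ a ∈ mB ^ (n + 1) := by
            rw [← heq, ← Ideal.map_pow]; exact Ideal.mem_map_of_mem φ ha
          rw [pow_succ' mB (n + 1)]
          exact Ideal.mul_mem_mul ha' hφa
      obtain ⟨a₁, -, ha₁⟩ := aux _ hc
      refine ⟨a₀ + a₁, ?_⟩
      have : b - φ (a₀ + a₁) = (b - φ a₀) - φ a₁ := by rw [map_add]; ring
      rw [this]; exact ha₁
  set J := mB ^ (n + 1) with hJ
  set I := mA ^ (n + 1) with hI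
  set q : A →+* B ⧸ J := (Ideal.Quotient.mk J).comp φ with hq
  have hsurj : Function.Surjective q := by
    intro y
    obtain ⟨b, rfl⟩ := Ideal.Quotient.mk_surjective y
    obtain ⟨a, ha⟩ := key n b
    refine ⟨a, ?_⟩
    rw [hq, RingHom.comp_apply]
    exact (Ideal.Quotient.eq.2 ha).symm
  refine ⟨hsurj, ?_⟩
  have hIK : I ≤ RingHom.ker q := by
    intro a ha
    rw [RingHom.mem_ker, hq, RingHom.comp_apply, Ideal.Quotient.eq_zero_iff_mem, hJ, ← heq,
      ← Ideal.map_pow]
    exact Ideal.mem_map_of_mem φ ha
  refine le_antisymm ?_ hIK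
  -- finite length
  have hArt : IsArtinianRing (A ⧸ I) := by
    rw [isArtinianRing_iff_isNoetherianRing_krullDimLE_zero]
    refine ⟨inferInstance, ?_⟩
    rw [Ring.krullDimLE_zero_iff]
    intro P hP
    have hprime : (P.comap (Ideal.Quotient.mk I)).IsPrime := Ideal.comap_isPrime _ _
    have hle' : I ≤ P.comap (Ideal.Quotient.mk I) := fun a ha => by
      rw [Ideal.mem_comap, Ideal.Quotient.eq_zero_iff_mem.2 ha]; exact zero_mem _
    have hm : mA ≤ P.comap (Ideal.Quotient.mk I) := hprime.le_of_pow_le hle'
    have hcomap : P.comap (Ideal.Quotient.mk I) = mA :=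
      le_antisymm (IsLocalRing.le_maximalIdeal hprime.ne_top) hm
    have hPmap : P = mA.map (Ideal.Quotient.mk I) := by
      rw [← hcomap, Ideal.map_comap_of_surjective _ Ideal.Quotient.mk_surjective]
    rcases Ideal.map_eq_top_or_isMaximal_of_surjective (Ideal.Quotient.mk I)
      Ideal.Quotient.mk_surjective (IsLocalRing.maximalIdeal.isMaximal A) with h | h
    · exact absurd (hPmap.trans h) hP.ne_top
    · rw [hPmap]; exact h
  have hfin : Module.length A (A ⧸ I) ≠ ⊤ := by
    rw [Module.length_eq_of_surjective (S := A) (R := A ⧸ I) (M := A ⧸ I)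
      Ideal.Quotient.mk_surjective]
    exact Module.length_ne_top
  letI : Algebra A (B ⧸ J) := q.toAlgebra
  have L2 : Module.length A (B ⧸ J) = Module.length (B ⧸ J) (B ⧸ J) :=
    Module.length_eq_of_surjective (S := A) (R := B ⧸ J) (M := B ⧸ J) hsurj
  have L3 : Module.length B (B ⧸ J) = Module.length (B ⧸ J) (B ⧸ J) :=
    Module.length_eq_of_surjective (S := B) (R := B ⧸ J) (M := B ⧸ J)
      Ideal.Quotient.mk_surjective
  have hsurj' : Function.Surjective (Algebra.ofId A (B ⧸ J)) := hsurj
  have L1 : Module.length A (A ⧸ RingHom.ker q) = Module.length A (B ⧸ J) :=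
    (Ideal.quotientKerAlgEquivOfSurjective hsurj').toLinearEquiv.length_eq
  have Ltot : Module.length A (A ⧸ RingHom.ker q) = Module.length A (A ⧸ I) := by
    rw [L1, L2, ← L3, hlen n]
  -- the surjection A/I → A/K
  let g : (A ⧸ I) →ₗ[A] (A ⧸ RingHom.ker q) := Submodule.mapQ I (RingHom.ker q) LinearMap.id hIK
  have hg : Function.Surjective g := by
    intro y
    obtain ⟨a, rfl⟩ := Submodule.mkQ_surjective _ y
    exact ⟨Submodule.mkQ I a, rfl⟩
  have hadd := Module.length_eq_add_of_exact (LinearMap.ker g).subtype g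
    (Submodule.subtype_injective _) hg (LinearMap.exact_subtype_ker_map g)
  rw [Ltot] at hadd
  have hker0 : Module.length A (LinearMap.ker g) = 0 := by
    have h2 : 0 + Module.length A (A ⧸ I) =
        Module.length A (LinearMap.ker g) + Module.length A (A ⧸ I) := by
      rw [zero_add]; exact hadd
    exact ((ENat.add_left_injective_of_ne_top hfin) h2).symm
  have hsub : Subsingleton (LinearMap.ker g) := Module.length_eq_zero_iff.1 hker0
  intro a ha
  have hga : g (Submodule.mkQ I a) = 0 := by
    show Submodule.mkQ (RingHom.ker q) a = 0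
    exact (Submodule.Quotient.mk_eq_zero _).2 ha
  have h0 : (⟨Submodule.mkQ I a, hga⟩ : LinearMap.ker g) = 0 := Subsingleton.elim _ _
  have h0' : Submodule.mkQ I a = 0 := congrArg Subtype.val h0
  exact (Submodule.Quotient.mk_eq_zero _).1 h0'

end Groth.Agent.S16104
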