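import Groth.Statements.S16124
import Groth.Agent.Lib.Tens33_helper8
import Groth.Agent.S4381

set_option autoImplicit false
universe u
open CategoryTheory MonoidalCategory CartesianMonoidalCategory MonObj GrpObj AlgebraicGeometry CategoryTheory.Limits
open AlgGrp

namespace Groth.Agent.S16124

/-- Over an algebraically closed field k, let X be a quasi-projective variety (a reduced separated
k-scheme, quasi-projective over k) with an action of a finite group Γ by k-automorphisms. Then X is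
covered by Γ-stable affine open subschemes: every point x of X lies in an affine open U with σ⁻¹(U)
= U for every σ in Γ. -/
theorem result (k : Type u) [Field k] [IsAlgClosed k]
    (X : Over (Spec (CommRingCat.of k))) [IsReduced X.left] [IsSeparated X.hom] (hX : RelProj.IsQuasiProjective X.hom)
    (Γgrp : Type u) [Group Γgrp] [Finite Γgrp] (ρ : Γgrp →* Aut X.left)
    (hρ : ∀ σ : Γgrp, (ρ σ).hom ≫ X.hom = X.hom) (x : ↥X.left) :
    ∃ U : X.left.Opens, x ∈ U ∧ IsAffineOpen U ∧ ∀ σ : Γgrp, (ρ σ).hom ⁻¹ᵁ U = U := by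
  classical
  obtain ⟨-, hqc, L, hL⟩ := hX
  haveI := hqc
  have hamp : CohB1.IsAmple L := (Groth.Agent.S4381.result X.hom L).mp hL
  obtain ⟨hinv, hc, -⟩ := id hamp
  haveI := hc
  haveI : X.left.IsSeparated := by
    have h1 : IsSeparated (X.hom ≫ terminal.from (Spec (CommRingCat.of k))) := inferInstance
    have h2 : X.hom ≫ terminal.from (Spec (CommRingCat.of k)) = terminal.from X.left :=
      Subsingleton.elim _ _
    rw [h2] at h1
    exact ⟨h1⟩
  obtain ⟨n, s, hZ, -, haff⟩ := TensH8.exists_affine_genLocus_of_finite hamp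
    (Set.range fun σ : Γgrp => (ρ σ).hom x) (Set.finite_range _) ⊤ (fun _ _ => trivial)
  have hmem : ∀ y : X.left, y ∈ (⨅ σ : Γgrp, (ρ σ).hom ⁻¹ᵁ CohB1.genLocus _ s : X.left.Opens) ↔
      ∀ σ : Γgrp, (ρ σ).hom y ∈ CohB1.genLocus _ s := by
    intro y
    rw [← SetLike.mem_coe, TopologicalSpace.Opens.coe_iInf, Set.mem_iInter]
    rfl
  refine ⟨⨅ σ : Γgrp, (ρ σ).hom ⁻¹ᵁ CohB1.genLocus _ s, ?_, ?_, ?_⟩
  · rw [hmem]
    intro σ
    exact hZ ⟨σ, rfl⟩
  · exact IsAffineOpen.iInf (fun σ => haff.preimage_of_isIso (ρ σ).hom)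
  · intro τ
    apply le_antisymm
    · intro y hy
      rw [hmem]
      intro σ
      have hy' : (ρ τ).hom y ∈ (⨅ σ : Γgrp, (ρ σ).hom ⁻¹ᵁ CohB1.genLocus _ s : X.left.Opens) := hy
      rw [hmem] at hy'
      have h1 := hy' (σ * τ⁻¹)
      have h2 : (ρ (σ * τ⁻¹)).hom ((ρ τ).hom y) = (ρ σ).hom y := by
        rw [← Scheme.Hom.comp_apply]
        have : (ρ τ).hom ≫ (ρ (σ * τ⁻¹)).hom = (ρ σ).hom := by
          have e : ρ (σ * τ⁻¹) * ρ τ = ρ σ := by
            rw [← map_mul, inv_mul_cancel_right]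
          rw [← e]
          rfl
        rw [this]
      show (ρ σ).hom y ∈ CohB1.genLocus _ s
      rw [← h2]
      exact h1
    · intro y hy
      rw [hmem] at hy
      show (ρ τ).hom y ∈ (⨅ σ : Γgrp, (ρ σ).hom ⁻¹ᵁ CohB1.genLocus _ s : X.left.Opens)
      rw [hmem]
      intro σ
      have h1 := hy (σ * τ)
      have h2 : (ρ (σ * τ)).hom y = (ρ σ).hom ((ρ τ).hom y) := by
        rw [← Scheme.Hom.comp_apply]
        have : (ρ τ).hom ≫ (ρ σ).hom = (ρ (σ * τ)).hom := by
          rw [map_mul]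
          rfl
        rw [this]
      show (ρ σ).hom ((ρ τ).hom y) ∈ CohB1.genLocus _ s
      rw [← h2]
      exact h1

end Groth.Agent.S16124
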