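import Groth.Statements.S1613
import Mathlib
import Groth.Agent.Lib.OmDualF_helper9

set_option autoImplicit false
universe u
open CategoryTheory CategoryTheory.Limits AlgebraicGeometry
open Curves

namespace Groth.Agent.S1613

/-- Let X be a smooth proper connected curve over an algebraically closed field k, of genus g ≥ 2. Then
every O_X-linear map from the sheaf of differentials Ω_{X/k} to O_X is zero (X has no nonzero
k-derivations of its structure sheaf). -/
theorem result (k : Type u) [Field k] [IsAlgClosed k] (X : Scheme.{u}) [X.Over (Spec (CommRingCat.of k))]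
    (hX : Curve.IsSmoothProperCurve k X (X ↘ (Spec (CommRingCat.of k)))) (hg : 2 ≤ Curv2.genus k X)
    (θ : Omega.sheaf (X ↘ (Spec (CommRingCat.of k))) ⟶ Coh.structureModule X) : θ = 0 := by
  obtain ⟨hprop, hsm, hint, hdim⟩ := hX
  haveI := hprop
  haveI := hsm
  haveI := hint
  by_contra hθ
  have hΩ := OmDual.isInvertible_Omega k X hdim
  have h1 := (CurveDeg.deg_le_of_ne_zero k X hdim hΩ TensH8.isInvertible_structureModule θ hθ).1
  rw [OmDual.deg_Omega k X hdim, CurveDeg.deg_structureModule] at h1
  have h2 : (2 : ℤ) ≤ (Curv2.genus k X : ℤ) := by exact_mod_cast hg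
  linarith

end Groth.Agent.S1613
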