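import Groth.Statements.S1615
import Mathlib

set_option autoImplicit false
universe u
open CategoryTheory CategoryTheory.Limits AlgebraicGeometry
open Constr

namespace Groth.Agent.S1615

/-- For a graded ring A, quasi-compactness of Proj A is equivalent to the existence of finitely many
homogeneous elements of positive degree generating an ideal whose radical contains the irrelevant
ideal A_+. -/
theorem result {R A : Type u} [CommRing R] [CommRing A] [Algebra R A] (𝒜 : ℕ → Submodule R A) [GradedAlgebra 𝒜] :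
    CompactSpace ↥(Proj 𝒜) ↔ ∃ s : Finset A, (∀ f ∈ s, ∃ d : ℕ, 0 < d ∧ f ∈ 𝒜 d) ∧
      (HomogeneousIdeal.irrelevant 𝒜).toIdeal ≤ (Ideal.span (s : Set A)).radical := by
  classical
  constructor
  · intro hc
    have hcover : ∀ x : Proj 𝒜, ∃ i : {f : A // ∃ d : ℕ, 0 < d ∧ f ∈ 𝒜 d},
        x ∈ Proj.basicOpen 𝒜 i.1 := by
      intro x
      have hx := x.not_irrelevant_le
      obtain ⟨a, ha, hax⟩ : ∃ a, a ∈ (HomogeneousIdeal.irrelevant 𝒜).toIdeal ∧
          a ∉ x.asHomogeneousIdeal.toIdeal := by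
        by_contra hcon
        push_neg at hcon
        exact hx hcon
      have hhom := x.asHomogeneousIdeal.isHomogeneous
      rw [hhom.mem_iff] at hax
      push_neg at hax
      obtain ⟨i, hi⟩ := hax
      have hi0 : i ≠ 0 := by
        rintro rfl
        apply hi
        have : (DirectSum.decompose 𝒜 a 0 : A) = 0 := ha
        rw [this]
        exact zero_mem _
      exact ⟨⟨(DirectSum.decompose 𝒜 a i : A), i, Nat.pos_of_ne_zero hi0, SetLike.coe_mem _⟩, hi⟩
    obtain ⟨t, ht⟩ := isCompact_univ.elim_finite_subcover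
      (fun i : {f : A // ∃ d : ℕ, 0 < d ∧ f ∈ 𝒜 d} => (Proj.basicOpen 𝒜 i.1 : Set (Proj 𝒜)))
      (fun i => (Proj.basicOpen 𝒜 i.1).isOpen) (fun x _ => Set.mem_iUnion.mpr (hcover x))
    refine ⟨t.image Subtype.val, ?_, ?_⟩
    · intro f hf
      obtain ⟨i, -, rfl⟩ := Finset.mem_image.mp hf
      exact i.2
    · have hI : (Ideal.span ((t.image Subtype.val : Finset A) : Set A)).IsHomogeneous 𝒜 := by
        apply Ideal.homogeneous_span
        intro f hf
        obtain ⟨i, -, rfl⟩ := Finset.mem_image.mp (Finset.mem_coe.mp hf)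
        obtain ⟨d, -, hd⟩ := i.2
        exact ⟨d, hd⟩
      rw [hI.radical_eq]
      refine le_sInf ?_
      rintro J ⟨hJh, hIJ, hJp⟩
      by_contra hcon
      obtain ⟨x, hxJ⟩ : ∃ x : Proj 𝒜, x.asHomogeneousIdeal.toIdeal = J :=
        ⟨(⟨⟨J, hJh⟩, hJp, hcon⟩ : ProjectiveSpectrum 𝒜), rfl⟩
      have hx := ht (Set.mem_univ x)
      obtain ⟨i, hit, hxi⟩ : ∃ i ∈ t, x ∈ Proj.basicOpen 𝒜 i.1 := by
        simpa using hx
      have h1 : i.1 ∈ J :=
        hIJ (Ideal.subset_span (Finset.mem_coe.mpr (Finset.mem_image_of_mem _ hit)))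
      rw [← hxJ] at h1
      exact hxi h1
  · rintro ⟨s, hs, hle⟩
    refine ⟨?_⟩
    have huniv : (Set.univ : Set (Proj 𝒜)) = ⋃ f ∈ s, (Proj.basicOpen 𝒜 f : Set (Proj 𝒜)) := by
      symm
      rw [Set.eq_univ_iff_forall]
      intro x
      by_contra hcon
      simp only [Set.mem_iUnion, not_exists] at hcon
      apply x.not_irrelevant_le
      have h1 : Ideal.span (s : Set A) ≤ x.asHomogeneousIdeal.toIdeal := by
        rw [Ideal.span_le]
        intro f hf
        by_contra hfx
        exact hcon f (Finset.mem_coe.mp hf) hfx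
      have h2 : (Ideal.span (s : Set A)).radical ≤ x.asHomogeneousIdeal.toIdeal :=
        (Ideal.IsPrime.radical_le_iff x.isPrime).mpr h1
      exact hle.trans h2
    rw [huniv]
    exact s.isCompact_biUnion (fun f hf => by
      obtain ⟨d, hd, hfd⟩ := hs f hf
      exact (Proj.isAffineOpen_basicOpen 𝒜 f hfd hd).isCompact)

end Groth.Agent.S1615
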