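import Groth.Statements.S16156
import Mathlib
-- import your own Groth.Agent.* helpers here

set_option autoImplicit false
universe u
open MukaiVec


namespace Groth.Agent.S16156

/-- Let N be an abelian group with a symmetric integer-valued bilinear form and H an element with H·H =
2n for some n > 0 such that every x with x·H = 0 satisfies x·x ≤ 0 (the Hodge index inequality). Fix
integers r ≥ 2, d > 0 and χ < 0 (a Mukai vector v = (r, dH, χ)) and an isotropic Mukai vector u =
(p, η, q), p ≥ 0, η ∈ N, η·η = 2pq, whose pairing ⟨v, u⟩ = d(H·η) − rq − χp has absolute value 1 or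
2. Exclude the case d = 1, χ = −1, H·η = 1, η·η = 0, and when r = 2 also the case p = 0, H·η = 0.
Then the pairings of u∨ = (p, −η, q) with w₀ = (0, rH, −2nd) and with w₁ = (2nd, −χH, 0) are both
non-negative or both negative: 2ndp − r(H·η) ≥ 0 holds if and only if χ(H·η) − 2ndq ≥ 0 holds. -/
theorem result
    (N : Type u) [AddCommGroup N] (B : LinearMap.BilinForm ℤ N) (hB : ∀ x y : N, B x y = B y x)
    (H : N) (n : ℤ) (hn : 0 < n) (hH : B H H = 2 * n) (hodge : ∀ x : N, B x H = 0 → B x x ≤ 0)
    (r d χ p q : ℤ) (η : N) (hr : 2 ≤ r) (hd : 0 < d) (hχ : χ < 0) (hp : 0 ≤ p)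
    (hiso : B η η = 2 * p * q)
    (hvu : 1 ≤ |d * B H η - r * q - χ * p| ∧ |d * B H η - r * q - χ * p| ≤ 2)
    (hexc : ¬ (d = 1 ∧ χ = -1 ∧ B H η = 1 ∧ B η η = 0))
    (hr2 : r = 2 → ¬ (p = 0 ∧ B H η = 0)) :
    (0 ≤ 2 * n * d * p - r * B H η ↔ 0 ≤ χ * B H η - 2 * n * d * q) := by
  classical
  set a : ℤ := B H η with ha
  have hηH : B η H = a := hB η H
  -- Hodge index inequality: 4 n p q ≤ a²
  have hodge' : 4 * n * (p * q) ≤ a ^ 2 := by
    have hx : B ((2 * n) • η - a • H) H = 0 := by
      simp only [map_sub, LinearMap.sub_apply, map_smul, LinearMap.smul_apply, smul_eq_mul]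
      rw [hηH, hH]; ring
    have h1 := hodge _ hx
    have e : B ((2 * n) • η - a • H) ((2 * n) • η - a • H) = 8 * n ^ 2 * (p * q) - 2 * n * a ^ 2 := by
      simp only [map_sub, LinearMap.sub_apply, map_smul, LinearMap.smul_apply, smul_eq_mul]
      rw [hηH, hH, hiso, ← ha]; ring
    rw [e] at h1
    by_contra hcon
    push_neg at hcon
    nlinarith
  obtain ⟨hs1, hs2⟩ := hvu
  have hs2' := abs_le.1 hs2
  obtain ⟨hsl, hsu⟩ := hs2'
  have hnd : 0 < 2 * n * d := by positivity
  constructor
  · intro hu0
    by_contra hu1
    push_neg at hu1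
    rcases lt_trichotomy a 0 with hneg | hzero | hpos
    · -- a < 0
      have hχa : 0 < χ * a := mul_pos_of_neg_of_neg hχ hneg
      have hq : 0 < q := by
        by_contra hq
        push_neg at hq
        have : 2 * n * d * q ≤ 0 := mul_nonpos_of_nonneg_of_nonpos hnd.le hq
        linarith
      have h2 : χ * a + 1 ≤ 2 * n * d * q := by linarith
      have h3 : 2 * p * (χ * a) ≤ d * a ^ 2 := by
        have h4 : 2 * p * (χ * a + 1) ≤ 2 * p * (2 * n * d * q) :=
          mul_le_mul_of_nonneg_left h2 (by linarith)
        have h5 : d * (4 * n * (p * q)) ≤ d * a ^ 2 := mul_le_mul_of_nonneg_left hodge' hd.le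
        nlinarith
      have h6 : d * a ≤ 2 * p * χ := by
        by_contra hcon
        push_neg at hcon
        have := mul_lt_mul_of_neg_right hcon hneg
        nlinarith
      have hrq : 2 ≤ r * q := by nlinarith
      rcases hp.lt_or_eq with hp1 | hp0
      · have : χ * p ≤ -1 := by nlinarith
        nlinarith
      · have hda : d * a ≤ -1 := by nlinarith
        rw [← hp0] at hsl
        nlinarith
    · -- a = 0
      rw [hzero] at hu1 hodge' hsl hsu hs1
      have hq : 0 < q := by
        by_contra hq
        push_neg at hq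
        have : 2 * n * d * q ≤ 0 := mul_nonpos_of_nonneg_of_nonpos hnd.le hq
        linarith
      have hp0 : p = 0 := by
        by_contra hp0
        have hp1 : 0 < p := lt_of_le_of_ne hp (Ne.symm hp0)
        have : 0 < p * q := mul_pos hp1 hq
        have : 0 < 4 * n * (p * q) := by positivity
        nlinarith
      subst hp0
      have hrq : r * q ≤ 2 := by linarith
      have hr2' : r = 2 := by nlinarith
      exact hr2 hr2' ⟨rfl, hzero⟩
    · -- a > 0
      have hp1 : 0 < p := by
        by_contra hp1
        push_neg at hp1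
        have hp0 : p = 0 := le_antisymm hp1 hp
        rw [hp0] at hu0
        have : 0 < r * a := by positivity
        linarith
      rcases lt_or_ge 0 q with hq | hq
      · have h3 : 2 * q * (r * a) ≤ d * a ^ 2 := by
          have h4 : 2 * q * (r * a) ≤ 2 * q * (2 * n * d * p) :=
            mul_le_mul_of_nonneg_left (by linarith) (by linarith)
          have h5 : d * (4 * n * (p * q)) ≤ d * a ^ 2 := mul_le_mul_of_nonneg_left hodge' hd.le
          nlinarith
        have h6 : 2 * q * r ≤ d * a := by
          by_contra hcon
          push_neg at hcon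
          have := mul_lt_mul_of_pos_right hcon hpos
          nlinarith
        have hrq : 2 ≤ r * q := by nlinarith
        have hχp : 1 ≤ -(χ * p) := by nlinarith
        nlinarith
      · have hda : 1 ≤ d * a := by nlinarith
        have hrq : 0 ≤ -(r * q) := by nlinarith
        have hχp : 1 ≤ -(χ * p) := by nlinarith
        have hda1 : d * a = 1 := by linarith
        have hrq0 : r * q = 0 := by linarith
        have hχp1 : χ * p = -1 := by linarith
        have hd1 : d = 1 := by nlinarith
        have ha1 : a = 1 := by nlinarith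
        have hq0 : q = 0 := by
          rcases mul_eq_zero.1 hrq0 with h | h
          · omega
          · exact h
        have hχ1 : χ = -1 := by nlinarith
        refine hexc ⟨hd1, hχ1, ha1, ?_⟩
        rw [hiso, hq0]; ring
  · intro hu1
    by_contra hu0
    push_neg at hu0
    have hapos : 0 < a := by
      by_contra hcon
      push_neg at hcon
      have h1 : r * a ≤ 0 := mul_nonpos_of_nonneg_of_nonpos (by linarith) hcon
      have h2 : 0 ≤ 2 * n * d * p := mul_nonneg hnd.le hp
      linarith
    have hχa : χ * a < 0 := mul_neg_of_neg_of_pos hχ hapos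
    have hq : q < 0 := by
      by_contra hq
      push_neg at hq
      have : 0 ≤ 2 * n * d * q := mul_nonneg hnd.le hq
      linarith
    have hda : 1 ≤ d * a := by nlinarith
    have hrq : 2 ≤ -(r * q) := by nlinarith
    have hχp : 0 ≤ -(χ * p) := by nlinarith
    linarith

end Groth.Agent.S16156
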