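import Groth.Statements.S16161
-- import your own Groth.Agent.* helpers here

set_option autoImplicit false
universe u v
open MadRed

namespace Groth.Agent.S16161

/-- Let k be an algebraically closed field of characteristic zero and R a reduced finitely generated
commutative k-algebra whose spectrum is connected (R has no idempotents besides 0 and 1); let W =
R^n be a free R-module of finite rank and g an R-linear endomorphism of W of finite order, g^m = 1
with m > 0 (an element of finite order of GL(W)(R)). Then the action of g on W is diagonalizable
over k: viewing g as a k-linear map, its eigenspaces for eigenvalues in k span W. The source also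
assumes that g is diagonalizable over k on every fibre W ⊗ k(x), x a point of Spec R; for g of
finite order this holds automatically (k is algebraically closed of characteristic zero), as the
source itself notes, so that hypothesis is omitted. -/
theorem result
    (k : Type u) [Field k] [IsAlgClosed k] [CharZero k]
    (R : Type v) [CommRing R] [Algebra k R] [IsReduced R] [Algebra.FiniteType k R]
    (hconn : ∀ e : R, IsIdempotentElem e → e = 0 ∨ e = 1)
    (n : ℕ) (g : Module.End R (Fin n → R)) (m : ℕ) (hm : 0 < m) (hg : g ^ m = 1) :
    ⨆ μ : k, Module.End.eigenspace (g.restrictScalars k) μ = ⊤ := by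
  classical
  set f : Module.End k (Fin n → R) := g.restrictScalars k with hf
  have h1 : ∀ (j : ℕ) (y : Fin n → R), (f ^ j) y = (g ^ j) y := by
    intro j
    induction j with
    | zero => intro y; simp
    | succ j ih =>
      intro y
      rw [pow_succ, pow_succ, Module.End.mul_apply, Module.End.mul_apply, ih]
      rfl
  have hfm : f ^ m = 1 := by
    apply LinearMap.ext; intro x
    rw [h1, hg]; rfl
  have key : ∀ s : Finset k,
      LinearMap.ker (Polynomial.aeval f (∏ ζ ∈ s, (Polynomial.X - Polynomial.C ζ))) ≤
        ⨆ μ : k, Module.End.eigenspace f μ := by
    intro s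
    induction s using Finset.induction_on with
    | empty =>
      intro x hx
      have : x = 0 := by simpa using hx
      rw [this]; exact Submodule.zero_mem _
    | insert ζ s hζ ih =>
      rw [Finset.prod_insert hζ]
      have hcop : IsCoprime (Polynomial.X - Polynomial.C ζ)
          (∏ μ ∈ s, (Polynomial.X - Polynomial.C μ : Polynomial k)) := by
        apply IsCoprime.prod_right
        intro μ hμ
        apply Polynomial.isCoprime_X_sub_C_of_isUnit_sub
        have : ζ ≠ μ := fun h => hζ (h ▸ hμ)
        exact (sub_ne_zero.2 this).isUnit
      rw [← Polynomial.sup_ker_aeval_eq_ker_aeval_mul_of_coprime f hcop]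
      refine sup_le ?_ ih
      intro x hx
      rw [LinearMap.mem_ker] at hx
      have hfx : f x = ζ • x := by
        have := hx
        simp only [map_sub, Polynomial.aeval_X, Polynomial.aeval_C, LinearMap.sub_apply,
          Module.algebraMap_end_apply] at this
        exact sub_eq_zero.1 this
      exact le_iSup (fun μ => Module.End.eigenspace f μ) ζ (Module.End.mem_eigenspace_iff.2 hfx)
  have hm0 : (m : k) ≠ 0 := Nat.cast_ne_zero.2 hm.ne'
  have hsep : (Polynomial.X ^ m - 1 : Polynomial k).Separable :=
    Polynomial.X_pow_sub_one_separable_iff.2 hm0
  have hmonic : (Polynomial.X ^ m - 1 : Polynomial k).Monic := by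
    simpa using Polynomial.monic_X_pow_sub_C (1 : k) hm.ne'
  have hsplit : (Polynomial.X ^ m - 1 : Polynomial k).Splits := IsAlgClosed.splits _
  have hprod := hsplit.eq_prod_roots_of_monic hmonic
  have hnd := Polynomial.nodup_roots hsep
  have hprod' : (Polynomial.X ^ m - 1 : Polynomial k) =
      ∏ ζ ∈ (Polynomial.X ^ m - 1 : Polynomial k).roots.toFinset,
        (Polynomial.X - Polynomial.C ζ) := by
    conv_lhs => rw [hprod]
    rw [Finset.prod, Multiset.toFinset_val, Multiset.dedup_eq_self.2 hnd]
  have hker : LinearMap.ker (Polynomial.aeval f (Polynomial.X ^ m - 1 : Polynomial k)) = ⊤ := by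
    rw [LinearMap.ker_eq_top]; simp [hfm]
  have h2 := congrArg (fun p => LinearMap.ker (Polynomial.aeval f p)) hprod'
  rw [eq_top_iff, ← hker]
  exact (le_of_eq h2).trans (key _)

end Groth.Agent.S16161
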