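import Groth.Statements.S1617
import Groth.Agent.Lib.LocDimSch_helper8

set_option autoImplicit false
universe u
open CategoryTheory CategoryTheory.Limits AlgebraicGeometry
open Variety

namespace Groth.Agent.S1617

/-- Let X be locally of finite type over a field k and x a closed point. Then the local dimension of X
at x (infimum of the dimensions of open neighbourhoods) equals the Krull dimension of the local ring
at x. -/
theorem result (k : Type u) [Field k] (X : Scheme.{u}) [X.Over (Spec (CommRingCat.of k))] [LocallyOfFiniteType (X ↘ (Spec (CommRingCat.of k)))] (x : X) (hx : IsClosed ({x} : Set X)) :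
    FlatMor.localDim X x = ringKrullDim (X.presheaf.stalk x) := by
  classical
  obtain ⟨_, ⟨W, hW', rfl⟩, hxW, -⟩ :=
    X.isBasis_affineOpens.exists_subset_of_mem_open (Set.mem_univ x) isOpen_univ
  have hW : IsAffineOpen W := hW'
  letI := Groth.Agent.SchFTH8.secAlgebra k X W
  haveI := Groth.Agent.SchFTH8.finiteType_sec k X W hW
  haveI : IsNoetherianRing Γ(X, W) := Algebra.FiniteType.isNoetherianRing k Γ(X, W)
  haveI hm : (hW.primeIdealOf ⟨x, hxW⟩).asIdeal.IsMaximal :=
    hW.primeIdealOf_isMaximal_of_isClosed ⟨x, hxW⟩ hx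
  -- transcendence degree of the residue field is zero
  obtain ⟨n, h1, h2⟩ := Groth.Agent.DimFT2H8.exists_trdeg_eq_height_map k Γ(X, W)
    (hW.primeIdealOf ⟨x, hxW⟩).asIdeal (hW.primeIdealOf ⟨x, hxW⟩).asIdeal le_rfl
  have hn0 : n = 0 := by
    have : ((hW.primeIdealOf ⟨x, hxW⟩).asIdeal.map
        (Ideal.Quotient.mk (hW.primeIdealOf ⟨x, hxW⟩).asIdeal)) = ⊥ := by
      rw [Ideal.map_eq_bot_iff_le_ker, Ideal.mk_ker]
    rw [this, Ideal.height_bot] at h2
    exact_mod_cast h2.symm
  have ha : @Algebra.trdeg k (X.residueField x) _ _ (Curv2.resAlgebra k X x) = ((0 : ℕ) : Cardinal) := by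
    rw [Groth.Agent.SchFTH8.trdeg_residueField k hW x hxW, h1, hn0]
  -- the dimension of the local ring is finite
  have hfin : (hW.primeIdealOf ⟨x, hxW⟩).asIdeal.height ≠ ⊤ :=
    Ideal.height_ne_top hm.ne_top
  obtain ⟨b, hb⟩ := ENat.ne_top_iff_exists.mp hfin
  have hdim : ringKrullDim (X.presheaf.stalk x) = (b : WithBot ℕ∞) := by
    rw [Groth.Agent.SchFTH8.ringKrullDim_stalk_eq_height hW x hxW, ← hb]
    rfl
  rw [Groth.Agent.LocDimSchH8.localDim_scheme k X x 0 b ha hdim, hdim]
  simp

end Groth.Agent.S1617
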