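import Groth.Statements.S16170
import Groth.Agent.Lib.IntIdem_helper3
-- import your own Groth.Agent.* helpers here

set_option autoImplicit false
open Neron
open Matrix

namespace Groth.Agent.S16170

/-- Let M and N be symmetric positive-semidefinite integer matrices on the same finite index set whose
sum M + N is positive definite, and let χ₁, χ₂ be integer matrices with χ₁ + χ₂ = 1 and M χ₂ = N χ₁.
Then χ₁ and χ₂ are idempotent. (In the intended application M = Pᵀ Ψ₁ P and N = Qᵀ Ψ₂ Q for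
surjective integer matrices P, Q and positive-definite Ψ₁, Ψ₂.) -/
theorem result
    {ι : Type} [Fintype ι] [DecidableEq ι]
    (M N χ₁ χ₂ : Matrix ι ι ℤ) (hM : M.IsSymm) (hN : N.IsSymm)
    (hMpos : ∀ v : ι → ℤ, 0 ≤ v ⬝ᵥ M.mulVec v) (hNpos : ∀ v : ι → ℤ, 0 ≤ v ⬝ᵥ N.mulVec v)
    (hpos : ∀ v : ι → ℤ, v ≠ 0 → 0 < v ⬝ᵥ (M + N).mulVec v)
    (hsum : χ₁ + χ₂ = 1) (hrel : M * χ₂ = N * χ₁) :
    χ₁ * χ₁ = χ₁ ∧ χ₂ * χ₂ = χ₂ := by
  classical
  have hχ₂ : χ₂ = 1 - χ₁ := by rw [← hsum]; abel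
  have hMN : (M + N) * χ₁ = M := by
    have h := hrel
    rw [hχ₂, Matrix.mul_sub, Matrix.mul_one] at h
    rw [Matrix.add_mul, ← h]
    abel
  have hsymm : ∀ (Q : Matrix ι ι ℤ), Q.IsSymm → ∀ u v : ι → ℤ,
      u ⬝ᵥ Q.mulVec v = v ⬝ᵥ Q.mulVec u := by
    intro Q hQ u v
    rw [Matrix.dotProduct_mulVec, ← Matrix.mulVec_transpose, hQ.eq, dotProduct_comm]
  have hMNsymm : (M + N).IsSymm := hM.add hN
  let B : LinearMap.BilinForm ℤ (ι → ℤ) := Matrix.toBilin' (M + N)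
  let T : (ι → ℤ) →ₗ[ℤ] (ι → ℤ) := Matrix.toLin' χ₁
  have hB : ∀ u v, B u v = u ⬝ᵥ (M + N).mulVec v := fun u v => Matrix.toBilin'_apply' _ u v
  have hBT : ∀ u v, B u (T v) = u ⬝ᵥ M.mulVec v := by
    intro u v
    rw [hB]
    show u ⬝ᵥ (M + N).mulVec (Matrix.toLin' χ₁ v) = _
    rw [Matrix.toLin'_apply, Matrix.mulVec_mulVec, hMN]
  have hT : ∀ u v, B u (T v) = B (T u) v := by
    intro u v
    rw [hBT, hB (T u) v, hsymm _ hMNsymm (T u) v, ← hB, hBT, hsymm _ hM]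
  have h0 : ∀ v, 0 ≤ B v (T v) := fun v => by rw [hBT]; exact hMpos v
  have h1 : ∀ v, B v (T v) ≤ B v v := by
    intro v
    rw [hBT, hB, Matrix.add_mulVec, dotProduct_add]
    have := hNpos v
    linarith
  have hpos' : ∀ v, v ≠ 0 → 0 < B v v := fun v hv => by rw [hB]; exact hpos v hv
  have hidem := Groth.Agent.Lib.IntIdem_helper3.idem B hpos' T hT h0 h1
  have e1 : χ₁ * χ₁ = χ₁ := by
    apply Matrix.toLin'.injective
    rw [Matrix.toLin'_mul]
    refine LinearMap.ext fun v => ?_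
    exact hidem v
  refine ⟨e1, ?_⟩
  rw [hχ₂, Matrix.sub_mul, Matrix.mul_sub, Matrix.mul_sub, Matrix.one_mul, Matrix.mul_one,
    Matrix.one_mul, e1]
  abel

end Groth.Agent.S16170
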