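import Groth.Statements.S16174
import Mathlib
import Groth.Agent.Lib.HenselVal_lead

set_option autoImplicit false
universe u
open Hensel

namespace Groth.Agent.S16174

/-- Let V be a Henselian valuation ring and p a prime ideal of V. Then the local rings V_p (localisation
at p) and V/p are Henselian. (Both are again valuation rings, which is elementary and not restated.) -/
theorem result (V : Type u) [CommRing V]
    [IsDomain V] [ValuationRing V] [HenselianLocalRing V] (p : Ideal V) [p.IsPrime] :
    HenselianLocalRing (Localization.AtPrime p) ∧ HenselianLocalRing (V ⧸ p) := by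
  open Groth.Agent.Lib.HenselValLead IsLocalRing in
  constructor
  · refine henselian_of_maximalIdeal_lift (algebraMap V (Localization.AtPrime p)) p
      (IsLocalRing.le_maximalIdeal (Ideal.IsPrime.ne_top ‹_›)) ?_
    intro w hw
    obtain ⟨⟨v, s⟩, hvs⟩ := IsLocalization.surj p.primeCompl w
    dsimp only at hvs
    obtain ⟨c, hc | hc⟩ := ValuationRing.cond v (s : V)
    · exfalso
      have hv : v ∉ p := fun hv => s.2 (hc ▸ Ideal.mul_mem_right _ _ hv)
      have hvu : IsUnit (algebraMap V (Localization.AtPrime p) v) :=
        (IsLocalization.AtPrime.isUnit_to_map_iff _ p v).2 hv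
      have hwu : IsUnit w := by
        have h2 : IsUnit (w * algebraMap V (Localization.AtPrime p) (s : V)) := by
          rw [hvs]; exact hvu
        exact isUnit_of_mul_isUnit_left h2
      exact (mem_nonunits_iff.1 ((mem_maximalIdeal _).1 hw)) hwu
    · have hwc : w = algebraMap V (Localization.AtPrime p) c := by
        have hsu : IsUnit (algebraMap V (Localization.AtPrime p) (s : V)) :=
          IsLocalization.map_units _ s
        apply hsu.mul_right_cancel
        rw [hvs, ← hc, map_mul, mul_comm]
      refine ⟨c, ?_, hwc.symm⟩
      rw [hwc] at hw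
      exact (IsLocalization.AtPrime.to_map_mem_maximal_iff (Localization.AtPrime p) p c).1 hw
  · haveI : Nontrivial (V ⧸ p) := Ideal.Quotient.nontrivial_iff.2 (Ideal.IsPrime.ne_top ‹_›)
    exact henselian_of_surjective (Ideal.Quotient.mk p) Ideal.Quotient.mk_surjective

end Groth.Agent.S16174
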