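import Groth.Statements.S1618
import Groth.Agent.S1619
import Groth.Agent.Lib.HtTrdeg_helper8
import Groth.Agent.Lib.LocDim_helper8

set_option autoImplicit false
universe u
open CategoryTheory CategoryTheory.Limits AlgebraicGeometry
open Variety

namespace Groth.Agent.S1618

/-- Let X be irreducible and locally of finite type over a field k. Then every nonempty open subset of X
has the same Krull dimension as X. -/
theorem result (k : Type u) [Field k] (X : Scheme.{u}) [X.Over (Spec (CommRingCat.of k))] [LocallyOfFiniteType (X ↘ (Spec (CommRingCat.of k)))] [IrreducibleSpace X]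
    (U : X.Opens) (hU : (U : Set X).Nonempty) : topologicalKrullDim U = topologicalKrullDim X := by
  classical
  obtain ⟨n, hn⟩ := Groth.Agent.HtTrdegH8.exists_trdeg_nat k X (genericPoint X)
  have hX : topologicalKrullDim X = n := Groth.Agent.S1619.result k X n hn
  apply le_antisymm
  · exact Topology.IsInducing.topologicalKrullDim_le Topology.IsInducing.subtypeVal
  have hdU := Groth.Agent.LocDimH8.topologicalKrullDim_opens X (U : Set X) U.2
  rw [hX]
  refine le_trans ?_ (le_of_eq hdU.symm)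
  -- an affine open inside U
  obtain ⟨x₀, hx₀⟩ := hU
  obtain ⟨_, ⟨V, hV, rfl⟩, hx₀V, hVU⟩ :=
    X.isBasis_affineOpens.exists_subset_of_mem_open hx₀ U.2
  -- a maximal ideal of Γ(X, V)
  obtain ⟨m, hm, hle⟩ := (hV.primeIdealOf ⟨x₀, hx₀V⟩).asIdeal.exists_le_maximal
    (hV.primeIdealOf ⟨x₀, hx₀V⟩).2.ne_top
  letI := Groth.Agent.SchFTH8.secAlgebra k X V
  haveI := Groth.Agent.SchFTH8.finiteType_sec k X V hV
  haveI := hm
  obtain ⟨q, hqmin, hqm, hqp, n', h1, h2⟩ :=
    Groth.Agent.DimFT2H8.exists_minimalPrimes_trdeg_eq_height k Γ(X, V) m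
  have hηV : hV.fromSpec ⟨q, hqp⟩ ∈ V := Groth.Agent.SchFTH8.fromSpec_mem hV _
  have hpη := Groth.Agent.SchFTH8.primeIdealOf_fromSpec hV ⟨q, hqp⟩ hηV
  have hξV : genericPoint X ∈ V := (genericPoint_specializes _).mem_open V.2 hηV
  have hle' := (Groth.Agent.SchFTH8.specializes_iff_primeIdealOf_le hV _ _ hξV hηV).mp
    (genericPoint_specializes _)
  rw [hpη] at hle'
  have hge : q ≤ (hV.primeIdealOf ⟨genericPoint X, hξV⟩).asIdeal :=
    hqmin.2 ⟨(hV.primeIdealOf ⟨genericPoint X, hξV⟩).2, bot_le⟩ hle'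
  have heq : hV.primeIdealOf ⟨genericPoint X, hξV⟩ = ⟨q, hqp⟩ :=
    PrimeSpectrum.ext (le_antisymm hle' hge)
  have htr := Groth.Agent.SchFTH8.trdeg_residueField k hV _ hξV
  rw [hn, heq] at htr
  have hnn : n' = n := by
    have : ((n' : ℕ) : Cardinal) = ((n : ℕ) : Cardinal) := by rw [← h1]; exact htr.symm
    exact_mod_cast this
  have hzV : hV.fromSpec ⟨m, hm.isPrime⟩ ∈ V := Groth.Agent.SchFTH8.fromSpec_mem hV _
  have hpz := Groth.Agent.SchFTH8.primeIdealOf_fromSpec hV ⟨m, hm.isPrime⟩ hzV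
  have hcoh : Order.coheight (hV.fromSpec ⟨m, hm.isPrime⟩) = m.height := by
    have h1 := Groth.Agent.SchFTH8.ringKrullDim_stalk_eq_height hV _ hzV
    rw [AlgebraicGeometry.ringKrullDim_stalk_eq_coheight, hpz] at h1
    exact_mod_cast h1
  refine le_trans ?_ (le_iSup _ (⟨hV.fromSpec ⟨m, hm.isPrime⟩, hVU hzV⟩ : (U : Set X)))
  rw [hcoh, h2, hnn]
  rfl

end Groth.Agent.S1618
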