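import Groth.Statements.S16185
import Mathlib
import Groth.Agent.Lib.SpecialFibre_helper9

set_option autoImplicit false
universe u
open CategoryTheory CategoryTheory.Limits AlgebraicGeometry
open Dual3

namespace Groth.Agent.S16185

/-- Let A be an Artinian local ring with maximal ideal m and let f : P → Spec A be a flat morphism of
schemes whose closed fibre X = P ×_{Spec A} Spec (A/m) is a Gorenstein scheme (locally Noetherian,
all local rings Gorenstein). Then f is a Gorenstein morphism: flat at every point with Gorenstein
local rings on its fibres. (The source takes A to be a local Artinian algebra over a field k with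
residue field k and X a k-scheme deformed flatly over A; the k-algebra structure plays no role, so
the residue field of A is used directly.) -/
theorem result
    {A : Type u} [CommRing A] [IsArtinianRing A] [IsLocalRing A]
    {P X : Scheme.{u}} (f : P ⟶ Spec (CommRingCat.of A)) [Flat f]
    (i : X ⟶ P) (q : X ⟶ Spec (CommRingCat.of (IsLocalRing.ResidueField A)))
    (hsq : IsPullback i q f (Spec.map (CommRingCat.ofHom (IsLocalRing.residue A))))
    (hX : Dual3.IsGorenstein X) : Dual3.IsGorensteinMor f := by
  classical
  intro y
  refine ⟨Flat.stalkMap f y, ?_⟩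
  have hy : f y = IsLocalRing.closedPoint A := by
    apply PrimeSpectrum.ext
    haveI : (f y).asIdeal.IsPrime := (f y).2
    have hmax : (f y).asIdeal.IsMaximal := IsArtinianRing.isMaximal_of_isPrime (R := A) (f y).asIdeal
    exact IsLocalRing.eq_maximalIdeal hmax
  obtain ⟨x, rfl⟩ := Groth.Agent.SpecialFibre9.exists_of_map_eq f (IsLocalRing.closedPoint A) _ i q
    (Groth.Agent.SpecialFibre9.toSpecResidueField A)
    (Groth.Agent.SpecialFibre9.toSpecResidueField_comp A) hsq y hy
  obtain ⟨e⟩ := Groth.Agent.SpecialFibre9.nonempty_fiberStalk_equiv f (IsLocalRing.closedPoint A) _ i q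
    (Groth.Agent.SpecialFibre9.toSpecResidueField A)
    (Groth.Agent.SpecialFibre9.toSpecResidueField_comp A) hsq x
  exact (Groth.Agent.GorFlat9.gorenstein_congr e).2 (hX.2 x)

end Groth.Agent.S16185
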