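import Groth.Statements.S16188
import Groth.Agent.Lib.SchImage_helper9
-- import your own Groth.Agent.* helpers here

set_option autoImplicit false
universe u
open CategoryTheory AlgebraicGeometry TopologicalSpace

open SchMor

namespace Groth.Agent.S16188

/-- Let f : X → Y be a morphism of schemes with X reduced and irreducible. Then f factors through an
irreducible component of Y carrying its reduced closed-subscheme structure: there are an irreducible
component Z of Y and a morphism g from X to the closed subscheme of Y cut out by the vanishing ideal
sheaf of Z with g followed by the inclusion equal to f; that closed subscheme is integral. -/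
theorem result
    {X Y : Scheme.{u}} (f : X ⟶ Y) [IsReduced X] [IrreducibleSpace X] :
    ∃ (Z : Closeds Y) (_ : (Z : Set Y) ∈ irreducibleComponents Y)
      (_ : IsIntegral (Scheme.IdealSheafData.vanishingIdeal Z).subscheme)
      (g : X ⟶ (Scheme.IdealSheafData.vanishingIdeal Z).subscheme),
      g ≫ (Scheme.IdealSheafData.vanishingIdeal Z).subschemeι = f := by
  classical
  have hirr : IsIrreducible (closure (Set.range f)) := by
    have h1 : IsIrreducible (Set.range f) := by
      rw [← Set.image_univ]
      exact (IrreducibleSpace.isIrreducible_univ X).image f f.continuous.continuousOn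
    exact h1.closure
  obtain ⟨t, htp, hst, htmax⟩ := exists_preirreducible _ hirr.isPreirreducible
  have htne : t.Nonempty := hirr.nonempty.mono hst
  have htirr : IsIrreducible t := ⟨htne, htp⟩
  have htmem : t ∈ irreducibleComponents Y := by
    refine ⟨htirr, fun u hu htu => ?_⟩
    exact (htmax u hu.isPreirreducible htu).le
  have htcl : IsClosed t := isClosed_of_mem_irreducibleComponents t htmem
  let Z : Closeds Y := ⟨t, htcl⟩
  have hker : Scheme.IdealSheafData.vanishingIdeal Z ≤ f.ker := by
    rw [Groth.Agent.Lib.SchImage_helper9.ker_eq_vanishingIdeal f]
    exact Scheme.IdealSheafData.vanishingIdeal_antimono (fun y hy => hst hy)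
  haveI hred : IsReduced (Scheme.IdealSheafData.vanishingIdeal Z).subscheme := by
    rw [IsReduced.iff_of_openCover (X := (Scheme.IdealSheafData.vanishingIdeal Z).subscheme)
      (Scheme.IdealSheafData.vanishingIdeal Z).subschemeCover.openCover]
    intro U'
    let U : Y.affineOpens := U'
    change IsReduced (Spec (.of (Γ(Y, U) ⧸ (Scheme.IdealSheafData.vanishingIdeal Z).ideal U)))
    rw [affine_isReduced_iff]
    apply (Ideal.isRadical_iff_quotient_reduced _).1
    rw [Scheme.IdealSheafData.vanishingIdeal_ideal]
    exact PrimeSpectrum.isRadical_vanishingIdeal _
  haveI hirrsp : IrreducibleSpace (Scheme.IdealSheafData.vanishingIdeal Z).subscheme := by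
    have : IsIrreducible (((Scheme.IdealSheafData.vanishingIdeal Z).support : Closeds Y) : Set Y) := by
      rw [Scheme.IdealSheafData.coe_support_vanishingIdeal]
      exact htirr
    exact Subtype.irreducibleSpace this
  refine ⟨Z, htmem, isIntegral_of_irreducibleSpace_of_isReduced _,
    f.toImage ≫ Scheme.IdealSheafData.inclusion hker, ?_⟩
  rw [Category.assoc, Scheme.IdealSheafData.inclusion_subschemeι]
  exact f.toImage_imageι

end Groth.Agent.S16188
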