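import Groth.Statements.S16196
import Mathlib.Algebra.Module.BigOperators

set_option autoImplicit false
universe u v
open DivAlg

namespace Groth.Agent.S16196

/-- Let R be a ring (associative, unital, not necessarily commutative) and M a left R-module which is a
generator, in the form: for some n there is an R-linear surjection from M^n onto R. Then the natural
ring homomorphism from R to the double endomorphism ring BiEnd_R(M) = End_{End_R(M)}(M)
(endomorphisms of M commuting with every R-linear endomorphism), r ↦ multiplication by r, is
bijective. (The printed form takes R an algebra over a commutative ring k, embeds R in E = End_k(M)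
and asserts R = C_E(C_E(R)); the double centralizer there is BiEnd_R(M).) -/
theorem result {R : Type u} [Ring R] (M : Type v)
    [AddCommGroup M] [Module R M]
    (hgen : ∃ (n : ℕ) (f : (Fin n → M) →ₗ[R] R), Function.Surjective f) :
    Function.Bijective (Module.toModuleEnd (Module.End R M) (S := R) M) := by
  obtain ⟨n, f, hf⟩ := hgen
  obtain ⟨v, hv⟩ := hf 1
  let fi : Fin n → (M →ₗ[R] R) := fun i => f.comp (LinearMap.single R (fun _ => M) i)
  have hsum : ∀ w : Fin n → M, f w = ∑ i, fi i (w i) := by
    intro w
    conv_lhs => rw [← Finset.univ_sum_single w]
    rw [map_sum]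
    exact Finset.sum_congr rfl (fun i _ => rfl)
  constructor
  · intro r s hrs
    have h : ∀ m : M, r • m = s • m := fun m => DFunLike.congr_fun hrs m
    calc r = r • f v := by rw [hv, smul_eq_mul, mul_one]
      _ = f (r • v) := (map_smul f r v).symm
      _ = f (s • v) := by
          congr 1
          funext i
          exact h (v i)
      _ = s • f v := map_smul f s v
      _ = s := by rw [hv, smul_eq_mul, mul_one]
  · intro T
    have hT : ∀ (g : Module.End R M) (x : M), T (g x) = g (T x) := fun g x => T.map_smul g x
    refine ⟨∑ i, fi i (T (v i)), ?_⟩
    refine LinearMap.ext (fun x => ?_)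
    have hx : ∀ i, T ((fi i (v i)) • x) = (fi i (T (v i))) • x := by
      intro i
      have h := hT ((LinearMap.toSpanSingleton R M x).comp (fi i)) (v i)
      simpa using h
    have h1 : ∑ i, (fi i (v i)) • x = x := by
      rw [← Finset.sum_smul, ← hsum, hv, one_smul]
    calc (Module.toModuleEnd (Module.End R M) (S := R) M (∑ i, fi i (T (v i)))) x
        = (∑ i, fi i (T (v i))) • x := rfl
      _ = ∑ i, (fi i (T (v i))) • x := Finset.sum_smul
      _ = ∑ i, T ((fi i (v i)) • x) := Finset.sum_congr rfl (fun i _ => (hx i).symm)
      _ = T (∑ i, (fi i (v i)) • x) := (map_sum T _ _).symm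
      _ = T x := by rw [h1]

end Groth.Agent.S16196
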