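import Groth.Statements.S16197
import Mathlib

set_option autoImplicit false
universe u v w
open DivAlg

namespace Groth.Agent.S16197

/-- Let R be a ring (associative, unital, not necessarily commutative) and M a left R-module which is a
generator, used here only through the existence of an R-linear surjection from a direct sum of
copies of M, indexed by an arbitrary type, onto R. Then some finite power M^n decomposes as R × Q
for a submodule Q of M^n. (The published statement is an equivalence; this row states only the
implication from the existence of such a surjection to the splitting.) -/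
theorem result {R : Type u} [Ring R] (M : Type v)
    [AddCommGroup M] [Module R M]
    (hgen : ∃ (ι : Type w) (f : (ι →₀ M) →ₗ[R] R), Function.Surjective f) :
    ∃ (n : ℕ) (Q : Submodule R (Fin n → M)), Nonempty ((Fin n → M) ≃ₗ[R] (R × Q)) := by
  classical
  obtain ⟨ι, f, hf⟩ := hgen
  obtain ⟨x₀, hx₀⟩ := hf 1
  let s := x₀.support
  let n := s.card
  let e : Fin n ≃ s := (Finset.equivFin s).symm
  let g : (Fin n → M) →ₗ[R] R :=
    ∑ k : Fin n, (f ∘ₗ Finsupp.lsingle (e k : ι)) ∘ₗ LinearMap.proj k
  let m₀ : Fin n → M := fun k => x₀ (e k)
  have hg : g m₀ = 1 := by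
    simp only [g, LinearMap.sum_apply, LinearMap.comp_apply, LinearMap.proj_apply, m₀,
      Finsupp.lsingle_apply]
    rw [← map_sum, ← hx₀]
    congr 1
    conv_rhs => rw [← Finsupp.sum_single x₀]
    rw [Finsupp.sum, ← Finset.sum_coe_sort x₀.support]
    exact Fintype.sum_equiv e (fun k : Fin n => Finsupp.single (e k : ι) (x₀ (e k))) (fun a : s => Finsupp.single (a : ι) (x₀ a)) (fun _ => rfl)
  let σ : R →ₗ[R] (Fin n → M) := LinearMap.toSpanSingleton R _ m₀
  have hσ : g ∘ₗ σ = LinearMap.id := by
    ext
    simp [σ, hg]
  refine ⟨n, LinearMap.ker g, ⟨?_⟩⟩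
  have key := lequivProdOfRightSplitExact (j := (LinearMap.ker g).subtype) (g := g) (f := σ)
    (Submodule.injective_subtype _) (Submodule.range_subtype _) hσ
  exact key.symm.trans (LinearEquiv.prodComm R _ _)

end Groth.Agent.S16197
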