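import Groth.Statements.S1620
import Groth.Agent.Lib.SchFT_helper8
import Groth.Agent.Lib.DimFT3_helper8

set_option autoImplicit false
universe u
open CategoryTheory CategoryTheory.Limits AlgebraicGeometry
attribute [local instance] Curv2.stalkAlgebra Curv2.resAlgebra
open Variety

namespace Groth.Agent.S1620

/-- Let X be locally of finite type over a field k and x ⤳ x' an immediate specialisation (x ≠ x' and no
point strictly in between). If the residue field of x' has transcendence degree n over k then the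
residue field of x has transcendence degree n + 1. -/
theorem result (k : Type u) [Field k] (X : Scheme.{u}) [X.Over (Spec (CommRingCat.of k))] [LocallyOfFiniteType (X ↘ (Spec (CommRingCat.of k)))] (x x' : X) (hne : x ≠ x') (hsp : x ⤳ x')
    (himm : ∀ y : X, x ⤳ y → y ⤳ x' → y = x ∨ y = x')
    (n : ℕ) (hn : Algebra.trdeg k (X.residueField x') = n) : Algebra.trdeg k (X.residueField x) = n + 1 := by
  classical
  obtain ⟨_, ⟨U, hU, rfl⟩, hx'U, -⟩ :=
    X.isBasis_affineOpens.exists_subset_of_mem_open (Set.mem_univ x') isOpen_univ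
  have hxU : x ∈ U := hsp.mem_open U.2 hx'U
  letI := Groth.Agent.SchFTH8.secAlgebra k X U
  haveI := Groth.Agent.SchFTH8.finiteType_sec k X U hU
  set p := (hU.primeIdealOf ⟨x, hxU⟩).asIdeal with hp
  set p' := (hU.primeIdealOf ⟨x', hx'U⟩).asIdeal with hp'
  haveI hpp : p.IsPrime := (hU.primeIdealOf ⟨x, hxU⟩).2
  haveI hp'p : p'.IsPrime := (hU.primeIdealOf ⟨x', hx'U⟩).2
  have hle : p ≤ p' :=
    (Groth.Agent.SchFTH8.specializes_iff_primeIdealOf_le hU x x' hxU hx'U).mp hsp
  have hne' : p ≠ p' := by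
    intro h
    apply hne
    have heq : hU.primeIdealOf ⟨x, hxU⟩ = hU.primeIdealOf ⟨x', hx'U⟩ := PrimeSpectrum.ext h
    have := congrArg hU.fromSpec heq
    rw [hU.fromSpec_primeIdealOf, hU.fromSpec_primeIdealOf] at this
    exact this
  -- no primes strictly between
  have hbetween : ∀ q : Ideal Γ(X, U), q.IsPrime → p ≤ q → q ≤ p' → q = p ∨ q = p' := by
    intro q hq h1 h2
    have hyU : hU.fromSpec ⟨q, hq⟩ ∈ U := Groth.Agent.SchFTH8.fromSpec_mem hU _
    have hpy := Groth.Agent.SchFTH8.primeIdealOf_fromSpec hU ⟨q, hq⟩ hyU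
    have hs1 : x ⤳ hU.fromSpec ⟨q, hq⟩ := by
      rw [Groth.Agent.SchFTH8.specializes_iff_primeIdealOf_le hU _ _ hxU hyU, hpy]
      exact h1
    have hs2 : hU.fromSpec ⟨q, hq⟩ ⤳ x' := by
      rw [Groth.Agent.SchFTH8.specializes_iff_primeIdealOf_le hU _ _ hyU hx'U, hpy]
      exact h2
    rcases himm _ hs1 hs2 with h | h
    · left
      have : hU.primeIdealOf ⟨hU.fromSpec ⟨q, hq⟩, hyU⟩ = hU.primeIdealOf ⟨x, hxU⟩ := by
        congr 1; exact Subtype.ext h
      rw [hpy] at this
      exact congrArg PrimeSpectrum.asIdeal this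
    · right
      have : hU.primeIdealOf ⟨hU.fromSpec ⟨q, hq⟩, hyU⟩ = hU.primeIdealOf ⟨x', hx'U⟩ := by
        congr 1; exact Subtype.ext h
      rw [hpy] at this
      exact congrArg PrimeSpectrum.asIdeal this
  -- the quotient domain B = A / p and the prime P' = p' / p
  haveI : Algebra.FiniteType k (Γ(X, U) ⧸ p) :=
    Algebra.FiniteType.of_surjective (Ideal.Quotient.mkₐ k p) (Ideal.Quotient.mkₐ_surjective k p)
  have hker : RingHom.ker (Ideal.Quotient.mk p) ≤ p' := by rwa [Ideal.mk_ker]
  haveI hP' : (p'.map (Ideal.Quotient.mk p)).IsPrime :=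
    Ideal.map_isPrime_of_surjective Ideal.Quotient.mk_surjective hker
  have hcm : (p'.map (Ideal.Quotient.mk p)).comap (Ideal.Quotient.mk p) = p' := by
    rw [Ideal.comap_map_of_surjective _ Ideal.Quotient.mk_surjective, ← RingHom.ker_eq_comap_bot]
    exact sup_eq_left.mpr hker
  have hP'ne : p'.map (Ideal.Quotient.mk p) ≠ ⊥ := by
    intro h
    rw [Ideal.map_eq_bot_iff_le_ker, Ideal.mk_ker] at h
    exact hne' (le_antisymm hle h)
  have hP'1 : (p'.map (Ideal.Quotient.mk p)).height = 1 := by
    apply le_antisymm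
    · have : (p'.map (Ideal.Quotient.mk p)).height ≤ ((1 : ℕ) : ℕ∞) := by
        rw [Ideal.height_le_iff]
        intro Q hQ hQlt
        have hQ0 : Q = ⊥ := by
          have h1 : p ≤ Q.comap (Ideal.Quotient.mk p) := by
            intro a ha
            rw [Ideal.mem_comap, Ideal.Quotient.eq_zero_iff_mem.mpr ha]
            exact zero_mem _
          have h2 : Q.comap (Ideal.Quotient.mk p) ≤ p' := by
            rw [← hcm]
            exact Ideal.comap_mono hQlt.le
          rcases hbetween _ (Ideal.comap_isPrime _ _) h1 h2 with h | h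
          · have := congrArg (Ideal.map (Ideal.Quotient.mk p)) h
            rw [Ideal.map_comap_of_surjective _ Ideal.Quotient.mk_surjective] at this
            rw [this, Ideal.map_eq_bot_iff_le_ker, Ideal.mk_ker]
          · exfalso
            have := congrArg (Ideal.map (Ideal.Quotient.mk p)) h
            rw [Ideal.map_comap_of_surjective _ Ideal.Quotient.mk_surjective] at this
            exact (ne_of_lt hQlt) this
        rw [hQ0, Ideal.height_bot]
        norm_num
      simpa using this
    · rw [Order.one_le_iff_pos, pos_iff_ne_zero, Ne, Ideal.height_eq_zero_iff_eq_bot]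
      exact hP'ne
  have hKS := Groth.Agent.DimFT3H8.trdeg_quotient_of_height_eq_one k (Γ(X, U) ⧸ p)
    (p'.map (Ideal.Quotient.mk p)) hP'1
  have e := DoubleQuot.quotQuotEquivQuotOfLEₐ k hle
  have h1 : Algebra.trdeg k ((Γ(X, U) ⧸ p) ⧸ p'.map (Ideal.Quotient.mkₐ k p)) =
      Algebra.trdeg k (Γ(X, U) ⧸ p') := e.trdeg_eq
  have h2 : Algebra.trdeg k ((Γ(X, U) ⧸ p) ⧸ p'.map (Ideal.Quotient.mk p)) =
      Algebra.trdeg k (Γ(X, U) ⧸ p') := h1
  rw [Groth.Agent.SchFTH8.trdeg_residueField k hU x hxU, ← hKS, h2,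
    ← Groth.Agent.SchFTH8.trdeg_residueField k hU x' hx'U, hn]

end Groth.Agent.S1620
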