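import Groth.Statements.S16211
import Mathlib

set_option autoImplicit false
universe u v
open InvTh

namespace Groth.Agent.S16211

/-- Let R be a commutative ring, O a formally smooth R-algebra and G a finite group whose order is
invertible in R, acting on O by R-algebra automorphisms. Then the largest quotient algebra of O on
which G acts trivially, namely the quotient of O by the ideal generated by all g • f - f (the
coordinate ring of the subscheme of G-fixed points of Spec O), is again formally smooth over R:
invariant homomorphisms lift along square-zero extensions. The published statement is about a scheme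
X smooth and of finite presentation over the base and concludes that its fixed-point scheme is
smooth; this row, the affine step of its proof, assumes only that O is formally smooth over R and
concludes only formal smoothness. -/
theorem result (R : Type u) [CommRing R]
    (O : Type u) [CommRing O] [Algebra R O] [Algebra.FormallySmooth R O]
    (G : Type v) [Group G] [Finite G] [MulSemiringAction G O] [SMulCommClass G R O]
    (hG : IsUnit (Nat.card G : R)) :
    Algebra.FormallySmooth R (O ⧸ Ideal.span {x : O | ∃ (g : G) (f : O), x = g • f - f}) := by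
  classical
  haveI : Fintype G := Fintype.ofFinite G
  refine Algebra.FormallySmooth.of_comp_surjective fun B _ _ I hI φ => ?_
  let J : Ideal O := Ideal.span {x : O | ∃ (g : G) (f : O), x = g • f - f}
  let ψbar : O →ₐ[R] B ⧸ I := φ.comp (Ideal.Quotient.mkₐ R J)
  have hinv : ∀ (g : G) (x : O), ψbar (g • x) = ψbar x := by
    intro g x
    have : g • x - x ∈ J := Ideal.subset_span ⟨g, x, rfl⟩
    show φ (Ideal.Quotient.mk J (g • x)) = φ (Ideal.Quotient.mk J x)
    congr 1
    exact Ideal.Quotient.eq.mpr this
  obtain ⟨ψ₀, hψ₀⟩ := Algebra.FormallySmooth.comp_surjective R O I hI ψbar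
  have hψ₀' : ∀ x, Ideal.Quotient.mk I (ψ₀ x) = ψbar x := fun x => AlgHom.congr_fun hψ₀ x
  letI : Algebra O B := ψ₀.toRingHom.toAlgebra
  haveI : IsScalarTower R O B := IsScalarTower.of_algebraMap_eq (fun r => (ψ₀.commutes r).symm)
  have halg : ∀ x : O, algebraMap O B x = ψ₀ x := fun x => rfl
  let act : G → (O →ₐ[R] O) := fun g => MulSemiringAction.toAlgHom R O g
  have hact : ∀ g x, act g x = g • x := fun g x => rfl
  have e : ∀ g : G, (Ideal.Quotient.mkₐ R I).comp (ψ₀.comp (act g)) =
      IsScalarTower.toAlgHom R O (B ⧸ I) := by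
    intro g
    ext x
    show Ideal.Quotient.mk I (ψ₀ (g • x)) = algebraMap O (B ⧸ I) x
    rw [IsScalarTower.algebraMap_apply O B (B ⧸ I), halg]
    exact (hψ₀' (g • x)).trans ((hinv g x).trans (hψ₀' x).symm)
  let Dg : G → Derivation R O I := fun g =>
    derivationToSquareZeroOfLift I hI (ψ₀.comp (act g)) (e g)
  have hDg : ∀ g x, ((Dg g x : I) : B) = ψ₀ (g • x) - ψ₀ x := fun g x => rfl
  obtain ⟨u, hu⟩ := hG.exists_left_inv
  let D : Derivation R O I := u • ∑ g : G, Dg g
  have hD : ∀ x, ((D x : I) : B) = u • ∑ g : G, (ψ₀ (g • x) - ψ₀ x) := by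
    intro x
    have hs : (∑ g : G, Dg g) x = ∑ g : G, Dg g x := by
      have := congrFun (map_sum (Derivation.coeFnAddMonoidHom (R := R) (A := O) (M := I)) Dg
        Finset.univ) x
      rw [Finset.sum_apply] at this
      exact this
    show (((u • ∑ g : G, Dg g) x : I) : B) = _
    rw [Derivation.smul_apply, hs, Submodule.coe_smul_of_tower,
      AddSubmonoidClass.coe_finsetSum]
    simp only [hDg]
  let ψ : O →ₐ[R] B := liftOfDerivationToSquareZero I hI D
  have hψ : ∀ x, ψ x = u • ∑ g : G, ψ₀ (g • x) := by
    intro x
    show ((D x : I) : B) + algebraMap O B x = _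
    rw [hD, halg, Finset.sum_sub_distrib, Finset.sum_const, Finset.card_univ, smul_sub,
      ← Nat.card_eq_fintype_card, ← Nat.cast_smul_eq_nsmul R, smul_smul, hu, one_smul]
    abel
  have hψinv : ∀ (h : G) (x : O), ψ (h • x) = ψ x := by
    intro h x
    rw [hψ, hψ]
    congr 1
    refine Fintype.sum_equiv (Equiv.mulRight h) _ _ (fun g => ?_)
    rw [Equiv.coe_mulRight, mul_smul]
  have hJ : ∀ a ∈ J, ψ a = 0 := by
    intro a ha
    have : J ≤ RingHom.ker ψ.toRingHom := by
      apply Ideal.span_le.mpr
      rintro _ ⟨g, f, rfl⟩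
      show ψ (g • f - f) = 0
      rw [map_sub, hψinv, sub_self]
    exact this ha
  refine ⟨Ideal.Quotient.liftₐ J ψ hJ, ?_⟩
  apply Ideal.Quotient.algHom_ext
  ext x
  show Ideal.Quotient.mk I (ψ x) = φ (Ideal.Quotient.mk J x)
  have h1 : Ideal.Quotient.mk I (ψ x) = algebraMap O (B ⧸ I) x :=
    liftOfDerivationToSquareZero_mk_apply I hI D x
  rw [h1, IsScalarTower.algebraMap_apply O B (B ⧸ I), halg]
  exact hψ₀' x

end Groth.Agent.S16211
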