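import Groth.Statements.S16234
import Mathlib

set_option autoImplicit false
universe u v
open CAlg

namespace Groth.Agent.S16234

/-- For a finitely generated module M over a Noetherian commutative ring A, every prime ideal in the
support of M is a maximal ideal if and only if M has finite length. -/
theorem result (A : Type u) [CommRing A] [IsNoetherianRing A]
    (M : Type v) [AddCommGroup M] [Module A M] [Module.Finite A M] :
    (∀ p ∈ Module.support A M, p.asIdeal.IsMaximal) ↔ IsFiniteLength A M := by

  classical
  constructor
  · intro h
    -- `A ⧸ Ann M` is Artinian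
    set I := Module.annihilator A M with hI
    letI : Module (A ⧸ I) M := Module.quotientAnnihilator
    haveI : IsScalarTower A (A ⧸ I) M := (Module.isTorsionBySet_annihilator A M).isScalarTower
    have hdim : Ring.KrullDimLE 0 (A ⧸ I) := by
      rw [Ring.krullDimLE_zero_iff]
      intro q hq
      have hq' : (q.comap (Ideal.Quotient.mk I)).IsPrime := Ideal.comap_isPrime _ _
      have hle : I ≤ q.comap (Ideal.Quotient.mk I) := by
        intro x hx
        rw [Ideal.mem_comap, Ideal.Quotient.eq_zero_iff_mem.mpr hx]
        exact zero_mem _
      have hsupp : (⟨q.comap (Ideal.Quotient.mk I), hq'⟩ : PrimeSpectrum A) ∈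
          Module.support A M := by
        rw [Module.support_eq_zeroLocus, PrimeSpectrum.mem_zeroLocus]
        exact hle
      haveI hmax : (q.comap (Ideal.Quotient.mk I)).IsMaximal := h _ hsupp
      have hq2 : q = (q.comap (Ideal.Quotient.mk I)).map (Ideal.Quotient.mk I) :=
        (Ideal.map_comap_of_surjective _ Ideal.Quotient.mk_surjective q).symm
      rw [hq2]
      exact Ideal.IsMaximal.map_of_surjective_of_ker_le Ideal.Quotient.mk_surjective
        (by rw [Ideal.mk_ker]; exact hle)
    haveI : IsArtinianRing (A ⧸ I) := isArtinianRing_iff_krullDimLE_zero.mpr hdim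
    haveI : Module.Finite (A ⧸ I) M := Module.Finite.of_restrictScalars_finite A (A ⧸ I) M
    haveI : IsArtinian (A ⧸ I) M := inferInstance
    haveI : IsArtinian A M :=
      isArtinian_of_surjective_algebraMap (R := A ⧸ I) (S := A) Ideal.Quotient.mk_surjective
    exact isFiniteLength_iff_isNoetherian_isArtinian.mpr ⟨inferInstance, inferInstance⟩
  · intro h
    have key : ∀ (M' : Type v) [AddCommGroup M'] [Module A M'], IsFiniteLength A M' →
        ∀ p ∈ Module.support A M', p.asIdeal.IsMaximal := by
      intro M' _ _ hfl
      induction hfl with
      | of_subsingleton =>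
        intro p hp
        rw [Module.support_eq_empty] at hp
        exact hp.elim
      | of_simple_quotient hN ih =>
        rename_i M₁ _ _ N hsimple
        intro p hp
        rw [Module.support_of_exact (LinearMap.exact_subtype_mkQ N)
          (Submodule.injective_subtype N) (Submodule.mkQ_surjective N)] at hp
        rcases hp with hp | hp
        · exact ih p hp
        · obtain ⟨m, hm, ⟨e⟩⟩ := isSimpleModule_iff_quot_maximal.mp hsimple
          rw [e.support_eq, Module.support_eq_zeroLocus, Ideal.annihilator_quotient,
            PrimeSpectrum.mem_zeroLocus] at hp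
          have : m = p.asIdeal := hm.eq_of_le p.2.ne_top hp
          rw [← this]
          exact hm
    exact key M h

end Groth.Agent.S16234
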