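import Groth.Statements.S16235
import Groth.Agent.Lib.RegHt_helper8

set_option autoImplicit false
universe u
open CAlg

namespace Groth.Agent.S16235

/-- Let A be a Noetherian commutative ring and x_1, …, x_r a regular sequence on A (each x_i a
non-zero-divisor on A/(x_1, …, x_{i-1})) generating an ideal I ≠ A. Then the height of I, the
infimum of the heights of the minimal primes over I, equals r. -/
theorem result (A : Type u) [CommRing A] [IsNoetherianRing A]
    (r : ℕ) (x : Fin r → A) (hx : RingTheory.Sequence.IsWeaklyRegular A (List.ofFn x))
    (hI : Ideal.span (Set.range x) ≠ ⊤) :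
    (Ideal.span (Set.range x)).height = r := by
  have hof : Ideal.ofList (List.ofFn x) = Ideal.span (Set.range x) := by
    unfold Ideal.ofList
    congr 1
    ext a
    simp [List.mem_ofFn]
  apply le_antisymm
  · have h1 : (Ideal.span (Set.range x)).height ≤ ((Ideal.span (Set.range x)).spanFinrank : ℕ∞) :=
      Ideal.height_le_spanFinrank _ hI
    have h2 : ((Ideal.span (Set.range x)).spanFinrank : ℕ∞) ≤ (Set.range x).encard :=
      Submodule.spanFinrank_span_le_encard _
    have h3 : (Set.range x).encard ≤ (r : ℕ∞) := by
      rw [← Set.image_univ]
      refine (Set.encard_image_le x Set.univ).trans ?_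
      simp
    exact h1.trans (h2.trans h3)
  · rw [Ideal.height_eq_inf_minimalPrimes]
    refine le_iInf₂ fun p hp => ?_
    haveI := hp.1.1
    have h1 := Groth.Agent.RegHt.length_le_height _ hx p (hof ▸ hp.1.2)
    simpa using h1

end Groth.Agent.S16235
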