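import Groth.Statements.S16238
import Mathlib
import Groth.Agent.Lib.TorReg_helper5

set_option autoImplicit false
universe u
open CategoryTheory
open CAlg

namespace Groth.Agent.S16238

/-- Let A be a Noetherian local ring, x_1, …, x_n a regular sequence on A (each x_i a non-zero-divisor
on A/(x_1, …, x_{i-1})) generating the ideal I, and J an ideal with I + J ≠ A. Then the images of
x_1, …, x_n form a regular sequence on A/J if and only if Tor_i^A(A/I, A/J) = 0 for all i ≥ 1 (in
degree 0 the Tor is A/(I + J) in any case). (The published statement does not ask the x_i to form a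
regular sequence on A itself; without this the equivalence fails, for instance for A = k[e]/(e²), n
= 1, x_1 = e and J = 0, where every higher Tor of A/(e) against the free module A vanishes although
e is a zero-divisor.) -/
theorem result (A : Type u) [CommRing A] [IsNoetherianRing A] [IsLocalRing A]
    (n : ℕ) (x : Fin n → A) (hx : RingTheory.Sequence.IsWeaklyRegular A (List.ofFn x))
    (J : Ideal A) (hIJ : Ideal.span (Set.range x) ⊔ J ≠ ⊤) :
    RingTheory.Sequence.IsWeaklyRegular (A ⧸ J) (List.ofFn (fun i : Fin n => Ideal.Quotient.mk J (x i))) ↔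
      ∀ i : ℕ, 1 ≤ i → Limits.IsZero (((Tor (ModuleCat.{u} A) i).obj
        (ModuleCat.of A (A ⧸ Ideal.span (Set.range x)))).obj (ModuleCat.of A (A ⧸ J))) := by
  have hconv : RingTheory.Sequence.IsWeaklyRegular (A ⧸ J)
      (List.ofFn (fun i : Fin n => Ideal.Quotient.mk J (x i))) ↔
      RingTheory.Sequence.IsWeaklyRegular (A ⧸ J) (List.ofFn x) := by
    have : List.ofFn (fun i : Fin n => Ideal.Quotient.mk J (x i)) =
        (List.ofFn x).map (algebraMap A (A ⧸ J)) := by
      rw [List.map_ofFn]; rfl
    rw [this]
    exact RingTheory.Sequence.isWeaklyRegular_map_algebraMap_iff (A ⧸ J) (A ⧸ J) (List.ofFn x)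
  rw [hconv]
  have hofList : Ideal.ofList (List.ofFn x) = Ideal.span (Set.range x) :=
    Groth.Agent.KoszulH1.ofList_ofFn x
  constructor
  · intro hJ i hi
    obtain ⟨k, rfl⟩ : ∃ k, i = k + 1 := ⟨i - 1, by omega⟩
    have := Groth.Agent.TorReg.torZero_quot_of_isWeaklyRegular (A ⧸ J) (List.ofFn x) hx hJ k
    rw [hofList] at this
    exact this
  · intro h
    have h1 := h 1 le_rfl
    have hinf := Groth.Agent.TorReg.inf_le_mul_of_torZero_one _ _ h1
    have hK := Groth.Agent.TorReg.koszulH1Zero_quot x
      (Groth.Agent.TorReg.koszulH1Zero_of_isWeaklyRegular n x hx) J hinf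
    refine Groth.Agent.KoszulH1.isWeaklyRegular_of_koszulH1Zero_jacobson x ?_ hK
    intro i
    rw [IsLocalRing.jacobson_eq_maximalIdeal ⊥ bot_ne_top]
    have : Ideal.span (Set.range x) ≤ IsLocalRing.maximalIdeal A :=
      le_trans le_sup_left (IsLocalRing.le_maximalIdeal hIJ)
    exact this (Ideal.subset_span ⟨i, rfl⟩)

end Groth.Agent.S16238
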