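import Groth.Statements.S16265
import Mathlib
import Groth.Agent.Lib.FunFldR_helper2

set_option autoImplicit false
open FunFld

namespace Groth.Agent.S16265

/-- Let `K/k` be a function field of one variable over an algebraically closed field `k` of
characteristic zero (the function field of a smooth projective curve), `D` a divisor and `V ⊆ L(D)`
a linear system of dimension `r + 1`; write `V(-mP-nQ) = V ∩ L(D - mP - nQ)` for the members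
vanishing to the indicated orders. Assume `V` has no special ramification point, i.e. no place of
weight at least two: for every place `R`, `dim V(-rR) ≤ 1` and `V(-(r+2)R) = 0`. Let `P ≠ Q` be
places and `a, b ≥ 1` with `a + b = r + 1` (so that `V(-aP)` and `V(-bQ)` have dimensions `b` and
`a`). Then the following are equivalent: (1) the system `V(-aP)` has weight at least two at `Q`,
that is `dim V(-aP-(b-1)Q) ≥ 2` or `dim V(-aP-(b+1)Q) ≥ 1`, and the system `V(-bQ)` has weight at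
least two at `P`, that is `dim V(-(a-1)P-bQ) ≥ 2` or `dim V(-(a+1)P-bQ) ≥ 1`; (2) one of (a) `dim
V(-(a+1)P-(b+1)Q) ≥ 1`, (b) `dim V(-(a-1)P-(b-1)Q) ≥ 3`, (c) `dim V(-aP-(b+1)Q) ≥ 1` and `dim
V(-(a-1)P-bQ) ≥ 2`, (d) `dim V(-(a+1)P-bQ) ≥ 1` and `dim V(-aP-(b-1)Q) ≥ 2`. (The published
statement is for a smooth curve over the complex numbers.) -/
theorem result
    (k K : Type*) [Field k] [IsAlgClosed k] [CharZero k] [Field K] [Algebra k K]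
    (hK : FunFld.IsFunctionField k K) (D : FunFld.Divisor k K)
    (V : Submodule k K) (hVD : V ≤ FunFld.L D) (r : ℕ) (hr : Module.finrank k ↥V = r + 1)
    (hns : ∀ R : FunFld.Place k K,
      Module.finrank k ↥(V ⊓ FunFld.L (D - Finsupp.single R (r : ℤ))) ≤ 1 ∧
        V ⊓ FunFld.L (D - Finsupp.single R ((r : ℤ) + 2)) = ⊥)
    (P Q : FunFld.Place k K) (hPQ : P ≠ Q) (a b : ℕ) (ha : 1 ≤ a) (hb : 1 ≤ b) (hab : a + b = r + 1) :
    ((2 ≤ Module.finrank k ↥(V ⊓ FunFld.L (D - Finsupp.single P (a : ℤ) - Finsupp.single Q ((b : ℤ) - 1 : ℤ))) ∨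
        1 ≤ Module.finrank k ↥(V ⊓ FunFld.L (D - Finsupp.single P (a : ℤ) - Finsupp.single Q ((b : ℤ) + 1 : ℤ)))) ∧
      (2 ≤ Module.finrank k ↥(V ⊓ FunFld.L (D - Finsupp.single P ((a : ℤ) - 1 : ℤ) - Finsupp.single Q (b : ℤ))) ∨
        1 ≤ Module.finrank k ↥(V ⊓ FunFld.L (D - Finsupp.single P ((a : ℤ) + 1 : ℤ) - Finsupp.single Q (b : ℤ))))) ↔
    (1 ≤ Module.finrank k ↥(V ⊓ FunFld.L (D - Finsupp.single P ((a : ℤ) + 1 : ℤ) - Finsupp.single Q ((b : ℤ) + 1 : ℤ))) ∨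
      3 ≤ Module.finrank k ↥(V ⊓ FunFld.L (D - Finsupp.single P ((a : ℤ) - 1 : ℤ) - Finsupp.single Q ((b : ℤ) - 1 : ℤ))) ∨
      (1 ≤ Module.finrank k ↥(V ⊓ FunFld.L (D - Finsupp.single P (a : ℤ) - Finsupp.single Q ((b : ℤ) + 1 : ℤ))) ∧
        2 ≤ Module.finrank k ↥(V ⊓ FunFld.L (D - Finsupp.single P ((a : ℤ) - 1 : ℤ) - Finsupp.single Q (b : ℤ)))) ∨
      (1 ≤ Module.finrank k ↥(V ⊓ FunFld.L (D - Finsupp.single P ((a : ℤ) + 1 : ℤ) - Finsupp.single Q (b : ℤ))) ∧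
        2 ≤ Module.finrank k ↥(V ⊓ FunFld.L (D - Finsupp.single P (a : ℤ) - Finsupp.single Q ((b : ℤ) - 1 : ℤ))))) := by
  classical
  set F : ℤ → ℤ → ℕ := fun m n => FunFld.vdim2 V D P Q m n with hF
  -- steps in Q
  have sQ1 := fun m : ℤ => FunFld.vdim2_stepQ hK V D P Q m (n := (b : ℤ) - 1) (n' := (b : ℤ)) (by ring)
  have sQ2 := fun m : ℤ => FunFld.vdim2_stepQ hK V D P Q m (n := (b : ℤ)) (n' := (b : ℤ) + 1) rfl
  have sP1 := fun n : ℤ => FunFld.vdim2_stepP hK V D P Q (m := (a : ℤ) - 1) (m' := (a : ℤ)) (by ring) n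
  have sP2 := fun n : ℤ => FunFld.vdim2_stepP hK V D P Q (m := (a : ℤ)) (m' := (a : ℤ) + 1) rfl n
  have mQ1 := fun m : ℤ => FunFld.vdim2_monoQ hK V D P Q m (n := (b : ℤ) - 1) (n' := (b : ℤ)) (by omega)
  have mQ2 := fun m : ℤ => FunFld.vdim2_monoQ hK V D P Q m (n := (b : ℤ)) (n' := (b : ℤ) + 1) (by omega)
  have mP1 := fun n : ℤ => FunFld.vdim2_monoP hK V D P Q (m := (a : ℤ) - 1) (m' := (a : ℤ)) (by omega) n
  have mP2 := fun n : ℤ => FunFld.vdim2_monoP hK V D P Q (m := (a : ℤ)) (m' := (a : ℤ) + 1) (by omega) n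
  have sub11 := FunFld.vdim2_submod hK V D hPQ (m := (a : ℤ) - 1) (m' := (a : ℤ)) (n := (b : ℤ) - 1) (n' := (b : ℤ)) (by ring) (by ring)
  have sub12 := FunFld.vdim2_submod hK V D hPQ (m := (a : ℤ) - 1) (m' := (a : ℤ)) (n := (b : ℤ)) (n' := (b : ℤ) + 1) (by ring) rfl
  have sub21 := FunFld.vdim2_submod hK V D hPQ (m := (a : ℤ)) (m' := (a : ℤ) + 1) (n := (b : ℤ) - 1) (n' := (b : ℤ)) rfl (by ring)
  have sub22 := FunFld.vdim2_submod hK V D hPQ (m := (a : ℤ)) (m' := (a : ℤ) + 1) (n := (b : ℤ)) (n' := (b : ℤ) + 1) rfl rfl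
  have a1 := sQ1 ((a : ℤ) - 1); have a2 := sQ1 (a : ℤ); have a3 := sQ1 ((a : ℤ) + 1)
  have a4 := sQ2 ((a : ℤ) - 1); have a5 := sQ2 (a : ℤ); have a6 := sQ2 ((a : ℤ) + 1)
  have b1 := sP1 ((b : ℤ) - 1); have b2 := sP1 (b : ℤ); have b3 := sP1 ((b : ℤ) + 1)
  have b4 := sP2 ((b : ℤ) - 1); have b5 := sP2 (b : ℤ); have b6 := sP2 ((b : ℤ) + 1)
  have c1 := mQ1 ((a : ℤ) - 1); have c2 := mQ1 (a : ℤ); have c3 := mQ1 ((a : ℤ) + 1)
  have c4 := mQ2 ((a : ℤ) - 1); have c5 := mQ2 (a : ℤ); have c6 := mQ2 ((a : ℤ) + 1)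
  have d1 := mP1 ((b : ℤ) - 1); have d2 := mP1 (b : ℤ); have d3 := mP1 ((b : ℤ) + 1)
  have d4 := mP2 ((b : ℤ) - 1); have d5 := mP2 (b : ℤ); have d6 := mP2 ((b : ℤ) + 1)
  show ((2 ≤ FunFld.vdim2 V D P Q (a : ℤ) ((b : ℤ) - 1) ∨ 1 ≤ FunFld.vdim2 V D P Q (a : ℤ) ((b : ℤ) + 1)) ∧
      (2 ≤ FunFld.vdim2 V D P Q ((a : ℤ) - 1) (b : ℤ) ∨ 1 ≤ FunFld.vdim2 V D P Q ((a : ℤ) + 1) (b : ℤ))) ↔
    (1 ≤ FunFld.vdim2 V D P Q ((a : ℤ) + 1) ((b : ℤ) + 1) ∨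
      3 ≤ FunFld.vdim2 V D P Q ((a : ℤ) - 1) ((b : ℤ) - 1) ∨
      (1 ≤ FunFld.vdim2 V D P Q (a : ℤ) ((b : ℤ) + 1) ∧ 2 ≤ FunFld.vdim2 V D P Q ((a : ℤ) - 1) (b : ℤ)) ∨
      (1 ≤ FunFld.vdim2 V D P Q ((a : ℤ) + 1) (b : ℤ) ∧ 2 ≤ FunFld.vdim2 V D P Q (a : ℤ) ((b : ℤ) - 1)))
  clear_value F
  clear sQ1 sQ2 sP1 sP2 mQ1 mQ2 mP1 mP2 hns
  omega

end Groth.Agent.S16265
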