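import Groth.Statements.S16266
import Mathlib
import Groth.Agent.Lib.FunFldR_helper2

set_option autoImplicit false
open FunFld

namespace Groth.Agent.S16266

/-- Let `K/k` be a function field of one variable over an algebraically closed field `k` of
characteristic zero, `D` a divisor, `V ⊆ L(D)` a linear system of dimension `r + 1` with `r ≥ 1`,
and `P` a place with `V' = V(-P) = V ∩ L(D - P) ≠ V`, an `r`-dimensional system in `L(D - P)`.
Assume that neither `V` nor `V'` has a special ramification point (a place of weight at least two):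
for every place `R`, `dim V ∩ L(D - rR) ≤ 1`, `V ∩ L(D - (r+2)R) = 0`, `dim V' ∩ L(D - P - (r-1)R) ≤
1` and `V' ∩ L(D - P - (r+1)R) = 0`. Then no place `Q ≠ P` is a ramification point of both `V` and
`V'`: for no such `Q` are both `V ∩ L(D - (r+1)Q)` and `V' ∩ L(D - P - rQ)` nonzero. (The published
statement is for a smooth curve over the complex numbers.) -/
theorem result
    (k K : Type*) [Field k] [IsAlgClosed k] [CharZero k] [Field K] [Algebra k K]
    (hK : FunFld.IsFunctionField k K) (D : FunFld.Divisor k K)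
    (V : Submodule k K) (hVD : V ≤ FunFld.L D) (r : ℕ) (hr : Module.finrank k ↥V = r + 1) (hr1 : 1 ≤ r)
    (P : FunFld.Place k K) (hP : V ⊓ FunFld.L (D - Finsupp.single P 1) ≠ V)
    (hns : ∀ R : FunFld.Place k K,
      Module.finrank k ↥(V ⊓ FunFld.L (D - Finsupp.single R (r : ℤ))) ≤ 1 ∧
        V ⊓ FunFld.L (D - Finsupp.single R ((r : ℤ) + 2)) = ⊥)
    (hns' : ∀ R : FunFld.Place k K,
      Module.finrank k ↥(V ⊓ FunFld.L (D - Finsupp.single P 1 - Finsupp.single R ((r : ℤ) - 1))) ≤ 1 ∧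
        V ⊓ FunFld.L (D - Finsupp.single P 1 - Finsupp.single R ((r : ℤ) + 1)) = ⊥)
    (Q : FunFld.Place k K) (hQP : Q ≠ P) :
    ¬ (V ⊓ FunFld.L (D - Finsupp.single Q ((r : ℤ) + 1)) ≠ ⊥ ∧
       V ⊓ FunFld.L (D - Finsupp.single P 1 - Finsupp.single Q (r : ℤ)) ≠ ⊥) := by
  classical
  rintro ⟨h1, h2⟩
  have hP1 : ∀ R : FunFld.Place k K, R.deg = 1 := fun R => FunFld.Place.deg_eq_one hK R
  obtain ⟨s, hs, hs0⟩ := (Submodule.ne_bot_iff _).mp h1
  obtain ⟨t, ht, ht0⟩ := (Submodule.ne_bot_iff _).mp h2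
  have hrQ := (hns Q).1
  -- both lie in `V ⊓ L (D - rQ)`
  have hsW : s ∈ V ⊓ FunFld.L (D - Finsupp.single Q (r : ℤ)) :=
    ⟨hs.1, FunFld.L_mono (FunFld.sub_single_le_sub_single D Q (by omega)) hs.2⟩
  have htW : t ∈ V ⊓ FunFld.L (D - Finsupp.single Q (r : ℤ)) := by
    refine ⟨ht.1, FunFld.L_mono ?_ ht.2⟩
    intro R
    simp only [Finsupp.sub_apply, Finsupp.single_apply]
    split_ifs <;> omega
  haveI := FunFld.finiteDimensional_L hK (D - Finsupp.single Q (r : ℤ))
  obtain ⟨v, hv⟩ := finrank_le_one_iff.mp hrQ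
  obtain ⟨c₁, hc₁⟩ := hv ⟨s, hsW⟩
  obtain ⟨c₂, hc₂⟩ := hv ⟨t, htW⟩
  have hc₁' : c₁ • (v : K) = s := congrArg Subtype.val hc₁
  have hc₂' : c₂ • (v : K) = t := congrArg Subtype.val hc₂
  have hc₂0 : c₂ ≠ 0 := by
    rintro rfl
    rw [zero_smul] at hc₂'
    exact ht0 hc₂'.symm
  have hst : s = (c₁ * c₂⁻¹) • t := by
    rw [← hc₂', smul_smul, mul_assoc, inv_mul_cancel₀ hc₂0, mul_one, hc₁']
  have hsL : s ∈ FunFld.L (D - Finsupp.single P 1 - Finsupp.single Q (r : ℤ)) := by
    rw [hst]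
    exact Submodule.smul_mem _ _ ht.2
  have hmem : s ∈ FunFld.L (D - Finsupp.single P 1 - Finsupp.single Q ((r : ℤ) + 1)) := by
    refine FunFld.mem_L_of_min (fun R => ?_) hsL hs.2
    simp only [Finsupp.sub_apply, Finsupp.single_apply]
    have hPQ : ¬ (P = Q) := fun h => hQP h.symm
    by_cases hQR : Q = R
    · right
      have hPR : ¬ P = R := fun h => hPQ (h.trans hQR.symm)
      rw [if_pos hQR, if_neg hPR]
      omega
    · left
      rw [if_neg hQR]
      split_ifs <;> omega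
  have hbot := (hns' Q).2
  have : s ∈ V ⊓ FunFld.L (D - Finsupp.single P 1 - Finsupp.single Q ((r : ℤ) + 1)) := ⟨hs.1, hmem⟩
  rw [hbot] at this
  exact hs0 ((Submodule.mem_bot k).mp this)

end Groth.Agent.S16266
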