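import Groth.Statements.S16269
import Groth.Agent.Lib.EtGalois_helper6

set_option autoImplicit false
universe u w
open CategoryTheory CategoryTheory.Limits AlgebraicGeometry Opposite
open EtCore

namespace Groth.Agent.S16269

/-- Let X be a scheme, Y an etale X-scheme with Y -> X surjective, and G a finite group acting on Y by
X-automorphisms such that the morphisms (id, g) : Y -> Y x_X Y exhibit Y x_X Y as the coproduct of
copies of Y indexed by G (a Galois covering with group G). For an abelian sheaf F on the small etale
site of X, the restriction map F(X) -> F(Y) is injective and its image is the set of sections of F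
over Y fixed by every element of G. -/
theorem result (X : Scheme.{u})
    (Y : X.Etale) (hY : Function.Surjective Y.hom.base)
    {G : Type u} [Group G] [Finite G] (σ : G →* Aut Y)
    (hgal : Nonempty (IsColimit (Cofan.mk (Y ⨯ Y) (fun g : G => prod.lift (𝟙 Y) (σ g).hom))))
    (F : EtCoh.Ab X) :
    Function.Injective (F.obj.map ((EtCore.topIsTerminal X).from Y).op) ∧
      Set.range (F.obj.map ((EtCore.topIsTerminal X).from Y).op) =
        {s : EtCoh.sect F Y | ∀ g : G, F.obj.map (σ g).hom.op s = s} := by
  classical
  let P : X.Etaleᵒᵖ ⥤ Type (u+1) := F.obj ⋙ forget AddCommGrpCat.{u+1}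
  have hPs : Presieve.IsSheaf X.smallEtaleTopology P := by
    have := (Presheaf.isSheaf_iff_isSheaf_forget X.smallEtaleTopology F.obj
      (forget AddCommGrpCat.{u+1})).mp F.cond
    exact (isSheaf_iff_isSheaf_of_type _ _).mp this
  have hcov1 : Sieve.ofArrows (fun _ : PUnit.{1} => Y)
      (fun _ => (EtCore.topIsTerminal X).from Y) ∈ X.smallEtaleTopology (EtCoh.top X) := by
    rw [Scheme.ofArrows_mem_smallEtaleTopology_iff]
    rw [Set.eq_univ_iff_forall]
    intro x
    obtain ⟨y, hy⟩ := hY x
    simp only [Set.mem_iUnion]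
    refine ⟨PUnit.unit, y, ?_⟩
    have h1 : ((EtCore.topIsTerminal X).from Y).left = Y.hom := by
      have := CategoryTheory.Over.w ((EtCore.topIsTerminal X).from Y).toCommaMorphism
      exact (Category.comp_id _).symm.trans this
    rw [h1]
    exact hy
  have hsf : Presieve.IsSheafFor P (Presieve.singleton ((EtCore.topIsTerminal X).from Y)) := by
    rw [Presieve.isSheafFor_iff_generate, ← Presieve.ofArrows_pUnit]
    exact hPs _ hcov1
  obtain ⟨hc⟩ := hgal
  have hcov2 : Sieve.ofArrows (fun _ : G => Y) (fun g : G => prod.lift (𝟙 Y) (σ g).hom) ∈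
      X.smallEtaleTopology (Y ⨯ Y) := by
    rw [Scheme.ofArrows_mem_smallEtaleTopology_iff]
    exact Groth.Agent.Lib.EtGaloisH6.iUnion_range_eq_univ_of_isColimit _ _ hc
  have hinj : Function.Injective (fun s : P.obj (op (Y ⨯ Y)) => fun g : G =>
      P.map (prod.lift (𝟙 Y) (σ g).hom).op s) := by
    intro s t hst
    have hsep : Presieve.IsSeparatedFor P
        (Presieve.ofArrows (fun _ : G => Y) (fun g : G => prod.lift (𝟙 Y) (σ g).hom)) := by
      rw [Presieve.isSeparatedFor_iff_generate]
      exact (hPs _ hcov2).isSeparatedFor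
    apply hsep.ext
    rintro _ _ ⟨g⟩
    exact congrFun hst g
  exact (Groth.Agent.Lib.GaloisSheafH4.galois_isSheafFor (EtCore.topIsTerminal X) Y σ P hinj).mp hsf

end Groth.Agent.S16269
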