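import Groth.Statements.S16297
import Mathlib
import Groth.Agent.Lib.Snap59_helper9
import Groth.Agent.Lib.VAmpPn12_helper5
import Groth.Agent.Lib.ProjSpaceProper_helper4

set_option autoImplicit false
universe u
open CategoryTheory CategoryTheory.Limits AlgebraicGeometry
open Curves

namespace Groth.Agent.S16297

/-- Let k be a field and X a proper scheme over k of dimension one (not assumed reduced or irreducible)
with H^1(X, O_X) = 0, and let L be an ample invertible O_X-module. Then L is very ample: for some n
there is a closed immersion i : X → P^n_k over k with i^*O(1) isomorphic to L (existence of an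
isomorphism only). -/
theorem result (k : Type u) [Field k] (X : Scheme.{u}) [X.Over (Spec (CommRingCat.of k))]
    [IsProper (X ↘ (Spec (CommRingCat.of k)))] (hdim : topologicalKrullDim X = 1)
    (h1 : Subsingleton (Coh.HH X (Coh.structureModule X) 1))
    (L : X.Modules) (hA : CohB1.IsAmple L) :
    ∃ (n : ℕ) (i : X ⟶ CohB1.ProjSpace n k), IsClosedImmersion i ∧
      i ≫ CohB1.ProjSpace.toSpec n k = X ↘ (Spec (CommRingCat.of k)) ∧
      Nonempty ((Scheme.Modules.pullback i).obj (Twist.twistProjSpace n k 1) ≅ L) := by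
  have hfib : ∀ y : ↥(Spec (CommRingCat.of k)),
      topologicalKrullDim ↥((X ↘ Spec (CommRingCat.of k)).fiber y) ≤ 1 := by
    intro y
    rw [IsHomeomorph.topologicalKrullDim_eq ((X ↘ Spec (CommRingCat.of k)).fiberHomeo y)
      ((X ↘ Spec (CommRingCat.of k)).fiberHomeo y).isHomeomorph, ← hdim]
    exact topologicalKrullDim_subspace_le _ _
  haveI : IsNoetherianRing k := inferInstance
  obtain ⟨F, hF⟩ := Snap9.exists_veryAmple_sections (X ↘ Spec (CommRingCat.of k)) h1 hfib L hA
  obtain ⟨N, r, hr, hcomp, ⟨e⟩⟩ := Groth.Agent.VAmpPn.exists_immersion_of_sections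
    (X ↘ Spec (CommRingCat.of k)) L hA.1 F hF
  refine ⟨N, r, ?_, hcomp, ⟨e⟩⟩
  haveI : IsProper (CohB1.ProjSpace.toSpec N k) :=
    Groth.Agent.Lib.ProjSpaceProperH4.isProper_toSpec N k
  haveI : IsProper (r ≫ CohB1.ProjSpace.toSpec N k) := by rw [hcomp]; infer_instance
  haveI : IsProper r := IsProper.of_comp r (CohB1.ProjSpace.toSpec N k)
  haveI : IsImmersion r := hr
  exact IsClosedImmersion.of_isPreimmersion r r.isClosedMap.isClosed_range

end Groth.Agent.S16297
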