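import Groth.Statements.S1630
import Mathlib

set_option autoImplicit false
universe u
open CategoryTheory CategoryTheory.Limits AlgebraicGeometry
open Variety

namespace Groth.Agent.S1630

/-- Let X be a scheme over k. If X has a cover by a nonempty family of open subschemes, each
geometrically irreducible over k and any two of which meet, then X is geometrically irreducible over
k. -/
theorem result (k : Type u) [Field k] (X : Scheme.{u}) [X.Over (Spec (CommRingCat.of k))]
    (ι : Type u) (U : ι → X.Opens) (hne : Nonempty ι) (hcov : (⨆ i, U i) = ⊤)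
    (hmeet : ∀ i j, ((U i : Set X) ∩ (U j : Set X)).Nonempty)
    (hU : ∀ i, GeometricallyIrreducible ((U i).ι ≫ (X ↘ (Spec (CommRingCat.of k))))) : GeometricallyIrreducible (X ↘ (Spec (CommRingCat.of k))) := by
  set f := (X ↘ (Spec (CommRingCat.of k))) with hf
  rw [geometricallyIrreducible_iff, geometrically_iff_of_isClosedUnderIsomorphisms]
  intro K _ y
  let p := Limits.pullback.fst f y
  have hp : Surjective p := inferInstance
  let V : ι → (Limits.pullback f y).Opens := fun i => p ⁻¹ᵁ (U i)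
  -- each V i is irreducible
  have hV : ∀ i, IsIrreducible ((V i : (Limits.pullback f y).Opens) : Set ↥(Limits.pullback f y)) := by
    intro i
    have h1 : IrreducibleSpace ↥(Limits.pullback ((U i).ι ≫ f) y) :=
      pullback_of_geometrically (GeometricallyIrreducible.geometrically_irreducibleSpace
        (f := (U i).ι ≫ f)) K y
    let φ : ((V i : (Limits.pullback f y).Opens) : Scheme.{u}) ≅ Limits.pullback ((U i).ι ≫ f) y :=
      (pullbackRestrictIsoRestrict p (U i)).symm ≪≫ Limits.pullbackSymmetry _ _ ≪≫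
        Limits.pullbackRightPullbackFstIso f y (U i).ι
    have h2 : IrreducibleSpace ↥(V i) := φ.hom.homeomorph.irreducibleSpace_iff.mpr h1
    exact isIrreducible_iff_irreducibleSpace.mpr h2
  have hcovV : ∀ z : ↥(Limits.pullback f y), ∃ i, z ∈ V i := by
    intro z
    have : p.base z ∈ (⨆ i, U i : X.Opens) := by rw [hcov]; trivial
    obtain ⟨i, hi⟩ := TopologicalSpace.Opens.mem_iSup.mp this
    exact ⟨i, hi⟩
  have hmeetV : ∀ i j, ((V i : Set ↥(Limits.pullback f y)) ∩ (V j)).Nonempty := by
    intro i j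
    obtain ⟨x, hxi, hxj⟩ := hmeet i j
    obtain ⟨z, rfl⟩ := p.surjective x
    exact ⟨z, hxi, hxj⟩
  show IrreducibleSpace ↥(Limits.pullback f y)
  obtain ⟨i₀⟩ := hne
  have hnonempty : Nonempty ↥(Limits.pullback f y) := by
    obtain ⟨z, hz⟩ := (hV i₀).nonempty
    exact ⟨z⟩
  have : PreirreducibleSpace ↥(Limits.pullback f y) := by
    constructor
    intro A B hA hB hnA hnB
    rw [Set.univ_inter] at hnA hnB ⊢
    obtain ⟨a, ha⟩ := hnA
    obtain ⟨b, hb⟩ := hnB
    obtain ⟨i, hi⟩ := hcovV a
    obtain ⟨j, hj⟩ := hcovV b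
    -- A meets V j
    have h1 : ((V i : Set ↥(Limits.pullback f y)) ∩ (A ∩ (V j : Set _))).Nonempty :=
      (hV i).isPreirreducible A (V j) hA (V j).isOpen ⟨a, hi, ha⟩ (hmeetV i j)
    obtain ⟨c, -, hcA, hcj⟩ := h1
    obtain ⟨d, -, hdA, hdB⟩ := (hV j).isPreirreducible A B hA hB ⟨c, hcj, hcA⟩ ⟨b, hj, hb⟩
    exact ⟨d, hdA, hdB⟩
  exact ⟨hnonempty⟩

end Groth.Agent.S1630
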