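import Groth.Statements.S16308
import Mathlib
import Groth.Agent.Lib.Kosz2_helper9
import Groth.Agent.Lib.FinGG_helper5

set_option autoImplicit false
universe u
open CategoryTheory CategoryTheory.Limits AlgebraicGeometry
open Curves

namespace Groth.Agent.S16308

/-- Let k be a field and X a proper scheme over k of dimension one (a one-dimensional projective scheme)
with H^0(X, O_X) = k. Let A be a globally generated ample invertible O_X-module and m ≥ 0 an integer
with H^1(X, A^{⊗ m}) = 0. Then for every n ≥ m + 1 the global sections of A^{⊗ n} ⊗ A = A^{⊗ (n+1)}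
are spanned over H^0(X, O_X) = k by the sections a ⊗ b with a a global section of A^{⊗ n} and b a
global section of A; consequently the section ring ⊕_{n ≥ 0} H^0(X, A^{⊗ n}) is generated as a
k-algebra by its homogeneous pieces of degrees 1, …, m + 1. -/
theorem result (k : Type u) [Field k] (X : Scheme.{u}) [X.Over (Spec (CommRingCat.of k))]
    [IsProper (X ↘ (Spec (CommRingCat.of k)))] (hdim : topologicalKrullDim X = 1)
    (h0 : Module.finrank k (Coh.HH X (Coh.structureModule X) 0) = 1)
    (A : X.Modules) (hA : CohB1.IsAmple A) (hgg : Curv2.IsGloballyGenerated A)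
    (m : ℕ) (hm : Subsingleton (Coh.HH X (CohB1.tensorPow A m) 1))
    (n : ℕ) (hn : m + 1 ≤ n) :
    Submodule.span (X.ringCatSheaf.obj.obj (Opposite.op ⊤))
        (Set.range (fun p : (CohB1.tensorPow A n).val.obj (Opposite.op ⊤) × A.val.obj (Opposite.op ⊤) =>
          SecTwist.tmul (CohB1.tensorPow A n) A ⊤ p.1 p.2)) = ⊤ := by

  obtain ⟨hAinv, hcomp, -⟩ := hA
  haveI := hcomp
  haveI : IsLocallyNoetherian X :=
    LocallyOfFiniteType.isLocallyNoetherian (X ↘ Spec (CommRingCat.of k))
  have hAc := ProperFinH9.isCoh_of_isInvertible hAinv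
  haveI hAq : A.IsQuasicoherent := hAc.1
  haveI : SheafOfModules.IsFiniteType (R := X.ringCatSheaf) A := hAc.2
  obtain ⟨r, p, hp⟩ := Groth.Agent.FinGG.exists_epi_freeMod A hgg
  haveI := hp
  have hs0 := fun (M : X.Modules) (_ : M.IsQuasicoherent) (hM : Subsingleton (Coh.HH X M 1)) =>
    Kosz.sections_Psi_surjective k X hdim.le hAinv p M hM
  set σ : Fin r → (Coh.structureModule X ⟶ A) :=
    fun i => (SDivFreeH8.ιM i : Coh.structureModule X ⟶ FlatMod.freeMod X r) ≫ p with hσ
  have hloc : ∀ (U : X.Opens) (x : X), x ∈ U →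
      ∃ (W : X.Opens) (_ : W ≤ U), x ∈ W ∧ Nonempty (Kosz.LocData A σ W) :=
    fun U x hx => Kosz.exists_locData hAinv p hx
  have hq : ∀ j, (CohB1.tensorPow A j).IsQuasicoherent := fun j =>
    TensH8.isQuasicoherent_of_isInvertible (TensH8.isInvertible_tensorPow hAinv j)
  have hvan : ∀ j, m ≤ j → Subsingleton (Coh.HH X (CohB1.tensorPow A j) 1) := by
    intro j hj
    induction j, hj using Nat.le_induction with
    | base => exact hm
    | succ j hj ih =>
      haveI := hq j
      haveI : (CohB1.tensorMod (CohB1.tensorPow A j) A).IsQuasicoherent := hq (j + 1)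
      haveI : (Kosz.Pw r (CohB1.tensorPow A j)).IsQuasicoherent :=
        Kosz.isQuasicoherent_biproduct _ (fun _ => hq j)
      have hepi : Epi (Kosz.Psi A σ (CohB1.tensorPow A j)) :=
        Kosz.epi_Psi_of_locData _ hloc
      exact @NodalG0.HH1_of_epi k _ X _ _ hdim.le _ _ _ _ (Kosz.Psi A σ (CohB1.tensorPow A j)) hepi
        (Kosz.subsingleton_HH_biproduct _ 1 (fun _ => ih))
  obtain ⟨n', rfl⟩ : ∃ n', n = n' + 1 := ⟨n - 1, by omega⟩
  have hs := hs0 (CohB1.tensorPow A n') (hq n') (hvan n' (by omega))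
  rw [eq_top_iff]
  intro y _
  obtain ⟨z, hz⟩ := hs y
  rw [Kosz.ap_Psi] at hz
  rw [← hz]
  exact Submodule.sum_mem _ (fun j _ => Submodule.subset_span ⟨(_, _), rfl⟩)

end Groth.Agent.S16308
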