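import Groth.Statements.S16319
import Mathlib
import Groth.Agent.Lib.Kosz4_helper9
import Groth.Agent.Lib.Cliff9a_helper9
import Groth.Agent.Lib.InvTensP2_helper5

set_option autoImplicit false
open CategoryTheory CategoryTheory.Limits AlgebraicGeometry
universe u
open Curves

namespace Groth.Agent.S16319

/-- Let k be an algebraically closed field of characteristic zero and X a smooth proper integral curve
over k (integral, proper and smooth over k, of dimension one) of genus 9 whose Clifford index is 3:
some invertible module M with h^0(M) ≥ 2 and h^1(M) ≥ 2 has deg M − 2(h^0(M) − 1) = 3, and every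
invertible module M with h^0(M) ≥ 2 and h^1(M) ≥ 2 has deg M − 2(h^0(M) − 1) ≥ 3 (degrees are χ(M) −
χ(O_X); in particular X is not hyperelliptic); let H be an invertible module of degree 7 with h^0(H)
= 3 (a g^2_7) and D a globally generated invertible module of degree 5 with h^0(D) = 2 (a
base-point-free complete g^1_5). Then every module N with D ⊗ N ≅ H has h^0(N) = 1: the difference
of the two series is the class of an effective divisor of degree 2 with a one-dimensional space of
sections, so the pencil is cut out by the lines through a double point of the plane model of degree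
7. -/
theorem result
    (k : Type u) [Field k] [IsAlgClosed k] [CharZero k]
    (X : Scheme.{u}) [X.Over (Spec (CommRingCat.of k))] [IsIntegral X]
    [IsProper (X ↘ Spec (CommRingCat.of k))] [Smooth (X ↘ Spec (CommRingCat.of k))]
    (hdim : topologicalKrullDim X = 1) (hg : Curv2.genus k X = 9)
    (hex : ∃ M : X.Modules, PicF.IsInvertible M ∧ 2 ≤ Module.finrank k (Coh.HH X M 0) ∧
      2 ≤ Module.finrank k (Coh.HH X M 1) ∧ Curv2.deg k X M 1 = 2 * (Module.finrank k (Coh.HH X M 0) : ℤ) + 1)
    (hmin : ∀ M : X.Modules, PicF.IsInvertible M → 2 ≤ Module.finrank k (Coh.HH X M 0) →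
      2 ≤ Module.finrank k (Coh.HH X M 1) → 2 * (Module.finrank k (Coh.HH X M 0) : ℤ) + 1 ≤ Curv2.deg k X M 1)
    (H : X.Modules) (hH : PicF.IsInvertible H) (hdH : Curv2.deg k X H 1 = 7)
    (h0H : Module.finrank k (Coh.HH X H 0) = 3)
    (D : X.Modules) (hD : PicF.IsInvertible D) (hgD : Curv2.IsGloballyGenerated D)
    (hdD : Curv2.deg k X D 1 = 5) (h0D : Module.finrank k (Coh.HH X D 0) = 2)
    (N : X.Modules) (e : CohB1.tensorMod D N ≅ H) :
    Module.finrank k (Coh.HH X N 0) = 1 := by

  haveI : IsLocallyNoetherian X :=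
    LocallyOfFiniteType.isLocallyNoetherian (X ↘ Spec (CommRingCat.of k))
  have hdim' := hdim.le
  have cD := ProperFinH9.isCoh_of_isInvertible hD
  obtain ⟨p, hp⟩ := Kosz.exists_epi_freeMod_of_finrank k X cD hgD h0D
  haveI := hp
  obtain ⟨H', hH', ⟨eH⟩⟩ := Groth.Agent.InvTensP.exists_inverse H hH
  have eN : CohB1.tensorMod N (CohB1.tensorMod D H') ≅ Coh.structureModule X :=
    (Groth.Agent.TensInv.assoc N D H').symm ≪≫
      Groth.Agent.TensInv.mapR (Groth.Agent.TensInv.comm N D ≪≫ e) H' ≪≫ eH
  have hN : PicF.IsInvertible N := InvTensH8.isInvertible_of_tensor_iso eN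
  have hNc := ProperFinH9.isCoh_of_isInvertible hN
  have dN : Curv2.deg k X N 1 = 2 := by
    have h := CurveTens.deg_tensorMod k X hdim' hD hN
    rw [CurveTens.deg_of_iso k X e 1, hdH, hdD] at h
    linarith
  have e1 : CohB1.tensorMod N D ≅ H := Groth.Agent.TensInv.comm N D ≪≫ e
  have e2 : CohB1.tensorMod (CohB1.tensorMod N D) D ≅ CohB1.tensorMod H D :=
    Groth.Agent.TensInv.mapR e1 D
  have hpen := Kosz.pencil_ineq k X hD p hNc
  rw [CurveAmple.finrank_HH_of_iso k X e1 0, CurveAmple.finrank_HH_of_iso k X e2 0, h0H] at hpen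
  have hT := TensH8.isInvertible_tensorMod hH hD
  have dT : Curv2.deg k X (CohB1.tensorMod H D) 1 = 12 := by
    rw [CurveTens.deg_tensorMod k X hdim' hH hD, hdH, hdD]
    norm_num
  have rT := Cliff9.rr k X hdim hT
  rw [dT, hg] at rT
  have mT := hmin _ hT
  rw [dT] at mT
  have rN := Cliff9.rr k X hdim hN
  rw [dN, hg] at rN
  have mN := hmin _ hN
  rw [dN] at mN
  have hT5 : Module.finrank k (Coh.HH X (CohB1.tensorMod H D) 0) ≤ 5 := by
    by_contra h
    push_neg at h
    have := mT (by omega) (by omega)
    omega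
  have hN1 : Module.finrank k (Coh.HH X N 0) ≤ 1 := by
    by_contra h
    push_neg at h
    have := mN (by omega) (by omega)
    omega
  omega

end Groth.Agent.S16319
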