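import Groth.Statements.S16320
import Mathlib
import Groth.Agent.Lib.Cliff9a_helper9

set_option autoImplicit false
open CategoryTheory CategoryTheory.Limits AlgebraicGeometry
universe u
open Curves

namespace Groth.Agent.S16320

/-- Let k be an algebraically closed field of characteristic zero and X a smooth proper integral curve
over k (integral, proper and smooth over k, of dimension one) of genus 9 whose Clifford index is 3:
some invertible module M with h^0(M) ≥ 2 and h^1(M) ≥ 2 has deg M − 2(h^0(M) − 1) = 3, and every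
invertible module M with h^0(M) ≥ 2 and h^1(M) ≥ 2 has deg M − 2(h^0(M) − 1) ≥ 3 (degrees are χ(M) −
χ(O_X); in particular X is not hyperelliptic), and let D be a globally generated invertible module
of degree 5 with h^0(D) = 2 (a base-point-free complete g^1_5). Then h^0(D^{⊗2}) is 3 or 4,
h^0(D^{⊗3}) is 7 or 8, and h^0(D^{⊗3}) = 7 whenever h^0(D^{⊗2}) = 3. (The published statement says,
equivalently by Riemann–Roch applied to the numbers h^0(K − iD) − h^0(K − (i+1)D) for a canonical
module K, that the rational normal fourfold scroll formed by the linear spans of the pencil's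
divisors in the canonical embedding has type S(2,1,1,1), S(2,2,1,0) or S(3,1,1,0); the scroll itself
is not restated here.) -/
theorem result
    (k : Type u) [Field k] [IsAlgClosed k] [CharZero k]
    (X : Scheme.{u}) [X.Over (Spec (CommRingCat.of k))] [IsIntegral X]
    [IsProper (X ↘ Spec (CommRingCat.of k))] [Smooth (X ↘ Spec (CommRingCat.of k))]
    (hdim : topologicalKrullDim X = 1) (hg : Curv2.genus k X = 9)
    (hex : ∃ M : X.Modules, PicF.IsInvertible M ∧ 2 ≤ Module.finrank k (Coh.HH X M 0) ∧
      2 ≤ Module.finrank k (Coh.HH X M 1) ∧ Curv2.deg k X M 1 = 2 * (Module.finrank k (Coh.HH X M 0) : ℤ) + 1)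
    (hmin : ∀ M : X.Modules, PicF.IsInvertible M → 2 ≤ Module.finrank k (Coh.HH X M 0) →
      2 ≤ Module.finrank k (Coh.HH X M 1) → 2 * (Module.finrank k (Coh.HH X M 0) : ℤ) + 1 ≤ Curv2.deg k X M 1)
    (D : X.Modules) (hD : PicF.IsInvertible D) (hgD : Curv2.IsGloballyGenerated D)
    (hdD : Curv2.deg k X D 1 = 5) (h0D : Module.finrank k (Coh.HH X D 0) = 2) :
    (Module.finrank k (Coh.HH X (CohB1.tensorPow D 2) 0) = 3 ∨
        Module.finrank k (Coh.HH X (CohB1.tensorPow D 2) 0) = 4) ∧
      (Module.finrank k (Coh.HH X (CohB1.tensorPow D 3) 0) = 7 ∨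
        Module.finrank k (Coh.HH X (CohB1.tensorPow D 3) 0) = 8) ∧
      (Module.finrank k (Coh.HH X (CohB1.tensorPow D 2) 0) = 3 →
        Module.finrank k (Coh.HH X (CohB1.tensorPow D 3) 0) = 7) := by

  haveI : IsLocallyNoetherian X :=
    LocallyOfFiniteType.isLocallyNoetherian (X ↘ Spec (CommRingCat.of k))
  have hD1 := TensH8.isInvertible_tensorPow hD 1
  have hD2 := TensH8.isInvertible_tensorPow hD 2
  have hD3 := TensH8.isInvertible_tensorPow hD 3
  have hD2c := ProperFinH9.isCoh_of_isInvertible hD2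
  have d2 : Curv2.deg k X (CohB1.tensorPow D 2) 1 = 10 := by
    rw [CurveTens.deg_tensorPow k X hdim.le hD 2, hdD]; norm_num
  have d3 : Curv2.deg k X (CohB1.tensorPow D 3) 1 = 15 := by
    rw [CurveTens.deg_tensorPow k X hdim.le hD 3, hdD]; norm_num
  have r2 := Cliff9.rr k X hdim hD2
  have r3 := Cliff9.rr k X hdim hD3
  rw [d2, hg] at r2
  rw [d3, hg] at r3
  have e1 : Module.finrank k (Coh.HH X (CohB1.tensorPow D 1) 0) = 2 := by
    have h := CurveAmple.finrank_HH_of_iso k X (Groth.Agent.CMMul.unitorL D) 0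
    exact h.trans h0D
  have hopf := CurveCliff.finrank_HH0_add_le k X hD1 hD
    (Cliff9.nontrivial_of_pos k (by rw [e1]; norm_num))
    (Cliff9.nontrivial_of_pos k (by rw [h0D]; norm_num))
  rw [e1, h0D] at hopf
  have hT2 : CohB1.tensorMod (CohB1.tensorPow D 1) D = CohB1.tensorPow D 2 := rfl
  rw [hT2] at hopf
  have m2 := hmin _ hD2
  have m3 := hmin _ hD3
  rw [d2] at m2
  rw [d3] at m3
  -- the trick: `H¹(D³) ≠ 0 ⇒ h⁰(D) ≤ h¹(D²)`
  have trick : 0 < Module.finrank k (Coh.HH X (CohB1.tensorPow D 3) 1) →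
      2 ≤ Module.finrank k (Coh.HH X (CohB1.tensorPow D 2) 1) := by
    intro hpos
    have hne : Nontrivial (Coh.HH X (CohB1.tensorMod (CohB1.tensorPow D 2) D) 1) :=
      Cliff9.nontrivial_of_pos k hpos
    have h := CurveAmple.finrank_HH0_le_of_nontrivial k X hdim.le hD2c hD hne
    rw [h0D] at h
    exact h
  set a2 := Module.finrank k (Coh.HH X (CohB1.tensorPow D 2) 0) with ha2
  set b2 := Module.finrank k (Coh.HH X (CohB1.tensorPow D 2) 1) with hb2
  set a3 := Module.finrank k (Coh.HH X (CohB1.tensorPow D 3) 0) with ha3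
  set b3 := Module.finrank k (Coh.HH X (CohB1.tensorPow D 3) 1) with hb3
  have ha2' : a2 ≤ 4 := by
    by_contra h
    push_neg at h
    have := m2 (by omega) (by omega)
    omega
  have hb3' : b3 ≤ 1 := by
    by_contra h
    push_neg at h
    have := m3 (by omega) (by omega)
    omega
  refine ⟨by omega, by omega, fun h3 => ?_⟩
  by_contra h7
  have hpos : 0 < b3 := by omega
  have := trick hpos
  omega

end Groth.Agent.S16320
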