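import Groth.Statements.S16322
import Mathlib
import Groth.Agent.Lib.Kosz4_helper9
import Groth.Agent.Lib.Cliff9a_helper9
import Groth.Agent.Lib.InvTensP2_helper5

set_option autoImplicit false
open CategoryTheory CategoryTheory.Limits AlgebraicGeometry
universe u
open Curves

namespace Groth.Agent.S16322

/-- Let k be a characteristic-zero algebraically closed field and X a smooth proper integral curve over
k (integral, proper and smooth over k, of dimension one) of genus 9 whose Clifford index is 3: some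
invertible module M with h^0(M) ≥ 2 and h^1(M) ≥ 2 has deg M − 2(h^0(M) − 1) = 3, and every
invertible module M with h^0(M) ≥ 2 and h^1(M) ≥ 2 has deg M − 2(h^0(M) − 1) ≥ 3 (degrees are χ(M) −
χ(O_X); in particular X is not hyperelliptic), and let D₁, D₂ be two non-isomorphic globally
generated invertible modules of degree 5 with h^0(D₁) = h^0(D₂) = 2 (two different base-point-free
complete pencils of degree 5). Then h^0(D₁ ⊗ D₂) = 4. (In the published statement the two pencils
are the ones cut out by the two rulings on a model of the curve in a blow-up of P^1 × P^1; the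
printed argument for this equality uses only that they are different base-point-free pencils of
degree 5 on a genus-9 curve of Clifford index 3, which is what is stated here; the further printed
assertion on a third pencil is not restated.) -/
theorem result
    (k : Type u) [Field k] [IsAlgClosed k] [CharZero k]
    (X : Scheme.{u}) [X.Over (Spec (CommRingCat.of k))] [IsIntegral X]
    [IsProper (X ↘ Spec (CommRingCat.of k))] [Smooth (X ↘ Spec (CommRingCat.of k))]
    (hdim : topologicalKrullDim X = 1) (hg : Curv2.genus k X = 9)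
    (hex : ∃ M : X.Modules, PicF.IsInvertible M ∧ 2 ≤ Module.finrank k (Coh.HH X M 0) ∧
      2 ≤ Module.finrank k (Coh.HH X M 1) ∧ Curv2.deg k X M 1 = 2 * (Module.finrank k (Coh.HH X M 0) : ℤ) + 1)
    (hmin : ∀ M : X.Modules, PicF.IsInvertible M → 2 ≤ Module.finrank k (Coh.HH X M 0) →
      2 ≤ Module.finrank k (Coh.HH X M 1) → 2 * (Module.finrank k (Coh.HH X M 0) : ℤ) + 1 ≤ Curv2.deg k X M 1)
    (D₁ D₂ : X.Modules) (h₁ : PicF.IsInvertible D₁) (h₂ : PicF.IsInvertible D₂)
    (hg₁ : Curv2.IsGloballyGenerated D₁) (hg₂ : Curv2.IsGloballyGenerated D₂)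
    (hd₁ : Curv2.deg k X D₁ 1 = 5) (hd₂ : Curv2.deg k X D₂ 1 = 5)
    (h0₁ : Module.finrank k (Coh.HH X D₁ 0) = 2) (h0₂ : Module.finrank k (Coh.HH X D₂ 0) = 2)
    (hne : IsEmpty (D₁ ≅ D₂)) :
    Module.finrank k (Coh.HH X (CohB1.tensorMod D₁ D₂) 0) = 4 := by

  haveI : IsLocallyNoetherian X :=
    LocallyOfFiniteType.isLocallyNoetherian (X ↘ Spec (CommRingCat.of k))
  have hdim' := hdim.le
  have c1 := ProperFinH9.isCoh_of_isInvertible h₁
  obtain ⟨p, hp⟩ := Kosz.exists_epi_freeMod_of_finrank k X c1 hg₁ h0₁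
  haveI := hp
  obtain ⟨E, hE, ⟨eE⟩⟩ := Groth.Agent.InvTensP.exists_inverse D₁ h₁
  have hM : PicF.IsInvertible (CohB1.tensorMod D₂ E) := TensH8.isInvertible_tensorMod h₂ hE
  have hMc := ProperFinH9.isCoh_of_isInvertible hM
  have e1 : CohB1.tensorMod (CohB1.tensorMod D₂ E) D₁ ≅ D₂ :=
    Groth.Agent.TensInv.assoc D₂ E D₁ ≪≫
      Groth.Agent.TensInv.mapL D₂ (Groth.Agent.TensInv.comm E D₁ ≪≫ eE) ≪≫
      Groth.Agent.TensInv.rightUnit D₂
  have e2 : CohB1.tensorMod (CohB1.tensorMod (CohB1.tensorMod D₂ E) D₁) D₁ ≅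
      CohB1.tensorMod D₁ D₂ :=
    Groth.Agent.TensInv.mapR e1 D₁ ≪≫ Groth.Agent.TensInv.comm D₂ D₁
  have dE : Curv2.deg k X E 1 = -5 := by
    have h := CurveTens.deg_tensorMod k X hdim' h₁ hE
    rw [CurveTens.deg_of_iso k X eE 1, CurveDeg.deg_structureModule, hd₁] at h
    linarith
  have dM : Curv2.deg k X (CohB1.tensorMod D₂ E) 1 = 0 := by
    rw [CurveTens.deg_tensorMod k X hdim' h₂ hE, hd₂, dE]
    norm_num
  have hM0 : Module.finrank k (Coh.HH X (CohB1.tensorMod D₂ E) 0) = 0 := by
    by_contra hpos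
    obtain ⟨s, hs⟩ := CurveRR.exists_section_of_finrank_pos k X _ (Nat.pos_of_ne_zero hpos)
    obtain ⟨eM⟩ := CurveDeg.iso_structureModule_of_deg_nonpos k X hdim hM s hs dM.le
    exact hne.false ((e1.symm ≪≫ Groth.Agent.TensInv.mapR eM D₁ ≪≫
      Groth.Agent.CMMul.unitorL D₁).symm)
  have hpen := Kosz.pencil_ineq k X h₁ p hMc
  rw [CurveAmple.finrank_HH_of_iso k X e1 0, CurveAmple.finrank_HH_of_iso k X e2 0, h0₂, hM0]
    at hpen
  have hT := TensH8.isInvertible_tensorMod h₁ h₂
  have dT : Curv2.deg k X (CohB1.tensorMod D₁ D₂) 1 = 10 := by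
    rw [CurveTens.deg_tensorMod k X hdim' h₁ h₂, hd₁, hd₂]
    norm_num
  have r := Cliff9.rr k X hdim hT
  rw [dT, hg] at r
  have m := hmin _ hT
  rw [dT] at m
  by_contra hne4
  have h5 : 5 ≤ Module.finrank k (Coh.HH X (CohB1.tensorMod D₁ D₂) 0) := by omega
  have := m (by omega) (by omega)
  omega

end Groth.Agent.S16322
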