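import Groth.Statements.S16328
import Mathlib
import Groth.Agent.Lib.SplitAcyclic_helper2

set_option autoImplicit false
universe v
open CategoryTheory
open W4c3biextchow

namespace Groth.Agent.S16328

/-- Let f : A' ⟶ A and p : A ⟶ A'' be chain maps of ℕ-indexed chain complexes of free abelian groups
forming a short exact sequence in every degree (f injective, p surjective, image of f equal to the
kernel of p), and assume f is a quasi-isomorphism. Then there is a chain map h : A'' ⟶ A such that
in every degree q the map (a'', a') ↦ h(a'') + f(a') is a bijection from A''_q × A'_q onto A_q, so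
that A is the direct sum of the subcomplexes f(A') and h(A''). (The source allows complexes indexed
by all integers; stated here for complexes in non-negative degrees.) -/
theorem result
    (A' A A'' : ChainComplex (ModuleCat.{v} ℤ) ℕ) (f : A' ⟶ A) (p : A ⟶ A'')
    [∀ q, Module.Free ℤ (A'.X q)] [∀ q, Module.Free ℤ (A.X q)] [∀ q, Module.Free ℤ (A''.X q)]
    (hf : ∀ q, Function.Injective (f.f q).hom) (hp : ∀ q, Function.Surjective (p.f q).hom)
    (hfp : ∀ q, Function.Exact (f.f q).hom (p.f q).hom) [QuasiIso f] :
    ∃ h : A'' ⟶ A, ∀ q : ℕ,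
      Function.Bijective (fun x : A''.X q × A'.X q => (h.f q).hom x.1 + (f.f q).hom x.2) := by
  have hzero : f ≫ p = 0 := by
    ext q x
    exact (hfp q).apply_apply_eq_zero x
  let S : ShortComplex (ChainComplex (ModuleCat.{v} ℤ) ℕ) := ShortComplex.mk f p hzero
  have hS : S.ShortExact := HomologicalComplex.shortExact_of_degreewise_shortExact S (fun i =>
    { exact := (ShortComplex.ShortExact.moduleCat_exact_iff_function_exact _).mpr (hfp i)
      mono_f := (ModuleCat.mono_iff_injective _).mpr (hf i)
      epi_g := (ModuleCat.epi_iff_surjective _).mpr (hp i) })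
  haveI : QuasiIso S.f := ‹QuasiIso f›
  haveI : ∀ q, Projective (S.X₃.X q) := fun q => by
    show Projective (A''.X q)
    infer_instance
  obtain ⟨h, _, hh⟩ := SplitAcyclicH2.exists_section S hS
  refine ⟨h, fun q => ?_⟩
  have hph : ∀ a : A''.X q, (p.f q).hom ((h.f q).hom a) = a := by
    intro a
    have := congrArg (fun φ : A'' ⟶ A'' => (φ.f q).hom a) hh
    simp only [HomologicalComplex.comp_f, ModuleCat.hom_comp, LinearMap.comp_apply,
      HomologicalComplex.id_f, ModuleCat.hom_id, LinearMap.id_apply] at this
    exact this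
  have hpf : ∀ b : A'.X q, (p.f q).hom ((f.f q).hom b) = 0 :=
    fun b => (hfp q).apply_apply_eq_zero b
  constructor
  · rintro ⟨a₁, b₁⟩ ⟨a₂, b₂⟩ heq
    simp only at heq
    have h1 := congrArg (p.f q).hom heq
    simp only [map_add, hph, hpf, add_zero] at h1
    subst h1
    have h2 : (f.f q).hom b₁ = (f.f q).hom b₂ := add_left_cancel heq
    rw [hf q h2]
  · intro a
    have hk : (p.f q).hom (a - (h.f q).hom ((p.f q).hom a)) = 0 := by
      rw [map_sub, hph, sub_self]
    obtain ⟨b, hb⟩ := (hfp q _).mp hk
    refine ⟨((p.f q).hom a, b), ?_⟩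
    simp only
    rw [hb]
    abel

end Groth.Agent.S16328
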