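import Groth.Statements.S16330
import Mathlib
import Groth.Agent.Lib.SplitAcyclic_helper2

set_option autoImplicit false
universe v
open CategoryTheory
open W4c3biextchow

namespace Groth.Agent.S16330

/-- Let f : A' ⟶ A be a chain map of ℕ-indexed chain complexes of free abelian groups which is injective
in every degree, whose degreewise quotients A_q / f(A'_q) are free abelian groups, and which is a
quasi-isomorphism. Then any two chain maps g₁, g₂ : A ⟶ A' with f ≫ g₁ = f ≫ g₂ = 𝟙 differ by a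
null-homotopic map: there is a chain homotopy between g₁ and g₂ all of whose components vanish on
the image of f (so g₁ - g₂ factors through the quotient complex A / A', and the homotopy does too).
(The source allows complexes indexed by all integers; stated here for complexes in non-negative
degrees.) -/
theorem result
    (A' A : ChainComplex (ModuleCat.{v} ℤ) ℕ) (f : A' ⟶ A)
    [∀ q, Module.Free ℤ (A'.X q)] [∀ q, Module.Free ℤ (A.X q)]
    (hf : ∀ q, Function.Injective (f.f q).hom)
    (hq : ∀ q, Module.Free ℤ ((A.X q) ⧸ LinearMap.range (f.f q).hom)) [QuasiIso f]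
    (g₁ g₂ : A ⟶ A') (h₁ : f ≫ g₁ = 𝟙 A') (h₂ : f ≫ g₂ = 𝟙 A') :
    ∃ H : Homotopy g₁ g₂, ∀ i j : ℕ, f.f i ≫ H.hom i j = 0 := by
  have hS := SplitAcyclicH2.cokerSC_shortExact A' A f hf
  haveI : QuasiIso (SplitAcyclicH2.cokerSC A' A f).f := ‹QuasiIso f›
  haveI : ∀ q, Projective ((SplitAcyclicH2.cokerSC A' A f).X₃.X q) :=
    SplitAcyclicH2.cokerSC_projective A' A f hq
  obtain ⟨h, Hc, hh⟩ := SplitAcyclicH2.exists_section _ hS
  change Homotopy (𝟙 (Limits.cokernel f)) 0 at Hc
  have hsub : f ≫ (g₁ - g₂) = 0 := by rw [Preadditive.comp_sub, h₁, h₂, sub_self]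
  let u : Limits.cokernel f ⟶ A' := Limits.cokernel.desc f (g₁ - g₂) hsub
  have hu : Limits.cokernel.π f ≫ u = g₁ - g₂ := Limits.cokernel.π_desc _ _ _
  let H0 : Homotopy (Limits.cokernel.π f ≫ 𝟙 _ ≫ u) (Limits.cokernel.π f ≫ 0 ≫ u) :=
    (Hc.compRight u).compLeft (Limits.cokernel.π f)
  have e1 : Limits.cokernel.π f ≫ 𝟙 _ ≫ u = g₁ - g₂ := by rw [Category.id_comp, hu]
  have e2 : Limits.cokernel.π f ≫ (0 : Limits.cokernel f ⟶ Limits.cokernel f) ≫ u = 0 := by simp
  let H1 : Homotopy (g₁ - g₂) 0 := (Homotopy.ofEq e1.symm).trans (H0.trans (Homotopy.ofEq e2))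
  refine ⟨Homotopy.equivSubZero.symm H1, fun i j => ?_⟩
  have hhom : (Homotopy.equivSubZero.symm H1).hom i j =
      (Limits.cokernel.π f).f i ≫ Hc.hom i j ≫ u.f j := by
    simp [H1, H0, Homotopy.equivSubZero, Homotopy.trans, Homotopy.ofEq]
  rw [hhom, ← Category.assoc, ← HomologicalComplex.comp_f, Limits.cokernel.condition,
    HomologicalComplex.zero_f, Limits.zero_comp]

end Groth.Agent.S16330
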