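import Groth.Statements.S16335
import Groth.Agent.Lib.Reynolds_helper5

set_option autoImplicit false
universe u v w w'
open TensorProduct
open InvTh

namespace Groth.Agent.S16335

/-- Let `R` be a commutative ring with an action of a finite group `Γ` by ring automorphisms such that
the order of `Γ` is invertible in `R`, and let `A → R` be injective with image exactly the
invariants `R^Γ`, the action being `A`-linear. Then for every commutative `A`-algebra `S`, with `Γ`
acting on `S ⊗_A R` through the factor `R`, the map `S → S ⊗_A R`, `s ↦ s ⊗ 1`, is injective and its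
image is exactly the set of `Γ`-fixed elements: `S ≅ (S ⊗_A R)^Γ`. No flatness of `S` over `A` is
assumed; the invertibility of the order of `Γ` replaces it. This is the affine statement that for a
tame quotient the coarse space commutes with arbitrary base change. (The published lemma is the
statement that the coarse moduli space of a tame Deligne–Mumford stack commutes with arbitrary base
change, whose proof reduces to this ring statement. The published lemma also asserts the analogous
statement for the reduced fibre product when the base-change scheme is reduced; that clause is not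
part of this row.) -/
theorem result
    (A : Type u) [CommRing A] (R : Type v) [CommRing R] [Algebra A R]
    (Γ : Type w) [Group Γ] [Finite Γ] [MulSemiringAction Γ R] [SMulCommClass Γ A R]
    [Algebra.IsInvariant A R Γ] (hinj : Function.Injective (algebraMap A R))
    (hΓ : IsUnit (Nat.card Γ : R))
    (S : Type w') [CommRing S] [Algebra A S] :
    Function.Injective (fun s : S => s ⊗ₜ[A] (1 : R)) ∧
      ∀ x : S ⊗[A] R,
        (∀ γ : Γ, Algebra.TensorProduct.map (AlgHom.id A S) (MulSemiringAction.toAlgHom A R γ) x = x) →
          x ∈ Set.range (fun s : S => s ⊗ₜ[A] (1 : R)) := by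
  classical
  have := Fintype.ofFinite Γ
  obtain ⟨u, hu⟩ := hΓ
  -- the inverse of |Γ| is invariant, hence comes from `A`
  have hcard : ∀ γ : Γ, γ • (Nat.card Γ : R) = (Nat.card Γ : R) := fun γ =>
    map_natCast (MulSemiringAction.toRingHom Γ R γ) _
  have hinvfix : ∀ γ : Γ, γ • (↑u⁻¹ : R) = (↑u⁻¹ : R) := by
    intro γ
    have h1 : (γ • (↑u⁻¹ : R)) * (↑u : R) = 1 := by
      have : (γ • (↑u⁻¹ : R)) * (γ • (↑u : R)) = 1 := by
        rw [← smul_mul', u.inv_mul, smul_one]
      rwa [hu, hcard γ, ← hu] at this
    calc γ • (↑u⁻¹ : R) = (γ • (↑u⁻¹ : R)) * (↑u * ↑u⁻¹) := by rw [u.mul_inv, mul_one]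
      _ = ↑u⁻¹ := by rw [← mul_assoc, h1, one_mul]
  obtain ⟨v, hv⟩ := Algebra.IsInvariant.isInvariant (A := A) (G := Γ) (↑u⁻¹ : R) hinvfix
  have hvc : v * (Fintype.card Γ : A) = 1 := by
    apply hinj
    rw [map_mul, hv, map_natCast, map_one, ← Nat.card_eq_fintype_card, ← hu]
    exact u.inv_mul
  -- Reynolds operator on R and its factorization through A
  set e : R →ₗ[A] R := Groth.Agent.Lib.Reynolds_helper5.avg (Γ := Γ) v with he
  let ι : A →ₗ[A] R := Algebra.linearMap A R
  have hι : Function.Injective ι := hinj
  let eqv : A ≃ₗ[A] LinearMap.range ι := LinearEquiv.ofInjective ι hι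
  have hrange : ∀ r : R, e r ∈ LinearMap.range ι := by
    intro r
    obtain ⟨a, ha⟩ := Algebra.IsInvariant.isInvariant (A := A) (G := Γ) (e r)
      (fun γ => Groth.Agent.Lib.Reynolds_helper5.smul_avg v γ r)
    exact ⟨a, ha⟩
  let p : R →ₗ[A] A := eqv.symm.toLinearMap ∘ₗ (e.codRestrict (LinearMap.range ι) hrange)
  have hp : ∀ r : R, ι (p r) = e r := by
    intro r
    have := eqv.apply_symm_apply (e.codRestrict (LinearMap.range ι) hrange r)
    exact congrArg Subtype.val this
  have hp1 : p 1 = 1 := by
    apply hι
    rw [hp]
    have : e (1 : R) = 1 := Groth.Agent.Lib.Reynolds_helper5.avg_of_fixed v hvc 1 (fun γ => smul_one γ)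
    rw [this]
    exact (map_one (algebraMap A R)).symm
  constructor
  · -- left inverse: rid ∘ lTensor S p
    have hleft : Function.LeftInverse
        (fun y : S ⊗[A] R => (TensorProduct.rid A S) (LinearMap.lTensor S p y))
        (fun s : S => s ⊗ₜ[A] (1 : R)) := by
      intro s
      simp only [LinearMap.lTensor_tmul, hp1, TensorProduct.rid_tmul, one_smul]
    exact hleft.injective
  · intro x hx
    -- lTensor S (γ) agrees with the algebra map
    have hγ : ∀ (γ : Γ) (y : S ⊗[A] R),
        LinearMap.lTensor S (DistribSMul.toLinearMap A R γ) y =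
          Algebra.TensorProduct.map (AlgHom.id A S) (MulSemiringAction.toAlgHom A R γ) y := by
      intro γ y
      induction y using TensorProduct.induction_on with
      | zero => simp
      | tmul s r => simp
      | add y z hy hz => rw [map_add, map_add, hy, hz]
    have hex : LinearMap.lTensor S e x = x := by
      have h1 : LinearMap.lTensor S e = v • ∑ γ : Γ, LinearMap.lTensor S (DistribSMul.toLinearMap A R γ) := by
        rw [he, Groth.Agent.Lib.Reynolds_helper5.avg, LinearMap.lTensor_smul]
        congr 1
        exact map_sum (LinearMap.lTensorHom S) _ _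
      rw [h1, LinearMap.smul_apply, LinearMap.sum_apply]
      simp_rw [hγ, hx]
      rw [Finset.sum_const, Finset.card_univ, ← Nat.cast_smul_eq_nsmul A, ← mul_smul, hvc, one_smul]
    have hfac : e = ι ∘ₗ p := by
      ext r
      exact (hp r).symm
    rw [hfac, LinearMap.lTensor_comp, LinearMap.comp_apply] at hex
    set y : S ⊗[A] A := LinearMap.lTensor S p x with hy
    have hy' : y = (TensorProduct.rid A S y) ⊗ₜ[A] (1 : A) := by
      have := (TensorProduct.rid A S).symm_apply_apply y
      rw [TensorProduct.rid_symm_apply] at this
      exact this.symm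
    refine ⟨TensorProduct.rid A S y, ?_⟩
    change (TensorProduct.rid A S y) ⊗ₜ[A] (1 : R) = x
    rw [← hex, hy', LinearMap.lTensor_tmul]
    congr 1
    · rw [← hy']
    · exact (map_one (algebraMap A R)).symm

end Groth.Agent.S16335
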