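import Groth.Statements.S16336
import Groth.Agent.Lib.Reynolds_helper5

set_option autoImplicit false
universe u v w w'
open InvTh

namespace Groth.Agent.S16336

/-- Let `A` be a commutative ring and `Γ` a finite group whose order is invertible in `A`; let `M`, `N`
be `A`-modules with `A`-linear actions of `Γ` and `f : M → N` an `A`-linear surjective map commuting
with the actions. Then `f` maps the `Γ`-fixed elements of `M` onto the `Γ`-fixed elements of `N`:
the functor of invariants is exact for such tame actions. (The published lemma concerns push-forward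
from a separated tame Deligne–Mumford stack to its coarse moduli scheme: it preserves quasi-coherent
and coherent sheaves and is exact; this row is the module statement its proof establishes for the
exactness. The coherence assertion is not part of this row.) -/
theorem result
    (A : Type u) [CommRing A] (Γ : Type v) [Group Γ] [Finite Γ] (hΓ : IsUnit (Nat.card Γ : A))
    (M : Type w) [AddCommGroup M] [Module A M] [DistribMulAction Γ M] [SMulCommClass Γ A M]
    (N : Type w') [AddCommGroup N] [Module A N] [DistribMulAction Γ N] [SMulCommClass Γ A N]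
    (f : M →ₗ[A] N) (hf : ∀ (γ : Γ) (m : M), f (γ • m) = γ • f m)
    (hsurj : Function.Surjective f) (n : N) (hn : ∀ γ : Γ, γ • n = n) :
    ∃ m : M, (∀ γ : Γ, γ • m = m) ∧ f m = n := by
  classical
  have := Fintype.ofFinite Γ
  obtain ⟨u, hu⟩ := hΓ
  have hv : (↑u⁻¹ : A) * (Fintype.card Γ : A) = 1 := by
    rw [← Nat.card_eq_fintype_card, ← hu]
    exact u.inv_mul
  obtain ⟨m₀, rfl⟩ := hsurj n
  refine ⟨Groth.Agent.Lib.Reynolds_helper5.avg (Γ := Γ) (↑u⁻¹ : A) m₀,
    fun γ => Groth.Agent.Lib.Reynolds_helper5.smul_avg _ γ m₀, ?_⟩
  rw [Groth.Agent.Lib.Reynolds_helper5.map_avg f hf]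
  exact Groth.Agent.Lib.Reynolds_helper5.avg_of_fixed _ hv _ hn

end Groth.Agent.S16336
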