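import Groth.Statements.S16337
import Groth.Agent.Lib.Reynolds_helper5

set_option autoImplicit false
universe u v w
open InvTh

namespace Groth.Agent.S16337

/-- Let `A` be a commutative ring, `Γ` a finite group whose order is invertible in `A`, `M` an
`A`-module with an `A`-linear action of `Γ`, and `I` an ideal of `A`. Then reduction modulo `I`
induces a bijection `M^Γ / I·M^Γ ≅ (M / IM)^Γ`: (a) an element of `M` fixed by `Γ` modulo `IM` is
congruent modulo `IM` to a `Γ`-fixed element, and (b) a `Γ`-fixed element lying in `IM` lies in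
`I·M^Γ`, where `M^Γ` is the submodule of `Γ`-fixed elements. (The published lemma says that
push-forward to the coarse space of a tame stack over a complete local base commutes with reduction
modulo powers of the maximal ideal; this row is the module statement its proof establishes, for an
arbitrary ideal.) -/
theorem result
    (A : Type u) [CommRing A] (Γ : Type v) [Group Γ] [Finite Γ] (hΓ : IsUnit (Nat.card Γ : A))
    (M : Type w) [AddCommGroup M] [Module A M] [DistribMulAction Γ M] [SMulCommClass Γ A M]
    (I : Ideal A) :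
    (∀ x : M, (∀ γ : Γ, γ • x - x ∈ I • (⊤ : Submodule A M)) →
        ∃ y : M, (∀ γ : Γ, γ • y = y) ∧ x - y ∈ I • (⊤ : Submodule A M)) ∧
      ∀ y : M, (∀ γ : Γ, γ • y = y) → y ∈ I • (⊤ : Submodule A M) →
        y ∈ I • Submodule.span A {m : M | ∀ γ : Γ, γ • m = m} := by
  classical
  have := Fintype.ofFinite Γ
  obtain ⟨u, hu⟩ := hΓ
  have hv : (↑u⁻¹ : A) * (Fintype.card Γ : A) = 1 := by
    rw [← Nat.card_eq_fintype_card, ← hu]
    exact u.inv_mul
  set e : M →ₗ[A] M := Groth.Agent.Lib.Reynolds_helper5.avg (Γ := Γ) (↑u⁻¹ : A) with he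
  have he_fix : ∀ (g : Γ) (m : M), g • e m = e m := fun g m =>
    Groth.Agent.Lib.Reynolds_helper5.smul_avg _ g m
  have he_id : ∀ m : M, (∀ γ : Γ, γ • m = m) → e m = m := fun m hm =>
    Groth.Agent.Lib.Reynolds_helper5.avg_of_fixed _ hv m hm
  constructor
  · intro x hx
    refine ⟨e x, fun γ => he_fix γ x, ?_⟩
    -- x - e x = v • ∑ (x - γ • x)
    have h1 : x - e x = (↑u⁻¹ : A) • ∑ γ : Γ, (x - γ • x) := by
      rw [he, Groth.Agent.Lib.Reynolds_helper5.avg_apply, Finset.sum_sub_distrib, smul_sub,
        Finset.sum_const, Finset.card_univ, ← Nat.cast_smul_eq_nsmul A, ← mul_smul, hv, one_smul]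
    rw [h1]
    apply Submodule.smul_mem
    apply Submodule.sum_mem
    intro γ _
    have := hx γ
    rw [← neg_sub]
    exact Submodule.neg_mem _ this
  · intro y hy hyI
    rw [← he_id y hy]
    -- e maps I • ⊤ into I • span(fixed)
    have hmap : ∀ z ∈ I • (⊤ : Submodule A M), e z ∈ I • Submodule.span A {m : M | ∀ γ : Γ, γ • m = m} := by
      intro z hz
      refine Submodule.smul_induction_on hz ?_ ?_
      · intro a ha m _
        rw [map_smul]
        exact Submodule.smul_mem_smul ha (Submodule.subset_span (fun γ => he_fix γ m))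
      · intro z w hz hw
        rw [map_add]
        exact Submodule.add_mem _ hz hw
    exact hmap y hyI

end Groth.Agent.S16337
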