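import Groth.Statements.S16357
import Mathlib
-- import your own Groth.Agent.* helpers here

set_option autoImplicit false
universe u
open OrdAV

namespace Groth.Agent.S16357

/-- Over a field L of characteristic zero, a monic polynomial h whose square has rational coefficients
has rational coefficients itself. -/
theorem result (L : Type u) [Field L] [CharZero L]
    (h : Polynomial L) (hm : h.Monic) (f : Polynomial ℚ)
    (hf : h ^ 2 = Polynomial.map (algebraMap ℚ L) f) :
    ∃ g : Polynomial ℚ, Polynomial.map (algebraMap ℚ L) g = h := by

  obtain ⟨n, hn⟩ : ∃ n, n = h.natDegree := ⟨_, rfl⟩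
  let K : Subfield L := (algebraMap ℚ L).fieldRange
  have hcn : h.coeff n = 1 := by rw [hn]; exact hm.coeff_natDegree
  have hbig : ∀ i, n < i → h.coeff i = 0 := fun i hi =>
    Polynomial.coeff_eq_zero_of_natDegree_lt (hn ▸ hi)
  have hFK : ∀ i, (h ^ 2).coeff i ∈ K := by
    intro i
    rw [hf, Polynomial.coeff_map]
    exact ⟨_, rfl⟩
  have key : ∀ d, d ≤ n → h.coeff (n - d) ∈ K := by
    intro d
    induction d using Nat.strong_induction_on with
    | _ d ih =>
      intro hd
      rcases Nat.eq_zero_or_pos d with rfl | hdpos
      · rw [Nat.sub_zero, hcn]; exact K.one_mem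
      · obtain ⟨m, hm'⟩ : ∃ m, m = n - d := ⟨_, rfl⟩
        rw [← hm']
        have hmn : m < n := by omega
        have ih' : ∀ i, m < i → h.coeff i ∈ K := by
          intro i hi
          by_cases hin : i ≤ n
          · have := ih (n - i) (by omega) (by omega)
            rwa [Nat.sub_sub_self hin] at this
          · rw [hbig i (by omega)]; exact K.zero_mem
        have h1 := hFK (n + m)
        rw [pow_two, Polynomial.coeff_mul] at h1
        have hmem1 : (m, n) ∈ Finset.HasAntidiagonal.antidiagonal (n + m) := by
          rw [Finset.HasAntidiagonal.mem_antidiagonal]; simp only; omega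
        have hmem2 : (n, m) ∈ (Finset.HasAntidiagonal.antidiagonal (n + m)).erase (m, n) := by
          rw [Finset.mem_erase, Finset.HasAntidiagonal.mem_antidiagonal]
          refine ⟨?_, rfl⟩
          intro hh
          rw [Prod.mk.injEq] at hh
          omega
        rw [← Finset.add_sum_erase _ _ hmem1, ← Finset.add_sum_erase _ _ hmem2] at h1
        simp only at h1
        rw [hcn, mul_one, one_mul] at h1
        have hrest : ∑ p ∈ ((Finset.HasAntidiagonal.antidiagonal (n + m)).erase (m, n)).erase (n, m),
            h.coeff p.1 * h.coeff p.2 ∈ K := by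
          apply K.sum_mem
          intro p hp
          rw [Finset.mem_erase, Finset.mem_erase, Finset.HasAntidiagonal.mem_antidiagonal] at hp
          obtain ⟨hp1, hp2, hp3⟩ := hp
          by_cases hpa : n < p.1
          · rw [hbig _ hpa, zero_mul]; exact K.zero_mem
          by_cases hpb : n < p.2
          · rw [hbig _ hpb, mul_zero]; exact K.zero_mem
          have hp1' : m < p.1 := by
            by_contra hcon
            apply hp2
            apply Prod.ext <;> simp only <;> omega
          have hp2' : m < p.2 := by
            by_contra hcon
            apply hp1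
            apply Prod.ext <;> simp only <;> omega
          exact K.mul_mem (ih' _ hp1') (ih' _ hp2')
        have h2 : h.coeff m + h.coeff m ∈ K := by
          have := K.sub_mem h1 hrest
          have e : h.coeff m + (h.coeff m + ∑ p ∈ ((Finset.HasAntidiagonal.antidiagonal (n + m)).erase (m, n)).erase (n, m),
            h.coeff p.1 * h.coeff p.2) - ∑ p ∈ ((Finset.HasAntidiagonal.antidiagonal (n + m)).erase (m, n)).erase (n, m),
            h.coeff p.1 * h.coeff p.2 = h.coeff m + h.coeff m := by ring
          rwa [e] at this
        have h3 : h.coeff m = (2 : L)⁻¹ * (h.coeff m + h.coeff m) := by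
          field_simp
          ring
        rw [h3]
        exact K.mul_mem (K.inv_mem (by
          have : (2 : L) = algebraMap ℚ L 2 := by rw [map_ofNat]
          rw [this]; exact ⟨_, rfl⟩)) h2
  have hall : ∀ i, h.coeff i ∈ Set.range (algebraMap ℚ L) := by
    intro i
    by_cases hin : i ≤ n
    · have := key (n - i) (by omega)
      rw [Nat.sub_sub_self hin] at this
      exact this
    · rw [hbig i (by omega)]; exact ⟨0, map_zero _⟩
  have := (Polynomial.lifts_iff_coeff_lifts h).2 hall
  rw [Polynomial.mem_lifts] at this
  exact this

end Groth.Agent.S16357
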