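import Groth.Statements.S1636
import Mathlib
import Groth.Agent.Lib.Snap62_helper9

set_option autoImplicit false
universe u
open CategoryTheory CategoryTheory.Limits AlgebraicGeometry
open Curves

namespace Groth.Agent.S1636

/-- Let X be a proper curve over k with global functions k and genus 0, and L an invertible module of
degree d > 0. Then there is a closed immersion i : X → P^d_k over k with i^* O(1) ≅ L. -/
theorem result (k : Type u) [Field k] (X : Scheme.{u}) [X.Over (Spec (CommRingCat.of k))]
    [IsIntegral X] [IsProper (X ↘ (Spec (CommRingCat.of k)))] (hdim : topologicalKrullDim X = 1)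
    (h0 : Module.finrank k (Coh.HH X (Coh.structureModule X) 0) = 1) (hg : Curv2.genus k X = 0)
    (L : X.Modules) (hL : PicF.IsInvertible L) (d : ℕ) (hd : 0 < d) (hdeg : Curv2.deg k X L 1 = d) :
    ∃ i : X ⟶ CohB1.ProjSpace d k, IsClosedImmersion i ∧ i ≫ CohB1.ProjSpace.toSpec d k = X ↘ (Spec (CommRingCat.of k)) ∧
      Nonempty ((Scheme.Modules.pullback i).obj (Twist.twistProjSpace d k 1) ≅ L) := by
  haveI : IsNoetherianRing k := inferInstance
  have hfib : ∀ y : ↥(Spec (CommRingCat.of k)),
      topologicalKrullDim ↥((X ↘ Spec (CommRingCat.of k)).fiber y) ≤ 1 := by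
    intro y
    rw [IsHomeomorph.topologicalKrullDim_eq ((X ↘ Spec (CommRingCat.of k)).fiberHomeo y)
      ((X ↘ Spec (CommRingCat.of k)).fiberHomeo y).isHomeomorph, ← hdim]
    exact topologicalKrullDim_subspace_le _ _
  haveI : IsLocallyNoetherian X :=
    LocallyOfFiniteType.isLocallyNoetherian (X ↘ Spec (CommRingCat.of k))
  have hOc : Coh.IsCoh (Coh.structureModule X) :=
    CohDevH8.isCoh_structureModule X
  haveI : Module.Finite k (Coh.HH X (Coh.structureModule X) 1) :=
    ProperFinH9.finite_HH_of_proper k X _ hOc 1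
  have h1 : Subsingleton (Coh.HH X (Coh.structureModule X) 1) :=
    Module.finrank_zero_iff.mp hg
  have hA : CohB1.IsAmple L :=
    CurveAmple.isAmple_of_deg_pos k X hdim.le hL (by rw [hdeg]; exact_mod_cast hd)
  have hnef : ∀ J : X.IdealSheafData, IsIntegral J.subscheme →
      topologicalKrullDim J.subscheme = 1 →
      0 ≤ @Curv2.deg k _ J.subscheme ⟨J.subschemeι ≫ (X ↘ (Spec (CommRingCat.of k)))⟩
        ((Scheme.Modules.pullback J.subschemeι).obj L) 1 := by
    intro J hint hJdim
    exact Snap9.nef_of_isAmple (X ↘ Spec (CommRingCat.of k)) L hA k (RingHom.id k) J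
      (J.subschemeι ≫ (X ↘ (Spec (CommRingCat.of k)))) hint hJdim
      (by rw [show CommRingCat.ofHom (RingHom.id k) = 𝟙 _ from rfl, Spec.map_id, Category.comp_id])
  have hfin := Snap9.main16296 k X hdim h1 L hL hnef
  rw [h0, hdeg] at hfin
  have hfin' : Module.finrank k (Coh.HH X L 0) = d + 1 := by
    have : (Module.finrank k (Coh.HH X L 0) : ℤ) = ((d + 1 : ℕ) : ℤ) := by
      rw [hfin]; push_cast; ring
    exact_mod_cast this
  exact Snap9.main1636 k X hdim h1 L hA d hfin'

end Groth.Agent.S1636
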