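import Groth.Statements.S16360
import Mathlib
import Groth.Agent.Lib.PerfRes5_helper8

set_option autoImplicit false
universe u
open Hensel

namespace Groth.Agent.S16360

/-- Let R be a discrete valuation ring that is Henselian and excellent, write k for its residue field
and p for the characteristic exponent of k. There is a Henselian discrete valuation ring R' and an
injective ring map R → R' such that the maximal ideal of R generates that of R' (so a uniformizer of
R is a uniformizer of R'), R' is the directed union of R-subalgebras that are finite free R-modules
of rank a power of p, and the residue field k' of R' is a perfect closure of k: every element of k'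
is a p-th power in k', and some p-power-th power of it lies in the image of k. (The published
statement also asserts that R' is excellent; that is not asserted here.) -/
theorem result (R : Type u) [CommRing R] [IsDomain R]
    [IsDiscreteValuationRing R] [HenselianLocalRing R] (hR : EGA4.IsExcellent R) :
    ∃ (R' : Type u) (_ : CommRing R') (_ : IsDomain R') (_ : IsDiscreteValuationRing R')
      (_ : HenselianLocalRing R') (_ : Algebra R R'),
      Function.Injective (algebraMap R R') ∧
      Ideal.map (algebraMap R R') (IsLocalRing.maximalIdeal R) = IsLocalRing.maximalIdeal R' ∧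
      (∀ s : Finset R', ∃ S : Subalgebra R R', (↑s : Set R') ⊆ ↑S ∧ Module.Finite R S ∧ Module.Free R S ∧
        ∃ m : ℕ, Module.finrank R S = ringExpChar (IsLocalRing.ResidueField R) ^ m) ∧
      (∀ y : R', ∃ z : R', z ^ ringExpChar (IsLocalRing.ResidueField R) - y ∈ IsLocalRing.maximalIdeal R') ∧
      (∀ y : R', ∃ (m : ℕ) (z : R),
        algebraMap R R' z - y ^ (ringExpChar (IsLocalRing.ResidueField R) ^ m) ∈ IsLocalRing.maximalIdeal R') := by
  classical
  obtain ⟨q, hq⟩ : ∃ q, q = ringExpChar (IsLocalRing.ResidueField R) := ⟨_, rfl⟩
  rw [← hq]
  have hexp : ExpChar (IsLocalRing.ResidueField R) q := by rw [hq]; infer_instance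
  cases hexp with
  | zero =>
    refine ⟨R, inferInstance, inferInstance, inferInstance, inferInstance, Algebra.id R,
      Function.injective_id, ?_, ?_, ?_, ?_⟩
    · rw [Algebra.algebraMap_self, Ideal.map_id]
    · intro s
      refine ⟨⊤, fun _ _ => Algebra.mem_top, ?_, ?_, ⟨0, ?_⟩⟩
      · exact Module.Finite.equiv (Subalgebra.topEquiv (R := R) (A := R)).symm.toLinearEquiv
      · exact Module.Free.of_equiv (Subalgebra.topEquiv (R := R) (A := R)).symm.toLinearEquiv
      · rw [LinearEquiv.finrank_eq (Subalgebra.topEquiv (R := R) (A := R)).toLinearEquiv,
          Module.finrank_self, pow_zero]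
    · intro y
      exact ⟨y, by rw [pow_one, sub_self]; exact Ideal.zero_mem _⟩
    · intro y
      refine ⟨0, y, ?_⟩
      rw [pow_zero, pow_one, Algebra.algebraMap_self, RingHom.id_apply, sub_self]
      exact Ideal.zero_mem _
  | prime hprime =>
    rename_i hchar
    have hqR : ((q : ℕ) : R) ∈ IsLocalRing.maximalIdeal R := by
      rw [← IsLocalRing.residue_eq_zero_iff, map_natCast]
      exact CharP.cast_eq_zero _ q
    exact Groth.Agent.Lib.PerfResH8.main R q hprime hqR

end Groth.Agent.S16360
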