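import Groth.Statements.S16362
import Mathlib

set_option autoImplicit false
universe u
open MovLem

namespace Groth.Agent.S16362

/-- Let A be a commutative ring, p a prime ideal of A, and ζ, u elements of A with u not in p. Then the
quotient of the classes of ζ and u in the fraction field of the domain A ⧸ p is integral over A ⧸ p
if and only if there exist a natural number N and elements a_1, …, a_N of A such that ζ^N + a_1
ζ^(N-1) u + ⋯ + a_N u^N lies in p; equivalently, some binary form of degree N with coefficients in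
A, monic in the first variable, evaluated at (ζ, u), lies in p. -/
theorem result
    {A : Type u} [CommRing A] (p : Ideal A) [p.IsPrime] (ζ u : A) (hu : u ∉ p) :
    IsIntegral (A ⧸ p)
        (algebraMap (A ⧸ p) (FractionRing (A ⧸ p)) (Ideal.Quotient.mk p ζ) /
          algebraMap (A ⧸ p) (FractionRing (A ⧸ p)) (Ideal.Quotient.mk p u)) ↔
      ∃ (N : ℕ) (a : ℕ → A),
        ζ ^ N + ∑ i ∈ Finset.Icc 1 N, a i * ζ ^ (N - i) * u ^ i ∈ p := by
  classical
  haveI : IsDomain (A ⧸ p) := Ideal.Quotient.isDomain p
  set F := FractionRing (A ⧸ p) with hF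
  set Z : F := algebraMap (A ⧸ p) F (Ideal.Quotient.mk p ζ) with hZ
  set U : F := algebraMap (A ⧸ p) F (Ideal.Quotient.mk p u) with hU
  have hu' : Ideal.Quotient.mk p u ≠ 0 := by
    rw [Ne, Ideal.Quotient.eq_zero_iff_mem]
    exact hu
  have hU0 : U ≠ 0 := by
    rw [hU, Ne, map_eq_zero_iff _ (IsFractionRing.injective (A ⧸ p) F)]
    exact hu'
  have hxU : Z / U * U = Z := div_mul_cancel₀ Z hU0
  have hpow : ∀ (N k : ℕ), k ≤ N → (Z / U) ^ k * U ^ N = Z ^ k * U ^ (N - k) := by
    intro N k hk
    have h1 : U ^ N = U ^ k * U ^ (N - k) := by rw [← pow_add, Nat.add_sub_cancel' hk]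
    rw [h1, ← mul_assoc, ← mul_pow, hxU]
  constructor
  · rintro ⟨P, hmonic, hP⟩
    set N := P.natDegree with hN
    obtain ⟨b, hb⟩ : ∃ b : ℕ → A, ∀ k, Ideal.Quotient.mk p (b k) = P.coeff k := by
      choose b hb using fun k => Ideal.Quotient.mk_surjective (P.coeff k)
      exact ⟨b, hb⟩
    have hbN : 1 - b N ∈ p := by
      rw [← Ideal.Quotient.eq_zero_iff_mem, map_sub, map_one, hb, hN, hmonic.coeff_natDegree,
        sub_self]
    have hsum : ∑ k ∈ Finset.range (N + 1), b k * ζ ^ k * u ^ (N - k) ∈ p := by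
      rw [← Ideal.Quotient.eq_zero_iff_mem]
      apply IsFractionRing.injective (A ⧸ p) F
      rw [map_zero, map_sum, map_sum]
      rw [Polynomial.eval₂_eq_sum_range] at hP
      have h2 := congrArg (fun t => t * U ^ N) hP
      simp only [zero_mul, Finset.sum_mul] at h2
      rw [← h2]
      refine Finset.sum_congr rfl fun k hk => ?_
      rw [Finset.mem_range] at hk
      have h4 : (algebraMap (A ⧸ p) F) (P.coeff k) * (Z / U) ^ k * U ^ N =
          (algebraMap (A ⧸ p) F) (P.coeff k) * (Z ^ k * U ^ (N - k)) := by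
        rw [mul_assoc, hpow N k (by omega)]
      rw [h4]
      simp only [map_mul, map_pow, hb, hZ, hU, mul_assoc]
    refine ⟨N, fun i => b (N - i), ?_⟩
    have hre : ∑ i ∈ Finset.Icc 1 N, b (N - i) * ζ ^ (N - i) * u ^ i =
        ∑ k ∈ Finset.range N, b k * ζ ^ k * u ^ (N - k) := by
      refine Finset.sum_nbij' (fun i => N - i) (fun k => N - k) ?_ ?_ ?_ ?_ ?_
      · intro i hi
        rw [Finset.mem_Icc] at hi
        rw [Finset.mem_range]
        omega
      · intro k hk
        rw [Finset.mem_range] at hk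
        rw [Finset.mem_Icc]
        omega
      · intro i hi
        rw [Finset.mem_Icc] at hi
        omega
      · intro k hk
        rw [Finset.mem_range] at hk
        omega
      · intro i hi
        rw [Finset.mem_Icc] at hi
        rw [show N - (N - i) = i by omega]
    rw [hre]
    rw [Finset.sum_range_succ, Nat.sub_self, pow_zero, mul_one] at hsum
    have heq : ζ ^ N + ∑ k ∈ Finset.range N, b k * ζ ^ k * u ^ (N - k) =
        (∑ k ∈ Finset.range N, b k * ζ ^ k * u ^ (N - k) + b N * ζ ^ N) + (1 - b N) * ζ ^ N := by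
      ring
    rw [heq]
    exact p.add_mem hsum (p.mul_mem_right _ hbN)
  · rintro ⟨N, a, ha⟩
    rcases Nat.eq_zero_or_pos N with hN0 | hNpos
    · subst hN0
      simp at ha
      exact absurd ((Ideal.eq_top_iff_one p).mpr ha) (Ideal.IsPrime.ne_top inferInstance)
    · set Q : Polynomial (A ⧸ p) :=
        ∑ i ∈ Finset.Icc 1 N, Polynomial.C (Ideal.Quotient.mk p (a i)) * Polynomial.X ^ (N - i) with hQ
      have hdeg : Q.degree < (N : WithBot ℕ) := by
        refine lt_of_le_of_lt (Polynomial.degree_sum_le _ _) ?_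
        refine (Finset.sup_lt_iff (WithBot.bot_lt_coe N)).mpr ?_
        intro i hi
        rw [Finset.mem_Icc] at hi
        refine lt_of_le_of_lt (Polynomial.degree_C_mul_X_pow_le _ _) ?_
        exact WithBot.coe_lt_coe.mpr (by omega : N - i < N)
      refine ⟨Polynomial.X ^ N + Q, Polynomial.monic_X_pow_add hdeg, ?_⟩
      have hU_N : U ^ N ≠ 0 := pow_ne_zero _ hU0
      apply mul_right_cancel₀ hU_N
      rw [zero_mul, Polynomial.eval₂_add, Polynomial.eval₂_pow, Polynomial.eval₂_X, hQ,
        Polynomial.eval₂_finsetSum, add_mul, Finset.sum_mul]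
      rw [← Ideal.Quotient.eq_zero_iff_mem, map_add, map_pow, map_sum] at ha
      have h3 := congrArg (algebraMap (A ⧸ p) F) ha
      rw [map_zero, map_add, map_pow, map_sum] at h3
      rw [← h3, hpow N N le_rfl, Nat.sub_self, pow_zero, mul_one]
      congr 1
      refine Finset.sum_congr rfl fun i hi => ?_
      rw [Finset.mem_Icc] at hi
      rw [Polynomial.eval₂_mul, Polynomial.eval₂_C, Polynomial.eval₂_pow, Polynomial.eval₂_X]
      have h5 : (algebraMap (A ⧸ p) F) (Ideal.Quotient.mk p (a i)) * (Z / U) ^ (N - i) * U ^ N =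
          (algebraMap (A ⧸ p) F) (Ideal.Quotient.mk p (a i)) * (Z ^ (N - i) * U ^ i) := by
        rw [mul_assoc, hpow N (N - i) (by omega), show N - (N - i) = i by omega]
      rw [h5]
      simp only [map_mul, map_pow, hZ, hU, mul_assoc]

end Groth.Agent.S16362
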