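import Groth.Statements.S16368
import Mathlib
import Groth.Agent.Lib.FrobFree_helper6
-- import your own Groth.Agent.* helpers here

set_option autoImplicit false
universe u v
open TensorProduct
open FrobAlg

namespace Groth.Agent.S16368

/-- Let R be a local ring of prime characteristic p and M a finitely presented R-module. Write R' for R
regarded as an R-algebra through its Frobenius a ↦ a^p, so that R' ⊗_R M is the pull-back of M along
the absolute Frobenius of Spec R, an R'-module. If this pull-back is isomorphic to M — there is a
bijective map e : R' ⊗_R M → M, additive and semilinear for the identification R' = R — then M is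
free. -/
theorem result
    (p : ℕ) [Fact p.Prime] (R : Type u) [CommRing R] [IsLocalRing R] [CharP R p]
    (M : Type v) [AddCommGroup M] [Module R M] [Module.FinitePresentation R M]
    (e : (FrobAlg.Twist p R ⊗[R] M) →ₛₗ[((FrobAlg.toTwist p R).symm : FrobAlg.Twist p R →+* R)] M)
    (he : Function.Bijective e) :
    Module.Free R M := by

  have hp : p.Prime := Fact.out
  refine Groth.Agent.Lib.FrobFree.free_of_semilinear_bijective p hp.two_le
    (FrobAlg.Twist p R) (FrobAlg.toTwist p R).symm (fun a => ?_) M e.toAddMonoidHom he
    (fun t z => ?_)
  · rfl
  · exact map_smulₛₗ e t z

end Groth.Agent.S16368
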