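import Groth.Statements.S16370
import Mathlib

set_option autoImplicit false
universe u
open CategoryTheory AlgebraicGeometry Opposite
open FrobSch

namespace Groth.Agent.S16370

/-- (ii) ⇒ (iii): let X be a reduced scheme of prime characteristic p, φ the p-th power map on the sheaf
of additive groups underlying O_X (a monomorphism, X being reduced) and B its cokernel in abelian
sheaves. If H^i(X, B) = 0 for all i ≥ 0, then the endomorphism of H^i(X, O_X) induced by φ — the
Hasse–Witt operation — is bijective for all i. (The source has X normal and proper over a perfect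
field; only reducedness enters this implication.) -/
theorem result
    (p : ℕ) [Fact p.Prime] (X : Scheme.{u}) [IsReduced X] (hp : (p : Γ(X, ⊤)) = 0)
    (φ : Coh.toAb (Coh.structureModule X) ⟶ Coh.toAb (Coh.structureModule X))
    (hφ : ∀ (U : X.Opens) (t : Γ(X, U)), φ.hom.app (op U) t = t ^ p)
    (hB : ∀ i : ℕ, Subsingleton (Sheaf.H (Limits.cokernel φ) i))
    (i : ℕ) : Function.Bijective (Sheaf.H.map φ i) := by
  haveI hmono : Mono φ := by
    haveI : ∀ U, Mono (φ.hom.app U) := by
      intro ⟨U⟩
      refine (AddCommGrpCat.mono_iff_injective _).2 ?_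
      refine (injective_iff_map_eq_zero (φ.hom.app (op U)).hom).2 ?_
      intro t ht
      let t' : Γ(X, U) := t
      have h1 : (φ.hom.app (op U)) t' = t' ^ p := hφ U t'
      have h2 : t' ^ p = 0 := h1.symm.trans ht
      exact IsReduced.eq_zero t' ⟨p, h2⟩
    haveI : Mono φ.hom := NatTrans.mono_of_mono_app _
    exact Sheaf.Hom.mono_of_presheaf_mono _ _ φ
  have hS : (ShortComplex.mk φ (Limits.cokernel.π φ) (Limits.cokernel.condition φ)).ShortExact :=
    { exact := ShortComplex.exact_of_g_is_cokernel _ (Limits.cokernelIsCokernel _)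
      mono_f := hmono
      epi_g := by dsimp; infer_instance }
  constructor
  · refine (injective_iff_map_eq_zero (Sheaf.H.map φ i)).2 ?_
    intro x hx
    rw [Sheaf.H.map_apply] at hx
    cases i with
    | zero =>
      obtain ⟨f, rfl⟩ := (Abelian.Ext.mk₀_bijective _ _).2 x
      rw [Abelian.Ext.mk₀_comp_mk₀] at hx
      have h0 : f ≫ φ = 0 := (Abelian.Ext.mk₀_bijective _ _).1 (hx.trans (Abelian.Ext.mk₀_zero _ _).symm)
      have h1 : f = 0 := (cancel_mono φ).1 (h0.trans Limits.zero_comp.symm)
      rw [h1]
      exact Abelian.Ext.mk₀_zero _ _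
    | succ j =>
      obtain ⟨y, hy⟩ := Abelian.Ext.covariant_sequence_exact₁ _ hS x hx (rfl : j + 1 = j + 1)
      haveI := hB j
      rw [← hy, Subsingleton.elim (α := Sheaf.H (Limits.cokernel φ) j) y 0, Abelian.Ext.zero_comp]
  · intro y
    haveI := hB i
    obtain ⟨x, hx⟩ := Abelian.Ext.covariant_sequence_exact₂ _ hS y
      (Subsingleton.elim (α := Sheaf.H (Limits.cokernel φ) i) _ _)
    exact ⟨x, hx⟩

end Groth.Agent.S16370
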