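import Groth.Statements.S16371
import Mathlib

set_option autoImplicit false
universe u v w
open FrobAlg

namespace Groth.Agent.S16371

/-- Let p be a prime, A a commutative ring and B, C commutative A-algebras with p² = 0 in B. If two
A-algebra maps g₁, g₂ : C → B agree modulo p, then they agree on every element of C which is
congruent modulo p to an element of the A-subalgebra generated by the p-th powers. (The source
states this for liftings over a flat ℤ/p²-thickening of two smooth schemes and the subsheaf of
functions whose reduction lies in the image of the relative Frobenius; the smoothness and lifting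
hypotheses are not needed for the identity.) -/
theorem result
    (p : ℕ) [Fact p.Prime] (A : Type u) [CommRing A] (B : Type v) [CommRing B] [Algebra A B]
    (C : Type w) [CommRing C] [Algebra A C] (hp : (p : B) ^ 2 = 0)
    (g₁ g₂ : C →ₐ[A] B) (hg : ∀ x : C, g₁ x - g₂ x ∈ Ideal.span ({(p : B)} : Set B))
    (x y : C) (hy : y ∈ Algebra.adjoin A (Set.range fun c : C => c ^ p))
    (hxy : x - y ∈ Ideal.span ({(p : C)} : Set C)) :
    g₁ x = g₂ x := by
  -- p-th powers of elements congruent mod p agree since p² = 0
  have hpow : ∀ a b : B, a - b ∈ Ideal.span ({(p : B)} : Set B) → a ^ p = b ^ p := by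
    intro a b hab
    have hd : (p : B) ∣ a - b := Ideal.mem_span_singleton.mp hab
    have h2 := dvd_sub_pow_of_dvd_sub hd 1
    rw [pow_one] at h2
    have h3 : (p : B) ^ (1 + 1) = 0 := hp
    rw [h3, zero_dvd_iff] at h2
    exact sub_eq_zero.mp h2
  -- g₁ and g₂ agree on the adjoin
  have hle : Algebra.adjoin A (Set.range fun c : C => c ^ p) ≤ AlgHom.equalizer g₁ g₂ := by
    apply Algebra.adjoin_le
    rintro _ ⟨c, rfl⟩
    change g₁ (c ^ p) = g₂ (c ^ p)
    rw [map_pow, map_pow]
    exact hpow _ _ (hg c)
  have hy' : g₁ y = g₂ y := hle hy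
  obtain ⟨c, hc⟩ := Ideal.mem_span_singleton.mp hxy
  have hx : x = y + (p : C) * c := by rw [← hc]; ring
  obtain ⟨b, hb⟩ := Ideal.mem_span_singleton.mp (hg c)
  rw [hx, map_add, map_add, map_mul, map_mul, map_natCast, map_natCast, hy']
  congr 1
  have : g₁ c = g₂ c + (p : B) * b := by rw [← hb]; ring
  rw [this, mul_add, ← mul_assoc, ← pow_two, hp, zero_mul, add_zero]

end Groth.Agent.S16371
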