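import Groth.Statements.S1639
import Groth.Agent.Lib.FldNorm_helper4
import Groth.Agent.Lib.NormAmple1_helper5
import Groth.Agent.Lib.CohDev6_helper8
import Groth.Agent.Lib.Tens18_helper8

set_option autoImplicit false
universe u
open CategoryTheory CategoryTheory.Limits AlgebraicGeometry
open Divisors

namespace Groth.Agent.S1639

/-- Let π : X → Y be finite and surjective, with Y integral and normal. If X has an ample invertible
module then so does Y. -/
theorem result {X Y : Scheme.{u}} (π : X ⟶ Y) [IsFinite π] [Surjective π]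
    [IsIntegral Y] (hY : Pi1.IsNormalScheme Y) (L : X.Modules) (hL : CohB1.IsAmple L) :
    ∃ M : Y.Modules, CohB1.IsAmple M := by
  haveI : CompactSpace X := hL.2.1
  obtain ⟨x, hx⟩ := (inferInstance : Surjective π).surj (genericPoint Y)
  obtain ⟨T, i, hcl, hint, hrange, hgen⟩ :=
    CohDevH8.exists_integral_subscheme (closure {x}) isClosed_closure x rfl
  haveI := hcl
  haveI := hint
  haveI : CompactSpace T := QuasiCompact.compactSpace_of_compactSpace i
  haveI : IsFinite (i ≫ π) := inferInstance
  haveI : Surjective (i ≫ π) := by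
    refine ⟨fun y => ?_⟩
    have hclosed : IsClosed (Set.range (i ≫ π)) := (i ≫ π).isClosedMap.isClosed_range
    have hmem : genericPoint Y ∈ Set.range (i ≫ π) :=
      ⟨genericPoint T, by rw [Scheme.Hom.comp_apply, hgen, hx]⟩
    have h1 : closure {genericPoint Y} ⊆ Set.range (i ≫ π) :=
      hclosed.closure_subset_iff.mpr (Set.singleton_subset_iff.mpr hmem)
    rw [(genericPoint_spec Y).def] at h1
    exact h1 (Set.mem_univ y)
  have hL' : CohB1.IsAmple ((Scheme.Modules.pullback i).obj L) :=
    TensH8.isAmple_pullback_of_isAffineHom i hL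
  obtain ⟨d, ⟨nm⟩⟩ := Groth.Agent.Lib.FldNormH4.main8881 (i ≫ π) hY
  exact Groth.Agent.NormAmple.exists_ample_of_norm (i ≫ π) nm hL'

end Groth.Agent.S1639
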