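import Groth.Statements.S16396
import Mathlib
-- import your own Groth.Agent.* helpers here

set_option autoImplicit false
universe u
open CAlg

namespace Groth.Agent.S16396

open Polynomial in
/-- For a commutative ℚ-algebra A, a ℚ-subalgebra B of the polynomial algebra A[X] that contains X and
is closed under d/dX consists exactly of the polynomials each of whose coefficients is the value at
0 of some element of B; in other words B = ev(B)[X], with ev the evaluation at 0. -/
theorem result
    (A : Type u) [CommRing A] [Algebra ℚ A] (B : Subalgebra ℚ A[X])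
    (hX : (X : A[X]) ∈ B) (hD : ∀ P ∈ B, Polynomial.derivative P ∈ B) (P : A[X]) :
    P ∈ B ↔ ∀ i : ℕ, ∃ Q ∈ B, Polynomial.eval 0 Q = P.coeff i := by

  have key : ∀ n : ℕ, ∀ Q ∈ B, Q.natDegree ≤ n → ∀ i, (Polynomial.C (Q.coeff i) : A[X]) ∈ B := by
    intro n
    induction n with
    | zero =>
      intro Q hQ hdeg i
      have h1 : Q = Polynomial.C (Q.coeff 0) := Polynomial.eq_C_of_natDegree_le_zero hdeg
      rcases Nat.eq_zero_or_pos i with rfl | hi
      · rw [← h1]; exact hQ
      · rw [h1, Polynomial.coeff_C, if_neg (by omega), map_zero]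
        exact B.zero_mem
    | succ n ih =>
      intro Q hQ hdeg
      have hD1 : (Polynomial.derivative Q).natDegree ≤ n :=
        le_trans (Polynomial.natDegree_derivative_le Q) (by omega)
      have hsucc : ∀ i, (Polynomial.C (Q.coeff (i + 1)) : A[X]) ∈ B := by
        intro i
        have h1 := ih _ (hD _ hQ) hD1 i
        rw [Polynomial.coeff_derivative] at h1
        have h2 : (Polynomial.C (Q.coeff (i + 1)) : A[X]) =
            (((i : ℚ) + 1)⁻¹ : ℚ) • (Polynomial.C (Q.coeff (i + 1) * ((i : A) + 1)) : A[X]) := by
          rw [Polynomial.smul_C]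
          congr 1
          have h3 : ((i : A) + 1) = algebraMap ℚ A ((i : ℚ) + 1) := by
            rw [map_add, map_natCast, map_one]
          rw [h3, Algebra.smul_def, mul_comm (Q.coeff (i + 1)), ← mul_assoc, ← map_mul,
            inv_mul_cancel₀ (by positivity), map_one, one_mul]
        rw [h2]
        exact B.smul_mem h1 _
      have hsum : Q = ∑ i ∈ Finset.range Q.natDegree,
          Polynomial.C (Q.coeff (i + 1)) * Polynomial.X ^ (i + 1) + Polynomial.C (Q.coeff 0) := by
        conv_lhs => rw [Polynomial.as_sum_range_C_mul_X_pow Q]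
        rw [Finset.sum_range_succ', pow_zero, mul_one]
      have h0 : (Polynomial.C (Q.coeff 0) : A[X]) ∈ B := by
        have h4 : (Polynomial.C (Q.coeff 0) : A[X]) = Q - ∑ i ∈ Finset.range Q.natDegree,
            Polynomial.C (Q.coeff (i + 1)) * Polynomial.X ^ (i + 1) := by
          rw [eq_sub_iff_add_eq, add_comm]; exact hsum.symm
        rw [h4]
        refine B.sub_mem hQ (B.sum_mem fun i _ => B.mul_mem (hsucc i) (B.pow_mem hX _))
      intro i
      rcases Nat.eq_zero_or_pos i with rfl | hi
      · exact h0
      · obtain ⟨j, rfl⟩ := Nat.exists_eq_succ_of_ne_zero (by omega : i ≠ 0)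
        exact hsucc j
  constructor
  · intro hP i
    exact ⟨Polynomial.C (P.coeff i), key _ P hP le_rfl i, Polynomial.eval_C⟩
  · intro h
    rw [Polynomial.as_sum_range_C_mul_X_pow P]
    refine B.sum_mem fun i _ => B.mul_mem ?_ (B.pow_mem hX _)
    obtain ⟨Q, hQ, hQi⟩ := h i
    rw [← hQi, ← Polynomial.coeff_zero_eq_eval_zero]
    exact key _ Q hQ le_rfl 0

end Groth.Agent.S16396
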