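import Groth.Statements.S16417
import Groth.Agent.Lib.DieudHom1_helper1

set_option autoImplicit false
universe u v w
open Dieud

namespace Groth.Agent.S16417

/-- For a prime p and a perfect field k of characteristic p, write W = W(k) for the ring of Witt vectors
and σ for its Frobenius; let M and N be free W-modules of finite rank, each with additive maps F
(σ-semilinear) and V (with V(σ(a)m) = aV(m)) satisfying FV = VF = p, and H = Hom_W(M, N); write VM ⊆
M and VN ⊆ N for the images of V. (a) A W-linear h : M → N maps VM into VN if and only if h(V m) =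
V(h'(m)) for all m for some W-linear h' : M → N (so the maps with this property form H ∩ V·H). (b)
The natural map from H to the W-linear maps VM → N/VN has image exactly the maps vanishing on pM =
V(FM): every such map is induced by some h ∈ H. (c) The W-length of H/(H ∩ V·H) is r₂ s₁, where r₂
is the length of N/VN and s₁ = rank M − length(M/VM) is the length of VM/pM. (The published
statement is for the Cartier modules of two p-divisible formal groups over k, every slope of the
first below every slope of the second, and phrases (b), (c) as an isomorphism of H/(H ∩ VH) with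
Hom_k(VM/pM, N/VN); only the structure listed is used, so connectedness and the slope condition are
not assumed.) -/
theorem result
    (p : ℕ) [Fact p.Prime] (k : Type u) [Field k] [CharP k p] [PerfectRing k p]
    (M : Type v) [AddCommGroup M] [Module (WittVector p k) M]
    [Module.Free (WittVector p k) M] [Module.Finite (WittVector p k) M]
    (N : Type w) [AddCommGroup N] [Module (WittVector p k) N]
    [Module.Free (WittVector p k) N] [Module.Finite (WittVector p k) N]
    (FM VM : M →+ M) (FN VN : N →+ N)
    (hFM : ∀ (a : WittVector p k) (m : M), FM (a • m) = WittVector.frobenius a • FM m)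
    (hVM : ∀ (a : WittVector p k) (m : M), VM (WittVector.frobenius a • m) = a • VM m)
    (hFVM : ∀ m : M, FM (VM m) = (p : WittVector p k) • m)
    (hVFM : ∀ m : M, VM (FM m) = (p : WittVector p k) • m)
    (hFN : ∀ (a : WittVector p k) (n : N), FN (a • n) = WittVector.frobenius a • FN n)
    (hVN : ∀ (a : WittVector p k) (n : N), VN (WittVector.frobenius a • n) = a • VN n)
    (hFVN : ∀ n : N, FN (VN n) = (p : WittVector p k) • n)
    (hVFN : ∀ n : N, VN (FN n) = (p : WittVector p k) • n)
    (r₂ s₁ : ℕ)
    (hr₂ : Module.length (WittVector p k) (N ⧸ Submodule.span (WittVector p k) (Set.range VN)) = r₂)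
    (hs₁ : (Module.finrank (WittVector p k) M : ℕ∞) =
      Module.length (WittVector p k) (M ⧸ Submodule.span (WittVector p k) (Set.range VM)) + s₁) :
    (∀ h : M →ₗ[WittVector p k] N,
      (∀ m : M, h (VM m) ∈ Submodule.span (WittVector p k) (Set.range VN)) ↔
        ∃ h' : M →ₗ[WittVector p k] N, ∀ m : M, h (VM m) = VN (h' m)) ∧
    (∀ g : Submodule.span (WittVector p k) (Set.range VM) →ₗ[WittVector p k]
        N ⧸ Submodule.span (WittVector p k) (Set.range VN),
      (∀ m : M, g ⟨VM (FM m), Submodule.subset_span ⟨FM m, rfl⟩⟩ = 0) →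
      ∃ h : M →ₗ[WittVector p k] N, ∀ x : Submodule.span (WittVector p k) (Set.range VM),
        (Submodule.span (WittVector p k) (Set.range VN)).mkQ (h x) = g x) ∧
    Module.length (WittVector p k) ((M →ₗ[WittVector p k] N) ⧸
      ⨅ m : M, (Submodule.span (WittVector p k) (Set.range VN)).comap
        (LinearMap.applyₗ (VM m) : (M →ₗ[WittVector p k] N) →ₗ[WittVector p k] N)) = (r₂ * s₁ : ℕ) := by
  classical
  obtain ⟨ι, hfin, hdec, b, a, hS1, hS2, hdvd⟩ :=
    Groth.Agent.Lib.DieudHomH1.exists_snf FM VM hVFM
  have hS3 : ∀ i, IsUnit (a i) ∨ ∃ w : WittVector p k, a i = (p : WittVector p k) * w := by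
    intro i
    rcases (WittVector.irreducible p).dvd_iff.mp (hdvd i) with h | h
    · exact Or.inl h
    · obtain ⟨u, hu⟩ := h
      exact Or.inr ⟨u, hu.symm⟩
  refine ⟨fun h => Groth.Agent.Lib.DieudHomH1.part_a VM FN VN hVM hVN hFVN h,
    fun g hg => Groth.Agent.Lib.DieudHomH1.part_b FM VM VN b a hVFM hS1 hS2 hS3 g hg, ?_⟩
  rw [Groth.Agent.Lib.DieudHomH1.ker_Psi VM FN VN b a hVM hVFN hS1 hS2 hS3]
  rw [(LinearMap.quotKerEquivOfSurjective _
    (Groth.Agent.Lib.DieudHomH1.Psi_surjective VN b a)).length_eq,
    Module.length_pi_of_fintype, Finset.sum_const, hr₂, Finset.card_univ]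
  have hl := Groth.Agent.Lib.DieudHomH1.length_quot_VM VM b a hS1 hS2 hdvd
  have hsplit : (Finset.univ.filter (fun i => IsUnit (a i))).card +
      (Finset.univ.filter (fun i => ¬ IsUnit (a i))).card = Fintype.card ι := by
    rw [Finset.card_filter_add_card_filter_not]
    exact Finset.card_univ
  have hcard : Fintype.card {i // IsUnit (a i)} = s₁ := by
    rw [Fintype.card_subtype]
    rw [hl, Module.finrank_eq_card_basis b] at hs₁
    have h4 : ∀ (d1 d2 : DecidablePred fun i => ¬ IsUnit (a i)),
        (@Finset.filter ι _ d1 Finset.univ).card = (@Finset.filter ι _ d2 Finset.univ).card := by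
      intro d1 d2
      rw [Subsingleton.elim d1 d2]
    norm_cast at hs₁
    rw [h4 _ (fun _ => inferInstance)] at hs₁
    omega
  rw [hcard, nsmul_eq_mul]
  push_cast
  ring

end Groth.Agent.S16417
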