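import Groth.Statements.S16421
import Mathlib
import Groth.Agent.Lib.PerfFlat_helper6
-- import your own Groth.Agent.* helpers here

set_option autoImplicit false
universe u
open FrobAlg

namespace Groth.Agent.S16421

/-- Let p be a prime and R a commutative ring of characteristic p with a p-basis (x_i), meaning that the
monomials ∏ x_i^(e i) with every exponent e i < p form a basis of R as a module over itself through
the Frobenius, i.e. the map sending a finitely supported family of coefficients c to ∑_e (c e)^p · ∏
x_i^(e i) is a bijection onto R. Then the canonical ring map from R to its perfect closure is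
faithfully flat. -/
theorem result (p : ℕ) [Fact p.Prime]
    (R : Type u) [CommRing R] [CharP R p] (ι : Type u) (x : ι → R)
    (hx : Function.Bijective
      (fun c : {e : ι →₀ ℕ // ∀ i, e i < p} →₀ R =>
        c.sum (fun e r => r ^ p * e.1.prod (fun i n => x i ^ n)))) :
    (PerfectClosure.of R p).FaithfullyFlat := by

  have hp : p.Prime := Fact.out
  refine Groth.Agent.Lib.PerfFlat.faithfullyFlat_of_flat_frobenius p (PerfectClosure.of R p) ?_
  refine Groth.Agent.Lib.PerfFlat.flat_of_finsupp_bijective (frobenius R p)
    (E := {e : ι →₀ ℕ // ∀ i, e i < p})
    (fun c => c.sum (fun e r => r ^ p * e.1.prod (fun i n => x i ^ n))) hx ?_ ?_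
  · intro c d
    exact Finsupp.sum_add_index' (fun e => by rw [zero_pow hp.ne_zero, zero_mul])
      (fun e a b => by rw [add_pow_char, add_mul])
  · intro a c
    show (a • c).sum (fun e r => r ^ p * e.1.prod (fun i n => x i ^ n)) = _
    rw [Finsupp.sum_smul_index (fun e => by rw [zero_pow hp.ne_zero, zero_mul]), frobenius_def,
      Finsupp.mul_sum]
    refine Finsupp.sum_congr fun e _ => ?_
    rw [mul_pow, mul_assoc]

end Groth.Agent.S16421
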