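import Groth.Statements.S16431
import Groth.Agent.Lib.PureInsepEmb_helper3
import Groth.Agent.Lib.HensBranches11_helper3
import Groth.Agent.Lib.Branches7_helper6
import Groth.Agent.Lib.QuotBaseChange_helper3
import Groth.Agent.Lib.IndEtaleFib_helper3
import Groth.Agent.Lib.IndEtaleTrans_helper3
-- import your own Groth.Agent.* helpers here

set_option autoImplicit false
universe u
open Hensel


namespace Groth.Agent.S16431

/-- Let A be an excellent reduced local ring with residue field k, let A' be the integral closure of A
in its total ring of fractions, let A^h be a henselization and A^hs a strict henselization of A, and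
let A^h → A^hs be the A-algebra map between them (it is the unique one). Then the residue field of
A' at every maximal ideal is purely inseparable over k — every element has some p^n-th power in the
image of A, p the characteristic exponent — if and only if every minimal prime ideal of A^hs is
generated by its contraction to A^h. -/
theorem result
    (A Ah Ash : Type u) [CommRing A] [IsLocalRing A] [IsReduced A] (hA : EGA4.IsExcellent A)
    [CommRing Ah] [IsLocalRing Ah] [Algebra A Ah] [IsLocalHom (algebraMap A Ah)]
    [Hensel.IsHenselization A Ah]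
    [CommRing Ash] [IsLocalRing Ash] [Algebra A Ash] [IsLocalHom (algebraMap A Ash)]
    [Hensel.IsStrictHenselization A Ash] [Algebra Ah Ash] [IsScalarTower A Ah Ash] :
    (∀ (M : Ideal (integralClosure A (FractionRing A))) [M.IsMaximal], ∀ x : (integralClosure A (FractionRing A)) ⧸ M, ∃ n : ℕ,
        x ^ (ringExpChar ((integralClosure A (FractionRing A)) ⧸ M)) ^ n ∈
          ((Ideal.Quotient.mk M).comp (algebraMap A (integralClosure A (FractionRing A)))).range) ↔
      (∀ Q ∈ minimalPrimes Ash, Q = Ideal.map (algebraMap Ah Ash) (Q.comap (algebraMap Ah Ash))) := by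
  classical
  haveI hN : IsNoetherianRing A := hA.1
  haveI hNh : IsNoetherianRing Ah :=
    Groth.Agent.Lib.HensBranchesH3.isNoetherianRing_of_isHenselization A Ah
  haveI hNs : IsNoetherianRing Ash :=
    (Groth.Agent.Lib.StrictHens.isNoetherianRing_iff_of_isStrictHenselization (R := A) Ash).mp hN
  have hieh := Groth.Agent.Lib.UnibranchH3.isIndEtale_of_isHenselization A Ah
  have hies := Groth.Agent.Lib.StrictHens.isIndEtale_of_isStrictHenselization (R := A) Ash
  have hie : EtPBC.IsIndEtale Ah Ash :=
    Groth.Agent.Lib.IndEtaleH3.isIndEtale_cancel A Ah Ash hieh hies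
  haveI : Module.Flat Ah Ash := Groth.Agent.Lib.IndEtaleH3.flat_of_isIndEtale hie
  haveI : IsLocalHom (algebraMap Ah Ash) := by
    apply Groth.Agent.Lib.HensInductionH3.isLocalHom_of_comp A Ah (algebraMap Ah Ash)
    rw [← IsScalarTower.algebraMap_eq]
    infer_instance
  haveI : Module.FaithfullyFlat Ah Ash := Module.FaithfullyFlat.of_flat_of_isLocalHom
  have hrad : ∀ q : Ideal Ah, q.IsPrime → (q.map (algebraMap Ah Ash)).IsRadical := by
    intro q hq
    haveI := hq
    have h1 := Groth.Agent.Lib.IndEtaleH3.isIndEtale_quotient hie q
    haveI : IsReduced (Ash ⧸ q.map (algebraMap Ah Ash)) :=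
      Groth.Agent.Lib.IndEtaleH3.isReduced_of_isIndEtale h1
    exact (Ideal.isRadical_iff_quotient_reduced _).mpr inferInstance
  have hfinS : (minimalPrimes Ash).Finite := minimalPrimes.finite_of_isNoetherianRing Ash
  have hfinH : (minimalPrimes Ah).Finite := minimalPrimes.finite_of_isNoetherianRing Ah
  have hfinA : (minimalPrimes A).Finite := minimalPrimes.finite_of_isNoetherianRing A
  have hR : (∀ Q ∈ minimalPrimes Ash,
      Q = Ideal.map (algebraMap Ah Ash) (Q.comap (algebraMap Ah Ash))) ↔
      ∀ q ∈ minimalPrimes Ah, (q.map (algebraMap Ah Ash)).radical.IsPrime := by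
    constructor
    · intro h q hq
      obtain ⟨Q, hQ, hQq⟩ :=
        Groth.Agent.Lib.HensBranchesH3.exists_minimalPrimes_comap_eq_of_faithfullyFlat
          (B := Ash) q hq
      have h1 := h Q hQ
      rw [hQq] at h1
      rw [← h1]
      haveI := hQ.1.1
      rw [Ideal.IsPrime.radical hQ.1.1]
      exact hQ.1.1
    · intro h Q hQ
      have hq := Groth.Agent.Lib.HensBranchesH3.comap_mem_minimalPrimes_of_flat (S := Ah) Q hQ
      have h1 := h _ hq
      rw [(hrad _ hq.1.1).radical] at h1
      have hle : (Q.comap (algebraMap Ah Ash)).map (algebraMap Ah Ash) ≤ Q := Ideal.map_comap_le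
      exact le_antisymm (hQ.2 ⟨h1, bot_le⟩ hle) hle
  have hcardH := Groth.Agent.Lib.HensBranchesH3.card_minimalPrimes_henselization A Ah
  have hcardS := Groth.Agent.Lib.HensBranchesH3.card_minimalPrimes_strictHenselization A Ash
  have hfinB : Brnch.numBranches A ≠ ⊤ := by
    rw [← hcardH]
    haveI := hfinH.to_subtype
    exact (ENat.card_lt_top_of_finite).ne
  rw [hR, ← Groth.Agent.Lib.HensBranchesH3.card_minimalPrimes_eq_iff hfinS, hcardH, hcardS,
    Groth.Agent.Lib.PureInsepH3.numBranches_eq_numGeomBranches_iff A hfinA hfinB]
  -- transport along the normalization isomorphism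
  have hint : (algebraMap A (integralClosure A (FractionRing A))).IsIntegral :=
    algebraMap_isIntegral_iff.mpr inferInstance
  have hcompat : ∀ a : A, (Groth.Agent.Lib.Branches.normRedEquiv A)
      (algebraMap A (integralClosure A (FractionRing A)) a) =
      ((algebraMap (CAlg2.red A) (CAlg2.normRed A)).comp
        (Ideal.Quotient.mk (nilradical A))) a := by
    intro a
    rw [Groth.Agent.Lib.Branches.normRedEquiv_algebraMap]
    rfl
  have hcompat' : ∀ a : A, (Groth.Agent.Lib.Branches.normRedEquiv A).symm
      (((algebraMap (CAlg2.red A) (CAlg2.normRed A)).comp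
        (Ideal.Quotient.mk (nilradical A))) a) =
      algebraMap A (integralClosure A (FractionRing A)) a := by
    intro a
    rw [← hcompat a, RingEquiv.symm_apply_apply]
  have hL : (∀ (M : Ideal (integralClosure A (FractionRing A))) [M.IsMaximal],
      ∀ x : (integralClosure A (FractionRing A)) ⧸ M, ∃ n : ℕ,
        x ^ (ringExpChar ((integralClosure A (FractionRing A)) ⧸ M)) ^ n ∈
          ((Ideal.Quotient.mk M).comp
            (algebraMap A (integralClosure A (FractionRing A)))).range) ↔
      ∀ (M : Ideal (integralClosure A (FractionRing A))) [M.IsMaximal],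
        Subsingleton (Groth.Agent.Lib.PureInsepH3.EmbG A (integralClosure A (FractionRing A))
          (algebraMap A (integralClosure A (FractionRing A))) M) := by
    constructor
    · intro h M hM
      exact (Groth.Agent.Lib.PureInsepH3.embG_facts A _ _ M hint).2.mpr (h M)
    · intro h M hM
      exact (Groth.Agent.Lib.PureInsepH3.embG_facts A _ _ M hint).2.mp (h M)
  rw [hL]
  constructor
  · intro h m'
    haveI := m'.isMaximal
    exact Groth.Agent.Lib.PureInsepH3.forall_subsingleton_embG_of_ringEquiv A
      (integralClosure A (FractionRing A)) (algebraMap A (integralClosure A (FractionRing A)))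
      (CAlg2.normRed A) (Groth.Agent.Lib.Branches.normRedEquiv A) _ hcompat h m'.asIdeal
  · intro h M hM
    refine Groth.Agent.Lib.PureInsepH3.forall_subsingleton_embG_of_ringEquiv A
      (CAlg2.normRed A) ((algebraMap (CAlg2.red A) (CAlg2.normRed A)).comp
        (Ideal.Quotient.mk (nilradical A)))
      (integralClosure A (FractionRing A)) (Groth.Agent.Lib.Branches.normRedEquiv A).symm _
      hcompat' ?_ M
    intro N hN
    exact h ⟨N, hN⟩

end Groth.Agent.S16431
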