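import Groth.Statements.S16453
import Mathlib
import Groth.Agent.Lib.GrMapDeg_helper6
-- import your own Groth.Agent.* helpers here

set_option autoImplicit false
universe u
open AdicGr

namespace Groth.Agent.S16453

/-- Let A be a commutative ring, I an ideal and Â the I-adic completion, filtered by the kernels Âₙ of
the projections Â → A/Iⁿ. Then the homomorphism of associated graded rings ⊕ₙ Iⁿ/Iⁿ⁺¹ → ⊕ₙ Âₙ/Âₙ₊₁
induced by the canonical map A → Â is bijective. No hypothesis on A or I is needed. (The published
statement is for an arbitrary filtered ring and also asserts the analogous isomorphism for a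
compatibly filtered module; this row is the ring assertion for the filtration by the powers of one
ideal.) -/
theorem result (A : Type u) [CommRing A] (I : Ideal A) :
    Function.Bijective (AssocGr.map (AssocGr.isFiltHom_kerFilt I)) := by

  constructor
  · apply Groth.Agent.Lib.GrMapDeg.map_injective_of_piece
    intro n a ha hφ
    rw [AssocGr.mem_kerFilt_iff_val, AdicCompletion.algebraMap_apply, Algebra.algebraMap_self,
      RingHom.id_apply, AdicCompletion.of_apply, Submodule.mkQ_apply,
      Submodule.Quotient.mk_eq_zero] at hφ
    change a ∈ I ^ (n + 1)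
    rw [← AssocGr.pow_smul_top I (n + 1)]
    exact hφ
  · apply Groth.Agent.Lib.GrMapDeg.map_surjective_of_piece
    intro n x hx
    rw [AssocGr.mem_kerFilt_iff_val] at hx
    obtain ⟨a, ha⟩ := Ideal.Quotient.mk_surjective (x.val (n + 1))
    refine ⟨a, ?_, ?_⟩
    · have h1 := AdicCompletion.transitionMap_comp_eval_apply I A (Nat.le_succ n) x
      rw [← ha, hx] at h1
      change Ideal.Quotient.mk (I ^ n • ⊤ : Ideal A) a = 0 at h1
      rw [Ideal.Quotient.eq_zero_iff_mem, AssocGr.pow_smul_top] at h1
      exact h1
    · rw [AssocGr.mem_kerFilt_iff_val, AdicCompletion.val_sub_apply, AdicCompletion.algebraMap_apply,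
        Algebra.algebraMap_self, RingHom.id_apply, AdicCompletion.of_apply, Submodule.mkQ_apply,
        ← ha, sub_eq_zero]
      rfl

end Groth.Agent.S16453
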