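import Groth.Statements.S16456
import Mathlib
import Groth.Agent.Lib.GrMapDeg_helper6
-- import your own Groth.Agent.* helpers here

set_option autoImplicit false
universe u
open AdicGr

namespace Groth.Agent.S16456

/-- Let φ : A → B be a ring homomorphism, I ⊆ A and J ⊆ B ideals with φ(I)B ⊆ J, so that φ is a
homomorphism of filtered rings for the I-adic and J-adic filtrations. Assume that A is I-adically
complete in the sense that every I-adically Cauchy sequence has a limit, that B is J-adically
separated, and that the induced homomorphism of associated graded rings ⊕ₙ Iⁿ/Iⁿ⁺¹ → ⊕ₙ Jⁿ/Jⁿ⁺¹ is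
surjective. Then φ is surjective, φ is strict (Jⁿ = φ(Iⁿ)B for all n, that is J = φ(I)B), and B is
J-adically separated and complete. (The published statement is for a homomorphism of filtered
modules over a filtered ring, with arbitrary compatible filtrations; this row is its case of a ring
homomorphism with adic filtrations.) -/
theorem result (A : Type u) [CommRing A] (B : Type u)
    [CommRing B] (φ : A →+* B) (I : Ideal A) (J : Ideal B) (hIJ : I.map φ ≤ J)
    [IsPrecomplete I A] [IsHausdorff J B]
    (h : Function.Surjective (AssocGr.map (AssocGr.IsFiltHom.adic hIJ))) :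
    Function.Surjective φ ∧ I.map φ = J ∧ IsAdicComplete J B := by

  have hstep : ∀ n, ∀ b ∈ J ^ n, ∃ a ∈ I ^ n, b - φ a ∈ J ^ (n + 1) :=
    Groth.Agent.Lib.GrMapDeg.piece_of_map_surjective (AssocGr.IsFiltHom.adic hIJ) h
  have hφpow : ∀ n, ∀ a ∈ I ^ n, φ a ∈ J ^ n := fun n a ha => (AssocGr.IsFiltHom.adic hIJ) n ha
  have hhaus : ∀ x : B, (∀ n, x ∈ J ^ n) → x = 0 := by
    intro x hx
    apply IsHausdorff.haus ‹IsHausdorff J B› x
    intro n
    rw [SModEq.zero, smul_eq_mul, Ideal.mul_top]
    exact hx n
  have key : ∀ n, ∀ b ∈ J ^ n, ∃ a ∈ I ^ n, φ a = b := by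
    intro n b hb
    have hex : ∀ (m : ℕ) (b : B), ∃ a : A, b ∈ J ^ m → a ∈ I ^ m ∧ b - φ a ∈ J ^ (m + 1) := by
      intro m b
      by_cases hb : b ∈ J ^ m
      · obtain ⟨a, ha, hab⟩ := hstep m b hb
        exact ⟨a, fun _ => ⟨ha, hab⟩⟩
      · exact ⟨0, fun h => absurd h hb⟩
    choose g hg using hex
    let bs : ℕ → B := fun k => Nat.rec b (fun k bk => bk - φ (g (n + k) bk)) k
    have bs0 : bs 0 = b := rfl
    have bsS : ∀ k, bs (k+1) = bs k - φ (g (n + k) (bs k)) := fun k => rfl
    have hbs : ∀ k, bs k ∈ J ^ (n + k) := by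
      intro k
      induction k with
      | zero => exact hb
      | succ k ih => rw [bsS]; exact (hg (n+k) (bs k) ih).2
    let as : ℕ → A := fun k => g (n + k) (bs k)
    have has : ∀ k, as k ∈ I ^ (n + k) := fun k => (hg (n+k) (bs k) (hbs k)).1
    let s : ℕ → A := fun k => ∑ i ∈ Finset.range k, as i
    have hsS : ∀ k, s (k+1) = s k + as k := fun k => Finset.sum_range_succ _ _
    have hs : ∀ k, b - φ (s k) = bs k := by
      intro k
      induction k with
      | zero => simp [s, bs0]
      | succ k ih =>
        have e1 : bs (k+1) = bs k - φ (as k) := rfl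
        rw [e1, ← ih, hsS, map_add]
        ring
    have hsn : ∀ k, s k ∈ I ^ n := by
      intro k
      apply Ideal.sum_mem
      intro i _
      exact Ideal.pow_le_pow_right (Nat.le_add_right n i) (has i)
    have hcauchy : AdicCompletion.IsAdicCauchy I A s := by
      rw [AdicCompletion.isAdicCauchy_iff]
      intro k
      rw [SModEq.sub_mem, smul_eq_mul, Ideal.mul_top]
      have : s k - s (k+1) = - as k := by rw [hsS]; ring
      rw [this]
      exact (Ideal.neg_mem_iff _).2 (Ideal.pow_le_pow_right (Nat.le_add_left k n) (has k))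
    obtain ⟨L, hL⟩ := IsPrecomplete.prec ‹IsPrecomplete I A› hcauchy
    have hL' : ∀ k, s k - L ∈ I ^ k := by
      intro k
      have := hL k
      rw [SModEq.sub_mem, smul_eq_mul, Ideal.mul_top] at this
      exact this
    refine ⟨L, ?_, ?_⟩
    · have h1 := hL' (n+1)
      have h2 : L = s (n+1) - (s (n+1) - L) := by ring
      rw [h2]
      exact Ideal.sub_mem _ (hsn _) (Ideal.pow_le_pow_right (Nat.le_succ n) h1)
    · rw [← sub_eq_zero]
      apply hhaus
      intro k
      have h3 : φ L - b = - (φ (s k - L)) - bs k := by rw [← hs k, map_sub]; ring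
      rw [h3]
      apply Ideal.sub_mem
      · exact (Ideal.neg_mem_iff _).2 (hφpow k _ (hL' k))
      · exact Ideal.pow_le_pow_right (Nat.le_add_left k n) (hbs k)
  have hsurj : Function.Surjective φ := by
    intro b
    obtain ⟨a, _, ha⟩ := key 0 b (by rw [pow_zero, Ideal.one_eq_top]; trivial)
    exact ⟨a, ha⟩
  refine ⟨hsurj, le_antisymm hIJ ?_, ?_⟩
  · intro b hb
    obtain ⟨a, ha, rfl⟩ := key 1 b (by rwa [pow_one])
    rw [pow_one] at ha
    exact Ideal.mem_map_of_mem φ ha
  · haveI : IsPrecomplete J B := by
      constructor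
      intro f hf
      have hf' : ∀ k, f (k+1) - f k ∈ J ^ k := by
        intro k
        have := hf (Nat.le_succ k)
        rw [SModEq.sub_mem, smul_eq_mul, Ideal.mul_top] at this
        rw [← neg_sub]
        exact (Ideal.neg_mem_iff _).2 this
      have hex : ∀ k : ℕ, ∃ c : A, c ∈ I ^ k ∧ φ c = f (k+1) - f k := fun k => key k _ (hf' k)
      choose c hc1 hc2 using hex
      obtain ⟨c0, hc0⟩ := hsurj (f 0)
      let g : ℕ → A := fun k => c0 + ∑ i ∈ Finset.range k, c i
      have hgS : ∀ k, g (k+1) = g k + c k := by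
        intro k
        change c0 + ∑ i ∈ Finset.range (k+1), c i = c0 + ∑ i ∈ Finset.range k, c i + c k
        rw [Finset.sum_range_succ, add_assoc]
      have hg : ∀ k, φ (g k) = f k := by
        intro k
        induction k with
        | zero => simp [g, hc0]
        | succ k ih => rw [hgS, map_add, ih, hc2]; ring
      have hcauchy : AdicCompletion.IsAdicCauchy I A g := by
        rw [AdicCompletion.isAdicCauchy_iff]
        intro k
        rw [SModEq.sub_mem, smul_eq_mul, Ideal.mul_top]
        have : g k - g (k+1) = - c k := by rw [hgS]; ring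
        rw [this]
        exact (Ideal.neg_mem_iff _).2 (hc1 k)
      obtain ⟨L, hL⟩ := IsPrecomplete.prec ‹IsPrecomplete I A› hcauchy
      refine ⟨φ L, fun k => ?_⟩
      have := hL k
      rw [SModEq.sub_mem, smul_eq_mul, Ideal.mul_top] at this ⊢
      rw [← hg k, ← map_sub]
      exact hφpow k _ this
    exact ⟨⟩

end Groth.Agent.S16456
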