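import Groth.Statements.S16458
import Mathlib
import Groth.Agent.Lib.GrModGen2_helper6
-- import your own Groth.Agent.* helpers here

set_option autoImplicit false
universe u
open AdicGr

namespace Groth.Agent.S16458

/-- Let A be a commutative ring and I an ideal such that every I-adically Cauchy sequence in A has a
limit, and let M be an A-module with an I-filtration M = N₀ ⊇ N₁ ⊇ … (I·Nₙ ⊆ Nₙ₊₁) which is
separated, ⋂ₙ Nₙ = 0. If the associated graded module gr(M) = ⊕ₙ Nₙ/Nₙ₊₁ is finitely generated as a
module over the associated graded ring ⊕ₙ Iⁿ/Iⁿ⁺¹, then M is a finitely generated A-module. (The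
published statement allows any complete filtered ring and also concludes that M is complete for its
filtration; this row takes the I-adic filtration on A and states the finiteness.) -/
theorem result (A : Type u) [CommRing A] (I : Ideal A)
    [IsPrecomplete I A] (M : Type u) [AddCommGroup M] [Module A M] (F : I.Filtration M)
    (h0 : F.N 0 = ⊤) (hsep : ⨅ n, F.N n = ⊥)
    [Module.Finite (AssocGr.GrRing (FiltBl.IdealFiltration.adic I)) (AssocGr.GrMod F)] :
    Module.Finite A M := by

  have hfg : (Submodule.span (AssocGr.GrRing (FiltBl.IdealFiltration.adic I))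
      (Groth.Agent.Lib.GrModGen.classSet F ⊤)).FG := by
    rw [Groth.Agent.Lib.GrModGen.span_classSet_top]
    exact Module.Finite.fg_top
  exact ⟨(Groth.Agent.Lib.GrModGen.fg_and_closed F hsep h0 ⊤ hfg).1⟩

end Groth.Agent.S16458
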