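import Groth.Statements.S1646
import Mathlib
import Groth.Agent.Lib.GGDesc_helper9

set_option autoImplicit false
universe u
open CategoryTheory CategoryTheory.Limits AlgebraicGeometry
open Variety

namespace Groth.Agent.S1646

/-- Let A → A' be a faithfully flat ring map, f : X → Spec A a quasi-compact and quasi-separated
morphism, and F a quasi-coherent O_X-module. F is generated by its global sections exactly when its
pullback to X ×_{Spec A} Spec A' is generated by its global sections. (Quasi-compactness and
quasi-separatedness of f are assumed here on top of the published hypotheses.) -/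
theorem result (A A' : Type u) [CommRing A] [CommRing A'] [Algebra A A']
    [Module.FaithfullyFlat A A'] (X : Scheme.{u}) (f : X ⟶ Spec (CommRingCat.of A)) [QuasiCompact f] [QuasiSeparated f]
    (F : X.Modules) (hF : Coh.IsQCoh F) :
    Curv2.IsGloballyGenerated F ↔ Curv2.IsGloballyGenerated
      ((Scheme.Modules.pullback (pullback.fst f (Spec.map (CommRingCat.ofHom (algebraMap A A'))))).obj F) := by
  haveI : F.IsQuasicoherent := hF
  letI : X.Over (Spec (CommRingCat.of A)) := ⟨f⟩
  letI : (pullback f (Spec.map (CommRingCat.ofHom (algebraMap A A')))).Over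
      (Spec (CommRingCat.of A')) := ⟨pullback.snd _ _⟩
  haveI : CompactSpace X := QuasiCompact.compactSpace_of_compactSpace f
  haveI : QuasiSeparatedSpace X := quasiSeparatedSpace_of_quasiSeparated f
  have hsq : IsPullback (pullback.fst f (Spec.map (CommRingCat.ofHom (algebraMap A A'))))
      ((pullback f (Spec.map (CommRingCat.ofHom (algebraMap A A')))) ↘ Spec (CommRingCat.of A'))
      (X ↘ Spec (CommRingCat.of A)) (Spec.map (CommRingCat.ofHom (algebraMap A A'))) :=
    IsPullback.of_hasPullback f _
  exact ⟨Groth.Agent.GGDesc.gg_pullback _,
    Groth.Agent.GGDesc.gg_of_gg_pullback _ hsq F⟩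

end Groth.Agent.S1646
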