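import Groth.Statements.S16460
import Mathlib
-- import your own Groth.Agent.* helpers here

set_option autoImplicit false
universe u
open AdicGr

namespace Groth.Agent.S16460

/-- Let A be a commutative ring with a decreasing filtration by ideals A = F₀ ⊇ F₁ ⊇ F₂ ⊇ … satisfying
F_m·F_n ⊆ F_{m+n}, and assume the filtration is separated, ⋂ₙ Fₙ = 0. If the associated graded ring
⊕ₙ Fₙ/Fₙ₊₁ is an integral domain, then A is an integral domain. -/
theorem result (A : Type u) [CommRing A]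
    (𝓕 : FiltBl.IdealFiltration A) (hsep : ⨅ n, 𝓕.F n = ⊥) [IsDomain (AssocGr.GrRing 𝓕)] :
    IsDomain A := by

  have key : ∀ a : A, a ≠ 0 → ∃ n, a ∈ 𝓕.F n ∧ a ∉ 𝓕.F (n+1) := by
    intro a ha
    have h1 : ∃ k, a ∉ 𝓕.F k := by
      by_contra h
      push_neg at h
      apply ha
      have : a ∈ ⨅ n, 𝓕.F n := by
        rw [Ideal.mem_iInf]
        exact h
      rw [hsep] at this
      exact this
    classical
    have hk := Nat.find_spec h1
    have hk0 : Nat.find h1 ≠ 0 := by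
      intro h0
      rw [h0, 𝓕.zero_eq] at hk
      exact hk trivial
    obtain ⟨n, hn⟩ := Nat.exists_eq_succ_of_ne_zero hk0
    refine ⟨n, ?_, ?_⟩
    · by_contra hcon
      exact Nat.find_min h1 (m := n) (by omega) hcon
    · rw [← Nat.succ_eq_add_one, ← hn]; exact hk
  have hnt : Nontrivial A := by
    by_contra h
    rw [not_nontrivial_iff_subsingleton] at h
    have : (1 : AssocGr.GrRing 𝓕) = 0 := by
      rw [← map_one (algebraMap A (AssocGr.GrRing 𝓕)), Subsingleton.elim (1:A) 0, map_zero]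
    exact one_ne_zero this
  have : NoZeroDivisors A := by
    constructor
    intro a b hab
    by_contra hcon
    push_neg at hcon
    obtain ⟨m, ham, ham'⟩ := key a hcon.1
    obtain ⟨n, hbn, hbn'⟩ := key b hcon.2
    have h1 : (AssocGr.inDeg 𝓕 m ⟨a, ham⟩ : AssocGr.GrRing 𝓕) ≠ 0 := by
      intro h
      apply ham'
      exact (AssocGr.inDeg_eq_zero_iff 𝓕 m ⟨a, ham⟩).1 (Subtype.ext h)
    have h2 : (AssocGr.inDeg 𝓕 n ⟨b, hbn⟩ : AssocGr.GrRing 𝓕) ≠ 0 := by
      intro h
      apply hbn'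
      exact (AssocGr.inDeg_eq_zero_iff 𝓕 n ⟨b, hbn⟩).1 (Subtype.ext h)
    have h3 := mul_ne_zero h1 h2
    rw [AssocGr.coe_inDeg_mul] at h3
    apply h3
    have h4 : (⟨a * b, 𝓕.mul_le m n (Ideal.mul_mem_mul ham hbn)⟩ : 𝓕.F (m+n)) = 0 := Subtype.ext hab
    rw [h4, map_zero]; rfl
  exact NoZeroDivisors.to_isDomain A

end Groth.Agent.S16460
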