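import Groth.Statements.S16500
import Mathlib.Algebra.Polynomial.Reverse
import Mathlib.Tactic

set_option autoImplicit false
universe u
open Curves

namespace Groth.Agent.S16500

/-- Let k be a field of odd characteristic p, g ≤ p a natural number and f ∈ k[x] of degree at most 2g +
2. Let F be f with its coefficients reversed in degrees 0, …, 2g + 2, i.e. F(X) = X^(2g+2) f(1/X)
(Mathlib's reflect (2g+2) f), and write f^((p-1)/2) = Σ_l c_l x^l and F^((p-1)/2) = Σ_l C_l X^l.
Then C_{ip-j} = c_{(g+1-i)p-(g+1-j)} for all i, j = 1, …, g; that is, the g × g Cartier–Manin matrix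
of F is that of f with the order of both rows and columns reversed (below the indices run over Fin
g, the entry at (i, j) being the coefficient of degree (i+1)p-(j+1), and reversal is Fin.rev). In
particular the two matrices have the same determinant. (The source applies this to f with f(0) = 0,
separable of degree 2g + 2 over a perfect field, so that F has odd degree 2g + 1; the identity uses
none of that.) -/
theorem result (k : Type u) [Field k] (p : ℕ) [Fact p.Prime] (hp : p ≠ 2) [CharP k p]
    (g : ℕ) (hg : g ≤ p) (f : Polynomial k) (hf : f.natDegree ≤ 2 * g + 2) :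
    (Matrix.of fun i j : Fin g =>
        ((Polynomial.reflect (2 * g + 2) f) ^ ((p - 1) / 2)).coeff (((i : ℕ) + 1) * p - ((j : ℕ) + 1))) =
      Matrix.of fun i j : Fin g =>
        (f ^ ((p - 1) / 2)).coeff (((Fin.rev i : ℕ) + 1) * p - ((Fin.rev j : ℕ) + 1)) := by
  have hp2 : p % 2 = 1 := (Fact.out : p.Prime).eq_two_or_odd.resolve_left hp
  obtain ⟨h, rfl⟩ : ∃ h, p = 2 * h + 1 := ⟨p / 2, by omega⟩
  have hh : (2 * h + 1 - 1) / 2 = h := by omega
  rw [hh]
  have hpow : ∀ m : ℕ, (Polynomial.reflect (2 * g + 2) f) ^ m =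
      Polynomial.reflect (m * (2 * g + 2)) (f ^ m) := by
    intro m
    induction m with
    | zero => simp
    | succ m ih =>
      rw [pow_succ, pow_succ, ih, add_mul, one_mul]
      exact (Polynomial.reflect_mul _ _ (Polynomial.natDegree_pow_le_of_le m hf) hf).symm
  rw [hpow]
  ext i j
  simp only [Matrix.of_apply]
  rw [Polynomial.coeff_reflect, Fin.val_rev, Fin.val_rev]
  congr 1
  have hi := i.2
  have hj := j.2
  obtain ⟨k, hk⟩ := Nat.exists_eq_add_of_lt hi
  have e1 : g - ((i : ℕ) + 1) + 1 = k + 1 := by omega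
  rw [e1]
  have h1 : ((i : ℕ) + 1) * (2 * h + 1) = 2 * ((i : ℕ) * h) + 2 * h + i + 1 := by ring
  have h2 : (k + 1) * (2 * h + 1) = 2 * (k * h) + 2 * h + k + 1 := by ring
  have h3 : h * (2 * g + 2) = 2 * ((i : ℕ) * h) + 2 * (k * h) + 4 * h := by
    conv_lhs => rw [hk]
    ring
  rw [h1, h2, h3]
  have hle : 2 * ((i : ℕ) * h) + 2 * h + i + 1 - ((j : ℕ) + 1) ≤
      2 * ((i : ℕ) * h) + 2 * (k * h) + 4 * h := by
    have : k ≤ 2 * (k * h) + 2 * h + 1 := by
      rcases Nat.eq_zero_or_pos h with h0 | hpos
      · subst h0; omega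
      · have : k ≤ k * h := Nat.le_mul_of_pos_right k hpos
        omega
    omega
  rw [Polynomial.revAt_le hle]
  omega

end Groth.Agent.S16500
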