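import Groth.Statements.S16517
import Mathlib
import Groth.Agent.Lib.Link1_helper9
import Groth.Agent.Lib.FlatRegSeq_helper5
import Groth.Agent.Lib.FiniteFree_helper5

set_option autoImplicit false
universe u
open CAlg

namespace Groth.Agent.S16517

/-- Let R be a regular local ring, A a Gorenstein local ring which is a flat R-algebra through a local
homomorphism, I ⊂ A an ideal of codimension zero (the Krull dimension of A/I equals that of A) with
A/I Cohen–Macaulay, and J = (0 : I) the annihilator of I in A (the ideal of the residual subscheme).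
Then A/I and A/J are flat over R. -/
theorem result (R A : Type u)
    [CommRing R] [IsRegularLocalRing R] [CommRing A] [Algebra R A] [LocCoh.IsGorensteinLocalRing A]
    [IsLocalHom (algebraMap R A)] [Module.Flat R A] (I : Ideal A)
    (hI : ringKrullDim (A ⧸ I) = ringKrullDim A) [LocCoh.IsCohenMacaulayLocalRing (A ⧸ I)] :
    Module.Flat R (A ⧸ I) ∧ Module.Flat R (A ⧸ (Submodule.annihilator I)) := by
  obtain ⟨l, hreg, hspan, hlen⟩ := Groth.Agent.FiniteFree.exists_regular_sop R
  have hregA : RingTheory.Sequence.IsWeaklyRegular A (l.map (algebraMap R A)) :=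
    hreg.toIsWeaklyRegular.of_flat
  have hmem : ∀ x ∈ l.map (algebraMap R A), x ∈ IsLocalRing.maximalIdeal A := by
    intro x hx
    obtain ⟨r, hr, rfl⟩ := List.mem_map.mp hx
    apply Groth.Agent.DepthLib.algebraMap_mem_maximalIdeal R A
    rw [← hspan]
    exact Ideal.subset_span hr
  obtain ⟨h1, h2, -, -⟩ := Groth.Agent.Link9.linkage_regular A I hI _ hregA hmem
  constructor
  · exact Groth.Agent.FlatRegSeq.flat_of_isWeaklyRegular (B := A) (A ⧸ I) l hspan
      ((RingTheory.Sequence.isWeaklyRegular_map_algebraMap_iff A (A ⧸ I) l).mp h1)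
  · exact Groth.Agent.FlatRegSeq.flat_of_isWeaklyRegular (B := A) (A ⧸ Submodule.annihilator I) l
      hspan ((RingTheory.Sequence.isWeaklyRegular_map_algebraMap_iff A
        (A ⧸ Submodule.annihilator I) l).mp h2)

end Groth.Agent.S16517
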