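import Groth.Statements.S16577
import Groth.Agent.Lib.StrictHens8_helper3
import Groth.Agent.Lib.StrictHens6_lead
import Groth.Agent.Lib.IndEtaleLoc1_helper3
-- import your own Groth.Agent.* helpers here

set_option autoImplicit false
universe u
open Hensel
set_option maxSynthPendingDepth 3

namespace Groth.Agent.S16577

/-- Let A be a Noetherian local ring with a strict henselization S', and p a prime ideal of A. Call p an
immediate étale generization of the closed point when the strict henselization S'/pS' of A/p has an
irreducible component of dimension 1, that is, some minimal prime P over pS' has dim S'/P = 1. Then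
p is an immediate étale generization of the closed point if and only if p is the contraction of some
prime ideal P of S' with dim S'/P = 1. -/
theorem result
    (A : Type u) [CommRing A] [IsNoetherianRing A] [IsLocalRing A]
    (S' : Type u) [CommRing S'] [IsLocalRing S'] [Algebra A S'] [IsLocalHom (algebraMap A S')]
    [Hensel.IsStrictHenselization A S']
    (p : Ideal A) [p.IsPrime] :
    (∃ P ∈ (p.map (algebraMap A S')).minimalPrimes, ringKrullDim (S' ⧸ P) = 1) ↔
    (∃ P : Ideal S', P.IsPrime ∧ P.comap (algebraMap A S') = p ∧ ringKrullDim (S' ⧸ P) = 1) := by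
  haveI : Module.FaithfullyFlat A S' :=
    Groth.Agent.Lib.StrictHens.faithfullyFlat_of_isStrictHenselization S'
  have hind : EtPBC.IsIndEtale A S' :=
    Groth.Agent.Lib.StrictHens.isIndEtale_of_isStrictHenselization S'
  have key : ∀ P ∈ (p.map (algebraMap A S')).minimalPrimes, P.comap (algebraMap A S') = p := by
    intro P hP
    haveI hPp : P.IsPrime := hP.1.1
    have hle : p ≤ P.comap (algebraMap A S') := Ideal.map_le_iff_le_comap.mp hP.1.2
    haveI : P.LiesOver (P.comap (algebraMap A S')) := ⟨rfl⟩
    obtain ⟨P', hP'le, hP'p, hP'o⟩ := Ideal.exists_ideal_le_liesOver_of_le (p := p)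
      (q := P.comap (algebraMap A S')) P hle
    have h1 : p.map (algebraMap A S') ≤ P' := by
      rw [Ideal.map_le_iff_le_comap, hP'o.over]
    have h2 : P ≤ P' := hP.2 ⟨hP'p, h1⟩ hP'le
    have h3 : P' = P := le_antisymm hP'le h2
    rw [← h3]
    exact hP'o.over.symm
  constructor
  · rintro ⟨P, hP, hdim⟩
    exact ⟨P, hP.1.1, key P hP, hdim⟩
  · rintro ⟨P, hPp, hPc, hdim⟩
    have hle : p.map (algebraMap A S') ≤ P := by
      rw [Ideal.map_le_iff_le_comap, hPc]
    obtain ⟨P₀, hP₀, hP₀le⟩ := Ideal.exists_minimalPrimes_le hle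
    haveI := hP₀.1.1
    have heq : P₀ = P := Groth.Agent.Lib.IndEtaleH3.prime_eq_of_le_of_isIndEtale hind P₀ P hP₀le
      (by rw [key P₀ hP₀, hPc])
    exact ⟨P, heq ▸ hP₀, hdim⟩

end Groth.Agent.S16577
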