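import Groth.Statements.S16644
import Mathlib

set_option autoImplicit false
open QuadZ

namespace Groth.Agent.S16644

/-- For odd n, the discriminant of the universal quadratic form Σ_{i ≤ j} A_{ij} x_i x_j in n variables
(variables A_{ij} indexed by unordered pairs), i.e. the determinant of the symmetric matrix with
diagonal entries 2 A_{ii} and off-diagonal entries A_{ij}, is divisible by 2 in the integral
polynomial ring ℤ[A_{ij}] (so the half-discriminant is an integral polynomial). -/
theorem result (n : ℕ) (hn : Odd n) :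
    (2 : MvPolynomial (Sym2 (Fin n)) ℤ) ∣
      (Matrix.of fun i j : Fin n =>
        if i = j then 2 * MvPolynomial.X (R := ℤ) (σ := Sym2 (Fin n)) (Sym2.mk i j)
        else MvPolynomial.X (R := ℤ) (σ := Sym2 (Fin n)) (Sym2.mk i j)).det := by
  classical
  have h2 : (2 : MvPolynomial (Sym2 (Fin n)) ℤ) = MvPolynomial.C ((2 : ℕ) : ℤ) := by
    simp
  suffices hsuff : MvPolynomial.C ((2 : ℕ) : ℤ) ∣ (Matrix.of fun i j : Fin n =>
        if i = j then 2 * MvPolynomial.X (R := ℤ) (σ := Sym2 (Fin n)) (Sym2.mk i j)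
        else MvPolynomial.X (R := ℤ) (σ := Sym2 (Fin n)) (Sym2.mk i j)).det by
    have h2' : MvPolynomial.C ((2 : ℕ) : ℤ) = (2 : MvPolynomial (Sym2 (Fin n)) ℤ) := h2.symm
    rwa [h2'] at hsuff
  rw [MvPolynomial.C_dvd_iff_zmod, RingHom.map_det]
  -- the reduced matrix
  set N : Matrix (Fin n) (Fin n) (MvPolynomial (Sym2 (Fin n)) (ZMod 2)) :=
    (MvPolynomial.map (Int.castRingHom (ZMod 2))).mapMatrix
      (Matrix.of fun i j : Fin n =>
        if i = j then 2 * MvPolynomial.X (R := ℤ) (σ := Sym2 (Fin n)) (Sym2.mk i j)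
        else MvPolynomial.X (R := ℤ) (σ := Sym2 (Fin n)) (Sym2.mk i j)) with hN
  have hchar : ∀ x : MvPolynomial (Sym2 (Fin n)) (ZMod 2), x + x = 0 := by
    intro x
    have : (2 : MvPolynomial (Sym2 (Fin n)) (ZMod 2)) = 0 := by
      have h : (2 : ZMod 2) = 0 := by decide
      rw [← map_ofNat (MvPolynomial.C (σ := Sym2 (Fin n)) (R := ZMod 2)) 2, h, map_zero]
    rw [← two_mul, this, zero_mul]
  have hNdiag : ∀ i, N i i = 0 := by
    intro i
    simp only [hN, RingHom.mapMatrix_apply, Matrix.map_apply, Matrix.of_apply, if_true, map_mul,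
      MvPolynomial.map_X]
    have : (MvPolynomial.map (Int.castRingHom (ZMod 2))) (2 : MvPolynomial (Sym2 (Fin n)) ℤ) = 0 := by
      rw [map_ofNat]
      have h : (2 : ZMod 2) = 0 := by decide
      rw [← map_ofNat (MvPolynomial.C (σ := Sym2 (Fin n)) (R := ZMod 2)) 2, h, map_zero]
    rw [this, zero_mul]
  have hNsymm : ∀ i j, N i j = N j i := by
    intro i j
    by_cases hij : i = j
    · rw [hij]
    · have hji : ¬ j = i := fun h => hij h.symm
      simp only [hN, RingHom.mapMatrix_apply, Matrix.map_apply, Matrix.of_apply, if_neg hij,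
        if_neg hji, MvPolynomial.map_X, Sym2.eq_swap]
  rw [Matrix.det_apply]
  apply Finset.sum_ninvolution (fun σ : Equiv.Perm (Fin n) => σ⁻¹)
  · intro σ
    have : Equiv.Perm.sign σ⁻¹ • ∏ i, N (σ⁻¹ i) i = Equiv.Perm.sign σ • ∏ i, N (σ i) i := by
      rw [Equiv.Perm.sign_inv]
      congr 1
      rw [← Equiv.prod_comp σ]
      refine Finset.prod_congr rfl fun i _ => ?_
      rw [Equiv.Perm.inv_def, Equiv.symm_apply_apply, hNsymm]
    rw [this]
    exact hchar _
  · intro σ hσ hinv
    apply hσ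
    -- fixed point
    obtain ⟨F, hF⟩ : ∃ F : Function.End (Fin n), ∀ i, F i = σ i := ⟨⇑σ, fun _ => rfl⟩
    have hsq : F ^ 2 ^ 1 = 1 := by
      rw [pow_one, sq]
      funext i
      change F (F i) = i
      rw [hF, hF]
      calc σ (σ i) = σ⁻¹ (σ i) := by rw [hinv]
        _ = i := by rw [Equiv.Perm.inv_def, Equiv.symm_apply_apply]
    haveI : Fact (Nat.Prime 2) := ⟨Nat.prime_two⟩
    have hmod := Equiv.Perm.card_fixedPoints_modEq (f := F) hsq
    rw [Fintype.card_fin] at hmod
    have hpos : Fintype.card (Function.fixedPoints F) ≠ 0 := by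
      intro h0
      rw [h0] at hmod
      have := Nat.odd_iff.mp hn
      have h2 : n % 2 = 0 := hmod
      omega
    obtain ⟨⟨i, hi⟩⟩ := Fintype.card_pos_iff.mp (Nat.pos_of_ne_zero hpos)
    have hi' : σ i = i := by rw [← hF]; exact hi
    rw [Finset.prod_eq_zero (Finset.mem_univ i) (by rw [hi', hNdiag]), smul_zero]
  · intro σ; exact Finset.mem_univ _
  · intro σ; exact inv_inv σ

end Groth.Agent.S16644
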