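import Groth.Statements.S1665
import Mathlib
import Groth.Agent.Lib.KrullAkizuki6_helper6
import Groth.Agent.S6370
-- import your own Groth.Agent.* helpers here

set_option autoImplicit false
universe u
open Variety

namespace Groth.Agent.S1665

/-- Let B be a Noetherian domain of dimension one with finitely many maximal ideals and B' its integral
closure in its fraction field. Then B' is a Dedekind domain with finitely many maximal ideals, and
for every nonzero x in the Jacobson radical of B' and every y ∈ B' some power x^n satisfies x^n y ∈
B. -/
theorem result (B : Type u) [CommRing B] [IsDomain B] [IsNoetherianRing B]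
    (hdim : ringKrullDim B = 1) (hsl : Finite (MaximalSpectrum B)) :
    IsDedekindDomain (integralClosure B (FractionRing B)) ∧ Finite (MaximalSpectrum (integralClosure B (FractionRing B))) ∧
      ∀ x : integralClosure B (FractionRing B), x ≠ 0 → x ∈ (⊥ : Ideal (integralClosure B (FractionRing B))).jacobson →
        ∀ y : integralClosure B (FractionRing B), ∃ n : ℕ, (x ^ n * y).1 ∈ (algebraMap B (FractionRing B)).range := by

  have hdim' : ringKrullDim B ≤ 1 := le_of_eq hdim
  obtain ⟨hDed, hsurj, hfib, -⟩ := Groth.Agent.S6370.result B (FractionRing B) (FractionRing B)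
    (integralClosure B (FractionRing B)) hdim
  haveI := hDed
  refine ⟨hDed, ?_, ?_⟩
  · haveI := hsl
    have hfin : (⋃ m : MaximalSpectrum B, PrimeSpectrum.comap (algebraMap B
        (integralClosure B (FractionRing B))) ⁻¹' {m.toPrimeSpectrum}).Finite :=
      Set.finite_iUnion fun m => hfib m.toPrimeSpectrum
    haveI := hfin.to_subtype
    let φ : MaximalSpectrum (integralClosure B (FractionRing B)) →
        ↥(⋃ m : MaximalSpectrum B, PrimeSpectrum.comap (algebraMap B
          (integralClosure B (FractionRing B))) ⁻¹' {m.toPrimeSpectrum}) := fun Q =>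
      ⟨Q.toPrimeSpectrum, by
        rw [Set.mem_iUnion]
        haveI : Q.asIdeal.IsMaximal := Q.isMaximal
        have hmax : (Q.asIdeal.comap (algebraMap B (integralClosure B (FractionRing B)))).IsMaximal :=
          Ideal.isMaximal_comap_of_isIntegral_of_isMaximal Q.asIdeal
        refine ⟨⟨_, hmax⟩, ?_⟩
        rw [Set.mem_preimage, Set.mem_singleton_iff]
        rfl⟩
    have hφ : Function.Injective φ := by
      intro Q Q' h
      have h1 : Q.toPrimeSpectrum = Q'.toPrimeSpectrum := congrArg Subtype.val h
      have h2 : Q.asIdeal = Q'.asIdeal := congrArg PrimeSpectrum.asIdeal h1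
      exact MaximalSpectrum.ext h2
    exact Finite.of_injective φ hφ
  · intro x _ hxjac y
    apply Groth.Agent.Lib.KA.exists_pow_mul_mem_range (FractionRing B) hdim' x y
    intro P hP hP0
    have hPmax : P.IsMaximal := hP.isMaximal hP0
    rw [Ideal.jacobson, Ideal.mem_sInf] at hxjac
    exact hxjac ⟨bot_le, hPmax⟩

end Groth.Agent.S1665
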