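import Groth.Statements.S16667
import Mathlib
import Groth.Agent.Lib.DepthSkQuot_helper5
import Groth.Agent.Lib.DepthRefl_helper5
import Groth.Agent.Lib.DepthSk_helper5

set_option autoImplicit false
universe u
open CAlg

namespace Groth.Agent.S16667

open scoped Pointwise

/-- Let A be a Noetherian integral domain satisfying Serre's condition (S_2), with fraction field K. An
element of K which lies in the localization A_p for every prime p of A with depth(A_p) = 1 lies in
A. -/
theorem result {A : Type u} [CommRing A] [IsDomain A]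
    [IsNoetherianRing A] (hS2 : LocCoh.HasSk 2 A A) (x : FractionRing A)
    (hx : ∀ (p : Ideal A) [p.IsPrime],
      LocCoh.depth (Localization.AtPrime p) (Localization.AtPrime p) = 1 →
        x ∈ Set.range (algebraMap (Localization.AtPrime p) (FractionRing A))) :
    x ∈ Set.range (algebraMap A (FractionRing A)) := by
  classical
  obtain ⟨a, b, rfl⟩ := IsLocalization.exists_mk'_eq (nonZeroDivisors A) x
  by_contra hcon
  have hb0 : (b : A) ≠ 0 := nonZeroDivisors.ne_zero b.2
  have hab : a ∉ Ideal.span {(b : A)} := by
    intro h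
    obtain ⟨c, hc⟩ := Ideal.mem_span_singleton'.mp h
    apply hcon
    refine ⟨c, ?_⟩
    rw [IsLocalization.eq_mk'_iff_mul_eq, ← map_mul, hc]
  have hmem : ∀ z : A, Submodule.mkQ ((b : A) • (⊤ : Submodule A A)) z = 0 ↔
      z ∈ Ideal.span {(b : A)} := by
    intro z
    rw [Submodule.mkQ_apply, Submodule.Quotient.mk_eq_zero]
    constructor
    · intro h
      obtain ⟨m', -, hm'⟩ := (Submodule.mem_smul_pointwise_iff_exists _ _ _).1 h
      exact Ideal.mem_span_singleton'.mpr ⟨m', by rw [mul_comm]; exact hm'⟩
    · intro h
      obtain ⟨m', hm'⟩ := Ideal.mem_span_singleton'.mp h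
      rw [← hm', mul_comm]
      exact Submodule.smul_mem_pointwise_smul _ _ _ Submodule.mem_top
  have hne : Submodule.mkQ ((b : A) • (⊤ : Submodule A A)) a ≠ 0 := fun h => hab ((hmem a).mp h)
  obtain ⟨P, hP, hle⟩ := exists_le_isAssociatedPrime_of_isNoetherianRing A _ hne
  haveI : P.IsPrime := hP.isPrime
  have hann : ∀ s : A, s * a ∈ Ideal.span {(b : A)} → s ∈ P := by
    intro s hs
    apply hle
    rw [Submodule.mem_colon_singleton, Submodule.mem_bot, ← map_smul, smul_eq_mul]
    exact (hmem _).mpr hs
  have hbP : (b : A) ∈ P := hann _ (Ideal.mul_mem_right _ _ (Ideal.mem_span_singleton_self _))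
  have h0 : ¬ 1 ≤ LocCoh.depth (Localization.AtPrime P)
      (LocalizedModule P.primeCompl (QuotSMulTop (b : A) A)) :=
    (Groth.Agent.DepthLib.not_one_le_depth_localization_iff _ P).mpr hP
  have hxmem : algebraMap A (Localization.AtPrime P) b ∈
      IsLocalRing.maximalIdeal (Localization.AtPrime P) :=
    (IsLocalization.AtPrime.to_map_mem_maximal_iff _ P _).2 hbP
  have hxreg : IsSMulRegular (LocalizedModule P.primeCompl A)
      (algebraMap A (Localization.AtPrime P) b) := by
    rw [Groth.Agent.DepthLib.isSMulRegular_localizedModule_iff]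
    intro m hm
    refine ⟨1, Submonoid.one_mem _, ?_⟩
    rw [one_smul]
    rw [smul_eq_mul] at hm
    exact (mul_eq_zero.mp hm).resolve_left hb0
  have hd := Groth.Agent.DepthLib.depth_add_one_of_exact (LocalizedModule P.primeCompl A)
    (LocalizedModule P.primeCompl (QuotSMulTop (b : A) A)) hxmem hxreg
    (LocalizedModule.map P.primeCompl (Submodule.mkQ _))
    (LocalizedModule.map_surjective _ _ (Submodule.mkQ_surjective _))
    (Groth.Agent.DepthLib.localized_smul_exact P.primeCompl A (b : A))
  have hz : LocCoh.depth (Localization.AtPrime P)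
      (LocalizedModule P.primeCompl (QuotSMulTop (b : A) A)) = 0 := by
    by_contra hne0
    exact h0 (Order.one_le_iff_pos.mpr (pos_iff_ne_zero.mpr hne0))
  rw [hz, zero_add, Groth.Agent.DepthLib.depth_locSelf] at hd
  obtain ⟨y, hy⟩ := hx P hd.symm
  obtain ⟨c, s, rfl⟩ := IsLocalization.exists_mk'_eq P.primeCompl y
  have hinj : Function.Injective (algebraMap A (FractionRing A)) :=
    IsFractionRing.injective A (FractionRing A)
  have hcs : c * b = a * s := by
    apply hinj
    have h1 : algebraMap (Localization.AtPrime P) (FractionRing A)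
        (IsLocalization.mk' (Localization.AtPrime P) c s) * algebraMap A (FractionRing A) s =
        algebraMap A (FractionRing A) c := by
      rw [IsScalarTower.algebraMap_apply A (Localization.AtPrime P) (FractionRing A) s,
        ← map_mul, IsLocalization.mk'_spec, ← IsScalarTower.algebraMap_apply]
    have h2 : IsLocalization.mk' (FractionRing A) a b * algebraMap A (FractionRing A) b =
        algebraMap A (FractionRing A) a := IsLocalization.mk'_spec _ _ _
    rw [map_mul, map_mul, ← h1, hy, ← h2]
    ring
  exact s.2 (hann s (Ideal.mem_span_singleton'.mpr ⟨c, by rw [hcs, mul_comm]⟩))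

end Groth.Agent.S16667
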