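import Groth.Statements.S16674
import Groth.Agent.Lib.CartEtale2_helper1

set_option autoImplicit false
universe u
open CartDual

namespace Groth.Agent.S16674

/-- Let k be a field of characteristic p > 0 and A a finite-dimensional commutative and cocommutative
Hopf algebra over k, the coordinate ring of a finite commutative k-group scheme G, with Cartier dual
the convolution Hopf algebra Hom_k(A, k). Then G is étale-étale, i.e. both A and its dual are étale
k-algebras, if and only if p does not divide the rank dim_k A of G. -/
theorem result (k : Type u) [Field k] (p : ℕ) [Fact p.Prime] [CharP k p]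
    (A : Type u) [CommRing A] [HopfAlgebra k A] [Coalgebra.IsCocomm k A] [FiniteDimensional k A] :
    (Algebra.Etale k A ∧ Algebra.Etale k (CartDual.D k A)) ↔ ¬ p ∣ Module.finrank k A := by
  constructor
  · rintro ⟨h1, h2⟩
    haveI := h1
    haveI : Algebra.Etale k (WithConv (A →ₗ[k] k)) := h2
    exact CartEt2H1.not_dvd_of_etale (AlgebraicClosure k) p
  · intro h
    have hdim : (Module.finrank k A : k) ≠ 0 := by
      rw [Ne, CharP.cast_eq_zero_iff k p]; exact h
    refine ⟨HopfTraceH1.main k A hdim, ?_⟩
    have hfr : Module.finrank k (CartDual.D k A) = Module.finrank k A := by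
      rw [(CartDual.toDual k A).finrank_eq, Subspace.dual_finrank_eq]
    exact HopfTraceH1.main k (CartDual.D k A) (by rw [hfr]; exact hdim)

end Groth.Agent.S16674
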