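import Groth.Statements.S16685
import Groth.Agent.Lib.HeightOne_helper9

set_option autoImplicit false
universe u
open HopfRep

open HeightOne9 HopfKaehler9
namespace Groth.Agent.S16685

/-- The description of the kernel of Frobenius established in the course of the proof. Let k be a field
of characteristic p > 0 and A a finite-dimensional commutative Hopf algebra over k which is a local
ring, the coordinate ring of a connected finite k-group scheme G; let I be the augmentation ideal
(the kernel of the counit), d = dim_k I/I² the dimension of the tangent space at the identity, and J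
⊆ A the ideal generated by the p-th powers of the elements of I, so that A/J is the coordinate ring
of the kernel G[F] of the relative Frobenius. Then A/J is isomorphic as a k-algebra to k[X_1, …,
X_d]/(X_1^p, …, X_d^p) (existence of an isomorphism; it depends on the choice of elements of I
lifting a basis of I/I²); in particular G[F] has rank p^d. -/
theorem result (k : Type u) [Field k] (p : ℕ) [Fact p.Prime] [CharP k p]
    (A : Type u) [CommRing A] [HopfAlgebra k A] [FiniteDimensional k A] [IsLocalRing A]
    (d : ℕ) (hd : Module.finrank k (RingHom.ker (Bialgebra.counitAlgHom k A).toRingHom).Cotangent = d) :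
    Nonempty ((A ⧸ Ideal.span ((fun a : A => a ^ p) '' (RingHom.ker (Bialgebra.counitAlgHom k A).toRingHom : Set A))) ≃ₐ[k]
      (MvPolynomial (Fin d) k ⧸ Ideal.span (Set.range fun i : Fin d => (MvPolynomial.X i : MvPolynomial (Fin d) k) ^ p))) := by
  classical
  set J : Ideal A := Ideal.span ((fun a : A => a ^ p) ''
    (RingHom.ker (Bialgebra.counitAlgHom k A).toRingHom : Set A)) with hJ
  have hp : p.Prime := Fact.out
  have hmemI : ∀ a : A, a ∈ (RingHom.ker (Bialgebra.counitAlgHom k A).toRingHom) ↔
      Coalgebra.counit (R := k) a = 0 := fun a => RingHom.mem_ker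
  -- the augmentation ideal is the maximal ideal
  have hmax : (augI k A).IsMaximal :=
    RingHom.ker_isMaximal_of_surjective (Bialgebra.counitAlgHom k A)
      (fun c => ⟨algebraMap k A c, Bialgebra.counit_algebraMap c⟩)
  have hI : augI k A = IsLocalRing.maximalIdeal A := IsLocalRing.eq_maximalIdeal hmax
  have hU : ∀ a : A, Coalgebra.counit (R := k) a = 1 → IsUnit a := by
    intro a ha
    rw [← IsLocalRing.notMem_maximalIdeal, ← hI, mem_augIdeal_iff, ha]
    exact one_ne_zero
  have hgenJ : ∀ a : A, Coalgebra.counit (R := k) a = 0 → a ^ p ∈ J := fun a ha =>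
    Ideal.subset_span ⟨a, (hmemI a).mpr ha, rfl⟩
  have hεJ : ∀ y ∈ J, Coalgebra.counit (R := k) y = 0 := by
    have hle : J ≤ augI k A := by
      rw [hJ, Ideal.span_le]
      rintro _ ⟨a, ha, rfl⟩
      show a ^ p ∈ augI k A
      rw [mem_augIdeal_iff, Bialgebra.counit_pow, (hmemI a).mp ha, zero_pow hp.ne_zero]
    intro y hy
    exact (mem_augIdeal_iff k A y).mp (hle hy)
  have hDJ : ∀ (D : Derivation k A A), ∀ y ∈ J, D y ∈ J := by
    intro D y hy
    rw [hJ] at hy
    induction hy using Submodule.span_induction with
    | mem z hz =>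
      obtain ⟨a, _, rfl⟩ := hz
      show D (a ^ p) ∈ J
      rw [Derivation.leibniz_pow, ← Nat.cast_smul_eq_nsmul k, CharP.cast_eq_zero k p, zero_smul]
      exact Ideal.zero_mem _
    | zero => rw [map_zero]; exact Ideal.zero_mem _
    | add y z _ _ hy hz => rw [map_add]; exact Ideal.add_mem _ hy hz
    | smul r y hy' hy =>
      rw [smul_eq_mul, Derivation.leibniz, smul_eq_mul, smul_eq_mul]
      exact Ideal.add_mem _ (Ideal.mul_mem_left _ _ hy)
        (Ideal.mul_mem_right _ _ (by rw [hJ]; exact hy'))
  have hnil : ∃ m : ℕ, (augI k A) ^ m ≤ J := by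
    haveI : IsNoetherianRing A := isNoetherian_of_tower k (inferInstance : IsNoetherian k A)
    apply Ideal.exists_pow_le_of_le_radical_of_fg
    · intro a ha
      exact ⟨p, hgenJ a ((mem_augIdeal_iff k A a).mp ha)⟩
    · exact IsNoetherian.noetherian _
  obtain ⟨b, x, hx0, hxb⟩ := exists_data k A
  have hd' : Module.finrank k (Cot k A) = d := by
    rw [finrank_cot k A]
    exact hd
  subst hd'
  have hxJ : ∀ i, x i ^ p ∈ J := fun i => hgenJ _ (hx0 i)
  exact nonempty_algEquiv_quot k A b p hU x hx0 hxb J hεJ hDJ hxJ hnil

end Groth.Agent.S16685
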