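import Groth.Statements.S16688
import Groth.Agent.Lib.Antipode_helper9

set_option autoImplicit false
universe u v w
open TensorProduct
open ComodSub

namespace Groth.Agent.S16688

/-- Let `k` be a commutative ring, `A` a commutative Hopf algebra over `k` with antipode `S`, and `M` a
`k`-module with a left `A`-comodule structure `m ↦ Σ m₋₁ ⊗ m₀`. Then the map `M → M ⊗ A`, `m ↦ Σ m₀
⊗ S(m₋₁)`, is coassociative and counital: it is the coaction of a right `A`-comodule structure on
`M` (a right structure is determined by its coaction, so this structure is unique). -/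
theorem result (k : Type u) [CommRing k]
    (A : Type v) [CommRing A] [HopfAlgebra k A]
    (M : Type w) [AddCommGroup M] [Module k M] (l : ComodSub.LComod k A M) :
    ∃ c : HopfRep.Comod k A M, c.coact = ComodSub.rcoactOfLeft l := by
  -- abbreviations
  have hρ : ∀ v : M, ComodSub.rcoactOfLeft l v =
      TensorProduct.comm k A M ((HopfAlgebraStruct.antipode (R := k) (A := A)).rTensor M (l.coact v)) :=
    fun v => rfl
  -- Θ : (A ⊗ A) ⊗ M → M ⊗ (A ⊗ A), (a ⊗ b) ⊗ v ↦ v ⊗ (S b ⊗ S a)
  let Θ : (A ⊗[k] A) ⊗[k] M →ₗ[k] M ⊗[k] (A ⊗[k] A) :=
    (TensorProduct.comm k (A ⊗[k] A) M).toLinearMap ∘ₗ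
      ((TensorProduct.map (HopfAlgebraStruct.antipode k (A := A)) (HopfAlgebraStruct.antipode k (A := A)) ∘ₗ
        (TensorProduct.comm k A A).toLinearMap).rTensor M)
  have claim1 : ∀ y : A ⊗[k] M,
      (CoalgebraStruct.comul (R := k) (A := A)).lTensor M
        (TensorProduct.comm k A M ((HopfAlgebraStruct.antipode (R := k) (A := A)).rTensor M y)) =
      Θ ((CoalgebraStruct.comul (R := k) (A := A)).rTensor M y) := by
    intro y
    induction y using TensorProduct.induction_on with
    | zero => simp
    | add x y hx hy => simp only [map_add, hx, hy]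
    | tmul a v =>
      simp only [Θ, LinearMap.rTensor_tmul, TensorProduct.comm_tmul, LinearMap.lTensor_tmul,
        LinearMap.comp_apply, LinearEquiv.coe_coe]
      rw [Groth.Agent.Lib.Antipode_helper9.comul_antipode]
  have claim2 : ∀ y : A ⊗[k] M,
      TensorProduct.assoc k M A A ((ComodSub.rcoactOfLeft l).rTensor A
        (TensorProduct.comm k A M ((HopfAlgebraStruct.antipode (R := k) (A := A)).rTensor M y))) =
      Θ ((TensorProduct.assoc k A A M).symm (l.coact.lTensor A y)) := by
    intro y
    induction y using TensorProduct.induction_on with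
    | zero => simp
    | add x y hx hy => simp only [map_add, hx, hy]
    | tmul a w =>
      simp only [LinearMap.rTensor_tmul, TensorProduct.comm_tmul, LinearMap.lTensor_tmul, hρ]
      generalize l.coact w = z
      induction z using TensorProduct.induction_on with
      | zero => simp
      | add x y hx hy => simp only [map_add, TensorProduct.add_tmul, TensorProduct.tmul_add, hx, hy]
      | tmul b u => simp [Θ]
  refine ⟨{ coact := ComodSub.rcoactOfLeft l, coassoc := ?_, counit_comp := ?_ }, rfl⟩
  · apply LinearMap.ext
    intro v
    simp only [LinearMap.comp_apply, LinearEquiv.coe_coe]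
    rw [hρ v, claim2, claim1]
    have hc := LinearMap.congr_fun l.coassoc v
    simp only [LinearMap.comp_apply, LinearEquiv.coe_coe] at hc
    rw [hc, LinearEquiv.symm_apply_apply]
  · apply LinearMap.ext
    intro v
    simp only [LinearMap.comp_apply, LinearMap.flip_apply, TensorProduct.mk_apply]
    have h3 : ∀ y : A ⊗[k] M,
        (CoalgebraStruct.counit (R := k) (A := A)).lTensor M
          (TensorProduct.comm k A M ((HopfAlgebraStruct.antipode (R := k) (A := A)).rTensor M y)) =
        TensorProduct.comm k k M ((CoalgebraStruct.counit (R := k) (A := A)).rTensor M y) := by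
      intro y
      induction y using TensorProduct.induction_on with
      | zero => simp
      | add x y hx hy => simp only [map_add, hx, hy]
      | tmul a w => simp
    rw [hρ v, h3]
    have hc := LinearMap.congr_fun l.counit_comp v
    simp only [LinearMap.comp_apply, TensorProduct.mk_apply] at hc
    rw [hc, TensorProduct.comm_tmul]

end Groth.Agent.S16688
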