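import Groth.Statements.S16707
import Mathlib
import Groth.Agent.Lib.ArtinFlat_lead

set_option autoImplicit false
universe u v
open CAlg

namespace Groth.Agent.S16707

open TensorProduct in
/-- Let A be a commutative ring, I a nilpotent ideal of A and f : M → N a homomorphism of A-modules with
N flat over A (no finiteness assumption on M or N). If the base change of f to A/I, that is M/IM →
N/IN, is bijective, then f is bijective. -/
theorem result (A : Type u) [CommRing A] (I : Ideal A)
    (hI : IsNilpotent I) (M N : Type v) [AddCommGroup M] [Module A M] [AddCommGroup N] [Module A N]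
    [Module.Flat A N] (f : M →ₗ[A] N)
    (hf : Function.Bijective (f.baseChange (A ⧸ I))) :
    Function.Bijective f := by
  obtain ⟨n, hn⟩ := hI
  have hf' : Function.Bijective (f.lTensor (A ⧸ I)) := by
    have h1 : (f.baseChange (A ⧸ I) : _ → _) = f.lTensor (A ⧸ I) :=
      LinearMap.baseChange_eq_ltensor ..
    rw [← h1]
    exact hf
  exact Groth.Agent.Lib.ArtinFlat.bijective_of_lTensor I n (by simpa using hn) f hf'

end Groth.Agent.S16707
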