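import Groth.Statements.S16708
import Groth.Agent.Lib.LinRed_helper9

set_option autoImplicit false
universe u
open HopfRep

open Groth.Agent.Lib.LinRed_helper9 Groth.Agent.Lib.Integral_helper9
namespace Groth.Agent.S16708

/-- Let G be a finite group and k a field in which the order of G is a nonzero element. Then the
constant group scheme of G over k is linearly reductive: every finite-dimensional comodule over its
coordinate Hopf algebra (the algebra of functions G → k with the Hopf structure of the constant
group) is semisimple, i.e. every subcomodule admits a complementary subcomodule. -/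
theorem result (k : Type u) [Field k] (G : Type u) [Group G]
    [Fintype G] [DecidableEq G] (hG : ((Fintype.card G : ℕ) : k) ≠ 0) :
    HopfRep.IsLinearlyReductive k (ConstGrp.F k G) := by
  classical
  have hcard : ((Fintype.card G : ℕ) : k) ≠ 0 := hG
  have hαe : ∀ a : G, (((Fintype.card G : ℕ) : k)⁻¹ • ∑ h : G, (ConstGrp.ev k h).toLinearMap :
      ConstGrp.F k G →ₗ[k] k) (ConstGrp.e k a) = ((Fintype.card G : ℕ) : k)⁻¹ := by
    intro a
    rw [LinearMap.smul_apply, LinearMap.sum_apply]
    have : ∑ h : G, (ConstGrp.ev k h).toLinearMap (ConstGrp.e k a) = 1 := by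
      simp only [AlgHom.toLinearMap_apply, ConstGrp.ev_apply, ConstGrp.e_apply]
      rw [Finset.sum_ite_eq']
      simp
    rw [this, smul_eq_mul, mul_one]
  have hint : ∀ f : ConstGrp.F k G,
      Theta k (ConstGrp.F k G) (((Fintype.card G : ℕ) : k)⁻¹ • ∑ h : G, (ConstGrp.ev k h).toLinearMap)
        (CoalgebraStruct.comul (R := k) f) =
      (((Fintype.card G : ℕ) : k)⁻¹ • ∑ h : G, (ConstGrp.ev k h).toLinearMap :
        ConstGrp.F k G →ₗ[k] k) f • (1 : ConstGrp.F k G) := by
    have hL : Theta k (ConstGrp.F k G)
          (((Fintype.card G : ℕ) : k)⁻¹ • ∑ h : G, (ConstGrp.ev k h).toLinearMap) ∘ₗ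
          CoalgebraStruct.comul (R := k) (A := ConstGrp.F k G) =
        LinearMap.toSpanSingleton k (ConstGrp.F k G) 1 ∘ₗ
          (((Fintype.card G : ℕ) : k)⁻¹ • ∑ h : G, (ConstGrp.ev k h).toLinearMap) := by
      apply ConstGrp.linearMap_ext
      intro g
      rw [LinearMap.comp_apply, LinearMap.comp_apply, ConstGrp.comul_e, map_sum,
        LinearMap.toSpanSingleton_apply, hαe]
      simp only [Theta_tmul, hαe]
      rw [← Finset.smul_sum]
      congr 1
      rw [← ConstGrp.sum_e (R := k) (G := G)]
      exact Fintype.sum_equiv ((Equiv.inv G).trans (Equiv.mulRight g)) _ _ (fun a => rfl)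
    intro f
    exact LinearMap.congr_fun hL f
  have h1 : (((Fintype.card G : ℕ) : k)⁻¹ • ∑ h : G, (ConstGrp.ev k h).toLinearMap :
      ConstGrp.F k G →ₗ[k] k) 1 = 1 := by
    rw [LinearMap.smul_apply, LinearMap.sum_apply]
    simp only [AlgHom.toLinearMap_apply, map_one, Finset.sum_const, Finset.card_univ, nsmul_eq_mul,
      mul_one, smul_eq_mul]
    exact inv_mul_cancel₀ hcard
  intro V _ _ _ _
  exact isSemisimpleComod_of_integral k (ConstGrp.F k G) _ V hint h1

end Groth.Agent.S16708
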