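import Groth.Statements.S16737
import Mathlib
-- import your own Groth.Agent.* helpers here

set_option autoImplicit false
universe u v
open DeRham

namespace Groth.Agent.S16737

/-- The case of affine space over an affine base of characteristic p, in degree zero. Let p be a prime
and R a commutative ring with p = 0 in R. For a polynomial f over R in any set of variables t_i, the
Kähler differential df in Ω_{R[t]/R} vanishes if and only if f is a polynomial in the p-th powers of
the variables, f = g(t_i^p). Equivalently, the functions on affine space over R killed by the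
differential of the de Rham complex are exactly the functions on its Frobenius twist. (The published
computation is for finitely many variables over a noetherian base of characteristic p; the statement
here allows any commutative ring with p = 0 and any set of variables.) -/
theorem result (p : ℕ) [Fact p.Prime]
    (R : Type u) [CommRing R] [CharP R p] (σ : Type v) (f : MvPolynomial σ R) :
    KaehlerDifferential.D R (MvPolynomial σ R) f = 0 ↔
      ∃ g : MvPolynomial σ R, f = MvPolynomial.expand p g := by

  classical
  have hp : p.Prime := Fact.out
  have h1 : KaehlerDifferential.D R (MvPolynomial σ R) f = 0 ↔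
      ∀ i, MvPolynomial.pderiv i f = 0 := by
    constructor
    · intro h i
      rw [← KaehlerDifferential.mvPolynomialBasis_repr_apply, h, map_zero]; rfl
    · intro h
      apply (KaehlerDifferential.mvPolynomialBasis R σ).repr.injective
      rw [map_zero]
      refine Finsupp.ext fun i => ?_
      rw [KaehlerDifferential.mvPolynomialBasis_repr_apply, h i]; rfl
  rw [h1]
  constructor
  · intro h
    have hdvd : ∀ m ∈ f.support, ∀ i, p ∣ m i := by
      intro m hm i
      by_contra hnd
      have hmi : m i ≠ 0 := fun h0 => hnd (h0 ▸ dvd_zero p)
      have hm' : m = (m - Finsupp.single i 1) + Finsupp.single i 1 := by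
        refine Finsupp.ext fun j => ?_
        by_cases hj : j = i
        · subst hj
          simp only [Finsupp.coe_add, Finsupp.coe_tsub, Pi.add_apply, Pi.sub_apply,
            Finsupp.single_eq_same]
          omega
        · simp [Finsupp.single_apply, Ne.symm hj]
      have h2 := MvPolynomial.coeff_pderiv (i := i) f (m - Finsupp.single i 1)
      rw [h i, MvPolynomial.coeff_zero, ← hm'] at h2
      have h3 : (((m - Finsupp.single i 1 : σ →₀ ℕ) i : ℕ) : R) + 1 = ((m i : ℕ) : R) := by
        have : (m - Finsupp.single i 1 : σ →₀ ℕ) i + 1 = m i := by
          simp only [Finsupp.coe_tsub, Pi.sub_apply, Finsupp.single_eq_same]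
          omega
        rw [← this]; push_cast; rfl
      rw [h3] at h2
      have hu : IsUnit ((m i : ℕ) : R) := (CharP.isUnit_natCast_iff hp).2 hnd
      have h4 : MvPolynomial.coeff m f = 0 := (hu.mul_left_eq_zero).1 h2.symm
      exact (MvPolynomial.mem_support_iff.1 hm) h4
    refine ⟨∑ m ∈ f.support,
      MvPolynomial.monomial (m.mapRange (· / p) (Nat.zero_div p)) (f.coeff m), ?_⟩
    rw [map_sum]
    conv_lhs => rw [f.as_sum]
    refine Finset.sum_congr rfl fun m hm => ?_
    rw [MvPolynomial.expand_monomial]
    have e : p • Finsupp.mapRange (· / p) (Nat.zero_div p) m = m := by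
      refine Finsupp.ext fun i => ?_
      simp only [Finsupp.coe_smul, Pi.smul_apply, Finsupp.mapRange_apply, smul_eq_mul]
      exact Nat.mul_div_cancel' (hdvd m hm i)
    rw [e]
  · rintro ⟨g, rfl⟩ i
    ext m
    rw [MvPolynomial.coeff_pderiv, MvPolynomial.coeff_zero]
    by_cases hd : p ∣ (m + Finsupp.single i 1 : σ →₀ ℕ) i
    · have h5 : ((m i : ℕ) : R) + 1 = (((m + Finsupp.single i 1 : σ →₀ ℕ) i : ℕ) : R) := by
        simp
      rw [h5, (CharP.cast_eq_zero_iff R p _).2 hd, mul_zero]
    · rw [MvPolynomial.coeff_expand_of_not_dvd g hd, zero_mul]

end Groth.Agent.S16737
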