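import Groth.Statements.S16742
import Groth.Agent.Lib.LocalCrit14_helper9

set_option autoImplicit false
universe u
open CAlg

namespace Groth.Agent.S16742

/-- The equivalence in affine form, with flatness of the reduction in place of smoothness. Let p be a
prime, A~ a commutative ring flat over Z/p^2 and B~ an A~-algebra such that B~/pB~ is flat over
A~/pA~. Then B~ is flat over A~ if and only if every element of B~ killed by p is a multiple of p;
equivalently multiplication by p identifies B~/pB~ with pB~. (The published statement assumes the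
reduction smooth over A~/pA~ and the schemes noetherian, and phrases (b) as B~ being a lifting, that
is flat over A~; the statement here assumes only that the reduction is flat, where the equivalence
still holds by the local flatness criterion for the square-zero ideal generated by p.) -/
theorem result (p : ℕ) [Fact p.Prime]
    (Al : Type u) [CommRing Al] [Algebra (ZMod (p ^ 2)) Al] [Module.Flat (ZMod (p ^ 2)) Al]
    (Bl : Type u) [CommRing Bl] [Algebra Al Bl]
    (hB : Module.Flat (Al ⧸ Ideal.span {(p : Al)})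
      (Bl ⧸ (Ideal.span {(p : Al)}).map (algebraMap Al Bl))) :
    Module.Flat Al Bl ↔ ∀ b : Bl, (p : Bl) * b = 0 → b ∈ Ideal.span {(p : Bl)} := by
  have hp2 : ((p : ZMod (p ^ 2)) * (p : ZMod (p ^ 2))) = 0 := by
    rw [← Nat.cast_mul, ← pow_two]; exact ZMod.natCast_self _
  have ht : (p : Al) * (p : Al) = 0 := by
    have := congrArg (algebraMap (ZMod (p ^ 2)) Al) hp2
    simpa using this
  have hannZ : ∀ c : ZMod (p ^ 2), (p : ZMod (p ^ 2)) * c = 0 →
      c ∈ Ideal.span {(p : ZMod (p ^ 2))} := by
    intro c hc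
    haveI : NeZero (p ^ 2) := ⟨pow_ne_zero 2 (Fact.out : p.Prime).ne_zero⟩
    have hc' : ((p * c.val : ℕ) : ZMod (p ^ 2)) = 0 := by
      rw [Nat.cast_mul, ZMod.natCast_zmod_val]; exact hc
    rw [ZMod.natCast_eq_zero_iff] at hc'
    have hdvd : p ∣ c.val := by
      have hp := (Fact.out : p.Prime).pos
      have h3 : p * p ∣ p * c.val := (dvd_of_eq (pow_two p).symm).trans hc'
      exact Nat.dvd_of_mul_dvd_mul_left hp h3
    obtain ⟨d, hd⟩ := hdvd
    rw [Ideal.mem_span_singleton']
    refine ⟨(d : ZMod (p ^ 2)), ?_⟩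
    rw [← ZMod.natCast_zmod_val c, hd]
    push_cast
    ring
  have hannA : ∀ a : Al, (p : Al) * a = 0 → a ∈ Ideal.span {(p : Al)} := by
    intro a ha
    have h0 : (p : ZMod (p ^ 2)) • a = 0 := by
      rw [Algebra.smul_def, map_natCast]; exact ha
    obtain ⟨k, c, y, h1, h2⟩ :=
      Groth.Agent.Lib.LocalCrit14.exists_of_flat (p : ZMod (p ^ 2)) Al a h0
    rw [h1]
    refine Ideal.sum_mem _ fun j _ => ?_
    obtain ⟨d, hd⟩ := Ideal.mem_span_singleton'.mp (hannZ (c j) (h2 j))
    rw [Ideal.mem_span_singleton']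
    refine ⟨algebraMap (ZMod (p ^ 2)) Al d * y j, ?_⟩
    rw [← hd, Algebra.smul_def, map_mul, map_natCast]
    ring
  haveI : Module.Flat (Al ⧸ Ideal.span {(p : Al)}) (TensorProduct Al (Al ⧸ Ideal.span {(p : Al)}) Bl) :=
    (Groth.Agent.Lib.LocalCrit5.flat_tensor_iff_flat_quot _).mpr hB
  rw [Groth.Agent.Lib.LocalCrit14.flat_iff_of_sq_zero (p : Al) ht hannA Bl]
  constructor
  · intro h b hb
    obtain ⟨b', hb'⟩ := h b (by rw [Algebra.smul_def, map_natCast]; exact hb)
    rw [Ideal.mem_span_singleton']
    exact ⟨b', by rw [hb', Algebra.smul_def, map_natCast, mul_comm]⟩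
  · intro h b hb
    have hb2 : (p : Bl) * b = 0 := by
      rw [Algebra.smul_def, map_natCast] at hb; exact hb
    obtain ⟨b', hb'⟩ := Ideal.mem_span_singleton'.mp (h b hb2)
    exact ⟨b', by rw [← hb', Algebra.smul_def, map_natCast, mul_comm]⟩

end Groth.Agent.S16742
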