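import Groth.Statements.S16754
import Groth.Agent.Lib.CurvStDeg_helper2
import Groth.Agent.S7856

set_option autoImplicit false
universe u
open CurvSt

namespace Groth.Agent.S16754

open CategoryTheory CategoryTheory.Limits AlgebraicGeometry in
/-- Let k be a field and X a scheme which is proper and smooth over k and of dimension one. Then the
following are equivalent: dim_k H^0(X, O_X) = 1 (the ground field is the ring of global functions);
X is geometrically connected over k; X is geometrically integral over k. (The remaining conditions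
of the source concern membership in an open substack of the stack of curves and are not stated.) -/
theorem result (k : Type u) [Field k]
    (X : Scheme.{u}) [X.Over (Spec (CommRingCat.of k))] [IsProper (X ↘ Spec (CommRingCat.of k))]
    [Smooth (X ↘ Spec (CommRingCat.of k))] (hdim : topologicalKrullDim ↥X = 1) :
    (Module.finrank k (Coh.HH X (Coh.structureModule X) 0) = 1 ↔ GeometricallyConnected (X ↘ Spec (CommRingCat.of k))) ∧
      (GeometricallyConnected (X ↘ Spec (CommRingCat.of k)) ↔ GeometricallyIntegral (X ↘ Spec (CommRingCat.of k))) := by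
  haveI hgr : GeometricallyReduced (X ↘ Spec (CommRingCat.of k)) :=
    Groth.Agent.Lib.ActZeroDimH4.geomRed_of_smooth _
  refine ⟨⟨fun h1 => ?_, fun hgc => ?_⟩, ⟨fun hgc => ?_, fun hgi => ?_⟩⟩
  · -- `h^0 = 1` gives geometric connectedness
    obtain ⟨v, hv, hspan⟩ := finrank_eq_one_iff'.mp h1
    have hmul : ∀ r : Coh.Γtop X, ∃ c : k,
        Coh.toGlobal (X ↘ Spec (CommRingCat.of k)) c *
          Groth.Agent.Lib.H0ConstH4.e0 X v = r := by
      intro r
      obtain ⟨c, hc⟩ := hspan ((Groth.Agent.Lib.H0ConstH4.e0 X).symm r)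
      refine ⟨c, ?_⟩
      have h3 : c • v = (Coh.toGlobal (X ↘ Spec (CommRingCat.of k)) c) • v := rfl
      rw [h3] at hc
      have h4 := congrArg (Groth.Agent.Lib.H0ConstH4.e0 X) hc
      rw [Groth.Agent.Lib.H0ConstH4.e0_smul, AddEquiv.apply_symm_apply] at h4
      exact h4
    have hnt : (1 : Coh.Γtop X) ≠ 0 := by
      intro h10
      apply hv
      apply (Groth.Agent.Lib.H0ConstH4.e0 X).injective
      rw [map_zero]
      calc Groth.Agent.Lib.H0ConstH4.e0 X v = 1 * Groth.Agent.Lib.H0ConstH4.e0 X v :=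
            (one_mul _).symm
        _ = 0 := by rw [h10, zero_mul]
    haveI : Nontrivial (Coh.Γtop X) := ⟨⟨1, 0, hnt⟩⟩
    obtain ⟨c₁, hc₁⟩ := hmul 1
    have hc₁0 : c₁ ≠ 0 := by
      intro h0
      rw [h0, map_zero, zero_mul] at hc₁
      exact hnt hc₁.symm
    have hu : Groth.Agent.Lib.H0ConstH4.e0 X v =
        Coh.toGlobal (X ↘ Spec (CommRingCat.of k)) c₁⁻¹ := by
      have h5 : Coh.toGlobal (X ↘ Spec (CommRingCat.of k)) c₁⁻¹ *
          Coh.toGlobal (X ↘ Spec (CommRingCat.of k)) c₁ = 1 := by
        rw [← map_mul, inv_mul_cancel₀ hc₁0, map_one]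
      calc Groth.Agent.Lib.H0ConstH4.e0 X v
          = (Coh.toGlobal (X ↘ Spec (CommRingCat.of k)) c₁⁻¹ *
              Coh.toGlobal (X ↘ Spec (CommRingCat.of k)) c₁) *
              Groth.Agent.Lib.H0ConstH4.e0 X v := by rw [h5, one_mul]
        _ = Coh.toGlobal (X ↘ Spec (CommRingCat.of k)) c₁⁻¹ := by
            rw [mul_assoc, hc₁, mul_one]
    have hbij : Function.Bijective (Coh.toGlobal (X ↘ Spec (CommRingCat.of k))) := by
      refine ⟨RingHom.injective _, fun r => ?_⟩
      obtain ⟨c, hc⟩ := hmul r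
      refine ⟨c * c₁⁻¹, ?_⟩
      rw [map_mul, ← hu]
      exact hc
    rw [Groth.Agent.S7856.result k (X ↘ Spec (CommRingCat.of k))]
    let φ : k →+* Γ(X, ⊤) := (X ↘ Spec (CommRingCat.of k)).appTop.hom.comp
      (Scheme.ΓSpecIso (CommRingCat.of k)).inv.hom
    have hbij' : Function.Bijective φ := hbij
    haveI : Nontrivial Γ(X, ⊤) := ⟨⟨(1 : Γ(X, ⊤)), 0, hnt⟩⟩
    let e : k ≃+* Γ(X, ⊤) := RingEquiv.ofBijective φ hbij'
    refine ⟨?_, ?_, ?_⟩
    · exact IsLocalRing.of_surjective' φ hbij'.2
    · have h6 : ringKrullDim Γ(X, ⊤) = ringKrullDim k := (ringKrullDim_eq_of_ringEquiv e).symm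
      rw [ringKrullDim_eq_zero_of_field] at h6
      exact h6
    · intro a
      obtain ⟨c, hc⟩ := hbij'.2 a
      refine ⟨0, c, ?_⟩
      have h7 : (X ↘ Spec (CommRingCat.of k)).appTop.hom
          ((Scheme.ΓSpecIso (CommRingCat.of k)).inv.hom c) = a := hc
      rw [h7, pow_zero, pow_one, sub_self]
      exact IsNilpotent.zero
  · haveI := hgc
    exact Groth.Agent.Lib.H0ConstH4.main1536 k X
  · haveI := hgc
    refine ⟨fun K _ y Z fst snd h => ?_⟩
    haveI : Smooth snd := MorphismProperty.of_isPullback (P := @Smooth) h inferInstance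
    haveI : ConnectedSpace Z := hgc.geometrically_connectedSpace y fst snd h
    exact Groth.Agent.Lib.CBCH2.isIntegral_of_smooth_connected K snd
  · refine ⟨fun K _ y Z fst snd h => ?_⟩
    haveI : IsIntegral Z := hgi.geometrically_isIntegral y fst snd h
    infer_instance

end Groth.Agent.S16754
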