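import Groth.Statements.S16758
import Groth.Agent.Lib.CurvStH0_helper2

set_option autoImplicit false
universe u
open PicF

namespace Groth.Agent.S16758

open AlgebraicGeometry CategoryTheory CategoryTheory.Limits in
/-- (2) ⇔ (3): let f : X → Y be proper and flat with Y locally Noetherian. Then dim_{κ(y)} H⁰(X_y,
O_{X_y}) = 1 for every point y of Y if and only if for every morphism T → Y the base change f_T : X
×_Y T → T induces isomorphisms O_T(U) → O_{X ×_Y T}(f_T⁻¹ U) on all opens U of T, i.e. O_T = (f_T)_*
O universally. (The published statement takes X and Y Noetherian; the argument is local on Y, so Y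
is only assumed locally Noetherian here.) -/
theorem result {X Y : Scheme.{u}} (f : X ⟶ Y)
    [IsProper f] [Flat f] [IsLocallyNoetherian Y] :
    (∀ y : Y, Module.finrank (Y.residueField y) Γ(f.fiber y, ⊤) = 1) ↔
      ∀ (T : Scheme.{u}) (g : T ⟶ Y) (U : T.Opens), IsIso ((pullback.snd f g).app U) := by
  haveI : LocallyOfFinitePresentation f := inferInstance
  constructor
  · intro h T g U
    have h' : ∀ s : Y, IsIso (f.fiberToSpecResidueField s).appTop := by
      intro s
      have hb : Function.Bijective (algebraMap (Y.residueField s) Γ(f.fiber s, ⊤)) :=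
        Algebra.finrank_eq_one_iff_bijective_algebraMap.mp (h s)
      have hb' : Function.Bijective
          ((f.fiberToSpecResidueField s).appTop.hom.comp
            (Scheme.ΓSpecIso (CommRingCat.of (Y.residueField s))).inv.hom) := hb
      have hiso : IsIso ((Scheme.ΓSpecIso (CommRingCat.of (Y.residueField s))).inv ≫
          (f.fiberToSpecResidueField s).appTop) :=
        (ConcreteCategory.isIso_iff_bijective _).mpr hb'
      exact IsIso.of_isIso_comp_left (Scheme.ΓSpecIso (CommRingCat.of (Y.residueField s))).inv
        (f.fiberToSpecResidueField s).appTop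
    exact Groth.Agent.Lib.CBCH2.isIso_app_of_fibres (pullback.snd f g)
      (fun s' => Groth.Agent.Lib.CBCH2.isIso_appTop_fibre_baseChange f g h' s') U
  · intro h y
    have h1 : IsIso ((pullback.snd f (Y.fromSpecResidueField y)).app ⊤) :=
      h _ (Y.fromSpecResidueField y) ⊤
    have h2 : IsIso (f.fiberToSpecResidueField y).appTop := h1
    have hb : Function.Bijective ((Scheme.ΓSpecIso (CommRingCat.of (Y.residueField y))).inv ≫
        (f.fiberToSpecResidueField y).appTop).hom :=
      ConcreteCategory.bijective_of_isIso _
    have hb' : Function.Bijective (algebraMap (Y.residueField y) Γ(f.fiber y, ⊤)) := hb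
    exact Algebra.finrank_eq_one_iff_bijective_algebraMap.mpr hb'

end Groth.Agent.S16758
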