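import Groth.Statements.S16761
import Groth.Agent.Lib.BC0Free_helper2
import Groth.Agent.Lib.EulerLoc_helper2

set_option autoImplicit false
universe u
open Coherent

namespace Groth.Agent.S16761

open AlgebraicGeometry CategoryTheory CategoryTheory.Limits in
/-- Let f : X → S be proper and of finite presentation, F an O_X-module of finite presentation which is
flat over S, and d a natural number with dim X_s ≤ d for all s. Then the set S' of points s with
H^j(X_s, F_s) = 0 for all j ≥ 1 is open, and over every open U ⊆ S' the sheaves R^j f_* F (j ≥ 1)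
restrict to zero, f_* F restricts to a finite locally free module, and the formation of f_* F
commutes with base change: for every cartesian square with base a morphism g : T → S whose image
lies in U, with f' : X ×_S T → T and g' : X ×_S T → X the projections, the base change map g^* f_* F
→ f'_* g'^* F is an isomorphism. (The published statement asks only that f be proper; without finite
presentation the assertions on f_* F fail — for a finite flat morphism which is not of finite
presentation and F = O_X the direct image f_* O_X need not be finite locally free — and the argument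
runs through cohomology and base change for morphisms of finite presentation, so f is taken of
finite presentation here. Higher direct images are right derived functors of f_* on O_X-modules,
with injective resolutions carried as an instance argument.) -/
theorem result {X S : Scheme.{u}} (f : X ⟶ S)
    [IsProper f] [LocallyOfFinitePresentation f] [HasInjectiveResolutions X.Modules]
    (F : X.Modules) (hF : CohB1.IsFP F) (hfl : FlatMod.IsFlatOver f F)
    (d : ℕ) (hd : ∀ s : S, topologicalKrullDim ↥(f.fiber s) ≤ d) :
    IsOpen {s : S | ∀ j : ℕ, 1 ≤ j → Subsingleton (CohIII.fiberH f F s j)} ∧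
      ∀ U : S.Opens, (U : Set S) ⊆ {s : S | ∀ j : ℕ, 1 ≤ j → Subsingleton (CohIII.fiberH f F s j)} →
        (∀ j : ℕ, 1 ≤ j → IsZero (((Coh.Rpush f j).obj F).restrict U.ι)) ∧
          FlatMod.IsFinLocFree (((Coh.push f).obj F).restrict U.ι) ∧
            ∀ (T X' : Scheme.{u}) (g : T ⟶ S) (f' : X' ⟶ T) (g' : X' ⟶ X) (hsq : IsPullback g' f' f g),
              Set.range g.base ⊆ (U : Set S) → IsIso (CohBC.bc0 f g f' g' hsq.w F) := by
  haveI : SheafOfModules.IsFinitePresentation (R := X.ringCatSheaf) F := hF
  haveI hq : Coh.IsQCoh F := inferInstanceAs (F.IsQuasicoherent)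
  haveI : F.IsQuasicoherent := hq
  have hz : ∀ (j : ℕ) (y : S), CohIII.fiberRank f F j y = 0 ↔
      Subsingleton (CohIII.fiberH f F y j) :=
    fun j y => Groth.Agent.Lib.PBCH2.fiberRank_zero_iff f F hF hfl j y
  refine ⟨?_, ?_⟩
  · rw [isOpen_iff_forall_mem_open]
    intro s hsZ
    obtain ⟨_, ⟨T, hT : IsAffineOpen T, rfl⟩, hsT, -⟩ :=
      (S.isBasis_affineOpens).exists_subset_of_mem_open (Set.mem_univ s) isOpen_univ
    obtain ⟨P, hP, ⟨b, hb⟩, -, -, -, -, -, hR⟩ :=
      Groth.Agent.Lib.CBCH2.chartFacts0 f F hF hfl T hT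
    have hfin : ∀ i, Module.Finite Γ(S, T) (P.X i) := fun i => (hP i).1
    have hlarge : ∀ n : ℕ, (-b).toNat < n → ∀ v ∈ T, CohIII.fiberRank f F n v = 0 := by
      intro n hn v hv
      rw [hR n v hv]
      exact Groth.Agent.Lib.PBCH2.dRank_eq_zero_of_isZero P hfin (-(n : ℤ))
        (hb _ (by omega)) (hb _ (by omega)) _
    have hsmall : ∀ N : ℕ, ∃ O : S.Opens, s ∈ O ∧
        ∀ y ∈ O, ∀ j : ℕ, 1 ≤ j → j ≤ N → CohIII.fiberRank f F j y = 0 := by
      intro N
      induction N with
      | zero => exact ⟨⊤, trivial, fun y _ j h1 h2 => by omega⟩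
      | succ N ih =>
        obtain ⟨O, hsO, hO⟩ := ih
        obtain ⟨U, hsU, hU⟩ := Groth.Agent.Lib.PBCH2.exists_open_fiberRank_zero f F hF hfl
          (N + 1) s ((hz (N + 1) s).mpr (hsZ (N + 1) (by omega)))
        refine ⟨O ⊓ U, ⟨hsO, hsU⟩, fun y hy j h1 h2 => ?_⟩
        rcases Nat.lt_or_ge j (N + 1) with h | h
        · exact hO y hy.1 j h1 (by omega)
        · have hj : j = N + 1 := by omega
          subst hj
          exact hU y hy.2
    obtain ⟨O, hsO, hO⟩ := hsmall (-b).toNat
    refine ⟨((T ⊓ O : S.Opens) : Set S), ?_, (T ⊓ O).isOpen, ⟨hsT, hsO⟩⟩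
    intro y hy j hj
    rw [← hz j y]
    rcases Nat.lt_or_ge (-b).toNat j with h | h
    · exact hlarge j h y hy.1
    · exact hO y hy.2 j hj h
  · intro U hU
    refine ⟨fun j hj => ?_, ?_, ?_⟩
    · exact Groth.Agent.Lib.PBCH2.isZero_restrict_Rpush_of_fiberRank_zero f F hF hfl j U
        (fun y hy => (hz j y).mpr (hU hy j hj))
    · exact Groth.Agent.Lib.CBCH2.isFinLocFree_restrict_push f F hF hfl U
        (fun v hv => hU hv 1 le_rfl)
    · intro T₁ X' g f' g' hsq hrange
      refine Groth.Agent.Lib.CBCH2.isIso_bc0_of_goodAt f g g' f' hsq F (fun z => ?_)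
      exact (Groth.Agent.Lib.CBCH2.goodAt_of_subsingleton_fiberH f F hF hfl 1 (g z)
        (hU (hrange ⟨z, rfl⟩) 1 le_rfl)).2 0 rfl

end Groth.Agent.S16761
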