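import Groth.Statements.S16764
import Mathlib
import Groth.Agent.Lib.FibCrit11_helper8
import Groth.Agent.S1386

set_option autoImplicit false
universe u
open Unram17

namespace Groth.Agent.S16764

open AlgebraicGeometry CategoryTheory CategoryTheory.Limits in
/-- Let g : Y → S and h : X → S be locally of finite presentation, f : X → Y an S-morphism (f ≫ g = h),
and x a point of X with image s = h(x) such that h is flat at x. Then f is étale at x (étale on an
open neighbourhood of x) if and only if the induced morphism of fibres X_s → Y_s is étale at the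
point of X_s lying over x. -/
theorem result {X Y S : Scheme.{u}} (g : Y ⟶ S) (h : X ⟶ S)
    [LocallyOfFinitePresentation g] [LocallyOfFinitePresentation h] (f : X ⟶ Y) (w : f ≫ g = h)
    (x : ↥X) (hflat : (h.stalkMap x).hom.Flat)
    (x' : ↥(h.fiber (h x))) (hx' : (h.fiberι (h x)) x' = x) :
    (∃ U : X.Opens, x ∈ U ∧ Etale (U.ι ≫ f)) ↔
      ∃ V : (h.fiber (h x)).Opens, x' ∈ V ∧ Etale (V.ι ≫ CohIII.fiberMapOver f h g w (h x)) := by
  subst w
  have H : Groth.Agent.Lib.FibCritH8.Crit f g :=
    fun x h1 h2 => ((Groth.Agent.S1386.result f g).1 x).mp ⟨h1, h2⟩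
  have hx'eq : x' = (f ≫ g).asFiber x :=
    ((f ≫ g).fiberι ((f ≫ g) x)).isEmbedding.injective
      (hx'.trans ((f ≫ g).fiberι_asFiber x).symm)
  subst hx'eq
  have hmap : CohIII.fiberMapOver f (f ≫ g) g rfl ((f ≫ g) x) =
      MoreMor.fiberMap f g (g (f x)) := by
    apply pullback.hom_ext
    · refine (pullback.lift_fst _ _ _).trans ?_
      exact (pullback.lift_fst _ _ _).symm
    · refine (pullback.lift_snd _ _ _).trans ?_
      refine (Category.comp_id _).trans ?_
      exact (pullback.lift_snd _ _ _).symm
  rw [hmap]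
  exact Groth.Agent.Lib.FibCritH8.etale_at_iff_of_crit H x hflat

end Groth.Agent.S16764
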