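import Groth.Statements.S1680
import Groth.Agent.Lib.Cart1_helper8

set_option autoImplicit false
universe u
open CategoryTheory CategoryTheory.Limits AlgebraicGeometry TopologicalSpace
open SDiv

namespace Groth.Agent.S1680

/-- Let g : X₁ ⟶ X₂ be a flat morphism, 𝓘 a quasi-coherent ideal sheaf on X₂ and b : X₂' ⟶ X₂ a
blowing-up of X₂ along 𝓘. Then the base change X₁ ×_{X₂} X₂' ⟶ X₁ is a blowing-up of X₁ along the
inverse image ideal of 𝓘. -/
theorem result {X₁ X₂ X₂' : Scheme.{u}} (g : X₁ ⟶ X₂) [Flat g] (𝓘 : X₂.IdealSheafData) (b : X₂' ⟶ X₂)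
    (hb : BlowUp.IsBlowUp b 𝓘) : BlowUp.IsBlowUp (pullback.fst g b) (𝓘.comap g) := by
  refine ⟨?_, ?_⟩
  · rw [← Scheme.IdealSheafData.comap_comp, pullback.condition, Scheme.IdealSheafData.comap_comp]
    exact CartH8.isEffCartier_comap_of_flat (pullback.snd g b) (𝓘.comap b) hb.1
  · intro Y h hh
    rw [← Scheme.IdealSheafData.comap_comp] at hh
    obtain ⟨k, hk, hu⟩ := hb.2 Y (h ≫ g) hh
    refine ⟨pullback.lift h k hk.symm, pullback.lift_fst _ _ _, ?_⟩
    intro m hm
    have h1 : (m ≫ pullback.snd g b) ≫ b = h ≫ g := by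
      rw [Category.assoc, ← pullback.condition, ← Category.assoc, hm]
    have h2 : m ≫ pullback.snd g b = k := hu _ h1
    apply pullback.hom_ext
    · rw [hm, pullback.lift_fst]
    · rw [h2, pullback.lift_snd]

end Groth.Agent.S1680
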