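import Groth.Statements.S1690
import Groth.Agent.Lib.FreeLoc2_helper8

set_option autoImplicit false
universe u
open CategoryTheory CategoryTheory.Limits AlgebraicGeometry TopologicalSpace
open SDiv

namespace Groth.Agent.S1690

/-- (1) if and only if (3): let X be an integral locally Noetherian normal scheme and F a coherent
module. Then F is reflexive (stalkwise) if and only if there is an open subscheme j : U ⟶ X such
that every point outside U has local ring of dimension at least 2, the restriction of F to U is
finite locally free, and the canonical map F ⟶ j_* j^* F is an isomorphism. -/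
theorem result (X : Scheme.{u}) [IsIntegral X] [IsLocallyNoetherian X] (hX : Pi1.IsNormalScheme X)
    (F : X.Modules) (hF : Coh.IsCoh F) :
    (∀ x : ↥X, Module.IsReflexive (X.presheaf.stalk x) (F.presheaf.stalk x)) ↔
      ∃ U : X.Opens, (∀ x : ↥X, x ∉ U → (2 : WithBot ℕ∞) ≤ ringKrullDim (X.presheaf.stalk x)) ∧
        FlatMod.IsFinLocFree (F.restrict U.ι) ∧ IsIso ((Scheme.Modules.restrictAdjunction U.ι).unit.app F) := by
  haveI : F.IsQuasicoherent := hF.1
  haveI : SheafOfModules.IsFiniteType (R := X.ringCatSheaf) F := hF.2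
  haveI := FLFH8.isFinitePresentation_of_isCoh F
  have hcodim : ∀ (U : X.Opens),
      (∀ x : ↥X, x ∉ U → (2 : WithBot ℕ∞) ≤ ringKrullDim (X.presheaf.stalk x)) →
      ∀ y : X, Order.coheight y ≤ 1 → y ∈ U := by
    intro U hU y hy
    by_contra hn
    have h1 := hU y hn
    rw [AlgebraicGeometry.ringKrullDim_stalk_eq_coheight] at h1
    have h2 : (2 : ℕ∞) ≤ Order.coheight y := by
      have h3 : ((2 : ℕ∞) : WithBot ℕ∞) ≤ ↑(Order.coheight y) := h1
      exact WithBot.coe_le_coe.mp h3
    have h4 : (2 : ℕ∞) ≤ 1 := h2.trans hy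
    exact absurd h4 (by decide)
  constructor
  · intro h
    have hrefl : RefHull.IsReflexive F := ((HomLinH8.isReflexive_tfae F hF).out 1 0).mp h
    have hE : RefHullH8.HasExt F := RefHullH8.hasExt_of_isReflexive hX hrefl
    have hbig : ∀ x : ↥X, x ∉ FreeLocH8.freeOpen F →
        (2 : WithBot ℕ∞) ≤ ringKrullDim (X.presheaf.stalk x) := by
      intro x hx
      by_contra hd
      apply hx
      haveI := h x
      exact FreeLocH8.free_stalk_of_coheight_le_one hX F hF x
        (FreeLocH8.coheight_le_one_of_not_two_le x hd)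
        (FreeLocH8.isTorsionFree_of_isReflexive _ _)
    exact ⟨FreeLocH8.freeOpen F, hbig, FreeLocH8.isFinLocFree_restrict_freeOpen F,
      FreeLocH8.isIso_unit_of_hasExt hE _ (hcodim _ hbig)⟩
  · rintro ⟨U, hbig, hlf, hiso⟩
    have hrefl : RefHull.IsReflexive F :=
      FreeLocH8.isReflexive_of_unit_iso hX F hF U (hcodim U hbig)
        (fun x hx => FLFH8.free_stalk_of_restrict_finLocFree F hx hlf) hiso
    exact ((HomLinH8.isReflexive_tfae F hF).out 0 1).mp hrefl

end Groth.Agent.S1690
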