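import Groth.Statements.S16909
import Groth.Agent.Lib.GG2_helper8

set_option autoImplicit false
universe u
open CategoryTheory CategoryTheory.Limits AlgebraicGeometry
open ResProp

namespace Groth.Agent.S16909

/-- Let `X` be a quasi-compact and quasi-separated scheme on which every quasi-coherent module is
globally generated (a quotient of a free module on some index type, i.e. the structure sheaf is a
generating family). Then `X` is quasi-affine. No separatedness hypothesis is made; it follows. (The
published statement is for an algebraic stack over an algebraic space with affine stabilizer groups
at closed points and concludes that it is representable by a quasi-affine morphism; that general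
case rests on results outside this text, and this row is the final step of its proof, the case of a
scheme.) -/
theorem result (X : Scheme.{u}) [CompactSpace X]
    [QuasiSeparatedSpace X] (h : ∀ M : X.Modules, Coh.IsQCoh M → Curv2.IsGloballyGenerated M) :
    X.IsQuasiAffine := by
  apply GGH8.isQuasiAffine_of_gg
  intro U hU x hxU
  obtain ⟨t, ht⟩ := GGH8.exists_one_vanSub U
  exact ⟨(GGH8.vanSub U).toModules, 𝟙 _, h _ (GGH8.isQuasicoherent_vanSub U), t, ht⟩

end Groth.Agent.S16909
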