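import Groth.Statements.S16949
import Groth.Agent.Lib.CBCAsm6_helper2
import Groth.Agent.Lib.PBCAlg6_helper2
import Groth.Agent.Lib.FLF8_helper8

set_option autoImplicit false
universe u
open Coherent

namespace Groth.Agent.S16949

open AlgebraicGeometry CategoryTheory Scheme.Modules in
/-- In a general degree p, written p = q + 2 here: let π : X → Y be proper of finite presentation, F a
quasi-coherent O_X-module of finite presentation, flat over Y, and q a natural number. Suppose that
for every point y of Y the cohomology H^{q+2}(X_y, F|_{X_y}) of the restriction of F to the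
scheme-theoretic fibre vanishes and the degree-q base change map of the fibre square at y, κ(y)^*
R^q π_* F → R^q (X_y → Spec κ(y))_* (F|_{X_y}), is an epimorphism; here R^q is the q-th right
derived functor of direct image on O-modules and the base change map is the pinned one of the
structure GenBC, relative to pinned comparison data for π and for the fibre morphisms, given at
every point. Then R^{q+1} π_* F is finite locally free. (The source concludes local freeness; its
argument produces finite local freeness.) -/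
theorem result
    {X Y : Scheme.{u}} (π : X ⟶ Y) [IsProper π] [LocallyOfFinitePresentation π]
    [HasInjectiveResolutions X.Modules] [∀ y : Y, HasInjectiveResolutions (π.fiber y).Modules]
    (F : X.Modules) [Coh.IsQCoh F] (hfp : CohB1.IsFP F) (hfl : FlatMod.IsFlatOver π F) (q : ℕ)
    {Δ : RDer.DerivedLES (pushforward π)} (E : CohCmp.SectCmp π Δ)
    (Δy : ∀ y : Y, RDer.DerivedLES (pushforward (π.fiberToSpecResidueField y)))
    (Ey : ∀ y : Y, CohCmp.SectCmp (π.fiberToSpecResidueField y) (Δy y))
    (By : ∀ y : Y, CohCmp.GenBC π (Y.fromSpecResidueField y) (π.fiberToSpecResidueField y) (π.fiberι y) (π.fiber_fac y) E (Ey y))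
    (hq2 : ∀ y : Y, Subsingleton (CohIII.fiberH π F y (q + 2)))
    (hq : ∀ y : Y, Epi ((By y).bc q F)) :
    FlatMod.IsFinLocFree ((Coh.Rpush π (q + 1)).obj F) := by
  haveI : F.IsQuasicoherent := ‹Coh.IsQCoh F›
  haveI : ((Coh.Rpush π (q + 1)).obj F).IsQuasicoherent :=
    RpushQC.isQuasicoherent_Rpush π F (q + 1)
  apply FLFH8.finLocFree_of_fp_flat_sections
  rintro ⟨T, hT⟩
  obtain ⟨P, hP, -, -, hA, hB, -, hD⟩ := Groth.Agent.Lib.CBCH2.chartFacts π F hfp hfl E T hT
  have e1 : -(q : ℤ) - 1 = -((q + 1 : ℕ) : ℤ) := by push_cast; ring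
  have e2 : -((q + 2 : ℕ) : ℤ) = -((q + 1 : ℕ) : ℤ) - 1 := by push_cast; ring
  have h1 : ∀ x : PrimeSpectrum Γ(Y, T),
      x ∈ Module.freeLocus Γ(Y, T) (P.opcycles (-((q + 1 : ℕ) : ℤ))) := by
    intro x
    obtain ⟨y, hy, hker⟩ := Groth.Agent.Lib.CBCH2.exists_ker_evalRes T hT x
    letI := Groth.Agent.Lib.CBCH2.algRes T y hy
    have := Groth.Agent.Lib.PBCH2.mem_freeLocus_of_betaT_surjective' P hP (-(q : ℤ))
      (Y.residueField y) (hB q y hy (Ey y) (By y) (hq y)) x hker
    rwa [e1] at this
  have h2 : ∀ x : PrimeSpectrum Γ(Y, T),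
      x ∈ Module.freeLocus Γ(Y, T) (P.opcycles (-((q + 1 : ℕ) : ℤ) - 1)) := by
    intro x
    obtain ⟨y, hy, hker⟩ := Groth.Agent.Lib.CBCH2.exists_ker_evalRes T hT x
    letI := Groth.Agent.Lib.CBCH2.algRes T y hy
    have := (Groth.Agent.Lib.PBCH2.mem_freeLocus_of_subsingleton_T P hP (-((q + 2 : ℕ) : ℤ))
      (Y.residueField y) (hA (q + 2) y hy (hq2 y)) x hker).1
    rwa [e2] at this
  obtain ⟨hfin, hproj⟩ := Groth.Agent.Lib.PBCH2.finite_projective_homology_of_freeLocus P hP
    (-((q + 1 : ℕ) : ℤ)) h1 h2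
  obtain ⟨e⟩ := hD (q + 1)
  haveI := hfin
  haveI := hproj
  haveI : Module.Finite Γ(Y, T) Γ((Coh.Rpush π (q + 1)).obj F, T) := Module.Finite.equiv e
  haveI : Module.Projective Γ(Y, T) Γ((Coh.Rpush π (q + 1)).obj F, T) :=
    Module.Projective.of_equiv e
  exact ⟨Module.finitePresentation_of_projective _ _, inferInstance⟩

end Groth.Agent.S16949
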