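import Groth.Statements.S1695
import Mathlib
import Groth.Agent.Lib.AffBl3_helper8

set_option autoImplicit false
universe u
open CategoryTheory CategoryTheory.Limits AlgebraicGeometry TopologicalSpace
open SDiv

namespace Groth.Agent.S1695

/-- Let A be a ring, I an ideal, and b : X' ⟶ Spec A a blowing-up of Spec A along the ideal sheaf of I.
Then every point of X' has an open neighbourhood which is isomorphic, over Spec A, to the spectrum
of an affine blow-up algebra A[I/a] for some a ∈ I. -/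
theorem result (A : Type u) [CommRing A] (I : Ideal A) {X' : Scheme.{u}}
    (b : X' ⟶ Spec (CommRingCat.of A)) (hb : BlowUp.IsBlowUp b (Scheme.IdealSheafData.ofIdealTop (I.map (Scheme.ΓSpecIso (CommRingCat.of A)).inv.hom))) (x' : ↥X') :
    ∃ (a : A) (_ : a ∈ I) (V : X'.Opens) (e : (V : Scheme.{u}) ≅ Spec (CommRingCat.of ↥(BlowUp.affineAlgebra A I a))),
      x' ∈ V ∧ e.hom ≫ Spec.map (CommRingCat.ofHom (algebraMap A ↥(BlowUp.affineAlgebra A I a))) = V.ι ≫ b := by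
  obtain ⟨a, ha, V₀, hV₀, hx'⟩ := AffBlH8.exists_good I b hb.1 x'
  have hcart := AffBlH8.isEffCartier_comap_cmap I a ha
  obtain ⟨κ, hκ, -⟩ := hb.2 _ (AffBlH8.cmap I a) hcart
  have hκ : κ ≫ b = AffBlH8.cmap I a := hκ
  obtain ⟨W, hW⟩ : ∃ W : X'.Opens,
      W = ⨆ V : {V : X'.Opens // AffBlH8.Good I a b V}, V.1 := ⟨_, rfl⟩
  have hκW : Set.range κ ⊆ W.ι.opensRange := by
    rintro _ ⟨q, rfl⟩
    rw [Scheme.Opens.opensRange_ι]
    obtain ⟨V, hV, hq⟩ := AffBlH8.good_of_map I a b ha hb.1 κ hκ q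
    rw [hW]
    exact TopologicalSpace.Opens.mem_iSup.mpr ⟨⟨V, hV⟩, hq⟩
  obtain ⟨κ', hκ'⟩ : ∃ κ' : Spec (CommRingCat.of ↥(BlowUp.affineAlgebra A I a)) ⟶
      (W : Scheme.{u}), κ' ≫ W.ι = κ :=
    ⟨IsOpenImmersion.lift W.ι κ hκW, IsOpenImmersion.lift_fac _ _ _⟩
  have hiso : IsIso κ' := by
    have hU : ⨆ V : {V : X'.Opens // AffBlH8.Good I a b V}, W.ι ⁻¹ᵁ V.1 = ⊤ := by
      rw [← Scheme.Hom.preimage_iSup, ← hW]
      exact W.ι_preimage_self
    refine (IsZariskiLocalAtTarget.iff_of_iSup_eq_top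
      (P := MorphismProperty.isomorphisms Scheme) _ hU).mpr ?_
    rintro ⟨V, hV⟩
    have h1 : IsIso (κ ∣_ V) := AffBlH8.isIso_restrict_of_good I a b hb κ hκ V hV
    have hVW : V ≤ W := by
      rw [hW]
      exact le_iSup (fun V : {V : X'.Opens // AffBlH8.Good I a b V} => V.1) ⟨V, hV⟩
    subst hκ'
    rw [morphismRestrict_comp] at h1
    have h2 : IsIso (W.ι ∣_ V) := by
      apply isIso_of_isOpenImmersion_of_opensRange_eq_top
      rw [eq_top_iff]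
      rintro ⟨v, hv⟩ -
      refine ⟨⟨⟨v, hVW hv⟩, hv⟩, ?_⟩
      apply Subtype.ext
      rw [morphismRestrict_base_coe]
      rfl
    exact @IsIso.of_isIso_comp_right _ _ _ _ _ (κ' ∣_ (W.ι ⁻¹ᵁ V)) (W.ι ∣_ V) h2 h1
  refine ⟨a, ha, W, (asIso κ').symm, ?_, ?_⟩
  · rw [hW]
    exact TopologicalSpace.Opens.mem_iSup.mpr ⟨⟨V₀, hV₀⟩, hx'⟩
  · change inv κ' ≫ AffBlH8.cmap I a = W.ι ≫ b
    rw [IsIso.inv_comp_eq, ← Category.assoc, hκ', hκ]

end Groth.Agent.S1695
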