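import Groth.Statements.S16963
import Mathlib

set_option autoImplicit false
universe u
open scoped BigOperators
open ConstAct

open scoped TensorProduct
namespace Groth.Agent.S16963

open TensorProduct in
/-- Let R be a commutative ring and Γ a finite group acting on a commutative R-algebra B by R-algebra
automorphisms; regard B as a comodule algebra over the Hopf algebra of R-valued functions on Γ (the
constant group scheme of Γ acting on Spec B) through the coaction b ↦ Σ_γ (γ · b) ⊗ e_γ. Then the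
action is tame — there is a comodule map α from the Hopf algebra, with its regular coaction, to B
with α(1) = 1 (a total integral) — if and only if the trace b ↦ Σ_γ γ · b, which takes values in the
ring of invariants B^Γ, maps B onto B^Γ. -/
theorem result (R : Type u) [CommRing R]
    (B : Type u) [CommRing B] [Algebra R B] (Γ : Type u) [Group Γ] [Fintype Γ] [DecidableEq Γ]
    [MulSemiringAction Γ B] [SMulCommClass Γ R B] :
    letI := ConstAct.comod R B Γ
    (∃ α : ConstGrp.F R Γ →ₗ[R] B, Hoch.IsComodHom (ConstGrp.F R Γ) α ∧ α 1 = 1) ↔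
      ∀ c : B, c ∈ ConstAct.inv R B Γ → ∃ b : B, ∑ γ : Γ, γ • b = c := by
  letI := ConstAct.comod R B Γ
  let sl : Γ → B ⊗[R] ConstGrp.F R Γ →ₗ[R] B := fun γ =>
    (TensorProduct.rid R B).toLinearMap ∘ₗ LinearMap.lTensor B (ConstGrp.ev R γ).toLinearMap
  have hsl : ∀ (γ : Γ) (b : B) (f : ConstGrp.F R Γ), sl γ (b ⊗ₜ[R] f) = f γ • b := by
    intro γ b f
    simp [sl]
  constructor
  · rintro ⟨α, hα, hα1⟩ c hc
    have key : ∀ γ : Γ, γ • α (ConstGrp.e R 1) = α (ConstGrp.e R γ⁻¹) := by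
      intro γ
      have h1 := LinearMap.congr_fun hα (ConstGrp.e R (1 : Γ))
      rw [LinearMap.comp_apply, LinearMap.comp_apply] at h1
      have h2 : HopfRep.Comod.coact (k := R) (A := ConstGrp.F R Γ) (α (ConstGrp.e R 1)) =
          ∑ g : Γ, (g • α (ConstGrp.e R 1)) ⊗ₜ[R] ConstGrp.e R g :=
        ConstAct.coactLin_apply R B Γ _
      have h3 : HopfRep.Comod.coact (k := R) (A := ConstGrp.F R Γ) (ConstGrp.e R (1 : Γ)) =
          ∑ a : Γ, ConstGrp.e R a ⊗ₜ[R] ConstGrp.e R (a⁻¹ * 1) := ConstGrp.comul_e R Γ 1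
      rw [h2, h3, map_sum] at h1
      have h4 := congrArg (sl γ) h1
      simp only [map_sum, LinearMap.rTensor_tmul, hsl] at h4
      rw [Finset.sum_eq_single γ, Finset.sum_eq_single γ⁻¹] at h4
      · rw [ConstGrp.e_apply_self, one_smul, mul_one, inv_inv, ConstGrp.e_apply_self, one_smul] at h4
        exact h4
      · intro a _ ha
        rw [mul_one, ConstGrp.e_apply_of_ne, zero_smul]
        intro h
        apply ha
        rw [h, inv_inv]
      · intro h
        exact absurd (Finset.mem_univ _) h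
      · intro g _ hg
        rw [ConstGrp.e_apply_of_ne (Ne.symm hg), zero_smul]
      · intro h
        exact absurd (Finset.mem_univ _) h
    refine ⟨c * α (ConstGrp.e R 1), ?_⟩
    have h5 : ∀ γ : Γ, γ • (c * α (ConstGrp.e R 1)) = c * α (ConstGrp.e R γ⁻¹) := by
      intro γ
      rw [smul_mul', hc γ, key]
    rw [Finset.sum_congr rfl (fun γ _ => h5 γ), ← Finset.mul_sum, ← map_sum]
    have h6 : ∑ γ : Γ, ConstGrp.e R γ⁻¹ = (1 : ConstGrp.F R Γ) := by
      rw [← ConstGrp.sum_e (R := R) (G := Γ)]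
      exact Fintype.sum_equiv (Equiv.inv Γ) _ _ (fun _ => rfl)
    rw [h6, hα1, mul_one]
  · intro h
    obtain ⟨b₀, hb₀⟩ := h 1 (fun g => smul_one g)
    let α : ConstGrp.F R Γ →ₗ[R] B := (ConstGrp.basis R Γ).constr R (fun g : Γ => g⁻¹ • b₀)
    have hαe : ∀ g : Γ, α (ConstGrp.e R g) = g⁻¹ • b₀ := by
      intro g
      rw [← ConstGrp.basis_apply]
      exact Module.Basis.constr_basis _ _ _ g
    refine ⟨α, ?_, ?_⟩
    · apply ConstGrp.linearMap_ext
      intro g
      rw [LinearMap.comp_apply, LinearMap.comp_apply, hαe]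
      have h2 : HopfRep.Comod.coact (k := R) (A := ConstGrp.F R Γ) (g⁻¹ • b₀) =
          ∑ γ : Γ, (γ • g⁻¹ • b₀) ⊗ₜ[R] ConstGrp.e R γ :=
        ConstAct.coactLin_apply R B Γ _
      have h3 : HopfRep.Comod.coact (k := R) (A := ConstGrp.F R Γ) (ConstGrp.e R g) =
          ∑ a : Γ, ConstGrp.e R a ⊗ₜ[R] ConstGrp.e R (a⁻¹ * g) := ConstGrp.comul_e R Γ g
      rw [h2, h3, map_sum]
      simp only [LinearMap.rTensor_tmul, hαe]
      refine Fintype.sum_equiv ((Equiv.inv Γ).trans (Equiv.mulLeft g)) _ _ (fun γ => ?_)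
      show (γ • g⁻¹ • b₀) ⊗ₜ[R] ConstGrp.e R γ =
        ((g * γ⁻¹)⁻¹ • b₀) ⊗ₜ[R] ConstGrp.e R ((g * γ⁻¹)⁻¹ * g)
      rw [mul_inv_rev, inv_inv, mul_smul, inv_mul_cancel_right]
    · rw [← ConstGrp.sum_e (R := R) (G := Γ), map_sum]
      simp only [hαe]
      rw [← hb₀]
      exact Fintype.sum_equiv (Equiv.inv Γ) _ _ (fun _ => rfl)

end Groth.Agent.S16963
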