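import Groth.Statements.S16966
import Mathlib
import Groth.Agent.Lib.CurveCliff1_helper9
import Groth.Agent.Lib.VBCurve5_helper9

set_option autoImplicit false
universe u
open CategoryTheory CategoryTheory.Limits AlgebraicGeometry Opposite
open Curves

namespace Groth.Agent.S16966

/-- Let X be a smooth projective curve over an algebraically closed field k of characteristic 0 (an
integral scheme, proper over k, of dimension one, with all local rings regular), of genus g ≥ 1, and
L an invertible O_X-module with deg L > 2g. Then the morphism to projective space given by the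
complete linear system of L is linearly stable, stated through the criterion by invertible
subsheaves: for every invertible module M and every monomorphism ι : M ⟶ L that is not an
isomorphism, with dim_k H^0(X, M) ≥ 2, one has deg L · (h^0(M) - 1) < deg M · (h^0(L) - 1), i.e. the
reduced degree deg M / (h^0(M) - 1) of the projection exceeds the reduced degree deg L / (h^0(L) -
1). Degrees are χ(·) - χ(O_X). -/
theorem result (k : Type u) [Field k] [IsAlgClosed k] [CharZero k] (X : Scheme.{u}) [X.Over (Spec (CommRingCat.of k))]
    [IsIntegral X] [IsProper (X ↘ (Spec (CommRingCat.of k)))] (hdim : topologicalKrullDim X = 1)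
    (hreg : ∀ x : X, IsRegularLocalRing (X.presheaf.stalk x))
    (hg : 1 ≤ Curv2.genus k X) (L : X.Modules) (hL : PicF.IsInvertible L)
    (hdeg : 2 * (Curv2.genus k X : ℤ) < Curv2.deg k X L 1)
    (M : X.Modules) (hM : PicF.IsInvertible M) (ι : M ⟶ L) [Mono ι] (hι : ¬ IsIso ι)
    (h2 : 2 ≤ Module.finrank k (Coh.HH X M 0)) :
    Curv2.deg k X L 1 * ((Module.finrank k (Coh.HH X M 0) : ℤ) - 1) <
      Curv2.deg k X M 1 * ((Module.finrank k (Coh.HH X L 0) : ℤ) - 1) := by
  haveI : IsLocallyNoetherian X :=
    LocallyOfFiniteType.isLocallyNoetherian (X ↘ Spec (CommRingCat.of k))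
  haveI : Nonempty X := inferInstance
  have hOc := CohDevH8.isCoh_structureModule X
  have hLc := ProperFinH9.isCoh_of_isInvertible hL
  haveI := hOc.1
  haveI := hLc.1
  -- `deg M < deg L`
  have hlt : Curv2.deg k X M 1 < Curv2.deg k X L 1 := by
    rcases VBCurve.line_hom_cases k X hdim hM hL ι with h | ⟨-, hle, hiso⟩
    · exact absurd (VBCurve.isZero_of_mono_eq_zero ι h) (VBCurve.not_isZero_of_isInvertible hM)
    · rcases lt_or_eq_of_le hle with h | h
      · exact h
      · exact absurd (hiso h) hι
  -- `h⁰(L) - 1 = deg L - g`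
  have hH1 : Subsingleton (Coh.HH X L 1) :=
    CurveAmple.HH1_subsingleton_of_deg_ge k X hdim.le hL (by omega)
  have e1 : Module.finrank k (Coh.HH X L 1) = 0 := Module.finrank_zero_of_subsingleton
  have e2 := CurveRR.euler_eq_sub k X hdim.le L
  have e3 := CurveRR.euler_eq_sub k X hdim.le (Coh.structureModule X)
  have e4 := CurveSpec.finrank_HH0_structureModule k X hdim
  have hgdef : Curv2.genus k X = Module.finrank k (Coh.HH X (Coh.structureModule X) 1) := rfl
  have e5 : (Module.finrank k (Coh.HH X L 0) : ℤ) - 1 =
      Curv2.deg k X L 1 - Curv2.genus k X := by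
    unfold Curv2.deg
    rw [hgdef]
    rw [e1] at e2
    rw [e4] at e3
    push_cast at e2 e3 ⊢
    omega
  obtain ⟨m, hm⟩ : ∃ m : ℕ, Module.finrank k (Coh.HH X M 0) = m + 1 := ⟨_, (Nat.sub_add_cancel (by omega)).symm⟩
  have h3 := CurveCliff.slope_lt k X hdim hg (Curv2.deg k X L 1) hdeg hM m (by omega)
    (by omega) hlt.le (Or.inl hlt)
  rw [e5, hm]
  push_cast
  rw [add_sub_cancel_right]
  exact h3

end Groth.Agent.S16966
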