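import Groth.Statements.S16979
import Mathlib

set_option autoImplicit false
universe u v
open CAlg

namespace Groth.Agent.S16979

/-- Let R be an integral domain with fraction field K and φ a square matrix over R whose characteristic
polynomial becomes separable in K[T] (equivalently, K[T] modulo the characteristic polynomial is
geometrically reduced over K). Then a polynomial f over R satisfies f(φ) = 0 exactly when the
characteristic polynomial of φ divides f in R[T]: the kernel of evaluation at φ (the minimal ideal
of φ) is the principal ideal generated by the characteristic polynomial. -/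
theorem result
    {R : Type u} [CommRing R] [IsDomain R] {n : Type v} [Fintype n] [DecidableEq n]
    (φ : Matrix n n R)
    (hsep : (φ.charpoly.map (algebraMap R (FractionRing R))).Separable) :
    RingHom.ker (Polynomial.aeval (R := R) φ) = Ideal.span {φ.charpoly} := by
  classical
  have hmonic := Matrix.charpoly_monic φ
  apply le_antisymm
  · intro f hf
    rw [RingHom.mem_ker] at hf
    rw [Ideal.mem_span_singleton]
    have hi : Function.Injective
        ((algebraMap (FractionRing R) (AlgebraicClosure (FractionRing R))).comp
          (algebraMap R (FractionRing R))) := by
      rw [RingHom.coe_comp]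
      exact (RingHom.injective
        (algebraMap (FractionRing R) (AlgebraicClosure (FractionRing R)))).comp
        (IsFractionRing.injective R (FractionRing R))
    generalize hidef : ((algebraMap (FractionRing R) (AlgebraicClosure (FractionRing R))).comp
          (algebraMap R (FractionRing R))) = i at hi
    rw [← Polynomial.map_dvd_map i hi hmonic]
    have hχ : φ.charpoly.map i = (φ.map i).charpoly := (Matrix.charpoly_map φ i).symm
    have hsepL : (φ.map i).charpoly.Separable := by
      rw [← hχ, ← hidef, ← Polynomial.map_map]
      exact hsep.map
    rw [hχ]
    generalize hψ : φ.map i = ψ at hsepL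
    have hgψ : Polynomial.aeval ψ (f.map i) = 0 := by
      have hcomm : (algebraMap (AlgebraicClosure (FractionRing R))
          (Matrix n n (AlgebraicClosure (FractionRing R)))).comp i =
          (i.mapMatrix (m := n)).comp (algebraMap R (Matrix n n R)) := by
        apply RingHom.ext; intro r
        apply Matrix.ext; intro a b
        simp only [RingHom.comp_apply, RingHom.mapMatrix_apply, Matrix.map_apply,
          Matrix.algebraMap_matrix_apply]
        split_ifs
        · simp
        · exact (map_zero i).symm
      have h := Polynomial.map_aeval_eq_aeval_map hcomm f φ
      rw [hf, map_zero, RingHom.mapMatrix_apply, hψ] at h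
      exact h.symm
    generalize f.map i = g at hgψ
    by_cases hg0 : g = 0
    · rw [hg0]; exact dvd_zero _
    apply Polynomial.Splits.dvd_of_roots_le_roots (IsAlgClosed.splits _)
      (Matrix.charpoly_monic ψ).ne_zero
    rw [Multiset.le_iff_subset (Polynomial.nodup_roots hsepL)]
    intro μ hμ
    rw [Polynomial.mem_roots (Matrix.charpoly_monic ψ).ne_zero, Polynomial.IsRoot.def,
      Matrix.eval_charpoly] at hμ
    obtain ⟨v, hv0, hv⟩ := Matrix.exists_mulVec_eq_zero_iff.mpr hμ
    have hev : ψ.mulVec v = μ • v := by
      rw [Matrix.sub_mulVec, sub_eq_zero] at hv
      rw [← hv]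
      funext x
      simp [Matrix.scalar_apply, Matrix.mulVec_diagonal]
    have hpow : ∀ m : ℕ, (ψ ^ m).mulVec v = (μ ^ m) • v := by
      intro m
      induction m with
      | zero => simp
      | succ m ih =>
        rw [pow_succ, ← Matrix.mulVec_mulVec, hev, Matrix.mulVec_smul, ih, smul_smul, pow_succ,
          mul_comm]
    have hpoly : ∀ q : Polynomial (AlgebraicClosure (FractionRing R)),
        (Polynomial.aeval ψ q).mulVec v = (q.eval μ) • v := by
      intro q
      induction q using Polynomial.induction_on' with
      | add p q hp hq => rw [map_add, Matrix.add_mulVec, hp, hq, Polynomial.eval_add, add_smul]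
      | monomial m a =>
        rw [Polynomial.aeval_monomial, Polynomial.eval_monomial, ← Algebra.smul_def,
          Matrix.smul_mulVec, hpow, smul_smul]
    have h0 := hpoly g
    rw [hgψ, Matrix.zero_mulVec] at h0
    rw [Polynomial.mem_roots hg0, Polynomial.IsRoot.def]
    rcases smul_eq_zero.mp h0.symm with h | h
    · exact h
    · exact absurd h hv0
  · rw [Ideal.span_le, Set.singleton_subset_iff, SetLike.mem_coe, RingHom.mem_ker]
    exact Matrix.aeval_self_charpoly φ

end Groth.Agent.S16979
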