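import Groth.Statements.S16981
import Mathlib

set_option autoImplicit false
universe u v
open CAlg

namespace Groth.Agent.S16981

theorem aux_noeth {A : Type*} {E : Type*} [CommRing A] [CommRing E] [IsNoetherianRing A]
    (f : E →+* A) (hf : Function.Surjective f) (hsq : RingHom.ker f ^ 2 = ⊥)
    (hfg : (RingHom.ker f).FG) : IsNoetherianRing E := by
  refine IsNoetherianRing.of_prime fun P hP => ?_
  have hKP : RingHom.ker f ≤ P := by
    refine hP.le_of_pow_le (n := 2) ?_
    rw [hsq]; exact bot_le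
  refine Ideal.fg_of_fg_map_of_fg_inf_ker_of_surjective (f := f) (IsNoetherian.noetherian _) ?_ hf
  rwa [inf_eq_right.2 hKP]

theorem aux_jac {A : Type*} {E : Type*} [CommRing A] [CommRing E] [IsLocalRing A]
    (f : E →+* A) (hf : Function.Surjective f) (hsq : RingHom.ker f ^ 2 = ⊥) :
    (IsLocalRing.maximalIdeal A).comap f ≤ Ideal.jacobson ⊥ := by
  intro x hx
  rw [Ideal.mem_jacobson_bot]
  intro y
  have hm : f x * f y ∈ IsLocalRing.maximalIdeal A :=
    Ideal.mul_mem_right _ _ (Ideal.mem_comap.1 hx)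
  have hu : IsUnit (f (x * y + 1)) := by
    rw [map_add, map_mul, map_one]
    by_contra hnu
    have h1 : f x * f y + 1 ∈ IsLocalRing.maximalIdeal A :=
      (IsLocalRing.mem_maximalIdeal _).2 hnu
    have h2 : (1 : A) ∈ IsLocalRing.maximalIdeal A := by
      have := Ideal.sub_mem _ h1 hm
      simpa using this
    exact (Ideal.ne_top_iff_one _).1 (IsLocalRing.maximalIdeal.isMaximal A).ne_top h2
  obtain ⟨v, hv⟩ := hf (↑hu.unit⁻¹ : A)
  obtain ⟨κ, hκ⟩ : ∃ κ : E, κ = (x * y + 1) * v - 1 := ⟨_, rfl⟩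
  have hκK : κ ∈ RingHom.ker f := by
    rw [RingHom.mem_ker, hκ, map_sub, map_mul, hv, map_one, hu.mul_val_inv, sub_self]
  have hκ2 : κ * κ = 0 := by
    have h3 : κ * κ ∈ RingHom.ker f ^ 2 := by rw [pow_two]; exact Ideal.mul_mem_mul hκK hκK
    rw [hsq] at h3
    exact (Submodule.mem_bot E).1 h3
  refine IsUnit.of_mul_eq_one (v * (1 - κ)) ?_
  have h4 : (x * y + 1) * v = 1 + κ := by rw [hκ]; ring
  calc (x * y + 1) * (v * (1 - κ)) = ((x * y + 1) * v) * (1 - κ) := by ring
    _ = (1 + κ) * (1 - κ) := by rw [h4]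
    _ = 1 - κ * κ := by ring
    _ = 1 := by rw [hκ2, sub_zero]

theorem aux {A : Type*} {E : Type*} [CommRing A] [CommRing E] [IsNoetherianRing A]
    [IsLocalRing A] [IsAdicComplete (IsLocalRing.maximalIdeal A) A]
    (f : E →+* A) (hf : Function.Surjective f)
    (hsq : RingHom.ker f ^ 2 = ⊥) (hfg : (RingHom.ker f).FG) :
    IsAdicComplete ((IsLocalRing.maximalIdeal A).comap f) E := by
  haveI hE : IsNoetherianRing E := aux_noeth f hf hsq hfg
  obtain ⟨𝔪, h𝔪⟩ : ∃ 𝔪 : Ideal A, 𝔪 = IsLocalRing.maximalIdeal A := ⟨_, rfl⟩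
  haveI hcA : IsAdicComplete 𝔪 A := by rw [h𝔪]; infer_instance
  rw [← h𝔪]
  obtain ⟨𝔫, h𝔫⟩ : ∃ 𝔫 : Ideal E, 𝔫 = 𝔪.comap f := ⟨_, rfl⟩
  rw [← h𝔫]
  obtain ⟨K, hK⟩ : ∃ K : Ideal E, K = RingHom.ker f := ⟨_, rfl⟩
  rw [← hK] at hsq hfg
  haveI : IsHausdorff 𝔫 E := by
    rw [h𝔫, h𝔪]
    exact IsHausdorff.of_le_jacobson _ E (aux_jac f hf (by rw [← hK]; exact hsq))
  have hmap : ∀ n, Ideal.map f (𝔫 ^ n) = 𝔪 ^ n := fun n => by
    rw [Ideal.map_pow, h𝔫, Ideal.map_comap_of_surjective f hf]
  have hlift : ∀ n (z : E), f z ∈ 𝔪 ^ n → ∃ y ∈ 𝔫 ^ n, z - y ∈ K := by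
    intro n z hz
    rw [← hmap n] at hz
    obtain ⟨y, hy, hyz⟩ := (Ideal.mem_map_iff_of_surjective f hf).1 hz
    exact ⟨y, hy, by rw [hK, RingHom.mem_ker, map_sub, hyz, sub_self]⟩
  have hfpow : ∀ n (z : E), z ∈ 𝔫 ^ n → f z ∈ 𝔪 ^ n := fun n z hz => by
    rw [← hmap n]; exact Ideal.mem_map_of_mem f hz
  have hKK : ∀ a ∈ K, ∀ b ∈ K, a * b = 0 := by
    intro a ha b hb
    have h3 : a * b ∈ K ^ 2 := by rw [pow_two]; exact Ideal.mul_mem_mul ha hb
    rw [hsq] at h3
    exact (Submodule.mem_bot E).1 h3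
  have hprecA : ∀ s : ℕ → A, (∀ n, s (n + 1) - s n ∈ 𝔪 ^ n) → ∃ L, ∀ n, s n - L ∈ 𝔪 ^ n := by
    intro s hs
    have hc : ∀ {m n}, m ≤ n → s m ≡ s n [SMOD (𝔪 ^ m • ⊤ : Submodule A A)] := by
      intro m n hmn
      rw [SModEq.sub_mem, smul_eq_mul, Ideal.mul_top]
      induction n, hmn using Nat.le_induction with
      | base => simp
      | succ n hmn ih =>
        have h1 : s (n + 1) - s n ∈ 𝔪 ^ m := Ideal.pow_le_pow_right hmn (hs n)
        have h2 : s m - s (n + 1) = (s m - s n) - (s (n + 1) - s n) := by ring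
        rw [h2]; exact Ideal.sub_mem _ ih h1
    obtain ⟨L, hL⟩ := IsPrecomplete.prec (inferInstance : IsPrecomplete 𝔪 A) (f := s) hc
    exact ⟨L, fun n => by
      have h5 := hL n
      rwa [SModEq.sub_mem, smul_eq_mul, Ideal.mul_top] at h5⟩
  haveI : IsPrecomplete 𝔫 E := by
    refine ⟨fun x hx => ?_⟩
    have hx' : ∀ {m n}, m ≤ n → x m - x n ∈ 𝔫 ^ m := by
      intro m n hmn
      have h5 := hx hmn
      rwa [SModEq.sub_mem, smul_eq_mul, Ideal.mul_top] at h5
    obtain ⟨a, ha⟩ := hprecA (fun n => f (x n)) (fun n => by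
      have h5 := hfpow n _ (hx' (Nat.le_succ n))
      rw [map_sub] at h5
      have h2 : f (x (n + 1)) - f (x n) = -(f (x n) - f (x (n + 1))) := by ring
      show f (x (n + 1)) - f (x n) ∈ 𝔪 ^ n
      rw [h2]; exact neg_mem h5)
    obtain ⟨e, rfl⟩ := hf a
    have hy : ∀ n, ∃ y ∈ 𝔫 ^ n, x n - e - y ∈ K := fun n =>
      hlift n (x n - e) (by rw [map_sub]; exact ha n)
    choose y hy1 hy2 using hy
    obtain ⟨k, hk⟩ : ∃ k : ℕ → E, ∀ n, k n = x n - e - y n := ⟨_, fun _ => rfl⟩
    have hkdiff : ∀ {m n}, m ≤ n → k m - k n ∈ 𝔫 ^ m ⊓ K := by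
      intro m n hmn
      refine Submodule.mem_inf.2 ⟨?_, ?_⟩
      · have h2 : k m - k n = (x m - x n) - y m + y n := by rw [hk, hk]; ring
        rw [h2]
        exact Ideal.add_mem _ (Ideal.sub_mem _ (hx' hmn) (hy1 m))
          (Ideal.pow_le_pow_right hmn (hy1 n))
      · rw [hk, hk]; exact Ideal.sub_mem _ (hy2 m) (hy2 n)
    obtain ⟨c, hc⟩ := Ideal.exists_pow_inf_eq_pow_smul 𝔫 (K : Submodule E E)
    have hAR : ∀ j, 𝔫 ^ (j + c) ⊓ K ≤ 𝔫 ^ j • K := by
      intro j
      have h5 := hc (j + c) (Nat.le_add_left c j)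
      rw [smul_eq_mul, Ideal.mul_top, Nat.add_sub_cancel] at h5
      rw [h5]
      exact smul_mono_right _ inf_le_right
    obtain ⟨r, κ, hκ⟩ := Submodule.fg_iff_exists_fin_generating_family.1 hfg
    have hκK : ∀ i, κ i ∈ K := fun i => by rw [← hκ]; exact Submodule.subset_span ⟨i, rfl⟩
    have hd : ∀ j, ∃ a : Fin r → E, (∀ i, a i ∈ 𝔫 ^ j) ∧
        ∑ i, a i * κ i = k (j + 1 + c) - k (j + c) := by
      intro j
      have h1 : k (j + 1 + c) - k (j + c) ∈ 𝔫 ^ j • Submodule.span E (Set.range κ) := by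
        rw [hκ]
        apply hAR j
        have h5 := hkdiff (show j + c ≤ j + 1 + c by omega)
        have h2 : k (j + 1 + c) - k (j + c) = -(k (j + c) - k (j + 1 + c)) := by ring
        rw [h2]; exact neg_mem h5
      rw [Submodule.mem_ideal_smul_span_iff_exists_sum] at h1
      obtain ⟨a, ha1, ha2⟩ := h1
      refine ⟨a, ha1, ?_⟩
      rw [← ha2, Finsupp.sum_fintype a (fun i c => c • κ i) (fun i => zero_smul _ _)]
      simp [smul_eq_mul]
    choose a ha1 ha2 using hd
    have hL : ∀ i, ∃ L : A, ∀ J, (∑ j ∈ Finset.range J, f (a j i)) - L ∈ 𝔪 ^ J := fun i =>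
      hprecA (fun J => ∑ j ∈ Finset.range J, f (a j i)) (fun J => by
        simp only [Finset.sum_range_succ, add_sub_cancel_left]
        exact hfpow _ _ (ha1 J i))
    choose L hL using hL
    have hl : ∀ i, ∃ l : E, f l = L i := fun i => hf (L i)
    choose l hl using hl
    refine ⟨e + k c + ∑ i, l i * κ i, fun n => ?_⟩
    have htel : ∀ J, k (J + c) = k c + ∑ i, (∑ j ∈ Finset.range J, a j i) * κ i := by
      intro J
      induction J with
      | zero => simp
      | succ J ih =>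
        have h1 : k (J + 1 + c) = k (J + c) + ∑ i, a J i * κ i := by rw [ha2 J]; ring
        rw [h1, ih, add_assoc, ← Finset.sum_add_distrib]
        congr 1
        refine Finset.sum_congr rfl fun i _ => ?_
        rw [Finset.sum_range_succ, add_mul]
    have hterm : ∀ J i, ((∑ j ∈ Finset.range J, a j i) - l i) * κ i ∈ 𝔫 ^ J := by
      intro J i
      obtain ⟨z, hz1, hz2⟩ := hlift J ((∑ j ∈ Finset.range J, a j i) - l i) (by
        rw [map_sub, map_sum, hl i]; exact hL i J)
      have h2 : ((∑ j ∈ Finset.range J, a j i) - l i) * κ i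
          = z * κ i + ((∑ j ∈ Finset.range J, a j i) - l i - z) * κ i := by ring
      rw [h2, hKK _ hz2 _ (hκK i), add_zero]
      exact Ideal.mul_mem_right _ _ hz1
    have hmain : ∀ J, x (J + c) - (e + k c + ∑ i, l i * κ i) ∈ 𝔫 ^ J := by
      intro J
      have h1 : x (J + c) - (e + k c + ∑ i, l i * κ i)
          = y (J + c) + ∑ i, ((∑ j ∈ Finset.range J, a j i) - l i) * κ i := by
        have h2 : x (J + c) = e + y (J + c) + k (J + c) := by rw [hk]; ring
        rw [h2, htel J]
        simp only [sub_mul, Finset.sum_sub_distrib]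
        ring
      rw [h1]
      exact Ideal.add_mem _ (Ideal.pow_le_pow_right (Nat.le_add_right J c) (hy1 (J + c)))
        (Ideal.sum_mem _ fun i _ => hterm J i)
    rw [SModEq.sub_mem, smul_eq_mul, Ideal.mul_top]
    have h2 : x n - (e + k c + ∑ i, l i * κ i)
        = (x n - x (n + c)) + (x (n + c) - (e + k c + ∑ i, l i * κ i)) := by ring
    rw [h2]
    exact Ideal.add_mem _ (hx' (Nat.le_add_right n c)) (hmain n)
  exact {}

/-- Let A be a complete Noetherian local ring and f : E → A a surjective ring homomorphism whose kernel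
has square zero and is finitely generated (equivalently, is a finite A-module for the induced module
structure). Then E is separated and complete for the adic topology of the inverse image of the
maximal ideal of A. (The published statement takes A to be the completion of a local ring of a
scheme of finite type over an Artinian local ring and the kernel the completion of a finite module;
this row assumes only that A is complete Noetherian local and the kernel finitely generated.) -/
theorem result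
    {A : Type u} {E : Type v} [CommRing A] [CommRing E] [IsNoetherianRing A] [IsLocalRing A]
    [IsAdicComplete (IsLocalRing.maximalIdeal A) A]
    (f : E →+* A) (hf : Function.Surjective f)
    (hsq : RingHom.ker f ^ 2 = ⊥) (hfg : (RingHom.ker f).FG) :
    IsAdicComplete ((IsLocalRing.maximalIdeal A).comap f) E := by
  exact aux f hf hsq hfg

end Groth.Agent.S16981
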