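import Groth.Statements.S16982
import Mathlib
import Groth.Agent.S16981

set_option autoImplicit false
universe u v w w'
open CAlg

namespace Groth.Agent.S16982

theorem aux {R : Type*} [CommRing R] {σ : Type*} [Finite σ]
    {A : Type*} {E : Type*} [CommRing A] [CommRing E] [Algebra R A] [Algebra R E]
    [IsNoetherianRing A] [IsLocalRing A] [IsAdicComplete (IsLocalRing.maximalIdeal A) A]
    (π : MvPowerSeries σ R →ₐ[R] A) (hπ : Function.Surjective π)
    (f : E →ₐ[R] A) (hf : Function.Surjective f)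
    (hsq : RingHom.ker f.toRingHom ^ 2 = ⊥) (hfg : (RingHom.ker f.toRingHom).FG) :
    ∃ l : MvPowerSeries σ R →ₐ[R] E, f.comp l = π := by
  classical
  obtain ⟨𝔪, h𝔪⟩ : ∃ 𝔪 : Ideal A, 𝔪 = IsLocalRing.maximalIdeal A := ⟨_, rfl⟩
  obtain ⟨𝔫, h𝔫⟩ : ∃ 𝔫 : Ideal E, 𝔫 = 𝔪.comap f.toRingHom := ⟨_, rfl⟩
  haveI hcE : IsAdicComplete 𝔫 E := by
    rw [h𝔫, h𝔪]; exact Groth.Agent.S16981.result f.toRingHom hf hsq hfg
  haveI hcA : IsAdicComplete 𝔪 A := by rw [h𝔪]; infer_instance
  have hf𝔫 : ∀ n (z : E), z ∈ 𝔫 ^ n → f z ∈ 𝔪 ^ n := by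
    intro n z hz
    have h1 : Ideal.map f.toRingHom (𝔫 ^ n) ≤ 𝔪 ^ n := by
      rw [Ideal.map_pow, h𝔫]; exact Ideal.pow_right_mono Ideal.map_comap_le n
    exact h1 (Ideal.mem_map_of_mem f.toRingHom hz)
  -- Step 1
  have hX : ∀ s, π (MvPowerSeries.X s) ∈ 𝔪 := by
    intro s
    rw [h𝔪]
    by_contra hns
    have hu : IsUnit (π (MvPowerSeries.X s)) := by
      by_contra h; exact hns ((IsLocalRing.mem_maximalIdeal _).2 h)
    obtain ⟨g, hg⟩ := hπ (↑hu.unit⁻¹ : A)
    have h1 : IsUnit (1 - MvPowerSeries.X s * g : MvPowerSeries σ R) := by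
      rw [MvPowerSeries.isUnit_iff_constantCoeff]
      simp
    have h2 : π (1 - MvPowerSeries.X s * g) = 0 := by
      rw [map_sub, map_one, map_mul, hg, hu.mul_val_inv, sub_self]
    have h3 := h1.map π
    rw [h2] at h3
    exact not_isUnit_zero h3
  -- Step 2
  have he : ∀ s, ∃ e : E, f e = π (MvPowerSeries.X s) := fun s => hf _
  choose e he using he
  have he𝔫 : ∀ s, e s ∈ 𝔫 := fun s => by
    rw [h𝔫, Ideal.mem_comap]
    show f (e s) ∈ 𝔪
    rw [he s]; exact hX s
  -- Step 3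
  obtain ⟨ψ, hψ⟩ : ∃ ψ : MvPolynomial σ R →ₐ[R] E, ψ = MvPolynomial.aeval e := ⟨_, rfl⟩
  have hψX : ∀ s, ψ (MvPolynomial.X s) = e s := fun s => by rw [hψ, MvPolynomial.aeval_X]
  have hψI : ∀ n, ∀ p ∈ MvPolynomial.idealOfVars σ R ^ n, ψ p ∈ 𝔫 ^ n := by
    intro n p hp
    have h1 : Ideal.map ψ.toRingHom (MvPolynomial.idealOfVars σ R) ≤ 𝔫 := by
      rw [MvPolynomial.idealOfVars, Ideal.map_span, Ideal.span_le]
      rintro _ ⟨_, ⟨s, rfl⟩, rfl⟩
      show ψ (MvPolynomial.X s) ∈ 𝔫
      rw [hψX]; exact he𝔫 s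
    have h2 : Ideal.map ψ.toRingHom (MvPolynomial.idealOfVars σ R ^ n) ≤ 𝔫 ^ n := by
      rw [Ideal.map_pow]; exact Ideal.pow_right_mono h1 n
    exact h2 (Ideal.mem_map_of_mem _ hp)
  -- Step 4
  have hIJ : ∀ n, MvPolynomial.idealOfVars σ R ^ n ≤ Ideal.comap ψ.toRingHom (𝔫 ^ n) :=
    fun n p hp => Ideal.mem_comap.2 (hψI n p hp)
  obtain ⟨fn, hfn⟩ : ∃ fn : (n : ℕ) → MvPowerSeries σ R →+* E ⧸ 𝔫 ^ n,
      ∀ n g, fn n g = Ideal.Quotient.mk (𝔫 ^ n) (ψ (MvPowerSeries.truncTotal n g)) := by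
    refine ⟨fun n => (Ideal.quotientMap (𝔫 ^ n) ψ.toRingHom (hIJ n)).comp
      (MvPowerSeries.truncTotalAlgHom σ R n).toRingHom, fun n g => ?_⟩
    show Ideal.quotientMap (𝔫 ^ n) ψ.toRingHom (hIJ n)
      (MvPowerSeries.truncTotalAlgHom σ R n g) = _
    rw [MvPowerSeries.truncTotalAlgHom_apply, Ideal.quotientMap_mk]
    rfl
  have hcompat : ∀ {m n : ℕ} (hle : m ≤ n),
      (Ideal.Quotient.factorPow 𝔫 hle).comp (fn n) = fn m := by
    intro m n hle
    ext g
    rw [RingHom.comp_apply, hfn, hfn, Ideal.Quotient.factor_mk, Ideal.Quotient.mk_eq_mk_iff_sub_mem,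
      ← map_sub]
    exact hψI m _ (MvPowerSeries.truncTotal_sub_truncTotal_mem_pow_idealOfVars hle le_rfl g)
  obtain ⟨l0, hl0⟩ : ∃ l0 : MvPowerSeries σ R →+* E,
      ∀ n g, Ideal.Quotient.mk (𝔫 ^ n) (l0 g) = fn n g :=
    ⟨IsAdicComplete.liftRingHom 𝔫 fn (fun hle => hcompat hle),
      fun n g => IsAdicComplete.mk_liftRingHom 𝔫 fn (fun hle => hcompat hle) n g⟩
  have hl0' : ∀ n g, l0 g - ψ (MvPowerSeries.truncTotal n g) ∈ 𝔫 ^ n := fun n g => by
    rw [← Ideal.Quotient.mk_eq_mk_iff_sub_mem, hl0, hfn]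
  have hl0coe : ∀ p : MvPolynomial σ R, l0 (p : MvPowerSeries σ R) = ψ p := by
    intro p
    refine sub_eq_zero.1 (IsHausdorff.haus hcE.toIsHausdorff _ fun n => ?_)
    rw [SModEq.zero, smul_eq_mul, Ideal.mul_top]
    have h3 : MvPowerSeries.truncTotal n (p : MvPowerSeries σ R) - p
        ∈ MvPolynomial.idealOfVars σ R ^ n := by
      rw [MvPolynomial.mem_pow_idealOfVars_iff']
      intro x h
      rw [MvPolynomial.coeff_sub, sub_eq_zero, MvPowerSeries.coeff_truncTotal _ h,
        MvPolynomial.coeff_coe]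
    have h4 : l0 (p : MvPowerSeries σ R) - ψ p
        = (l0 (p : MvPowerSeries σ R) - ψ (MvPowerSeries.truncTotal n (p : MvPowerSeries σ R)))
          + ψ (MvPowerSeries.truncTotal n (p : MvPowerSeries σ R) - p) := by
      rw [map_sub]; ring
    rw [h4]
    exact Ideal.add_mem _ (hl0' n _) (hψI n _ h3)
  have hcomm : ∀ r : R, l0 (algebraMap R (MvPowerSeries σ R) r) = algebraMap R E r := by
    intro r
    have h1 : algebraMap R (MvPowerSeries σ R) r
        = ((MvPolynomial.C r : MvPolynomial σ R) : MvPowerSeries σ R) := by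
      rw [MvPolynomial.coe_C, MvPowerSeries.c_eq_algebraMap]
    rw [h1, hl0coe]
    have h2 := ψ.commutes r
    rwa [MvPolynomial.algebraMap_eq] at h2
  refine ⟨{ l0 with commutes' := hcomm }, AlgHom.ext fun g => ?_⟩
  show f (l0 g) = π g
  have hfψ : ∀ p : MvPolynomial σ R, f (ψ p) = π (p : MvPowerSeries σ R) := by
    intro p
    induction p using MvPolynomial.induction_on with
    | C r =>
      rw [MvPolynomial.coe_C, MvPowerSeries.c_eq_algebraMap, ← MvPolynomial.algebraMap_eq,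
        AlgHom.commutes, AlgHom.commutes, AlgHom.commutes]
    | add p q hp hq => rw [map_add, map_add, hp, hq, MvPolynomial.coe_add, map_add]
    | mul_X p s hp =>
      rw [map_mul, map_mul, hp, hψX, he, MvPolynomial.coe_mul, MvPolynomial.coe_X, map_mul]
  have hcoe : ∀ i : MvPolynomial σ R,
      algebraMap (MvPolynomial σ R) (MvPowerSeries σ R) i = (i : MvPowerSeries σ R) := fun i => by
    rw [MvPowerSeries.algebraMap_apply', Algebra.algebraMap_self, MvPowerSeries.map_id]
    rfl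
  have hkey : ∀ n, π (g - ((MvPowerSeries.truncTotal n g : MvPolynomial σ R) :
      MvPowerSeries σ R)) ∈ 𝔪 ^ n := by
    intro n
    have hQ : ∀ y ∈ (MvPolynomial.idealOfVars σ R ^ n • ⊤ : Submodule (MvPolynomial σ R)
        (AdicCompletion (MvPolynomial.idealOfVars σ R) (MvPolynomial σ R))),
        π ((MvPowerSeries.toAdicCompletionAlgEquiv σ R).symm y) ∈ 𝔪 ^ n := by
      intro y hy
      refine Submodule.smul_induction_on hy (fun i hi z _ => ?_) (fun y1 y2 h1 h2 => ?_)
      · rw [map_smul, Algebra.smul_def, hcoe, map_mul, ← hfψ]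
        exact Ideal.mul_mem_right _ _ (hf𝔫 n _ (hψI n i hi))
      · rw [map_add, map_add]; exact Ideal.add_mem _ h1 h2
    have h2 : MvPowerSeries.toAdicCompletionAlgEquiv σ R
        (g - ((MvPowerSeries.truncTotal n g : MvPolynomial σ R) : MvPowerSeries σ R)) ∈
        (MvPolynomial.idealOfVars σ R ^ n • ⊤ : Submodule (MvPolynomial σ R)
        (AdicCompletion (MvPolynomial.idealOfVars σ R) (MvPolynomial σ R))) := by
      rw [AdicCompletion.pow_smul_top_eq_ker_eval (MvPolynomial.idealOfVars_fg σ R),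
        LinearMap.mem_ker, map_sub, map_sub, MvPowerSeries.toAdicCompletionAlgEquiv_apply,
        MvPowerSeries.toAdicCompletionAlgEquiv_apply, MvPowerSeries.toAdicCompletion_coe,
        AdicCompletion.eval_of, AdicCompletion.eval_apply,
        MvPowerSeries.toAdicCompletion_apply_eq_mk_truncTotal]
      exact sub_self _
    have h3 := hQ _ h2
    rwa [AlgEquiv.symm_apply_apply] at h3
  refine sub_eq_zero.1 (IsHausdorff.haus hcA.toIsHausdorff _ fun n => ?_)
  rw [SModEq.zero, smul_eq_mul, Ideal.mul_top]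
  have h5 : f (l0 g) - π g = f (l0 g - ψ (MvPowerSeries.truncTotal n g))
      - π (g - ((MvPowerSeries.truncTotal n g : MvPolynomial σ R) : MvPowerSeries σ R)) := by
    rw [map_sub, map_sub, hfψ]; ring
  rw [h5]
  exact Ideal.sub_mem _ (hf𝔫 n _ (hl0' n g)) (hkey n)

/-- Let R be a commutative ring, A a complete Noetherian local R-algebra written as a quotient of a
power series ring over R in finitely many variables by a surjective R-algebra map π, and f : E → A a
surjective R-algebra map whose kernel has square zero and is finitely generated. Then π lifts along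
f to an R-algebra map λ from the power series ring to E with f ∘ λ = π. (The published statement
takes R Artinian local and asks for a lift that is continuous for the adic topologies; this row
allows any commutative R and asks for any lift.) -/
theorem result
    {R : Type u} [CommRing R] {σ : Type v} [Finite σ]
    {A : Type w} {E : Type w'} [CommRing A] [CommRing E] [Algebra R A] [Algebra R E]
    [IsNoetherianRing A] [IsLocalRing A] [IsAdicComplete (IsLocalRing.maximalIdeal A) A]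
    (π : MvPowerSeries σ R →ₐ[R] A) (hπ : Function.Surjective π)
    (f : E →ₐ[R] A) (hf : Function.Surjective f)
    (hsq : RingHom.ker f.toRingHom ^ 2 = ⊥) (hfg : (RingHom.ker f.toRingHom).FG) :
    ∃ l : MvPowerSeries σ R →ₐ[R] E, f.comp l = π := by
  exact aux π hπ f hf hsq hfg

end Groth.Agent.S16982
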