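import Groth.Statements.S16983
import Mathlib

set_option autoImplicit false
universe u
open DeformData

namespace Groth.Agent.S16983

theorem aux {B : Type u} [Fintype B] [DecidableEq B] (B₀ : Finset B) (hB₀ : B₀.card = 3)
    (p : ℕ) (s : ℕ) (hs : 0 < s)
    (m : B → ℕ) (hm : ∀ j, 0 < m j) (hmp : ∀ j, Nat.Coprime (m j) p)
    (σ : Fin s → B → ℚ) (hint : ∀ i j, ∃ h : ℤ, σ i j = (h : ℚ) / (m j : ℚ))
    (hsum : ∀ i, ∑ j, (σ i j - 1) = -2)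
    (hfract : ∀ i j, Int.fract (σ i j) = Int.fract ((p : ℚ) ^ (i : ℕ) * σ ⟨0, hs⟩ j))
    (hne : ∀ i j, σ i j ≠ 1)
    (hB₀min : ∀ j ∈ B₀, (∃ i, ⌊σ i j⌋ = 0) ∧ ∀ i, 0 ≤ ⌊σ i j⌋)
    (hBmin : ∀ j ∉ B₀, (∃ i, ⌊σ i j⌋ = 1) ∧ ∀ i, 1 ≤ ⌊σ i j⌋) :
    (∀ i, ∑ j, Int.fract (σ i j) = 1) ∧ (∀ i j, ⌊σ i j⌋ = if j ∈ B₀ then 0 else 1) := by
  classical
  have hμle : ∀ i j, (if j ∈ B₀ then (0 : ℤ) else 1) ≤ ⌊σ i j⌋ := by
    intro i j
    by_cases hj : j ∈ B₀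
    · rw [if_pos hj]; exact (hB₀min j hj).2 i
    · rw [if_neg hj]; exact (hBmin j hj).2 i
  have hμsum : ∑ j : B, ((((if j ∈ B₀ then (0 : ℤ) else 1) - 1 : ℤ)) : ℚ) = -3 := by
    have h1 : ∀ j : B, ((((if j ∈ B₀ then (0 : ℤ) else 1) - 1 : ℤ)) : ℚ) =
        if j ∈ B₀ then (-1 : ℚ) else 0 := by
      intro j
      by_cases hj : j ∈ B₀
      · simp [hj]
      · simp [hj]
    rw [Finset.sum_congr rfl (fun j _ => h1 j), Finset.sum_ite_mem, Finset.univ_inter,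
      Finset.sum_const, hB₀]
    norm_num
  have hkey : ∀ i, ((∑ j, (⌊σ i j⌋ - (if j ∈ B₀ then (0 : ℤ) else 1)) : ℤ) : ℚ) +
      ∑ j, Int.fract (σ i j) = 1 := by
    intro i
    have h1 : ∑ j, (σ i j - 1) = ∑ j, ((((⌊σ i j⌋ - (if j ∈ B₀ then (0 : ℤ) else 1) : ℤ)) : ℚ) +
        ((((if j ∈ B₀ then (0 : ℤ) else 1) - 1 : ℤ)) : ℚ) + Int.fract (σ i j)) := by
      apply Finset.sum_congr rfl
      intro j _
      have h2 := Int.floor_add_fract (σ i j)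
      push_cast
      linarith
    rw [hsum i, Finset.sum_add_distrib, Finset.sum_add_distrib, hμsum] at h1
    rw [Int.cast_sum]
    linarith
  have hSnonneg : ∀ i, 0 ≤ ∑ j, Int.fract (σ i j) :=
    fun i => Finset.sum_nonneg (fun j _ => Int.fract_nonneg _)
  have hDnonneg : ∀ i, 0 ≤ ∑ j, (⌊σ i j⌋ - (if j ∈ B₀ then (0 : ℤ) else 1)) :=
    fun i => Finset.sum_nonneg (fun j _ => sub_nonneg.mpr (hμle i j))
  have hD0 : ∀ i, ∑ j, (⌊σ i j⌋ - (if j ∈ B₀ then (0 : ℤ) else 1)) = 0 := by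
    intro i₀
    by_contra hD
    have hD1 : 1 ≤ ∑ j, (⌊σ i₀ j⌋ - (if j ∈ B₀ then (0 : ℤ) else 1)) := by
      have h0 := hDnonneg i₀; omega
    have hS0 : ∑ j, Int.fract (σ i₀ j) = 0 := by
      have h1 := hkey i₀
      have h2 : (1 : ℚ) ≤ ((∑ j, (⌊σ i₀ j⌋ - (if j ∈ B₀ then (0 : ℤ) else 1)) : ℤ) : ℚ) := by
        exact_mod_cast hD1
      have h3 := hSnonneg i₀
      linarith
    have hDeq : ∑ j, (⌊σ i₀ j⌋ - (if j ∈ B₀ then (0 : ℤ) else 1)) = 1 := by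
      have h1 := hkey i₀
      rw [hS0, add_zero] at h1
      exact_mod_cast h1
    have hfr0 : ∀ j, Int.fract (σ i₀ j) = 0 := fun j =>
      (Finset.sum_eq_zero_iff_of_nonneg (fun j _ => Int.fract_nonneg _)).mp hS0 j
        (Finset.mem_univ j)
    have hint0 : ∀ j, ∃ z : ℤ, σ ⟨0, hs⟩ j = z := by
      intro j
      obtain ⟨h, hh⟩ := hint ⟨0, hs⟩ j
      have h1 : Int.fract ((p : ℚ) ^ (i₀ : ℕ) * σ ⟨0, hs⟩ j) = 0 := by rw [← hfract, hfr0]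
      have h2 : (p : ℚ) ^ (i₀ : ℕ) * σ ⟨0, hs⟩ j =
          (⌊(p : ℚ) ^ (i₀ : ℕ) * σ ⟨0, hs⟩ j⌋ : ℚ) := by
        have h0 := Int.floor_add_fract ((p : ℚ) ^ (i₀ : ℕ) * σ ⟨0, hs⟩ j)
        rw [h1, add_zero] at h0
        exact h0.symm
      have hm0 : (m j : ℚ) ≠ 0 := by exact_mod_cast (hm j).ne'
      have h3 : (h * (p : ℤ) ^ (i₀ : ℕ) : ℤ) =
          ⌊(p : ℚ) ^ (i₀ : ℕ) * σ ⟨0, hs⟩ j⌋ * (m j : ℤ) := by
        have h4 : (h : ℚ) * (p : ℚ) ^ (i₀ : ℕ) =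
            (⌊(p : ℚ) ^ (i₀ : ℕ) * σ ⟨0, hs⟩ j⌋ : ℚ) * (m j : ℚ) := by
          rw [← h2, hh]; field_simp
        exact_mod_cast h4
      have hcop : IsCoprime (m j : ℤ) ((p : ℤ) ^ (i₀ : ℕ)) := by
        have h5 := Nat.isCoprime_iff_coprime.mpr ((hmp j).pow_right (i₀ : ℕ))
        exact_mod_cast h5
      have hdvd : (m j : ℤ) ∣ h :=
        hcop.dvd_of_dvd_mul_right ⟨⌊(p : ℚ) ^ (i₀ : ℕ) * σ ⟨0, hs⟩ j⌋, by rw [h3]; ring⟩
      obtain ⟨h', hh'⟩ := hdvd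
      refine ⟨h', ?_⟩
      rw [hh, hh']; push_cast; field_simp
    have hfrall : ∀ i j, Int.fract (σ i j) = 0 := by
      intro i j
      obtain ⟨z, hz⟩ := hint0 j
      rw [hfract, hz]
      have h0 : (p : ℚ) ^ (i : ℕ) * (z : ℚ) = (((p : ℤ) ^ (i : ℕ) * z : ℤ) : ℚ) := by
        push_cast; ring
      rw [h0, Int.fract_intCast]
    have hσfloor : ∀ i j, σ i j = (⌊σ i j⌋ : ℚ) := by
      intro i j
      have h0 := Int.floor_add_fract (σ i j)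
      rw [hfrall, add_zero] at h0
      exact h0.symm
    by_cases hex : ∃ j, j ∉ B₀
    · obtain ⟨j, hj⟩ := hex
      obtain ⟨i, hi⟩ := (hBmin j hj).1
      apply hne i j
      rw [hσfloor, hi]; norm_num
    · push Not at hex
      have hsumfl : ∑ j, ⌊σ i₀ j⌋ = 1 := by
        rw [← hDeq]
        apply Finset.sum_congr rfl
        intro j _; rw [if_pos (hex j), sub_zero]
      have hfl0 : ∀ j, 0 ≤ ⌊σ i₀ j⌋ := fun j => (hB₀min j (hex j)).2 i₀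
      have hfl1 : ∀ j, ⌊σ i₀ j⌋ ≠ 1 := by
        intro j h1
        apply hne i₀ j
        rw [hσfloor, h1]; norm_num
      have hpos : ∃ j, 0 < ⌊σ i₀ j⌋ := by
        by_contra hcon
        push Not at hcon
        have h0 : ∑ j, ⌊σ i₀ j⌋ ≤ 0 := Finset.sum_nonpos (fun j _ => hcon j)
        omega
      obtain ⟨j, hj⟩ := hpos
      have h2 : 2 ≤ ⌊σ i₀ j⌋ := by have h0 := hfl1 j; omega
      have h3 : ⌊σ i₀ j⌋ ≤ ∑ j, ⌊σ i₀ j⌋ :=
        Finset.single_le_sum (fun j _ => hfl0 j) (Finset.mem_univ j)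
      omega
  refine ⟨fun i => ?_, fun i j => ?_⟩
  · have h1 := hkey i
    rw [hD0 i] at h1
    simpa using h1
  · have h1 := (Finset.sum_eq_zero_iff_of_nonneg
      (fun j _ => sub_nonneg.mpr (hμle i j))).mp (hD0 i) j (Finset.mem_univ j)
    omega

/-- Let p be a prime, s ≥ 1, B a finite index set with a subset B₀ of exactly three elements, m_j ≥ 1
integers coprime to p, and σ_{i,j} (i < s, j ∈ B) rational numbers with m_j σ_{i,j} an integer, such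
that Σ_j (σ_{i,j} − 1) = −2 for every i, the fractional part of σ_{i,j} equals that of p^i σ_{0,j},
no σ_{i,j} equals 1, and the minimum over i of ⌊σ_{i,j}⌋ is 0 for j ∈ B₀ and 1 for j ∉ B₀. Then for
every i the fractional parts ⟨σ_{i,j}⟩ sum over j to 1 (purity), and ⌊σ_{i,j}⌋ is 0 on B₀ and 1 off
B₀ for every i. (The hypotheses are exactly the properties of the signature of a special deformation
datum on the projective line: each entry is an integer divided by a stabilizer order m_j in a group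
of order prime to p, the degree identity coming from Riemann–Hurwitz, the Frobenius-twist relation
between fractional parts, and the speciality conditions; the statement is given here for any such
tuple.) -/
theorem result
    {B : Type u} [Fintype B] [DecidableEq B] (B₀ : Finset B) (hB₀ : B₀.card = 3)
    (p : ℕ) (hp : p.Prime) (s : ℕ) (hs : 0 < s)
    (m : B → ℕ) (hm : ∀ j, 0 < m j) (hmp : ∀ j, Nat.Coprime (m j) p)
    (σ : Fin s → B → ℚ) (hint : ∀ i j, ∃ h : ℤ, σ i j = (h : ℚ) / (m j : ℚ))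
    (hsum : ∀ i, ∑ j, (σ i j - 1) = -2)
    (hfract : ∀ i j, Int.fract (σ i j) = Int.fract ((p : ℚ) ^ (i : ℕ) * σ ⟨0, hs⟩ j))
    (hne : ∀ i j, σ i j ≠ 1)
    (hB₀min : ∀ j ∈ B₀, (∃ i, ⌊σ i j⌋ = 0) ∧ ∀ i, 0 ≤ ⌊σ i j⌋)
    (hBmin : ∀ j ∉ B₀, (∃ i, ⌊σ i j⌋ = 1) ∧ ∀ i, 1 ≤ ⌊σ i j⌋) :
    (∀ i, ∑ j, Int.fract (σ i j) = 1) ∧ (∀ i j, ⌊σ i j⌋ = if j ∈ B₀ then 0 else 1) := by
  exact aux B₀ hB₀ p s hs m hm hmp σ hint hsum hfract hne hB₀min hBmin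

end Groth.Agent.S16983
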