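import Groth.Statements.S16984
import Groth.Agent.Lib.ComodDual_helper9

set_option autoImplicit false
universe u v w
open Hoch

namespace Groth.Agent.S16984

open TensorProduct in
/-- Let k be a commutative ring, A a commutative k-bialgebra that is flat over k (the coordinate ring of
a flat affine group scheme over Spec k; flatness and commutativity are the standing hypotheses of
the appendix and are not needed for the assertion) and P a k-module. Then p ↦ p ⊗ 1 is an injection
of P into the induced comodule P ⊗ A (coaction id ⊗ Δ) whose image is exactly the submodule of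
invariants, i.e. the elements with coaction x ↦ x ⊗ 1. (The published statement writes the
coordinate-ring factor on the left and calls this module coinduced; this row is its degree-zero
part, the identification of P with the invariants of the coinduced module.) -/
theorem result (k : Type u) [CommRing k] (A : Type v) [CommRing A] [Bialgebra k A]
    [Module.Flat k A] (P : Type w) [AddCommGroup P] [Module k P] :
    Function.Injective ((Hoch.Ind.equiv k A P).toLinearMap ∘ₗ (TensorProduct.mk k P A).flip (1 : A)) ∧
    LinearMap.range ((Hoch.Ind.equiv k A P).toLinearMap ∘ₗ (TensorProduct.mk k P A).flip (1 : A)) =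
      HopfRep.fixedPts k A (Hoch.Ind k A P) := by
  -- the retraction `x ↦ (id ⊗ ε) x`
  have hret : ∀ p : P, Groth.Agent.Lib.ComodDual_helper9.ev P (CoalgebraStruct.counit (R := k) (A := A))
      (p ⊗ₜ[k] (1 : A)) = p := by
    intro p
    rw [Groth.Agent.Lib.ComodDual_helper9.ev_tmul, Bialgebra.counit_one, one_smul]
  constructor
  · intro p q hpq
    have h : p ⊗ₜ[k] (1 : A) = q ⊗ₜ[k] (1 : A) := hpq
    rw [← hret p, ← hret q, h]
  · apply le_antisymm
    · rintro _ ⟨p, rfl⟩
      show Hoch.Ind.coactAux k A P (p ⊗ₜ[k] (1 : A)) = (p ⊗ₜ[k] (1 : A)) ⊗ₜ[k] (1 : A)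
      rw [Hoch.Ind.coactAux_tmul, Bialgebra.comul_one]
      rfl
    · intro x0 hx
      obtain ⟨x, rfl⟩ : ∃ y : P ⊗[k] A, Hoch.Ind.equiv k A P y = x0 := ⟨x0, rfl⟩
      have hx' : Hoch.Ind.coactAux k A P x = (x ⊗ₜ[k] (1 : A) : (P ⊗[k] A) ⊗[k] A) := hx
      -- Ψ := (ev ⊗ id) : (P ⊗ A) ⊗ A → P ⊗ A
      have key : ∀ y : P ⊗[k] A,
          (Groth.Agent.Lib.ComodDual_helper9.ev P (CoalgebraStruct.counit (R := k) (A := A))).rTensor A
            (Hoch.Ind.coactAux k A P y) = y := by
        intro y
        induction y using TensorProduct.induction_on with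
        | zero => simp
        | add y z hy hz => simp only [map_add, hy, hz]
        | tmul p a =>
          rw [Hoch.Ind.coactAux_tmul]
          have h2 : ∀ t : A ⊗[k] A,
              (Groth.Agent.Lib.ComodDual_helper9.ev P (CoalgebraStruct.counit (R := k) (A := A))).rTensor A
                ((TensorProduct.assoc k P A A).symm (p ⊗ₜ[k] t)) =
              p ⊗ₜ[k] (TensorProduct.lid k A ((CoalgebraStruct.counit (R := k) (A := A)).rTensor A t)) := by
            intro t
            induction t using TensorProduct.induction_on with
            | zero => simp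
            | add s t hs ht => simp only [TensorProduct.tmul_add, map_add, hs, ht]
            | tmul a b => simp [TensorProduct.smul_tmul]
          rw [h2, Coalgebra.rTensor_counit_comul]
          simp
      have h3 := key x
      rw [hx', LinearMap.rTensor_tmul] at h3
      exact ⟨Groth.Agent.Lib.ComodDual_helper9.ev P (CoalgebraStruct.counit (R := k) (A := A)) x, h3⟩

end Groth.Agent.S16984
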