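import Groth.Statements.S17005
import Groth.Agent.Lib.QuadRefl_helper1

set_option autoImplicit false
universe u
open scoped TensorProduct
open QuadGrp

namespace Groth.Agent.S17005

/-- Let Q be a non-degenerate quadratic form on R^n, n ≥ 3, over a commutative ring R (perfect polar
pairing for even n, unit half-discriminant in the standard basis for odd n). An isometry g of Q of
determinant one commutes, after base change to every R-algebra A, with every determinant-one
isometry of Q_A if and only if g is multiplication by a scalar whose square is one; for odd n such a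
scalar is 1 because the determinant of g is its n-th power. (Points-level form of: the functorial
centre of the naive special orthogonal group is the central μ₂ for even rank and trivial for odd
rank.) -/
theorem result (R : Type u) [CommRing R] (n : ℕ) (hn : 3 ≤ n)
    (Q : QuadraticForm R (Fin n → R))
    (hQ : QuadGrp.IsNondeg (Pi.basisFun R (Fin n)) (LinearEquiv.refl R R) Q)
    (g : (Fin n → R) ≃ₗ[R] (Fin n → R)) (hg : g ∈ QuadGrp.SO' Q) :
    (∀ (A : Type u) [CommRing A] [Algebra R A], ∀ h ∈ QuadGrp.sorth' Q A,
        g.baseChange R A (Fin n → R) (Fin n → R) * h = h * g.baseChange R A (Fin n → R) (Fin n → R)) ↔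
      ∃ c : R, c * c = 1 ∧ ∀ v, g v = c • v := by
  constructor
  · intro H
    obtain ⟨hgO, hgdet⟩ := hg
    rcases Nat.even_or_odd n with he | ho
    · -- even: Lie approach
      apply Groth.Agent.Lib.QuadLieH1.scalar_of_comm_lieX Q hn (hQ.1 he) g hgO
      intro u w y
      apply Groth.Agent.Lib.QuadLieH1.comm_lieX_of_comm Q g u w _ y
      apply H (DualNumber R)
      unfold QuadGrp.sorth' QuadGrp.SO'
      refine ⟨(Groth.Agent.Lib.QuadLieH1.mem_O_baseChange_iff _ _ _).mpr
        (Groth.Agent.Lib.QuadLieH1.lieH_mem_O _ _ _ _ _), ?_⟩
      exact MonoidHom.mem_ker.mpr (Groth.Agent.Lib.QuadReflH1.det_lieH _ _ _ _ _)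
    · -- odd: minus reflections
      have hRC : Groth.Agent.Lib.QuadReflH1.ReflComm Q g := by
        intro A _ _ v hv
        by_cases hA : Subsingleton A
        · haveI := hA
          haveI : Subsingleton (TensorProduct R A (Fin n → R)) :=
            Module.subsingleton A _
          apply LinearEquiv.ext
          intro z
          exact Subsingleton.elim _ _
        · rw [not_subsingleton_iff_nontrivial] at hA
          haveI := hA
          haveI : Nontrivial R := (algebraMap R A).domain_nontrivial
          have hmem : Groth.Agent.Lib.QuadReflH1.negRefl (QuadGrp.baseChangeForm A Q) v hv ∈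
              QuadGrp.sorth' Q A := by
            unfold QuadGrp.sorth' QuadGrp.SO'
            refine ⟨(Groth.Agent.Lib.QuadLieH1.mem_O_baseChange_iff _ _ _).mpr
              (Groth.Agent.Lib.QuadReflH1.negRefl_mem_O _ v hv), ?_⟩
            refine MonoidHom.mem_ker.mpr (Groth.Agent.Lib.QuadReflH1.det_negRefl _ v hv ?_)
            rw [Module.finrank_baseChange, Module.finrank_fin_fun]
            exact ho
          have hc := H A _ hmem
          apply LinearEquiv.ext
          intro z
          have hz := LinearEquiv.congr_fun hc z
          rw [LinearEquiv.mul_apply, LinearEquiv.mul_apply,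
            Groth.Agent.Lib.QuadReflH1.negRefl_apply, Groth.Agent.Lib.QuadReflH1.negRefl_apply,
            map_neg, neg_inj] at hz
          rw [LinearEquiv.mul_apply, LinearEquiv.mul_apply]
          exact hz
      have hU : Groth.Agent.Lib.QuadReflH1.PolarTop Q :=
        Groth.Agent.Lib.QuadReflH1.polarTop_of_semiregular (by omega) Q (hQ.2 ho)
      exact Groth.Agent.Lib.QuadReflH1.scalar_of_reflComm Q g (by omega) hgO hRC hU
  · rintro ⟨c, hc, hgc⟩ A _ _ h hh
    exact Groth.Agent.Lib.QuadLieH1.scalar_comm A g c hgc h

end Groth.Agent.S17005
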