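import Groth.Statements.S17006
import Groth.Agent.Lib.QuadLie_helper1

set_option autoImplicit false
universe u
open scoped TensorProduct
open QuadGrp

namespace Groth.Agent.S17006

/-- Let Q be a quadratic form on R^{2m}, m ≥ 2, over a commutative ring R, whose polar form is a perfect
pairing. An isometry g of Q satisfying the Dickson condition commutes, after base change to every
R-algebra A, with every isometry of Q_A satisfying the Dickson condition if and only if g is
multiplication by a scalar whose square is one. (Points-level form of: for even rank at least 4 the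
functorial centre of the special orthogonal group is the central μ₂ and coincides with that of the
naive one.) -/
theorem result (R : Type u) [CommRing R] (m : ℕ) (hm : 2 ≤ m)
    (Q : QuadraticForm R (Fin (2 * m) → R)) (hQ : QuadGrp.IsRegular Q)
    (g : (Fin (2 * m) → R) ≃ₗ[R] (Fin (2 * m) → R)) (hg : g ∈ QuadGrp.SO Q) :
    (∀ (A : Type u) [CommRing A] [Algebra R A], ∀ h ∈ QuadGrp.sorth Q A,
        g.baseChange R A (Fin (2 * m) → R) (Fin (2 * m) → R) * h = h * g.baseChange R A (Fin (2 * m) → R) (Fin (2 * m) → R)) ↔
      ∃ c : R, c * c = 1 ∧ ∀ v, g v = c • v := by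
  constructor
  · intro H
    by_cases hR : Subsingleton R
    · haveI := hR
      exact ⟨1, by simp, fun v => Subsingleton.elim _ _⟩
    · rw [not_subsingleton_iff_nontrivial] at hR
      haveI := hR
      have hev : Even (Module.finrank R (Fin (2 * m) → R)) := by
        rw [Module.finrank_fin_fun]; exact even_two_mul m
      have hg' : g ∈ QuadGrp.SOeven Q := by
        have h := hg
        unfold QuadGrp.SO at h
        rwa [if_pos hev] at h
      obtain ⟨hgO, -⟩ := hg'
      apply Groth.Agent.Lib.QuadLieH1.scalar_of_comm_lieX Q (by omega) hQ g hgO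
      intro u w y
      apply Groth.Agent.Lib.QuadLieH1.comm_lieX_of_comm Q g u w _ y
      apply H (DualNumber R)
      unfold QuadGrp.sorth QuadGrp.SO
      rw [if_pos]
      · exact Groth.Agent.Lib.QuadLieH1.lieH_mem_SOeven _ _ _ _ _
      · rw [Module.finrank_baseChange, Module.finrank_fin_fun]; exact even_two_mul m
  · rintro ⟨c, hc, hgc⟩ A _ _ h hh
    exact Groth.Agent.Lib.QuadLieH1.scalar_comm A g c hgc h

end Groth.Agent.S17006
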