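import Groth.Statements.S1701
import Mathlib
import Groth.Agent.Lib.CartierFlat2_helper9

set_option autoImplicit false
universe u
open CategoryTheory CategoryTheory.Limits AlgebraicGeometry TopologicalSpace
open SDiv

namespace Groth.Agent.S1701

/-- Let f : X ⟶ S be a morphism, 𝓘 the ideal sheaf of an effective Cartier divisor D ⊂ X such that D ⟶ S
is flat (a relative effective Cartier divisor), and x a point of D at which the local ring of X is
Noetherian. Then f is flat at x. -/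
theorem result {X S : Scheme.{u}} (f : X ⟶ S) (𝓘 : X.IdealSheafData)
    (hD : (BlowUp.IsEffCartierIdeal 𝓘 ∧ Flat (𝓘.subschemeι ≫ f))) (d : ↥𝓘.subscheme) [IsNoetherianRing (X.presheaf.stalk (𝓘.subschemeι d))] :
    (f.stalkMap (𝓘.subschemeι d)).hom.Flat := by
  obtain ⟨hC, hF⟩ := hD
  obtain ⟨V, hxV, -⟩ := Groth.Agent.Lib.CartierFlat.exists_affine_le (f (𝓘.subschemeι d)) ⊤ trivial
  obtain ⟨U₁, hx₁, H₁⟩ := Groth.Agent.Lib.CartierFlat.exists_affine_principal 𝓘 hC (𝓘.subschemeι d)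
  obtain ⟨W, hxW, hW⟩ := Groth.Agent.Lib.CartierFlat.exists_affine_le (𝓘.subschemeι d)
    (U₁.1 ⊓ f ⁻¹ᵁ V.1) ⟨hx₁, hxV⟩
  obtain ⟨g, hg, e₁⟩ := H₁ W (fun y hy => (hW hy).1)
  have hWV : W.1 ≤ f ⁻¹ᵁ V.1 := fun y hy => (hW hy).2
  have k := Groth.Agent.Lib.CartierFlat.flat_quot_of_flat 𝓘 f hF V W hWV
  rw [e₁, Groth.Agent.Lib.CartierFlat.flat_comp_mk_iff] at k
  apply Groth.Agent.Lib.LocFlatSch.flat_stalkMap_of_flat_localizedModule f V.2 W.2 hWV hxW
  letI := (f.appLE V.1 W.1 hWV).hom.toAlgebra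
  haveI : Module.Flat Γ(S, V.1) (Γ(X, W.1) ⧸ Ideal.span {g}) := k
  haveI : IsNoetherianRing (Localization.AtPrime (W.2.primeIdealOf ⟨_, hxW⟩).asIdeal) := by
    letI := X.presheaf.algebra_section_stalk (U := W.1) ⟨𝓘.subschemeι d, hxW⟩
    haveI := W.2.isLocalization_stalk ⟨_, hxW⟩
    exact isNoetherianRing_of_ringEquiv _
      (IsLocalization.algEquiv (W.2.primeIdealOf ⟨_, hxW⟩).asIdeal.primeCompl
        (X.presheaf.stalk (𝓘.subschemeι d)) (Localization.AtPrime _)).toRingEquiv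
  refine Groth.Agent.Lib.CartierFlat2.flat_localizedModule_of_regular g hg _ ?_
  by_contra hcon
  rw [Groth.Agent.Lib.LocFlatSch.notMem_primeIdealOf_iff W.2 hxW] at hcon
  have hsupp : 𝓘.subschemeι d ∈ 𝓘.support := by
    have h0 : 𝓘.subschemeι d ∈ Set.range 𝓘.subschemeι := ⟨d, rfl⟩
    rw [𝓘.range_subschemeι] at h0
    exact h0
  have hz := (Scheme.IdealSheafData.mem_support_iff_of_mem (I := 𝓘) (U := W) hxW).mp hsupp
  rw [Scheme.mem_zeroLocus_iff] at hz
  exact hz g (e₁ ▸ Ideal.mem_span_singleton_self g) hcon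

end Groth.Agent.S1701
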