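import Groth.Statements.S1702
import Mathlib
import Groth.Agent.Lib.CartierFlat_helper9

set_option autoImplicit false
universe u
open CategoryTheory CategoryTheory.Limits AlgebraicGeometry TopologicalSpace
open SDiv

namespace Groth.Agent.S1702


open Groth.Agent.Lib in
theorem key {X : Scheme.{u}} (𝓘₁ 𝓘₂ : X.IdealSheafData) (hC₁ : BlowUp.IsEffCartierIdeal 𝓘₁)
    (hC₂ : BlowUp.IsEffCartierIdeal 𝓘₂) (x : X) (U : X.Opens) (hxU : x ∈ U) :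
    ∃ W : X.affineOpens, x ∈ W.1 ∧ W.1 ≤ U ∧
      ∃ g₁ g₂ : Γ(X, W.1), g₁ ∈ nonZeroDivisors Γ(X, W.1) ∧ g₂ ∈ nonZeroDivisors Γ(X, W.1) ∧
        𝓘₁.ideal W = Ideal.span {g₁} ∧ 𝓘₂.ideal W = Ideal.span {g₂} := by
  obtain ⟨U₁, hx₁, H₁⟩ := CartierFlat.exists_affine_principal 𝓘₁ hC₁ x
  obtain ⟨U₂, hx₂, H₂⟩ := CartierFlat.exists_affine_principal 𝓘₂ hC₂ x
  obtain ⟨W, hxW, hW⟩ := CartierFlat.exists_affine_le x (U₁.1 ⊓ U₂.1 ⊓ U) ⟨⟨hx₁, hx₂⟩, hxU⟩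
  obtain ⟨g₁, hg₁, e₁⟩ := H₁ W (fun y hy => (hW hy).1.1)
  obtain ⟨g₂, hg₂, e₂⟩ := H₂ W (fun y hy => (hW hy).1.2)
  exact ⟨W, hxW, fun y hy => (hW hy).2, g₁, g₂, hg₁, hg₂, e₁, e₂⟩

/-- Let f : X ⟶ S be a morphism and 𝓘₁, 𝓘₂ ideal sheaves of effective Cartier divisors on X whose closed
subschemes are flat over S. Then the product ideal 𝓘₁𝓘₂ (the sum of the divisors) is again the ideal
of an effective Cartier divisor flat over S. -/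
theorem result {X S : Scheme.{u}} (f : X ⟶ S) (𝓘₁ 𝓘₂ : X.IdealSheafData)
    (h₁ : (BlowUp.IsEffCartierIdeal 𝓘₁ ∧ Flat (𝓘₁.subschemeι ≫ f))) (h₂ : (BlowUp.IsEffCartierIdeal 𝓘₂ ∧ Flat (𝓘₂.subschemeι ≫ f))) : (BlowUp.IsEffCartierIdeal (𝓘₁ * 𝓘₂) ∧ Flat ((𝓘₁ * 𝓘₂).subschemeι ≫ f)) := by
  obtain ⟨hC₁, hF₁⟩ := h₁
  obtain ⟨hC₂, hF₂⟩ := h₂
  constructor
  · intro x
    obtain ⟨W, hxW, -, g₁, g₂, hg₁, hg₂, e₁, e₂⟩ := key 𝓘₁ 𝓘₂ hC₁ hC₂ x ⊤ trivial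
    refine ⟨W, hxW, g₁ * g₂, mul_mem hg₁ hg₂, ?_⟩
    rw [Scheme.IdealSheafData.ideal_mul, Pi.mul_apply, e₁, e₂,
      Ideal.span_singleton_mul_span_singleton]
  · apply Groth.Agent.Lib.CartierFlat.flat_of_forall_exists
    intro x
    obtain ⟨V, hxV, -⟩ := Groth.Agent.Lib.CartierFlat.exists_affine_le (f x) ⊤ trivial
    obtain ⟨W, hxW, hWV, g₁, g₂, hg₁, hg₂, e₁, e₂⟩ :=
      key 𝓘₁ 𝓘₂ hC₁ hC₂ x (f ⁻¹ᵁ V.1) hxV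
    refine ⟨V, W, hxW, hWV, ?_⟩
    have k₁ := Groth.Agent.Lib.CartierFlat.flat_quot_of_flat 𝓘₁ f hF₁ V W hWV
    have k₂ := Groth.Agent.Lib.CartierFlat.flat_quot_of_flat 𝓘₂ f hF₂ V W hWV
    have e : (𝓘₁ * 𝓘₂).ideal W = Ideal.span {g₁} * 𝓘₂.ideal W := by
      rw [Scheme.IdealSheafData.ideal_mul, Pi.mul_apply, e₁]
    rw [e₁] at k₁
    rw [e]
    exact Groth.Agent.Lib.CartierFlat.flat_quot_mul _ g₁ hg₁ _ k₁ k₂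

end Groth.Agent.S1702
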