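import Groth.Statements.S8868
import Mathlib
import Groth.Agent.Lib.WeakAssSch_helper4

set_option autoImplicit false
universe u
open CategoryTheory CategoryTheory.Limits AlgebraicGeometry TopologicalSpace
open SDiv

namespace Groth.Agent.S8868

open AlgebraicGeometry CategoryTheory TopologicalSpace Opposite FlatCA
open Groth.Agent.Lib.WeakAss_helper4 Groth.Agent.Lib.QCohLoc_helper4 Groth.Agent.Lib.WeakAssSch_helper4

/-- Let X be a scheme and F a quasi-coherent O_X-module. Then F is zero if and only if F has no weakly
associated point. -/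
theorem result (X : Scheme.{u}) (F : X.Modules) (hF : Coh.IsQCoh F) :
    IsZero F ↔ ∀ x : ↥X, ¬ Curv2.IsWeakAssPoint F x := by
  haveI : F.IsQuasicoherent := hF
  constructor
  · rintro hF0 x ⟨z, hz⟩
    have hz0 : z = 0 := stalk_eq_zero_of_isZero F hF0 x z
    have : (1 : X.presheaf.stalk x) ∈ IsLocalRing.maximalIdeal (X.presheaf.stalk x) := by
      rw [← hz]
      apply Ideal.le_radical
      rw [LinearMap.mem_ker, LinearMap.toSpanSingleton_apply, hz0, smul_zero]
    exact (IsLocalRing.maximalIdeal.isMaximal _).ne_top ((Ideal.eq_top_iff_one _).mpr this)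
  · intro h
    apply isZero_of_forall_affine F
    intro U hU s
    by_contra hs
    obtain ⟨p, hp, hle⟩ := exists_mem_weakAss_of_ne_zero (R := Γ(X, U)) hs
    haveI := isPrime_of_mem_weakAss hp
    obtain ⟨x, hxU, hxp⟩ := exists_point_of_prime hU ⟨p, inferInstance⟩
    have hloc := locOn_of_isQuasicoherent F hU
    exact h x ((isWeakAssPoint_iff hloc hU hxU).mpr (by rw [hxp]; exact hp))

end Groth.Agent.S8868
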