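import Groth.Statements.S1704
import Mathlib
import Groth.Agent.Lib.WeakAssSch3_helper4
import Groth.Agent.S8868

set_option autoImplicit false
universe u
open CategoryTheory CategoryTheory.Limits AlgebraicGeometry TopologicalSpace
open SDiv

namespace Groth.Agent.S1704

open Groth.Agent.Lib.WeakAssSch3_helper4

/-- Let X be a locally Noetherian scheme and F a quasi-coherent module. Then F is zero if and only if F
has no associated point. -/
theorem result (X : Scheme.{u}) [IsLocallyNoetherian X] (F : X.Modules) (hF : Coh.IsQCoh F) :
    IsZero F ↔ ∀ x : ↥X, ¬ Curv2.IsAssPoint F x := by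
  rw [Groth.Agent.S8868.result X F hF]
  exact forall_congr' fun x => not_congr (isAssPoint_iff_isWeakAssPoint F x).symm

end Groth.Agent.S1704
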