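import Groth.Statements.S1706
import Mathlib
import Groth.Agent.Lib.WeakAssSch_helper4

set_option autoImplicit false
universe u
open CategoryTheory CategoryTheory.Limits AlgebraicGeometry TopologicalSpace
open SDiv

namespace Groth.Agent.S1706

open AlgebraicGeometry CategoryTheory TopologicalSpace Opposite FlatCA
open Groth.Agent.Lib.WeakAss_helper4 Groth.Agent.Lib.QCohLoc_helper4 Groth.Agent.Lib.WeakAssSch_helper4

/-- Let X be a scheme, F a quasi-coherent module and U an open subset containing every weakly associated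
point of F. Then the restriction map Γ(X, F) → Γ(U, F) is injective. -/
theorem result (X : Scheme.{u}) (F : X.Modules) (hF : Coh.IsQCoh F)
    (U : X.Opens) (hU : ∀ x : ↥X, Curv2.IsWeakAssPoint F x → x ∈ U) :
    Function.Injective (F.presheaf.map (homOfLE (le_top : U ≤ ⊤)).op) := by
  haveI : F.IsQuasicoherent := hF
  rw [injective_iff_map_eq_zero]
  intro s hs
  apply eq_zero_of_forall_affine F
  intro V hV hVaff
  by_contra hm
  obtain ⟨p, hp, hle⟩ := exists_mem_weakAss_of_ne_zero (R := Γ(X, V)) hm
  haveI := isPrime_of_mem_weakAss hp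
  obtain ⟨x, hxV, hxp⟩ := exists_point_of_prime hVaff ⟨p, inferInstance⟩
  have hloc := locOn_of_isQuasicoherent F hVaff
  have hwx : Curv2.IsWeakAssPoint F x :=
    (isWeakAssPoint_iff hloc hVaff hxV).mpr (by rw [hxp]; exact hp)
  have hxU : x ∈ U := hU x hwx
  have hgerm : F.presheaf.germ V x hxV (F.presheaf.map (homOfLE hV).op s) = 0 := by
    rw [TopCat.Presheaf.germ_res_apply]
    have := congrArg (F.presheaf.germ U x hxU) hs
    rw [TopCat.Presheaf.germ_res_apply, map_zero] at this
    exact this
  obtain ⟨g, hg, hgm⟩ := hloc.exists_smul_eq_zero_of_germ_eq_zero hVaff hxV _ hgerm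
  have hgp : g ∉ p := by
    have := (notMem_primeIdealOf_iff hVaff hxV g).mpr hg
    rwa [hxp] at this
  exact hgp (hle (mem_ann.mpr hgm))

end Groth.Agent.S1706
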