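import Groth.Statements.S17065
import Mathlib.RingTheory.Finiteness.Nakayama

set_option autoImplicit false
universe u
open CAlg

namespace Groth.Agent.S17065

/-- The local algebraic statement its proof establishes: let A be a Noetherian ring, I ≤ J radical
ideals and Â the J-adic completion of A. If J^n Â ⊆ I Â for some n, then the closed set V(J) is open
inside V(I) ⊆ Spec A. (Globally: if X₂ ⊆ X₁ are the completions of a locally Noetherian scheme along
nested closed subsets Z₂ ⊆ Z₁ and the ideal of Z₁ generates an ideal of definition of X₂, then X₂ is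
a union of connected components of X₁.) -/
theorem result (A : Type u) [CommRing A] [IsNoetherianRing A]
    (I J : Ideal A) (hIJ : I ≤ J) (hI : I.IsRadical) (hJ : J.IsRadical) (n : ℕ)
    (h : (J ^ n).map (algebraMap A (AdicCompletion J A)) ≤ I.map (algebraMap A (AdicCompletion J A))) :
    IsOpen ((fun x : PrimeSpectrum.zeroLocus (I : Set A) => (x : PrimeSpectrum A)) ⁻¹'
      PrimeSpectrum.zeroLocus (J : Set A)) := by
  classical
  -- Step 1: J^n ≤ I ⊔ J^(n+1), using the evaluation map to A ⧸ J^(n+1).
  have step1 : J ^ n ≤ I ⊔ J ^ (n + 1) := by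
    intro x hx
    have h1 : algebraMap A (AdicCompletion J A) x ∈ I.map (algebraMap A (AdicCompletion J A)) :=
      h (Ideal.mem_map_of_mem _ hx)
    have h2 : (AdicCompletion.evalₐ J (n + 1) : AdicCompletion J A →+* A ⧸ J ^ (n + 1))
        (algebraMap A (AdicCompletion J A) x) ∈
        (I.map (algebraMap A (AdicCompletion J A))).map
          (AdicCompletion.evalₐ J (n + 1) : AdicCompletion J A →+* A ⧸ J ^ (n + 1)) :=
      Ideal.mem_map_of_mem _ h1
    rw [Ideal.map_map] at h2
    have h3 : ((AdicCompletion.evalₐ J (n + 1) : AdicCompletion J A →+* A ⧸ J ^ (n + 1)).comp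
        (algebraMap A (AdicCompletion J A))) = Ideal.Quotient.mk (J ^ (n + 1)) := by
      ext a
      simp
    rw [h3] at h2
    have h4 : (AdicCompletion.evalₐ J (n + 1) : AdicCompletion J A →+* A ⧸ J ^ (n + 1))
        (algebraMap A (AdicCompletion J A) x) = Ideal.Quotient.mk (J ^ (n + 1)) x := by
      simp
    rw [h4] at h2
    have h5 : x ∈ (I.map (Ideal.Quotient.mk (J ^ (n + 1)))).comap (Ideal.Quotient.mk (J ^ (n + 1))) := h2
    rw [Ideal.comap_map_of_surjective _ Ideal.Quotient.mk_surjective] at h5
    rw [← RingHom.ker_eq_comap_bot, Ideal.mk_ker] at h5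
    exact h5
  -- Step 2: Nakayama in A ⧸ I.
  set N : Submodule A (A ⧸ I) := Submodule.map (Submodule.mkQ I) (J ^ n) with hN
  have hNfg : N.FG := Submodule.FG.map _ (IsNoetherian.noetherian _)
  have hNle : N ≤ J • N := by
    rintro _ ⟨x, hx, rfl⟩
    obtain ⟨y, hy, z, hz, rfl⟩ := Submodule.mem_sup.mp (step1 hx)
    have : (Submodule.mkQ I) (y + z) = (Submodule.mkQ I) z := by
      rw [map_add]
      have : (Submodule.mkQ I) y = 0 := by
        simpa using (Submodule.Quotient.mk_eq_zero I).mpr hy
      rw [this, zero_add]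
    rw [this]
    have hz' : z ∈ J • (J ^ n : Submodule A A) := by
      rw [pow_succ'] at hz
      exact hz
    have := Submodule.mem_map_of_mem (f := Submodule.mkQ I) hz'
    rw [Submodule.map_smul''] at this
    exact this
  obtain ⟨r, hr1, hr2⟩ := Submodule.exists_sub_one_mem_and_smul_eq_zero_of_fg_of_le_smul J N hNfg hNle
  have hrJ : ∀ x ∈ J ^ n, r * x ∈ I := by
    intro x hx
    have := hr2 (Submodule.mkQ I x) ⟨x, hx, rfl⟩
    rw [← map_smul] at this
    have h' := (Submodule.Quotient.mk_eq_zero I).mp this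
    simpa using h'
  -- Step 3: V(J) = V(I) ∩ D(r).
  have hopen : IsOpen ((fun x : PrimeSpectrum.zeroLocus (I : Set A) => (x : PrimeSpectrum A)) ⁻¹'
      (PrimeSpectrum.basicOpen r : Set (PrimeSpectrum A))) :=
    (PrimeSpectrum.basicOpen r).isOpen.preimage continuous_subtype_val
  convert hopen using 1
  ext ⟨p, hp⟩
  simp only [Set.mem_preimage, PrimeSpectrum.mem_zeroLocus, SetLike.coe_subset_coe,
    SetLike.mem_coe, PrimeSpectrum.mem_basicOpen]
  rw [PrimeSpectrum.mem_zeroLocus, SetLike.coe_subset_coe] at hp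
  constructor
  · intro hJp hrp
    have h1 : r - 1 ∈ p.asIdeal := hJp hr1
    have : (1 : A) ∈ p.asIdeal := by
      have := p.asIdeal.sub_mem hrp h1
      simpa using this
    exact p.isPrime.ne_top ((Ideal.eq_top_iff_one _).mpr this)
  · intro hrp
    have : J ^ n ≤ p.asIdeal := by
      intro x hx
      have := hp (hrJ x hx)
      exact (p.isPrime.mem_or_mem this).resolve_left hrp
    exact p.isPrime.le_of_pow_le this

end Groth.Agent.S17065
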