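import Groth.Statements.S17073
import Mathlib
import Groth.Agent.Lib.LocCohAdj_helper6
-- import your own Groth.Agent.* helpers here

set_option autoImplicit false
open CategoryTheory
universe u
open LocCoh

namespace Groth.Agent.S17073

/-- Let R → S be a homomorphism of Noetherian rings, J an ideal of S containing elements u₁, …, u_d such
that S/(u₁, …, u_d) is a finite R-module and J lies in the radical of (u₁, …, u_d), and let F be a
finite R-module. Then the functor sending an S-module E to the set Hom_R(H^d_J(E), F) (d-th local
cohomology supported in J, scalars restricted to R) is representable by an S-module. (The published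
statement gives the representing module as the degree −d cohomology of RHom_R(RΓ_J S, F) and a
bifunctorial isomorphism; only representability is asserted here.) -/
theorem result
    (R S : Type u) [CommRing R] [CommRing S] [IsNoetherianRing R] [IsNoetherianRing S] [Algebra R S]
    (J : Ideal S) (d : ℕ) (u : Fin d → S) (hu : ∀ i, u i ∈ J)
    (hJ : J ≤ (Ideal.span (Set.range u)).radical) [Module.Finite R (S ⧸ Ideal.span (Set.range u))]
    (F : Type u) [AddCommGroup F] [Module R F] [Module.Finite R F] :
    ((localCohomology J d ⋙ ModuleCat.restrictScalars (algebraMap R S)).op ⋙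
      yoneda.obj (ModuleCat.of R F)).IsRepresentable := by

  classical
  have hrad : (Ideal.span (Set.range u)).radical = J.radical := by
    apply le_antisymm
    · exact Ideal.radical_mono (Ideal.span_le.2 (by rintro _ ⟨i, rfl⟩; exact hu i))
    · exact Ideal.radical_le_radical_iff.2 hJ
  have hcd : LocCoh.CdLE S (Ideal.span (Set.range u)) d := by
    have h0 := Groth.Agent.Lib.LocCohAraH7.cdLE_span (R := S) (Finset.univ.image u)
    have hs : ((Finset.univ.image u : Finset S) : Set S) = Set.range u := by
      rw [Finset.coe_image, Finset.coe_univ, Set.image_univ]
    rw [hs] at h0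
    have hcard : (Finset.univ.image u).card ≤ d := by
      refine Finset.card_image_le.trans ?_
      rw [Finset.card_univ, Fintype.card_fin]
    intro M _ _ i hi
    exact h0 M i (lt_of_le_of_lt hcard hi)
  haveI := Groth.Agent.Lib.LocCohAdj_helper6.isLeftAdjoint (Ideal.span (Set.range u)) d hcd
  let adj1 := Adjunction.ofIsLeftAdjoint (localCohomology (Ideal.span (Set.range u)) d)
  let adj2 := adj1.comp (ModuleCat.restrictCoextendScalarsAdj.{u} (algebraMap R S))
  let e : localCohomology (Ideal.span (Set.range u)) d ⋙
      ModuleCat.restrictScalars (algebraMap R S) ≅
      localCohomology J d ⋙ ModuleCat.restrictScalars (algebraMap R S) :=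
    Functor.isoWhiskerRight (localCohomology.isoOfSameRadical hrad d) _
  exact Functor.rightAdjointObjIsDefined_of_adjunction (adj2.ofNatIsoLeft e) (ModuleCat.of R F)

end Groth.Agent.S17073
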