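import Groth.Statements.S1710
import Mathlib
import Groth.Agent.Lib.CartierFlat_helper9

set_option autoImplicit false
universe u
open CategoryTheory CategoryTheory.Limits AlgebraicGeometry TopologicalSpace
open SDiv

namespace Groth.Agent.S1710

/-- Let f : X ⟶ S be a morphism and 𝓘₁, 𝓘₂ ideal sheaves of effective Cartier divisors D₁ ⊆ D₂ on X,
both flat over S, and let 𝓘 be the ideal sheaf of an effective Cartier divisor D with D₂ = D₁ + D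
(that is, 𝓘₁𝓘 = 𝓘₂). Then D is flat over S as well. -/
theorem result {X S : Scheme.{u}} (f : X ⟶ S) (𝓘₁ 𝓘₂ 𝓘 : X.IdealSheafData)
    (h₁ : (BlowUp.IsEffCartierIdeal 𝓘₁ ∧ Flat (𝓘₁.subschemeι ≫ f))) (h₂ : (BlowUp.IsEffCartierIdeal 𝓘₂ ∧ Flat (𝓘₂.subschemeι ≫ f))) (h : BlowUp.IsEffCartierIdeal 𝓘) (hsum : 𝓘₁ * 𝓘 = 𝓘₂) :
    Flat (𝓘.subschemeι ≫ f) := by
  obtain ⟨hC₁, hF₁⟩ := h₁
  obtain ⟨hC₂, hF₂⟩ := h₂
  apply Groth.Agent.Lib.CartierFlat.flat_of_forall_exists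
  intro x
  obtain ⟨V, hxV, -⟩ := Groth.Agent.Lib.CartierFlat.exists_affine_le (f x) ⊤ trivial
  obtain ⟨U₁, hx₁, H₁⟩ := Groth.Agent.Lib.CartierFlat.exists_affine_principal 𝓘₁ hC₁ x
  obtain ⟨W, hxW, hW⟩ := Groth.Agent.Lib.CartierFlat.exists_affine_le x (U₁.1 ⊓ f ⁻¹ᵁ V.1)
    ⟨hx₁, hxV⟩
  obtain ⟨g₁, hg₁, e₁⟩ := H₁ W (fun y hy => (hW hy).1)
  have hWV : W.1 ≤ f ⁻¹ᵁ V.1 := fun y hy => (hW hy).2
  refine ⟨V, W, hxW, hWV, ?_⟩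
  have k₁ := Groth.Agent.Lib.CartierFlat.flat_quot_of_flat 𝓘₁ f hF₁ V W hWV
  have k₂ := Groth.Agent.Lib.CartierFlat.flat_quot_of_flat 𝓘₂ f hF₂ V W hWV
  have e : 𝓘₂.ideal W = Ideal.span {g₁} * 𝓘.ideal W := by
    rw [← hsum, Scheme.IdealSheafData.ideal_mul, Pi.mul_apply, e₁]
  rw [e₁] at k₁
  rw [e] at k₂
  exact Groth.Agent.Lib.CartierFlat.flat_quot_of_mul _ g₁ hg₁ _ k₁ k₂

end Groth.Agent.S1710
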