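import Groth.Statements.S17142
import Groth.Agent.Lib.IsocOrd_helper3
import Mathlib.Analysis.SpecificLimits.Basic

set_option autoImplicit false
universe u v
open Isoc Groth.Agent.Lib.Isoc_helper3 Groth.Agent.Lib.IsocMat_helper3 Groth.Agent.Lib.IsocOrd_helper3

namespace Groth.Agent.S17142

/-- Let k be a perfect field of characteristic p, a ∈ ℤ, W = W(k) with fraction field L, and (N, F) a
σ^a-F-isocrystal over k (N finite-dimensional over L, F a bijective σ^a-semilinear endomorphism).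
Let M₁, M₂ be W-lattices in N and let o₁(n) = ord_{M₁}(F^n), o₂(n) = ord_{M₂}(F^n) for n ≥ 1
(largest r with F^n(M_i) ⊆ p^r M_i). If o₁(n)/n → lam₁ and o₂(n)/n → lam₂ then lam₁ = lam₂; so the
limit defining the first Newton slope is independent of the chosen lattice. -/
theorem result (p : ℕ) [Fact p.Prime] (k : Type u) [Field k] [CharP k p] [PerfectRing k p] (a : ℤ)
    (N : Type v) [AddCommGroup N] [Module (WittVector p k) N] [Module (FractionRing (WittVector p k)) N]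
    [IsScalarTower (WittVector p k) (FractionRing (WittVector p k)) N]
    (F : N →ₛₗ[Isoc.frob p k a] N) (hF : Isoc.IsIsoc F)
    (M₁ M₂ : Submodule (WittVector p k) N) (hM₁ : M₁.IsLattice (FractionRing (WittVector p k))) (hM₂ : M₂.IsLattice (FractionRing (WittVector p k)))
    (o₁ o₂ : ℕ → ℤ) (ho₁ : ∀ n : ℕ, 1 ≤ n → Isoc.IsOrd M₁ F n (o₁ n))
    (ho₂ : ∀ n : ℕ, 1 ≤ n → Isoc.IsOrd M₂ F n (o₂ n)) (lam₁ lam₂ : ℝ)
    (h₁ : Filter.Tendsto (fun n : ℕ => (o₁ n : ℝ) / n) Filter.atTop (nhds lam₁))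
    (h₂ : Filter.Tendsto (fun n : ℕ => (o₂ n : ℝ) / n) Filter.atTop (nhds lam₂)) :
    lam₁ = lam₂ := by
  have hτ := good_frob (p := p) (k := k) a
  obtain ⟨c₁, hc₁⟩ := exists_le_pPow hM₁.fg hM₂.span_eq_top
  obtain ⟨c₂, hc₂⟩ := exists_le_pPow hM₂.fg hM₁.span_eq_top
  -- comparison of the orders
  have key : ∀ (M M' : Submodule (WittVector p k) N) (c c' : ℕ) (o o' : ℕ → ℤ),
      M ≤ pPow (-(c : ℤ)) M' → M' ≤ pPow (-(c' : ℤ)) M →
      (∀ n : ℕ, 1 ≤ n → IsOrd M F n (o n)) → (∀ n : ℕ, 1 ≤ n → IsOrd M' F n (o' n)) →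
      ∀ n : ℕ, 1 ≤ n → o' n - c - c' ≤ o n := by
    intro M M' c c' o o' hc hc' ho ho' n hn
    apply isOrd_le (ho n hn)
    calc latImg F n M ≤ latImg F n (pPow (-(c : ℤ)) M') := latImg_mono F hτ n hc
      _ = pPow (-(c : ℤ)) (latImg F n M') := latImg_pPow F hτ n _ _
      _ ≤ pPow (-(c : ℤ)) (pPow (o' n) M') := pPow_mono _ (ho' n hn).1
      _ = pPow (-(c : ℤ) + o' n) M' := pPow_pPow _ _ _
      _ ≤ pPow (-(c : ℤ) + o' n) (pPow (-(c' : ℤ)) M) := pPow_mono _ hc'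
      _ = pPow (o' n - c - c') M := by rw [pPow_pPow]; congr 1; ring
  have k1 := key M₁ M₂ c₁ c₂ o₁ o₂ hc₁ hc₂ ho₁ ho₂
  have k2 := key M₂ M₁ c₂ c₁ o₂ o₁ hc₂ hc₁ ho₂ ho₁
  have hdiff : Filter.Tendsto (fun n : ℕ => ((o₁ n : ℝ) / n - (o₂ n : ℝ) / n)) Filter.atTop
      (nhds (lam₁ - lam₂)) := h₁.sub h₂
  have hzero : Filter.Tendsto (fun n : ℕ => ((o₁ n : ℝ) / n - (o₂ n : ℝ) / n)) Filter.atTop
      (nhds 0) := by
    have hC : Filter.Tendsto (fun n : ℕ => (((c₁ : ℝ) + c₂) / n)) Filter.atTop (nhds 0) :=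
      tendsto_const_div_atTop_nhds_zero_nat _
    refine squeeze_zero_norm' ?_ hC
    filter_upwards [Filter.eventually_ge_atTop 1] with n hn
    have hn' : (0 : ℝ) < n := by exact_mod_cast hn
    rw [Real.norm_eq_abs, ← sub_div, abs_div, abs_of_pos hn']
    apply div_le_div_of_nonneg_right _ hn'.le
    rw [abs_le]
    have a1 : ((o₂ n : ℝ) - c₁ - c₂) ≤ o₁ n := by exact_mod_cast k1 n hn
    have a2 : ((o₁ n : ℝ) - c₂ - c₁) ≤ o₂ n := by exact_mod_cast k2 n hn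
    constructor <;> linarith
  have := tendsto_nhds_unique hdiff hzero
  linarith

end Groth.Agent.S17142
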