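import Groth.Statements.S17157
import Mathlib.Tactic
import Mathlib.FieldTheory.Finite.Basic

set_option autoImplicit false
universe u
open Isoc

namespace Groth.Agent.S17157

open scoped Isocrystal

section
variable (p : ℕ) [Fact p.Prime] (k : Type u) [Field k] [CharP k p] [PerfectRing k p]

omit [PerfectRing k p] in
lemma charZero_witt : CharZero (WittVector p k) := by
  rw [CharZero.charZero_iff_forall_prime_ne_zero]
  intro q hq
  by_cases h : q = p
  · subst h; exact WittVector.p_nonzero q k
  · intro h0
    have h1 := congrArg (WittVector.constantCoeff) h0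
    rw [map_natCast, map_zero] at h1
    have h2 := (CharP.cast_eq_zero_iff k p q).mp h1
    exact h ((Nat.prime_dvd_prime_iff_eq (Fact.out) hq).mp h2).symm

omit [PerfectRing k p] in
/-- Over a finite field, some positive power of the Witt vector Frobenius is the identity. -/
lemma exists_iterate_frobenius_eq [Finite k] :
    ∃ m : ℕ, 0 < m ∧ ∀ w : WittVector p k, (WittVector.frobenius)^[m] w = w := by
  classical
  have : Fintype k := Fintype.ofFinite k
  obtain ⟨n, _, hn⟩ := FiniteField.card k p
  refine ⟨n, n.pos, fun w => ?_⟩
  have key : ∀ (j : ℕ) (w : WittVector p k) (i : ℕ),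
      ((WittVector.frobenius)^[j] w).coeff i = (w.coeff i) ^ (p ^ j) := by
    intro j
    induction j with
    | zero => intro w i; simp
    | succ j ih =>
      intro w i
      rw [Function.iterate_succ', Function.comp_apply, WittVector.coeff_frobenius_charP, ih,
        ← pow_mul, ← pow_succ]
  ext i
  rw [key, ← hn, FiniteField.pow_card]

/-- Over a finite field, some positive iterate of `frob p k 1` is the identity of `K(p, k)`. -/
lemma exists_iterate_frob_eq [Finite k] :
    ∃ m : ℕ, 0 < m ∧ ∀ x : FractionRing (WittVector p k), (Isoc.frob p k 1)^[m] x = x := by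
  obtain ⟨m, hm, h⟩ := exists_iterate_frobenius_eq p k
  refine ⟨m, hm, fun x => ?_⟩
  have hW : ∀ (j : ℕ) (w : WittVector p k),
      (Isoc.frob p k 1)^[j] (algebraMap (WittVector p k) (FractionRing (WittVector p k)) w) =
        algebraMap (WittVector p k) (FractionRing (WittVector p k)) ((WittVector.frobenius)^[j] w) := by
    intro j
    induction j with
    | zero => intro w; rfl
    | succ j ih =>
      intro w
      rw [Function.iterate_succ', Function.comp_apply, ih, Isoc.frob_algebraMap, zpow_one,
        Function.iterate_succ', Function.comp_apply]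
      rfl
  have hpow : ∀ j : ℕ, ∀ y, ((Isoc.frob p k 1) ^ j) y = (Isoc.frob p k 1)^[j] y := by
    intro j
    induction j with
    | zero => intro y; rfl
    | succ j ih =>
      intro y
      rw [pow_succ', Function.iterate_succ', Function.comp_apply, ← ih]
      rfl
  have : (Isoc.frob p k 1) ^ m = RingHom.id _ := by
    apply IsLocalization.ringHom_ext (nonZeroDivisors (WittVector p k))
    ext w
    simp only [RingHom.comp_apply, RingHom.id_apply]
    rw [hpow, hW, h]
  rw [← hpow, this]
  rfl

end


/-- Let k be a finite field of characteristic p, W = W(k), L its fraction field with Frobenius σ, and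
let U be the σ-semilinear endomorphism of L² = (Fin 2 → L) determined by U(e₀) = e₀ and U(e₁) = e₀ +
e₁ on the standard basis. Then (L², U) is an F-isocrystal in which the sub-isocrystal L · e₀ admits
no U-stable complementary L-subspace; in particular the category of F-isocrystals over a finite
field is not semisimple. (Over an algebraically closed field a complement exists.) -/
theorem result
    (p : ℕ) [Fact p.Prime] (k : Type u) [Field k] [CharP k p] [PerfectRing k p] [Finite k]
    (U : (Fin 2 → (FractionRing (WittVector p k))) →ₛₗ[Isoc.frob p k 1] (Fin 2 → (FractionRing (WittVector p k))))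
    (hU0 : U (Pi.single 0 1) = Pi.single 0 1)
    (hU1 : U (Pi.single 1 1) = Pi.single 0 1 + Pi.single 1 1)
    (Q : Submodule (FractionRing (WittVector p k)) (Fin 2 → (FractionRing (WittVector p k)))) (hQ : ∀ x ∈ Q, U x ∈ Q) :
    ¬ IsCompl (Submodule.span (FractionRing (WittVector p k)) {(Pi.single 0 1 : Fin 2 → (FractionRing (WittVector p k)))}) Q := by
  intro hc
  obtain ⟨m, hm, hτ⟩ := exists_iterate_frob_eq p k
  set L := FractionRing (WittVector p k) with hL
  set e₀ : Fin 2 → L := Pi.single 0 1 with he₀
  set e₁ : Fin 2 → L := Pi.single 1 1 with he₁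
  -- decompose e₁
  have htop : e₁ ∈ Submodule.span L {e₀} ⊔ Q := by
    rw [hc.sup_eq_top]; trivial
  obtain ⟨y, hy, v, hv, hyv⟩ := Submodule.mem_sup.mp htop
  obtain ⟨a, rfl⟩ := Submodule.mem_span_singleton.mp hy
  -- v = e₁ - a e₀
  have hv' : v = e₁ - a • e₀ := by rw [← hyv]; abel
  have hUv : U v = e₁ + (1 - Isoc.frob p k 1 a) • e₀ := by
    rw [hv', map_sub, map_smulₛₗ, hU1, hU0]
    simp only [sub_smul, one_smul]
    abel
  have hdiff : U v - v ∈ Q := Q.sub_mem (hQ v hv) hv
  have hdiff' : U v - v = (1 - Isoc.frob p k 1 a + a) • e₀ := by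
    rw [hUv, hv']
    simp only [sub_smul, add_smul, one_smul]
    abel
  have hmem : (1 - Isoc.frob p k 1 a + a) • e₀ ∈ Submodule.span L {e₀} ⊓ Q :=
    ⟨Submodule.smul_mem _ _ (Submodule.mem_span_singleton_self _), hdiff' ▸ hdiff⟩
  rw [hc.inf_eq_bot, Submodule.mem_bot] at hmem
  have he₀ne : e₀ ≠ 0 := by
    intro h
    have := congrFun h 0
    simp [e₀] at this
  have hcoef : 1 - Isoc.frob p k 1 a + a = 0 := (smul_eq_zero.mp hmem).resolve_right he₀ne
  have hτa : Isoc.frob p k 1 a = a + 1 := by linear_combination -hcoef
  have hiter : ∀ j : ℕ, (Isoc.frob p k 1)^[j] a = a + j := by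
    intro j
    induction j with
    | zero => simp
    | succ j ih =>
      rw [Function.iterate_succ', Function.comp_apply, ih, map_add, hτa, map_natCast]
      push_cast; ring
  have := hiter m
  rw [hτ] at this
  have hm0 : (m : L) = 0 := by linear_combination -this
  have : CharZero (WittVector p k) := charZero_witt p k
  have : (m : L) ≠ 0 := Nat.cast_ne_zero.mpr hm.ne'
  exact this hm0

end Groth.Agent.S17157
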