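import Groth.Statements.S17171
import Mathlib.Tactic
import Mathlib.Order.Fin.Basic
import Mathlib.Data.Finset.Sort

set_option autoImplicit false
open QSymFn

namespace Groth.Agent.S17171

/-- every finsupp on `Fin n` is a sum of singles along the ordered support. -/
lemma exists_ordered_support {n : ℕ} (e : Fin n →₀ ℕ) :
    ∃ (ℓ : ℕ) (ι : Fin ℓ ↪o Fin n) (a : Fin ℓ → ℕ), (∀ t, 0 < a t) ∧
      e = ∑ t : Fin ℓ, Finsupp.single (ι t) (a t) := by
  classical
  refine ⟨e.support.card, e.support.orderEmbOfFin rfl, fun t => e (e.support.orderEmbOfFin rfl t), ?_, ?_⟩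
  · intro t
    have : e.support.orderEmbOfFin rfl t ∈ e.support := Finset.orderEmbOfFin_mem _ _ _
    exact Nat.pos_of_ne_zero (Finsupp.mem_support_iff.mp this)
  · conv_lhs => rw [← Finsupp.sum_single e]
    rw [Finsupp.sum]
    have himg : Finset.univ.map (e.support.orderEmbOfFin rfl).toEmbedding = e.support :=
      Finset.map_orderEmbOfFin_univ _ rfl
    conv_lhs => rw [← himg]
    rw [Finset.sum_map]
    rfl

lemma mapDomain_sum_single {α β : Type*} {ℓ : ℕ} (g : α → β) (ι : Fin ℓ → α) (a : Fin ℓ → ℕ) :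
    Finsupp.mapDomain g (∑ t : Fin ℓ, Finsupp.single (ι t) (a t)) =
      ∑ t : Fin ℓ, Finsupp.single (g (ι t)) (a t) := by
  rw [Finsupp.mapDomain_finsetSum]
  simp only [Finsupp.mapDomain_single]

/-- the bound: all elements of the support are `< bound e`. -/
def bound (e : ℕ →₀ ℕ) : ℕ := e.support.sup (· + 1)

lemma support_subset_range (e : ℕ →₀ ℕ) (N : ℕ) (hN : bound e ≤ N) :
    (e.support : Set ℕ) ⊆ Set.range (Fin.val : Fin N → ℕ) := by
  intro x hx
  have : x + 1 ≤ bound e := Finset.le_sup (f := (· + 1)) hx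
  exact ⟨⟨x, by omega⟩, rfl⟩

/-- restriction of `e` to `Fin N`. -/
noncomputable def restr (e : ℕ →₀ ℕ) (N : ℕ) : Fin N →₀ ℕ :=
  Finsupp.comapDomain Fin.val e Fin.val_injective.injOn

lemma mapDomain_restr (e : ℕ →₀ ℕ) (N : ℕ) (hN : bound e ≤ N) :
    Finsupp.mapDomain Fin.val (restr e N) = e :=
  Finsupp.mapDomain_comapDomain _ Fin.val_injective e (support_subset_range e N hN)

lemma bound_mapDomain_le {n : ℕ} (e : Fin n →₀ ℕ) : bound (Finsupp.mapDomain Fin.val e) ≤ n := by
  classical
  refine Finset.sup_le fun x hx => ?_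
  have := Finsupp.mapDomain_support hx
  obtain ⟨y, _, rfl⟩ := Finset.mem_image.mp this
  exact y.2


/-- The ring QSym of quasisymmetric functions over ℤ, with its restriction maps to the polynomial rings
in finitely many ordered variables, is the limit of the diagram S ↦ ℤ[α_s : s ∈ S] over finite
ordered sets S and order-preserving injections (an injection φ : S → T acting by α_t ↦ α_s when t =
φ s and α_t ↦ 0 otherwise), the limit being taken in graded rings. Stated here on degree-d
components, with the variables indexed by ℕ in place of the positive integers and the finite ordered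
sets taken to be the Fin n: (a) if F is a formal power series over ℤ in variables indexed by ℕ which
is quasisymmetric (for strictly increasing i, j : Fin ℓ → ℕ and positive exponents a, the
coefficients of ∏ x_{i t}^{a t} and ∏ x_{j t}^{a t} agree) and all of whose monomials have degree d,
then its restrictions to the initial segments Fin n ⊂ ℕ are compatible with every order embedding
Fin n ↪o Fin m; (b) every family of degree-d homogeneous polynomials f n ∈ ℤ[x_s : s ∈ Fin n],
compatible with all order embeddings Fin n ↪o Fin m in this sense, is the family of restrictions of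
exactly one such quasisymmetric F of degree d. -/
theorem result (d : ℕ) :
    (∀ F : MvPowerSeries ℕ ℤ,
      (∀ (ℓ : ℕ) (i j : Fin ℓ → ℕ) (a : Fin ℓ → ℕ), StrictMono i → StrictMono j → (∀ t, 0 < a t) →
        MvPowerSeries.coeff (∑ t : Fin ℓ, Finsupp.single (i t) (a t)) F =
          MvPowerSeries.coeff (∑ t : Fin ℓ, Finsupp.single (j t) (a t)) F) →
      (∀ e : ℕ →₀ ℕ, MvPowerSeries.coeff e F ≠ 0 → e.degree = d) →
      ∀ (n m : ℕ) (φ : Fin n ↪o Fin m) (e : Fin n →₀ ℕ),
        MvPowerSeries.coeff (Finsupp.mapDomain Fin.val e) F =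
          MvPowerSeries.coeff (Finsupp.mapDomain Fin.val (Finsupp.mapDomain φ e)) F) ∧
    (∀ f : (n : ℕ) → MvPolynomial (Fin n) ℤ,
      (∀ n, (f n).IsHomogeneous d) →
      (∀ (n m : ℕ) (φ : Fin n ↪o Fin m) (e : Fin n →₀ ℕ),
        MvPolynomial.coeff e (f n) = MvPolynomial.coeff (Finsupp.mapDomain φ e) (f m)) →
      ∃! F : MvPowerSeries ℕ ℤ,
        (∀ (ℓ : ℕ) (i j : Fin ℓ → ℕ) (a : Fin ℓ → ℕ), StrictMono i → StrictMono j → (∀ t, 0 < a t) →
          MvPowerSeries.coeff (∑ t : Fin ℓ, Finsupp.single (i t) (a t)) F =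
            MvPowerSeries.coeff (∑ t : Fin ℓ, Finsupp.single (j t) (a t)) F) ∧
        (∀ e : ℕ →₀ ℕ, MvPowerSeries.coeff e F ≠ 0 → e.degree = d) ∧
        (∀ (n : ℕ) (e : Fin n →₀ ℕ),
          MvPowerSeries.coeff (Finsupp.mapDomain Fin.val e) F = MvPolynomial.coeff e (f n))) := by
  refine ⟨?_, ?_⟩
  · intro F hF _ n m φ e
    obtain ⟨ℓ, ι, a, ha, rfl⟩ := exists_ordered_support e
    rw [mapDomain_sum_single, mapDomain_sum_single, mapDomain_sum_single]
    exact hF ℓ (fun t => (ι t).val) (fun t => (φ (ι t)).val) a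
      (fun x y hxy => Fin.lt_def.mp (ι.strictMono hxy))
      (fun x y hxy => Fin.lt_def.mp (φ.strictMono (ι.strictMono hxy))) ha
  · intro f hf hcompat
    -- the candidate
    set F : MvPowerSeries ℕ ℤ := fun e => MvPolynomial.coeff (restr e (bound e)) (f (bound e)) with hFdef
    have hFcoeff : ∀ e : ℕ →₀ ℕ, MvPowerSeries.coeff e F = MvPolynomial.coeff (restr e (bound e)) (f (bound e)) :=
      fun e => rfl
    -- key lemma
    have L1 : ∀ (n : ℕ) (e₁ : Fin n →₀ ℕ),
        MvPowerSeries.coeff (Finsupp.mapDomain Fin.val e₁) F = MvPolynomial.coeff e₁ (f n) := by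
      intro n e₁
      rw [hFcoeff]
      have hle := bound_mapDomain_le e₁
      rw [hcompat _ _ (Fin.castLEOrderEmb hle)]
      congr 1
      apply Finsupp.mapDomain_injective Fin.val_injective
      rw [← Finsupp.mapDomain_comp]
      have : (Fin.val ∘ (Fin.castLEOrderEmb hle) : Fin _ → ℕ) = Fin.val := by
        ext x; rfl
      rw [this, mapDomain_restr _ _ le_rfl]
    have hQ : ∀ (ℓ : ℕ) (i : Fin ℓ → ℕ) (a : Fin ℓ → ℕ), StrictMono i →
        MvPowerSeries.coeff (∑ t : Fin ℓ, Finsupp.single (i t) (a t)) F =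
          MvPolynomial.coeff (∑ t : Fin ℓ, Finsupp.single t (a t)) (f ℓ) := by
      intro ℓ i a hi
      obtain ⟨n, hn⟩ : ∃ n, ∀ t, i t < n :=
        ⟨(Finset.univ.sup i) + 1, fun t => Nat.lt_succ_of_le (Finset.le_sup (f := i) (Finset.mem_univ t))⟩
      let φ : Fin ℓ ↪o Fin n := OrderEmbedding.ofStrictMono (fun t => ⟨i t, hn t⟩)
        (fun x y hxy => Fin.lt_def.mpr (hi hxy))
      have h1 : (∑ t : Fin ℓ, Finsupp.single (i t) (a t)) =
          Finsupp.mapDomain Fin.val (Finsupp.mapDomain φ (∑ t : Fin ℓ, Finsupp.single t (a t))) := by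
        rw [mapDomain_sum_single, mapDomain_sum_single]
        rfl
      rw [h1, L1, ← hcompat]
    refine ⟨F, ⟨?_, ?_, L1⟩, ?_⟩
    · intro ℓ i j a hi hj _
      rw [hQ ℓ i a hi, hQ ℓ j a hj]
    · intro e he
      rw [hFcoeff] at he
      have := (hf (bound e)) he
      rw [← mapDomain_restr e (bound e) le_rfl, Finsupp.degree_mapDomain, ← this,
        Finsupp.degree_eq_weight_one]
      rfl
    · intro F' ⟨_, _, h3⟩
      ext e
      rw [← mapDomain_restr e (bound e) le_rfl, h3, L1]

end Groth.Agent.S17171
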