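import Groth.Statements.S17174
import Groth.Agent.Lib.LabGraph2_helper3

set_option autoImplicit false
set_option linter.unusedSectionVars false
universe u
open LabGraph Groth.Agent.Lib.LabGraph_helper3 Groth.Agent.Lib.LabGraph2_helper3

namespace Groth.Agent.S17174

variable {V E : Type u} [Fintype V] [Fintype E] [DecidableEq V] [DecidableEq E]

lemma two_abs_le {x b : ℤ} : 2 * |x| ≤ b ↔ -b ≤ 2 * x ∧ 2 * x ≤ b := by
  rw [← abs_le, abs_mul, abs_two]

lemma twist_shift (ends : E → V × V) (φ : V → ℤ) (m : ℤ) (v : V) :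
    twist ends (fun u => φ u - m) v = twist ends φ v := by
  unfold twist
  refine Finset.sum_congr rfl fun e _ => ?_
  congr 1 <;> (split_ifs <;> ring)

/-- Key step: two BI multidegrees differing by the twist of `φ` force `|φ(e.1) - φ(e.2)| ≤ 1`. -/
lemma edge_diff_le_one (ends : E → V × V) (w : V → ℕ) (hg : 3 ≤ genus ends w) (d d' : V → ℤ)
    (hBI : SatisfiesBI ends w d) (hBI' : SatisfiesBI ends w d') (φ : V → ℤ)
    (hφ : ∀ v : V, d v - d' v = twist ends φ v) (e₀ : E) :
    |φ (ends e₀).1 - φ (ends e₀).2| ≤ 1 := by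
  by_contra hcon
  push Not at hcon
  have hK : 1 ≤ canDeg ends w Finset.univ := by rw [canDeg_univ]; linarith
  set K := canDeg ends w Finset.univ with hKdef
  have hD : ∑ v : V, d' v = ∑ v : V, d v := by
    have : ∑ v : V, (d v - d' v) = 0 := by
      rw [Finset.sum_congr rfl fun v _ => hφ v, sum_twist_univ]
    rw [Finset.sum_sub_distrib] at this
    linarith
  set t := max (φ (ends e₀).1) (φ (ends e₀).2) with ht
  set Y : Finset V := Finset.univ.filter fun v => t ≤ φ v with hY
  have hmemY : ∀ v, v ∈ Y ↔ t ≤ φ v := fun v => by simp [hY]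
  -- pointwise bound
  have hpt : ∀ e : E, (delta ends Y e) ^ 2 ≤ delta ends Y e * xd ends φ e := by
    intro e
    unfold delta chi xd
    by_cases h1 : (ends e).1 ∈ Y <;> by_cases h2 : (ends e).2 ∈ Y <;> simp only [h1, h2, if_true, if_false]
    · simp
    · rw [hmemY] at h1 h2; push Not at h2; nlinarith
    · rw [hmemY] at h1 h2; push Not at h1; nlinarith
    · simp
  have hpt0 : (delta ends Y e₀) ^ 2 + 1 ≤ delta ends Y e₀ * xd ends φ e₀ := by
    unfold delta chi xd
    rcases le_total (φ (ends e₀).1) (φ (ends e₀).2) with hle | hle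
    · have ht' : t = φ (ends e₀).2 := max_eq_right hle
      have h2 : (ends e₀).2 ∈ Y := by rw [hmemY, ht']
      have habs : φ (ends e₀).2 - φ (ends e₀).1 > 1 := by
        rw [abs_sub_comm, abs_of_nonneg (by linarith)] at hcon; exact hcon
      have h1 : (ends e₀).1 ∉ Y := by rw [hmemY, ht']; push Not; linarith
      simp only [h1, h2, if_true, if_false]; nlinarith
    · have ht' : t = φ (ends e₀).1 := max_eq_left hle
      have h1 : (ends e₀).1 ∈ Y := by rw [hmemY, ht']
      have habs : φ (ends e₀).1 - φ (ends e₀).2 > 1 := by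
        rw [abs_of_nonneg (by linarith)] at hcon; exact hcon
      have h2 : (ends e₀).2 ∉ Y := by rw [hmemY, ht']; push Not; linarith
      simp only [h1, h2, if_true, if_false]; nlinarith
  have hsum : Bf ends Y Y + 1 ≤ ∑ e : E, delta ends Y e * xd ends φ e := by
    have hBf : Bf ends Y Y = ∑ e : E, (delta ends Y e) ^ 2 := by
      unfold Bf; exact Finset.sum_congr rfl fun e _ => by ring
    rw [hBf, ← Finset.add_sum_erase _ _ (Finset.mem_univ e₀),
      ← Finset.add_sum_erase (f := fun e => delta ends Y e * xd ends φ e) _ (Finset.mem_univ e₀)]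
    have := Finset.sum_le_sum (s := Finset.univ.erase e₀) fun e _ => hpt e
    linarith
  have htw : ∑ v ∈ Y, (d v - d' v) = - ∑ e : E, delta ends Y e * xd ends φ e := by
    rw [Finset.sum_congr rfl fun v _ => hφ v, sum_twist']
  rw [Finset.sum_sub_distrib] at htw
  have b1 := (two_abs_le.mp (hBI Y)).1
  have b2 := (two_abs_le.mp (hBI' Y)).2
  rw [hD] at b2
  rw [cut_eq_Bf] at b1 b2
  nlinarith


open LabGraph in
/-- Let Γ be the weighted dual graph of a Deligne–Mumford semistable curve X of genus g ≥ 3 over an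
algebraically closed field (connected; every weight-zero vertex without loop is joined to the other
vertices by at least two edges), and let d, d' be two multidegrees of the same (arbitrary) total
degree D (g ≥ 3 being the paper's standing assumption) which both satisfy the Basic Inequality and
lie in the same degree class (d - d' is a twist). Then d - d' can be written in normal form: there
is a labelling h of the vertices by natural numbers taking exactly the values 0, 1, …, q, with d -
d' equal to the twist of h (that is, d - d' = Σ_v h(v)·c_v with c_v the multidegree of O(C_v)), such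
that for distinct levels i ≠ j in {0, …, q} the subcurves on h⁻¹(i) and h⁻¹(j) meet (some edge joins
the two levels) exactly when |i - j| = 1. -/
theorem result {V E : Type u} [Fintype V] [Fintype E]
    [DecidableEq V] [DecidableEq E] (ends : E → V × V) (w : V → ℕ) (hX : IsSemistableGraph ends w)
    (hg : 3 ≤ genus ends w) (d d' : V → ℤ)
    (hBI : SatisfiesBI ends w d) (hBI' : SatisfiesBI ends w d') (heq : TwistEquiv ends d d') :
    ∃ (q : ℕ) (h : V → ℕ), (∀ v : V, h v ≤ q) ∧ (∀ i : ℕ, i ≤ q → ∃ v : V, h v = i) ∧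
      (∀ v : V, d v - d' v = twist ends (fun u => (h u : ℤ)) v) ∧
      (∀ i j : ℕ, i ≤ q → j ≤ q → i ≠ j →
        ((∃ e : E, (h (ends e).1 = i ∧ h (ends e).2 = j) ∨ (h (ends e).1 = j ∧ h (ends e).2 = i)) ↔
          (i + 1 = j ∨ j + 1 = i))) := by
  obtain ⟨⟨hne, hconn⟩, _⟩ := hX
  obtain ⟨φ, hφ⟩ := heq
  obtain ⟨v₀, _, hv₀⟩ := Finset.exists_min_image Finset.univ φ ⟨hne.some, Finset.mem_univ _⟩
  set m := φ v₀ with hm
  have hmle : ∀ v, m ≤ φ v := fun v => hv₀ v (Finset.mem_univ v)
  set h : V → ℕ := fun v => (φ v - m).toNat with hh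
  have hcast : ∀ v, (h v : ℤ) = φ v - m := fun v => Int.toNat_of_nonneg (by linarith [hmle v])
  have hh0 : h v₀ = 0 := by simp [hh, hm]
  have hfun : (fun u => (h u : ℤ)) = fun u => φ u - m := funext hcast
  have hedge : ∀ e : E, (h (ends e).1 : ℤ) - h (ends e).2 ≤ 1 ∧ (h (ends e).2 : ℤ) - h (ends e).1 ≤ 1 := by
    intro e
    have := abs_le.mp (edge_diff_le_one ends w hg d d' hBI hBI' φ hφ e)
    rw [hcast, hcast]
    constructor <;> linarith [this.1, this.2]
  have hadj : ∀ u v, Adj ends u v → ∃ e : E,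
      ((h (ends e).1 = h u ∧ h (ends e).2 = h v) ∨ (h (ends e).1 = h v ∧ h (ends e).2 = h u)) ∧
      h v ≤ h u + 1 := by
    rintro u v ⟨e, he | he⟩
    · refine ⟨e, Or.inl (by simp [he]), ?_⟩
      have := (hedge e).2; rw [he] at this; simp only at this; omega
    · refine ⟨e, Or.inr (by simp [he]), ?_⟩
      have := (hedge e).1; rw [he] at this; simp only at this; omega
  -- path induction
  have hP : ∀ v, (∀ i ≤ h v, ∃ u, h u = i) ∧
      (∀ i < h v, ∃ e : E, (h (ends e).1 = i ∧ h (ends e).2 = i + 1) ∨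
        (h (ends e).1 = i + 1 ∧ h (ends e).2 = i)) := by
    intro v
    induction hconn v₀ v with
    | refl =>
      refine ⟨fun i hi => ⟨v₀, by omega⟩, fun i hi => by omega⟩
    | @tail u v _ huv ih =>
      obtain ⟨e, he, hle⟩ := hadj u v huv
      refine ⟨fun i hi => ?_, fun i hi => ?_⟩
      · by_cases hiu : i ≤ h u
        · exact ih.1 i hiu
        · exact ⟨v, by omega⟩
      · by_cases hiu : i < h u
        · exact ih.2 i hiu
        · have h1 : h u = i := by omega
          have h2 : h v = i + 1 := by omega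
          refine ⟨e, ?_⟩
          rcases he with ⟨a, b⟩ | ⟨a, b⟩
          · exact Or.inl ⟨by omega, by omega⟩
          · exact Or.inr ⟨by omega, by omega⟩
  obtain ⟨vmax, _, hvmax⟩ := Finset.exists_max_image Finset.univ h ⟨hne.some, Finset.mem_univ _⟩
  refine ⟨h vmax, h, fun v => hvmax v (Finset.mem_univ v), fun i hi => (hP vmax).1 i hi, ?_, ?_⟩
  · intro v
    rw [hfun, twist_shift]
    exact hφ v
  · intro i j hi hj hij
    constructor
    · rintro ⟨e, ⟨h1, h2⟩ | ⟨h1, h2⟩⟩
      · have := hedge e; omega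
      · have := hedge e; omega
    · rintro (hij' | hij')
      · obtain ⟨e, he⟩ := (hP vmax).2 i (by omega)
        refine ⟨e, ?_⟩
        rcases he with ⟨a, b⟩ | ⟨a, b⟩
        · exact Or.inl ⟨a, by omega⟩
        · exact Or.inr ⟨by omega, b⟩
      · obtain ⟨e, he⟩ := (hP vmax).2 j (by omega)
        refine ⟨e, ?_⟩
        rcases he with ⟨a, b⟩ | ⟨a, b⟩
        · exact Or.inr ⟨a, by omega⟩
        · exact Or.inl ⟨by omega, b⟩

end Groth.Agent.S17174
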