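import Groth.Statements.S17175
import Mathlib.Tactic
import Mathlib.RingTheory.PowerSeries.NoZeroDivisors

set_option autoImplicit false
universe u
open CAlg

namespace Groth.Agent.S17175

open PowerSeries in
/-- Let k be a field, O₀ = k[[x, y]]/(xy) the complete local ring of a node and Õ₀ = k[[x]] × k[[y]] its
normalization, O₀ being embedded in Õ₀ by h ↦ (h(x, 0), h(0, y)) as the subring of pairs with equal
constant coefficients. Regard Õ₀ as an O₀-module: it is the rank-one torsion-free O₀-module that is
not free. Then every O₀-linear endomorphism of this module is Õ₀-linear, i.e. it is multiplication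
by a unique element of Õ₀; consequently its O₀-endomorphism ring is Õ₀ and its O₀-automorphism group
is the unit group of Õ₀. Here an O₀-linear endomorphism is an additive map of k[[X]] × k[[X]]
commuting with multiplication by every pair whose two constant coefficients agree. (The source works
over an algebraically closed field; only the field structure is used.) -/
theorem result (k : Type u) [Field k]
    (φ : (k⟦X⟧ × k⟦X⟧) →+ (k⟦X⟧ × k⟦X⟧))
    (hφ : ∀ a s : k⟦X⟧ × k⟦X⟧, constantCoeff a.1 = constantCoeff a.2 → φ (a * s) = a * φ s) :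
    ∃! b : k⟦X⟧ × k⟦X⟧, ∀ s : k⟦X⟧ × k⟦X⟧, φ s = b * s := by
  have hO : ∀ a : k⟦X⟧ × k⟦X⟧, constantCoeff a.1 = constantCoeff a.2 → φ a = a * φ 1 := by
    intro a ha
    simpa using hφ a 1 ha
  have he : φ (1, 0) = (1, 0) * φ 1 := by
    have h1 : ((X : k⟦X⟧), (X : k⟦X⟧)) * φ (1, 0) = ((X : k⟦X⟧), (X : k⟦X⟧)) * ((1, 0) * φ 1) := by
      rw [← hφ _ _ (by simp)]
      simp only [Prod.mk_mul_mk, mul_one, mul_zero]
      rw [hO _ (by simp)]
      ext <;> simp
    have hX : (X : k⟦X⟧) ≠ 0 := X_ne_zero
    ext : 1
    · have := congrArg Prod.fst h1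
      simp only [Prod.fst_mul] at this
      exact mul_left_cancel₀ hX this
    · have := congrArg Prod.snd h1
      simp only [Prod.snd_mul] at this
      exact mul_left_cancel₀ hX this
  refine ⟨φ 1, fun s => ?_, fun b hb => by simpa using (hb 1).symm⟩
  have hs : s = (s - (C (constantCoeff s.1 - constantCoeff s.2), C (constantCoeff s.1 - constantCoeff s.2)) * (1, 0))
      + (C (constantCoeff s.1 - constantCoeff s.2), C (constantCoeff s.1 - constantCoeff s.2)) * (1, 0) := by
    simp
  conv_lhs => rw [hs]
  rw [map_add, hφ (C (constantCoeff s.1 - constantCoeff s.2), C (constantCoeff s.1 - constantCoeff s.2)) (1, 0) rfl,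
    hO _ (by simp), he]
  ring

end Groth.Agent.S17175
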