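import Groth.Statements.S17176
import Mathlib.Tactic
import Mathlib.RingTheory.Coprime.Lemmas
import Mathlib.RingTheory.Int.Basic

set_option autoImplicit false
open Curves

namespace Groth.Agent.S17176

/-- Fix integers g ≥ 3 and d. For a complete subcurve Y of arithmetic genus g_Y of a nodal curve of
genus g, meeting the rest of the curve in k points, the lower extreme of the Basic Inequality for
line bundles of degree d is m = d(2g_Y - 2 + k)/(2g - 2) - k/2, which is an integer exactly when 2(g
- 1) divides d(2g_Y - 2 + k) - k(g - 1). Then gcd(d - g + 1, 2g - 2) = 1 if and only if m is not an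
integer for all integers g_Y, k with 0 < g_Y < g - 1, k ≥ 1 and k + 2g_Y - 2 < 2g - 2. (The row
makes explicit the bound 2g_Y - 2 + k < 2g - 2, which is automatic for subcurves of stable curves
and is satisfied by every subcurve to which the source applies the lemma; the source leaves the
ambient curve's class implicit.) -/
theorem result (g d : ℤ) (hg : 3 ≤ g) :
    Int.gcd (d - g + 1) (2 * g - 2) = 1 ↔
      ∀ gY k : ℤ, 0 < gY → gY < g - 1 → 1 ≤ k → k + 2 * gY - 2 < 2 * g - 2 →
        ¬ (2 * (g - 1) ∣ d * (2 * gY - 2 + k) - k * (g - 1)) := by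
  have key : ∀ gY k : ℤ, d * (2 * gY - 2 + k) - k * (g - 1) =
      (d - g + 1) * (2 * gY - 2 + k) + (2 * (g - 1)) * (gY - 1) := by
    intro gY k; ring
  constructor
  · intro h gY k h1 h2 h3 h4 hdvd
    rw [key] at hdvd
    have h5 : 2 * (g - 1) ∣ (d - g + 1) * (2 * gY - 2 + k) :=
      (Int.dvd_add_left (dvd_mul_right _ _)).mp hdvd
    have hcop : IsCoprime (2 * (g - 1)) (d - g + 1) := by
      rw [Int.isCoprime_iff_gcd_eq_one, Int.gcd_comm]
      have : 2 * (g - 1) = 2 * g - 2 := by ring
      rw [this]; exact h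
    have h6 : 2 * (g - 1) ∣ (2 * gY - 2 + k) := hcop.dvd_of_dvd_mul_left h5
    have := Int.le_of_dvd (by omega) h6
    omega
  · intro h
    by_contra hne
    obtain ⟨e', he'⟩ : ((Int.gcd (d - g + 1) (2 * g - 2) : ℕ) : ℤ) ∣ d - g + 1 := Int.gcd_dvd_left _ _
    obtain ⟨w, hw⟩ : ((Int.gcd (d - g + 1) (2 * g - 2) : ℕ) : ℤ) ∣ 2 * g - 2 := Int.gcd_dvd_right _ _
    set c : ℕ := Int.gcd (d - g + 1) (2 * g - 2) with hc
    have hc0 : c ≠ 0 := by
      intro h0
      rw [h0] at hw
      simp at hw
      omega
    have hc2 : (2 : ℤ) ≤ (c : ℤ) := by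
      have : 2 ≤ c := by omega
      exact_mod_cast this
    have hwpos : 0 < w := by
      by_contra hw0
      have hw0' : w ≤ 0 := by omega
      have : (c : ℤ) * w ≤ 0 := mul_nonpos_of_nonneg_of_nonpos (by omega) hw0'
      omega
    have hwlt : w < 2 * g - 2 := by
      rw [hw]
      nlinarith
    apply h 1 w (by norm_num) (by omega) (by omega) (by omega)
    rw [key]
    refine ⟨e', ?_⟩
    have h2 : 2 * (g - 1) = (c : ℤ) * w := by rw [← hw]; ring
    rw [h2, he']
    ring

end Groth.Agent.S17176
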