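import Groth.Statements.S17179
import Groth.Agent.Lib.LabGraph_helper3

set_option autoImplicit false
universe u
open LabGraph Groth.Agent.Lib.LabGraph_helper3

namespace Groth.Agent.S17179

lemma two_abs_le {x b : ℤ} : 2 * |x| ≤ b ↔ -b ≤ 2 * x ∧ 2 * x ≤ b := by
  rw [← abs_le, abs_mul, abs_two]

open LabGraph in
/-- Let Γ be the weighted dual graph of a Deligne–Mumford semistable curve X of genus g ≥ 3 (connected;
every weight-zero vertex without loop joined to the other vertices by at least two edges), d a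
multidegree of total degree D satisfying the Basic Inequality, and Z a set of vertices whose degree
equals the upper extreme M_Z of the inequality, that is 2((2g - 2)·d_Z - D·canDeg Z) = cut Z·(2g -
2). Then d + z again satisfies the Basic Inequality, where z, the multidegree of O(Z) on the total
space of a regular smoothing, is the twist of the indicator function of Z (it lowers the degree on Z
by cut Z and raises it on each outside vertex by its number of edges to Z). -/
theorem result {V E : Type u} [Fintype V] [Fintype E]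
    [DecidableEq V] [DecidableEq E] (ends : E → V × V) (w : V → ℕ) (hX : IsSemistableGraph ends w)
    (hg : 3 ≤ genus ends w) (d : V → ℤ) (hBI : SatisfiesBI ends w d) (Z : Finset V)
    (hZ : 2 * (canDeg ends w Finset.univ * (∑ v ∈ Z, d v) - (∑ v : V, d v) * canDeg ends w Z) =
      (cut ends Z : ℤ) * canDeg ends w Finset.univ) :
    SatisfiesBI ends w (fun v => d v + twist ends (fun u => if u ∈ Z then 1 else 0) v) := by
  intro Y
  -- notation
  have hK : 0 ≤ canDeg ends w Finset.univ := by
    rw [canDeg_univ]; linarith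
  set K := canDeg ends w Finset.univ with hKdef
  set D := ∑ v : V, d v with hD
  -- the new total degree is the old one
  have hD' : ∑ v : V, (d v + twist ends (fun u => if u ∈ Z then 1 else 0) v) = D := by
    rw [Finset.sum_add_distrib, sum_twist_chi, Bf_univ_left]; simp [hD]
  -- the new degree on Y
  have hY' : ∑ v ∈ Y, (d v + twist ends (fun u => if u ∈ Z then 1 else 0) v) =
      ∑ v ∈ Y, d v - Bf ends Y Z := by
    rw [Finset.sum_add_distrib, sum_twist_chi]; ring
  rw [hD', hY']
  -- decompose Y
  set A := Y ∩ Z with hA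
  set B := Y \ Z with hB
  have hAB : Disjoint A B := by
    rw [hA, hB]
    exact Finset.disjoint_left.mpr fun v h1 h2 =>
      (Finset.mem_sdiff.mp h2).2 (Finset.mem_inter.mp h1).2
  have hYAB : Y = A ∪ B := by
    rw [hA, hB, Finset.union_comm]; exact (Finset.sdiff_union_inter Y Z).symm
  have hAZ : A ⊆ Z := Finset.inter_subset_right
  have hBZ : Disjoint Z B := by
    rw [hB]; exact Finset.disjoint_sdiff
  have hBZA : Disjoint B (Z \ A) := by
    refine Finset.disjoint_left.mpr fun v h1 h2 => ?_
    exact (Finset.mem_sdiff.mp h1).2 (Finset.mem_sdiff.mp h2).1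
  have hAZB : A ⊆ Z ∪ B := hAZ.trans Finset.subset_union_left
  -- the four instances of BI
  have bA := two_abs_le.mp (hBI A)
  have bB := two_abs_le.mp (hBI B)
  have bZB := two_abs_le.mp (hBI (Z ∪ B))
  have bZA := two_abs_le.mp (hBI (Z \ A))
  rw [cut_eq_Bf] at bA bB bZB bZA
  rw [Bf_union_left ends hBZ, Bf_union_right ends hBZ, Bf_union_right ends hBZ] at bZB
  rw [Bf_sdiff_left ends hAZ, Bf_sdiff_right ends hAZ, Bf_sdiff_right ends hAZ] at bZA
  have cZB : canDeg ends w (Z ∪ B) = canDeg ends w Z + canDeg ends w B := by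
    unfold canDeg; exact Finset.sum_union hBZ
  have cZA : canDeg ends w (Z \ A) = canDeg ends w Z - canDeg ends w A := by
    unfold canDeg; rw [← Finset.sum_sdiff hAZ]; ring
  have cY : canDeg ends w Y = canDeg ends w A + canDeg ends w B := by
    rw [hYAB]; unfold canDeg; exact Finset.sum_union hAB
  have dZB : ∑ v ∈ Z ∪ B, d v = ∑ v ∈ Z, d v + ∑ v ∈ B, d v := Finset.sum_union hBZ
  have dZA : ∑ v ∈ Z \ A, d v = ∑ v ∈ Z, d v - ∑ v ∈ A, d v := by
    rw [← Finset.sum_sdiff hAZ]; ring
  have dY : ∑ v ∈ Y, d v = ∑ v ∈ A, d v + ∑ v ∈ B, d v := by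
    rw [hYAB]; exact Finset.sum_union hAB
  rw [cZB, dZB] at bZB
  rw [cZA, dZA] at bZA
  rw [cut_eq_Bf] at hZ
  -- sign facts
  have s1 : 0 ≤ Bf ends A (Z ∪ B) := Bf_nonneg_of_subset ends hAZB
  rw [Bf_union_right ends hBZ] at s1
  have s2 : Bf ends B (Z \ A) ≤ 0 := Bf_nonpos_of_disjoint ends hBZA
  rw [Bf_sdiff_right ends hAZ] at s2
  have s1' := mul_nonneg hK s1
  have s2' := mul_nonneg hK (neg_nonneg.mpr s2)
  rw [cut_eq_Bf, two_abs_le, cY, dY]
  have e1 : Bf ends Y Z = Bf ends A Z + Bf ends B Z := by rw [hYAB, Bf_union_left ends hAB]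
  have e2 : Bf ends Y Y = Bf ends A A + Bf ends A B + (Bf ends B A + Bf ends B B) := by
    rw [hYAB, Bf_union_left ends hAB, Bf_union_right ends hAB, Bf_union_right ends hAB]
  rw [e1, e2]
  rw [Bf_comm ends B A]
  rw [Bf_comm ends Z B] at bZB
  rw [Bf_comm ends Z A] at bZA
  rw [Bf_comm ends B A] at s2'
  obtain ⟨bA1, bA2⟩ := bA
  obtain ⟨bB1, bB2⟩ := bB
  obtain ⟨bZB1, bZB2⟩ := bZB
  obtain ⟨bZA1, bZA2⟩ := bZA
  constructor
  · linarith
  · linarith

end Groth.Agent.S17179
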