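import Groth.Statements.S17247
import Mathlib
import Groth.Agent.Lib.FunFldW_helper2

set_option autoImplicit false
open FunFld

namespace Groth.Agent.S17247

/-- Let `K/k` be a function field of one variable of genus one over an algebraically closed field `k` of
characteristic zero (an elliptic curve `E`), `A` a place, and `g ≥ 3` an odd integer. Inside
`H⁰(O_E((2g-2)A)) = L((2g-2)A)` consider `V = L(gA)` (dimension `g`) and any hyperplane `V₁` of it
containing `L((g-2)A)`: `L((g-2)A) ⊆ V₁ ⊆ L(gA)`, `dim V₁ = g - 1`. Vanishing orders are those of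
sections of `O_E((2g-2)A)`: a member `f` vanishes to order at least `n` at a place `Q` when `f ∈
L((2g-2)A - nQ)`, and the weight of `V₁` at `Q` is `∑_{n=1}^{2g-2} dim (V₁ ∩ L((2g-2)A - nQ)) - (g-1
choose 2)` (the sum of the `g - 1` vanishing orders minus `0 + 1 + ⋯ + (g-2)`). Then the weight of
`V₁` at every place `Q ≠ A` is at most `2`. (The published statement is for a smooth elliptic curve
over the complex numbers and allows every odd positive `g`; for `g = 1` the inclusion `O(gA) ⊆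
O((2g-2)A)` it uses fails, so `g ≥ 3` here.) -/
theorem result
    (k K : Type*) [Field k] [IsAlgClosed k] [CharZero k] [Field K] [Algebra k K]
    (hK : FunFld.IsFunctionField k K) (hg1 : FunFld.genus k K = 1)
    (g : ℕ) (hodd : Odd g) (h3 : 3 ≤ g) (A : FunFld.Place k K)
    (V₁ : Submodule k K) (hlo : FunFld.L (Finsupp.single A ((g : ℤ) - 2)) ≤ V₁)
    (hhi : V₁ ≤ FunFld.L (Finsupp.single A (g : ℤ))) (hdim : Module.finrank k ↥V₁ + 1 = g)
    (Q : FunFld.Place k K) (hQ : Q ≠ A) :
    (∑ n ∈ Finset.range (2 * g - 2), Module.finrank k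
        ↥(V₁ ⊓ FunFld.L (Finsupp.single A (2 * (g : ℤ) - 2) - Finsupp.single Q ((n : ℤ) + 1)))) ≤
      (g - 1).choose 2 + 2 := by
  classical
  obtain ⟨m, rfl⟩ : ∃ m, g = m + 3 := ⟨g - 3, by omega⟩
  have hdA := FunFld.Place.deg_eq_one hK A
  have hdQ := FunFld.Place.deg_eq_one hK Q
  have hhi' : V₁ ≤ FunFld.L (Finsupp.single A ((m : ℤ) + 3) : FunFld.Divisor k K) := by
    have e : ((m + 3 : ℕ) : ℤ) = (m : ℤ) + 3 := by push_cast; ring
    rwa [e] at hhi
  have hlo' : FunFld.L (Finsupp.single A ((m : ℤ) + 1) : FunFld.Divisor k K) ≤ V₁ := by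
    have e : ((m + 3 : ℕ) : ℤ) - 2 = (m : ℤ) + 1 := by push_cast; ring
    rwa [e] at hlo
  haveI : FiniteDimensional k ↥V₁ := by
    haveI := FunFld.finiteDimensional_L hK
      (Finsupp.single A ((m : ℤ) + 3) : FunFld.Divisor k K)
    exact Submodule.finiteDimensional_of_le hhi'
  have hV : Module.finrank k ↥V₁ = m + 2 := by omega
  have hellZ : ∀ j : ℤ, 1 ≤ j →
      (FunFld.ell (Finsupp.single A j : FunFld.Divisor k K) : ℤ) = j :=
    FunFld.ell_single_of_genus_one hK hg1 A hdA
  have hW : Module.finrank k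
      ↥(FunFld.L (Finsupp.single A ((m : ℤ) + 1) : FunFld.Divisor k K)) = m + 1 := by
    have h3 := hellZ ((m : ℤ) + 1) (by omega)
    have h4 : Module.finrank k ↥(FunFld.L (Finsupp.single A ((m : ℤ) + 1) : FunFld.Divisor k K)) =
        FunFld.ell (Finsupp.single A ((m : ℤ) + 1) : FunFld.Divisor k K) := rfl
    omega
  obtain ⟨F, hF⟩ : ∃ F : ℕ → ℕ, F = fun n : ℕ => Module.finrank k
      ↥(V₁ ⊓ FunFld.L (Finsupp.single A ((m : ℤ) + 3) - Finsupp.single Q ((n : ℤ) + 1) :
        FunFld.Divisor k K)) := ⟨_, rfl⟩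
  have hFn : ∀ n : ℕ, F n = Module.finrank k
      ↥(V₁ ⊓ FunFld.L (Finsupp.single A ((m : ℤ) + 3) - Finsupp.single Q ((n : ℤ) + 1) :
        FunFld.Divisor k K)) := fun n => by rw [hF]
  have hAQ : ∀ a : ℤ, (Finsupp.single A a : FunFld.Divisor k K) Q = 0 :=
    fun a => FunFld.single_apply_ne (Ne.symm hQ) a
  have hsum : (∑ n ∈ Finset.range (2 * (m + 3) - 2), Module.finrank k
      ↥(V₁ ⊓ FunFld.L (Finsupp.single A (2 * ((m + 3 : ℕ) : ℤ) - 2) -
        Finsupp.single Q ((n : ℤ) + 1)))) = ∑ n ∈ Finset.range (2 * (m + 3) - 2), F n := by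
    apply Finset.sum_congr rfl
    intro n _
    rw [hFn, FunFld.inf_L_congr hhi'
      (E' := Finsupp.single A ((m : ℤ) + 3) - Finsupp.single Q ((n : ℤ) + 1))
      (sub_le_sub_right (Finsupp.single_le_single.mpr (by push_cast; omega)) _)
      (by
        intro R
        by_cases hR : R = Q
        · left
          rw [hR, Finsupp.sub_apply, Finsupp.sub_apply, hAQ, hAQ]
        · right
          rw [Finsupp.sub_apply, FunFld.single_apply_ne (Ne.symm hR), sub_zero])]
  rw [hsum]
  -- the basic bound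
  have hbound : ∀ j : ℤ, 0 ≤ j →
      Module.finrank k ↥(V₁ ⊓ FunFld.L (Finsupp.single A ((m : ℤ) + 3) - Finsupp.single Q j :
        FunFld.Divisor k K)) ≤
      FunFld.ell (Finsupp.single A ((m : ℤ) + 1) - Finsupp.single Q j : FunFld.Divisor k K) + 1 := by
    intro j hj
    have h := FunFld.finrank_inf_le_add_one
      (U := FunFld.L (Finsupp.single A ((m : ℤ) + 3) - Finsupp.single Q j : FunFld.Divisor k K))
      hlo' (by rw [hV, hW])
    have hWU : FunFld.L (Finsupp.single A ((m : ℤ) + 1) : FunFld.Divisor k K) ⊓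
        FunFld.L (Finsupp.single A ((m : ℤ) + 3) - Finsupp.single Q j : FunFld.Divisor k K) =
        FunFld.L (Finsupp.single A ((m : ℤ) + 1) - Finsupp.single Q j : FunFld.Divisor k K) := by
      rw [FunFld.inf_L_congr (V := FunFld.L (Finsupp.single A ((m : ℤ) + 1) : FunFld.Divisor k K))
        (E₀ := Finsupp.single A ((m : ℤ) + 1))
        (E' := Finsupp.single A ((m : ℤ) + 1) - Finsupp.single Q j) le_rfl
        (sub_le_sub_right (Finsupp.single_le_single.mpr (by omega)) _)
        (by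
          intro R
          by_cases hR : R = Q
          · left
            rw [hR, Finsupp.sub_apply, Finsupp.sub_apply, hAQ, hAQ]
          · right
            rw [Finsupp.sub_apply, FunFld.single_apply_ne (Ne.symm hR), sub_zero])]
      exact inf_eq_right.mpr (FunFld.L_mono (sub_le_self _ (Finsupp.single_nonneg.mpr hj)))
    rw [hWU] at h
    exact h
  have hdegE : ∀ j : ℤ, FunFld.Divisor.deg
      (Finsupp.single A ((m : ℤ) + 1) - Finsupp.single Q j : FunFld.Divisor k K) =
      (m : ℤ) + 1 - j := by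
    intro j
    rw [FunFld.deg_sub, FunFld.deg_single, FunFld.deg_single, hdA, hdQ]
    push_cast; ring
  have hell1 : ∀ j : ℤ, j ≤ m → (FunFld.ell
      (Finsupp.single A ((m : ℤ) + 1) - Finsupp.single Q j : FunFld.Divisor k K) : ℤ) =
      (m : ℤ) + 1 - j := by
    intro j hj
    have h := FunFld.ell_eq_of_deg_ge hK
      (Finsupp.single A ((m : ℤ) + 1) - Finsupp.single Q j : FunFld.Divisor k K) (by
        rw [hdegE, hg1]; push_cast; omega)
    rw [hdegE, hg1] at h
    push_cast at h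
    omega
  have hell2 : FunFld.ell
      (Finsupp.single A ((m : ℤ) + 1) - Finsupp.single Q ((m : ℤ) + 1) : FunFld.Divisor k K) ≤ 1 := by
    have h := FunFld.finrank_le_deg_add_one hK
      (FunFld.L (Finsupp.single A ((m : ℤ) + 1) - Finsupp.single Q ((m : ℤ) + 1) :
        FunFld.Divisor k K)) _ le_rfl (d := 0) (by rw [hdegE]; push_cast; ring)
    exact h
  have hell3 : ∀ j : ℤ, (m : ℤ) + 2 ≤ j → FunFld.ell
      (Finsupp.single A ((m : ℤ) + 1) - Finsupp.single Q j : FunFld.Divisor k K) = 0 := by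
    intro j hj
    exact FunFld.ell_eq_zero_of_deg_neg hK _ (by rw [hdegE]; omega)
  have hFa : ∀ n : ℕ, n < m → F n ≤ m + 1 - n := by
    intro n hn
    rw [hFn]
    have h5 := hbound ((n : ℤ) + 1) (by omega)
    have h6 := hell1 ((n : ℤ) + 1) (by omega)
    omega
  have hFm : F m ≤ 2 := by
    rw [hFn]
    have h5 := hbound ((m : ℤ) + 1) (by omega)
    omega
  have hFm1 : F (m + 1) ≤ 1 := by
    rw [hFn]
    have h5 := hbound (((m + 1 : ℕ) : ℤ) + 1) (by omega)
    have h6 := hell3 (((m + 1 : ℕ) : ℤ) + 1) (by push_cast; omega)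
    omega
  have hFm2 : F (m + 1 + 1) ≤ 1 := by
    rw [hFn]
    have h5 := hbound (((m + 1 + 1 : ℕ) : ℤ) + 1) (by omega)
    have h6 := hell3 (((m + 1 + 1 : ℕ) : ℤ) + 1) (by push_cast; omega)
    omega
  have hFz : ∀ i : ℕ, F (m + 1 + 1 + 1 + i) = 0 := by
    intro i
    rw [hFn, FunFld.L_eq_bot_of_deg_neg hK _ (by
      rw [FunFld.deg_sub, FunFld.deg_single, FunFld.deg_single, hdA, hdQ]
      push_cast; omega), inf_bot_eq, finrank_bot]
  -- the exclusion
  have hex : ¬ (F m = 2 ∧ 1 ≤ F (m + 1 + 1)) := by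
    rintro ⟨ha, hb⟩
    have hl1 : 0 < FunFld.ell
        (Finsupp.single A ((m : ℤ) + 1) - Finsupp.single Q ((m : ℤ) + 1) : FunFld.Divisor k K) := by
      have h := hbound ((m : ℤ) + 1) (by omega)
      rw [← hFn m, ha] at h
      omega
    have hl2 : 0 < FunFld.ell
        (Finsupp.single A ((m : ℤ) + 3) - Finsupp.single Q ((m : ℤ) + 3) : FunFld.Divisor k K) := by
      have h : F (m + 1 + 1) ≤ FunFld.ell
          (Finsupp.single A ((m : ℤ) + 3) - Finsupp.single Q ((m : ℤ) + 3) :
            FunFld.Divisor k K) := by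
        rw [hFn]
        have e : ((m + 1 + 1 : ℕ) : ℤ) + 1 = (m : ℤ) + 3 := by push_cast; ring
        rw [e]
        haveI := FunFld.finiteDimensional_L hK
          (Finsupp.single A ((m : ℤ) + 3) - Finsupp.single Q ((m : ℤ) + 3) : FunFld.Divisor k K)
        exact FunFld.finrank_le_of_le inf_le_right
      omega
    obtain ⟨z₁, hz₁0, hz₁⟩ := FunFld.exists_div_eq_neg hK (by rw [hdegE]; ring) hl1
    obtain ⟨z₂, hz₂0, hz₂⟩ := FunFld.exists_div_eq_neg hK (by
      rw [FunFld.deg_sub, FunFld.deg_single, FunFld.deg_single, hdA, hdQ]; ring) hl2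
    obtain ⟨t, ht⟩ : ∃ t, m = 2 * t := by
      obtain ⟨s, hs⟩ := hodd
      exact ⟨s - 1, by omega⟩
    have ho1 : ∀ R : FunFld.Place k K, R.ord z₁ =
        -((Finsupp.single A ((m : ℤ) + 1) : FunFld.Divisor k K) R -
          (Finsupp.single Q ((m : ℤ) + 1) : FunFld.Divisor k K) R) := by
      intro R
      rw [← FunFld.div_apply hK z₁ R, hz₁, Finsupp.neg_apply, Finsupp.sub_apply]
    have ho2 : ∀ R : FunFld.Place k K, R.ord z₂ =
        -((Finsupp.single A ((m : ℤ) + 3) : FunFld.Divisor k K) R -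
          (Finsupp.single Q ((m : ℤ) + 3) : FunFld.Divisor k K) R) := by
      intro R
      rw [← FunFld.div_apply hK z₂ R, hz₂, Finsupp.neg_apply, Finsupp.sub_apply]
    obtain ⟨w, hw⟩ : ∃ w : K, w = z₁ ^ (t + 2) * (z₂ ^ (t + 1))⁻¹ := ⟨_, rfl⟩
    have hw0 : w ≠ 0 := by
      rw [hw]
      exact mul_ne_zero (pow_ne_zero _ hz₁0) (inv_ne_zero (pow_ne_zero _ hz₂0))
    have how : ∀ R : FunFld.Place k K, R.ord w =
        ((t : ℤ) + 2) * R.ord z₁ - ((t : ℤ) + 1) * R.ord z₂ := by
      intro R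
      rw [hw, FunFld.Place.ord_mul R (pow_ne_zero _ hz₁0) (inv_ne_zero (pow_ne_zero _ hz₂0)),
        FunFld.Place.ord_inv, FunFld.Place.ord_pow, FunFld.Place.ord_pow]
      push_cast; ring
    have hwA : A.ord w = 1 := by
      rw [how, ho1, ho2, FunFld.single_apply_self, FunFld.single_apply_self,
        FunFld.single_apply_ne hQ, FunFld.single_apply_ne hQ, ht]
      push_cast; ring
    have hwQ : Q.ord w = -1 := by
      rw [how, ho1, ho2, FunFld.single_apply_self, FunFld.single_apply_self, hAQ, hAQ, ht]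
      push_cast; ring
    have hwR : ∀ R : FunFld.Place k K, R ≠ A → R ≠ Q → R.ord w = 0 := by
      intro R hRA hRQ
      rw [how, ho1, ho2, FunFld.single_apply_ne (Ne.symm hRA), FunFld.single_apply_ne (Ne.symm hRA),
        FunFld.single_apply_ne (Ne.symm hRQ), FunFld.single_apply_ne (Ne.symm hRQ)]
      ring
    have hwmem : w ∈ FunFld.L (Finsupp.single Q (1 : ℤ) : FunFld.Divisor k K) :=
      FunFld.mem_L_of_neg_le_ord hw0 (fun R => by
        by_cases hRQ : R = Q
        · rw [hRQ, FunFld.single_apply_self]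
          exact le_of_eq hwQ.symm
        · rw [FunFld.single_apply_ne (Ne.symm hRQ)]
          by_cases hRA : R = A
          · rw [hRA, hwA]; norm_num
          · rw [hwR R hRA hRQ]; norm_num)
    have hlQ := FunFld.ell_single_one_of_genus_pos hK (by rw [hg1]; norm_num) Q hdQ
    obtain ⟨c, hc⟩ := FunFld.exists_algebraMap_eq_of_ell_eq_one hK
      (Finsupp.single_nonneg.mpr (by norm_num)) hlQ hwmem
    rw [hc, FunFld.Place.ord_algebraMap] at hwA
    exact absurd hwA (by norm_num)
  -- the sum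
  have e1 : 2 * (m + 3) - 2 = (m + 1 + 1 + 1) + (m + 1) := by omega
  have S0 : ∑ x ∈ Finset.range (m + 1), F (m + 1 + 1 + 1 + x) = 0 :=
    Finset.sum_eq_zero (fun i _ => hFz i)
  have S3 : ∑ n ∈ Finset.range (m + 1 + 1 + 1), F n =
      ∑ n ∈ Finset.range m, F n + F m + F (m + 1) + F (m + 1 + 1) := by
    rw [Finset.sum_range_succ, Finset.sum_range_succ, Finset.sum_range_succ]
  have S4 : ∑ n ∈ Finset.range m, F n ≤ ∑ n ∈ Finset.range m, (m + 1 - n) :=
    Finset.sum_le_sum (fun n hn => hFa n (Finset.mem_range.mp hn))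
  have hT : ∑ i ∈ Finset.range (m + 1), (m + 1 - i) = (m + 1) * (m + 2) / 2 :=
    FunFld.sum_range_sub_eq (m + 1)
  have hT' : ∑ i ∈ Finset.range (m + 1), (m + 1 - i) =
      ∑ i ∈ Finset.range m, (m + 1 - i) + 1 := by
    rw [Finset.sum_range_succ]
    congr 1
    omega
  have e3 : m + 3 - 1 = m + 2 := by omega
  have hC2 : (m + 2).choose 2 = (m + 1) * (m + 2) / 2 := by
    rw [Nat.choose_two_right]
    show (m + 2) * (m + 1) / 2 = _
    rw [Nat.mul_comm]
  rw [e1, Finset.sum_range_add, S0, add_zero, S3, e3, hC2]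
  omega

end Groth.Agent.S17247
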