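import Groth.Statements.S17248
import Mathlib
import Groth.Agent.Lib.FunFldW_helper2

set_option autoImplicit false
open FunFld

namespace Groth.Agent.S17248

/-- Let `K/k` be a function field of one variable of genus one over an algebraically closed field `k` of
characteristic zero (an elliptic curve `E`), `A` a place, and `g ≥ 3` an integer. Inside
`H⁰(O_E((2g-2)A)) = L((2g-2)A)` consider `V = L(gA)` (dimension `g`) and any hyperplane `V₁` of it
containing `L((g-2)A)`: `L((g-2)A) ⊆ V₁ ⊆ L(gA)`, `dim V₁ = g - 1`. Vanishing orders are those of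
sections of `O_E((2g-2)A)`: a member `f` vanishes to order at least `n` at a place `Q` when `f ∈
L((2g-2)A - nQ)`, and the weight of `V₁` at `Q` is `∑_{n=1}^{2g-2} dim (V₁ ∩ L((2g-2)A - nQ)) - (g-1
choose 2)` (the sum of the `g - 1` vanishing orders minus `0 + 1 + ⋯ + (g-2)`). Then the weight of
`V₁` at `A` is `(g-1)² + ε` with `ε ∈ {0, 1}`. (The published statement is for a smooth elliptic
curve over the complex numbers and `g` odd positive; `g ≥ 3` here since the ambient inclusion needs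
it; this row does not assume `g` odd.) -/
theorem result
    (k K : Type*) [Field k] [IsAlgClosed k] [CharZero k] [Field K] [Algebra k K]
    (hK : FunFld.IsFunctionField k K) (hg1 : FunFld.genus k K = 1)
    (g : ℕ) (h3 : 3 ≤ g) (A : FunFld.Place k K)
    (V₁ : Submodule k K) (hlo : FunFld.L (Finsupp.single A ((g : ℤ) - 2)) ≤ V₁)
    (hhi : V₁ ≤ FunFld.L (Finsupp.single A (g : ℤ))) (hdim : Module.finrank k ↥V₁ + 1 = g) :
    ∃ ε : ℕ, ε ≤ 1 ∧
      (∑ n ∈ Finset.range (2 * g - 2), Module.finrank k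
        ↥(V₁ ⊓ FunFld.L (Finsupp.single A (2 * (g : ℤ) - 2) - Finsupp.single A ((n : ℤ) + 1)))) =
      (g - 1).choose 2 + (g - 1) ^ 2 + ε := by
  classical
  obtain ⟨m, rfl⟩ : ∃ m, g = m + 3 := ⟨g - 3, by omega⟩
  have hdA := FunFld.Place.deg_eq_one hK A
  have hhi' : V₁ ≤ FunFld.L (Finsupp.single A ((m : ℤ) + 3) : FunFld.Divisor k K) := by
    have e : ((m + 3 : ℕ) : ℤ) = (m : ℤ) + 3 := by push_cast; ring
    rwa [e] at hhi
  have hlo' : FunFld.L (Finsupp.single A ((m : ℤ) + 1) : FunFld.Divisor k K) ≤ V₁ := by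
    have e : ((m + 3 : ℕ) : ℤ) - 2 = (m : ℤ) + 1 := by push_cast; ring
    rwa [e] at hlo
  haveI : FiniteDimensional k ↥V₁ := by
    haveI := FunFld.finiteDimensional_L hK
      (Finsupp.single A ((m : ℤ) + 3) : FunFld.Divisor k K)
    exact Submodule.finiteDimensional_of_le hhi'
  have hV : Module.finrank k ↥V₁ = m + 2 := by omega
  have hellZ : ∀ j : ℤ, 1 ≤ j →
      (FunFld.ell (Finsupp.single A j : FunFld.Divisor k K) : ℤ) = j :=
    FunFld.ell_single_of_genus_one hK hg1 A hdA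
  obtain ⟨F, hF⟩ : ∃ F : ℕ → ℕ, F = fun n : ℕ => Module.finrank k
      ↥(V₁ ⊓ FunFld.L (Finsupp.single A (2 * (m : ℤ) + 3 - (n : ℤ)) : FunFld.Divisor k K)) := ⟨_, rfl⟩
  have hFval : ∀ (n : ℕ) (j : ℤ), 2 * (m : ℤ) + 3 - n = j →
      F n = Module.finrank k ↥(V₁ ⊓ FunFld.L (Finsupp.single A j : FunFld.Divisor k K)) := by
    intro n j hj
    rw [hF, ← hj]
  have hsum : (∑ n ∈ Finset.range (2 * (m + 3) - 2), Module.finrank k
      ↥(V₁ ⊓ FunFld.L (Finsupp.single A (2 * ((m + 3 : ℕ) : ℤ) - 2) -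
        Finsupp.single A ((n : ℤ) + 1)))) = ∑ n ∈ Finset.range (2 * (m + 3) - 2), F n := by
    apply Finset.sum_congr rfl
    intro n _
    rw [← Finsupp.single_sub]
    have e : 2 * ((m + 3 : ℕ) : ℤ) - 2 - ((n : ℤ) + 1) = 2 * (m : ℤ) + 3 - n := by
      push_cast; ring
    rw [e, hF]
  rw [hsum]
  -- the three ranges
  have hfa : ∀ n : ℕ, n < m + 1 → F n = m + 2 := by
    intro n hn
    rw [hFval n _ rfl]
    have hle : V₁ ≤ FunFld.L (Finsupp.single A (2 * (m : ℤ) + 3 - n) : FunFld.Divisor k K) :=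
      hhi'.trans (FunFld.L_single_mono A (by omega))
    rw [inf_eq_left.mpr hle, hV]
  have hfc : ∀ i : ℕ, i ≤ m → F (m + 1 + 1 + i) = m + 1 - i := by
    intro i hi
    rw [hFval (m + 1 + 1 + i) (((m + 1 - i : ℕ) : ℤ)) (by omega)]
    have hle : FunFld.L (Finsupp.single A (((m + 1 - i : ℕ) : ℤ)) : FunFld.Divisor k K) ≤ V₁ :=
      (FunFld.L_single_mono A (by omega)).trans hlo'
    rw [inf_eq_right.mpr hle]
    have := hellZ (((m + 1 - i : ℕ) : ℤ)) (by omega)
    show FunFld.ell (Finsupp.single A (((m + 1 - i : ℕ) : ℤ)) : FunFld.Divisor k K) = m + 1 - i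
    exact_mod_cast this
  have hfc' : F (m + 1 + 1 + (m + 1)) = 1 := by
    rw [hFval (m + 1 + 1 + (m + 1)) 0 (by push_cast; ring)]
    have hle : FunFld.L (Finsupp.single A (0 : ℤ) : FunFld.Divisor k K) ≤ V₁ :=
      (FunFld.L_single_mono A (by omega)).trans hlo'
    rw [inf_eq_right.mpr hle, Finsupp.single_zero]
    exact FunFld.ell_zero hK
  have hfb1 : F (m + 1) ≤ m + 2 := by
    rw [hFval (m + 1) _ rfl, ← hV]
    exact FunFld.finrank_le_of_le inf_le_left
  have hfb2 : m + 1 ≤ F (m + 1) := by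
    rw [hFval (m + 1) ((m : ℤ) + 2) (by push_cast; ring)]
    haveI : FiniteDimensional k
        ↥(V₁ ⊓ FunFld.L (Finsupp.single A ((m : ℤ) + 2) : FunFld.Divisor k K)) :=
      Submodule.finiteDimensional_of_le inf_le_left
    have h1 : FunFld.L (Finsupp.single A ((m : ℤ) + 1) : FunFld.Divisor k K) ≤
        V₁ ⊓ FunFld.L (Finsupp.single A ((m : ℤ) + 2) : FunFld.Divisor k K) :=
      le_inf hlo' (FunFld.L_single_mono A (by omega))
    have h2 := FunFld.finrank_le_of_le h1
    have h3 := hellZ ((m : ℤ) + 1) (by omega)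
    have h4 : Module.finrank k ↥(FunFld.L (Finsupp.single A ((m : ℤ) + 1) : FunFld.Divisor k K)) =
        FunFld.ell (Finsupp.single A ((m : ℤ) + 1) : FunFld.Divisor k K) := rfl
    omega
  have S1 : ∑ n ∈ Finset.range (m + 1 + 1), F n = (m + 1) * (m + 2) + F (m + 1) := by
    rw [Finset.sum_range_succ,
      Finset.sum_congr rfl (fun n hn => hfa n (Finset.mem_range.mp hn)),
      Finset.sum_const, Finset.card_range, smul_eq_mul]
  have hT : ∑ i ∈ Finset.range (m + 1), (m + 1 - i) = (m + 1) * (m + 2) / 2 :=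
    FunFld.sum_range_sub_eq (m + 1)
  have S2 : ∑ i ∈ Finset.range (m + 1 + 1), F (m + 1 + 1 + i) = (m + 1) * (m + 2) / 2 + 1 := by
    rw [Finset.sum_range_succ, hfc',
      Finset.sum_congr rfl (fun i hi => hfc i (by rw [Finset.mem_range] at hi; omega)), hT]
  have e1 : 2 * (m + 3) - 2 = (m + 1 + 1) + (m + 1 + 1) := by omega
  rw [e1, Finset.sum_range_add, S1, S2]
  have e3 : m + 3 - 1 = m + 2 := by omega
  have hC2 : (m + 2).choose 2 = (m + 1) * (m + 2) / 2 := by
    rw [Nat.choose_two_right]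
    show (m + 2) * (m + 1) / 2 = _
    rw [Nat.mul_comm]
  have hsq : (m + 2) ^ 2 = (m + 1) * (m + 2) + (m + 2) := by ring
  refine ⟨F (m + 1) - (m + 1), by omega, ?_⟩
  rw [e3, hC2, hsq]
  omega

end Groth.Agent.S17248
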