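import Groth.Statements.S17249
import Mathlib
import Groth.Agent.Lib.FunFldW_helper2

set_option autoImplicit false
open FunFld

namespace Groth.Agent.S17249

/-- Let `K/k` be a function field of one variable of genus two over an algebraically closed field `k` of
characteristic zero (a smooth curve `X` of genus `2`), `C` a canonical divisor, `A` a place with
`ℓ(2A) = 1` (not a Weierstrass point), and `P`, `Q` places with `Q ≠ A`. Then `ℓ(C + 2A - P - 3Q) =
1` and `ℓ(C + 2A - P - Q) = 2` do not both hold: the two-dimensional complete system `H⁰(ω_X(2A -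
P))` (of degree `3`) has no point `Q ≠ A` of weight three. (The published statement concerns a
general pointed curve `(X, A)` of genus two over the complex numbers and a point `P` of `X`; this
row assumes only `ℓ(2A) = 1`.) -/
theorem result
    (k K : Type*) [Field k] [IsAlgClosed k] [CharZero k] [Field K] [Algebra k K]
    (hK : FunFld.IsFunctionField k K) (hg : FunFld.genus k K = 2)
    (C : FunFld.Divisor k K) (hC : FunFld.IsCanonical k K C)
    (A P Q : FunFld.Place k K) (hA : Module.finrank k ↥(FunFld.L (Finsupp.single A (2 : ℤ))) = 1) (hQ : Q ≠ A) :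
    ¬ (Module.finrank k ↥(FunFld.L (C + Finsupp.single A (2 : ℤ) - Finsupp.single P (1 : ℤ) - Finsupp.single Q (3 : ℤ))) = 1 ∧
       Module.finrank k ↥(FunFld.L (C + Finsupp.single A (2 : ℤ) - Finsupp.single P (1 : ℤ) - Finsupp.single Q (1 : ℤ))) = 2) := by
  classical
  rintro ⟨-, h2⟩
  have hdA := FunFld.Place.deg_eq_one hK A
  have hdP := FunFld.Place.deg_eq_one hK P
  have hdQ := FunFld.Place.deg_eq_one hK Q
  have hdC := FunFld.deg_of_isCanonical hK hC
  rw [hg] at hdC
  have hrr := FunFld.riemann_roch hK C hC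
    (C + Finsupp.single A (2 : ℤ) - Finsupp.single P (1 : ℤ) - Finsupp.single Q (1 : ℤ))
  have hdeg : FunFld.Divisor.deg
      (C + Finsupp.single A (2 : ℤ) - Finsupp.single P (1 : ℤ) - Finsupp.single Q (1 : ℤ)) = 2 := by
    rw [FunFld.deg_sub, FunFld.deg_sub, FunFld.deg_add, FunFld.deg_single, FunFld.deg_single,
      FunFld.deg_single, hdA, hdP, hdQ, hdC]
    norm_num
  have h2' : FunFld.ell
      (C + Finsupp.single A (2 : ℤ) - Finsupp.single P (1 : ℤ) - Finsupp.single Q (1 : ℤ)) = 2 := h2
  have hE : C - (C + Finsupp.single A (2 : ℤ) - Finsupp.single P (1 : ℤ) -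
      Finsupp.single Q (1 : ℤ)) =
      Finsupp.single P (1 : ℤ) + Finsupp.single Q (1 : ℤ) - Finsupp.single A (2 : ℤ) := by abel
  rw [hdeg, h2', hg, hE] at hrr
  have hl : 0 < FunFld.ell
      (Finsupp.single P (1 : ℤ) + Finsupp.single Q (1 : ℤ) - Finsupp.single A (2 : ℤ) :
        FunFld.Divisor k K) := by
    push_cast at hrr
    omega
  obtain ⟨z, hz0, hz⟩ := FunFld.exists_div_eq_neg hK (by
    rw [FunFld.deg_sub, FunFld.deg_add, FunFld.deg_single, FunFld.deg_single,
      FunFld.deg_single, hdA, hdP, hdQ]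
    norm_num) hl
  have hzi : z⁻¹ ∈ FunFld.L (Finsupp.single A (2 : ℤ) : FunFld.Divisor k K) := by
    apply (FunFld.mem_L_iff_div hK (inv_ne_zero hz0) _).mpr
    rw [FunFld.div_inv hK, hz, neg_neg, sub_add_cancel]
    exact add_nonneg (Finsupp.single_nonneg.mpr (by norm_num))
      (Finsupp.single_nonneg.mpr (by norm_num))
  obtain ⟨c, hc⟩ := FunFld.exists_algebraMap_eq_of_ell_eq_one hK
    (Finsupp.single_nonneg.mpr (by norm_num)) hA hzi
  have h5 := FunFld.div_apply hK z⁻¹ Q
  rw [hc, FunFld.Place.ord_algebraMap, ← hc, FunFld.div_inv hK, hz, neg_neg, Finsupp.sub_apply,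
    Finsupp.add_apply, FunFld.single_apply_self, FunFld.single_apply_ne (Ne.symm hQ)] at h5
  have h6 := FunFld.single_apply_nonneg (k := k) (K := K) (n := 1) (by norm_num) P Q
  omega

end Groth.Agent.S17249
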