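import Groth.Statements.S17250
import Mathlib
import Groth.Agent.Lib.FunFldW_helper2

set_option autoImplicit false
open FunFld

namespace Groth.Agent.S17250

/-- Let `K/k` be a function field of one variable of genus two over an algebraically closed field `k` of
characteristic zero (a smooth curve `X` of genus `2`), `C` a canonical divisor, `A` a place with
`ℓ(2A) = 1`, and `P`, `Q` places different from `A`. Then `ℓ(C + 3A - P - 4Q) = 1` and `ℓ(C + 3A - P
- 2Q) = 2` do not both hold (the three-dimensional complete system `H⁰(ω_X(3A - P))`, of degree `4`,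
has no point `Q ≠ A` with two independent sections vanishing to order at least `2` there and one
vanishing to order at least `4`). (The published statement concerns a general pointed curve `(X, A)`
of genus two over the complex numbers and a point `P ≠ A`; this row assumes `ℓ(2A) = 1` in place of
generality.) -/
theorem result
    (k K : Type*) [Field k] [IsAlgClosed k] [CharZero k] [Field K] [Algebra k K]
    (hK : FunFld.IsFunctionField k K) (hg : FunFld.genus k K = 2)
    (C : FunFld.Divisor k K) (hC : FunFld.IsCanonical k K C)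
    (A P Q : FunFld.Place k K) (hA : Module.finrank k ↥(FunFld.L (Finsupp.single A (2 : ℤ))) = 1) (hP : P ≠ A) (hQ : Q ≠ A) :
    ¬ (Module.finrank k ↥(FunFld.L (C + Finsupp.single A (3 : ℤ) - Finsupp.single P (1 : ℤ) - Finsupp.single Q (4 : ℤ))) = 1 ∧
       Module.finrank k ↥(FunFld.L (C + Finsupp.single A (3 : ℤ) - Finsupp.single P (1 : ℤ) - Finsupp.single Q (2 : ℤ))) = 2) := by
  classical
  rintro ⟨h1, h2⟩
  have hdA := FunFld.Place.deg_eq_one hK A
  have hdP := FunFld.Place.deg_eq_one hK P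
  have hdQ := FunFld.Place.deg_eq_one hK Q
  have hdC := FunFld.deg_of_isCanonical hK hC
  rw [hg] at hdC
  have hQ4 : (Finsupp.single Q (4 : ℤ) : FunFld.Divisor k K) =
      Finsupp.single Q (2 : ℤ) + Finsupp.single Q (2 : ℤ) := by
    rw [← Finsupp.single_add]; norm_num
  -- the second system
  have hrr := FunFld.riemann_roch hK C hC
    (C + Finsupp.single A (3 : ℤ) - Finsupp.single P (1 : ℤ) - Finsupp.single Q (2 : ℤ))
  have hdeg : FunFld.Divisor.deg
      (C + Finsupp.single A (3 : ℤ) - Finsupp.single P (1 : ℤ) - Finsupp.single Q (2 : ℤ)) = 2 := by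
    rw [FunFld.deg_sub, FunFld.deg_sub, FunFld.deg_add, FunFld.deg_single, FunFld.deg_single,
      FunFld.deg_single, hdA, hdP, hdQ, hdC]
    norm_num
  have h2' : FunFld.ell
      (C + Finsupp.single A (3 : ℤ) - Finsupp.single P (1 : ℤ) - Finsupp.single Q (2 : ℤ)) = 2 := h2
  have hE : C - (C + Finsupp.single A (3 : ℤ) - Finsupp.single P (1 : ℤ) -
      Finsupp.single Q (2 : ℤ)) =
      Finsupp.single P (1 : ℤ) + Finsupp.single Q (2 : ℤ) - Finsupp.single A (3 : ℤ) := by abel
  rw [hdeg, h2', hg, hE] at hrr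
  have hl : 0 < FunFld.ell
      (Finsupp.single P (1 : ℤ) + Finsupp.single Q (2 : ℤ) - Finsupp.single A (3 : ℤ) :
        FunFld.Divisor k K) := by
    push_cast at hrr
    omega
  obtain ⟨z₂, hz₂0, hz₂⟩ := FunFld.exists_div_eq_neg hK (by
    rw [FunFld.deg_sub, FunFld.deg_add, FunFld.deg_single, FunFld.deg_single,
      FunFld.deg_single, hdA, hdP, hdQ]
    norm_num) hl
  -- the first system
  have h1' : FunFld.ell
      (C + Finsupp.single A (3 : ℤ) - Finsupp.single P (1 : ℤ) - Finsupp.single Q (4 : ℤ)) = 1 := h1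
  obtain ⟨z₁, hz₁0, hz₁⟩ := FunFld.exists_div_eq_neg hK (D :=
      C + Finsupp.single A (3 : ℤ) - Finsupp.single P (1 : ℤ) - Finsupp.single Q (4 : ℤ)) (by
    rw [FunFld.deg_sub, FunFld.deg_sub, FunFld.deg_add, FunFld.deg_single, FunFld.deg_single,
      FunFld.deg_single, hdA, hdP, hdQ, hdC]
    norm_num) (by rw [h1']; norm_num)
  -- `C - 3A + P` is principal
  have hw0 : z₁ * z₂ * z₂ ≠ 0 := mul_ne_zero (mul_ne_zero hz₁0 hz₂0) hz₂0
  have hw : FunFld.div k (z₁ * z₂ * z₂) +
      (C - Finsupp.single A (3 : ℤ) + Finsupp.single P (1 : ℤ)) = 0 := by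
    rw [FunFld.div_mul hK (mul_ne_zero hz₁0 hz₂0) hz₂0, FunFld.div_mul hK hz₁0 hz₂0, hz₁, hz₂, hQ4]
    abel
  have hl2 : 0 < FunFld.ell (C - Finsupp.single A (3 : ℤ) + Finsupp.single P (1 : ℤ)) :=
    FunFld.ell_pos_of_div hK hw0 (le_of_eq hw.symm)
  have hrr2 := FunFld.riemann_roch hK C hC
    (Finsupp.single A (3 : ℤ) - Finsupp.single P (1 : ℤ))
  have hE2 : C - (Finsupp.single A (3 : ℤ) - Finsupp.single P (1 : ℤ)) =
      C - Finsupp.single A (3 : ℤ) + Finsupp.single P (1 : ℤ) := by abel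
  rw [hE2, FunFld.deg_sub, FunFld.deg_single, FunFld.deg_single, hdA, hdP, hg] at hrr2
  have hle : (Finsupp.single A (2 : ℤ) - Finsupp.single P (1 : ℤ) : FunFld.Divisor k K) ≤
      Finsupp.single A (3 : ℤ) - Finsupp.single P (1 : ℤ) :=
    sub_le_sub_right (Finsupp.single_le_single.mpr (by norm_num)) _
  have h3 := FunFld.ell_sub_ell_le hK hle
  rw [FunFld.deg_sub, FunFld.deg_sub, FunFld.deg_single, FunFld.deg_single, FunFld.deg_single,
    hdA, hdP] at h3
  have hl3 : 0 < FunFld.ell
      (Finsupp.single A (2 : ℤ) - Finsupp.single P (1 : ℤ) : FunFld.Divisor k K) := by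
    push_cast at hrr2 h3
    omega
  obtain ⟨u, hu, hu0⟩ := FunFld.exists_ne_zero_mem_L_of_ell_pos hK hl3
  have hu2 : u ∈ FunFld.L (Finsupp.single A (2 : ℤ) : FunFld.Divisor k K) :=
    FunFld.L_mono (sub_le_self _ (Finsupp.single_nonneg.mpr (by norm_num))) hu
  obtain ⟨c, hc⟩ := FunFld.exists_algebraMap_eq_of_ell_eq_one hK
    (Finsupp.single_nonneg.mpr (by norm_num)) hA hu2
  have hc0 : c ≠ 0 := by
    rintro rfl
    rw [map_zero] at hc
    exact hu0 hc
  rw [hc] at hu
  have h7 := FunFld.nonneg_of_algebraMap_mem_L hc0 hu P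
  rw [Finsupp.sub_apply, FunFld.single_apply_self, FunFld.single_apply_ne (Ne.symm hP)] at h7
  change (0 : ℤ) ≤ 0 - 1 at h7
  omega

end Groth.Agent.S17250
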