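import Groth.Statements.S17251
import Mathlib
import Groth.Agent.Lib.FunFldW_helper2

set_option autoImplicit false
open FunFld

namespace Groth.Agent.S17251

/-- Let `K/k` be a function field of one variable of genus two over an algebraically closed field `k` of
characteristic zero (a smooth curve `Y` of genus `2`), `C` a canonical divisor, `B` a place with
`ℓ(2B) = 1` (not a Weierstrass point) and `Q ≠ B` a place. Then `ℓ(C + B - 2Q) = 1` and `ℓ(C + 3B -
4Q) = 1` do not both hold: the complete systems `H⁰(ω_Y(B))` (dimension `2`, degree `3`) and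
`H⁰(ω_Y(3B))` (dimension `4`, degree `5`) have no ramification point in common on `Y` minus `B`.
(The published statement concerns a general pointed curve `(Y, B)` of genus two over the complex
numbers; this row assumes only `ℓ(2B) = 1`.) -/
theorem result
    (k K : Type*) [Field k] [IsAlgClosed k] [CharZero k] [Field K] [Algebra k K]
    (hK : FunFld.IsFunctionField k K) (hg : FunFld.genus k K = 2)
    (C : FunFld.Divisor k K) (hC : FunFld.IsCanonical k K C)
    (B Q : FunFld.Place k K) (hB : Module.finrank k ↥(FunFld.L (Finsupp.single B (2 : ℤ))) = 1) (hQ : Q ≠ B) :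
    ¬ (Module.finrank k ↥(FunFld.L (C + Finsupp.single B (1 : ℤ) - Finsupp.single Q (2 : ℤ))) = 1 ∧
       Module.finrank k ↥(FunFld.L (C + Finsupp.single B (3 : ℤ) - Finsupp.single Q (4 : ℤ))) = 1) := by
  classical
  rintro ⟨h1, h2⟩
  have hdB := FunFld.Place.deg_eq_one hK B
  have hdQ := FunFld.Place.deg_eq_one hK Q
  have hdC := FunFld.deg_of_isCanonical hK hC
  have hlC := FunFld.ell_of_isCanonical hK hC
  rw [hg] at hdC hlC
  have hQ4 : (Finsupp.single Q (4 : ℤ) : FunFld.Divisor k K) =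
      Finsupp.single Q (2 : ℤ) + Finsupp.single Q (2 : ℤ) := by
    rw [← Finsupp.single_add]; norm_num
  have hB3 : (Finsupp.single B (3 : ℤ) : FunFld.Divisor k K) =
      Finsupp.single B (2 : ℤ) + Finsupp.single B (1 : ℤ) := by
    rw [← Finsupp.single_add]; norm_num
  have hB2 : (Finsupp.single B (2 : ℤ) : FunFld.Divisor k K) =
      Finsupp.single B (1 : ℤ) + Finsupp.single B (1 : ℤ) := by
    rw [← Finsupp.single_add]; norm_num
  -- first system
  have hrr1 := FunFld.riemann_roch hK C hC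
    (C + Finsupp.single B (1 : ℤ) - Finsupp.single Q (2 : ℤ))
  have h1' : FunFld.ell (C + Finsupp.single B (1 : ℤ) - Finsupp.single Q (2 : ℤ)) = 1 := h1
  have hE1 : C - (C + Finsupp.single B (1 : ℤ) - Finsupp.single Q (2 : ℤ)) =
      Finsupp.single Q (2 : ℤ) - Finsupp.single B (1 : ℤ) := by abel
  rw [hE1, h1', FunFld.deg_sub, FunFld.deg_add, FunFld.deg_single, FunFld.deg_single, hdB, hdQ,
    hdC, hg] at hrr1
  have hl1 : 0 < FunFld.ell
      (Finsupp.single Q (2 : ℤ) - Finsupp.single B (1 : ℤ) : FunFld.Divisor k K) := by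
    push_cast at hrr1
    omega
  -- second system
  have hrr2 := FunFld.riemann_roch hK C hC
    (C + Finsupp.single B (3 : ℤ) - Finsupp.single Q (4 : ℤ))
  have h2' : FunFld.ell (C + Finsupp.single B (3 : ℤ) - Finsupp.single Q (4 : ℤ)) = 1 := h2
  have hE2 : C - (C + Finsupp.single B (3 : ℤ) - Finsupp.single Q (4 : ℤ)) =
      Finsupp.single Q (4 : ℤ) - Finsupp.single B (3 : ℤ) := by abel
  rw [hE2, h2', FunFld.deg_sub, FunFld.deg_add, FunFld.deg_single, FunFld.deg_single, hdB, hdQ,
    hdC, hg] at hrr2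
  have hl2 : FunFld.ell
      (Finsupp.single Q (4 : ℤ) - Finsupp.single B (3 : ℤ) : FunFld.Divisor k K) = 1 := by
    push_cast at hrr2
    omega
  -- `2Q` is canonical
  obtain ⟨u, hu, hu0⟩ := FunFld.exists_ne_zero_mem_L_of_ell_pos hK hl1
  have hQ2nn : (0 : FunFld.Divisor k K) ≤ Finsupp.single Q (2 : ℤ) :=
    Finsupp.single_nonneg.mpr (by norm_num)
  have hlQ2 : 2 ≤ FunFld.ell (Finsupp.single Q (2 : ℤ) : FunFld.Divisor k K) := by
    by_contra hlt
    have hpos : 0 < FunFld.ell (Finsupp.single Q (2 : ℤ) : FunFld.Divisor k K) :=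
      FunFld.ell_pos_of_mem hK one_ne_zero (FunFld.one_mem_L hQ2nn)
    have hone : FunFld.ell (Finsupp.single Q (2 : ℤ) : FunFld.Divisor k K) = 1 := by omega
    have hu2 : u ∈ FunFld.L (Finsupp.single Q (2 : ℤ) : FunFld.Divisor k K) :=
      FunFld.L_mono (sub_le_self _ (Finsupp.single_nonneg.mpr (by norm_num))) hu
    obtain ⟨c, hc⟩ := FunFld.exists_algebraMap_eq_of_ell_eq_one hK hQ2nn hone hu2
    have hc0 : c ≠ 0 := by
      rintro rfl
      rw [map_zero] at hc
      exact hu0 hc
    rw [hc] at hu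
    have h7 := FunFld.nonneg_of_algebraMap_mem_L hc0 hu B
    rw [Finsupp.sub_apply, FunFld.single_apply_self, FunFld.single_apply_ne hQ] at h7
    change (0 : ℤ) ≤ 0 - 1 at h7
    omega
  have hrr3 := FunFld.riemann_roch hK C hC (Finsupp.single Q (2 : ℤ))
  rw [FunFld.deg_single, hdQ, hg] at hrr3
  have hl3 : 0 < FunFld.ell (C - Finsupp.single Q (2 : ℤ)) := by
    push_cast at hrr3
    omega
  obtain ⟨z, hz0, hz⟩ := FunFld.exists_div_eq_neg hK (by
    rw [FunFld.deg_sub, FunFld.deg_single, hdQ, hdC]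
    norm_num) hl3
  -- transfer to `2C - 3B`
  have hzz0 : z * z ≠ 0 := mul_ne_zero hz0 hz0
  have h4 := FunFld.ell_add_div hK (C + C - Finsupp.single B (3 : ℤ)) hzz0
  have hE4 : C + C - Finsupp.single B (3 : ℤ) + FunFld.div k (z * z) =
      Finsupp.single Q (4 : ℤ) - Finsupp.single B (3 : ℤ) := by
    rw [FunFld.div_mul hK hz0 hz0, hz, hQ4]
    abel
  rw [hE4, hl2] at h4
  have hrr5 := FunFld.riemann_roch hK C hC (Finsupp.single B (3 : ℤ) - C)
  have hE5 : C - (Finsupp.single B (3 : ℤ) - C) = C + C - Finsupp.single B (3 : ℤ) := by abel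
  rw [hE5, ← h4, FunFld.deg_sub, FunFld.deg_single, hdB, hdC, hg] at hrr5
  have hl5 : 0 < FunFld.ell (Finsupp.single B (3 : ℤ) - C) := by
    push_cast at hrr5
    omega
  obtain ⟨h, hh, hh0⟩ := FunFld.exists_ne_zero_mem_L_of_ell_pos hK hl5
  -- a section of `C - B`
  have hle : C - Finsupp.single B (1 : ℤ) ≤ C :=
    sub_le_self _ (Finsupp.single_nonneg.mpr (by norm_num))
  have h6 := FunFld.ell_sub_ell_le hK hle
  rw [FunFld.deg_sub, FunFld.deg_single, hdB, hlC] at h6
  have hl6 : 0 < FunFld.ell (C - Finsupp.single B (1 : ℤ)) := by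
    push_cast at h6
    omega
  obtain ⟨u', hu', hu'0⟩ := FunFld.exists_ne_zero_mem_L_of_ell_pos hK hl6
  -- the product is constant
  have hprod : h * u' ∈ FunFld.L (Finsupp.single B (2 : ℤ) : FunFld.Divisor k K) := by
    have := FunFld.mul_mem_L hh hu'
    have hE7 : Finsupp.single B (3 : ℤ) - C + (C - Finsupp.single B (1 : ℤ)) =
        Finsupp.single B (2 : ℤ) := by
      rw [hB3]; abel
    rwa [hE7] at this
  obtain ⟨c, hc⟩ := FunFld.exists_algebraMap_eq_of_ell_eq_one hK
    (Finsupp.single_nonneg.mpr (by norm_num)) hB hprod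
  have hdivsum : FunFld.div k h + FunFld.div k u' = 0 := by
    rw [← FunFld.div_mul hK hh0 hu'0, hc, FunFld.div_algebraMap hK]
  have hX : 0 ≤ FunFld.div k h + (Finsupp.single B (3 : ℤ) - C) :=
    (FunFld.mem_L_iff_div hK hh0 _).mp hh
  have hY : 0 ≤ FunFld.div k u' + (C - Finsupp.single B (1 : ℤ)) :=
    (FunFld.mem_L_iff_div hK hu'0 _).mp hu'
  have hXY : (FunFld.div k h + (Finsupp.single B (3 : ℤ) - C)) +
      (FunFld.div k u' + (C - Finsupp.single B (1 : ℤ))) = Finsupp.single B (2 : ℤ) := by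
    have : (FunFld.div k h + (Finsupp.single B (3 : ℤ) - C)) +
        (FunFld.div k u' + (C - Finsupp.single B (1 : ℤ))) =
        (FunFld.div k h + FunFld.div k u') + Finsupp.single B (2 : ℤ) := by
      rw [hB3]; abel
    rw [this, hdivsum, zero_add]
  obtain ⟨R, -, hR⟩ := FunFld.exists_eq_single_of_deg_eq_one hK hY (by
    rw [FunFld.deg_add, FunFld.deg_div_eq_zero hK, FunFld.deg_sub, FunFld.deg_single, hdB, hdC]
    norm_num)
  have hRB : R = B := by
    by_contra hne
    have h8 := DFunLike.congr_fun hXY R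
    rw [Finsupp.add_apply, hR, FunFld.single_apply_self,
      FunFld.single_apply_ne (Ne.symm hne)] at h8
    have h10 : (0 : ℤ) ≤ (FunFld.div k h + (Finsupp.single B (3 : ℤ) - C)) R := hX R
    omega
  rw [hRB] at hR
  have hu'' : u' ∈ FunFld.L (C - Finsupp.single B (2 : ℤ)) := by
    apply (FunFld.mem_L_iff_div hK hu'0 _).mpr
    have : FunFld.div k u' + (C - Finsupp.single B (2 : ℤ)) =
        (FunFld.div k u' + (C - Finsupp.single B (1 : ℤ))) - Finsupp.single B (1 : ℤ) := by
      rw [hB2]; abel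
    rw [this, hR, sub_self]
  have hl9 := FunFld.ell_pos_of_mem hK hu'0 hu''
  have hrr9 := FunFld.riemann_roch hK C hC (Finsupp.single B (2 : ℤ))
  have hB' : FunFld.ell (Finsupp.single B (2 : ℤ) : FunFld.Divisor k K) = 1 := hB
  rw [FunFld.deg_single, hdB, hg, hB'] at hrr9
  push_cast at hrr9
  omega

end Groth.Agent.S17251
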