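import Groth.Statements.S17259
import Mathlib

set_option autoImplicit false
open CAlg

namespace Groth.Agent.S17259

/-- Let A, B, C be rings, f : B → A and g : B → C ring homomorphisms, and φ : A → B a homomorphism of
additive groups such that the sequence A → B → C → 0 (maps φ, g) is exact and f ∘ φ is
multiplication by a central element a of A which is not a zero divisor. Then the projection p : A →
A/(a) composed with f factors through g as a ring homomorphism q : C → A/(a), the homomorphism (f,
g) : B → A × C is injective, and its image is the fibre product of A and C over A/(a) along p and q;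
thus (f, g) is a ring isomorphism from B onto that fibre product. (The two-sidedness of the ideal
generated by a, automatic for a central element, is carried as an instance hypothesis.) -/
theorem result {A B C : Type*} [Ring A] [Ring B] [Ring C]
    (f : B →+* A) (g : B →+* C) (φ : A →+ B) (a : A)
    (hc : ∀ x : A, Commute a x) (ha : a ∈ nonZeroDivisors A)
    (hex : Function.Exact φ g) (hg : Function.Surjective g)
    (hφ : ∀ x : A, f (φ x) = a * x)
    [(Ideal.span ({a} : Set A)).IsTwoSided] :
    ∃ q : C →+* A ⧸ Ideal.span ({a} : Set A),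
      q.comp g = (Ideal.Quotient.mk (Ideal.span ({a} : Set A))).comp f ∧
      Function.Injective (f.prod g) ∧
      (f.prod g).range = (Ideal.Quotient.mk (Ideal.span ({a} : Set A))).pullback q := by
  classical
  have hker : RingHom.ker g ≤
      RingHom.ker ((Ideal.Quotient.mk (Ideal.span ({a} : Set A))).comp f) := by
    intro b hb
    rw [RingHom.mem_ker] at hb ⊢
    obtain ⟨x, rfl⟩ := (hex b).mp hb
    rw [RingHom.comp_apply, hφ, Ideal.Quotient.eq_zero_iff_mem, (hc x).eq]
    exact Ideal.mul_mem_left _ _ (Ideal.mem_span_singleton_self a)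
  have hq : (RingHom.liftOfSurjective g hg
      ⟨(Ideal.Quotient.mk (Ideal.span ({a} : Set A))).comp f, hker⟩).comp g
      = (Ideal.Quotient.mk (Ideal.span ({a} : Set A))).comp f :=
    RingHom.liftOfRightInverse_comp g _ _ _
  refine ⟨RingHom.liftOfSurjective g hg
      ⟨(Ideal.Quotient.mk (Ideal.span ({a} : Set A))).comp f, hker⟩, hq, ?_, ?_⟩
  · rw [injective_iff_map_eq_zero]
    intro b hb
    have h1 : f b = 0 := congrArg Prod.fst hb
    have h2 : g b = 0 := congrArg Prod.snd hb
    obtain ⟨x, rfl⟩ := (hex b).mp h2
    rw [hφ] at h1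
    have hx : x = 0 := (mem_nonZeroDivisors_iff.mp ha).1 x h1
    rw [hx, map_zero]
  · ext ⟨x, c⟩
    constructor
    · rintro ⟨b, hb⟩
      have h1 : f b = x := congrArg Prod.fst hb
      have h2 : g b = c := congrArg Prod.snd hb
      show Ideal.Quotient.mk (Ideal.span ({a} : Set A)) x = RingHom.liftOfSurjective g hg
        ⟨(Ideal.Quotient.mk (Ideal.span ({a} : Set A))).comp f, hker⟩ c
      rw [← h1, ← h2]
      exact (RingHom.congr_fun hq b).symm
    · intro hmem
      have hmem' : Ideal.Quotient.mk (Ideal.span ({a} : Set A)) x
          = RingHom.liftOfSurjective g hg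
            ⟨(Ideal.Quotient.mk (Ideal.span ({a} : Set A))).comp f, hker⟩ c := hmem
      obtain ⟨b, rfl⟩ := hg c
      have h3 := RingHom.congr_fun hq b
      rw [RingHom.comp_apply] at h3
      rw [h3, RingHom.comp_apply, Ideal.Quotient.eq, Ideal.mem_span_singleton'] at hmem'
      obtain ⟨y, hy⟩ := hmem'
      refine ⟨b + φ y, ?_⟩
      have h4 : g (φ y) = 0 := (hex (φ y)).mpr ⟨y, rfl⟩
      apply Prod.ext
      · show f (b + φ y) = x
        rw [map_add, hφ, (hc y).eq, hy]; abel
      · show g (b + φ y) = g b
        rw [map_add, h4, add_zero]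

end Groth.Agent.S17259
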