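import Groth.Statements.S17266
import Mathlib
-- import your own Groth.Agent.* helpers here

set_option autoImplicit false
open CategoryTheory

universe v u
open Stk

namespace Groth.Agent.S17266

/-- Let C be a category with a Grothendieck topology J and let F : 𝒳 → 𝒴, G : 𝒴 → 𝒵 be functors over C
between categories fibred in groupoids over C. Say that a functor H : 𝒜 → ℬ over C is covering when
for every object U of C and every functor b : C/U → ℬ over C there is a J-covering sieve of U such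
that for each of its arrows h : V → U the composite of C/V → C/U with b is 2-isomorphic over C to H
∘ a for some functor a : C/V → 𝒜 over C (locally on the base every object of ℬ lifts to 𝒜 up to
isomorphism). If F and G are covering, then the composite G ∘ F is covering. -/
theorem result {C : Type u} [Category.{v} C] (J : GrothendieckTopology C)
    {𝒳 𝒴 𝒵 : BasedCategory.{v, max u v} C}
    (h𝒳 : FibCat.IsFibGrpd 𝒳.p) (h𝒴 : FibCat.IsFibGrpd 𝒴.p) (h𝒵 : FibCat.IsFibGrpd 𝒵.p)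
    (F : 𝒳 ⥤ᵇ 𝒴) (G : 𝒴 ⥤ᵇ 𝒵)
    (hF : (∀ (U : C) (y : FibCat.overCat U ⥤ᵇ 𝒴), ∃ R ∈ J U, ∀ ⦃V : C⦄ (h : V ⟶ U), R.arrows h →
        ∃ x : FibCat.overCat V ⥤ᵇ 𝒳,
          Nonempty (BasedFunctor.comp x F ≅ BasedFunctor.comp (⟨Over.map h, Over.mapForget_eq h⟩ : FibCat.overCat V ⥤ᵇ FibCat.overCat U) y)))
    (hG : (∀ (U : C) (y : FibCat.overCat U ⥤ᵇ 𝒵), ∃ R ∈ J U, ∀ ⦃V : C⦄ (h : V ⟶ U), R.arrows h →
        ∃ x : FibCat.overCat V ⥤ᵇ 𝒴,
          Nonempty (BasedFunctor.comp x G ≅ BasedFunctor.comp (⟨Over.map h, Over.mapForget_eq h⟩ : FibCat.overCat V ⥤ᵇ FibCat.overCat U) y))) :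
    (∀ (U : C) (y : FibCat.overCat U ⥤ᵇ 𝒵), ∃ R ∈ J U, ∀ ⦃V : C⦄ (h : V ⟶ U), R.arrows h →
        ∃ x : FibCat.overCat V ⥤ᵇ 𝒳,
          Nonempty (BasedFunctor.comp x (BasedFunctor.comp F G) ≅ BasedFunctor.comp (⟨Over.map h, Over.mapForget_eq h⟩ : FibCat.overCat V ⥤ᵇ FibCat.overCat U) y)) := by
  classical
  intro U y
  obtain ⟨R, hR, hRx⟩ := hG U y
  choose x hx using hRx
  choose R' hR' hR'x using fun (V : C) (h : V ⟶ U) (hh : R.arrows h) => hF V (x h hh)
  refine ⟨Sieve.bind R.arrows (fun V h hh => R' V h hh),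
    J.bind_covering hR (fun V h hh => hR' V h hh), ?_⟩
  rintro W _ ⟨V, h', h, hh, hh', rfl⟩
  obtain ⟨x', ⟨e'⟩⟩ := hR'x V h hh h' hh'
  obtain ⟨e⟩ := hx h hh
  refine ⟨x', ⟨?_⟩⟩
  -- the comparison `Over.map (h' ≫ h) ≅ Over.map h' ⋙ Over.map h` as based functors
  let mh' : FibCat.overCat W ⥤ᵇ FibCat.overCat V := ⟨Over.map h', Over.mapForget_eq h'⟩
  let mh : FibCat.overCat V ⥤ᵇ FibCat.overCat U := ⟨Over.map h, Over.mapForget_eq h⟩
  let mhh : FibCat.overCat W ⥤ᵇ FibCat.overCat U :=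
    ⟨Over.map (h' ≫ h), Over.mapForget_eq (h' ≫ h)⟩
  have ec : BasedFunctor.comp mh' mh ≅ mhh :=
    BasedNatIso.mkNatIso (Over.mapComp h' h).symm (by
      intro a
      apply IsHomLift.of_fac _ _ _ rfl rfl
      simp [mh', mh, mhh, FibCat.overCat, BasedCategory.ofFunctor])
  -- assemble
  have e1 : BasedFunctor.comp (BasedFunctor.comp x' F) G ≅
      BasedFunctor.comp (BasedFunctor.comp mh' (x h hh)) G :=
    Bicategory.whiskerRightIso (B := BasedCategory.{v, max u v} C) e' G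
  have e2 : BasedFunctor.comp mh' (BasedFunctor.comp (x h hh) G) ≅
      BasedFunctor.comp mh' (BasedFunctor.comp mh y) :=
    Bicategory.whiskerLeftIso (B := BasedCategory.{v, max u v} C) mh' e
  have e3 : BasedFunctor.comp (BasedFunctor.comp mh' mh) y ≅ BasedFunctor.comp mhh y :=
    Bicategory.whiskerRightIso (B := BasedCategory.{v, max u v} C) ec y
  exact e1 ≪≫ e2 ≪≫ e3

end Groth.Agent.S17266
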