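import Groth.Statements.S17287
import Mathlib
import Groth.Agent.Lib.AffDim16_helper8
import Groth.Agent.Lib.CohDev6_helper8

set_option autoImplicit false
universe u
open CategoryTheory CategoryTheory.Limits AlgebraicGeometry TopologicalSpace
open Variety

namespace Groth.Agent.S17287

/-- Let f : Y → X be a surjective k-morphism of proper schemes over a field k and C ⊆ X an integral
closed subscheme of dimension one. Then there is an integral closed subscheme C' ⊆ Y of dimension
one with f(C') = C as closed subsets. (The source states this for proper algebraic spaces over k;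
this is the case of schemes.) -/
theorem result (k : Type u) [Field k] (X Y : Scheme.{u})
    [X.Over (Spec (CommRingCat.of k))] [IsProper (X ↘ (Spec (CommRingCat.of k)))] [Y.Over (Spec (CommRingCat.of k))] [IsProper (Y ↘ (Spec (CommRingCat.of k)))]
    (f : Y ⟶ X) (hf : f ≫ (X ↘ (Spec (CommRingCat.of k))) = Y ↘ (Spec (CommRingCat.of k))) [Surjective f]
    (C : X.IdealSheafData) [IsIntegral C.subscheme] (hC : topologicalKrullDim (C.support : Set X) = 1) :
    ∃ C' : Y.IdealSheafData, IsIntegral C'.subscheme ∧ topologicalKrullDim (C'.support : Set Y) = 1 ∧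
      f.base '' (C'.support : Set Y) = (C.support : Set X) := by
  haveI : LocallyOfFiniteType (f ≫ (X ↘ (Spec (CommRingCat.of k)))) := by rw [hf]; infer_instance
  haveI : LocallyOfFiniteType f := locallyOfFiniteType_of_comp f (X ↘ (Spec (CommRingCat.of k)))
  haveI : IsProper (f ≫ (X ↘ (Spec (CommRingCat.of k)))) := by rw [hf]; infer_instance
  haveI : IsProper f := IsProper.of_comp f (X ↘ (Spec (CommRingCat.of k)))
  -- the generic point of C
  have hirrC : IsIrreducible (C.support : Set X) := by
    rw [← Scheme.IdealSheafData.range_subschemeι, ← Set.image_univ]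
    exact (IrreducibleSpace.isIrreducible_univ _).image _ C.subschemeι.continuous.continuousOn
  obtain ⟨ξ, hξ⟩ := QuasiSober.sober hirrC C.support.isClosed
  have hξcl : closure ({ξ} : Set X) = (C.support : Set X) := hξ.def
  have hhtξ : Order.height ξ = 1 := by
    have h1 := Groth.Agent.ClosHtH8.topologicalKrullDim_closure_singleton X ξ
    rw [hξcl, hC] at h1
    exact_mod_cast h1.symm
  -- a point of height zero in the fibre
  obtain ⟨η₀, hη₀⟩ := ‹Surjective f›.surj ξ
  obtain ⟨z₀, -⟩ : η₀ ∈ Set.range (f.fiberι ξ) := by rw [Scheme.Hom.range_fiberι]; exact hη₀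
  haveI : Nonempty ↥(f.fiber ξ) := ⟨z₀⟩
  letI ovF : (f.fiber ξ).Over (Spec (CommRingCat.of (X.residueField ξ))) :=
    ⟨f.fiberToSpecResidueField ξ⟩
  haveI : LocallyOfFiniteType (f.fiber ξ ↘ Spec (CommRingCat.of (X.residueField ξ))) :=
    Groth.Agent.FibRes2H8.lft_fiber f ξ
  obtain ⟨z, hz⟩ : ∃ z : ↥(f.fiber ξ), Order.height z = 0 := by
    have hwf : WellFounded ((· < ·) : ℕ∞ → ℕ∞ → Prop) := wellFounded_lt
    let S : Set ℕ∞ := Set.range (fun z : ↥(f.fiber ξ) => Order.height z)
    have hS : S.Nonempty := ⟨_, ⟨z₀, rfl⟩⟩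
    obtain ⟨z, hzmin⟩ : ∃ z : ↥(f.fiber ξ), hwf.min S hS = Order.height z := by
      obtain ⟨z, hz⟩ := hwf.min_mem S hS
      exact ⟨z, hz.symm⟩
    refine ⟨z, ?_⟩
    by_contra hne
    rw [Order.height_eq_zero] at hne
    obtain ⟨z', hz'⟩ := not_isMin_iff.mp hne
    obtain ⟨n, -, hn⟩ := Groth.Agent.HtTrdegH8.height_eq_trdeg (X.residueField ξ) (f.fiber ξ) z
    have hlt : Order.height z' < Order.height z :=
      Order.height_strictMono hz' (lt_of_le_of_lt (Order.height_mono hz'.le)
        (by rw [hn]; exact ENat.natCast_lt_top n))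
    have hmem : Order.height z' ∈ S := ⟨z', rfl⟩
    have h9 : ¬ (Order.height z' < hwf.min S hS) := hwf.not_lt_min S hmem
    rw [hzmin] at h9
    exact h9 hlt
  set η := f.fiberι ξ z with hη
  have hfη : f η = ξ := Groth.Agent.FibRes2H8.fiberι_mem f ξ z
  have hhtη : Order.height η = 1 := by
    rw [hη, Groth.Agent.Lib.AffDimH8.height_fiberι k (X ↘ (Spec (CommRingCat.of k))) f ξ z, hhtξ, hz,
      add_zero]
  obtain ⟨hint, -⟩ := CohDevH8.exists_isIntegral_subscheme (closure ({η} : Set Y))
    isClosed_closure η rfl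
  refine ⟨Scheme.IdealSheafData.vanishingIdeal ⟨closure {η}, isClosed_closure⟩, hint, ?_, ?_⟩
  · rw [Scheme.IdealSheafData.coe_support_vanishingIdeal]
    change topologicalKrullDim ↥(closure ({η} : Set Y)) = 1
    rw [Groth.Agent.ClosHtH8.topologicalKrullDim_closure_singleton Y η, hhtη]
    rfl
  · rw [Scheme.IdealSheafData.coe_support_vanishingIdeal]
    change f.base '' closure ({η} : Set Y) = _
    rw [← hξcl]
    apply Set.Subset.antisymm
    · refine (image_closure_subset_closure_image f.continuous).trans ?_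
      rw [Set.image_singleton, hfη]
    · have hcl : IsClosed (f.base '' closure ({η} : Set Y)) :=
        f.isClosedMap _ isClosed_closure
      apply hcl.closure_subset_iff.mpr
      rw [Set.singleton_subset_iff]
      exact ⟨η, subset_closure rfl, hfη⟩

end Groth.Agent.S17287
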