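import Groth.Statements.S1729
import Mathlib
-- import your own Groth.Agent.* helpers here

set_option autoImplicit false
universe u
open Dual2


namespace Groth.Agent.S1729

/-- Over a local ring, every finite module M admits a projective cover: a surjection from a projective
module P onto M such that no proper submodule of P maps onto M. -/
theorem result (R : Type u) [CommRing R] [IsLocalRing R] (M : Type u) [AddCommGroup M] [Module R M] [Module.Finite R M] : ∃ (P : Type u) (_ : AddCommGroup P) (_ : Module R P) (f : P →ₗ[R] M), Dual2.IsProjectiveCover f := by
  classical
  let k := IsLocalRing.ResidueField R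
  let n := Module.finrank k (TensorProduct R k M)
  let b : Module.Basis (Fin n) k (TensorProduct R k M) := Module.finBasis k _
  have hsurj : Function.Surjective (TensorProduct.mk R k M 1) :=
    TensorProduct.mk_surjective R M k Ideal.Quotient.mk_surjective
  choose f' hf' using fun i => hsurj (b i)
  let f : (Fin n → R) →ₗ[R] M := Fintype.linearCombination R f'
  refine ⟨Fin n → R, inferInstance, inferInstance, f, ⟨inferInstance, ?_, ?_⟩⟩
  · rw [← LinearMap.range_eq_top, Fintype.range_linearCombination]
    exact IsLocalRing.span_eq_top_of_tmul_eq_basis f' b hf'
  · intro N hN
    rw [← IsLocalRing.map_tensorProduct_mk_eq_top]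
    let g : TensorProduct R k (Fin n → R) →ₗ[k] TensorProduct R k M := LinearMap.baseChange k f
    have hfs : Function.Surjective f := by
      rw [← LinearMap.range_eq_top, Fintype.range_linearCombination]
      exact IsLocalRing.span_eq_top_of_tmul_eq_basis f' b hf'
    have hg_surj : Function.Surjective g := LinearMap.lTensor_surjective k hfs
    have hg_inj : Function.Injective g := by
      refine (LinearMap.injective_iff_surjective_of_finrank_eq_finrank ?_).mpr hg_surj
      rw [Module.finrank_baseChange, Module.finrank_fin_fun]
    have hcomm : (g.restrictScalars R) ∘ₗ (TensorProduct.mk R k (Fin n → R) 1) =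
        (TensorProduct.mk R k M 1) ∘ₗ f := by
      ext x
      simp [g]
    apply Submodule.map_injective_of_injective (f := g.restrictScalars R) hg_inj
    rw [← Submodule.map_comp, hcomm, Submodule.map_comp, hN, Submodule.map_top, Submodule.map_top,
      LinearMap.range_eq_top.mpr hsurj]
    symm
    exact LinearMap.range_eq_top.mpr hg_surj

end Groth.Agent.S1729
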