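import Groth.Statements.S1730
import Mathlib
-- import your own Groth.Agent.* helpers here

set_option autoImplicit false
universe u
open Dual2


namespace Groth.Agent.S1730

/-- If f : P → M and f' : P' → M are two projective covers of an R-module M, then there is an
isomorphism P ≃ P' compatible with the maps to M. -/
theorem result (R : Type u) [CommRing R] (M P P' : Type u) [AddCommGroup M] [Module R M] [AddCommGroup P] [Module R P] [AddCommGroup P'] [Module R P'] (f : P →ₗ[R] M) (f' : P' →ₗ[R] M) (hf : Dual2.IsProjectiveCover f) (hf' : Dual2.IsProjectiveCover f') : ∃ e : P ≃ₗ[R] P', f' ∘ₗ e.toLinearMap = f := by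
  haveI := hf.projective
  haveI := hf'.projective
  -- lift f through f'
  obtain ⟨φ, hφ⟩ := Module.projective_lifting_property f' f hf'.surjective
  -- φ is surjective
  have hφs : Function.Surjective φ := by
    rw [← LinearMap.range_eq_top]
    apply hf'.essential
    rw [LinearMap.range_eq_map, ← Submodule.map_comp, hφ, Submodule.map_top,
      LinearMap.range_eq_top.mpr hf.surjective]
  -- split φ
  obtain ⟨s, hs⟩ := Module.projective_lifting_property φ LinearMap.id hφs
  have hss : Function.Surjective s := by
    rw [← LinearMap.range_eq_top]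
    apply hf.essential
    rw [LinearMap.range_eq_map, ← Submodule.map_comp, Submodule.map_top]
    have : f ∘ₗ s = f' := by
      rw [← hφ, LinearMap.comp_assoc, hs, LinearMap.comp_id]
    rw [this, LinearMap.range_eq_top.mpr hf'.surjective]
  have hφi : Function.Injective φ := by
    intro a b hab
    obtain ⟨a', rfl⟩ := hss a
    obtain ⟨b', rfl⟩ := hss b
    have ha : φ (s a') = a' := LinearMap.congr_fun hs a'
    have hb : φ (s b') = b' := LinearMap.congr_fun hs b'
    rw [ha, hb] at hab
    rw [hab]
  refine ⟨LinearEquiv.ofBijective φ ⟨hφi, hφs⟩, ?_⟩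
  ext x
  exact LinearMap.congr_fun hφ x

end Groth.Agent.S1730
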