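import Groth.Statements.S17306
import Mathlib
import Groth.Agent.Lib.CurveCM1_helper8
import Groth.Agent.Lib.FibStalkCM_helper5
import Groth.Agent.Lib.FibChain_helper8
import Groth.Agent.Lib.AlgSpEtale_helper7

set_option autoImplicit false
universe u
open CurvSt

namespace Groth.Agent.S17306

open CategoryTheory AlgebraicGeometry in
/-- Let X be a proper scheme of dimension at most 1 over a field k, and Spec k → S a point of the base.
The classifying object of X in the stack of curves over S lies in the Cohen–Macaulay open substack —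
by definition of that substack: the morphism of sheaves h_X → h_{Spec k} induced by X → Spec k is,
in every etale chart diagram, a morphism of schemes flat with Cohen–Macaulay fibre local rings at
every point — if and only if X is Cohen–Macaulay, i.e. all local rings of X are Cohen–Macaulay local
rings. -/
theorem result (S : Scheme.{u}) (k : Type u) [Field k] (t : Spec (CommRingCat.of k) ⟶ S)
    (X : Scheme.{u}) (p : X ⟶ Spec (CommRingCat.of k)) [IsProper p] (hdim : topologicalKrullDim ↥X ≤ 1) :
    AlgSp.LocP (fun _ _ g => ∀ x, MoreMor.IsCMAt g x) ((AlgSp.yon S).map (Over.homMk p rfl : Over.mk (p ≫ t) ⟶ Over.mk t)) ↔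
      ∀ x : ↥X, LocCoh.IsCohenMacaulayLocalRing (X.presheaf.stalk x) := by
  have hFk : ∀ y : Spec (CommRingCat.of k), IsField ((Spec (CommRingCat.of k)).presheaf.stalk y) :=
    Groth.Agent.Lib.CurveCMH8.isField_stalk_spec_field k
  constructor
  · intro h x
    have h1 := AlgSp.locP_yon_map h x
    exact (Groth.Agent.Lib.CurveCMH8.isCMAt_iff_of_isField p x (hFk _)).1 h1
  · intro hX U V a b h ha hb hcomm
    obtain ⟨a', rfl⟩ := (AlgSp.yon S).map_surjective a
    obtain ⟨b', rfl⟩ := (AlgSp.yon S).map_surjective b
    have ha' : Etale a'.left := (AlgSp.repWith_yon_map_iff @Etale a').1 ha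
    have hb' : Etale b'.left := (AlgSp.repWith_yon_map_iff @Etale b').1 hb
    rw [← Functor.map_comp, ← Functor.map_comp] at hcomm
    have hcomm' := (AlgSp.yon S).map_injective hcomm
    have hc : a'.left ≫ p = h.left ≫ b'.left := by
      have := congrArg (fun φ => φ.left) hcomm'
      simpa using this
    intro u
    haveI := ha'
    haveI := hb'
    haveI : LocallyQuasiFinite a'.left :=
      Groth.Agent.Lib.AlgSpEtale_helper7.locallyQuasiFinite_of_unramified a'.left
    -- `O_{U,u}` is Cohen–Macaulay
    have hpx : MoreMor.IsCMAt p (a'.left u) :=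
      (Groth.Agent.Lib.CurveCMH8.isCMAt_iff_of_isField p _ (hFk _)).2 (hX _)
    have hau : MoreMor.IsCMAt a'.left u :=
      Groth.Agent.Lib.CMMorH8.isCMAt_of_lqf a'.left u (Flat.stalkMap a'.left u)
    have hcomp : MoreMor.IsCMAt (a'.left ≫ p) u :=
      Groth.Agent.FibStalkCM.main9766 a'.left p u
        (Groth.Agent.FibChainH8.isLocallyNoetherian_fiber _ _) hau hpx
    have hU : LocCoh.IsCohenMacaulayLocalRing (U.left.presheaf.stalk u) :=
      (Groth.Agent.Lib.CurveCMH8.isCMAt_iff_of_isField (a'.left ≫ p) u (hFk _)).1 hcomp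
    have hVf : IsField (V.left.presheaf.stalk (h.left u)) :=
      Groth.Agent.Lib.CurveCMH8.isField_stalk_of_etale b'.left _ (hFk _)
    exact (Groth.Agent.Lib.CurveCMH8.isCMAt_iff_of_isField h.left u hVf).2 hU

end Groth.Agent.S17306
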