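import Groth.Statements.S17336
import Mathlib.Tactic
import Groth.Agent.Lib.FinAlgClosed_helper1

set_option autoImplicit false
universe u v
open CAlg

namespace Groth.Agent.S17336

/-- Two algebra maps from a function algebra `E → k` into a commutative ring which differ by
nilpotents agree. -/
theorem algHom_pi_eq_of_isNilpotent_sub {k : Type u} [Field k] {A : Type v} [CommRing A] [Algebra k A]
    {E : Type*} [Finite E] (s₁ s₂ : (E → k) →ₐ[k] A) (h : ∀ t, IsNilpotent (s₁ t - s₂ t)) :
    s₁ = s₂ := by
  classical
  have hlin : s₁.toLinearMap = s₂.toLinearMap := by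
    apply LinearMap.pi_ext
    intro f x
    have hx : (Pi.single f x : E → k) = x • Pi.single f (1 : k) := by
      funext g
      by_cases hg : g = f
      · subst hg; simp
      · simp [Pi.single_eq_of_ne hg]
    rw [hx, map_smul, map_smul]
    congr 1
    have hid : IsIdempotentElem (Pi.single f (1 : k) : E → k) := by
      show _ * _ = _
      rw [← Pi.single_mul, one_mul]
    exact eq_of_isNilpotent_sub_of_isIdempotentElem (hid.map s₁) (hid.map s₂) (h _)
  exact AlgHom.toLinearMap_injective hlin


/-- Let k be an algebraically closed field and A a commutative k-algebra which is finite-dimensional as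
a k-vector space (a finite scheme X = Spec A with largest reduced subscheme X_red = Spec
(A/nilradical A) and immersion i : X_red → X). Then there is a unique morphism r : X → X_red with r
∘ i = id; on rings: the projection A → A/nilradical(A) admits exactly one section that is a
k-algebra homomorphism. -/
theorem result (k : Type u) [Field k]
    [IsAlgClosed k] (A : Type v) [CommRing A] [Algebra k A] [Module.Finite k A] :
    ∃! s : (A ⧸ nilradical A) →ₐ[k] A,
      (Ideal.Quotient.mkₐ k (nilradical A)).comp s = AlgHom.id k (A ⧸ nilradical A) := by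
  obtain ⟨s₀, hs₀⟩ := Groth.Agent.Lib.FinAlgH1.exists_section k A
  have hker := Groth.Agent.Lib.FinAlgH1.ker_eval k A
  have hsurj := Groth.Agent.Lib.FinAlgH1.eval_surjective k A
  set ev := AlgHom.pi (R := k) (fun f : A →ₐ[k] k => f) with hev
  have hev0 : ∀ a ∈ nilradical A, ev a = 0 := by
    intro a ha
    rw [← hker] at ha
    exact ha
  have hmem : ∀ a b : A, ev a = ev b → a - b ∈ nilradical A := by
    intro a b hab
    rw [← hker, RingHom.mem_ker, map_sub]
    exact sub_eq_zero.mpr hab
  let evbar : (A ⧸ nilradical A) →ₐ[k] ((A →ₐ[k] k) → k) :=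
    Ideal.Quotient.liftₐ (nilradical A) ev hev0
  have hmk : ∀ a b : A, ev a = ev b →
      Ideal.Quotient.mkₐ k (nilradical A) a = Ideal.Quotient.mkₐ k (nilradical A) b := by
    intro a b hab
    exact Ideal.Quotient.eq.mpr (hmem a b hab)
  have hsec : (Ideal.Quotient.mkₐ k (nilradical A)).comp (s₀.comp evbar) =
      AlgHom.id k (A ⧸ nilradical A) := by
    ext x
    obtain ⟨a, rfl⟩ := Ideal.Quotient.mk_surjective x
    show Ideal.Quotient.mkₐ k (nilradical A) (s₀ (ev a)) = Ideal.Quotient.mkₐ k (nilradical A) a
    exact hmk _ _ (hs₀ (ev a))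
  refine ⟨s₀.comp evbar, hsec, ?_⟩
  intro s' hs'
  -- compare `s' ∘ mk ∘ s₀` and `s₀` as maps from `E → k`
  have h1 : (s'.comp ((Ideal.Quotient.mkₐ k (nilradical A)).comp s₀)) = s₀ := by
    apply algHom_pi_eq_of_isNilpotent_sub
    intro t
    rw [← mem_nilradical]
    apply hmem
    -- ev (s' (mk (s₀ t))) = ev (s₀ t): since mk (s' y) = y
    have h2 : Ideal.Quotient.mkₐ k (nilradical A) (s' (Ideal.Quotient.mkₐ k (nilradical A) (s₀ t)))
        = Ideal.Quotient.mkₐ k (nilradical A) (s₀ t) := AlgHom.congr_fun hs' _
    have h3 := congrArg evbar h2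
    exact h3
  ext x
  obtain ⟨a, rfl⟩ := Ideal.Quotient.mk_surjective x
  have h4 : Ideal.Quotient.mk (nilradical A) a =
      Ideal.Quotient.mkₐ k (nilradical A) (s₀ (ev a)) := (hmk _ _ (hs₀ (ev a))).symm
  show s' (Ideal.Quotient.mk (nilradical A) a) = s₀ (ev a)
  rw [h4]
  exact AlgHom.congr_fun h1 (ev a)

end Groth.Agent.S17336
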