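import Groth.Statements.S17323
import Mathlib.Tactic
import Groth.Agent.Lib.FinAlgClosed_helper1
import Groth.Agent.S17336

set_option autoImplicit false
universe u v
open CAlg

namespace Groth.Agent.S17323

/-- Let k be an algebraically closed field and A a commutative k-algebra which is finite-dimensional as
a k-vector space. Then A has a largest reduced subalgebra: a k-subalgebra B which is reduced and
contains every reduced k-subalgebra of A; moreover the composite of the inclusion B → A with the
projection A → A/nilradical(A) is bijective. -/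
theorem result (k : Type u) [Field k] [IsAlgClosed k]
    (A : Type v) [CommRing A] [Algebra k A] [Module.Finite k A] :
    ∃ B : Subalgebra k A, IsReduced ↥B ∧ (∀ C : Subalgebra k A, IsReduced ↥C → C ≤ B) ∧
      Function.Bijective ((Ideal.Quotient.mkₐ k (nilradical A)).comp B.val) := by
  obtain ⟨s₀, hs₀⟩ := Groth.Agent.Lib.FinAlgH1.exists_section k A
  have hker := Groth.Agent.Lib.FinAlgH1.ker_eval k A
  set ev := AlgHom.pi (R := k) (fun f : A →ₐ[k] k => f) with hev
  have hmem : ∀ a b : A, ev a = ev b → a - b ∈ nilradical A := by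
    intro a b hab
    rw [← hker, RingHom.mem_ker, map_sub]
    exact sub_eq_zero.mpr hab
  have hmem' : ∀ a b : A, a - b ∈ nilradical A → ev a = ev b := by
    intro a b hab
    rw [← hker, RingHom.mem_ker, map_sub] at hab
    exact sub_eq_zero.mp hab
  have hmk : ∀ a b : A, ev a = ev b →
      Ideal.Quotient.mkₐ k (nilradical A) a = Ideal.Quotient.mkₐ k (nilradical A) b := by
    intro a b hab
    exact Ideal.Quotient.eq.mpr (hmem a b hab)
  refine ⟨s₀.range, ?_, ?_, ?_, ?_⟩
  · -- reduced
    have hinj : Function.Injective (ev.comp s₀.range.val) := by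
      rintro ⟨x, t, rfl⟩ ⟨y, t', rfl⟩ hxy
      have : ev (s₀ t) = ev (s₀ t') := hxy
      rw [hs₀, hs₀] at this
      subst this
      rfl
    exact isReduced_of_injective (ev.comp s₀.range.val) hinj
  · -- maximality
    intro C hC c hc
    have hfin : Module.Finite k ↥C := Module.Finite.of_injective C.val.toLinearMap Subtype.val_injective
    obtain ⟨sC, hsC⟩ := Groth.Agent.Lib.FinAlgH1.exists_section k ↥C
    have hkerC := Groth.Agent.Lib.FinAlgH1.ker_eval k ↥C
    rw [nilradical_eq_zero] at hkerC
    have hinjC : Function.Injective (AlgHom.pi (R := k) (fun f : ↥C →ₐ[k] k => f)) := by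
      rw [← AlgHom.coe_toRingHom, RingHom.injective_iff_ker_eq_bot]
      exact hkerC
    have hc' : sC (AlgHom.pi (R := k) (fun f : ↥C →ₐ[k] k => f) ⟨c, hc⟩) = ⟨c, hc⟩ :=
      hinjC (hsC _)
    have hσ : C.val.comp sC = (s₀.comp (ev.comp (C.val.comp sC))) := by
      apply Groth.Agent.S17336.algHom_pi_eq_of_isNilpotent_sub
      intro t
      rw [← mem_nilradical]
      apply hmem
      show ev _ = ev (s₀ (ev _))
      rw [hs₀]
      rfl
    have : c = (C.val.comp sC) (AlgHom.pi (R := k) (fun f : ↥C →ₐ[k] k => f) ⟨c, hc⟩) := by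
      show c = C.val (sC _)
      rw [hc']; rfl
    rw [this, hσ]
    exact ⟨_, rfl⟩
  · -- injective
    rintro ⟨x, t, rfl⟩ ⟨y, t', rfl⟩ hxy
    have h1 : Ideal.Quotient.mk (nilradical A) (s₀ t) = Ideal.Quotient.mk (nilradical A) (s₀ t') := hxy
    have h2 := hmem' _ _ (Ideal.Quotient.eq.mp h1)
    rw [hs₀, hs₀] at h2
    subst h2
    rfl
  · -- surjective
    intro y
    obtain ⟨a, rfl⟩ := Ideal.Quotient.mk_surjective y
    refine ⟨⟨s₀ (ev a), ⟨_, rfl⟩⟩, ?_⟩
    exact hmk _ _ (hs₀ (ev a))

end Groth.Agent.S17323
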