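import Groth.Statements.S17324
import Mathlib.Tactic
import Groth.Agent.Lib.FinAlgClosed_helper1

set_option autoImplicit false
universe u v
open CAlg

namespace Groth.Agent.S17324

/-- (i) ⟺ (ii): let k be an algebraically closed field, A a commutative k-algebra which is
finite-dimensional as a k-vector space and is a local ring with maximal ideal m, and a_1, …, a_m ∈
m. Then A is generated as a k-algebra by a_1, …, a_m if and only if m is generated as an ideal by
a_1, …, a_m. (The printed lemma has a third equivalent condition, that the images of the a_i span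
m/m²; its equivalence with (ii) is Nakayama's lemma.) -/
theorem result (k : Type u) [Field k] [IsAlgClosed k]
    (A : Type v) [CommRing A] [Algebra k A] [Module.Finite k A] [IsLocalRing A]
    (m : ℕ) (a : Fin m → A) (ha : ∀ i, a i ∈ IsLocalRing.maximalIdeal A) :
    Algebra.adjoin k (Set.range a) = ⊤ ↔ Ideal.span (Set.range a) = IsLocalRing.maximalIdeal A := by
  classical
  set M := IsLocalRing.maximalIdeal A with hM
  set I := Ideal.span (Set.range a) with hI
  set B := Algebra.adjoin k (Set.range a) with hB
  have hIM : I ≤ M := Ideal.span_le.mpr (by rintro _ ⟨i, rfl⟩; exact ha i)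
  have haB : ∀ i, a i ∈ B := fun i => Algebra.subset_adjoin ⟨i, rfl⟩
  constructor
  · intro htop
    refine le_antisymm hIM ?_
    -- every element of B is a scalar modulo I
    have key : ∀ x ∈ B, ∃ c : k, x - algebraMap k A c ∈ I := by
      intro x hx
      induction hx using Algebra.adjoin_induction with
      | mem x hx => exact ⟨0, by rw [map_zero, sub_zero]; exact Ideal.subset_span hx⟩
      | algebraMap r => exact ⟨r, by rw [sub_self]; exact I.zero_mem⟩
      | add x y _ _ hx hy =>
        obtain ⟨c, hc⟩ := hx
        obtain ⟨c', hc'⟩ := hy
        refine ⟨c + c', ?_⟩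
        have : x + y - algebraMap k A (c + c') = (x - algebraMap k A c) + (y - algebraMap k A c') := by
          rw [map_add]; ring
        rw [this]; exact I.add_mem hc hc'
      | mul x y _ _ hx hy =>
        obtain ⟨c, hc⟩ := hx
        obtain ⟨c', hc'⟩ := hy
        refine ⟨c * c', ?_⟩
        have : x * y - algebraMap k A (c * c') =
            (x - algebraMap k A c) * y + algebraMap k A c * (y - algebraMap k A c') := by
          rw [map_mul]; ring
        rw [this]
        exact I.add_mem (I.mul_mem_right _ hc) (I.mul_mem_left _ hc')
    intro x hx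
    obtain ⟨c, hc⟩ := key x (by rw [htop]; trivial)
    have hcM : algebraMap k A c ∈ M := by
      have := M.sub_mem hx (hIM hc)
      simpa using this
    by_cases hc0 : c = 0
    · rw [hc0, map_zero, sub_zero] at hc; exact hc
    · exfalso
      have hu : IsUnit (algebraMap k A c) := (IsUnit.mk0 c hc0).map (algebraMap k A)
      exact (IsLocalRing.mem_maximalIdeal _).mp hcM hu
  · intro hspan
    have hArt : IsArtinianRing A := IsArtinianRing.of_finite k A
    -- approximate every element by elements of B modulo powers of M
    have key : ∀ n : ℕ, ∀ x : A, ∃ b ∈ B, x - b ∈ M ^ n := by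
      intro n
      induction n with
      | zero => intro x; exact ⟨0, B.zero_mem, by simp⟩
      | succ n ih =>
        intro x
        have hx1 := Groth.Agent.Lib.FinAlgH1.sub_chi_mem k A M x
        have hx2 : x - algebraMap k A (Groth.Agent.Lib.FinAlgH1.chi k A M x) ∈
            Ideal.span (Set.range a) := by
          have : M = Ideal.span (Set.range a) := hspan.symm
          exact this ▸ hx1
        rw [Ideal.mem_span_range_iff_exists_fun] at hx2
        obtain ⟨r, hr⟩ := hx2
        choose b hbB hb using fun i => ih (r i)
        refine ⟨algebraMap k A (Groth.Agent.Lib.FinAlgH1.chi k A M x) + ∑ i, b i * a i,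
          B.add_mem (B.algebraMap_mem _) (B.sum_mem fun i _ => B.mul_mem (hbB i) (haB i)), ?_⟩
        have : x - (algebraMap k A (Groth.Agent.Lib.FinAlgH1.chi k A M x) + ∑ i, b i * a i)
            = ∑ i, (r i - b i) * a i := by
          rw [← sub_sub, ← hr, ← Finset.sum_sub_distrib]
          refine Finset.sum_congr rfl fun i _ => ?_
          ring
        rw [this]
        refine Ideal.sum_mem _ fun i _ => ?_
        rw [pow_succ]
        exact Ideal.mul_mem_mul (hb i) (ha i)
    obtain ⟨n, hn⟩ : ∃ n : ℕ, M ^ n = ⊥ := by
      have h1 := IsArtinianRing.isNilpotent_jacobson_bot (R := A)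
      rw [IsLocalRing.jacobson_eq_maximalIdeal ⊥ bot_ne_top] at h1
      exact h1
    rw [eq_top_iff]
    intro x _
    obtain ⟨b, hbB, hb⟩ := key n x
    rw [hn, Ideal.mem_bot, sub_eq_zero] at hb
    rw [hb]; exact hbB

end Groth.Agent.S17324
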