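import Groth.Statements.S17326
import Mathlib.Tactic
import Groth.Agent.Lib.FinAlgClosed_helper1

set_option autoImplicit false
universe u v
open CAlg

namespace Groth.Agent.S17326

/-- Let k be an algebraically closed field of characteristic p > 0, A a commutative k-algebra which is
finite-dimensional as a k-vector space (a finite k-scheme X), and n ≥ 1. The n-th iterated relative
Frobenius morphism X → X^(p^n) is an isomorphism if and only if X is reduced; on rings: the map a ↦
a^(p^n) of A to itself (which is the ring homomorphism underlying the relative Frobenius, the twist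
A^(p^n) having the same underlying ring as A) is bijective if and only if A is reduced. -/
theorem result (k : Type u) [Field k] [IsAlgClosed k]
    (p : ℕ) [Fact p.Prime] [CharP k p] (A : Type v) [CommRing A] [Algebra k A] [Module.Finite k A]
    (n : ℕ) (hn : 1 ≤ n) :
    Function.Bijective (fun a : A => a ^ p ^ n) ↔ IsReduced A := by
  have hp : p.Prime := Fact.out
  have hpn : 1 < p ^ n := Nat.one_lt_pow (by omega) hp.one_lt
  constructor
  · intro h
    rw [isReduced_iff_pow_one_lt (p ^ n) hpn]
    intro x hx
    apply h.1
    show x ^ p ^ n = (0 : A) ^ p ^ n
    rw [hx, zero_pow (by omega)]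
  · intro hred
    -- evaluation isomorphism A ≃ (E → k)
    let ev := AlgHom.pi (R := k) (fun f : A →ₐ[k] k => f)
    have hev_surj : Function.Surjective ev := Groth.Agent.Lib.FinAlgH1.eval_surjective k A
    have hev_inj : Function.Injective ev := by
      rw [← AlgHom.coe_toRingHom, RingHom.injective_iff_ker_eq_bot]
      have := Groth.Agent.Lib.FinAlgH1.ker_eval k A
      rw [nilradical_eq_zero] at this
      exact this
    have hk_inj : ∀ x y : k, x ^ p ^ n = y ^ p ^ n → x = y := by
      intro x y hxy
      have : (x - y) ^ p ^ n = 0 := by rw [sub_pow_char_pow, hxy, sub_self]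
      exact sub_eq_zero.mp (pow_eq_zero_iff (by omega) |>.mp this)
    refine ⟨?_, ?_⟩
    · intro a b hab
      apply hev_inj
      funext f
      apply hk_inj
      have := congrArg (fun z => f z) hab
      simpa [ev] using this
    · intro b
      have : ∀ f : A →ₐ[k] k, ∃ c : k, c ^ p ^ n = f b := fun f =>
        IsAlgClosed.exists_pow_nat_eq (f b) (by omega)
      choose c hc using this
      obtain ⟨a, ha⟩ := hev_surj c
      refine ⟨a, ?_⟩
      apply hev_inj
      funext f
      show f (a ^ p ^ n) = f b
      rw [map_pow, ← hc f]
      congr 1
      exact congrFun ha f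

end Groth.Agent.S17326
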