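import Groth.Statements.S17327
import Groth.Agent.Lib.HopfKaehler_helper9

set_option autoImplicit false
universe u v
open Hopf

namespace Groth.Agent.S17327

/-- Let k be an algebraically closed field of characteristic p > 0, A a commutative Hopf algebra over k
which is finite-dimensional as a k-vector space (a finite group scheme G = Spec A), I the
augmentation ideal (kernel of the counit) and n ≥ 1. The n-th Frobenius kernel G_n is the closed
subgroup scheme cut out by the ideal generated by the p^n-th powers f^(p^n), f ∈ I; it is trivial,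
i.e. that ideal equals I, if and only if G is reduced. -/
theorem result (k : Type u) [Field k] [IsAlgClosed k]
    (p : ℕ) [Fact p.Prime] [CharP k p] (A : Type v) [CommRing A] [HopfAlgebra k A] [Module.Finite k A]
    (n : ℕ) (hn : 1 ≤ n) :
    Ideal.span ((fun f : A => f ^ p ^ n) '' (RingHom.ker (Bialgebra.counitAlgHom k A) : Set A)) =
      RingHom.ker (Bialgebra.counitAlgHom k A) ↔ IsReduced A := by
  have hp : p.Prime := Fact.out
  have hpn : 2 ≤ p ^ n := by
    calc 2 ≤ p := hp.two_le
      _ = p ^ 1 := (pow_one p).symm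
      _ ≤ p ^ n := Nat.pow_le_pow_right hp.pos hn
  set I : Ideal A := RingHom.ker (Bialgebra.counitAlgHom k A) with hI
  have hle : Ideal.span ((fun f : A => f ^ p ^ n) '' (I : Set A)) ≤ I := by
    rw [Ideal.span_le]
    rintro _ ⟨f, hf, rfl⟩
    exact Ideal.pow_mem_of_mem I hf _ (by omega)
  constructor
  · intro h
    have h2 : I ^ 2 = I := by
      apply le_antisymm (Ideal.pow_le_self two_ne_zero)
      have h3 : Ideal.span ((fun f : A => f ^ p ^ n) '' (I : Set A)) ≤ I ^ 2 := by
        rw [Ideal.span_le]
        rintro _ ⟨f, hf, rfl⟩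
        exact Ideal.pow_le_pow_right hpn (Ideal.pow_mem_pow hf _)
      exact le_trans (le_of_eq h.symm) h3
    have hs : Subsingleton (Ω[A⁄k]) := (HopfKaehler9.subsingleton_kaehler_iff_sq k A).mpr h2
    haveI : Algebra.FormallyUnramified k A := ⟨hs⟩
    exact Algebra.FormallyUnramified.isReduced_of_field k A
  · intro hred
    apply le_antisymm hle
    intro x hx
    haveI : IsArtinianRing A := isArtinian_of_tower k (inferInstance : IsArtinian k A)
    obtain ⟨m, y, hy⟩ := IsArtinian.exists_pow_succ_smul_dvd x (1 : A)
    rw [smul_eq_mul, smul_eq_mul, mul_one] at hy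
    have hnil : IsNilpotent (x * (1 - x * y)) := by
      refine ⟨m + 1, ?_⟩
      have hy' : x ^ (m + 1) * y = x ^ m := hy
      have h5 : x ^ m * (1 - x * y) = 0 := by
        have e : x ^ m * (1 - x * y) = x ^ m - x ^ (m + 1) * y := by ring
        rw [e, hy', sub_self]
      calc (x * (1 - x * y)) ^ (m + 1) = x ^ (m + 1) * (1 - x * y) ^ (m + 1) := mul_pow _ _ _
        _ = (x ^ m * (1 - x * y)) * (x * (1 - x * y) ^ m) := by ring
        _ = 0 := by rw [h5, zero_mul]
    have h0 : x * (1 - x * y) = 0 := hnil.eq_zero
    have hxy : x = x ^ 2 * y := by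
      have : x * (1 - x * y) = x - x ^ 2 * y := by ring
      rw [this, sub_eq_zero] at h0
      exact h0
    have hN : ∀ N : ℕ, x = x ^ (N + 1) * y ^ N := by
      intro N
      induction N with
      | zero => rw [zero_add, pow_one, pow_zero, mul_one]
      | succ N ih =>
        calc x = x ^ (N + 1) * y ^ N := ih
          _ = x ^ N * x * y ^ N := by rw [pow_succ]
          _ = x ^ N * (x ^ 2 * y) * y ^ N := by rw [← hxy]
          _ = x ^ (N + 1 + 1) * y ^ (N + 1) := by ring
    have h3 := hN (p ^ n - 1)
    have h4 : p ^ n - 1 + 1 = p ^ n := by omega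
    rw [h4] at h3
    rw [h3]
    exact Ideal.mul_mem_right _ _ (Ideal.subset_span ⟨x, hx, rfl⟩)

end Groth.Agent.S17327
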