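import Groth.Statements.S1733
import Groth.Agent.Lib.Indep_helper3
-- import your own Groth.Agent.* helpers here

set_option autoImplicit false
universe u
open LocCoh
open Groth.Agent.Lib.Indep_helper3

namespace Groth.Agent.S1733

/-- Let f_1, …, f_r and g be elements of a ring (r ≥ 1). If the family f_1, …, f_{r-1}, f_r g is
independent (every linear relation has coefficients in the ideal the family generates), then f_1, …,
f_r is independent. -/
theorem result (A : Type u) [CommRing A] (r : ℕ) (f : Fin (r + 1) → A) (g : A) (h : Dual2.Independent (Function.update f (Fin.last r) (f (Fin.last r) * g))) : Dual2.Independent f := by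
  exact independent_of_update_mul f (Fin.last r) g h

end Groth.Agent.S1733
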