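import Groth.Statements.S17332
import Mathlib.Tactic

set_option autoImplicit false
universe u v w
open CAlg

namespace Groth.Agent.S17332

/-- Let k be a field, E and F finite sets, and O(E), O(F) the k-algebras of k-valued functions with
pointwise operations. Then every k-algebra homomorphism u : O(F) → O(E) is pull-back along a unique
map φ : E → F, i.e. u(g) = g ∘ φ for all g. (In the source k is algebraically closed; the printed
argument only uses that k is a field.) -/
theorem result (k : Type u) [Field k] (E : Type v) [Finite E]
    (F : Type w) [Finite F] (u : (F → k) →ₐ[k] (E → k)) :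
    ∃! φ : E → F, ∀ g : F → k, u g = g ∘ φ := by
  classical
  have := Fintype.ofFinite F
  -- every character of `F → k` is evaluation at a point
  have key : ∀ χ : (F → k) →ₐ[k] k, ∃ y : F, ∀ g : F → k, χ g = g y := by
    intro χ
    have hsum : ∑ y : F, χ (Pi.single y (1 : k)) = 1 := by
      rw [← map_sum, Finset.univ_sum_single]
      exact map_one χ
    have : ∃ y : F, χ (Pi.single y (1 : k)) ≠ 0 := by
      by_contra h
      push Not at h
      rw [Finset.sum_eq_zero (fun y _ => h y)] at hsum
      exact zero_ne_one hsum
    obtain ⟨y, hy⟩ := this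
    refine ⟨y, fun g => ?_⟩
    have h1 : g * Pi.single y (1 : k) = g y • Pi.single y (1 : k) := by
      funext z
      by_cases hz : z = y
      · subst hz; simp
      · simp [Pi.single_eq_of_ne hz]
    have h2 := congrArg χ h1
    rw [map_mul, map_smul, smul_eq_mul] at h2
    exact mul_right_cancel₀ hy h2
  choose ψ hψ using key
  refine ⟨fun x => ψ ((Pi.evalAlgHom k (fun _ : E => k) x).comp u), ?_, ?_⟩
  · intro g
    funext x
    exact hψ ((Pi.evalAlgHom k (fun _ : E => k) x).comp u) g
  · intro φ' hφ'
    funext x
    have h1 := hψ ((Pi.evalAlgHom k (fun _ : E => k) x).comp u)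
      (Pi.single (ψ ((Pi.evalAlgHom k (fun _ : E => k) x).comp u)) (1 : k))
    have h2 : ((Pi.evalAlgHom k (fun _ : E => k) x).comp u)
        (Pi.single (ψ ((Pi.evalAlgHom k (fun _ : E => k) x).comp u)) (1 : k))
        = (Pi.single (ψ ((Pi.evalAlgHom k (fun _ : E => k) x).comp u)) (1 : k) : F → k) (φ' x) := by
      show u _ x = _
      rw [hφ']; rfl
    rw [h2, Pi.single_eq_same] at h1
    by_contra hne
    rw [Pi.single_eq_of_ne hne] at h1
    exact zero_ne_one h1

end Groth.Agent.S17332
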