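import Groth.Statements.S17333
import Mathlib.Tactic
import Mathlib.RingTheory.Derivation.Basic

set_option autoImplicit false
universe u v w
open CAlg

namespace Groth.Agent.S17333

/-- Let k be a field and A = B × C a decomposable commutative k-algebra. Then the natural map Der(B) ×
Der(C) → Der(A) is bijective: every k-derivation D : A → A is (b, c) ↦ (D₁ b, D₂ c) for a unique
pair of k-derivations D₁ : B → B, D₂ : C → C. Compatibility with brackets is not stated. (The
published statement takes k algebraically closed; this row takes any field.) -/
theorem result (k : Type u) [Field k] (B : Type v) [CommRing B] [Algebra k B]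
    (C : Type w) [CommRing C] [Algebra k C] (D : Derivation k (B × C) (B × C)) :
    ∃! P : Derivation k B B × Derivation k C C, ∀ (b : B) (c : C), D (b, c) = (P.1 b, P.2 c) := by
  -- the idempotent e = (1, 0) is killed by D
  have he : D ((1 : B), (0 : C)) = 0 := by
    have h1 : ((1 : B), (0 : C)) * ((1 : B), (0 : C)) = ((1 : B), (0 : C)) := by
      ext <;> simp
    have h2 := congrArg D h1
    rw [Derivation.leibniz] at h2
    -- e • De + e • De = De
    have h3 : ((1 : B), (0 : C)) • D ((1 : B), (0 : C)) = 0 := by
      have h4 := congrArg (fun x => ((1 : B), (0 : C)) • x) h2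
      simp only [smul_add, smul_smul, h1] at h4
      -- e•De + e•De = e•De
      have : ((1 : B), (0 : C)) • D ((1 : B), (0 : C)) + ((1 : B), (0 : C)) • D ((1 : B), (0 : C))
          = ((1 : B), (0 : C)) • D ((1 : B), (0 : C)) := h4
      exact add_eq_left.mp this
    rw [h3, add_zero] at h2
    exact h2.symm
  have he' : D ((0 : B), (1 : C)) = 0 := by
    have : ((0 : B), (1 : C)) = 1 - ((1 : B), (0 : C)) := by ext <;> simp
    rw [this, map_sub, he, sub_zero]
    exact D.map_one_eq_zero
  have hB : ∀ b : B, (D (b, 0)).2 = 0 := by
    intro b
    have h1 : ((b, 0) : B × C) = ((1 : B), (0 : C)) * (b, 0) := by ext <;> simp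
    have h2 := congrArg D h1
    rw [Derivation.leibniz, he, smul_zero, add_zero] at h2
    have := congrArg Prod.snd h2
    simpa using this
  have hC : ∀ c : C, (D (0, c)).1 = 0 := by
    intro c
    have h1 : ((0, c) : B × C) = ((0 : B), (1 : C)) * (0, c) := by ext <;> simp
    have h2 := congrArg D h1
    rw [Derivation.leibniz, he', smul_zero, add_zero] at h2
    have := congrArg Prod.fst h2
    simpa using this
  have hsplit : ∀ (b : B) (c : C), D (b, c) = ((D (b, 0)).1, (D (0, c)).2) := by
    intro b c
    have h1 : ((b, c) : B × C) = (b, 0) + (0, c) := by ext <;> simp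
    rw [h1, map_add]
    ext
    · simp [hC c]
    · simp [hB b]
  let D₁ : Derivation k B B :=
    { toFun := fun b => (D (b, 0)).1
      map_add' := fun b b' => by
        have : ((b + b', 0) : B × C) = (b, 0) + (b', 0) := by ext <;> simp
        rw [this, map_add]; rfl
      map_smul' := fun r b => by
        have : ((r • b, 0) : B × C) = r • (b, 0) := by ext <;> simp
        rw [this, Derivation.map_smul]; rfl
      map_one_eq_zero' := by
        show (D ((1 : B), (0 : C))).1 = 0
        rw [he]; rfl
      leibniz' := fun b b' => by
        show (D (b * b', 0)).1 = b • (D (b', 0)).1 + b' • (D (b, 0)).1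
        have : ((b * b', 0) : B × C) = (b, 0) * (b', 0) := by ext <;> simp
        rw [this, Derivation.leibniz]
        simp }
  let D₂ : Derivation k C C :=
    { toFun := fun c => (D (0, c)).2
      map_add' := fun c c' => by
        have : ((0, c + c') : B × C) = (0, c) + (0, c') := by ext <;> simp
        rw [this, map_add]; rfl
      map_smul' := fun r c => by
        have : ((0, r • c) : B × C) = r • (0, c) := by ext <;> simp
        rw [this, Derivation.map_smul]; rfl
      map_one_eq_zero' := by
        show (D ((0 : B), (1 : C))).2 = 0
        rw [he']; rfl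
      leibniz' := fun c c' => by
        show (D (0, c * c')).2 = c • (D (0, c')).2 + c' • (D (0, c)).2
        have : ((0, c * c') : B × C) = (0, c) * (0, c') := by ext <;> simp
        rw [this, Derivation.leibniz]
        simp }
  refine ⟨(D₁, D₂), fun b c => hsplit b c, ?_⟩
  rintro ⟨P₁, P₂⟩ hP
  ext x
  · show P₁ x = (D (x, 0)).1
    rw [hP x 0]
  · show P₂ x = (D (0, x)).2
    rw [hP 0 x]

end Groth.Agent.S17333
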