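import Groth.Statements.S17334
import Mathlib.Tactic
import Mathlib.RingTheory.Artinian.Module
import Mathlib.RingTheory.LocalRing.Basic

set_option autoImplicit false
universe u v
open CAlg

namespace Groth.Agent.S17334

/-- Let k be a field and A a nonzero commutative k-algebra which is finite-dimensional as a k-vector
space. Then A is indecomposable (no decomposition as a product of two nonzero rings, i.e. no
idempotent other than 0 and 1) if and only if A is a local ring. (In the source k is algebraically
closed and the lemma adds that the maximal ideal is then the nilradical, is nilpotent, and has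
residue field k; the equivalence itself uses only that k is a field, and the zero algebra is
excluded here explicitly.) -/
theorem result (k : Type u) [Field k]
    (A : Type v) [CommRing A] [Algebra k A] [Module.Finite k A] [Nontrivial A] :
    (∀ e : A, IsIdempotentElem e → e = 0 ∨ e = 1) ↔ IsLocalRing A := by
  have hArt : IsArtinianRing A := IsArtinianRing.of_finite k A
  constructor
  · intro h
    apply IsLocalRing.of_isUnit_or_isUnit_one_sub_self
    intro a
    obtain ⟨n, y, hy⟩ := IsArtinian.exists_pow_succ_smul_dvd a (1 : A)
    simp only [smul_eq_mul, mul_one, Nat.succ_eq_add_one] at hy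
    -- a^(n+m) y^m = a^n
    have hm : ∀ m : ℕ, a ^ (n + m) * y ^ m = a ^ n := by
      intro m
      induction m with
      | zero => simp
      | succ m ih =>
        calc a ^ (n + (m + 1)) * y ^ (m + 1) = (a ^ (n + 1) * y) * (a ^ m * y ^ m) := by ring
          _ = a ^ n * (a ^ m * y ^ m) := by rw [hy]
          _ = a ^ (n + m) * y ^ m := by ring
          _ = a ^ n := ih
    set e : A := a ^ (n + 1) * y ^ (n + 1) with he
    have hen : e * a ^ n = a ^ n := by
      rw [he]
      calc a ^ (n + 1) * y ^ (n + 1) * a ^ n = a ^ (n + (n + 1)) * y ^ (n + 1) := by ring
        _ = a ^ n := hm (n + 1)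
    have hidem : IsIdempotentElem e := by
      show e * e = e
      calc e * e = e * (a ^ (n + 1) * y ^ (n + 1)) := by rw [← he]
        _ = (e * a ^ n) * (a * y ^ (n + 1)) := by ring
        _ = a ^ n * (a * y ^ (n + 1)) := by rw [hen]
        _ = e := by rw [he]; ring
    rcases h e hidem with h0 | h1
    · right
      have : a ^ n = 0 := by rw [← hen, h0, zero_mul]
      exact IsNilpotent.isUnit_one_sub ⟨n, this⟩
    · left
      refine IsUnit.of_mul_eq_one (a ^ n * y ^ (n + 1)) ?_
      rw [← h1, he]; ring
  · intro hloc e he
    have h0 : e * (1 - e) = 0 := by rw [mul_sub, mul_one, he.eq, sub_self]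
    rcases IsLocalRing.isUnit_or_isUnit_one_sub_self e with h | h
    · right
      have := h.mul_right_eq_zero.mp h0
      exact (sub_eq_zero.mp this).symm
    · left
      exact h.mul_left_eq_zero.mp h0

end Groth.Agent.S17334
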