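import Groth.Statements.S1735
import Groth.Agent.Lib.Chevalley_helper3
-- import your own Groth.Agent.* helpers here

set_option autoImplicit false
universe u
open LocCoh
set_option maxSynthPendingDepth 3

namespace Groth.Agent.S1735

/-- Let A be a complete Noetherian local domain and p a prime ideal with dim(A/p) = 1. For every n ≥ 1
there is m ≥ n such that the m-th symbolic power of p (the contraction of p^m A_p to A) is contained
in p^n. -/
theorem result (A : Type u) [CommRing A] [IsDomain A] [IsLocalRing A] [IsNoetherianRing A] [IsAdicComplete (IsLocalRing.maximalIdeal A) A] (p : Ideal A) [p.IsPrime] (hp : ringKrullDim (A ⧸ p) = 1) (n : ℕ) (hn : 1 ≤ n) : ∃ m : ℕ, n ≤ m ∧ ((Ideal.map (algebraMap A (Localization.AtPrime p)) p) ^ m).comap (algebraMap A (Localization.AtPrime p)) ≤ p ^ n := by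
  classical
  set 𝔪 := IsLocalRing.maximalIdeal A with h𝔪
  set L := Localization.AtPrime p with hL
  set P : Ideal L := Ideal.map (algebraMap A L) p with hP
  let S : ℕ → Ideal A := fun m => (P ^ m).comap (algebraMap A L)
  have hSanti : Antitone S := fun a b hab => Ideal.comap_mono (Ideal.pow_le_pow_right hab)
  have hPmax : P = IsLocalRing.maximalIdeal L := Localization.AtPrime.map_eq_maximalIdeal
  have hinj : Function.Injective (algebraMap A L) :=
    IsLocalization.injective L p.primeCompl_le_nonZeroDivisors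
  have hSinf : ⨅ s, S s = ⊥ := by
    have h1 : ⨅ i : ℕ, P ^ i = ⊥ := by
      apply Ideal.iInf_pow_eq_bot_of_isLocalRing
      rw [hPmax]
      exact Ideal.IsPrime.ne_top'
    show ⨅ s, (P ^ s).comap (algebraMap A L) = ⊥
    rw [← Ideal.comap_iInf, h1]
    exact Ideal.comap_bot_of_injective _ hinj
  have hpS : ∀ m, p ^ m ≤ S m := fun m => by
    show p ^ m ≤ (P ^ m).comap (algebraMap A L)
    rw [← Ideal.map_le_iff_le_comap, Ideal.map_pow]
  -- a single denominator
  have hden : ∃ s : A, s ∉ p ∧ ∀ x ∈ S n, s * x ∈ p ^ n := by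
    obtain ⟨T, hT⟩ := (IsNoetherian.noetherian (S n) : (S n).FG)
    have hx : ∀ x ∈ S n, ∃ s : A, s ∉ p ∧ s * x ∈ p ^ n := by
      intro x hx
      have h1 : algebraMap A L x ∈ (p ^ n).map (algebraMap A L) := by
        rw [Ideal.map_pow]
        exact hx
      rw [IsLocalization.mem_map_algebraMap_iff p.primeCompl] at h1
      obtain ⟨⟨a, s⟩, h2⟩ := h1
      rw [← map_mul] at h2
      have h3 := hinj h2
      refine ⟨s, s.2, ?_⟩
      rw [mul_comm, h3]
      exact a.2
    choose! f hf1 hf2 using hx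
    refine ⟨∏ t ∈ T, f t, ?_, ?_⟩
    · intro h
      obtain ⟨t, ht, htp⟩ := (Ideal.IsPrime.prod_mem_iff).1 h
      have htS : t ∈ S n := by
        rw [← hT]
        exact Ideal.subset_span ht
      exact hf1 t htS htp
    · intro x hx
      rw [← hT] at hx
      refine Submodule.span_induction (p := fun x _ => (∏ t ∈ T, f t) * x ∈ p ^ n)
        ?_ ?_ ?_ ?_ hx
      · intro t ht
        have htS : t ∈ S n := by
          rw [← hT]
          exact Ideal.subset_span ht
        rw [← Finset.mul_prod_erase T f ht, mul_comm (f t), mul_assoc]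
        exact Ideal.mul_mem_left _ _ (hf2 t htS)
      · rw [mul_zero]
        exact Ideal.zero_mem _
      · intro x y _ _ hx hy
        rw [mul_add]
        exact Ideal.add_mem _ hx hy
      · intro a x _ hx
        rw [smul_eq_mul, mul_left_comm]
        exact Ideal.mul_mem_left _ _ hx
  obtain ⟨s, hsp, hsS⟩ := hden
  -- `𝔪 ≤ rad (p^n + (s))`
  have hrad : 𝔪 ≤ (p ^ n ⊔ Ideal.span {s}).radical := by
    rw [Ideal.radical_eq_sInf]
    refine le_sInf ?_
    rintro q ⟨hq, hqprime⟩
    haveI := hqprime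
    have hpq : p ≤ q := hqprime.le_of_pow_le (le_sup_left.trans hq)
    have hsq : s ∈ q := hq (Ideal.mem_sup_right (Ideal.mem_span_singleton_self s))
    have hpq' : p < q := lt_of_le_of_ne hpq (fun h => hsp (h ▸ hsq))
    by_contra hq𝔪
    have hq𝔪' : q < 𝔪 :=
      lt_of_le_of_ne (IsLocalRing.le_maximalIdeal hqprime.ne_top) (fun h => hq𝔪 (h ▸ le_refl _))
    have h2 : (2 : WithBot ℕ∞) ≤ ringKrullDim (A ⧸ p) := by
      rw [ringKrullDim_quotient]
      let x0 : PrimeSpectrum.zeroLocus (p : Set A) := ⟨⟨p, inferInstance⟩, by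
        rw [PrimeSpectrum.mem_zeroLocus]⟩
      let x1 : PrimeSpectrum.zeroLocus (p : Set A) := ⟨⟨q, hqprime⟩, by
        rw [PrimeSpectrum.mem_zeroLocus]; exact hpq⟩
      let x2 : PrimeSpectrum.zeroLocus (p : Set A) := ⟨⟨𝔪, inferInstance⟩, by
        rw [PrimeSpectrum.mem_zeroLocus]; exact hpq.trans hq𝔪'.le⟩
      have h01 : x0 < x1 := hpq'
      have h12 : x1 < x2 := hq𝔪'
      have hmono : StrictMono ![x0, x1, x2] := by
        rw [Fin.strictMono_iff_lt_succ]
        intro i
        fin_cases i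
        · exact h01
        · exact h12
      have := Order.le_krullDim_iff.2 ⟨LTSeries.mk 2 ![x0, x1, x2] hmono, rfl⟩
      exact_mod_cast this
    rw [hp] at h2
    exact absurd h2 (by decide)
  obtain ⟨N, hN⟩ := Ideal.exists_pow_le_of_le_radical_of_fg hrad (IsNoetherian.noetherian 𝔪)
  have hNS : 𝔪 ^ N * S n ≤ p ^ n := by
    rw [Ideal.mul_le]
    intro a ha x hx
    obtain ⟨b, hb, c, hc, rfl⟩ := Submodule.mem_sup.1 (hN ha)
    obtain ⟨d, rfl⟩ := Ideal.mem_span_singleton'.1 hc
    rw [add_mul]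
    refine Ideal.add_mem _ (Ideal.mul_mem_right _ _ hb) ?_
    rw [mul_assoc]
    exact Ideal.mul_mem_left _ _ (hsS x hx)
  -- Artin–Rees
  obtain ⟨c, hc⟩ := Ideal.exists_pow_inf_eq_pow_smul 𝔪 (S n : Submodule A A)
  obtain ⟨t, ht⟩ := Groth.Agent.Lib.Chevalley_helper3.chevalley S hSanti hSinf (N + c)
  refine ⟨max t n, le_max_right _ _, ?_⟩
  intro x hx
  have hx1 : x ∈ S t := hSanti (le_max_left t n) hx
  have hx2 : x ∈ S n := hSanti (le_max_right t n) hx
  have hx3 : x ∈ (𝔪 ^ (N + c) • ⊤ ⊓ (S n : Submodule A A) : Submodule A A) := by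
    refine ⟨?_, hx2⟩
    rw [smul_eq_mul, Ideal.mul_top]
    exact ht hx1
  rw [hc (N + c) (Nat.le_add_left c N), Nat.add_sub_cancel] at hx3
  apply hNS
  have hle : (𝔪 ^ N • (𝔪 ^ c • ⊤ ⊓ (S n : Submodule A A)) : Submodule A A) ≤ 𝔪 ^ N * S n := by
    rw [← smul_eq_mul]
    exact Submodule.smul_mono le_rfl inf_le_right
  exact hle hx3

end Groth.Agent.S1735
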