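import Groth.Statements.S1737
import Groth.Agent.Lib.TorsT_helper3
-- import your own Groth.Agent.* helpers here

set_option autoImplicit false
universe u
open LocCoh
open Groth.Agent.Lib.TorsT_helper3

namespace Groth.Agent.S1737

/-- Let A be a Noetherian ring, T ⊆ Spec A stable under specialization and M a finite A-module. There
are a finite A-module M' and a surjection M → M' which is bijective after localizing at every prime
outside T and such that M'_p has depth ≥ 1 over A_p for every p in T. (The source states this for
coherent modules on a Noetherian scheme, with uniqueness.) -/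
theorem result (A : Type u) [CommRing A] [IsNoetherianRing A] (T : Set (PrimeSpectrum A)) (hT : StableUnderSpecialization T) (M : Type u) [AddCommGroup M] [Module A M] [Module.Finite A M] : ∃ (M' : Type u) (_ : AddCommGroup M') (_ : Module A M') (_ : Module.Finite A M') (f : M →ₗ[A] M'), Function.Surjective f ∧ (∀ p : PrimeSpectrum A, p ∉ T → Function.Bijective (LocalizedModule.map p.asIdeal.primeCompl f)) ∧ ∀ p : PrimeSpectrum A, p ∈ T → 1 ≤ LocCoh.depth (Localization.AtPrime p.asIdeal) (LocalizedModule p.asIdeal.primeCompl M') := by
  refine ⟨M ⧸ torsT T M, inferInstance, inferInstance, inferInstance, (torsT T M).mkQ,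
    Submodule.mkQ_surjective _, ?_, ?_⟩
  · intro p hp
    refine ⟨?_, LocalizedModule.map_surjective _ _ (Submodule.mkQ_surjective _)⟩
    rw [injective_iff_map_eq_zero]
    intro x hx
    induction x using LocalizedModule.induction_on with | _ m s
    rw [LocalizedModule.map_mk, ← LocalizedModule.zero_mk 1, LocalizedModule.mk_eq] at hx
    obtain ⟨u, hu⟩ := hx
    rw [one_smul, smul_zero, smul_zero] at hu
    have h1 : (u : A) • m ∈ torsT T M := by
      rw [← Submodule.Quotient.mk_eq_zero, Submodule.Quotient.mk_smul]
      exact hu
    obtain ⟨t, ht, htm⟩ := h1 p hp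
    rw [← LocalizedModule.zero_mk 1, LocalizedModule.mk_eq]
    refine ⟨⟨t, ht⟩ * u, ?_⟩
    rw [one_smul, smul_zero, smul_zero, mul_smul]
    exact htm
  · intro p hp
    apply one_le_depth_of_not_mem_ass
    intro hass
    have h1 := Module.associatedPrimes.comap_mem_associatedPrimes_of_mem_associatedPrimes_of_isLocalizedModule_of_fg
      p.asIdeal.primeCompl (LocalizedModule.mkLinearMap p.asIdeal.primeCompl (M ⧸ torsT T M))
      (IsLocalRing.maximalIdeal (Localization.AtPrime p.asIdeal)) hass
      ((isNoetherianRing_iff_ideal_fg A).mp inferInstance _)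
    have hcm : Ideal.comap (algebraMap A (Localization.AtPrime p.asIdeal))
        (IsLocalRing.maximalIdeal (Localization.AtPrime p.asIdeal)) = p.asIdeal :=
      Localization.AtPrime.comap_maximalIdeal
    rw [hcm] at h1
    obtain ⟨_, y, hy⟩ := (isAssociatedPrime_iff).mp h1
    have hy0 : y = 0 := eq_zero_of_prime_smul_eq_zero hT p hp y (fun a ha => by
      rw [hy, Submodule.mem_colon_singleton] at ha
      simpa using ha)
    rw [hy0] at hy
    have htop : p.asIdeal = ⊤ := by
      rw [hy]; ext a; simp [Submodule.mem_colon_singleton]
    exact p.2.ne_top htop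

end Groth.Agent.S1737
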