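import Groth.Statements.S17386
import Groth.Agent.Lib.Cart4_helper8

set_option autoImplicit false
universe u
open BlowUp

namespace Groth.Agent.S17386

open AlgebraicGeometry CategoryTheory Limits in
/-- Let X be any scheme, J_1, …, J_n quasi-coherent ideals on X with closed subschemes Y_i, and b : X' →
X a blowing up of X in the ideal J_1 + ⋯ + J_n of the intersection of the Y_i. For each i let b_i' :
Y_i' → Y_i be a blowing up of Y_i in the inverse image of J_1 + ⋯ + J_n and k_i : Y_i' → X' the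
morphism with k_i ≫ b = b_i' ≫ (Y_i → X), so that the image of k_i is the strict transform of Y_i.
Then the strict transforms have empty common intersection: no point of X' lies in the image of every
k_i. -/
theorem result
    {X X' : Scheme.{u}} {n : ℕ} (𝓙 : Fin n → X.IdealSheafData) (b : X' ⟶ X)
    (hb : BlowUp.IsBlowUp b (⨆ i, 𝓙 i))
    (Y' : Fin n → Scheme.{u}) (b' : ∀ i, Y' i ⟶ (𝓙 i).subscheme)
    (hb' : ∀ i, BlowUp.IsBlowUp (b' i) ((⨆ j, 𝓙 j).comap (𝓙 i).subschemeι))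
    (k : ∀ i, Y' i ⟶ X') (hk : ∀ i, k i ≫ b = b' i ≫ (𝓙 i).subschemeι) :
    (⋂ i, Set.range (fun y => k i y)) = (∅ : Set X') := by
  rw [Set.eq_empty_iff_forall_notMem]
  intro x hx
  rw [Set.mem_iInter] at hx
  obtain ⟨V, hxV, f, hf0, hf⟩ := hb.1 x
  have hsup : (⨆ i, 𝓙 i).comap b = ⨆ i, (𝓙 i).comap b :=
    (Scheme.IdealSheafData.map_gc b).l_iSup
  have hideal : ((⨆ i, 𝓙 i).comap b).ideal V = ⨆ i, ((𝓙 i).comap b).ideal V := by
    rw [hsup, Scheme.IdealSheafData.ideal_iSup, iSup_apply]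
  have hfmem : f ∈ ⨆ i, ((𝓙 i).comap b).ideal V := by
    rw [← hideal, hf]
    exact Ideal.mem_span_singleton_self f
  rw [Submodule.mem_iSup_iff_exists_finsupp] at hfmem
  obtain ⟨a, ha, hsum⟩ := hfmem
  have hle : ∀ i, ((𝓙 i).comap b).ideal V ≤ Ideal.span {f} := by
    intro i
    rw [← hf, hideal]
    exact le_iSup (fun i => ((𝓙 i).comap b).ideal V) i
  have hc : ∀ i, ∃ c, c * f = a i := fun i => Ideal.mem_span_singleton'.mp (hle i (ha i))
  choose c hc using hc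
  have hone : ∑ i, c i = 1 := by
    have h1 : (∑ i, c i) * f = f := by
      rw [Finset.sum_mul]
      rw [Finsupp.sum_fintype _ _ (fun _ => rfl)] at hsum
      calc ∑ i, c i * f = ∑ i, a i := Finset.sum_congr rfl (fun i _ => hc i)
        _ = f := hsum
    have h2 : (∑ i, c i - 1) * f = 0 := by rw [sub_mul, h1, one_mul, sub_self]
    exact sub_eq_zero.mp ((mem_nonZeroDivisors_iff_right.mp hf0) _ h2)
  have hex : ∃ i, x ∈ X'.basicOpen (c i) := by
    by_contra hcon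
    push Not at hcon
    have h1 : ∀ i, (X'.presheaf.germ V.1 x hxV).hom (c i) ∈
        IsLocalRing.maximalIdeal (X'.presheaf.stalk x) := by
      intro i
      rw [IsLocalRing.mem_maximalIdeal, mem_nonunits_iff]
      intro hu
      exact hcon i ((Scheme.mem_basicOpen _ _ _ hxV).mpr hu)
    have h2 : (X'.presheaf.germ V.1 x hxV).hom (∑ i, c i) ∈
        IsLocalRing.maximalIdeal (X'.presheaf.stalk x) := by
      rw [map_sum]
      exact Ideal.sum_mem _ (fun i _ => h1 i)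
    rw [hone, map_one] at h2
    exact (Ideal.ne_top_iff_one _).mp (IsLocalRing.maximalIdeal.isMaximal _).ne_top h2
  obtain ⟨i, hxi⟩ := hex
  obtain ⟨y, hy⟩ := hx i
  have hy' : k i y = x := hy
  have hE : BlowUp.IsEffCartierIdeal (((⨆ j, 𝓙 j).comap b).comap (k i)) := by
    rw [← Scheme.IdealSheafData.comap_comp, hk i, Scheme.IdealSheafData.comap_comp]
    exact (hb' i).1
  obtain ⟨V₀, hyV₀, g, hg0, hg⟩ := hE y
  obtain ⟨_, ⟨V', hV' : IsAffineOpen V', rfl⟩, hyV', hV'le⟩ :=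
    ((Y' i).isBasis_affineOpens).exists_subset_of_mem_open
      (show y ∈ ((V₀.1 ⊓ (k i) ⁻¹ᵁ V.1 : (Y' i).Opens) : Set _) from
        ⟨hyV₀, by show k i y ∈ V.1; rw [hy']; exact hxV⟩)
      (V₀.1 ⊓ (k i) ⁻¹ᵁ V.1).2
  have hV'V₀ : V' ≤ V₀.1 := fun z hz => (hV'le hz).1
  have hV'V : V' ≤ (k i) ⁻¹ᵁ V.1 := fun z hz => (hV'le hz).2
  obtain ⟨hg0', hg'⟩ := CartH8.cartier_restrict _ V₀ ⟨V', hV'⟩ hV'V₀ g hg0 hg
  obtain ⟨ψ, hψ⟩ : ∃ ψ : Γ(X', V.1) →+* Γ(Y' i, V'), ψ = ((k i).appLE V.1 V' hV'V).hom := ⟨_, rfl⟩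
  have hEid : (((⨆ j, 𝓙 j).comap b).comap (k i)).ideal ⟨V', hV'⟩ = Ideal.span {ψ f} := by
    rw [ComapIdH8.comap_ideal (k i) ((⨆ j, 𝓙 j).comap b) ⟨V', hV'⟩ V hV'V, hf, Ideal.map_span,
      Set.image_singleton, hψ]
  have hbot0 : (𝓙 i).comap (𝓙 i).subschemeι = ⊥ := by
    rw [eq_bot_iff]
    apply Scheme.IdealSheafData.le_map_iff_comap_le.mp
    rw [Scheme.IdealSheafData.map_bot, Scheme.IdealSheafData.ker_subschemeι]
  have hbot : ((𝓙 i).comap b).comap (k i) = ⊥ := by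
    rw [← Scheme.IdealSheafData.comap_comp, hk i, Scheme.IdealSheafData.comap_comp, hbot0,
      Scheme.IdealSheafData.comap_bot]
  have hai : ψ (a i) = 0 := by
    have h1 : ψ (a i) ∈ (((𝓙 i).comap b).comap (k i)).ideal ⟨V', hV'⟩ := by
      rw [ComapIdH8.comap_ideal (k i) ((𝓙 i).comap b) ⟨V', hV'⟩ V hV'V, hψ]
      exact Ideal.mem_map_of_mem _ (ha i)
    rw [hbot] at h1
    exact h1
  have hmul : ψ (c i) * ψ f = 0 := by rw [← map_mul, hc i, hai]
  have hψf : ∀ t, t * ψ f = 0 → t = 0 := by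
    intro t ht
    have h1 : QcqsLoc.rX hV'V₀ g ∈ Ideal.span {ψ f} := by
      rw [← hEid, hg']
      exact Ideal.mem_span_singleton_self _
    obtain ⟨v, hv⟩ := Ideal.mem_span_singleton'.mp h1
    apply (mem_nonZeroDivisors_iff_right.mp hg0') t
    rw [← hv, mul_comm v, ← mul_assoc, ht, zero_mul]
  have hci : ψ (c i) = 0 := hψf _ hmul
  have hmem : y ∈ (Y' i).basicOpen (ψ (c i)) := by
    rw [hψ, Scheme.basicOpen_appLE]
    refine ⟨hyV', ?_⟩
    show k i y ∈ X'.basicOpen (c i)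
    rw [hy']
    exact hxi
  rw [hci, Scheme.basicOpen_zero] at hmem
  exact hmem

end Groth.Agent.S17386
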