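import Groth.Statements.S17391
import Groth.Agent.Lib.Cart4_helper8

set_option autoImplicit false
universe u
open BlowUp

namespace Groth.Agent.S17391

open AlgebraicGeometry CategoryTheory Limits in
/-- Let X and Z be schemes, p : Z → X a morphism, U ⊆ V ⊆ X open subschemes, and f : Y → Z a
quasi-compact immersion whose composite with p lands in U. Let I₁ be a quasi-coherent ideal on X
whose support contains V ∖ U and is disjoint from U, and I₂ a quasi-coherent ideal whose support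
lies in supp(I₁) ∖ V. Assume that the closed subscheme p⁻¹(V(I₁²)) ∩ Ȳ of Z, where Ȳ is the
scheme-theoretic image of f, is contained in p⁻¹(V(I₂)) as a closed subscheme: the inverse image
ideal of I₂ on Z lies in the sum of the inverse image ideal of I₁² and the kernel ideal of f. Then
for every blowing up q : X' → X of X in I₁ + I₂, writing Z' = Z ×_X X' → X' and Y' = Y ×_Z Z' → Z'
for the base changes, the closure in Z' of the image of Y' is disjoint from the preimage in Z' of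
the closure in X' of q⁻¹(V ∖ U). (The blowing up is an isomorphism over V, since the support of I₁ +
I₂ is that of I₂ and lies in X ∖ V; the point is that the closure of q⁻¹(V ∖ U) in X', which may
reach over X ∖ V, still misses the closure of Y'.) -/
theorem result
    {X Y Z X' : Scheme.{u}} (p : Z ⟶ X) (U V : X.Opens) (hUV : U ≤ V)
    (f : Y ⟶ Z) [IsImmersion f] [QuasiCompact f] (hY : Set.range (fun y => p (f y)) ⊆ (U : Set X))
    (𝓘₁ 𝓘₂ : X.IdealSheafData)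
    (h₁ : (V : Set X) \ (U : Set X) ⊆ (𝓘₁.support : Set X)) (h₁' : Disjoint (𝓘₁.support : Set X) (U : Set X))
    (h₂ : (𝓘₂.support : Set X) ⊆ (𝓘₁.support : Set X) \ (V : Set X))
    (hincl : 𝓘₂.comap p ≤ (𝓘₁ * 𝓘₁).comap p ⊔ f.ker)
    (q : X' ⟶ X) (hq : BlowUp.IsBlowUp q (𝓘₁ ⊔ 𝓘₂)) :
    Disjoint (closure (Set.range (fun y => (pullback.snd f (pullback.fst p q)) y)))
      ((fun z => (pullback.snd p q) z) ⁻¹'
        closure ((fun x' => q x') ⁻¹' ((V : Set X) \ (U : Set X)))) := by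
  rw [Set.disjoint_left]
  intro z hz2 hz1
  obtain ⟨p', hp'⟩ : ∃ p' : pullback p q ⟶ X', p' = pullback.snd p q := ⟨_, rfl⟩
  obtain ⟨π', hπ'⟩ : ∃ π' : pullback p q ⟶ Z, π' = pullback.fst p q := ⟨_, rfl⟩
  have hcond : π' ≫ p = p' ≫ q := by rw [hp', hπ', pullback.condition]
  have hz1' : p' z ∈ closure ((fun x' => q x') ⁻¹' ((V : Set X) \ (U : Set X))) := by
    rw [hp']; exact hz1
  obtain ⟨K, hK⟩ : ∃ K : (pullback p q).IdealSheafData, K = f.ker.comap π' := ⟨_, rfl⟩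
  -- transport the inclusion to `Z'`
  have hincl' : (𝓘₂.comap q).comap p' ≤ ((𝓘₁.comap q) * (𝓘₁.comap q)).comap p' ⊔ K := by
    have h1 : (𝓘₂.comap p).comap π' ≤ ((𝓘₁ * 𝓘₁).comap p ⊔ f.ker).comap π' :=
      Scheme.IdealSheafData.comap_mono π' hincl
    rw [Scheme.IdealSheafData.comap_sup, ← Scheme.IdealSheafData.comap_comp,
      ← Scheme.IdealSheafData.comap_comp, hcond, Scheme.IdealSheafData.comap_comp,
      Scheme.IdealSheafData.comap_comp, CartH8.comap_mul q, ← hK] at h1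
    exact h1
  obtain ⟨V', hzV', t, ht0, ht⟩ := hq.1 (p' z)
  obtain ⟨_, ⟨W, hW : IsAffineOpen W, rfl⟩, hzW, hWle⟩ :=
    ((pullback p q).isBasis_affineOpens).exists_subset_of_mem_open
      (show z ∈ ((p' ⁻¹ᵁ V'.1 : (pullback p q).Opens) : Set _) from hzV')
      (p' ⁻¹ᵁ V'.1).2
  have hWV' : W ≤ p' ⁻¹ᵁ V'.1 := hWle
  obtain ⟨ψ, hψ⟩ : ∃ ψ : Γ(X', V'.1) →+* Γ(pullback p q, W),
      ψ = (p'.appLE V'.1 W hWV').hom := ⟨_, rfl⟩
  obtain ⟨L₁, hL₁⟩ : ∃ L : Ideal Γ(X', V'.1), L = (𝓘₁.comap q).ideal V' := ⟨_, rfl⟩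
  obtain ⟨L₂, hL₂⟩ : ∃ L : Ideal Γ(X', V'.1), L = (𝓘₂.comap q).ideal V' := ⟨_, rfl⟩
  have hsup : L₁ ⊔ L₂ = Ideal.span {t} := by
    rw [← ht, Scheme.IdealSheafData.comap_sup, hL₁, hL₂]
    rfl
  have hL₁le : L₁ ≤ Ideal.span {t} := hsup ▸ le_sup_left
  have hL₂le : L₂ ≤ Ideal.span {t} := hsup ▸ le_sup_right
  -- transporter ideals
  have htransp : ∀ L : Ideal Γ(X', V'.1), L ≤ Ideal.span {t} →
      ∃ J : Ideal Γ(X', V'.1), (∀ c, c ∈ J ↔ t * c ∈ L) ∧ L = Ideal.span {t} * J := by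
    intro L hLle
    obtain ⟨J, hJ⟩ : ∃ J : Ideal Γ(X', V'.1), ∀ c, c ∈ J ↔ t * c ∈ L :=
      ⟨Submodule.comap (LinearMap.mulLeft Γ(X', V'.1) t) L, fun c => by
        rw [Submodule.mem_comap, LinearMap.mulLeft_apply]⟩
    refine ⟨J, hJ, ?_⟩
    apply le_antisymm
    · intro l hl
      obtain ⟨c, hc⟩ := Ideal.mem_span_singleton'.mp (hLle hl)
      have hc' : t * c = l := by rw [mul_comm]; exact hc
      rw [← hc']
      exact Ideal.mul_mem_mul (Ideal.mem_span_singleton_self t) ((hJ c).mpr (hc' ▸ hl))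
    · rw [Ideal.mul_le]
      intro r hr c hc
      obtain ⟨a, ha⟩ := Ideal.mem_span_singleton'.mp hr
      rw [← ha, mul_assoc]
      exact L.mul_mem_left a ((hJ c).mp hc)
  obtain ⟨J₁, hJ₁, hLJ₁⟩ := htransp L₁ hL₁le
  obtain ⟨J₂, hJ₂, hLJ₂⟩ := htransp L₂ hL₂le
  -- 1 = c₁ + c₂
  obtain ⟨c₁, hc₁, c₂, hc₂, hc12⟩ : ∃ c₁ ∈ J₁, ∃ c₂ ∈ J₂, c₁ + c₂ = 1 := by
    have h1 : t ∈ L₁ ⊔ L₂ := hsup ▸ Ideal.mem_span_singleton_self t
    obtain ⟨l₁, hl₁, l₂, hl₂, hl⟩ := Submodule.mem_sup.mp h1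
    obtain ⟨c₁, hc₁⟩ := Ideal.mem_span_singleton'.mp (hL₁le hl₁)
    obtain ⟨c₂, hc₂⟩ := Ideal.mem_span_singleton'.mp (hL₂le hl₂)
    refine ⟨c₁, (hJ₁ c₁).mpr (by rw [mul_comm, hc₁]; exact hl₁), c₂,
      (hJ₂ c₂).mpr (by rw [mul_comm, hc₂]; exact hl₂), ?_⟩
    have h2 : (c₁ + c₂ - 1) * t = 0 := by
      rw [sub_mul, add_mul, hc₁, hc₂, hl, one_mul, sub_self]
    exact sub_eq_zero.mp ((mem_nonZeroDivisors_iff_right.mp ht0) _ h2)
  -- the prime ideal of `z`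
  obtain ⟨𝔭, h𝔭⟩ : ∃ 𝔭 : Ideal Γ(pullback p q, W),
      ∀ s, s ∈ 𝔭 ↔ z ∉ (pullback p q).basicOpen s :=
    ⟨Ideal.comap ((pullback p q).presheaf.germ W z hzW).hom
      (IsLocalRing.maximalIdeal ((pullback p q).presheaf.stalk z)), fun s => by
      rw [Ideal.mem_comap, IsLocalRing.mem_maximalIdeal, mem_nonunits_iff,
        Scheme.mem_basicOpen _ _ _ hzW]⟩
  have hsuppK : ∀ x' : X', x' ∈ ((𝓘₁ ⊔ 𝓘₂).comap q).support →
      q x' ∈ 𝓘₁.support ∧ q x' ∈ 𝓘₂.support := by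
    intro x' hx'
    rw [CartH8.mem_support_comap_iff, Scheme.IdealSheafData.support_sup] at hx'
    exact hx'
  have hDt : ∀ x' : X', x' ∈ V'.1 → (q x' ∉ 𝓘₁.support ∨ q x' ∉ 𝓘₂.support) →
      x' ∈ X'.basicOpen t := by
    intro x' hx'V hx'
    apply CartH8.mem_basicOpen_of_notMem_support ((𝓘₁ ⊔ 𝓘₂).comap q) V' t ht x' hx'V
    intro hcon
    obtain ⟨h1, h2⟩ := hsuppK x' hcon
    rcases hx' with h | h
    · exact h h1
    · exact h h2
  -- `J₁` vanishes at `z`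
  have hJ₁𝔭 : Ideal.map ψ J₁ ≤ 𝔭 := by
    rw [Ideal.map_le_iff_le_comap]
    intro c hc
    rw [Ideal.mem_comap, h𝔭]
    intro hzD
    rw [hψ, Scheme.basicOpen_appLE] at hzD
    have hzc : p' z ∈ X'.basicOpen c := hzD.2
    obtain ⟨x', hx'D, hx'S⟩ := mem_closure_iff.mp hz1' _ (X'.basicOpen c).2 hzc
    have hx'V : x' ∈ V'.1 := X'.basicOpen_le _ hx'D
    have hx'VU : q x' ∈ (V : Set X) \ (U : Set X) := hx'S
    have h2 : x' ∈ (𝓘₁.comap q).support := by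
      rw [CartH8.mem_support_comap_iff]
      exact h₁ hx'VU
    have h3 : x' ∉ X'.basicOpen (t * c) := by
      rw [Scheme.IdealSheafData.mem_support_iff_of_mem (U := V') hx'V,
        Scheme.mem_zeroLocus_iff] at h2
      exact h2 (t * c) (hL₁ ▸ (hJ₁ c).mp hc)
    apply h3
    rw [Scheme.basicOpen_mul]
    refine ⟨hDt x' hx'V (Or.inr ?_), hx'D⟩
    intro hcon
    exact (h₂ hcon).2 hx'VU.1
  -- the key equation on `W`
  have htc₂ : ψ (t * c₂) ∈ Ideal.map ψ (L₁ * L₁) ⊔ K.ideal ⟨W, hW⟩ := by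
    have h1 := hincl' ⟨W, hW⟩
    have h2 : (((𝓘₁.comap q) * (𝓘₁.comap q)).comap p' ⊔ K).ideal ⟨W, hW⟩ =
        (((𝓘₁.comap q) * (𝓘₁.comap q)).comap p').ideal ⟨W, hW⟩ ⊔ K.ideal ⟨W, hW⟩ := rfl
    have h3 : ((𝓘₁.comap q) * (𝓘₁.comap q)).ideal V' = L₁ * L₁ := by
      rw [hL₁]; rfl
    rw [h2, ComapIdH8.comap_ideal p' (𝓘₂.comap q) ⟨W, hW⟩ V' hWV',
      ComapIdH8.comap_ideal p' ((𝓘₁.comap q) * (𝓘₁.comap q)) ⟨W, hW⟩ V' hWV', h3, ← hL₂,
      ← hψ] at h1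
    exact h1 (Ideal.mem_map_of_mem _ ((hJ₂ c₂).mp hc₂))
  obtain ⟨m, hm, k, hk, hsum⟩ := Submodule.mem_sup.mp htc₂
  have hLL : L₁ * L₁ = Ideal.span {t} * (J₁ * L₁) := by
    exact (congrArg (fun M => M * L₁) hLJ₁).trans (mul_assoc _ _ _)
  rw [hLL, Ideal.map_mul, Ideal.map_span, Set.image_singleton] at hm
  obtain ⟨a, ha, ham⟩ := Ideal.mem_span_singleton_mul.mp hm
  have ha𝔭 : a ∈ 𝔭 := by
    have h1 : J₁ * L₁ ≤ J₁ := Ideal.mul_le_left
    have h2 : Ideal.map ψ (J₁ * L₁) ≤ Ideal.map ψ J₁ := Ideal.map_mono h1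
    exact hJ₁𝔭 (h2 ha)
  have hk' : ψ t * (ψ c₂ - a) = k := by
    rw [mul_sub, ham, ← map_mul, ← hsum, add_sub_cancel_left]
  have hs𝔭 : ψ c₂ - a ∉ 𝔭 := by
    intro hcon
    have h1 : (1 : Γ(pullback p q, W)) = ψ c₁ + (ψ c₂ - a) + a := by
      rw [add_assoc, sub_add_cancel, ← map_add, hc12, map_one]
    have h2 : (1 : Γ(pullback p q, W)) ∈ 𝔭 := by
      rw [h1]
      exact 𝔭.add_mem (𝔭.add_mem (hJ₁𝔭 (Ideal.mem_map_of_mem _ hc₁)) hcon) ha𝔭
    rw [h𝔭, Scheme.basicOpen_of_isUnit _ isUnit_one] at h2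
    exact h2 hzW
  rw [h𝔭, not_not] at hs𝔭
  obtain ⟨w, hwD, y, hy⟩ := mem_closure_iff.mp hz2 _
    ((pullback p q).basicOpen (ψ c₂ - a)).2 hs𝔭
  have hy' : pullback.snd f (pullback.fst p q) y = w := hy
  have hwW : w ∈ W := (pullback p q).basicOpen_le _ hwD
  have hπ'w : π' w = f (pullback.fst f (pullback.fst p q) y) := by
    rw [← hy', hπ', ← Scheme.Hom.comp_apply, ← Scheme.Hom.comp_apply, pullback.condition]
  have h1 : w ∈ K.support := by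
    rw [hK, CartH8.mem_support_comap_iff, hπ'w]
    exact f.range_subset_ker_support ⟨_, rfl⟩
  have h2 : w ∉ (pullback p q).basicOpen k := by
    rw [Scheme.IdealSheafData.mem_support_iff_of_mem (U := ⟨W, hW⟩) hwW,
      Scheme.mem_zeroLocus_iff] at h1
    exact h1 k hk
  have hqU : q (p' w) ∈ U := by
    rw [← Scheme.Hom.comp_apply, ← hcond, Scheme.Hom.comp_apply, hπ'w]
    exact hY ⟨_, rfl⟩
  have h3 : w ∈ (pullback p q).basicOpen (ψ t) := by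
    rw [hψ, Scheme.basicOpen_appLE]
    refine ⟨hwW, hDt _ (hWV' hwW) (Or.inl ?_)⟩
    intro hcon
    exact (Set.disjoint_left.mp h₁') hcon hqU
  apply h2
  rw [← hk', Scheme.basicOpen_mul]
  exact ⟨h3, hwD⟩

end Groth.Agent.S17391
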