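import Groth.Statements.S17393
import Groth.Agent.Lib.Cart4_helper8

set_option autoImplicit false
universe u
open BlowUp

namespace Groth.Agent.S17393

open AlgebraicGeometry CategoryTheory Limits in
/-- Let X be any scheme, I and I' quasi-coherent ideals on X (of closed subschemes Y and Y'), b : X' → X
a blowing up of X in I + I' (the ideal of Y ∩ Y'), b' : Ỹ → Y a blowing up of Y = V(I) in the
inverse image of I + I' and k : Ỹ → X' the morphism with k ≫ b = b' ≫ (Y → X), whose image is the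
strict transform of Y. For an affine open V of X, a section s of I over V, and an affine open V' ⊆
b⁻¹(V) of X' which meets the image of k, the ideal of the inverse image ideal sheaf (I + I')·O_X' on
V' is not the principal ideal generated by the pullback of s. Equivalently the strict transform of Y
does not meet the open locus U(s) where s generates the (invertible) inverse image ideal; since the
U(s) for s ranging over local sections of I and of I' cover X', the strict transform of Y lies in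
the union of the U(s) with s a local section of I'. -/
theorem result
    {X X' Yt : Scheme.{u}} (𝓘 𝓘' : X.IdealSheafData) (b : X' ⟶ X) (hb : BlowUp.IsBlowUp b (𝓘 ⊔ 𝓘'))
    (b' : Yt ⟶ 𝓘.subscheme) (hb' : BlowUp.IsBlowUp b' ((𝓘 ⊔ 𝓘').comap 𝓘.subschemeι))
    (k : Yt ⟶ X') (hk : k ≫ b = b' ≫ 𝓘.subschemeι)
    (V : X.affineOpens) (s : Γ(X, V.1)) (hs : s ∈ 𝓘.ideal V)
    (V' : X'.affineOpens) (hV' : V'.1 ≤ b ⁻¹ᵁ V.1)
    (hmeet : (Set.range (fun y => k y) ∩ (V'.1 : Set X')).Nonempty) :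
    ((𝓘 ⊔ 𝓘').comap b).ideal V' ≠ Ideal.span {(b.appLE V.1 V'.1 hV').hom s} := by
  intro hcon
  obtain ⟨x, ⟨y, hy⟩, hxV'⟩ := hmeet
  have hy' : k y = x := hy
  have hE : BlowUp.IsEffCartierIdeal (((𝓘 ⊔ 𝓘').comap b).comap k) := by
    rw [← Scheme.IdealSheafData.comap_comp, hk, Scheme.IdealSheafData.comap_comp]
    exact hb'.1
  obtain ⟨V₀, hyV₀, g, hg0, hg⟩ := hE y
  obtain ⟨_, ⟨W, hW : IsAffineOpen W, rfl⟩, hyW, hWle⟩ :=
    (Yt.isBasis_affineOpens).exists_subset_of_mem_open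
      (show y ∈ ((V₀.1 ⊓ k ⁻¹ᵁ V'.1 : Yt.Opens) : Set _) from
        ⟨hyV₀, by show k y ∈ V'.1; rw [hy']; exact hxV'⟩)
      (V₀.1 ⊓ k ⁻¹ᵁ V'.1).2
  have hWV₀ : W ≤ V₀.1 := fun z hz => (hWle hz).1
  have hWV' : W ≤ k ⁻¹ᵁ V'.1 := fun z hz => (hWle hz).2
  obtain ⟨hg0', hg'⟩ := CartH8.cartier_restrict _ V₀ ⟨W, hW⟩ hWV₀ g hg0 hg
  have hbot0 : 𝓘.comap 𝓘.subschemeι = ⊥ := by
    rw [eq_bot_iff]
    apply Scheme.IdealSheafData.le_map_iff_comap_le.mp
    rw [Scheme.IdealSheafData.map_bot, Scheme.IdealSheafData.ker_subschemeι]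
  have hbot : (𝓘.comap b).comap k = ⊥ := by
    rw [← Scheme.IdealSheafData.comap_comp, hk, Scheme.IdealSheafData.comap_comp, hbot0,
      Scheme.IdealSheafData.comap_bot]
  have hs' : (b.appLE V.1 V'.1 hV').hom s ∈ (𝓘.comap b).ideal V' := by
    rw [ComapIdH8.comap_ideal b 𝓘 V' V hV']
    exact Ideal.mem_map_of_mem _ hs
  have hzero : (k.appLE V'.1 W hWV').hom ((b.appLE V.1 V'.1 hV').hom s) = 0 := by
    have h1 : (k.appLE V'.1 W hWV').hom ((b.appLE V.1 V'.1 hV').hom s) ∈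
        ((𝓘.comap b).comap k).ideal ⟨W, hW⟩ := by
      rw [ComapIdH8.comap_ideal k (𝓘.comap b) ⟨W, hW⟩ V' hWV']
      exact Ideal.mem_map_of_mem _ hs'
    rw [hbot] at h1
    exact h1
  have hEid : (((𝓘 ⊔ 𝓘').comap b).comap k).ideal ⟨W, hW⟩ = ⊥ := by
    rw [ComapIdH8.comap_ideal k ((𝓘 ⊔ 𝓘').comap b) ⟨W, hW⟩ V' hWV', hcon, Ideal.map_span,
      Set.image_singleton, hzero]
    exact Ideal.span_singleton_eq_bot.mpr rfl
  have hg0'' : QcqsLoc.rX hWV₀ g = 0 := by
    rw [hEid] at hg'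
    exact Ideal.span_singleton_eq_bot.mp hg'.symm
  have hone : (1 : Γ(Yt, W)) = 0 := by
    apply (mem_nonZeroDivisors_iff_right.mp hg0') 1
    rw [one_mul, hg0'']
  have hmem : y ∈ Yt.basicOpen (1 : Γ(Yt, W)) := by
    rw [Scheme.basicOpen_of_isUnit _ isUnit_one]
    exact hyW
  rw [hone, Scheme.basicOpen_zero] at hmem
  exact hmem

end Groth.Agent.S17393
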