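import Groth.Statements.S17410
import Groth.Agent.Lib.AdjoinRootLoc_helper3
-- import your own Groth.Agent.* helpers here

set_option autoImplicit false
universe u
open Prym5


namespace Groth.Agent.S17410

/-- Over a perfect field K of characteristic different from 2 and 3, let h be an irreducible polynomial
of degree 2 in the variable z with coefficients in K[x, y] and A = K[x, y][z]/(h). For every
multiplicative subset S of K[x, y], the localisation S⁻¹A is integral over S⁻¹K[x, y] if and only if
the leading coefficient of h is invertible in S⁻¹K[x, y]; and K(x, y) ⊗ A is a K(x, y)-vector space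
of dimension 2. (Geometrically: for a quartic surface with an ordinary double point, written u₂ x₃²
+ 2 u₃ x₃ + u₄ = 0 with the node at (0:0:0:1), the projection from the node restricted to a standard
affine chart of the plane is given by such an algebra A with leading coefficient the dehomogenised
u₂, so the projection is finite of degree two exactly over the locus u₂ ≠ 0. Stated for any
irreducible h of degree 2, which is all the argument uses.) -/
theorem result (K : Type u) [Field K]
    [PerfectField K] (h2 : (2 : K) ≠ 0) (h3 : (3 : K) ≠ 0)
    (h : Polynomial (MvPolynomial (Fin 2) K)) (hirr : Irreducible h) (hdeg : h.natDegree = 2)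
    (S : Submonoid (MvPolynomial (Fin 2) K)) :
    (Algebra.IsIntegral (Localization S) (Localization (Algebra.algebraMapSubmonoid (AdjoinRoot h) S))
        ↔ IsUnit (algebraMap (MvPolynomial (Fin 2) K) (Localization S) h.leadingCoeff))
      ∧ Module.finrank (FractionRing (MvPolynomial (Fin 2) K))
          (TensorProduct (MvPolynomial (Fin 2) K) (FractionRing (MvPolynomial (Fin 2) K)) (AdjoinRoot h)) = 2 := by
  have hh0 : h ≠ 0 := hirr.ne_zero
  refine ⟨⟨fun hint => ?_, fun hu => ?_⟩, ?_⟩
  · exact Groth.Agent.Lib.AdjoinRootLocH3.isUnit_of_isIntegral h S hirr (by rw [hdeg]; norm_num) hint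
  · exact Groth.Agent.Lib.AdjoinRootLocH3.isIntegral_of_isUnit h S hu
  · rw [Groth.Agent.Lib.AdjoinRootLocH3.finrank_tensor h hh0, hdeg]

end Groth.Agent.S17410
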