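import Groth.Statements.S17411
import Mathlib
import Groth.Agent.Lib.AffDim11_helper8
import Groth.Agent.Lib.GenLift1_helper8

set_option autoImplicit false
universe u
open CategoryTheory AlgebraicGeometry
open Prym5

namespace Groth.Agent.S17411

/-- Let k be an algebraically closed field of characteristic zero and X, Y, Z schemes of finite type
over k, with Y and Z irreducible of the same dimension, η : Y → Z a dominant k-morphism and ρ : X →
Y a k-morphism. Then the composite ρ ≫ η is dominant exactly when ρ is dominant. (The published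
statement concerns the forgetful map from the moduli space of étale double covers of genus-five
curves to the moduli space of genus-five curves, both irreducible of dimension 12, and a morphism
into the former; its argument uses only the hypotheses kept here.) -/
theorem result (k : Type u) [Field k] [IsAlgClosed k]
    [CharZero k] (X Y Z : Scheme.{u}) [X.Over (Spec (CommRingCat.of k))] [Y.Over (Spec (CommRingCat.of k))]
    [Z.Over (Spec (CommRingCat.of k))]
    [LocallyOfFiniteType (X ↘ Spec (CommRingCat.of k))] [QuasiCompact (X ↘ Spec (CommRingCat.of k))]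
    [LocallyOfFiniteType (Y ↘ Spec (CommRingCat.of k))] [QuasiCompact (Y ↘ Spec (CommRingCat.of k))]
    [LocallyOfFiniteType (Z ↘ Spec (CommRingCat.of k))] [QuasiCompact (Z ↘ Spec (CommRingCat.of k))]
    [IrreducibleSpace Y] [IrreducibleSpace Z] (hdim : topologicalKrullDim Y = topologicalKrullDim Z)
    (ρ : X ⟶ Y) [ρ.IsOver (Spec (CommRingCat.of k))] (η : Y ⟶ Z) [η.IsOver (Spec (CommRingCat.of k))]
    [IsDominant η] :
    IsDominant (ρ ≫ η) ↔ IsDominant ρ := by
  constructor
  · intro hdom
    haveI : LocallyOfFiniteType (η ≫ (Z ↘ Spec (CommRingCat.of k))) := by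
      rw [comp_over]; infer_instance
    haveI : LocallyOfFiniteType η := locallyOfFiniteType_of_comp η (Z ↘ Spec (CommRingCat.of k))
    haveI : IsLocallyNoetherian X :=
      LocallyOfFiniteType.isLocallyNoetherian (X ↘ Spec (CommRingCat.of k))
    haveI : CompactSpace ↥X :=
      QuasiCompact.compactSpace_of_compactSpace (X ↘ Spec (CommRingCat.of k))
    haveI : IsNoetherian X := {}
    haveI : QuasiCompact (ρ ≫ η) := inferInstance
    obtain ⟨x, hx⟩ := GenLiftH8.mem_range_of_generic (ρ ≫ η) (genericPoint ↥Z)
      (fun w hw => ((genericPoint_specializes w).antisymm hw).eq.symm)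
    set y : Y := ρ x with hy
    have hηy : η y = genericPoint ↥Z := by
      rw [← hx]; rfl
    obtain ⟨dY, hdY, -⟩ := Groth.Agent.Lib.AffDimH8.exists_dim_nat_of_irreducible k Y
      (Y ↘ Spec (CommRingCat.of k))
    have hY := Groth.Agent.IrrDimH8.topDim_eq_height_generic Y (genericPoint ↥Y)
      (fun x' => genericPoint_specializes x')
    have hZ := Groth.Agent.IrrDimH8.topDim_eq_height_generic Z (genericPoint ↥Z)
      (fun x' => genericPoint_specializes x')
    have hYh : Order.height (genericPoint ↥Y) = (dY : ℕ∞) := by
      rw [hY] at hdY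
      exact_mod_cast hdY
    have hZh : Order.height (genericPoint ↥Z) = (dY : ℕ∞) := by
      rw [← hdim, hdY] at hZ
      exact_mod_cast hZ.symm
    obtain ⟨z, hz⟩ : y ∈ Set.range (η.fiberι (genericPoint ↥Z)) := by
      rw [Scheme.Hom.range_fiberι]; exact hηy
    have hht := Groth.Agent.Lib.AffDimH8.height_fiberι k (Z ↘ Spec (CommRingCat.of k)) η
      (genericPoint ↥Z) z
    rw [hz, hZh] at hht
    have hyg : y = genericPoint ↥Y :=
      Groth.Agent.Lib.AffDimH8.eq_genericPoint_of_height_ge y dY hYh (by rw [hht]; exact le_self_add)
    refine ⟨?_⟩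
    rw [DenseRange, dense_iff_closure_eq]
    apply Set.eq_univ_of_univ_subset
    rw [← (genericPoint_spec ↥Y).def]
    apply closure_mono
    rw [Set.singleton_subset_iff]
    exact ⟨x, hyg⟩
  · intro hdom
    infer_instance

end Groth.Agent.S17411
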