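import Groth.Statements.S17414
import Groth.Agent.Lib.Prym5Poly_helper3
-- import your own Groth.Agent.* helpers here

set_option autoImplicit false
universe u
open Prym5


namespace Groth.Agent.S17414

/-- Over a perfect field K of characteristic different from 2 and 3, let G₂, G₃, G₄ be polynomials in x,
y, let h = G₂ z² + 2 G₃ z + G₄ in K[x, y, z] and D = G₃² − G₂ G₄ in K[x, y]. Suppose h ∈ (x, y, z) —
the origin Q lies on the surface h = 0 — and D ∈ (x, y) — the image of Q under (x, y, z) ↦ (x, y)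
lies on the discriminant curve D = 0. Then D ∈ (x, y)², i.e. the image point is singular on the
discriminant curve, if and only if either h ∈ (x, y, z)², i.e. Q is a singular point of the surface,
or G₂, G₃, G₄ ∈ (x, y), i.e. Q lies on all three cones G₂ = G₃ = G₄ = 0. (Affine-local form, in a
chart where the node projected from sits at infinity on the z-axis and Q at the origin, of the
published claim: for a point Q ≠ P of the nodal quartic whose projection lies on the branch sextic,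
the projection is singular on the sextic exactly when Q is singular on the quartic or lies on the
cones u₂ = u₃ = u₄ = 0.) -/
theorem result (K : Type u) [Field K] [PerfectField K]
    (h2 : (2 : K) ≠ 0) (h3 : (3 : K) ≠ 0) (G₂ G₃ G₄ : MvPolynomial (Fin 2) K)
    (hQ : MvPolynomial.rename (Fin.castSucc : Fin 2 → Fin 3) G₂ * MvPolynomial.X (2 : Fin 3) ^ 2
        + 2 * MvPolynomial.rename (Fin.castSucc : Fin 2 → Fin 3) G₃ * MvPolynomial.X (2 : Fin 3)
        + MvPolynomial.rename (Fin.castSucc : Fin 2 → Fin 3) G₄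
        ∈ Ideal.span (Set.range (MvPolynomial.X : Fin 3 → MvPolynomial (Fin 3) K)))
    (hD : G₃ ^ 2 - G₂ * G₄ ∈ Ideal.span (Set.range (MvPolynomial.X : Fin 2 → MvPolynomial (Fin 2) K))) :
    G₃ ^ 2 - G₂ * G₄ ∈ (Ideal.span (Set.range (MvPolynomial.X : Fin 2 → MvPolynomial (Fin 2) K))) ^ 2 ↔
      (MvPolynomial.rename (Fin.castSucc : Fin 2 → Fin 3) G₂ * MvPolynomial.X (2 : Fin 3) ^ 2
          + 2 * MvPolynomial.rename (Fin.castSucc : Fin 2 → Fin 3) G₃ * MvPolynomial.X (2 : Fin 3)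
          + MvPolynomial.rename (Fin.castSucc : Fin 2 → Fin 3) G₄
          ∈ (Ideal.span (Set.range (MvPolynomial.X : Fin 3 → MvPolynomial (Fin 3) K))) ^ 2 ∨
        (G₂ ∈ Ideal.span (Set.range (MvPolynomial.X : Fin 2 → MvPolynomial (Fin 2) K)) ∧
          G₃ ∈ Ideal.span (Set.range (MvPolynomial.X : Fin 2 → MvPolynomial (Fin 2) K)) ∧
          G₄ ∈ Ideal.span (Set.range (MvPolynomial.X : Fin 2 → MvPolynomial (Fin 2) K)))) := by
  classical
  have hq : Groth.Agent.Lib.Prym5Poly_helper3.quad G₂ G₃ G₄ ∈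
      MvPolynomial.idealOfVars (Fin 3) K ^ 1 := by rw [pow_one]; exact hQ
  have hD' : G₃ ^ 2 - G₂ * G₄ ∈ MvPolynomial.idealOfVars (Fin 2) K := hD
  have h4 : G₄ ∈ MvPolynomial.idealOfVars (Fin 2) K := by
    have := Groth.Agent.Lib.Prym5Poly_helper3.killLast_mem_pow hq
    rwa [Groth.Agent.Lib.Prym5Poly_helper3.killLast_quad, pow_one] at this
  have h3' : G₃ ∈ MvPolynomial.idealOfVars (Fin 2) K := by
    rw [Groth.Agent.Lib.Prym5Poly_helper3.mem_idealOfVars_iff] at h4 hD' ⊢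
    rw [map_sub, map_pow, map_mul, h4, mul_zero, sub_zero] at hD'
    exact pow_eq_zero_iff (two_ne_zero) |>.1 hD'
  show G₃ ^ 2 - G₂ * G₄ ∈ MvPolynomial.idealOfVars (Fin 2) K ^ 2 ↔
    (Groth.Agent.Lib.Prym5Poly_helper3.quad G₂ G₃ G₄ ∈ MvPolynomial.idealOfVars (Fin 3) K ^ 2 ∨
      (G₂ ∈ MvPolynomial.idealOfVars (Fin 2) K ∧ G₃ ∈ MvPolynomial.idealOfVars (Fin 2) K ∧
        G₄ ∈ MvPolynomial.idealOfVars (Fin 2) K))
  have h3sq : G₃ ^ 2 ∈ MvPolynomial.idealOfVars (Fin 2) K ^ 2 := Ideal.pow_mem_pow h3' 2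
  constructor
  · intro hDD
    by_cases hG2 : G₂ ∈ MvPolynomial.idealOfVars (Fin 2) K
    · exact Or.inr ⟨hG2, h3', h4⟩
    · left
      refine Groth.Agent.Lib.Prym5Poly_helper3.quad_mem_sq_of h3' ?_
      set c : K := MvPolynomial.constantCoeff G₂ with hc
      have hc0 : c ≠ 0 := fun h0 =>
        hG2 ((Groth.Agent.Lib.Prym5Poly_helper3.mem_idealOfVars_iff G₂).2 h0)
      have e1 : G₂ * G₄ ∈ MvPolynomial.idealOfVars (Fin 2) K ^ 2 := by
        have : G₂ * G₄ = G₃ ^ 2 - (G₃ ^ 2 - G₂ * G₄) := by ring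
        rw [this]
        exact Ideal.sub_mem _ h3sq hDD
      have e2 : (G₂ - MvPolynomial.C c) * G₄ ∈ MvPolynomial.idealOfVars (Fin 2) K ^ 2 := by
        rw [pow_two]
        exact Ideal.mul_mem_mul (Groth.Agent.Lib.Prym5Poly_helper3.sub_C_mem G₂) h4
      have e3 : MvPolynomial.C c * G₄ ∈ MvPolynomial.idealOfVars (Fin 2) K ^ 2 := by
        have : MvPolynomial.C c * G₄ = G₂ * G₄ - (G₂ - MvPolynomial.C c) * G₄ := by ring
        rw [this]
        exact Ideal.sub_mem _ e1 e2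
      have e4 : G₄ = MvPolynomial.C c⁻¹ * (MvPolynomial.C c * G₄) := by
        rw [← mul_assoc, ← MvPolynomial.C_mul, inv_mul_cancel₀ hc0, MvPolynomial.C_1, one_mul]
      rw [e4]
      exact Ideal.mul_mem_left _ _ e3
  · rintro (hqq | ⟨hG2, -, -⟩)
    · have h4' := Groth.Agent.Lib.Prym5Poly_helper3.G4_mem_sq_of_quad_mem_sq hqq
      exact Ideal.sub_mem _ h3sq (Ideal.mul_mem_left _ _ h4')
    · refine Ideal.sub_mem _ h3sq ?_
      rw [pow_two]
      exact Ideal.mul_mem_mul hG2 h4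

end Groth.Agent.S17414
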