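import Groth.Statements.S17444
import Mathlib.Algebra.Ring.GeomSum
import Mathlib.Algebra.Module.Equiv.Basic
import Mathlib.Tactic.Abel

set_option autoImplicit false
universe u v
open SSRed

namespace Groth.Agent.S17444

/-- Let K be a field of characteristic zero, V a K-vector space and g a K-linear endomorphism of V such
that g - 1 is nilpotent (a unipotent automorphism). Then for every integer n > 0 the endomorphisms
gⁿ - 1 and g - 1 have the same kernel: a vector fixed by gⁿ is fixed by g. (The published statement
assumes V finite-dimensional; this row allows any V.) -/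
theorem result (K : Type u) (V : Type v) [Field K] [CharZero K]
    [AddCommGroup V] [Module K V] (g : Module.End K V) (hg : IsNilpotent (g - 1)) (n : ℕ) (hn : 0 < n) :
    LinearMap.ker (g ^ n - 1) = LinearMap.ker (g - 1) := by
  have hcomm : ∀ j : ℕ, Commute (g ^ j) (g - 1) := fun j =>
    ((Commute.refl g).pow_left j).sub_right (Commute.one_right _)
  obtain ⟨R, hR⟩ : ∃ R : Module.End K V, R = ∑ i ∈ Finset.range n, ∑ j ∈ Finset.range i, g ^ j :=
    ⟨_, rfl⟩
  obtain ⟨S, hS⟩ : ∃ S : Module.End K V, S = ∑ i ∈ Finset.range n, g ^ i := ⟨_, rfl⟩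
  have hS1 : S * (g - 1) = g ^ n - 1 := by rw [hS]; exact geom_sum_mul g n
  have hS2 : S = (n : Module.End K V) + R * (g - 1) := by
    have h1 : ∀ i, g ^ i = 1 + (∑ j ∈ Finset.range i, g ^ j) * (g - 1) := fun i => by
      rw [geom_sum_mul]; abel
    rw [hS, hR, Finset.sum_mul]
    calc ∑ i ∈ Finset.range n, g ^ i
        = ∑ i ∈ Finset.range n, (1 + (∑ j ∈ Finset.range i, g ^ j) * (g - 1)) :=
          Finset.sum_congr rfl (fun i _ => h1 i)
      _ = (n : Module.End K V) + ∑ i ∈ Finset.range n, (∑ j ∈ Finset.range i, g ^ j) * (g - 1) := by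
          rw [Finset.sum_add_distrib, Finset.sum_const, Finset.card_range, nsmul_one]
  have hRN : Commute R (g - 1) := by
    rw [hR]
    exact Commute.sum_left _ _ _ (fun i _ => Commute.sum_left _ _ _ (fun j _ => hcomm j))
  have hnil : IsNilpotent (R * (g - 1)) := Commute.isNilpotent_mul_left hRN hg
  have hunit_n : IsUnit ((n : ℕ) : Module.End K V) := by
    have h2 : ((n : ℕ) : Module.End K V) = algebraMap K (Module.End K V) (n : K) := by simp
    rw [h2]
    exact (IsUnit.mk0 _ (Nat.cast_ne_zero.2 hn.ne')).map _
  have hSunit : IsUnit S := by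
    rw [hS2]
    exact hnil.isUnit_add_left_of_commute hunit_n (Nat.cast_commute n _).symm
  have hSinj : Function.Injective S := ((Module.End.isUnit_iff S).1 hSunit).injective
  ext v
  simp only [LinearMap.mem_ker]
  rw [← hS1]
  constructor
  · intro h
    have h3 : S ((g - 1) v) = S 0 := by rw [map_zero]; exact h
    exact hSinj h3
  · intro h
    show S ((g - 1) v) = 0
    rw [h, map_zero]

end Groth.Agent.S17444
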