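import Groth.Statements.S17461
import Mathlib

set_option autoImplicit false
universe u
open CategoryTheory CategoryTheory.Limits AlgebraicGeometry
open Hensel

namespace Groth.Agent.S17461

/-- Let R be a henselian local ring and let X and Y be quasi-finite separated schemes over Spec R
(locally of finite type, quasi-compact, with discrete fibres, separated). Let W_X ⊆ X and W_Y ⊆ Y be
their finite parts: open and closed subsets which are finite over Spec R as open subschemes and
contain every point over the closed point. Then every morphism g : X → Y over Spec R carries W_X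
into W_Y. -/
theorem result (R : Type u) [CommRing R] [HenselianLocalRing R]
    {X Y : Scheme.{u}} (f : X ⟶ Spec (CommRingCat.of R)) (f' : Y ⟶ Spec (CommRingCat.of R))
    [LocallyQuasiFinite f] [LocallyOfFiniteType f] [QuasiCompact f] [IsSeparated f]
    [LocallyQuasiFinite f'] [LocallyOfFiniteType f'] [QuasiCompact f'] [IsSeparated f']
    (WX : X.Opens) (hWX : (IsClosed (WX : Set ↥X) ∧ IsFinite (WX.ι ≫ f) ∧ ∀ x : ↥X, f.base x = IsLocalRing.closedPoint R → x ∈ WX))
    (WY : Y.Opens) (hWY : (IsClosed (WY : Set ↥Y) ∧ IsFinite (WY.ι ≫ f') ∧ ∀ x : ↥Y, f'.base x = IsLocalRing.closedPoint R → x ∈ WY))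
    (g : X ⟶ Y) (hg : g ≫ f' = f) (x : X) (hx : x ∈ WX) :
    g.base x ∈ WY := by
  obtain ⟨-, hfin, hcl⟩ := hWX
  obtain ⟨-, -, hclY⟩ := hWY
  have : IsFinite (WX.ι ≫ f) := hfin
  let h := WX.ι ≫ f
  have hclosed : IsClosedMap h.base := h.isClosedMap
  let xw : WX := ⟨x, hx⟩
  have hC : IsClosed (h.base '' closure {xw}) := hclosed _ isClosed_closure
  have h1 : h.base xw ∈ h.base '' closure {xw} := ⟨xw, subset_closure rfl, rfl⟩
  have h2 : IsLocalRing.closedPoint R ∈ h.base '' closure {xw} :=
    (IsLocalRing.specializes_closedPoint (h.base xw)).mem_closed hC h1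
  obtain ⟨x₀, hx₀, hx₀'⟩ := h2
  have h3 : xw ⤳ x₀ := specializes_iff_mem_closure.mpr hx₀
  have h4 : x ⤳ WX.ι.base x₀ := h3.map WX.ι.continuous
  have h5 : g.base x ⤳ g.base (WX.ι.base x₀) := h4.map g.continuous
  have h6 : f'.base (g.base (WX.ι.base x₀)) = IsLocalRing.closedPoint R := by
    rw [← hx₀', ← Scheme.Hom.comp_apply, hg]
    rfl
  exact h5.mem_open WY.isOpen (hclY _ h6)

end Groth.Agent.S17461
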