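import Groth.Statements.S17469
import Mathlib
-- import your own Groth.Agent.* helpers here

set_option autoImplicit false
universe u
open CategoryTheory AlgebraicGeometry

open Variety

namespace Groth.Agent.S17469

/-- Let X be a locally Noetherian integral scheme all of whose local rings are integrally closed domains
and U an open subset of X. A section of O_X over U that is integral over the ring of global sections
of X, the latter acting through restriction, is itself the restriction of a global section. (The
published lemma is stated for an irreducible normal variety and for the graded ring of sections over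
U of all non-negative powers of a line bundle, integral over the corresponding ring of sections over
X; for the trivial line bundle its homogeneous components are the present statement, which is made
here for any locally Noetherian normal integral scheme.) -/
theorem result
    (X : Scheme.{u}) [AlgebraicGeometry.IsIntegral X] [IsLocallyNoetherian X]
    (hX : Pi1.IsNormalScheme X) (U : X.Opens) (b : Γ(X, U))
    (hb : (X.presheaf.map (homOfLE le_top : U ⟶ ⊤).op).hom.IsIntegralElem b) :
    b ∈ Set.range (X.presheaf.map (homOfLE le_top : U ⟶ ⊤).op).hom := by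
  classical
  by_cases hUe : Nonempty U
  swap
  · have hU : U = ⊥ := by
      rw [eq_bot_iff]; intro x hx; exact (hUe ⟨⟨x, hx⟩⟩).elim
    subst hU
    exact ⟨0, Subsingleton.elim _ _⟩
  haveI := hUe
  haveI : Nonempty (⊤ : X.Opens) := ⟨⟨hUe.some.1, trivial⟩⟩
  have hres : ∀ (V W : X.Opens) (hVW : V ≤ W) [Nonempty V] [Nonempty W] (s : Γ(X, W)),
      X.germToFunctionField V (X.presheaf.map (homOfLE hVW).op s) =
        X.germToFunctionField W s := by
    intro V W hVW _ _ s
    exact TopCat.Presheaf.germ_res_apply X.presheaf (homOfLE hVW) _ _ s
  have hint : ∀ x : X, ∃ (V : X.Opens) (hxV : x ∈ V) (t : Γ(X, V)),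
      haveI : Nonempty V := ⟨⟨x, hxV⟩⟩
      X.germToFunctionField V t = X.germToFunctionField U b := by
    intro x
    obtain ⟨hdom, hic⟩ := hX x
    have hβint : IsIntegral (X.presheaf.stalk x) (X.germToFunctionField U b) := by
      obtain ⟨P, hPm, hP⟩ := hb
      refine ⟨P.map (X.presheaf.germ ⊤ x trivial).hom, hPm.map _, ?_⟩
      rw [Polynomial.eval₂_map]
      have hcomp : (algebraMap (X.presheaf.stalk x) X.functionField).comp
          (X.presheaf.germ ⊤ x trivial).hom =
          (X.germToFunctionField U).hom.comp (X.presheaf.map (homOfLE le_top : U ⟶ ⊤).op).hom := by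
        ext s
        simp only [RingHom.comp_apply]
        erw [Scheme.algebraMap_germ_eq_germToFunctionField]
        exact (hres U ⊤ le_top s).symm
      rw [hcomp]
      have := Polynomial.hom_eval₂ P (X.presheaf.map (homOfLE le_top : U ⟶ ⊤).op).hom
        (X.germToFunctionField U).hom b
      erw [← this, hP, map_zero]
    obtain ⟨y, hy⟩ := IsIntegrallyClosed.algebraMap_eq_of_integral hβint
    obtain ⟨V, hxV, t, rfl⟩ := TopCat.Presheaf.exists_germ_eq X.presheaf y
    haveI hVn : Nonempty V := ⟨⟨x, hxV⟩⟩
    refine ⟨V, hxV, t, ?_⟩
    rw [← hy]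
    exact (Scheme.algebraMap_germ_eq_germToFunctionField X hxV t).symm
  choose V hxV t ht using hint
  haveI hVne : ∀ x, Nonempty (V x) := fun x => ⟨⟨x, hxV x⟩⟩
  have hcompat : TopCat.Presheaf.IsCompatible X.presheaf V t := by
    intro x y
    by_cases hne : Nonempty (V x ⊓ V y : X.Opens)
    · haveI := hne
      apply X.germToFunctionField_injective (V x ⊓ V y)
      have h1 := hres (V x ⊓ V y) (V x) inf_le_left (t x)
      have h2 := hres (V x ⊓ V y) (V y) inf_le_right (t y)
      exact (h1.trans (ht x)).trans ((h2.trans (ht y)).symm)
    · have hbot : V x ⊓ V y = ⊥ := by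
        rw [eq_bot_iff]; intro z hz; exact (hne ⟨⟨z, hz⟩⟩).elim
      haveI : Subsingleton Γ(X, V x ⊓ V y) := by rw [hbot]; infer_instance
      exact Subsingleton.elim _ _
  obtain ⟨s, hs, -⟩ := X.sheaf.existsUnique_gluing' V ⊤ (fun x => homOfLE le_top)
    (fun x _ => TopologicalSpace.Opens.mem_iSup.2 ⟨x, hxV x⟩) t hcompat
  refine ⟨s, ?_⟩
  apply X.germToFunctionField_injective U
  have h1 := hres U ⊤ le_top s
  refine h1.trans ?_
  have x : X := hUe.some.1
  have h2 := hres (V x) ⊤ le_top s
  exact (h2.symm.trans (congrArg _ (hs x))).trans (ht x)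

end Groth.Agent.S17469
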