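import Groth.Statements.S17471
import Mathlib.LinearAlgebra.RootSystem.Base
import Mathlib.LinearAlgebra.RootSystem.Finite.Lemmas
import Mathlib.Tactic.LinearCombination

set_option autoImplicit false
universe u v w x
open RootCh

namespace Groth.Agent.S17471

/-- Let Φ be a finite, reduced, crystallographic, irreducible root system with a base, and θ a positive
root such that θ + β is a root for no positive root β (so θ is the highest root). Then Σ_{β>0} ⟨β,
θ^∨⟩² = 2 + Σ_{β>0} ⟨β, θ^∨⟩ = 2(1 + ⟨ρ, θ^∨⟩), ρ being half the sum of the positive roots; in the
source the left side is the index of the adjoint representation obtained from its formal character,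
and 1 + ⟨ρ, θ^∨⟩ is the dual Coxeter number. -/
theorem result
    {ι : Type u} {R : Type v} {M : Type w} {N : Type x}
    [Field R] [LinearOrder R] [IsStrictOrderedRing R]
    [AddCommGroup M] [Module R M] [AddCommGroup N] [Module R N] [Fintype ι]
    (P : RootPairing ι R M N) [P.IsRootSystem] [P.IsCrystallographic] [P.IsReduced]
    [P.IsIrreducible] (b : P.Base) (θ : ι) (hθ : b.IsPos θ)
    (hmax : ∀ i : ι, b.IsPos i → P.root θ + P.root i ∉ Set.range P.root) :
    ∑ i ∈ Finset.univ.filter (fun i => 0 < b.height i), P.pairing i θ ^ 2 =
      2 + ∑ i ∈ Finset.univ.filter (fun i => 0 < b.height i), P.pairing i θ := by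
  classical
  have hnegpos : ∀ k : ι, b.IsPos k → ¬ b.IsPos (P.reflectionPerm k k) := by
    intro k hk hk'
    have h2 : b.height (P.reflectionPerm k k) = - b.height k := b.height_reflectionPerm_self k
    rw [RootPairing.Base.isPos_iff] at hk hk'
    omega
  have hposneg : ∀ k : ι, ¬ b.IsPos k → b.IsPos (P.reflectionPerm k k) := by
    intro k hk
    have h2 : b.height (P.reflectionPerm k k) = - b.height k := b.height_reflectionPerm_self k
    have h3 := b.height_ne_zero k
    rw [RootPairing.Base.isPos_iff] at hk ⊢
    omega
  have hrootneg : ∀ k : ι, P.root (P.reflectionPerm k k) = - P.root k := by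
    intro k; simp
  -- the values of the pairing with the highest root
  have hval : ∀ i : ι, b.IsPos i → i ≠ θ → P.pairingIn ℤ i θ = 0 ∨ P.pairingIn ℤ i θ = 1 := by
    intro i hi hiθ
    set m := P.pairingIn ℤ i θ with hm
    have hm0 : 0 ≤ m := by
      by_contra hneg
      push Not at hneg
      have hne : P.root i ≠ - P.root θ := by
        intro h
        have : i = P.reflectionPerm θ θ := P.root.injective (by rw [hrootneg, h])
        rw [this] at hi
        exact hnegpos θ hθ hi
      have := P.root_add_root_mem_of_pairingIn_neg hneg hne
      rw [add_comm] at this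
      exact hmax i hi this
    have hm1 : m ≤ 1 := by
      by_contra hgt
      push Not at hgt
      -- `root i - root θ` is a root `γ`, necessarily negative
      obtain ⟨γ, hγ⟩ := P.root_sub_root_mem_of_pairingIn_pos (i := i) (j := θ) (by omega) hiθ
      have hγneg : ¬ b.IsPos γ := by
        intro hγpos
        apply hmax γ hγpos
        rw [hγ]
        exact ⟨i, by abel⟩
      have hht : b.height i < b.height θ := by
        have h1 : b.height γ = b.height i - b.height θ := b.height_sub hγ
        have h2 := hposneg γ hγneg
        have h3 : b.height (P.reflectionPerm γ γ) = - b.height γ := b.height_reflectionPerm_self γ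
        rw [RootPairing.Base.isPos_iff] at h2
        omega
      -- the reflected root
      set k := P.reflectionPerm θ i with hk
      have hkroot : P.root k = P.root i - m • P.root θ := by
        rw [hk, P.root_reflectionPerm, P.reflection_apply_root' ℤ]
      have hkpair : P.pairingIn ℤ k θ = - m := by
        have hcastm : ((m : ℤ) : R) = P.pairing i θ := P.algebraMap_pairingIn ℤ i θ
        have : P.pairing k θ = - P.pairing i θ := by
          rw [← P.root_coroot_eq_pairing k θ, hkroot, map_sub, map_zsmul, LinearMap.sub_apply,
            LinearMap.smul_apply, P.root_coroot_eq_pairing, P.root_coroot_eq_pairing,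
            P.pairing_same, zsmul_eq_mul, hcastm]
          ring
        apply FaithfulSMul.algebraMap_injective ℤ R
        rw [P.algebraMap_pairingIn, this, map_neg, P.algebraMap_pairingIn]
      have hkne : P.root k ≠ - P.root θ := by
        intro h
        have h1 : k = P.reflectionPerm θ θ := P.root.injective (by rw [hrootneg, h])
        have h2 : i = θ := by
          have := congrArg (P.reflectionPerm θ) h1
          rw [hk, P.reflectionPerm_self, P.reflectionPerm_self] at this
          exact this
        exact hiθ h2
      obtain ⟨k', hk'⟩ := P.root_add_root_mem_of_pairingIn_neg (i := k) (j := θ)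
        (by rw [hkpair]; omega) hkne
      -- `ε = -k'`
      set ε := P.reflectionPerm k' k' with hε
      have hεroot : P.root ε = P.root θ + (m - 2) • P.root θ + (-1 : ℤ) • P.root i := by
        rw [hε, hrootneg, hk', hkroot]
        module
      have hεht : b.height ε = (m - 1) * b.height θ - b.height i := by
        have h1 : b.height ε = - b.height k' := b.height_reflectionPerm_self k'
        have h2 : b.height k' = b.height k + b.height θ := b.height_add hk'
        have h3 : b.height k = b.height i + (-m) * b.height θ := by
          apply b.height_add_zsmul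
          rw [hkroot, neg_smul, sub_eq_add_neg]
        rw [h1, h2, h3]
        ring
      have hεpos : b.IsPos ε := by
        rw [RootPairing.Base.isPos_iff, hεht]
        have h0 : 0 < b.height θ := hθ
        nlinarith
      apply hmax ε hεpos
      refine ⟨P.reflectionPerm k k, ?_⟩
      rw [hrootneg, hεroot, hkroot]
      module
    omega
  have hsplit : ∀ i ∈ Finset.univ.filter (fun i => 0 < b.height i),
      P.pairing i θ ^ 2 - P.pairing i θ = if i = θ then 2 else 0 := by
    intro i hi
    have hipos : b.IsPos i := (Finset.mem_filter.mp hi).2
    by_cases hiθ : i = θ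
    · rw [if_pos hiθ, hiθ, P.pairing_same]
      norm_num
    · rw [if_neg hiθ]
      have hcast : ((P.pairingIn ℤ i θ : ℤ) : R) = P.pairing i θ := P.algebraMap_pairingIn ℤ i θ
      rcases hval i hipos hiθ with h | h
      · rw [← hcast, h]; simp
      · rw [← hcast, h]; simp
  have hsum : ∑ i ∈ Finset.univ.filter (fun i => 0 < b.height i),
      (P.pairing i θ ^ 2 - P.pairing i θ) = 2 := by
    rw [Finset.sum_congr rfl hsplit, Finset.sum_ite_eq']
    rw [if_pos]
    exact Finset.mem_filter.mpr ⟨Finset.mem_univ _, hθ⟩
  rw [Finset.sum_sub_distrib] at hsum
  linear_combination hsum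

end Groth.Agent.S17471
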