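import Groth.Statements.S17512
import Groth.Agent.Lib.ThetaLagr_helper3
-- import your own Groth.Agent.* helpers here

set_option autoImplicit false
universe u
open ThetaRep


namespace Groth.Agent.S17512

/-- For the group of k-points of a non-degenerate theta group with constant K, let k be an algebraically
closed field and Γ a group given with an injective homomorphism ι from kˣ onto the centre of Γ such
that K = Γ/ι(kˣ) is finite and commutative (all commutators lie in ι(kˣ)) of order prime to the
characteristic exponent of k — the group of k-points of a non-degenerate theta group 1 → G_m → G → K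
→ 1 with rank(K) prime to char(k). Subgroups of K correspond to subgroups H of Γ containing ι(kˣ);
such an H is totally isotropic for the commutator pairing exactly when it is commutative, and its
orthogonal corresponds to the centralizer of H. For a subgroup H ⊇ ι(kˣ) the following are
equivalent: (i) H is commutative and maximal among commutative subgroups of Γ; (ii) H is commutative
and [H : ι(kˣ)]² = [Γ : ι(kˣ)]; (iii) H is its own centralizer. (The published lemma is for an
arbitrary non-degenerate theta group scheme, where (iii) ⇔ (ii) ⇒ (i) always and (i) ⇒ (iii) needs k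
algebraically closed; this row is the case of the group of k-points with K constant.) -/
theorem result
    (k : Type u) [Field k] [IsAlgClosed k]
    (Γ : Type u) [Group Γ] (ι : kˣ →* Γ) (hι : Function.Injective ι)
    (hcent : ι.range = Subgroup.center Γ) (hcomm : commutator Γ ≤ ι.range)
    [Finite (Γ ⧸ ι.range)] (hcop : (Nat.card (Γ ⧸ ι.range)).Coprime (ringExpChar k))
    (H : Subgroup Γ) (hH : ι.range ≤ H) :
    List.TFAE [
      IsMulCommutative H ∧ ∀ H' : Subgroup Γ, IsMulCommutative H' → H ≤ H' → H' = H,
      IsMulCommutative H ∧ (ι.range.relIndex H) ^ 2 = ι.range.index,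
      H = Subgroup.centralizer (H : Set Γ)] := by
  classical
  haveI : Finite (Γ ⧸ Subgroup.center Γ) := hcent ▸ (inferInstance : Finite (Γ ⧸ ι.range))
  haveI : (Subgroup.center Γ).FiniteIndex := Subgroup.finiteIndex_of_finite_quotient
  let e : kˣ ≃* ι.range := MonoidHom.ofInjective hι
  let θ : Subgroup.center Γ →* kˣ :=
    e.symm.toMonoidHom.comp (MulEquiv.subgroupCongr hcent.symm).toMonoidHom
  have hθ : Function.Injective θ :=
    e.symm.injective.comp (MulEquiv.subgroupCongr hcent.symm).injective
  have hcomm' : commutator Γ ≤ Subgroup.center Γ := by rw [← hcent]; exact hcomm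
  have hH' : Subgroup.center Γ ≤ H := by rw [← hcent]; exact hH
  have := Groth.Agent.Lib.ThetaLagrH3.tfae θ hθ hcomm' H hH'
  rw [hcent]
  exact this

end Groth.Agent.S17512
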