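import Groth.Statements.S17526
import Groth.Agent.Lib.InvRey_helper9

set_option autoImplicit false
universe u
open GLin

open Groth.Agent.Lib.LinRed_helper9 Groth.Agent.Lib.Integral_helper9 Groth.Agent.Lib.InvRey_helper9 Groth.Agent.Lib.Comod_helper9
namespace Groth.Agent.S17526

/-- Let `k` be a field, `H` a commutative Hopf algebra of finite type over `k` which is linearly
reductive (every finite-dimensional comodule is semisimple; `G = Spec H` is a linearly reductive
affine group), and `A` a Noetherian commutative `k`-algebra with a coaction of `H` that is an
algebra map (an action of `G` on `Spec A`). Then the ring of invariants `A^G` is Noetherian. (The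
published corollary is stated over an algebraically closed field; it is the affine case of a
statement about good moduli spaces valid over any field, and is stated here over any field.) -/
theorem result
    (k : Type u) [Field k] (H : Type u) [CommRing H] [HopfAlgebra k H] [Algebra.FiniteType k H]
    (hG : HopfRep.IsLinearlyReductive k H)
    (A : Type u) [CommRing A] [Algebra k A] [IsNoetherianRing A]
    [HopfRep.Comod k H A] [GLin.IsCoactAlg k H A] :
    IsNoetherianRing ↥(GLin.invariants k H A) := by
  obtain ⟨β, hβ, h1⟩ := exists_leftIntegral k H hG
  have hinj : ∀ I J : Ideal (GLin.invariants k H A),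
      Ideal.map (GLin.invariants k H A).val.toRingHom I ≤
        Ideal.map (GLin.invariants k H A).val.toRingHom J → I ≤ J := by
    intro I J hIJ
    rw [← comap_map_invariants k H β A hβ h1 I, ← comap_map_invariants k H β A hβ h1 J]
    exact Ideal.comap_mono hIJ
  have hsm : StrictMono (fun I : Ideal (GLin.invariants k H A) =>
      Ideal.map (GLin.invariants k H A).val.toRingHom I) := by
    intro I J hIJ
    refine lt_of_le_of_ne (Ideal.map_mono hIJ.le) ?_
    intro heq
    exact hIJ.ne (le_antisymm hIJ.le (hinj J I heq.ge))
  rw [isNoetherianRing_iff, isNoetherian_iff']
  haveI : WellFoundedGT (Ideal A) := (isNoetherian_iff' (R := A) (M := A)).mp inferInstance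
  exact hsm.wellFoundedGT

end Groth.Agent.S17526
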