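import Groth.Statements.S17530
import Groth.Agent.Lib.InvRey_helper9

set_option autoImplicit false
universe u
open GLin

open Groth.Agent.Lib.LinRed_helper9 Groth.Agent.Lib.Integral_helper9 Groth.Agent.Lib.InvRey_helper9 Groth.Agent.Lib.Comod_helper9
open TensorProduct
namespace Groth.Agent.S17530

/-- Let `k` be a field, `H` a commutative Hopf algebra of finite type over `k` which is linearly
reductive (every finite-dimensional comodule semisimple; `G = Spec H`), `A` a commutative
`k`-algebra of finite type with a coaction of `H` that is an algebra map (an action of `G` on `Spec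
A`), and `M` a finitely generated `A`-module with an `H`-coaction compatible with the module
structure and with the coaction on `A` (a `G`-equivariant coherent module on `Spec A`). Then the
invariants `M^G` form a finitely generated module over the ring of invariants `A^G`. (The published
corollary is stated over an algebraically closed field; it is the affine case of a statement about
good moduli spaces valid over any Noetherian base, and is stated here over any field.) -/
theorem result
    (k : Type u) [Field k] (H : Type u) [CommRing H] [HopfAlgebra k H] [Algebra.FiniteType k H]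
    (hG : HopfRep.IsLinearlyReductive k H)
    (A : Type u) [CommRing A] [Algebra k A] [Algebra.FiniteType k A]
    [HopfRep.Comod k H A] [GLin.IsCoactAlg k H A]
    (M : Type u) [AddCommGroup M] [Module k M] [Module A M] [IsScalarTower k A M] [Module.Finite A M]
    [HopfRep.Comod k H M] [TameAct.IsHopfMod k H A M] :
    ∃ s : Finset M, (↑s : Set M) ⊆ ↑(HopfRep.fixedPts k H M) ∧
      (↑(HopfRep.fixedPts k H M) : Set M) ⊆
        ↑(Submodule.span ↥(GLin.invariants k H A) (↑s : Set M)) := by
  classical
  obtain ⟨β, hβ, h1⟩ := exists_leftIntegral k H hG
  haveI : IsNoetherianRing A := Algebra.FiniteType.isNoetherianRing k A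
  haveI : IsNoetherian A M := isNoetherian_of_isNoetherianRing_of_finite A M
  have hfg : (Submodule.span A (HopfRep.fixedPts k H M : Set M)).FG := IsNoetherian.noetherian _
  obtain ⟨s, hs_sub, hs_span⟩ :=
    (Submodule.fg_span_iff_fg_span_finset_subset (HopfRep.fixedPts k H M : Set M)).mp hfg
  refine ⟨s, hs_sub, ?_⟩
  intro m hm
  have hmP : m ∈ Submodule.span A (s : Set M) := by
    rw [← hs_span]; exact Submodule.subset_span hm
  obtain ⟨f, -, hf⟩ := Submodule.mem_span_finset.mp hmP
  have hR : ∀ b : A, rey k H β A b ∈ GLin.invariants k H A :=
    fun b => rey_mem_fixedPts k H β A hβ b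
  have hm2 : m = ∑ i ∈ s, (⟨rey k H β A (f i), hR (f i)⟩ : GLin.invariants k H A) • i := by
    have e1 : rey k H β M m = m := rey_of_mem_fixedPts k H β M h1 m hm
    rw [← e1, ← hf, map_sum]
    refine Finset.sum_congr rfl (fun i hi => ?_)
    rw [rey_smul_of_fixed k H β A M (f i) i (hs_sub hi)]
    rfl
  show m ∈ Submodule.span ↥(GLin.invariants k H A) (↑s : Set M)
  rw [hm2]
  exact Submodule.sum_mem _ (fun i hi => Submodule.smul_mem _ _ (Submodule.subset_span hi))

end Groth.Agent.S17530
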