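import Groth.Statements.S17537
import Mathlib

set_option autoImplicit false
universe u v
open CAlg

namespace Groth.Agent.S17537

/-- For a commutative ring A, an ideal I and an A-module M, the I-adic completion M^ of M is itself
I-adically complete if and only if, for every n, every element of M^ is congruent modulo I^n M^ to
the image of an element of M (the maps M/I^n M → M^/I^n M^ are surjective). -/
theorem result {A : Type u} [CommRing A] (I : Ideal A)
    (M : Type v) [AddCommGroup M] [Module A M] :
    IsAdicComplete I (AdicCompletion I M) ↔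
      ∀ (n : ℕ) (x : AdicCompletion I M), ∃ y : M,
        x - AdicCompletion.of I M y ∈ (I ^ n • ⊤ : Submodule A (AdicCompletion I M)) := by
  classical
  have hker : ∀ n : ℕ, (I ^ n • ⊤ : Submodule A (AdicCompletion I M))
      ≤ LinearMap.ker (AdicCompletion.eval I M n) := by
    intro n
    rw [Submodule.smul_le]
    intro r hr x _
    rw [LinearMap.mem_ker, map_smul]
    obtain ⟨y, hy⟩ := Submodule.Quotient.mk_surjective _ (AdicCompletion.eval I M n x)
    rw [← hy, ← Submodule.Quotient.mk_smul, Submodule.Quotient.mk_eq_zero]
    exact Submodule.smul_mem_smul hr trivial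
  have hof : ∀ (n : ℕ) (y : M), y ∈ (I ^ n • ⊤ : Submodule A M) →
      AdicCompletion.of I M y ∈ (I ^ n • ⊤ : Submodule A (AdicCompletion I M)) := by
    intro n y hy
    have h1 : AdicCompletion.of I M y ∈
        Submodule.map (AdicCompletion.of I M) (I ^ n • ⊤ : Submodule A M) :=
      Submodule.mem_map_of_mem hy
    rw [Submodule.map_smul''] at h1
    exact Submodule.smul_mono le_rfl le_top h1
  constructor
  · intro hc n x
    choose y hy using fun k =>
      Submodule.Quotient.mk_surjective (I ^ k • ⊤ : Submodule A M) (x.val k)
    have hcauchy : ∀ {m n : ℕ}, m ≤ n → AdicCompletion.of I M (y m) ≡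
        AdicCompletion.of I M (y n) [SMOD (I ^ m • ⊤ : Submodule A (AdicCompletion I M))] := by
      intro m n hmn
      rw [SModEq.sub_mem, ← map_sub]
      apply hof
      rw [← Submodule.Quotient.mk_eq_zero, Submodule.Quotient.mk_sub, hy m, sub_eq_zero]
      rw [← AdicCompletion.transitionMap_comp_eval_apply I M hmn x, ← hy n]
      rfl
    obtain ⟨L, hL⟩ := IsPrecomplete.prec' (I := I) (fun k => AdicCompletion.of I M (y k)) hcauchy
    have hLx : L = x := by
      apply AdicCompletion.ext
      intro k
      have h1 := hL k
      rw [SModEq.sub_mem] at h1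
      have h2 := hker k h1
      rw [LinearMap.mem_ker, map_sub, sub_eq_zero] at h2
      rw [← AdicCompletion.eval_apply, ← h2, AdicCompletion.eval_of]
      exact hy k
    refine ⟨y n, ?_⟩
    rw [← hLx]
    have h1 := (hL n).symm
    rwa [SModEq.sub_mem] at h1
  · intro H
    have hkerle : ∀ n : ℕ, LinearMap.ker (AdicCompletion.eval I M n)
        ≤ (I ^ n • ⊤ : Submodule A (AdicCompletion I M)) := by
      intro n z hz
      obtain ⟨y, hy⟩ := H n z
      have h1 := hker n hy
      rw [LinearMap.mem_ker, map_sub, LinearMap.mem_ker.mp hz, zero_sub, neg_eq_zero,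
        AdicCompletion.eval_of, Submodule.mkQ_apply, Submodule.Quotient.mk_eq_zero] at h1
      have h2 := hof n y h1
      have h3 : z = (z - AdicCompletion.of I M y) + AdicCompletion.of I M y := by abel
      rw [h3]
      exact Submodule.add_mem _ hy h2
    refine { toIsHausdorff := inferInstance, toIsPrecomplete := ⟨?_⟩ }
    intro g hg
    have hval : ∀ {m n : ℕ}, m ≤ n → (g n).val m = (g m).val m := by
      intro m n hmn
      have h1 := hg hmn
      rw [SModEq.sub_mem] at h1
      have h2 := hker m h1
      rw [LinearMap.mem_ker, map_sub, sub_eq_zero] at h2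
      exact h2.symm
    have hcompat : ∀ {m n : ℕ} (hmn : m ≤ n),
        AdicCompletion.transitionMap I M hmn ((g n).val n) = (g m).val m := by
      intro m n hmn
      rw [AdicCompletion.transitionMap_comp_eval_apply I M hmn (g n)]
      exact hval hmn
    refine ⟨⟨fun n => (g n).val n, hcompat⟩, fun n => ?_⟩
    rw [SModEq.sub_mem]
    apply hkerle
    rw [LinearMap.mem_ker, map_sub, sub_eq_zero]
    rfl

end Groth.Agent.S17537
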