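import Groth.Statements.S17538
import Mathlib

set_option autoImplicit false
universe u v
open CAlg

namespace Groth.Agent.S17538

/-- For a commutative ring A, an ideal I and an A-module M, the canonical map from the I-adic completion
M^ to the I-adic completion of M^ admits an A-linear retraction (it is a split injection). (That M^
is I-adically separated is standard.) -/
theorem result {A : Type u} [CommRing A] (I : Ideal A)
    (M : Type v) [AddCommGroup M] [Module A M] :
    ∃ ψ : AdicCompletion I (AdicCompletion I M) →ₗ[A] AdicCompletion I M,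
      ψ ∘ₗ AdicCompletion.of I (AdicCompletion I M) = LinearMap.id := by
  classical
  have hker : ∀ n : ℕ, (I ^ n • ⊤ : Submodule A (AdicCompletion I M))
      ≤ LinearMap.ker (AdicCompletion.eval I M n) := by
    intro n
    rw [Submodule.smul_le]
    intro r hr x _
    rw [LinearMap.mem_ker, map_smul]
    obtain ⟨y, hy⟩ := Submodule.Quotient.mk_surjective _ (AdicCompletion.eval I M n x)
    rw [← hy, ← Submodule.Quotient.mk_smul, Submodule.Quotient.mk_eq_zero]
    exact Submodule.smul_mem_smul hr trivial
  let e : ∀ n : ℕ, (AdicCompletion I M ⧸ (I ^ n • ⊤ : Submodule A (AdicCompletion I M)))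
      →ₗ[A] M ⧸ (I ^ n • ⊤ : Submodule A M) :=
    fun n => Submodule.liftQ _ (AdicCompletion.eval I M n) (hker n)
  let f : ∀ n : ℕ, AdicCompletion I (AdicCompletion I M) →ₗ[A] M ⧸ (I ^ n • ⊤ : Submodule A M) :=
    fun n => e n ∘ₗ AdicCompletion.eval I (AdicCompletion I M) n
  have hcompat : ∀ {m n : ℕ} (hle : m ≤ n),
      AdicCompletion.transitionMap I M hle ∘ₗ f n = f m := by
    intro m n hle
    apply LinearMap.ext
    intro z
    obtain ⟨w, hw⟩ := Submodule.Quotient.mk_surjective _ (z.val n)
    have hm : z.val m = Submodule.Quotient.mk w := by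
      rw [← AdicCompletion.transitionMap_comp_eval_apply I (AdicCompletion I M) hle z, ← hw]
      rfl
    show AdicCompletion.transitionMap I M hle (e n (z.val n)) = e m (z.val m)
    rw [hm, ← hw]
    show AdicCompletion.transitionMap I M hle (w.val n) = w.val m
    exact AdicCompletion.transitionMap_comp_eval_apply I M hle w
  refine ⟨AdicCompletion.lift I f hcompat, ?_⟩
  apply LinearMap.ext
  intro x
  apply AdicCompletion.ext
  intro n
  rfl

end Groth.Agent.S17538
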