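import Groth.Statements.S17540
import Groth.Agent.Lib.Decaying3_helper3
-- import your own Groth.Agent.* helpers here

set_option autoImplicit false
universe u v w
open W4c5adicflatcompl
open Groth.Agent.Lib.Decaying_helper3 Groth.Agent.Lib.Decaying2_helper3 Groth.Agent.Lib.Decaying3_helper3
open CAlg

namespace Groth.Agent.S17540

/-- Let A be I-adically complete, M an I-adically complete A-module and m : Z → M a family. The images
of the m z generate M/IM (the span of the family together with IM is all of M) if and only if the
family I-adically generates M: every x in M is the I-adically convergent sum of g z • m z for some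
I-adically decaying function g : Z → A. -/
theorem result {A : Type u} [CommRing A] (I : Ideal A) [IsAdicComplete I A]
    (M : Type v) [AddCommGroup M] [Module A M] [IsAdicComplete I M] (Z : Type w) (m : Z → M) :
    Submodule.span A (Set.range m) ⊔ I • ⊤ = ⊤ ↔
      ∀ x : M, ∃ g : Z → A, g ∈ decaying I Z A ∧
        ∀ n : ℕ, ∃ S : Finset Z,
          (∀ z, z ∉ S → g z • m z ∈ (I ^ n • ⊤ : Submodule A M)) ∧
          x - (∑ z ∈ S, g z • m z) ∈ (I ^ n • ⊤ : Submodule A M) := by
  rw [span_sup_eq_top_iff]
  constructor
  · intro h x
    obtain ⟨g, hg, hgx⟩ := h x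
    exact ⟨g, hg, fun n => hgx.tail n⟩
  · intro h x
    obtain ⟨g, hg, hgx⟩ := h x
    exact ⟨g, hg, HasDSum.of_tail hgx⟩

end Groth.Agent.S17540
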