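import Groth.Statements.S17544
import Groth.Agent.Lib.Decaying_helper3
-- import your own Groth.Agent.* helpers here

set_option autoImplicit false
universe u v w
open W4c5adicflatcompl
open Groth.Agent.Lib.Decaying_helper3
open CAlg

namespace Groth.Agent.S17544

/-- For a Noetherian ring A which is I-adically complete, a set Z and n ≥ 0, reduction modulo I^n maps
the decaying functions Z → A onto the finitely supported functions Z → A/I^n, and its kernel, the
decaying functions with all values in I^n, equals I^n times the module of decaying functions; so
(A/I^n) ⊗ F_dec(Z, A) → F_fin(Z, A/I^n) is bijective. -/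
theorem result {A : Type u} [CommRing A] [IsNoetherianRing A]
    (I : Ideal A) [IsAdicComplete I A] (Z : Type v) (n : ℕ) :
    (∀ g : Z →₀ A ⧸ I ^ n, ∃ f : decaying I Z A,
        ∀ z, Ideal.Quotient.mk (I ^ n) ((f : Z → A) z) = g z) ∧
      ∀ f : decaying I Z A,
        f ∈ (I ^ n • ⊤ : Submodule A (decaying I Z A)) ↔ ∀ z, (f : Z → A) z ∈ I ^ n := by
  classical
  constructor
  · intro g
    have hdec : (fun z => if g z = 0 then (0 : A) else Quotient.out (g z)) ∈ decaying I Z A := by
      apply mem_decaying_of_support_finite
      refine g.support.finite_toSet.subset ?_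
      intro z hz
      simp only [Function.mem_support, ne_eq] at hz
      simp only [Finset.mem_coe, Finsupp.mem_support_iff, ne_eq]
      intro h0
      exact hz (by simp [h0])
    refine ⟨⟨_, hdec⟩, fun z => ?_⟩
    show Ideal.Quotient.mk (I ^ n) (if g z = 0 then (0 : A) else Quotient.out (g z)) = g z
    split_ifs with h0
    · simp [h0]
    · exact Ideal.Quotient.mk_out (g z)
  · intro f
    constructor
    · intro hf z
      have := apply_mem_of_mem_smul_top _ hf z
      exact (mem_smul_top_self_iff _ _).mp this
    · intro hf
      apply mem_smul_top_of_forall_mem n (IsNoetherian.noetherian _)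
      intro z
      exact (mem_smul_top_self_iff _ _).mpr (hf z)

end Groth.Agent.S17544
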