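import Groth.Statements.S17545
import Groth.Agent.Lib.Decaying3_helper3
-- import your own Groth.Agent.* helpers here

set_option autoImplicit false
universe u v w
open W4c5adicflatcompl
open Groth.Agent.Lib.Decaying_helper3 Groth.Agent.Lib.Decaying2_helper3 Groth.Agent.Lib.Decaying3_helper3
open CAlg

namespace Groth.Agent.S17545

/-- For a Noetherian ring A which is I-adically complete and any set Z, the A-module of I-adically
decaying functions Z → A is flat. -/
theorem result {A : Type u} [CommRing A] [IsNoetherianRing A]
    (I : Ideal A) [IsAdicComplete I A] (Z : Type v) :
    Module.Flat A (decaying I Z A) := by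
  exact flat_decaying

end Groth.Agent.S17545
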