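import Groth.Statements.S17552
import Groth.Agent.Lib.Decaying5_helper3
-- import your own Groth.Agent.* helpers here

set_option autoImplicit false
universe u
open W4c5adicflatcompl
open Groth.Agent.Lib.Decaying_helper3 Groth.Agent.Lib.Decaying2_helper3 Groth.Agent.Lib.Decaying3_helper3 Groth.Agent.Lib.Decaying5_helper3
open CAlg

namespace Groth.Agent.S17552

/-- For a complete Noetherian local ring A (maximal ideal m, m-adic completion Â), an A-module M is
isomorphic to the module of m-adically decaying functions Z → Â for some set Z (m-adically free)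
exactly when M is flat and m-adically complete. M and Z live in the universe of A. -/
theorem result {A : Type u} [CommRing A] [IsNoetherianRing A] [IsLocalRing A]
    [IsAdicComplete (IsLocalRing.maximalIdeal A) A]
    (M : Type u) [AddCommGroup M] [Module A M] :
    IsAdicFree (IsLocalRing.maximalIdeal A) M ↔
      Module.Flat A M ∧ IsAdicComplete (IsLocalRing.maximalIdeal A) M := by
  classical
  have hI : (IsLocalRing.maximalIdeal A).FG := IsNoetherian.noetherian _
  haveI hAc : IsAdicComplete (IsLocalRing.maximalIdeal A)
    (AdicCompletion (IsLocalRing.maximalIdeal A) A) := AdicCompletion.isAdicComplete hI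
  constructor
  · rintro ⟨Z, ⟨e⟩⟩
    haveI hD : IsAdicComplete (IsLocalRing.maximalIdeal A)
      (decaying (IsLocalRing.maximalIdeal A) Z (AdicCompletion (IsLocalRing.maximalIdeal A) A)) :=
      isAdicComplete_decaying hI
    constructor
    · let E : decaying (IsLocalRing.maximalIdeal A) Z
          (AdicCompletion (IsLocalRing.maximalIdeal A) A) ≃ₗ[A]
          decaying (IsLocalRing.maximalIdeal A) Z A :=
        LinearEquiv.ofLinear
          (mapDec (IsLocalRing.maximalIdeal A) Z
            (AdicCompletion.ofLinearEquiv (IsLocalRing.maximalIdeal A) A).symm.toLinearMap)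
          (mapDec (IsLocalRing.maximalIdeal A) Z
            (AdicCompletion.ofLinearEquiv (IsLocalRing.maximalIdeal A) A).toLinearMap)
          (LinearMap.ext fun g => Subtype.ext (funext fun z => by simp))
          (LinearMap.ext fun g => Subtype.ext (funext fun z => by simp))
      haveI : Module.Flat A (decaying (IsLocalRing.maximalIdeal A) Z A) := flat_decaying
      exact Module.Flat.of_linearEquiv (e.trans E)
    · exact isAdicComplete_of_retract e.toLinearMap e.symm.toLinearMap
        (LinearMap.ext fun x => by simp)
  · rintro ⟨hflat, hcomp⟩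
    obtain ⟨Z, e, ha, hb⟩ := exists_basis_mod (A := A) M
    obtain ⟨φ, hφ⟩ := exists_linearMap_single_one (IsLocalRing.maximalIdeal A) hI e
    have hbij := bijective_of_basis_mod (IsLocalRing.maximalIdeal A) hI e ha hb φ hφ
    exact ⟨Z, ⟨(LinearEquiv.ofBijective φ hbij).symm⟩⟩

end Groth.Agent.S17552
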