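import Groth.Statements.S1758
import Mathlib
-- import your own Groth.Agent.* helpers here

set_option autoImplicit false
universe u
open LocCoh


namespace Groth.Agent.S1758

/-- Let A → B be a flat ring map. If a family f_1, …, f_r of elements of A is independent (every linear
relation has coefficients in the ideal the family generates), then so is the family of their images
in B. -/
theorem result (A B : Type u) [CommRing A] [CommRing B] [Algebra A B] [Module.Flat A B] (r : ℕ) (f : Fin r → A) (hf : Dual2.Independent f) : Dual2.Independent (fun i => algebraMap A B (f i)) := by
  intro b hb i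
  obtain ⟨k, a, y, hxy, hfa⟩ := Module.Flat.isTrivialRelation_of_sum_smul_eq_zero
    (R := A) (M := B) (f := f) (x := b) (by
      rw [← hb]
      apply Finset.sum_congr rfl
      intro i _
      exact (Algebra.smul_def _ _).trans (mul_comm _ _))
  rw [hxy i]
  refine Ideal.sum_mem _ fun j _ => ?_
  have haj : a i j ∈ Ideal.span (Set.range f) := by
    refine hf (fun i => a i j) ?_ i
    rw [← hfa j]
    apply Finset.sum_congr rfl
    intro i _
    rw [mul_comm]
  have hsm : a i j • y j = algebraMap A B (a i j) * y j := Algebra.smul_def _ _
  rw [hsm]
  apply Ideal.mul_mem_right
  have : Ideal.span (Set.range fun i => algebraMap A B (f i)) =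
      (Ideal.span (Set.range f)).map (algebraMap A B) := by
    rw [Ideal.map_span, ← Set.range_comp]; rfl
  rw [this]
  exact Ideal.mem_map_of_mem _ haj

end Groth.Agent.S1758
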