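import Groth.Statements.S17584
import Groth.Agent.Lib.Norm1_helper8

set_option autoImplicit false
open CategoryTheory CategoryTheory.Limits AlgebraicGeometry
open PosLin

namespace Groth.Agent.S17584

/-- Let X and Y each be a projective variety over the complex numbers (an integral scheme, proper over
ℂ, with an ample invertible module), and f : X → Y an algebraic fibre space (a surjective morphism
over ℂ with O_Y → f_*O_X an isomorphism). If X is normal, then Y is normal. -/
theorem result (X : Scheme.{0}) [X.Over (Spec (CommRingCat.of ℂ))] [IsIntegral X] [IsProper (X ↘ Spec (CommRingCat.of ℂ))]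
    (HX : X.Modules) (hHX : CohB1.IsAmple HX)
    (Y : Scheme.{0}) [Y.Over (Spec (CommRingCat.of ℂ))] [IsIntegral Y] [IsProper (Y ↘ Spec (CommRingCat.of ℂ))]
    (HY : Y.Modules) (hHY : CohB1.IsAmple HY)
    (f : X ⟶ Y) (hf : f ≫ (Y ↘ Spec (CommRingCat.of ℂ)) = X ↘ Spec (CommRingCat.of ℂ)) [Surjective f]
    (hfs : IsIso (ClSub.unitToPush f))
    (hX : Pi1.IsNormalScheme X) : Pi1.IsNormalScheme Y := by
  have hb : ∀ U : Y.Opens, Function.Bijective (f.app U) := by
    intro U
    haveI h1 : IsIso ((Scheme.Modules.toPresheafOfModules Y ⋙ PresheafOfModules.evaluation _ (Opposite.op U)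
        ⋙ forget₂ _ AddCommGrpCat).map (ClSub.unitToPush f)) := inferInstance
    have h2 := (ConcreteCategory.isIso_iff_bijective _).1
      (CategoryTheory.Functor.map_isIso (forget AddCommGrpCat) ((Scheme.Modules.toPresheafOfModules Y ⋙ PresheafOfModules.evaluation _ (Opposite.op U)
        ⋙ forget₂ _ AddCommGrpCat).map (ClSub.unitToPush f)))
    exact h2
  have hne : ∀ U : Y.Opens, Nonempty U → Nonempty (f ⁻¹ᵁ U) := by
    rintro U ⟨⟨y, hy⟩⟩
    obtain ⟨x, rfl⟩ := f.surjective y
    exact ⟨⟨x, hy⟩⟩
  intro y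
  exact ⟨inferInstance, NormH8.isIntegrallyClosed_stalk_of_fibration f hne hb (fun x => (hX x).2) y⟩

end Groth.Agent.S17584
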