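import Groth.Statements.S17592
import Groth.Agent.Lib.EtaleSection_lead

set_option autoImplicit false
universe u
open Hensel

namespace Groth.Agent.S17592

/-- Let R → S be an étale ring map and I an ideal of R such that the induced map R/I → S/IS is
bijective. Then a Henselization of the pair (S, IS), regarded as an R-algebra, is a Henselization of
the pair (R, I). -/
theorem result (R : Type u) [CommRing R] (I : Ideal R)
    (S : Type u) [CommRing S] [Algebra R S] [Algebra.Etale R S]
    (hq : Function.Bijective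
      (Ideal.quotientMap (I.map (algebraMap R S)) (algebraMap R S) Ideal.le_comap_map))
    (H : Type u) [CommRing H] [Algebra S H] [Algebra R H] [IsScalarTower R S H]
    (hH : Hens2.IsPairHenselization S (I.map (algebraMap R S)) H) :
    Hens2.IsPairHenselization R I H := by
  obtain ⟨hH1, hH2⟩ := hH
  have hmap : (I.map (algebraMap R S)).map (algebraMap S H) = I.map (algebraMap R H) := by
    rw [Ideal.map_map, ← IsScalarTower.algebraMap_eq]
  refine ⟨by rw [← hmap]; exact hH1, ?_⟩
  intro C _ J f hJ hle
  letI : Algebra R C := f.toAlgebra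
  have hmapJ : ∀ φ : S →ₐ[R] C, (I.map (algebraMap R S)).map φ.toRingHom ≤ J := by
    intro φ
    rw [Ideal.map_map]
    have : φ.toRingHom.comp (algebraMap R S) = f := RingHom.ext fun r => φ.commutes r
    rw [this]; exact hle
  let e : (R ⧸ I) ≃+* (S ⧸ I.map (algebraMap R S)) := RingEquiv.ofBijective _ hq
  have hIJ : I ≤ J.comap f := Ideal.map_le_iff_le_comap.1 hle
  let ρ₀ : S →+* C ⧸ J :=
    (Ideal.quotientMap J f hIJ).comp (e.symm.toRingHom.comp (Ideal.Quotient.mk _))
  have hρ₀ : ∀ r, ρ₀ (algebraMap R S r) = algebraMap R (C ⧸ J) r := fun r => by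
    show Ideal.quotientMap J f hIJ (e.symm (Ideal.Quotient.mk _ (algebraMap R S r))) = _
    have : Ideal.Quotient.mk (I.map (algebraMap R S)) (algebraMap R S r)
        = e (Ideal.Quotient.mk I r) := by
      show _ = Ideal.quotientMap (I.map (algebraMap R S)) (algebraMap R S) Ideal.le_comap_map
        (Ideal.Quotient.mk I r)
      rw [Ideal.quotientMap_mk]
    rw [this, e.symm_apply_apply, Ideal.quotientMap_mk]
    rfl
  let ρ : S →ₐ[R] C ⧸ J := { ρ₀ with commutes' := hρ₀ }
  obtain ⟨fS, -⟩ := Groth.Agent.Lib.EtaleSection.exists_algHom_lift hJ ρ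
  obtain ⟨g, hg, hgu⟩ := hH2 C J fS.toRingHom hJ (hmapJ fS)
  refine ⟨g, ?_, ?_⟩
  · show g.comp (algebraMap R H) = f
    rw [IsScalarTower.algebraMap_eq R S H, ← RingHom.comp_assoc, hg]
    exact RingHom.ext fun r => fS.commutes r
  · intro g₁ hg₁
    apply hgu
    show g₁.comp (algebraMap S H) = fS.toRingHom
    have hc₁ : ∀ r, (g₁.comp (algebraMap S H)) (algebraMap R S r) = algebraMap R C r := fun r => by
      show g₁ (algebraMap S H (algebraMap R S r)) = f r
      rw [← IsScalarTower.algebraMap_apply R S H r]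
      exact RingHom.congr_fun hg₁ r
    let f₁ : S →ₐ[R] C := { g₁.comp (algebraMap S H) with commutes' := hc₁ }
    have hf₁ : f₁ = fS := by
      refine Groth.Agent.Lib.EtaleSection.algHom_eq_of_sub_mem J hJ.jac f₁ fS (fun s => ?_)
      obtain ⟨z, hz⟩ := hq.2 (Ideal.Quotient.mk _ s)
      obtain ⟨r, rfl⟩ := Ideal.Quotient.mk_surjective z
      rw [Ideal.quotientMap_mk] at hz
      have hi : s - algebraMap R S r ∈ I.map (algebraMap R S) := by
        rw [← Ideal.Quotient.eq]; exact hz.symm
      have hs : s = algebraMap R S r + (s - algebraMap R S r) := by ring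
      rw [hs, map_add, map_add, AlgHom.commutes, AlgHom.commutes, add_sub_add_left_eq_sub]
      exact J.sub_mem (hmapJ f₁ (Ideal.mem_map_of_mem _ hi)) (hmapJ fS (Ideal.mem_map_of_mem _ hi))
    exact congrArg AlgHom.toRingHom hf₁

end Groth.Agent.S17592
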