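import Groth.Statements.S17598
import Groth.Agent.Lib.HfpEtale_lead
import Groth.Agent.Lib.EtLiftGlobal_lead
import Groth.Agent.Lib.PairHensExists_lead
import Groth.Agent.Lib.EtaleSection_lead
import Groth.Agent.Lib.PairHensQuot_lead
import Groth.Agent.S17609
import Groth.Agent.S17597
import Groth.Agent.S17596
import Groth.Agent.S17602

set_option autoImplicit false
universe u
open Hensel

namespace Groth.Agent.S17598

/-- Let (A, I) be a Henselian pair and let B be a Henselization of the pair (R₀, IR₀) for a finitely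
presented A-algebra R₀ (so A → B is a Henselian finitely presented map of Henselian pairs). Assume
that A/I^r → B/I^rB is étale for every r ≥ 1 (for Henselian finitely presented maps this is
equivalent to the h-formally étale lifting property). Then there exist an étale A-algebra R, a
Henselization H of the pair (R, IR) and a surjective A-algebra map H → B whose kernel is a finitely
generated ideal contained in I^n H for every n. -/
theorem result (A : Type u) [CommRing A] (I : Ideal A)
    [HenselianRing A I] (R₀ : Type u) [CommRing R₀] [Algebra A R₀] [Algebra.FinitePresentation A R₀]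
    (B : Type u) [CommRing B] [Algebra R₀ B] [Algebra A B] [IsScalarTower A R₀ B]
    (hB : Hens2.IsPairHenselization R₀ (I.map (algebraMap A R₀)) B)
    (het : ∀ r : ℕ, 1 ≤ r → Algebra.Etale (A ⧸ I ^ r) (B ⧸ (I ^ r).map (algebraMap A B))) :
    ∃ (R : Type u) (_ : CommRing R) (_ : Algebra A R) (H : Type u) (_ : CommRing H) (_ : Algebra R H)
      (_ : Algebra A H) (_ : IsScalarTower A R H),
      Algebra.Etale A R ∧ Hens2.IsPairHenselization R (I.map (algebraMap A R)) H ∧
      ∃ φ : H →ₐ[A] B, Function.Surjective φ ∧ (RingHom.ker φ).FG ∧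
        ∀ n : ℕ, RingHom.ker φ ≤ (I ^ n).map (algebraMap A H) := by
  classical
  have hmapB : (I.map (algebraMap A R₀)).map (algebraMap R₀ B) = I.map (algebraMap A B) := by
    rw [Ideal.map_map, ← IsScalarTower.algebraMap_eq]
  have hBI : HenselianRing B (I.map (algebraMap A B)) := by rw [← hmapB]; exact hB.1
  haveI het1 : Algebra.Etale (A ⧸ I) (B ⧸ I.map (algebraMap A B)) :=
    Groth.Agent.Lib.HfpEtale.etale_quot_congr (I ^ 1) I (pow_one I) (het 1 le_rfl)
  obtain ⟨R, _, _, hRet, ⟨ε⟩⟩ :=
    Groth.Agent.Lib.EtLiftGlobal.exists_etale_lift A I (B ⧸ I.map (algebraMap A B))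
  haveI := hRet
  haveI : Algebra.FinitePresentation A R := hRet.finitePresentation
  obtain ⟨H, _, _, hH1, hH2⟩ :=
    Groth.Agent.Lib.PairHensExists.exists_henselization R (I.map (algebraMap A R))
  have hH : Hens2.IsPairHenselization R (I.map (algebraMap A R)) H := ⟨hH1, hH2⟩
  letI algAH : Algebra A H := ((algebraMap R H).comp (algebraMap A R)).toAlgebra
  haveI towAH : IsScalarTower A R H := IsScalarTower.of_algebraMap_eq (fun _ => rfl)
  have hmapH : (I.map (algebraMap A R)).map (algebraMap R H) = I.map (algebraMap A H) := by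
    rw [Ideal.map_map, ← IsScalarTower.algebraMap_eq]
  haveI hHI : HenselianRing H (I.map (algebraMap A H)) := by rw [← hmapH]; exact hH1
  -- the map `R → B/IB`
  let ρ : R →ₐ[A] (B ⧸ I.map (algebraMap A B)) :=
    (ε.toAlgHom.restrictScalars A).comp
      (Algebra.TensorProduct.includeRight : R →ₐ[A] TensorProduct A (A ⧸ I) R)
  have hρ : ∀ r, ρ r = ε ((1 : A ⧸ I) ⊗ₜ[A] r) := fun _ => rfl
  have hρs : Function.Surjective ρ := by
    intro w
    obtain ⟨t, rfl⟩ := ε.surjective w
    obtain ⟨r, rfl⟩ := Algebra.TensorProduct.includeRight_surjective (R := A) (S := A ⧸ I) R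
      Ideal.Quotient.mk_surjective t
    exact ⟨r, rfl⟩
  obtain ⟨fR, hfR⟩ := Groth.Agent.Lib.EtaleSection.exists_algHom_lift hBI ρ
  have hmapJ : (I.map (algebraMap A R)).map fR.toRingHom ≤ I.map (algebraMap A B) := by
    rw [Ideal.map_map]
    have : fR.toRingHom.comp (algebraMap A R) = algebraMap A B :=
      RingHom.ext fun a => fR.commutes a
    rw [this]
  obtain ⟨g, hg, -⟩ := hH2 B _ fR.toRingHom hBI hmapJ
  have hg' : ∀ r, g (algebraMap R H r) = fR r := fun r => RingHom.congr_fun hg r
  have hcφ : ∀ a, g (algebraMap A H a) = algebraMap A B a := fun a => by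
    rw [IsScalarTower.algebraMap_apply A R H, hg', fR.commutes]
  let φ : H →ₐ[A] B := { g with commutes' := hcφ }
  have hφg : ∀ x, φ x = g x := fun _ => rfl
  letI algHB : Algebra H B := φ.toRingHom.toAlgebra
  have halg : ∀ x, algebraMap H B x = φ x := fun _ => rfl
  haveI towAHB : IsScalarTower A H B :=
    IsScalarTower.of_algebraMap_eq (fun a => by rw [halg, φ.commutes])
  have hmapHB : (I.map (algebraMap A H)).map (algebraMap H B) = I.map (algebraMap A B) := by
    rw [Ideal.map_map, ← IsScalarTower.algebraMap_eq]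
  obtain ⟨T, _, _, _, _, hTfp, hT⟩ := Groth.Agent.S17609.result A I R H hH R₀ B hB
  haveI := hTfp
  have hsurjq : Function.Surjective
      (Ideal.quotientMap ((I.map (algebraMap A H)).map (algebraMap H B)) (algebraMap H B)
        Ideal.le_comap_map) := by
    intro w
    obtain ⟨b, rfl⟩ := Ideal.Quotient.mk_surjective w
    obtain ⟨r, hr⟩ := hρs (Ideal.Quotient.mk _ b)
    refine ⟨Ideal.Quotient.mk _ (algebraMap R H r), ?_⟩
    rw [Ideal.quotientMap_mk]
    apply Ideal.Quotient.eq.2
    rw [hmapHB, halg, hφg, hg']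
    apply Ideal.Quotient.eq.1
    rw [hfR r, hr]
  have hφs : Function.Surjective φ :=
    Groth.Agent.S17597.result H (I.map (algebraMap A H)) T B hT hsurjq
  have hfinq : (Ideal.quotientMap ((I.map (algebraMap A H)).map (algebraMap H B))
      (algebraMap H B) Ideal.le_comap_map).Finite :=
    RingHom.Finite.of_surjective _ hsurjq
  obtain ⟨-, hfpHB⟩ := Groth.Agent.S17596.result H (I.map (algebraMap A H)) T B hT hfinq
  haveI := hfpHB
  have hkerfg : (RingHom.ker φ).FG := by
    have h1 := Algebra.FinitePresentation.ker_fG_of_surjective (Algebra.ofId H B) hφs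
    have h2 : RingHom.ker φ = RingHom.ker (Algebra.ofId H B).toRingHom := by
      ext x
      rw [RingHom.mem_ker, RingHom.mem_ker]
      exact Iff.rfl
    rw [h2]; exact h1
  -- injectivity modulo `I`
  have hφI : ∀ y ∈ I.map (algebraMap A H), φ y ∈ I.map (algebraMap A B) := by
    have hle : I.map (algebraMap A H) ≤ (I.map (algebraMap A B)).comap (φ : H →+* B) := by
      rw [Ideal.map_le_iff_le_comap]
      intro a ha
      rw [Ideal.mem_comap, Ideal.mem_comap]
      show φ (algebraMap A H a) ∈ _
      rw [φ.commutes]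
      exact Ideal.mem_map_of_mem _ ha
    exact fun y hy => hle hy
  have hinj1 : ∀ x : H, φ x ∈ I.map (algebraMap A B) → x ∈ I.map (algebraMap A H) := by
    intro x hx
    have hbij := Groth.Agent.Lib.PairHensQuot.quotientMap_bijective H (I.map (algebraMap A R))
      hH1 hH2
    obtain ⟨z, hz⟩ := hbij.2 (Ideal.Quotient.mk _ x)
    obtain ⟨r, rfl⟩ := Ideal.Quotient.mk_surjective z
    rw [Ideal.quotientMap_mk] at hz
    have hi : x - algebraMap R H r ∈ (I.map (algebraMap A R)).map (algebraMap R H) := by
      rw [← Ideal.Quotient.eq]; exact hz.symm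
    rw [hmapH] at hi
    have h1 : φ (x - algebraMap R H r) ∈ I.map (algebraMap A B) := hφI _ hi
    have h2 : fR r ∈ I.map (algebraMap A B) := by
      have h3 : φ (algebraMap R H r) = fR r := by rw [hφg, hg']
      have h4 : fR r = φ x - φ (x - algebraMap R H r) := by
        rw [map_sub, h3]; ring
      rw [h4]
      exact Ideal.sub_mem _ hx h1
    have h5 : ρ r = 0 := by
      rw [← hfR r]; exact Ideal.Quotient.eq_zero_iff_mem.2 h2
    rw [hρ] at h5
    have h6 : (1 : A ⧸ I) ⊗ₜ[A] r = 0 := by
      apply ε.injective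
      rw [h5, map_zero]
    have h7 : r ∈ I.map (algebraMap A R) :=
      Groth.Agent.Lib.HfpEtale.mem_map_of_one_tmul_eq_zero I r h6
    have h8 : algebraMap R H r ∈ I.map (algebraMap A H) := by
      rw [← hmapH]; exact Ideal.mem_map_of_mem _ h7
    have h9 : x = (x - algebraMap R H r) + algebraMap R H r := by ring
    rw [h9]
    exact Ideal.add_mem _ hi h8
  refine ⟨R, inferInstance, inferInstance, H, inferInstance, inferInstance, algAH, towAH, hRet,
    hH, φ, hφs, hkerfg, ?_⟩
  intro n
  rcases Nat.eq_zero_or_pos n with hn | hn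
  · subst hn
    rw [pow_zero, Ideal.one_eq_top, Ideal.map_top]
    exact le_top
  · haveI := het n hn
    haveI := (Groth.Agent.S17602.result A I R H hH).2 n hn
    exact Groth.Agent.Lib.HfpEtale.ker_le_map_pow I φ hφs hinj1 n hn

end Groth.Agent.S17598
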