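import Groth.Statements.S17600
import Groth.Agent.Lib.HfpEtale_lead
import Groth.Agent.S17598

set_option autoImplicit false
universe u
open Hensel

namespace Groth.Agent.S17600

/-- Let (A, I) be a Henselian pair and let B be a Henselization of the pair (R₀, IR₀) for a finitely
presented A-algebra R₀ (so A → B is Henselian finitely presented). If B is flat over A and A/I^r →
B/I^rB is étale for every r ≥ 1 (the h-formally étale property, in its equivalent form for Henselian
finitely presented maps), then A → B is h-étale: there is an étale A-algebra R, with an R-algebra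
structure on B compatible with that of A, such that B is a Henselization of the pair (R, IR). -/
theorem result (A : Type u) [CommRing A] (I : Ideal A)
    [HenselianRing A I] (R₀ : Type u) [CommRing R₀] [Algebra A R₀] [Algebra.FinitePresentation A R₀]
    (B : Type u) [CommRing B] [Algebra R₀ B] [Algebra A B] [IsScalarTower A R₀ B]
    (hB : Hens2.IsPairHenselization R₀ (I.map (algebraMap A R₀)) B) [Module.Flat A B]
    (het : ∀ r : ℕ, 1 ≤ r → Algebra.Etale (A ⧸ I ^ r) (B ⧸ (I ^ r).map (algebraMap A B))) :
    ∃ (R : Type u) (_ : CommRing R) (_ : Algebra A R) (_ : Algebra R B) (_ : IsScalarTower A R B),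
      Algebra.Etale A R ∧ Hens2.IsPairHenselization R (I.map (algebraMap A R)) B := by
  classical
  obtain ⟨R, _, _, H, _, _, _, _, hRet, hH, φ, hφs, hφfg, hφk⟩ :=
    Groth.Agent.S17598.result A I R₀ B hB het
  have hmapB : (I.map (algebraMap A R₀)).map (algebraMap R₀ B) = I.map (algebraMap A B) := by
    rw [Ideal.map_map, ← IsScalarTower.algebraMap_eq]
  have hBI : HenselianRing B (I.map (algebraMap A B)) := by rw [← hmapB]; exact hB.1
  have hmapH : (I.map (algebraMap A R)).map (algebraMap R H) = I.map (algebraMap A H) := by
    rw [Ideal.map_map, ← IsScalarTower.algebraMap_eq]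
  have hHI : HenselianRing H (I.map (algebraMap A H)) := by rw [← hmapH]; exact hH.1
  have hk1 : RingHom.ker φ ≤ I.map (algebraMap A H) := by
    have h := hφk 1
    rwa [pow_one] at h
  have hker : RingHom.ker φ = ⊥ :=
    Groth.Agent.Lib.HfpEtale.ker_eq_bot_of_flat I φ hφs hφfg hk1 hHI.jac
  have hφi : Function.Injective φ := (RingHom.injective_iff_ker_eq_bot φ).2 hker
  let e : H ≃+* B := RingEquiv.ofBijective φ ⟨hφi, hφs⟩
  have he : ∀ x, (e : H →+* B) x = φ x := fun _ => rfl
  letI algRB : Algebra R B := ((e : H →+* B).comp (algebraMap R H)).toAlgebra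
  have halg : ∀ r, algebraMap R B r = φ (algebraMap R H r) := fun _ => rfl
  haveI towARB : IsScalarTower A R B := IsScalarTower.of_algebraMap_eq (fun a => by
    rw [halg, ← IsScalarTower.algebraMap_apply A R H, φ.commutes])
  have hmapRB : (I.map (algebraMap A R)).map (algebraMap R B) = I.map (algebraMap A B) := by
    rw [Ideal.map_map, ← IsScalarTower.algebraMap_eq]
  refine ⟨R, inferInstance, inferInstance, algRB, towARB, hRet, ?_, ?_⟩
  · rw [hmapRB]; exact hBI
  · intro C _ J f hJ hfJ
    exact Groth.Agent.Lib.HfpEtale.existsUnique_of_ringEquiv (algebraMap R H) e f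
      (hH.2 C J f hJ hfJ)

end Groth.Agent.S17600
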