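import Groth.Statements.S17604
import Groth.Agent.Lib.EtaleSection_lead
import Groth.Agent.Lib.PairHensQuot_lead

set_option autoImplicit false
universe u
open Hensel

namespace Groth.Agent.S17604

/-- Let (A, I) be a Henselian pair, R and R' étale A-algebras, and B, B' Henselizations of the pairs (R,
IR), (R', IR') with their induced A-algebra structures (so B and B' are h-étale over A). Then
reduction modulo I is a bijection from A-algebra maps B → B' to A-algebra maps B/IB → B'/IB': two
A-algebra maps B → B' that agree modulo IB' are equal, and every A-algebra map B/IB → B'/IB' is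
induced by an A-algebra map B → B'. -/
theorem result (A : Type u) [CommRing A]
    (I : Ideal A) [HenselianRing A I]
    (R : Type u) [CommRing R] [Algebra A R] [Algebra.Etale A R]
    (B : Type u) [CommRing B] [Algebra R B] [Algebra A B] [IsScalarTower A R B]
    (hB : Hens2.IsPairHenselization R (I.map (algebraMap A R)) B)
    (R' : Type u) [CommRing R'] [Algebra A R'] [Algebra.Etale A R']
    (B' : Type u) [CommRing B'] [Algebra R' B'] [Algebra A B'] [IsScalarTower A R' B']
    (hB' : Hens2.IsPairHenselization R' (I.map (algebraMap A R')) B') :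
    (∀ φ ψ : B →ₐ[A] B', (∀ b : B, φ b - ψ b ∈ I.map (algebraMap A B')) → φ = ψ) ∧
    ∀ χ : (B ⧸ I.map (algebraMap A B)) →ₐ[A] (B' ⧸ I.map (algebraMap A B')),
      ∃ φ : B →ₐ[A] B', ∀ b : B,
        Ideal.Quotient.mk (I.map (algebraMap A B')) (φ b) = χ (Ideal.Quotient.mk (I.map (algebraMap A B)) b) := by
  obtain ⟨hB1, hB2⟩ := hB
  obtain ⟨hB'1, hB'2⟩ := hB'
  have hmapB : (I.map (algebraMap A R)).map (algebraMap R B) = I.map (algebraMap A B) := by
    rw [Ideal.map_map, ← IsScalarTower.algebraMap_eq]
  have hmapB' : (I.map (algebraMap A R')).map (algebraMap R' B') = I.map (algebraMap A B') := by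
    rw [Ideal.map_map, ← IsScalarTower.algebraMap_eq]
  have hJ : HenselianRing B' (I.map (algebraMap A B')) := by rw [← hmapB']; exact hB'1
  have hmapJ : ∀ φ : R →ₐ[A] B',
      (I.map (algebraMap A R)).map φ.toRingHom ≤ I.map (algebraMap A B') := by
    intro φ
    rw [Ideal.map_map]
    have : φ.toRingHom.comp (algebraMap A R) = algebraMap A B' :=
      RingHom.ext fun a => φ.commutes a
    rw [this]
  constructor
  · intro φ ψ hφψ
    let φR : R →ₐ[A] B' := φ.comp (IsScalarTower.toAlgHom A R B)
    let ψR : R →ₐ[A] B' := ψ.comp (IsScalarTower.toAlgHom A R B)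
    have hR : φR = ψR :=
      Groth.Agent.Lib.EtaleSection.algHom_eq_of_sub_mem _ hJ.jac φR ψR (fun r => hφψ _)
    obtain ⟨g₀, -, hu⟩ := hB2 B' _ φR.toRingHom hJ (hmapJ φR)
    have e1 : φ.toRingHom = g₀ := hu _ (by
      show φ.toRingHom.comp (algebraMap R B) = φR.toRingHom
      exact RingHom.ext fun r => rfl)
    have e2 : ψ.toRingHom = g₀ := hu _ (by
      show ψ.toRingHom.comp (algebraMap R B) = φR.toRingHom
      rw [hR]
      exact RingHom.ext fun r => rfl)
    apply AlgHom.ext
    intro b
    exact RingHom.congr_fun (e1.trans e2.symm) b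
  · intro χ
    let ρ : R →ₐ[A] B' ⧸ I.map (algebraMap A B') :=
      χ.comp ((Ideal.Quotient.mkₐ A _).comp (IsScalarTower.toAlgHom A R B))
    obtain ⟨fR, hfR⟩ := Groth.Agent.Lib.EtaleSection.exists_algHom_lift hJ ρ
    obtain ⟨g, hg, -⟩ := hB2 B' _ fR.toRingHom hJ (hmapJ fR)
    have hg' : ∀ r, g (algebraMap R B r) = fR r := fun r => RingHom.congr_fun hg r
    have hcφ : ∀ a, g (algebraMap A B a) = algebraMap A B' a := fun a => by
      rw [IsScalarTower.algebraMap_apply A R B, hg', fR.commutes]
    let φ : B →ₐ[A] B' := { g with commutes' := hcφ }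
    refine ⟨φ, fun b => ?_⟩
    show Ideal.Quotient.mk _ (g b) = χ (Ideal.Quotient.mk _ b)
    have hbij := Groth.Agent.Lib.PairHensQuot.quotientMap_bijective B (I.map (algebraMap A R))
      hB1 hB2
    obtain ⟨z, hz⟩ := hbij.2 (Ideal.Quotient.mk _ b)
    obtain ⟨r, rfl⟩ := Ideal.Quotient.mk_surjective z
    rw [Ideal.quotientMap_mk] at hz
    have hi : b - algebraMap R B r ∈ (I.map (algebraMap A R)).map (algebraMap R B) := by
      rw [← Ideal.Quotient.eq]; exact hz.symm
    have hi' : b - algebraMap R B r ∈ I.map (algebraMap A B) := by rw [← hmapB]; exact hi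
    have hgi : g (b - algebraMap R B r) ∈ I.map (algebraMap A B') := by
      have h1 : ((I.map (algebraMap A R)).map (algebraMap R B)).map g
          ≤ I.map (algebraMap A B') := by
        rw [Ideal.map_map, hg]; exact hmapJ fR
      exact h1 (Ideal.mem_map_of_mem _ hi)
    have h1 : Ideal.Quotient.mk (I.map (algebraMap A B')) (g b)
        = Ideal.Quotient.mk _ (fR r) := by
      rw [← hg' r]
      apply Ideal.Quotient.eq.2
      rw [← map_sub]; exact hgi
    have h2 : (Ideal.Quotient.mk (I.map (algebraMap A B)) b)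
        = Ideal.Quotient.mk _ (algebraMap R B r) := Ideal.Quotient.eq.2 hi'
    rw [h1, h2, hfR r]
    rfl

end Groth.Agent.S17604
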