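import Groth.Statements.S17605
import Mathlib

set_option autoImplicit false
universe u
open Hensel

namespace Groth.Agent.S17605

theorem aux (A : Type u) [CommRing A]
    (I : Ideal A) (f₁ f₂ : A)
    (h : (PrimeSpectrum.basicOpen f₂ : Set (PrimeSpectrum A)) ∩ PrimeSpectrum.zeroLocus (I : Set A) ⊆
      (PrimeSpectrum.basicOpen f₁ : Set (PrimeSpectrum A)) ∩ PrimeSpectrum.zeroLocus (I : Set A))
    (H₁ : Type u) [CommRing H₁] [Algebra (Localization.Away f₁) H₁] [Algebra A H₁]
    [IsScalarTower A (Localization.Away f₁) H₁]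
    (hH₁ : Hens2.IsPairHenselization (Localization.Away f₁)
      (I.map (algebraMap A (Localization.Away f₁))) H₁)
    (H₂ : Type u) [CommRing H₂] [Algebra (Localization.Away f₂) H₂] [Algebra A H₂]
    [IsScalarTower A (Localization.Away f₂) H₂]
    (hH₂ : Hens2.IsPairHenselization (Localization.Away f₂)
      (I.map (algebraMap A (Localization.Away f₂))) H₂) :
    Nonempty (H₁ →ₐ[A] H₂) ∧ Subsingleton (H₁ →ₐ[A] H₂) := by
  -- the henselian ideal of H₂
  set J : Ideal H₂ := (I.map (algebraMap A (Localization.Away f₂))).map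
    (algebraMap (Localization.Away f₂) H₂) with hJ
  have hHens : HenselianRing H₂ J := hH₂.1
  have hJmap : I.map (algebraMap A H₂) = J := by
    rw [hJ, Ideal.map_map, ← IsScalarTower.algebraMap_eq]
  -- f₂ is a unit in H₂
  have hf₂ : IsUnit (algebraMap A H₂ f₂) := by
    rw [IsScalarTower.algebraMap_apply A (Localization.Away f₂) H₂]
    exact (IsLocalization.Away.algebraMap_isUnit f₂).map _
  -- f₁ is a unit in H₂
  have hf₁ : IsUnit (algebraMap A H₂ f₁) := by
    by_contra hnu
    obtain ⟨m, hm, hfm⟩ := exists_max_ideal_of_mem_nonunits hnu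
    have hJm : J ≤ m := hHens.jac.trans (sInf_le ⟨bot_le, hm⟩)
    haveI := hm.isPrime
    let p : PrimeSpectrum A := ⟨m.comap (algebraMap A H₂), inferInstance⟩
    have hp2 : p ∈ (PrimeSpectrum.basicOpen f₂ : Set (PrimeSpectrum A)) := by
      show f₂ ∉ m.comap (algebraMap A H₂)
      intro hmem
      exact hm.ne_top (Ideal.eq_top_of_isUnit_mem _ (Ideal.mem_comap.mp hmem) hf₂)
    have hpI : p ∈ PrimeSpectrum.zeroLocus (I : Set A) := by
      rw [PrimeSpectrum.mem_zeroLocus]
      intro a ha
      show a ∈ m.comap (algebraMap A H₂)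
      rw [Ideal.mem_comap]
      apply hJm
      rw [← hJmap]
      exact Ideal.mem_map_of_mem _ ha
    have hp1 := (h ⟨hp2, hpI⟩).1
    exact hp1 (Ideal.mem_comap.mpr hfm)
  -- the extension to the localization
  let φ : Localization.Away f₁ →+* H₂ :=
    IsLocalization.Away.lift (S := Localization.Away f₁) f₁ (g := algebraMap A H₂) hf₁
  have hφ : φ.comp (algebraMap A (Localization.Away f₁)) = algebraMap A H₂ :=
    IsLocalization.Away.lift_comp f₁ hf₁
  have hle : (I.map (algebraMap A (Localization.Away f₁))).map φ ≤ J := by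
    rw [Ideal.map_map, hφ, hJmap]
  obtain ⟨g, hg, hguniq⟩ := hH₁.2 H₂ J φ hHens hle
  refine ⟨⟨{ g with commutes' := ?_ }⟩, ⟨?_⟩⟩
  · intro a
    show g (algebraMap A H₁ a) = algebraMap A H₂ a
    rw [IsScalarTower.algebraMap_apply A (Localization.Away f₁) H₁, ← RingHom.comp_apply, hg,
      ← RingHom.comp_apply, hφ]
  · intro g₁ g₂
    have key : ∀ g' : H₁ →ₐ[A] H₂, (g' : H₁ →+* H₂) = g := by
      intro g'
      apply hguniq
      apply IsLocalization.ringHom_ext (Submonoid.powers f₁)
      rw [hφ]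
      ext a
      show g' (algebraMap (Localization.Away f₁) H₁ (algebraMap A (Localization.Away f₁) a)) =
        algebraMap A H₂ a
      rw [← IsScalarTower.algebraMap_apply A (Localization.Away f₁) H₁, g'.commutes]
    apply AlgHom.coe_ringHom_injective
    rw [key g₁, key g₂]

/-- Let A be a ring with an ideal I and let f₁, f₂ be elements of A such that D(f₂) ∩ V(I) ⊆ D(f₁) ∩
V(I) in Spec A. If H₁ is a Henselization of the pair (A_{f₁}, IA_{f₁}) and H₂ a Henselization of the
pair (A_{f₂}, IA_{f₂}), with their induced A-algebra structures, then there is exactly one A-algebra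
map H₁ → H₂. -/
theorem result (A : Type u) [CommRing A]
    (I : Ideal A) (f₁ f₂ : A)
    (h : (PrimeSpectrum.basicOpen f₂ : Set (PrimeSpectrum A)) ∩ PrimeSpectrum.zeroLocus (I : Set A) ⊆
      (PrimeSpectrum.basicOpen f₁ : Set (PrimeSpectrum A)) ∩ PrimeSpectrum.zeroLocus (I : Set A))
    (H₁ : Type u) [CommRing H₁] [Algebra (Localization.Away f₁) H₁] [Algebra A H₁]
    [IsScalarTower A (Localization.Away f₁) H₁]
    (hH₁ : Hens2.IsPairHenselization (Localization.Away f₁)
      (I.map (algebraMap A (Localization.Away f₁))) H₁)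
    (H₂ : Type u) [CommRing H₂] [Algebra (Localization.Away f₂) H₂] [Algebra A H₂]
    [IsScalarTower A (Localization.Away f₂) H₂]
    (hH₂ : Hens2.IsPairHenselization (Localization.Away f₂)
      (I.map (algebraMap A (Localization.Away f₂))) H₂) :
    Nonempty (H₁ →ₐ[A] H₂) ∧ Subsingleton (H₁ →ₐ[A] H₂) := by
  exact aux A I f₁ f₂ h H₁ hH₁ H₂ hH₂

end Groth.Agent.S17605
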