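import Groth.Statements.S17607
import Groth.Agent.Lib.HfpCore_lead

set_option autoImplicit false
universe u
open Hensel

namespace Groth.Agent.S17607

/-- Let (A, I) and (B, IB) be Henselian pairs with B an A-algebra. Then the following are equivalent:
(i) A → B is Henselian finitely presented, i.e. there are n, a Henselization P of the pair
(A[X₁,…,Xₙ], I·A[X₁,…,Xₙ]) (a Henselized polynomial ring) and a surjective A-algebra map P → B with
finitely generated kernel; (ii) there are a finitely presented A-algebra R and an R-algebra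
structure on B compatible with that of A for which B is a Henselization of the pair (R, IR). -/
theorem result (A : Type u) [CommRing A] (I : Ideal A)
    [HenselianRing A I] (B : Type u) [CommRing B] [Algebra A B]
    [HenselianRing B (I.map (algebraMap A B))] :
    (∃ (n : ℕ) (P : Type u) (_ : CommRing P) (_ : Algebra (MvPolynomial (Fin n) A) P) (_ : Algebra A P)
        (_ : IsScalarTower A (MvPolynomial (Fin n) A) P),
        Hens2.IsPairHenselization (MvPolynomial (Fin n) A)
          (I.map (algebraMap A (MvPolynomial (Fin n) A))) P ∧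
        ∃ φ : P →ₐ[A] B, Function.Surjective φ ∧ (RingHom.ker φ).FG) ↔
    ∃ (R : Type u) (_ : CommRing R) (_ : Algebra A R) (_ : Algebra R B) (_ : IsScalarTower A R B),
      Algebra.FinitePresentation A R ∧ Hens2.IsPairHenselization R (I.map (algebraMap A R)) B := by
  classical
  constructor
  · rintro ⟨n, P, _, _, _, _, hP, φ, hφsurj, hker⟩
    obtain ⟨Tk, hTk⟩ := hker
    obtain ⟨S', _, _, _, _, _, hsurj, hhens, s, hs⟩ :=
      Groth.Agent.Lib.HfpCore.exists_nbhd_mem hP
        (fun k : Fin Tk.toList.length => Tk.toList.get k)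
    letI algAS' : Algebra A S' :=
      ((algebraMap (MvPolynomial (Fin n) A) S').comp
        (algebraMap A (MvPolynomial (Fin n) A))).toAlgebra
    haveI twAMS' : IsScalarTower A (MvPolynomial (Fin n) A) S' :=
      IsScalarTower.of_algebraMap_eq (fun _ => rfl)
    haveI fpMS' : Algebra.FinitePresentation (MvPolynomial (Fin n) A) S' := inferInstance
    haveI fpAS' : Algebra.FinitePresentation A S' :=
      Algebra.FinitePresentation.trans A (MvPolynomial (Fin n) A) S'
    obtain ⟨L, hLdef⟩ : ∃ L : Ideal S', L = Ideal.span (Set.range s) := ⟨_, rfl⟩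
    have hLfg : L.FG := by rw [hLdef]; exact Submodule.fg_span (Set.finite_range s)
    have hsL : ∀ k, s k ∈ L := fun k => by rw [hLdef]; exact Ideal.subset_span ⟨k, rfl⟩
    haveI fpAR : Algebra.FinitePresentation A (S' ⧸ L) :=
      Algebra.FinitePresentation.quotient hLfg
    have hget : ∀ k : Fin Tk.toList.length, φ (Tk.toList.get k) = 0 := fun k => by
      have hmem : Tk.toList.get k ∈ RingHom.ker φ := by
        rw [← hTk]
        exact Ideal.subset_span (Finset.mem_coe.2 (Finset.mem_toList.1 (List.get_mem _ _)))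
      exact RingHom.mem_ker.1 hmem
    have hL : ∀ x ∈ L, (φ.toRingHom.comp (algebraMap S' P)) x = 0 := by
      intro x hx
      have hle : L ≤ RingHom.ker (φ.toRingHom.comp (algebraMap S' P)) := by
        rw [hLdef, Ideal.span_le]
        rintro _ ⟨k, rfl⟩
        rw [SetLike.mem_coe, RingHom.mem_ker]
        show φ (algebraMap S' P (s k)) = 0
        rw [hs k]; exact hget k
      exact RingHom.mem_ker.1 (hle hx)
    letI algRB : Algebra (S' ⧸ L) B :=
      (Ideal.Quotient.lift L (φ.toRingHom.comp (algebraMap S' P)) hL).toAlgebra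
    have halgRB : ∀ y : S', algebraMap (S' ⧸ L) B (Ideal.Quotient.mk L y)
        = φ (algebraMap S' P y) := fun y => rfl
    have halgAR : ∀ a : A, algebraMap A (S' ⧸ L) a
        = Ideal.Quotient.mk L (algebraMap (MvPolynomial (Fin n) A) S'
          (algebraMap A (MvPolynomial (Fin n) A) a)) := fun a => rfl
    haveI twARB : IsScalarTower A (S' ⧸ L) B := IsScalarTower.of_algebraMap_eq (fun a => by
      rw [halgAR, halgRB, ← IsScalarTower.algebraMap_apply (MvPolynomial (Fin n) A) S' P,
        ← IsScalarTower.algebraMap_apply A (MvPolynomial (Fin n) A) P, φ.commutes])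
    refine ⟨S' ⧸ L, inferInstance, inferInstance, algRB, twARB, fpAR, ?_, ?_⟩
    · have e : (I.map (algebraMap A (S' ⧸ L))).map (algebraMap (S' ⧸ L) B)
          = I.map (algebraMap A B) := by
        rw [Ideal.map_map, ← IsScalarTower.algebraMap_eq]
      rw [e]; infer_instance
    · intro E _ K f hE hfK
      have key : ∀ a ∈ I, f (algebraMap A (S' ⧸ L) a) ∈ K := fun a ha =>
        hfK (Ideal.mem_map_of_mem _ (Ideal.mem_map_of_mem _ ha))
      have h0 : ((I.map (algebraMap A (MvPolynomial (Fin n) A))).map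
          (algebraMap (MvPolynomial (Fin n) A) S')).map (f.comp (Ideal.Quotient.mk L)) ≤ K := by
        rw [Ideal.map_map, Ideal.map_map, Ideal.map_le_iff_le_comap]
        intro a ha
        show f (Ideal.Quotient.mk L (algebraMap (MvPolynomial (Fin n) A) S'
          (algebraMap A (MvPolynomial (Fin n) A) a))) ∈ K
        rw [← halgAR]
        exact key a ha
      obtain ⟨g, hg, hguniq⟩ := hhens.2 E K (f.comp (Ideal.Quotient.mk L)) hE h0
      have hg' : ∀ y : S', g (algebraMap S' P y) = f (Ideal.Quotient.mk L y) :=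
        fun y => RingHom.congr_fun hg y
      have hgker : ∀ x, φ x = 0 → g x = 0 := by
        have hle : Ideal.span (Tk : Set P) ≤ RingHom.ker g := by
          rw [Ideal.span_le]
          intro t ht
          obtain ⟨k, hk⟩ := List.mem_iff_get.1 (Finset.mem_toList.2 (Finset.mem_coe.1 ht))
          rw [SetLike.mem_coe, RingHom.mem_ker, ← hk]
          have h1 := hs k
          beta_reduce at h1
          rw [← h1, hg', Ideal.Quotient.eq_zero_iff_mem.2 (hsL k), map_zero]
        intro x hx
        have hx' : x ∈ RingHom.ker φ := RingHom.mem_ker.2 hx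
        rw [← hTk] at hx'
        exact RingHom.mem_ker.1 (hle hx')
      have hgker' : RingHom.ker φ.toRingHom ≤ RingHom.ker g := fun x hx =>
        RingHom.mem_ker.2 (hgker x (RingHom.mem_ker.1 hx))
      obtain ⟨h, hhdef⟩ : ∃ h : B →+* E,
          h = RingHom.liftOfSurjective φ.toRingHom hφsurj ⟨g, hgker'⟩ := ⟨_, rfl⟩
      have hh : ∀ p, h (φ p) = g p := fun p => by
        rw [hhdef]
        exact RingHom.liftOfSurjective_comp_apply φ.toRingHom hφsurj ⟨g, hgker'⟩ p
      refine ⟨h, ?_, fun h' hh' => ?_⟩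
      · show h.comp (algebraMap (S' ⧸ L) B) = f
        refine RingHom.ext (fun x => ?_)
        obtain ⟨y, rfl⟩ := Ideal.Quotient.mk_surjective x
        show h (algebraMap (S' ⧸ L) B (Ideal.Quotient.mk L y)) = f (Ideal.Quotient.mk L y)
        rw [halgRB, hh, hg']
      · have h1 : h'.comp (algebraMap (S' ⧸ L) B) = f := hh'
        have h2 : h'.comp φ.toRingHom = g := by
          apply hguniq
          show (h'.comp φ.toRingHom).comp (algebraMap S' P) = f.comp (Ideal.Quotient.mk L)
          refine RingHom.ext (fun y => ?_)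
          show h' (φ (algebraMap S' P y)) = f (Ideal.Quotient.mk L y)
          rw [← halgRB]
          exact RingHom.congr_fun h1 _
        refine RingHom.ext (fun b => ?_)
        obtain ⟨p, rfl⟩ := hφsurj b
        rw [hh]
        exact RingHom.congr_fun h2 p
  · rintro ⟨R, _, _, _, _, hfp, hB⟩
    obtain ⟨n, f, hfsurj, hfker⟩ := (Algebra.FinitePresentation.out :
      ∃ (n : ℕ) (f : MvPolynomial (Fin n) A →ₐ[A] R), Function.Surjective f ∧
        (RingHom.ker f.toRingHom).FG)
    obtain ⟨P, _, _, hP1, hP2⟩ := Groth.Agent.Lib.PairHensExists.exists_henselization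
      (MvPolynomial (Fin n) A) (I.map (algebraMap A (MvPolynomial (Fin n) A)))
    have hP : Hens2.IsPairHenselization (MvPolynomial (Fin n) A)
      (I.map (algebraMap A (MvPolynomial (Fin n) A))) P := ⟨hP1, hP2⟩
    letI algAP : Algebra A P := ((algebraMap (MvPolynomial (Fin n) A) P).comp
      (algebraMap A (MvPolynomial (Fin n) A))).toAlgebra
    haveI twAMP : IsScalarTower A (MvPolynomial (Fin n) A) P :=
      IsScalarTower.of_algebraMap_eq (fun _ => rfl)
    have hq₀ : ∀ a : A, algebraMap R B (f (algebraMap A (MvPolynomial (Fin n) A) a))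
        = algebraMap A B a := fun a => by
      rw [f.commutes, ← IsScalarTower.algebraMap_apply A R B]
    have hc1 : (I.map (algebraMap A (MvPolynomial (Fin n) A))).map
        ((algebraMap R B).comp f.toRingHom) ≤ I.map (algebraMap A B) := by
      rw [Ideal.map_map, Ideal.map_le_iff_le_comap]
      intro a ha
      show algebraMap R B (f (algebraMap A (MvPolynomial (Fin n) A) a)) ∈ I.map (algebraMap A B)
      rw [hq₀]; exact Ideal.mem_map_of_mem _ ha
    obtain ⟨φ₀, hφ₀, hφ₀uniq⟩ := hP.2 B (I.map (algebraMap A B))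
      ((algebraMap R B).comp f.toRingHom) inferInstance hc1
    have hφ₀' : ∀ x, φ₀ (algebraMap (MvPolynomial (Fin n) A) P x) = algebraMap R B (f x) :=
      fun x => RingHom.congr_fun hφ₀ x
    have hcomm : ∀ a : A, φ₀ (algebraMap A P a) = algebraMap A B a := fun a => by
      show φ₀ (algebraMap (MvPolynomial (Fin n) A) P
        (algebraMap A (MvPolynomial (Fin n) A) a)) = _
      rw [hφ₀', hq₀]
    let φ : P →ₐ[A] B := { φ₀ with commutes' := hcomm }
    obtain ⟨Q, hQdef⟩ : ∃ Q : Ideal P, Q = (RingHom.ker f.toRingHom).map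
      (algebraMap (MvPolynomial (Fin n) A) P) := ⟨_, rfl⟩
    have hQfg : Q.FG := by rw [hQdef]; exact hfker.map _
    have hQle : ∀ x ∈ Q, φ₀ x = 0 := by
      have hle : Q ≤ RingHom.ker φ₀ := by
        rw [hQdef, Ideal.map_le_iff_le_comap]
        intro x hx
        rw [Ideal.mem_comap, RingHom.mem_ker, hφ₀']
        have h0 : f x = 0 := RingHom.mem_ker.1 hx
        rw [h0, map_zero]
      exact fun x hx => RingHom.mem_ker.1 (hle hx)
    obtain ⟨K', hK'def⟩ : ∃ K' : Ideal (P ⧸ Q), K' =
      ((I.map (algebraMap A (MvPolynomial (Fin n) A))).map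
        (algebraMap (MvPolynomial (Fin n) A) P)).map (Ideal.Quotient.mk Q) := ⟨_, rfl⟩
    have hquot : HenselianRing (P ⧸ Q) K' := by
      rw [hK'def]
      exact Groth.Agent.Lib.HenselQuotLead.henselian_map_mk hP.1 Q
    have hK'mem : ∀ a ∈ I, Ideal.Quotient.mk Q (algebraMap (MvPolynomial (Fin n) A) P
        (algebraMap A (MvPolynomial (Fin n) A) a)) ∈ K' := fun a ha => by
      rw [hK'def]
      exact Ideal.mem_map_of_mem _ (Ideal.mem_map_of_mem _ (Ideal.mem_map_of_mem _ ha))
    have hker' : RingHom.ker f.toRingHom ≤ RingHom.ker ((Ideal.Quotient.mk Q).comp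
        (algebraMap (MvPolynomial (Fin n) A) P)) := by
      intro x hx
      rw [RingHom.mem_ker]
      show Ideal.Quotient.mk Q (algebraMap _ P x) = 0
      rw [Ideal.Quotient.eq_zero_iff_mem, hQdef]
      exact Ideal.mem_map_of_mem _ hx
    obtain ⟨r₀, hr₀def⟩ : ∃ r₀ : R →+* P ⧸ Q, r₀ = RingHom.liftOfSurjective f.toRingHom hfsurj
        ⟨(Ideal.Quotient.mk Q).comp (algebraMap (MvPolynomial (Fin n) A) P), hker'⟩ := ⟨_, rfl⟩
    have hr₀ : ∀ x, r₀ (f x) = Ideal.Quotient.mk Q (algebraMap _ P x) := fun x => by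
      rw [hr₀def]
      exact RingHom.liftOfSurjective_comp_apply f.toRingHom hfsurj
        ⟨(Ideal.Quotient.mk Q).comp (algebraMap (MvPolynomial (Fin n) A) P), hker'⟩ x
    have hc2 : (I.map (algebraMap A R)).map r₀ ≤ K' := by
      rw [Ideal.map_map, Ideal.map_le_iff_le_comap]
      intro a ha
      show r₀ (algebraMap A R a) ∈ K'
      rw [← f.commutes a, hr₀]
      exact hK'mem a ha
    obtain ⟨ψ, hψ, hψuniq⟩ := hB.2 (P ⧸ Q) K' r₀ hquot hc2
    have hψ' : ∀ r, ψ (algebraMap R B r) = r₀ r := fun r => RingHom.congr_fun hψ r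
    have hc3 : (I.map (algebraMap A (MvPolynomial (Fin n) A))).map
        ((Ideal.Quotient.mk Q).comp (algebraMap (MvPolynomial (Fin n) A) P)) ≤ K' := by
      rw [hK'def]
      exact le_of_eq (Ideal.map_map _ _).symm
    obtain ⟨u, hu, huuniq⟩ := hP.2 (P ⧸ Q) K'
      ((Ideal.Quotient.mk Q).comp (algebraMap (MvPolynomial (Fin n) A) P)) hquot hc3
    have hA1 : Ideal.Quotient.mk Q = u := huuniq _ rfl
    have hA2 : ψ.comp φ₀ = u := by
      apply huuniq
      show (ψ.comp φ₀).comp (algebraMap _ P) = (Ideal.Quotient.mk Q).comp (algebraMap _ P)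
      refine RingHom.ext (fun x => ?_)
      show ψ (φ₀ (algebraMap _ P x)) = Ideal.Quotient.mk Q (algebraMap _ P x)
      rw [hφ₀', hψ', hr₀]
    have hA : ∀ p, ψ (φ₀ p) = Ideal.Quotient.mk Q p :=
      fun p => RingHom.congr_fun (hA2.trans hA1.symm) p
    have hkerφ : RingHom.ker φ = Q := by
      apply le_antisymm
      · intro x hx
        have h1 : φ₀ x = 0 := RingHom.mem_ker.1 hx
        have h2 := hA x
        rw [h1, map_zero] at h2
        exact Ideal.Quotient.eq_zero_iff_mem.1 h2.symm
      · intro x hx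
        exact RingHom.mem_ker.2 (hQle x hx)
    have hc4 : (I.map (algebraMap A R)).map (algebraMap R B) ≤ I.map (algebraMap A B) := by
      rw [Ideal.map_map, ← IsScalarTower.algebraMap_eq]
    obtain ⟨v, hv, hvuniq⟩ := hB.2 B (I.map (algebraMap A B)) (algebraMap R B) inferInstance hc4
    have hB1 : RingHom.id B = v := hvuniq _ (RingHom.id_comp _)
    have hB2 : (Ideal.Quotient.lift Q φ₀ hQle).comp ψ = v := by
      apply hvuniq
      show ((Ideal.Quotient.lift Q φ₀ hQle).comp ψ).comp (algebraMap R B) = algebraMap R B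
      refine RingHom.ext (fun r => ?_)
      obtain ⟨x, rfl⟩ := hfsurj r
      show Ideal.Quotient.lift Q φ₀ hQle (ψ (algebraMap R B (f x))) = algebraMap R B (f x)
      rw [hψ', hr₀, Ideal.Quotient.lift_mk, hφ₀']
    have hBsurj : Function.Surjective φ := by
      intro b
      obtain ⟨p, hp⟩ := Ideal.Quotient.mk_surjective (ψ b)
      refine ⟨p, ?_⟩
      have h1 : (Ideal.Quotient.lift Q φ₀ hQle) (ψ b) = b :=
        RingHom.congr_fun (hB2.trans hB1.symm) b
      rw [← hp, Ideal.Quotient.lift_mk] at h1
      exact h1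
    exact ⟨n, P, inferInstance, inferInstance, algAP, twAMP, hP, φ, hBsurj,
      by rw [hkerφ]; exact hQfg⟩

end Groth.Agent.S17607
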