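import Groth.Statements.S17608
import Groth.Agent.Lib.HfpCore_lead

set_option autoImplicit false
universe u
open Hensel

namespace Groth.Agent.S17608

/-- Let (A, I) be a Henselian pair, let B be a Henselization of the pair (R, IR) for a finitely
presented A-algebra R, and let C be a Henselization of the pair (S, IS) for a finitely presented
B-algebra S, all algebra structures being compatible (so A → B and B → C are Henselian finitely
presented maps of Henselian pairs). Then the composite A → C is Henselian finitely presented: there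
are a finitely presented A-algebra T and a T-algebra structure on C compatible with that of A for
which C is a Henselization of the pair (T, IT). -/
theorem result (A : Type u) [CommRing A] (I : Ideal A) [HenselianRing A I]
    (R : Type u) [CommRing R] [Algebra A R] [Algebra.FinitePresentation A R]
    (B : Type u) [CommRing B] [Algebra R B] [Algebra A B] [IsScalarTower A R B]
    (hB : Hens2.IsPairHenselization R (I.map (algebraMap A R)) B)
    (S : Type u) [CommRing S] [Algebra B S] [Algebra A S] [IsScalarTower A B S] [Algebra.FinitePresentation B S]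
    (C : Type u) [CommRing C] [Algebra S C] [Algebra B C] [Algebra A C] [IsScalarTower B S C]
    [IsScalarTower A B C]
    (hC : Hens2.IsPairHenselization S (I.map (algebraMap A S)) C) :
    ∃ (T : Type u) (_ : CommRing T) (_ : Algebra A T) (_ : Algebra T C) (_ : IsScalarTower A T C),
      Algebra.FinitePresentation A T ∧ Hens2.IsPairHenselization T (I.map (algebraMap A T)) C := by
  classical
  obtain ⟨m, g, hgsurj, hgker⟩ := (Algebra.FinitePresentation.out :
    ∃ (n : ℕ) (f : MvPolynomial (Fin n) B →ₐ[B] S), Function.Surjective f ∧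
      (RingHom.ker f.toRingHom).FG)
  obtain ⟨Tk, hTk⟩ := hgker
  have hgC : ∀ b, g (MvPolynomial.C b) = algebraMap B S b := fun b => by
    rw [← MvPolynomial.algebraMap_eq]; exact g.commutes b
  have hgT : ∀ t ∈ Tk, g t = 0 := fun t ht => by
    have hmem : t ∈ RingHom.ker g.toRingHom := by
      rw [← hTk]; exact Ideal.subset_span (Finset.mem_coe.2 ht)
    exact RingHom.mem_ker.1 hmem
  obtain ⟨Cf, hCfdef⟩ : ∃ Cf : Finset B, Cf = Tk.biUnion (fun t => t.coeffs) := ⟨_, rfl⟩
  obtain ⟨R', _, _, _, _, _, hsurj, hhens, s, hs⟩ :=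
    Groth.Agent.Lib.HfpCore.exists_nbhd_mem hB (fun k : Fin Cf.toList.length => Cf.toList.get k)
  have hCfrange : ∀ b ∈ Cf, b ∈ Set.range (algebraMap R' B) := by
    intro b hb
    obtain ⟨k, hk⟩ := List.mem_iff_get.1 (Finset.mem_toList.2 hb)
    exact ⟨s k, (hs k).trans hk⟩
  have hlift : ∀ t ∈ Tk, ∃ t' : MvPolynomial (Fin m) R',
      MvPolynomial.map (algebraMap R' B) t' = t := by
    intro t ht
    have hmem : t ∈ Set.range (MvPolynomial.map (algebraMap R' B) :
        MvPolynomial (Fin m) R' → MvPolynomial (Fin m) B) := by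
      rw [MvPolynomial.mem_range_map_iff_coeffs_subset]
      intro b hb
      apply hCfrange
      rw [hCfdef, Finset.mem_biUnion]
      exact ⟨t, ht, Finset.mem_coe.1 hb⟩
    exact hmem
  choose! lf hlf using hlift
  letI algAR' : Algebra A R' := ((algebraMap R R').comp (algebraMap A R)).toAlgebra
  haveI twARR' : IsScalarTower A R R' := IsScalarTower.of_algebraMap_eq (fun _ => rfl)
  haveI fpRR' : Algebra.FinitePresentation R R' := inferInstance
  haveI fpAR' : Algebra.FinitePresentation A R' := Algebra.FinitePresentation.trans A R R'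
  haveI fpAM' : Algebra.FinitePresentation A (MvPolynomial (Fin m) R') :=
    Algebra.FinitePresentation.trans A R' (MvPolynomial (Fin m) R')
  haveI twAR'B : IsScalarTower A R' B := IsScalarTower.of_algebraMap_eq (fun a => by
    show algebraMap A B a = algebraMap R' B (algebraMap R R' (algebraMap A R a))
    rw [← IsScalarTower.algebraMap_apply R R' B, ← IsScalarTower.algebraMap_apply A R B])
  obtain ⟨L, hLdef⟩ : ∃ L : Ideal (MvPolynomial (Fin m) R'),
      L = Ideal.span ((Tk.image lf : Finset _) : Set _) := ⟨_, rfl⟩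
  have hLfg : L.FG := ⟨Tk.image lf, hLdef.symm⟩
  have hlfL : ∀ t ∈ Tk, lf t ∈ L := fun t ht => by
    rw [hLdef]; exact Ideal.subset_span (Finset.mem_coe.2 (Finset.mem_image_of_mem lf ht))
  haveI fpAT : Algebra.FinitePresentation A (MvPolynomial (Fin m) R' ⧸ L) :=
    Algebra.FinitePresentation.quotient hLfg
  obtain ⟨w₀, hw₀def⟩ : ∃ w₀ : MvPolynomial (Fin m) R' →+* C, w₀ =
      (algebraMap S C).comp (g.toRingHom.comp (MvPolynomial.map (algebraMap R' B))) := ⟨_, rfl⟩
  have hw₀ : ∀ p, w₀ p = algebraMap S C (g (MvPolynomial.map (algebraMap R' B) p)) :=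
    fun p => by rw [hw₀def]; rfl
  have hw₀C : ∀ r', w₀ (MvPolynomial.C r') = algebraMap B C (algebraMap R' B r') := fun r' => by
    rw [hw₀, MvPolynomial.map_C, hgC, ← IsScalarTower.algebraMap_apply B S C]
  have hw₀X : ∀ i, w₀ (MvPolynomial.X i) = algebraMap S C (g (MvPolynomial.X i)) := fun i => by
    rw [hw₀, MvPolynomial.map_X]
  have hw₀L : ∀ x ∈ L, w₀ x = 0 := by
    have hle : L ≤ RingHom.ker w₀ := by
      rw [hLdef, Ideal.span_le]
      intro x hx
      obtain ⟨t, ht, rfl⟩ := Finset.mem_image.1 (Finset.mem_coe.1 hx)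
      rw [SetLike.mem_coe, RingHom.mem_ker, hw₀, hlf t ht, hgT t ht, map_zero]
    exact fun x hx => RingHom.mem_ker.1 (hle hx)
  letI algTC : Algebra (MvPolynomial (Fin m) R' ⧸ L) C :=
    (Ideal.Quotient.lift L w₀ hw₀L).toAlgebra
  have halgTC : ∀ p, algebraMap (MvPolynomial (Fin m) R' ⧸ L) C (Ideal.Quotient.mk L p)
      = w₀ p := fun p => rfl
  have halgAT : ∀ a : A, algebraMap A (MvPolynomial (Fin m) R' ⧸ L) a
      = Ideal.Quotient.mk L (MvPolynomial.C (algebraMap A R' a)) := fun a => rfl
  have htwASC : ∀ a : A, algebraMap S C (algebraMap A S a) = algebraMap A C a := fun a => by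
    rw [IsScalarTower.algebraMap_apply A B S, ← IsScalarTower.algebraMap_apply B S C,
      ← IsScalarTower.algebraMap_apply A B C]
  haveI twATC : IsScalarTower A (MvPolynomial (Fin m) R' ⧸ L) C := by
    refine IsScalarTower.of_algebraMap_eq (R := A) (S := MvPolynomial (Fin m) R' ⧸ L) (A := C)
      (fun a => ?_)
    rw [halgAT, halgTC, hw₀C, ← IsScalarTower.algebraMap_apply A R' B,
      ← IsScalarTower.algebraMap_apply A B C]
  refine ⟨MvPolynomial (Fin m) R' ⧸ L, inferInstance, inferInstance, algTC, twATC, fpAT, ?_, ?_⟩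
  · have e1 : (I.map (algebraMap A (MvPolynomial (Fin m) R' ⧸ L))).map
        (algebraMap (MvPolynomial (Fin m) R' ⧸ L) C) = I.map (algebraMap A C) := by
      rw [Ideal.map_map, ← IsScalarTower.algebraMap_eq]
    have e2 : (I.map (algebraMap A S)).map (algebraMap S C) = I.map (algebraMap A C) := by
      rw [Ideal.map_map]
      congr 1
      exact RingHom.ext htwASC
    rw [e1, ← e2]; exact hC.1
  · intro E _ K f hE hfK
    have key : ∀ a ∈ I, f (algebraMap A (MvPolynomial (Fin m) R' ⧸ L) a) ∈ K := fun a ha =>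
      hfK (Ideal.mem_map_of_mem _ (Ideal.mem_map_of_mem _ ha))
    obtain ⟨fM, hfMdef⟩ : ∃ fM : MvPolynomial (Fin m) R' →+* E,
        fM = f.comp (Ideal.Quotient.mk L) := ⟨_, rfl⟩
    have hfM : ∀ p, fM p = f (Ideal.Quotient.mk L p) := fun p => by rw [hfMdef]; rfl
    obtain ⟨fR', hfR'def⟩ : ∃ fR' : R' →+* E, fR' = fM.comp MvPolynomial.C := ⟨_, rfl⟩
    have hfR' : ∀ r', fR' r' = fM (MvPolynomial.C r') := fun r' => by rw [hfR'def]; rfl
    have key' : ∀ a ∈ I, fR' (algebraMap A R' a) ∈ K := fun a ha => by
      rw [hfR', hfM]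
      have h1 := key a ha
      rw [halgAT] at h1
      exact h1
    have hfR'K : ((I.map (algebraMap A R)).map (algebraMap R R')).map fR' ≤ K := by
      rw [Ideal.map_map, Ideal.map_map, Ideal.map_le_iff_le_comap]
      intro a ha
      exact key' a ha
    obtain ⟨gB, hgB, hgBuniq⟩ := hhens.2 E K fR' hE hfR'K
    have hgB' : ∀ r', gB (algebraMap R' B r') = fR' r' := fun r' => RingHom.congr_fun hgB r'
    obtain ⟨v₀, hv₀def⟩ : ∃ v₀ : MvPolynomial (Fin m) B →+* E,
        v₀ = MvPolynomial.eval₂Hom gB (fun i => fM (MvPolynomial.X i)) := ⟨_, rfl⟩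
    have hv₀C : ∀ b, v₀ (MvPolynomial.C b) = gB b := fun b => by
      rw [hv₀def, MvPolynomial.eval₂Hom_C]
    have hv₀X : ∀ i, v₀ (MvPolynomial.X i) = fM (MvPolynomial.X i) := fun i => by
      rw [hv₀def, MvPolynomial.eval₂Hom_X']
    have hv₀map : ∀ p, v₀ (MvPolynomial.map (algebraMap R' B) p) = fM p := by
      intro p
      have h : v₀.comp (MvPolynomial.map (algebraMap R' B)) = fM := by
        apply MvPolynomial.ringHom_ext
        · intro r'
          show v₀ (MvPolynomial.map (algebraMap R' B) (MvPolynomial.C r'))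
            = fM (MvPolynomial.C r')
          rw [MvPolynomial.map_C, hv₀C, hgB', hfR']
        · intro i
          show v₀ (MvPolynomial.map (algebraMap R' B) (MvPolynomial.X i))
            = fM (MvPolynomial.X i)
          rw [MvPolynomial.map_X, hv₀X]
      exact RingHom.congr_fun h p
    have hv₀ker : RingHom.ker g.toRingHom ≤ RingHom.ker v₀ := by
      rw [← hTk, Ideal.span_le]
      intro t ht
      have ht' : t ∈ Tk := Finset.mem_coe.1 ht
      rw [SetLike.mem_coe, RingHom.mem_ker]
      have h1 : v₀ (MvPolynomial.map (algebraMap R' B) (lf t)) = 0 := by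
        rw [hv₀map, hfM, Ideal.Quotient.eq_zero_iff_mem.2 (hlfL t ht'), map_zero]
      rw [hlf t ht'] at h1
      exact h1
    obtain ⟨uS, huSdef⟩ : ∃ uS : S →+* E,
        uS = RingHom.liftOfSurjective g.toRingHom hgsurj ⟨v₀, hv₀ker⟩ := ⟨_, rfl⟩
    have huS : ∀ p, uS (g p) = v₀ p := fun p => by
      rw [huSdef]
      exact RingHom.liftOfSurjective_comp_apply g.toRingHom hgsurj ⟨v₀, hv₀ker⟩ p
    have huSK : (I.map (algebraMap A S)).map uS ≤ K := by
      rw [Ideal.map_map, Ideal.map_le_iff_le_comap]
      intro a ha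
      show uS (algebraMap A S a) ∈ K
      rw [IsScalarTower.algebraMap_apply A B S, ← hgC, huS, hv₀C,
        IsScalarTower.algebraMap_apply A R' B, hgB']
      exact key' a ha
    obtain ⟨h, hh, hhuniq⟩ := hC.2 E K uS hE huSK
    have hh' : ∀ x, h (algebraMap S C x) = uS x := fun x => RingHom.congr_fun hh x
    refine ⟨h, ?_, fun h' hh'' => ?_⟩
    · show h.comp (algebraMap (MvPolynomial (Fin m) R' ⧸ L) C) = f
      refine RingHom.ext (fun x => ?_)
      obtain ⟨p, rfl⟩ := Ideal.Quotient.mk_surjective x
      show h (algebraMap (MvPolynomial (Fin m) R' ⧸ L) C (Ideal.Quotient.mk L p))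
        = f (Ideal.Quotient.mk L p)
      rw [halgTC, hw₀, hh', huS, hv₀map, hfM]
    · have h1 : ∀ x, h' (algebraMap (MvPolynomial (Fin m) R' ⧸ L) C x) = f x :=
        fun x => RingHom.congr_fun hh'' x
      have h2 : h'.comp (algebraMap B C) = gB := by
        apply hgBuniq
        show (h'.comp (algebraMap B C)).comp (algebraMap R' B) = fR'
        refine RingHom.ext (fun r' => ?_)
        show h' (algebraMap B C (algebraMap R' B r')) = fR' r'
        rw [← hw₀C, ← halgTC, h1, hfR', hfM]
      apply hhuniq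
      show h'.comp (algebraMap S C) = uS
      refine RingHom.ext (fun x => ?_)
      obtain ⟨p, rfl⟩ := hgsurj x
      show h' (algebraMap S C (g p)) = uS (g p)
      rw [huS]
      have h3 : (h'.comp (algebraMap S C)).comp g.toRingHom = v₀ := by
        apply MvPolynomial.ringHom_ext
        · intro b
          show h' (algebraMap S C (g (MvPolynomial.C b))) = v₀ (MvPolynomial.C b)
          rw [hgC, ← IsScalarTower.algebraMap_apply B S C, hv₀C]
          exact RingHom.congr_fun h2 b
        · intro i
          show h' (algebraMap S C (g (MvPolynomial.X i))) = v₀ (MvPolynomial.X i)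
          rw [← hw₀X, ← halgTC, h1, hv₀X, hfM]
      exact RingHom.congr_fun h3 p

end Groth.Agent.S17608
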