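import Groth.Statements.S17613
import Mathlib
import Groth.Agent.Lib.HenselDirLim_lead
import Groth.Agent.Lib.FPDirLim_lead

set_option autoImplicit false
universe u
open Hensel

namespace Groth.Agent.S17613

/-- Let (A, I) be a Henselian pair and let B be a Henselization of the pair (R₀, IR₀) for a finitely
presented A-algebra R₀ (so A → B is Henselian finitely presented). Let (R_a) be a directed system of
A-algebras with A-compatible transition maps such that each (R_a, IR_a) is a Henselian pair, and let
L be its direct limit with the induced A-algebra structure. Then the canonical map from the colimit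
of the Hom_A(B, R_a) to Hom_A(B, L) is bijective: every A-algebra map B → L factors through some
R_a, and two A-algebra maps B → R_a whose composites with R_a → L agree become equal after passing
to some R_b. (Index set in the universe of the rings.) -/
theorem result (A : Type u) [CommRing A] (I : Ideal A)
    [HenselianRing A I] (R₀ : Type u) [CommRing R₀] [Algebra A R₀] [Algebra.FinitePresentation A R₀]
    (B : Type u) [CommRing B] [Algebra R₀ B] [Algebra A B] [IsScalarTower A R₀ B]
    (hB : Hens2.IsPairHenselization R₀ (I.map (algebraMap A R₀)) B)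
    {κ : Type u} [Preorder κ] [IsDirectedOrder κ] [Nonempty κ]
    (Ra : κ → Type u) [∀ a, CommRing (Ra a)] [∀ a, Algebra A (Ra a)]
    [∀ a, HenselianRing (Ra a) (I.map (algebraMap A (Ra a)))]
    (t : ∀ a b : κ, a ≤ b → (Ra a →+* Ra b)) [DirectedSystem Ra (fun a b h => t a b h)]
    (ht : ∀ (a b : κ) (h : a ≤ b), (t a b h).comp (algebraMap A (Ra a)) = algebraMap A (Ra b))
    [Algebra A (DirectLimit Ra t)]
    (halg : ∀ (a : κ) (x : A), algebraMap A (DirectLimit Ra t) x =
      DirectLimit.Ring.of Ra t a (algebraMap A (Ra a) x)) :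
    (∀ χ : B →ₐ[A] DirectLimit Ra t, ∃ (a : κ) (φ : B →ₐ[A] Ra a),
        ∀ x : B, DirectLimit.Ring.of Ra t a (φ x) = χ x) ∧
    ∀ (a : κ) (φ ψ : B →ₐ[A] Ra a),
      (∀ x : B, DirectLimit.Ring.of Ra t a (φ x) = DirectLimit.Ring.of Ra t a (ψ x)) →
      ∃ (b : κ) (h : a ≤ b), ∀ x : B, t a b h (φ x) = t a b h (ψ x) := by
  classical
  obtain ⟨hB1, hB2⟩ := hB
  have htt : ∀ i j k (h₁ : i ≤ j) (h₂ : j ≤ k) (x : Ra i),
      t j k h₂ (t i j h₁ x) = t i k (h₁.trans h₂) x :=
    fun i j k h₁ h₂ x => DirectedSystem.map_map' (f := t) h₁ h₂ x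
  have hof : ∀ i j (h : i ≤ j) (x : Ra i),
      DirectLimit.Ring.of Ra t j (t i j h x) = DirectLimit.Ring.of Ra t i x :=
    fun i j h x => DirectLimit.Ring.of_f h x
  have hsurj : ∀ r : DirectLimit Ra t, ∃ i x, DirectLimit.Ring.of Ra t i x = r := fun r => by
    obtain ⟨i, x, rfl⟩ := DirectLimit.exists_eq_mk _ r
    exact ⟨i, x, rfl⟩
  have hzero : ∀ i (x : Ra i), DirectLimit.Ring.of Ra t i x = 0 →
      ∃ j, ∃ h : i ≤ j, t i j h x = 0 :=
    fun i x hx => (DirectLimit.exists_eq_zero ⟨i, x⟩).mp hx
  have hofA : ∀ i (x : A), DirectLimit.Ring.of Ra t i (algebraMap A (Ra i) x)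
      = algebraMap A (DirectLimit Ra t) x := fun i x => (halg i x).symm
  have hKmap : ∀ a, (I.map (algebraMap A (Ra a))).map (DirectLimit.Ring.of Ra t a)
      = I.map (algebraMap A (DirectLimit Ra t)) := by
    intro a
    rw [Ideal.map_map]
    congr 1
    exact RingHom.ext (hofA a)
  have hL : HenselianRing (DirectLimit Ra t) (I.map (algebraMap A (DirectLimit Ra t))) := by
    have h := Groth.Agent.Lib.HenselDirLim.henselian_of_directed (fun i j h => t i j h) htt
      (fun a => I.map (algebraMap A (Ra a)))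
      (fun i j h => by rw [Ideal.map_map, ht i j h])
      (fun i => DirectLimit.Ring.of Ra t i) hof hsurj hzero (fun a => inferInstance)
    have e : (⨆ a, (I.map (algebraMap A (Ra a))).map (DirectLimit.Ring.of Ra t a))
        = I.map (algebraMap A (DirectLimit Ra t)) := by
      simp only [hKmap]
      exact iSup_const
    rwa [e] at h
  refine ⟨fun χ => ?_, fun a φ ψ hφψ => ?_⟩
  · obtain ⟨a, φ₀, hφ₀⟩ := Groth.Agent.Lib.FPDirLim.exists_factor t ht htt
      (fun i => DirectLimit.Ring.of Ra t i) hofA hof hsurj hzero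
      (χ.comp (IsScalarTower.toAlgHom A R₀ B))
    have hle : (I.map (algebraMap A R₀)).map φ₀.toRingHom ≤ I.map (algebraMap A (Ra a)) := by
      rw [Ideal.map_map]
      have : φ₀.toRingHom.comp (algebraMap A R₀) = algebraMap A (Ra a) :=
        RingHom.ext fun r => φ₀.commutes r
      rw [this]
    obtain ⟨φ, hφ, -⟩ := hB2 (Ra a) _ φ₀.toRingHom inferInstance hle
    have hφ' : ∀ r : R₀, φ (algebraMap R₀ B r) = φ₀ r := fun r => RingHom.congr_fun hφ r
    have hcomm : ∀ x : A, φ (algebraMap A B x) = algebraMap A (Ra a) x := fun x => by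
      rw [IsScalarTower.algebraMap_apply A R₀ B, hφ', φ₀.commutes]
    refine ⟨a, { φ with commutes' := hcomm }, ?_⟩
    have hleL : (I.map (algebraMap A R₀)).map (χ.toRingHom.comp (algebraMap R₀ B))
        ≤ I.map (algebraMap A (DirectLimit Ra t)) := by
      rw [Ideal.map_map]
      have : (χ.toRingHom.comp (algebraMap R₀ B)).comp (algebraMap A R₀)
          = algebraMap A (DirectLimit Ra t) := by
        refine RingHom.ext fun x => ?_
        show χ (algebraMap R₀ B (algebraMap A R₀ x)) = _
        rw [← IsScalarTower.algebraMap_apply A R₀ B, χ.commutes]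
      rw [this]
    obtain ⟨g₀, -, hu⟩ := hB2 (DirectLimit Ra t) _ (χ.toRingHom.comp (algebraMap R₀ B)) hL hleL
    have e1 : χ.toRingHom = g₀ := hu _ (by
      show χ.toRingHom.comp (algebraMap R₀ B) = _
      rfl)
    have e2 : (DirectLimit.Ring.of Ra t a).comp φ = g₀ := hu _ (by
      show ((DirectLimit.Ring.of Ra t a).comp φ).comp (algebraMap R₀ B) = _
      refine RingHom.ext fun r => ?_
      show DirectLimit.Ring.of Ra t a (φ (algebraMap R₀ B r)) = χ (algebraMap R₀ B r)
      rw [hφ']
      exact hφ₀ r)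
    intro x
    exact RingHom.congr_fun (e2.trans e1.symm) x
  · obtain ⟨b, hab, hb⟩ := Groth.Agent.Lib.FPDirLim.eq_of_finiteType t ht htt
      (fun i => DirectLimit.Ring.of Ra t i) hzero a
      (φ.comp (IsScalarTower.toAlgHom A R₀ B)) (ψ.comp (IsScalarTower.toAlgHom A R₀ B))
      (fun r => hφψ (algebraMap R₀ B r))
    refine ⟨b, hab, ?_⟩
    have hle : (I.map (algebraMap A R₀)).map
        (((t a b hab).comp φ.toRingHom).comp (algebraMap R₀ B)) ≤ I.map (algebraMap A (Ra b)) := by
      rw [Ideal.map_map]
      have : (((t a b hab).comp φ.toRingHom).comp (algebraMap R₀ B)).comp (algebraMap A R₀)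
          = algebraMap A (Ra b) := by
        refine RingHom.ext fun x => ?_
        show t a b hab (φ (algebraMap R₀ B (algebraMap A R₀ x))) = _
        rw [← IsScalarTower.algebraMap_apply A R₀ B, φ.commutes]
        exact RingHom.congr_fun (ht a b hab) x
      rw [this]
    obtain ⟨g₀, -, hu⟩ := hB2 (Ra b) _ (((t a b hab).comp φ.toRingHom).comp (algebraMap R₀ B))
      inferInstance hle
    have e1 : (t a b hab).comp φ.toRingHom = g₀ := hu _ (by
      show ((t a b hab).comp φ.toRingHom).comp (algebraMap R₀ B) = _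
      rfl)
    have e2 : (t a b hab).comp ψ.toRingHom = g₀ := hu _ (by
      show ((t a b hab).comp ψ.toRingHom).comp (algebraMap R₀ B) = _
      refine RingHom.ext fun r => ?_
      exact (hb r).symm)
    intro x
    exact RingHom.congr_fun (e1.trans e2.symm) x

end Groth.Agent.S17613
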