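import Groth.Statements.S17616
import Groth.Agent.Lib.ZeroLocusNbhd_lead

set_option autoImplicit false
universe u
open Hensel

namespace Groth.Agent.S17616

/-- Let P be a property of ring maps (between rings in a fixed universe), and say that f : B → B' has P
at a prime q of B' if the composite B → B' → B'_g has P for some g ∉ q. Assume (i) for every
finitely presented f : B → B' the set of primes of B' at which f has P is ind-constructible in Spec
B', and f has P as soon as it has P at every prime; (ii) every étale ring map has P; (iii) for g : C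
→ C' and h : C' → C'', if h has P at a prime q of C'' and g has P at the inverse image of q in C',
then h ∘ g has P at q. Now suppose (A, I) is a Henselian pair, and take an A-algebra R of finite
presentation for which A → R has P at each prime of R that contains IR. Then there is an étale
R-algebra R' with R/IR → R'/IR' bijective such that A → R' has P. -/
theorem result
    (P : ∀ ⦃B B' : Type u⦄ [CommRing B] [CommRing B'], (B →+* B') → Prop)
    (PAt : ∀ ⦃B B' : Type u⦄ [CommRing B] [CommRing B'], (B →+* B') → Ideal B' → Prop)
    (hPAt : ∀ ⦃B B' : Type u⦄ [CommRing B] [CommRing B'] (f : B →+* B') (q : Ideal B'),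
      PAt f q ↔ ∃ g : B', g ∉ q ∧ P ((algebraMap B' (Localization.Away g)).comp f))
    (h₁ : ∀ ⦃B B' : Type u⦄ [CommRing B] [CommRing B'] (f : B →+* B'), f.FinitePresentation →
      ProCons.IsIndConstructible {q : PrimeSpectrum B' | PAt f q.asIdeal} ∧
        ((∀ q : PrimeSpectrum B', PAt f q.asIdeal) → P f))
    (h₂ : ∀ ⦃B B' : Type u⦄ [CommRing B] [CommRing B'] (f : B →+* B'), f.Etale → P f)
    (h₃ : ∀ ⦃C C' C'' : Type u⦄ [CommRing C] [CommRing C'] [CommRing C''] (g : C →+* C')
      (h : C' →+* C'') (q : Ideal C'') [q.IsPrime],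
      PAt h q → PAt g (q.comap h) → PAt (h.comp g) q)
    (A : Type u) [CommRing A] (I : Ideal A) [HenselianRing A I]
    (R : Type u) [CommRing R] [Algebra A R] [Algebra.FinitePresentation A R]
    (hR : ∀ (p : Ideal R) [p.IsPrime], I.map (algebraMap A R) ≤ p → PAt (algebraMap A R) p) :
    ∃ (R' : Type u) (_ : CommRing R') (_ : Algebra R R') (_ : Algebra A R') (_ : IsScalarTower A R R'),
      Algebra.Etale R R' ∧
      Function.Bijective (Ideal.quotientMap ((I.map (algebraMap A R)).map (algebraMap R R'))
        (algebraMap R R') Ideal.le_comap_map) ∧ P (algebraMap A R') := by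
  classical
  have hUopen : IsOpen {q : PrimeSpectrum R | PAt (algebraMap A R) q.asIdeal} := by
    rw [isOpen_iff_forall_mem_open]
    intro q hq
    obtain ⟨g, hg, hPg⟩ := (hPAt (algebraMap A R) q.asIdeal).1 hq
    refine ⟨↑(PrimeSpectrum.basicOpen g), fun q' hq' => ?_, (PrimeSpectrum.basicOpen g).isOpen,
      (PrimeSpectrum.mem_basicOpen _ _).2 hg⟩
    exact (hPAt (algebraMap A R) q'.asIdeal).2 ⟨g, (PrimeSpectrum.mem_basicOpen _ _).1 hq', hPg⟩
  have hU : PrimeSpectrum.zeroLocus ((I.map (algebraMap A R) : Ideal R) : Set R)
      ⊆ {q : PrimeSpectrum R | PAt (algebraMap A R) q.asIdeal} := by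
    intro p hp
    have hle : I.map (algebraMap A R) ≤ p.asIdeal := (PrimeSpectrum.mem_zeroLocus _ _).1 hp
    exact hR p.asIdeal hle
  obtain ⟨i, hi, hD⟩ := Groth.Agent.Lib.ZeroLocusNbhd.exists_basicOpen_subset
    (I.map (algebraMap A R)) _ hUopen hU
  haveI hfpR' : Algebra.FinitePresentation R (Localization.Away (1 - i)) :=
    IsLocalization.Away.finitePresentation (1 - i)
  haveI hfpA : Algebra.FinitePresentation A (Localization.Away (1 - i)) :=
    Algebra.FinitePresentation.trans A R (Localization.Away (1 - i))
  haveI hetR' : Algebra.Etale R (Localization.Away (1 - i)) :=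
    Algebra.Etale.of_isLocalizationAway (1 - i)
  have hP : P (algebraMap A (Localization.Away (1 - i))) := by
    refine (h₁ (algebraMap A (Localization.Away (1 - i)))
      (RingHom.finitePresentation_algebraMap.2 hfpA)).2 (fun q' => ?_)
    rw [IsScalarTower.algebraMap_eq A R (Localization.Away (1 - i))]
    refine h₃ (algebraMap A R) (algebraMap R (Localization.Away (1 - i))) q'.asIdeal ?_ ?_
    · refine (hPAt (algebraMap R (Localization.Away (1 - i))) q'.asIdeal).2
        ⟨1, fun h1 => q'.isPrime.ne_top ((Ideal.eq_top_iff_one _).2 h1), ?_⟩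
      apply h₂
      refine RingHom.Etale.stableUnderComposition _ _ (RingHom.etale_algebraMap.2 hetR') ?_
      exact RingHom.etale_algebraMap.2 (Algebra.Etale.of_isLocalizationAway (1 : Localization.Away (1 - i)))
    · have hmem : PrimeSpectrum.comap (algebraMap R (Localization.Away (1 - i))) q'
          ∈ (↑(PrimeSpectrum.basicOpen (1 - i)) : Set (PrimeSpectrum R)) := by
        rw [SetLike.mem_coe, PrimeSpectrum.mem_basicOpen]
        intro hmem
        have hmem' : algebraMap R (Localization.Away (1 - i)) (1 - i) ∈ q'.asIdeal := hmem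
        have hu : IsUnit (algebraMap R (Localization.Away (1 - i)) (1 - i)) :=
          IsLocalization.Away.algebraMap_isUnit (1 - i)
        exact q'.isPrime.ne_top (Ideal.eq_top_of_isUnit_mem _ hmem' hu)
      exact hD hmem
  exact ⟨Localization.Away (1 - i), inferInstance, inferInstance, inferInstance, inferInstance,
    hetR',
    Groth.Agent.Lib.ZeroLocusNbhd.away_one_sub_bijective (I.map (algebraMap A R)) i hi, hP⟩

end Groth.Agent.S17616
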