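import Groth.Statements.S17617
import Groth.Agent.Lib.EtaleNbhd_lead
import Groth.Agent.Lib.PairHensExists_lead
import Groth.Agent.Lib.PairHensQuot_lead

set_option autoImplicit false
universe u
open Hensel

namespace Groth.Agent.S17617

open TensorProduct in
/-- Let (A, I) be a Henselian pair and let M' → M → M'' be A-linear maps with zero composite. Then M' →
M → M'' is exact if and only if for every prime ideal p of A containing I and every Henselization H
of the pair (A_p, IA_p), the sequence H ⊗_A M' → H ⊗_A M → H ⊗_A M'' is exact. (The modules H ⊗_A M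
are the stalks at p of the sheaf associated to M on the affine Henselian scheme of (A, I), and
exactness of a sequence of such sheaves is exactness at every stalk, so this is the statement that
the sequence of modules is exact exactly when the associated sequence of sheaves is.) -/
theorem result (A : Type u) [CommRing A]
    (I : Ideal A) [HenselianRing A I]
    (M' M M'' : Type u) [AddCommGroup M'] [Module A M'] [AddCommGroup M] [Module A M]
    [AddCommGroup M''] [Module A M''] (f : M' →ₗ[A] M) (g : M →ₗ[A] M'') (hfg : g.comp f = 0) :
    Function.Exact f g ↔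
    ∀ (p : Ideal A) [p.IsPrime], I ≤ p →
      ∀ (H : Type u) [CommRing H] [Algebra (Localization.AtPrime p) H] [Algebra A H]
        [IsScalarTower A (Localization.AtPrime p) H],
        Hens2.IsPairHenselization (Localization.AtPrime p)
          (I.map (algebraMap A (Localization.AtPrime p))) H →
        Function.Exact (f.baseChange H) (g.baseChange H) := by
  classical
  have hI : HenselianRing A I := inferInstance
  constructor
  · intro hex p _ hIp H _ _ _ _ hH
    haveI : Module.Flat (Localization.AtPrime p) H := Groth.Agent.Lib.EtaleNbhd.flat hH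
    haveI : Module.Flat A (Localization.AtPrime p) :=
      IsLocalization.flat (Localization.AtPrime p) p.primeCompl
    haveI : Module.Flat A H := Module.Flat.trans A (Localization.AtPrime p) H
    have h1 : Function.Exact (f.lTensor H) (g.lTensor H) := Module.Flat.lTensor_exact H hex
    intro y
    exact h1 y
  · intro hall x
    constructor
    swap
    · rintro ⟨m', rfl⟩
      exact LinearMap.congr_fun hfg m'
    intro hx
    by_contra hxf
    let 𝔞 : Ideal A :=
      { carrier := {a | a • x ∈ LinearMap.range f}
        add_mem' := fun {a b} ha hb => by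
          show (a + b) • x ∈ LinearMap.range f
          rw [add_smul]; exact Submodule.add_mem _ ha hb
        zero_mem' := by
          show (0 : A) • x ∈ LinearMap.range f
          rw [zero_smul]; exact Submodule.zero_mem _
        smul_mem' := fun c a ha => by
          show (c • a) • x ∈ LinearMap.range f
          rw [smul_assoc]; exact Submodule.smul_mem _ c ha }
    have hne : 𝔞 ≠ ⊤ := by
      intro htop
      have h1 : (1 : A) ∈ 𝔞 := by rw [htop]; exact Submodule.mem_top
      have h2 : (1 : A) • x ∈ LinearMap.range f := h1
      rw [one_smul] at h2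
      exact hxf (LinearMap.mem_range.1 h2)
    obtain ⟨m, hmax, hle⟩ := Ideal.exists_le_maximal 𝔞 hne
    haveI hmp : m.IsPrime := hmax.isPrime
    have hIm : I ≤ m := fun a ha => (Submodule.mem_sInf.1 (hI.jac ha)) m ⟨bot_le, hmax⟩
    obtain ⟨H, _, _, hH1, hH2⟩ := Groth.Agent.Lib.PairHensExists.exists_henselization
      (Localization.AtPrime m) (I.map (algebraMap A (Localization.AtPrime m)))
    have hH : Hens2.IsPairHenselization (Localization.AtPrime m)
        (I.map (algebraMap A (Localization.AtPrime m))) H := ⟨hH1, hH2⟩
    letI algAH : Algebra A H :=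
      ((algebraMap (Localization.AtPrime m) H).comp
        (algebraMap A (Localization.AtPrime m))).toAlgebra
    haveI towAH : IsScalarTower A (Localization.AtPrime m) H :=
      IsScalarTower.of_algebraMap_eq (fun _ => rfl)
    have hexH : Function.Exact (f.baseChange H) (g.baseChange H) := hall m hIm H hH
    haveI : Module.Flat (Localization.AtPrime m) H := Groth.Agent.Lib.EtaleNbhd.flat hH
    haveI : Module.Flat A (Localization.AtPrime m) :=
      IsLocalization.flat (Localization.AtPrime m) m.primeCompl
    haveI : Module.Flat A H := Module.Flat.trans A (Localization.AtPrime m) H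
    have hk : (g.baseChange H) ((1 : H) ⊗ₜ[A] x) = 0 := by
      rw [LinearMap.baseChange_tmul, hx, TensorProduct.tmul_zero]
    obtain ⟨z, hz⟩ := (hexH _).1 hk
    obtain ⟨S, hS⟩ := TensorProduct.exists_finset z
    have h1 : ∑ i ∈ S, f i.2 ⊗ₜ[A] i.1 = x ⊗ₜ[A] (1 : H) := by
      have h2 : (f.baseChange H) z = ∑ i ∈ S, i.1 ⊗ₜ[A] f i.2 := by
        rw [hS, map_sum]
        exact Finset.sum_congr rfl fun i _ => LinearMap.baseChange_tmul _ _ _
      have h3 := congrArg (TensorProduct.comm A H M) (h2.symm.trans hz)
      simp only [map_sum, TensorProduct.comm_tmul] at h3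
      exact h3
    let mm : Option S → M := fun o => o.elim x (fun s => f s.1.2)
    let nn : Option S → H := fun o => o.elim 1 (fun s => -(s.1.1))
    have hsum : ∑ o, mm o ⊗ₜ[A] nn o = (0 : M ⊗[A] H) := by
      rw [Fintype.sum_option]
      show x ⊗ₜ[A] (1 : H) + ∑ s : S, f s.1.2 ⊗ₜ[A] (-(s.1.1)) = 0
      have h4 : ∑ s : S, f s.1.2 ⊗ₜ[A] (-(s.1.1)) = -∑ i ∈ S, f i.2 ⊗ₜ[A] i.1 := by
        rw [← Finset.sum_coe_sort S (fun i => f i.2 ⊗ₜ[A] i.1), ← Finset.sum_neg_distrib]
        exact Finset.sum_congr rfl fun s _ => TensorProduct.tmul_neg _ _
      rw [h4, h1, add_neg_cancel]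
    have hinj : Function.Injective
        (LinearMap.rTensor H (Submodule.span A (Set.range mm)).subtype) :=
      Module.Flat.rTensor_preserves_injective_linearMap _ (Submodule.injective_subtype _)
    obtain ⟨k, a, y, hy1, hy2⟩ :=
      TensorProduct.vanishesTrivially_of_sum_tmul_eq_zero_of_rTensor_injective A hinj hsum
    have ham : ∀ j, a none j ∈ m := by
      intro j
      apply hle
      show a none j • x ∈ LinearMap.range f
      have h5 := hy2 j
      rw [Fintype.sum_option] at h5
      have h6 : a none j • x = -∑ s : S, a (some s) j • f s.1.2 :=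
        eq_neg_of_add_eq_zero_left h5
      rw [h6]
      exact Submodule.neg_mem _ (Submodule.sum_mem _ fun s _ =>
        Submodule.smul_mem _ _ ⟨s.1.2, rfl⟩)
    have h9 : (1 : H) = ∑ j, algebraMap A H (a none j) * y j := by
      have h := hy1 none
      have h' : (1 : H) = ∑ j, a none j • y j := h
      rw [h']
      exact Finset.sum_congr rfl fun j _ => Algebra.smul_def _ _
    obtain ⟨hSurj, hInj⟩ := (Groth.Agent.Lib.EtaleNbhd.bijective_iff
      (I.map (algebraMap A (Localization.AtPrime m))) H).1
      (Groth.Agent.Lib.PairHensQuot.quotientMap_bijective H _ hH.1 hH.2)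
    choose s hs using fun j => hSurj (y j)
    have h7 : algebraMap (Localization.AtPrime m) H
        (1 - ∑ j, algebraMap A (Localization.AtPrime m) (a none j) * s j) ∈
        (I.map (algebraMap A (Localization.AtPrime m))).map
          (algebraMap (Localization.AtPrime m) H) := by
      have h8 : algebraMap (Localization.AtPrime m) H
          (1 - ∑ j, algebraMap A (Localization.AtPrime m) (a none j) * s j)
          = ∑ j, algebraMap A H (a none j) *
              (y j - algebraMap (Localization.AtPrime m) H (s j)) := by
        have h10 : ∑ j, algebraMap A H (a none j) *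
              (y j - algebraMap (Localization.AtPrime m) H (s j))
            = (∑ j, algebraMap A H (a none j) * y j) -
              ∑ j, algebraMap A H (a none j) * algebraMap (Localization.AtPrime m) H (s j) := by
          rw [← Finset.sum_sub_distrib]
          exact Finset.sum_congr rfl fun j _ => mul_sub _ _ _
        rw [h10, ← h9, map_sub, map_one, map_sum]
        congr 1
        exact Finset.sum_congr rfl fun j _ => by
          rw [map_mul, ← IsScalarTower.algebraMap_apply A (Localization.AtPrime m) H]
      rw [h8]
      exact Ideal.sum_mem _ fun j _ => Ideal.mul_mem_left _ _ (hs j)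
    have h11 := hInj _ h7
    have hmax_eq : m.map (algebraMap A (Localization.AtPrime m))
        = IsLocalRing.maximalIdeal (Localization.AtPrime m) :=
      Localization.AtPrime.map_eq_maximalIdeal
    have hImle : I.map (algebraMap A (Localization.AtPrime m))
        ≤ IsLocalRing.maximalIdeal (Localization.AtPrime m) := by
      rw [← hmax_eq]
      exact Ideal.map_mono hIm
    have hsum_mem : ∑ j, algebraMap A (Localization.AtPrime m) (a none j) * s j
        ∈ IsLocalRing.maximalIdeal (Localization.AtPrime m) := by
      refine Ideal.sum_mem _ fun j _ => Ideal.mul_mem_right _ _ ?_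
      rw [← hmax_eq]
      exact Ideal.mem_map_of_mem _ (ham j)
    have h1mem : (1 : Localization.AtPrime m)
        ∈ IsLocalRing.maximalIdeal (Localization.AtPrime m) := by
      have h := Ideal.add_mem _ (hImle h11) hsum_mem
      rwa [sub_add_cancel] at h
    exact (Ideal.ne_top_iff_one _).1 (IsLocalRing.maximalIdeal.isMaximal _).ne_top h1mem

end Groth.Agent.S17617
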