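import Groth.Statements.S17620
import Mathlib

set_option autoImplicit false
universe u
open Hensel

namespace Groth.Agent.S17620

theorem surj_mod (R : Type u) [CommRing R] (J : Ideal R) (H : Type u) [CommRing H] [Algebra R H]
    (hH : Hens2.IsPairHenselization R J H) :
    ∀ x : H, ∃ r : R, x - algebraMap R H r ∈ J.map (algebraMap R H) := by
  classical
  set I : Ideal H := J.map (algebraMap R H) with hI
  let B : Subring H :=
    { carrier := {x | ∃ r : R, x - algebraMap R H r ∈ I}
      mul_mem' := by
        rintro a b ⟨r, hr⟩ ⟨s, hs⟩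
        refine ⟨r * s, ?_⟩
        have h0 : a * b - algebraMap R H (r * s) =
            (a - algebraMap R H r) * b + algebraMap R H r * (b - algebraMap R H s) := by
          rw [map_mul]; ring
        rw [h0]
        exact I.add_mem (I.mul_mem_right _ hr) (I.mul_mem_left _ hs)
      one_mem' := ⟨1, by rw [map_one, sub_self]; exact I.zero_mem⟩
      add_mem' := by
        rintro a b ⟨r, hr⟩ ⟨s, hs⟩
        refine ⟨r + s, ?_⟩
        have h0 : a + b - algebraMap R H (r + s) =
            (a - algebraMap R H r) + (b - algebraMap R H s) := by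
          rw [map_add]; ring
        rw [h0]
        exact I.add_mem hr hs
      zero_mem' := ⟨0, by rw [map_zero, sub_self]; exact I.zero_mem⟩
      neg_mem' := by
        rintro a ⟨r, hr⟩
        refine ⟨-r, ?_⟩
        have h0 : -a - algebraMap R H (-r) = -(a - algebraMap R H r) := by rw [map_neg]; ring
        rw [h0]
        exact I.neg_mem hr }
  let ι : B →+* H := B.subtype
  let I' : Ideal B := I.comap ι
  have hHens : HenselianRing B I' := by
    refine ⟨?_, ?_⟩
    · intro x hx
      rw [Ideal.mem_jacobson_bot]
      intro y
      have hx' : ι x ∈ I := hx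
      have hu : IsUnit (ι x * ι y + 1) := Ideal.mem_jacobson_bot.mp (hH.1.jac hx') (ι y)
      obtain ⟨v, hv⟩ := isUnit_iff_exists_inv.mp hu
      have hvB : v ∈ B := by
        refine ⟨1, ?_⟩
        have h0 : v - algebraMap R H 1 = -(ι x * (ι y * v)) := by
          rw [map_one]; linear_combination hv
        rw [h0]
        exact I.neg_mem (I.mul_mem_right _ hx')
      rw [isUnit_iff_exists_inv]
      refine ⟨⟨v, hvB⟩, ?_⟩
      apply Subtype.ext
      exact hv
    · intro f hf a₀ h₁ h₂
      have hf' : (f.map ι).Monic := hf.map ι
      have h₁' : (f.map ι).eval (ι a₀) ∈ I := by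
        rw [Polynomial.eval_map, Polynomial.eval₂_at_apply]
        exact h₁
      have h₂' : IsUnit (Ideal.Quotient.mk I ((f.map ι).derivative.eval (ι a₀))) := by
        rw [Polynomial.derivative_map, Polynomial.eval_map, Polynomial.eval₂_at_apply]
        have h3 := h₂.map (Ideal.quotientMap I ι (le_refl I'))
        rwa [Ideal.quotientMap_mk] at h3
      obtain ⟨a, ha, haI⟩ := hH.1.is_henselian (f.map ι) hf' (ι a₀) h₁' h₂'
      have haB : a ∈ B := by
        obtain ⟨r₀, hr₀⟩ := a₀.2
        refine ⟨r₀, ?_⟩
        have h0 : a - algebraMap R H r₀ = (a - ι a₀) + (ι a₀ - algebraMap R H r₀) := by ring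
        rw [h0]
        exact I.add_mem haI hr₀
      refine ⟨⟨a, haB⟩, ?_, ?_⟩
      · have hinj : Function.Injective ι := Subtype.val_injective
        apply hinj
        show ι (f.eval ⟨a, haB⟩) = ι 0
        rw [← Polynomial.eval₂_at_apply, ← Polynomial.eval_map, map_zero]
        exact ha
      · show ι (⟨a, haB⟩ - a₀) ∈ I
        rw [map_sub]; exact haI
  let fB : R →+* B := (algebraMap R H).codRestrict B
    (fun r => ⟨r, by rw [sub_self]; exact I.zero_mem⟩)
  have hfB : J.map fB ≤ I' := by
    rw [Ideal.map_le_iff_le_comap]
    intro r hr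
    show ι (fB r) ∈ I
    exact Ideal.mem_map_of_mem _ hr
  obtain ⟨g, hg, -⟩ := hH.2 B I' fB hHens hfB
  obtain ⟨g₀, hg₀, huniq⟩ := hH.2 H I (algebraMap R H) hH.1 le_rfl
  have h1 : ι.comp g = g₀ := huniq _ (by
    show (ι.comp g).comp (algebraMap R H) = algebraMap R H
    rw [RingHom.comp_assoc, hg]; rfl)
  have h2 : RingHom.id H = g₀ := huniq _ (by
    show (RingHom.id H).comp (algebraMap R H) = algebraMap R H
    rw [RingHom.id_comp])
  intro x
  have hx : ι (g x) = x := by
    have h3 := congrArg (fun h : H →+* H => h x) (h1.trans h2.symm)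
    exact h3
  rw [← hx]
  exact (g x).2

open Hensel in
theorem aux (R : Type u) [CommRing R] [IsLocalRing R] (J : Ideal R)
    (hJ : J ≤ IsLocalRing.maximalIdeal R)
    (H : Type u) [CommRing H] [IsLocalRing H] [Algebra R H] [IsLocalHom (algebraMap R H)]
    (hH : Hens2.IsPairHenselization R J H)
    (S : Type u) [CommRing S] [IsLocalRing S] [Algebra H S] [IsLocalHom (algebraMap H S)]
    [hS : Hensel.IsStrictHenselization H S]
    [Algebra R S] [IsScalarTower R H S] [IsLocalHom (algebraMap R S)] :
    Hensel.IsStrictHenselization R S := by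
  have hdec := surj_mod R J H hH
  have hJH : J.map (algebraMap R H) ≤ IsLocalRing.maximalIdeal H := by
    rw [Ideal.map_le_iff_le_comap]
    intro r hr
    rw [Ideal.mem_comap]
    exact map_nonunit (algebraMap R H) r (hJ hr)
  have hsurj : Function.Surjective (IsLocalRing.ResidueField.map (algebraMap R H)) := by
    intro y
    obtain ⟨x, rfl⟩ := IsLocalRing.residue_surjective y
    obtain ⟨r, hr⟩ := hdec x
    refine ⟨IsLocalRing.residue R r, ?_⟩
    rw [IsLocalRing.ResidueField.map_residue]
    symm
    rw [← sub_eq_zero, ← map_sub]
    exact (IsLocalRing.residue_eq_zero_iff _).mpr (hJH hr)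
  have hcomp : algebraMap R S = (algebraMap H S).comp (algebraMap R H) :=
    IsScalarTower.algebraMap_eq R H S
  have hmapcomp : IsLocalRing.ResidueField.map (algebraMap R S) =
      (IsLocalRing.ResidueField.map (algebraMap H S)).comp
        (IsLocalRing.ResidueField.map (algebraMap R H)) := by
    apply Ideal.Quotient.ringHom_ext
    ext r
    show IsLocalRing.residue S (algebraMap R S r) =
      IsLocalRing.residue S (algebraMap H S (algebraMap R H r))
    rw [hcomp]; rfl
  refine ⟨hS.henselian, ⟨hS.isSepClosure.sep_closed, ⟨fun x => ?_⟩⟩, ?_⟩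
  · have hsepH : IsSeparable (IsLocalRing.ResidueField H) x :=
      hS.isSepClosure.separable.isSeparable _ x
    let e : IsLocalRing.ResidueField R ≃+* IsLocalRing.ResidueField H :=
      RingEquiv.ofBijective (IsLocalRing.ResidueField.map (algebraMap R H))
        ⟨(IsLocalRing.ResidueField.map (algebraMap R H)).injective, hsurj⟩
    have hp : ((minpoly (IsLocalRing.ResidueField H) x).map
        (e.symm : IsLocalRing.ResidueField H →+* IsLocalRing.ResidueField R)).Separable :=
      Polynomial.Separable.map hsepH
    have hroot : Polynomial.aeval x ((minpoly (IsLocalRing.ResidueField H) x).map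
        (e.symm : IsLocalRing.ResidueField H →+* IsLocalRing.ResidueField R)) = 0 := by
      rw [Polynomial.aeval_def, Polynomial.eval₂_map]
      have h0 : (algebraMap (IsLocalRing.ResidueField R) (IsLocalRing.ResidueField S)).comp
          (e.symm : IsLocalRing.ResidueField H →+* IsLocalRing.ResidueField R) =
          algebraMap (IsLocalRing.ResidueField H) (IsLocalRing.ResidueField S) := by
        ext y
        obtain ⟨z, rfl⟩ := e.surjective y
        simp only [RingHom.comp_apply, RingEquiv.coe_toRingHom, RingEquiv.symm_apply_apply]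
        show IsLocalRing.ResidueField.map (algebraMap R S) z =
          IsLocalRing.ResidueField.map (algebraMap H S)
            (IsLocalRing.ResidueField.map (algebraMap R H) z)
        rw [hmapcomp]; rfl
      rw [h0, ← Polynomial.aeval_def, minpoly.aeval]
    exact hp.of_dvd (minpoly.dvd _ x hroot)
  · intro T _ _ f _ τ hτ
    have hJT : J.map f ≤ IsLocalRing.maximalIdeal T := by
      rw [Ideal.map_le_iff_le_comap]
      intro r hr
      exact map_nonunit f r (hJ hr)
    obtain ⟨fH, hfH, hfHuniq⟩ := hH.2 T (IsLocalRing.maximalIdeal T) f inferInstance hJT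
    have hfHr : ∀ r, fH (algebraMap R H r) = f r := fun r => by
      rw [← hfH]; rfl
    haveI : IsLocalHom fH := by
      refine ⟨fun x hx => ?_⟩
      obtain ⟨r, hr⟩ := hdec x
      have hy : fH (x - algebraMap R H r) ∈ IsLocalRing.maximalIdeal T := by
        have h1 : fH (x - algebraMap R H r) ∈ (J.map (algebraMap R H)).map fH :=
          Ideal.mem_map_of_mem _ hr
        rw [Ideal.map_map, hfH] at h1
        exact hJT h1
      have hfr : IsUnit (f r) := by
        have h2 : f r = fH x - fH (x - algebraMap R H r) := by
          rw [map_sub, hfHr]; ring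
        rw [h2]
        by_contra hnu
        have h3 : fH x - fH (x - algebraMap R H r) ∈ IsLocalRing.maximalIdeal T :=
          (IsLocalRing.mem_maximalIdeal _).mpr hnu
        have h4 : fH x ∈ IsLocalRing.maximalIdeal T := by
          have h5 := Ideal.add_mem _ h3 hy
          rwa [sub_add_cancel] at h5
        exact ((IsLocalRing.mem_maximalIdeal _).mp h4) hx
      have hr_unit : IsUnit r := isUnit_of_map_unit f r hfr
      by_contra hxn
      have h5 : x ∈ IsLocalRing.maximalIdeal H := (IsLocalRing.mem_maximalIdeal _).mpr hxn
      have h6 : algebraMap R H r ∈ IsLocalRing.maximalIdeal H := by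
        have h7 := Ideal.sub_mem _ h5 (hJH hr)
        rwa [sub_sub_cancel] at h7
      exact ((IsLocalRing.mem_maximalIdeal _).mp h6) (hr_unit.map (algebraMap R H))
    have hτH : τ.comp (IsLocalRing.ResidueField.map (algebraMap H S)) =
        IsLocalRing.ResidueField.map fH := by
      apply RingHom.ext
      intro y
      obtain ⟨z, rfl⟩ := hsurj y
      have h1 := congrArg (fun h => h z) hτ
      simp only [RingHom.comp_apply] at h1 ⊢
      rw [hmapcomp, RingHom.comp_apply] at h1
      rw [h1]
      obtain ⟨r, rfl⟩ := IsLocalRing.residue_surjective z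
      show IsLocalRing.residue T (f r) = IsLocalRing.residue T (fH (algebraMap R H r))
      rw [hfHr]
    obtain ⟨g, ⟨hg1, hg2⟩, hguniq⟩ := hS.universal T fH τ hτH
    refine ⟨g, ⟨?_, hg2⟩, ?_⟩
    · rw [hcomp, ← RingHom.comp_assoc, hg1, hfH]
    · intro g' ⟨hg'1, hg'2⟩
      exact hguniq g' ⟨hfHuniq _ (by
        show (g'.comp (algebraMap H S)).comp (algebraMap R H) = f
        rw [RingHom.comp_assoc, ← hcomp, hg'1]), hg'2⟩

/-- Let R be a local ring and J an ideal of R contained in the maximal ideal, let H be a Henselization
of the pair (R, J) which is a local ring with local structure map R → H, and let S be a strict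
Henselization of the local ring H. Then S, with its composite R-algebra structure, is a strict
Henselization of the local ring R. (This is the identification of the strict Henselization of the
local ring of a scheme at a point with that of the local ring of its Henselization along a closed
subscheme through the point.) -/
theorem result
    (R : Type u) [CommRing R] [IsLocalRing R] (J : Ideal R) (hJ : J ≤ IsLocalRing.maximalIdeal R)
    (H : Type u) [CommRing H] [IsLocalRing H] [Algebra R H] [IsLocalHom (algebraMap R H)]
    (hH : Hens2.IsPairHenselization R J H)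
    (S : Type u) [CommRing S] [IsLocalRing S] [Algebra H S] [IsLocalHom (algebraMap H S)]
    [Hensel.IsStrictHenselization H S]
    [Algebra R S] [IsScalarTower R H S] [IsLocalHom (algebraMap R S)] :
    Hensel.IsStrictHenselization R S := by
  exact aux R J hJ H hH S

end Groth.Agent.S17620
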