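import Groth.Statements.S17635
import Mathlib

set_option autoImplicit false
open Finset
open Variety

namespace Groth.Agent.S17635

/-- Let r and n be natural numbers and f : ℚ^r → ℝ a nonnegative function which is homogeneous of degree
n for positive rational scalars, f(q · v) = q^n · f(v) for q > 0; give ℚ^r the maximum norm ‖v‖ =
max_j |v_j| of its standard basis. Suppose that for every standard basis vector e_i there is a
constant C_i with |f(v − b · e_i) − f(v)| ≤ C_i · Σ_{q=1}^{n} ‖v‖^{n−q} · b^q for all v ∈ ℚ^r and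
all integers b ≥ 1. Then there is a constant C > 0 such that |f(v) − f(w)| ≤ C · Σ_{q=1}^{n}
max(‖v‖, ‖w‖)^{n−q} · ‖v − w‖^q for all v, w ∈ ℚ^r. (The source allows any norm on an r-dimensional
rational vector space with a chosen basis and argues with the maximum norm of that basis, which is
the case stated here.) -/
theorem result (r n : ℕ) (f : (Fin r → ℚ) → ℝ)
    (hf0 : ∀ v, 0 ≤ f v)
    (hhom : ∀ (q : ℚ) (v : Fin r → ℚ), 0 < q → f (q • v) = (q : ℝ) ^ n * f v)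
    (hdir : ∀ i : Fin r, ∃ Ci : ℝ, ∀ (v : Fin r → ℚ) (b : ℕ), 1 ≤ b →
      |f (v - (b : ℚ) • Pi.single i 1) - f v| ≤
        Ci * (Finset.Icc 1 n).sum (fun q => ‖(fun j => ((v j : ℚ) : ℝ))‖ ^ (n - q) * (b : ℝ) ^ q)) :
    ∃ C : ℝ, 0 < C ∧ ∀ v w : Fin r → ℚ,
      |f v - f w| ≤ C * (Finset.Icc 1 n).sum (fun q =>
        (max ‖(fun j => ((v j : ℚ) : ℝ))‖ ‖(fun j => ((w j : ℚ) : ℝ))‖) ^ (n - q) *
          ‖(fun j => ((v j - w j : ℚ) : ℝ))‖ ^ q) := by
  classical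
  choose Cc hCc using hdir
  set K : ℝ := ∑ i, |Cc i| with hK
  have hK0 : 0 ≤ K := Finset.sum_nonneg fun i _ => abs_nonneg _
  have hKi : ∀ i, |Cc i| ≤ K := fun i =>
    Finset.single_le_sum (f := fun i => |Cc i|) (fun i _ => abs_nonneg (Cc i)) (Finset.mem_univ i)
  refine ⟨r * K + 1, by positivity, ?_⟩
  intro v w
  have hvm : ‖(fun j => ((v j : ℚ) : ℝ))‖ ≤
      max ‖(fun j => ((v j : ℚ) : ℝ))‖ ‖(fun j => ((w j : ℚ) : ℝ))‖ := le_max_left _ _
  have hwm : ‖(fun j => ((w j : ℚ) : ℝ))‖ ≤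
      max ‖(fun j => ((v j : ℚ) : ℝ))‖ ‖(fun j => ((w j : ℚ) : ℝ))‖ := le_max_right _ _
  have hdn : ∀ j, |((v j - w j : ℚ) : ℝ)| ≤ ‖(fun j => ((v j - w j : ℚ) : ℝ))‖ := by
    intro j
    have := norm_le_pi_norm (fun j => ((v j - w j : ℚ) : ℝ)) j
    rwa [Real.norm_eq_abs] at this
  have hvn : ∀ j, |((v j : ℚ) : ℝ)| ≤ ‖(fun j => ((v j : ℚ) : ℝ))‖ := by
    intro j
    have := norm_le_pi_norm (fun j => ((v j : ℚ) : ℝ)) j
    rwa [Real.norm_eq_abs] at this
  have hwn : ∀ j, |((w j : ℚ) : ℝ)| ≤ ‖(fun j => ((w j : ℚ) : ℝ))‖ := by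
    intro j
    have := norm_le_pi_norm (fun j => ((w j : ℚ) : ℝ)) j
    rwa [Real.norm_eq_abs] at this
  have hm0' : 0 ≤ max ‖(fun j => ((v j : ℚ) : ℝ))‖ ‖(fun j => ((w j : ℚ) : ℝ))‖ :=
    le_max_of_le_left (norm_nonneg _)
  have hd0' : 0 ≤ ‖(fun j => ((v j - w j : ℚ) : ℝ))‖ := norm_nonneg _
  generalize max ‖(fun j => ((v j : ℚ) : ℝ))‖ ‖(fun j => ((w j : ℚ) : ℝ))‖ = m at *
  generalize ‖(fun j => ((v j - w j : ℚ) : ℝ))‖ = d at *
  have hvm' : ∀ j, |((v j : ℚ) : ℝ)| ≤ m := fun j => (hvn j).trans hvm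
  have hwm' : ∀ j, |((w j : ℚ) : ℝ)| ≤ m := fun j => (hwn j).trans hwm
  set S : ℝ := (Finset.Icc 1 n).sum (fun q => m ^ (n - q) * d ^ q) with hS
  have hS0 : 0 ≤ S := Finset.sum_nonneg fun q _ => by positivity
  -- common denominator
  obtain ⟨N, hN0, hNz⟩ : ∃ N : ℕ, 0 < N ∧ ∀ j, ∃ z : ℤ, (N : ℚ) * (v j - w j) = z := by
    refine ⟨∏ k, (v k - w k).den, Finset.prod_pos fun k _ => Rat.den_pos _, fun j => ?_⟩
    refine ⟨(∏ k ∈ Finset.univ.erase j, ((v k - w k).den : ℤ)) * (v j - w j).num, ?_⟩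
    rw [← Finset.mul_prod_erase Finset.univ _ (Finset.mem_univ j)]
    push_cast
    rw [mul_comm ((v j - w j).den : ℚ), mul_assoc, Rat.den_mul_eq_num]
  choose z hz using hNz
  have hNpos : (0 : ℝ) < N := by exact_mod_cast hN0
  have hNq : (0 : ℚ) < N := by exact_mod_cast hN0
  -- the path
  let u : ℕ → (Fin r → ℚ) := fun j k => if (k : ℕ) < j then (N : ℚ) * w k else (N : ℚ) * v k
  have hu0 : u 0 = (N : ℚ) • v := by
    ext k
    simp [u]
  have hur : u r = (N : ℚ) • w := by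
    ext k
    simp [u, k.2]
  have hunorm : ∀ j, ‖(fun k => ((u j k : ℚ) : ℝ))‖ ≤ N * m := by
    intro j
    rw [pi_norm_le_iff_of_nonneg (by positivity)]
    intro k
    rw [Real.norm_eq_abs]
    by_cases hk : (k : ℕ) < j
    · simp only [u, if_pos hk]
      push_cast
      rw [abs_mul, abs_of_nonneg hNpos.le]
      exact mul_le_mul_of_nonneg_left (hwm' k) hNpos.le
    · simp only [u, if_neg hk]
      push_cast
      rw [abs_mul, abs_of_nonneg hNpos.le]
      exact mul_le_mul_of_nonneg_left (hvm' k) hNpos.le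
  have hzd : ∀ j, |(z j : ℝ)| ≤ N * d := by
    intro j
    have h1 : (z j : ℝ) = N * ((v j - w j : ℚ) : ℝ) := by
      have := hz j
      exact_mod_cast this.symm
    rw [h1, abs_mul, abs_of_nonneg hNpos.le]
    exact mul_le_mul_of_nonneg_left (hdn j) hNpos.le
  have hscale : (Finset.Icc 1 n).sum (fun q => ((N : ℝ) * m) ^ (n - q) * ((N : ℝ) * d) ^ q) =
      (N : ℝ) ^ n * S := by
    rw [hS, Finset.mul_sum]
    refine Finset.sum_congr rfl fun q hq => ?_
    rw [Finset.mem_Icc] at hq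
    rw [mul_pow, mul_pow]
    have h2 : (N : ℝ) ^ n = (N : ℝ) ^ (n - q) * (N : ℝ) ^ q := by
      rw [← pow_add, Nat.sub_add_cancel hq.2]
    rw [h2]
    ring
  have hmono : ∀ a b : ℝ, 0 ≤ a → a ≤ N * m → 0 ≤ b → b ≤ N * d →
      (Finset.Icc 1 n).sum (fun q => a ^ (n - q) * b ^ q) ≤ (N : ℝ) ^ n * S := by
    intro a b ha ha' hb hb'
    rw [← hscale]
    refine Finset.sum_le_sum fun q _ => ?_
    gcongr
  have hstep : ∀ j, j < r → |f (u j) - f (u (j + 1))| ≤ K * ((N : ℝ) ^ n * S) := by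
    intro j hj
    have hrel : u (j + 1) = u j - ((z ⟨j, hj⟩ : ℚ)) • Pi.single (⟨j, hj⟩ : Fin r) 1 := by
      ext k
      simp only [u, Pi.sub_apply, Pi.smul_apply, smul_eq_mul, Pi.single_apply]
      by_cases hk1 : (k : ℕ) < j
      · have hne : k ≠ ⟨j, hj⟩ := fun h => by
          rw [h] at hk1
          simp at hk1
        rw [if_pos (by omega), if_pos hk1, if_neg hne, mul_zero, sub_zero]
      · by_cases hk2 : k = ⟨j, hj⟩
        · subst hk2
          rw [if_pos (by simp), if_neg (by simp), if_pos rfl, mul_one, ← hz]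
          ring
        · have hnlt : ¬ (k : ℕ) < j + 1 := by
            intro h
            apply hk2
            ext
            simp only
            omega
          rw [if_neg hnlt, if_neg hk1, if_neg hk2, mul_zero, sub_zero]
    rcases lt_trichotomy (z ⟨j, hj⟩) 0 with hneg | hzero | hpos
    · have hbn1 : 1 ≤ (-(z ⟨j, hj⟩)).toNat := by omega
      have hbz : (((-(z ⟨j, hj⟩)).toNat : ℕ) : ℤ) = -(z ⟨j, hj⟩) := Int.toNat_of_nonneg (by omega)
      have hbq : (((-(z ⟨j, hj⟩)).toNat : ℕ) : ℚ) = -(z ⟨j, hj⟩ : ℚ) := by exact_mod_cast hbz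
      have hrel' : u j = u (j + 1) - (((-(z ⟨j, hj⟩)).toNat : ℕ) : ℚ) • Pi.single (⟨j, hj⟩ : Fin r) 1 := by
        rw [hrel, hbq, neg_smul, sub_neg_eq_add, sub_add_cancel]
      have h1 := hCc ⟨j, hj⟩ (u (j + 1)) _ hbn1
      rw [← hrel'] at h1
      have hb_abs : (((-(z ⟨j, hj⟩)).toNat : ℕ) : ℝ) = |(z ⟨j, hj⟩ : ℝ)| := by
        rw [abs_of_neg (by exact_mod_cast hneg)]
        exact_mod_cast hbz
      have hsum0 : 0 ≤ (Finset.Icc 1 n).sum (fun q =>
          ‖(fun k => ((u (j + 1) k : ℚ) : ℝ))‖ ^ (n - q) * (((-(z ⟨j, hj⟩)).toNat : ℕ) : ℝ) ^ q) :=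
        Finset.sum_nonneg fun q _ => by positivity
      calc |f (u j) - f (u (j + 1))| ≤ Cc ⟨j, hj⟩ * _ := h1
        _ ≤ |Cc ⟨j, hj⟩| * _ := mul_le_mul_of_nonneg_right (le_abs_self _) hsum0
        _ ≤ K * ((N : ℝ) ^ n * S) := by
          apply mul_le_mul (hKi _) _ hsum0 hK0
          apply hmono _ _ (norm_nonneg _) (hunorm _) (Nat.cast_nonneg _)
          rw [hb_abs]
          exact hzd _
    · rw [hrel, hzero]
      simp only [Int.cast_zero, zero_smul, sub_zero, sub_self, abs_zero]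
      positivity
    · have hbn1 : 1 ≤ (z ⟨j, hj⟩).toNat := by omega
      have hbz : (((z ⟨j, hj⟩).toNat : ℕ) : ℤ) = z ⟨j, hj⟩ := Int.toNat_of_nonneg (by omega)
      have hbq : (((z ⟨j, hj⟩).toNat : ℕ) : ℚ) = (z ⟨j, hj⟩ : ℚ) := by exact_mod_cast hbz
      have h1 := hCc ⟨j, hj⟩ (u j) _ hbn1
      rw [hbq, ← hrel, abs_sub_comm] at h1
      have hb_abs : (((z ⟨j, hj⟩).toNat : ℕ) : ℝ) = |(z ⟨j, hj⟩ : ℝ)| := by
        rw [abs_of_pos (by exact_mod_cast hpos)]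
        exact_mod_cast hbz
      have hsum0 : 0 ≤ (Finset.Icc 1 n).sum (fun q =>
          ‖(fun k => ((u j k : ℚ) : ℝ))‖ ^ (n - q) * (((z ⟨j, hj⟩).toNat : ℕ) : ℝ) ^ q) :=
        Finset.sum_nonneg fun q _ => by positivity
      calc |f (u j) - f (u (j + 1))| ≤ Cc ⟨j, hj⟩ * _ := h1
        _ ≤ |Cc ⟨j, hj⟩| * _ := mul_le_mul_of_nonneg_right (le_abs_self _) hsum0
        _ ≤ K * ((N : ℝ) ^ n * S) := by
          apply mul_le_mul (hKi _) _ hsum0 hK0
          apply hmono _ _ (norm_nonneg _) (hunorm _) (Nat.cast_nonneg _)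
          rw [hb_abs]
          exact hzd _
  have htel : |f (u 0) - f (u r)| ≤ r * (K * ((N : ℝ) ^ n * S)) := by
    have h3 : f (u 0) - f (u r) = ∑ j ∈ Finset.range r, (f (u j) - f (u (j + 1))) :=
      (Finset.sum_range_sub' (fun j => f (u j)) r).symm
    rw [h3]
    calc |∑ j ∈ Finset.range r, (f (u j) - f (u (j + 1)))|
        ≤ ∑ j ∈ Finset.range r, |f (u j) - f (u (j + 1))| := Finset.abs_sum_le_sum_abs _ _
      _ ≤ ∑ j ∈ Finset.range r, K * ((N : ℝ) ^ n * S) :=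
          Finset.sum_le_sum fun j hj => hstep j (Finset.mem_range.mp hj)
      _ = r * (K * ((N : ℝ) ^ n * S)) := by
          rw [Finset.sum_const, Finset.card_range, nsmul_eq_mul]
  rw [hu0, hur, hhom _ v hNq, hhom _ w hNq] at htel
  have hNn : (0 : ℝ) < (N : ℝ) ^ n := pow_pos hNpos n
  have hcast : ((N : ℚ) : ℝ) = (N : ℝ) := by norm_cast
  rw [hcast, ← mul_sub, abs_mul, abs_of_pos hNn] at htel
  have h4 : |f v - f w| ≤ r * K * S := by
    apply le_of_mul_le_mul_left _ hNn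
    calc (N : ℝ) ^ n * |f v - f w| ≤ r * (K * ((N : ℝ) ^ n * S)) := htel
      _ = (N : ℝ) ^ n * (r * K * S) := by ring
  calc |f v - f w| ≤ r * K * S := h4
    _ ≤ (r * K + 1) * S := by nlinarith

end Groth.Agent.S17635
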