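import Groth.Statements.S17662
import Mathlib

set_option autoImplicit false
universe u
open CIDisc

namespace Groth.Agent.S17662

section CB

open exteriorPower

variable {R : Type u} [CommRing R]

/-- rows of `A` as linear forms -/
noncomputable def rowForm {e r : ℕ} (A : Matrix (Fin e) (Fin r) R) (i : Fin e) :
    Module.Dual R (Fin r → R) :=
  (LinearMap.proj i).comp A.mulVecLin

noncomputable def PhiA {e r : ℕ} (A : Matrix (Fin e) (Fin r) R) :
    Module.Dual R (⋀[R]^e (Fin r → R)) :=
  pairingDual R (Fin r → R) e (ιMulti R e (rowForm A))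

theorem PhiA_ιMulti {e r : ℕ} (A : Matrix (Fin e) (Fin r) R) (v : Fin e → (Fin r → R)) :
    PhiA A (ιMulti R e v) = Matrix.det (Matrix.of fun i j => (A.mulVec (v i)) j) := by
  rw [PhiA, pairingDual_ιMulti_ιMulti]
  rfl

def colv {e r n : ℕ} (M : Matrix (Fin r) (Fin n) R) (c : Fin e → Fin n) : Fin e → (Fin r → R) :=
  fun j i => M i (c j)

theorem CBa {e r n : ℕ} (A : Matrix (Fin e) (Fin r) R) (M : Matrix (Fin r) (Fin n) R)
    (c : Fin e → Fin n) :
    PhiA A (ιMulti R e (colv M c)) = ((A * M).submatrix id c).det := by
  rw [PhiA_ιMulti, ← Matrix.det_transpose]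
  congr 1

theorem CBb {e r n : ℕ} (M : Matrix (Fin r) (Fin n) R) (c : Fin e → Fin n)
    (s : Set.powersetCard (Fin r) e) :
    ((Pi.basisFun R (Fin r)).exteriorPower e).repr (ιMulti R e (colv M c)) s =
      (M.submatrix (Finset.orderEmbOfFin s.val s.prop) c).det := by
  rw [exteriorPower.basis_repr_apply, ιMultiDual_apply_ιMulti, ← Matrix.det_transpose]
  congr 1

theorem CBc {e r : ℕ} (A : Matrix (Fin e) (Fin r) R) (s : Set.powersetCard (Fin r) e) :
    PhiA A ((Pi.basisFun R (Fin r)).exteriorPower e s) =
      (A.submatrix id (Finset.orderEmbOfFin s.val s.prop)).det := by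
  rw [exteriorPower.basis_apply, ιMulti_family, PhiA_ιMulti, ← Matrix.det_transpose]
  congr 1
  ext i j
  simp [Set.powersetCard.ofFinEmbEquiv_symm_apply]

theorem cauchyBinet {e r n : ℕ} (A : Matrix (Fin e) (Fin r) R) (M : Matrix (Fin r) (Fin n) R)
    (c : Fin e → Fin n) :
    ((A * M).submatrix id c).det = ∑ s : Set.powersetCard (Fin r) e,
      (A.submatrix id (Finset.orderEmbOfFin s.val s.prop)).det *
        (M.submatrix (Finset.orderEmbOfFin s.val s.prop) c).det := by
  calc ((A * M).submatrix id c).det = PhiA A (ιMulti R e (colv M c)) := (CBa A M c).symm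
    _ = PhiA A (∑ s, ((Pi.basisFun R (Fin r)).exteriorPower e).repr (ιMulti R e (colv M c)) s •
          ((Pi.basisFun R (Fin r)).exteriorPower e) s) := by
        rw [Module.Basis.sum_repr]
    _ = _ := by
        rw [map_sum]
        refine Finset.sum_congr rfl fun s _ => ?_
        rw [map_smul, smul_eq_mul, CBb, CBc, mul_comm]

theorem cauchyBinet' {e r n : ℕ} (A : Matrix (Fin e) (Fin r) R) (M : Matrix (Fin r) (Fin n) R)
    (c : Fin e → Fin n) :
    ((A * M).submatrix id c).det = ∑ s : {s : Finset (Fin r) // s.card = e},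
      (A.submatrix id (s.1.orderEmbOfFin s.2)).det * (M.submatrix (s.1.orderEmbOfFin s.2) c).det := by
  rw [cauchyBinet]
  let E : {s : Finset (Fin r) // s.card = e} ≃ Set.powersetCard (Fin r) e :=
    Equiv.subtypeEquivRight (fun s => Set.powersetCard.mem_iff.symm)
  exact (Fintype.sum_equiv E _ _ (fun s => rfl)).symm

theorem aux (e r n : ℕ)
    (M : Matrix (Fin r) (Fin n) R)
    (A : {s : Finset (Fin r) // s.card = e} → Matrix (Fin e) (Fin r) R)
    (hA : IsUnit (Matrix.det (Matrix.of fun i j : {s : Finset (Fin r) // s.card = e} =>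
      ((A i).submatrix id (j.1.orderEmbOfFin j.2)).det))) :
    (⨆ i, Ideal.span (Set.range fun t : {s : Finset (Fin n) // s.card = e} =>
        ((A i * M).submatrix id (t.1.orderEmbOfFin t.2)).det)) =
      Ideal.span (Set.range fun p : {s : Finset (Fin r) // s.card = e} × {s : Finset (Fin n) // s.card = e} =>
        (M.submatrix (p.1.1.orderEmbOfFin p.1.2) (p.2.1.orderEmbOfFin p.2.2)).det) := by
  classical
  set Λ : Matrix {s : Finset (Fin r) // s.card = e} {s : Finset (Fin r) // s.card = e} R :=
    Matrix.of fun i j : {s : Finset (Fin r) // s.card = e} =>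
      ((A i).submatrix id (j.1.orderEmbOfFin j.2)).det with hΛ
  have hCB : ∀ (i : {s : Finset (Fin r) // s.card = e}) (t : {s : Finset (Fin n) // s.card = e}),
      ((A i * M).submatrix id (t.1.orderEmbOfFin t.2)).det =
        ∑ j : {s : Finset (Fin r) // s.card = e}, Λ i j *
          (M.submatrix (j.1.orderEmbOfFin j.2) (t.1.orderEmbOfFin t.2)).det :=
    fun i t => cauchyBinet' (A i) M _
  apply le_antisymm
  · apply iSup_le
    intro i
    rw [Ideal.span_le]
    rintro _ ⟨t, rfl⟩
    show ((A i * M).submatrix id (t.1.orderEmbOfFin t.2)).det ∈ Ideal.span _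
    rw [hCB i t]
    exact Ideal.sum_mem _ fun j _ => Ideal.mul_mem_left _ _ (Ideal.subset_span ⟨(j, t), rfl⟩)
  · rw [Ideal.span_le]
    rintro _ ⟨⟨p, t⟩, rfl⟩
    have hinv : Λ⁻¹ * Λ = 1 := Matrix.nonsing_inv_mul Λ hA
    have key : (M.submatrix (p.1.orderEmbOfFin p.2) (t.1.orderEmbOfFin t.2)).det =
        ∑ i : {s : Finset (Fin r) // s.card = e}, Λ⁻¹ p i *
          ((A i * M).submatrix id (t.1.orderEmbOfFin t.2)).det := by
      have h1 : (Λ⁻¹ * Λ).mulVec (fun j : {s : Finset (Fin r) // s.card = e} =>
          (M.submatrix (j.1.orderEmbOfFin j.2) (t.1.orderEmbOfFin t.2)).det) p =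
          (M.submatrix (p.1.orderEmbOfFin p.2) (t.1.orderEmbOfFin t.2)).det := by
        rw [hinv, Matrix.one_mulVec]
      rw [← h1, ← Matrix.mulVec_mulVec]
      simp only [Matrix.mulVec, dotProduct]
      refine Finset.sum_congr rfl fun i _ => ?_
      rw [hCB i t]
    show (M.submatrix (p.1.orderEmbOfFin p.2) (t.1.orderEmbOfFin t.2)).det ∈ _
    rw [key]
    exact Ideal.sum_mem _ fun i _ => Ideal.mul_mem_left _ _
      (Submodule.mem_iSup_of_mem i (Ideal.subset_span ⟨t, rfl⟩))

end CB

/-- Let R be a commutative ring, M an r × n matrix over R and e ≥ 0; for each e-element set L of row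
indices let A_L be an e × r matrix over R, and form the square matrix, indexed by the e-element sets
of row indices, whose (L, L') entry is the e × e minor of A_L on the columns L'. If the determinant
of that square matrix is a unit, then the sum over L of the ideals generated by the e × e minors of
the products A_L · M is the ideal generated by all e × e minors of M. (In the source R is the
coordinate ring of an affine scheme X of codimension e cut out by f_1, …, f_r in affine n-space, M
is the image of the Jacobian matrix of the f_j, the A_L have entries in the ground field and cut out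
complete intersections Z_L = V(A_L · f), so that the two sides are Σ_L Jac(Z_L) and Jac(X); the
source states the equality for general A_L and establishes it under the present invertibility
condition, which it shows to be generic.) -/
theorem result {R : Type u} [CommRing R] (e r n : ℕ)
    (M : Matrix (Fin r) (Fin n) R)
    (A : {s : Finset (Fin r) // s.card = e} → Matrix (Fin e) (Fin r) R)
    (hA : IsUnit (Matrix.det (Matrix.of fun i j : {s : Finset (Fin r) // s.card = e} =>
      ((A i).submatrix id (j.1.orderEmbOfFin j.2)).det))) :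
    (⨆ i, Ideal.span (Set.range fun t : {s : Finset (Fin n) // s.card = e} =>
        ((A i * M).submatrix id (t.1.orderEmbOfFin t.2)).det)) =
      Ideal.span (Set.range fun p : {s : Finset (Fin r) // s.card = e} × {s : Finset (Fin n) // s.card = e} =>
        (M.submatrix (p.1.1.orderEmbOfFin p.1.2) (p.2.1.orderEmbOfFin p.2.2)).det) := by
  exact aux e r n M A hA

end Groth.Agent.S17662
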