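import Groth.Statements.S17677
import Groth.Agent.Lib.ComodDecomp_helper9
import Mathlib.RingTheory.Bialgebra.MonoidAlgebra

set_option autoImplicit false
universe u
open Hoch
open TensorProduct
open Groth.Agent.Lib.ComodDual_helper9 Groth.Agent.Lib.ComodDecomp_helper9

namespace Groth.Agent.S17677

/-- Let k be a commutative ring, M a commutative monoid and V a right comodule over the monoid bialgebra
k[M] (a quasi-coherent module with an action of the diagonalizable monoid scheme Spec k[M]). Then
every 1-cocycle of the Hochschild complex of V is a 1-coboundary, i.e. the first Hochschild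
cohomology module of the diagonalizable monoid with coefficients in V is zero. (The source works
over an algebraic space with M finitely generated and cancellative, hypotheses it uses only to
identify modules under the monoid with comodules; the cocycle computation, which is the affine
statement given here, uses neither.) -/
theorem result (k : Type u) [CommRing k] (M : Type u)
    [AddCommMonoid M] (V : Type u) [AddCommGroup V] [Module k V]
    [HopfRep.Comod k (AddMonoidAlgebra k M) V] :
    Hoch.cocycles k (AddMonoidAlgebra k M) V 1 ≤ Hoch.coboundaries k (AddMonoidAlgebra k M) V 1 := by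
  classical
  intro f hf
  -- the coefficient-at-zero functional
  let χ : AddMonoidAlgebra k M →ₗ[k] k :=
    (Finsupp.lapply 0) ∘ₗ (AddMonoidAlgebra.coeffLinearEquiv k).toLinearMap
  have hχ_single : ∀ (m : M) (r : k), χ (AddMonoidAlgebra.single m r) = if m = 0 then r else 0 := by
    intro m r
    simp only [χ, LinearMap.comp_apply, LinearEquiv.coe_coe, Finsupp.lapply_apply]
    simp [Finsupp.single_apply]
  have hχ_one : χ 1 = 1 := by
    rw [AddMonoidAlgebra.one_def, hχ_single]; simp
  -- `(id ⊗ χ) Δ a = χ a • 1`
  have hkey : ∀ a : AddMonoidAlgebra k M, ev (AddMonoidAlgebra k M) χ (CoalgebraStruct.comul (R := k) a) =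
      χ a • (1 : AddMonoidAlgebra k M) := by
    intro a
    induction a using AddMonoidAlgebra.induction_linear with
    | zero => simp
    | add x y hx hy => simp only [map_add, hx, hy, add_smul]
    | single m r =>
      rw [AddMonoidAlgebra.comul_single, hχ_single]
      simp only [CommSemiring.comul_apply, TensorProduct.map_tmul, AddMonoidAlgebra.lsingle_apply, ev_tmul,
        hχ_single]
      by_cases hm : m = 0
      · subst hm
        simp [AddMonoidAlgebra.one_def]
      · simp [hm]
  -- `(id ⊗ χ)(tail f) = -f`
  have htail : ∀ g : V ⊗[k] AddMonoidAlgebra k M,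
      ev (V ⊗[k] AddMonoidAlgebra k M) χ (Hoch.tail k (AddMonoidAlgebra k M) V g) = -g := by
    intro g
    induction g using TensorProduct.induction_on with
    | zero => simp
    | add x y hx hy => simp only [map_add, hx, hy, neg_add]
    | tmul v a =>
      rw [Hoch.tail_tmul, ev_assoc_symm_tmul]
      simp only [map_sub, hkey, ev_tmul, hχ_one, one_smul]
      rw [← TensorProduct.tmul_neg]
      congr 1
      abel
  have hf' : Hoch.d k (AddMonoidAlgebra k M) V 1 f = 0 := hf
  rw [Hoch.d_succ] at hf'
  have h1 := congrArg (ev (V ⊗[k] AddMonoidAlgebra k M) χ) hf'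
  simp only [LinearMap.add_apply, LinearMap.smul_apply, map_add, map_smul, map_zero] at h1
  rw [ev_rTensor, htail] at h1
  have h2 : ((-1 : k) ^ (0 + 1)) • -f = f := by simp
  rw [h2] at h1
  refine ⟨-(ev V χ f), ?_⟩
  rw [map_neg]
  exact neg_eq_of_add_eq_zero_right h1

end Groth.Agent.S17677
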