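import Groth.Statements.S17678
import Mathlib

set_option autoImplicit false
universe u v
open DiagMon

namespace Groth.Agent.S17678

theorem flat_singleZero (S : Type*) (G : Type*) [CommRing S] [AddCommMonoid G] :
    (AddMonoidAlgebra.singleZeroRingHom : S →+* AddMonoidAlgebra S G).Flat := by
  letI alg : Algebra S (AddMonoidAlgebra S G) := AddMonoidAlgebra.algebra
  have h : (AddMonoidAlgebra.singleZeroRingHom : S →+* AddMonoidAlgebra S G) =
      algebraMap S (AddMonoidAlgebra S G) := by
    ext x
    rfl
  rw [h, RingHom.flat_algebraMap_iff]
  haveI : Module.Free S (AddMonoidAlgebra S G) :=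
    Module.Free.of_basis (AddMonoidAlgebra.basis G S)
  infer_instance

theorem aux (R : Type u) [CommRing R] (N : Type v) [AddCommGroup N] :
    (AddMonoidAlgebra.mapDomainRingHom R ((AddMonoidHom.id N).prod (AddMonoidHom.id N))).Flat := by
  let φ : N × N ≃+ N × N :=
    { toFun := fun p => (p.1 + p.2, p.2)
      invFun := fun p => (p.1 - p.2, p.2)
      left_inv := fun p => by simp
      right_inv := fun p => by simp
      map_add' := fun p q => by
        ext
        · simp only [Prod.fst_add, Prod.snd_add]
          abel
        · simp }
  let e₁ : AddMonoidAlgebra R (N × N) ≃+* AddMonoidAlgebra R (N × N) :=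
    AddMonoidAlgebra.mapDomainRingEquiv R φ
  let e₂ : AddMonoidAlgebra R (N × N) ≃+* AddMonoidAlgebra (AddMonoidAlgebra R N) N :=
    AddMonoidAlgebra.curryRingEquiv
  have hcomp : AddMonoidAlgebra.mapDomainRingHom R ((AddMonoidHom.id N).prod (AddMonoidHom.id N)) =
      (e₁ : AddMonoidAlgebra R (N × N) →+* AddMonoidAlgebra R (N × N)).comp
        ((e₂.symm : AddMonoidAlgebra (AddMonoidAlgebra R N) N →+* AddMonoidAlgebra R (N × N)).comp
          (AddMonoidAlgebra.singleZeroRingHom :
            AddMonoidAlgebra R N →+* AddMonoidAlgebra (AddMonoidAlgebra R N) N)) := by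
    apply AddMonoidAlgebra.ringHom_ext
    · intro r
      show AddMonoidAlgebra.mapDomain ((AddMonoidHom.id N).prod (AddMonoidHom.id N))
          (AddMonoidAlgebra.single 0 r) =
        e₁ (e₂.symm (AddMonoidAlgebra.single 0 (AddMonoidAlgebra.single 0 r)))
      rw [AddMonoidAlgebra.mapDomain_single, AddMonoidAlgebra.curryRingEquiv_symm_single,
        AddMonoidAlgebra.mapDomainRingEquiv_single]
      congr 1
      show ((0 : N), (0 : N)) = ((0 : N) + 0, (0 : N))
      rw [add_zero]
    · intro n
      show AddMonoidAlgebra.mapDomain ((AddMonoidHom.id N).prod (AddMonoidHom.id N))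
          (AddMonoidAlgebra.single n 1) =
        e₁ (e₂.symm (AddMonoidAlgebra.single 0 (AddMonoidAlgebra.single n 1)))
      rw [AddMonoidAlgebra.mapDomain_single, AddMonoidAlgebra.curryRingEquiv_symm_single,
        AddMonoidAlgebra.mapDomainRingEquiv_single]
      congr 1
      show (n, n) = ((0 : N) + n, n)
      rw [zero_add]
  rw [hcomp]
  exact ((flat_singleZero _ _).comp (RingHom.Flat.of_bijective e₂.symm.bijective)).comp
    (RingHom.Flat.of_bijective e₁.bijective)

/-- Let R be a commutative ring and N an abelian group. Then the ring map R[N] → R[N × N] of monoid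
algebras induced by the diagonal n ↦ (n, n), which is the comorphism of the multiplication morphism
of the diagonalizable group scheme Spec R[N] over Spec R, is flat. (The published statement asserts
flatness for every cancellative commutative monoid N, on the ground that N acts freely on N × N
through the diagonal; but for the submonoid N of the natural numbers generated by 2 and 3, the pairs
(x, x − 1) with x ≥ 3 form one orbit class that is not a free orbit, and the corresponding direct
summand of k[N × N] is the ideal t³k[t] viewed as a module over k[t², t³], which is not flat. The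
statement is therefore given for groups, where N × N is a free N-set with basis the pairs (0, b).) -/
theorem result (R : Type u) [CommRing R] (N : Type v)
    [AddCommGroup N] :
    (AddMonoidAlgebra.mapDomainRingHom R ((AddMonoidHom.id N).prod (AddMonoidHom.id N))).Flat := by
  exact aux R N

end Groth.Agent.S17678
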