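import Groth.Statements.S17679
import Mathlib

set_option autoImplicit false
open DiagMon

namespace Groth.Agent.S17679

theorem part1 (n : ℕ) : ∃ s : Finset (Fin n → ℤ), s.card = n + 1 ∧
    AddSubmonoid.closure (s : Set (Fin n → ℤ)) = ⊤ := by
  classical
  let e : Fin n → (Fin n → ℤ) := fun i => Pi.single i 1
  have he : Function.Injective e := by
    intro i j hij
    by_contra hne
    have h := congrFun hij i
    simp only [e, Pi.single_eq_same, Pi.single_eq_of_ne hne] at h
    exact one_ne_zero h
  let m1 : Fin n → ℤ := fun _ => -1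
  have hm1 : m1 ∉ Finset.image e Finset.univ := by
    intro h
    obtain ⟨i, _, hi⟩ := Finset.mem_image.mp h
    have h' := congrFun hi i
    simp only [e, m1, Pi.single_eq_same] at h'
    omega
  refine ⟨insert m1 (Finset.image e Finset.univ), ?_, ?_⟩
  · rw [Finset.card_insert_of_notMem hm1, Finset.card_image_of_injective _ he, Finset.card_univ,
      Fintype.card_fin]
  · rw [eq_top_iff]
    intro v _
    have hm1S : m1 ∈ AddSubmonoid.closure
        ((insert m1 (Finset.image e Finset.univ) : Finset (Fin n → ℤ)) : Set (Fin n → ℤ)) :=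
      AddSubmonoid.subset_closure (by simp)
    have heS : ∀ i, e i ∈ AddSubmonoid.closure
        ((insert m1 (Finset.image e Finset.univ) : Finset (Fin n → ℤ)) : Set (Fin n → ℤ)) :=
      fun i => AddSubmonoid.subset_closure (by simp)
    let c : ℕ := ∑ i, (v i).natAbs
    have hc : ∀ j, 0 ≤ v j + c := by
      intro j
      have h1 : (v j).natAbs ≤ c :=
        Finset.single_le_sum (f := fun i => (v i).natAbs) (fun _ _ => Nat.zero_le _)
          (Finset.mem_univ j)
      omega
    have hv : v = ∑ i, (v i + c).toNat • e i + c • m1 := by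
      funext j
      have h2 : (∑ i, (v i + c).toNat • e i) j = ((v j + c).toNat : ℤ) := by
        rw [Finset.sum_apply]
        have hterm : ∀ i, ((v i + c).toNat • e i) j =
            if j = i then ((v i + c).toNat : ℤ) else 0 := by
          intro i
          rw [Pi.smul_apply]
          show (v i + c).toNat • (Pi.single i (1 : ℤ) : Fin n → ℤ) j = _
          rw [Pi.single_apply]
          split_ifs <;> simp
        rw [Finset.sum_congr rfl fun i _ => hterm i, Finset.sum_ite_eq, if_pos (Finset.mem_univ j)]
      have h3 : (c • m1) j = -(c : ℤ) := by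
        simp only [Pi.smul_apply, m1, nsmul_eq_mul, mul_neg, mul_one]
      rw [Pi.add_apply, h2, h3, Int.toNat_of_nonneg (hc j)]
      ring
    rw [hv]
    exact AddSubmonoid.add_mem _ (AddSubmonoid.sum_mem _ fun i _ => AddSubmonoid.nsmul_mem _ (heS i) _)
      (AddSubmonoid.nsmul_mem _ hm1S _)

theorem part2 (n : ℕ) (hn : 1 ≤ n) (s : Finset (Fin n → ℤ))
    (hs : AddSubmonoid.closure (s : Set (Fin n → ℤ)) = ⊤) : n + 1 ≤ s.card := by
  classical
  by_contra hlt
  have hcard : s.card ≤ n := by omega
  have hspan : ⊤ ≤ Submodule.span ℤ (Set.range (Subtype.val : s → (Fin n → ℤ))) := by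
    intro x _
    have hx : x ∈ AddSubmonoid.closure (s : Set (Fin n → ℤ)) := by rw [hs]; trivial
    have hle : AddSubmonoid.closure (s : Set (Fin n → ℤ)) ≤
        (Submodule.span ℤ (Set.range (Subtype.val : s → (Fin n → ℤ)))).toAddSubmonoid := by
      rw [AddSubmonoid.closure_le]
      intro y hy
      exact Submodule.subset_span ⟨⟨y, hy⟩, rfl⟩
    exact hle hx
  have hli : LinearIndependent ℤ (Subtype.val : s → (Fin n → ℤ)) :=
    linearIndependent_of_top_le_span_of_card_le_finrank hspan
      (by rw [Fintype.card_coe, Module.finrank_fin_fun]; exact hcard)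
  rw [Fintype.linearIndependent_iff] at hli
  have hne : s.Nonempty := by
    by_contra hemp
    rw [Finset.not_nonempty_iff_eq_empty] at hemp
    subst hemp
    have h1 : (fun _ => 1 : Fin n → ℤ) ∈
        AddSubmonoid.closure ((∅ : Finset (Fin n → ℤ)) : Set (Fin n → ℤ)) := by rw [hs]; trivial
    rw [Finset.coe_empty, AddSubmonoid.closure_empty, AddSubmonoid.mem_bot] at h1
    have h2 := congrFun h1 ⟨0, hn⟩
    simp at h2
  obtain ⟨t, ht⟩ := hne
  have hneg : -t ∈ AddSubmonoid.closure (s : Set (Fin n → ℤ)) := by rw [hs]; trivial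
  obtain ⟨a, ha⟩ := AddSubmonoid.mem_closure_finset'.mp hneg
  have h0 : ∑ i : s, ((a i : ℤ) + if i = ⟨t, ht⟩ then 1 else 0) • (i : Fin n → ℤ) = 0 := by
    have e1 : ∑ i : s, (a i : ℤ) • (i : Fin n → ℤ) = -t := by
      rw [ha]
      exact Finset.sum_congr rfl fun i _ => natCast_zsmul _ _
    have e2 : ∑ i : s, (if i = (⟨t, ht⟩ : s) then (1 : ℤ) else 0) • (i : Fin n → ℤ) = t := by
      simp only [ite_smul, one_smul, zero_smul, Finset.sum_ite_eq', Finset.mem_univ, if_true]
    simp only [add_smul, Finset.sum_add_distrib]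
    rw [e1, e2, neg_add_cancel]
  have h3 := hli _ h0 ⟨t, ht⟩
  simp only [if_true] at h3
  omega

/-- For n ≥ 1 the minimal number of generators of ℤ^n as an additive monoid is n + 1: some n + 1
elements generate ℤ^n as a monoid, and every finite set generating ℤ^n as a monoid has at least n +
1 elements. (For n = 0 the empty set generates the zero monoid, so the count n + 1 is stated for n ≥
1 only.) -/
theorem result (n : ℕ) (hn : 1 ≤ n) :
    (∃ s : Finset (Fin n → ℤ), s.card = n + 1 ∧ AddSubmonoid.closure (s : Set (Fin n → ℤ)) = ⊤) ∧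
    ∀ s : Finset (Fin n → ℤ), AddSubmonoid.closure (s : Set (Fin n → ℤ)) = ⊤ → n + 1 ≤ s.card := by
  exact ⟨part1 n, part2 n hn⟩

end Groth.Agent.S17679
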