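import Groth.Statements.S17682
import Mathlib

set_option autoImplicit false
universe u v w u'
open DiagMon

namespace Groth.Agent.S17682

section Attr

variable {R : Type u} [CommRing R] {A : Type v} [CommRing A] [Algebra R A] {M : Type w}
  [AddCommMonoid M] [DecidableEq M] (𝒜 : M → Submodule R A) [GradedAlgebra 𝒜]
  {R' : Type u'} [CommRing R'] [Algebra R R'] (F : A →ₐ[R] R')

noncomputable def compMap (i : M) : 𝒜 i →ₗ[R] AddMonoidAlgebra R' M where
  toFun a := AddMonoidAlgebra.single i (F a)
  map_add' a b := by rw [Submodule.coe_add, map_add, AddMonoidAlgebra.single_add]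
  map_smul' r a := by
    rw [Submodule.coe_smul, map_smul, RingHom.id_apply, AddMonoidAlgebra.smul_single]

theorem compMap_apply (i : M) (a : 𝒜 i) :
    compMap 𝒜 F i a = AddMonoidAlgebra.single i (F (a : A)) := rfl

theorem compMap_one :
    compMap 𝒜 F 0 (GradedMonoid.GOne.one (A := fun i => 𝒜 i)) = 1 := by
  rw [compMap_apply, SetLike.coe_gOne, map_one]
  rfl

theorem compMap_mul {i j : M} (ai : 𝒜 i) (aj : 𝒜 j) :
    compMap 𝒜 F (i + j) (GradedMonoid.GMul.mul (A := fun i => 𝒜 i) ai aj) =
      compMap 𝒜 F i ai * compMap 𝒜 F j aj := by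
  rw [compMap_apply, compMap_apply, compMap_apply, SetLike.coe_gMul, map_mul,
    AddMonoidAlgebra.single_mul_single]

noncomputable def gAlg : (DirectSum M fun i => 𝒜 i) →ₐ[R] AddMonoidAlgebra R' M :=
  DirectSum.toAlgebra R (fun i => 𝒜 i) (compMap 𝒜 F) (compMap_one 𝒜 F)
    (fun ai aj => compMap_mul 𝒜 F ai aj)

theorem gAlg_of (i : M) (a : 𝒜 i) :
    gAlg 𝒜 F (DirectSum.of (fun i => 𝒜 i) i a) = compMap 𝒜 F i a := by
  rw [gAlg, DirectSum.toAlgebra_apply, DirectSum.toSemiring_of]
  rfl

noncomputable def fHom : A →ₐ[R] AddMonoidAlgebra R' M :=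
  (gAlg 𝒜 F).comp (DirectSum.decomposeAlgEquiv 𝒜).toAlgHom

theorem fHom_of_mem (m : M) (a : A) (ha : a ∈ 𝒜 m) :
    fHom 𝒜 F a = AddMonoidAlgebra.single m (F a) := by
  show gAlg 𝒜 F (DirectSum.decompose 𝒜 a) = _
  rw [DirectSum.decompose_of_mem 𝒜 ha, gAlg_of]
  rfl

theorem counit_single' (m : M) (r : R') :
    Bialgebra.counitAlgHom R' (AddMonoidAlgebra R' M) (AddMonoidAlgebra.single m r) = r := by
  simp

theorem aux (N : AddSubmonoid M) (hF : ∀ m, m ∉ N → ∀ a ∈ 𝒜 m, F a = 0) :
    ∃! f : A →ₐ[R] AddMonoidAlgebra R' M,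
      (∀ m, ∀ a ∈ 𝒜 m, f a =
          AddMonoidAlgebra.single m (Bialgebra.counitAlgHom R' (AddMonoidAlgebra R' M) (f a))) ∧
      (∀ m, m ∉ N → ∀ a ∈ 𝒜 m, f a = 0) ∧
      ∀ a, Bialgebra.counitAlgHom R' (AddMonoidAlgebra R' M) (f a) = F a := by
  refine ⟨fHom 𝒜 F, ⟨?_, ?_, ?_⟩, ?_⟩
  · intro m a ha
    rw [fHom_of_mem 𝒜 F m a ha, counit_single']
  · intro m hm a ha
    rw [fHom_of_mem 𝒜 F m a ha, hF m hm a ha, AddMonoidAlgebra.single_zero]
  · intro a
    refine DirectSum.Decomposition.inductionOn 𝒜 ?_ ?_ ?_ a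
    · rw [map_zero, map_zero, map_zero]
    · intro i m
      rw [fHom_of_mem 𝒜 F i m m.2, counit_single']
    · intro a b ha hb
      rw [map_add, map_add, map_add, ha, hb]
  · rintro g ⟨hg1, hg2, hg3⟩
    apply AlgHom.ext
    intro a
    refine DirectSum.Decomposition.inductionOn 𝒜 ?_ ?_ ?_ a
    · rw [map_zero, map_zero]
    · intro i m
      rw [fHom_of_mem 𝒜 F i m m.2, hg1 i m m.2, hg3]
    · intro a b ha hb
      rw [map_add, map_add, ha, hb]

end Attr

/-- Let R be a commutative ring, A a commutative R-algebra graded by a commutative monoid M, N a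
submonoid of M and R' a commutative R-algebra. For every R-algebra homomorphism F : A → R' vanishing
on the homogeneous elements of degree outside N there is a unique R-algebra homomorphism f : A →
R'[M] which is graded (a homogeneous element of degree m goes to a multiple of X^m), vanishes on
homogeneous elements of degree outside N, and composes with the augmentation X^m ↦ 1 to F. In the
dictionary where an M-grading of A is an action of the diagonalizable monoid scheme Spec R[M] on
Spec A and graded maps A → R'[M] supported on N are equivariant maps from the monoid scheme of N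
over R', this says that the attractor of Spec A for the magnet N is represented by the closed
subscheme of Spec A defined by the homogeneous elements of degree outside N. -/
theorem result (R : Type u) [CommRing R]
    (A : Type v) [CommRing A] [Algebra R A] (M : Type w) [AddCommMonoid M] [DecidableEq M]
    (𝒜 : M → Submodule R A) [GradedAlgebra 𝒜] (N : AddSubmonoid M) (R' : Type u') [CommRing R']
    [Algebra R R'] (F : A →ₐ[R] R') (hF : ∀ m, m ∉ N → ∀ a ∈ 𝒜 m, F a = 0) :
    ∃! f : A →ₐ[R] AddMonoidAlgebra R' M,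
      (∀ m, ∀ a ∈ 𝒜 m, f a =
          AddMonoidAlgebra.single m (Bialgebra.counitAlgHom R' (AddMonoidAlgebra R' M) (f a))) ∧
      (∀ m, m ∉ N → ∀ a ∈ 𝒜 m, f a = 0) ∧
      ∀ a, Bialgebra.counitAlgHom R' (AddMonoidAlgebra R' M) (f a) = F a := by
  exact aux 𝒜 F N hF

end Groth.Agent.S17682
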