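import Groth.Statements.S17683
import Mathlib

set_option autoImplicit false
universe u
open DiagMon

namespace Groth.Agent.S17683

theorem comap_single_notin {M N : Type*} {R : Type*} [Semiring R] (f : M → N)
    (hf : Function.Injective f) (n : N) (r : R) (hn : n ∉ Set.range f) :
    AddMonoidAlgebra.comapDomain f hf (AddMonoidAlgebra.single n r) = 0 := by
  ext m
  simp only [AddMonoidAlgebra.coeff_comapDomain, Finsupp.comapDomain_apply,
    AddMonoidAlgebra.coeff_single, AddMonoidAlgebra.coeff_zero, Finsupp.zero_apply]
  classical
  rw [Finsupp.single_apply, if_neg]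
  rintro rfl
  exact hn ⟨m, rfl⟩

theorem aux {N : Type u} [AddCommMonoid N] (F : AddSubmonoid N) :
    (∀ a b : AddMonoidAlgebra ℤ N,
        AddMonoidAlgebra.comapDomain ((↑) : F → N) Subtype.val_injective (a * b) =
          AddMonoidAlgebra.comapDomain ((↑) : F → N) Subtype.val_injective a *
            AddMonoidAlgebra.comapDomain ((↑) : F → N) Subtype.val_injective b) ↔
      ∀ x y : N, x + y ∈ F ↔ (x ∈ F ∧ y ∈ F) := by
  have hrange : ∀ n : N, n ∉ F → n ∉ Set.range ((↑) : F → N) := by
    intro n hn hn'
    obtain ⟨m, rfl⟩ := hn'
    exact hn m.2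
  constructor
  · intro h x y
    constructor
    · intro hxy
      have h1 := h (AddMonoidAlgebra.single x 1) (AddMonoidAlgebra.single y 1)
      rw [AddMonoidAlgebra.single_mul_single, mul_one] at h1
      have h2 : AddMonoidAlgebra.comapDomain ((↑) : F → N) Subtype.val_injective
          (AddMonoidAlgebra.single (x + y) (1 : ℤ)) =
            AddMonoidAlgebra.single (⟨x + y, hxy⟩ : F) 1 :=
        AddMonoidAlgebra.comapDomain_single_map ((↑) : F → N) Subtype.val_injective ⟨x + y, hxy⟩ 1
      rw [h2] at h1
      have hne : (AddMonoidAlgebra.single (⟨x + y, hxy⟩ : F) (1 : ℤ)) ≠ 0 :=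
        AddMonoidAlgebra.single_ne_zero.mpr one_ne_zero
      constructor
      · by_contra hx
        rw [comap_single_notin _ _ _ _ (hrange x hx), zero_mul] at h1
        exact hne h1
      · by_contra hy
        rw [comap_single_notin _ _ _ _ (hrange y hy), mul_zero] at h1
        exact hne h1
    · rintro ⟨hx, hy⟩
      exact F.add_mem hx hy
  · intro h a b
    induction a using AddMonoidAlgebra.induction_linear with
    | zero => simp
    | add a₁ a₂ h₁ h₂ =>
      rw [add_mul, AddMonoidAlgebra.comapDomain_add, AddMonoidAlgebra.comapDomain_add, add_mul,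
        h₁, h₂]
    | single x r =>
      induction b using AddMonoidAlgebra.induction_linear with
      | zero => simp
      | add b₁ b₂ h₁ h₂ =>
        rw [mul_add, AddMonoidAlgebra.comapDomain_add, AddMonoidAlgebra.comapDomain_add, mul_add,
          h₁, h₂]
      | single y s =>
        rw [AddMonoidAlgebra.single_mul_single]
        by_cases hx : x ∈ F
        · by_cases hy : y ∈ F
          · have e1 := AddMonoidAlgebra.comapDomain_single_map ((↑) : F → N)
              Subtype.val_injective ((⟨x, hx⟩ : F) + ⟨y, hy⟩) (r * s)
            have e2 := AddMonoidAlgebra.comapDomain_single_map ((↑) : F → N)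
              Subtype.val_injective (⟨x, hx⟩ : F) r
            have e3 := AddMonoidAlgebra.comapDomain_single_map ((↑) : F → N)
              Subtype.val_injective (⟨y, hy⟩ : F) s
            rw [show (((⟨x, hx⟩ : F) + ⟨y, hy⟩ : F) : N) = x + y from rfl] at e1
            rw [e1, e2, e3, AddMonoidAlgebra.single_mul_single]
          · have hxy : x + y ∉ F := fun hh => hy ((h x y).mp hh).2
            rw [comap_single_notin _ _ _ _ (hrange _ hxy),
              comap_single_notin _ _ _ _ (hrange y hy), mul_zero]
        · have hxy : x + y ∉ F := fun hh => hx ((h x y).mp hh).1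
          rw [comap_single_notin _ _ _ _ (hrange _ hxy),
            comap_single_notin _ _ _ _ (hrange x hx), zero_mul]

/-- Let N be a commutative monoid and F a submonoid of N. The additive projection ℤ[N] → ℤ[F] of monoid
algebras keeping the monomials with exponent in F and killing the others is multiplicative, i.e. F
is a face of N, if and only if for all x, y in N the sum x + y lies in F exactly when both x and y
do. -/
theorem result {N : Type u} [AddCommMonoid N] (F : AddSubmonoid N) :
    (∀ a b : AddMonoidAlgebra ℤ N,
        AddMonoidAlgebra.comapDomain ((↑) : F → N) Subtype.val_injective (a * b) =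
          AddMonoidAlgebra.comapDomain ((↑) : F → N) Subtype.val_injective a *
            AddMonoidAlgebra.comapDomain ((↑) : F → N) Subtype.val_injective b) ↔
      ∀ x y : N, x + y ∈ F ↔ (x ∈ F ∧ y ∈ F) := by
  exact aux F

end Groth.Agent.S17683
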