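import Groth.Statements.S17687
import Mathlib

set_option autoImplicit false
universe u v w
open DiagMon

namespace Groth.Agent.S17687

/-- Let R be a commutative ring and A a commutative R-algebra of finite type graded by a commutative
monoid M. Then the set of ideals J_N, N running over all submonoids of M, where J_N is generated by
the homogeneous elements of degree not in N (the ideal of the attractor of Spec A for the magnet N),
is finite: Spec A has finitely many attractors and hence finitely many pure magnets. (The source
assumes Spec A of finite presentation over the base; its proof uses only a finite set of homogeneous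
algebra generators, so finite type is assumed here.) -/
theorem result (R : Type u) [CommRing R] (A : Type v) [CommRing A]
    [Algebra R A] [Algebra.FiniteType R A] (M : Type w) [AddCommMonoid M] [DecidableEq M]
    (𝒜 : M → Submodule R A) [GradedAlgebra 𝒜] :
    (Set.range fun N : AddSubmonoid M => Ideal.span {a : A | ∃ m : M, m ∉ N ∧ a ∈ 𝒜 m}).Finite := by
  classical
  obtain ⟨S, hS⟩ := (Algebra.FiniteType.out : (⊤ : Subalgebra R A).FG)
  let T : Finset (M × A) := S.biUnion (fun s => (DirectSum.decompose 𝒜 s).support.image
    (fun m => (m, ((DirectSum.decompose 𝒜 s m : 𝒜 m) : A))))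
  have hT : ∀ p ∈ T, p.2 ∈ 𝒜 p.1 := by
    intro p hp
    simp only [T, Finset.mem_biUnion, Finset.mem_image] at hp
    obtain ⟨s, _, m, _, rfl⟩ := hp
    exact (DirectSum.decompose 𝒜 s m).2
  let G : Finset (M × A) → Ideal A := fun U => Ideal.span {x | ∃ m, (m, x) ∈ U}
  refine Set.Finite.subset ((T.powerset.image G).finite_toSet) ?_
  rintro _ ⟨N, rfl⟩
  rw [Finset.mem_coe, Finset.mem_image]
  refine ⟨T.filter (fun p => p.1 ∉ N), Finset.mem_powerset.mpr (Finset.filter_subset _ _), ?_⟩
  show G (T.filter (fun p => p.1 ∉ N)) = Ideal.span {a : A | ∃ m : M, m ∉ N ∧ a ∈ 𝒜 m}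
  set J' := G (T.filter (fun p => p.1 ∉ N)) with hJ'
  apply le_antisymm
  · rw [hJ']
    apply Ideal.span_le.mpr
    rintro x ⟨m, hm⟩
    rw [Finset.mem_filter] at hm
    exact Ideal.subset_span ⟨m, hm.2, hT _ hm.1⟩
  · apply Ideal.span_le.mpr
    rintro a ⟨m, hmN, ham⟩
    have key : ∀ a : A, ∀ m, m ∉ N → ((DirectSum.decompose 𝒜 a m : 𝒜 m) : A) ∈ J' := by
      intro a
      have ha : a ∈ Algebra.adjoin R (↑S : Set A) := by rw [hS]; trivial
      induction ha using Algebra.adjoin_induction with
      | mem x hx =>
        intro m hm
        by_cases hsupp : m ∈ (DirectSum.decompose 𝒜 x).support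
        · rw [hJ']
          apply Ideal.subset_span
          refine ⟨m, ?_⟩
          rw [Finset.mem_filter]
          refine ⟨?_, hm⟩
          simp only [T, Finset.mem_biUnion, Finset.mem_image]
          exact ⟨x, Finset.mem_coe.mp hx, m, hsupp, rfl⟩
        · rw [DFinsupp.notMem_support_iff] at hsupp
          have h0 : ((DirectSum.decompose 𝒜 x m : 𝒜 m) : A) = 0 := by rw [hsupp]; rfl
          rw [h0]; exact zero_mem _
      | algebraMap r =>
        intro m hm
        have hm0 : (0 : M) ≠ m := by rintro rfl; exact hm N.zero_mem
        rw [DirectSum.decompose_of_mem_ne 𝒜 (SetLike.algebraMap_mem_graded 𝒜 r) hm0]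
        exact zero_mem _
      | add x y _ _ hx hy =>
        intro m hm
        rw [DirectSum.decompose_add, DirectSum.add_apply, Submodule.coe_add]
        exact J'.add_mem (hx m hm) (hy m hm)
      | mul x y _ _ hx hy =>
        intro m hm
        rw [DirectSum.decompose_mul, DirectSum.coe_mul_apply]
        apply Ideal.sum_mem
        intro ij hij
        rw [Finset.mem_filter] at hij
        by_cases h1 : ij.1 ∈ N
        · have h2 : ij.2 ∉ N := fun h2 => hm (hij.2 ▸ N.add_mem h1 h2)
          exact J'.mul_mem_left _ (hy _ h2)
        · exact J'.mul_mem_right _ (hx _ h1)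
    have := key a m hmN
    rwa [DirectSum.decompose_of_mem_same 𝒜 ham] at this

end Groth.Agent.S17687
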