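import Groth.Statements.S17689
import Mathlib
import Groth.Agent.Lib.UnivHomeo2_helper6
-- import your own Groth.Agent.* helpers here

set_option autoImplicit false
universe u
open CategoryTheory AlgebraicGeometry
open Neron

namespace Groth.Agent.S17689

/-- Let R ⊆ S be a finite extension of discrete valuation rings (the structure map R → S is injective
and S is a finite R-module) such that the induced extension K ⊆ L of fraction fields is purely
inseparable. Then the morphism Spec S → Spec R is a universal homeomorphism: every base change of it
is a homeomorphism on underlying spaces. (No excellence hypothesis is needed here.) -/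
theorem result
    (R S K L : Type u) [CommRing R] [IsDomain R] [IsDiscreteValuationRing R]
    [CommRing S] [IsDomain S] [IsDiscreteValuationRing S] [Algebra R S] [Module.Finite R S] [FaithfulSMul R S]
    [Field K] [Field L] [Algebra R K] [IsFractionRing R K] [Algebra S L] [IsFractionRing S L]
    [Algebra K L] [Algebra R L] [IsScalarTower R S L] [IsScalarTower R K L] [IsPurelyInseparable K L] :
    FlatMor.IsUnivHomeo (Spec.map (CommRingCat.ofHom (algebraMap R S))) := by

  have hinj : Function.Injective (algebraMap R S) := FaithfulSMul.algebraMap_injective R S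
  have hint : (algebraMap R S).IsIntegral := fun s => Algebra.IsIntegral.isIntegral s
  rw [Groth.Agent.Lib.UnivHomeo.isUnivHomeo_iff]
  refine ⟨(Groth.Agent.Lib.UnivHomeo.universallyClosed_SpecMap_iff _).mpr hint, ?_,
    ⟨hint.comap_surjective hinj⟩⟩
  apply Groth.Agent.Lib.UnivHomeo.universallyInjective_SpecMap_of
  intro F _ ψ₁ ψ₂ h12
  -- every element of S has a q^n-th power in R
  obtain ⟨q, hq⟩ : ∃ q, ExpChar K q := ⟨ringExpChar K, inferInstance⟩
  have hpow : ∀ s : S, ∃ (n : ℕ) (r : R), s ^ q ^ n = algebraMap R S r := by
    intro s
    obtain ⟨n, k, hk⟩ := IsPurelyInseparable.pow_mem K q (algebraMap S L s)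
    have hkint : IsIntegral R k := by
      have h1 : IsIntegral R (algebraMap S L s ^ q ^ n) :=
        ((Algebra.IsIntegral.isIntegral (R := R) s).map
          (IsScalarTower.toAlgHom R S L)).pow _
      rw [← hk] at h1
      exact (isIntegral_algebraMap_iff (algebraMap K L).injective).mp h1
    obtain ⟨r, hr⟩ := IsIntegrallyClosed.algebraMap_eq_of_integral hkint
    refine ⟨n, r, ?_⟩
    apply IsFractionRing.injective S L
    rw [map_pow, ← hk, ← hr, ← IsScalarTower.algebraMap_apply R K L,
      ← IsScalarTower.algebraMap_apply R S L]
  -- Frobenius on F is injective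
  have hFinj : ∀ n : ℕ, ∀ a b : F, a ^ q ^ n = b ^ q ^ n → a = b := by
    intro n a b hab
    cases hq with
    | zero => simpa using hab
    | prime hprime =>
      have hqR : ((q : ℕ) : R) = 0 := by
        apply IsFractionRing.injective R K
        rw [map_natCast, map_zero]
        exact CharP.cast_eq_zero K q
      have hqF : ((q : ℕ) : F) = 0 := by
        have := congrArg (ψ₁.comp (algebraMap R S)) hqR
        simpa using this
      haveI : CharP F q := (CharP.charP_iff_prime_eq_zero hprime).mpr hqF
      haveI : ExpChar F q := ExpChar.prime hprime
      apply iterateFrobenius_inj F q n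
      rw [iterateFrobenius_def, iterateFrobenius_def, hab]
  ext s
  obtain ⟨n, r, hr⟩ := hpow s
  apply hFinj n
  rw [← map_pow, ← map_pow, hr]
  exact congr($h12 r)

end Groth.Agent.S17689
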