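import Groth.Statements.S17714
import Groth.Agent.S17713
import Groth.Agent.Lib.BernoulliSign_helper2
import Groth.Agent.Lib.ToddSeries_helper2

set_option autoImplicit false
open MoretBailly

namespace Groth.Agent.S17714

open Groth.Agent.Todd in
/-- common tail: if the coefficient is `a p^n + b p^(n-1) + Q(p)` with `a < 0`. -/
lemma neg_of_lead (n : ℕ) (hn : 1 ≤ n) (a b : ℚ) (ha : a < 0) (Q : Polynomial ℚ)
    (hQ : Q.natDegree ≤ n - 2) :
    ∃ N : ℕ, ∀ p : ℕ, N ≤ p → a * (p : ℚ) ^ n + b * (p : ℚ) ^ (n - 1) + Q.eval (p : ℚ) < 0 := by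
  have hR : (Polynomial.C b * Polynomial.X ^ (n - 1) + Q).natDegree ≤ n - 1 :=
    (Polynomial.natDegree_add_le _ _).trans
      (max_le (Polynomial.natDegree_C_mul_X_pow_le _ _) (hQ.trans (by omega)))
  obtain ⟨N, hN⟩ := eventually_neg a ha (n - 1) _ hR
  refine ⟨N, fun p hp => ?_⟩
  have h := hN p hp
  have e : n - 1 + 1 = n := by omega
  rw [e] at h
  simp only [Polynomial.eval_add, Polynomial.eval_mul, Polynomial.eval_C, Polynomial.eval_pow,
    Polynomial.eval_X] at h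
  linarith

open Groth.Agent.Todd in
/-- common tail: if the coefficient is `b p^(n-1) + Q(p)` with `b < 0`. -/
lemma neg_of_second (n : ℕ) (hn : 2 ≤ n) (b : ℚ) (hb : b < 0) (Q : Polynomial ℚ)
    (hQ : Q.natDegree ≤ n - 2) :
    ∃ N : ℕ, ∀ p : ℕ, N ≤ p → b * (p : ℚ) ^ (n - 1) + Q.eval (p : ℚ) < 0 := by
  obtain ⟨N, hN⟩ := eventually_neg b hb (n - 2) Q hQ
  refine ⟨N, fun p hp => ?_⟩
  have h := hN p hp
  have e : n - 2 + 1 = n - 1 := by omega
  rw [e] at h
  exact h


/-- Let n ≥ 2 and d ≥ 1 be natural numbers with n congruent to 0 or 1 modulo 4, and s an integer with 2s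
> n + d + 1. Write B(x) = x/(1 - e^(-x)) for the exponential generating series of the Bernoulli
numbers (B'_1 = 1/2). Then for all sufficiently large natural numbers p the coefficient of x^n in
B(-dx)^(-1) B(-dpx) B(x)^(n+1) e^((dp-d-n-1+s)x) is strictly negative. (The published statement
asserts this for every n ≥ 2 not congruent to 2 modulo 4. For n congruent to 3 modulo 4 the
coefficient is a polynomial in p of degree n - 1 with leading coefficient (2s-d-n-1) B'_(n-1)
d^(n-1)/(2 (n-1)!) > 0, so it is eventually positive: for n = 3, d = 1, s = 3 it equals (p^2 -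
1)/24. The residues 0 and 1 are exactly the ones the leading-term argument gives.) -/
theorem result (n d : ℕ) (s : ℤ) (hn : 2 ≤ n)
    (hmod : n % 4 = 0 ∨ n % 4 = 1) (hd : 1 ≤ d) (hs : (n : ℤ) + d + 1 < 2 * s) :
    ∃ P : ℕ, ∀ p : ℕ, P ≤ p →
      PowerSeries.coeff n ((PowerSeries.rescale (-(d : ℚ)) (bernoulli'PowerSeries ℚ))⁻¹ * PowerSeries.rescale (-((d : ℚ) * p)) (bernoulli'PowerSeries ℚ) * bernoulli'PowerSeries ℚ ^ (n + 1) * PowerSeries.rescale ((d : ℚ) * p - d - n - 1 + s) (PowerSeries.exp ℚ)) < 0 := by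
  obtain ⟨Q, hQdeg, hQ⟩ := Groth.Agent.S17713.result n d s hn hd
  have hdpos : (0 : ℚ) < (d : ℚ) := by exact_mod_cast hd
  have hs' : (0 : ℚ) < 2 * (s : ℚ) - d - n - 1 := by
    have h' : (((n : ℤ) + d + 1 : ℤ) : ℚ) < ((2 * s : ℤ) : ℚ) := by exact_mod_cast hs
    push_cast at h'
    linarith
  have hfn : (0 : ℚ) < (n.factorial : ℚ) := by exact_mod_cast n.factorial_pos
  have hfn1 : (0 : ℚ) < ((n - 1).factorial : ℚ) := by exact_mod_cast (n - 1).factorial_pos
  rcases hmod with h0 | h1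
  · obtain ⟨j, hj⟩ : ∃ j, n = 4 * j := ⟨n / 4, by omega⟩
    have hjpos : 0 < j := by omega
    have hB : bernoulli' n < 0 := by
      rw [hj]; exact Groth.Agent.Todd.bernoulli'_four_mul_neg j hjpos
    have ha_neg : bernoulli' n * (d : ℚ) ^ n / (n.factorial : ℚ) < 0 :=
      div_neg_of_neg_of_pos (mul_neg_of_neg_of_pos hB (by positivity)) hfn
    obtain ⟨N, hN⟩ := neg_of_lead n (by omega) (bernoulli' n * (d : ℚ) ^ n / (n.factorial : ℚ))
      ((2 * (s : ℚ) - d - n - 1) / 2 * bernoulli' (n - 1) * (d : ℚ) ^ (n - 1)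
        / ((n - 1).factorial : ℚ)) ha_neg Q hQdeg
    refine ⟨N, fun p hp => ?_⟩
    rw [hQ p]
    have h := hN p hp
    have e1 : bernoulli' n * ((d : ℚ) * p) ^ n / (n.factorial : ℚ)
        = bernoulli' n * (d : ℚ) ^ n / (n.factorial : ℚ) * (p : ℚ) ^ n := by
      rw [mul_pow]; ring
    have e2 : (2 * (s : ℚ) - d - n - 1) / 2 * bernoulli' (n - 1) * ((d : ℚ) * p) ^ (n - 1)
          / ((n - 1).factorial : ℚ)
        = (2 * (s : ℚ) - d - n - 1) / 2 * bernoulli' (n - 1) * (d : ℚ) ^ (n - 1)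
          / ((n - 1).factorial : ℚ) * (p : ℚ) ^ (n - 1) := by
      rw [mul_pow]; ring
    rw [e1, e2]
    exact h
  · obtain ⟨j, hj⟩ : ∃ j, n = 4 * j + 1 := ⟨n / 4, by omega⟩
    have hjpos : 0 < j := by omega
    have hBn : bernoulli' n = 0 :=
      bernoulli'_eq_zero_of_odd ⟨2 * j, by omega⟩ (by omega)
    have hB : bernoulli' (n - 1) < 0 := by
      have e : n - 1 = 4 * j := by omega
      rw [e]; exact Groth.Agent.Todd.bernoulli'_four_mul_neg j hjpos
    have hb_neg : (2 * (s : ℚ) - d - n - 1) / 2 * bernoulli' (n - 1) * (d : ℚ) ^ (n - 1)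
        / ((n - 1).factorial : ℚ) < 0 := by
      refine div_neg_of_neg_of_pos ?_ hfn1
      refine mul_neg_of_neg_of_pos ?_ (by positivity)
      exact mul_neg_of_pos_of_neg (by linarith) hB
    obtain ⟨N, hN⟩ := neg_of_second n hn _ hb_neg Q hQdeg
    refine ⟨N, fun p hp => ?_⟩
    rw [hQ p, hBn]
    have h := hN p hp
    have e2 : (2 * (s : ℚ) - d - n - 1) / 2 * bernoulli' (n - 1) * ((d : ℚ) * p) ^ (n - 1)
          / ((n - 1).factorial : ℚ)
        = (2 * (s : ℚ) - d - n - 1) / 2 * bernoulli' (n - 1) * (d : ℚ) ^ (n - 1)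
          / ((n - 1).factorial : ℚ) * (p : ℚ) ^ (n - 1) := by
      rw [mul_pow]; ring
    rw [e2, zero_mul, zero_div, zero_add]
    exact h

end Groth.Agent.S17714
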