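import Groth.Statements.S17715
import Groth.Agent.Lib.ToddSeries_helper2

set_option autoImplicit false
open MoretBailly

namespace Groth.Agent.S17715

/-- Write B(x) = x/(1 - e^(-x)) for the exponential generating series of the Bernoulli numbers (B'_1 =
1/2). For all natural numbers d and p the coefficient of x^3 in B(-dx)^(-1) B(-dpx) B(x)^4
e^((dp-d-3)x), i.e. the case n = 3, s = 1 of the Todd-class integrand, equals
-d(d+2)(p-1)(dp-d-2)/24 = -(d^3+2d^2) p^2/24 + (d^3+3d^2+2d) p/12 - (d^3+4d^2+4d)/24. (The published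
closed form has the same p^2 and p coefficients but constant term -(d^3+2d^2+2d)/24; direct
expansion gives the value stated here, which vanishes at p = 1.) -/
theorem result (d p : ℕ) :
    PowerSeries.coeff 3 ((PowerSeries.rescale (-(d : ℚ)) (bernoulli'PowerSeries ℚ))⁻¹ * PowerSeries.rescale (-((d : ℚ) * p)) (bernoulli'PowerSeries ℚ) * bernoulli'PowerSeries ℚ ^ (4) * PowerSeries.rescale ((d : ℚ) * p - d - 3) (PowerSeries.exp ℚ)) =
      -((d : ℚ) * (d + 2) * (p - 1) * (d * p - d - 2)) / 24 := by
  have hB4 : bernoulli'PowerSeries ℚ ^ (4) =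
      (bernoulli'PowerSeries ℚ * bernoulli'PowerSeries ℚ) *
        (bernoulli'PowerSeries ℚ * bernoulli'PowerSeries ℚ) := by ring
  rw [hB4]
  simp only [Groth.Agent.Todd.coeff_three_mul', Groth.Agent.Todd.coeff_two_mul',
    Groth.Agent.Todd.coeff_one_mul', Groth.Agent.Todd.coeff_zero_mul',
    Groth.Agent.Todd.coeff_zero_inv_rescale_bern, Groth.Agent.Todd.coeff_one_inv_rescale_bern,
    Groth.Agent.Todd.coeff_two_inv_rescale_bern, Groth.Agent.Todd.coeff_three_inv_rescale_bern,
    Groth.Agent.Todd.coeff_zero_rescale_bern, Groth.Agent.Todd.coeff_one_rescale_bern,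
    Groth.Agent.Todd.coeff_two_rescale_bern, Groth.Agent.Todd.coeff_three_rescale_bern,
    Groth.Agent.Todd.coeff_zero_bern, Groth.Agent.Todd.coeff_one_bern,
    Groth.Agent.Todd.coeff_two_bern, Groth.Agent.Todd.coeff_three_bern,
    Groth.Agent.Todd.coeff_zero_rescale_exp, Groth.Agent.Todd.coeff_one_rescale_exp,
    Groth.Agent.Todd.coeff_two_rescale_exp, Groth.Agent.Todd.coeff_three_rescale_exp]
  ring

end Groth.Agent.S17715
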