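import Groth.Statements.S17718
import Groth.Agent.S17714
import Groth.Agent.S17713
import Groth.Agent.Lib.BernoulliSign_helper2
import Groth.Agent.Lib.ToddSeries_helper2

set_option autoImplicit false
open MoretBailly

namespace Groth.Agent.S17718

/-- Let n ≥ 2 and d ≥ 1 be natural numbers with n not congruent to 2 modulo 4, and write B(x) = x/(1 -
e^(-x)) for the exponential generating series of the Bernoulli numbers (B'_1 = 1/2). Then there is
an integer s ≥ 1 such that for all sufficiently large natural numbers p the coefficient of x^n in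
B(-dx)^(-1) B(-dpx) B(x)^(n+1) e^((dp-d-n-1+s)x) is strictly negative. (The published argument fixes
any s with 2s > n + d + 1, which gives the sign only for n congruent to 0 or 1 modulo 4; for n
congruent to 3 modulo 4 the choice s = 1 makes the leading coefficient (2s-d-n-1) B'_(n-1)
d^(n-1)/(2 (n-1)!) negative instead.) -/
theorem result (n d : ℕ) (hn : 2 ≤ n)
    (hmod : n % 4 ≠ 2) (hd : 1 ≤ d) :
    ∃ s : ℤ, 1 ≤ s ∧ ∃ P : ℕ, ∀ p : ℕ, P ≤ p →
      PowerSeries.coeff n ((PowerSeries.rescale (-(d : ℚ)) (bernoulli'PowerSeries ℚ))⁻¹ * PowerSeries.rescale (-((d : ℚ) * p)) (bernoulli'PowerSeries ℚ) * bernoulli'PowerSeries ℚ ^ (n + 1) * PowerSeries.rescale ((d : ℚ) * p - d - n - 1 + s) (PowerSeries.exp ℚ)) < 0 := by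
  have hcases : n % 4 = 0 ∨ n % 4 = 1 ∨ n % 4 = 3 := by omega
  rcases hcases with h | h | h
  · refine ⟨(n : ℤ) + d + 1, by omega, ?_⟩
    exact Groth.Agent.S17714.result n d ((n : ℤ) + d + 1) hn (Or.inl h) hd (by omega)
  · refine ⟨(n : ℤ) + d + 1, by omega, ?_⟩
    exact Groth.Agent.S17714.result n d ((n : ℤ) + d + 1) hn (Or.inr h) hd (by omega)
  · refine ⟨1, le_refl _, ?_⟩
    obtain ⟨Q, hQdeg, hQ⟩ := Groth.Agent.S17713.result n d 1 hn hd
    have hdpos : (0 : ℚ) < (d : ℚ) := by exact_mod_cast hd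
    have hd1 : (1 : ℚ) ≤ (d : ℚ) := by exact_mod_cast hd
    have hnpos : (0 : ℚ) < (n : ℚ) := by
      have : 0 < n := by omega
      exact_mod_cast this
    have hfn1 : (0 : ℚ) < ((n - 1).factorial : ℚ) := by exact_mod_cast (n - 1).factorial_pos
    obtain ⟨j, hj⟩ : ∃ j, n = 4 * j + 3 := ⟨n / 4, by omega⟩
    have hBn : bernoulli' n = 0 :=
      bernoulli'_eq_zero_of_odd ⟨2 * j + 1, by omega⟩ (by omega)
    have hB : 0 < bernoulli' (n - 1) := by
      have e : n - 1 = 4 * j + 2 := by omega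
      rw [e]; exact Groth.Agent.Todd.bernoulli'_four_mul_add_two_pos j
    have hb_neg : (2 * (((1 : ℤ) : ℚ)) - d - n - 1) / 2 * bernoulli' (n - 1) * (d : ℚ) ^ (n - 1)
        / ((n - 1).factorial : ℚ) < 0 := by
      refine div_neg_of_neg_of_pos ?_ hfn1
      refine mul_neg_of_neg_of_pos ?_ (by positivity)
      refine mul_neg_of_neg_of_pos ?_ hB
      push_cast
      linarith
    obtain ⟨N, hN⟩ := Groth.Agent.S17714.neg_of_second n hn _ hb_neg Q hQdeg
    refine ⟨N, fun p hp => ?_⟩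
    rw [hQ p, hBn]
    have h' := hN p hp
    have e2 : (2 * (((1 : ℤ) : ℚ)) - d - n - 1) / 2 * bernoulli' (n - 1) * ((d : ℚ) * p) ^ (n - 1)
          / ((n - 1).factorial : ℚ)
        = (2 * (((1 : ℤ) : ℚ)) - d - n - 1) / 2 * bernoulli' (n - 1) * (d : ℚ) ^ (n - 1)
          / ((n - 1).factorial : ℚ) * (p : ℚ) ^ (n - 1) := by
      rw [mul_pow]; ring
    rw [e2, zero_mul, zero_div, zero_add]
    exact h'

end Groth.Agent.S17718
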