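import Groth.Statements.S17722
import Mathlib

set_option autoImplicit false
universe u
open CAlg

namespace Groth.Agent.S17722

/-- Let R → R' be a faithfully flat ring map between Noetherian integrally closed local domains, and p
an ideal of R. If the ideal pR' generated by the image of p is principal, then p is principal. (The
second assertion of the published lemma, descent of unique factorization, is not part of this row.) -/
theorem result
    (R R' : Type u) [CommRing R] [CommRing R'] [IsDomain R] [IsDomain R']
    [IsNoetherianRing R] [IsNoetherianRing R'] [IsLocalRing R] [IsLocalRing R']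
    [IsIntegrallyClosed R] [IsIntegrallyClosed R']
    [Algebra R R'] [Module.FaithfullyFlat R R']
    (p : Ideal R) (hp : (p.map (algebraMap R R')).IsPrincipal) :
    p.IsPrincipal := by
  classical
  obtain ⟨s, hs⟩ := (IsNoetherian.noetherian p : p.FG)
  obtain ⟨x', hx'⟩ := hp.principal
  have hx'' : p.map (algebraMap R R') = Ideal.span {x'} := hx'
  by_cases hx0 : x' = 0
  · have hmap : p.map (algebraMap R R') = ⊥ := by rw [hx'', hx0]; simp
    have hbot := Ideal.comap_map_eq_self_of_faithfullyFlat (B := R') (⊥ : Ideal R)
    rw [Ideal.map_bot] at hbot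
    have : p = ⊥ := by
      rw [← Ideal.comap_map_eq_self_of_faithfullyFlat (B := R') p, hmap, hbot]
    rw [this]; exact bot_isPrincipal
  · have hsub : ∀ y ∈ s.image (algebraMap R R'), ∃ b, y = b * x' := by
      intro y hy
      obtain ⟨a, ha, rfl⟩ := Finset.mem_image.mp hy
      have hap : a ∈ p := hs ▸ Submodule.subset_span ha
      have : algebraMap R R' a ∈ p.map (algebraMap R R') := Ideal.mem_map_of_mem _ hap
      rw [hx''] at this
      obtain ⟨b, hb⟩ := Ideal.mem_span_singleton'.mp this
      exact ⟨b, hb.symm⟩
    have hx'mem : x' ∈ Ideal.span ((s.image (algebraMap R R') : Finset R') : Set R') := by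
      have hs' : Ideal.span (s : Set R) = p := hs
      rw [Finset.coe_image, ← Ideal.map_span, hs', hx'']
      exact Ideal.mem_span_singleton_self x'
    obtain ⟨fc, -, hfc⟩ := Submodule.mem_span_finset.mp hx'mem
    choose! bb hbb using hsub
    have hsum : (∑ y ∈ s.image (algebraMap R R'), fc y * bb y) = 1 := by
      have h1 : (∑ y ∈ s.image (algebraMap R R'), fc y * bb y) * x' = 1 * x' := by
        rw [Finset.sum_mul, one_mul]
        conv_rhs => rw [← hfc]
        apply Finset.sum_congr rfl
        intro y hy
        rw [smul_eq_mul, mul_assoc, ← hbb y hy]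
      exact mul_right_cancel₀ hx0 h1
    have hex : ∃ y ∈ s.image (algebraMap R R'), IsUnit (bb y) := by
      by_contra hcon
      push Not at hcon
      have : (∑ y ∈ s.image (algebraMap R R'), fc y * bb y) ∈ IsLocalRing.maximalIdeal R' := by
        apply Ideal.sum_mem
        intro y hy
        exact Ideal.mul_mem_left _ _ ((IsLocalRing.mem_maximalIdeal _).mpr (hcon y hy))
      rw [hsum] at this
      exact (IsLocalRing.mem_maximalIdeal _).mp this isUnit_one
    obtain ⟨y, hy, hyu⟩ := hex
    obtain ⟨a₀, ha₀, rfl⟩ := Finset.mem_image.mp hy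
    have hspan : Ideal.span {x'} = Ideal.span {algebraMap R R' a₀} := by
      rw [hbb _ hy]
      exact (Ideal.span_singleton_mul_left_unit hyu x').symm
    have : p = Ideal.span {a₀} := by
      rw [← Ideal.comap_map_eq_self_of_faithfullyFlat (B := R') p, hx'', hspan,
        ← Set.image_singleton, ← Ideal.map_span, Ideal.comap_map_eq_self_of_faithfullyFlat]
    rw [this]
    exact ⟨⟨a₀, rfl⟩⟩

end Groth.Agent.S17722
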