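import Groth.Statements.S17726
import Mathlib

set_option autoImplicit false
universe u
open CAlg

namespace Groth.Agent.S17726

/-- Let f and g be non-zero-divisors of a commutative ring A, not both units; think of them as local
equations, at a point of the union of the supports, of two effective Cartier divisors E and D. If
the ideals generated by g^{m₁} and f^{n₁} coincide, and likewise for g^{m₂} and f^{n₂}, then m₁ n₂ =
m₂ n₁. So all pairs (m, n) with m D = n E locally at the point are proportional, and the saturation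
of the monoid they form is generated by a single element. -/
theorem result
    (A : Type u) [CommRing A] (f g : A)
    (hf : f ∈ nonZeroDivisors A) (hg : g ∈ nonZeroDivisors A) (hfg : ¬ (IsUnit f ∧ IsUnit g))
    (m₁ n₁ m₂ n₂ : ℕ)
    (h₁ : Ideal.span {g ^ m₁} = Ideal.span {f ^ n₁})
    (h₂ : Ideal.span {g ^ m₂} = Ideal.span {f ^ n₂}) :
    m₁ * n₂ = m₂ * n₁ := by
  have keyA : ∀ x : A, x ∈ nonZeroDivisors A → ¬ IsUnit x → ∀ a b : ℕ, a ≤ b →
      Ideal.span {x ^ a} = Ideal.span {x ^ b} → a = b := by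
    intro x hx hxu a b hab h
    by_contra hne
    have hlt : a < b := lt_of_le_of_ne hab hne
    have h1 : x ^ a ∈ Ideal.span {x ^ b} := by
      rw [← h]; exact Ideal.mem_span_singleton_self _
    rw [Ideal.mem_span_singleton] at h1
    obtain ⟨c, hc⟩ := h1
    obtain ⟨d, rfl⟩ := Nat.exists_eq_add_of_lt hlt
    have h2 : x ^ a * (x * (x ^ d * c) - 1) = 0 := by
      have h3 : x ^ (a + d + 1) * c = x ^ a * (x * (x ^ d * c)) := by ring
      rw [mul_sub, ← h3, ← hc]; ring
    have h3 : x * (x ^ d * c) - 1 = 0 :=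
      (mem_nonZeroDivisors_iff_left.mp (pow_mem hx a)) _ h2
    exact hxu (IsUnit.of_mul_eq_one _ (sub_eq_zero.mp h3))
  have keyA' : ∀ x : A, x ∈ nonZeroDivisors A → ¬ IsUnit x → ∀ a b : ℕ,
      Ideal.span {x ^ a} = Ideal.span {x ^ b} → a = b := by
    intro x hx hxu a b h
    rcases Nat.le_total a b with hab | hab
    · exact keyA x hx hxu a b hab h
    · exact (keyA x hx hxu b a hab h.symm).symm
  have keyB : ∀ (m n k : ℕ), Ideal.span {g ^ m} = Ideal.span {f ^ n} →
      Ideal.span {g ^ (m * k)} = Ideal.span {f ^ (n * k)} := by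
    intro m n k h
    rw [pow_mul, pow_mul, ← Ideal.span_singleton_pow (g ^ m), ← Ideal.span_singleton_pow (f ^ n), h]
  by_cases hgu : IsUnit g
  · have hfu : ¬ IsUnit f := fun h => hfg ⟨h, hgu⟩
    have e1 := keyB m₁ n₁ m₂ h₁
    have e2 := keyB m₂ n₂ m₁ h₂
    rw [mul_comm m₂ m₁] at e2
    have e3 := keyA' f hf hfu _ _ (e1.symm.trans e2)
    rw [mul_comm m₁ n₂, mul_comm m₂ n₁]; exact e3.symm
  · have e1 := keyB m₁ n₁ n₂ h₁
    have e2 := keyB m₂ n₂ n₁ h₂
    rw [mul_comm n₂ n₁] at e2
    exact keyA' g hg hgu _ _ (e1.trans e2.symm)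

end Groth.Agent.S17726
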