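import Groth.Statements.S17750
import Mathlib
import Groth.Agent.Lib.CanId5_helper5

set_option autoImplicit false
universe u
open Goren

namespace Groth.Agent.S17750

/-- Let B be a regular local ring and p a prime ideal of B such that the integral domain B ⧸ p is a
unique factorization domain. If the local ring B ⧸ p is Cohen–Macaulay then it is Gorenstein, i.e.
has finite injective dimension as a module over itself. (For a unique factorization domain that is a
quotient of a regular local ring, Cohen–Macaulay and Gorenstein are equivalent; the converse
implication holds for every Noetherian local ring.) -/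
theorem result (B : Type u) [CommRing B] [IsRegularLocalRing B] (p : Ideal B) [p.IsPrime] [UniqueFactorizationMonoid (B ⧸ p)] [LocCoh.IsCohenMacaulayLocalRing (B ⧸ p)] : LocCoh.IsGorensteinLocalRing (B ⧸ p) := by
  obtain ⟨n, hn⟩ := Groth.Agent.GlDim.exists_dim B
  obtain ⟨r, hr⟩ := ENat.ne_top_iff_exists.1 (Ideal.height_ne_top_of_isPrime (I := p))
  obtain ⟨d, hd, hrd⟩ := Groth.Agent.Lib.CanId.dims B n hn p r hr.symm
  obtain ⟨e⟩ := Groth.Agent.Lib.CanId.omega_equiv_self B n hn p r hr.symm
  exact { exists_hasInjectiveDimensionLT :=
    ⟨d + 1, Groth.Agent.Lib.CanId.gorenstein_of_equiv B n hn p r e d hd hrd⟩ }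

end Groth.Agent.S17750
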