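import Groth.Statements.S17764
import Mathlib
-- import your own Groth.Agent.* helpers here

set_option autoImplicit false
universe u
open InjHull


namespace Groth.Agent.S17764

/-- Let R be a commutative ring and M an R-module which is torsion-free (no nonzero element of R kills a
nonzero element of M) and divisible (multiplication by every nonzero element of R is surjective on
M). Then M is an injective R-module. (Over a ring with zero divisors the two hypotheses force M =
0.) -/
theorem result (R : Type u) [CommRing R] (M : Type u) [AddCommGroup M] [Module R M] [NoZeroSMulDivisors R M] (hdiv : ∀ r : R, r ≠ 0 → Function.Surjective (fun m : M => r • m)) : Module.Injective R M := by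
  apply Module.Baer.injective
  intro J g
  by_cases hJ : J = ⊥
  · refine ⟨0, fun x hx => ?_⟩
    subst hJ
    have hx0 : x = 0 := (Submodule.mem_bot R).mp hx
    have h1 : (⟨x, hx⟩ : (⊥ : Ideal R)) = 0 := Subtype.ext hx0
    rw [h1, map_zero]
    rfl
  · obtain ⟨a, haJ, ha0⟩ := Submodule.exists_mem_ne_zero_of_ne_bot hJ
    obtain ⟨m₀, hm₀⟩ := hdiv a ha0 (g ⟨a, haJ⟩)
    have hm₀' : a • m₀ = g ⟨a, haJ⟩ := hm₀
    refine ⟨LinearMap.toSpanSingleton R M m₀, fun x hx => ?_⟩
    rw [LinearMap.toSpanSingleton_apply]
    have h1 : a • (x • m₀) = a • g ⟨x, hx⟩ := by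
      rw [smul_comm, hm₀', ← map_smul, ← map_smul]
      congr 1
      apply Subtype.ext
      simp [mul_comm]
    have h2 : a • (x • m₀ - g ⟨x, hx⟩) = 0 := by rw [smul_sub, h1, sub_self]
    rcases NoZeroSMulDivisors.eq_zero_or_eq_zero_of_smul_eq_zero h2 with h3 | h3
    · exact absurd h3 ha0
    · exact sub_eq_zero.mp h3

end Groth.Agent.S17764
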