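import Groth.Statements.S17774
import Mathlib
import Groth.Agent.Lib.LocDual2_helper6
import Groth.Agent.Lib.Gorenstein_helper5
import Groth.Agent.Lib.GorHull_helper7
import Groth.Agent.Lib.InjHull_helper3
import Groth.Agent.Lib.CMChain_helper5
-- import your own Groth.Agent.* helpers here

set_option autoImplicit false
universe u
open CategoryTheory Opposite
open LocCoh

namespace Groth.Agent.S17774

/-- Let (S, n) be a Gorenstein local ring, I an ideal of S of height g such that R = S ⧸ I is a
Cohen–Macaulay local ring, of Krull dimension d, and E an injective hull of the residue field of S.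
Then the canonical module of R is Ext^g_S(R, S), in the following sense: the Matlis dual
Hom_S(Ext^g_S(R, S), E) is isomorphic as an S-module to the top local cohomology H^d_n(R) of R
regarded as an S-module (existence of an S-linear isomorphism; Hom into E over S and local
cohomology with support in n agree with the corresponding notions over R for R-modules). -/
theorem result (S : Type u) [CommRing S] [LocCoh.IsGorensteinLocalRing S] (I : Ideal S) (g : ℕ) (hg : I.height = g) [LocCoh.IsCohenMacaulayLocalRing (S ⧸ I)] (d : ℕ) (hd : ringKrullDim (S ⧸ I) = d) (E : Type u) [AddCommGroup E] [Module S E] (f : IsLocalRing.ResidueField S →ₗ[S] E) (hf : InjHull.IsInjectiveHull f) : Nonempty ((((Ext S (ModuleCat.{u} S) g).obj (op (ModuleCat.of S (S ⧸ I)))).obj (ModuleCat.of S S) →ₗ[S] E) ≃ₗ[S] LocCoh.H (IsLocalRing.maximalIdeal S) d (S ⧸ I)) := by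

  classical
  obtain ⟨t, ht⟩ := Groth.Agent.Gor.depth_exists S
  have hG := (inferInstance : LocCoh.IsGorensteinLocalRing S).exists_hasInjectiveDimensionLT
  have hN : ringKrullDim S = ((t : ℕ∞) : WithBot ℕ∞) := Groth.Agent.Gor.dim_eq_depth t S hG ht
  have hN' : ringKrullDim S = (t : WithBot ℕ∞) := by rw [hN]; rfl
  haveI hCMS : LocCoh.IsCohenMacaulayLocalRing S := ⟨by
    rw [Module.supportDim_self_eq_ringKrullDim, hN]
    show _ = ((LocCoh.idealDepth (IsLocalRing.maximalIdeal S) S : ℕ∞) : WithBot ℕ∞)
    rw [ht]⟩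
  obtain ⟨gg, hgg⟩ := Groth.Agent.Lib.GorHullH7.gorenstein_hull t S hG hN'
  obtain ⟨e, _⟩ := Groth.Agent.Lib.InjHull_helper3.hull_unique f hf gg hgg
  let eK : (S →ₗ[S] E) ≃ₗ[S] LocCoh.H (IsLocalRing.maximalIdeal S) t S :=
    (LinearMap.ringLmapEquivSelf S S E).trans e
  have hdim : d + g = t := by
    obtain ⟨p, hpmin, hpht⟩ : ∃ p ∈ I.minimalPrimes, p.height = g := by
      have hI := hg
      rw [Ideal.height_eq_inf_minimalPrimes] at hI
      simp only [ENat.iInf_eq_natCast_iff] at hI
      rcases hI with ⟨⟨p, ⟨hpmin, h⟩, -⟩, -⟩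
      exact ⟨p, hpmin, h⟩
    rw [Ideal.minimalPrimes_eq_comap] at hpmin
    obtain ⟨q, hq, rfl⟩ := hpmin
    haveI hqp : q.IsPrime := hq.1.1
    have hq0 : q.height = 0 := Ideal.height_eq_zero_iff.2 hq
    have hsuppI : Module.support (S ⧸ I) (S ⧸ I) = Set.univ := by
      rw [Module.support_eq_zeroLocus, Module.annihilator_eq_bot.2 inferInstance]
      simp
    have hsuppS : Module.support S S = Set.univ := by
      rw [Module.support_eq_zeroLocus, Module.annihilator_eq_bot.2 inferInstance]
      simp
    have h3 := Groth.Agent.CMChain.height_add_ringKrullDim_quotient (S ⧸ I) (S ⧸ I)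
      (inferInstance : LocCoh.IsCohenMacaulayLocalRing (S ⧸ I)).supportDim_eq_depth hsuppI q
    rw [hq0, hd] at h3
    have h3' : ringKrullDim ((S ⧸ I) ⧸ q) = (d : WithBot ℕ∞) := by
      rw [← h3]
      simp
    have hbij : ringKrullDim (S ⧸ q.comap (Ideal.Quotient.mk I)) =
        ringKrullDim ((S ⧸ I) ⧸ q) :=
      ringKrullDim_eq_of_ringEquiv (RingEquiv.ofBijective
        (Ideal.quotientMap q (Ideal.Quotient.mk I) le_rfl)
        ⟨Ideal.quotientMap_injective, Ideal.quotientMap_surjective Ideal.Quotient.mk_surjective⟩)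
    have h4 := Groth.Agent.CMChain.height_add_ringKrullDim_quotient S S
      hCMS.supportDim_eq_depth hsuppS (q.comap (Ideal.Quotient.mk I))
    rw [hpht, hbij, h3', hN'] at h4
    have h5 : ((g + d : ℕ) : WithBot ℕ∞) = (t : WithBot ℕ∞) := by
      rw [← h4]
      push_cast
      rfl
    have h6 : g + d = t := by exact_mod_cast h5
    omega
  obtain ⟨e2⟩ := Groth.Agent.Lib.LocDual2_helper6.duality t hN' E hf.isInjective S eK g d hdim
    (S ⧸ I)
  exact ⟨e2.symm⟩

end Groth.Agent.S17774
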