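import Groth.Statements.S17780
import Groth.Agent.Lib.FwdDiff_helper3
-- import your own Groth.Agent.* helpers here

set_option autoImplicit false
universe u
open DRR


namespace Groth.Agent.S17780

/-- For x, y in a commutative ring and a natural number n, (n+1)! · x · y^n equals the sum over j = 0,
…, n of (−1)^(n−j) C(n, j) (x + j y)^(n+1), minus (n · (n+1)!/2) · y^(n+1). (The published identity
is stated in ℚ[x, y] with an overall factor 1/(n+1) and the coefficients C(n, j)(−1)^(n−j)/n!; it is
given here multiplied through by (n+1)!, which makes it an identity with integer coefficients valid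
in every commutative ring; n · (n+1)!/2 is an integer.) -/
theorem result (A : Type u) [CommRing A] (x y : A) (n : ℕ) :
    ((n + 1).factorial : A) * x * y ^ n =
      (∑ j ∈ Finset.range (n + 1), (-1 : A) ^ (n - j) * (n.choose j : A) * (x + (j : A) * y) ^ (n + 1))
        - ((n * (n + 1).factorial / 2 : ℕ) : A) * y ^ (n + 1) := by
  have hS : ∀ k ≤ n + 1, (∑ j ∈ Finset.range (n + 1),
      (-1 : A) ^ (n - j) * (n.choose j : A) * (j : A) ^ k) =
      (((if k = n + 1 then (((n + 1).choose 2 * n.factorial : ℕ) : ℤ)
        else if k = n then (n.factorial : ℤ) else 0 : ℤ)) : A) := by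
    intro k hk
    rw [← Groth.Agent.Lib.FwdDiff_helper3.altSum_cases n k hk]
    push_cast
    rfl
  have hexp : ∀ j : ℕ, (x + (j : A) * y) ^ (n + 1) = ∑ m ∈ Finset.range (n + 2),
      x ^ m * y ^ (n + 1 - m) * ((n + 1).choose m : A) * (j : A) ^ (n + 1 - m) := by
    intro j
    rw [add_pow]
    refine Finset.sum_congr rfl fun m _ => ?_
    rw [mul_pow]; ring
  have hswap : (∑ j ∈ Finset.range (n + 1),
      (-1 : A) ^ (n - j) * (n.choose j : A) * (x + (j : A) * y) ^ (n + 1)) =
      ∑ m ∈ Finset.range (n + 2), x ^ m * y ^ (n + 1 - m) * ((n + 1).choose m : A) *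
        ∑ j ∈ Finset.range (n + 1), (-1 : A) ^ (n - j) * (n.choose j : A) * (j : A) ^ (n + 1 - m) := by
    simp_rw [hexp, Finset.mul_sum]
    rw [Finset.sum_comm]
    refine Finset.sum_congr rfl fun m _ => Finset.sum_congr rfl fun j _ => ?_
    ring
  have hC2 : (n + 1).choose 2 * 2 = (n + 1) * n := by
    have := Nat.add_one_mul_choose_eq n 1
    rw [Nat.choose_one_right] at this
    exact this.symm
  have hdiv : n * (n + 1).factorial / 2 = (n + 1).choose 2 * n.factorial := by
    apply Nat.div_eq_of_eq_mul_left (by norm_num)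
    rw [Nat.factorial_succ]
    calc n * ((n + 1) * n.factorial) = ((n + 1) * n) * n.factorial := by ring
      _ = ((n + 1).choose 2 * 2) * n.factorial := by rw [hC2]
      _ = (n + 1).choose 2 * n.factorial * 2 := by ring
  rw [hswap, hdiv, Finset.sum_range_succ', Finset.sum_range_succ']
  have h0 : ∑ i ∈ Finset.range n, x ^ (i + 1 + 1) * y ^ (n + 1 - (i + 1 + 1)) *
      ((n + 1).choose (i + 1 + 1) : A) *
        ∑ j ∈ Finset.range (n + 1), (-1 : A) ^ (n - j) * (n.choose j : A) *
          (j : A) ^ (n + 1 - (i + 1 + 1)) = 0 := by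
    refine Finset.sum_eq_zero fun i hi => ?_
    have hi' := Finset.mem_range.1 hi
    rw [hS _ (by omega)]
    have h1 : ¬ (n + 1 - (i + 1 + 1) = n + 1) := by omega
    have h2 : ¬ (n + 1 - (i + 1 + 1) = n) := by omega
    rw [if_neg h1, if_neg h2]
    simp
  rw [h0, hS _ (by omega), hS _ (by omega)]
  have e1 : n + 1 - (0 + 1) = n := by omega
  have e2 : n + 1 - 0 = n + 1 := by omega
  rw [e1, e2]
  simp only [if_true, Nat.succ_ne_self, if_false, zero_add, pow_zero, pow_one, one_mul,
    Nat.choose_zero_right, Nat.cast_one, mul_one, Nat.choose_one_right]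
  have hn : ¬ (n = n + 1) := by omega
  simp only [hn, if_false]
  rw [Nat.factorial_succ]
  push_cast
  ring

end Groth.Agent.S17780
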