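import Groth.Statements.S17839
import Groth.Agent.S9684
import Groth.Agent.Lib.CatHt2_helper8
import Groth.Agent.Lib.CatHtLoc_helper8
import Groth.Agent.Lib.Regular_helper5

set_option autoImplicit false
universe u
open CategoryTheory AlgebraicGeometry
open Cyc

namespace Groth.Agent.S17839

/-- Let S be a locally Noetherian scheme all of whose local rings are regular and universally catenary,
and δS : S → ℤ the function with δS(s) = −dim O_{S,s}. Let f : X ⟶ S be locally of finite type and δ
: X → ℤ the induced function, δ(x) = δS(f x) + trdeg_{κ(f x)} κ(x) — the S-dimension: for X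
irreducible with generic point ξ, δ(ξ) is the transcendence degree of the function field of X over
κ(f ξ) minus dim O_{S, f ξ}. Then δ is a dimension function on X: it drops strictly along every
nontrivial specialization and by exactly one along immediate ones; equivalently, for irreducible
closed subsets V ⊆ W of X with generic points v and w, codim(V, W) = δ(w) − δ(v). (The published
statement fixes S Noetherian, excellent, regular and separated and X separated of finite type over
S; its proof uses only the hypotheses listed.) -/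
theorem result {X S : Scheme.{u}} (f : X ⟶ S)
    [LocallyOfFiniteType f] [IsLocallyNoetherian S]
    (hreg : ∀ s : S, IsRegularLocalRing (S.presheaf.stalk s))
    (huc : ∀ s : S, CAlg.IsUniversallyCatenary (S.presheaf.stalk s))
    (δS : S → ℤ) (hδS : ∀ s : S, ringKrullDim (S.presheaf.stalk s) = ((-δS s).toNat : WithBot ℕ∞) ∧ δS s ≤ 0)
    (δ : X → ℤ) (hδ : Cyc.DeltaCompat f δ δS) :
    Cyc.IsDimFun X δ := by
  classical
  have hdf : Cyc.IsDimFun S δS := by
    intro s t hst hne
    obtain ⟨_, ⟨V, hV, rfl⟩, htV, -⟩ :=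
      S.isBasis_affineOpens.exists_subset_of_mem_open (Set.mem_univ t) isOpen_univ
    have hsV : s ∈ V := hst.mem_open V.2 htV
    haveI hRn : IsNoetherianRing Γ(S, V) := IsLocallyNoetherian.component_noetherian ⟨V, hV⟩
    haveI hpsp : (hV.primeIdealOf ⟨s, hsV⟩).asIdeal.IsPrime := (hV.primeIdealOf ⟨s, hsV⟩).2
    haveI hptp : (hV.primeIdealOf ⟨t, htV⟩).asIdeal.IsPrime := (hV.primeIdealOf ⟨t, htV⟩).2
    have hle : hV.primeIdealOf ⟨s, hsV⟩ ≤ hV.primeIdealOf ⟨t, htV⟩ :=
      (Groth.Agent.SchFTH8.specializes_iff_primeIdealOf_le hV s t hsV htV).mp hst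
    have hne' : hV.primeIdealOf ⟨s, hsV⟩ ≠ hV.primeIdealOf ⟨t, htV⟩ := by
      intro heq
      apply hne
      have := congrArg hV.fromSpec heq
      rw [hV.fromSpec_primeIdealOf, hV.fromSpec_primeIdealOf] at this
      exact this
    have hlt : (hV.primeIdealOf ⟨s, hsV⟩).asIdeal < (hV.primeIdealOf ⟨t, htV⟩).asIdeal :=
      lt_of_le_of_ne hle (fun h => hne' (PrimeSpectrum.ext h))
    obtain ⟨hs1, hs2⟩ := hδS s
    obtain ⟨ht1, ht2⟩ := hδS t
    rw [Groth.Agent.SchFTH8.ringKrullDim_stalk_eq_height hV s hsV] at hs1
    rw [Groth.Agent.SchFTH8.ringKrullDim_stalk_eq_height hV t htV] at ht1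
    have hs1' : (hV.primeIdealOf ⟨s, hsV⟩).asIdeal.height = ((-δS s).toNat : ℕ∞) := by
      exact_mod_cast hs1
    have ht1' : (hV.primeIdealOf ⟨t, htV⟩).asIdeal.height = ((-δS t).toNat : ℕ∞) := by
      exact_mod_cast ht1
    constructor
    · have h1 := Ideal.height_add_one_le_of_lt_of_isPrime hlt
      rw [hs1', ht1'] at h1
      have h2 : (-δS s).toNat + 1 ≤ (-δS t).toNat := by exact_mod_cast h1
      omega
    · intro himm
      have hcov := Groth.Agent.DimFunChartH8.covBy_of_immediate hV s t hsV htV hst hne himm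
      have hone := Groth.Agent.CatHt2H8.height_map_mk_eq_one_of_covBy _ _ hcov
      letI : Algebra Γ(S, V) (S.presheaf.stalk t) :=
        TopCat.Presheaf.algebra_section_stalk S.presheaf (⟨t, htV⟩ : V)
      haveI : IsLocalization.AtPrime (S.presheaf.stalk t) (hV.primeIdealOf ⟨t, htV⟩).asIdeal :=
        hV.isLocalization_stalk ⟨t, htV⟩
      haveI := hreg t
      haveI : IsDomain (S.presheaf.stalk t) := Groth.Agent.RegularLib.isDomain _
      have hcat : CAlg.IsCatenary (S.presheaf.stalk t) := (huc t).2 _ inferInstance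
      have hadd := Groth.Agent.CatHtLocH8.height_add_height_map_mk_eq_of_localization
        (hV.primeIdealOf ⟨t, htV⟩).asIdeal.primeCompl (S.presheaf.stalk t) hcat
        (hV.primeIdealOf ⟨s, hsV⟩).asIdeal (hV.primeIdealOf ⟨t, htV⟩).asIdeal hlt.le
        (by
          rw [Set.disjoint_left]
          intro a ha ha'
          exact ha ha')
      rw [hone, hs1', ht1'] at hadd
      have h2 : (-δS s).toNat + 1 = (-δS t).toNat := by exact_mod_cast hadd
      omega
  exact Groth.Agent.S9684.result f δS ⟨inferInstance, huc, hdf⟩ δ hδ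

end Groth.Agent.S17839
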