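import Groth.Statements.S17840
import Groth.Agent.Lib.FlatFibDim_helper8
import Groth.Agent.Lib.DimEqSch_helper8
import Groth.Agent.Lib.ResQuot2_helper8

set_option autoImplicit false
universe u
open CategoryTheory AlgebraicGeometry
open Cyc

namespace Groth.Agent.S17840

/-- Let (Y, δY) be a locally Noetherian scheme with universally catenary local rings and a dimension
function, f : X ⟶ Y a flat morphism locally of finite type between irreducible schemes with generic
points ξ and η, and δX the induced function on X, δX(x) = δY(f x) + trdeg_{κ(f x)} κ(x). Put d =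
δX(ξ) − δY(η). Then d ≥ 0, every irreducible component of every fibre of f has dimension d, and for
every point x of X the fibre of f over f(x) has dimension d. (The published statement is for schemes
separated of finite type over a Noetherian excellent regular separated base S with δ the S-dimension
— transcendence degree of the residue field minus the dimension of the local ring of S at the image
point — and for the fibre over every point of Y; the fibre over a point outside f(X) is empty, so
the dimension statement is made here at points of the image; this row allows any dimension function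
δY on a locally Noetherian Y with universally catenary local rings, with δX induced from it.) -/
theorem result {X Y : Scheme.{u}} (f : X ⟶ Y) [Flat f] [LocallyOfFiniteType f]
    [IrreducibleSpace X] [IrreducibleSpace Y] (δX : X → ℤ) (δY : Y → ℤ) (hY : Cyc.IsSetup Y δY)
    (hδ : Cyc.DeltaCompat f δX δY) :
    0 ≤ δX (genericPoint X) - δY (genericPoint Y) ∧
      Cyc.HasRelDim f (δX (genericPoint X) - δY (genericPoint Y)).toNat ∧
      ∀ x : X, topologicalKrullDim ↥(f.fiber (f x)) =
        ((δX (genericPoint X) - δY (genericPoint Y)).toNat : WithBot ℕ∞) := by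
  classical
  obtain ⟨hYN, hcat, -⟩ := hY
  haveI := hYN
  set ξ : X := genericPoint X with hξdef
  have hξ : ∀ x' : X, ξ ⤳ x' := fun x' => genericPoint_specializes x'
  have hgen : f.base ξ = genericPoint Y := by
    obtain ⟨x', hx', hfx'⟩ := Flat.generalizingMap f (genericPoint_specializes (f.base ξ))
    have : x' = ξ := (hx'.antisymm (hξ x')).eq
    rw [← this, hfx']
  have hη : ∀ y' : Y, f.base ξ ⤳ y' := fun y' => by
    rw [hgen]; exact genericPoint_specializes y'
  obtain ⟨E, hE, hδE⟩ := hδ ξ
  have hE' : @Algebra.trdeg (Y.residueField (f.base ξ)) (X.residueField ξ) _ _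
      (f.residueFieldMap ξ).hom.toAlgebra = E := hE
  have hd : δX (genericPoint X) - δY (genericPoint Y) = E := by
    rw [← hgen, ← hξdef, hδE]; ring
  rw [hd]
  have hrel : Cyc.HasRelDim f E := by
    intro y T hT
    obtain ⟨z₀, hTeq, hmax, hdim⟩ :=
      Groth.Agent.FlatFibDimH8.exists_generic_of_mem_irreducibleComponents (f.fiber y) T hT
    set x := (f.fiberι y).base z₀ with hx
    have hfx : f.base x = y := Groth.Agent.FibRes2H8.fiberι_mem f y z₀
    obtain ⟨n, hn⟩ := Groth.Agent.ResQuot2H8.exists_trdeg_nat f x
    have hht := Groth.Agent.FlatFibDimH8.height_fiber_eq f x y hfx z₀ rfl n hn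
    rw [hdim, hht]
    have h0 : ringKrullDim ((f.fiber (f.base x)).presheaf.stalk (f.asFiber x)) = 0 := by
      rw [← Groth.Agent.FibChainH8.stalk_dim_fiber_eq f x y hfx z₀ rfl,
        AlgebraicGeometry.ringKrullDim_stalk_eq_coheight, Order.coheight_eq_zero.mpr hmax]
      rfl
    have hflat := Groth.Agent.FlatFibDimH8.flat_stalk_dim_eq f x h0
    have hM := Groth.Agent.DimEqSchH8.dim_formula_eq f ξ x hξ hη (hcat _) n E hn hE'
    rw [hflat] at hM
    have hb : ringKrullDim (Y.presheaf.stalk (f.base x)) =
        ((LTSeries.longestOf (PrimeSpectrum (Y.presheaf.stalk (f.base x)))).length : ℕ) :=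
      Order.krullDim_eq_length_of_finiteDimensionalOrder
    rw [hb] at hM
    have : n = E := by
      have h2 : (LTSeries.longestOf (PrimeSpectrum (Y.presheaf.stalk (f.base x)))).length + n =
          (LTSeries.longestOf (PrimeSpectrum (Y.presheaf.stalk (f.base x)))).length + E := by
        exact_mod_cast hM
      omega
    rw [this]
    rfl
  refine ⟨by simp, by simpa using hrel, ?_⟩
  intro x
  haveI : Nonempty (f.fiber (f.base x)) := ⟨f.asFiber x⟩
  have := Groth.Agent.FlatFibDimH8.topDim_eq_of_irreducibleComponents (f.fiber (f.base x)) E
    (fun T hT => hrel (f.base x) T hT)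
  simpa using this

end Groth.Agent.S17840
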