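import Groth.Statements.S17872
import Mathlib

set_option autoImplicit false
universe u v
open GRRSing

namespace Groth.Agent.S17872

/-- Let H be a vector space over a field K and let b_0, …, b_l be elements of H. If the sum of the t ^ i
• b_i vanishes for infinitely many scalars t of K, then all the b_i are zero. -/
theorem result {K : Type u} {H : Type v} [Field K] [AddCommGroup H] [Module K H]
    (l : ℕ) (b : Fin (l + 1) → H)
    (h : Set.Infinite {t : K | ∑ i : Fin (l + 1), t ^ (i : ℕ) • b i = 0}) :
    b = 0 := by
  funext i
  rw [Pi.zero_apply, ← Module.forall_dual_apply_eq_zero_iff K]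
  intro φ
  set p : Polynomial K := ∑ j : Fin (l + 1), Polynomial.C (φ (b j)) * Polynomial.X ^ (j : ℕ) with hp
  have heval : ∀ t : K, p.eval t = φ (∑ j : Fin (l + 1), t ^ (j : ℕ) • b j) := by
    intro t
    rw [hp, Polynomial.eval_finset_sum, map_sum]
    apply Finset.sum_congr rfl
    intro j _
    rw [Polynomial.eval_mul, Polynomial.eval_C, Polynomial.eval_pow, Polynomial.eval_X, map_smul,
      smul_eq_mul, mul_comm]
  have hroots : Set.Infinite {t : K | p.IsRoot t} := by
    apply h.mono
    intro t ht
    change p.eval t = 0
    rw [heval t, ht, map_zero]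
  have hp0 : p = 0 := Polynomial.eq_zero_of_infinite_isRoot p hroots
  have hcoeff : p.coeff (i : ℕ) = φ (b i) := by
    rw [hp, Polynomial.finset_sum_coeff]
    rw [Finset.sum_eq_single i]
    · rw [Polynomial.coeff_C_mul, Polynomial.coeff_X_pow, if_pos rfl, mul_one]
    · intro j _ hji
      rw [Polynomial.coeff_C_mul, Polynomial.coeff_X_pow, if_neg, mul_zero]
      intro hij
      exact hji (Fin.ext hij.symm)
    · intro hi
      exact absurd (Finset.mem_univ i) hi
  rw [← hcoeff, hp0, Polynomial.coeff_zero]

end Groth.Agent.S17872
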