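import Groth.Statements.S17881
import Mathlib

set_option autoImplicit false
universe u
open CAlg

namespace Groth.Agent.S17881

/-- Let O be a subring of a nontrivial commutative ring A. The following are equivalent: (i) A is a
local ring, every non-unit of A belongs to O, and for every unit u of A one of u, u⁻¹ belongs to O —
equivalently O is the preimage in the local ring A of a valuation ring of the residue field of A,
which makes O a semi-valuation ring with semi-fraction ring A; (ii) for all f, g in A generating the
unit ideal, either f ∈ gO or g ∈ fO. (A is taken nontrivial: over the zero ring (ii) holds and (i)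
fails.) -/
theorem result (A : Type u) [CommRing A] [Nontrivial A]
    (O : Subring A) :
    (IsLocalRing A ∧ (∀ a : A, ¬ IsUnit a → a ∈ O) ∧ (∀ u : Aˣ, (u : A) ∈ O ∨ ((u⁻¹ : Aˣ) : A) ∈ O)) ↔
      ∀ f g : A, IsCoprime f g → (∃ o ∈ O, f = g * o) ∨ (∃ o ∈ O, g = f * o) := by
  constructor
  · rintro ⟨hloc, hnon, hunit⟩ f g hfg
    obtain ⟨a, c, hac⟩ := hfg
    -- one of f, g is a unit
    have hfu : IsUnit f ∨ IsUnit g := by
      by_contra hcon
      push Not at hcon
      obtain ⟨hf, hg⟩ := hcon
      have h1 : a * f ∈ IsLocalRing.maximalIdeal A :=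
        Ideal.mul_mem_left _ _ ((IsLocalRing.mem_maximalIdeal f).mpr hf)
      have h2 : c * g ∈ IsLocalRing.maximalIdeal A :=
        Ideal.mul_mem_left _ _ ((IsLocalRing.mem_maximalIdeal g).mpr hg)
      have h3 := Ideal.add_mem _ h1 h2
      rw [hac] at h3
      exact (IsLocalRing.mem_maximalIdeal 1).mp h3 isUnit_one
    -- key: if g is a unit then conclusion
    have key : ∀ f g : A, IsUnit g → (∃ o ∈ O, f = g * o) ∨ (∃ o ∈ O, g = f * o) := by
      intro f g hg
      obtain ⟨ug, rfl⟩ := hg
      by_cases hf : IsUnit f
      · obtain ⟨uf, rfl⟩ := hf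
        rcases hunit (ug⁻¹ * uf) with h | h
        · left
          refine ⟨_, h, ?_⟩
          rw [Units.val_mul, ← mul_assoc, Units.mul_inv, one_mul]
        · right
          refine ⟨_, h, ?_⟩
          rw [mul_inv_rev, inv_inv, Units.val_mul, ← mul_assoc, Units.mul_inv, one_mul]
      · left
        refine ⟨↑ug⁻¹ * f, hnon _ ?_, ?_⟩
        · intro hu
          apply hf
          have := (ug.isUnit).mul hu
          rwa [← mul_assoc, Units.mul_inv, one_mul] at this
        · rw [← mul_assoc, Units.mul_inv, one_mul]
    rcases hfu with hf | hg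
    · exact (key g f hf).symm
    · exact key f g hg
  · intro h
    have hloc : IsLocalRing A := by
      apply IsLocalRing.of_isUnit_or_isUnit_one_sub_self
      intro a
      have hcop : IsCoprime a (1 - a) := ⟨1, 1, by ring⟩
      rcases h a (1 - a) hcop with ⟨o, _, ho⟩ | ⟨o, _, ho⟩
      · right
        refine IsUnit.of_mul_eq_one (1 + o) ?_
        calc (1 - a) * (1 + o) = (1 - a) + (1 - a) * o := by ring
          _ = (1 - a) + a := by rw [← ho]
          _ = 1 := by ring
      · left
        refine IsUnit.of_mul_eq_one (1 + o) ?_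
        calc a * (1 + o) = a + a * o := by ring
          _ = a + (1 - a) := by rw [← ho]
          _ = 1 := by ring
    refine ⟨hloc, ?_, ?_⟩
    · intro a ha
      have hcop : IsCoprime a 1 := isCoprime_one_right
      rcases h a 1 hcop with ⟨o, ho, hao⟩ | ⟨o, _, hao⟩
      · rw [one_mul] at hao
        rw [hao]; exact ho
      · exact absurd (IsUnit.of_mul_eq_one o hao.symm) ha
    · intro u
      have hcop : IsCoprime (u : A) 1 := isCoprime_one_right
      rcases h u 1 hcop with ⟨o, ho, hao⟩ | ⟨o, ho, hao⟩
      · left
        rw [one_mul] at hao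
        rw [hao]; exact ho
      · right
        have : o = ((u⁻¹ : Aˣ) : A) := by
          calc o = ↑u⁻¹ * (↑u * o) := by rw [← mul_assoc, Units.inv_mul, one_mul]
            _ = ↑u⁻¹ := by rw [← hao, mul_one]
        rw [← this]; exact ho

end Groth.Agent.S17881
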