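import Groth.Statements.S17882
import Mathlib
-- import your own Groth.Agent.* helpers here

set_option autoImplicit false
universe u
open CAlg

namespace Groth.Agent.S17882

/-- Let B be a commutative ring, r ≥ 1, N a finitely generated submodule of B^r, and n_1, …, n_r ∈ N.
Suppose the determinant of the matrix with rows n_1, …, n_r is a nonzerodivisor of B and that the
determinant of every matrix whose rows lie in N is a multiple of it (the image of the top exterior
power of N in that of B^r ≅ B is the principal ideal generated by n_1 ∧ ⋯ ∧ n_r, a nonzerodivisor).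
Then n_1, …, n_r are linearly independent over B and span N: N is free of rank r with this basis. -/
theorem result (B : Type u) [CommRing B] (r : ℕ) (hr : 0 < r)
    (N : Submodule B (Fin r → B)) (hN : N.FG) (n : Fin r → (Fin r → B)) (hn : ∀ i, n i ∈ N)
    (hgen : ∀ m : Fin r → (Fin r → B), (∀ i, m i ∈ N) →
      Matrix.det (Matrix.of m) ∈ Ideal.span {Matrix.det (Matrix.of n)})
    (hnzd : Matrix.det (Matrix.of n) ∈ nonZeroDivisors B) :
    LinearIndependent B n ∧ Submodule.span B (Set.range n) = N := by

  classical
  obtain ⟨M, hM⟩ : ∃ M : Matrix (Fin r) (Fin r) B, M = Matrix.of n := ⟨_, rfl⟩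
  have hMrow : ∀ i, M i = n i := fun i => by rw [hM]; rfl
  obtain ⟨δ, hδ⟩ : ∃ δ : B, δ = M.det := ⟨_, rfl⟩
  rw [← hM, ← hδ] at hnzd
  have hδcancel : ∀ b : B, δ * b = 0 → b = 0 := by
    intro b hb
    rw [mul_comm] at hb
    exact (mem_nonZeroDivisors_iff_right.mp hnzd) b hb
  -- combination formula
  have hcomb : ∀ c : Fin r → B, M.transpose.mulVec c = ∑ i, c i • n i := by
    intro c
    ext j
    simp only [Matrix.mulVec, dotProduct, Matrix.transpose_apply, Finset.sum_apply,
      Pi.smul_apply, smul_eq_mul]
    refine Finset.sum_congr rfl (fun i _ => ?_)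
    rw [← hMrow i, mul_comm]
  constructor
  · rw [Fintype.linearIndependent_iff]
    intro c hc i
    rw [← hcomb] at hc
    -- multiply by adjugate
    have h1 : (M.transpose.adjugate * M.transpose).mulVec c = 0 := by
      rw [← Matrix.mulVec_mulVec, hc, Matrix.mulVec_zero]
    rw [Matrix.adjugate_mul, Matrix.det_transpose, ← hδ, Matrix.smul_mulVec,
      Matrix.one_mulVec] at h1
    have h2 := congrFun h1 i
    simp only [Pi.smul_apply, smul_eq_mul, Pi.zero_apply] at h2
    exact hδcancel _ h2
  · apply le_antisymm
    · exact Submodule.span_le.mpr (by rintro _ ⟨i, rfl⟩; exact hn i)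
    · intro x hx
      -- Cramer
      have h1 : M.transpose.mulVec (M.transpose.cramer x) = δ • x := by
        rw [Matrix.mulVec_cramer, Matrix.det_transpose, ← hδ]
      have h2 : ∀ i, ∃ b : B, M.transpose.cramer x i = δ * b := by
        intro i
        rw [Matrix.cramer_transpose_apply]
        have h3 := hgen (fun j => if j = i then x else n j) (fun j => by
          by_cases hj : j = i
          · simp [hj, hx]
          · simp [hj, hn j])
        rw [← hM, ← hδ, Ideal.mem_span_singleton'] at h3
        obtain ⟨b, hb⟩ := h3
        refine ⟨b, ?_⟩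
        rw [mul_comm, hb]
        congr 1
        ext j l
        by_cases hj : j = i
        · subst hj; simp [Matrix.updateRow_self]
        · simp [Matrix.updateRow_ne hj, hj, hMrow]
      choose b hb using h2
      have h4 : δ • x = δ • ∑ i, b i • n i := by
        rw [← h1, hcomb, Finset.smul_sum]
        refine Finset.sum_congr rfl (fun i _ => ?_)
        rw [hb i, mul_smul]
      have h5 : x = ∑ i, b i • n i := by
        ext j
        have h6 := congrFun h4 j
        simp only [Pi.smul_apply, smul_eq_mul] at h6
        have h7 : δ * (x j - (∑ i, b i • n i) j) = 0 := by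
          rw [mul_sub, h6, sub_self]
        exact sub_eq_zero.mp (hδcancel _ h7)
      rw [h5]
      exact Submodule.sum_mem _ (fun i _ => Submodule.smul_mem _ _
        (Submodule.subset_span ⟨i, rfl⟩))

end Groth.Agent.S17882
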