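import Groth.Statements.S17889
import Groth.Agent.Lib.Cart4_helper8

set_option autoImplicit false
universe u
open CategoryTheory AlgebraicGeometry TopologicalSpace
open BlowUp

namespace Groth.Agent.S17889

/-- Let X be a Noetherian scheme, X₀ ⊆ X an open subscheme, p : Z → X a morphism of finite type with Z
Noetherian, and F ⊆ X, G ⊆ Z closed subsets with p⁻¹(F ∩ X₀) ∩ G = ∅. Let a be a quasi-coherent
ideal sheaf on X whose support does not meet X₀, which contains the vanishing ideal I_F of F, and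
which is contained in the kernel ideal of V(I_F·O_Z + I_G) → Z → X (the ideal of the
scheme-theoretic image under p of p⁻¹(F) ∩ G). Let π : X' → X be a blowing-up along a, Z' = Z ×_X X'
with projections π' : Z' → Z and p' : Z' → X'. Then p'⁻¹ of the closure in X' of π⁻¹(F ∩ X₀) is
disjoint from the closure in Z' of π'⁻¹(G ∩ p⁻¹(X₀)). Taking a to be that kernel ideal shows such an
a exists. -/
theorem result
    {X Z : Scheme.{u}} [IsNoetherian X] [IsNoetherian Z] (p : Z ⟶ X) [LocallyOfFiniteType p]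
    (X₀ : X.Opens) (F : Closeds X) (G : Closeds Z)
    (hFG : p.base ⁻¹' ((F : Set X) ∩ (X₀ : Set X)) ∩ (G : Set Z) = ∅)
    (𝔞 : X.IdealSheafData) (h₁ : Disjoint (𝔞.support : Set X) (X₀ : Set X))
    (h₂ : Scheme.IdealSheafData.vanishingIdeal F ≤ 𝔞)
    (h₃ : 𝔞 ≤ (((Scheme.IdealSheafData.vanishingIdeal F).comap p ⊔
      Scheme.IdealSheafData.vanishingIdeal G).subschemeι ≫ p).ker)
    {X' : Scheme.{u}} (π : X' ⟶ X) (hπ : BlowUp.IsBlowUp π 𝔞) :
    (Limits.pullback.snd p π).base ⁻¹' closure (π.base ⁻¹' ((F : Set X) ∩ (X₀ : Set X))) ∩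
      closure ((Limits.pullback.fst p π).base ⁻¹' ((G : Set Z) ∩ (p ⁻¹ᵁ X₀ : Set Z))) = ∅ := by
  rw [Set.eq_empty_iff_forall_notMem]
  rintro z ⟨hz1, hz2⟩
  obtain ⟨IF, hIF⟩ : ∃ IF : X.IdealSheafData, IF = Scheme.IdealSheafData.vanishingIdeal F :=
    ⟨_, rfl⟩
  obtain ⟨IG, hIG⟩ : ∃ IG : Z.IdealSheafData, IG = Scheme.IdealSheafData.vanishingIdeal G :=
    ⟨_, rfl⟩
  rw [← hIF] at h₂
  rw [← hIF, ← hIG] at h₃
  have hFsupp : ∀ x : X, x ∈ F → x ∈ IF.support := by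
    intro x hx
    have h1 : F ≤ IF.support := by
      rw [hIF]
      exact Scheme.IdealSheafData.le_support_iff_le_vanishingIdeal.mpr le_rfl
    exact h1 hx
  have hGsupp : ∀ x : Z, x ∈ G → x ∈ IG.support := by
    intro x hx
    have h1 : G ≤ IG.support := by
      rw [hIG]
      exact Scheme.IdealSheafData.le_support_iff_le_vanishingIdeal.mpr le_rfl
    exact h1 hx
  obtain ⟨p', hp'⟩ : ∃ p' : Limits.pullback p π ⟶ X', p' = Limits.pullback.snd p π := ⟨_, rfl⟩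
  obtain ⟨π', hπ'⟩ : ∃ π' : Limits.pullback p π ⟶ Z, π' = Limits.pullback.fst p π := ⟨_, rfl⟩
  have hcond : π' ≫ p = p' ≫ π := by rw [hp', hπ', Limits.pullback.condition]
  rw [← hp'] at hz1
  rw [← hπ'] at hz2
  have hz1' : p' z ∈ closure (π.base ⁻¹' ((F : Set X) ∩ (X₀ : Set X))) := hz1
  -- the key ideal inclusion on `Z`
  have h₃' : 𝔞.comap p ≤ IF.comap p ⊔ IG := by
    rw [Scheme.Hom.ker_comp, Scheme.IdealSheafData.ker_subschemeι] at h₃
    exact Scheme.IdealSheafData.le_map_iff_comap_le.mp h₃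
  have h₃'' : (𝔞.comap π).comap p' ≤ (IF.comap π).comap p' ⊔ IG.comap π' := by
    have h1 := Scheme.IdealSheafData.comap_mono π' h₃'
    have h2 : (𝔞.comap p).comap π' ≤ (IF.comap p ⊔ IG).comap π' := h1
    rw [Scheme.IdealSheafData.comap_sup, ← Scheme.IdealSheafData.comap_comp,
      ← Scheme.IdealSheafData.comap_comp, hcond, Scheme.IdealSheafData.comap_comp,
      Scheme.IdealSheafData.comap_comp] at h2
    exact h2
  obtain ⟨V', hzV', t, ht0, ht⟩ := hπ.1 (p' z)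
  obtain ⟨_, ⟨W, hW : IsAffineOpen W, rfl⟩, hzW, hWle⟩ :=
    ((Limits.pullback p π).isBasis_affineOpens).exists_subset_of_mem_open
      (show z ∈ ((p' ⁻¹ᵁ V'.1 : (Limits.pullback p π).Opens) : Set _) from hzV')
      (p' ⁻¹ᵁ V'.1).2
  have hWV' : W ≤ p' ⁻¹ᵁ V'.1 := hWle
  obtain ⟨ψ, hψ⟩ : ∃ ψ : Γ(X', V'.1) →+* Γ(Limits.pullback p π, W),
      ψ = (p'.appLE V'.1 W hWV').hom := ⟨_, rfl⟩
  obtain ⟨L, hL⟩ : ∃ L : Ideal Γ(X', V'.1), L = (IF.comap π).ideal V' := ⟨_, rfl⟩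
  have hLle : L ≤ Ideal.span {t} := by
    rw [hL, ← ht]
    exact (Scheme.IdealSheafData.comap_mono π h₂) V'
  have hA : ψ t ∈ Ideal.map ψ L ⊔ (IG.comap π').ideal ⟨W, hW⟩ := by
    have h1 := h₃'' ⟨W, hW⟩
    rw [ComapIdH8.comap_ideal p' (𝔞.comap π) ⟨W, hW⟩ V' hWV', ht, Ideal.map_span,
      Set.image_singleton] at h1
    have h2 : ((IF.comap π).comap p' ⊔ IG.comap π').ideal ⟨W, hW⟩ =
        ((IF.comap π).comap p').ideal ⟨W, hW⟩ ⊔ (IG.comap π').ideal ⟨W, hW⟩ := rfl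
    rw [h2, ComapIdH8.comap_ideal p' (IF.comap π) ⟨W, hW⟩ V' hWV', ← hL, ← hψ] at h1
    exact h1 (Ideal.mem_span_singleton_self _)
  obtain ⟨m, hm, g, hg, hsum⟩ := Submodule.mem_sup.mp hA
  -- the transporter ideal
  obtain ⟨J, hJ⟩ : ∃ J : Ideal Γ(X', V'.1), ∀ c, c ∈ J ↔ t * c ∈ L :=
    ⟨Submodule.comap (LinearMap.mulLeft Γ(X', V'.1) t) L, fun c => by
      rw [Submodule.mem_comap, LinearMap.mulLeft_apply]⟩
  have hLJ : L = Ideal.span {t} * J := by
    apply le_antisymm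
    · intro l hl
      obtain ⟨c, hc⟩ := Ideal.mem_span_singleton'.mp (hLle hl)
      have hc' : t * c = l := by rw [mul_comm]; exact hc
      rw [← hc']
      exact Ideal.mul_mem_mul (Ideal.mem_span_singleton_self t) ((hJ c).mpr (hc' ▸ hl))
    · rw [Ideal.mul_le]
      intro r hr c hc
      obtain ⟨a, ha⟩ := Ideal.mem_span_singleton'.mp hr
      rw [← ha, mul_assoc]
      exact L.mul_mem_left a ((hJ c).mp hc)
  rw [hLJ, Ideal.map_mul, Ideal.map_span, Set.image_singleton] at hm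
  obtain ⟨j, hj, hjm⟩ := Ideal.mem_span_singleton_mul.mp hm
  have hg' : ψ t * (1 - j) = g := by
    rw [mul_sub, mul_one, hjm, ← hsum, add_sub_cancel_left]
  -- the prime ideal of `z`
  obtain ⟨𝔭, h𝔭⟩ : ∃ 𝔭 : Ideal Γ(Limits.pullback p π, W),
      ∀ s, s ∈ 𝔭 ↔ z ∉ (Limits.pullback p π).basicOpen s :=
    ⟨Ideal.comap ((Limits.pullback p π).presheaf.germ W z hzW).hom
      (IsLocalRing.maximalIdeal ((Limits.pullback p π).presheaf.stalk z)), fun s => by
      rw [Ideal.mem_comap, IsLocalRing.mem_maximalIdeal, mem_nonunits_iff,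
        Scheme.mem_basicOpen _ _ _ hzW]⟩
  have hX₀ : ∀ x' : X', π x' ∈ X₀ → x' ∈ V'.1 → x' ∈ X'.basicOpen t := by
    intro x' hx' hx'V
    apply CartH8.mem_basicOpen_of_notMem_support (𝔞.comap π) V' t ht x' hx'V
    rw [CartH8.mem_support_comap_iff]
    intro hcon
    exact (Set.disjoint_left.mp h₁) hcon hx'
  -- claim C
  have hC : (1 - j) ∈ 𝔭 := by
    rw [h𝔭]
    intro hzD
    obtain ⟨w, hwD, hwS⟩ := mem_closure_iff.mp hz2 _
      ((Limits.pullback p π).basicOpen (1 - j)).2 hzD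
    have hwW : w ∈ W := (Limits.pullback p π).basicOpen_le _ hwD
    have hwG : π' w ∈ G := hwS.1
    have hwX₀ : p (π' w) ∈ X₀ := hwS.2
    have hwX₀' : π (p' w) ∈ X₀ := by
      rw [← Scheme.Hom.comp_apply, ← hcond, Scheme.Hom.comp_apply]
      exact hwX₀
    have h1 : w ∈ (IG.comap π').support := by
      rw [CartH8.mem_support_comap_iff]
      exact hGsupp _ hwG
    have h2 : w ∉ (Limits.pullback p π).basicOpen g := by
      rw [Scheme.IdealSheafData.mem_support_iff_of_mem (U := ⟨W, hW⟩) hwW,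
        Scheme.mem_zeroLocus_iff] at h1
      exact h1 g hg
    have h3 : w ∈ (Limits.pullback p π).basicOpen (ψ t) := by
      rw [hψ, Scheme.basicOpen_appLE]
      exact ⟨hwW, hX₀ _ hwX₀' (hWV' hwW)⟩
    apply h2
    rw [← hg', Scheme.basicOpen_mul]
    exact ⟨h3, hwD⟩
  -- claim D
  have hD : j ∈ 𝔭 := by
    have h1 : Ideal.map ψ J ≤ 𝔭 := by
      rw [Ideal.map_le_iff_le_comap]
      intro c hc
      rw [Ideal.mem_comap, h𝔭]
      intro hzD
      rw [hψ, Scheme.basicOpen_appLE] at hzD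
      have hzc : p' z ∈ X'.basicOpen c := hzD.2
      obtain ⟨x', hx'D, hx'S⟩ := mem_closure_iff.mp hz1' _ (X'.basicOpen c).2 hzc
      have hx'V : x' ∈ V'.1 := X'.basicOpen_le _ hx'D
      have hx'F : π x' ∈ F := hx'S.1
      have hx'X₀ : π x' ∈ X₀ := hx'S.2
      have h2 : x' ∈ (IF.comap π).support := by
        rw [CartH8.mem_support_comap_iff]
        exact hFsupp _ hx'F
      have h3 : x' ∉ X'.basicOpen (t * c) := by
        rw [Scheme.IdealSheafData.mem_support_iff_of_mem (U := V') hx'V,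
          Scheme.mem_zeroLocus_iff] at h2
        exact h2 (t * c) (hL ▸ (hJ c).mp hc)
      apply h3
      rw [Scheme.basicOpen_mul]
      exact ⟨hX₀ _ hx'X₀ hx'V, hx'D⟩
    exact h1 hj
  have hone : (1 : Γ(Limits.pullback p π, W)) ∈ 𝔭 := by
    have h1 : (1 : Γ(Limits.pullback p π, W)) = j + (1 - j) := by ring
    rw [h1]
    exact 𝔭.add_mem hD hC
  rw [h𝔭, Scheme.basicOpen_of_isUnit _ isUnit_one] at hone
  exact hone hzW

end Groth.Agent.S17889
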