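import Groth.Statements.S17900
import Mathlib

set_option autoImplicit false
universe u
open TensorProduct
open Pinch

namespace Groth.Agent.S17900

open TensorProduct in
theorem flat_prod (R M N : Type u) [CommRing R] [AddCommGroup M] [AddCommGroup N] [Module R M]
    [Module R N] [Module.Flat R M] [Module.Flat R N] : Module.Flat R (M × N) := by
  rw [Module.Flat.iff_rTensor_preserves_injective_linearMap]
  intro X Y _ _ _ _ i hi
  have h1 := Module.Flat.rTensor_preserves_injective_linearMap (M := M) i hi
  have h2 := Module.Flat.rTensor_preserves_injective_linearMap (M := N) i hi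
  have hcomm : (TensorProduct.prodRight R R Y M N).toLinearMap ∘ₗ (i.rTensor (M × N)) =
      (LinearMap.prodMap (i.rTensor M) (i.rTensor N)) ∘ₗ
        (TensorProduct.prodRight R R X M N).toLinearMap := by
    apply TensorProduct.ext'
    intro x y
    simp
  intro a b hab
  apply (TensorProduct.prodRight R R X M N).injective
  apply (h1.prodMap h2)
  have ha := LinearMap.congr_fun hcomm a
  have hb := LinearMap.congr_fun hcomm b
  simp only [LinearMap.comp_apply, LinearEquiv.coe_coe, LinearMap.prodMap_apply] at ha hb
  exact (ha.symm.trans (by rw [hab])).trans hb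

/-- Let R be a commutative ring and let B' → B → A, B' → A' → A be a commutative square of R-algebras
which is a fibre square (B' = B ×_A A') with A' → A surjective. If B, A' and A are flat over R then
B' is flat over R. -/
theorem result (R B' B A' A : Type u) [CommRing R] [CommRing B'] [CommRing B] [CommRing A'] [CommRing A]
    [Algebra B' B] [Algebra B' A'] [Algebra B A] [Algebra A' A] [Algebra B' A]
    [IsScalarTower B' B A] [IsScalarTower B' A' A]
    [Algebra R B'] [Algebra R B] [Algebra R A'] [Algebra R A]
    [IsScalarTower R B' B] [IsScalarTower R B' A'] [IsScalarTower R B' A] [IsScalarTower R B A] [IsScalarTower R A' A]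
    (hsq : EtMil.IsFibreSquare B' B A' A)
    [Module.Flat R B] [Module.Flat R A'] [Module.Flat R A] :
    Module.Flat R B' := by
  classical
  obtain ⟨hsurj, hfib⟩ := hsq
  -- the maps
  let g : B' →ₗ[R] B × A' :=
    LinearMap.prod (IsScalarTower.toAlgHom R B' B).toLinearMap (IsScalarTower.toAlgHom R B' A').toLinearMap
  let f : B × A' →ₗ[R] A :=
    LinearMap.coprod (IsScalarTower.toAlgHom R B A).toLinearMap (-(IsScalarTower.toAlgHom R A' A).toLinearMap)
  have hf_apply : ∀ x : B × A', f x = algebraMap B A x.1 - algebraMap A' A x.2 := by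
    intro x
    simp [f, sub_eq_add_neg]
  have hg_apply : ∀ b' : B', g b' = (algebraMap B' B b', algebraMap B' A' b') := by
    intro b'
    simp [g]
  have hf : Function.Surjective f := by
    intro a
    obtain ⟨a', ha'⟩ := hsurj a
    refine ⟨(0, -a'), ?_⟩
    rw [hf_apply]
    simp [ha']
  have hg : Function.Injective g := by
    intro x y hxy
    rw [hg_apply, hg_apply, Prod.mk.injEq] at hxy
    have hcomm : algebraMap B A (algebraMap B' B y) = algebraMap A' A (algebraMap B' A' y) := by
      rw [← IsScalarTower.algebraMap_apply, ← IsScalarTower.algebraMap_apply]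
    obtain ⟨z, _, hz⟩ := hfib _ _ hcomm
    rw [hz x ⟨hxy.1, hxy.2⟩, hz y ⟨rfl, rfl⟩]
  have H : Function.Exact g f := by
    intro x
    constructor
    · intro hx
      rw [hf_apply, sub_eq_zero] at hx
      obtain ⟨z, ⟨hz1, hz2⟩, _⟩ := hfib _ _ hx
      refine ⟨z, ?_⟩
      rw [hg_apply, hz1, hz2]
    · rintro ⟨z, rfl⟩
      rw [hg_apply, hf_apply]
      simp only
      rw [← IsScalarTower.algebraMap_apply, ← IsScalarTower.algebraMap_apply, sub_self]
  rw [Module.Flat.iff_rTensor_preserves_injective_linearMap]
  intro X Y _ _ _ _ i hi
  have h1 : Function.Injective (g.lTensor X) :=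
    LinearMap.lTensor_injective_of_exact_of_flat f hf g hg H X
  haveI : Module.Flat R (B × A') := flat_prod R B A'
  have h2 : Function.Injective (i.rTensor (B × A')) :=
    Module.Flat.rTensor_preserves_injective_linearMap i hi
  have hcomm : (g.lTensor Y).comp (i.rTensor B') = (i.rTensor (B × A')).comp (g.lTensor X) := by
    rw [LinearMap.lTensor_comp_rTensor, LinearMap.rTensor_comp_lTensor]
  have h3 : Function.Injective ((g.lTensor Y).comp (i.rTensor B')) := by
    rw [hcomm]
    exact h2.comp h1
  exact Function.Injective.of_comp (f := g.lTensor Y) h3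

end Groth.Agent.S17900
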