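import Groth.Statements.S17901
import Mathlib

set_option autoImplicit false
universe u
open TensorProduct
open Pinch

namespace Groth.Agent.S17901

/-- Let R be a commutative ring and let B' → B → A, B' → A' → A be a fibre square of R-algebras (B' = B
×_A A') with A' → A surjective, where B, A' and A are flat over R. Then for every commutative
R-algebra R' the square obtained by applying R' ⊗_R − is again a fibre square: R' ⊗_R A' → R' ⊗_R A
is surjective and every pair of elements of R' ⊗_R B and R' ⊗_R A' with the same image in R' ⊗_R A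
is the image of a unique element of R' ⊗_R B'. (The published lemma concludes that the base-changed
square of spectra is co-cartesian in ringed spaces; this row states the ring form, surjective edge
and fibre product, which its proof establishes before translating it to ringed spaces.) -/
theorem result (R B' B A' A : Type u) [CommRing R] [CommRing B'] [CommRing B] [CommRing A'] [CommRing A]
    [Algebra B' B] [Algebra B' A'] [Algebra B A] [Algebra A' A] [Algebra B' A]
    [IsScalarTower B' B A] [IsScalarTower B' A' A]
    [Algebra R B'] [Algebra R B] [Algebra R A'] [Algebra R A]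
    [IsScalarTower R B' B] [IsScalarTower R B' A'] [IsScalarTower R B' A] [IsScalarTower R B A] [IsScalarTower R A' A]
    (hsq : EtMil.IsFibreSquare B' B A' A)
    [Module.Flat R B] [Module.Flat R A'] [Module.Flat R A]
    (R' : Type u) [CommRing R'] [Algebra R R'] :
    Function.Surjective (Algebra.TensorProduct.map (AlgHom.id R R') (IsScalarTower.toAlgHom R A' A)) ∧
    ∀ (x : R' ⊗[R] B) (y : R' ⊗[R] A'),
      Algebra.TensorProduct.map (AlgHom.id R R') (IsScalarTower.toAlgHom R B A) x =
        Algebra.TensorProduct.map (AlgHom.id R R') (IsScalarTower.toAlgHom R A' A) y →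
      ∃! z : R' ⊗[R] B',
        Algebra.TensorProduct.map (AlgHom.id R R') (IsScalarTower.toAlgHom R B' B) z = x ∧
        Algebra.TensorProduct.map (AlgHom.id R R') (IsScalarTower.toAlgHom R B' A') z = y := by
  classical
  obtain ⟨hsurj, hfib⟩ := hsq
  let gB : B' →ₗ[R] B := (IsScalarTower.toAlgHom R B' B).toLinearMap
  let gA' : B' →ₗ[R] A' := (IsScalarTower.toAlgHom R B' A').toLinearMap
  let fB : B →ₗ[R] A := (IsScalarTower.toAlgHom R B A).toLinearMap
  let fA' : A' →ₗ[R] A := (IsScalarTower.toAlgHom R A' A).toLinearMap
  let g : B' →ₗ[R] B × A' := LinearMap.prod gB gA'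
  let f : B × A' →ₗ[R] A := LinearMap.coprod fB (-fA')
  have hf_apply : ∀ x : B × A', f x = algebraMap B A x.1 - algebraMap A' A x.2 := by
    intro x
    simp [f, fB, fA', sub_eq_add_neg]
  have hg_apply : ∀ b' : B', g b' = (algebraMap B' B b', algebraMap B' A' b') := by
    intro b'
    simp [g, gB, gA']
  have hf : Function.Surjective f := by
    intro a
    obtain ⟨a', ha'⟩ := hsurj a
    refine ⟨(0, -a'), ?_⟩
    rw [hf_apply]
    simp [ha']
  have hg : Function.Injective g := by
    intro x y hxy
    rw [hg_apply, hg_apply, Prod.mk.injEq] at hxy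
    have hcomm : algebraMap B A (algebraMap B' B y) = algebraMap A' A (algebraMap B' A' y) := by
      rw [← IsScalarTower.algebraMap_apply, ← IsScalarTower.algebraMap_apply]
    obtain ⟨z, _, hz⟩ := hfib _ _ hcomm
    rw [hz x ⟨hxy.1, hxy.2⟩, hz y ⟨rfl, rfl⟩]
  have H : Function.Exact g f := by
    intro x
    constructor
    · intro hx
      rw [hf_apply, sub_eq_zero] at hx
      obtain ⟨z, ⟨hz1, hz2⟩, _⟩ := hfib _ _ hx
      refine ⟨z, ?_⟩
      rw [hg_apply, hz1, hz2]
    · rintro ⟨z, rfl⟩
      rw [hg_apply, hf_apply]
      simp only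
      rw [← IsScalarTower.algebraMap_apply, ← IsScalarTower.algebraMap_apply, sub_self]
  have h1 : Function.Injective (g.lTensor R') :=
    LinearMap.lTensor_injective_of_exact_of_flat f hf g hg H R'
  have h2 : Function.Exact (g.lTensor R') (f.lTensor R') := lTensor_exact R' H hf
  -- identification of the algebra maps with lTensor
  have hmap : ∀ {X Y : Type u} [CommRing X] [CommRing Y] [Algebra R X] [Algebra R Y]
      (φ : X →ₐ[R] Y) (t : R' ⊗[R] X),
      Algebra.TensorProduct.map (AlgHom.id R R') φ t = LinearMap.lTensor R' φ.toLinearMap t := by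
    intro X Y _ _ _ _ φ t
    induction t using TensorProduct.induction_on with
    | zero => simp
    | tmul r x => simp
    | add a b ha hb => rw [map_add, map_add, ha, hb]
  have hfpr : ∀ t : R' ⊗[R] (B × A'), f.lTensor R' t =
      fB.lTensor R' (TensorProduct.prodRight R R R' B A' t).1 -
        fA'.lTensor R' (TensorProduct.prodRight R R R' B A' t).2 := by
    intro t
    induction t using TensorProduct.induction_on with
    | zero => simp
    | tmul r x =>
      simp only [LinearMap.lTensor_tmul, TensorProduct.prodRight_tmul]
      rw [← TensorProduct.tmul_sub]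
      congr 1
      simp [f, sub_eq_add_neg]
    | add a b ha hb =>
      simp only [map_add, ha, hb, Prod.fst_add, Prod.snd_add]
      abel
  have hgpr : ∀ z : R' ⊗[R] B', TensorProduct.prodRight R R R' B A' (g.lTensor R' z) =
      (gB.lTensor R' z, gA'.lTensor R' z) := by
    intro z
    induction z using TensorProduct.induction_on with
    | zero => simp only [map_zero]; rfl
    | tmul r x => simp [g]
    | add a b ha hb => simp only [map_add, ha, hb, Prod.mk_add_mk]
  refine ⟨?_, ?_⟩
  · intro t
    obtain ⟨s, hs⟩ := LinearMap.lTensor_surjective R' (g := fA') hsurj t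
    exact ⟨s, (hmap _ s).trans hs⟩
  · intro x y hxy
    rw [hmap, hmap] at hxy
    set w := (TensorProduct.prodRight R R R' B A').symm (x, y) with hw
    have hw' : TensorProduct.prodRight R R R' B A' w = (x, y) := by simp [hw]
    have hfw : f.lTensor R' w = 0 := by
      rw [hfpr, hw']
      exact sub_eq_zero.2 hxy
    obtain ⟨z, hz⟩ := (h2 w).1 hfw
    have hz' := hgpr z
    rw [hz, hw', Prod.mk.injEq] at hz'
    refine ⟨z, ⟨?_, ?_⟩, ?_⟩
    · rw [hmap]; exact hz'.1.symm
    · rw [hmap]; exact hz'.2.symm
    · rintro z' ⟨hz1, hz2⟩
      rw [hmap] at hz1 hz2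
      apply h1
      apply (TensorProduct.prodRight R R R' B A').injective
      rw [hgpr, hgpr]
      show (gB.lTensor R' z', gA'.lTensor R' z') = (gB.lTensor R' z, gA'.lTensor R' z)
      rw [← hz'.1, ← hz'.2]
      exact Prod.ext hz1 hz2

end Groth.Agent.S17901
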