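import Groth.Statements.S17902
import Groth.Agent.Lib.SemiLoc2_helper8

set_option autoImplicit false
universe u
open CAlg

namespace Groth.Agent.S17902

/-- Let A be a commutative ring, M a finitely generated projective A-module, n a natural number and P a
finite set of prime ideals of A such that for every p in P there is g outside p with M_g free of
rank n over A_g. Then there exist n elements of M and an open subset U of Spec A containing P such
that for every prime q in U the images of these elements in M_q form a basis of M_q over A_q. (The
published conclusion is that the associated sheaf is free of rank n on some open neighbourhood of P;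
the form given here, with n global elements of M, is what its proof produces.) -/
theorem result (A : Type u) [CommRing A] (M : Type u) [AddCommGroup M] [Module A M]
    [Module.Finite A M] [Module.Projective A M] (n : ℕ) (P : Finset (PrimeSpectrum A))
    (hP : ∀ p ∈ P, ∃ g : A, g ∉ p.asIdeal ∧
      Nonempty (Module.Basis (Fin n) (Localization.Away g) (LocalizedModule (Submonoid.powers g) M))) :
    ∃ (s : Fin n → M) (U : Set (PrimeSpectrum A)), IsOpen U ∧ (∀ p ∈ P, p ∈ U) ∧
      ∀ q ∈ U,
        LinearIndependent (Localization.AtPrime q.asIdeal)
            (fun j => LocalizedModule.mkLinearMap q.asIdeal.primeCompl M (s j)) ∧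
          Submodule.span (Localization.AtPrime q.asIdeal)
            (Set.range fun j => LocalizedModule.mkLinearMap q.asIdeal.primeCompl M (s j)) = ⊤ := by
  obtain ⟨f, s, hf, F1, F2⟩ := SemiLocH8.exists_global_basis M n P hP
  refine ⟨s, (PrimeSpectrum.basicOpen f : Set (PrimeSpectrum A)),
    (PrimeSpectrum.basicOpen f).isOpen, fun p hp => hf p hp, fun q hq => ?_⟩
  have hle : Submonoid.powers f ≤ q.asIdeal.primeCompl :=
    (Submonoid.powers_le).2 hq
  exact SemiLocH8.li_span_of_F s q.asIdeal.primeCompl (Localization.AtPrime q.asIdeal)
    (LocalizedModule.mkLinearMap q.asIdeal.primeCompl M) (Submonoid.powers f) hle F1 F2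

end Groth.Agent.S17902
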