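import Groth.Statements.S17934
import Mathlib

set_option autoImplicit false
universe u
open MultCrv

namespace Groth.Agent.S17934

/-- Let R be a discrete valuation ring, n ≥ 1, A = R[X]/(X^n) with z the class of X, and M a finitely
generated A-module that is torsion-free as an R-module. Then for 1 ≤ i ≤ n the graded piece
M^(i)/M^(i-1) of the second canonical filtration (M^(i) the elements killed by z^i) is a free
R-module. (Statement at a closed point of the sheaf statement on a primitive multiple curve of
multiplicity n, whose local rings are of the form R[X]/(X^n) with R the local ring of the reduced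
smooth curve; stated for every discrete valuation ring R.) -/
theorem result (R : Type u) [CommRing R] [IsDomain R] [IsDiscreteValuationRing R] (n : ℕ) (hn : 1 ≤ n) (M : Type u) [AddCommGroup M] [Module (MultCrv.Rn R n) M] [Module R M] [IsScalarTower R (MultCrv.Rn R n) M] [Module.Finite (MultCrv.Rn R n) M] [Module.IsTorsionFree R M] (i : ℕ) (hi : 1 ≤ i) (hin : i ≤ n) : Module.Free R (MultCrv.G2 R n M i) := by
  classical
  set P := Submodule.comap (MultCrv.filt2 R n M i).subtype (MultCrv.filt2 R n M (i - 1)) with hP
  let f : ↥(MultCrv.filt2 R n M i) →ₗ[MultCrv.Rn R n] M :=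
    (MultCrv.z R n ^ (i-1)) • (MultCrv.filt2 R n M i).subtype
  have hker : ∀ x, x ∈ P ↔ f x = 0 := by
    intro x
    rw [hP, Submodule.mem_comap]
    show (x : M) ∈ Submodule.torsionBy (MultCrv.Rn R n) M (MultCrv.z R n ^ (i - 1)) ↔ _
    rw [Submodule.mem_torsionBy_iff]
    rfl
  let g : MultCrv.G2 R n M i →ₗ[MultCrv.Rn R n] M :=
    Submodule.liftQ P f (fun x hx => by rw [LinearMap.mem_ker]; exact (hker x).mp hx)
  have hg : Function.Injective g := by
    rw [← LinearMap.ker_eq_bot]
    apply Submodule.ker_liftQ_eq_bot
    intro x hx
    exact (hker x).mpr (LinearMap.mem_ker.mp hx)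
  have hsmul : ∀ (r : R) (m : MultCrv.G2 R n M i), g (r • m) = r • g m := by
    intro r m
    induction m using Submodule.Quotient.induction_on with
    | H x =>
      show MultCrv.z R n ^ (i-1) • ((r • x : ↥(MultCrv.filt2 R n M i)) : M)
        = r • (MultCrv.z R n ^ (i-1) • (x : M))
      rw [Submodule.coe_smul_of_tower, smul_comm]
  let gR : MultCrv.G2 R n M i →ₗ[R] M :=
    { toFun := g, map_add' := g.map_add, map_smul' := hsmul }
  haveI : Module.Finite R (MultCrv.Rn R n) := (Polynomial.monic_X_pow n).finite_adjoinRoot
  haveI : Module.Finite R M := Module.Finite.trans (MultCrv.Rn R n) M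
  haveI : Module.Finite R (MultCrv.G2 R n M i) := Module.Finite.of_injective gR hg
  haveI : Module.IsTorsionFree R (MultCrv.G2 R n M i) :=
    Function.Injective.moduleIsTorsionFree g hg hsmul
  exact Module.free_of_finite_type_torsion_free'

end Groth.Agent.S17934
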