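import Groth.Statements.S17937
import Mathlib
import Groth.Agent.Lib.MultCrv_helper2

set_option autoImplicit false
universe u
open MultCrv

namespace Groth.Agent.S17937

open CategoryTheory in
/-- Let R be a discrete valuation ring, n ≥ 1, A = R[X]/(X^n), and M a finitely generated A-module with
Ext^1_A(M, A) = 0. Then M is torsion-free as an R-module. (Statement at a closed point of the sheaf
statement on a primitive multiple curve of multiplicity n, whose local rings are of the form
R[X]/(X^n) with R the local ring of the reduced smooth curve; stated for every discrete valuation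
ring R.) -/
theorem result (R : Type u) [CommRing R] [IsDomain R] [IsDiscreteValuationRing R] (n : ℕ) (hn : 1 ≤ n) (M : Type u) [AddCommGroup M] [Module (MultCrv.Rn R n) M] [Module R M] [IsScalarTower R (MultCrv.Rn R n) M] [Module.Finite (MultCrv.Rn R n) M] (h : Subsingleton (Abelian.Ext (ModuleCat.of (MultCrv.Rn R n) M) (ModuleCat.of (MultCrv.Rn R n) (MultCrv.Rn R n)) 1)) : Module.IsTorsionFree R M := by
  obtain ⟨k, rfl⟩ : ∃ k, n = k + 1 := ⟨n - 1, by omega⟩
  obtain ⟨r, p, hp⟩ := Module.Finite.exists_fin' (MultCrv.Rn R (k+1)) M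
  obtain ⟨e, -, -, h3⟩ := Groth.Agent.MultCrvLib.exists_extClass p hp
  apply Groth.Agent.MultCrvLib.torsionFree_of_forms_extend p hp
  intro ψ
  obtain ⟨Ψ, hΨ⟩ := h3 (ModuleCat.of (MultCrv.Rn R (k+1)) (MultCrv.Rn R (k+1)))
    (ModuleCat.ofHom ψ) (Subsingleton.elim _ _)
  refine ⟨Ψ.hom, fun x => ?_⟩
  have h4 := congrArg (fun t => t.hom x) hΨ
  exact h4

end Groth.Agent.S17937
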