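import Groth.Statements.S17939
import Mathlib
import Groth.Agent.Lib.MultCrv_helper2

set_option autoImplicit false
universe u
open MultCrv

namespace Groth.Agent.S17939

open CategoryTheory in
/-- Let R be a discrete valuation ring, n ≥ 1, A = R[X]/(X^n) with z the class of X, and M, N finitely
generated A-modules. Then for every i ≥ 2, z^(n-1) kills Ext^i_A(M, N). (Statement at a closed point
of the sheaf statement on a primitive multiple curve of multiplicity n, whose local rings are of the
form R[X]/(X^n): the higher local Ext sheaves of coherent sheaves are killed by the (n-1)-st power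
of the ideal of the reduced curve; stated for every discrete valuation ring R.) -/
theorem result (R : Type u) [CommRing R] [IsDomain R] [IsDiscreteValuationRing R] (n : ℕ) (hn : 1 ≤ n) (M N : Type u) [AddCommGroup M] [Module (MultCrv.Rn R n) M] [Module.Finite (MultCrv.Rn R n) M] [AddCommGroup N] [Module (MultCrv.Rn R n) N] [Module.Finite (MultCrv.Rn R n) N] (i : ℕ) (hi : 2 ≤ i) (x : Abelian.Ext (ModuleCat.of (MultCrv.Rn R n) M) (ModuleCat.of (MultCrv.Rn R n) N) i) : (MultCrv.z R n ^ (n - 1)) • x = 0 := by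
  obtain ⟨k, rfl⟩ : ∃ k, n = k + 1 := ⟨n - 1, by omega⟩
  have hk : k + 1 - 1 = k := Nat.add_sub_cancel k 1
  rw [hk]
  obtain ⟨j, rfl⟩ : ∃ j, i = j + 1 + 1 := ⟨i - 2, by omega⟩
  obtain ⟨r, p, hp⟩ := Module.Finite.exists_fin' (MultCrv.Rn R (k+1)) M
  obtain ⟨e, h1, -, -⟩ := Groth.Agent.MultCrvLib.exists_extClass p hp
  obtain ⟨x₁, rfl⟩ := h1 (ModuleCat.of (MultCrv.Rn R (k+1)) N) (j+1) x
  obtain ⟨hfin, htf⟩ := Groth.Agent.MultCrvLib.ker_instances (R := R) p
  haveI := hfin
  haveI := htf
  rw [← CategoryTheory.Abelian.Ext.comp_smul,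
    Groth.Agent.MultCrvLib.zpow_kills_ext N j ↥(LinearMap.ker p) x₁]
  exact CategoryTheory.Abelian.Ext.comp_zero _ _ _ _ _

end Groth.Agent.S17939
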