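import Groth.Statements.S17942
import Mathlib
import Groth.Agent.Lib.MultCrv_helper2

set_option autoImplicit false
universe u
open MultCrv

namespace Groth.Agent.S17942

open CategoryTheory in
/-- Let R be a discrete valuation ring, n ≥ 1, A = R[X]/(X^n), and M a finitely generated A-module. Then
Ext^i_A(M, A) = 0 for every i ≥ 2. (Statement at a closed point of the sheaf statement on a
primitive multiple curve of multiplicity n, whose local rings are of the form R[X]/(X^n) with R the
local ring of the reduced smooth curve; stated for every discrete valuation ring R.) -/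
theorem result (R : Type u) [CommRing R] [IsDomain R] [IsDiscreteValuationRing R] (n : ℕ) (hn : 1 ≤ n) (M : Type u) [AddCommGroup M] [Module (MultCrv.Rn R n) M] [Module.Finite (MultCrv.Rn R n) M] (i : ℕ) (hi : 2 ≤ i) : Subsingleton (Abelian.Ext (ModuleCat.of (MultCrv.Rn R n) M) (ModuleCat.of (MultCrv.Rn R n) (MultCrv.Rn R n)) i) := by
  obtain ⟨k, rfl⟩ : ∃ k, n = k + 1 := ⟨n - 1, by omega⟩
  obtain ⟨j, rfl⟩ : ∃ j, i = j + 1 + 1 := ⟨i - 2, by omega⟩
  obtain ⟨r, p, hp⟩ := Module.Finite.exists_fin' (MultCrv.Rn R (k+1)) M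
  obtain ⟨e, h1, -, -⟩ := Groth.Agent.MultCrvLib.exists_extClass p hp
  obtain ⟨hfin, htf⟩ := Groth.Agent.MultCrvLib.ker_instances (R := R) p
  haveI := hfin
  haveI := htf
  haveI := Groth.Agent.MultCrvLib.ext_vanish (R := R) (k := k) (j+1) (by omega) ↥(LinearMap.ker p)
  have key : ∀ x : CategoryTheory.Abelian.Ext (ModuleCat.of (MultCrv.Rn R (k+1)) M)
      (ModuleCat.of (MultCrv.Rn R (k+1)) (MultCrv.Rn R (k+1))) (j + 1 + 1), x = 0 := by
    intro x
    obtain ⟨x₁, rfl⟩ := h1 (ModuleCat.of (MultCrv.Rn R (k+1)) (MultCrv.Rn R (k+1))) (j+1) x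
    rw [Subsingleton.elim x₁ 0]
    exact CategoryTheory.Abelian.Ext.comp_zero _ _ _ _ _
  exact ⟨fun x y => by rw [key x, key y]⟩

end Groth.Agent.S17942
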