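import Groth.Statements.S17943
import Mathlib

set_option autoImplicit false
universe u
open MultCrv

namespace Groth.Agent.S17943

/-- Let R be a discrete valuation ring, n ≥ 1, A = R[X]/(X^n) with z the class of X, and M a finitely
generated A-module. For 0 ≤ i < n the R-modules G^(i+1)(M) = M^(i+1)/M^(i) (M^(j) the elements
killed by z^j) and G_i(M) = z^i M/z^(i+1) M have the same rank over R. (Statement at a closed point
of the sheaf statement on a primitive multiple curve of multiplicity n with local rings R[X]/(X^n),
where the rank of a coherent sheaf on the reduced smooth curve is its generic rank, here the rank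
over R of the stalk; the equality of degrees that the published statement gives together with this
rank equality is a statement on the global curve and is not part of this row; stated for every
discrete valuation ring R.) -/
theorem result (R : Type u) [CommRing R] [IsDomain R] [IsDiscreteValuationRing R] (n : ℕ) (hn : 1 ≤ n) (M : Type u) [AddCommGroup M] [Module (MultCrv.Rn R n) M] [Module R M] [IsScalarTower R (MultCrv.Rn R n) M] [Module.Finite (MultCrv.Rn R n) M] (i : ℕ) (hi : i < n) : Module.finrank R (MultCrv.G2 R n M (i + 1)) = Module.finrank R (MultCrv.G1 R n M i) := by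
  classical
  haveI : Module.Finite R (MultCrv.Rn R n) := (Polynomial.monic_X_pow n).finite_adjoinRoot
  haveI : Module.Finite R M := Module.Finite.trans (MultCrv.Rn R n) M
  have hfinsub : ∀ (N : Submodule (MultCrv.Rn R n) M), Module.Finite R ↥N := fun N =>
    Module.Finite.of_injective (N.subtype.restrictScalars R) Subtype.val_injective
  have hE3 : ∀ j : ℕ, Module.finrank R ↥(MultCrv.filt R n M j)
      + Module.finrank R ↥(MultCrv.filt2 R n M j) = Module.finrank R M := by
    intro j
    have h1 : Module.finrank R (M ⧸ MultCrv.filt2 R n M j)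
        + Module.finrank R ↥(MultCrv.filt2 R n M j) = Module.finrank R M :=
      ((MultCrv.filt2 R n M j).restrictScalars R).finrank_quotient_add_finrank
    have hker : MultCrv.filt2 R n M j
        = LinearMap.ker ((MultCrv.z R n ^ j) • (LinearMap.id : M →ₗ[MultCrv.Rn R n] M)) := by
      ext u
      unfold MultCrv.filt2
      rw [Submodule.mem_torsionBy_iff, LinearMap.mem_ker, LinearMap.smul_apply,
        LinearMap.id_apply]
    let e : (M ⧸ MultCrv.filt2 R n M j) ≃ₗ[MultCrv.Rn R n] ↥(MultCrv.filt R n M j) :=
      (Submodule.quotEquivOfEq _ _ hker).trans (LinearMap.quotKerEquivRange _)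
    have h2 : Module.finrank R (M ⧸ MultCrv.filt2 R n M j)
        = Module.finrank R ↥(MultCrv.filt R n M j) :=
      (e.restrictScalars R).finrank_eq
    rw [← h2]
    exact h1
  have hle2 : ∀ j, MultCrv.filt2 R n M j ≤ MultCrv.filt2 R n M (j+1) := by
    intro j u hu
    unfold MultCrv.filt2 at hu ⊢
    rw [Submodule.mem_torsionBy_iff] at hu ⊢
    rw [pow_succ' (MultCrv.z R n) j, mul_smul, hu, smul_zero]
  have hle1 : ∀ j, MultCrv.filt R n M (j+1) ≤ MultCrv.filt R n M j := by
    intro j u hu
    unfold MultCrv.filt at hu ⊢
    rw [LinearMap.mem_range] at hu ⊢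
    obtain ⟨w, rfl⟩ := hu
    refine ⟨MultCrv.z R n • w, ?_⟩
    simp only [LinearMap.smul_apply, LinearMap.id_apply]
    rw [smul_smul, ← pow_succ]
  have hG2 : Module.finrank R (MultCrv.G2 R n M (i+1))
      + Module.finrank R ↥(MultCrv.filt2 R n M i)
        = Module.finrank R ↥(MultCrv.filt2 R n M (i+1)) := by
    haveI := hfinsub (MultCrv.filt2 R n M (i+1))
    have h1 : Module.finrank R (MultCrv.G2 R n M (i+1))
        + Module.finrank R ↥(Submodule.comap (MultCrv.filt2 R n M (i+1)).subtype
            (MultCrv.filt2 R n M (i + 1 - 1)))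
          = Module.finrank R ↥(MultCrv.filt2 R n M (i+1)) :=
      ((Submodule.comap (MultCrv.filt2 R n M (i+1)).subtype
        (MultCrv.filt2 R n M (i + 1 - 1))).restrictScalars R).finrank_quotient_add_finrank
    have hle : MultCrv.filt2 R n M (i + 1 - 1) ≤ MultCrv.filt2 R n M (i+1) := by
      rw [Nat.add_sub_cancel]
      exact hle2 i
    have h2 : Module.finrank R ↥(Submodule.comap (MultCrv.filt2 R n M (i+1)).subtype
        (MultCrv.filt2 R n M (i + 1 - 1)))
          = Module.finrank R ↥(MultCrv.filt2 R n M (i + 1 - 1)) :=
      ((Submodule.comapSubtypeEquivOfLe hle).restrictScalars R).finrank_eq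
    have h3 : Module.finrank R ↥(MultCrv.filt2 R n M (i + 1 - 1))
        = Module.finrank R ↥(MultCrv.filt2 R n M i) := by
      rw [Nat.add_sub_cancel]
    rw [h2, h3] at h1
    exact h1
  have hG1 : Module.finrank R (MultCrv.G1 R n M i)
      + Module.finrank R ↥(MultCrv.filt R n M (i+1))
        = Module.finrank R ↥(MultCrv.filt R n M i) := by
    haveI := hfinsub (MultCrv.filt R n M i)
    have h1 : Module.finrank R (MultCrv.G1 R n M i)
        + Module.finrank R ↥(Submodule.comap (MultCrv.filt R n M i).subtype
            (MultCrv.filt R n M (i + 1)))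
          = Module.finrank R ↥(MultCrv.filt R n M i) :=
      ((Submodule.comap (MultCrv.filt R n M i).subtype
        (MultCrv.filt R n M (i + 1))).restrictScalars R).finrank_quotient_add_finrank
    have h2 : Module.finrank R ↥(Submodule.comap (MultCrv.filt R n M i).subtype
        (MultCrv.filt R n M (i + 1)))
          = Module.finrank R ↥(MultCrv.filt R n M (i + 1)) :=
      ((Submodule.comapSubtypeEquivOfLe (hle1 i)).restrictScalars R).finrank_eq
    rw [h2] at h1
    exact h1
  have e1 := hE3 i
  have e2 := hE3 (i+1)
  omega

end Groth.Agent.S17943
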