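import Groth.Statements.S17962
import Mathlib

set_option autoImplicit false
open CategoryTheory CategoryTheory.Limits AlgebraicGeometry
universe u
open Hensel

namespace Groth.Agent.S17962

/-- Let i : X₀ ⟶ X be a closed immersion such that (X, X₀) is a henselian couple, i.e. for every finite
morphism g : Y ⟶ X every open-closed subset of Y ×_X X₀ is the inverse image under the first
projection of exactly one open-closed subset of Y. Then for every finite morphism h : Y ⟶ X the
couple (Y, Y ×_X X₀), with the first projection as closed immersion, is again henselian. -/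
theorem result {X X₀ : Scheme.{u}}
    (i : X₀ ⟶ X) [IsClosedImmersion i]
    (hX : ∀ (Y : Scheme.{u}) (g : Y ⟶ X), IsFinite g →
      ∀ V : Set ↥(pullback g (i)), IsClopen V →
        ∃! U : Set ↥Y, IsClopen U ∧ (pullback.fst g (i)).base ⁻¹' U = V)
    {Y : Scheme.{u}} (h : Y ⟶ X) [IsFinite h] :
    ∀ (Z : Scheme.{u}) (g : Z ⟶ Y), IsFinite g →
      ∀ V : Set ↥(pullback g (pullback.fst h i)), IsClopen V →
        ∃! U : Set ↥Z, IsClopen U ∧ (pullback.fst g (pullback.fst h i)).base ⁻¹' U = V := by
  intro Z g hg V hV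
  haveI : IsFinite g := hg
  haveI : IsFinite (g ≫ h) := inferInstance
  let e := pullbackRightPullbackFstIso h i g
  have he_hom : e.hom ≫ pullback.fst (g ≫ h) i = pullback.fst g (pullback.fst h i) :=
    pullbackRightPullbackFstIso_hom_fst h i g
  have he_inv : e.inv ≫ pullback.fst g (pullback.fst h i) = pullback.fst (g ≫ h) i :=
    pullbackRightPullbackFstIso_inv_fst h i g
  -- preimage computations
  have hpre_hom : ∀ U : Set ↥Z, (pullback.fst g (pullback.fst h i)).base ⁻¹' U =
      e.hom.base ⁻¹' ((pullback.fst (g ≫ h) i).base ⁻¹' U) := by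
    intro U
    rw [← he_hom]
    rfl
  have hpre_inv : ∀ U : Set ↥Z, (pullback.fst (g ≫ h) i).base ⁻¹' U =
      e.inv.base ⁻¹' ((pullback.fst g (pullback.fst h i)).base ⁻¹' U) := by
    intro U
    rw [← he_inv]
    rfl
  have hhi : ∀ W : Set ↥(pullback g (pullback.fst h i)), e.hom.base ⁻¹' (e.inv.base ⁻¹' W) = W := by
    intro W
    ext x
    simp only [Set.mem_preimage]
    have : e.inv.base (e.hom.base x) = x := by
      have := congrArg (fun φ => φ.base x) e.hom_inv_id
      simpa using this
    rw [this]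
  set V' : Set ↥(pullback (g ≫ h) i) := e.inv.base ⁻¹' V with hV'
  have hV'clopen : IsClopen V' := hV.preimage e.inv.base.hom.continuous
  obtain ⟨U, ⟨hUc, hUV⟩, hUuniq⟩ := hX Z (g ≫ h) inferInstance V' hV'clopen
  refine ⟨U, ⟨hUc, ?_⟩, ?_⟩
  · rw [hpre_hom, hUV, hV', hhi]
  · rintro U' ⟨hU'c, hU'V⟩
    apply hUuniq
    refine ⟨hU'c, ?_⟩
    rw [hpre_inv, hU'V]

end Groth.Agent.S17962
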