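import Groth.Statements.S17982
import Mathlib

set_option autoImplicit false
universe u
open Hensel

namespace Groth.Agent.S17982

/-- Let A be a local ring and B a commutative A-algebra which is finitely generated as an A-module. Then
B is ring-isomorphic to a finite product of local rings if and only if the canonical homomorphism
from B to the product of the localizations of B at its maximal ideals is bijective. -/
theorem result
    (A : Type u) [CommRing A] [IsLocalRing A] (B : Type u) [CommRing B] [Algebra A B] [Module.Finite A B] :
    (∃ (ι : Type u) (_ : Fintype ι) (C : ι → Type u) (_ : ∀ j, CommRing (C j)),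
        (∀ j, IsLocalRing (C j)) ∧ Nonempty (B ≃+* (∀ j, C j))) ↔
    Function.Bijective
      (RingHom.pi (fun n : MaximalSpectrum B => algebraMap B (Localization.AtPrime n.asIdeal))) := by
  classical
  constructor
  · rintro ⟨ι, _, C, _, hloc, ⟨f⟩⟩
    haveI := hloc
    let ε : ι → B := fun j => f.symm (Pi.single j 1)
    have hf_ε : ∀ j, f (ε j) = Pi.single j 1 := fun j => f.apply_symm_apply _
    have hε_mul : ∀ i j, i ≠ j → ε i * ε j = 0 := by
      intro i j hij
      apply f.injective
      rw [map_mul, hf_ε, hf_ε, map_zero]
      funext k
      by_cases hk : k = i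
      · subst hk; simp [Pi.single_apply, hij]
      · simp [Pi.single_apply, hk]
    have hε_idem : ∀ j, ε j * ε j = ε j := by
      intro j
      apply f.injective
      rw [map_mul, hf_ε]
      funext k
      by_cases hk : k = j
      · subst hk; simp
      · simp [Pi.single_apply, hk]
    have hε_sum : ∑ j, ε j = 1 := by
      apply f.injective
      rw [map_sum, map_one]
      simp_rw [hf_ε]
      exact Finset.univ_sum_single (1 : ∀ j, C j)
    have hex : ∀ n : MaximalSpectrum B, ∃ j, ε j ∉ n.asIdeal := by
      intro n
      by_contra h
      push Not at h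
      have : (1 : B) ∈ n.asIdeal := by
        rw [← hε_sum]
        exact Ideal.sum_mem _ (fun j _ => h j)
      exact n.isMaximal.ne_top ((Ideal.eq_top_iff_one _).2 this)
    have hinv : ∀ j b, IsUnit (f b j) → ∃ c, c * b * ε j = ε j := by
      intro j b hu
      obtain ⟨u, hu⟩ := hu
      refine ⟨f.symm (Pi.single j (u⁻¹ : (C j)ˣ).val), ?_⟩
      apply f.injective
      rw [map_mul, map_mul, f.apply_symm_apply, hf_ε]
      funext k
      by_cases hk : k = j
      · subst hk; simp [← hu]
      · simp [Pi.single_apply, hk]
    have hkey : ∀ (n : MaximalSpectrum B) j, ε j ∉ n.asIdeal → ∀ b, b ∉ n.asIdeal →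
        ∃ c, c * b * ε j = ε j := by
      intro n j hj b hb
      apply hinv
      by_contra hnu
      set n' : Ideal B :=
        ((IsLocalRing.maximalIdeal (C j)).comap (Pi.evalRingHom C j)).comap (f : B →+* (∀ j, C j))
        with hn'
      have hmem : ∀ y, y ∈ n' ↔ ¬ IsUnit (f y j) := by
        intro y
        simp [hn', Ideal.mem_comap, IsLocalRing.mem_maximalIdeal, mem_nonunits_iff]
      have hle : n.asIdeal ≤ n' := by
        intro y hy
        by_contra hy'
        rw [hmem, not_not] at hy'
        obtain ⟨c, hc⟩ := hinv j y hy'
        exact hj (hc ▸ Ideal.mul_mem_right _ _ (Ideal.mul_mem_left _ _ hy))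
      have hn'top : n' ≠ ⊤ := by
        rw [Ideal.ne_top_iff_one, hmem, not_not, map_one]
        exact isUnit_one
      have := n.isMaximal.eq_of_le hn'top hle
      apply hb
      rw [this, hmem]
      exact hnu
    choose jj hjj using hex
    have hjj_inj : Function.Injective jj := by
      have hle : ∀ n n' : MaximalSpectrum B, jj n = jj n' → n.asIdeal ≤ n'.asIdeal := by
        intro n n' h b hb
        by_contra hb'
        obtain ⟨c, hc⟩ := hkey n' (jj n') (hjj n') b hb'
        apply hjj n
        rw [h, ← hc]
        exact Ideal.mul_mem_right _ _ (Ideal.mul_mem_left _ _ hb)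
      intro n n' h
      ext1
      exact le_antisymm (hle n n' h) (hle n' n h.symm)
    haveI : Finite (MaximalSpectrum B) := Finite.of_injective jj hjj_inj
    letI : Fintype (MaximalSpectrum B) := Fintype.ofFinite _
    constructor
    · rw [injective_iff_map_eq_zero]
      intro b hb
      apply eq_zero_of_localization
      intro J hJ
      exact congrFun hb ⟨J, hJ⟩
    · intro x
      have hx : ∀ n : MaximalSpectrum B, ∃ bs : B × n.asIdeal.primeCompl,
          x n = IsLocalization.mk' _ bs.1 bs.2 := by
        intro n
        obtain ⟨b, s, h⟩ := IsLocalization.exists_mk'_eq n.asIdeal.primeCompl (x n)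
        exact ⟨(b, s), h.symm⟩
      choose bs hbs using hx
      have hc : ∀ n : MaximalSpectrum B, ∃ c, c * ((bs n).2 : B) * ε (jj n) = ε (jj n) :=
        fun n => hkey n (jj n) (hjj n) _ (bs n).2.2
      choose c hc using hc
      refine ⟨∑ n : MaximalSpectrum B, c n * (bs n).1 * ε (jj n), ?_⟩
      funext n₀
      rw [RingHom.pi_apply]
      have hε1 : algebraMap B (Localization.AtPrime n₀.asIdeal) (ε (jj n₀)) = 1 := by
        have hu : IsUnit (algebraMap B (Localization.AtPrime n₀.asIdeal) (ε (jj n₀))) :=
          IsLocalization.map_units _ (⟨ε (jj n₀), hjj n₀⟩ : n₀.asIdeal.primeCompl)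
        have := congrArg (algebraMap B (Localization.AtPrime n₀.asIdeal)) (hε_idem (jj n₀))
        rw [map_mul] at this
        exact hu.mul_left_cancel (this.trans (mul_one _).symm)
      have hε0 : ∀ n, n ≠ n₀ → algebraMap B (Localization.AtPrime n₀.asIdeal) (ε (jj n)) = 0 := by
        intro n hn
        have := congrArg (algebraMap B (Localization.AtPrime n₀.asIdeal))
          (hε_mul (jj n) (jj n₀) (fun h => hn (hjj_inj h)))
        rwa [map_mul, hε1, mul_one, map_zero] at this
      rw [map_sum, Finset.sum_eq_single n₀]
      · rw [hbs n₀, IsLocalization.eq_mk'_iff_mul_eq, map_mul, map_mul, hε1, mul_one]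
        have := congrArg (algebraMap B (Localization.AtPrime n₀.asIdeal)) (hc n₀)
        rw [map_mul, map_mul, hε1, mul_one] at this
        calc _ = algebraMap B (Localization.AtPrime n₀.asIdeal) (bs n₀).1 *
              (algebraMap B (Localization.AtPrime n₀.asIdeal) (c n₀) *
                algebraMap B (Localization.AtPrime n₀.asIdeal) ((bs n₀).2 : B)) := by ring
          _ = _ := by rw [this, mul_one]
      · intro n _ hn
        rw [map_mul, hε0 n hn, mul_zero]
      · intro h
        exact absurd (Finset.mem_univ _) h
  · intro hbij
    haveI : Finite (MaximalSpectrum B) := by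
      haveI : Algebra.QuasiFinite A B := inferInstance
      have hfin := Algebra.QuasiFinite.finite_primesOver (R := A) (S := B) (IsLocalRing.maximalIdeal A)
      haveI := hfin.to_subtype
      have hmem : ∀ n : MaximalSpectrum B,
          n.asIdeal ∈ (IsLocalRing.maximalIdeal A).primesOver B := by
        intro n
        refine ⟨n.isMaximal.isPrime, ⟨?_⟩⟩
        haveI := n.isMaximal
        haveI : Algebra.IsIntegral A B := inferInstance
        exact (IsLocalRing.eq_maximalIdeal (inferInstance : (n.asIdeal.under A).IsMaximal)).symm
      apply Finite.of_injective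
        (fun n : MaximalSpectrum B =>
          (⟨n.asIdeal, hmem n⟩ : ((IsLocalRing.maximalIdeal A).primesOver B)))
      intro n n' h
      ext1
      exact congrArg Subtype.val h
    letI : Fintype (MaximalSpectrum B) := Fintype.ofFinite _
    exact ⟨MaximalSpectrum B, inferInstance, fun n => Localization.AtPrime n.asIdeal,
      fun n => inferInstance, fun n => inferInstance, ⟨RingEquiv.ofBijective _ hbij⟩⟩

end Groth.Agent.S17982
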