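import Groth.Statements.S17970
import Mathlib
import Groth.Agent.S17982

set_option autoImplicit false
universe u
open Hensel

namespace Groth.Agent.S17970

theorem bij_of_idem (B : Type u) [CommRing B] [Finite (MaximalSpectrum B)]
    (e : MaximalSpectrum B → B)
    (hidem : ∀ n, e n * e n = e n)
    (horth : ∀ n n', n ≠ n' → e n * e n' = 0)
    (hnot : ∀ n : MaximalSpectrum B, e n ∉ n.asIdeal)
    (hkey : ∀ (n : MaximalSpectrum B) (s : B), s ∉ n.asIdeal → ∃ c, c * s * e n = e n) :
    Function.Bijective
      (RingHom.pi (fun n : MaximalSpectrum B => algebraMap B (Localization.AtPrime n.asIdeal))) := by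
  classical
  letI : Fintype (MaximalSpectrum B) := Fintype.ofFinite _
  constructor
  · rw [injective_iff_map_eq_zero]
    intro b hb
    apply eq_zero_of_localization
    intro J hJ
    exact congrFun hb ⟨J, hJ⟩
  · intro x
    have hx : ∀ n : MaximalSpectrum B, ∃ bs : B × n.asIdeal.primeCompl,
        x n = IsLocalization.mk' _ bs.1 bs.2 := by
      intro n
      obtain ⟨b, s, h⟩ := IsLocalization.exists_mk'_eq n.asIdeal.primeCompl (x n)
      exact ⟨(b, s), h.symm⟩
    choose bs hbs using hx
    have hc : ∀ n : MaximalSpectrum B, ∃ c, c * ((bs n).2 : B) * e n = e n :=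
      fun n => hkey n _ (bs n).2.2
    choose c hc using hc
    refine ⟨∑ n : MaximalSpectrum B, c n * (bs n).1 * e n, ?_⟩
    funext n₀
    rw [RingHom.pi_apply]
    have hε1 : algebraMap B (Localization.AtPrime n₀.asIdeal) (e n₀) = 1 := by
      have hu : IsUnit (algebraMap B (Localization.AtPrime n₀.asIdeal) (e n₀)) :=
        IsLocalization.map_units _ (⟨e n₀, hnot n₀⟩ : n₀.asIdeal.primeCompl)
      have := congrArg (algebraMap B (Localization.AtPrime n₀.asIdeal)) (hidem n₀)
      rw [map_mul] at this
      exact hu.mul_left_cancel (this.trans (mul_one _).symm)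
    have hε0 : ∀ n, n ≠ n₀ → algebraMap B (Localization.AtPrime n₀.asIdeal) (e n) = 0 := by
      intro n hn
      have := congrArg (algebraMap B (Localization.AtPrime n₀.asIdeal)) (horth n n₀ hn)
      rwa [map_mul, hε1, mul_one, map_zero] at this
    rw [map_sum, Finset.sum_eq_single n₀]
    · rw [hbs n₀, IsLocalization.eq_mk'_iff_mul_eq, map_mul, map_mul, hε1, mul_one]
      have := congrArg (algebraMap B (Localization.AtPrime n₀.asIdeal)) (hc n₀)
      rw [map_mul, map_mul, hε1, mul_one] at this
      calc _ = algebraMap B (Localization.AtPrime n₀.asIdeal) (bs n₀).1 *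
            (algebraMap B (Localization.AtPrime n₀.asIdeal) (c n₀) *
              algebraMap B (Localization.AtPrime n₀.asIdeal) ((bs n₀).2 : B)) := by ring
        _ = _ := by rw [this, mul_one]
    · intro n _ hn
      rw [map_mul, hε0 n hn, mul_zero]
    · intro h
      exact absurd (Finset.mem_univ _) h

/-- an idempotent lying in every maximal ideal is zero -/
theorem idem_eq_zero (B : Type u) [CommRing B] (e : B) (he : e * e = e)
    (hmem : ∀ n : MaximalSpectrum B, e ∈ n.asIdeal) : e = 0 := by
  have hu : IsUnit (1 - e) := by
    by_contra h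
    obtain ⟨n, hn, hmemn⟩ := exists_max_ideal_of_mem_nonunits (mem_nonunits_iff.2 h)
    have h1 := hmem ⟨n, hn⟩
    have : (1 : B) ∈ n := by
      have := n.add_mem hmemn h1
      simpa using this
    exact hn.ne_top ((Ideal.eq_top_iff_one _).2 this)
  have h0 : (1 - e) * e = 0 := by rw [sub_mul, one_mul, he, sub_self]
  exact (hu.mul_right_eq_zero).1 h0

/-- Let A be a local ring with maximal ideal m and B a commutative A-algebra which is finitely generated
as an A-module. Then B is ring-isomorphic to a finite product of local rings if and only if every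
idempotent of B/mB is the image of an idempotent of B. (Reduction modulo mB is always injective on
the idempotents of B, because mB lies in the Jacobson radical of B; so this surjectivity amounts to
the bijectivity on idempotents in the printed assertion.) -/
theorem result
    (A : Type u) [CommRing A] [IsLocalRing A] (B : Type u) [CommRing B] [Algebra A B] [Module.Finite A B] :
    (∃ (ι : Type u) (_ : Fintype ι) (C : ι → Type u) (_ : ∀ j, CommRing (C j)),
        (∀ j, IsLocalRing (C j)) ∧ Nonempty (B ≃+* (∀ j, C j))) ↔
      Set.SurjOn (Ideal.Quotient.mk (Ideal.map (algebraMap A B) (IsLocalRing.maximalIdeal A)))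
        {e : B | IsIdempotentElem e} {e | IsIdempotentElem e} := by
  classical
  set mB : Ideal B := Ideal.map (algebraMap A B) (IsLocalRing.maximalIdeal A) with hmB
  constructor
  · rintro ⟨ι, _, C, _, hloc, ⟨f⟩⟩
    haveI := hloc
    intro ebar hebar
    obtain ⟨b, rfl⟩ := Ideal.Quotient.mk_surjective ebar
    have hb : b * b - b ∈ mB := by
      rw [← Ideal.Quotient.eq, map_mul]
      exact hebar
    let ε : ∀ j, C j := fun j => if IsUnit (f b j) then 1 else 0
    let υ : ∀ j, C j := fun j => if IsUnit (f b j) then f b j else f b j - 1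
    have hυ : ∀ j, IsUnit (υ j) := by
      intro j
      by_cases h : IsUnit (f b j)
      · simp only [υ, if_pos h]; exact h
      · simp only [υ, if_neg h]
        have := IsLocalRing.isUnit_one_sub_self_of_mem_nonunits _ (mem_nonunits_iff.2 h)
        rw [← neg_sub]
        exact this.neg
    have hυ' : IsUnit (f.symm υ) := by
      rw [← isUnit_map_iff f, f.apply_symm_apply]
      exact Pi.isUnit_iff.2 hυ
    refine ⟨f.symm ε, ?_, ?_⟩
    · show f.symm ε * f.symm ε = f.symm ε
      rw [← map_mul]
      congr 1
      funext j
      by_cases h : IsUnit (f b j) <;> simp [ε, h]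
    · have hprod : (b - f.symm ε) * f.symm υ = b * b - b := by
        apply f.injective
        rw [map_mul, map_sub, f.apply_symm_apply, f.apply_symm_apply, map_sub, map_mul]
        funext j
        by_cases h : IsUnit (f b j)
        · simp only [Pi.mul_apply, Pi.sub_apply, ε, υ, if_pos h]; ring
        · simp only [Pi.mul_apply, Pi.sub_apply, ε, υ, if_neg h]; ring
      have hmem : b - f.symm ε ∈ mB := by
        obtain ⟨u, hu⟩ := hυ'
        have : b - f.symm ε = (b * b - b) * (u⁻¹ : Bˣ).val := by
          rw [← hprod, ← hu, mul_assoc, Units.mul_inv, mul_one]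
        rw [this]
        exact Ideal.mul_mem_right _ _ hb
      exact ((Ideal.Quotient.eq).2 hmem).symm
  · intro hlift
    haveI : Algebra.IsIntegral A B := inferInstance
    -- every maximal ideal of B contains mB
    have hJ : ∀ n : MaximalSpectrum B, mB ≤ n.asIdeal := by
      intro n
      haveI := n.isMaximal
      have h1 : n.asIdeal.under A = IsLocalRing.maximalIdeal A :=
        IsLocalRing.eq_maximalIdeal (inferInstance : (n.asIdeal.under A).IsMaximal)
      rw [hmB, Ideal.map_le_iff_le_comap, ← h1]
    haveI : Finite (MaximalSpectrum B) := by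
      haveI : Algebra.QuasiFinite A B := inferInstance
      have hfin := Algebra.QuasiFinite.finite_primesOver (R := A) (S := B) (IsLocalRing.maximalIdeal A)
      haveI := hfin.to_subtype
      have hmem : ∀ n : MaximalSpectrum B,
          n.asIdeal ∈ (IsLocalRing.maximalIdeal A).primesOver B := by
        intro n
        refine ⟨n.isMaximal.isPrime, ⟨?_⟩⟩
        haveI := n.isMaximal
        exact (IsLocalRing.eq_maximalIdeal (inferInstance : (n.asIdeal.under A).IsMaximal)).symm
      apply Finite.of_injective
        (fun n : MaximalSpectrum B =>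
          (⟨n.asIdeal, hmem n⟩ : ((IsLocalRing.maximalIdeal A).primesOver B)))
      intro n n' h
      ext1
      exact congrArg Subtype.val h
    letI : Fintype (MaximalSpectrum B) := Fintype.ofFinite _
    -- Artinian quotient
    letI : Field (A ⧸ IsLocalRing.maximalIdeal A) := Ideal.Quotient.field _
    haveI : Module.Finite (A ⧸ IsLocalRing.maximalIdeal A) (B ⧸ mB) :=
      Module.Finite.of_restrictScalars_finite A _ _
    haveI : IsArtinianRing (B ⧸ mB) := IsArtinianRing.of_finite (A ⧸ IsLocalRing.maximalIdeal A) _
    -- the idempotents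
    have hex : ∀ n : MaximalSpectrum B, ∃ e : B, e * e = e ∧ e ∉ n.asIdeal ∧
        ∀ n' : MaximalSpectrum B, n' ≠ n → e ∈ n'.asIdeal := by
      intro n
      haveI := n.isMaximal
      -- CRT element
      have hnle : ¬ (∏ n' ∈ Finset.univ.erase n, n'.asIdeal) ≤ n.asIdeal := by
        rw [n.isMaximal.isPrime.prod_le]
        rintro ⟨n', hn', hle⟩
        have := n'.isMaximal.eq_of_le n.isMaximal.ne_top hle
        exact (Finset.mem_erase.1 hn').1 (MaximalSpectrum.ext this)
      obtain ⟨t, htJ, htn⟩ := SetLike.not_le_iff_exists.1 hnle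
      obtain ⟨y, i, hi, hyi⟩ := n.isMaximal.exists_inv htn
      obtain ⟨b, hb⟩ : ∃ b, b = y * t := ⟨_, rfl⟩
      have hbn : b - 1 ∈ n.asIdeal := by
        have : b - 1 = -i := by rw [hb]; linear_combination hyi
        rw [this]
        exact neg_mem hi
      have hbn' : ∀ n' : MaximalSpectrum B, n' ≠ n → b ∈ n'.asIdeal := by
        intro n' hn'
        rw [hb]
        apply Ideal.mul_mem_left
        have : (∏ n' ∈ Finset.univ.erase n, n'.asIdeal) ≤ n'.asIdeal :=
          Ideal.prod_le_inf.trans (Finset.inf_le (Finset.mem_erase.2 ⟨hn', Finset.mem_univ _⟩))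
        exact this htJ
      -- stabilisation in the artinian quotient
      set q := Ideal.Quotient.mk mB with hq
      obtain ⟨N, y', hy'⟩ := IsArtinian.exists_pow_succ_smul_dvd (q b) (1 : B ⧸ mB)
      simp only [smul_eq_mul, mul_one] at hy'
      -- with M = N + 1
      have hstep : ∀ k : ℕ, q b ^ (N + 1) = q b ^ (N + 1 + k) * y' ^ k := by
        intro k
        induction k with
        | zero => simp
        | succ k ih =>
          have h1 : q b ^ (N + 1 + (k + 1)) * y' ^ (k + 1) =
              (q b ^ (N + 1) * y') * (q b ^ (k + 1)) * y' ^ k := by ring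
          have h2 : q b ^ (N + 1) * y' = q b ^ N := hy'
          rw [h1, h2, ih]
          ring
      set ebar : B ⧸ mB := q b ^ (N + 1) * y' ^ (N + 1) with hebar
      have hebar_idem : IsIdempotentElem ebar := by
        show ebar * ebar = ebar
        have h2 := hstep (N + 1)
        calc ebar * ebar = (q b ^ (N + 1 + (N + 1)) * y' ^ (N + 1)) * y' ^ (N + 1) := by
              rw [hebar]; ring
          _ = ebar := by rw [← h2]
      obtain ⟨e, he, hqe⟩ := hlift hebar_idem
      have he' : e * e = e := he
      obtain ⟨w, hw⟩ := Ideal.Quotient.mk_surjective (y' ^ (N + 1))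
      refine ⟨e, he', ?_, ?_⟩
      · intro hen
        -- b^(N+1) - b^(N+1) e ∈ mB
        have h3 : b ^ (N + 1) - b ^ (N + 1) * e ∈ mB := by
          rw [← Ideal.Quotient.eq, map_mul, map_pow, hqe, hebar]
          have h2 := hstep (N + 1)
          calc q b ^ (N + 1) = q b ^ (N + 1 + (N + 1)) * y' ^ (N + 1) := h2
            _ = _ := by ring
        have h4 : b ^ (N + 1) ∈ n.asIdeal := by
          have := n.asIdeal.add_mem (hJ n h3) (Ideal.mul_mem_left _ (b ^ (N + 1)) hen)
          simpa using this
        have h5 : b ∈ n.asIdeal := n.isMaximal.isPrime.mem_of_pow_mem _ h4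
        have : (1 : B) ∈ n.asIdeal := by
          have := n.asIdeal.sub_mem h5 hbn
          simpa using this
        exact n.isMaximal.ne_top ((Ideal.eq_top_iff_one _).2 this)
      · intro n' hn'
        have h3 : e - b * (b ^ N * w) ∈ mB := by
          rw [← Ideal.Quotient.eq, map_mul, map_mul, map_pow, hw, hqe, hebar]
          ring
        have := n'.asIdeal.add_mem (hJ n' h3) (Ideal.mul_mem_right (b ^ N * w) _ (hbn' n' hn'))
        simpa using this
    choose e he_idem he_not he_mem using hex
    have horth : ∀ n n' : MaximalSpectrum B, n ≠ n' → e n * e n' = 0 := by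
      intro n n' hnn'
      apply idem_eq_zero
      · calc e n * e n' * (e n * e n') = (e n * e n) * (e n' * e n') := by ring
          _ = e n * e n' := by rw [he_idem, he_idem]
      · intro n''
        by_cases h : n'' = n
        · subst h
          exact Ideal.mul_mem_left _ _ (he_mem n' n'' hnn')
        · exact Ideal.mul_mem_right _ _ (he_mem n n'' h)
    have hkey : ∀ (n : MaximalSpectrum B) (s : B), s ∉ n.asIdeal → ∃ c, c * s * e n = e n := by
      intro n s hs
      have htop : Ideal.span {s} ⊔ Ideal.span {1 - e n} = ⊤ := by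
        by_contra hne
        obtain ⟨n'', hn'', hle⟩ := Ideal.exists_le_maximal _ hne
        have h1 : s ∈ n'' := hle (Ideal.mem_sup_left (Ideal.mem_span_singleton_self s))
        have h2 : 1 - e n ∈ n'' := hle (Ideal.mem_sup_right (Ideal.mem_span_singleton_self _))
        have h3 : (⟨n'', hn''⟩ : MaximalSpectrum B) = n := by
          by_contra hne'
          have h4 := he_mem n ⟨n'', hn''⟩ hne'
          have : (1 : B) ∈ n'' := by
            have := n''.add_mem h2 h4
            simpa using this
          exact hn''.ne_top ((Ideal.eq_top_iff_one _).2 this)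
        apply hs
        rw [← h3]
        exact h1
      have h1 : (1 : B) ∈ Ideal.span {s} ⊔ Ideal.span {1 - e n} := by rw [htop]; trivial
      obtain ⟨x, hx, y, hy, hxy⟩ := Submodule.mem_sup.1 h1
      obtain ⟨c, rfl⟩ := Ideal.mem_span_singleton'.1 hx
      obtain ⟨d, rfl⟩ := Ideal.mem_span_singleton'.1 hy
      refine ⟨c, ?_⟩
      have : e n = (c * s + d * (1 - e n)) * e n := by rw [hxy, one_mul]
      have h2 : d * (1 - e n) * e n = 0 := by
        have : d * (1 - e n) * e n = d * (e n - e n * e n) := by ring
        rw [this, he_idem, sub_self, mul_zero]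
      rw [add_mul, h2, add_zero] at this
      exact this.symm
    have hbij := bij_of_idem B e he_idem horth he_not hkey
    exact (Groth.Agent.S17982.result A B).2 hbij

end Groth.Agent.S17970
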