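import Groth.Statements.S17972
import Mathlib
import Groth.Agent.Lib.JacEtale_lead
import Groth.Agent.Lib.EssEt_lead

set_option autoImplicit false
universe u
open Hensel

namespace Groth.Agent.S17972

/-- Let A be a henselian local ring with maximal ideal m, let P_1, …, P_n be polynomials over A in n
variables and a₀ ∈ A^n a point with P_i(a₀) ∈ m for all i whose Jacobian determinant
det(∂P_i/∂T_j)(a₀) is a unit of A, i.e. nonzero in the residue field. Then there is a ∈ A^n
congruent to a₀ modulo m in each coordinate with P_i(a) = 0 for all i. -/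
theorem result
    (A : Type u) [CommRing A] [HenselianLocalRing A] (n : ℕ)
    (P : Fin n → MvPolynomial (Fin n) A) (a₀ : Fin n → A)
    (h₀ : ∀ i, MvPolynomial.eval a₀ (P i) ∈ IsLocalRing.maximalIdeal A)
    (hJ : IsUnit (Matrix.of (fun i j => MvPolynomial.eval a₀ (MvPolynomial.pderiv j (P i)))).det) :
    ∃ a : Fin n → A, (∀ i, MvPolynomial.eval a (P i) = 0) ∧
      ∀ j, a j - a₀ j ∈ IsLocalRing.maximalIdeal A := by
  classical
  let P₀ : Algebra.PreSubmersivePresentation A
      (MvPolynomial (Fin n) A ⧸ Ideal.span (Set.range P)) (Fin n) (Fin n) :=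
    Algebra.PreSubmersivePresentation.naive (v := P) id Function.injective_id
  let Δ : MvPolynomial (Fin n) A ⧸ Ideal.span (Set.range P) := P₀.jacobian
  haveI : Algebra.Etale A (Localization.Away Δ) :=
    Groth.Agent.Lib.JacEtale.etale_away_jacobian P id Function.injective_id rfl
  let ev : MvPolynomial (Fin n) A →ₐ[A] IsLocalRing.ResidueField A :=
    MvPolynomial.aeval (fun i => IsLocalRing.residue A (a₀ i))
  have hev : ∀ p, ev p = IsLocalRing.residue A (MvPolynomial.eval a₀ p) := by
    intro p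
    rw [MvPolynomial.eval₂_comp]
    show MvPolynomial.aeval _ p = _
    rw [MvPolynomial.aeval_def]
    rfl
  have hker : ∀ a ∈ Ideal.span (Set.range P), ev a = 0 := by
    intro a ha
    have : Ideal.span (Set.range P) ≤ RingHom.ker ev.toRingHom := by
      rw [Ideal.span_le]
      rintro _ ⟨i, rfl⟩
      show ev (P i) = 0
      rw [hev, IsLocalRing.residue_eq_zero_iff]
      exact h₀ i
    exact this ha
  let ρ₀ : (MvPolynomial (Fin n) A ⧸ Ideal.span (Set.range P)) →ₐ[A] IsLocalRing.ResidueField A :=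
    Ideal.Quotient.liftₐ _ ev hker
  have hρ₀mk : ∀ p, ρ₀ (Ideal.Quotient.mk _ p) = ev p := fun p => rfl
  have hΔ : IsUnit (ρ₀ Δ) := by
    show IsUnit (ρ₀ P₀.jacobian)
    rw [Algebra.PreSubmersivePresentation.jacobian_eq_jacobiMatrix_det]
    have h1 : ∀ p : MvPolynomial (Fin n) A, ρ₀ (algebraMap P₀.Ring _ p) = ev p := fun p => rfl
    rw [h1, hev, RingHom.map_det]
    have h2 : (MvPolynomial.eval a₀).mapMatrix P₀.jacobiMatrix =
        (Matrix.of (fun i j => MvPolynomial.eval a₀ (MvPolynomial.pderiv j (P i)))).transpose := by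
      ext i j
      simp only [RingHom.mapMatrix_apply, Matrix.map_apply, Matrix.transpose_apply, Matrix.of_apply,
        Algebra.PreSubmersivePresentation.jacobiMatrix_apply]
      rfl
    rw [h2, Matrix.det_transpose]
    exact hJ.map (IsLocalRing.residue A)
  have hunit : ∀ y : Submonoid.powers Δ, IsUnit (ρ₀ y) := by
    rintro ⟨_, k, rfl⟩
    rw [map_pow]; exact hΔ.pow k
  let ρ : Localization.Away Δ →ₐ[A] IsLocalRing.ResidueField A :=
    IsLocalization.liftAlgHom (M := Submonoid.powers Δ) (f := ρ₀) hunit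
  have hρ : ∀ x, ρ (algebraMap _ _ x) = ρ₀ x := fun x => IsLocalization.lift_eq _ x
  let q : Ideal (Localization.Away Δ) := RingHom.ker ρ.toRingHom
  haveI : q.IsPrime := RingHom.ker_isPrime _
  obtain ⟨φ, hφ⟩ := Groth.Agent.Lib.EssEt.exists_lift_of_henselian (A := A)
    (C := Localization.Away Δ) (B := A) q ρ (fun c => (RingHom.mem_ker (f := ρ.toRingHom)).symm)
  let ψ : MvPolynomial (Fin n) A →ₐ[A] A :=
    ((φ.comp (IsScalarTower.toAlgHom A (Localization.Away Δ) (Localization.AtPrime q))).comp
      (IsScalarTower.toAlgHom A (MvPolynomial (Fin n) A ⧸ Ideal.span (Set.range P))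
        (Localization.Away Δ))).comp (Ideal.Quotient.mkₐ A (Ideal.span (Set.range P)))
  have hψ : ∀ p, ψ p = φ (algebraMap (Localization.Away Δ) (Localization.AtPrime q)
      (algebraMap (MvPolynomial (Fin n) A ⧸ Ideal.span (Set.range P)) (Localization.Away Δ)
        (Ideal.Quotient.mk _ p))) := fun p => rfl
  have hψa : ψ = MvPolynomial.aeval (fun i => ψ (MvPolynomial.X i)) := by
    apply MvPolynomial.algHom_ext
    intro i
    rw [MvPolynomial.aeval_X]
  refine ⟨fun i => ψ (MvPolynomial.X i), fun i => ?_, fun j => ?_⟩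
  · have h1 : MvPolynomial.eval (fun i => ψ (MvPolynomial.X i)) (P i) = ψ (P i) := by
      conv_rhs => rw [hψa]
      rw [MvPolynomial.aeval_def]
      rfl
    have h2 : Ideal.Quotient.mk (Ideal.span (Set.range P)) (P i) = 0 :=
      Ideal.Quotient.eq_zero_iff_mem.mpr (Ideal.subset_span ⟨i, rfl⟩)
    rw [h1, hψ, h2, map_zero, map_zero, map_zero]
  · show ψ (MvPolynomial.X j) - a₀ j ∈ IsLocalRing.maximalIdeal A
    rw [← IsLocalRing.residue_eq_zero_iff, map_sub, sub_eq_zero, hψ, hφ, hρ, hρ₀mk, hev,
      MvPolynomial.eval_X]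

end Groth.Agent.S17972
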