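import Groth.Statements.S17974
import Mathlib

set_option autoImplicit false
universe u
open Unram

namespace Groth.Agent.S17974

/-- Let A be a commutative ring, B an unramified A-algebra (formally unramified and of finite type), C
an A-algebra, p a prime ideal of C, and u, v : B → C two A-algebra homomorphisms which agree after
composition with C → C/p. Then there is an element f of C not in p such that u and v agree after
composition with the localization map C → C[1/f]. -/
theorem result
    (A : Type u) [CommRing A] (B : Type u) [CommRing B] [Algebra A B]
    [Algebra.FormallyUnramified A B] [Algebra.FiniteType A B]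
    (C : Type u) [CommRing C] [Algebra A C] (p : Ideal C) [p.IsPrime]
    (u v : B →ₐ[A] C)
    (huv : (Ideal.Quotient.mk p).comp u.toRingHom = (Ideal.Quotient.mk p).comp v.toRingHom) :
    ∃ f : C, f ∉ p ∧
      (algebraMap C (Localization.Away f)).comp u.toRingHom =
        (algebraMap C (Localization.Away f)).comp v.toRingHom := by
  classical
  haveI : Algebra.EssFiniteType A B := inferInstance
  set t := Algebra.FormallyUnramified.elem A B with ht
  set w : TensorProduct A B B →ₐ[A] C := Algebra.TensorProduct.productMap u v with hw
  refine ⟨w t, ?_, ?_⟩
  · -- w t ≡ 1 mod p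
    have hcomp : (Ideal.Quotient.mkₐ A p).comp w =
        ((Ideal.Quotient.mkₐ A p).comp u).comp (Algebra.TensorProduct.lmul' A) := by
      apply Algebra.TensorProduct.ext'
      intro a b
      simp only [AlgHom.comp_apply, hw, Algebra.TensorProduct.productMap_apply_tmul,
        Algebra.TensorProduct.lmul'_apply_tmul, map_mul]
      have := congrArg (fun φ : B →+* C ⧸ p => φ b) huv
      simp only [RingHom.comp_apply] at this
      congr 1
      exact this.symm
    have h1 := congrArg (fun φ : TensorProduct A B B →ₐ[A] C ⧸ p => φ t) hcomp
    simp only [AlgHom.comp_apply] at h1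
    rw [ht, Algebra.FormallyUnramified.lmul_elem, map_one, map_one] at h1
    intro hmem
    have h2 : (Ideal.Quotient.mkₐ A p) (w (Algebra.FormallyUnramified.elem A B)) = 0 :=
      Ideal.Quotient.eq_zero_iff_mem.2 hmem
    rw [h1] at h2
    have : (1 : C ⧸ p) ≠ 0 := one_ne_zero
    exact this h2
  · apply RingHom.ext
    intro b
    simp only [RingHom.comp_apply]
    rw [IsLocalization.eq_iff_exists (Submonoid.powers (w t))]
    refine ⟨⟨w t, Submonoid.mem_powers _⟩, ?_⟩
    have h1 := congrArg w (Algebra.FormallyUnramified.one_tmul_mul_elem (R := A) (S := B) b)
    rw [map_mul, map_mul, hw, Algebra.TensorProduct.productMap_apply_tmul,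
      Algebra.TensorProduct.productMap_apply_tmul, map_one, map_one, one_mul, mul_one] at h1
    show w t * u b = w t * v b
    rw [mul_comm, mul_comm (w t)]
    exact h1.symm

end Groth.Agent.S17974
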