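import Groth.Statements.S17975
import Mathlib

set_option autoImplicit false
universe u
open Hensel

namespace Groth.Agent.S17975

/-- Let A be a local ring with maximal ideal m and residue field k, C a commutative A-algebra which is
finitely generated as an A-module, Q₀ a monic polynomial of degree n over k, e an A-algebra
isomorphism from C/mC to k[T]/(Q₀), and x an element of C whose class is sent by e to the class of
T. Then x generates C as an A-algebra, and x is a root of a monic polynomial Q over A of degree n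
whose reduction modulo m equals Q₀. -/
theorem result
    (A : Type u) [CommRing A] [IsLocalRing A] (C : Type u) [CommRing C] [Algebra A C] [Module.Finite A C]
    (Q₀ : Polynomial (IsLocalRing.ResidueField A)) (hQ₀ : Q₀.Monic)
    (e : (C ⧸ Ideal.map (algebraMap A C) (IsLocalRing.maximalIdeal A)) ≃ₐ[A] AdjoinRoot Q₀)
    (x : C) (hx : e (Ideal.Quotient.mk (Ideal.map (algebraMap A C) (IsLocalRing.maximalIdeal A)) x) = AdjoinRoot.root Q₀) :
    Algebra.adjoin A {x} = ⊤ ∧
      ∃ Q : Polynomial A, Q.Monic ∧ Q.natDegree = Q₀.natDegree ∧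
        Polynomial.map (IsLocalRing.residue A) Q = Q₀ ∧ Polynomial.aeval x Q = 0 := by
  classical
  set k := IsLocalRing.ResidueField A with hk
  let I : Ideal C := Ideal.map (algebraMap A C) (IsLocalRing.maximalIdeal A)
  set n := Q₀.natDegree with hn
  let ψ : C →ₐ[A] AdjoinRoot Q₀ := (e : (C ⧸ I) →ₐ[A] AdjoinRoot Q₀).comp (Ideal.Quotient.mkₐ A I)
  have hψx : ψ x = AdjoinRoot.root Q₀ := hx
  have hψker : ∀ c : C, ψ c = 0 → c ∈ I := by
    intro c hc
    have : e (Ideal.Quotient.mk I c) = 0 := hc
    rw [EmbeddingLike.map_eq_zero_iff] at this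
    exact Ideal.Quotient.eq_zero_iff_mem.1 this
  have hψaeval : ∀ P : Polynomial A, ψ (Polynomial.aeval x P) =
      AdjoinRoot.mk Q₀ (P.map (IsLocalRing.residue A)) := by
    intro P
    rw [← Polynomial.aeval_algHom_apply, hψx, ← IsLocalRing.ResidueField.algebraMap_eq,
      ← Polynomial.aeval_map_algebraMap k, AdjoinRoot.aeval_eq]
  -- the submodule of polynomial expressions of degree < n
  set N : Submodule A C := (Polynomial.degreeLT A n).map (Polynomial.aeval x).toLinearMap with hN
  have hNtop : N = ⊤ := by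
    rw [eq_top_iff]
    apply Submodule.le_of_le_smul_of_le_jacobson_bot (I := IsLocalRing.maximalIdeal A)
      (Module.Finite.fg_top) (IsLocalRing.maximalIdeal_le_jacobson ⊥)
    intro c _
    obtain ⟨r₀, hr₀⟩ := AdjoinRoot.mk_surjective (ψ c)
    set r := r₀ %ₘ Q₀ with hr
    have hrmk : AdjoinRoot.mk Q₀ r = ψ c := by
      rw [← hr₀, AdjoinRoot.mk_eq_mk]
      refine ⟨-(r₀ /ₘ Q₀), ?_⟩
      have := Polynomial.modByMonic_add_div r₀ Q₀
      rw [hr]
      linear_combination this
    have hrdeg : r.degree < n := by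
      have := Polynomial.degree_modByMonic_lt r₀ hQ₀
      rwa [Polynomial.degree_eq_natDegree hQ₀.ne_zero] at this
    have hrl : r ∈ Polynomial.lifts (IsLocalRing.residue A) := by
      rw [Polynomial.lifts_iff_coeff_lifts]
      intro i
      exact IsLocalRing.residue_surjective _
    obtain ⟨R, hRmap, hRdeg⟩ := Polynomial.exists_degree_eq_of_mem_lifts hrl
    have hRN : Polynomial.aeval x R ∈ N := by
      refine Submodule.mem_map_of_mem (f := (Polynomial.aeval x).toLinearMap) ?_
      rw [Polynomial.mem_degreeLT, hRdeg]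
      exact hrdeg
    have hdiff : c - Polynomial.aeval x R ∈ I := by
      apply hψker
      rw [map_sub, hψaeval, hRmap, hrmk, sub_self]
    have hdiff' : c - Polynomial.aeval x R ∈ IsLocalRing.maximalIdeal A • (⊤ : Submodule A C) := by
      rw [Ideal.smul_top_eq_map]
      exact hdiff
    have : c = Polynomial.aeval x R + (c - Polynomial.aeval x R) := by ring
    rw [this]
    exact Submodule.add_mem_sup hRN hdiff'
  refine ⟨?_, ?_⟩
  · rw [Algebra.adjoin_singleton_eq_range_aeval, eq_top_iff]
    intro c _
    have hc : c ∈ N := by rw [hNtop]; trivial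
    obtain ⟨R, _, hR⟩ := hc
    exact ⟨R, hR⟩
  · have hxn : x ^ n ∈ N := by rw [hNtop]; trivial
    obtain ⟨R, hRdeg, hR⟩ := hxn
    have hRdeg' : R.degree < n := Polynomial.mem_degreeLT.1 hRdeg
    have hR' : Polynomial.aeval x R = x ^ n := hR
    set Q : Polynomial A := Polynomial.X ^ n - R with hQ
    have hQmonic : Q.Monic := Polynomial.monic_X_pow_sub hRdeg'
    have hQdeg : Q.natDegree = n := by
      apply Polynomial.natDegree_eq_of_degree_eq_some
      rw [hQ, Polynomial.degree_sub_eq_left_of_degree_lt]
      · exact Polynomial.degree_X_pow n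
      · rw [Polynomial.degree_X_pow]; exact hRdeg'
    have hQx : Polynomial.aeval x Q = 0 := by
      rw [hQ, map_sub, map_pow, Polynomial.aeval_X, hR', sub_self]
    refine ⟨Q, hQmonic, hQdeg, ?_, hQx⟩
    have hdvd : Q₀ ∣ Q.map (IsLocalRing.residue A) := by
      rw [← AdjoinRoot.mk_eq_zero, ← hψaeval, hQx, map_zero]
    exact Polynomial.eq_of_monic_of_dvd_of_natDegree_le hQ₀ (hQmonic.map _) hdvd
      (by rw [hQmonic.natDegree_map, hQdeg])

end Groth.Agent.S17975
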