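import Groth.Statements.S17976
import Groth.Agent.Lib.FiniteNbhd_lead
import Groth.Agent.Lib.FiniteNbhd2_lead

set_option autoImplicit false
universe u
open Hensel

namespace Groth.Agent.S17976

open TensorProduct Polynomial Groth.Agent.Lib Groth.Agent.Lib.EtaleNbhd in
/-- Let A be a commutative ring, I an ideal of A and B an A-algebra of finite type such that B/IB is a
finite A-module. Then there exist an etale A-algebra A' such that A → A'/IA' is surjective with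
kernel I, and a commutative ring C which is an A'-algebra finite over A' and an etale B-algebra,
with compatible A-algebra structures, such that B → C/IC is surjective with kernel IB. In scheme
language: an etale affine neighbourhood S' of Spec (A/I) in Spec A and an etale neighbourhood Z =
Spec C of Spec (B/IB) in Spec B, finite over S', forming a commutative square. -/
theorem result
    (A : Type u) [CommRing A] (I : Ideal A) (B : Type u) [CommRing B] [Algebra A B] [Algebra.FiniteType A B]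
    (hfin : Module.Finite A (B ⧸ Ideal.map (algebraMap A B) I)) :
    ∃ (A' : Type u) (_ : CommRing A') (_ : Algebra A A') (_ : Algebra.Etale A A')
      (C : Type u) (_ : CommRing C) (_ : Algebra A C) (_ : Algebra A' C) (_ : Algebra B C)
      (_ : IsScalarTower A A' C) (_ : IsScalarTower A B C),
      Function.Surjective ((Ideal.Quotient.mk (Ideal.map (algebraMap A A') I)).comp (algebraMap A A')) ∧
      RingHom.ker ((Ideal.Quotient.mk (Ideal.map (algebraMap A A') I)).comp (algebraMap A A')) = I ∧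
      Algebra.Etale B C ∧ Module.Finite A' C ∧
      Function.Surjective ((Ideal.Quotient.mk (Ideal.map (algebraMap A C) I)).comp (algebraMap B C)) ∧
      RingHom.ker ((Ideal.Quotient.mk (Ideal.map (algebraMap A C) I)).comp (algebraMap B C)) =
        Ideal.map (algebraMap A B) I := by
  classical
  obtain ⟨Ah, _, _, hAh1, hAh2⟩ := Groth.Agent.Lib.PairHensExists.exists_henselization A I
  have hAh : Hens2.IsPairHenselization A I Ah := ⟨hAh1, hAh2⟩
  -- the limit level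
  have hfinR := FiniteNbhd.finite_quotient_baseChange I Ah B hfin
  obtain ⟨j, hj, hfinL⟩ := FiniteNbhd.exists_finite_away hAh.1 (Ah ⊗[A] B) hfinR
  have hmapR : (I.map (algebraMap A Ah)).map (algebraMap Ah (Ah ⊗[A] B))
      = I.map (algebraMap A (Ah ⊗[A] B)) := by
    rw [Ideal.map_map, ← IsScalarTower.algebraMap_eq]
  have hjR : j ∈ I.map (algebraMap A (Ah ⊗[A] B)) := by rw [← hmapR]; exact hj
  obtain ⟨s, hs⟩ := (Algebra.FiniteType.out : (⊤ : Subalgebra A B).FG)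
  haveI := hfinL
  haveI : Algebra.IsIntegral Ah (Localization.Away (1 - j)) := Algebra.IsIntegral.of_finite Ah _
  have hint : ∀ b : B, ∃ P : Ah[X], P.Monic ∧ ∃ M : ℕ,
      (1 - j) ^ M * Polynomial.eval₂ (algebraMap Ah (Ah ⊗[A] B)) ((1 : Ah) ⊗ₜ[A] b) P = 0 := by
    intro b
    obtain ⟨P, hP, hPe⟩ := Algebra.IsIntegral.isIntegral (R := Ah)
      (algebraMap (Ah ⊗[A] B) (Localization.Away (1 - j)) ((1 : Ah) ⊗ₜ[A] b))
    refine ⟨P, hP, ?_⟩
    have h1 : algebraMap (Ah ⊗[A] B) (Localization.Away (1 - j))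
        (Polynomial.eval₂ (algebraMap Ah (Ah ⊗[A] B)) ((1 : Ah) ⊗ₜ[A] b) P) = 0 := by
      rw [Polynomial.hom_eval₂, ← IsScalarTower.algebraMap_eq]
      exact hPe
    obtain ⟨m, hm⟩ := (IsLocalization.map_eq_zero_iff (Submonoid.powers (1 - j)) _ _).1 h1
    obtain ⟨M, hM⟩ := (Submonoid.mem_powers_iff _ _).1 m.2
    exact ⟨M, by rw [hM]; exact hm⟩
  choose P hPmonic M hM using hint
  obtain ⟨P0, hP0monic, hP0e⟩ := Algebra.IsIntegral.isIntegral (R := Ah)
    (IsLocalization.Away.invSelf (1 - j) : Localization.Away (1 - j))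
  have hrev : Polynomial.eval₂ (algebraMap Ah (Localization.Away (1 - j)))
      (algebraMap (Ah ⊗[A] B) (Localization.Away (1 - j)) (1 - j)) P0.reverse = 0 :=
    (FiniteNbhd.eval₂_reverse_eq_zero _ (IsLocalization.Away.mul_invSelf (1 - j)) P0).2 hP0e
  obtain ⟨M0, hM0⟩ : ∃ M0 : ℕ, (1 - j) ^ M0 *
      Polynomial.eval₂ (algebraMap Ah (Ah ⊗[A] B)) (1 - j) P0.reverse = 0 := by
    have h1 : algebraMap (Ah ⊗[A] B) (Localization.Away (1 - j))
        (Polynomial.eval₂ (algebraMap Ah (Ah ⊗[A] B)) (1 - j) P0.reverse) = 0 := by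
      rw [Polynomial.hom_eval₂, ← IsScalarTower.algebraMap_eq]
      exact hrev
    obtain ⟨m, hm⟩ := (IsLocalization.map_eq_zero_iff (Submonoid.powers (1 - j)) _ _).1 h1
    obtain ⟨M, hM⟩ := (Submonoid.mem_powers_iff _ _).1 m.2
    exact ⟨M, by rw [hM]; exact hm⟩
  -- descent to an étale neighbourhood
  obtain ⟨Sj, hSj⟩ := TensorProduct.exists_finset j
  obtain ⟨A₁, _, _, _, _, _, hS₁, hH₁, hF⟩ := FiniteNbhd.exists_nbhd_finset hAh
    ((s.biUnion fun b => (P b).coeffs) ∪ (P0.coeffs ∪ Sj.image Prod.fst))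
  have hI₁ : InjMod I A₁ := injMod_of_algHom hAh (IsScalarTower.toAlgHom A A₁ Ah)
  choose! pre hpre using hF
  have hlift : ∀ Q : Ah[X], (∀ n, Q.coeff n ≠ 0 → Q.coeff n ∈
      ((s.biUnion fun b => (P b).coeffs) ∪ (P0.coeffs ∪ Sj.image Prod.fst))) →
      Q ∈ Polynomial.lifts (algebraMap A₁ Ah) := by
    intro Q hQ
    rw [Polynomial.lifts_iff_coeff_lifts]
    intro n
    by_cases h0 : Q.coeff n = 0
    · exact ⟨0, by rw [map_zero, h0]⟩
    · exact ⟨pre (Q.coeff n), hpre _ (hQ n h0)⟩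
  have hPlift : ∀ b ∈ s, ∃ q : A₁[X], q.map (algebraMap A₁ Ah) = P b ∧
      q.natDegree = (P b).natDegree ∧ q.Monic := by
    intro b hb
    refine Polynomial.lifts_and_natDegree_eq_and_monic (hlift (P b) (fun n hn => ?_)) (hPmonic b)
    exact Finset.mem_union_left _ (Finset.mem_biUnion.2 ⟨b, hb, Polynomial.coeff_mem_coeffs hn⟩)
  choose! P' hP'map hP'deg hP'monic using hPlift
  obtain ⟨P0', hP0'map, hP0'deg, hP0'monic⟩ := Polynomial.lifts_and_natDegree_eq_and_monic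
    (hlift P0 (fun n hn => Finset.mem_union_right _
      (Finset.mem_union_left _ (Polynomial.coeff_mem_coeffs hn)))) hP0monic
  let φ₁ : A₁ →ₐ[A] Ah := IsScalarTower.toAlgHom A A₁ Ah
  let mapT : A₁ ⊗[A] B →ₐ[A] Ah ⊗[A] B := Algebra.TensorProduct.map φ₁ (AlgHom.id A B)
  have hmapT_alg : ∀ x : A₁, mapT (algebraMap A₁ (A₁ ⊗[A] B) x)
      = algebraMap Ah (Ah ⊗[A] B) (algebraMap A₁ Ah x) := fun x => by
    rw [Algebra.TensorProduct.algebraMap_apply, Algebra.TensorProduct.algebraMap_apply]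
    exact Algebra.TensorProduct.map_tmul φ₁ (AlgHom.id A B) _ _
  have hmapT_one : ∀ b : B, mapT ((1 : A₁) ⊗ₜ[A] b) = (1 : Ah) ⊗ₜ[A] b := fun b => by
    have h := Algebra.TensorProduct.map_tmul φ₁ (AlgHom.id A B) (1 : A₁) b
    rw [map_one] at h
    exact h
  have hmapT_eval : ∀ (t : A₁ ⊗[A] B) (Q : A₁[X]),
      mapT (Polynomial.eval₂ (algebraMap A₁ (A₁ ⊗[A] B)) t Q)
        = Polynomial.eval₂ (algebraMap Ah (Ah ⊗[A] B)) (mapT t)
          (Q.map (algebraMap A₁ Ah)) := by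
    intro t Q
    have hc : (mapT.toRingHom).comp (algebraMap A₁ (A₁ ⊗[A] B))
        = (algebraMap Ah (Ah ⊗[A] B)).comp (algebraMap A₁ Ah) := RingHom.ext hmapT_alg
    show mapT.toRingHom (Polynomial.eval₂ (algebraMap A₁ (A₁ ⊗[A] B)) t Q) = _
    rw [Polynomial.hom_eval₂, hc, Polynomial.eval₂_map]
    rfl
  obtain ⟨j₁, hj₁def⟩ : ∃ j₁ : A₁ ⊗[A] B, j₁ = ∑ p ∈ Sj, pre p.1 ⊗ₜ[A] p.2 := ⟨_, rfl⟩
  have hmapj : mapT j₁ = j := by
    rw [hj₁def, map_sum, hSj]
    refine Finset.sum_congr rfl fun p hp => ?_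
    have h := Algebra.TensorProduct.map_tmul φ₁ (AlgHom.id A B) (pre p.1) p.2
    have h2 : φ₁ (pre p.1) = p.1 := hpre p.1 (Finset.mem_union_right _
      (Finset.mem_union_right _ (Finset.mem_image_of_mem _ hp)))
    rw [h2] at h
    exact h
  obtain ⟨hSh, hIh⟩ := (bijective_iff I Ah).1
    (Groth.Agent.Lib.PairHensQuot.quotientMap_bijective Ah I hAh.1 hAh.2)
  obtain ⟨πh, hπh⟩ := FiniteNbhd.exists_tensor_retraction I Ah hSh hIh B
  let π₁ : A₁ ⊗[A] B →ₐ[A] B ⧸ I.map (algebraMap A B) := πh.comp mapT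
  have hπ₁ : ∀ β : B, π₁ ((1 : A₁) ⊗ₜ[A] β) = Ideal.Quotient.mk _ β := fun β => by
    show πh (mapT ((1 : A₁) ⊗ₜ[A] β)) = _
    rw [hmapT_one, hπh]
  have hπh0 : ∀ z ∈ I.map (algebraMap A (Ah ⊗[A] B)), πh z = 0 := fun z hz =>
    FiniteNbhd.ringHom_quot_eq_zero I πh.toRingHom (fun a => by
      show πh (algebraMap A _ a) = _
      rw [πh.commutes, ← Ideal.Quotient.mk_algebraMap]) hz
  have hj₁ : j₁ ∈ I.map (algebraMap A (A₁ ⊗[A] B)) := by
    apply FiniteNbhd.mem_of_retraction I A₁ hS₁ B π₁ hπ₁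
    show πh (mapT j₁) = 0
    rw [hmapj]
    exact hπh0 j hjR
  -- the equations to kill
  let E : B → A₁ ⊗[A] B := fun b => (1 - j₁) ^ (M b) *
    Polynomial.eval₂ (algebraMap A₁ (A₁ ⊗[A] B)) ((1 : A₁) ⊗ₜ[A] b) (P' b)
  let E0 : A₁ ⊗[A] B := (1 - j₁) ^ M0 *
    Polynomial.eval₂ (algebraMap A₁ (A₁ ⊗[A] B)) (1 - j₁) P0'.reverse
  have hE : ∀ b ∈ s, mapT (E b) = 0 := by
    intro b hb
    show mapT ((1 - j₁) ^ (M b) *
      Polynomial.eval₂ (algebraMap A₁ (A₁ ⊗[A] B)) ((1 : A₁) ⊗ₜ[A] b) (P' b)) = 0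
    rw [map_mul, map_pow, map_sub, map_one, hmapj, hmapT_eval, hmapT_one, hP'map b hb]
    exact hM b
  have hrevmap : P0'.reverse.map (algebraMap A₁ Ah) = P0.reverse := by
    rw [Polynomial.reverse, Polynomial.reverse, ← Polynomial.reflect_map, hP0'map, hP0'deg]
  have hE0 : mapT E0 = 0 := by
    show mapT ((1 - j₁) ^ M0 *
      Polynomial.eval₂ (algebraMap A₁ (A₁ ⊗[A] B)) (1 - j₁) P0'.reverse) = 0
    rw [map_mul, map_pow, map_sub, map_one, hmapj, hmapT_eval, map_sub, map_one, hmapj, hrevmap]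
    exact hM0
  obtain ⟨i₁, hi₁, hkill⟩ := FiniteNbhd.exists_kill_tensor (A := A) hH₁ B
    (insert E0 (s.image E)) (by
    intro z hz
    rcases Finset.mem_insert.1 hz with hz0 | hz'
    · rw [hz0]; exact hE0
    · obtain ⟨b, hb, rfl⟩ := Finset.mem_image.1 hz'
      exact hE b hb)
  -- the final neighbourhood and algebra
  obtain ⟨ι, hιdef⟩ : ∃ ι : A₁ ⊗[A] B,
      ι = 1 - algebraMap A₁ (A₁ ⊗[A] B) (1 - i₁) * (1 - j₁) := ⟨_, rfl⟩
  have h1ι : 1 - ι = algebraMap A₁ (A₁ ⊗[A] B) (1 - i₁) * (1 - j₁) := by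
    rw [hιdef]; ring
  have hJ₁T : (I.map (algebraMap A A₁)).map (algebraMap A₁ (A₁ ⊗[A] B))
      = I.map (algebraMap A (A₁ ⊗[A] B)) := by
    rw [Ideal.map_map, ← IsScalarTower.algebraMap_eq]
  have hι : ι ∈ I.map (algebraMap A (A₁ ⊗[A] B)) := by
    have h1 : ι = algebraMap A₁ (A₁ ⊗[A] B) i₁ + j₁ - algebraMap A₁ (A₁ ⊗[A] B) i₁ * j₁ := by
      rw [hιdef, map_sub, map_one]; ring
    rw [h1]
    have h2 : algebraMap A₁ (A₁ ⊗[A] B) i₁ ∈ I.map (algebraMap A (A₁ ⊗[A] B)) := by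
      rw [← hJ₁T]; exact Ideal.mem_map_of_mem _ hi₁
    exact Ideal.sub_mem _ (Ideal.add_mem _ h2 hj₁) (Ideal.mul_mem_right _ _ h2)
  obtain ⟨hEt, i7, i8, i9, i10, h⟩ := FiniteNbhd.final_assembly I B s hs A₁ hS₁ hI₁ i₁ hi₁
    (1 - j₁) ι h1ι hι P' (fun b hb => hP'monic b hb) M
    (fun b hb => hkill (E b) (Finset.mem_insert_of_mem (Finset.mem_image_of_mem E hb)))
    P0' hP0'monic M0 (hkill E0 (Finset.mem_insert_self _ _)) π₁ hπ₁
    (Localization.Away (1 - i₁)) (Localization.Away (1 - ι))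
  exact ⟨Localization.Away (1 - i₁), inferInstance, inferInstance, hEt,
    Localization.Away (1 - ι), inferInstance, inferInstance, i7, i8, i9, i10, h⟩

end Groth.Agent.S17976
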