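import Groth.Statements.S17977
import Mathlib

set_option autoImplicit false
universe u
open EGA4loc

namespace Groth.Agent.S17977

/-- Let A be a local ring, B a local ring which is a local-etale A-algebra, and C a local ring with a
local structure map A → C. Then every A-algebra homomorphism B → C is local. (The source states this
for local ind-etale B, i.e. filtered colimits of local-etale algebras along local maps, and reduces
at once to the local-etale case stated here.) -/
theorem result (A : Type u) [CommRing A] [IsLocalRing A]
    (B : Type u) [CommRing B] [IsLocalRing B] [Algebra A B] (hB : EGA4loc.IsEssentiallyEtale A B)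
    (C : Type u) [CommRing C] [IsLocalRing C] [Algebra A C] [IsLocalHom (algebraMap A C)]
    (φ : B →ₐ[A] C) : IsLocalHom φ.toRingHom := by
  classical
  obtain ⟨C', _, _, q, _, hEt, hq, ⟨e⟩⟩ := hB
  haveI : Algebra.Etale A C' := hEt
  haveI : Algebra.QuasiFinite A C' := inferInstance
  haveI : Algebra.QuasiFinite A (Localization.AtPrime q) := inferInstance
  haveI : Algebra.QuasiFinite A B := (Algebra.QuasiFinite.iff_of_algEquiv e).2 inferInstance
  set P : Ideal B := (IsLocalRing.maximalIdeal C).comap φ.toRingHom with hP
  haveI : P.IsPrime := Ideal.IsPrime.comap _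
  have hPle : P ≤ IsLocalRing.maximalIdeal B := IsLocalRing.le_maximalIdeal (Ideal.IsPrime.ne_top inferInstance)
  have hPu : P.under A = IsLocalRing.maximalIdeal A := by
    ext a
    simp only [Ideal.under, hP, Ideal.mem_comap, AlgHom.toRingHom_eq_coe, RingHom.coe_coe,
      AlgHom.commutes, IsLocalRing.mem_maximalIdeal, mem_nonunits_iff]
    exact not_congr (isUnit_map_iff (algebraMap A C) a)
  have hQu : (IsLocalRing.maximalIdeal B).under A = IsLocalRing.maximalIdeal A := by
    have h1 : IsLocalRing.maximalIdeal A ≤ (IsLocalRing.maximalIdeal B).under A := by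
      rw [← hPu]
      exact Ideal.comap_mono hPle
    have h2 : (IsLocalRing.maximalIdeal B).under A ≠ ⊤ := Ideal.IsPrime.ne_top inferInstance
    exact ((IsLocalRing.maximalIdeal.isMaximal A).eq_of_le h2 h1).symm
  have hPQ : P = IsLocalRing.maximalIdeal B :=
    Algebra.QuasiFinite.eq_of_le_of_under_eq (R := A) P _ hPle (hPu.trans hQu.symm)
  constructor
  intro b hb
  by_contra hnb
  have : b ∈ IsLocalRing.maximalIdeal B := by
    rwa [IsLocalRing.mem_maximalIdeal, mem_nonunits_iff]
  rw [← hPQ, hP, Ideal.mem_comap, IsLocalRing.mem_maximalIdeal, mem_nonunits_iff] at this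
  exact this hb

end Groth.Agent.S17977
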