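import Groth.Statements.S17978
import Mathlib
import Groth.Agent.S17974

set_option autoImplicit false
universe u
open EGA4loc

namespace Groth.Agent.S17978

/-- Let A be a local ring, B a local ring which is a local-etale A-algebra, and C a local ring with a
local structure map A → C. Then two A-algebra homomorphisms B → C which agree after composition with
the residue map of C are equal; in other words an A-algebra map B → C is determined by the map it
induces on residue fields. (The source states this for local ind-etale B and reduces to the
local-etale case stated here; C is an arbitrary local A-algebra with local structure map.) -/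
theorem result (A : Type u) [CommRing A] [IsLocalRing A]
    (B : Type u) [CommRing B] [IsLocalRing B] [Algebra A B] (hB : EGA4loc.IsEssentiallyEtale A B)
    (C : Type u) [CommRing C] [IsLocalRing C] [Algebra A C] [IsLocalHom (algebraMap A C)]
    (u v : B →ₐ[A] C)
    (h : (IsLocalRing.residue C).comp u.toRingHom = (IsLocalRing.residue C).comp v.toRingHom) :
    u = v := by
  classical
  obtain ⟨C', _, _, q, _, hEt, hq, ⟨e⟩⟩ := hB
  haveI : Algebra.Etale A C' := hEt
  haveI : Algebra.FormallyUnramified A C' := inferInstance
  haveI : Algebra.FiniteType A C' := inferInstance
  set ι : C' →ₐ[A] B := (e.symm : Localization.AtPrime q →ₐ[A] B).comp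
    (IsScalarTower.toAlgHom A C' (Localization.AtPrime q)) with hι
  have huv : (Ideal.Quotient.mk (IsLocalRing.maximalIdeal C)).comp (u.comp ι).toRingHom =
      (Ideal.Quotient.mk (IsLocalRing.maximalIdeal C)).comp (v.comp ι).toRingHom := by
    apply RingHom.ext
    intro x
    have := congrArg (fun ψ : B →+* IsLocalRing.ResidueField C => ψ (ι x)) h
    exact this
  obtain ⟨f, hf, hfe⟩ := Groth.Agent.S17974.result A C' C (IsLocalRing.maximalIdeal C)
    (u.comp ι) (v.comp ι) huv
  have hfu : IsUnit f := by
    by_contra hnf
    exact hf (by rwa [IsLocalRing.mem_maximalIdeal, mem_nonunits_iff])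
  have hinj : Function.Injective (algebraMap C (Localization.Away f)) := by
    apply IsLocalization.injective (Localization.Away f) (M := Submonoid.powers f)
    intro x hx
    obtain ⟨n, rfl⟩ := hx
    exact (hfu.pow n).mem_nonZeroDivisors
  have huvι : ∀ x, u (ι x) = v (ι x) := by
    intro x
    apply hinj
    have := congrArg (fun ψ : C' →+* Localization.Away f => ψ x) hfe
    exact this
  -- now extend through the localization
  have key : (u.comp (e.symm : Localization.AtPrime q →ₐ[A] B)).toRingHom =
      (v.comp (e.symm : Localization.AtPrime q →ₐ[A] B)).toRingHom := by
    apply IsLocalization.ringHom_ext q.primeCompl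
    apply RingHom.ext
    intro x
    exact huvι x
  apply AlgHom.ext
  intro b
  have := congrArg (fun ψ : Localization.AtPrime q →+* C => ψ (e b)) key
  simpa using this

end Groth.Agent.S17978
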