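import Groth.Statements.S17981
import Mathlib

set_option autoImplicit false
universe u
open Hensel

namespace Groth.Agent.S17981

/-- Let A be a commutative ring, I an ideal contained in the Jacobson radical of A, and B a commutative
A-algebra which is finitely generated as an A-module. Then two idempotents of B with the same image
in B/IB are equal. -/
theorem result (A : Type u) [CommRing A] (I : Ideal A)
    (hI : I ≤ Ideal.jacobson ⊥) (B : Type u) [CommRing B] [Algebra A B] [Module.Finite A B] :
    Set.InjOn (Ideal.Quotient.mk (Ideal.map (algebraMap A B) I)) {e : B | IsIdempotentElem e} := by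
  classical
  have : Algebra.IsIntegral A B := Algebra.IsIntegral.of_finite A B
  have hJ : Ideal.map (algebraMap A B) I ≤ Ideal.jacobson (⊥ : Ideal B) := by
    rw [Ideal.map_le_iff_le_comap]
    intro a ha
    rw [Ideal.mem_comap, Ideal.jacobson, Ideal.mem_sInf]
    rintro n ⟨-, hn⟩
    have hmax : (n.comap (algebraMap A B)).IsMaximal :=
      Ideal.isMaximal_comap_of_isIntegral_of_isMaximal n
    have h1 := hI ha
    rw [Ideal.jacobson, Ideal.mem_sInf] at h1
    exact h1 ⟨bot_le, hmax⟩
  intro e he e' he' heq
  have hx : e - e' ∈ Ideal.jacobson (⊥ : Ideal B) := hJ (Ideal.Quotient.eq.mp heq)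
  have he1 : e * e = e := he
  have he2 : e' * e' = e' := he'
  have h3 : (e - e') * ((e - e') * (-(e - e')) + 1) = 0 := by
    linear_combination (-(e + 1) + 3 * e') * he1 + ((e' + 1) - 3 * e) * he2
  have hu : IsUnit ((e - e') * (-(e - e')) + 1) := Ideal.mem_jacobson_bot.mp hx _
  have h4 : e - e' = 0 := (hu.mul_left_eq_zero).mp h3
  exact sub_eq_zero.mp h4

end Groth.Agent.S17981
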