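import Groth.Statements.S17988
import Mathlib
import Groth.Agent.Lib.Torsionless_helper6
-- import your own Groth.Agent.* helpers here

set_option autoImplicit false
universe u
open CAlg

namespace Groth.Agent.S17988

/-- Let Λ be a principal ideal domain and S a commutative Λ-algebra which is finitely generated and free
as a Λ-module and reduced as a ring; let M be a finitely generated S-module. Then M is torsionless
(the canonical map M → M** to the double S-dual is injective) if and only if M is free as a
Λ-module. If in addition S is a Gorenstein ring (it has Krull dimension at most 1, being finite over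
Λ), then M is reflexive (M → M** bijective) if and only if M is free as a Λ-module, so that for such
S torsionless and reflexive finitely generated modules coincide. The published statement is the case
Λ = ℤ, resp. Λ = ℤ_ℓ for a prime ℓ, with S the minimal central order R_w of a finite set of Weil
q-numbers, resp. its ℓ-adic completion R_w ⊗ ℤ_ℓ, under the assumption that R_w is Gorenstein; the
argument given there uses only that S is finite free over Λ, reduced, and (for reflexivity)
Gorenstein of dimension one. -/
theorem result (Λ : Type u) [CommRing Λ] [IsDomain Λ] [IsPrincipalIdealRing Λ]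
    (S : Type u) [CommRing S] [Algebra Λ S] [Module.Finite Λ S] [Module.Free Λ S] [IsReduced S]
    (M : Type u) [AddCommGroup M] [Module S M] [Module Λ M] [IsScalarTower Λ S M] [Module.Finite S M] :
    (Function.Injective (Module.Dual.eval S M) ↔ Module.Free Λ M) ∧
      (LocCoh.IsGorensteinRing S → (Module.IsReflexive S M ↔ Module.Free Λ M)) := by

  haveI : IsNoetherianRing S := IsNoetherianRing.of_finite Λ S
  have hS : ∀ (l : Λ) (s : S), l ≠ 0 → algebraMap Λ S l * s = 0 → s = 0 := by
    intro l s hl h
    rw [← Algebra.smul_def] at h
    exact (smul_eq_zero.mp h).resolve_left hl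
  have htf : Module.Free Λ M → ∀ (l : Λ) (m : M), l ≠ 0 → algebraMap Λ S l • m = 0 → m = 0 := by
    intro hfree l m hl h
    rw [algebraMap_smul] at h
    exact (smul_eq_zero.mp h).resolve_left hl
  refine ⟨⟨fun h => Groth.Agent.Lib.Torsionless_helper6.free_of_eval_injective Λ S M h,
    fun hfree => Groth.Agent.Lib.Torsionless_helper6.eval_injective_of_tf Λ S M (htf hfree)⟩, ?_⟩
  intro hG
  have hd : ringKrullDim S ≤ 1 := by
    haveI : Algebra.IsIntegral Λ S := Algebra.IsIntegral.of_finite Λ S
    have h1 : ringKrullDim S ≤ ringKrullDim Λ := by
      refine Order.krullDim_le_of_strictMono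
        (fun P : PrimeSpectrum S => PrimeSpectrum.comap (algebraMap Λ S) P) ?_
      intro P Q h
      have h' : P.asIdeal < Q.asIdeal := h
      exact Ideal.IsIntegral.comap_lt_comap h'
    have h2 : ringKrullDim Λ ≤ 1 := by
      by_cases hf : IsField Λ
      · rw [ringKrullDim_eq_zero_of_isField hf]
        exact zero_le_one
      · exact (IsPrincipalIdealRing.ringKrullDim_eq_one Λ hf).le
    exact h1.trans h2
  have hd' : ringKrullDim S ≤ (((1 : ℕ) : ℕ∞) : WithBot ℕ∞) := by
    exact_mod_cast hd
  have hinj := Groth.Agent.Gor.injDim_of_gorenstein (A := S) (fun p _ =>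
    (hG.isGorensteinLocalRing_localization p).exists_hasInjectiveDimensionLT) 1 hd'
  constructor
  · intro hrefl
    exact Groth.Agent.Lib.Torsionless_helper6.free_of_eval_injective Λ S M
      (Module.bijective_dual_eval S M).injective
  · intro hfree
    exact Groth.Agent.Lib.Torsionless_helper6.reflexive_of_tf Λ S hS hinj M (htf hfree)

end Groth.Agent.S17988
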