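import Groth.Statements.S18019
import Mathlib

set_option autoImplicit false
universe u
open ClassStk

namespace Groth.Agent.S18019

open Polynomial in
/-- Let R be an integral domain of characteristic 2 and let a be a nonzero element of R, so that x ↦ x +
a defines an R-algebra involution of the polynomial ring R[x] (an action of the group of order two).
A polynomial f is invariant, f(x + a) = f(x), if and only if f belongs to the R-subalgebra generated
by u = x (x + a); in other words the ring of invariants is the polynomial ring R[u]. -/
theorem result (R : Type u) [CommRing R] [IsDomain R]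
    [CharP R 2] (a : R) (ha : a ≠ 0) (f : Polynomial R) :
    f.comp (X + C a) = f ↔ f ∈ Algebra.adjoin R ({X * (X + C a)} : Set (Polynomial R)) := by
  set u : Polynomial R := X * (X + C a) with hu
  have haa : a + a = 0 := CharTwo.add_self_eq_zero a
  have hucomp : u.comp (X + C a) = u := by
    simp only [hu, mul_comp, X_comp, add_comp, C_comp]
    have : X + C a + C a = (X : Polynomial R) := by rw [add_assoc, ← C_add, haa, C_0, add_zero]
    rw [this, mul_comm]
  have humonic : u.Monic := monic_X.mul (monic_X_add_C a)
  have hudeg : u.natDegree = 2 := by
    rw [hu, Monic.natDegree_mul monic_X (monic_X_add_C a), natDegree_X, natDegree_X_add_C]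
  have hu1 : u ≠ 1 := by
    intro h; rw [h, natDegree_one] at hudeg; omega
  have hXa : (X + C a : Polynomial R).natDegree = 1 := natDegree_X_add_C a
  constructor
  · intro hf
    have key : ∀ n : ℕ, ∀ f : Polynomial R, f.natDegree < n → f.comp (X + C a) = f →
        f ∈ Algebra.adjoin R ({u} : Set (Polynomial R)) := by
      intro n
      induction n with
      | zero => intro f h; omega
      | succ n ih =>
        intro f hfn hf
        have hdiv : f.modByMonic u + u * (f.divByMonic u) = f := modByMonic_add_div f u
        have hrnat : (f.modByMonic u).natDegree < 2 := by
          have := natDegree_modByMonic_lt f humonic hu1; rwa [hudeg] at this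
        have hrcdeg : ((f.modByMonic u).comp (X + C a)).degree < u.degree := by
          apply degree_lt_degree
          rw [natDegree_comp, hXa, mul_one, hudeg]; exact hrnat
        have hcomp : (f.modByMonic u).comp (X + C a) + u * (f.divByMonic u).comp (X + C a) = f := by
          have := congrArg (fun p => p.comp (X + C a)) hdiv
          simp only [add_comp, mul_comp, hucomp, hf] at this
          exact this
        obtain ⟨hq', hr'⟩ := div_modByMonic_unique ((f.divByMonic u).comp (X + C a))
          ((f.modByMonic u).comp (X + C a)) humonic ⟨hcomp, hrcdeg⟩
        have hrC : f.modByMonic u = C ((f.modByMonic u).coeff 0) := by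
          have hle : (f.modByMonic u).degree ≤ 1 := by
            exact_mod_cast degree_le_of_natDegree_le (by omega : (f.modByMonic u).natDegree ≤ 1)
          have hr1 := eq_X_add_C_of_degree_le_one hle
          have hinv : (C ((f.modByMonic u).coeff 1) * X + C ((f.modByMonic u).coeff 0)).comp (X + C a) =
              C ((f.modByMonic u).coeff 1) * X + C ((f.modByMonic u).coeff 0) := by
            rw [← hr1]; exact hr'.symm
          simp only [add_comp, mul_comp, C_comp, X_comp] at hinv
          have h3 : C ((f.modByMonic u).coeff 1) * C a = 0 := by
            have h5 : C ((f.modByMonic u).coeff 1) * (X + C a) + C ((f.modByMonic u).coeff 0) -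
                (C ((f.modByMonic u).coeff 1) * X + C ((f.modByMonic u).coeff 0)) = 0 := sub_eq_zero.2 hinv
            have h4 : C ((f.modByMonic u).coeff 1) * (X + C a) + C ((f.modByMonic u).coeff 0) -
                (C ((f.modByMonic u).coeff 1) * X + C ((f.modByMonic u).coeff 0)) = C ((f.modByMonic u).coeff 1) * C a := by
              ring
            rw [h4] at h5; exact h5
          rw [← C_mul, C_eq_zero] at h3
          have hc1 : (f.modByMonic u).coeff 1 = 0 := (mul_eq_zero.1 h3).resolve_right ha
          conv_lhs => rw [hr1, hc1, C_0, zero_mul, zero_add]
        have hqmem : f.divByMonic u ∈ Algebra.adjoin R ({u} : Set (Polynomial R)) := by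
          by_cases h2 : f.natDegree < 2
          · have : f.divByMonic u = 0 := by
              rw [divByMonic_eq_zero_iff humonic]
              apply degree_lt_degree; rw [hudeg]; exact h2
            rw [this]; exact Subalgebra.zero_mem _
          · apply ih _ _ hq'.symm
            rw [natDegree_divByMonic f humonic, hudeg]; omega
        rw [← hdiv, hrC]
        exact Subalgebra.add_mem _ (by rw [C_eq_algebraMap]; exact Subalgebra.algebraMap_mem _ _)
          (Subalgebra.mul_mem _ (Algebra.subset_adjoin (Set.mem_singleton u)) hqmem)
    exact key (f.natDegree + 1) f (Nat.lt_succ_self _) hf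
  · intro hf
    induction hf using Algebra.adjoin_induction with
    | mem x hx => rw [Set.mem_singleton_iff] at hx; rw [hx]; exact hucomp
    | algebraMap r => rw [← C_eq_algebraMap, C_comp]
    | add p q _ _ hp hq => rw [add_comp, hp, hq]
    | mul p q _ _ hp hq => rw [mul_comp, hp, hq]

end Groth.Agent.S18019
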