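import Groth.Statements.S18020
import Mathlib

set_option autoImplicit false
open W4c5stacksedinertia

namespace Groth.Agent.S18020

open W4c5stacksedinertia in
/-- In the rational vector space K with basis the isomorphism classes of finite groups (the class of a
group standing for its classifying groupoid), the inertia operator, which sends the class of a
finite group to the sum over its conjugacy classes of the classes of the centralizers of
representatives, preserves the subspace spanned by the classes of groups of order at most `n`. -/
theorem result (n : ℕ) (v : K) (hv : v ∈ Kle n) :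
    inertia v ∈ Kle n := by
  classical
  have hcard : ∀ (G : Type) [Group G] [Finite G], (Idx.of G).card = Nat.card G := by
    intro G _ _
    unfold Idx.card Idx.rep Idx.of
    obtain ⟨e⟩ := (Quotient.mk_out (s := FinGrp.setoid) (FinGrp.of G))
    rw [Nat.card_congr e.toEquiv]
    show Nat.card (Fin (Nat.card G)) = Nat.card G
    simp
  have hcl : ∀ (G : Type) [Group G] [Finite G], Nat.card G ≤ n → cl G ∈ Kle n := by
    intro G _ _ hG
    unfold cl Kle
    rw [Finsupp.mem_supported]
    intro i hi
    have hi' := Finsupp.support_single_subset hi
    have hi'' : i = Idx.of G := by simpa using hi'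
    rw [hi'']
    show (Idx.of G).card ≤ n
    rw [hcard]; exact hG
  have hbase : ∀ i : Idx, i.card ≤ n → inertiaROf 1 i.rep ∈ Kle n := by
    intro i hi
    unfold inertiaROf
    apply finsum_induction (p := fun x => x ∈ Kle n)
    · exact (Kle n).zero_mem
    · intro x y hx hy; exact (Kle n).add_mem hx hy
    · intro O
      apply hcl
      refine le_trans ?_ hi
      exact Subgroup.card_le_card_group _
  have hv' : v ∈ Finsupp.supported ℚ ℚ {i : Idx | i.card ≤ n} := hv
  rw [Finsupp.mem_supported] at hv'
  show Finsupp.linearCombination ℚ (fun i : Idx => inertiaROf 1 i.rep) v ∈ Kle n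
  rw [Finsupp.linearCombination_apply, Finsupp.sum]
  apply (Kle n).sum_mem
  intro i hi
  apply (Kle n).smul_mem
  exact hbase i (hv' hi)

end Groth.Agent.S18020
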