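import Groth.Statements.S1803
import Mathlib
import Groth.Agent.Lib.GorField2_helper9

set_option autoImplicit false
universe u
open scoped TensorProduct
open Goren

namespace Groth.Agent.S1803

/-- Let k'/k be any field extension, C a k-algebra of finite type, q a prime of C ⊗_k k' and p its
contraction to C. Then C_p is Gorenstein if and only if (C ⊗_k k')_q is Gorenstein. -/
theorem result (k k' : Type u) [Field k] [Field k'] [Algebra k k'] (C : Type u) [CommRing C] [Algebra k C] [Algebra.FiniteType k C] (q : PrimeSpectrum (C ⊗[k] k')) : LocCoh.IsGorensteinLocalRing (Localization.AtPrime (q.asIdeal.comap (algebraMap C (C ⊗[k] k')))) ↔ LocCoh.IsGorensteinLocalRing (Localization.AtPrime q.asIdeal) := by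
  haveI : IsNoetherianRing C := Algebra.FiniteType.isNoetherianRing k C
  haveI : Algebra.FiniteType k' (k' ⊗[k] C) := inferInstance
  haveI : IsNoetherianRing (k' ⊗[k] C) := Algebra.FiniteType.isNoetherianRing k' _
  haveI : IsNoetherianRing (C ⊗[k] k') :=
    isNoetherianRing_of_ringEquiv _ (Algebra.TensorProduct.comm k k' C).toRingEquiv
  haveI : Module.Flat C (C ⊗[k] k') := inferInstance
  rw [Groth.Agent.GorFlat9.isGor_localization_iff C (C ⊗[k] k') q.asIdeal]
  haveI := Groth.Agent.GorFlat9.isGorRing_fiber_tensor_left k k' C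
    (q.asIdeal.comap (algebraMap C (C ⊗[k] k')))
  have hF := Groth.Agent.GorFlat9.isGor_fibLocRing_of_fiber C (C ⊗[k] k') q.asIdeal
  exact ⟨fun h => ⟨h, hF⟩, fun h => h.1⟩

end Groth.Agent.S1803
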