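import Groth.Statements.S18049
import Mathlib.Tactic.Linarith
import Mathlib.Tactic.IntervalCases

set_option autoImplicit false
open STCI

namespace Groth.Agent.S18049

/-- For natural numbers 0 < k < N such that k does not divide N, ⌊N/k⌋ ≤ (N - k)/gcd(k, N); stated here
in the equivalent cleared form ⌊N/k⌋ · gcd(k, N) ≤ N - k. -/
theorem result (k N : ℕ) (hk : 0 < k) (hkN : k < N) (hndvd : ¬ k ∣ N) :
    N / k * Nat.gcd k N ≤ N - k := by
  have hgk : Nat.gcd k N ∣ k := Nat.gcd_dvd_left k N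
  have hgN : Nat.gcd k N ∣ N := Nat.gcd_dvd_right k N
  have hgpos : 0 < Nat.gcd k N := Nat.gcd_pos_of_pos_left N hk
  generalize Nat.gcd k N = g at *
  obtain ⟨m, hm⟩ := hgk
  have hm2 : 2 ≤ m := by
    by_contra h
    push Not at h
    interval_cases m
    · simp at hm; omega
    · apply hndvd
      rw [hm, mul_one]
      exact hgN
  have hr : N % k ≠ 0 := fun h => hndvd (Nat.dvd_of_mod_eq_zero h)
  have hgr : g ∣ N % k := (Nat.dvd_mod_iff ⟨m, hm⟩).2 hgN
  have hrg : g ≤ N % k := Nat.le_of_dvd (Nat.pos_of_ne_zero hr) hgr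
  have hdiv : k * (N / k) + N % k = N := Nat.div_add_mod N k
  have hq : 1 ≤ N / k := Nat.div_pos hkN.le hk
  generalize N / k = q at *
  generalize N % k = r at *
  obtain ⟨m', rfl⟩ := Nat.exists_eq_add_of_le hm2
  obtain ⟨q', rfl⟩ := Nat.exists_eq_add_of_le hq
  have key : (1 + q') * g + k ≤ N := by
    rw [← hdiv, hm]
    nlinarith [Nat.zero_le (g * m' * q'), Nat.zero_le (g * q')]
  omega

end Groth.Agent.S18049
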