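import Groth.Statements.S18050
import Mathlib

set_option autoImplicit false
open STCI

namespace Groth.Agent.S18050

open W4c5stcicurvesp3

theorem irem_succ2 (a b n : ℕ) : irem a b (n + 2) =
    if irem a b (n + 1) = 0 then 0 else irem a b n % irem a b (n + 1) := by
  rw [irem]

theorem idiv_succ2 (a b n : ℕ) : idiv a b (n + 2) =
    if irem a b (n + 1) = 0 then 0 else irem a b n / irem a b (n + 1) := by
  rw [idiv]

theorem irem_shift (a b : ℕ) (hr : a % b ≠ 0) : ∀ i, irem a b (i + 1) = irem b (a % b) i := by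
  intro i
  induction i using Nat.strong_induction_on with
  | _ i ih =>
    match i, ih with
    | 0, _ => simp [irem]
    | 1, _ =>
      rw [irem_succ2]
      simp [irem, hr]
    | (j + 2), ih =>
      have h1 := ih (j + 1) (by omega)
      have h0 := ih j (by omega)
      rw [irem_succ2 a b (j + 1), irem_succ2 b (a % b) j, h1, h0]

theorem idiv_shift (a b : ℕ) (hr : a % b ≠ 0) : ∀ i, idiv a b (i + 2) = idiv b (a % b) (i + 1) := by
  intro i
  match i with
  | 0 =>
    rw [idiv_succ2]
    simp [irem, idiv, hr]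
  | (j + 1) =>
    rw [idiv_succ2 a b (j + 1), idiv_succ2 b (a % b) j, irem_shift a b hr (j + 1),
      irem_shift a b hr j]

theorem main : ∀ t : ℕ, 0 < t → ∀ a b : ℕ, 0 < b → b ≤ a → irem a b t = 0 →
    (∀ i, 0 < i → i < t → irem a b i ≠ 0) →
    (∑ i ∈ Finset.Icc 1 t, idiv a b i) * Nat.gcd b a ≤ a := by
  intro t ht
  induction t, ht using Nat.le_induction with
  | base =>
    intro a b hb hba hz _
    have hz' : a % b = 0 := by simpa [irem] using hz
    have hdvd : b ∣ a := Nat.dvd_of_mod_eq_zero hz'
    rw [Finset.Icc_self, Finset.sum_singleton]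
    show (a / b) * Nat.gcd b a ≤ a
    rw [Nat.gcd_eq_left hdvd, Nat.div_mul_cancel hdvd]
  | succ t ht ih =>
    intro a b hb hba hz hmin
    have hr : a % b ≠ 0 := by
      have := hmin 1 (by omega) (by omega)
      simpa [irem] using this
    have hrpos : 0 < a % b := Nat.pos_of_ne_zero hr
    have hrb : a % b ≤ b := (Nat.mod_lt a hb).le
    have hz' : irem b (a % b) t = 0 := by rw [← irem_shift a b hr]; exact hz
    have hmin' : ∀ i, 0 < i → i < t → irem b (a % b) i ≠ 0 := by
      intro i hi hit
      rw [← irem_shift a b hr]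
      exact hmin (i + 1) (by omega) (by omega)
    have IH := ih b (a % b) hrpos hrb hz' hmin'
    have hIcc : ∀ (f : ℕ → ℕ) (m : ℕ), ∑ i ∈ Finset.Icc 1 m, f i = ∑ i ∈ Finset.range m, f (i + 1) := by
      intro f m
      induction m with
      | zero => simp
      | succ m ihm => rw [Finset.sum_Icc_succ_top (by omega), Finset.sum_range_succ, ihm]
    have hsum : ∑ i ∈ Finset.Icc 1 (t + 1), idiv a b i =
        a / b + ∑ i ∈ Finset.Icc 1 t, idiv b (a % b) i := by
      rw [hIcc, hIcc, Finset.sum_range_succ', add_comm]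
      congr 1
      apply Finset.sum_congr rfl
      intro i _
      exact idiv_shift a b hr i
    rw [hsum]
    have hg : Nat.gcd b a = Nat.gcd (a % b) b := Nat.gcd_rec b a
    rw [← hg] at IH
    set g := Nat.gcd b a with hgdef
    set q := a / b with hqdef
    set r := a % b with hrdef
    set S' := ∑ i ∈ Finset.Icc 1 t, idiv b r i
    have hgb : g ∣ b := Nat.gcd_dvd_left b a
    have hga : g ∣ a := Nat.gcd_dvd_right b a
    have hgr : g ∣ r := (Nat.dvd_mod_iff hgb).mpr hga
    have hgler : g ≤ r := Nat.le_of_dvd hrpos hgr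
    have hrltb : r < b := Nat.mod_lt a hb
    have hq1 : 1 ≤ q := (Nat.one_le_div_iff hb).mpr hba
    have hgleb : g ≤ b := le_trans hgler hrb
    obtain ⟨c, hc⟩ := Nat.exists_eq_add_of_le hgleb
    have ha : a = b * q + r := (Nat.div_add_mod a b).symm
    have hqc : c ≤ q * c := Nat.le_mul_of_pos_left c hq1
    calc (q + S') * g = q * g + S' * g := by ring
      _ ≤ q * g + b := by omega
      _ = q * g + (g + c) := by rw [hc]
      _ ≤ q * g + q * c + r := by omega
      _ = b * q + r := by rw [hc]; ring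
      _ = a := ha.symm


open W4c5stcicurvesp3 in
/-- Let k ≤ N be positive integers, let t be the least positive integer with rem_t(N, k) = 0, where
rem_0 = k, rem_1 = N mod k and rem_i is the remainder of rem_{i-2} by rem_{i-1} (iterated Euclidean
remainders), and let d_i be the corresponding iterated quotients (d_1 = ⌊N/k⌋, d_i =
⌊rem_{i-2}/rem_{i-1}⌋). Then d_1 + ⋯ + d_t ≤ N/gcd(k, N); stated in the cleared form (d_1 + ⋯ + d_t)
· gcd(k, N) ≤ N. -/
theorem result (k N t : ℕ) (hk : 0 < k) (hkN : k ≤ N) (ht : 0 < t)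
    (hzero : irem N k t = 0) (hmin : ∀ i, 0 < i → i < t → irem N k i ≠ 0) :
    (∑ i ∈ Finset.Icc 1 t, idiv N k i) * Nat.gcd k N ≤ N := by
  exact main t ht N k hk hkN hzero hmin

end Groth.Agent.S18050
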