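import Groth.Statements.S18055
import Mathlib.Tactic.Linarith
import Mathlib.Tactic.Positivity
import Mathlib.Tactic.NormNum
import Mathlib.Tactic.Push
import Mathlib.Tactic.ByContra
import Mathlib.Tactic.Set
import Mathlib.Algebra.Order.Group.Int
import Mathlib.Algebra.Order.Ring.Abs

set_option autoImplicit false
open STCI

namespace Groth.Agent.S18055

/-- Let d ≥ 1, g ≥ 0 and 1 ≤ s ≤ t be integers with d dividing st, put n = st/d and r = d[n(s - 4) + t]
+ (2 - 2g)n, and assume n ≥ 2, r > 0 and (n - 1) divides r. Then s < 2d² and t < 2d⁴. This is the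
statement about the degree data (d, g the degree and genus of the curve, s ≤ t the degrees of the
two surfaces) to which the published proof reduces the degree bound: there the divisibility and
positivity express that r/(n - 1), the common value of the type numbers of the pair, is a positive
integer; the geometric hypotheses themselves are not part of this row. -/
theorem result (d g s t n : ℤ) (hd : 1 ≤ d) (hg : 0 ≤ g) (hs : 1 ≤ s) (hst : s ≤ t)
    (hn : s * t = d * n) (hn2 : 2 ≤ n)
    (hpos : 0 < d * (n * (s - 4) + t) + (2 - 2 * g) * n)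
    (hdvd : (n - 1) ∣ d * (n * (s - 4) + t) + (2 - 2 * g) * n) :
    s < 2 * d ^ 2 ∧ t < 2 * d ^ 4 := by
  have hdpos : 0 < d := by linarith
  have hspos : 0 < s := by linarith
  have htpos : 0 < t := by linarith
  have hnpos : 0 < n := by linarith
  have hn1pos : 0 < n - 1 := by linarith
  set c : ℤ := d * (s - 4) + 2 - 2 * g with hc
  have hr : d * (n * (s - 4) + t) + (2 - 2 * g) * n = n * c + d * t := by rw [hc]; ring
  rw [hr] at hpos hdvd
  have hdt : 0 < d * t := mul_pos hdpos htpos
  -- R = c + d t
  have hRdvd : (n - 1) ∣ c + d * t := by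
    have e : n * c + d * t = (n - 1) * c + (c + d * t) := by ring
    rw [e] at hdvd
    exact (Int.dvd_add_right (dvd_mul_right (n - 1) c)).mp hdvd
  have hRpos : 0 < c + d * t := by
    rcases le_or_gt 0 c with h | h
    · linarith
    · have : n * c ≤ c := by nlinarith
      linarith
  have hnR : n - 1 ≤ c + d * t := Int.le_of_dvd hRpos hRdvd
  have hdg : 0 ≤ d * g := mul_nonneg hdpos.le hg
  have hdd : d ≤ d * d := by nlinarith
  -- s t < d^2 (s + t)
  have h5 : s * t < d ^ 2 * (s + t) := by
    have h1 : d * n ≤ d * (c + d * t + 1) := by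
      apply mul_le_mul_of_nonneg_left _ hdpos.le
      linarith
    have h2 : d * (c + d * t + 1) = d ^ 2 * (s + t) - 4 * (d * d) + 3 * d - 2 * (d * g) := by
      rw [hc]; ring
    rw [hn]
    linarith
  have hs2 : s < 2 * d ^ 2 := by
    have h6 : s * t < (2 * d ^ 2) * t := by
      have : d ^ 2 * (s + t) ≤ 2 * d ^ 2 * t := by
        have hd2 : 0 ≤ d ^ 2 := sq_nonneg d
        nlinarith
      linarith
    exact lt_of_mul_lt_mul_right h6 htpos.le
  refine ⟨hs2, ?_⟩
  -- Q = s c + d^2
  have hQdvd : (n - 1) ∣ s * c + d ^ 2 := by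
    have e : s * c + d ^ 2 = s * (c + d * t) - d ^ 2 * (n - 1) := by
      have : s * (d * t) = d * (s * t) := by ring
      rw [mul_add, this, hn]; ring
    rw [e]
    exact dvd_sub (Dvd.dvd.mul_left hRdvd s) (dvd_mul_left (n - 1) (d ^ 2))
  have hQpos : 0 < s * c + d ^ 2 := by
    have e : n * (s * c + d ^ 2) = s * (n * c + d * t) := by
      have : s * (d * t) = d * (s * t) := by ring
      rw [mul_add s, this, hn]; ring
    have h1 : 0 < n * (s * c + d ^ 2) := by
      rw [e]; exact mul_pos hspos hpos
    exact (mul_pos_iff_of_pos_left hnpos).mp h1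
  have hnQ : n - 1 ≤ s * c + d ^ 2 := Int.le_of_dvd hQpos hQdvd
  rcases lt_or_ge (d ^ 2) s with hA | hB
  · -- s > d^2
    have h7 : t * (s - d ^ 2) < d ^ 2 * s := by nlinarith
    have h8 : t ≤ t * (s - d ^ 2) := by nlinarith
    have h9 : d ^ 2 * s < d ^ 2 * (2 * d ^ 2) := by
      apply mul_lt_mul_of_pos_left hs2
      positivity
    have : d ^ 2 * (2 * d ^ 2) = 2 * d ^ 4 := by ring
    linarith
  · -- s ≤ d^2
    by_contra ht
    push_neg at ht
    have hsd : 1 ≤ d * s := by nlinarith
    have h10 : d * n ≤ d * (s * c + d ^ 2 + 1) := by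
      apply mul_le_mul_of_nonneg_left _ hdpos.le
      linarith
    have hsg : 0 ≤ s * (d * g) := mul_nonneg hspos.le hdg
    have h11 : d * (s * c + d ^ 2 + 1) = d ^ 2 * s ^ 2 - 4 * (d ^ 2 * s) + 2 * (d * s) + d ^ 3 + d
        - 2 * (s * (d * g)) := by rw [hc]; ring
    have h12 : s * (2 * d ^ 4) ≤ s * t := mul_le_mul_of_nonneg_left ht hspos.le
    have h13 : d ^ 2 * s ^ 2 ≤ d ^ 4 * s := by
      have : d ^ 2 * s ^ 2 = (d ^ 2 * s) * s := by ring
      have h' : d ^ 4 * s = (d ^ 2 * s) * d ^ 2 := by ring
      rw [this, h']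
      apply mul_le_mul_of_nonneg_left hB
      positivity
    have h14 : d ^ 3 ≤ d ^ 4 * s := by
      have : d ^ 4 * s = d ^ 3 * (d * s) := by ring
      rw [this]
      have hd3 : 0 ≤ d ^ 3 := by positivity
      nlinarith
    have h15 : d * s ≤ d ^ 2 * s := by
      have : d ^ 2 * s = d * (d * s) := by ring
      rw [this]
      nlinarith
    have h16 : d ≤ d ^ 2 * s := by
      have : d ^ 2 * s = d * (d * s) := by ring
      rw [this]
      nlinarith
    -- combine
    rw [hn] at h12
    nlinarith

end Groth.Agent.S18055
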