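import Groth.Statements.S18056
import Groth.Agent.Lib.ArtinFS_helper3
-- import your own Groth.Agent.* helpers here

set_option autoImplicit false
universe u v
open STCI
set_option maxSynthPendingDepth 3

namespace Groth.Agent.S18056

/-- Let A → B be a homomorphism of Artinian local rings that is flat and formally smooth, where A has a
subring that is a field. Then A and B have the same length, each as a module over itself. -/
theorem result (A : Type u) (B : Type v) [CommRing A] [CommRing B]
    [IsLocalRing A] [IsLocalRing B] [IsArtinianRing A] [IsArtinianRing B] [Algebra A B]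
    [Module.Flat A B] [Algebra.FormallySmooth A B] (hK : ∃ K : Subring A, IsField K) :
    Module.length A A = Module.length B B := by
  classical
  have hnilA : ∀ a ∈ IsLocalRing.maximalIdeal A, IsNilpotent a := by
    intro a hm
    have h1 : IsNilpotent (IsLocalRing.maximalIdeal A) := by
      rw [← IsLocalRing.jacobson_eq_maximalIdeal ⊥ bot_ne_top]
      exact IsArtinianRing.isNilpotent_jacobson_bot
    obtain ⟨n, hn⟩ := h1
    refine ⟨n, ?_⟩
    have h2 : a ^ n ∈ IsLocalRing.maximalIdeal A ^ n := Ideal.pow_mem_pow hm n
    rw [hn] at h2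
    exact h2
  haveI hloc : IsLocalHom (algebraMap A B) := ⟨fun a ha => by
    by_contra hna
    obtain ⟨n, hn⟩ := hnilA a ((IsLocalRing.mem_maximalIdeal a).2 hna)
    have h3 : IsUnit ((algebraMap A B a) ^ n) := ha.pow n
    rw [← map_pow, hn, map_zero] at h3
    exact not_isUnit_zero h3⟩
  letI : Field (A ⧸ IsLocalRing.maximalIdeal A) := Ideal.Quotient.field _
  have hsurj : Function.Surjective (Algebra.TensorProduct.includeRight :
      B →ₐ[A] TensorProduct A (A ⧸ IsLocalRing.maximalIdeal A) B) :=
    Algebra.TensorProduct.includeRight_surjective B Ideal.Quotient.mk_surjective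
  haveI : Module.FaithfullyFlat A B := Module.FaithfullyFlat.of_flat_of_isLocalHom
  haveI : Nontrivial (TensorProduct A (A ⧸ IsLocalRing.maximalIdeal A) B) :=
    (Module.FaithfullyFlat.nontrivial_tensorProduct_iff_left A
      (A ⧸ IsLocalRing.maximalIdeal A) (N := B)).2 inferInstance
  haveI : IsLocalRing (TensorProduct A (A ⧸ IsLocalRing.maximalIdeal A) B) :=
    IsLocalRing.of_surjective' (Algebra.TensorProduct.includeRight :
      B →ₐ[A] TensorProduct A (A ⧸ IsLocalRing.maximalIdeal A) B).toRingHom hsurj
  haveI : IsArtinianRing (TensorProduct A (A ⧸ IsLocalRing.maximalIdeal A) B) :=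
    Function.Surjective.isArtinianRing (f := (Algebra.TensorProduct.includeRight :
      B →ₐ[A] TensorProduct A (A ⧸ IsLocalRing.maximalIdeal A) B).toRingHom) hsurj
  have hF : IsField (TensorProduct A (A ⧸ IsLocalRing.maximalIdeal A) B) :=
    Groth.Agent.Lib.ArtinFSH3.isField_of_formallySmooth.{u, v}
      (k := A ⧸ IsLocalRing.maximalIdeal A)
  let e1 := Algebra.TensorProduct.quotIdealMapEquivTensorQuot B (IsLocalRing.maximalIdeal A)
  let e2 := Algebra.TensorProduct.comm A B (A ⧸ IsLocalRing.maximalIdeal A)
  have hQ : IsField (B ⧸ (IsLocalRing.maximalIdeal A).map (algebraMap A B)) :=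
    MulEquiv.isField hF (e1.toRingEquiv.trans e2.toRingEquiv).toMulEquiv
  have hmax : ((IsLocalRing.maximalIdeal A).map (algebraMap A B)).IsMaximal :=
    Ideal.Quotient.maximal_of_isField _ hQ
  haveI : IsSimpleModule B (B ⧸ (IsLocalRing.maximalIdeal A).map (algebraMap A B)) :=
    isSimpleModule_iff_isCoatom.2 (Ideal.isMaximal_def.1 hmax)
  have h1 := IsLocalRing.length_baseChange A B A
  rw [Module.length_eq_one B (B ⧸ (IsLocalRing.maximalIdeal A).map (algebraMap A B)), mul_one,
    (TensorProduct.AlgebraTensorModule.rid A B B).length_eq] at h1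
  exact h1.symm

end Groth.Agent.S18056
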