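import Groth.Statements.S18128
import Groth.Agent.Lib.Acyclicity_helper3
-- import your own Groth.Agent.* helpers here

set_option autoImplicit false
universe u
open CAlg


namespace Groth.Agent.S18128

/-- Local step of Buchsbaum–Eisenbud: let R be a Noetherian local ring with maximal ideal m, and 0 →
R^(n_e) → ⋯ → R^(n_1) → R^(n_0) a complex of finite free modules, the map R^(n_(i+1)) → R^(n_i)
being given by the matrix A i, with 1 ≤ e and e at most the depth of R (there is an R-regular
sequence of length e inside m). If for every prime ideal p ≠ m the complex of matrices over R_p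
obtained by localization is exact at R_p^(n_e), …, R_p^(n_1), then the complex is exact at R^(n_e),
…, R^(n_1). -/
theorem result
    {R : Type u} [CommRing R] [IsLocalRing R] [IsNoetherianRing R]
    (e : ℕ) (he : 1 ≤ e) (n : ℕ → ℕ) (A : (i : ℕ) → Matrix (Fin (n i)) (Fin (n (i + 1))) R)
    (hA : ∀ i, i + 2 ≤ e → A i * A (i + 1) = 0)
    (rs : List R) (hlen : rs.length = e) (hmem : ∀ x ∈ rs, x ∈ IsLocalRing.maximalIdeal R)
    (hreg : RingTheory.Sequence.IsRegular R rs)
    (hloc : ∀ (p : Ideal R) [p.IsPrime], p ≠ IsLocalRing.maximalIdeal R →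
      LinearMap.ker ((A (e - 1)).map (algebraMap R (Localization.AtPrime p))).mulVecLin = ⊥ ∧
        ∀ i, i + 2 ≤ e →
          LinearMap.ker ((A i).map (algebraMap R (Localization.AtPrime p))).mulVecLin =
            LinearMap.range ((A (i + 1)).map (algebraMap R (Localization.AtPrime p))).mulVecLin) :
    LinearMap.ker (A (e - 1)).mulVecLin = ⊥ ∧
      ∀ i, i + 2 ≤ e → LinearMap.ker (A i).mulVecLin = LinearMap.range (A (i + 1)).mulVecLin := by
  classical
  have hdepth : (e : ℕ∞) ≤ LocCoh.idealDepth (IsLocalRing.maximalIdeal R) R :=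
    (Groth.Agent.DepthLib.le_idealDepth_iff (IsLocalRing.maximalIdeal R) R e).mpr
      (Or.inr ⟨rs, hreg.toIsWeaklyRegular, hmem, hlen⟩)
  set A' : (i : ℕ) → Matrix (Fin (n i)) (Fin (n (i + 1))) R := Function.update A e 0 with hA'def
  have hAe : ∀ j, j = e → A' j = 0 := by
    rintro j rfl
    exact Function.update_self _ _ _
  have hAne : ∀ j, j ≠ e → A' j = A j := fun j hj => Function.update_of_ne hj _ _
  have hA' : ∀ i, i < e → A' i * A' (i + 1) = 0 := by
    intro i hi
    by_cases h1 : i + 1 = e
    · rw [hAe (i + 1) h1, Matrix.mul_zero]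
    · rw [hAne i (by omega), hAne (i + 1) h1]
      exact hA i (by omega)
  have hloc' : ∀ (p : Ideal R) [p.IsPrime], p ≠ IsLocalRing.maximalIdeal R → ∀ i, i < e →
      LinearMap.ker ((A' i).map (algebraMap R (Localization.AtPrime p))).mulVecLin ≤
        LinearMap.range ((A' (i + 1)).map (algebraMap R (Localization.AtPrime p))).mulVecLin := by
    intro p _ hp i hi
    by_cases h1 : i + 1 = e
    · have h2 : i = e - 1 := by omega
      rw [hAne i (by omega), h2, (hloc p hp).1]
      exact bot_le
    · rw [hAne i (by omega), hAne (i + 1) h1, (hloc p hp).2 i (by omega)]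
  have main := Groth.Agent.Lib.AcyclicityH3.acyclic e n A' hA' hAe hdepth hloc'
  refine ⟨?_, ?_⟩
  · have h1 := main (e - 1) (by omega)
    rw [hAne (e - 1) (by omega), hAe (e - 1 + 1) (by omega), Matrix.mulVecLin_zero,
      LinearMap.range_zero] at h1
    exact h1
  · intro i hi
    have h1 := main i (by omega)
    rw [hAne i (by omega), hAne (i + 1) (by omega)] at h1
    exact h1

end Groth.Agent.S18128
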