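import Groth.Statements.S18151
import Mathlib
import Groth.Agent.Lib.FSplit1_helper5
import Groth.Agent.Lib.ProperFin9_helper9

set_option autoImplicit false
universe u
open CategoryTheory AlgebraicGeometry Opposite TopologicalSpace
open FrobSch

namespace Groth.Agent.S18151

/-- Let p be a prime, k a perfect field of characteristic p, and X a proper k-scheme. Let φ be the p-th
power map on the sheaf of additive groups underlying O_X and suppose X is Frobenius split: φ admits
a retraction s, an additive endomorphism of O_X with s ∘ φ the identity and s(a^p·b) = a·s(b) on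
every open. Then for every invertible module L and every i the dimension of H^i(X, L) over k is at
most that of H^i(X, L^{⊗p}). (The source shows, for any k-scheme X, that the Frobenius pull-back
H^i(X, L) → H^i(X, L^{⊗p}) is injective, with a left inverse coming from the splitting; that map is
not named here, so the statement records its consequence on dimensions, for X proper so that both
are finite.) -/
theorem result (p : ℕ) [Fact p.Prime]
    (k : Type u) [Field k] [CharP k p] [PerfectRing k p]
    (X : Scheme.{u}) [X.Over (Spec (CommRingCat.of k))] [IsProper (X ↘ Spec (CommRingCat.of k))]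
    (φ : Coh.toAb (Coh.structureModule X) ⟶ Coh.toAb (Coh.structureModule X))
    (hφ : ∀ (U : X.Opens) (t : Γ(X, U)), φ.hom.app (op U) t = t ^ p)
    (s : Coh.toAb (Coh.structureModule X) ⟶ Coh.toAb (Coh.structureModule X))
    (hs : φ ≫ s = 𝟙 _)
    (hlin : ∀ (U : X.Opens) (a b : Γ(X, U)),
      s.hom.app (op U) (a ^ p * b) = a * @id Γ(X, U) (s.hom.app (op U) b))
    (L : X.Modules) (hL : PicF.IsInvertible L) (i : ℕ) :
    Module.finrank k (Coh.HH X L i) ≤ Module.finrank k (Coh.HH X (CohB1.tensorPow L p) i) := by
  have hpk : (p : Coh.Γtop X) = 0 := by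
    rw [← map_natCast (Coh.toGlobal (X ↘ Spec (CommRingCat.of k))), CharP.cast_eq_zero, map_zero]
  have hp : (p : Γ(X, ⊤)) = 0 := hpk
  have hlin' : ∀ (U : X.Opens) (a b : Γ(X, U)),
      Groth.Agent.FSplit.sU s U (a ^ p * b) = a * Groth.Agent.FSplit.sU s U b :=
    fun U a b => hlin U a b
  have h1 : ∀ W : X.Opens, Groth.Agent.FSplit.sU s W 1 = 1 := by
    intro W
    have e1 : s.hom.app (op W) (φ.hom.app (op W) (1 : Γ(X, W))) = (1 : Γ(X, W)) :=
      congrArg (fun f : Coh.toAb (Coh.structureModule X) ⟶ Coh.toAb (Coh.structureModule X) =>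
        f.hom.app (op W) (1 : Γ(X, W))) hs
    rw [hφ, one_pow] at e1
    exact e1
  haveI := ProperFinH9.finite_HH_of_proper k X L (ProperFinH9.isCoh_of_isInvertible hL) i
  haveI := ProperFinH9.finite_HH_of_proper k X (CohB1.tensorPow L p)
    (ProperFinH9.isCoh_of_isInvertible (TensH8.isInvertible_tensorPow hL p)) i
  refine Groth.Agent.FSplit.finrank_le_of_semilinear p
    (Sheaf.H.map (Groth.Agent.FSplit.frobL hL p hp) i)
    (Groth.Agent.FSplit.H_frobL_injective hL p hp s hlin' h1 i) (fun c v => ?_)
  have := Groth.Agent.FSplit.H_frobL_smul hL p hp i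
    (Coh.toGlobal (X ↘ Spec (CommRingCat.of k)) c) v
  rw [← map_pow] at this
  exact this

end Groth.Agent.S18151
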