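import Groth.Statements.S18185
import Mathlib
import Groth.Agent.Lib.FunFldV_helper2

set_option autoImplicit false
open FunFld

namespace Groth.Agent.S18185

/-- Let `k` be an algebraically closed field of characteristic zero and `K/k` a function field of one
variable (the function field of a smooth projective curve over `k`). A `g^r_d` is a divisor `D` of
degree `d` with a subspace `V ⊆ L(D)` of dimension `r + 1`; for a place `P` and `n ≥ 0`, `V(-nP) = V
∩ L(D - nP)` is the space of members vanishing to order at least `n` at `P`, so `dim V(-nP)` counts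
the vanishing orders `m_0 < ⋯ < m_r` of `V` at `P` that are at least `n`, and the weight of `V` at
`P` is `∑_{n=1}^{d} dim V(-nP) - r(r+1)/2`. Aspects `(D_Y, V_Y)` on `K_Y` and `(D_Z, V_Z)` on `K_Z`
of a limit `g^r_d` on two components meeting in a node (a place `P` of `K_Y` and a place `Q` of
`K_Z`) are compatible there when `m_i(V_Y, P) + m_{r-i}(V_Z, Q) = d` for every `i`, equivalently
`dim V_Y(-nP) + dim V_Z(-(d+1-n)Q) = r + 1` for `0 ≤ n ≤ d + 1`. Consider a chain of components
`U_0, U_1, …, U_n` (`n ≥ 1`; function fields `K_l`), `U_l` meeting `U_{l+1}` in a node given by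
places `B_l` of `K_l` and `A_{l+1}` of `K_{l+1}`, with `A_l ≠ B_l` on the inner components `U_1, …,
U_{n-1}`, which have genus `0`; each `U_l` carries an aspect `(D_l, V_l)` of a limit `g^r_d`,
consecutive aspects compatible at the nodes, and the weight of `V_0` at `B_0` is at most `(r+1)(d-r)
- c`. (In the source `U_0` is a backbone component of a flag curve with `g` tails, `U_1, …, U_{n-1}`
the chain of rational curves attached to it at `B_0`, `U_n` the elliptic tail, and `c = r(g-1)`, the
weight bound at `B_0` being the one established for backbone components.) Assume moreover that `U_n`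
has positive genus. Then at every place `Q'` of an inner component `U_l` (`0 < l < n`) other than
`A_l, B_l`, the weight of `V_l` is at most `(r+1)(d-r) - c - r`: `∑_{j=1}^{d} dim V_l(-jQ') + c + r
+ r(r+1) ≤ (r+1)d + r(r+1)/2`. With `c = r(g-1)` this is `(r+1)(d-r) - rg`, so when `ρ ≤ 0` the
limit of the moving ramification point (weight `≥ (r+1)(d-r) - rg + 1`) is not on the chain curves
either. (The printed argument bounds such weights only by `(r+1)(d-r) - r(g-1)`; the extra `r` comes
from the cusp that `V_l` has at `B_l`.) (The source states this for curves over the complex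
numbers.) -/
theorem result
    (k : Type*) [Field k] [IsAlgClosed k] [CharZero k]
    (n : ℕ) (hn : 0 < n) (U : Fin (n + 1) → Type*) [∀ l, Field (U l)] [∀ l, Algebra k (U l)]
    (hU : ∀ l, FunFld.IsFunctionField k (U l))
    (hrat : ∀ l : Fin (n + 1), 0 < (l : ℕ) → (l : ℕ) < n → FunFld.genus k (U l) = 0)
    (d r : ℕ) (D : ∀ l, FunFld.Divisor k (U l)) (hD : ∀ l, (D l).deg = d)
    (V : ∀ l, Submodule k (U l)) (hV : ∀ l, V l ≤ FunFld.L (D l))
    (hVr : ∀ l, Module.finrank k ↥(V l) = r + 1)
    (A B : ∀ l, FunFld.Place k (U l))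
    (hAB : ∀ l : Fin (n + 1), 0 < (l : ℕ) → (l : ℕ) < n → A l ≠ B l)
    (hcomp : ∀ (l : Fin n) (m : ℕ), m ≤ d + 1 →
      Module.finrank k ↥((V l.castSucc) ⊓ FunFld.L ((D l.castSucc) - Finsupp.single (B l.castSucc) ((m : ℤ)))) +
        Module.finrank k ↥((V l.succ) ⊓ FunFld.L ((D l.succ) - Finsupp.single (A l.succ) ((d : ℤ) + 1 - m))) = r + 1)
    (c : ℕ) (hc : (∑ j ∈ Finset.range d, Module.finrank k ↥((V 0) ⊓ FunFld.L ((D 0) - Finsupp.single (B 0) ((j : ℤ) + 1)))) + c + r * (r + 1) ≤ (r + 1) * d + r * (r + 1) / 2)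
    (hpos : 0 < FunFld.genus k (U (Fin.last n)))
    (l : Fin (n + 1)) (hl0 : 0 < (l : ℕ)) (hln : (l : ℕ) < n)
    (Q' : FunFld.Place k (U l)) (hQ'A : Q' ≠ A l) (hQ'B : Q' ≠ B l) :
    (∑ j ∈ Finset.range d, Module.finrank k ↥((V l) ⊓ FunFld.L ((D l) - Finsupp.single Q' ((j : ℤ) + 1)))) + c + r + r * (r + 1) ≤ (r + 1) * d + r * (r + 1) / 2 := by
  classical
  have h2 := FunFld.two_mul_tri r
  -- lower bound at `A l`
  have hA := FunFld.chain_lower n (fun l => FunFld.wsum (V l) (D l) (A l) d)
    (fun l => FunFld.wsum (V l) (D l) (B l) d) ((r + 1) * d) c (r * (r + 1) / 2)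
    (fun l => FunFld.sum_pair_eq d (r + 1)
      (fun m => FunFld.vdim (V l.castSucc) (D l.castSucc) (B l.castSucc) m)
      (fun m => FunFld.vdim (V l.succ) (D l.succ) (A l.succ) m) (fun m hm => hcomp l m hm))
    (fun l h0 hn' => by
      have := FunFld.wsum_add_wsum_le (hU l) (V l) (D l) (hV l) (hD l) (hAB l h0 hn')
      rw [hVr l] at this
      exact this)
    (by
      change FunFld.wsum (V 0) (D 0) (B 0) d + c + r * (r + 1) ≤
        (r + 1) * d + r * (r + 1) / 2 at hc
      show FunFld.wsum (V 0) (D 0) (B 0) d + c + 2 * (r * (r + 1) / 2) ≤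
        (r + 1) * d + r * (r + 1) / 2
      omega) l hl0
  -- cusp at `B l`
  have hcuspB : r ≤ FunFld.vdim (V l) (D l) (B l) 2 := by
    rcases Nat.eq_zero_or_pos d with hd0 | hdpos
    · have := FunFld.finrank_le_deg_add_one (hU l) (V l) (D l) (hV l) (hD l)
      have hVl := hVr l
      omega
    have claim : ∀ (i : ℕ) (j : Fin n), (j : ℕ) + 1 + i = n →
        FunFld.vdim (V j.succ) (D j.succ) (A j.succ) ((d : ℤ) - 1) ≤ 1 := by
      intro i
      induction i with
      | zero =>
        intro j hj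
        have e : j.succ = Fin.last n := Fin.ext (by simp only [Fin.val_succ, Fin.val_last]; omega)
        rw [e]
        exact FunFld.vdim_le_one_of_genus_pos (hU _) hpos (V _) (D _) (A _) (hD _)
      | succ i ih =>
        intro j hj
        have hj' : (j : ℕ) + 1 < n := by omega
        have h1 := ih ⟨(j : ℕ) + 1, hj'⟩ (by show (j : ℕ) + 1 + 1 + i = n; omega)
        have e : (⟨(j : ℕ) + 1, hj'⟩ : Fin n).castSucc = j.succ := Fin.ext rfl
        have h3 := FunFld.vdim_le_of_compat (hU (⟨(j : ℕ) + 1, hj'⟩ : Fin n).castSucc) (hD _)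
          (hV _) (hVr _)
          (VZ := V (⟨(j : ℕ) + 1, hj'⟩ : Fin n).succ) (DZ := D (⟨(j : ℕ) + 1, hj'⟩ : Fin n).succ)
          (Q := A (⟨(j : ℕ) + 1, hj'⟩ : Fin n).succ)
          (P := B (⟨(j : ℕ) + 1, hj'⟩ : Fin n).castSucc)
          (fun m hm => hcomp ⟨(j : ℕ) + 1, hj'⟩ m hm)
          (P' := A (⟨(j : ℕ) + 1, hj'⟩ : Fin n).castSucc)
          (hAB _ (by show 0 < (j : ℕ) + 1; omega) (by show (j : ℕ) + 1 < n; omega)) (d - 1)
        have e' : ((d - 1 : ℕ) : ℤ) = (d : ℤ) - 1 := by omega
        rw [e'] at h3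
        rw [← e]
        exact h3.trans h1
    obtain ⟨j, rfl⟩ : ∃ j : Fin n, j.castSucc = l := ⟨⟨l, hln⟩, Fin.ext rfl⟩
    have hjn : (j : ℕ) < n := j.2
    have h0 := claim (n - 1 - j) j (by omega)
    have h3 := hcomp j 2 (by omega)
    have e : (d : ℤ) + 1 - ((2 : ℕ) : ℤ) = (d : ℤ) - 1 := by push_cast; ring
    rw [e] at h3
    unfold FunFld.vdim at h0 ⊢
    have e2 : ((2 : ℕ) : ℤ) = 2 := by norm_num
    rw [e2] at h3
    omega
  have hB := FunFld.cusp_le_wsum (hU l) (V l) (D l) (B l) (hV l) (hD l) (hVr l) hcuspB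
  have h3 := FunFld.plucker_three (hU l) (hrat l hl0 hln) (V l) (D l) (hV l) (hD l) (hVr l)
    (hAB l hl0 hln) hQ'A.symm hQ'B.symm
  show FunFld.wsum (V l) (D l) Q' d + c + r + r * (r + 1) ≤ (r + 1) * d + r * (r + 1) / 2
  omega

end Groth.Agent.S18185
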