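import Groth.Statements.S18368
import Groth.Agent.Lib.RigidGen_helper4
import Groth.Agent.Lib.RigidLN_helper4

set_option autoImplicit false
universe u
open CategoryTheory CategoryTheory.Limits MonoidalCategory CartesianMonoidalCategory AlgebraicGeometry
open AbVar

namespace Groth.Agent.S18368

/-- Let k be a field, X and Y geometrically integral k-schemes of finite type with X proper, Z a
separated k-scheme and f : X ×_k Y → Z a k-morphism (products in the cartesian monoidal category of
k-schemes). If for some algebraically closed field K over k there are points y₀ : Spec K → Y and z₀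
: Spec K → Z over k such that f restricted to X ×_k Spec K along y₀ is the constant map z₀, then f
factors uniquely through the second projection: there is exactly one g : Y → Z over k with f = pr₂ ≫
g. (The target Z is not assumed to be of finite type over k.) -/
theorem result (k : Type u) [Field k]
    (X Y Z : Over (Spec (CommRingCat.of k)))
    [IsProper X.hom] [GeometricallyIntegral X.hom]
    [LocallyOfFiniteType Y.hom] [QuasiCompact Y.hom] [GeometricallyIntegral Y.hom]
    [IsSeparated Z.hom] (f : X ⊗ Y ⟶ Z)
    (K : Type u) [Field K] [Algebra k K] [IsAlgClosed K]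
    (y₀ : (Over.mk (Spec.map (CommRingCat.ofHom (algebraMap k K))) : Over (Spec (CommRingCat.of k))) ⟶ Y)
    (z₀ : (Over.mk (Spec.map (CommRingCat.ofHom (algebraMap k K))) : Over (Spec (CommRingCat.of k))) ⟶ Z)
    (h : (X ◁ y₀) ≫ f = snd X _ ≫ z₀) :
    ∃! g : Y ⟶ Z, f = snd X Y ≫ g := by
  classical
  haveI hsub : Subsingleton (Spec (CommRingCat.of k)) :=
    inferInstanceAs (Subsingleton (PrimeSpectrum k))
  haveI : IsIntegral (Spec (CommRingCat.of k)) := inferInstance
  haveI : Flat X.hom := inferInstance
  haveI : LocallyOfFinitePresentation X.hom := inferInstance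
  haveI : GeometricallyConnected X.hom :=
    Groth.Agent.Lib.RigidLNH4.geometricallyConnected_of_irreducible _
  haveI : GeometricallyReduced X.hom := inferInstance
  obtain ⟨g, hg⟩ : ∃ g : (X ⊗ Y).left ⟶ Y.left, g = pullback.snd X.hom Y.hom := ⟨_, rfl⟩
  have hgs : (snd X Y).left = g := hg.symm
  haveI : IsProper g := by rw [hg]; infer_instance
  haveI : Flat g := by rw [hg]; infer_instance
  haveI : LocallyOfFinitePresentation g := by rw [hg]; infer_instance
  haveI : GeometricallyConnected g := by rw [hg]; infer_instance
  haveI : GeometricallyReduced g := by rw [hg]; infer_instance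
  have hf : f.left ≫ Z.hom = g ≫ Y.hom := by
    rw [Over.w f, hg]
    exact pullback.condition
  -- the locus is clopen
  have hopen := Groth.Agent.Lib.RigidGenH4.isOpen_locus g f.left
  have hclosed := Groth.Agent.Lib.RigidGenH4.isClosed_locus g f.left Y.hom Z.hom hf
  haveI : IsIntegral Y.left := GeometricallyIntegral.isIntegral_of_subsingleton Y.hom
  -- the point
  let SK : Over (Spec (CommRingCat.of k)) :=
    Over.mk (Spec.map (CommRingCat.ofHom (algebraMap k K)))
  haveI : Subsingleton (Spec (CommRingCat.of K)) :=
    inferInstanceAs (Subsingleton (PrimeSpectrum K))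
  obtain ⟨pt⟩ : Nonempty (Spec (CommRingCat.of K)) :=
    inferInstanceAs (Nonempty (PrimeSpectrum K))
  have hmem : y₀.left.base pt ∈ Groth.Agent.Lib.RigidGenH4.locus g f.left := by
    refine ⟨z₀.left.base pt, fun x hx => ?_⟩
    -- the pullback square
    have hsq : IsPullback (X ◁ y₀).left (pullback.snd X.hom SK.hom) g y₀.left := by
      refine IsPullback.of_right (h₁₂ := pullback.fst X.hom Y.hom) (v₁₃ := X.hom)
        (h₂₂ := Y.hom) ?_ ?_ ?_
      · have e1 : (X ◁ y₀).left ≫ pullback.fst X.hom Y.hom = pullback.fst X.hom SK.hom :=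
          (Over.whiskerLeft_left_fst y₀).trans rfl
        have e2 : y₀.left ≫ Y.hom = SK.hom := Over.w y₀
        rw [e1, e2]
        exact IsPullback.of_hasPullback X.hom SK.hom
      · rw [hg]
        exact Over.whiskerLeft_left_snd y₀
      · rw [hg]
        exact IsPullback.of_hasPullback X.hom Y.hom
    obtain ⟨x', hx'1, hx'2⟩ := Scheme.exists_preimage_of_isPullback hsq x pt hx
    have h' := congrArg (fun φ => φ.left) h
    simp only [Over.comp_left] at h'
    rw [← hx'1, ← Scheme.Hom.comp_apply, h', Scheme.Hom.comp_apply]
    exact congrArg _ (Subsingleton.elim (α := ↥(Spec (CommRingCat.of K))) _ _)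
  have huniv : Groth.Agent.Lib.RigidGenH4.locus g f.left = Set.univ :=
    IsClopen.eq_univ ⟨hclosed, hopen⟩ ⟨_, hmem⟩
  obtain ⟨k', hk'⟩ := Groth.Agent.Lib.RigidGenH4.exists_factor_of_univ g f.left
    (fun t => by rw [huniv]; trivial)
  haveI : Epi g := Groth.Agent.Lib.RigidGenH4.epi_of_fibres g
  have hk'w : k' ≫ Z.hom = Y.hom := by
    rw [← cancel_epi g, ← Category.assoc, ← hk', hf]
  refine ⟨Over.homMk k' hk'w, ?_, ?_⟩
  · ext
    simp only [Over.comp_left, Over.homMk_left, hgs]
    exact hk'
  · intro g' hg'
    ext
    simp only [Over.homMk_left]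
    have := congrArg (fun φ => φ.left) hg'
    simp only [Over.comp_left, hgs] at this
    rw [← cancel_epi g, ← this, hk']

end Groth.Agent.S18368
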