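import Groth.Statements.S18370
import Mathlib

set_option autoImplicit false
universe u
open CategoryTheory CategoryTheory.Limits MonoidalCategory CartesianMonoidalCategory MonObj GrpObj AlgebraicGeometry
open GrpSch

namespace Groth.Agent.S18370

/-- Let S be a scheme and G a commutative S-group scheme which is killed by a natural number n, i.e. the
n-th power map of G is the trivial homomorphism, and let n = a·b with a and b coprime. If i_a : G_a
→ G and i_b : G_b → G are scheme-theoretic kernels of the a-th and b-th power maps of G, then the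
morphism G_a ×_S G_b → G sending (x, y) to i_a(x)·i_b(y) is an isomorphism of S-schemes. (The
published statement assumes n ≠ 0; the case n = 0, where {a, b} = {0, 1} and one kernel is all of G
while the other is trivial, is included here.) -/
theorem result {S : Scheme.{u}} (G Ga Gb : Over S)
    [GrpObj G] [IsCommMonObj G] (n a b : ℕ) (hn : n = a * b) (hab : Nat.Coprime a b)
    (hG : (𝟙 G) ^ n = 1)
    (ia : Ga ⟶ G) (hia : AlgGrp.IsKernel ia ((𝟙 G) ^ a))
    (ib : Gb ⟶ G) (hib : AlgGrp.IsKernel ib ((𝟙 G) ^ b)) :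
    IsIso ((fst Ga Gb ≫ ia) * (snd Ga Gb ≫ ib)) := by
  classical
  have hbez : (a : ℤ) * Nat.gcdA a b + (b : ℤ) * Nat.gcdB a b = 1 := by
    have := Nat.gcd_eq_gcd_ab a b
    rw [hab.gcd_eq_one] at this
    simpa using this.symm
  obtain ⟨u, hu⟩ : ∃ u : ℤ, u = Nat.gcdA a b := ⟨_, rfl⟩
  obtain ⟨v, hv⟩ : ∃ v : ℤ, v = Nat.gcdB a b := ⟨_, rfl⟩
  rw [← hu, ← hv] at hbez
  have hpow : ∀ {T : Over S} (g : T ⟶ G), g ^ n = 1 := by
    intro T g
    have := congrArg (fun h => g ≫ h) hG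
    simpa [MonObj.comp_pow, MonObj.comp_one] using this
  have hka : ∀ {T : Over S} (x : T ⟶ Ga), (x ≫ ia) ^ a = 1 := by
    intro T x
    have h1 : (x ≫ ia) ^ a = (x ≫ ia) ≫ (𝟙 G) ^ a := by rw [MonObj.comp_pow, Category.comp_id]
    rw [h1, Category.assoc, hia.w, ← Category.assoc, Hom.one_def]
    congr 1
    exact toUnit_unique _ _
  have hkb : ∀ {T : Over S} (x : T ⟶ Gb), (x ≫ ib) ^ b = 1 := by
    intro T x
    have h1 : (x ≫ ib) ^ b = (x ≫ ib) ≫ (𝟙 G) ^ b := by rw [MonObj.comp_pow, Category.comp_id]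
    rw [h1, Category.assoc, hib.w, ← Category.assoc, Hom.one_def]
    congr 1
    exact toUnit_unique _ _
  have hza : ∀ {T : Over S} (g : T ⟶ G), (g ^ ((b : ℤ) * v)) ^ a = 1 := by
    intro T g
    rw [← _root_.zpow_natCast, ← _root_.zpow_mul,
      show (b : ℤ) * v * (a : ℤ) = (n : ℤ) * v by rw [hn]; push_cast; ring,
      _root_.zpow_mul, _root_.zpow_natCast, hpow, _root_.one_zpow]
  have hzb : ∀ {T : Over S} (g : T ⟶ G), (g ^ ((a : ℤ) * u)) ^ b = 1 := by
    intro T g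
    rw [← _root_.zpow_natCast, ← _root_.zpow_mul,
      show (a : ℤ) * u * (b : ℤ) = (n : ℤ) * u by rw [hn]; push_cast; ring,
      _root_.zpow_mul, _root_.zpow_natCast, hpow, _root_.one_zpow]
  have wa : ((𝟙 G) ^ ((b : ℤ) * v)) ≫ (𝟙 G) ^ a = toUnit G ≫ η[G] := by
    rw [MonObj.comp_pow, Category.comp_id, hza, Hom.one_def]
  have wb : ((𝟙 G) ^ ((a : ℤ) * u)) ≫ (𝟙 G) ^ b = toUnit G ≫ η[G] := by
    rw [MonObj.comp_pow, Category.comp_id, hzb, Hom.one_def]
  obtain ⟨pa, hpa⟩ : ∃ pa : G ⟶ Ga, pa ≫ ia = (𝟙 G) ^ ((b : ℤ) * v) :=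
    ⟨hia.lift _ _ wa, hia.lift_fst _ _ wa⟩
  obtain ⟨pb, hpb⟩ : ∃ pb : G ⟶ Gb, pb ≫ ib = (𝟙 G) ^ ((a : ℤ) * u) :=
    ⟨hib.lift _ _ wb, hib.lift_fst _ _ wb⟩
  have hmono_a : ∀ {T : Over S} (x y : T ⟶ Ga), x ≫ ia = y ≫ ia → x = y :=
    fun x y h => hia.hom_ext h (toUnit_unique _ _)
  have hmono_b : ∀ {T : Over S} (x y : T ⟶ Gb), x ≫ ib = y ≫ ib → x = y :=
    fun x y h => hib.hom_ext h (toUnit_unique _ _)
  have e1a : (snd Ga Gb ≫ ib) ^ ((b : ℤ) * v) = 1 := by
    rw [_root_.zpow_mul, _root_.zpow_natCast, hkb, _root_.one_zpow]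
  have e1b : (fst Ga Gb ≫ ia) ^ ((a : ℤ) * u) = 1 := by
    rw [_root_.zpow_mul, _root_.zpow_natCast, hka, _root_.one_zpow]
  have e2a : (fst Ga Gb ≫ ia) ^ ((b : ℤ) * v) = fst Ga Gb ≫ ia := by
    have : (b : ℤ) * v = 1 - (a : ℤ) * u := by linarith [hbez]
    rw [this, _root_.zpow_sub, _root_.zpow_one, e1b, _root_.inv_one, _root_.mul_one]
  have e2b : (snd Ga Gb ≫ ib) ^ ((a : ℤ) * u) = snd Ga Gb ≫ ib := by
    have : (a : ℤ) * u = 1 - (b : ℤ) * v := by linarith [hbez]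
    rw [this, _root_.zpow_sub, _root_.zpow_one, e1a, _root_.inv_one, _root_.mul_one]
  refine ⟨lift pa pb, ?_, ?_⟩
  · apply CartesianMonoidalCategory.hom_ext
    · rw [Category.assoc, lift_fst, Category.id_comp]
      apply hmono_a
      rw [Category.assoc, hpa, GrpObj.comp_zpow, Category.comp_id, _root_.mul_zpow, e1a, e2a,
        _root_.mul_one]
    · rw [Category.assoc, lift_snd, Category.id_comp]
      apply hmono_b
      rw [Category.assoc, hpb, GrpObj.comp_zpow, Category.comp_id, _root_.mul_zpow, e1b, e2b,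
        _root_.one_mul]
  · rw [MonObj.comp_mul, ← Category.assoc, lift_fst, ← Category.assoc, lift_snd, hpa, hpb,
      ← _root_.zpow_add, show (b : ℤ) * v + (a : ℤ) * u = 1 by linarith [hbez], _root_.zpow_one]

end Groth.Agent.S18370
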