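import Groth.Statements.S18386
import Mathlib

set_option autoImplicit false
universe u
open LVCorr

namespace Groth.Agent.S18386

open AlgebraicGeometry in
/-- Let X be a connected Noetherian scheme and I a quasi-coherent sheaf of ideals on X, different from
the structure sheaf, such that I^k = I^(k+1) for some natural number k. Then I^k = 0. -/
theorem result (X : Scheme.{u}) [AlgebraicGeometry.IsNoetherian X]
    [ConnectedSpace X] (I : X.IdealSheafData) (hI : I ≠ ⊤) (k : ℕ)
    (h : I ^ k = I ^ (k + 1)) : I ^ k = ⊥ := by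
  classical
  have hk : k ≠ 0 := by
    rintro rfl
    apply hI
    rw [pow_zero, zero_add, pow_one] at h
    exact h.symm
  have halg : ∀ U : X.affineOpens, ∃ e : Γ(X, U.1), IsIdempotentElem e ∧
      (I.ideal U) ^ k = Ideal.span {e} := by
    intro U
    have : IsNoetherianRing Γ(X, U.1) := IsLocallyNoetherian.component_noetherian U
    have hJ : (I.ideal U) ^ k = (I.ideal U) ^ (k + 1) := by
      have := congrArg (fun K : X.IdealSheafData => K.ideal U) h
      simpa using this
    have hJ' : ∀ m, (I.ideal U) ^ (k + m) = (I.ideal U) ^ k := by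
      intro m
      induction m with
      | zero => rfl
      | succ m ih => rw [← add_assoc, pow_succ, ih, ← pow_succ, ← hJ]
    have hidem : IsIdempotentElem ((I.ideal U) ^ k) := by
      show _ * _ = _
      rw [← pow_add, hJ']
    exact (Ideal.isIdempotentElem_iff_of_fg _ (IsNoetherian.noetherian _)).mp hidem
  have hZopen : IsOpen (I.support : Set X) := by
    rw [isOpen_iff_forall_mem_open]
    intro x hx
    obtain ⟨_, ⟨U, hU, rfl⟩, hxU, -⟩ :=
      X.isBasis_affineOpens.exists_subset_of_mem_open (Set.mem_univ x) isOpen_univ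
    obtain ⟨e, he, hJe⟩ := halg ⟨U, hU⟩
    have heJ : e ∈ I.ideal ⟨U, hU⟩ :=
      Ideal.pow_le_self hk (hJe ▸ Ideal.mem_span_singleton_self e)
    refine ⟨X.basicOpen (1 - e), ?_, (X.basicOpen (1 - e)).isOpen, ?_⟩
    · intro y hy
      have hyU : y ∈ U := X.basicOpen_le _ hy
      rw [SetLike.mem_coe, Scheme.IdealSheafData.mem_support_iff_of_mem (U := ⟨U, hU⟩) hyU,
        Scheme.mem_zeroLocus_iff]
      intro f hf hyf
      have hfk : f ^ k ∈ Ideal.span {e} := hJe ▸ Ideal.pow_mem_pow hf k
      obtain ⟨a, ha⟩ := Ideal.mem_span_singleton'.mp hfk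
      have h1 : y ∈ X.basicOpen (f ^ k) := by
        rw [X.basicOpen_pow _ (Nat.pos_of_ne_zero hk)]; exact hyf
      rw [← ha, Scheme.basicOpen_mul] at h1
      have h2 : y ∈ X.basicOpen (e * (1 - e)) := by
        rw [Scheme.basicOpen_mul]; exact ⟨h1.2, hy⟩
      rw [mul_sub, mul_one, he.eq, sub_self, Scheme.basicOpen_zero] at h2
      simp at h2
    · have hxe : x ∉ X.basicOpen e := by
        have := (Scheme.IdealSheafData.mem_support_iff_of_mem (U := ⟨U, hU⟩) hxU).mp hx
        rw [Scheme.mem_zeroLocus_iff] at this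
        exact this e heJ
      have hle := X.basicOpen_add_le e (1 - e)
      rw [add_sub_cancel, X.basicOpen_of_isUnit isUnit_one] at hle
      have := hle hxU
      rw [← SetLike.mem_coe, TopologicalSpace.Opens.coe_sup, Set.mem_union] at this
      rcases this with h1 | h1
      · exact absurd h1 hxe
      · exact h1
  have hZne : (I.support : Set X).Nonempty := by
    rw [Set.nonempty_iff_ne_empty]
    intro h0
    apply hI
    rw [← Scheme.IdealSheafData.support_eq_bot_iff]
    exact TopologicalSpace.Closeds.ext h0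
  have hZuniv : (I.support : Set X) = Set.univ :=
    IsClopen.eq_univ ⟨I.support.isClosed, hZopen⟩ hZne
  apply Scheme.IdealSheafData.ext
  funext U
  show (I.ideal U) ^ k = ⊥
  obtain ⟨e, he, hJe⟩ := halg U
  have heJ : e ∈ I.ideal U := Ideal.pow_le_self hk (hJe ▸ Ideal.mem_span_singleton_self e)
  have hbot : X.basicOpen e = ⊥ := by
    rw [eq_bot_iff]
    intro y hy
    have hyU : y ∈ U.1 := X.basicOpen_le _ hy
    have hyZ : y ∈ I.support := by
      have : y ∈ (I.support : Set X) := hZuniv ▸ Set.mem_univ y
      exact this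
    have := (Scheme.IdealSheafData.mem_support_iff_of_mem hyU).mp hyZ
    rw [Scheme.mem_zeroLocus_iff] at this
    exact absurd hy (this e heJ)
  have hnil : IsNilpotent e :=
    (Scheme.isNilpotent_iff_basicOpen_eq_bot_of_isCompact U.2.isCompact e).mpr hbot
  obtain ⟨n, hn⟩ := hnil
  have he0 : e = 0 := by
    rcases n with _ | n
    · rw [pow_zero] at hn
      rw [← mul_one e, hn, mul_zero]
    · rw [he.pow_succ_eq] at hn; exact hn
  rw [hJe, he0]; simp

end Groth.Agent.S18386
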