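import Groth.Statements.S18387
import Mathlib.RingTheory.Artinian.Ring
import Mathlib.RingTheory.Artinian.Algebra
import Mathlib.LinearAlgebra.FiniteDimensional.Lemmas
import Mathlib.LinearAlgebra.Dimension.Constructions

set_option autoImplicit false
universe u
open LVCorr

namespace Groth.Agent.S18387

/-- In the affine form which its proof establishes. Let A be a commutative algebra over a field F which
is finite-dimensional of dimension d over F. Then the d-th power of the nilradical of A vanishes.
(Applied to the fibre algebra A = B/mB of a quasi-finite morphism over a closed point with maximal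
ideal m, this says that the d-th power of the radical of mB lies in mB, i.e. the ramification of the
morphism at that point is at most the degree d of the fibre.) -/
theorem result (F A : Type u) [Field F] [CommRing A] [Algebra F A]
    [FiniteDimensional F A] : nilradical A ^ Module.finrank F A = ⊥ := by
  classical
  set N := nilradical A with hN
  set d := Module.finrank F A with hd
  haveI : IsArtinianRing A := IsArtinianRing.of_finite F A
  obtain ⟨m, hm⟩ : ∃ m : ℕ, N ^ m = ⊥ := by
    have h := IsArtinianRing.isNilpotent_nilradical (R := A)
    obtain ⟨m, hm⟩ := h
    exact ⟨m, by rw [hN]; exact hm⟩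
  -- stabilisation forces vanishing
  have hstab : ∀ k : ℕ, N ^ (k + 1) = N ^ k → N ^ k = ⊥ := by
    intro k hk
    have hall : ∀ j : ℕ, N ^ (k + j) = N ^ k := by
      intro j
      induction j with
      | zero => rfl
      | succ j ih =>
        rw [← add_assoc, pow_succ, ih, ← pow_succ, hk]
    have h1 := hall m
    rw [pow_add, hm, Ideal.mul_bot] at h1
    exact h1.symm
  have key : ∀ k : ℕ, N ^ k = ⊥ ∨
      Module.finrank F ((N ^ k).restrictScalars F) + k ≤ d := by
    intro k
    induction k with
    | zero =>
      right
      rw [pow_zero, Ideal.one_eq_top, add_zero, hd]
      have e : (⊤ : Ideal A).restrictScalars F = (⊤ : Submodule F A) := by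
        ext x; simp
      rw [e, finrank_top]
    | succ k ih =>
      rcases ih with h0 | hle
      · left; rw [pow_succ, h0, Ideal.bot_mul]
      · by_cases heq : N ^ (k + 1) = N ^ k
        · left
          rw [heq]; exact hstab k heq
        · right
          have hlt : N ^ (k + 1) < N ^ k :=
            lt_of_le_of_ne (Ideal.pow_le_pow_right (Nat.le_succ k)) heq
          have hlt' : (N ^ (k + 1)).restrictScalars F < (N ^ k).restrictScalars F := by
            constructor
            · intro x hx; exact hlt.le hx
            · intro hcon
              exact hlt.not_ge (fun x hx => hcon hx)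
          have := Submodule.finrank_lt_finrank_of_lt hlt'
          omega
  rcases key d with h0 | hle
  · exact h0
  · have hz : Module.finrank F ((N ^ d).restrictScalars F) = 0 := by omega
    have hbot : (N ^ d).restrictScalars F = ⊥ := Submodule.finrank_eq_zero.mp hz
    rw [eq_bot_iff]
    intro x hx
    have : x ∈ (N ^ d).restrictScalars F := hx
    rw [hbot] at this
    exact this

end Groth.Agent.S18387
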