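import Groth.Statements.S18389
import Mathlib

set_option autoImplicit false
universe u
open LVCorr

namespace Groth.Agent.S18389

open AlgebraicGeometry CategoryTheory in
/-- Let j : C → C̄ be an open immersion with dense image and jX : X → X̄ an open immersion, and let c₁ :
C → X and c̄₁ : C̄ → X̄ satisfy j followed by c̄₁ equals c₁ followed by jX, with c̄₁ separated. Let
U be an open subset of X such that c₁⁻¹(U) is dense in C and the restriction c₁⁻¹(U) → U of c₁ is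
proper. Then c̄₁⁻¹(jX(U)) = j(c₁⁻¹(U)) as open subsets of C̄. (In the source all schemes are
separated of finite type over a field, C̄ and X̄ are compactifications of a correspondence and of X,
so that c̄₁ is automatically separated.) -/
theorem result {C Cb X Xb : Scheme.{u}}
    (j : C ⟶ Cb) [IsOpenImmersion j] (hj : DenseRange j.base)
    (jX : X ⟶ Xb) [IsOpenImmersion jX] (c₁ : C ⟶ X) (cb₁ : Cb ⟶ Xb) [IsSeparated cb₁]
    (h : j ≫ cb₁ = c₁ ≫ jX) (U : X.Opens) (hU : Dense ((c₁ ⁻¹ᵁ U : C.Opens) : Set C))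
    [IsProper (c₁ ∣_ U)] :
    cb₁ ⁻¹ᵁ (jX ''ᵁ U) = j ''ᵁ (c₁ ⁻¹ᵁ U) := by
  classical
  set W : C.Opens := c₁ ⁻¹ᵁ U with hW
  set V : Cb.Opens := cb₁ ⁻¹ᵁ (jX ''ᵁ U) with hV
  have hcomm : ∀ x : C, cb₁ (j x) = jX (c₁ x) := by
    intro x
    rw [← Scheme.Hom.comp_apply, h, Scheme.Hom.comp_apply]
  have hle : j ''ᵁ W ≤ V := by
    rintro _ ⟨w, hw, rfl⟩
    show cb₁ (j w) ∈ jX ''ᵁ U
    rw [hcomm]
    exact ⟨c₁ w, hw, rfl⟩
  apply le_antisymm _ hle
  have hr1 : Set.range (W.ι ≫ j) ⊆ Set.range V.ι := by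
    rw [Scheme.Opens.range_ι]
    rintro _ ⟨w, rfl⟩
    rw [Scheme.Hom.comp_apply]
    exact hle ⟨w.1, w.2, rfl⟩
  have hr2 : Set.range (V.ι ≫ cb₁) ⊆ Set.range (U.ι ≫ jX) := by
    rintro _ ⟨v, rfl⟩
    rw [Scheme.Hom.comp_apply]
    obtain ⟨u, hu, hu'⟩ := v.2
    exact ⟨⟨u, hu⟩, by rw [Scheme.Hom.comp_apply]; exact hu'⟩
  obtain ⟨f, hf⟩ : ∃ f : (W : Scheme) ⟶ (V : Scheme), f ≫ V.ι = W.ι ≫ j :=
    ⟨IsOpenImmersion.lift V.ι (W.ι ≫ j) hr1, IsOpenImmersion.lift_fac _ _ _⟩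
  obtain ⟨g, hg⟩ : ∃ g : (V : Scheme) ⟶ (U : Scheme), g ≫ (U.ι ≫ jX) = V.ι ≫ cb₁ :=
    ⟨IsOpenImmersion.lift (U.ι ≫ jX) (V.ι ≫ cb₁) hr2, IsOpenImmersion.lift_fac _ _ _⟩
  have hfg : f ≫ g = c₁ ∣_ U := by
    rw [← cancel_mono (U.ι ≫ jX), Category.assoc, hg, reassoc_of% hf, h, morphismRestrict_ι_assoc]
  have hgsep : IsSeparated g := by
    have : IsSeparated (g ≫ (U.ι ≫ jX)) := by rw [hg]; infer_instance
    exact IsSeparated.of_comp g (U.ι ≫ jX)
  have hfprop : IsProper f := by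
    have : IsProper (f ≫ g) := by rw [hfg]; infer_instance
    exact IsProper.of_comp f g
  have hclosed : IsClosed (Set.range f) := f.isClosedMap.isClosed_range
  have hdense : Dense (j '' (W : Set C)) := hj.dense_image j.continuous hU
  intro x hx
  by_contra hxn
  let x' : V := ⟨x, hx⟩
  have hx' : x' ∉ Set.range f := by
    rintro ⟨w, hw⟩
    apply hxn
    refine ⟨w.1, w.2, ?_⟩
    have h1 := congrArg (fun t : V => (t : Cb)) hw
    have h2 : V.ι (f w) = j (W.ι w) := by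
      rw [← Scheme.Hom.comp_apply, hf, Scheme.Hom.comp_apply]
    rw [Scheme.Opens.ι_apply, Scheme.Opens.ι_apply] at h2
    exact h2.symm.trans h1
  have hO : IsOpen (V.ι '' (Set.range f)ᶜ) :=
    V.ι.isOpenEmbedding.isOpenMap _ hclosed.isOpen_compl
  obtain ⟨y, hyO, hyW⟩ := hdense.inter_open_nonempty _ hO ⟨x, x', hx', rfl⟩
  obtain ⟨o, ho, rfl⟩ := hyO
  obtain ⟨w, hw, hwo⟩ := hyW
  apply ho
  refine ⟨⟨w, hw⟩, ?_⟩
  apply V.ι.isOpenEmbedding.injective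
  rw [← Scheme.Hom.comp_apply, hf, Scheme.Hom.comp_apply]
  exact hwo

end Groth.Agent.S18389
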