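import Groth.Statements.S18390

set_option autoImplicit false
universe u
open LVCorr

namespace Groth.Agent.S18390

/-- In the affine, ring-theoretic form which its proof establishes. Let φ : A' → A be a ring
homomorphism, I' a finitely generated ideal of A' and I an ideal of A containing the image of I'.
Then some power I'^k is mapped into I^(k+1) if and only if for every n ≥ 1 and every a ∈ I'^n there
is a k with φ(a)^k ∈ I^(nk+1). (Geometrically, for a morphism f : (X, Z) → (X', Z') of pairs with Z
a closed subscheme of the preimage of Z', the normal cone of Z in X is the spectrum of the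
associated graded algebra of I, and the second condition says that the induced map of normal cones
sends the normal cone of Z set-theoretically into the zero section Z'; the source states the
equivalence in that language.) -/
theorem result (A' A : Type u) [CommRing A'] [CommRing A]
    (φ : A' →+* A) (I' : Ideal A') (hI' : I'.FG) (I : Ideal A) (hle : I'.map φ ≤ I) :
    (∃ k : ℕ, (I' ^ k).map φ ≤ I ^ (k + 1)) ↔
      ∀ n : ℕ, 1 ≤ n → ∀ a ∈ I' ^ n, ∃ k : ℕ, 1 ≤ k ∧ φ a ^ k ∈ I ^ (n * k + 1) := by
  classical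
  constructor
  · rintro ⟨k, hk⟩ n hn a ha
    have hK : (I' ^ (k+1)).map φ ≤ I ^ (k + 1 + 1) := by
      rw [pow_succ, Ideal.map_mul, pow_succ I (k+1)]
      exact Ideal.mul_mono hk hle
    refine ⟨k+1, by omega, ?_⟩
    have h1 : a ^ (k+1) ∈ (I' ^ (k+1)) ^ n := by
      rw [← pow_mul, mul_comm, pow_mul]
      exact Ideal.pow_mem_pow ha (k+1)
    have h2 : φ (a ^ (k+1)) ∈ ((I' ^ (k+1)) ^ n).map φ := Ideal.mem_map_of_mem φ h1
    rw [Ideal.map_pow, map_pow] at h2
    have h3 : ((I' ^ (k+1)).map φ) ^ n ≤ (I ^ (k+1+1)) ^ n := Ideal.pow_right_mono hK n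
    have h4 : (I ^ (k+1+1)) ^ n ≤ I ^ (n * (k+1) + 1) := by
      rw [← pow_mul]
      apply Ideal.pow_le_pow_right
      calc n * (k+1) + 1 ≤ n * (k+1) + n := Nat.add_le_add_left hn _
        _ = (k+1+1) * n := by ring
    exact h4 (h3 h2)
  · intro H
    have hP : ∀ (J : Ideal A'), J.FG → J ≤ I' →
        ∃ k, 1 ≤ k ∧ (J ^ k).map φ ≤ I ^ (k + 1) := by
      intro J hJ
      induction J, hJ using Submodule.fg_induction with
      | singleton x =>
        intro hx
        have hxI : x ∈ I' ^ 1 := by
          rw [pow_one]; exact hx (Submodule.mem_span_singleton_self x)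
        obtain ⟨k, hk1, hk⟩ := H 1 le_rfl x hxI
        refine ⟨k, hk1, ?_⟩
        rw [one_mul] at hk
        have e : (Submodule.span A' {x} : Ideal A') ^ k = Ideal.span {x ^ k} :=
          Ideal.span_singleton_pow x k
        rw [e, Ideal.map_span, Set.image_singleton, Ideal.span_le, Set.singleton_subset_iff,
          map_pow]
        exact hk
      | sup J₁ J₂ _ _ ih₁ ih₂ =>
        intro hJ
        obtain ⟨k₁, hk₁, h₁⟩ := ih₁ (le_sup_left.trans hJ)
        obtain ⟨k₂, hk₂, h₂⟩ := ih₂ (le_sup_right.trans hJ)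
        have hJ₁ : Ideal.map φ (J₁ : Ideal A') ≤ I := (Ideal.map_mono (show (J₁ : Ideal A') ≤ I' from le_sup_left.trans hJ)).trans hle
        have hJ₂ : Ideal.map φ (J₂ : Ideal A') ≤ I := (Ideal.map_mono (show (J₂ : Ideal A') ≤ I' from le_sup_right.trans hJ)).trans hle
        refine ⟨k₁ + k₂, by omega, ?_⟩
        rw [Ideal.map_le_iff_le_comap, ← Ideal.add_eq_sup, add_pow, Ideal.sum_eq_sup]
        apply Finset.sup_le
        intro i hi
        rw [Finset.mem_range] at hi
        refine Ideal.mul_le_left.trans ?_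
        rw [← Ideal.map_le_iff_le_comap, Ideal.map_mul, Ideal.map_pow, Ideal.map_pow]
        by_cases h : k₁ ≤ i
        · obtain ⟨j, rfl⟩ := Nat.exists_eq_add_of_le h
          have e : k₁ + k₂ + 1 = (k₁ + 1) + j + (k₁ + k₂ - (k₁ + j)) := by omega
          rw [e, pow_add I, pow_add I, pow_add (Ideal.map φ J₁)]
          refine Ideal.mul_mono (Ideal.mul_mono ?_ (Ideal.pow_right_mono hJ₁ j))
            (Ideal.pow_right_mono hJ₂ _)
          rw [← Ideal.map_pow]; exact h₁
        · push Not at h
          obtain ⟨j, hj⟩ := Nat.exists_eq_add_of_le (show k₂ ≤ k₁ + k₂ - i by omega)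
          rw [hj]
          have e : k₁ + k₂ + 1 = i + ((k₂ + 1) + j) := by omega
          rw [e, pow_add I, pow_add I, pow_add (Ideal.map φ J₂)]
          refine Ideal.mul_mono (Ideal.pow_right_mono hJ₁ i)
            (Ideal.mul_mono ?_ (Ideal.pow_right_mono hJ₂ j))
          rw [← Ideal.map_pow]; exact h₂
    obtain ⟨k, _, hk⟩ := hP I' hI' le_rfl
    exact ⟨k, hk⟩

end Groth.Agent.S18390
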