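import Groth.Statements.S18392
import Mathlib

set_option autoImplicit false
universe u
open LVCorr

namespace Groth.Agent.S18392

/-- Let A be a normal (integrally closed) Noetherian domain and z an element of A such that the radical
of (z) is prime. Then for every non-empty open subset V of Spec A contained in the basic open set
D(z) (that is, every non-empty open subset of Spec A[1/z]) there is an element x of A, not in the
radical of (z), such that the basic open set D(xz) = Spec A[1/xz] is contained in V. -/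
theorem result (A : Type u) [CommRing A]
    [IsDomain A] [IsNoetherianRing A] [IsIntegrallyClosed A] (z : A)
    (hz : (Ideal.span {z}).radical.IsPrime) (V : Set (PrimeSpectrum A)) (hV : IsOpen V)
    (hVz : V ⊆ (PrimeSpectrum.basicOpen z : Set (PrimeSpectrum A))) (hne : V.Nonempty) :
    ∃ x : A, x ∉ (Ideal.span {z}).radical ∧
      ((PrimeSpectrum.basicOpen (x * z) : TopologicalSpace.Opens (PrimeSpectrum A)) :
        Set (PrimeSpectrum A)) ⊆ V := by
  classical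
  set 𝔭 := (Ideal.span {z}).radical with h𝔭
  have hzp : z ∈ 𝔭 := Ideal.le_radical (Ideal.mem_span_singleton_self z)
  obtain ⟨I, hI⟩ := (PrimeSpectrum.isClosed_iff_zeroLocus_ideal Vᶜ).mp hV.isClosed_compl
  have hIp : I ≤ 𝔭 := by
    have hmem : (⟨𝔭, hz⟩ : PrimeSpectrum A) ∈ Vᶜ := by
      intro hv
      have := hVz hv
      exact this hzp
    rw [hI, PrimeSpectrum.mem_zeroLocus] at hmem
    exact fun a ha => hmem ha
  have hI0 : I ≠ ⊥ := by
    rintro rfl
    obtain ⟨v, hv⟩ := hne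
    have : v ∈ Vᶜ := by rw [hI]; simp
    exact this hv
  have hmin : 𝔭 ∈ (Ideal.span {z}).minimalPrimes :=
    ⟨⟨hz, Ideal.le_radical⟩, fun y hy _ => (hy.1.radical_le_iff).mpr hy.2⟩
  have hht : 𝔭.height ≤ 1 := Ideal.height_le_one_of_isPrincipal_of_mem_minimalPrimes _ 𝔭 hmin
  have hIht : 1 ≤ I.height := by
    rw [ENat.one_le_iff_ne_zero]
    intro h0
    exact hI0 (Ideal.height_eq_zero_iff_eq_bot.mp h0)
  have hpmin : 𝔭 ∈ I.minimalPrimes := Ideal.mem_minimalPrimes_of_height_le hIp (hht.trans hIht)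
  have hfin := I.finite_minimalPrimes_of_isNoetherianRing
  set F := hfin.toFinset.erase 𝔭 with hF
  have hnotle : ¬ (∏ 𝔮 ∈ F, 𝔮) ≤ 𝔭 := by
    rw [Ideal.IsPrime.prod_le hz]
    rintro ⟨𝔮, h𝔮F, h𝔮le⟩
    rw [hF, Finset.mem_erase, Set.Finite.mem_toFinset] at h𝔮F
    have : 𝔭 ≤ 𝔮 := hpmin.2 ⟨h𝔮F.2.1.1, h𝔮F.2.1.2⟩ h𝔮le
    exact h𝔮F.1 (le_antisymm h𝔮le this)
  obtain ⟨x, hxJ, hxp⟩ := SetLike.not_le_iff_exists.mp hnotle
  refine ⟨x, hxp, ?_⟩
  have hxz : x * z ∈ I.radical := by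
    rw [← Ideal.sInf_minimalPrimes, Ideal.mem_sInf]
    intro 𝔮 h𝔮
    by_cases hq : 𝔮 = 𝔭
    · rw [hq]; exact Ideal.mul_mem_left _ _ hzp
    · have h𝔮F : 𝔮 ∈ F := by
        rw [hF, Finset.mem_erase, Set.Finite.mem_toFinset]; exact ⟨hq, h𝔮⟩
      have : (∏ 𝔮 ∈ F, 𝔮) ≤ 𝔮 := Ideal.prod_le_inf.trans (Finset.inf_le h𝔮F)
      exact Ideal.mul_mem_right _ _ (this hxJ)
  intro 𝔯 h𝔯
  by_contra hv
  have h1 : 𝔯 ∈ Vᶜ := hv
  rw [hI, PrimeSpectrum.mem_zeroLocus] at h1
  have h2 : I.radical ≤ 𝔯.asIdeal := (𝔯.2.radical_le_iff).mpr h1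
  exact h𝔯 (h2 hxz)

end Groth.Agent.S18392
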