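import Groth.Statements.S18393
import Mathlib

set_option autoImplicit false
universe u v
open LVCorr

namespace Groth.Agent.S18393

/-- Stated for the underlying continuous maps. Let c₁, c₂ : C → X be continuous maps with C a Noetherian
topological space, let Z be a closed subset of X and B the closure in C of c₂⁻¹(Z) ∖ c₁⁻¹(Z). Call Z
locally invariant when every point x of Z has an open neighbourhood U such that every y in C with
c₂(y) ∈ Z ∩ U and c₁(y) ∈ U satisfies c₁(y) ∈ Z. Then Z is locally invariant if and only if for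
every irreducible subset T of B the closures of c₁(T) and of c₂(T) in X are disjoint. (The source
states this for a correspondence c = (c₁, c₂) : C → X × X of separated schemes of finite type over
an algebraically closed field and for the irreducible components of B; the condition for all
irreducible subsets of B is the same condition.) -/
theorem result {C : Type u} {X : Type v}
    [TopologicalSpace C] [TopologicalSpace X] [TopologicalSpace.NoetherianSpace C]
    (c₁ c₂ : C → X) (hc₁ : Continuous c₁) (hc₂ : Continuous c₂) (Z : Set X) (hZ : IsClosed Z) :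
    (∀ x ∈ Z, ∃ U : Set X, IsOpen U ∧ x ∈ U ∧
        ∀ y : C, c₂ y ∈ Z → c₂ y ∈ U → c₁ y ∈ U → c₁ y ∈ Z) ↔
      ∀ T : Set C, T ⊆ closure (c₂ ⁻¹' Z \ c₁ ⁻¹' Z) → IsIrreducible T →
        closure (c₁ '' T) ∩ closure (c₂ '' T) = ∅ := by
  constructor
  · intro hinv T hTB hT
    rw [Set.eq_empty_iff_forall_notMem]
    rintro x ⟨hx1, hx2⟩
    have hBZ : closure (c₂ ⁻¹' Z \ c₁ ⁻¹' Z) ⊆ c₂ ⁻¹' Z :=
      closure_minimal (fun y hy => hy.1) (hZ.preimage hc₂)
    have hxZ : x ∈ Z := by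
      have h : closure (c₂ '' T) ⊆ Z :=
        closure_minimal (by rintro _ ⟨y, hy, rfl⟩; exact hBZ (hTB hy)) hZ
      exact h hx2
    obtain ⟨U, hU, hxU, hUinv⟩ := hinv x hxZ
    obtain ⟨_, hy1U, y1, hy1T, rfl⟩ := mem_closure_iff.mp hx1 U hU hxU
    obtain ⟨_, hy2U, y2, hy2T, rfl⟩ := mem_closure_iff.mp hx2 U hU hxU
    obtain ⟨y0, hy0T, hy0⟩ := hT.2 (c₁ ⁻¹' U) (c₂ ⁻¹' U) (hU.preimage hc₁) (hU.preimage hc₂)
      ⟨y1, hy1T, hy1U⟩ ⟨y2, hy2T, hy2U⟩
    have hy0B := hTB hy0T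
    obtain ⟨w, hwO, hwW⟩ := mem_closure_iff.mp hy0B (c₁ ⁻¹' U ∩ c₂ ⁻¹' U)
      ((hU.preimage hc₁).inter (hU.preimage hc₂)) hy0
    exact hwW.2 (hUinv w hwW.1 hwO.2 hwO.1)
  · intro hT x hxZ
    obtain ⟨S, hSfin, hSclosed, hSirr, hBS⟩ :=
      TopologicalSpace.NoetherianSpace.exists_finite_set_isClosed_irreducible
        (isClosed_closure (s := c₂ ⁻¹' Z \ c₁ ⁻¹' Z))
    have hch : ∀ t ∈ S, ∃ U : Set X, IsOpen U ∧ x ∈ U ∧
        (Disjoint U (closure (c₁ '' t)) ∨ Disjoint U (closure (c₂ '' t))) := by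
      intro t ht
      have htB : t ⊆ closure (c₂ ⁻¹' Z \ c₁ ⁻¹' Z) := by
        rw [hBS]; exact Set.subset_sUnion_of_mem ht
      have hdisj := hT t htB (hSirr t ht)
      by_cases h1 : x ∈ closure (c₁ '' t)
      · have h2 : x ∉ closure (c₂ '' t) := fun h2 => by
          have h3 : x ∈ closure (c₁ '' t) ∩ closure (c₂ '' t) := ⟨h1, h2⟩
          rw [hdisj] at h3; exact h3
        exact ⟨(closure (c₂ '' t))ᶜ, isClosed_closure.isOpen_compl, h2, Or.inr disjoint_compl_left⟩
      · exact ⟨(closure (c₁ '' t))ᶜ, isClosed_closure.isOpen_compl, h1, Or.inl disjoint_compl_left⟩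
    choose! Uf hUopen hxU hUdisj using hch
    refine ⟨⋂ t ∈ S, Uf t, hSfin.isOpen_biInter (fun t ht => hUopen t ht),
      Set.mem_iInter₂.mpr hxU, ?_⟩
    intro y hyZ hy2 hy1
    by_contra hnot
    have hyB : y ∈ closure (c₂ ⁻¹' Z \ c₁ ⁻¹' Z) := subset_closure ⟨hyZ, hnot⟩
    rw [hBS] at hyB
    obtain ⟨t, ht, hyt⟩ := hyB
    rcases hUdisj t ht with h | h
    · exact Set.disjoint_left.mp h (Set.mem_iInter₂.mp hy1 t ht) (subset_closure ⟨y, hyt, rfl⟩)
    · exact Set.disjoint_left.mp h (Set.mem_iInter₂.mp hy2 t ht) (subset_closure ⟨y, hyt, rfl⟩)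

end Groth.Agent.S18393
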