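import Groth.Statements.S18422
import Mathlib.Topology.Algebra.ClopenNhdofOne
import Mathlib.Topology.Separation.Connected
import Mathlib.Data.Nat.Prime.Basic

set_option autoImplicit false
universe u v
open Pi1

namespace Groth.Agent.S18422

/-- Let p and l be distinct primes, G a profinite group (a compact totally disconnected topological
group) which is pro-p, meaning that every open normal subgroup of G has index a power of p, and H a
profinite group which is pro-l in the same sense. Then every continuous group homomorphism from G to
H is trivial. -/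
theorem result {p l : ℕ} (hp : p.Prime) (hl : l.Prime) (hpl : p ≠ l)
    (G : Type u) [Group G] [TopologicalSpace G] [IsTopologicalGroup G] [CompactSpace G]
    [TotallyDisconnectedSpace G]
    (H : Type v) [Group H] [TopologicalSpace H] [IsTopologicalGroup H] [CompactSpace H]
    [TotallyDisconnectedSpace H]
    (hG : ∀ U : OpenNormalSubgroup G, ∃ n : ℕ, U.toSubgroup.index = p ^ n)
    (hH : ∀ V : OpenNormalSubgroup H, ∃ n : ℕ, V.toSubgroup.index = l ^ n)
    (f : G →* H) (hf : Continuous f) (g : G) : f g = 1 := by
  classical
  by_contra hne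
  have hopen : IsOpen ({f g}ᶜ : Set H) := isOpen_compl_singleton
  have h1 : (1 : H) ∈ ({f g}ᶜ : Set H) := by
    simp only [Set.mem_compl_iff, Set.mem_singleton_iff]
    exact fun h => hne h.symm
  obtain ⟨V, hV⟩ := ProfiniteGrp.exist_openNormalSubgroup_sub_open_nhds_of_one hopen h1
  have hfgV : f g ∉ (V : Subgroup H) := by
    intro hmem
    exact (hV hmem) rfl
  -- the preimage of V
  let U : OpenNormalSubgroup G :=
    { toSubgroup := (V : Subgroup H).comap f
      isOpen' := V.isOpen'.preimage hf
      isNormal' := Subgroup.Normal.comap V.isNormal' f }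
  obtain ⟨a, ha⟩ := hG U
  obtain ⟨b, hb⟩ := hH V
  have hidx : ((V : Subgroup H).comap f).index = p ^ a := ha
  have hdvd : ((V : Subgroup H).comap f).index ∣ (V : Subgroup H).index := by
    rw [Subgroup.index_comap]
    exact Subgroup.relIndex_dvd_index_of_normal _ _
  have hb' : (V : Subgroup H).index = l ^ b := hb
  rw [hidx, hb'] at hdvd
  have ha0 : a = 0 := by
    by_contra ha0
    have hpdvd : p ∣ l ^ b := dvd_trans (dvd_pow_self p ha0) hdvd
    have := (Nat.prime_dvd_prime_iff_eq hp hl).mp (hp.dvd_of_dvd_pow hpdvd)
    exact hpl this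
  rw [ha0, pow_zero] at hidx
  have htop : (V : Subgroup H).comap f = ⊤ := Subgroup.index_eq_one.mp hidx
  have : g ∈ (V : Subgroup H).comap f := by rw [htop]; trivial
  exact hfgV this

end Groth.Agent.S18422
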