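import Groth.Statements.S18429
-- import your own Groth.Agent.* helpers here

set_option autoImplicit false
universe u
open SpinCurv

namespace Groth.Agent.S18429

/-- Let n ≥ 1 and r ≥ 2 be integers and let e_0, …, e_{nr} be integers with e_0 = e_{nr} = 0 (the
coefficients of a chain of nr - 1 exceptional curves joining two non-exceptional components with
coefficient zero) such that at every interior index 1 ≤ j ≤ nr - 1 the second difference e_{j-1} - 2
e_j + e_{j+1} (the degree of the divisor Σ e_i E_i on the j-th curve of the chain) is divisible by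
r. Then there are integers e'_0, …, e'_{nr}, with e'_j ≡ e_j modulo r for every interior j, with
e'_0 = e'_{nr} = 0 and every e'_j ≤ 0, whose second differences at the interior indices are each 0
or r, and are nonzero at no two distinct interior indices. -/
theorem result (n r : ℕ) (hn : 1 ≤ n) (hr : 2 ≤ r)
    (e : ℕ → ℤ) (he0 : e 0 = 0) (henr : e (n * r) = 0)
    (hdiv : ∀ j : ℕ, 1 ≤ j → j < n * r → (r : ℤ) ∣ e (j - 1) - 2 * e j + e (j + 1)) :
    ∃ e' : ℕ → ℤ, e' 0 = 0 ∧ e' (n * r) = 0 ∧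
      (∀ j : ℕ, 1 ≤ j → j < n * r → (r : ℤ) ∣ e' j - e j) ∧
      (∀ j : ℕ, j ≤ n * r → e' j ≤ 0) ∧
      (∀ j : ℕ, 1 ≤ j → j < n * r →
        (e' (j - 1) - 2 * e' j + e' (j + 1) = 0 ∨ e' (j - 1) - 2 * e' j + e' (j + 1) = r)) ∧
      (∀ j j' : ℕ, 1 ≤ j → j < n * r → 1 ≤ j' → j' < n * r →
        e' (j - 1) - 2 * e' j + e' (j + 1) ≠ 0 → e' (j' - 1) - 2 * e' j' + e' (j' + 1) ≠ 0 → j = j') := by
  have hrpos : (0 : ℤ) < r := by exact_mod_cast (by omega : 0 < r)
  -- differences d j = e (j+1) - e j are all congruent to d 0 mod r for j < n * r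
  have hd : ∀ j : ℕ, j < n * r → (r : ℤ) ∣ (e (j + 1) - e j) - (e 1 - e 0) := by
    intro j
    induction j with
    | zero => intro _; simp
    | succ j ih =>
      intro hj
      have h1 := ih (by omega)
      have h2 := hdiv (j + 1) (by omega) hj
      have : e (j + 1 + 1) - e (j + 1) - (e 1 - e 0) =
          (e (j + 1 - 1) - 2 * e (j + 1) + e (j + 1 + 1)) + ((e (j + 1) - e j) - (e 1 - e 0)) := by
        simp only [Nat.add_sub_cancel]
        ring
      rw [this]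
      exact dvd_add h2 h1
  have hk : ∀ k : ℕ, k ≤ n * r → (r : ℤ) ∣ (e k - e 0) - k * (e 1 - e 0) := by
    intro k
    induction k with
    | zero => intro _; simp
    | succ k ih =>
      intro hk
      have h1 := ih (by omega)
      have h2 := hd k (by omega)
      have : e (k + 1) - e 0 - ((k + 1 : ℕ) : ℤ) * (e 1 - e 0) =
          ((e (k + 1) - e k) - (e 1 - e 0)) + ((e k - e 0) - k * (e 1 - e 0)) := by
        push_cast
        ring
      rw [this]
      exact dvd_add h2 h1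
  -- choose a
  obtain ⟨a, haZ⟩ : ∃ a : ℕ, (a : ℤ) = (-(e 1)) % (r : ℤ) :=
    ⟨((-(e 1)) % (r : ℤ)).toNat, Int.toNat_of_nonneg (Int.emod_nonneg _ hrpos.ne')⟩
  have halt : a < r := by
    have := Int.emod_lt_of_pos (-(e 1)) hrpos
    rw [← haZ] at this
    exact_mod_cast this
  have hadvd : (r : ℤ) ∣ (a : ℤ) + e 1 := by
    have h1 : (r : ℤ) ∣ (-(e 1)) - (-(e 1)) % (r : ℤ) := Int.dvd_self_sub_emod
    rw [← haZ] at h1
    have : (a : ℤ) + e 1 = -((-(e 1)) - a) := by ring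
    rw [this]
    exact (dvd_neg).mpr h1
  set j0 : ℕ := n * (r - a) with hj0
  have hj0Z : (j0 : ℤ) = n * ((r : ℤ) - a) := by
    rw [hj0]; push_cast [Nat.cast_sub halt.le]; ring
  refine ⟨fun j => -(a : ℤ) * j + r * ((j - j0 : ℕ) : ℤ), ?_, ?_, ?_, ?_, ?_, ?_⟩
  · simp
  · -- e' (n r) = 0
    have : n * r - j0 = n * a := by
      rw [hj0, ← Nat.mul_sub]
      congr 1
      omega
    simp only [this]
    push_cast
    ring
  · intro j hj1 hj2
    have h1 := hk j hj2.le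
    rw [he0] at h1
    simp only [sub_zero] at h1
    -- e' j - e j = -(a + e 1) * j + r * _ - (e j - j * e 1)
    have : -(a : ℤ) * j + r * ((j - j0 : ℕ) : ℤ) - e j =
        -(((a : ℤ) + e 1) * j) + r * ((j - j0 : ℕ) : ℤ) - (e j - j * e 1) := by ring
    rw [this]
    exact dvd_sub (dvd_add ((dvd_neg).mpr (Dvd.dvd.mul_right hadvd _)) (dvd_mul_right _ _)) h1
  · intro j hj
    by_cases hjj : j ≤ j0
    · have : j - j0 = 0 := by omega
      simp only [this]
      have : (0 : ℤ) ≤ (a : ℤ) * j := by positivity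
      simp only [Nat.cast_zero, mul_zero, add_zero]
      linarith
    · rw [not_le] at hjj
      have hc : ((j - j0 : ℕ) : ℤ) = (j : ℤ) - j0 := by
        rw [Nat.cast_sub hjj.le]
      show -(a : ℤ) * j + r * ((j - j0 : ℕ) : ℤ) ≤ 0
      rw [hc, hj0Z]
      have : -(a : ℤ) * j + r * ((j : ℤ) - n * ((r : ℤ) - a)) = ((r : ℤ) - a) * ((j : ℤ) - n * r) := by ring
      rw [this]
      apply mul_nonpos_of_nonneg_of_nonpos
      · have : (a : ℤ) < r := by exact_mod_cast halt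
        linarith
      · have : (j : ℤ) ≤ ((n * r : ℕ) : ℤ) := by exact_mod_cast hj
        push_cast at this
        linarith
  · intro j hj1 hj2
    obtain ⟨k, rfl⟩ : ∃ k, j = k + 1 := ⟨j - 1, by omega⟩
    simp only [Nat.add_sub_cancel]
    have key : ((k - j0 : ℕ) : ℤ) - 2 * ((k + 1 - j0 : ℕ) : ℤ) + ((k + 1 + 1 - j0 : ℕ) : ℤ) =
        if k + 1 = j0 then 1 else 0 := by
      split_ifs <;> omega
    have : -(a : ℤ) * (k : ℕ) + r * ((k - j0 : ℕ) : ℤ) - 2 * (-(a : ℤ) * ((k + 1 : ℕ) : ℤ) + r * ((k + 1 - j0 : ℕ) : ℤ)) +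
        (-(a : ℤ) * ((k + 1 + 1 : ℕ) : ℤ) + r * ((k + 1 + 1 - j0 : ℕ) : ℤ)) =
        r * (((k - j0 : ℕ) : ℤ) - 2 * ((k + 1 - j0 : ℕ) : ℤ) + ((k + 1 + 1 - j0 : ℕ) : ℤ)) := by
      push_cast
      ring
    rw [this, key]
    split_ifs
    · right; ring
    · left; ring
  · intro j j' hj1 hj2 hj1' hj2' h h'
    obtain ⟨k, rfl⟩ : ∃ k, j = k + 1 := ⟨j - 1, by omega⟩
    obtain ⟨k', rfl⟩ : ∃ k, j' = k + 1 := ⟨j' - 1, by omega⟩
    simp only [Nat.add_sub_cancel] at h h'
    have key : ∀ k : ℕ, ((k - j0 : ℕ) : ℤ) - 2 * ((k + 1 - j0 : ℕ) : ℤ) + ((k + 1 + 1 - j0 : ℕ) : ℤ) =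
        if k + 1 = j0 then 1 else 0 := by
      intro k
      split_ifs <;> omega
    have this : ∀ k : ℕ, -(a : ℤ) * (k : ℕ) + r * ((k - j0 : ℕ) : ℤ) - 2 * (-(a : ℤ) * ((k + 1 : ℕ) : ℤ) + r * ((k + 1 - j0 : ℕ) : ℤ)) +
        (-(a : ℤ) * ((k + 1 + 1 : ℕ) : ℤ) + r * ((k + 1 + 1 - j0 : ℕ) : ℤ)) =
        r * (((k - j0 : ℕ) : ℤ) - 2 * ((k + 1 - j0 : ℕ) : ℤ) + ((k + 1 + 1 - j0 : ℕ) : ℤ)) := by
      intro k
      push_cast
      ring
    rw [this, key] at h h'
    have e1 : k + 1 = j0 := by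
      by_contra hne
      rw [if_neg hne] at h
      simp at h
    have e2 : k' + 1 = j0 := by
      by_contra hne
      rw [if_neg hne] at h'
      simp at h'
    omega

end Groth.Agent.S18429
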