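import Groth.Statements.S18431
import Mathlib.RingTheory.LocalRing.MaximalIdeal.Basic
import Mathlib.Algebra.Ring.GeomSum
import Mathlib.RingTheory.Ideal.Maps

set_option autoImplicit false
universe u
open SpinCurv

namespace Groth.Agent.S18431

/-- Let R be a Noetherian local ring in which the natural number r is invertible and let ξ, ζ ∈ R
satisfy ξ^r = 1 and ζ^r = 1. Then either ξ = ζ, or ξ - ζ is a unit of R. (Consequently an element of
R annihilated by ξ - ζ is zero unless ξ = ζ. In the published setting R is moreover complete; the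
step does not use completeness.) -/
theorem result (R : Type u) [CommRing R] [IsNoetherianRing R] [IsLocalRing R]
    (r : ℕ) (hr : IsUnit (r : R)) (ξ ζ : R) (hξ : ξ ^ r = 1) (hζ : ζ ^ r = 1) :
    ξ = ζ ∨ IsUnit (ξ - ζ) := by
  classical
  by_cases hu : IsUnit (ξ - ζ)
  · exact Or.inr hu
  left
  have hr0 : r ≠ 0 := by
    rintro rfl
    simp at hr
  have hζu : IsUnit ζ := IsUnit.of_pow_eq_one hζ hr0
  obtain ⟨ζ', rfl⟩ := hζu
  -- η = ξ ζ⁻¹
  set η : R := ξ * ↑ζ'⁻¹ with hη
  have hηr : η ^ r = 1 := by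
    rw [hη, mul_pow, hξ, one_mul, ← Units.val_pow_eq_pow_val, inv_pow]
    have : (ζ' ^ r : Rˣ) = 1 := by
      apply Units.ext
      simpa using hζ
    rw [this]; simp
  have hηm : η - 1 ∈ IsLocalRing.maximalIdeal R := by
    rw [IsLocalRing.mem_maximalIdeal, mem_nonunits_iff]
    intro h
    apply hu
    have : ξ - ↑ζ' = (η - 1) * ↑ζ' := by
      rw [hη, sub_mul, mul_assoc, Units.inv_mul, mul_one, one_mul]
    rw [this]
    exact h.mul ζ'.isUnit
  -- geometric sum
  have hgeom : (η - 1) * (∑ i ∈ Finset.range r, η ^ i) = 0 := by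
    rw [mul_comm, geom_sum_mul, hηr, sub_self]
  have hsum : IsUnit (∑ i ∈ Finset.range r, η ^ i) := by
    have hmem : (∑ i ∈ Finset.range r, η ^ i) - (r : R) ∈ IsLocalRing.maximalIdeal R := by
      have : (∑ i ∈ Finset.range r, η ^ i) - (r : R) = ∑ i ∈ Finset.range r, (η ^ i - 1) := by
        rw [Finset.sum_sub_distrib]; simp
      rw [this]
      apply Submodule.sum_mem
      intro i _
      have hdvd : η - 1 ∣ η ^ i - 1 := by
        simpa using sub_dvd_pow_sub_pow η 1 i
      obtain ⟨c, hc⟩ := hdvd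
      rw [hc]
      exact Ideal.mul_mem_right _ _ hηm
    by_contra hns
    have h1 : (∑ i ∈ Finset.range r, η ^ i) ∈ IsLocalRing.maximalIdeal R := by
      rwa [IsLocalRing.mem_maximalIdeal, mem_nonunits_iff]
    have h2 : (r : R) ∈ IsLocalRing.maximalIdeal R := by
      have := (IsLocalRing.maximalIdeal R).sub_mem h1 hmem
      simpa using this
    rw [IsLocalRing.mem_maximalIdeal, mem_nonunits_iff] at h2
    exact h2 hr
  have hη1 : η - 1 = 0 := by
    obtain ⟨v, hv⟩ := hsum
    rw [← hv] at hgeom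
    exact (Units.mul_left_eq_zero v).mp hgeom
  have : η = 1 := sub_eq_zero.mp hη1
  rw [hη] at this
  calc ξ = ξ * ↑ζ'⁻¹ * ↑ζ' := by rw [mul_assoc, Units.inv_mul, mul_one]
    _ = ↑ζ' := by rw [this, one_mul]

end Groth.Agent.S18431
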