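import Groth.Statements.S18451
import Mathlib
import Groth.Agent.Lib.Snap78_helper9

set_option autoImplicit false
universe u
open CategoryTheory CategoryTheory.Limits AlgebraicGeometry TopologicalSpace
open Surf

namespace Groth.Agent.S18451

/-- Let k be an algebraically closed field of characteristic zero and X a smooth projective surface over
k (integral, proper and smooth over k, of dimension 2, carrying an ample invertible module). Let
C_1, …, C_r be pairwise distinct integral curves on X (integral closed one-dimensional subschemes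
with ideal sheaves I_1, …, I_r) and write G_{ij} = (I_i·I_j) = χ(O_X) − χ(I_i) − χ(I_j) + χ(I_i ⊗
I_j) for their intersection matrix. Suppose the classes of the C_i span a negative definite
sublattice modulo numerical equivalence: for every integer vector a such that Σ_i a_i [C_i] is
numerically nontrivial, meaning that Σ_i a_i (I_i·M) ≠ 0 for some invertible O_X-module M, one has
Σ_{i,j} a_i a_j G_{ij} < 0. Then the classes are linearly independent, i.e. G itself is negative
definite: Σ_{i,j} a_i a_j G_{ij} < 0 for every nonzero integer vector a. -/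
theorem result (k : Type u) [Field k] [IsAlgClosed k] [CharZero k]
    (X : Scheme.{u}) [X.Over (Spec (CommRingCat.of k))] [IsProper (X ↘ (Spec (CommRingCat.of k)))]
    [Smooth (X ↘ (Spec (CommRingCat.of k)))] [IsIntegral X] (hdim : topologicalKrullDim X = 2)
    (hproj : ∃ H : X.Modules, CohB1.IsAmple H)
    (r : ℕ) (C : Fin r → X.IdealSheafData) (hC : Function.Injective C)
    (hCi : ∀ i, IsIntegral (C i).subscheme) (hCd : ∀ i, topologicalKrullDim ((C i).support : Set X) = 1)
    (hneg : ∀ a : Fin r → ℤ,
      (∃ M : X.Modules, PicF.IsInvertible M ∧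
        ∑ i, a i * FGA.intNum k X 2 ![(ClSub.idealMod (C i)), M] (Coh.structureModule X) ≠ 0) →
      ∑ i, ∑ j, a i * a j * FGA.intNum k X 2 ![(ClSub.idealMod (C i)), (ClSub.idealMod (C j))] (Coh.structureModule X) < 0) :
    ∀ a : Fin r → ℤ, a ≠ 0 →
      ∑ i, ∑ j, a i * a j * FGA.intNum k X 2 ![(ClSub.idealMod (C i)), (ClSub.idealMod (C j))] (Coh.structureModule X) < 0 := by
  have hreg : ∀ x : X, IsRegularLocalRing (X.presheaf.stalk x) :=
    fun x => Groth.Agent.S1535.result k X x
  obtain ⟨H, hH⟩ := hproj
  obtain ⟨H', hH'inv, ⟨eH⟩⟩ := Groth.Agent.InvTensP.exists_inverse H hH.1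
  have hAmp : Snap9.AmpInv H' := ⟨H, hH, ⟨eH⟩⟩
  have hinv : ∀ i, PicF.IsInvertible (ClSub.idealMod (C i)) := by
    intro i
    haveI := hCi i
    exact TensH8.isInvertible_idealMod_of_isEffCartierIdeal (C i)
      (Snap9.isEffCartierIdeal_of_integral_curve k hdim hreg (C i) (hCd i))
  refine Snap9.negdef_abstract
    (fun i j => FGA.intNum k X 2 ![(ClSub.idealMod (C i)), (ClSub.idealMod (C j))]
      (Coh.structureModule X))
    (fun a => ∃ M : X.Modules, PicF.IsInvertible M ∧
        ∑ i, a i * FGA.intNum k X 2 ![(ClSub.idealMod (C i)), M] (Coh.structureModule X) ≠ 0)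
    hneg ?_ ?_ ?_
  · intro a ha j
    by_contra hne
    exact ha ⟨ClSub.idealMod (C j), hinv j, hne⟩
  · intro a ha0 hane
    refine ⟨H', hH'inv, ne_of_gt ?_⟩
    have hpos : ∀ i, 0 < FGA.intNum k X 2 ![(ClSub.idealMod (C i)), H'] (Coh.structureModule X) := by
      intro i
      haveI := hCi i
      exact Snap9.intNum_curve_ampInv_pos k X hdim hreg (C i) (hCd i) H' hAmp
    obtain ⟨i₀, hi₀⟩ : ∃ i, a i ≠ 0 := by
      by_contra hcon
      push_neg at hcon
      exact hane (funext hcon)
    refine Finset.sum_pos' (fun i _ => mul_nonneg (ha0 i) (hpos i).le)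
      ⟨i₀, Finset.mem_univ _, mul_pos (lt_of_le_of_ne (ha0 i₀) (Ne.symm hi₀)) (hpos i₀)⟩
  · intro i j hij
    haveI := hCi i
    haveI := hCi j
    exact Snap9.intNum_curves_nonneg k X hdim hreg (C i) (C j) (hCd i) (hCd j)
      (fun h => hij (hC h))

end Groth.Agent.S18451
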