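import Groth.Statements.S18457
import Mathlib.Algebra.Order.Chebyshev
import Mathlib.Tactic

set_option autoImplicit false
open Finset
open Surf

namespace Groth.Agent.S18457

/-- In the Picard lattice of the plane blown up at n ≤ 8 points, with basis h, e_1, …, e_n, form h² = 1,
e_i² = −1, all other products 0, and anticanonical class D = 3h − Σ e_i, let d·h − Σ a_i e_i be a
class with all a_i ≥ 0 (the class of the strict transform of a degree-d plane curve having
multiplicity a_i at the i-th point) which is a (−2)-class orthogonal to D, that is d² − Σ a_i² = −2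
and 3d = Σ a_i. Then one of the following holds: d = 1 and every a_i is 0 or 1 with exactly three
equal to 1; d = 2 and every a_i is 0 or 1 with exactly six equal to 1; d = 3, n = 8, and one a_i
equals 2 while the remaining seven equal 1. The published statement is geometric: under the
general-position hypotheses on the points, no smooth rational curve on the blown-up plane is
orthogonal to D; this row is the lattice enumeration its proof carries out (a line through three of
the points, a conic through six, a cubic through all eight and singular at one). -/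
theorem result (n : ℕ) (hn : n ≤ 8)
    (d : ℤ) (a : Fin n → ℤ) (ha : ∀ i, 0 ≤ a i)
    (hsq : d ^ 2 - ∑ i, (a i) ^ 2 = -2) (hK : 3 * d = ∑ i, a i) :
    (d = 1 ∧ (∀ i, a i = 0 ∨ a i = 1) ∧ (Finset.univ.filter (fun i => a i = 1)).card = 3) ∨
      (d = 2 ∧ (∀ i, a i = 0 ∨ a i = 1) ∧ (Finset.univ.filter (fun i => a i = 1)).card = 6) ∨
      (d = 3 ∧ n = 8 ∧ ∃ j, a j = 2 ∧ ∀ i, i ≠ j → a i = 1) := by
  classical
  have hN1 : ∑ i, a i = 3 * d := hK.symm
  have hN2 : ∑ i, (a i) ^ 2 = d ^ 2 + 2 := by linarith
  have hcard : ((Finset.univ : Finset (Fin n)).card : ℤ) = n := by simp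
  have hn' : (n : ℤ) ≤ 8 := by exact_mod_cast hn
  -- Cauchy–Schwarz
  have hCS : (∑ i, a i) ^ 2 ≤ (n : ℤ) * ∑ i, (a i) ^ 2 := by
    have := sq_sum_le_card_mul_sum_sq (s := (Finset.univ : Finset (Fin n))) (f := a)
    rwa [hcard] at this
  rw [hN1, hN2] at hCS
  have hd0 : 0 ≤ d := by
    have : 0 ≤ ∑ i, a i := Finset.sum_nonneg (fun i _ => ha i)
    linarith
  have hd4 : d ≤ 4 := by nlinarith
  -- sum of (a i - 1) * (a i - 2)
  have hterm : ∀ i, 0 ≤ (a i - 1) * (a i - 2) := by
    intro i
    rcases le_or_gt (a i) 1 with h | h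
    · nlinarith
    · have : 2 ≤ a i := h
      nlinarith
  have hS12 : ∑ i, (a i - 1) * (a i - 2) = d ^ 2 + 2 - 9 * d + 2 * n := by
    have : ∀ i, (a i - 1) * (a i - 2) = (a i) ^ 2 - 3 * a i + 2 := fun i => by ring
    simp only [this, Finset.sum_add_distrib, Finset.sum_sub_distrib, ← Finset.mul_sum, hN1, hN2]
    simp
    ring
  have hS12nn : 0 ≤ ∑ i, (a i - 1) * (a i - 2) := Finset.sum_nonneg (fun i _ => hterm i)
  -- sum of a i * (a i - 1)
  have hterm01 : ∀ i, 0 ≤ a i * (a i - 1) := by
    intro i
    rcases le_or_gt (a i) 0 with h | h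
    · have := ha i; nlinarith
    · have : 1 ≤ a i := h
      nlinarith
  have hS01 : ∑ i, a i * (a i - 1) = (d - 1) * (d - 2) := by
    have : ∀ i, a i * (a i - 1) = (a i) ^ 2 - a i := fun i => by ring
    simp only [this, Finset.sum_sub_distrib, hN1, hN2]
    ring
  have hd3 : d ≤ 3 := by
    by_contra h
    have : d = 4 := by omega
    subst this
    rw [hS12] at hS12nn
    omega
  have hd1 : 1 ≤ d := by
    by_contra h
    have : d = 0 := by omega
    subst this
    have hz : ∀ i ∈ (Finset.univ : Finset (Fin n)), a i = 0 := by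
      have := (Finset.sum_eq_zero_iff_of_nonneg (fun i _ => ha i)).mp (by simpa using hN1)
      exact this
    have : ∑ i, (a i) ^ 2 = 0 := Finset.sum_eq_zero (fun i hi => by rw [hz i hi]; ring)
    rw [this] at hN2
    omega
  -- helper for 0/1 case
  have h01 : (d - 1) * (d - 2) = 0 → (∀ i, a i = 0 ∨ a i = 1) ∧
      ((Finset.univ.filter (fun i => a i = 1)).card : ℤ) = 3 * d := by
    intro hz
    rw [← hS01] at hz
    have hall := (Finset.sum_eq_zero_iff_of_nonneg (fun i _ => hterm01 i)).mp hz
    have h01' : ∀ i, a i = 0 ∨ a i = 1 := by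
      intro i
      have := hall i (Finset.mem_univ i)
      rcases mul_eq_zero.mp this with h | h
      · left; exact h
      · right; linarith
    refine ⟨h01', ?_⟩
    rw [← hN1, Finset.card_filter]
    push_cast
    apply Finset.sum_congr rfl
    intro i _
    rcases h01' i with h | h <;> simp [h]
  have hcases : d = 1 ∨ d = 2 ∨ d = 3 := by omega
  rcases hcases with rfl | rfl | rfl
  · left
    obtain ⟨h1, h2⟩ := h01 (by norm_num)
    refine ⟨rfl, h1, ?_⟩
    exact_mod_cast h2
  · right; left
    obtain ⟨h1, h2⟩ := h01 (by norm_num)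
    refine ⟨rfl, h1, ?_⟩
    exact_mod_cast h2
  · right; right
    rw [hS12] at hS12nn
    have hn8 : n = 8 := by omega
    subst hn8
    refine ⟨rfl, rfl, ?_⟩
    have hz : ∑ i, (a i - 1) * (a i - 2) = 0 := by rw [hS12]; norm_num
    have hall := (Finset.sum_eq_zero_iff_of_nonneg (fun i _ => hterm i)).mp hz
    have h12 : ∀ i, a i = 1 ∨ a i = 2 := by
      intro i
      have := hall i (Finset.mem_univ i)
      rcases mul_eq_zero.mp this with h | h
      · left; linarith
      · right; linarith
    -- b i = a i - 1 ∈ {0,1}, sum = 1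
    have hb : ∑ i : Fin 8, (a i - 1) = 1 := by
      rw [Finset.sum_sub_distrib, hN1]; simp
    have hex : ∃ j, a j = 2 := by
      by_contra hno
      push Not at hno
      have : ∀ i, a i - 1 = 0 := fun i => by
        rcases h12 i with h | h
        · linarith
        · exact absurd h (hno i)
      have : ∑ i : Fin 8, (a i - 1) = 0 := Finset.sum_eq_zero (fun i _ => this i)
      omega
    obtain ⟨j, hj⟩ := hex
    refine ⟨j, hj, ?_⟩
    intro i hij
    rcases h12 i with h | h
    · exact h
    · exfalso
      have hnn : ∀ l ∈ (Finset.univ : Finset (Fin 8)), 0 ≤ a l - 1 := fun l _ => by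
        rcases h12 l with h | h <;> omega
      have hsub : ({i, j} : Finset (Fin 8)) ⊆ Finset.univ := Finset.subset_univ _
      have hle := Finset.sum_le_sum_of_subset_of_nonneg hsub (fun l hl _ => hnn l hl)
      rw [Finset.sum_pair hij, hb, h, hj] at hle
      omega

end Groth.Agent.S18457
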