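import Groth.Statements.S18465
import Mathlib.Tactic

set_option autoImplicit false
universe u v w x
open WildLef

namespace Groth.Agent.S18465

/-- Let f : G₁ → G₂ be a homomorphism of groups, ρ : G₂ → Γ a homomorphism with finite image G, and A a
nontrivial commutative ring. Let G₂ act on the group algebra A[G] through ρ followed by the left
regular representation, and G₁ through f. If the elements of A[G] fixed by G₁ coincide with those
fixed by G₂, then ρ ∘ f and ρ have the same image. (The published statement has Γ a general linear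
group GL_r(A); over the zero ring that group is trivial, so requiring A nontrivial and allowing any
target group loses nothing.) -/
theorem result
    {G₁ : Type u} {G₂ : Type v} {Γ : Type w} [Group G₁] [Group G₂] [Group Γ]
    (f : G₁ →* G₂) (ρ : G₂ →* Γ) [Finite ρ.range] (A : Type x) [CommRing A] [Nontrivial A]
    (h : {x : MonoidAlgebra A ρ.range | ∀ g : G₁, MonoidAlgebra.of A ρ.range (ρ.rangeRestrict (f g)) * x = x} =
      {x : MonoidAlgebra A ρ.range | ∀ g : G₂, MonoidAlgebra.of A ρ.range (ρ.rangeRestrict g) * x = x}) :
    (ρ.comp f).range = ρ.range := by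
  classical
  haveI : Fintype ρ.range := Fintype.ofFinite _
  -- H = image of G₁ in ρ.range
  set H : Subgroup ρ.range := (ρ.rangeRestrict.comp f).range with hH
  set S : Finset ρ.range := Finset.univ.filter (fun c => c ∈ H) with hS
  set x : MonoidAlgebra A ρ.range := ∑ c ∈ S, MonoidAlgebra.single c (1 : A) with hx
  have hxcoeff : ∀ c : ρ.range, x.coeff c = if c ∈ H then 1 else 0 := by
    intro c
    rw [hx, MonoidAlgebra.coeff_sum, Finsupp.finsetSum_apply]
    simp only [MonoidAlgebra.coeff_single, Finsupp.single_apply]
    rw [Finset.sum_ite_eq' S c]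
    simp [hS]
  -- x is fixed by G₁
  have hx1 : x ∈ {x : MonoidAlgebra A ρ.range | ∀ g : G₁, MonoidAlgebra.of A ρ.range (ρ.rangeRestrict (f g)) * x = x} := by
    intro g
    apply MonoidAlgebra.coeff_injective
    ext c
    rw [MonoidAlgebra.of_apply, MonoidAlgebra.coeff_single_mul_apply, one_mul, hxcoeff, hxcoeff]
    have hg : ρ.rangeRestrict (f g) ∈ H := ⟨g, rfl⟩
    have : (ρ.rangeRestrict (f g))⁻¹ * c ∈ H ↔ c ∈ H := by
      constructor
      · intro h
        have := H.mul_mem hg h
        simpa using this
      · intro h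
        exact H.mul_mem (H.inv_mem hg) h
    simp only [this]
  rw [h] at hx1
  -- so every element of ρ.range lies in H
  have hall : ∀ g : G₂, ρ.rangeRestrict g ∈ H := by
    intro g
    have h2 := hx1 g
    have h3 : (MonoidAlgebra.of A ρ.range (ρ.rangeRestrict g) * x).coeff (ρ.rangeRestrict g) = x.coeff (ρ.rangeRestrict g) := by rw [h2]
    rw [MonoidAlgebra.of_apply, MonoidAlgebra.coeff_single_mul_apply, one_mul, hxcoeff, hxcoeff] at h3
    rw [inv_mul_cancel, if_pos H.one_mem] at h3
    by_contra hng
    rw [if_neg hng] at h3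
    exact one_ne_zero h3
  apply le_antisymm
  · rintro _ ⟨g, rfl⟩
    exact ⟨f g, rfl⟩
  · rintro _ ⟨g, rfl⟩
    obtain ⟨g₁, hg₁⟩ := hall g
    refine ⟨g₁, ?_⟩
    have := congrArg Subtype.val hg₁
    simpa using this

end Groth.Agent.S18465
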