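import Groth.Statements.S18470


set_option autoImplicit false
universe u v
open OortTate

namespace Groth.Agent.S18470

/-- Let R be a commutative ring and A a commutative Hopf algebra over R which is finitely generated and
projective as an R-module (a finite locally free group scheme G = Spec A, not assumed commutative),
and let A^D = Hom_R(A, R) be the dual algebra with its Hopf structure (the Cartier dual when A is
cocommutative), whose counit is evaluation at 1. Then restriction of linear forms to the
augmentation ideal I = ker ε_A of A is a bijection from the augmentation ideal of A^D onto the dual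
module Hom_R(I, R): the dual of the augmentation ideal of G is the augmentation ideal of the dual.
The published statement is for a group scheme of order p over a Λ_p-algebra; the argument uses only
the splitting A = R·1 ⊕ ker ε. -/
theorem result
    (R : Type u) [CommRing R] (A : Type v) [CommRing A] [HopfAlgebra R A]
    [Module.Finite R A] [Module.Projective R A] :
    Function.Bijective (fun f : LinearMap.ker (Bialgebra.counitAlgHom R (CartDual.D R A)).toLinearMap =>
      ((CartDual.toDual R A) (f : CartDual.D R A)).comp
        (LinearMap.ker (Bialgebra.counitAlgHom R A).toLinearMap).subtype) := by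
  classical
  set ε : A →ₗ[R] R := (Bialgebra.counitAlgHom R A).toLinearMap with hε
  have hε1 : ε 1 = 1 := by simp [hε]
  -- the projection onto the augmentation ideal
  let pr : A →ₗ[R] LinearMap.ker ε :=
    LinearMap.codRestrict (LinearMap.ker ε) (LinearMap.id - (Algebra.linearMap R A) ∘ₗ ε) (by
      intro a
      rw [LinearMap.mem_ker, LinearMap.sub_apply, map_sub, LinearMap.id_apply, LinearMap.comp_apply,
        Algebra.linearMap_apply, Algebra.algebraMap_eq_smul_one, map_smul, hε1, smul_eq_mul, mul_one,
        sub_self])
  have hpr : ∀ a : A, ((pr a : LinearMap.ker ε) : A) = a - ε a • (1 : A) := by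
    intro a
    simp [pr, Algebra.algebraMap_eq_smul_one]
  constructor
  · intro f g hfg
    have hf1 : (f : CartDual.D R A) 1 = 0 := LinearMap.mem_ker.mp f.2
    have hg1 : (g : CartDual.D R A) 1 = 0 := LinearMap.mem_ker.mp g.2
    apply Subtype.ext
    apply (CartDual.toDual R A).injective
    apply LinearMap.ext
    intro a
    have h1 := LinearMap.congr_fun hfg (pr a)
    simp only [LinearMap.comp_apply, Submodule.subtype_apply, hpr] at h1
    have e1 : a = (a - ε a • (1 : A)) + ε a • (1 : A) := by rw [sub_add_cancel]
    have hf1' : (CartDual.toDual R A (f : CartDual.D R A)) 1 = 0 := hf1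
    have hg1' : (CartDual.toDual R A (g : CartDual.D R A)) 1 = 0 := hg1
    rw [e1, map_add, map_add, h1, map_smul, map_smul, hf1', hg1']
  · intro φ
    let f0 : CartDual.D R A := (CartDual.toDual R A).symm (φ ∘ₗ pr)
    have hf0 : ∀ a, (CartDual.toDual R A f0) a = φ (pr a) := by
      intro a
      simp [f0]
    have hmem : f0 ∈ LinearMap.ker (Bialgebra.counitAlgHom R (CartDual.D R A)).toLinearMap := by
      rw [LinearMap.mem_ker]
      show Coalgebra.counit (R := R) f0 = 0
      rw [CartDual.coalgebra_counit_apply]
      have h1 : f0 1 = (CartDual.toDual R A f0) 1 := rfl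
      rw [h1, hf0]
      have : pr 1 = 0 := by
        apply Subtype.ext
        rw [hpr, hε1, one_smul, sub_self]; rfl
      rw [this, map_zero]
    refine ⟨⟨f0, hmem⟩, ?_⟩
    apply LinearMap.ext
    intro a
    show (CartDual.toDual R A f0) (a : A) = φ a
    rw [hf0]
    congr 1
    apply Subtype.ext
    rw [hpr]
    have : ε (a : A) = 0 := a.2
    rw [this, zero_smul, sub_zero]

end Groth.Agent.S18470
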