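import Groth.Statements.S18490
import Mathlib

set_option autoImplicit false
universe u
open CategoryTheory CategoryTheory.Limits AlgebraicGeometry
open FlatMor

namespace Groth.Agent.S18490

open CategoryTheory CategoryTheory.Limits AlgebraicGeometry

theorem flat_of_retract {X P S : Scheme.{u}} (s : X ⟶ P) (p : P ⟶ X) (f : X ⟶ S)
    (hs : s ≫ p = 𝟙 X) [Flat (p ≫ f)] : Flat f := by
  rw [Flat.iff_flat_stalkMap]
  intro x
  have hpq : p (s x) = x := by
    have := congrArg (fun t : X ⟶ X => t x) hs
    simpa using this
  have key : ∀ z : X, z = p (s x) → (f.stalkMap z).hom.Flat := by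
    rintro z rfl
    have hα : ((p ≫ f).stalkMap (s x)).hom.Flat := Flat.stalkMap (p ≫ f) (s x)
    have hcomp : (p ≫ f).stalkMap (s x) = f.stalkMap (p (s x)) ≫ p.stalkMap (s x) :=
      Scheme.Hom.stalkMap_comp p f (s x)
    have hsp : (s ≫ p).stalkMap x = p.stalkMap (s x) ≫ s.stalkMap x :=
      Scheme.Hom.stalkMap_comp s p x
    have hiso : IsOpenImmersion (s ≫ p) := by rw [hs]; infer_instance
    have hiso' : IsIso ((s ≫ p).stalkMap x) := by infer_instance
    obtain ⟨c, hc⟩ : ∃ c : X.presheaf.stalk (p (s x)) ≅ X.presheaf.stalk x,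
        p.stalkMap (s x) ≫ s.stalkMap x = c.hom := ⟨@asIso _ _ _ _ ((s ≫ p).stalkMap x) hiso', hsp.symm⟩
    have hπρ : p.stalkMap (s x) ≫ (s.stalkMap x ≫ c.inv) = 𝟙 _ := by
      rw [← Category.assoc, hc, Iso.hom_inv_id]
    let algC : Algebra (S.presheaf.stalk (f (p (s x)))) (X.presheaf.stalk (p (s x))) :=
      (f.stalkMap (p (s x))).hom.toAlgebra
    let algB : Algebra (S.presheaf.stalk (f (p (s x)))) (P.presheaf.stalk (s x)) :=
      ((p ≫ f).stalkMap (s x)).hom.toAlgebra
    have hB : Module.Flat (S.presheaf.stalk (f (p (s x)))) (P.presheaf.stalk (s x)) := hα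
    have hαt : ∀ t, ((p ≫ f).stalkMap (s x)).hom t =
        (p.stalkMap (s x)).hom ((f.stalkMap (p (s x))).hom t) := by
      intro t
      have := congrArg (fun m => m.hom t) hcomp
      exact this
    have hρπ : ∀ c', (c.inv).hom ((s.stalkMap x).hom ((p.stalkMap (s x)).hom c')) = c' := by
      intro c'
      have := congrArg (fun m => m.hom c') hπρ
      exact this
    let i : (X.presheaf.stalk (p (s x))) →ₗ[S.presheaf.stalk (f (p (s x)))] (P.presheaf.stalk (s x)) :=
      { toFun := (p.stalkMap (s x)).hom
        map_add' := map_add _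
        map_smul' := fun t c' => by
          show (p.stalkMap (s x)).hom ((f.stalkMap (p (s x))).hom t * c') =
            ((p ≫ f).stalkMap (s x)).hom t * (p.stalkMap (s x)).hom c'
          rw [map_mul, hαt] }
    let r : (P.presheaf.stalk (s x)) →ₗ[S.presheaf.stalk (f (p (s x)))] (X.presheaf.stalk (p (s x))) :=
      { toFun := fun b => (c.inv).hom ((s.stalkMap x).hom b)
        map_add' := fun a b => by rw [map_add, map_add]
        map_smul' := fun t b => by
          show (c.inv).hom ((s.stalkMap x).hom (((p ≫ f).stalkMap (s x)).hom t * b)) =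
            (f.stalkMap (p (s x))).hom t * (c.inv).hom ((s.stalkMap x).hom b)
          rw [map_mul, map_mul, hαt, hρπ] }
    show Module.Flat (S.presheaf.stalk (f (p (s x)))) (X.presheaf.stalk (p (s x)))
    refine Module.Flat.of_retract i r ?_
    ext c'
    exact hρπ c'
  exact key x hpq.symm


/-- Let f : X → S and g : Y → S be morphisms of schemes and suppose that g has a section y : S → Y. If
the structure morphism X ×_S Y → S (first projection followed by f) is quasi-compact, then so is f;
likewise for locally of finite type, for separated, and for flat. (Finite type, also listed in the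
source, is the conjunction of the first two.) -/
theorem result {X Y S : Scheme.{u}} (f : X ⟶ S) (g : Y ⟶ S)
    (y : S ⟶ Y) (hy : y ≫ g = 𝟙 S) :
    (QuasiCompact (pullback.fst f g ≫ f) → QuasiCompact f) ∧
    (LocallyOfFiniteType (pullback.fst f g ≫ f) → LocallyOfFiniteType f) ∧
    (IsSeparated (pullback.fst f g ≫ f) → IsSeparated f) ∧
    (Flat (pullback.fst f g ≫ f) → Flat f) := by
  have hcond : 𝟙 X ≫ f = (f ≫ y) ≫ g := by rw [Category.id_comp, Category.assoc, hy, Category.comp_id]
  let s : X ⟶ pullback f g := pullback.lift (𝟙 X) (f ≫ y) hcond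
  have hs : s ≫ pullback.fst f g = 𝟙 X := pullback.lift_fst _ _ _
  have hsf : s ≫ (pullback.fst f g ≫ f) = f := by rw [← Category.assoc, hs, Category.id_comp]
  have hsurj : Function.Surjective (pullback.fst f g : pullback f g ⟶ X) := by
    intro x
    refine ⟨s x, ?_⟩
    have := congrArg (fun t : X ⟶ X => t x) hs
    simpa using this
  refine ⟨?_, ?_, ?_, ?_⟩
  · intro hqc
    rw [quasiCompact_iff_forall_isAffineOpen]
    intro U hU
    have h1 := (quasiCompact_iff_forall_isAffineOpen.mp hqc) U hU
    have h2 := h1.image (pullback.fst f g).continuous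
    convert h2 using 1
    ext x
    constructor
    · intro hx
      obtain ⟨z, rfl⟩ := hsurj x
      exact ⟨z, hx, rfl⟩
    · rintro ⟨z, hz, rfl⟩
      exact hz
  · intro hlft
    have h1 : LocallyOfFiniteType s := by
      have : LocallyOfFiniteType (s ≫ pullback.fst f g) := by rw [hs]; infer_instance
      exact locallyOfFiniteType_of_comp s (pullback.fst f g)
    rw [← hsf]; infer_instance
  · intro hsep
    have h1 : IsSeparated s := by
      have : IsSeparated (s ≫ pullback.fst f g) := by rw [hs]; infer_instance
      exact IsSeparated.of_comp s (pullback.fst f g)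
    rw [← hsf]; infer_instance
  · intro hflat
    exact flat_of_retract s (pullback.fst f g) f hs

end Groth.Agent.S18490
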