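import Groth.Statements.S18519
import Mathlib
import Groth.Agent.Lib.StructConst_helper6
import Groth.Agent.Lib.IndexPrimes_helper6
import Groth.Agent.Lib.CancelBC_helper6
import Groth.Agent.S0195
-- import your own Groth.Agent.* helpers here

set_option autoImplicit false
universe u
open scoped TensorProduct
open Brauer

namespace Groth.Agent.S18519


open Groth.Agent.Lib IntermediateField in
theorem fwd (K F : Type u) [Field K] [Field F] [Algebra K F] [Algebra.IsSeparable K F]
    (ha : ∀ (F' : Type u) [Field F'] [Algebra F F'] [FiniteDimensional F F']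
        [Algebra.IsSeparable F F']
        (D : Type u) [DivisionRing D] [Algebra F' D] [Algebra.IsCentral F' D]
        [FiniteDimensional F' D], Module.finrank F' D = 1)
    (E : Type u) [Field E] [Algebra K E] [FiniteDimensional K E] [Algebra.IsSeparable K E]
    (D : Type u) [DivisionRing D] [Algebra E D] [Algebra.IsCentral E D] [FiniteDimensional E D]
    (M : Type u) [Field M] [Algebra K M] [Algebra E M] [Algebra F M] [IsScalarTower K E M]
    [IsScalarTower K F M] :
    ∃ n : ℕ, Nonempty ((M ⊗[E] D) ≃ₐ[M] Matrix (Fin n) (Fin n) M) := by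
  classical
  obtain ⟨α, hα⟩ := Field.exists_primitive_element K E
  obtain ⟨β, hβ⟩ : ∃ β : M, β = algebraMap E M α := ⟨_, rfl⟩
  let ψ : E →ₐ[K] M := IsScalarTower.toAlgHom K E M
  have hψα : ψ α = β := hβ.symm
  have hαi : IsIntegral K α := Algebra.IsIntegral.isIntegral α
  have hβK : IsIntegral K β := hψα ▸ hαi.map ψ
  have hβF : IsIntegral F β := hβK.tower_top
  have hsepα : IsSeparable K α := Algebra.IsSeparable.isSeparable K α
  have hsepK : IsSeparable K β := hψα ▸ hsepα.map ψ ψ.toRingHom.injective
  have hsepF : IsSeparable F β := hsepK.tower_top F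
  obtain ⟨F', hF'⟩ : ∃ F' : IntermediateField F M, F' = F⟮β⟯ := ⟨_, rfl⟩
  haveI : FiniteDimensional F F' := hF' ▸ IntermediateField.adjoin.finiteDimensional hβF
  haveI : Algebra.IsSeparable F F' :=
    hF' ▸ (IntermediateField.isSeparable_adjoin_simple_iff_isSeparable F M).2 hsepF
  have hle : K⟮α⟯ ≤ (F'.restrictScalars K).comap ψ := by
    rw [IntermediateField.adjoin_simple_le_iff]
    show ψ α ∈ F'
    rw [hψα, hF']
    exact IntermediateField.mem_adjoin_simple_self F β
  have hmem : ∀ x : E, algebraMap E M x ∈ F' := by
    intro x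
    have hx : x ∈ K⟮α⟯ := hα ▸ IntermediateField.mem_top
    exact hle hx
  let φ : E →+* F' := (algebraMap E M).codRestrict F'.toSubfield hmem
  letI : Algebra E F' := φ.toAlgebra
  haveI : IsScalarTower E F' M := IsScalarTower.of_algebraMap_eq (fun x => rfl)
  haveI : Algebra.IsCentral F' (F' ⊗[E] D) := CSABaseChange.isCentral_baseChange
  haveI : IsSimpleRing (F' ⊗[E] D) := CSABaseChange.isSimpleRing_baseChange
  obtain ⟨m, Δ, _, _, _, _, d, hm, hd0, hd, ⟨iso⟩⟩ := IndexPrimes.exists_index F' (F' ⊗[E] D)
  have h1 : Module.finrank F' Δ = 1 := ha F' Δ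
  have hbt : (⊥ : Subalgebra F' Δ) = ⊤ := Subalgebra.bot_eq_top_of_finrank_eq_one h1
  have hbij : Function.Bijective (Algebra.ofId F' Δ) := by
    refine ⟨(algebraMap F' Δ).injective, fun x => ?_⟩
    have hx : x ∈ (⊥ : Subalgebra F' Δ) := hbt ▸ Algebra.mem_top
    exact Algebra.mem_bot.1 hx
  let e : F' ≃ₐ[F'] Δ := AlgEquiv.ofBijective (Algebra.ofId F' Δ) hbij
  let iso2 : (F' ⊗[E] D) ≃ₐ[F'] Matrix (Fin m) (Fin m) F' := iso.trans e.symm.mapMatrix
  refine ⟨m, ⟨?_⟩⟩
  exact ((CancelBC.cancelBC E F' M M D).symm.trans
    (Algebra.TensorProduct.congr (AlgEquiv.refl : M ≃ₐ[M] M) iso2)).trans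
    ((Groth.Agent.S0195.baseChangeMatrix F' M F' m).trans
      (Algebra.TensorProduct.rid F' M M).mapMatrix)

open Groth.Agent.Lib IntermediateField in
theorem bwd (K F : Type u) [Field K] [Field F] [Algebra K F] [Algebra.IsSeparable K F]
    (hb : ∀ (E : Type u) [Field E] [Algebra K E] [FiniteDimensional K E] [Algebra.IsSeparable K E]
        (D : Type u) [DivisionRing D] [Algebra E D] [Algebra.IsCentral E D] [FiniteDimensional E D]
        (M : Type u) [Field M] [Algebra K M] [Algebra E M] [Algebra F M] [IsScalarTower K E M]
        [IsScalarTower K F M],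
        ∃ n : ℕ, Nonempty ((M ⊗[E] D) ≃ₐ[M] Matrix (Fin n) (Fin n) M))
    (F' : Type u) [Field F'] [Algebra F F'] [FiniteDimensional F F'] [Algebra.IsSeparable F F']
    (D : Type u) [DivisionRing D] [Algebra F' D] [Algebra.IsCentral F' D]
    [FiniteDimensional F' D] :
    Module.finrank F' D = 1 := by
  classical
  letI : Algebra K F' := ((algebraMap F F').comp (algebraMap K F)).toAlgebra
  haveI : IsScalarTower K F F' := IsScalarTower.of_algebraMap_eq (fun x => rfl)
  haveI : Algebra.IsSeparable K F' := Algebra.IsSeparable.trans K F F'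
  obtain ⟨b, hb'⟩ : ∃ b : Module.Basis (Fin (Module.finrank F' D)) F' D, b = Module.finBasis F' D :=
    ⟨_, rfl⟩
  obtain ⟨S, hS⟩ : ∃ S : Set F', S =
      (Set.range fun p : Fin (Module.finrank F' D) × Fin (Module.finrank F' D) ×
        Fin (Module.finrank F' D) => b.repr (b p.1 * b p.2.1) p.2.2) ∪
      Set.range (fun k => b.repr 1 k) := ⟨_, rfl⟩
  haveI : Finite S := by
    rw [hS]
    exact ((Set.finite_range _).union (Set.finite_range _)).to_subtype
  obtain ⟨E, hE⟩ : ∃ E : IntermediateField K F', E = IntermediateField.adjoin K S := ⟨_, rfl⟩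
  haveI : FiniteDimensional K E :=
    hE ▸ IntermediateField.finiteDimensional_adjoin (fun x _ => Algebra.IsIntegral.isIntegral x)
  haveI : Algebra.IsSeparable K E := Algebra.isSeparable_tower_bot_of_isSeparable K E F'
  have hmul : ∀ i j k, b.repr (b i * b j) k ∈ (algebraMap E F').range := by
    intro i j k
    have : b.repr (b i * b j) k ∈ E := by
      rw [hE]
      refine IntermediateField.subset_adjoin K S ?_
      rw [hS]
      exact Or.inl ⟨(i, j, k), rfl⟩
    exact ⟨⟨_, this⟩, rfl⟩
  have hone : ∀ k, b.repr 1 k ∈ (algebraMap E F').range := by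
    intro k
    have : b.repr 1 k ∈ E := by
      rw [hE]
      refine IntermediateField.subset_adjoin K S ?_
      rw [hS]
      exact Or.inr ⟨k, rfl⟩
    exact ⟨⟨_, this⟩, rfl⟩
  haveI : Module.Finite E (StructConst.sub b hmul hone) := StructConst.finite_sub b hmul hone
  haveI : Algebra.IsCentral E (StructConst.sub b hmul hone) := StructConst.isCentral_sub b hmul hone
  letI : DivisionRing (StructConst.sub b hmul hone) :=
    divisionRingOfFiniteDimensional E (StructConst.sub b hmul hone)
  obtain ⟨n, ⟨iso⟩⟩ := hb E (StructConst.sub b hmul hone) F'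
  let iso2 : D ≃ₐ[F'] Matrix (Fin n) (Fin n) F' :=
    (StructConst.equivD b hmul hone).symm.trans iso
  have hn : n = 1 := by
    by_contra hne
    rcases Nat.lt_or_gt_of_ne hne with h0 | h2
    · have h0' : n = 0 := by omega
      subst h0'
      have : (1 : D) = 0 := iso2.injective (Subsingleton.elim _ _)
      exact one_ne_zero this
    · have hA : (Matrix.single (⟨0, by omega⟩ : Fin n) (⟨0, by omega⟩ : Fin n) (1 : F')) *
          Matrix.single (⟨1, by omega⟩ : Fin n) (⟨1, by omega⟩ : Fin n) (1 : F') = 0 := by
        rw [Matrix.single_mul_single_of_ne]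
        intro h
        simp at h
      have h3 : iso2.symm (Matrix.single (⟨0, by omega⟩ : Fin n) (⟨0, by omega⟩ : Fin n) (1 : F')) *
          iso2.symm (Matrix.single (⟨1, by omega⟩ : Fin n) (⟨1, by omega⟩ : Fin n) (1 : F')) = 0 := by
        rw [← map_mul, hA, map_zero]
      rcases mul_eq_zero.1 h3 with h4 | h4
      · have h5 := (map_eq_zero_iff iso2.symm iso2.symm.injective).1 h4
        have h6 := congrFun (congrFun h5 ⟨0, by omega⟩) ⟨0, by omega⟩
        simp at h6
      · have h5 := (map_eq_zero_iff iso2.symm iso2.symm.injective).1 h4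
        have h6 := congrFun (congrFun h5 ⟨1, by omega⟩) ⟨1, by omega⟩
        simp at h6
  subst hn
  rw [iso2.toLinearEquiv.finrank_eq, Module.finrank_matrix, Module.finrank_self]
  simp


/-- For a field K with maximal abelian extension K_ab, cd(K_ab) ≤ 1 if and only if for every etale
K-algebra E the restriction map Br(E) ⟶ Br(E ⊗_K K_ab) is trivial; the same holds with the maximal
solvable extension. Stated here for an arbitrary separable algebraic extension F of K in place of
K_ab (the published lemma takes for F the maximal abelian or the maximal solvable extension of K;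
this row allows any separable algebraic extension), with cd(F) ≤ 1 unfolded by the Brauer-group
criterion (every finite separable extension of F has trivial Brauer group) and with etale algebras
replaced by their field factors: (a) every finite-dimensional central division algebra over a finite
separable extension F′ of F is F′ itself; if and only if (b) for every finite separable extension E
of K, every finite-dimensional central division algebra D over E and every field M containing E and
F compatibly over K, the base change M ⊗_E D is isomorphic over M to a matrix algebra over M. -/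
theorem result
    (K F : Type u) [Field K] [Field F] [Algebra K F] [Algebra.IsSeparable K F] :
    (∀ (F' : Type u) [Field F'] [Algebra F F'] [FiniteDimensional F F'] [Algebra.IsSeparable F F']
        (D : Type u) [DivisionRing D] [Algebra F' D] [Algebra.IsCentral F' D] [FiniteDimensional F' D],
        Module.finrank F' D = 1) ↔
    (∀ (E : Type u) [Field E] [Algebra K E] [FiniteDimensional K E] [Algebra.IsSeparable K E]
        (D : Type u) [DivisionRing D] [Algebra E D] [Algebra.IsCentral E D] [FiniteDimensional E D]
        (M : Type u) [Field M] [Algebra K M] [Algebra E M] [Algebra F M] [IsScalarTower K E M]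
        [IsScalarTower K F M],
        ∃ n : ℕ, Nonempty ((M ⊗[E] D) ≃ₐ[M] Matrix (Fin n) (Fin n) M)) := by

  constructor
  · intro ha E _ _ _ _ D _ _ _ _ M _ _ _ _ _ _
    exact fwd K F ha E D M
  · intro hb F' _ _ _ _ D _ _ _ _
    exact bwd K F hb F' D

end Groth.Agent.S18519
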