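import Groth.Statements.S18535
import Mathlib
import Groth.Agent.Lib.InertUnr1_helper8
import Groth.Agent.Lib.InertUnr2_helper8
import Groth.Agent.Lib.GalRing1_helper8

set_option autoImplicit false
universe u
open EtAlg

namespace Groth.Agent.S18535

/-- Let R be a complete Noetherian local normal domain with maximal ideal m, let S be a normal domain
containing R on which a finite group G acts by R-algebra automorphisms, faithfully and with ring of
invariants exactly R (so that S is the integral closure of R in some finite Galois extension, with
group G, of Frac R), and let n be a maximal ideal of S over m. Then the inertia subgroup of n in G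
(the elements g with g s - s ∈ n for all s ∈ S) is trivial if and only if mS = n and the residue
field S/n is finite and separable over R/m. -/
theorem result
    (R S G : Type u) [CommRing R] [CommRing S] [IsDomain R] [IsDomain S]
    [IsNoetherianRing R] [IsLocalRing R] [IsIntegrallyClosed R]
    [IsAdicComplete (IsLocalRing.maximalIdeal R) R]
    [Algebra R S] [FaithfulSMul R S] [IsIntegrallyClosed S]
    [Group G] [Finite G] [MulSemiringAction G S] [SMulCommClass G R S] [IsGaloisGroup G R S]
    (n : Ideal S) [n.IsMaximal] [n.LiesOver (IsLocalRing.maximalIdeal R)] :
    n.toAddSubgroup.inertia G = ⊥ ↔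
      ((IsLocalRing.maximalIdeal R).map (algebraMap R S) = n ∧
        Module.Finite (R ⧸ IsLocalRing.maximalIdeal R) (S ⧸ n) ∧
        Algebra.IsSeparable (R ⧸ IsLocalRing.maximalIdeal R) (S ⧸ n)) := by
  classical
  haveI : FaithfulSMul G S := IsGaloisGroup.faithful R
  haveI : Algebra.IsInvariant R S G := IsGaloisGroup.isInvariant
  haveI : Algebra.IsIntegral R S := Algebra.IsInvariant.isIntegral R S G
  -- finiteness
  haveI : Module.Finite R S := by
    letI : Algebra (FractionRing R) (FractionRing S) := FractionRing.liftAlgebra R (FractionRing S)
    haveI : IsScalarTower R (FractionRing R) (FractionRing S) :=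
      FractionRing.isScalarTower_liftAlgebra R (FractionRing S)
    letI := IsFractionRing.mulSemiringAction G S (FractionRing S)
    haveI : IsGaloisGroup G (FractionRing R) (FractionRing S) :=
      IsGaloisGroup.to_isFractionRing G R S (FractionRing R) (FractionRing S)
    haveI : FiniteDimensional (FractionRing R) (FractionRing S) :=
      IsGaloisGroup.finiteDimensional G (FractionRing R) (FractionRing S)
    haveI : IsGalois (FractionRing R) (FractionRing S) :=
      IsGaloisGroup.isGalois G (FractionRing R) (FractionRing S)
    haveI : IsIntegralClosure S R (FractionRing S) :=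
      IsIntegralClosure.of_isIntegrallyClosed S R (FractionRing S)
    exact IsIntegralClosure.finite R (FractionRing R) (FractionRing S) S
  haveI : HenselianLocalRing R := InertUnrH8.henselianLocalRing_of_isAdicComplete R
  haveI : IsLocalRing S := InertUnrH8.isLocalRing_of_finite_of_henselian R S
  have hn : n = IsLocalRing.maximalIdeal S := IsLocalRing.eq_maximalIdeal inferInstance
  subst hn
  haveI : IsLocalHom (algebraMap R S) :=
    ((IsLocalRing.local_hom_TFAE (algebraMap R S)).out 0 4).mpr
      ((IsLocalRing.maximalIdeal S).over_def (IsLocalRing.maximalIdeal R)).symm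
  haveI : IsNoetherianRing S := Algebra.FiniteType.isNoetherianRing R S
  have hiff := Algebra.FormallyUnramified.iff_map_maximalIdeal_eq (R := R) (S := S)
  constructor
  · intro hI
    letI : Fintype G := Fintype.ofFinite G
    have hfu : Algebra.FormallyUnramified R S := by
      rw [Algebra.FormallyUnramified.iff_exists_tensorProduct]
      refine (GalRingH8.flat_and_unramified (A := R) (B := S) (G := G)
        (fun g => MulSemiringAction.toAlgHom R S g⁻¹) ?_ ?_ ?_ ?_ ?_).2
      · intro b
        simp
      · intro g h b
        simp [mul_smul]
      · exact FaithfulSMul.algebraMap_injective R S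
      · intro b hb
        have hb' : ∀ g : G, g • b = b := by
          intro g
          have := hb g⁻¹
          simpa using this
        exact Algebra.IsInvariant.isInvariant (A := R) (G := G) b hb'
      · intro g hg n' hn'
        have hn'' : n' = IsLocalRing.maximalIdeal S := IsLocalRing.eq_maximalIdeal hn'
        subst hn''
        by_contra hcon
        push Not at hcon
        have hmem : g⁻¹ ∈ (IsLocalRing.maximalIdeal S).toAddSubgroup.inertia G := by
          intro x
          have := hcon x
          simpa using this
        rw [hI, Subgroup.mem_bot, inv_eq_one] at hmem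
        exact hg hmem
    obtain ⟨hsep, hmap⟩ := hiff.mp hfu
    exact ⟨hmap, inferInstance, hsep⟩
  · rintro ⟨hmap, hfin, hsep⟩
    haveI : Algebra.FormallyUnramified R S := hiff.mpr ⟨hsep, hmap⟩
    rw [eq_bot_iff]
    intro g hg
    rw [Subgroup.mem_bot]
    apply eq_of_smul_eq_smul (α := S)
    intro s
    rw [one_smul]
    exact InertUnrH8.eq_of_formallyUnramified (MulSemiringAction.toAlgHom R S g)
      (fun x => hg x) s

end Groth.Agent.S18535
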