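import Groth.Statements.S18538
import Mathlib

set_option autoImplicit false
universe u
open EtAlg

namespace Groth.Agent.S18538

open scoped TensorProduct in
theorem aux
    (A B K L : Type u) [CommRing A] [CommRing B] [IsDomain A] [IsDomain B]
    [IsIntegrallyClosed A] [Algebra A B] [Module.Finite A B]
    [Field K] [Field L] [Algebra A K] [IsFractionRing A K] [Algebra B L] [IsFractionRing B L]
    [Algebra K L] [Algebra A L] [IsScalarTower A K L] [IsScalarTower A B L] :
    Algebra.IsEffective A B := by
  intro b
  constructor
  · intro hb
    have h1 : ∀ (r : A) (x : B), algebraMap B L (r • x) = (algebraMap A K r) • algebraMap B L x := by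
      intro r x
      rw [Algebra.smul_def, map_mul, ← IsScalarTower.algebraMap_apply A B L,
        IsScalarTower.algebraMap_apply A K L, Algebra.smul_def]
    let f : B →+ B →+ L ⊗[K] L :=
      AddMonoidHom.mk' (fun b₁ => AddMonoidHom.mk'
        (fun b₂ => (algebraMap B L b₁) ⊗ₜ[K] (algebraMap B L b₂))
        (by intro x y; simp [TensorProduct.tmul_add]))
        (by intro x y; ext z; simp [TensorProduct.add_tmul])
    have hf : ∀ (r : A) (m n : B), f (r • m) n = f m (r • n) := by
      intro r m n
      show (algebraMap B L (r • m)) ⊗ₜ[K] (algebraMap B L n) =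
        (algebraMap B L m) ⊗ₜ[K] (algebraMap B L (r • n))
      rw [h1, h1, TensorProduct.smul_tmul]
    have hφ : TensorProduct.liftAddHom f hf (Algebra.TensorProduct.includeLeftSubRight A B b) =
        Algebra.TensorProduct.includeLeftSubRight K L (algebraMap B L b) := by
      rw [Algebra.TensorProduct.includeLeftSubRight_apply, map_sub,
        Algebra.TensorProduct.includeLeftSubRight_apply]
      show (algebraMap B L b) ⊗ₜ[K] (algebraMap B L 1) - (algebraMap B L 1) ⊗ₜ[K] (algebraMap B L b) = _
      rw [map_one]
    rw [hb, map_zero] at hφ
    have hKL : Algebra.IsEffective K L := Algebra.IsEffective.of_faithfullyFlat K L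
    obtain ⟨k, hk⟩ := (hKL (algebraMap B L b)).mp hφ.symm
    have hk' : algebraMap K L k = algebraMap B L b := hk
    have hint : IsIntegral A b := Algebra.IsIntegral.isIntegral b
    have hintk : IsIntegral A k := by
      have h2 : IsIntegral A (algebraMap B L b) := hint.map (IsScalarTower.toAlgHom A B L)
      rw [← hk'] at h2
      exact (isIntegral_algebraMap_iff (algebraMap K L).injective).mp h2
    obtain ⟨a, ha⟩ := IsIntegrallyClosed.isIntegral_iff.mp hintk
    refine ⟨a, ?_⟩
    apply IsFractionRing.injective B L
    show algebraMap B L (algebraMap A B a) = algebraMap B L b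
    rw [← hk', ← ha, ← IsScalarTower.algebraMap_apply A B L, ← IsScalarTower.algebraMap_apply A K L]
  · rintro ⟨a, rfl⟩
    exact Algebra.TensorProduct.includeLeftSubRight_algebraMap_zero a

/-- Let A ⊆ B be an injective finite extension of integrally closed domains, with fraction fields K ⊆ L
and L separable over K. Then A → B → B ⊗_A B is exact, the second map being b ↦ b ⊗ 1 - 1 ⊗ b: every
element of B whose two images in B ⊗_A B agree comes from A. -/
theorem result
    (A B K L : Type u) [CommRing A] [CommRing B] [IsDomain A] [IsDomain B]
    [IsIntegrallyClosed A] [IsIntegrallyClosed B] [Algebra A B] [FaithfulSMul A B] [Module.Finite A B]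
    [Field K] [Field L] [Algebra A K] [IsFractionRing A K] [Algebra B L] [IsFractionRing B L]
    [Algebra K L] [Algebra A L] [IsScalarTower A K L] [IsScalarTower A B L]
    [Algebra.IsSeparable K L] :
    Algebra.IsEffective A B := by
  exact aux A B K L

end Groth.Agent.S18538
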