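import Groth.Statements.S18539
import Mathlib

set_option autoImplicit false
universe u v w
open CAlg

namespace Groth.Agent.S18539

/-- For a commutative ring R, R-modules M and N and elements r₁, r₂ of R such that r₁ is a
non-zero-divisor on N and r₂ is a non-zero-divisor on N/r₁N, the element r₁ is a non-zero-divisor on
the module Hom_R(M, N) and r₂ is a non-zero-divisor on Hom_R(M, N)/r₁Hom_R(M, N). (Weak regularity
on both sides: no condition that the quotient by (r₁, r₂) is nonzero, which would fail for M = 0.) -/
theorem result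
    (R : Type u) [CommRing R] (M : Type v) (N : Type w)
    [AddCommGroup M] [Module R M] [AddCommGroup N] [Module R N]
    (r₁ r₂ : R) (h : RingTheory.Sequence.IsWeaklyRegular N [r₁, r₂]) :
    RingTheory.Sequence.IsWeaklyRegular (M →ₗ[R] N) [r₁, r₂] := by
  rw [RingTheory.Sequence.isWeaklyRegular_cons_iff,
    RingTheory.Sequence.isWeaklyRegular_singleton_iff] at h ⊢
  obtain ⟨h1, h2⟩ := h
  constructor
  · intro φ ψ hφ
    apply LinearMap.ext
    intro m
    apply h1
    exact LinearMap.congr_fun hφ m
  · rw [isSMulRegular_on_quot_iff_lsmul_comap_le] at h2 ⊢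
    intro φ hφ
    rw [Submodule.mem_comap, LinearMap.lsmul_apply, Submodule.mem_smul_pointwise_iff_exists] at hφ
    obtain ⟨ψ, -, hψ⟩ := hφ
    have hmem : ∀ m : M, ∃ n : N, r₁ • n = φ m := by
      intro m
      open Pointwise in
      have h3 : φ m ∈ Submodule.comap (LinearMap.lsmul R N r₂) (r₁ • (⊤ : Submodule R N)) := by
        rw [Submodule.mem_comap, LinearMap.lsmul_apply, Submodule.mem_smul_pointwise_iff_exists]
        exact ⟨ψ m, trivial, by rw [← LinearMap.smul_apply, hψ, LinearMap.smul_apply]⟩
      have h4 := h2 h3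
      rw [Submodule.mem_smul_pointwise_iff_exists] at h4
      obtain ⟨n, -, hn⟩ := h4
      exact ⟨n, hn⟩
    choose χ hχ using hmem
    rw [Submodule.mem_smul_pointwise_iff_exists]
    refine ⟨{ toFun := χ, map_add' := ?_, map_smul' := ?_ }, trivial, ?_⟩
    · intro a b
      apply h1
      change r₁ • χ (a + b) = r₁ • (χ a + χ b)
      rw [smul_add, hχ, hχ, hχ, map_add]
    · intro c a
      apply h1
      change r₁ • χ (c • a) = r₁ • (c • χ a)
      rw [smul_comm r₁ c, hχ, hχ, map_smul]
    · apply LinearMap.ext
      intro m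
      exact hχ m

end Groth.Agent.S18539
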