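import Groth.Statements.S18544
import Mathlib

set_option autoImplicit false
universe u
open CAlg

namespace Groth.Agent.S18544

theorem eval_aeval_aux {F : Type*} [Field F] {σ : Type*} (w : σ → Polynomial F) (c : F)
    (N : MvPolynomial σ F) :
    Polynomial.eval c (MvPolynomial.aeval w N)
      = MvPolynomial.eval (fun i => Polynomial.eval c (w i)) N := by
  induction N using MvPolynomial.induction_on with
  | C a => simp
  | add p q hp hq => simp only [map_add, Polynomial.eval_add, hp, hq]
  | mul_X p i hp =>
    simp only [map_mul, Polynomial.eval_mul, hp, MvPolynomial.aeval_X, MvPolynomial.eval_X]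

theorem poly_add_eq_one {F : Type*} [Field F] [IsAlgClosed F] (g : Polynomial F)
    (hadd : ∀ c d, g.eval (c + d) = g.eval c * g.eval d) (h0 : g.eval 0 = 1) :
    ∀ c, g.eval c = 1 := by
  have hdeg : g.degree = 0 := by
    by_contra hne
    obtain ⟨z, hz⟩ := IsAlgClosed.exists_root g hne
    have hz' : g.eval z = 0 := hz
    have h2 := hadd z (-z)
    rw [add_neg_cancel, hz', zero_mul, h0] at h2
    exact one_ne_zero h2
  have hC := Polynomial.eq_C_of_degree_eq_zero hdeg
  intro c
  have h1 : g.eval c = g.coeff 0 := by
    conv_lhs => rw [hC]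
    rw [Polynomial.eval_C]
  have h2 : g.eval 0 = g.coeff 0 := by
    conv_lhs => rw [hC]
    rw [Polynomial.eval_C]
  rw [h1, ← h2, h0]

theorem poly_mul_eq_pow {F : Type*} [Field F] [Infinite F] (h : Polynomial F)
    (hmul : ∀ s t, h.eval (s * t) = h.eval s * h.eval t) (h1 : h.eval 1 = 1) :
    ∃ m : ℕ, ∀ t, h.eval t = t ^ m := by
  have hne : h ≠ 0 := by
    rintro rfl
    simp at h1
  refine ⟨h.natDegree, fun s => ?_⟩
  have hpoly : h.comp (Polynomial.C s * Polynomial.X) = Polynomial.C (h.eval s) * h := by
    apply Polynomial.funext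
    intro t
    rw [Polynomial.eval_comp, Polynomial.eval_mul, Polynomial.eval_mul, Polynomial.eval_C,
      Polynomial.eval_X, Polynomial.eval_C, hmul]
  have hco := congrArg (fun p => p.coeff h.natDegree) hpoly
  simp only [Polynomial.comp_C_mul_X_coeff, Polynomial.coeff_C_mul] at hco
  have hlc : h.coeff h.natDegree ≠ 0 := by
    rw [Polynomial.coeff_natDegree]; exact Polynomial.leadingCoeff_ne_zero.mpr hne
  have h3 : h.coeff h.natDegree * s ^ h.natDegree = h.coeff h.natDegree * h.eval s := by
    rw [hco, mul_comm]
  exact (mul_left_cancel₀ hlc h3).symm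

theorem core {F : Type*} [Field F] [IsAlgClosed F] (n : ℕ)
    (ν : Matrix (Fin n) (Fin n) F → F)
    (hmul : ∀ x y, ν (x * y) = ν x * ν y) (hne : ∃ x, ν x ≠ 0)
    (hpoly : ∀ W : Matrix (Fin n) (Fin n) (Polynomial F), ∃ g : Polynomial F,
      ∀ c, g.eval c = ν (W.map (Polynomial.eval c))) :
    ∃ m : ℕ, ∀ x : Matrix (Fin n) (Fin n) F, ν x = x.det ^ m := by
  classical
  haveI : Infinite F := inferInstance
  have h1 : ν 1 = 1 := by
    obtain ⟨x, hx⟩ := hne
    have h2 := hmul x 1
    rw [mul_one] at h2
    exact mul_left_cancel₀ hx (show ν x * ν 1 = ν x * 1 by rw [mul_one, ← h2])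
  have htr : ∀ t : Matrix.TransvectionStruct (Fin n) F, ν t.toMatrix = 1 := by
    intro t
    obtain ⟨g, hg⟩ := hpoly (1 + Matrix.single t.i t.j Polynomial.X)
    have hW : ∀ c : F, (1 + Matrix.single t.i t.j (Polynomial.X : Polynomial F)).map
        (Polynomial.eval c) = Matrix.transvection t.i t.j c := by
      intro c
      ext a b
      rw [Matrix.map_apply, Matrix.transvection, Matrix.add_apply, Matrix.add_apply,
        Polynomial.eval_add, Matrix.one_apply, Matrix.one_apply, Matrix.single_apply,
        Matrix.single_apply]
      congr 1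
      · split_ifs <;> simp
      · split_ifs <;> simp
    have hg' : ∀ c, g.eval c = ν (Matrix.transvection t.i t.j c) := fun c => by rw [hg, hW]
    have hall := poly_add_eq_one g
      (fun c d => by
        rw [hg', hg', hg', ← hmul, Matrix.transvection_mul_transvection_same _ _ t.hij])
      (by rw [hg', Matrix.transvection_zero, h1])
    have h3 := hall t.c
    rw [hg'] at h3
    exact h3
  let E : Fin n → F → Matrix (Fin n) (Fin n) F :=
    fun k t => Matrix.diagonal (Function.update (1 : Fin n → F) k t)
  have hEmul : ∀ k s t, E k s * E k t = E k (s * t) := by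
    intro k s t
    show Matrix.diagonal _ * Matrix.diagonal _ = Matrix.diagonal _
    rw [Matrix.diagonal_mul_diagonal]
    congr 1
    funext l
    by_cases hl : l = k
    · subst hl; simp
    · simp [Function.update_of_ne hl]
  have hE1 : ∀ k, E k 1 = 1 := by
    intro k
    show Matrix.diagonal _ = 1
    have h2 : Function.update (1 : Fin n → F) k 1 = 1 := Function.update_eq_self k (1 : Fin n → F)
    rw [h2]
    exact Matrix.diagonal_one
  have hEpow : ∀ k, ∃ m : ℕ, ∀ t, ν (E k t) = t ^ m := by
    intro k
    obtain ⟨g, hg⟩ := hpoly (Matrix.diagonal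
      (Function.update (1 : Fin n → Polynomial F) k Polynomial.X))
    have hW : ∀ c : F, (Matrix.diagonal
        (Function.update (1 : Fin n → Polynomial F) k Polynomial.X)).map (Polynomial.eval c)
        = E k c := by
      intro c
      ext a b
      show Polynomial.eval c (Matrix.diagonal _ a b) = Matrix.diagonal _ a b
      by_cases hab : a = b
      · subst hab
        rw [Matrix.diagonal_apply_eq, Matrix.diagonal_apply_eq]
        by_cases hak : a = k
        · subst hak; simp
        · simp [Function.update_of_ne hak]
      · rw [Matrix.diagonal_apply_ne _ hab, Matrix.diagonal_apply_ne _ hab, Polynomial.eval_zero]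
    have hg' : ∀ c, g.eval c = ν (E k c) := fun c => by rw [hg, hW]
    obtain ⟨m, hm⟩ := poly_mul_eq_pow g
      (fun s t => by rw [hg', hg', hg', ← hmul, hEmul]) (by rw [hg', hE1, h1])
    exact ⟨m, fun t => by rw [← hg', hm]⟩
  have hsymm : ∀ k l t, ν (E k t) = ν (E l t) := by
    intro k l t
    let σ : Fin n ≃ Fin n := Equiv.swap k l
    let S : Matrix (Fin n) (Fin n) F := σ.toPEquiv.toMatrix
    let S' : Matrix (Fin n) (Fin n) F := σ.symm.toPEquiv.toMatrix
    have hconj : ∀ d : Fin n → F, S * Matrix.diagonal d * S' = Matrix.diagonal (d ∘ σ) := by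
      intro d
      show σ.toPEquiv.toMatrix * Matrix.diagonal d * σ.symm.toPEquiv.toMatrix = _
      rw [PEquiv.toMatrix_toPEquiv_mul, PEquiv.mul_toMatrix_toPEquiv, Matrix.submatrix_submatrix,
        Equiv.symm_symm]
      exact Matrix.submatrix_diagonal_equiv d σ
    have hSS : ν S * ν S' = 1 := by
      have h2 := hconj (fun _ => 1)
      rw [Matrix.diagonal_one, Matrix.mul_one] at h2
      have h3 : ((fun _ => 1 : Fin n → F) ∘ σ) = fun _ => 1 := rfl
      rw [h3, Matrix.diagonal_one] at h2
      rw [← hmul, h2, h1]
    have hE : S * E k t * S' = E l t := by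
      show S * Matrix.diagonal _ * S' = Matrix.diagonal _
      rw [hconj]
      congr 1
      funext a
      show Function.update (1 : Fin n → F) k t (Equiv.swap k l a)
        = Function.update (1 : Fin n → F) l t a
      by_cases hal : a = l
      · subst hal; rw [Equiv.swap_apply_right, Function.update_self, Function.update_self]
      · have hne' : Equiv.swap k l a ≠ k := by
          intro h
          apply hal
          have h4 := congrArg (Equiv.swap k l) h
          rw [Equiv.swap_apply_self, Equiv.swap_apply_left] at h4
          exact h4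
        rw [Function.update_of_ne hne', Function.update_of_ne hal]
        rfl
    calc ν (E k t) = ν (E k t) * (ν S * ν S') := by rw [hSS, mul_one]
      _ = ν S * ν (E k t) * ν S' := by ring
      _ = ν (S * E k t * S') := by rw [hmul, hmul]
      _ = ν (E l t) := by rw [hE]
  have hdiag : ∀ D : Fin n → F, ∀ s : Finset (Fin n),
      ν (Matrix.diagonal (fun k => if k ∈ s then D k else 1)) = ∏ k ∈ s, ν (E k (D k)) := by
    intro D s
    induction s using Finset.induction_on with
    | empty =>
      simp only [Finset.notMem_empty, if_false, Finset.prod_empty]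
      have h2 : Matrix.diagonal (fun _ : Fin n => (1 : F)) = 1 := Matrix.diagonal_one
      rw [h2, h1]
    | insert a s ha ih =>
      rw [Finset.prod_insert ha, ← ih, ← hmul]
      congr 1
      show _ = Matrix.diagonal _ * Matrix.diagonal _
      rw [Matrix.diagonal_mul_diagonal]
      congr 1
      funext l
      by_cases hla : l = a
      · subst hla
        simp [ha]
      · simp [Function.update_of_ne hla, Finset.mem_insert, hla]
  rcases Nat.eq_zero_or_pos n with hn | hn
  · subst hn
    refine ⟨0, fun x => ?_⟩
    have h2 : x = 1 := Subsingleton.elim _ _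
    rw [h2, h1, pow_zero]
  · obtain ⟨m, hm⟩ := hEpow ⟨0, hn⟩
    refine ⟨m, fun x => ?_⟩
    refine Matrix.diagonal_transvection_induction (fun y => ν y = y.det ^ m) x ?_ ?_ ?_
    · intro D _
      show ν (Matrix.diagonal D) = (Matrix.diagonal D).det ^ m
      have h2 := hdiag D Finset.univ
      simp only [Finset.mem_univ, if_true] at h2
      rw [h2, Matrix.det_diagonal, ← Finset.prod_pow]
      refine Finset.prod_congr rfl (fun k _ => ?_)
      rw [hsymm k ⟨0, hn⟩, hm]
    · intro t
      show ν t.toMatrix = t.toMatrix.det ^ m
      rw [htr t, Matrix.TransvectionStruct.det, one_pow]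
    · intro A B hA hB
      show ν (A * B) = (A * B).det ^ m
      rw [hmul, hA, hB, Matrix.det_mul, mul_pow]


/-- Let F be an algebraically closed field of characteristic zero, n a natural number, and N a nonzero
polynomial over F in the n² matrix entries whose evaluation on n × n matrices is multiplicative,
N(xy) = N(x)·N(y) for all x, y (a norm form on the matrix algebra M_n(F) over F). Then N is a
natural power of the determinant: for some m, N(x) = det(x)^m for every matrix x. The published
statement concerns norm forms of any central simple algebra over a subfield; this row is the case of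
the full matrix algebra over an algebraically closed field, which is the case its proof treats. -/
theorem result (F : Type u) [Field F] [IsAlgClosed F]
    [CharZero F] (n : ℕ) (N : MvPolynomial (Fin n × Fin n) F) (hN : N ≠ 0)
    (hmul : ∀ x y : Matrix (Fin n) (Fin n) F,
      MvPolynomial.eval (fun ij : Fin n × Fin n => (x * y) ij.1 ij.2) N =
        MvPolynomial.eval (fun ij : Fin n × Fin n => x ij.1 ij.2) N * MvPolynomial.eval (fun ij : Fin n × Fin n => y ij.1 ij.2) N) :
    ∃ m : ℕ, ∀ x : Matrix (Fin n) (Fin n) F,
      MvPolynomial.eval (fun ij : Fin n × Fin n => x ij.1 ij.2) N = x.det ^ m := by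
  classical
  haveI : Infinite F := inferInstance
  refine core n (fun x => MvPolynomial.eval (fun ij : Fin n × Fin n => x ij.1 ij.2) N) hmul ?_ ?_
  · by_contra hcon
    push Not at hcon
    apply hN
    apply MvPolynomial.funext
    intro v
    have h1 : (fun ij : Fin n × Fin n =>
        (Matrix.of fun i j => v (i, j) : Matrix (Fin n) (Fin n) F) ij.1 ij.2) = v := by
      funext ij; rfl
    have h2 : MvPolynomial.eval (fun ij : Fin n × Fin n =>
        (Matrix.of fun i j => v (i, j) : Matrix (Fin n) (Fin n) F) ij.1 ij.2) N = 0 := hcon _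
    rw [h1] at h2
    rw [h2, map_zero]
  · intro W
    refine ⟨MvPolynomial.aeval (fun kl : Fin n × Fin n => W kl.1 kl.2) N, fun c => ?_⟩
    exact eval_aeval_aux (fun kl : Fin n × Fin n => W kl.1 kl.2) c N

end Groth.Agent.S18544
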