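import Groth.Statements.S18545
import Mathlib

set_option autoImplicit false
universe u
open AbVar

namespace Groth.Agent.S18545

/-- A step in the proof of Tate's isogeny result over finite fields, in linear-algebra form. Let K be a
field and V a K-vector space of finite dimension 2g carrying a nondegenerate alternating bilinear
form e. Let F be a K-subalgebra of End(V) which is isomorphic as a K-algebra to a finite product K ×
⋯ × K and which is spanned over K by a set S of similitudes of e (for each s in S there is a nonzero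
scalar c with e(s x, s y) = c·e(x, y) for all x, y). Let D be a set of endomorphisms of V such that
every F-stable isotropic subspace W of dimension g (a maximal isotropic subspace) is D-stable. Then
every F-stable isotropic subspace of V is D-stable. (In the application V is the rational ℓ-adic
Tate module of an abelian variety over a finite field with the Riemann form of a polarisation, F the
algebra generated by the Galois group, split for the chosen ℓ, and D the commutant of the image of
the endomorphism algebra; the hypothesis on maximal isotropic subspaces is the step obtained from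
the finiteness of isomorphism classes.) -/
theorem result (K : Type u) [Field K]
    (V : Type u) [AddCommGroup V] [Module K V] [FiniteDimensional K V] (g : ℕ) (hV : Module.finrank K V = 2 * g)
    (e : LinearMap.BilinForm K V) (he : e.IsAlt) (hnd : e.Nondegenerate)
    (F : Subalgebra K (Module.End K V)) (r : ℕ) (hF : Nonempty (F ≃ₐ[K] (Fin r → K)))
    (S : Set (Module.End K V)) (hS : Submodule.span K S = Subalgebra.toSubmodule F)
    (hsim : ∀ s ∈ S, ∃ c : K, c ≠ 0 ∧ ∀ x y : V, e (s x) (s y) = c * e x y)
    (D : Set (Module.End K V))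
    (hmax : ∀ W : Submodule K V, (∀ f ∈ F, ∀ w ∈ W, f w ∈ W) → (∀ x ∈ W, ∀ y ∈ W, e x y = 0) →
      Module.finrank K W = g → ∀ d ∈ D, ∀ w ∈ W, d w ∈ W)
    (W : Submodule K V) (hWF : ∀ f ∈ F, ∀ w ∈ W, f w ∈ W) (hWiso : ∀ x ∈ W, ∀ y ∈ W, e x y = 0) :
    ∀ d ∈ D, ∀ w ∈ W, d w ∈ W := by
  classical
  obtain ⟨φ⟩ := hF
  -- idempotents
  let ε : Fin r → Module.End K V := fun j => ((φ.symm (Pi.single j 1) : F) : Module.End K V)
  have hεF : ∀ j, ε j ∈ F := fun j => (φ.symm (Pi.single j 1)).2
  have hεsum : ∀ x : V, ∑ j, ε j x = x := by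
    intro x
    have h1 : (∑ j, φ.symm (Pi.single j (1 : K)) : F) = 1 := by
      rw [← map_sum]
      have h0 : (∑ j, Pi.single j (1 : K) : Fin r → K) = 1 := by
        funext i
        rw [Finset.sum_apply]
        simp [Pi.single_apply]
      rw [h0, map_one]
    have h2 : ((∑ j, φ.symm (Pi.single j (1 : K)) : F) : Module.End K V) x = x := by
      rw [h1]; rfl
    rw [AddSubmonoidClass.coe_finsetSum, LinearMap.sum_apply] at h2
    exact h2
  have hεeig : ∀ f (hf : f ∈ F) (j : Fin r) (x : V), f (ε j x) = (φ ⟨f, hf⟩ j) • ε j x := by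
    intro f hf j x
    have h1 : (⟨f, hf⟩ : F) * φ.symm (Pi.single j 1) = (φ ⟨f, hf⟩ j) • φ.symm (Pi.single j 1) := by
      apply φ.injective
      rw [map_mul, map_smul, AlgEquiv.apply_symm_apply]
      funext i
      by_cases hij : i = j
      · subst hij; simp
      · simp [Pi.single_apply, hij]
    have h2 := congrArg (fun a : F => (a : Module.End K V) x) h1
    exact h2
  have hex : ∀ (U : Submodule K V) (x : V), x ∉ U → ∃ j, ε j x ∉ U := by
    intro U x hx
    by_contra h
    push Not at h
    apply hx
    rw [← hεsum x]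
    exact Submodule.sum_mem _ (fun j _ => h j)
  -- stability of the orthogonal
  have horth : ∀ U : Submodule K V, (∀ f ∈ F, ∀ u ∈ U, f u ∈ U) →
      ∀ f ∈ F, ∀ y ∈ e.orthogonal U, f y ∈ e.orthogonal U := by
    intro U hU f hf
    have hf' : f ∈ Submodule.span K S := by rw [hS]; exact hf
    clear hf
    induction hf' using Submodule.span_induction with
    | mem s hs =>
      obtain ⟨c, hc, hcs⟩ := hsim s hs
      have hsF : s ∈ F := by
        have h1 := Submodule.subset_span (R := K) hs
        rw [hS] at h1
        exact h1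
      have hinj : Function.Injective s := by
        rw [← LinearMap.ker_eq_bot, LinearMap.ker_eq_bot']
        intro x hx
        apply hnd.1 x
        intro y
        have h1 := hcs x y
        rw [hx, map_zero, LinearMap.zero_apply] at h1
        rcases mul_eq_zero.mp h1.symm with h2 | h2
        · exact absurd h2 hc
        · exact h2
      have hmap : Submodule.map s U = U := by
        apply Submodule.eq_of_le_of_finrank_eq
        · rintro _ ⟨u, hu, rfl⟩; exact hU s hsF u hu
        · exact (LinearEquiv.finrank_eq (Submodule.equivMapOfInjective s hinj U)).symm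
      intro y hy
      rw [LinearMap.BilinForm.mem_orthogonal_iff] at hy ⊢
      intro w hw
      rw [← hmap] at hw
      obtain ⟨w', hw', rfl⟩ := hw
      rw [hcs, hy w' hw', mul_zero]
    | zero =>
      intro y _
      rw [LinearMap.zero_apply]
      exact Submodule.zero_mem _
    | add f₁ f₂ _ _ h₁ h₂ =>
      intro y hy
      rw [LinearMap.add_apply]
      exact Submodule.add_mem _ (h₁ y hy) (h₂ y hy)
    | smul a f₁ _ h₁ =>
      intro y hy
      rw [LinearMap.smul_apply]
      exact Submodule.smul_mem _ _ (h₁ y hy)
  -- extension step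
  have hext : ∀ (U : Submodule K V), (∀ f ∈ F, ∀ u ∈ U, f u ∈ U) →
      (∀ x ∈ U, ∀ y ∈ U, e x y = 0) → ∀ z ∈ e.orthogonal U,
      (∀ f ∈ F, ∃ a : K, f z = a • z) →
      (∀ f ∈ F, ∀ u ∈ U ⊔ Submodule.span K {z}, f u ∈ U ⊔ Submodule.span K {z}) ∧
      (∀ x ∈ U ⊔ Submodule.span K {z}, ∀ y ∈ U ⊔ Submodule.span K {z}, e x y = 0) := by
    intro U hU hUiso z hz heig
    rw [LinearMap.BilinForm.mem_orthogonal_iff] at hz
    constructor
    · intro f hf u hu
      obtain ⟨u₁, hu₁, u₂, hu₂, rfl⟩ := Submodule.mem_sup.mp hu
      obtain ⟨b, rfl⟩ := Submodule.mem_span_singleton.mp hu₂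
      obtain ⟨a, ha⟩ := heig f hf
      rw [map_add, map_smul, ha]
      exact Submodule.add_mem _ (Submodule.mem_sup_left (hU f hf u₁ hu₁))
        (Submodule.mem_sup_right (Submodule.smul_mem _ _ (Submodule.smul_mem _ _
          (Submodule.mem_span_singleton_self z))))
    · intro x hx y hy
      obtain ⟨x₁, hx₁, x₂, hx₂, rfl⟩ := Submodule.mem_sup.mp hx
      obtain ⟨b, rfl⟩ := Submodule.mem_span_singleton.mp hx₂
      obtain ⟨y₁, hy₁, y₂, hy₂, rfl⟩ := Submodule.mem_sup.mp hy
      obtain ⟨b', rfl⟩ := Submodule.mem_span_singleton.mp hy₂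
      have h1 : e x₁ y₁ = 0 := hUiso x₁ hx₁ y₁ hy₁
      have h2 : e x₁ z = 0 := hz x₁ hx₁
      have h3 : e z y₁ = 0 := by
        have := he.neg_eq y₁ z
        rw [hz y₁ hy₁, neg_zero] at this
        exact this.symm
      have h4 : e z z = 0 := he.self_eq_zero z
      simp only [map_add, map_smul, LinearMap.add_apply, LinearMap.smul_apply, h1, h2, h3, h4,
        smul_zero, add_zero]
  have main : ∀ n : ℕ, ∀ W : Submodule K V, (∀ f ∈ F, ∀ w ∈ W, f w ∈ W) →
      (∀ x ∈ W, ∀ y ∈ W, e x y = 0) → g - Module.finrank K W = n →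
      ∀ d ∈ D, ∀ w ∈ W, d w ∈ W := by
    intro n
    induction n using Nat.strong_induction_on with
    | _ n ih =>
      intro W hWF hWiso hn d hd w hw
      have hWle : W ≤ e.orthogonal W := by
        intro x hx
        rw [LinearMap.BilinForm.mem_orthogonal_iff]
        intro y hy
        exact hWiso y hy x hx
      have hdim : Module.finrank K (e.orthogonal W) = 2 * g - Module.finrank K W := by
        rw [LinearMap.BilinForm.finrank_orthogonal hnd, hV]
      have hWg : Module.finrank K W ≤ g := by
        have h1 := Submodule.finrank_mono hWle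
        have h2 : Module.finrank K W ≤ 2 * g := by rw [← hV]; exact Submodule.finrank_le W
        omega
      rcases Nat.lt_or_ge (Module.finrank K W) g with hlt | hge
      swap
      · exact hmax W hWF hWiso (le_antisymm hWg hge) d hd w hw
      have hlt1 : W < e.orthogonal W := by
        refine lt_of_le_of_ne hWle (fun h => ?_)
        have h1 : Module.finrank K W = Module.finrank K (e.orthogonal W) := by rw [← h]
        omega
      obtain ⟨x, hxo, hxW⟩ := SetLike.exists_of_lt hlt1
      obtain ⟨j, hj⟩ := hex W x hxW
      have hx₁o : ε j x ∈ e.orthogonal W := horth W hWF (ε j) (hεF j) x hxo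
      have hx₁eig : ∀ f ∈ F, ∃ a : K, f (ε j x) = a • ε j x :=
        fun f hf => ⟨_, hεeig f hf j x⟩
      obtain ⟨hW₁F, hW₁iso⟩ := hext W hWF hWiso (ε j x) hx₁o hx₁eig
      have hW₁lt : W < W ⊔ Submodule.span K {ε j x} := by
        refine lt_of_le_of_ne le_sup_left (fun h => hj ?_)
        rw [h]
        exact Submodule.mem_sup_right (Submodule.mem_span_singleton_self _)
      have hW₁le : W ⊔ Submodule.span K {ε j x} ≤ e.orthogonal W :=
        sup_le hWle ((Submodule.span_singleton_le_iff_mem _ _).mpr hx₁o)
      have hW₁dim : Module.finrank K ↥(W ⊔ Submodule.span K {ε j x}) ≤ Module.finrank K W + 1 := by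
        have h1 := Submodule.finrank_add_le_finrank_add_finrank W (Submodule.span K {ε j x})
        have h2 : Module.finrank K ↥(Submodule.span K {ε j x}) ≤ 1 := by
          have h3 := finrank_span_le_card (R := K) ({ε j x} : Set V)
          simpa using h3
        omega
      have hW₁lt' : W ⊔ Submodule.span K {ε j x} < e.orthogonal W := by
        refine lt_of_le_of_ne hW₁le (fun h => ?_)
        have h1 : Module.finrank K ↥(W ⊔ Submodule.span K {ε j x})
            = Module.finrank K (e.orthogonal W) := by rw [← h]
        omega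
      obtain ⟨y, hyo, hyW₁⟩ := SetLike.exists_of_lt hW₁lt'
      obtain ⟨l, hl⟩ := hex _ y hyW₁
      have hx₂o : ε l y ∈ e.orthogonal W := horth W hWF (ε l) (hεF l) y hyo
      have hx₂eig : ∀ f ∈ F, ∃ a : K, f (ε l y) = a • ε l y :=
        fun f hf => ⟨_, hεeig f hf l y⟩
      obtain ⟨hW₂F, hW₂iso⟩ := hext W hWF hWiso (ε l y) hx₂o hx₂eig
      have hx₂W : ε l y ∉ W := fun h => hl (Submodule.mem_sup_left h)
      have hW₂lt : W < W ⊔ Submodule.span K {ε l y} := by
        refine lt_of_le_of_ne le_sup_left (fun h => hx₂W ?_)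
        rw [h]
        exact Submodule.mem_sup_right (Submodule.mem_span_singleton_self _)
      have hf1 := Submodule.finrank_lt_finrank_of_lt hW₁lt
      have hf2 := Submodule.finrank_lt_finrank_of_lt hW₂lt
      have hd1 : d w ∈ W ⊔ Submodule.span K {ε j x} :=
        ih (g - Module.finrank K ↥(W ⊔ Submodule.span K {ε j x})) (by omega) _ hW₁F hW₁iso rfl
          d hd w (Submodule.mem_sup_left hw)
      have hd2 : d w ∈ W ⊔ Submodule.span K {ε l y} :=
        ih (g - Module.finrank K ↥(W ⊔ Submodule.span K {ε l y})) (by omega) _ hW₂F hW₂iso rfl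
          d hd w (Submodule.mem_sup_left hw)
      obtain ⟨w₂, hw₂, z₂, hz₂, hsum⟩ := Submodule.mem_sup.mp hd2
      obtain ⟨b, rfl⟩ := Submodule.mem_span_singleton.mp hz₂
      by_cases hb : b = 0
      · rw [hb, zero_smul, add_zero] at hsum
        rw [← hsum]; exact hw₂
      · exfalso
        apply hl
        have h1 : b • ε l y = d w - w₂ := by rw [← hsum]; abel
        have h2 : b • ε l y ∈ W ⊔ Submodule.span K {ε j x} := by
          rw [h1]
          exact Submodule.sub_mem _ hd1 (Submodule.mem_sup_left hw₂)
        have h3 := Submodule.smul_mem _ b⁻¹ h2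
        rwa [smul_smul, inv_mul_cancel₀ hb, one_smul] at h3
  exact main _ W hWF hWiso rfl

end Groth.Agent.S18545
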