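import Groth.Statements.S18546
import Mathlib

set_option autoImplicit false
open scoped TensorProduct
universe u v
open GalCoh

namespace Groth.Agent.S18546

open scoped TensorProduct in
theorem aux (G : Type u) [Group G] (V : Type v)
    [AddCommGroup V] [Module (ZMod 2) V] (hV : Module.finrank (ZMod 2) V = 2)
    (ρ : Representation (ZMod 2) G V) :
    ∃ W : Submodule (ZMod 2) (V ⊗[ZMod 2] V),
      (∀ g : G, ∀ w ∈ W, ρ.tprod ρ g w ∈ W) ∧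
      W ⊓ Submodule.span (ZMod 2) (Set.range fun v : V => v ⊗ₜ[ZMod 2] v) =
        Submodule.span (ZMod 2) (Set.range fun p : V × V => p.1 ⊗ₜ[ZMod 2] p.2 + p.2 ⊗ₜ[ZMod 2] p.1) ∧
      W ⊔ Submodule.span (ZMod 2) (Set.range fun v : V => v ⊗ₜ[ZMod 2] v) = ⊤ := by
  classical
  haveI : Module.Finite (ZMod 2) V := Module.finite_of_finrank_pos (by rw [hV]; norm_num)
  obtain ⟨bas, -⟩ : ∃ bas : Module.Basis (Fin 2) (ZMod 2) V, True :=
    ⟨Module.finBasisOfFinrankEq (ZMod 2) V hV, trivial⟩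
  obtain ⟨Na, hNa⟩ : ∃ Na, Na = Submodule.span (ZMod 2) (Set.range fun v : V => v ⊗ₜ[ZMod 2] v) :=
    ⟨_, rfl⟩
  obtain ⟨Ns, hNs⟩ : ∃ Ns, Ns = Submodule.span (ZMod 2)
    (Set.range fun p : V × V => p.1 ⊗ₜ[ZMod 2] p.2 + p.2 ⊗ₜ[ZMod 2] p.1) := ⟨_, rfl⟩
  rw [← hNa, ← hNs]
  have h2 : ∀ z : V ⊗[ZMod 2] V, z + z = 0 := fun z => by
    have h20 : (2 : ZMod 2) = 0 := by decide
    rw [← two_smul (ZMod 2) z, h20, zero_smul]
  have hmemNa : ∀ v : V, v ⊗ₜ[ZMod 2] v ∈ Na := fun v => by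
    rw [hNa]; exact Submodule.subset_span ⟨v, rfl⟩
  have hmemNs : ∀ x y : V, x ⊗ₜ[ZMod 2] y + y ⊗ₜ[ZMod 2] x ∈ Ns := fun x y => by
    rw [hNs]; exact Submodule.subset_span ⟨(x, y), rfl⟩
  have hNsNa : Ns ≤ Na := by
    rw [hNs]
    apply Submodule.span_le.mpr
    rintro _ ⟨⟨x, y⟩, rfl⟩
    have : x ⊗ₜ[ZMod 2] y + y ⊗ₜ[ZMod 2] x =
        (x + y) ⊗ₜ[ZMod 2] (x + y) - x ⊗ₜ[ZMod 2] x - y ⊗ₜ[ZMod 2] y := by
      rw [TensorProduct.add_tmul, TensorProduct.tmul_add, TensorProduct.tmul_add]; abel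
    show x ⊗ₜ[ZMod 2] y + y ⊗ₜ[ZMod 2] x ∈ Na
    rw [this]
    exact Na.sub_mem (Na.sub_mem (hmemNa _) (hmemNa _)) (hmemNa _)
  have hcoord : ∀ x : V, x = bas.repr x 0 • bas 0 + bas.repr x 1 • bas 1 := by
    intro x
    conv_lhs => rw [← bas.sum_repr x, Fin.sum_univ_two]
  obtain ⟨t, ht⟩ : ∃ t, t = bas 0 ⊗ₜ[ZMod 2] bas 0 + bas 0 ⊗ₜ[ZMod 2] bas 1 +
      bas 1 ⊗ₜ[ZMod 2] bas 1 := ⟨_, rfl⟩
  have hexp : ∀ p q r s : ZMod 2,
      (p • bas 0 + q • bas 1) ⊗ₜ[ZMod 2] (p • bas 0 + q • bas 1) +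
        (p • bas 0 + q • bas 1) ⊗ₜ[ZMod 2] (r • bas 0 + s • bas 1) +
        (r • bas 0 + s • bas 1) ⊗ₜ[ZMod 2] (r • bas 0 + s • bas 1)
      = (p*p+p*r+r*r) • (bas 0 ⊗ₜ[ZMod 2] bas 0) + (p*q+p*s+r*s) • (bas 0 ⊗ₜ[ZMod 2] bas 1) +
        (p*q+q*r+r*s) • (bas 1 ⊗ₜ[ZMod 2] bas 0) + (q*q+q*s+s*s) • (bas 1 ⊗ₜ[ZMod 2] bas 1) := by
    intro p q r s
    simp only [TensorProduct.add_tmul, TensorProduct.tmul_add, TensorProduct.smul_tmul_smul]
    module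
  have key : ∀ p q r s : ZMod 2, ¬(p = 0 ∧ q = 0) → ¬(r = 0 ∧ s = 0) → ¬(p = r ∧ q = s) →
      (p*p+p*r+r*r = 1 ∧ q*q+q*s+s*s = 1 ∧
        ((p*q+p*s+r*s = 1 ∧ p*q+q*r+r*s = 0) ∨ (p*q+p*s+r*s = 0 ∧ p*q+q*r+r*s = 1))) := by
    decide
  have hgt : ∀ g : G, ρ.tprod ρ g t - t ∈ Ns := by
    intro g
    have hinj : Function.Injective (ρ g) := by
      intro x y hxy
      have := congrArg (ρ g⁻¹) hxy
      rwa [Representation.inv_self_apply, Representation.inv_self_apply] at this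
    obtain ⟨x, hx⟩ : ∃ x, x = ρ g (bas 0) := ⟨_, rfl⟩
    obtain ⟨y, hy⟩ : ∃ y, y = ρ g (bas 1) := ⟨_, rfl⟩
    obtain ⟨p, hp⟩ : ∃ p, p = bas.repr x 0 := ⟨_, rfl⟩
    obtain ⟨q, hq⟩ : ∃ q, q = bas.repr x 1 := ⟨_, rfl⟩
    obtain ⟨r, hr⟩ : ∃ r, r = bas.repr y 0 := ⟨_, rfl⟩
    obtain ⟨s, hs⟩ : ∃ s, s = bas.repr y 1 := ⟨_, rfl⟩
    have hxc : x = p • bas 0 + q • bas 1 := by rw [hp, hq]; exact hcoord x
    have hyc : y = r • bas 0 + s • bas 1 := by rw [hr, hs]; exact hcoord y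
    have hx0 : ¬ (p = 0 ∧ q = 0) := by
      rintro ⟨h0, h1⟩
      have hx00 : x = 0 := by rw [hxc, h0, h1, zero_smul, zero_smul, add_zero]
      have : ρ g (bas 0) = ρ g 0 := by rw [← hx, hx00, map_zero]
      exact bas.ne_zero 0 (hinj this)
    have hy0 : ¬ (r = 0 ∧ s = 0) := by
      rintro ⟨h0, h1⟩
      have hy00 : y = 0 := by rw [hyc, h0, h1, zero_smul, zero_smul, add_zero]
      have : ρ g (bas 1) = ρ g 0 := by rw [← hy, hy00, map_zero]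
      exact bas.ne_zero 1 (hinj this)
    have hxy : ¬ (p = r ∧ q = s) := by
      rintro ⟨h0, h1⟩
      have hxy' : x = y := by rw [hxc, hyc, h0, h1]
      have : ρ g (bas 0) = ρ g (bas 1) := by rw [← hx, ← hy, hxy']
      have h01 : (0 : Fin 2) = 1 := bas.injective (hinj this)
      exact absurd h01 (by decide)
    obtain ⟨hA, hD, hBC⟩ := key p q r s hx0 hy0 hxy
    have hgt' : ρ.tprod ρ g t = x ⊗ₜ[ZMod 2] x + x ⊗ₜ[ZMod 2] y + y ⊗ₜ[ZMod 2] y := by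
      rw [ht, map_add, map_add, Representation.tprod_apply, TensorProduct.map_tmul,
        TensorProduct.map_tmul, TensorProduct.map_tmul, ← hx, ← hy]
    rw [hgt', hxc, hyc, hexp, hA, hD]
    rcases hBC with ⟨hB, hC⟩ | ⟨hB, hC⟩
    · rw [hB, hC]
      simp only [one_smul, zero_smul, add_zero]
      rw [ht, sub_self]
      exact Ns.zero_mem
    · rw [hB, hC]
      simp only [one_smul, zero_smul, add_zero]
      rw [ht]
      have : bas 0 ⊗ₜ[ZMod 2] bas 0 + bas 1 ⊗ₜ[ZMod 2] bas 0 + bas 1 ⊗ₜ[ZMod 2] bas 1 -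
          (bas 0 ⊗ₜ[ZMod 2] bas 0 + bas 0 ⊗ₜ[ZMod 2] bas 1 + bas 1 ⊗ₜ[ZMod 2] bas 1) =
          (bas 1 ⊗ₜ[ZMod 2] bas 0 + bas 0 ⊗ₜ[ZMod 2] bas 1) -
            (bas 0 ⊗ₜ[ZMod 2] bas 1 + bas 0 ⊗ₜ[ZMod 2] bas 1) := by abel
      rw [this, h2, sub_zero]
      exact hmemNs _ _
  obtain ⟨φ, hφ⟩ : ∃ φ : V ⊗[ZMod 2] V →ₗ[ZMod 2] ZMod 2, ∀ x y : V,
      φ (x ⊗ₜ[ZMod 2] y) = bas.repr x 0 * bas.repr y 1 - bas.repr x 1 * bas.repr y 0 := by
    refine ⟨TensorProduct.lift (LinearMap.mk₂ (ZMod 2)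
      (fun x y => bas.repr x 0 * bas.repr y 1 - bas.repr x 1 * bas.repr y 0) ?_ ?_ ?_ ?_),
      fun x y => ?_⟩
    · intro x x' y; simp only [map_add, Finsupp.add_apply]; ring
    · intro c x y; simp only [map_smul, Finsupp.smul_apply, smul_eq_mul]; ring
    · intro x y y'; simp only [map_add, Finsupp.add_apply]; ring
    · intro c x y; simp only [map_smul, Finsupp.smul_apply, smul_eq_mul]; ring
    · rw [TensorProduct.lift.tmul]; rfl
  have hφNa : ∀ z ∈ Na, φ z = 0 := by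
    have hle : Na ≤ LinearMap.ker φ := by
      rw [hNa]
      apply Submodule.span_le.mpr
      rintro _ ⟨v, rfl⟩
      show v ⊗ₜ[ZMod 2] v ∈ LinearMap.ker φ
      rw [LinearMap.mem_ker, hφ, mul_comm, sub_self]
    intro z hz
    exact LinearMap.mem_ker.mp (hle hz)
  have hφt : φ t = 1 := by
    rw [ht, map_add, map_add, hφ, hφ, hφ]
    simp [Finsupp.single_apply]
  obtain ⟨W, hW⟩ : ∃ W, W = Ns ⊔ Submodule.span (ZMod 2) {t} := ⟨_, rfl⟩
  have htW : t ∈ W := by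
    rw [hW]; exact Submodule.mem_sup_right (Submodule.mem_span_singleton_self t)
  have hNsW : Ns ≤ W := by rw [hW]; exact le_sup_left
  have h2' : W ⊓ Na = Ns := by
    apply le_antisymm
    · rintro w ⟨hwW, hwNa⟩
      rw [SetLike.mem_coe, hW] at hwW
      obtain ⟨s, hs, u, hu, rfl⟩ := Submodule.mem_sup.mp hwW
      obtain ⟨c, rfl⟩ := Submodule.mem_span_singleton.mp hu
      have h0 : φ (s + c • t) = 0 := hφNa _ hwNa
      rw [map_add, hφNa s (hNsNa hs), zero_add, map_smul, hφt, smul_eq_mul, mul_one] at h0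
      rw [h0, zero_smul, add_zero]; exact hs
    · exact le_inf hNsW hNsNa
  have h3 : W ⊔ Na = ⊤ := by
    have hNaWN : Na ≤ W ⊔ Na := le_sup_right
    have htWN : t ∈ W ⊔ Na := Submodule.mem_sup_left htW
    have haa : bas 0 ⊗ₜ[ZMod 2] bas 0 ∈ W ⊔ Na := hNaWN (hmemNa _)
    have hbb : bas 1 ⊗ₜ[ZMod 2] bas 1 ∈ W ⊔ Na := hNaWN (hmemNa _)
    have hab : bas 0 ⊗ₜ[ZMod 2] bas 1 ∈ W ⊔ Na := by
      have : bas 0 ⊗ₜ[ZMod 2] bas 1 =
          t - bas 0 ⊗ₜ[ZMod 2] bas 0 - bas 1 ⊗ₜ[ZMod 2] bas 1 := by rw [ht]; abel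
      rw [this]; exact Submodule.sub_mem _ (Submodule.sub_mem _ htWN haa) hbb
    have hba : bas 1 ⊗ₜ[ZMod 2] bas 0 ∈ W ⊔ Na := by
      have : bas 1 ⊗ₜ[ZMod 2] bas 0 = (bas 1 ⊗ₜ[ZMod 2] bas 0 + bas 0 ⊗ₜ[ZMod 2] bas 1) -
          bas 0 ⊗ₜ[ZMod 2] bas 1 := by abel
      rw [this]; exact Submodule.sub_mem _ (hNaWN (hNsNa (hmemNs _ _))) hab
    have hall : ∀ i j : Fin 2, bas i ⊗ₜ[ZMod 2] bas j ∈ W ⊔ Na := by
      simp only [Fin.forall_fin_two]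
      exact ⟨⟨haa, hab⟩, ⟨hba, hbb⟩⟩
    rw [eq_top_iff, ← (bas.tensorProduct bas).span_eq]
    apply Submodule.span_le.mpr
    rintro _ ⟨⟨i, j⟩, rfl⟩
    rw [Module.Basis.tensorProduct_apply]
    exact hall i j
  have h1 : ∀ g : G, ∀ w ∈ W, ρ.tprod ρ g w ∈ W := by
    intro g w hw
    rw [hW] at hw
    obtain ⟨s, hs, u, hu, rfl⟩ := Submodule.mem_sup.mp hw
    obtain ⟨c, rfl⟩ := Submodule.mem_span_singleton.mp hu
    rw [map_add, map_smul]
    have hs' : ρ.tprod ρ g s ∈ Ns := by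
      have hle : Ns ≤ Ns.comap (ρ.tprod ρ g) := by
        conv_lhs => rw [hNs]
        apply Submodule.span_le.mpr
        rintro _ ⟨⟨x, y⟩, rfl⟩
        show ρ.tprod ρ g (x ⊗ₜ[ZMod 2] y + y ⊗ₜ[ZMod 2] x) ∈ Ns
        rw [map_add, Representation.tprod_apply, TensorProduct.map_tmul, TensorProduct.map_tmul]
        exact hmemNs _ _
      exact hle hs
    have ht' : ρ.tprod ρ g t ∈ W := by
      have : ρ.tprod ρ g t = (ρ.tprod ρ g t - t) + t := by abel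
      rw [this]
      exact W.add_mem (hNsW (hgt g)) htW
    exact W.add_mem (hNsW hs') (W.smul_mem c ht')
  exact ⟨W, h1, h2', h3⟩

/-- Let G be a group acting linearly on a vector space V of dimension 2 over the field 𝔽₂ with two
elements. Then the short exact sequence of G-modules 0 → V → S²V → Λ²V → 0 (v ↦ v·v, x·y ↦ x ∧ y)
splits G-equivariantly. Here, for a vector space V over the field with two elements carrying a
linear action ρ of a group G, write N_a ⊆ V ⊗ V for the span of the tensors v ⊗ v and N_s ⊆ N_a for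
the span of the tensors x ⊗ y + y ⊗ x, so that S²V = (V ⊗ V)/N_s, Λ²V = (V ⊗ V)/N_a and the
surjection S²V → Λ²V, x·y ↦ x ∧ y, is G-equivariant for the diagonal action; a G-equivariant linear
section of this surjection is the same thing as a G-stable subspace W of V ⊗ V with W ∩ N_a = N_s
and W + N_a = V ⊗ V, which is how the splitting is stated. (The source has the absolute Galois group
of a field acting continuously; any group is allowed here.) -/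
theorem result (G : Type u) [Group G] (V : Type v)
    [AddCommGroup V] [Module (ZMod 2) V] (hV : Module.finrank (ZMod 2) V = 2)
    (ρ : Representation (ZMod 2) G V) :
    ∃ W : Submodule (ZMod 2) (V ⊗[ZMod 2] V),
      (∀ g : G, ∀ w ∈ W, ρ.tprod ρ g w ∈ W) ∧
      W ⊓ Submodule.span (ZMod 2) (Set.range fun v : V => v ⊗ₜ[ZMod 2] v) =
        Submodule.span (ZMod 2) (Set.range fun p : V × V => p.1 ⊗ₜ[ZMod 2] p.2 + p.2 ⊗ₜ[ZMod 2] p.1) ∧
      W ⊔ Submodule.span (ZMod 2) (Set.range fun v : V => v ⊗ₜ[ZMod 2] v) = ⊤ := by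
  exact aux G V hV ρ

end Groth.Agent.S18546
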