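import Groth.Statements.S18548
import Mathlib

set_option autoImplicit false
open scoped TensorProduct
universe u v w
open GalCoh

namespace Groth.Agent.S18548

open scoped TensorProduct in
theorem aux (G : Type u) [Group G] (V : Type v)
    [AddCommGroup V] [Module (ZMod 2) V] (ρ : Representation (ZMod 2) G V)
    (ι : Type w) (b : Module.Basis ι (ZMod 2) V) (hb : ∀ g : G, ∀ i : ι, ∃ j : ι, ρ g (b i) = b j) :
    ∃ W : Submodule (ZMod 2) (V ⊗[ZMod 2] V),
      (∀ g : G, ∀ w ∈ W, ρ.tprod ρ g w ∈ W) ∧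
      W ⊓ Submodule.span (ZMod 2) (Set.range fun v : V => v ⊗ₜ[ZMod 2] v) =
        Submodule.span (ZMod 2) (Set.range fun p : V × V => p.1 ⊗ₜ[ZMod 2] p.2 + p.2 ⊗ₜ[ZMod 2] p.1) ∧
      W ⊔ Submodule.span (ZMod 2) (Set.range fun v : V => v ⊗ₜ[ZMod 2] v) = ⊤ := by
  classical
  obtain ⟨Na, hNa⟩ : ∃ Na, Na = Submodule.span (ZMod 2) (Set.range fun v : V => v ⊗ₜ[ZMod 2] v) :=
    ⟨_, rfl⟩
  obtain ⟨Ns, hNs⟩ : ∃ Ns, Ns = Submodule.span (ZMod 2)
    (Set.range fun p : V × V => p.1 ⊗ₜ[ZMod 2] p.2 + p.2 ⊗ₜ[ZMod 2] p.1) := ⟨_, rfl⟩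
  rw [← hNa, ← hNs]
  obtain ⟨B, hB⟩ : ∃ B : Module.Basis (ι × ι) (ZMod 2) (V ⊗[ZMod 2] V), B = b.tensorProduct b :=
    ⟨_, rfl⟩
  have hBa : ∀ i j, B (i, j) = b i ⊗ₜ[ZMod 2] b j := fun i j => by
    rw [hB]; exact Module.Basis.tensorProduct_apply b b i j
  obtain ⟨W, hW⟩ : ∃ W, W = Submodule.span (ZMod 2) (B '' {p : ι × ι | p.1 ≠ p.2}) := ⟨_, rfl⟩
  obtain ⟨D, hD⟩ : ∃ D, D = Submodule.span (ZMod 2) (B '' {p : ι × ι | p.1 = p.2}) := ⟨_, rfl⟩
  have hmemNa : ∀ v : V, v ⊗ₜ[ZMod 2] v ∈ Na := fun v => by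
    rw [hNa]; exact Submodule.subset_span ⟨v, rfl⟩
  have hmemNs : ∀ x y : V, x ⊗ₜ[ZMod 2] y + y ⊗ₜ[ZMod 2] x ∈ Ns := fun x y => by
    rw [hNs]; exact Submodule.subset_span ⟨(x, y), rfl⟩
  have hDNa : D ≤ Na := by
    rw [hD]
    apply Submodule.span_le.mpr
    rintro _ ⟨⟨i, j⟩, hij, rfl⟩
    have : i = j := hij
    subst this
    rw [hBa]
    exact hmemNa _
  have hNsNa : Ns ≤ Na := by
    rw [hNs]
    apply Submodule.span_le.mpr
    rintro _ ⟨⟨x, y⟩, rfl⟩
    have : x ⊗ₜ[ZMod 2] y + y ⊗ₜ[ZMod 2] x =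
        (x + y) ⊗ₜ[ZMod 2] (x + y) - x ⊗ₜ[ZMod 2] x - y ⊗ₜ[ZMod 2] y := by
      rw [TensorProduct.add_tmul, TensorProduct.tmul_add, TensorProduct.tmul_add]; abel
    show x ⊗ₜ[ZMod 2] y + y ⊗ₜ[ZMod 2] x ∈ Na
    rw [this]
    exact Na.sub_mem (Na.sub_mem (hmemNa _) (hmemNa _)) (hmemNa _)
  have hNsW : Ns ≤ W := by
    rw [hNs]
    apply Submodule.span_le.mpr
    rintro _ ⟨⟨x, y⟩, rfl⟩
    show x ⊗ₜ[ZMod 2] y + y ⊗ₜ[ZMod 2] x ∈ W
    rw [hW, Module.Basis.mem_span_image]
    intro p hp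
    rw [Finset.mem_coe, Finsupp.mem_support_iff] at hp
    intro hpp
    apply hp
    obtain ⟨i, j⟩ := p
    have : i = j := hpp
    subst this
    rw [map_add, Finsupp.add_apply, hB, Module.Basis.tensorProduct_repr_tmul_apply,
      Module.Basis.tensorProduct_repr_tmul_apply, smul_eq_mul, smul_eq_mul, mul_comm]
    exact CharTwo.add_self_eq_zero _
  have hNa_le : Na ≤ D ⊔ Ns := by
    rw [hNa]
    apply Submodule.span_le.mpr
    rintro _ ⟨v, rfl⟩
    show v ⊗ₜ[ZMod 2] v ∈ D ⊔ Ns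
    have hv : v ∈ Submodule.span (ZMod 2) (Set.range b) := by rw [b.span_eq]; trivial
    induction hv using Submodule.span_induction with
    | mem x hx =>
      obtain ⟨i, rfl⟩ := hx
      apply Submodule.mem_sup_left
      rw [hD]
      apply Submodule.subset_span
      exact ⟨(i, i), rfl, hBa i i⟩
    | zero => rw [TensorProduct.zero_tmul]; exact Submodule.zero_mem _
    | add x y _ _ hx hy =>
      have : (x + y) ⊗ₜ[ZMod 2] (x + y) =
          x ⊗ₜ[ZMod 2] x + y ⊗ₜ[ZMod 2] y + (x ⊗ₜ[ZMod 2] y + y ⊗ₜ[ZMod 2] x) := by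
        rw [TensorProduct.add_tmul, TensorProduct.tmul_add, TensorProduct.tmul_add]; abel
      rw [this]
      exact Submodule.add_mem _ (Submodule.add_mem _ hx hy)
        (Submodule.mem_sup_right (hmemNs x y))
    | smul c x _ hx =>
      rw [TensorProduct.smul_tmul_smul]
      exact Submodule.smul_mem _ _ hx
  have hdisj : Disjoint W D := by
    rw [hW, hD]
    apply B.linearIndependent.disjoint_span_image
    rw [Set.disjoint_left]
    intro p hp hp'
    exact hp hp'
  have h2 : W ⊓ Na = Ns := by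
    apply le_antisymm
    · rintro t ⟨htW, htNa⟩
      obtain ⟨d, hd, s, hs, rfl⟩ := Submodule.mem_sup.mp (hNa_le htNa)
      have hdW : d ∈ W := by
        have : d = (d + s) - s := by abel
        rw [this]
        exact W.sub_mem htW (hNsW hs)
      have hd0 : d = 0 := Submodule.disjoint_def.mp hdisj d hdW hd
      rw [hd0, zero_add]; exact hs
    · exact le_inf hNsW hNsNa
  have h3 : W ⊔ Na = ⊤ := by
    rw [eq_top_iff, ← B.span_eq]
    apply Submodule.span_le.mpr
    rintro _ ⟨⟨i, j⟩, rfl⟩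
    by_cases hij : i = j
    · apply Submodule.mem_sup_right
      apply hDNa
      rw [hD]
      exact Submodule.subset_span ⟨(i, j), hij, rfl⟩
    · apply Submodule.mem_sup_left
      rw [hW]
      exact Submodule.subset_span ⟨(i, j), hij, rfl⟩
  have h1 : ∀ g : G, ∀ w ∈ W, ρ.tprod ρ g w ∈ W := by
    intro g w hw
    have hle : W ≤ W.comap (ρ.tprod ρ g) := by
      conv_lhs => rw [hW]
      apply Submodule.span_le.mpr
      rintro _ ⟨⟨i, j⟩, hij, rfl⟩
      show ρ.tprod ρ g (B (i, j)) ∈ W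
      rw [hBa, Representation.tprod_apply, TensorProduct.map_tmul]
      obtain ⟨i', hi'⟩ := hb g i
      obtain ⟨j', hj'⟩ := hb g j
      rw [hi', hj', ← hBa, hW]
      apply Submodule.subset_span
      refine ⟨(i', j'), ?_, rfl⟩
      intro h
      have h' : i' = j' := h
      apply hij
      show i = j
      apply b.injective
      have hinj : Function.Injective (ρ g) := by
        intro x y hxy
        have := congrArg (ρ g⁻¹) hxy
        rwa [Representation.inv_self_apply, Representation.inv_self_apply] at this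
      apply hinj
      rw [hi', hj', h']
    exact hle hw
  exact ⟨W, h1, h2, h3⟩

/-- Let G be a group acting linearly on a vector space V over the field 𝔽₂ with two elements, and
suppose V is a permutation module: G permutes the vectors of some basis of V. Then the short exact
sequence of G-modules 0 → V → S²V → Λ²V → 0 (v ↦ v·v, x·y ↦ x ∧ y) splits G-equivariantly. Here, for
a vector space V over the field with two elements carrying a linear action ρ of a group G, write N_a
⊆ V ⊗ V for the span of the tensors v ⊗ v and N_s ⊆ N_a for the span of the tensors x ⊗ y + y ⊗ x,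
so that S²V = (V ⊗ V)/N_s, Λ²V = (V ⊗ V)/N_a and the surjection S²V → Λ²V, x·y ↦ x ∧ y, is
G-equivariant for the diagonal action; a G-equivariant linear section of this surjection is the same
thing as a G-stable subspace W of V ⊗ V with W ∩ N_a = N_s and W + N_a = V ⊗ V, which is how the
splitting is stated. (The source has the absolute Galois group of a field acting continuously; any
group and any basis index set are allowed here.) -/
theorem result (G : Type u) [Group G] (V : Type v)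
    [AddCommGroup V] [Module (ZMod 2) V] (ρ : Representation (ZMod 2) G V)
    (ι : Type w) (b : Module.Basis ι (ZMod 2) V) (hb : ∀ g : G, ∀ i : ι, ∃ j : ι, ρ g (b i) = b j) :
    ∃ W : Submodule (ZMod 2) (V ⊗[ZMod 2] V),
      (∀ g : G, ∀ w ∈ W, ρ.tprod ρ g w ∈ W) ∧
      W ⊓ Submodule.span (ZMod 2) (Set.range fun v : V => v ⊗ₜ[ZMod 2] v) =
        Submodule.span (ZMod 2) (Set.range fun p : V × V => p.1 ⊗ₜ[ZMod 2] p.2 + p.2 ⊗ₜ[ZMod 2] p.1) ∧
      W ⊔ Submodule.span (ZMod 2) (Set.range fun v : V => v ⊗ₜ[ZMod 2] v) = ⊤ := by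
  exact aux G V ρ ι b hb

end Groth.Agent.S18548
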