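import Groth.Statements.S18549
import Mathlib
import Groth.Agent.S18548

set_option autoImplicit false
open scoped TensorProduct
universe u v
open GalCoh

namespace Groth.Agent.S18549

theorem exists_perm_basis {V : Type v} [AddCommGroup V] [Module (ZMod 2) V]
    (T : V →ₗ[ZMod 2] V) (hT : ∀ x, T (T x) = x) :
    ∃ (ι : Type v) (b : Module.Basis ι (ZMod 2) V), ∀ i, ∃ j, T (b i) = b j := by
  classical
  have h2 : ∀ x : V, x + x = 0 := fun x => by
    have h20 : (2 : ZMod 2) = 0 := by decide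
    rw [← two_smul (ZMod 2) x, h20, zero_smul]
  obtain ⟨N, hN⟩ : ∃ N : V →ₗ[ZMod 2] V, ∀ x, N x = T x + x := ⟨T + LinearMap.id, fun x => rfl⟩
  have hNN : ∀ x, N (N x) = 0 := by
    intro x
    rw [hN, hN, map_add, hT, add_comm x (T x)]
    exact h2 _
  have hTN : ∀ x, T x = x + N x := by
    intro x
    rw [hN, add_comm (T x) x, ← add_assoc, h2, zero_add]
  have hIK : LinearMap.range N ≤ LinearMap.ker N := by
    rintro _ ⟨x, rfl⟩
    exact LinearMap.mem_ker.mpr (hNN x)
  obtain ⟨E, hE⟩ := Submodule.exists_isCompl (LinearMap.ker N)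
  obtain ⟨C', hC'⟩ := Submodule.exists_isCompl (LinearMap.range N)
  obtain ⟨C, hC⟩ : ∃ C, C = C' ⊓ LinearMap.ker N := ⟨_, rfl⟩
  have hCK : C ≤ LinearMap.ker N := hC ▸ inf_le_right
  have hIC : ∀ x, x ∈ LinearMap.range N → x ∈ C → x = 0 := by
    intro x hx hxC
    rw [hC] at hxC
    exact Submodule.disjoint_def.mp hC'.disjoint x hx hxC.1
  have hKdec : ∀ y ∈ LinearMap.ker N, ∃ z : V, ∃ c ∈ C, y = N z + c := by
    intro y hy
    have : y ∈ LinearMap.range N ⊔ C' := by rw [hC'.sup_eq_top]; trivial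
    obtain ⟨i, hi, c, hc, rfl⟩ := Submodule.mem_sup.mp this
    obtain ⟨z, rfl⟩ := hi
    refine ⟨z, c, ?_, rfl⟩
    rw [hC]
    refine ⟨hc, ?_⟩
    have : c = (N z + c) - N z := by abel
    rw [this]
    exact Submodule.sub_mem _ hy (hIK ⟨z, rfl⟩)
  have hEK : ∀ x, x ∈ E → x ∈ LinearMap.ker N → x = 0 := by
    intro x hx hxK
    exact Submodule.disjoint_def.mp hE.disjoint x hxK hx
  have hVdec : ∀ v : V, ∃ x ∈ E, ∃ y ∈ LinearMap.ker N, v = x + y := by
    intro v
    have : v ∈ LinearMap.ker N ⊔ E := by rw [hE.sup_eq_top]; trivial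
    obtain ⟨y, hy, x, hx, rfl⟩ := Submodule.mem_sup.mp this
    exact ⟨x, hx, y, hy, add_comm _ _⟩
  obtain ⟨Φ, hΦ⟩ : ∃ Φ : (E × E × C) →ₗ[ZMod 2] V,
      ∀ (a b : E) (c : C), Φ (a, b, c) = (a : V) + (T (b : V) + (c : V)) :=
    ⟨E.subtype.coprod ((T.comp E.subtype).coprod C.subtype), fun a b c => rfl⟩
  have hinj : Function.Injective Φ := by
    rw [← LinearMap.ker_eq_bot, LinearMap.ker_eq_bot']
    rintro ⟨a, b, c⟩ h
    rw [hΦ, hTN] at h
    have h1 : ((a : V) + b) + (N b + c) = 0 := by rw [← h]; abel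
    have hK : N (b : V) + (c : V) ∈ LinearMap.ker N :=
      Submodule.add_mem _ (hIK ⟨_, rfl⟩) (hCK c.2)
    have hab : (a : V) + b = 0 := by
      apply hEK _ (E.add_mem a.2 b.2)
      have : (a : V) + b = -(N (b : V) + c) := eq_neg_of_add_eq_zero_left h1
      rw [this]; exact Submodule.neg_mem _ hK
    rw [hab, zero_add] at h1
    have hNb : N (b : V) = 0 := by
      apply hIC _ ⟨_, rfl⟩
      have : N (b : V) = -(c : V) := eq_neg_of_add_eq_zero_left h1
      rw [this]; exact Submodule.neg_mem _ c.2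
    have hb0 : (b : V) = 0 := hEK _ b.2 (LinearMap.mem_ker.mpr hNb)
    have hc0 : (c : V) = 0 := by rw [hNb, zero_add] at h1; exact h1
    have ha0 : (a : V) = 0 := by rw [hb0, add_zero] at hab; exact hab
    exact Prod.ext (Subtype.ext ha0) (Prod.ext (Subtype.ext hb0) (Subtype.ext hc0))
  have hsurj : Function.Surjective Φ := by
    intro v
    obtain ⟨x, hx, y, hy, rfl⟩ := hVdec v
    have hyK : y + N x ∈ LinearMap.ker N := Submodule.add_mem _ hy (hIK ⟨x, rfl⟩)
    obtain ⟨z, c, hc, hyz⟩ := hKdec _ hyK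
    obtain ⟨x', hx', y', hy', rfl⟩ := hVdec z
    have hNz : N (x' + y') = N x' := by rw [map_add, LinearMap.mem_ker.mp hy', add_zero]
    refine ⟨(⟨x', hx'⟩, ⟨x + x', E.add_mem hx hx'⟩, ⟨c, hc⟩), ?_⟩
    rw [hΦ]
    show x' + (T (x + x') + c) = x + y
    rw [hTN, map_add]
    have hy_eq : y = N x' + c + N x := by
      have : y + N x + N x = N x' + c + N x := by rw [hyz, hNz]
      rwa [add_assoc, h2, add_zero] at this
    rw [hy_eq]
    have : x' + (x + x' + (N x + N x') + c) = (x' + x') + (x + (N x' + c + N x)) := by abel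
    rw [this, h2, zero_add]
  obtain ⟨bE, -⟩ : ∃ bE : Module.Basis (Module.Basis.ofVectorSpaceIndex (ZMod 2) E) (ZMod 2) E,
    True := ⟨Module.Basis.ofVectorSpace (ZMod 2) E, trivial⟩
  obtain ⟨bC, -⟩ : ∃ bC : Module.Basis (Module.Basis.ofVectorSpaceIndex (ZMod 2) C) (ZMod 2) C,
    True := ⟨Module.Basis.ofVectorSpace (ZMod 2) C, trivial⟩
  have p1 : ∀ k, (bE.prod (bE.prod bC)) (Sum.inl k) = (bE k, 0, 0) := by
    intro k; rw [Module.Basis.prod_apply]; rfl
  have p2 : ∀ k, (bE.prod (bE.prod bC)) (Sum.inr (Sum.inl k)) = (0, bE k, 0) := by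
    intro k
    rw [Module.Basis.prod_apply, Sum.elim_inr, Function.comp_apply, Module.Basis.prod_apply]; rfl
  have p3 : ∀ l, (bE.prod (bE.prod bC)) (Sum.inr (Sum.inr l)) = (0, 0, bC l) := by
    intro l
    rw [Module.Basis.prod_apply, Sum.elim_inr, Function.comp_apply, Module.Basis.prod_apply]; rfl
  obtain ⟨B, hB⟩ : ∃ B : Module.Basis (Module.Basis.ofVectorSpaceIndex (ZMod 2) E ⊕
      (Module.Basis.ofVectorSpaceIndex (ZMod 2) E ⊕ Module.Basis.ofVectorSpaceIndex (ZMod 2) C))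
      (ZMod 2) V, ∀ i, B i = Φ ((bE.prod (bE.prod bC)) i) :=
    ⟨(bE.prod (bE.prod bC)).map (LinearEquiv.ofBijective Φ ⟨hinj, hsurj⟩), fun i => by
      rw [Module.Basis.map_apply, LinearEquiv.ofBijective_apply]⟩
  have e1 : ∀ k, B (Sum.inl k) = (bE k : V) := by
    intro k
    rw [hB, p1, hΦ]; simp
  have e2 : ∀ k, B (Sum.inr (Sum.inl k)) = T (bE k : V) := by
    intro k
    rw [hB, p2, hΦ]; simp
  have e3 : ∀ l, B (Sum.inr (Sum.inr l)) = (bC l : V) := by
    intro l
    rw [hB, p3, hΦ]; simp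
  refine ⟨_, B, ?_⟩
  rintro (k | k | l)
  · exact ⟨Sum.inr (Sum.inl k), by rw [e1, e2]⟩
  · exact ⟨Sum.inl k, by rw [e2, e1, hT]⟩
  · refine ⟨Sum.inr (Sum.inr l), ?_⟩
    rw [e3]
    have hcK : N (bC l : V) = 0 := LinearMap.mem_ker.mp (hCK (bC l).2)
    rw [hTN, hcK, add_zero]

/-- Over the real numbers, that is for the group G = Gal(ℂ/ℝ) of order 2 acting linearly on a
finite-dimensional vector space V over the field 𝔽₂ with two elements, the short exact sequence of
G-modules 0 → V → S²V → Λ²V → 0 (v ↦ v·v, x·y ↦ x ∧ y) splits G-equivariantly. Here, for a vector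
space V over the field with two elements carrying a linear action ρ of a group G, write N_a ⊆ V ⊗ V
for the span of the tensors v ⊗ v and N_s ⊆ N_a for the span of the tensors x ⊗ y + y ⊗ x, so that
S²V = (V ⊗ V)/N_s, Λ²V = (V ⊗ V)/N_a and the surjection S²V → Λ²V, x·y ↦ x ∧ y, is G-equivariant for
the diagonal action; a G-equivariant linear section of this surjection is the same thing as a
G-stable subspace W of V ⊗ V with W ∩ N_a = N_s and W + N_a = V ⊗ V, which is how the splitting is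
stated. (G is any group of order 2 here; V is taken finite-dimensional, the case covered by the
structure theory of finitely generated modules over 𝔽₂[G] that the argument uses.) -/
theorem result (G : Type u) [Group G] (hG : Nat.card G = 2)
    (V : Type v) [AddCommGroup V] [Module (ZMod 2) V] [Module.Finite (ZMod 2) V]
    (ρ : Representation (ZMod 2) G V) :
    ∃ W : Submodule (ZMod 2) (V ⊗[ZMod 2] V),
      (∀ g : G, ∀ w ∈ W, ρ.tprod ρ g w ∈ W) ∧
      W ⊓ Submodule.span (ZMod 2) (Set.range fun v : V => v ⊗ₜ[ZMod 2] v) =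
        Submodule.span (ZMod 2) (Set.range fun p : V × V => p.1 ⊗ₜ[ZMod 2] p.2 + p.2 ⊗ₜ[ZMod 2] p.1) ∧
      W ⊔ Submodule.span (ZMod 2) (Set.range fun v : V => v ⊗ₜ[ZMod 2] v) = ⊤ := by
  obtain ⟨σ, hσ, hσu⟩ := (Nat.card_eq_two_iff' (1 : G)).mp hG
  have hσσ : σ * σ = 1 := by
    by_contra h
    have h1 : σ * σ = σ := hσu (σ * σ) h
    apply hσ
    have h2 : σ * σ = σ * 1 := by rw [mul_one]; exact h1
    exact mul_left_cancel h2
  have hT : ∀ x, ρ σ (ρ σ x) = x := by
    intro x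
    rw [← Module.End.mul_apply, ← map_mul, hσσ, map_one, Module.End.one_apply]
  obtain ⟨ι, b, hb⟩ := exists_perm_basis (ρ σ) hT
  apply Groth.Agent.S18548.result G V ρ ι b
  intro g i
  by_cases hg : g = 1
  · subst hg
    exact ⟨i, by rw [map_one, Module.End.one_apply]⟩
  · have := hσu g hg
    subst this
    exact hb i

end Groth.Agent.S18549
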