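import Groth.Statements.S18550
import Mathlib.Algebra.Homology.DerivedCategory.FullyFaithful
import Mathlib.Algebra.Homology.DerivedCategory.TStructure
import Mathlib.CategoryTheory.Triangulated.TStructure.TruncLEGT

set_option autoImplicit false
open CategoryTheory Limits
universe w v u
open CohDer

namespace Groth.Agent.S18550

open DerivedCategory Pretriangulated

section

variable {A : Type u} [Category.{v} A] [Abelian A] [HasDerivedCategory.{w} A]

lemma base (X : DerivedCategory A) (a : ℤ) [X.IsGE a] [X.IsLE a] (f : X ⟶ X)
    (hf : (homologyFunctor A a).map f = 0) : f = 0 := by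
  obtain ⟨Y, ⟨e⟩⟩ := exists_iso_singleFunctor_obj_of_isGE_of_isLE X a
  obtain ⟨φ, hφ⟩ := (singleFunctor A a).map_surjective (e.inv ≫ f ≫ e.hom)
  have h1 : (singleFunctor A a ⋙ homologyFunctor A a).map φ = 0 := by
    rw [Functor.comp_map, hφ, Functor.map_comp, Functor.map_comp, hf, zero_comp, comp_zero]
  have h2 : φ = 0 := by
    have := NatIso.naturality_1 (singleFunctorCompHomologyFunctorIso A a) φ
    rw [h1, zero_comp, comp_zero] at this
    exact this.symm
  rw [h2, Functor.map_zero] at hφ
  rw [← cancel_epi e.inv, ← cancel_mono e.hom, Category.assoc, ← hφ, comp_zero, zero_comp]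

variable (A) in
/-- The canonical t-structure. -/
noncomputable abbrev tt : CategoryTheory.Triangulated.TStructure (DerivedCategory A) :=
  DerivedCategory.TStructure.t

variable (X : DerivedCategory A) (a : ℤ)


lemma isZero_LE (i : ℤ) (hi : a < i) :
    IsZero ((homologyFunctor A i).obj (((tt A).truncLE a).obj X)) :=
  isZero_of_isLE _ a i hi

lemma isZero_GT (i : ℤ) (hi : i ≤ a) :
    IsZero ((homologyFunctor A i).obj (((tt A).truncGT a).obj X)) :=
  isZero_of_isGE _ (a + 1) i (by lia)

lemma mono_ι (i : ℤ) (hi : i ≤ a) :
    Mono ((homologyFunctor A i).map (((tt A).truncLEι a).app X)) :=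
  ((homologyFunctor A 0).homologySequence_mono_shift_map_mor₁_iff _
    ((tt A).triangleLEGT_distinguished a X) (i - 1) i (by lia)).2
    ((isZero_GT X a (i - 1) (by lia)).eq_of_src _ _)

lemma epi_π (i : ℤ) (hi : a < i) :
    Epi ((homologyFunctor A i).map (((tt A).truncGTπ a).app X)) :=
  ((homologyFunctor A 0).homologySequence_epi_shift_map_mor₂_iff _
    ((tt A).triangleLEGT_distinguished a X) i (i + 1) rfl).2
    ((isZero_LE X a (i + 1) (by lia)).eq_of_tgt _ _)

theorem main (n : ℕ) : ∀ (a : ℤ) (X : DerivedCategory A)
    (_ : ∀ i : ℤ, i < a ∨ a + n < i → IsZero ((homologyFunctor A i).obj X))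
    (f : End X) (_ : ∀ i : ℤ, (homologyFunctor A i).map f = 0), f ^ (n + 1) = 0 := by
  induction n with
  | zero =>
    intro a X hX f hf
    have : X.IsGE a := (isGE_iff X a).2 (fun i hi => hX i (Or.inl hi))
    have : X.IsLE a := (isLE_iff X a).2 (fun i hi => hX i (Or.inr (by simpa using hi)))
    rw [zero_add, pow_one]
    exact base X a f (hf a)
  | succ n ih =>
    intro a X hX f hf
    have natι : ((tt A).truncLE a).map f ≫ ((tt A).truncLEι a).app X = ((tt A).truncLEι a).app X ≫ f :=
      ((tt A).truncLEι a).naturality f
    have natπ : f ≫ ((tt A).truncGTπ a).app X = ((tt A).truncGTπ a).app X ≫ ((tt A).truncGT a).map f :=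
      ((tt A).truncGTπ a).naturality f
    -- Claim 1
    have h1 : ((tt A).truncLE a).map f = 0 := by
      have : (((tt A).truncLE a).obj X).IsGE a := (isGE_iff _ a).2 (fun i hi => by
        have := mono_ι X a i (by lia)
        exact IsZero.of_mono ((homologyFunctor A i).map (((tt A).truncLEι a).app X)) (hX i (Or.inl hi)))
      have : (((tt A).truncLE a).obj X).IsLE a := by infer_instance
      apply base _ a
      have := mono_ι X a a le_rfl
      rw [← cancel_mono ((homologyFunctor A a).map (((tt A).truncLEι a).app X)), zero_comp,
        ← Functor.map_comp, natι, Functor.map_comp, hf a, comp_zero]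
    -- Claim 2
    let f'' : End (((tt A).truncGT a).obj X) := ((tt A).truncGT a).map f
    have h2 : f'' ^ (n + 1) = 0 := by
      apply ih (a + 1) (((tt A).truncGT a).obj X)
      · rintro i (hi | hi)
        · exact isZero_GT X a i (by lia)
        · have := epi_π X a i (by lia)
          exact IsZero.of_epi ((homologyFunctor A i).map (((tt A).truncGTπ a).app X))
            (hX i (Or.inr (by push_cast; lia)))
      · intro i
        by_cases hi : i ≤ a
        · exact (isZero_GT X a i hi).eq_of_src _ _
        · have := epi_π X a i (by lia)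
          rw [← cancel_epi ((homologyFunctor A i).map (((tt A).truncGTπ a).app X)), comp_zero,
            ← Functor.map_comp, ← natπ, Functor.map_comp, hf i, zero_comp]
    -- Claim 3
    have h3 : ∀ k : ℕ, (f ^ k : X ⟶ X) ≫ ((tt A).truncGTπ a).app X =
        ((tt A).truncGTπ a).app X ≫ (f'' ^ k : ((tt A).truncGT a).obj X ⟶ ((tt A).truncGT a).obj X) := by
      intro k
      induction k with
      | zero =>
        rw [pow_zero, pow_zero]
        exact (Category.id_comp _).trans (Category.comp_id _).symm
      | succ k ihk =>
        rw [pow_succ, pow_succ, End.mul_def, End.mul_def, Category.assoc, ihk,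
          ← Category.assoc, natπ, Category.assoc]
    -- Claim 4
    obtain ⟨g, hg⟩ : ∃ g : X ⟶ ((tt A).truncLE a).obj X,
        (f ^ (n + 1) : X ⟶ X) = g ≫ ((tt A).truncLEι a).app X :=
      Triangle.coyoneda_exact₂ _ ((tt A).triangleLEGT_distinguished a X) _ (by
        show (f ^ (n + 1) : X ⟶ X) ≫ ((tt A).truncGTπ a).app X = 0
        rw [h3, h2, comp_zero])
    -- Claim 5
    rw [pow_succ', End.mul_def, hg, Category.assoc, ← natι, h1, zero_comp, comp_zero]

end

/-- Let A be an abelian category, X an object of its derived category whose cohomology objects H^i(X)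
are zero for all integers i outside the interval [a, a + n], and f : X → X an endomorphism in the
derived category such that H^i(f) = 0 for every i. Then f^(n+1) = 0. (The source works in the
bounded derived category; the statement in D(A) for an object with cohomology bounded in this way is
the same assertion, the bounded derived category being a full subcategory.) -/
theorem result (A : Type u) [Category.{v} A] [Abelian A]
    [HasDerivedCategory.{w} A] (X : DerivedCategory A) (a : ℤ) (n : ℕ)
    (hX : ∀ i : ℤ, i < a ∨ a + n < i → IsZero ((DerivedCategory.homologyFunctor A i).obj X))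
    (f : CategoryTheory.End X) (hf : ∀ i : ℤ, (DerivedCategory.homologyFunctor A i).map f = 0) :
    f ^ (n + 1) = 0 :=
  main n a X hX f hf

end Groth.Agent.S18550
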