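import Groth.Statements.S18578
import Mathlib
import Groth.Agent.Lib.LogDiff2_helper9
import Groth.Agent.Lib.RegUFD2_helper3
import Groth.Agent.Lib.SmoothRegHom_helper3

set_option autoImplicit false
universe u
open LogDiff

namespace Groth.Agent.S18578

/-- The degree-one case, stated at the local ring of a point. Let k be a field of characteristic zero, B
a smooth k-algebra, R the localization of B at a prime ideal, K the fraction field of R and f_1, …,
f_r prime elements of R. If g is a unit of K whose logarithmic differential g⁻¹dg in Ω_{K/k} is the
image of a form η ∈ Ω_{R/k} plus an R-linear combination Σ c_i f_i⁻¹df_i, then g⁻¹dg = v⁻¹dv + Σ b_i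
f_i⁻¹df_i for a unit v of R and integers b_i. (When the f_i are part of a regular system of
parameters the hypothesis says that g⁻¹dg has at worst logarithmic poles along the divisor f_1⋯f_r =
0 at this point, and the statement is the stalkwise injectivity of 1-forms with logarithmic poles
modulo logarithmic differentials of functions invertible off the divisor into Ω¹_K modulo
logarithmic differentials; it is stated here for arbitrary prime elements f_i.) -/
theorem result
    {k B R K : Type u} [Field k] [CharZero k] [CommRing B] [Algebra k B] [Algebra.Smooth k B]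
    (p : Ideal B) [p.IsPrime] [CommRing R] [Algebra B R] [IsLocalization.AtPrime R p]
    [Algebra k R] [IsScalarTower k B R]
    [Field K] [Algebra R K] [IsFractionRing R K] [Algebra k K] [IsScalarTower k R K]
    {r : ℕ} (f : Fin r → R) (hf : ∀ i, Prime (f i))
    (g : Kˣ) (η : Ω[R⁄k]) (c : Fin r → R)
    (h : (g : K)⁻¹ • KaehlerDifferential.D k K (g : K) =
      KaehlerDifferential.map k k R K η +
        ∑ i, (algebraMap R K (c i) * (algebraMap R K (f i))⁻¹) •
          KaehlerDifferential.D k K (algebraMap R K (f i))) :
    ∃ (v : Rˣ) (b : Fin r → ℤ),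
      (g : K)⁻¹ • KaehlerDifferential.D k K (g : K) =
        (algebraMap R K (v : R))⁻¹ • KaehlerDifferential.D k K (algebraMap R K (v : R)) +
          ∑ i, ((b i : K) * (algebraMap R K (f i))⁻¹) •
            KaehlerDifferential.D k K (algebraMap R K (f i)) := by
  classical
  haveI : IsDomain R := Function.Injective.isDomain (algebraMap R K) (IsFractionRing.injective R K)
  haveI : IsRegularRing B := Groth.Agent.Lib.SmoothRegHomH3.isRegularRing_of_smooth_field k B
  haveI : IsRegularLocalRing R := IsRegularLocalRing.of_ringEquiv
    (IsLocalization.algEquiv p.primeCompl (Localization.AtPrime p) R).toRingEquiv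
  haveI : UniqueFactorizationMonoid R := (Groth.Agent.Lib.RegUFD2H3.ufd_of_regular R).2
  haveI : Algebra.FormallySmooth B R := .of_isLocalization p.primeCompl
  haveI : Algebra.FormallySmooth k R := .comp k B R
  haveI : Algebra.EssFiniteType B R := .of_isLocalization R p.primeCompl
  haveI : Algebra.EssFiniteType k R := .comp k B R
  have h' : Groth.Agent.LogDiff9.dlogFun k (g : K) = KaehlerDifferential.map k k R K η +
      ∑ i, algebraMap R K (c i) • Groth.Agent.LogDiff9.dlogFun k (algebraMap R K (f i)) := by
    unfold Groth.Agent.LogDiff9.dlogFun
    rw [h]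
    congr 1
    refine Finset.sum_congr rfl fun i _ => ?_
    rw [smul_smul]
  obtain ⟨v, b, hvb⟩ := Groth.Agent.LogDiff9.main f hf g η c h'
  refine ⟨v, b, ?_⟩
  unfold Groth.Agent.LogDiff9.dlogFun at hvb
  rw [hvb]
  congr 1
  refine Finset.sum_congr rfl fun i _ => ?_
  rw [mul_smul, Int.cast_smul_eq_zsmul]

end Groth.Agent.S18578
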