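import Groth.Statements.S18579
import Mathlib

set_option autoImplicit false
universe u
open LogDiff

namespace Groth.Agent.S18579

theorem exists_unit_prod {R : Type*} [CommRing R] [IsDomain R] {r : ℕ} (f : Fin r → R)
    (hf : ∀ i, Prime (f i)) (N : ℕ) (a a' : R) (h : a * a' = (∏ i, f i) ^ N) :
    ∃ (v : Rˣ) (d : Fin r → ℕ), a = (v : R) * ∏ i, f i ^ d i := by
  classical
  have h1 : a * a' = 1 * ∏ ij ∈ (Finset.univ : Finset (Fin r × Fin N)), f ij.1 := by
    rw [h, one_mul, ← Finset.univ_product_univ, Finset.prod_product, ← Finset.prod_pow]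
    simp
  obtain ⟨t, u, b, c, -, -, hbc, hab, -⟩ := mul_eq_mul_prime_prod (fun i _ => hf i.1) h1
  have hb : IsUnit b := IsUnit.of_mul_eq_one c hbc.symm
  refine ⟨hb.unit, fun i => (t.filter (fun ij => ij.1 = i)).card, ?_⟩
  rw [hab, IsUnit.unit_spec]
  congr 1
  rw [Finset.prod_comp f (fun ij : Fin r × Fin N => ij.1)]
  apply Finset.prod_subset (Finset.subset_univ _)
  intro i _ hi
  have : t.filter (fun ij => ij.1 = i) = ∅ := by
    rw [Finset.filter_eq_empty_iff]
    intro ij hij h
    exact hi (Finset.mem_image.mpr ⟨ij, hij, h⟩)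
  rw [this, Finset.card_empty, pow_zero]

theorem emult_prod {R : Type*} [CommRing R] [IsDomain R] {r : ℕ} (f : Fin r → R)
    (hf : ∀ i, Prime (f i)) (hfa : ∀ i j, Associated (f i) (f j) → i = j) (u : Rˣ)
    (p : Fin r → ℕ) (j : Fin r) :
    emultiplicity (f j) ((u : R) * ∏ i, f i ^ p i) = p j := by
  rw [emultiplicity_mul (hf j), emultiplicity_of_unit_right (hf j).not_isUnit u, zero_add,
    Finset.emultiplicity_prod (hf j)]
  rw [Finset.sum_eq_single j]
  · exact emultiplicity_pow_self_of_prime (hf j) (p j)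
  · intro i _ hij
    rw [emultiplicity_pow (hf j)]
    have : emultiplicity (f j) (f i) = 0 := by
      rw [emultiplicity_eq_zero]
      intro hdvd
      exact hij ((hfa j i ((hf j).associated_of_dvd (hf i) hdvd)).symm)
    rw [this, mul_zero]
  · intro h; exact absurd (Finset.mem_univ j) h

theorem uniq {R K : Type*} [CommRing R] [IsDomain R] [Field K] [Algebra R K] [IsFractionRing R K]
    {r : ℕ} (f : Fin r → R) (hf : ∀ i, Prime (f i))
    (hfa : ∀ i j, Associated (f i) (f j) → i = j) (v v' : Rˣ) (b b' : Fin r → ℤ)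
    (h : algebraMap R K (v : R) * ∏ i, (algebraMap R K (f i)) ^ (b i) =
      algebraMap R K (v' : R) * ∏ i, (algebraMap R K (f i)) ^ (b' i)) :
    v = v' ∧ b = b' := by
  have hF : ∀ i, algebraMap R K (f i) ≠ 0 := fun i => by
    rw [Ne, IsFractionRing.to_map_eq_zero_iff]
    exact (hf i).ne_zero
  obtain ⟨M, hM⟩ : ∃ M : ℕ, M = ∑ i, (b i).natAbs + ∑ i, (b' i).natAbs := ⟨_, rfl⟩
  have hb : ∀ i, 0 ≤ b i + M := by
    intro i
    have : (b i).natAbs ≤ ∑ i, (b i).natAbs :=
      Finset.single_le_sum (f := fun i => (b i).natAbs) (fun _ _ => Nat.zero_le _)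
        (Finset.mem_univ i)
    omega
  have hb' : ∀ i, 0 ≤ b' i + M := by
    intro i
    have : (b' i).natAbs ≤ ∑ i, (b' i).natAbs :=
      Finset.single_le_sum (f := fun i => (b' i).natAbs) (fun _ _ => Nat.zero_le _)
        (Finset.mem_univ i)
    omega
  have key : ∀ c : Fin r → ℤ, (∀ i, 0 ≤ c i + M) →
      (∏ i, (algebraMap R K (f i)) ^ (c i)) * (∏ i, (algebraMap R K (f i)) ^ M) =
        algebraMap R K (∏ i, f i ^ (c i + M).toNat) := by
    intro c hc
    rw [← Finset.prod_mul_distrib, map_prod]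
    apply Finset.prod_congr rfl
    intro i _
    rw [map_pow, ← zpow_natCast, ← zpow_add₀ (hF i),
      ← zpow_natCast (algebraMap R K (f i)) (c i + M).toNat, Int.toNat_of_nonneg (hc i)]
  have h2 : algebraMap R K ((v : R) * ∏ i, f i ^ (b i + M).toNat) =
      algebraMap R K ((v' : R) * ∏ i, f i ^ (b' i + M).toNat) := by
    rw [map_mul, map_mul, ← key b hb, ← key b' hb', ← mul_assoc, ← mul_assoc, h]
  have h3 := IsFractionRing.injective R K h2
  have h4 : ∀ j, (b j + M).toNat = (b' j + M).toNat := by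
    intro j
    have e1 := emult_prod f hf hfa v (fun i => (b i + M).toNat) j
    have e2 := emult_prod f hf hfa v' (fun i => (b' i + M).toNat) j
    beta_reduce at e1 e2
    rw [h3] at e1
    have e3 := e1.symm.trans e2
    exact_mod_cast e3
  have h5 : b = b' := by
    funext j
    have := h4 j
    have := hb j
    have := hb' j
    omega
  refine ⟨?_, h5⟩
  subst h5
  have hne : (∏ i, (algebraMap R K (f i)) ^ (b i)) ≠ 0 :=
    Finset.prod_ne_zero_iff.mpr (fun i _ => zpow_ne_zero _ (hF i))
  have := mul_right_cancel₀ hne h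
  exact Units.ext (IsFractionRing.injective R K this)

theorem exist_part {R K : Type*} [CommRing R] [IsDomain R] [Field K] [Algebra R K]
    [IsFractionRing R K] {r : ℕ} (f : Fin r → R) (hf : ∀ i, Prime (f i)) (w : Kˣ)
    (hw : ∃ (a : R) (n : ℕ), (w : K) * algebraMap R K ((∏ i, f i) ^ n) = algebraMap R K a)
    (hw' : ∃ (a : R) (n : ℕ), ((w⁻¹ : Kˣ) : K) * algebraMap R K ((∏ i, f i) ^ n) = algebraMap R K a) :
    ∃ (v : Rˣ) (b : Fin r → ℤ),
      (w : K) = algebraMap R K (v : R) * ∏ i, (algebraMap R K (f i)) ^ (b i) := by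
  obtain ⟨a, n, ha⟩ := hw
  obtain ⟨a', m, ha'⟩ := hw'
  have hF : ∀ i, algebraMap R K (f i) ≠ 0 := fun i => by
    rw [Ne, IsFractionRing.to_map_eq_zero_iff]
    exact (hf i).ne_zero
  have h1 : a * a' = (∏ i, f i) ^ (n + m) := by
    apply IsFractionRing.injective R K
    rw [map_mul, ← ha, ← ha', pow_add, map_mul]
    have hww : (w : K) * ((w⁻¹ : Kˣ) : K) = 1 := by simp
    calc (w : K) * algebraMap R K ((∏ i, f i) ^ n) *
          (((w⁻¹ : Kˣ) : K) * algebraMap R K ((∏ i, f i) ^ m))
        = ((w : K) * ((w⁻¹ : Kˣ) : K)) *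
          (algebraMap R K ((∏ i, f i) ^ n) * algebraMap R K ((∏ i, f i) ^ m)) := by ring
      _ = _ := by rw [hww, one_mul]
  obtain ⟨v, d, hd⟩ := exists_unit_prod f hf (n + m) a a' h1
  refine ⟨v, fun i => (d i : ℤ) - n, ?_⟩
  have hP : algebraMap R K ((∏ i, f i) ^ n) = ∏ i, (algebraMap R K (f i)) ^ (n : ℤ) := by
    rw [← Finset.prod_pow, map_prod]
    apply Finset.prod_congr rfl
    intro i _
    rw [map_pow, zpow_natCast]
  have hPne : algebraMap R K ((∏ i, f i) ^ n) ≠ 0 := by
    rw [hP]
    exact Finset.prod_ne_zero_iff.mpr fun i _ => zpow_ne_zero _ (hF i)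
  apply mul_right_cancel₀ hPne
  rw [ha, hd, map_mul, mul_assoc]
  congr 1
  rw [hP, ← Finset.prod_mul_distrib, map_prod]
  apply Finset.prod_congr rfl
  intro i _
  rw [← zpow_add₀ (hF i), sub_add_cancel, zpow_natCast, map_pow]

/-- The exact sequence for units (first Milnor K-groups) when every component of the divisor is removed.
Let k be a field, B a smooth k-algebra, R the localization of B at a prime ideal, K the fraction
field of R and f_1, …, f_r pairwise non-associate prime elements of R. If w is a unit of K such that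
w and w⁻¹ both lie in R[1/(f_1⋯f_r)], i.e. each becomes an element of R after multiplication by a
power of f_1⋯f_r, then there is exactly one pair (v, b) consisting of a unit v of R and integers
b_1, …, b_r with w = v · ∏ f_i^{b_i} in K. (This is the exactness of 0 → Γ(Spec R, O^×) → Γ(Spec R ∖
V(f_1⋯f_r), O^×) → ℤ^r → 0, the last map being the orders along the f_i. The published statement
takes the f_i to be local equations of the components of a normal crossings divisor, over a field of
characteristic zero; this row allows arbitrary pairwise non-associate prime elements and any field.) -/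
theorem result
    {k B R K : Type u} [Field k] [CommRing B] [Algebra k B] [Algebra.Smooth k B]
    (p : Ideal B) [p.IsPrime] [CommRing R] [Algebra B R] [IsLocalization.AtPrime R p]
    [Field K] [Algebra R K] [IsFractionRing R K]
    {r : ℕ} (f : Fin r → R) (hf : ∀ i, Prime (f i)) (hfa : ∀ i j, Associated (f i) (f j) → i = j)
    (w : Kˣ)
    (hw : ∃ (a : R) (n : ℕ), (w : K) * algebraMap R K ((∏ i, f i) ^ n) = algebraMap R K a)
    (hw' : ∃ (a : R) (n : ℕ), (w⁻¹ : Kˣ) * algebraMap R K ((∏ i, f i) ^ n) = algebraMap R K a) :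
    ∃! vb : Rˣ × (Fin r → ℤ),
      (w : K) = algebraMap R K (vb.1 : R) * ∏ i, (algebraMap R K (f i)) ^ (vb.2 i) := by
  haveI : IsDomain R := Function.Injective.isDomain (algebraMap R K) (IsFractionRing.injective R K)
  obtain ⟨v, b, hvb⟩ := exist_part f hf w hw hw'
  refine ⟨(v, b), hvb, ?_⟩
  rintro ⟨v', b'⟩ h'
  have h'' : (w : K) = algebraMap R K (v' : R) * ∏ i, (algebraMap R K (f i)) ^ (b' i) := h'
  have := uniq f hf hfa v' v b' b (h''.symm.trans hvb)
  exact Prod.ext this.1 this.2

end Groth.Agent.S18579
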