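import Groth.Statements.S18589
import Mathlib

set_option autoImplicit false
open CAlg

namespace Groth.Agent.S18589

/-- For a prime p and every natural number n, the n-th Witt addition polynomial over the integers (the
polynomial S_n with (x + y)_n = S_n(x_0, y_0, …, x_n, y_n) for p-typical Witt vectors x, y) is
weighted homogeneous of weighted degree p ^ n for the grading in which the variables x_i and y_i
have weight p ^ i. -/
theorem result (p : ℕ) [Fact p.Prime] (n : ℕ) :
    MvPolynomial.IsWeightedHomogeneous (fun i : Fin 2 × ℕ => p ^ i.2) (WittVector.wittAdd p n) (p ^ n) := by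
  classical
  have hp : (p : ℤ) ≠ 0 := by exact_mod_cast (Fact.out : p.Prime).ne_zero
  induction n using Nat.strong_induction_on with
  | _ n ih =>
  have hR : ∀ b : Fin 2, MvPolynomial.IsWeightedHomogeneous (fun i : Fin 2 × ℕ => p ^ i.2)
      (MvPolynomial.rename (Prod.mk b) (wittPolynomial p ℤ n)) (p ^ n) := by
    intro b
    rw [wittPolynomial_eq_sum_C_mul_X_pow, map_sum]
    apply MvPolynomial.IsWeightedHomogeneous.sum
    intro i hi
    rw [map_mul, MvPolynomial.rename_C, map_pow (MvPolynomial.rename _), MvPolynomial.rename_X]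
    have h1 := ((MvPolynomial.isWeightedHomogeneous_X ℤ (fun i : Fin 2 × ℕ => p ^ i.2) (b, i)).pow
      (p ^ (n - i))).C_mul ((p : ℤ) ^ i)
    have h2 : p ^ (n - i) • p ^ i = p ^ n := by
      rw [smul_eq_mul, ← pow_add, Nat.sub_add_cancel]
      exact Nat.lt_succ_iff.mp (Finset.mem_range.mp hi)
    rw [← h2]
    exact h1
  have key := wittStructureInt_prop p
    (MvPolynomial.X (0 : Fin 2) + MvPolynomial.X 1) n
  have hL : MvPolynomial.bind₁ (WittVector.wittAdd p) (wittPolynomial p ℤ n)
      = MvPolynomial.C ((p : ℤ) ^ n) * WittVector.wittAdd p n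
        + ∑ i ∈ Finset.range n, MvPolynomial.C ((p : ℤ) ^ i) * WittVector.wittAdd p i ^ p ^ (n - i) := by
    rw [wittPolynomial_eq_sum_C_mul_X_pow, map_sum, Finset.sum_range_succ, add_comm]
    congr 1
    · rw [map_mul, MvPolynomial.bind₁_C_right, map_pow (MvPolynomial.bind₁ _),
        MvPolynomial.bind₁_X_right, Nat.sub_self, pow_zero, pow_one]
    · apply Finset.sum_congr rfl
      intro i hi
      rw [map_mul, MvPolynomial.bind₁_C_right, map_pow (MvPolynomial.bind₁ _),
        MvPolynomial.bind₁_X_right]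
  have hkey : MvPolynomial.C ((p : ℤ) ^ n) * WittVector.wittAdd p n
      = (MvPolynomial.rename (Prod.mk (0 : Fin 2)) (wittPolynomial p ℤ n)
          + MvPolynomial.rename (Prod.mk (1 : Fin 2)) (wittPolynomial p ℤ n))
        - ∑ i ∈ Finset.range n, MvPolynomial.C ((p : ℤ) ^ i) * WittVector.wittAdd p i ^ p ^ (n - i) := by
    have : MvPolynomial.bind₁ (WittVector.wittAdd p) (wittPolynomial p ℤ n)
        = MvPolynomial.rename (Prod.mk (0 : Fin 2)) (wittPolynomial p ℤ n)
          + MvPolynomial.rename (Prod.mk (1 : Fin 2)) (wittPolynomial p ℤ n) := by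
      rw [WittVector.wittAdd, key, map_add, MvPolynomial.bind₁_X_right, MvPolynomial.bind₁_X_right]
    rw [← this, hL]; ring
  have hhom : MvPolynomial.IsWeightedHomogeneous (fun i : Fin 2 × ℕ => p ^ i.2)
      (MvPolynomial.C ((p : ℤ) ^ n) * WittVector.wittAdd p n) (p ^ n) := by
    rw [hkey]
    apply MvPolynomial.IsWeightedHomogeneous.sub ((hR 0).add (hR 1))
    apply MvPolynomial.IsWeightedHomogeneous.sum
    intro i hi
    have hi' : i < n := Finset.mem_range.mp hi
    have h1 := ((ih i hi').pow (p ^ (n - i))).C_mul ((p : ℤ) ^ i)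
    have h2 : p ^ (n - i) • p ^ i = p ^ n := by
      rw [smul_eq_mul, ← pow_add, Nat.sub_add_cancel hi'.le]
    rw [← h2]
    exact h1
  intro d hd
  apply hhom
  rw [MvPolynomial.coeff_C_mul]
  exact mul_ne_zero (pow_ne_zero _ hp) hd

end Groth.Agent.S18589
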