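import Groth.Statements.S18590
import Mathlib

set_option autoImplicit false
universe u
open CAlg

namespace Groth.Agent.S18590

open MvPolynomial in
theorem rename_witt_homog (p : ℕ) [Fact p.Prime] (c : Fin 2 → ℕ) (b : Fin 2) (n : ℕ) :
    IsWeightedHomogeneous (fun i : Fin 2 × ℕ => c i.1 * p ^ i.2)
      (rename (Prod.mk b) (wittPolynomial p ℤ n)) (c b * p ^ n) := by
  rw [wittPolynomial_eq_sum_C_mul_X_pow, map_sum]
  apply IsWeightedHomogeneous.sum
  intro i hi
  rw [map_mul, rename_C, map_pow (rename _), rename_X]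
  have h1 := ((isWeightedHomogeneous_X ℤ (fun i : Fin 2 × ℕ => c i.1 * p ^ i.2) (b, i)).pow
    (p ^ (n - i))).C_mul ((p : ℤ) ^ i)
  have h2 : p ^ (n - i) • (c b * p ^ i) = c b * p ^ n := by
    rw [smul_eq_mul, mul_left_comm, ← pow_add, Nat.sub_add_cancel]
    exact Nat.lt_succ_iff.mp (Finset.mem_range.mp hi)
  rw [← h2]
  exact h1

open MvPolynomial in
theorem wsi_homog (p : ℕ) [Fact p.Prime] (w : Fin 2 × ℕ → ℕ) (Φ : MvPolynomial (Fin 2) ℤ) (D : ℕ)
    (hΦ : ∀ n, IsWeightedHomogeneous w
      (bind₁ (fun b => rename (Prod.mk b) (wittPolynomial p ℤ n)) Φ) (D * p ^ n)) (n : ℕ) :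
    IsWeightedHomogeneous w (wittStructureInt p Φ n) (D * p ^ n) := by
  classical
  have hp : (p : ℤ) ≠ 0 := by exact_mod_cast (Fact.out : p.Prime).ne_zero
  induction n using Nat.strong_induction_on with
  | _ n ih =>
  have key := wittStructureInt_prop p Φ n
  have hL : bind₁ (wittStructureInt p Φ) (wittPolynomial p ℤ n)
      = C ((p : ℤ) ^ n) * wittStructureInt p Φ n
        + ∑ i ∈ Finset.range n, C ((p : ℤ) ^ i) * wittStructureInt p Φ i ^ p ^ (n - i) := by
    rw [wittPolynomial_eq_sum_C_mul_X_pow, map_sum, Finset.sum_range_succ, add_comm]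
    congr 1
    · rw [map_mul, bind₁_C_right, map_pow (bind₁ _), bind₁_X_right, Nat.sub_self, pow_zero,
        pow_one]
    · apply Finset.sum_congr rfl
      intro i hi
      rw [map_mul, bind₁_C_right, map_pow (bind₁ _), bind₁_X_right]
  have hkey : C ((p : ℤ) ^ n) * wittStructureInt p Φ n
      = bind₁ (fun b => rename (Prod.mk b) (wittPolynomial p ℤ n)) Φ
        - ∑ i ∈ Finset.range n, C ((p : ℤ) ^ i) * wittStructureInt p Φ i ^ p ^ (n - i) := by
    rw [← key, hL]; ring
  have hhom : IsWeightedHomogeneous w (C ((p : ℤ) ^ n) * wittStructureInt p Φ n) (D * p ^ n) := by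
    rw [hkey]
    apply IsWeightedHomogeneous.sub (hΦ n)
    apply IsWeightedHomogeneous.sum
    intro i hi
    have hi' : i < n := Finset.mem_range.mp hi
    have h1 := ((ih i hi').pow (p ^ (n - i))).C_mul ((p : ℤ) ^ i)
    have h2 : p ^ (n - i) • (D * p ^ i) = D * p ^ n := by
      rw [smul_eq_mul, mul_left_comm, ← pow_add, Nat.sub_add_cancel hi'.le]
    rw [← h2]
    exact h1
  intro d hd
  apply hhom
  rw [coeff_C_mul]
  exact mul_ne_zero (pow_ne_zero _ hp) hd

open MvPolynomial in
theorem aeval_mem_of_homog {A K : Type*} [CommRing A] [CommRing K] [Algebra A K]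
    (N : ℕ → Submodule A K) (h1 : (1 : K) ∈ N 0)
    (hmul : ∀ (i j : ℕ) (a b : K), a ∈ N i → b ∈ N j → a * b ∈ N (i + j))
    {σ : Type*} (w : σ → ℕ) (v : σ → K) (hv : ∀ s, v s ∈ N (w s))
    (P : MvPolynomial σ ℤ) (D : ℕ) (hP : IsWeightedHomogeneous w P D) :
    aeval v P ∈ N D := by
  classical
  have hpow : ∀ (k : ℕ) (a : K), a ∈ N k → ∀ e : ℕ, a ^ e ∈ N (e * k) := by
    intro k a ha e
    induction e with
    | zero => simpa using h1
    | succ e ih =>
      rw [pow_succ, Nat.succ_mul]
      exact hmul _ _ _ _ ih ha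
  have hprod : ∀ (d : σ →₀ ℕ) (T : Finset σ),
      ∏ i ∈ T, v i ^ d i ∈ N (∑ i ∈ T, d i * w i) := by
    intro d T
    induction T using Finset.induction_on with
    | empty => simpa using h1
    | insert a T ha ih =>
      rw [Finset.prod_insert ha, Finset.sum_insert ha]
      exact hmul _ _ _ _ (hpow _ _ (hv a) _) ih
  rw [aeval_def, eval₂_eq]
  apply Submodule.sum_mem
  intro d hd
  have hw : Finsupp.weight w d = D := hP (mem_support_iff.mp hd)
  have hmem : ∏ i ∈ d.support, v i ^ d i ∈ N D := by
    have h := hprod d d.support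
    have hsum : ∑ i ∈ d.support, d i * w i = D := by
      rw [← hw, Finsupp.weight_apply, Finsupp.sum]
      simp [smul_eq_mul]
    rwa [hsum] at h
  rw [← Algebra.smul_def]
  exact zsmul_mem hmem _

/-- Let p be a prime, A a commutative ring, K a commutative A-algebra of characteristic p and M_0, M_1,
M_2, … A-submodules of K with M_i · M_j ⊆ M_(i+j) for all i, j. Then the subset of the ring W(K) of
p-typical Witt vectors consisting of the vectors whose n-th coordinate lies in M_(p^n) for every n
is closed under addition and under multiplication by the image of W(A) under W of the structure map;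
in other words it is a W(A)-submodule of W(K). (The published statement is the case of an integral
normal noetherian scheme X of characteristic p with function field K, an affine open subset U with
coordinate ring A, and M_k the module of sections over U of the divisorial sheaf of k·D for a real
Weil divisor D on X; these form such a multiplicative family, and the subset is then the module of
sections over U of the Witt divisorial sheaf of D inside W(K). Only the two stated properties of
that family enter.) -/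
theorem result
    (p : ℕ) [Fact p.Prime] (A K : Type u) [CommRing A] [CommRing K] [Algebra A K] [CharP K p]
    (M : ℕ → Submodule A K)
    (hmul : ∀ (i j : ℕ) (a b : K), a ∈ M i → b ∈ M j → a * b ∈ M (i + j)) :
    (∀ φ ψ : WittVector p K, (∀ n : ℕ, φ.coeff n ∈ M (p ^ n)) → (∀ n : ℕ, ψ.coeff n ∈ M (p ^ n)) →
        ∀ n : ℕ, (φ + ψ).coeff n ∈ M (p ^ n)) ∧
      (∀ (x : WittVector p A) (φ : WittVector p K), (∀ n : ℕ, φ.coeff n ∈ M (p ^ n)) →
        ∀ n : ℕ, (WittVector.map (algebraMap A K) x * φ).coeff n ∈ M (p ^ n)) := by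
  classical
  let N : ℕ → Submodule A K :=
    fun k => if k = 0 then LinearMap.range (Algebra.linearMap A K) else M k
  have hN0 : N 0 = LinearMap.range (Algebra.linearMap A K) := if_pos rfl
  have hNpos : ∀ k, k ≠ 0 → N k = M k := fun k hk => if_neg hk
  have h1 : (1 : K) ∈ N 0 := by
    rw [hN0]; exact ⟨1, by simp⟩
  have hNmul : ∀ (i j : ℕ) (a b : K), a ∈ N i → b ∈ N j → a * b ∈ N (i + j) := by
    intro i j a b ha hb
    rcases Nat.eq_zero_or_pos i with hi | hi
    · subst hi
      rw [hN0] at ha
      obtain ⟨r, rfl⟩ := ha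
      rw [zero_add, Algebra.linearMap_apply, ← Algebra.smul_def]
      exact (N j).smul_mem r hb
    · rcases Nat.eq_zero_or_pos j with hj | hj
      · subst hj
        rw [hN0] at hb
        obtain ⟨r, rfl⟩ := hb
        rw [add_zero, Algebra.linearMap_apply, mul_comm, ← Algebra.smul_def]
        exact (N i).smul_mem r ha
      · rw [hNpos i hi.ne'] at ha
        rw [hNpos j hj.ne'] at hb
        rw [hNpos (i + j) (by omega)]
        exact hmul i j a b ha hb
  have hp0 : ∀ n : ℕ, p ^ n ≠ 0 := fun n => pow_ne_zero _ (Fact.out : p.Prime).ne_zero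
  refine ⟨?_, ?_⟩
  · intro φ ψ hφ hψ n
    rw [WittVector.add_coeff, WittVector.peval, ← hNpos (p ^ n) (hp0 n)]
    have hh : MvPolynomial.IsWeightedHomogeneous
        (fun i : Fin 2 × ℕ => (![1, 1] : Fin 2 → ℕ) i.1 * p ^ i.2)
        (WittVector.wittAdd p n) (1 * p ^ n) := by
      refine wsi_homog p _ (MvPolynomial.X 0 + MvPolynomial.X 1) 1 ?_ n
      intro m
      rw [map_add, MvPolynomial.bind₁_X_right, MvPolynomial.bind₁_X_right]
      have h0 := rename_witt_homog p ![1, 1] 0 m
      have h1 := rename_witt_homog p ![1, 1] 1 m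
      simp only [Matrix.cons_val_zero, Matrix.cons_val_one] at h0 h1
      exact h0.add h1
    rw [one_mul] at hh
    refine aeval_mem_of_homog N h1 hNmul _ _ ?_ _ _ hh
    have : ∀ (b : Fin 2) (i : ℕ), Function.uncurry ![φ.coeff, ψ.coeff] (b, i) ∈
        N ((![1, 1] : Fin 2 → ℕ) b * p ^ i) := by
      rw [Fin.forall_fin_two]
      refine ⟨fun i => ?_, fun i => ?_⟩
      · simp only [Function.uncurry, Matrix.cons_val_zero, one_mul]
        rw [hNpos _ (hp0 i)]; exact hφ i
      · simp only [Function.uncurry, Matrix.cons_val_one, Matrix.cons_val_zero, Matrix.cons_val_fin_one, one_mul]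
        rw [hNpos _ (hp0 i)]; exact hψ i
    rintro ⟨b, i⟩
    exact this b i
  · intro x φ hφ n
    rw [WittVector.mul_coeff, WittVector.peval, ← hNpos (p ^ n) (hp0 n)]
    have hh : MvPolynomial.IsWeightedHomogeneous
        (fun i : Fin 2 × ℕ => (![0, 1] : Fin 2 → ℕ) i.1 * p ^ i.2)
        (WittVector.wittMul p n) (1 * p ^ n) := by
      refine wsi_homog p _ (MvPolynomial.X 0 * MvPolynomial.X 1) 1 ?_ n
      intro m
      rw [map_mul, MvPolynomial.bind₁_X_right, MvPolynomial.bind₁_X_right]
      have h0 := rename_witt_homog p ![0, 1] 0 m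
      have h1 := rename_witt_homog p ![0, 1] 1 m
      simp only [Matrix.cons_val_zero, Matrix.cons_val_one] at h0 h1
      have h01 := h0.mul h1
      rwa [zero_mul, zero_add] at h01
    rw [one_mul] at hh
    refine aeval_mem_of_homog N h1 hNmul _ _ ?_ _ _ hh
    have : ∀ (b : Fin 2) (i : ℕ),
        Function.uncurry ![(WittVector.map (algebraMap A K) x).coeff, φ.coeff] (b, i) ∈
        N ((![0, 1] : Fin 2 → ℕ) b * p ^ i) := by
      rw [Fin.forall_fin_two]
      refine ⟨fun i => ?_, fun i => ?_⟩
      · simp only [Function.uncurry, Matrix.cons_val_zero, zero_mul]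
        rw [hN0, WittVector.map_coeff]
        exact ⟨x.coeff i, rfl⟩
      · simp only [Function.uncurry, Matrix.cons_val_one, Matrix.cons_val_zero, Matrix.cons_val_fin_one, one_mul]
        rw [hNpos _ (hp0 i)]; exact hφ i
    rintro ⟨b, i⟩
    exact this b i

end Groth.Agent.S18590
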