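import Groth.Statements.S1861
import Groth.Agent.Lib.FibRes2_helper8
import Groth.Agent.Lib.ClosHt_helper8

set_option autoImplicit false
universe u
open CategoryTheory AlgebraicGeometry
open Cyc

namespace Groth.Agent.S1861

/-- Let f : X → Y be flat, locally of finite type, of relative dimension r, y a point of Y and x a point
of X that is generic in an irreducible component of f⁻¹ of the closure of y (that is, x lies in that
closed set and has no proper generalization in it). Then f(x) = y and δX(x) = δY(y) + r. Here a pair
(X, δ) with Cyc.IsSetup plays the role of a scheme locally of finite type over a fixed base with a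
dimension function (X locally Noetherian with universally catenary local rings, δ a dimension
function), and Cyc.DeltaCompat records that the dimension function upstairs is the induced one. -/
theorem result (X Y : Scheme.{u}) (δX : X → ℤ) (δY : Y → ℤ) (hX : Cyc.IsSetup X δX) (hY : Cyc.IsSetup Y δY) (f : X ⟶ Y) [Flat f] [LocallyOfFiniteType f] (r : ℕ) (hr : Cyc.HasRelDim f r) (hδ : Cyc.DeltaCompat f δX δY) (y : Y) (x : X) (hx : f x ∈ closure ({y} : Set Y)) (hmax : ∀ x' : X, f x' ∈ closure ({y} : Set Y) → x' ⤳ x → x' = x) : f x = y ∧ δX x = δY y + r := by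
  classical
  have hyfx : y ⤳ f x := specializes_iff_mem_closure.mpr hx
  obtain ⟨x', hx'x, hfx'⟩ := (Flat.generalizingMap (f := f)) hyfx
  have hx'eq : x' = x := hmax x' (by rw [hfx']; exact subset_closure rfl) hx'x
  have hfx : f x = y := by rw [← hx'eq, hfx']
  subst hfx
  refine ⟨rfl, ?_⟩
  obtain ⟨n, hn, hδn⟩ := hδ x
  obtain ⟨n', hn', hh⟩ := Groth.Agent.FibRes2H8.height_asFiber f x
  have hnn : n' = n := by
    have : ((n' : ℕ) : Cardinal) = ((n : ℕ) : Cardinal) := by rw [← hn', ← hn]
    exact_mod_cast this
  subst hnn
  -- `asFiber x` is a maximal point of the fibre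
  have hmaxF : ∀ z : f.fiber (f x), z ⤳ f.asFiber x → z = f.asFiber x := by
    intro z hz
    have h1 : (f.fiberι (f x)) z ⤳ (f.fiberι (f x)) (f.asFiber x) :=
      (Groth.Agent.FibRes2H8.specializes_fiber_iff f (f x) z (f.asFiber x)).mp hz
    rw [Scheme.Hom.fiberι_asFiber] at h1
    have h2 : f ((f.fiberι (f x)) z) = f x := Groth.Agent.FibRes2H8.fiberι_mem f (f x) z
    have h3 : (f.fiberι (f x)) z = x :=
      hmax _ (by rw [h2]; exact subset_closure rfl) h1
    apply (f.fiberι (f x)).isEmbedding.injective
    rw [Scheme.Hom.fiberι_asFiber]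
    exact h3
  have hcomp : closure ({f.asFiber x} : Set (f.fiber (f x))) ∈
      irreducibleComponents (f.fiber (f x)) := by
    have hirr : IsIrreducible (irreducibleComponent (f.asFiber x)) := isIrreducible_irreducibleComponent
    obtain ⟨η, hη⟩ := QuasiSober.sober hirr isClosed_irreducibleComponent
    have hηx : η ⤳ f.asFiber x := by
      rw [specializes_iff_mem_closure, hη.def]
      exact mem_irreducibleComponent
    have : η = f.asFiber x := hmaxF η hηx
    rw [← this, hη.def]
    exact irreducibleComponent_mem_irreducibleComponents _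
  have hdim := hr (f x) _ hcomp
  rw [Groth.Agent.ClosHtH8.topologicalKrullDim_closure_singleton, hh] at hdim
  have hnr : n' = r := by
    have : ((n' : ℕ∞) : WithBot ℕ∞) = ((r : ℕ∞) : WithBot ℕ∞) := hdim
    exact_mod_cast this
  rw [hδn, hnr]

end Groth.Agent.S1861
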