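import Groth.Statements.S18615
import Groth.Agent.Lib.LinTop_helper5

set_option autoImplicit false
universe u v
open LinTop

namespace Groth.Agent.S18615

/-- Let k be a field carrying the discrete topology and M a separated topological k-module with a
k-linear topology (open k-submodules form a basis of neighbourhoods of zero, M a topological
additive group). For closed submodules M₁ ⊆ M₂ there is a short exact sequence 0 → M₂^⊥ → M₁^⊥ →
(M₂/M₁)^* → 0 of plain k-modules, where ⊥ denotes the annihilator in the continuous dual of M and *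
the continuous dual. Stated here as its one non-formal part, surjectivity on the right: every
continuous functional on M₂ (subspace topology) that vanishes on M₁ is the restriction of a
continuous functional on M vanishing on M₁ (continuous functionals on M₂/M₁ being the continuous
functionals on M₂ that kill M₁). -/
theorem result (k : Type u) (M : Type v) [Field k]
    [TopologicalSpace k] [DiscreteTopology k] [AddCommGroup M] [Module k M] [TopologicalSpace M]
    [IsTopologicalAddGroup M] [IsLinearTopology k M] [T2Space M]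
    (M₁ M₂ : Submodule k M) (h₁₂ : M₁ ≤ M₂) (hM₁ : IsClosed (M₁ : Set M))
    (hM₂ : IsClosed (M₂ : Set M)) (ψ : M₂ →L[k] k)
    (hψ : ∀ m : M₂, (m : M) ∈ M₁ → ψ m = 0) :
    ∃ φ : M →L[k] k, (∀ m ∈ M₁, φ m = 0) ∧ ∀ m : M₂, φ (m : M) = ψ m := by
  -- an open submodule `U` of `M` with `U ∩ M₂ ⊆ ker ψ`
  have h1 : {m : M₂ | ψ m = 0} ∈ nhds (0 : M₂) := by
    have : IsOpen {m : M₂ | ψ m = 0} := (isOpen_discrete ({0} : Set k)).preimage ψ.continuous
    exact this.mem_nhds (by simp)
  rw [nhds_subtype_eq_comap, Filter.mem_comap] at h1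
  obtain ⟨V, hV, hVs⟩ := h1
  obtain ⟨U, hU, hUV⟩ := (IsLinearTopology.hasBasis_open_submodule k).mem_iff.mp hV
  have hUψ : ∀ m : M₂, (m : M) ∈ U → ψ m = 0 := fun m hm => hVs (hUV hm)
  -- linear algebra: extend `ψ` by zero on `U`
  let a : (M₂ × U) →ₗ[k] M := M₂.subtype.coprod U.subtype
  let b : (M₂ × U) →ₗ[k] k := (ψ : M₂ →ₗ[k] k).comp (LinearMap.fst k M₂ U)
  have hab : b ∈ (LinearMap.ker a).dualAnnihilator := by
    rw [Submodule.mem_dualAnnihilator]
    rintro ⟨m, u⟩ hmu
    have h2 : (m : M) + (u : M) = 0 := by simpa [a] using hmu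
    have h3 : (m : M) ∈ U := by
      rw [eq_neg_of_add_eq_zero_left h2]
      exact U.neg_mem u.2
    simpa [b] using hUψ m h3
  rw [← LinearMap.range_dualMap_eq_dualAnnihilator_ker] at hab
  obtain ⟨c, hc⟩ := hab
  have hcM₂ : ∀ m : M₂, c (m : M) = ψ m := fun m => by
    have := congr($hc (m, 0))
    simpa [a, b] using this
  have hcU : U ≤ LinearMap.ker c := fun u hu => by
    have := congr($hc (0, ⟨u, hu⟩))
    simpa [a, b] using this
  have hcont : Continuous c := Groth.Agent.Lib.LinTop_helper5.continuous_of_open_le_ker c U hU hcU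
  exact ⟨⟨c, hcont⟩, fun m hm => by
    have := hcM₂ ⟨m, h₁₂ hm⟩
    simpa [hψ ⟨m, h₁₂ hm⟩ hm] using this, hcM₂⟩

end Groth.Agent.S18615
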