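import Groth.Statements.S18617
-- import your own Groth.Agent.* helpers here

set_option autoImplicit false
universe u
open LocRes

namespace Groth.Agent.S18617

/-- The published statement is that, for a complete separated linearly topologized commutative algebra K
over a field of characteristic zero, the separated de Rham complex of K tensored with the exterior
algebra on symbols α_1, ..., α_n maps quasi-isomorphically to the separated de Rham complex of the
iterated Laurent series ring K((t_1, ..., t_n)), α_i going to dlog t_i; this row is the case K = k
and n = 1, unpacked: over a field k of characteristic 0, a formal Laurent series f in k((t)) has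
term-by-term derivative zero if and only if it is the constant series on its coefficient of degree
0, and a Laurent series g is the derivative of some Laurent series if and only if its residue (the
coefficient of t⁻¹) vanishes; so H⁰ of the complex k((t)) → k((t)) dt is k and H¹ is the line
spanned by the class of dt/t, on which the residue is 1. -/
theorem result (k : Type u) [Field k] [CharZero k] :
    (∀ f : LaurentSeries k, LocRes.D k f = 0 ↔ f = HahnSeries.C (f.coeff 0)) ∧
      ∀ g : LaurentSeries k, (∃ f : LaurentSeries k, LocRes.D k f = g) ↔ LocRes.res k g = 0 := by
  refine ⟨fun f => ⟨fun h => ?_, fun h => ?_⟩, fun g => ⟨?_, fun h => ?_⟩⟩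
  · -- all coefficients of nonzero degree vanish
    ext n
    rw [HahnSeries.C_apply, HahnSeries.coeff_single]
    split_ifs with hn
    · rw [hn]
    · have h1 := congr(HahnSeries.coeff $h (n - 1))
      rw [LocRes.D_coeff, HahnSeries.coeff_zero, sub_add_cancel, zsmul_eq_mul, mul_eq_zero] at h1
      rcases h1 with h1 | h1
      · exact absurd (Int.cast_eq_zero.mp h1) hn
      · exact h1
  · rw [h, LocRes.D_apply, LocRes.derivative_C]
  · rintro ⟨f, rfl⟩
    rw [LocRes.res_apply, LocRes.D_coeff]
    simp
  · -- term-by-term antiderivative
    have hpwo : (Function.support fun n : ℤ => if n = 0 then (0 : k) else ((n : k))⁻¹ * g.coeff (n - 1)).IsPWO := by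
      refine (g.isPWO_support.image_of_monotone (f := fun n : ℤ => n + 1)
        (fun a b hab => by simpa using hab)).mono ?_
      intro n hn
      rw [Function.mem_support] at hn
      refine ⟨n - 1, ?_, by simp⟩
      rw [HahnSeries.mem_support]
      intro h0
      apply hn
      split_ifs
      · rfl
      · rw [h0, mul_zero]
    refine ⟨⟨fun n : ℤ => if n = 0 then (0 : k) else ((n : k))⁻¹ * g.coeff (n - 1), hpwo⟩, ?_⟩
    ext n
    rw [LocRes.D_coeff]
    change (n + 1) • (if n + 1 = 0 then (0 : k) else (((n + 1 : ℤ) : k))⁻¹ * g.coeff (n + 1 - 1)) = _
    split_ifs with hn
    · have : n = -1 := by omega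
      subst this
      rw [smul_zero]
      exact h.symm
    · rw [add_sub_cancel_right, zsmul_eq_mul, ← mul_assoc, mul_inv_cancel₀, one_mul]
      exact Int.cast_ne_zero.mpr hn

end Groth.Agent.S18617
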