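import Groth.Statements.S18672
import Mathlib
-- import your own Groth.Agent.* helpers here

set_option autoImplicit false
universe u
open GrLC


namespace Groth.Agent.S18672

/-- Let R be a graded ring defined over a field k = R_0 which is Cohen–Macaulay and generated over k by
R_1 (the standing hypotheses of this section; only generation in degree one is used), q ≥ 1, R' =
R^(q), and a an integer. Then the Veronese submodule [R(a)]^(q) = ⊕_j R_{a+jq} is generated over R'
by its piece R(a)_n = R_{a+n}, where n is the smallest multiple of q with n + a ≥ 0. Here 'graded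
ring defined over a field' means R = ⊕_{n ≥ 0} R_n is Noetherian with R_0 a field, and m = R_+ is
its unique graded maximal ideal. The Veronese subring R^(q) = ⊕_j R_{jq}, regraded by (R^(q))_j =
R_{jq}, is presented abstractly as a ℤ-graded ring R' with an injective ring homomorphism φ : R' → R
carrying R'_j onto R_{jq} for every j. The module [R(a)]^(q) is presented as a graded R'-module M'
with an injective additive map g : M' → R, semilinear over φ, carrying M'_j onto R_{a+jq} for every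
j; with n = j₀q, the conclusion is that the R'-span of M'_{j₀} is all of M'. -/
theorem result (R : Type u) [CommRing R] [LocCoh.IsCohenMacaulayRing R] (𝒜 : ℤ → AddSubgroup R) [GradedRing 𝒜] (hpos : ∀ n : ℤ, n < 0 → 𝒜 n = ⊥) (h0 : IsField (GrLC.deg0 𝒜)) (hstd : Ideal.span (⋃ n ∈ Set.Ioi (0 : ℤ), (𝒜 n : Set R)) = Ideal.span ((𝒜 1 : AddSubgroup R) : Set R)) (q : ℕ) (hq : 0 < q) (R' : Type u) [CommRing R'] (𝒜' : ℤ → AddSubgroup R') [GradedRing 𝒜'] (φ : R' →+* R) (hφ : Function.Injective φ) (hdeg : ∀ j : ℤ, (𝒜' j).map (φ : R' →+ R) = 𝒜 (j * q)) (a : ℤ) (M' : Type u) [AddCommGroup M'] [Module R' M'] (ℳ' : ℤ → AddSubgroup M') [DirectSum.Decomposition ℳ'] [SetLike.GradedSMul 𝒜' ℳ'] (g : M' →ₛₗ[φ] R) (hg : Function.Injective g) (hgdeg : ∀ j : ℤ, (ℳ' j).map (g : M' →+ R) = 𝒜 (a + j * q)) (j₀ : ℤ) (hj₀ : 0 ≤ a + j₀ * q) (hj₀' : a + (j₀ - 1) * q < 0) : Submodule.span R' ((ℳ' j₀ : AddSubgroup M') : Set M') = ⊤ := by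
  classical
  -- Step 1: generation in degree one
  have deg1 : ∀ N : ℤ, 0 ≤ N → ∀ x ∈ 𝒜 (N + 1),
      x ∈ AddSubgroup.closure {w : R | ∃ z ∈ 𝒜 N, ∃ y ∈ 𝒜 1, w = z * y} := by
    intro N hN x hx
    have hx1 : x ∈ Ideal.span (⋃ n ∈ Set.Ioi (0 : ℤ), (𝒜 n : Set R)) :=
      Ideal.subset_span (Set.mem_biUnion (Set.mem_Ioi.2 (by omega : (0 : ℤ) < N + 1)) hx)
    rw [hstd] at hx1
    obtain ⟨n, f, gg, hsum⟩ := Submodule.mem_span_set'.1 hx1
    have key : ((DirectSum.decompose 𝒜 x (N + 1) : 𝒜 (N + 1)) : R) = x :=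
      DirectSum.decompose_of_mem_same 𝒜 hx
    rw [← key, ← hsum, DirectSum.decompose_sum, DFinsupp.finset_sum_apply,
      AddSubmonoidClass.coe_finset_sum]
    refine sum_mem fun i _ => ?_
    rw [smul_eq_mul, DirectSum.coe_decompose_mul_add_of_right_mem 𝒜 (gg i).2]
    exact AddSubgroup.subset_closure
      ⟨_, (DirectSum.decompose 𝒜 (f i) N).2, _, (gg i).2, rfl⟩
  -- Step 2: R_{m+n} = R_m R_n
  have hmul : ∀ (m : ℕ) (n : ℤ), 0 ≤ n → ∀ x ∈ 𝒜 ((m : ℤ) + n),
      x ∈ AddSubgroup.closure {w : R | ∃ r ∈ 𝒜 (m : ℤ), ∃ s ∈ 𝒜 n, w = r * s} := by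
    intro m
    induction m with
    | zero =>
      intro n hn x hx
      have h0' : ((0 : ℕ) : ℤ) + n = n := by simp
      rw [h0'] at hx
      exact AddSubgroup.subset_closure
        ⟨1, by simpa using SetLike.one_mem_graded 𝒜, x, hx, (one_mul x).symm⟩
    | succ m ih =>
      intro n hn x hx
      have hidx : ((m + 1 : ℕ) : ℤ) + n = ((m : ℤ) + n) + 1 := by push_cast; ring
      rw [hidx] at hx
      have h1 := deg1 ((m : ℤ) + n) (by omega) x hx
      refine (AddSubgroup.closure_le _).2 ?_ h1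
      rintro _ ⟨z, hz, y, hy, rfl⟩
      have hz' := ih n hn z hz
      -- multiply by y
      have : ∀ z' ∈ AddSubgroup.closure {w : R | ∃ r ∈ 𝒜 (m : ℤ), ∃ s ∈ 𝒜 n, w = r * s},
          z' * y ∈ AddSubgroup.closure
            {w : R | ∃ r ∈ 𝒜 ((m + 1 : ℕ) : ℤ), ∃ s ∈ 𝒜 n, w = r * s} := by
        intro z' hz''
        induction hz'' using AddSubgroup.closure_induction with
        | mem w hw =>
          obtain ⟨r, hr, s, hs, rfl⟩ := hw
          refine AddSubgroup.subset_closure ⟨r * y, ?_, s, hs, by ring⟩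
          have := SetLike.mul_mem_graded hr hy
          have hc : ((m + 1 : ℕ) : ℤ) = (m : ℤ) + 1 := by push_cast; ring
          rw [hc]; exact this
        | zero => rw [zero_mul]; exact zero_mem _
        | add a b _ _ ha hb => rw [add_mul]; exact add_mem ha hb
        | neg a _ ha => rw [neg_mul]; exact neg_mem ha
      exact this z hz'
  -- Step 3: low pieces vanish
  have hlow : ∀ j : ℤ, j < j₀ → ∀ m ∈ ℳ' j, m = 0 := by
    intro j hj m hm
    have hneg : a + j * q < 0 := by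
      have hq' : (0 : ℤ) < q := by exact_mod_cast hq
      have : j * q ≤ (j₀ - 1) * q := mul_le_mul_of_nonneg_right (by omega) hq'.le
      linarith
    have h1 : g m ∈ (ℳ' j).map (g : M' →+ R) := AddSubgroup.mem_map_of_mem _ hm
    rw [hgdeg j, hpos _ hneg, AddSubgroup.mem_bot] at h1
    exact hg (by rw [h1, map_zero])
  -- Step 4: high pieces lie in the span
  have hhigh : ∀ j : ℤ, j₀ ≤ j → ∀ m ∈ ℳ' j,
      m ∈ Submodule.span R' ((ℳ' j₀ : AddSubgroup M') : Set M') := by
    intro j hj m hm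
    have h1 : g m ∈ (ℳ' j).map (g : M' →+ R) := AddSubgroup.mem_map_of_mem _ hm
    rw [hgdeg j] at h1
    have hk : (0 : ℤ) ≤ (j - j₀) * q :=
      mul_nonneg (by omega) (by exact_mod_cast hq.le)
    have hidx : a + j * q = (((j - j₀) * q).toNat : ℤ) + (a + j₀ * q) := by
      rw [Int.toNat_of_nonneg hk]; ring
    rw [hidx] at h1
    have h2 := hmul ((j - j₀) * q).toNat (a + j₀ * q) hj₀ _ h1
    rw [Int.toNat_of_nonneg hk] at h2
    have : ∀ y ∈ AddSubgroup.closure
        {w : R | ∃ r ∈ 𝒜 ((j - j₀) * q), ∃ s ∈ 𝒜 (a + j₀ * q), w = r * s},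
        ∃ m' ∈ Submodule.span R' ((ℳ' j₀ : AddSubgroup M') : Set M'), g m' = y := by
      intro y hy
      induction hy using AddSubgroup.closure_induction with
      | mem w hw =>
        obtain ⟨r, hr, s, hs, rfl⟩ := hw
        rw [← hdeg (j - j₀)] at hr
        rw [← hgdeg j₀] at hs
        obtain ⟨r', hr', rfl⟩ := hr
        obtain ⟨m₀, hm₀, rfl⟩ := hs
        refine ⟨r' • m₀, Submodule.smul_mem _ _ (Submodule.subset_span hm₀), ?_⟩
        rw [g.map_smulₛₗ]; rfl
      | zero => exact ⟨0, zero_mem _, map_zero _⟩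
      | add a b _ _ ha hb =>
        obtain ⟨ma, hma, rfl⟩ := ha
        obtain ⟨mb, hmb, rfl⟩ := hb
        exact ⟨ma + mb, add_mem hma hmb, map_add _ _ _⟩
      | neg a _ ha =>
        obtain ⟨ma, hma, rfl⟩ := ha
        exact ⟨-ma, neg_mem hma, map_neg _ _⟩
    obtain ⟨m', hm', hgm'⟩ := this _ h2
    rw [← hg hgm']; exact hm'
  -- Step 5
  rw [eq_top_iff]
  intro m _
  rw [← DirectSum.sum_support_decompose ℳ' m]
  refine sum_mem fun i _ => ?_
  by_cases hi : i < j₀
  · rw [hlow i hi _ (DirectSum.decompose ℳ' m i).2]; exact zero_mem _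
  · exact hhigh i (by omega) _ (DirectSum.decompose ℳ' m i).2

end Groth.Agent.S18672
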