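import Groth.Statements.S2085
import Mathlib
import Groth.Agent.Lib.DepthSk_helper5

set_option autoImplicit false
universe u
open CAlg

namespace Groth.Agent.S2085

/-- Let `M` be a finite module over a Noetherian ring `R`. Then every associated prime of `M` is minimal
in the support of `M` (no embedded primes) if and only if `M` satisfies Serre's condition `(S_1)`. -/
theorem result {R M : Type u} [CommRing R] [IsNoetherianRing R] [AddCommGroup M] [Module R M]
    [Module.Finite R M] :
    (∀ p ∈ associatedPrimes R M, p ∈ (Module.annihilator R M).minimalPrimes) ↔ LocCoh.HasSk 1 R M := by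
  classical
  constructor
  · intro h p hp
    by_cases h1 : 1 ≤ LocCoh.depth (Localization.AtPrime p) (LocalizedModule p.primeCompl M)
    · refine le_trans (min_le_left _ _) ?_
      exact_mod_cast h1
    · have hass := (Groth.Agent.DepthLib.not_one_le_depth_localization_iff M p).1 h1
      have hmin := h p hass
      have hpM : (⟨p, hp⟩ : PrimeSpectrum R) ∈ Module.support R M := by
        rw [Module.support_eq_zeroLocus]
        exact hmin.1.2
      have h0 := (Groth.Agent.DepthLib.supportDim_localizedModule_le_zero_iff M p hpM).2 hmin
      refine le_trans (min_le_right _ _) (le_trans h0 ?_)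
      exact_mod_cast (zero_le : (0 : ℕ∞) ≤ _)
  · intro hS p hass
    haveI hp : p.IsPrime := hass.isPrime
    have h1 := (Groth.Agent.DepthLib.not_one_le_depth_localization_iff M p).2 hass
    have hpM : (⟨p, hp⟩ : PrimeSpectrum R) ∈ Module.support R M := by
      rw [Module.support_eq_zeroLocus]
      have := IsAssociatedPrime.annihilator_le hass
      rw [Submodule.annihilator_top] at this
      exact this
    rw [← Groth.Agent.DepthLib.supportDim_localizedModule_le_zero_iff M p hpM]
    by_contra hnot
    apply h1
    have hSp := hS p
    rw [Groth.Agent.DepthLib.supportDim_localizedModule M p hpM] at hSp hnot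
    have hpos : (1 : ℕ∞) ≤ Order.height (⟨⟨p, hp⟩, hpM⟩ : Module.support R M) := by
      rw [Order.one_le_iff_pos]
      by_contra hle
      apply hnot
      have : Order.height (⟨⟨p, hp⟩, hpM⟩ : Module.support R M) = 0 :=
        le_antisymm (not_lt.1 hle) zero_le
      rw [this]
      rfl
    have h2 : min ((1 : ℕ) : WithBot ℕ∞)
        ((Order.height (⟨⟨p, hp⟩, hpM⟩ : Module.support R M) : ℕ∞) : WithBot ℕ∞) = 1 := by
      apply min_eq_left
      exact_mod_cast hpos
    rw [h2] at hSp
    exact_mod_cast hSp

end Groth.Agent.S2085
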