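import Groth.Statements.S18701
import Mathlib
import Groth.Agent.Lib.DepthSk_helper5
import Groth.Agent.S2085

set_option autoImplicit false
universe u
open QGor

namespace Groth.Agent.S18701

/-- Affine form. Let A be a Noetherian ring and G the kernel of a linear map u : E⁰ → E¹ of finite
A-modules. If E⁰ has (S_1) then G has (S_1). If Supp G ⊆ Supp E¹, E¹ has (S_1) and E⁰ has (S_2),
then G has (S_2). -/
theorem result (A : Type u) [CommRing A] [IsNoetherianRing A]
    (E0 E1 : Type u) [AddCommGroup E0] [Module A E0] [Module.Finite A E0] [AddCommGroup E1] [Module A E1]
    [Module.Finite A E1] (u : E0 →ₗ[A] E1) :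
    (LocCoh.HasSk 1 A E0 → LocCoh.HasSk 1 A (LinearMap.ker u)) ∧
    (Module.support A (LinearMap.ker u) ⊆ Module.support A E1 → LocCoh.HasSk 1 A E1 → LocCoh.HasSk 2 A E0 →
      LocCoh.HasSk 2 A (LinearMap.ker u)) := by
  classical
  haveI : IsNoetherian A E0 := isNoetherian_of_isNoetherianRing_of_finite A E0
  haveI : IsNoetherian A E1 := isNoetherian_of_isNoetherianRing_of_finite A E1
  set G := LinearMap.ker u with hGdef
  have hannle : Module.annihilator A E0 ≤ Module.annihilator A G := by
    intro a ha
    rw [Module.mem_annihilator] at ha ⊢
    intro g
    apply Subtype.ext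
    exact ha g.1
  have hassG : ∀ p ∈ associatedPrimes A G, p ∈ associatedPrimes A E0 := fun p hp =>
    associatedPrimes.subset_of_injective (f := G.subtype) (Submodule.injective_subtype _) hp
  -- part 1 in "no embedded primes" form
  have hpart1 : (∀ p ∈ associatedPrimes A E0, p ∈ (Module.annihilator A E0).minimalPrimes) →
      ∀ p ∈ associatedPrimes A G, p ∈ (Module.annihilator A G).minimalPrimes := by
    intro h0 p hp
    have h1 := h0 p (hassG p hp)
    have hpann : Module.annihilator A G ≤ p := by
      have := IsAssociatedPrime.annihilator_le hp
      rwa [Submodule.annihilator_top] at this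
    refine ⟨⟨h1.1.1, hpann⟩, ?_⟩
    rintro q ⟨hq, hqann⟩ hqp
    exact h1.2 ⟨hq, le_trans hannle hqann⟩ hqp
  refine ⟨?_, ?_⟩
  · intro hS1
    rw [← Groth.Agent.S2085.result] at hS1 ⊢
    exact hpart1 hS1
  · intro hsupp hE1 hE0 p hp
    -- E0 is S1
    have hE0S1 : LocCoh.HasSk 1 A E0 := by
      intro q hq
      refine le_trans (le_min ?_ (min_le_right _ _)) (hE0 q)
      refine le_trans (min_le_left _ _) ?_
      exact_mod_cast (by norm_num : (1 : ℕ) ≤ 2)
    have hE0emb := (Groth.Agent.S2085.result (R := A) (M := E0)).2 hE0S1
    have hE1emb := (Groth.Agent.S2085.result (R := A) (M := E1)).2 hE1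
    by_cases hpG : (⟨p, hp⟩ : PrimeSpectrum A) ∈ Module.support A G
    swap
    · rw [Module.mem_support_iff, not_nontrivial_iff_subsingleton] at hpG
      rw [Module.supportDim_eq_bot_of_subsingleton]
      simp
    by_cases hpass : p ∈ associatedPrimes A G
    · have hmin := hpart1 hE0emb p hpass
      have h0 := (Groth.Agent.DepthLib.supportDim_localizedModule_le_zero_iff G p hpG).2 hmin
      refine le_trans (min_le_right _ _) (le_trans h0 ?_)
      exact_mod_cast (zero_le : (0 : ℕ∞) ≤ _)
    · have h1 : 1 ≤ LocCoh.depth (Localization.AtPrime p) (LocalizedModule p.primeCompl G) := by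
        by_contra hnot
        exact hpass ((Groth.Agent.DepthLib.not_one_le_depth_localization_iff G p).1 hnot)
      by_cases h2 : 2 ≤ LocCoh.depth (Localization.AtPrime p) (LocalizedModule p.primeCompl G)
      · refine le_trans (min_le_left _ _) ?_
        have two_eq : ((2 : ℕ) : WithBot ℕ∞) = ((2 : ℕ∞) : WithBot ℕ∞) := rfl
        rw [two_eq]
        exact WithBot.coe_le_coe.2 h2
      · -- then dim G_p ≤ 1
        have hdim : Module.supportDim (Localization.AtPrime p) (LocalizedModule p.primeCompl G) ≤
            ((1 : ℕ∞) : WithBot ℕ∞) := by
          by_contra hnot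
          apply h2
          rw [Groth.Agent.DepthLib.supportDim_localizedModule G p hpG, WithBot.coe_le_coe,
            not_le] at hnot
          have hht2 : (2 : ℕ∞) ≤ Order.height (⟨⟨p, hp⟩, hpG⟩ : Module.support A G) := by
            have h3 : (2 : ℕ∞) = 1 + 1 := by norm_num
            rw [h3]
            exact Order.add_one_le_of_lt hnot
          -- depth E0_p ≥ 2
          have hE0p : 2 ≤ LocCoh.depth (Localization.AtPrime p) (LocalizedModule p.primeCompl E0) := by
            have h4 := hE0 p
            have h5 : Module.supportDim (Localization.AtPrime p) (LocalizedModule p.primeCompl G) ≤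
                Module.supportDim (Localization.AtPrime p) (LocalizedModule p.primeCompl E0) :=
              Module.supportDim_le_of_injective (LocalizedModule.map p.primeCompl G.subtype)
                (LocalizedModule.map_injective _ _ (Submodule.injective_subtype _))
            rw [Groth.Agent.DepthLib.supportDim_localizedModule G p hpG] at h5
            have two_eq : ((2 : ℕ) : WithBot ℕ∞) = ((2 : ℕ∞) : WithBot ℕ∞) := rfl
            have h6 : ((2 : ℕ∞) : WithBot ℕ∞) ≤
                Module.supportDim (Localization.AtPrime p) (LocalizedModule p.primeCompl E0) :=
              le_trans (WithBot.coe_le_coe.2 hht2) h5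
            rw [two_eq, min_eq_left h6] at h4
            exact WithBot.coe_le_coe.1 h4
          -- depth (range u)_p ≥ 1
          have hImp : 1 ≤ LocCoh.depth (Localization.AtPrime p)
              (LocalizedModule p.primeCompl (LinearMap.range u)) := by
            by_contra hnot1
            have hass1 := (Groth.Agent.DepthLib.not_one_le_depth_localization_iff
              (LinearMap.range u) p).1 hnot1
            have hass2 : p ∈ associatedPrimes A E1 :=
              associatedPrimes.subset_of_injective (f := (LinearMap.range u).subtype)
                (Submodule.injective_subtype _) hass1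
            have hmin := hE1emb p hass2
            -- there is q < p in Supp G
            have hne0 : Order.height (⟨⟨p, hp⟩, hpG⟩ : Module.support A G) ≠ 0 := by
              intro h0
              rw [h0] at hht2
              exact absurd hht2 (by norm_num)
            rw [Ne, Order.height_eq_zero, not_isMin_iff] at hne0
            obtain ⟨q, hq⟩ := hne0
            have hqE1 : q.1 ∈ Module.support A E1 := hsupp q.2
            rw [Module.support_eq_zeroLocus] at hqE1
            have hqp : q.1.asIdeal < p := hq
            exact absurd (hmin.2 ⟨q.1.isPrime, hqE1⟩ hqp.le) (not_le_of_gt hqp)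
          -- the localized exact sequence
          have hex : Function.Exact G.subtype u.rangeRestrict := by
            intro x
            constructor
            · intro hx
              exact ⟨⟨x, by
                have := congrArg Subtype.val hx
                exact this⟩, rfl⟩
            · rintro ⟨y, rfl⟩
              apply Subtype.ext
              exact y.2
          have hses := Groth.Agent.DepthLib.depth_ses
            (IsLocalRing.maximalIdeal (Localization.AtPrime p))
            (LocalizedModule p.primeCompl G) (LocalizedModule p.primeCompl E0)
            (LocalizedModule p.primeCompl (LinearMap.range u))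
            (LocalizedModule.map p.primeCompl G.subtype)
            (LocalizedModule.map p.primeCompl u.rangeRestrict)
            (LocalizedModule.map_injective _ _ (Submodule.injective_subtype _))
            (LocalizedModule.map_surjective _ _ u.surjective_rangeRestrict)
            (LocalizedModule.map_exact _ _ _ hex)
          refine le_trans ?_ hses.2.2
          rw [le_min_iff]
          refine ⟨hE0p, ?_⟩
          have h3 : (2 : ℕ∞) = 1 + 1 := by norm_num
          rw [h3]
          exact add_le_add_left hImp 1
        refine le_trans (min_le_right _ _) (le_trans hdim ?_)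
        exact WithBot.coe_le_coe.2 h1

end Groth.Agent.S18701
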