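import Groth.Statements.S18703
import Mathlib
import Groth.Agent.Lib.DepthSk_helper5
import Groth.Agent.Lib.ReflexiveLoc_helper5
import Groth.Agent.Lib.DepthHom_helper5

set_option autoImplicit false
universe u
open QGor

namespace Groth.Agent.S18703

/-- Affine form. Let A be a Noetherian ring and I an ideal with depth_I A ≥ 1. Let G be a finite
A-module such that G_p is a reflexive A_p-module for every prime p not containing I (G is reflexive
off V(I)). If depth_I G ≥ 2, then G is reflexive. -/
theorem result (A : Type u) [CommRing A] [IsNoetherianRing A] (I : Ideal A)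
    (hA : 1 ≤ LocCoh.idealDepth I A)
    (G : Type u) [AddCommGroup G] [Module A G] [Module.Finite A G]
    (hU : ∀ p : PrimeSpectrum A, ¬ I ≤ p.asIdeal →
      Module.IsReflexive (Localization.AtPrime p.asIdeal) (LocalizedModule p.asIdeal.primeCompl G))
    (hG : 2 ≤ LocCoh.idealDepth I G) : Module.IsReflexive A G := by
  classical
  haveI : Module.FinitePresentation A G := Module.finitePresentation_of_finite A G
  haveI : Module.Finite A (Module.Dual A G) := Groth.Agent.DepthLib.finite_hom G A
  haveI : Module.FinitePresentation A (Module.Dual A G) := Module.finitePresentation_of_finite A _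
  haveI : Module.Finite A (Module.Dual A (Module.Dual A G)) :=
    Groth.Agent.DepthLib.finite_hom (Module.Dual A G) A
  have hG1 : 1 ≤ LocCoh.idealDepth I G := le_trans (by norm_num) hG
  have hinj : Function.Injective (Module.Dual.eval A G) := by
    rw [injective_iff_map_eq_zero]
    intro k hk
    apply Groth.Agent.DepthLib.eq_zero_of_one_le_idealDepth G I hG1 k
    intro q hq hIq
    haveI := hq
    have hrefl := hU ⟨q, hq⟩ hIq
    obtain ⟨s, hs, hsk⟩ := Groth.Agent.ReflexiveLoc.exists_smul_eq_zero_of_eval_eq_zero
      q.primeCompl (Localization.AtPrime q) (LocalizedModule.mkLinearMap q.primeCompl G)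
      (Module.bijective_dual_eval _ _).1 k hk
    exact ⟨s, hs, hsk⟩
  refine ⟨⟨hinj, ?_⟩⟩
  -- the cokernel
  set R := LinearMap.range (Module.Dual.eval A G) with hR
  have hses := Groth.Agent.DepthLib.depth_ses I G (Module.Dual A (Module.Dual A G))
    (Module.Dual A (Module.Dual A G) ⧸ R) (Module.Dual.eval A G) R.mkQ hinj
    (Submodule.mkQ_surjective _) (by
      rw [LinearMap.exact_iff, Submodule.ker_mkQ])
  have hdd : 1 ≤ LocCoh.idealDepth I (Module.Dual A (Module.Dual A G)) :=
    (Groth.Agent.DepthLib.idealDepth_hom I (Module.Dual A G) A).1 hA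
  have hC : 1 ≤ LocCoh.idealDepth I (Module.Dual A (Module.Dual A G) ⧸ R) := by
    refine le_trans ?_ hses.2.1
    rw [le_min_iff]
    refine ⟨hdd, ?_⟩
    apply ENat.le_sub_of_add_le_right (by simp)
    exact le_trans (by norm_num) hG
  intro θ
  have h0 : R.mkQ θ = 0 := by
    apply Groth.Agent.DepthLib.eq_zero_of_one_le_idealDepth _ I hC
    intro q hq hIq
    haveI := hq
    have hrefl := hU ⟨q, hq⟩ hIq
    obtain ⟨s, hs, hsθ⟩ := Groth.Agent.ReflexiveLoc.exists_smul_mem_range_eval
      q.primeCompl (Localization.AtPrime q) (LocalizedModule.mkLinearMap q.primeCompl G)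
      (Module.bijective_dual_eval _ _).2 θ
    refine ⟨s, hs, ?_⟩
    rw [← map_smul, Submodule.mkQ_apply, Submodule.Quotient.mk_eq_zero]
    exact hsθ
  rw [Submodule.mkQ_apply, Submodule.Quotient.mk_eq_zero] at h0
  exact h0

end Groth.Agent.S18703
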