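import Groth.Statements.S18704
import Mathlib
import Groth.Agent.Lib.DepthRefl_helper5
import Groth.Agent.S18703

set_option autoImplicit false
universe u
open QGor

namespace Groth.Agent.S18704

/-- Affine form. Let A be a Noetherian ring with Serre's condition (S_2), I an ideal with ht I ≥ 2
(every prime containing I has height ≥ 2), and G a finite A-module with G_p reflexive for every
prime p not containing I. Then the following are equivalent: (i) G has (S_2) and dim Supp(G_p) ≥ 2
for every prime p ⊇ I in Supp G; (ii) depth_I G ≥ 2; (iii) G is reflexive. -/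
theorem result (A : Type u) [CommRing A] [IsNoetherianRing A]
    (hA : LocCoh.HasSk 2 A A) (I : Ideal A) (hI : 2 ≤ I.height)
    (G : Type u) [AddCommGroup G] [Module A G] [Module.Finite A G]
    (hU : ∀ p : PrimeSpectrum A, ¬ I ≤ p.asIdeal →
      Module.IsReflexive (Localization.AtPrime p.asIdeal) (LocalizedModule p.asIdeal.primeCompl G)) :
    ((LocCoh.HasSk 2 A G ∧ ∀ p : PrimeSpectrum A, I ≤ p.asIdeal → p ∈ Module.support A G →
        (2 : WithBot ℕ∞) ≤ Module.supportDim (Localization.AtPrime p.asIdeal) (LocalizedModule p.asIdeal.primeCompl G)) ↔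
      2 ≤ LocCoh.idealDepth I G) ∧
    (2 ≤ LocCoh.idealDepth I G ↔ Module.IsReflexive A G) := by
  classical
  have two_eq : ((2 : ℕ) : WithBot ℕ∞) = ((2 : ℕ∞) : WithBot ℕ∞) := rfl
  have two_eq' : (2 : WithBot ℕ∞) = ((2 : ℕ∞) : WithBot ℕ∞) := rfl
  have hA2 : 2 ≤ LocCoh.idealDepth I A := by
    have := Groth.Agent.DepthLib.le_idealDepth_of_forall_localization I 2 A (fun p _ hIp => by
      have h := hA p
      rw [Groth.Agent.DepthLib.supportDim_locSelf] at h
      have hht : (2 : ℕ∞) ≤ p.height := le_trans hI (Ideal.height_mono hIp)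
      have h5 : min ((2 : ℕ) : WithBot ℕ∞) (p.height : WithBot ℕ∞) = ((2 : ℕ) : WithBot ℕ∞) :=
        min_eq_left (by rw [two_eq]; exact WithBot.coe_le_coe.2 hht)
      rw [h5, two_eq] at h
      exact WithBot.coe_le_coe.1 h)
    exact this
  have hiii : 2 ≤ LocCoh.idealDepth I G ↔ Module.IsReflexive A G :=
    ⟨fun h => Groth.Agent.S18703.result A I (le_trans (by norm_num) hA2) G hU h,
      fun h => (Groth.Agent.DepthLib.reflexive_depth I G).2 hA2⟩
  refine ⟨⟨?_, ?_⟩, hiii⟩
  · rintro ⟨hS2, hdim⟩
    have := Groth.Agent.DepthLib.le_idealDepth_of_forall_localization I 2 G (fun p hp hIp => by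
      by_cases hpG : (⟨p, hp⟩ : PrimeSpectrum A) ∈ Module.support A G
      · have h := hS2 p
        have h2 := hdim ⟨p, hp⟩ hIp hpG
        have h5 : min ((2 : ℕ) : WithBot ℕ∞) (Module.supportDim (Localization.AtPrime p)
            (LocalizedModule p.primeCompl G)) = ((2 : ℕ) : WithBot ℕ∞) :=
          min_eq_left h2
        rw [h5, two_eq] at h
        exact WithBot.coe_le_coe.1 h
      · rw [Module.mem_support_iff, not_nontrivial_iff_subsingleton] at hpG
        unfold LocCoh.depth
        rw [Groth.Agent.DepthLib.idealDepth_of_subsingleton]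
        exact le_top)
    exact this
  · intro h2
    haveI := hiii.1 h2
    refine ⟨Groth.Agent.DepthLib.hasSk_of_reflexive G 2 le_rfl hA, ?_⟩
    intro p hIp hpG
    haveI : Nontrivial (LocalizedModule p.asIdeal.primeCompl G) := Module.mem_support_iff.1 hpG
    have h3 := Groth.Agent.DepthLib.depth_le_supportDim (Localization.AtPrime p.asIdeal)
      (LocalizedModule p.asIdeal.primeCompl G)
    have h4 := Groth.Agent.DepthLib.idealDepth_le_depth_localization I G p.asIdeal hIp
    refine le_trans ?_ h3
    rw [two_eq']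
    exact WithBot.coe_le_coe.2 (le_trans h2 h4)

end Groth.Agent.S18704
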