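import Groth.Statements.S18710
import Mathlib
import Groth.Agent.Lib.DepthFlat_helper5

set_option autoImplicit false
universe u
open QGor

namespace Groth.Agent.S18710

theorem height_map_eq (A B : Type u) [CommRing A] [CommRing B]
    [IsNoetherianRing A] [IsNoetherianRing B] [Algebra A B] [Module.Flat A B] (I : Ideal A)
    (hI : ∀ p : PrimeSpectrum A, I ≤ p.asIdeal →
      ∃ q : PrimeSpectrum B, q.asIdeal.comap (algebraMap A B) = p.asIdeal) :
    (I.map (algebraMap A B)).height = I.height := by
  apply le_antisymm
  · rw [Ideal.height_eq_inf_minimalPrimes I]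
    apply le_iInf₂
    intro q hq
    haveI : q.IsPrime := hq.1.1
    obtain ⟨Q₁, hQ₁⟩ := hI ⟨q, inferInstance⟩ hq.1.2
    replace hQ₁ : Q₁.asIdeal.comap (algebraMap A B) = q := hQ₁
    have hle : q.map (algebraMap A B) ≤ Q₁.asIdeal := by
      rw [Ideal.map_le_iff_le_comap, hQ₁]
    obtain ⟨Q, hQmin, hQQ₁⟩ := Ideal.exists_minimalPrimes_le hle
    haveI : Q.IsPrime := hQmin.1.1
    have hover : Q.comap (algebraMap A B) = q := by
      apply le_antisymm
      · rw [← hQ₁]; exact Ideal.comap_mono hQQ₁
      · rw [← Ideal.map_le_iff_le_comap]; exact hQmin.1.2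
    haveI : Q.LiesOver q := ⟨hover.symm⟩
    have hht := Ideal.height_eq_height_add_of_liesOver_of_hasGoingDown q Q
    have h0 : (Q.map (Ideal.Quotient.mk (q.map (algebraMap A B)))).height = 0 := by
      rw [Ideal.minimalPrimes_eq_comap] at hQmin
      obtain ⟨P, hP, hPQ⟩ := hQmin
      have : Q.map (Ideal.Quotient.mk (q.map (algebraMap A B))) = P := by
        rw [← hPQ, Ideal.map_comap_of_surjective _ Ideal.Quotient.mk_surjective]
      rw [this]
      haveI : P.IsPrime := hP.1.1
      exact Ideal.height_eq_zero_iff.2 hP
    rw [h0, add_zero] at hht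
    calc (I.map (algebraMap A B)).height ≤ Q.height :=
          Ideal.height_mono ((Ideal.map_mono hq.1.2).trans hQmin.1.2)
      _ = q.height := hht
  · rw [Ideal.height_eq_inf_minimalPrimes (I.map (algebraMap A B))]
    apply le_iInf₂
    intro Q hQ
    haveI : Q.IsPrime := hQ.1.1
    haveI : (Q.comap (algebraMap A B)).IsPrime := Ideal.IsPrime.comap _
    haveI : Q.LiesOver (Q.comap (algebraMap A B)) := ⟨rfl⟩
    have hht := Ideal.height_eq_height_add_of_liesOver_of_hasGoingDown
      (Q.comap (algebraMap A B)) Q
    rw [hht]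
    have hIq : I ≤ Q.comap (algebraMap A B) := Ideal.map_le_iff_le_comap.1 hQ.1.2
    exact le_trans (Ideal.height_mono hIq) le_self_add

open TensorProduct in
/-- Affine form. Let A → B be a flat homomorphism of Noetherian rings and I an ideal of A with V(I)
contained in the image of Spec B → Spec A (every prime containing I is a contraction of a prime of
B). Then ht(IB) = ht(I) (codimension of the preimage equals codimension), and for every finite
A-module G one has depth_{IB} (B ⊗_A G) = depth_I G. -/
theorem result (A B : Type u) [CommRing A] [CommRing B]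
    [IsNoetherianRing A] [IsNoetherianRing B] [Algebra A B] [Module.Flat A B] (I : Ideal A)
    (hI : ∀ p : PrimeSpectrum A, I ≤ p.asIdeal → ∃ q : PrimeSpectrum B, q.asIdeal.comap (algebraMap A B) = p.asIdeal)
    (G : Type u) [AddCommGroup G] [Module A G] [Module.Finite A G] :
    (I.map (algebraMap A B)).height = I.height ∧
    LocCoh.idealDepth (I.map (algebraMap A B)) (B ⊗[A] G) = LocCoh.idealDepth I G := by
  refine ⟨height_map_eq A B I hI, ?_⟩
  apply le_antisymm
  · rw [← ENat.forall_natCast_le_iff_le]
    intro n hn
    exact Groth.Agent.DepthLib.le_idealDepth_of_baseChange' A B I hI n G hn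
  · exact Groth.Agent.DepthLib.idealDepth_le_baseChange A B I G

end Groth.Agent.S18710
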