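import Groth.Statements.S18731
import Mathlib
import Groth.Agent.Lib.ComapIdeal_helper4

set_option autoImplicit false
universe u
open CategoryTheory CategoryTheory.Limits AlgebraicGeometry TopologicalSpace
open ModPair

namespace Groth.Agent.S18731

/-- Let I on X and J on Y be quasi-coherent ideal sheaves of effective Cartier divisors and f : X ⟶ Y a
morphism satisfying the modulus condition I ≤ J.comap f (the closed subscheme J ×_Y X of X lies
inside the closed subscheme cut out by I). Then the pull-back of the divisor of J along f is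
defined: J.comap f is the ideal sheaf of an effective Cartier divisor on X. -/
theorem result {X Y : Scheme.{u}} (I : X.IdealSheafData)
    (J : Y.IdealSheafData) (hI : BlowUp.IsEffCartierIdeal I) (hJ : BlowUp.IsEffCartierIdeal J)
    (f : X ⟶ Y) (hf : ModPair.IsAmbient I J f) : BlowUp.IsEffCartierIdeal (J.comap f) := by
  intro x
  obtain ⟨U, hxU, g, hg, hJU⟩ := hJ (f x)
  obtain ⟨V₀, hxV₀, a, ha, hIV₀⟩ := hI x
  obtain ⟨r, hrle, hxr⟩ := V₀.2.exists_basicOpen_le (V := f ⁻¹ᵁ U.1) ⟨x, hxU⟩ hxV₀
  let V : X.affineOpens := X.affineBasicOpen r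
  have hVU : V.1 ≤ f ⁻¹ᵁ U.1 := hrle
  have hIV : I.ideal V = Ideal.span {(X.presheaf.map (homOfLE <| X.basicOpen_le r).op).hom a} := by
    rw [← I.map_ideal_basicOpen V₀ r, hIV₀, Ideal.map_span, Set.image_singleton]
  have ha' : (X.presheaf.map (homOfLE <| X.basicOpen_le r).op).hom a ∈ nonZeroDivisors Γ(X, V.1) := by
    haveI := V₀.2.isLocalization_basicOpen r
    exact IsLocalization.map_nonZeroDivisors_le (Submonoid.powers r) Γ(X, X.basicOpen r)
      ⟨a, ha, rfl⟩
  have hcomap : (J.comap f).ideal V = Ideal.span {(f.appLE U.1 V.1 hVU).hom g} := by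
    rw [Groth.Agent.Lib.ComapIdeal_helper4.comap_ideal_eq f J U V hVU, hJU, Ideal.map_span,
      Set.image_singleton]
  refine ⟨V, hxr, (f.appLE U.1 V.1 hVU).hom g, ?_, hcomap⟩
  have hle : I.ideal V ≤ (J.comap f).ideal V := hf V
  have hmem : (X.presheaf.map (homOfLE <| X.basicOpen_le r).op).hom a ∈ (J.comap f).ideal V :=
    hle (by rw [hIV]; exact Ideal.mem_span_singleton_self _)
  rw [hcomap] at hmem
  obtain ⟨c, hc⟩ := Ideal.mem_span_singleton'.mp hmem
  rw [← hc] at ha'
  exact (mul_mem_nonZeroDivisors.mp ha').2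

end Groth.Agent.S18731
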