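import Groth.Statements.S18736
import Groth.Agent.Lib.Cart4_helper8

set_option autoImplicit false
universe u
open CategoryTheory CategoryTheory.Limits AlgebraicGeometry TopologicalSpace
open ModPair

namespace Groth.Agent.S18736

/-- With the minimal-case product: let (S, I_S), (T, I_T), (X, I_X) be schemes equipped with
quasi-coherent ideal sheaves of effective Cartier divisors, p : X ⟶ S a morphism satisfying the
modulus condition I_X ≤ I_S.comap p, and f : T ⟶ S a minimal morphism, I_T = I_S.comap f. Let Y be
the scheme-theoretic image in X ×_S T of the open pr₁⁻¹(X°) ∩ pr₂⁻¹(T°) (X°, T° the open complements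
of the supports of I_X, I_T), with projections r : Y ⟶ X and q : Y ⟶ T, and put I_Y := I_X.comap r.
Then I_Y is the ideal sheaf of an effective Cartier divisor, q satisfies the modulus condition I_Y ≤
I_T.comap q, and (Y, I_Y) with q and r is the fibre product of (T, I_T) and (X, I_X) over (S, I_S)
among modulus pairs and morphisms satisfying the modulus condition: for every scheme W with the
ideal sheaf I_W of an effective Cartier divisor and morphisms a : W ⟶ T, b : W ⟶ X with I_W ≤
I_T.comap a, I_W ≤ I_X.comap b and a ≫ f = b ≫ p, there is a unique c : W ⟶ Y with c ≫ q = a, c ≫ r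
= b and I_W ≤ I_Y.comap c. -/
theorem result {S T X : Scheme.{u}} (IS : S.IdealSheafData)
    (IT : T.IdealSheafData) (IX : X.IdealSheafData) (hS : BlowUp.IsEffCartierIdeal IS)
    (hT : BlowUp.IsEffCartierIdeal IT) (hX : BlowUp.IsEffCartierIdeal IX)
    (p : X ⟶ S) (hp : ModPair.IsAmbient IX IS p) (f : T ⟶ S) (hf : ModPair.IsMinimal IT IS f) :
    BlowUp.IsEffCartierIdeal (IX.comap (ModPair.mprodι p f IX IT ≫ pullback.fst p f)) ∧
      ModPair.IsAmbient (IX.comap (ModPair.mprodι p f IX IT ≫ pullback.fst p f)) IT
        (ModPair.mprodι p f IX IT ≫ pullback.snd p f) ∧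
      ∀ (W : Scheme.{u}) (IW : W.IdealSheafData), BlowUp.IsEffCartierIdeal IW →
        ∀ (a : W ⟶ T) (b : W ⟶ X), ModPair.IsAmbient IW IT a → ModPair.IsAmbient IW IX b →
          a ≫ f = b ≫ p →
          ∃! c : W ⟶ ModPair.mprod p f IX IT,
            c ≫ ModPair.mprodι p f IX IT ≫ pullback.snd p f = a ∧
              c ≫ ModPair.mprodι p f IX IT ≫ pullback.fst p f = b ∧
              ModPair.IsAmbient IW (IX.comap (ModPair.mprodι p f IX IT ≫ pullback.fst p f)) c := by
  have hf' : IT = IS.comap f := hf
  have hp' : IX ≤ IS.comap p := hp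
  haveI : IsAffineHom (ModPair.prodInterior p f IX IT).ι :=
    CartH8.isAffineHom_prodInterior_ι p f IX IT hX hT
  refine ⟨?_, ?_, ?_⟩
  · rw [Scheme.IdealSheafData.comap_comp]
    apply CartH8.isEffCartier_comap_imageι (ModPair.prodInterior p f IX IT)
      (IX.comap (pullback.fst p f))
    · intro z
      obtain ⟨UX, hxU, i, -, hi⟩ := hX (pullback.fst p f z)
      obtain ⟨_, ⟨U, hU : IsAffineOpen U, rfl⟩, hzU, hUle⟩ :=
        ((pullback p f).isBasis_affineOpens).exists_subset_of_mem_open
          (show z ∈ (((pullback.fst p f) ⁻¹ᵁ UX.1 : (pullback p f).Opens) : Set _) from hxU)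
          ((pullback.fst p f) ⁻¹ᵁ UX.1).2
      refine ⟨⟨U, hU⟩, hzU, ((pullback.fst p f).appLE UX.1 U hUle).hom i, ?_⟩
      rw [ComapIdH8.comap_ideal _ IX ⟨U, hU⟩ UX hUle, hi, Ideal.map_span, Set.image_singleton]
    · intro z hz
      rw [CartH8.mem_support_comap_iff]
      exact hz.1
  · show IX.comap _ ≤ IT.comap _
    have h0 : IT.comap (ModPair.mprodι p f IX IT ≫ pullback.snd p f) =
        IS.comap ((ModPair.mprodι p f IX IT ≫ pullback.snd p f) ≫ f) :=
      (congrArg (fun K => K.comap (ModPair.mprodι p f IX IT ≫ pullback.snd p f)) hf').trans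
        (Scheme.IdealSheafData.comap_comp IS _ f).symm
    have h1 : (ModPair.mprodι p f IX IT ≫ pullback.snd p f) ≫ f =
        (ModPair.mprodι p f IX IT ≫ pullback.fst p f) ≫ p := by
      rw [Category.assoc, Category.assoc, pullback.condition]
    calc IX.comap (ModPair.mprodι p f IX IT ≫ pullback.fst p f)
        ≤ (IS.comap p).comap (ModPair.mprodι p f IX IT ≫ pullback.fst p f) :=
          Scheme.IdealSheafData.comap_mono _ hp'
      _ = IS.comap ((ModPair.mprodι p f IX IT ≫ pullback.fst p f) ≫ p) :=
          (Scheme.IdealSheafData.comap_comp IS _ p).symm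
      _ = IS.comap ((ModPair.mprodι p f IX IT ≫ pullback.snd p f) ≫ f) :=
          congrArg (fun φ => IS.comap φ) h1.symm
      _ = IT.comap (ModPair.mprodι p f IX IT ≫ pullback.snd p f) := h0.symm
  · intro W IW hW a b ha hb hab
    have hb' : IW ≤ IX.comap b := hb
    have hbc : BlowUp.IsEffCartierIdeal (IX.comap b) :=
      CartH8.isEffCartier_comap_of_le b IX hX IW hW hb'
    obtain ⟨g, hg⟩ : ∃ g : W ⟶ pullback p f, g = pullback.lift b a hab.symm := ⟨_, rfl⟩
    have hg1 : g ≫ pullback.fst p f = b := by rw [hg]; exact pullback.lift_fst _ _ _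
    have hg2 : g ≫ pullback.snd p f = a := by rw [hg]; exact pullback.lift_snd _ _ _
    haveI : IsSchemeTheoreticallyDominant (g ⁻¹ᵁ ModPair.prodInterior p f IX IT).ι := by
      refine BlowIsoH8.dominant_of_effCartier _ hbc _ ?_
      intro w hw
      rw [CartH8.mem_support_comap_iff] at hw
      have h1 : pullback.fst p f (g w) = b w := by rw [← Scheme.Hom.comp_apply, hg1]
      have h2 : pullback.snd p f (g w) = a w := by rw [← Scheme.Hom.comp_apply, hg2]
      refine ⟨?_, ?_⟩
      · show pullback.fst p f (g w) ∉ IX.support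
        rw [h1]
        exact hw
      · show pullback.snd p f (g w) ∉ IT.support
        have h0 : IT.support = (IS.comap f).support := by rw [← hf']
        rw [h2, h0, CartH8.mem_support_comap_iff]
        have h3 : f (a w) = p (b w) := by
          rw [← Scheme.Hom.comp_apply, ← Scheme.Hom.comp_apply, hab]
        rw [h3]
        intro hS
        exact hw (Scheme.IdealSheafData.support_antitone hp'
          ((CartH8.mem_support_comap_iff p IS _).mpr hS))
    obtain ⟨c, hc⟩ := CartH8.exists_lift_imageι g (ModPair.prodInterior p f IX IT)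
    have hc' : c ≫ ModPair.mprodι p f IX IT = g := hc
    refine ⟨c, ⟨?_, ?_, ?_⟩, ?_⟩
    · rw [← Category.assoc, hc', hg2]
    · rw [← Category.assoc, hc', hg1]
    · show IW ≤ (IX.comap (ModPair.mprodι p f IX IT ≫ pullback.fst p f)).comap c
      rw [← Scheme.IdealSheafData.comap_comp, ← Category.assoc, hc', hg1]
      exact hb'
    · rintro c' ⟨h1, h2, -⟩
      have h3 : c' ≫ ModPair.mprodι p f IX IT = g := by
        apply pullback.hom_ext
        · rw [Category.assoc, h2, hg1]
        · rw [Category.assoc, h1, hg2]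
      rw [← cancel_mono (ModPair.mprodι p f IX IT), h3, hc']

end Groth.Agent.S18736
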