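import Groth.Statements.S18755
import Mathlib
import Groth.Agent.S18749
import Groth.Agent.Lib.StrictCl1_helper8

set_option autoImplicit false
universe u
open CategoryTheory CategoryTheory.Limits AlgebraicGeometry TopologicalSpace
open ModPair

namespace Groth.Agent.S18755

/-- Let (S₀, I₀), (S₁, I₁), (T, J), (X, I) be schemes with quasi-coherent ideal sheaves of effective
Cartier divisors, f : X ⟶ S₁, g : T ⟶ S₁ and σ : S₁ ⟶ S₀ morphisms satisfying the modulus condition,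
and let (Y₁, K₁) with π₁ and (Y₀, K₀) with π₀ be ambient products of (X, I) and (T, J) over S₁ and
over S₀ (the latter for f ≫ σ and g ≫ σ): blow-ups of the scheme-theoretic image of the product of
the interiors inside X ×_{S₁} T, resp. X ×_{S₀} T, in the intersection of the pulled-back moduli,
with K·E = D_X·D_T. Then the ambient product is functorial in the base: there is a unique morphism φ
: Y₁ ⟶ Y₀ compatible with the maps to X ×_{S₀} T (through the canonical X ×_{S₁} T ⟶ X ×_{S₀} T),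
and every such φ is minimal, K₁ = K₀.comap φ. -/
theorem result {S₀ S₁ T X Y₁ Y₀ : Scheme.{u}} (I₀ : S₀.IdealSheafData)
    (I₁ : S₁.IdealSheafData) (J : T.IdealSheafData) (I : X.IdealSheafData)
    (h₀ : BlowUp.IsEffCartierIdeal I₀) (h₁ : BlowUp.IsEffCartierIdeal I₁)
    (hT : BlowUp.IsEffCartierIdeal J) (hX : BlowUp.IsEffCartierIdeal I)
    (f : X ⟶ S₁) (hf : ModPair.IsAmbient I I₁ f) (g : T ⟶ S₁) (hg : ModPair.IsAmbient J I₁ g)
    (σ : S₁ ⟶ S₀) (hσ : ModPair.IsAmbient I₁ I₀ σ)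
    (π₁ : Y₁ ⟶ ModPair.mprod f g I J) (K₁ : Y₁.IdealSheafData) (hY₁ : ModPair.IsAmbProd f g I J π₁ K₁)
    (π₀ : Y₀ ⟶ ModPair.mprod (f ≫ σ) (g ≫ σ) I J) (K₀ : Y₀.IdealSheafData)
    (hY₀ : ModPair.IsAmbProd (f ≫ σ) (g ≫ σ) I J π₀ K₀) :
    (∃! φ : Y₁ ⟶ Y₀, φ ≫ π₀ ≫ ModPair.mprodι (f ≫ σ) (g ≫ σ) I J =
        π₁ ≫ ModPair.mprodι f g I J ≫ pullback.mapDesc f g σ) ∧
      ∀ φ : Y₁ ⟶ Y₀, φ ≫ π₀ ≫ ModPair.mprodι (f ≫ σ) (g ≫ σ) I J =
          π₁ ≫ ModPair.mprodι f g I J ≫ pullback.mapDesc f g σ →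
        ModPair.IsMinimal K₁ K₀ φ := by
  -- results about `(Y₁, K₁)` from S18749
  obtain ⟨hK₁, -, -, hint₁⟩ :=
    Groth.Agent.S18749.result I₁ J I h₁ hT hX f hf g hg π₁ K₁ hY₁
  obtain ⟨hblow₁, hKE₁⟩ := hY₁
  obtain ⟨hblow₀, hKE₀⟩ := hY₀
  -- the composite to the big fibre product
  obtain ⟨γ, hγ⟩ : ∃ γ : Y₁ ⟶ pullback (f ≫ σ) (g ≫ σ),
      γ = π₁ ≫ ModPair.mprodι f g I J ≫ pullback.mapDesc f g σ := ⟨_, rfl⟩
  have hγfst : γ ≫ pullback.fst (f ≫ σ) (g ≫ σ) =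
      π₁ ≫ ModPair.mprodι f g I J ≫ pullback.fst f g := by
    rw [hγ, Category.assoc, Category.assoc, pullback.lift_fst, Category.comp_id]
  have hγsnd : γ ≫ pullback.snd (f ≫ σ) (g ≫ σ) =
      π₁ ≫ ModPair.mprodι f g I J ≫ pullback.snd f g := by
    rw [hγ, Category.assoc, Category.assoc, pullback.lift_snd, Category.comp_id]
  -- the preimage of the product of the interiors is the complement of `K₁`
  have hW : ∀ z : Y₁, z ∈ γ ⁻¹ᵁ ModPair.prodInterior (f ≫ σ) (g ≫ σ) I J ↔ z ∉ K₁.support := by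
    intro z
    have h2 : z ∉ K₁.support ↔
        z ∈ (π₁ ≫ ModPair.mprodι f g I J) ⁻¹ᵁ ModPair.prodInterior f g I J := by
      rw [← hint₁]
      rfl
    rw [h2]
    have e1 : pullback.fst (f ≫ σ) (g ≫ σ) (γ z) =
        pullback.fst f g ((π₁ ≫ ModPair.mprodι f g I J) z) := by
      rw [← Scheme.Hom.comp_apply, hγfst]
      rfl
    have e2 : pullback.snd (f ≫ σ) (g ≫ σ) (γ z) =
        pullback.snd f g ((π₁ ≫ ModPair.mprodι f g I J) z) := by
      rw [← Scheme.Hom.comp_apply, hγsnd]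
      rfl
    constructor
    · rintro ⟨h3, h4⟩
      refine ⟨?_, ?_⟩
      · change pullback.fst f g ((π₁ ≫ ModPair.mprodι f g I J) z) ∈ ModPair.interior I
        rw [← e1]
        exact h3
      · change pullback.snd f g ((π₁ ≫ ModPair.mprodι f g I J) z) ∈ ModPair.interior J
        rw [← e2]
        exact h4
    · rintro ⟨h3, h4⟩
      refine ⟨?_, ?_⟩
      · change pullback.fst (f ≫ σ) (g ≫ σ) (γ z) ∈ ModPair.interior I
        rw [e1]
        exact h3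
      · change pullback.snd (f ≫ σ) (g ≫ σ) (γ z) ∈ ModPair.interior J
        rw [e2]
        exact h4
  haveI : IsSchemeTheoreticallyDominant
      (γ ⁻¹ᵁ ModPair.prodInterior (f ≫ σ) (g ≫ σ) I J).ι :=
    (StrictClH8.cartier_compl K₁ hK₁ _ hW).2
  obtain ⟨ψ, hψ⟩ := CartH8.exists_lift_imageι γ (ModPair.prodInterior (f ≫ σ) (g ≫ σ) I J)
  have hψ' : ψ ≫ ModPair.mprodι (f ≫ σ) (g ≫ σ) I J = γ := hψ
  -- the centre pulls back to the exceptional ideal of `π₁`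
  have hC : (ModPair.prodCentre (f ≫ σ) (g ≫ σ) I J).comap ψ =
      (ModPair.prodCentre f g I J).comap π₁ := by
    unfold ModPair.prodCentre
    rw [Scheme.IdealSheafData.comap_sup, Scheme.IdealSheafData.comap_sup,
      ← Scheme.IdealSheafData.comap_comp, ← Scheme.IdealSheafData.comap_comp,
      ← Scheme.IdealSheafData.comap_comp, ← Scheme.IdealSheafData.comap_comp,
      ← Category.assoc ψ, ← Category.assoc ψ, hψ', hγfst, hγsnd]
  have hcart : BlowUp.IsEffCartierIdeal ((ModPair.prodCentre (f ≫ σ) (g ≫ σ) I J).comap ψ) := by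
    rw [hC]
    exact hblow₁.1
  obtain ⟨φ₀, hφ₀, huniq⟩ := hblow₀.2 Y₁ ψ hcart
  have hφ₀' : φ₀ ≫ π₀ = ψ := hφ₀
  have key : ∀ φ : Y₁ ⟶ Y₀, φ ≫ π₀ ≫ ModPair.mprodι (f ≫ σ) (g ≫ σ) I J =
      π₁ ≫ ModPair.mprodι f g I J ≫ pullback.mapDesc f g σ → φ ≫ π₀ = ψ := by
    intro φ hφ
    rw [← cancel_mono (ModPair.mprodι (f ≫ σ) (g ≫ σ) I J), Category.assoc, hφ, hψ', hγ]
  refine ⟨⟨φ₀, ?_, ?_⟩, ?_⟩
  · change φ₀ ≫ π₀ ≫ ModPair.mprodι (f ≫ σ) (g ≫ σ) I J = _
    rw [← Category.assoc, hφ₀', hψ', hγ]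
  · intro φ hφ
    exact huniq φ (key φ hφ)
  · intro φ hφ
    have hφψ : φ ≫ π₀ = ψ := key φ hφ
    change K₁ = K₀.comap φ
    apply CartH8.eq_of_mul_eq_mul_cartier K₁ (K₀.comap φ)
      ((ModPair.prodCentre f g I J).comap π₁) hblow₁.1
    rw [hKE₁]
    have m1 : φ ≫ π₀ ≫ ModPair.mprodι (f ≫ σ) (g ≫ σ) I J ≫ pullback.fst (f ≫ σ) (g ≫ σ) =
        π₁ ≫ ModPair.mprodι f g I J ≫ pullback.fst f g := by
      rw [← Category.assoc, hφψ, ← Category.assoc, hψ', hγfst]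
    have m2 : φ ≫ π₀ ≫ ModPair.mprodι (f ≫ σ) (g ≫ σ) I J ≫ pullback.snd (f ≫ σ) (g ≫ σ) =
        π₁ ≫ ModPair.mprodι f g I J ≫ pullback.snd f g := by
      rw [← Category.assoc, hφψ, ← Category.assoc, hψ', hγsnd]
    have hE : ((ModPair.prodCentre (f ≫ σ) (g ≫ σ) I J).comap π₀).comap φ =
        (ModPair.prodCentre f g I J).comap π₁ := by
      rw [← Scheme.IdealSheafData.comap_comp, hφψ, hC]
    have hDX : ((I.comap (ModPair.mprodι (f ≫ σ) (g ≫ σ) I J ≫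
        pullback.fst (f ≫ σ) (g ≫ σ))).comap π₀).comap φ =
        (I.comap (ModPair.mprodι f g I J ≫ pullback.fst f g)).comap π₁ := by
      rw [← Scheme.IdealSheafData.comap_comp, ← Scheme.IdealSheafData.comap_comp,
        ← Scheme.IdealSheafData.comap_comp, Category.assoc, m1]
    have hDT : ((J.comap (ModPair.mprodι (f ≫ σ) (g ≫ σ) I J ≫
        pullback.snd (f ≫ σ) (g ≫ σ))).comap π₀).comap φ =
        (J.comap (ModPair.mprodι f g I J ≫ pullback.snd f g)).comap π₁ := by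
      rw [← Scheme.IdealSheafData.comap_comp, ← Scheme.IdealSheafData.comap_comp,
        ← Scheme.IdealSheafData.comap_comp, Category.assoc, m2]
    have h5 := congrArg (fun L : Y₀.IdealSheafData => L.comap φ) hKE₀
    simp only [CartH8.comap_mul] at h5
    rw [hE, hDX, hDT] at h5
    exact h5.symm

end Groth.Agent.S18755
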