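import Groth.Statements.S18791
import Mathlib

set_option autoImplicit false
universe u v w x
open TorusGr

namespace Groth.Agent.S18791

open DirectSum in
theorem isHomogeneous_of_fix {k : Type u} [Field k] {M : Type v} [AddCommGroup M] [DecidableEq M]
    {A : Type w} [CommRing A] [Algebra k A] (𝒜 : M → Submodule k A) [GradedAlgebra 𝒜]
    (m : Ideal A) (hfix : ∀ i : M, i ≠ 0 → ∀ a ∈ 𝒜 i, a ∈ m) : m.IsHomogeneous 𝒜 := by
  classical
  intro i x hx
  by_cases hi : i = 0
  · subst hi
    by_cases h0 : (0 : M) ∈ (DirectSum.decompose 𝒜 x).support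
    · have hsum := DirectSum.sum_support_decompose 𝒜 x
      rw [← Finset.add_sum_erase _ _ h0] at hsum
      have : ((DirectSum.decompose 𝒜 x 0 : 𝒜 0) : A) =
          x - ∑ j ∈ (DirectSum.decompose 𝒜 x).support.erase 0, ((DirectSum.decompose 𝒜 x j : 𝒜 j) : A) := by
        rw [eq_sub_iff_add_eq]; exact hsum
      rw [this]
      refine sub_mem hx (sum_mem fun j hj => ?_)
      exact hfix j (Finset.ne_of_mem_erase hj) _ (SetLike.coe_mem _)
    · rw [DFinsupp.notMem_support_iff] at h0
      rw [h0]
      simp
  · exact hfix i hi _ (SetLike.coe_mem _)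

open DirectSum in
theorem comp_mem_ker {k : Type u} [Field k] {M : Type v} [AddCommGroup M] [DecidableEq M]
    {A : Type w} [CommRing A] [Algebra k A] (𝒜 : M → Submodule k A) [GradedAlgebra 𝒜]
    (m : Ideal A) [m.IsMaximal] (hfix : ∀ i : M, i ≠ 0 → ∀ a ∈ 𝒜 i, a ∈ m)
    (a : A) (ha : algebraMap A (Localization.AtPrime m) a = 0) (j : M) :
    algebraMap A (Localization.AtPrime m) ((DirectSum.decompose 𝒜 a j : 𝒜 j) : A) = 0 := by
  classical
  obtain ⟨s, hs⟩ := (IsLocalization.map_eq_zero_iff m.primeCompl _ a).mp ha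
  have hm := isHomogeneous_of_fix 𝒜 m hfix
  obtain ⟨u, w, hw, huw⟩ := Ideal.IsMaximal.exists_inv ‹m.IsMaximal› (s.2 : (s : A) ∉ m)
  have hwa : w * a = a := by
    have : w = 1 - u * s := by rw [← huw]; ring
    rw [this, sub_mul, one_mul, mul_assoc, hs, mul_zero, sub_zero]
  let gens : Finset A := (DirectSum.decompose 𝒜 a).support.image
    (fun j => ((DirectSum.decompose 𝒜 a j : 𝒜 j) : A))
  let N : Ideal A := Ideal.span (gens : Set A)
  have hNhom : N.IsHomogeneous 𝒜 := by
    refine Ideal.homogeneous_span 𝒜 _ ?_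
    intro x hx
    obtain ⟨j, -, rfl⟩ := Finset.mem_image.mp (Finset.mem_coe.mp hx)
    exact ⟨j, SetLike.coe_mem _⟩
  have haN : a ∈ N := by
    rw [← DirectSum.sum_support_decompose 𝒜 a]
    refine sum_mem fun j hj => Ideal.subset_span ?_
    exact Finset.mem_coe.mpr (Finset.mem_image_of_mem _ hj)
  have hcompN : ∀ j, ((DirectSum.decompose 𝒜 a j : 𝒜 j) : A) ∈ m * N := by
    intro j
    have h1 : w * a ∈ m * N := Ideal.mul_mem_mul hw haN
    have h2 := (hm.mul hNhom) j h1
    rwa [hwa] at h2
  have hle : N ≤ m • N := by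
    refine Ideal.span_le.mpr ?_
    intro x hx
    obtain ⟨j, -, rfl⟩ := Finset.mem_image.mp (Finset.mem_coe.mp hx)
    exact hcompN j
  obtain ⟨r, hr1, hr⟩ := Submodule.exists_sub_one_mem_and_smul_eq_zero_of_fg_of_le_smul m N
    (Submodule.fg_span (Finset.finite_toSet _)) hle
  have hrm : r ∉ m := by
    intro hrm
    have h1 : (1 : A) ∈ m := by
      have := sub_mem hrm hr1
      simpa using this
    exact (Ideal.ne_top_iff_one m).mp (Ideal.IsMaximal.ne_top ‹_›) h1
  have hjN : ((DirectSum.decompose 𝒜 a j : 𝒜 j) : A) ∈ N := Ideal.mul_le_right (hcompN j)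
  refine (IsLocalization.map_eq_zero_iff m.primeCompl _ _).mpr ⟨⟨r, hrm⟩, ?_⟩
  exact hr _ hjN

open DirectSum in
theorem decompose_map_eq {k : Type u} [Field k] {M : Type v} [AddCommGroup M] [DecidableEq M]
    {A : Type w} [CommRing A] [Algebra k A] (𝒜 : M → Submodule k A) [GradedAlgebra 𝒜]
    {B : Type x} [CommRing B] [Algebra k B] (ℬ : M → Submodule k B) [GradedAlgebra ℬ]
    (φ : B →ₐ[k] A) (hφ : ∀ i : M, ∀ b ∈ ℬ i, φ b ∈ 𝒜 i) (b : B) (i : M) :
    ((DirectSum.decompose 𝒜 (φ b) i : 𝒜 i) : A) = φ ((DirectSum.decompose ℬ b i : ℬ i) : B) := by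
  classical
  conv_lhs => rw [← DirectSum.sum_support_decompose ℬ b]
  rw [map_sum, DirectSum.decompose_sum, DFinsupp.finsetSum_apply, AddSubmonoidClass.coe_finsetSum]
  have key : ∀ j ∈ (DirectSum.decompose ℬ b).support,
      ((DirectSum.decompose 𝒜 (φ ((DirectSum.decompose ℬ b j : ℬ j) : B)) i : 𝒜 i) : A) =
        if j = i then φ ((DirectSum.decompose ℬ b j : ℬ j) : B) else 0 := by
    intro j _
    split_ifs with h
    · subst h
      exact DirectSum.decompose_of_mem_same 𝒜 (hφ j _ (SetLike.coe_mem _))
    · exact DirectSum.decompose_of_mem_ne 𝒜 (hφ j _ (SetLike.coe_mem _)) h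
  rw [Finset.sum_congr rfl key, Finset.sum_ite_eq']
  split_ifs with h
  · rfl
  · rw [DFinsupp.notMem_support_iff] at h
    rw [h]
    simp

/-- Let `φ : B → A` be a degree-preserving homomorphism of commutative algebras over a field `k` graded
by an additive commutative group `M` (for `M` the character group of a split torus, an equivariant
morphism `Spec A → Spec B`), and let `m` be a maximal ideal of `A` containing all homogeneous
elements of non-zero degree (a fixed point). Then the ideal of those `b` whose image is zero in the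
local ring `A_m` is homogeneous: the homogeneous (weight) components of such a `b` again die in
`A_m`. Since `A_m` embeds in its completion when `A` is Noetherian, these are the elements of `B`
that die in the completed local ring. (The published lemma asserts moreover that, for `B = k[Y_1, …,
Y_d]` mapping the `Y_i` to semi-invariant lifts of a basis of `m/m²`, the kernel of the induced
surjection of completions `k[[Y]] → Â_m` is generated by semi-invariant polynomials; generation of
that kernel by polynomials can fail, so only the statement about polynomial elements of the kernel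
is recorded here. The published statement has `M ≅ ℤ^r` (a split torus) and `B` the polynomial ring
on the lifts; here `M` is any additive commutative group and `B` any `M`-graded `k`-algebra.) -/
theorem result
    {k : Type u} [Field k] {M : Type v} [AddCommGroup M] [DecidableEq M]
    {A : Type w} [CommRing A] [Algebra k A] (𝒜 : M → Submodule k A) [GradedAlgebra 𝒜]
    {B : Type x} [CommRing B] [Algebra k B] (ℬ : M → Submodule k B) [GradedAlgebra ℬ]
    (φ : B →ₐ[k] A) (hφ : ∀ i : M, ∀ b ∈ ℬ i, φ b ∈ 𝒜 i)
    (m : Ideal A) [m.IsMaximal] (hfix : ∀ i : M, i ≠ 0 → ∀ a ∈ 𝒜 i, a ∈ m) :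
    (RingHom.ker ((algebraMap A (Localization.AtPrime m)).comp (φ : B →+* A))).IsHomogeneous ℬ := by
  intro i b hb
  rw [RingHom.mem_ker, RingHom.comp_apply] at hb ⊢
  have h1 := comp_mem_ker 𝒜 m hfix (φ b) hb i
  rw [decompose_map_eq 𝒜 ℬ φ hφ b i] at h1
  exact h1

end Groth.Agent.S18791
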