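import Groth.Statements.S18792
import Mathlib

set_option autoImplicit false
universe u
open DefMod

namespace Groth.Agent.S18792

/-- Let A be an associative unital algebra over ℚ, let a ∈ A be nilpotent and let b ∈ A. Then the
commutator map x ↦ a x − x a is a nilpotent ℚ-linear endomorphism of A, and exp(a) b exp(−a) =
exp(ad a)(b), where exp is the finite exponential series of a nilpotent element and ad a is the
commutator map. (The published statement takes A an algebra over an arbitrary commutative ring; the
factorials in the exponential series require the rationals to act, so A is taken to be a ℚ-algebra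
here. The intermediate double-sum expansion printed between the two sides is not restated.) -/
theorem result {A : Type u} [Ring A] [Algebra ℚ A] (a b : A)
    (ha : IsNilpotent a) :
    IsNilpotent (LinearMap.mulLeft ℚ a - LinearMap.mulRight ℚ a) ∧
      IsNilpotent.exp a * b * IsNilpotent.exp (-a) =
        IsNilpotent.exp (LinearMap.mulLeft ℚ a - LinearMap.mulRight ℚ a) b := by
  obtain ⟨k, hk⟩ := ha
  have hnegk : (-a) ^ k = 0 := by rw [neg_pow, hk, mul_zero]
  set La : Module.End ℚ A := LinearMap.mulLeft ℚ a with hLa
  set Ra : Module.End ℚ A := LinearMap.mulRight ℚ a with hRa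
  have hLk : La ^ k = 0 := by
    rw [hLa, LinearMap.pow_mulLeft, hk]; ext x; simp
  have hRneg : -Ra = LinearMap.mulRight ℚ (-a) := by
    ext x; simp [hRa]
  have hRk : (-Ra) ^ k = 0 := by
    rw [hRneg, LinearMap.pow_mulRight, hnegk]; ext x; simp
  have hLnil : IsNilpotent La := ⟨k, hLk⟩
  have hRnil : IsNilpotent (-Ra) := ⟨k, hRk⟩
  have hcomm : Commute La (-Ra) := Commute.neg_right (LinearMap.commute_mulLeft_right (R := ℚ) a a : Commute La Ra)
  have hsub : La - Ra = La + (-Ra) := sub_eq_add_neg _ _
  refine ⟨?_, ?_⟩
  · rw [hsub]; exact hcomm.isNilpotent_add hLnil hRnil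
  · rw [hsub, IsNilpotent.exp_add_of_commute hcomm hLnil hRnil]
    have h1 : ∀ x : A, IsNilpotent.exp La x = IsNilpotent.exp a * x := by
      intro x
      rw [IsNilpotent.exp_eq_sum hLk, IsNilpotent.exp_eq_sum hk, LinearMap.sum_apply,
        Finset.sum_mul]
      refine Finset.sum_congr rfl fun i _ => ?_
      rw [LinearMap.smul_apply, hLa, LinearMap.pow_mulLeft, LinearMap.mulLeft_apply,
        smul_mul_assoc]
    have h2 : ∀ x : A, IsNilpotent.exp (-Ra) x = x * IsNilpotent.exp (-a) := by
      intro x
      rw [IsNilpotent.exp_eq_sum hRk, IsNilpotent.exp_eq_sum hnegk, LinearMap.sum_apply,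
        Finset.mul_sum]
      refine Finset.sum_congr rfl fun i _ => ?_
      rw [LinearMap.smul_apply, hRneg, LinearMap.pow_mulRight, LinearMap.mulRight_apply,
        mul_smul_comm]
    rw [Module.End.mul_apply, h1, h2, mul_assoc]

end Groth.Agent.S18792
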