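import Groth.Statements.S18795
import Groth.Agent.Lib.DefMod2_helper9

set_option autoImplicit false
universe u v w
open scoped TensorProduct
open DefMod

namespace Groth.Agent.S18795

/-- Let E be a left module over an associative algebra D over a field K of characteristic zero. Assume
that the D-linear endomorphisms of E form a finite-dimensional K-vector space, that E has a finite
presentation over D, and that E is absolutely irreducible: its base change K̄ ⊗_K E to an algebraic
closure K̄ of K is nonzero and its only K̄-subspaces stable under every element of D are 0 and the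
whole space. Then End_D(E) = K: every D-linear endomorphism of E is multiplication by a scalar from
K. -/
theorem result
    {K : Type u} [Field K] [CharZero K]
    {D : Type v} [Ring D] [Algebra K D]
    {E : Type w} [AddCommGroup E] [Module K E] [Module D E] [IsScalarTower K D E]
    [Module.Finite K (E →ₗ[D] E)] [Module.FinitePresentation D E]
    (habs : (Nontrivial (AlgebraicClosure K ⊗[K] E) ∧ ∀ N : Submodule (AlgebraicClosure K) (AlgebraicClosure K ⊗[K] E), (∀ (d : D) (x : AlgebraicClosure K ⊗[K] E), x ∈ N → (DistribSMul.toLinearMap K E d).baseChange (AlgebraicClosure K) x ∈ N) → N = ⊥ ∨ N = ⊤))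
    (φ : E →ₗ[D] E) : ∃ c : K, ∀ x : E, φ x = c • x := by
  have hint : IsIntegral K (φ : Module.End D E) := Algebra.IsIntegral.isIntegral φ
  obtain ⟨q, hq, hq0⟩ := hint
  refine DefMod9.scalar_of_absIrr (AlgebraicClosure K) habs φ q hq ?_
  have h1 : Polynomial.aeval (φ : Module.End D E) q = 0 := hq0
  have h2 := congrArg (DefMod9.rho (K := K) (D := D) (E := E)) h1
  rw [← Polynomial.aeval_algHom_apply, map_zero] at h2
  exact h2

end Groth.Agent.S18795
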