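import Groth.Statements.S18797
import Mathlib

set_option autoImplicit false
universe u v w
open DefMod

namespace Groth.Agent.S18797

/-- Let K be a field of characteristic zero, O a commutative K-algebra with a K-linear derivation ∂, and
E a finite free O-module equipped with a K-linear map ∂_E satisfying the Leibniz rule ∂_E(a e) =
∂(a) e + a ∂_E(e) (a differential module). The induced derivation on End_O(E) sends φ to ∂_E ∘ φ − φ
∘ ∂_E, which is again O-linear; the trace End_O(E) → O is compatible with the two derivations: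
tr(∂_E ∘ φ − φ ∘ ∂_E) = ∂(tr φ). Here the O-linear map ψ = ∂_E ∘ φ − φ ∘ ∂_E is given by its values.
(The published lemma also asserts that the trace is split surjective and that it respects commutator
brackets; the split surjectivity fails for E = 0 over a nonzero ring and holds only in positive
rank, and neither clause is restated.) -/
theorem result
    {K : Type u} [Field K] [CharZero K]
    {O : Type v} [CommRing O] [Algebra K O] (δ : Derivation K O O)
    {E : Type w} [AddCommGroup E] [Module O E] [Module K E] [IsScalarTower K O E]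
    [Module.Free O E] [Module.Finite O E]
    (δE : E →ₗ[K] E) (hδE : ∀ (a : O) (e : E), δE (a • e) = δ a • e + a • δE e)
    (φ ψ : E →ₗ[O] E) (hψ : ∀ e : E, ψ e = δE (φ e) - φ (δE e)) :
    LinearMap.trace O E ψ = δ (LinearMap.trace O E φ) := by
  classical
  let b := Module.Free.chooseBasis O E
  obtain ⟨Φ, hΦ⟩ : ∃ Φ : Module.Free.ChooseBasisIndex O E → Module.Free.ChooseBasisIndex O E → O,
      ∀ i j, Φ i j = b.repr (φ (b j)) i := ⟨_, fun _ _ => rfl⟩
  obtain ⟨Nm, hNm⟩ : ∃ Nm : Module.Free.ChooseBasisIndex O E → Module.Free.ChooseBasisIndex O E → O,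
      ∀ i j, Nm i j = b.repr (δE (b j)) i := ⟨_, fun _ _ => rfl⟩
  have hφb : ∀ j, φ (b j) = ∑ i, Φ i j • b i := by
    intro j
    simp only [hΦ]
    exact (b.sum_repr (φ (b j))).symm
  have hδb : ∀ j, δE (b j) = ∑ i, Nm i j • b i := by
    intro j
    simp only [hNm]
    exact (b.sum_repr (δE (b j))).symm
  have hrepr : ∀ i j, b.repr (b i) j = if i = j then 1 else 0 := by
    intro i j; rw [b.repr_self, Finsupp.single_apply]
  have key : ∀ j, b.repr (ψ (b j)) j =
      δ (Φ j j) + ∑ i, Φ i j * Nm j i - ∑ i, Nm i j * Φ j i := by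
    intro j
    rw [hψ]
    have e1 : δE (φ (b j)) = ∑ i, (δ (Φ i j) • b i + Φ i j • δE (b i)) := by
      conv_lhs => rw [hφb j]
      rw [map_sum]
      apply Finset.sum_congr rfl
      intro i _
      exact hδE _ _
    have e2 : φ (δE (b j)) = ∑ i, Nm i j • φ (b i) := by
      conv_lhs => rw [hδb j]
      rw [map_sum]
      apply Finset.sum_congr rfl
      intro i _
      exact map_smul φ _ _
    rw [e1, e2, map_sub, Finsupp.sub_apply, map_sum, map_sum, Finsupp.finset_sum_apply,
      Finsupp.finset_sum_apply]
    congr 1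
    · simp only [map_add, map_smul, Finsupp.add_apply, Finsupp.smul_apply, smul_eq_mul, hrepr,
        Finset.sum_add_distrib, mul_ite, mul_one, mul_zero, Finset.sum_ite_eq', Finset.mem_univ,
        if_true, ← hNm]
    · simp only [map_smul, Finsupp.smul_apply, smul_eq_mul, ← hΦ]
  rw [LinearMap.trace_eq_matrix_trace O b ψ, LinearMap.trace_eq_matrix_trace O b φ, Matrix.trace,
    Matrix.trace, map_sum]
  simp only [Matrix.diag_apply, LinearMap.toMatrix_apply]
  rw [Finset.sum_congr rfl (fun j _ => key j), Finset.sum_sub_distrib, Finset.sum_add_distrib]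
  have hswap : ∑ j, ∑ i, Φ i j * Nm j i = ∑ j, ∑ i, Nm i j * Φ j i := by
    rw [Finset.sum_comm]
    apply Finset.sum_congr rfl
    intro i _
    apply Finset.sum_congr rfl
    intro j _
    ring
  rw [hswap, add_sub_cancel_right]
  apply Finset.sum_congr rfl
  intro j _
  rw [hΦ]

end Groth.Agent.S18797
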