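import Groth.Statements.S18802
import Mathlib.LinearAlgebra.Basis.VectorSpace
import Mathlib.Algebra.Module.Projective
import Mathlib.LinearAlgebra.FreeModule.Basic
import Mathlib.Algebra.Exact.Basic

set_option autoImplicit false
universe u v w w' w''
open DefMod

namespace Groth.Agent.S18802

/-- Let K be a field of characteristic zero, D an associative K-algebra and E, F left D-modules. A
K-linear map s : D → Hom_K(E, F) with s(ab)(e) = a s(b)(e) + s(a)(b e) (a derivation into the
bimodule Hom_K(E, F), i.e. a Hochschild 1-cocycle) defines the twisted sum F ⊕_s E = F × E with a ·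
(f, e) = (a f + s(a) e, a e), an extension of E by F. Every extension of left D-modules 0 → F → Q →
E → 0 arises this way: there are such an s and a D-linear isomorphism Q ≅ F ⊕_s E carrying the given
map F → Q to the inclusion f ↦ (f, 0) and compatible with the two projections onto E. (Together with
the splitting criterion this identifies derivations modulo principal derivations with Ext¹_D(E, F);
the compatibility of that identification with addition and scalars is not restated.) -/
theorem result
    {K : Type u} [Field K] [CharZero K]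
    {D : Type v} [Ring D] [Algebra K D]
    {E : Type w} [AddCommGroup E] [Module K E] [Module D E] [IsScalarTower K D E]
    {F : Type w'} [AddCommGroup F] [Module K F] [Module D F] [IsScalarTower K D F]
    {Q : Type w''} [AddCommGroup Q] [Module D Q]
    (i : F →ₗ[D] Q) (p : Q →ₗ[D] E) (hi : Function.Injective i) (hp : Function.Surjective p)
    (hex : Function.Exact i p) :
    ∃ (s : D →ₗ[K] E →ₗ[K] F) (hs : W4c6defoisocp1.IsHomDerivation s) (Φ : Q ≃ₗ[D] W4c6defoisocp1.TwistExt s hs),
      (∀ f : F, Φ (i f) = W4c6defoisocp1.TwistExt.inl f) ∧ ∀ q : Q, W4c6defoisocp1.TwistExt.snd (Φ q) = p q := by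
  letI : Module K Q := Module.compHom Q (algebraMap K D)
  haveI : IsScalarTower K D Q := ⟨fun c a q => by
    show (c • a) • q = (algebraMap K D c) • (a • q)
    rw [Algebra.smul_def, mul_smul]⟩
  have hKQ : ∀ (c : K) (q : Q), c • q = (algebraMap K D c) • q := fun _ _ => rfl
  obtain ⟨σ, hσ⟩ := LinearMap.exists_rightInverse_of_surjective (p.restrictScalars K)
    (LinearMap.range_eq_top.mpr hp)
  have hpσ : ∀ e, p (σ e) = e := fun e => LinearMap.congr_fun hσ e
  have hpi : ∀ f, p (i f) = 0 := fun f => (hex (i f)).mpr ⟨f, rfl⟩
  have hex' : ∀ q : Q, ∃ f : F, i f = q - σ (p q) := by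
    intro q
    have : p (q - σ (p q)) = 0 := by rw [map_sub, hpσ, sub_self]
    exact (hex _).mp this
  choose r0 hr0 using hex'
  have hcomm : ∀ (a : D) (c : K) (q : Q), a • (c • q) = c • (a • q) := by
    intro a c q
    rw [hKQ, hKQ, ← mul_smul, ← mul_smul, Algebra.commutes]
  have hiK : ∀ (c : K) (f : F), i (c • f) = c • i f := fun c f => by
    rw [← algebraMap_smul D c f, map_smul]; rfl
  have hpK : ∀ (c : K) (q : Q), p (c • q) = c • p q := fun c q => by
    rw [hKQ, map_smul, algebraMap_smul]
  let s : D →ₗ[K] E →ₗ[K] F := LinearMap.mk₂ K (fun a e => r0 (a • σ e))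
    (by
      intro a a' e; apply hi
      simp only [map_add, hr0, add_smul, map_add]
      abel)
    (by
      intro c a e; apply hi
      rw [hr0, hiK, hr0, smul_assoc, hpK, map_smul, smul_sub])
    (by
      intro a e e'; apply hi
      simp only [map_add, hr0, smul_add]
      abel)
    (by
      intro c a e; apply hi
      rw [hr0, hiK, hr0, map_smul, hcomm, hpK, map_smul, smul_sub])
  have hsi : ∀ a e, i (s a e) = a • σ e - σ (a • e) := by
    intro a e
    show i (r0 (a • σ e)) = _
    rw [hr0, map_smul, hpσ]
  have hs : W4c6defoisocp1.IsHomDerivation s := by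
    intro a b e; apply hi
    rw [map_add, map_smul, hsi, hsi, hsi, mul_smul, mul_smul, smul_sub]
    abel
  refine ⟨s, hs, { toFun := fun q => W4c6defoisocp1.TwistExt.mk (r0 q, p q)
                   map_add' := ?_
                   map_smul' := ?_
                   invFun := fun x => i (W4c6defoisocp1.TwistExt.val x).1 + σ (W4c6defoisocp1.TwistExt.val x).2
                   left_inv := ?_
                   right_inv := ?_ }, ?_, ?_⟩
  · intro q q'
    apply W4c6defoisocp1.TwistExt.ext
    · apply hi
      simp only [W4c6defoisocp1.TwistExt.val_mk, W4c6defoisocp1.TwistExt.val_add, Prod.fst_add, map_add, hr0]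
      abel
    · simp
  · intro a q
    apply W4c6defoisocp1.TwistExt.ext
    · apply hi
      simp only [W4c6defoisocp1.TwistExt.val_mk, W4c6defoisocp1.TwistExt.val_smul, RingHom.id_apply, map_add,
        map_smul, hr0, hsi, smul_sub]
      abel
    · simp
  · intro q
    simp only [W4c6defoisocp1.TwistExt.val_mk, hr0]
    abel
  · intro x
    apply W4c6defoisocp1.TwistExt.ext
    · apply hi
      simp only [W4c6defoisocp1.TwistExt.val_mk, hr0, map_add, hpi, hpσ, zero_add]
      abel
    · simp only [W4c6defoisocp1.TwistExt.val_mk, map_add, hpi, hpσ, zero_add]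
  · intro f
    apply W4c6defoisocp1.TwistExt.ext
    · apply hi
      simp only [LinearEquiv.coe_mk, LinearMap.coe_mk, AddHom.coe_mk, W4c6defoisocp1.TwistExt.val_mk,
        W4c6defoisocp1.TwistExt.val_inl, hr0, hpi, map_zero, sub_zero]
    · simp only [LinearEquiv.coe_mk, LinearMap.coe_mk, AddHom.coe_mk, W4c6defoisocp1.TwistExt.val_mk,
        W4c6defoisocp1.TwistExt.val_inl, hpi]
  · intro q
    rfl

end Groth.Agent.S18802
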