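import Groth.Statements.S18803
-- import your own Groth.Agent.* helpers here

set_option autoImplicit false
universe u v w w'
open DefMod

namespace Groth.Agent.S18803

/-- Let K be a field of characteristic zero, D an associative K-algebra, E and F left D-modules, and s :
D → Hom_K(E, F) a K-linear map with s(ab)(e) = a s(b)(e) + s(a)(b e). The twisted sum F ⊕_s E (that
is F × E with a · (f, e) = (a f + s(a) e, a e)) is a trivial extension of E by F — there is a
D-linear isomorphism F ⊕_s E ≅ F × E with the direct-sum module structure, carrying the inclusion f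
↦ (f, 0) to itself and compatible with the second projections — if and only if s is principal:
s(a)(e) = a σ(e) − σ(a e) for some K-linear σ : E → F (a Hochschild 1-coboundary). -/
theorem result
    {K : Type u} [Field K] [CharZero K]
    {D : Type v} [Ring D] [Algebra K D]
    {E : Type w} [AddCommGroup E] [Module K E] [Module D E] [IsScalarTower K D E]
    {F : Type w'} [AddCommGroup F] [Module K F] [Module D F] [IsScalarTower K D F]
    (s : D →ₗ[K] E →ₗ[K] F) (hs : W4c6defoisocp1.IsHomDerivation s) :
    (∃ Ψ : W4c6defoisocp1.TwistExt s hs ≃ₗ[D] F × E,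
        (∀ f : F, Ψ (W4c6defoisocp1.TwistExt.inl f) = (f, 0)) ∧ ∀ x : W4c6defoisocp1.TwistExt s hs, (Ψ x).2 = W4c6defoisocp1.TwistExt.snd x) ↔
      W4c6defoisocp1.IsPrincipal s := by
  constructor
  · rintro ⟨Ψ, hΨ1, hΨ2⟩
    have hs1 : s 1 = 0 := W4c6defoisocp1.TwistExt.map_one_eq_zero hs
    have halg : ∀ c : K, s (algebraMap K D c) = 0 := by
      intro c
      rw [Algebra.algebraMap_eq_smul_one, map_smul, hs1, smul_zero]
    have hsm : ∀ (c : K) (e : E),
        (algebraMap K D c) • (W4c6defoisocp1.TwistExt.mk (0, e) : W4c6defoisocp1.TwistExt s hs) =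
          W4c6defoisocp1.TwistExt.mk (0, c • e) := by
      intro c e
      apply W4c6defoisocp1.TwistExt.ext
      · simp [halg]
      · simp
    have hdecomp : ∀ (f : F) (e : E), (W4c6defoisocp1.TwistExt.mk (f, e) : W4c6defoisocp1.TwistExt s hs) =
        W4c6defoisocp1.TwistExt.inl f + W4c6defoisocp1.TwistExt.mk (0, e) := by
      intro f e
      apply W4c6defoisocp1.TwistExt.ext <;> simp
    let σ : E →ₗ[K] F :=
      { toFun := fun e => (Ψ (W4c6defoisocp1.TwistExt.mk (0, e))).1
        map_add' := by
          intro e e'
          have : (W4c6defoisocp1.TwistExt.mk (0, e + e') : W4c6defoisocp1.TwistExt s hs) =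
              W4c6defoisocp1.TwistExt.mk (0, e) + W4c6defoisocp1.TwistExt.mk (0, e') := by
            apply W4c6defoisocp1.TwistExt.ext <;> simp
          rw [this, map_add, Prod.fst_add]
        map_smul' := by
          intro c e
          rw [← hsm, map_smul, Prod.smul_fst, algebraMap_smul, RingHom.id_apply] }
    refine ⟨σ, ?_⟩
    intro a e
    have h1 : a • (W4c6defoisocp1.TwistExt.mk (0, e) : W4c6defoisocp1.TwistExt s hs) =
        W4c6defoisocp1.TwistExt.mk (s a e, a • e) := by
      apply W4c6defoisocp1.TwistExt.ext <;> simp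
    have h2 := congrArg (fun x => (Ψ x).1) h1
    simp only [map_smul, Prod.smul_fst] at h2
    rw [hdecomp (s a e) (a • e), map_add, Prod.fst_add, hΨ1] at h2
    show s a e = a • (Ψ (W4c6defoisocp1.TwistExt.mk (0, e))).1 - (Ψ (W4c6defoisocp1.TwistExt.mk (0, a • e))).1
    rw [h2]
    abel
  · rintro ⟨σ, hσ⟩
    refine ⟨{ toFun := fun x => ((W4c6defoisocp1.TwistExt.val x).1 + σ (W4c6defoisocp1.TwistExt.val x).2,
                (W4c6defoisocp1.TwistExt.val x).2)
              map_add' := ?_
              map_smul' := ?_
              invFun := fun y => W4c6defoisocp1.TwistExt.mk (y.1 - σ y.2, y.2)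
              left_inv := ?_
              right_inv := ?_ }, ?_, ?_⟩
    · intro x y
      ext
      · simp only [W4c6defoisocp1.TwistExt.val_add, Prod.fst_add, Prod.snd_add, map_add]; abel
      · simp
    · intro a x
      ext
      · simp only [W4c6defoisocp1.TwistExt.val_smul, RingHom.id_apply, Prod.smul_fst, hσ, smul_add]; abel
      · simp
    · intro x
      apply W4c6defoisocp1.TwistExt.ext <;> simp
    · intro y
      ext <;> simp
    · intro f
      ext <;> simp
    · intro x
      rfl

end Groth.Agent.S18803
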