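import Groth.Statements.S18808
import Groth.Agent.Lib.ComodDual_helper9

set_option autoImplicit false
universe u v v' w w' x
open TensorProduct
open HopfRep

namespace Groth.Agent.S18808

open Groth.Agent.Lib.ComodDual_helper9 Groth.Agent.Lib.Comod_helper9

theorem ev_lTensor {k : Type u} [CommRing k] {C : Type v} [AddCommGroup C] [Module k C]
    {D : Type v'} [AddCommGroup D] [Module k D] {M : Type w} [AddCommGroup M] [Module k M]
    (i : C →ₗ[k] D) (φ : D →ₗ[k] k) (y : M ⊗[k] C) :
    ev M φ (i.lTensor M y) = ev M (φ ∘ₗ i) y := by
  induction y using TensorProduct.induction_on with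
  | zero => simp
  | add x y hx hy => simp only [map_add, hx, hy]
  | tmul m c => simp

/-- over a field, an element of `M ⊗ D` killed by all functionals vanishing on `C` lies in `M ⊗ C`. -/
theorem mem_range_lTensor_of_forall_ev {k : Type u} [Field k] {C : Type v} [AddCommGroup C] [Module k C]
    {D : Type v'} [AddCommGroup D] [Module k D] {M : Type w} [AddCommGroup M] [Module k M]
    (i : C →ₗ[k] D) (x : M ⊗[k] D) (h : ∀ φ : D →ₗ[k] k, φ ∘ₗ i = 0 → ev M φ x = 0) :
    x ∈ LinearMap.range (i.lTensor M) := by
  have hex : Function.Exact i (LinearMap.range i).mkQ := by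
    intro d
    rw [Submodule.mkQ_apply, Submodule.Quotient.mk_eq_zero]
    rfl
  have h2 := lTensor_exact M hex (Submodule.mkQ_surjective _)
  rw [← LinearMap.exact_iff.mp h2, LinearMap.mem_ker]
  apply eq_zero_of_forall_ev
  intro ψ
  rw [ev_lTensor]
  apply h
  apply LinearMap.ext
  intro c
  simp only [LinearMap.comp_apply, Submodule.mkQ_apply, LinearMap.zero_apply]
  have hc : (Submodule.Quotient.mk (i c) : D ⧸ LinearMap.range i) = 0 :=
    (Submodule.Quotient.mk_eq_zero _).mpr (LinearMap.mem_range_self i c)
  rw [hc, map_zero]

/-- Let k be a field, i : C → D an injective morphism of k-coalgebras and V a right D-comodule with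
coaction ρ. Call a D-subcomodule K of V admissible when the induced coaction of V/K, namely ρ
followed by the projection V ⊗ D → (V/K) ⊗ D, takes all its values in the image of (V/K) ⊗ C → (V/K)
⊗ D (so that V/K comes from a C-comodule). Then there is a least admissible D-subcomodule of V: V
has a largest quotient D-comodule coming from C, through which every D-comodule map from V to a
comodule coming from C factors. (The source states this for left comodules over the coordinate
bialgebras of an affine monoid scheme and its open schematically dense group of units, as the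
existence of a universal map from a representation of the unit group to a representation of the
monoid; it uses that assumption only through the injectivity of the restriction map.) -/
theorem result (k : Type u) [Field k]
    (C : Type v) [AddCommGroup C] [Module k C] [Coalgebra k C]
    (D : Type v') [AddCommGroup D] [Module k D] [Coalgebra k D]
    (i : C →ₗc[k] D) (hi : Function.Injective i)
    (V : Type w) [AddCommGroup V] [Module k V] [HopfRep.Comod k D V] :
    ∃ K : Submodule k V, HopfRep.IsSubcomod (k := k) (A := D) K ∧
      (∀ v : V, K.mkQ.rTensor D (HopfRep.Comod.coact (k := k) (A := D) v) ∈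
        LinearMap.range ((i : C →ₗ[k] D).lTensor (V ⧸ K))) ∧
      ∀ K' : Submodule k V, HopfRep.IsSubcomod (k := k) (A := D) K' →
        (∀ v : V, K'.mkQ.rTensor D (HopfRep.Comod.coact (k := k) (A := D) v) ∈
          LinearMap.range ((i : C →ₗ[k] D).lTensor (V ⧸ K'))) → K ≤ K' := by
  let K : Submodule k V := Submodule.span k
    {x | ∃ (φ : D →ₗ[k] k) (v : V), φ ∘ₗ (i : C →ₗ[k] D) = 0 ∧ x = act φ v}
  refine ⟨K, ?_, ?_, ?_⟩
  · -- `K` is a subcomodule
    apply isSubcomod_of_act_mem
    intro ψ w hw
    induction hw using Submodule.span_induction with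
    | mem x hx =>
      obtain ⟨φ, v, hφ, rfl⟩ := hx
      apply Submodule.subset_span
      refine ⟨(WithConv.toConv ψ * WithConv.toConv φ).ofConv, v, ?_, ?_⟩
      · have h1 := LinearMap.convMul_comp_coalgHom_distrib (WithConv.toConv ψ) (WithConv.toConv φ) i
        have h2 : (WithConv.toConv φ).ofConv ∘ₗ i.toLinearMap = 0 := hφ
        change (WithConv.toConv ψ * WithConv.toConv φ).ofConv ∘ₗ i.toLinearMap = 0
        rw [h1, h2]
        have : (WithConv.toConv (0 : C →ₗ[k] k)) = 0 := rfl
        rw [this, mul_zero]
        rfl
      · exact (act_mul (WithConv.toConv ψ) (WithConv.toConv φ) v).symm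
    | zero => rw [map_zero]; exact K.zero_mem
    | add x y _ _ hx hy => rw [map_add]; exact K.add_mem hx hy
    | smul a x _ hx => rw [map_smul]; exact K.smul_mem a hx
  · intro v
    apply mem_range_lTensor_of_forall_ev
    intro φ hφ
    rw [ev_rTensor, Submodule.mkQ_apply, Submodule.Quotient.mk_eq_zero]
    exact Submodule.subset_span ⟨φ, v, hφ, rfl⟩
  · intro K' _ hK'
    apply Submodule.span_le.mpr
    rintro _ ⟨φ, v, hφ, rfl⟩
    obtain ⟨y, hy⟩ := hK' v
    have : K'.mkQ (act φ v) = 0 := by
      rw [act_apply, ← ev_rTensor, ← hy, ev_lTensor, hφ, ev_zero, LinearMap.zero_apply]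
    rwa [Submodule.mkQ_apply, Submodule.Quotient.mk_eq_zero] at this

end Groth.Agent.S18808
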