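import Groth.Statements.S18810
import Groth.Agent.Lib.ComodDual_helper9

set_option autoImplicit false
universe u v v' w w' x
open TensorProduct
open HopfRep

namespace Groth.Agent.S18810

/-- Let k be a field, C a k-coalgebra, V a right C-comodule and (S_j) a family of simple C-comodules
which are pairwise non-isomorphic (for j ≠ j' no k-linear isomorphism S_j ≃ S_j' commutes with the
coactions). For each j let V[j] be the isotypic component of type S_j: the sum of the images of all
comodule maps S_j → V (equivalently of all simple subcomodules of V isomorphic to S_j, a nonzero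
such map being injective). Then the family j ↦ V[j] is independent, so that the socle of V is the
direct sum of its isotypic components. (The source states this for representations of an affine
monoid scheme over k, i.e. left comodules over its coordinate bialgebra; the row is the
right-comodule form over any coalgebra.) -/
theorem result (k : Type u) [Field k]
    (C : Type v) [AddCommGroup C] [Module k C] [Coalgebra k C]
    (V : Type w) [AddCommGroup V] [Module k V] [HopfRep.Comod k C V]
    {ι : Type x} (S : ι → Type w') [∀ j, AddCommGroup (S j)] [∀ j, Module k (S j)]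
    [∀ j, HopfRep.Comod k C (S j)] (hS : ∀ j, HopfRep.IsSimpleComod k C (S j))
    (hne : ∀ j j', j ≠ j' → ∀ e : S j ≃ₗ[k] S j', ¬ Hoch.IsComodHom C (e : S j →ₗ[k] S j')) :
    iSupIndep (fun j => ⨆ f : {f : S j →ₗ[k] V // Hoch.IsComodHom C f}, LinearMap.range f.1) := by
  classical
  letI mV := Groth.Agent.Lib.ComodDual_helper9.dualModule ‹HopfRep.Comod k C V›
  letI mS : ∀ j, Module (Groth.Agent.Lib.ComodDual_helper9.Dual k C) (S j) :=
    fun j => Groth.Agent.Lib.ComodDual_helper9.dualModule (inferInstance : HopfRep.Comod k C (S j))
  haveI tV := Groth.Agent.Lib.ComodDual_helper9.isScalarTower_dual ‹HopfRep.Comod k C V›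
  haveI tS : ∀ j, IsScalarTower k (Groth.Agent.Lib.ComodDual_helper9.Dual k C) (S j) :=
    fun j => Groth.Agent.Lib.ComodDual_helper9.isScalarTower_dual (inferInstance : HopfRep.Comod k C (S j))
  haveI sS : ∀ j, IsSimpleModule (Groth.Agent.Lib.ComodDual_helper9.Dual k C) (S j) :=
    fun j => Groth.Agent.Lib.ComodDual_helper9.isSimpleModule_of_isSimpleComod _ (hS j)
  have hne' : ∀ j j', j ≠ j' → IsEmpty (S j ≃ₗ[Groth.Agent.Lib.ComodDual_helper9.Dual k C] S j') := by
    intro j j' hjj'
    refine ⟨fun E => hne j j' hjj' (E.restrictScalars k) ?_⟩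
    apply Groth.Agent.Lib.ComodDual_helper9.isComodHom_of_act_comm
    intro φ v
    exact E.map_smul (WithConv.toConv φ) v
  have hind := Groth.Agent.Lib.ComodDual_helper9.iSupIndep_isotypicComponent
    (R := Groth.Agent.Lib.ComodDual_helper9.Dual k C) (M := V) S hne'
  have hfam : (fun j => ⨆ f : {f : S j →ₗ[k] V // Hoch.IsComodHom C f}, LinearMap.range f.1) =
      fun j => (isotypicComponent (Groth.Agent.Lib.ComodDual_helper9.Dual k C) V (S j)).restrictScalars k := by
    funext j
    rw [Groth.Agent.Lib.ComodDual_helper9.iSup_range_comodHom_eq,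
      Groth.Agent.Lib.ComodDual_helper9.iSup_range_eq_isotypicComponent]
    rfl
  rw [hfam]
  intro j
  have h := hind j
  rw [← Submodule.disjoint_restrictScalars_iff (S := k)] at h
  simpa only [Submodule.restrictScalars_iSup] using h

end Groth.Agent.S18810
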