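import Groth.Statements.S18811
import Mathlib

set_option autoImplicit false
universe u
open CategoryTheory CategoryTheory.Limits AlgebraicGeometry
open Variety

namespace Groth.Agent.S18811

theorem kunneth_aux (k : Type u) [Field k] {X Y : Scheme.{u}} (p : X ⟶ Spec (CommRingCat.of k))
    (q : Y ⟶ Spec (CommRingCat.of k)) [CompactSpace ↥X] [CompactSpace ↥Y]
    [IsAffineHom (pullback.diagonal p)] [IsAffineHom (pullback.diagonal q)] :
    IsPushout p.appTop q.appTop (pullback.fst p q).appTop (pullback.snd p q).appTop := by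
  haveI : QuasiSeparated p := ⟨inferInstance⟩
  haveI : QuasiSeparated q := ⟨inferInstance⟩
  haveI : QuasiSeparatedSpace X :=
    (HasAffineProperty.iff_of_isAffine (P := @QuasiSeparated) (f := p)).mp inferInstance
  haveI : QuasiSeparatedSpace Y :=
    (HasAffineProperty.iff_of_isAffine (P := @QuasiSeparated) (f := q)).mp inferInstance
  haveI : Flat q := inferInstance
  have H : IsPullback (pullback.fst p q) (pullback.snd p q) p q := IsPullback.of_hasPullback p q
  have hUST : (⊤ : Y.Opens) ≤ q ⁻¹ᵁ ⊤ := by simp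
  have hUSX : (⊤ : X.Opens) ≤ p ⁻¹ᵁ ⊤ := by simp
  have hUY : (⊤ : (pullback p q).Opens) = pullback.fst p q ⁻¹ᵁ ⊤ ⊓ pullback.snd p q ⁻¹ᵁ ⊤ := by simp
  have hflat : (p.appLE ⊤ ⊤ hUSX).hom.Flat := by
    letI : Algebra Γ(Spec (CommRingCat.of k), ⊤) Γ(X, ⊤) := (p.appLE ⊤ ⊤ hUSX).hom.toAlgebra
    letI : Field Γ(Spec (CommRingCat.of k), ⊤) :=
      ((Scheme.ΓSpecIso (CommRingCat.of k)).commRingCatIsoToRingEquiv.toMulEquiv.isField
        (Field.toIsField k)).toField
    show Module.Flat Γ(Spec (CommRingCat.of k), ⊤) Γ(X, ⊤)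
    infer_instance
  have hiso := isIso_pushoutSection_of_isCompact_of_flat_right_of_ringHomFlat H hUST hUSX hUY
    (isAffineOpen_top _) isCompact_univ (isQuasiSeparated_univ_iff.mpr inferInstance)
    isCompact_univ (isQuasiSeparated_univ_iff.mpr inferInstance) hflat
  have hpo := (isIso_pushoutSection_iff H hUST hUSX hUY).mp hiso
  have e : ∀ {A B : Scheme.{u}} (h : A ⟶ B) (hle : (⊤ : A.Opens) ≤ h ⁻¹ᵁ ⊤),
      h.appLE ⊤ ⊤ hle = h.appTop := by
    intro A B h hle
    simp [Scheme.Hom.appTop, Scheme.Hom.appLE]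
  simpa only [e] using hpo

/-- Let k be a field and X, Y quasi-compact k-schemes whose diagonal morphisms over k are affine
(semi-separated; for instance X and Y separated over k). Then the canonical map Γ(X, O_X) ⊗_k Γ(Y,
O_Y) → Γ(X ×_k Y, O) is an isomorphism: the commutative square of rings of global sections formed by
Spec k, X, Y and X ×_k Y with the pullback maps along the structure morphisms and the two
projections is a pushout square of commutative rings. -/
theorem result (k : Type u) [Field k]
    (X : Scheme.{u}) [X.Over (Spec (CommRingCat.of k))] [CompactSpace ↥X]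
    [IsAffineHom (pullback.diagonal (X ↘ (Spec (CommRingCat.of k))))]
    (Y : Scheme.{u}) [Y.Over (Spec (CommRingCat.of k))] [CompactSpace ↥Y]
    [IsAffineHom (pullback.diagonal (Y ↘ (Spec (CommRingCat.of k))))] :
    IsPushout (X ↘ (Spec (CommRingCat.of k))).appTop (Y ↘ (Spec (CommRingCat.of k))).appTop
      (pullback.fst (X ↘ (Spec (CommRingCat.of k))) (Y ↘ (Spec (CommRingCat.of k)))).appTop
      (pullback.snd (X ↘ (Spec (CommRingCat.of k))) (Y ↘ (Spec (CommRingCat.of k)))).appTop := by
  exact kunneth_aux k _ _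

end Groth.Agent.S18811
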