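import Groth.Statements.S18813
import Groth.Agent.Lib.LinRed_helper9

set_option autoImplicit false
universe u
open scoped TensorProduct
open HopfRep

open Groth.Agent.Lib.LinRed_helper9 Groth.Agent.Lib.Integral_helper9
namespace Groth.Agent.S18813

/-- Let k be a field, K a field extension of k and A a commutative Hopf algebra over k, the coordinate
ring of an affine group scheme G (no finiteness assumed). Then G is linearly reductive (every
finite-dimensional A-comodule is semisimple) if and only if the base change G_K is (every
finite-dimensional comodule over the K-Hopf algebra K ⊗_k A is semisimple). (The source phrases both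
sides as semisimplicity of all representations, which over a field is equivalent to semisimplicity
of the finite-dimensional ones since every comodule is the union of its finite-dimensional
subcomodules.) -/
theorem result (k K A : Type u) [Field k] [Field K]
    [Algebra k K] [CommRing A] [HopfAlgebra k A] :
    HopfRep.IsLinearlyReductive k A ↔ HopfRep.IsLinearlyReductive K (K ⊗[k] A) := by
  constructor
  · intro h
    obtain ⟨α, hint, h1⟩ := exists_totalIntegral_of_isLinearlyReductive k A h
    intro V _ _ _ _
    exact isSemisimpleComod_of_integral K (K ⊗[k] A) (bcFun k K A α) V
      (bcFun_integral k K A α hint) (bcFun_one k K A α h1)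
  · intro h
    obtain ⟨γ, hint, h1⟩ := exists_totalIntegral_of_isLinearlyReductive K (K ⊗[k] A) h
    obtain ⟨r, hr⟩ : ∃ r : K →ₗ[k] k, r 1 = 1 := by
      have hinj : Function.Injective (Algebra.linearMap k K) := (algebraMap k K).injective
      obtain ⟨r, hr⟩ := (Algebra.linearMap k K).exists_leftInverse_of_injective
        (LinearMap.ker_eq_bot.mpr hinj)
      refine ⟨r, ?_⟩
      have := LinearMap.congr_fun hr 1
      simpa using this
    intro V _ _ _ _
    exact isSemisimpleComod_of_integral k A (descFun k K A r γ) V
      (descFun_integral k K A r γ hint) (descFun_one k K A r hr γ h1)

end Groth.Agent.S18813
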