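import Groth.Statements.S18818
import Groth.Agent.Lib.ComodDual_helper9

set_option autoImplicit false
universe u v w
open TensorProduct
open HopfRep

namespace Groth.Agent.S18818

/-- Let k be a field, C a k-coalgebra and V a right C-comodule which is semisimple in the sense that
every subcomodule has a complementary subcomodule (equivalently every injective comodule map into V
splits). Then V is completely reducible: V is the sum of its simple subcomodules, the nonzero
subcomodules W whose only subcomodules are 0 and W. (The source states this for representations of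
an affine monoid scheme over k, i.e. left comodules over its coordinate bialgebra; the converse
implication and the stability of the class under subobjects and quotients are not part of this row.) -/
theorem result (k : Type u) [Field k]
    (C : Type v) [AddCommGroup C] [Module k C] [Coalgebra k C]
    (V : Type w) [AddCommGroup V] [Module k V] [HopfRep.Comod k C V] (hV : HopfRep.IsSemisimpleComod k C V) :
    (⨆ W : {W : Submodule k V // HopfRep.IsSubcomod (k := k) (A := C) W ∧ W ≠ ⊥ ∧
        ∀ W' : Submodule k V, HopfRep.IsSubcomod (k := k) (A := C) W' → W' ≤ W → W' = ⊥ ∨ W' = W},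
      (W.1 : Submodule k V)) = ⊤ := by
  letI := Groth.Agent.Lib.ComodDual_helper9.dualModule ‹HopfRep.Comod k C V›
  haveI := Groth.Agent.Lib.ComodDual_helper9.isScalarTower_dual ‹HopfRep.Comod k C V›
  haveI := Groth.Agent.Lib.ComodDual_helper9.isSemisimpleModule_of_isSemisimpleComod ‹HopfRep.Comod k C V› hV
  have h := IsSemisimpleModule.sSup_simples_eq_top (Groth.Agent.Lib.ComodDual_helper9.Dual k C) V
  have h2 := congrArg (Submodule.restrictScalars k) h
  rw [Submodule.restrictScalars_sSup, Submodule.restrictScalars_top] at h2
  rw [eq_top_iff, ← h2]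
  apply sSup_le
  rintro _ ⟨m, hm, rfl⟩
  have hm' : IsSimpleModule (Groth.Agent.Lib.ComodDual_helper9.Dual k C) m := hm
  have hatom := isSimpleModule_iff_isAtom.mp hm'
  refine le_iSup_of_le ⟨m.restrictScalars k, ?_, ?_, ?_⟩ le_rfl
  · exact Groth.Agent.Lib.ComodDual_helper9.isSubcomod_ofDualSubmodule ‹HopfRep.Comod k C V› m
  · intro h0
    have h0' : Groth.Agent.Lib.ComodDual_helper9.ofDualSubmodule ‹HopfRep.Comod k C V› m = ⊥ := h0
    exact hatom.1 ((Groth.Agent.Lib.ComodDual_helper9.ofDualSubmodule_eq_bot_iff ‹HopfRep.Comod k C V› m).mp h0')
  · intro W' hW' hle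
    have hle' : Groth.Agent.Lib.ComodDual_helper9.toDualSubmodule ‹HopfRep.Comod k C V› W' hW' ≤ m := hle
    rcases hatom.le_iff.mp hle' with h' | h'
    · left
      exact (Groth.Agent.Lib.ComodDual_helper9.toDualSubmodule_eq_bot_iff ‹HopfRep.Comod k C V› W' hW').mp h'
    · right
      rw [← h']
      rfl

end Groth.Agent.S18818
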