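import Groth.Statements.S18819
import Groth.Agent.Lib.ComodDual_helper9
import Mathlib.RingTheory.SimpleModule.Isotypic

set_option autoImplicit false
universe u v w w'
open TensorProduct
open HopfRep

namespace Groth.Agent.S18819

set_option backward.isDefEq.respectTransparency false in
/-- Let k be a field, C a k-coalgebra and V a right C-comodule which is the sum of finitely many simple
subcomodules, given as the images of comodule maps g_i : K_i → V (i < n) from simple comodules K_i.
If S is a simple comodule and f : S → V a nonzero comodule map (so that its image is a simple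
subcomodule of V), then S is isomorphic as a comodule to some K_i: there is a k-linear isomorphism S
≃ K_i commuting with the coactions. (The source states this for representations of an affine monoid
scheme over k with the subrepresentations given as subspaces; here the simple subcomodules are
presented as images of maps from simple comodules.) -/
theorem result (k : Type u) [Field k]
    (C : Type v) [AddCommGroup C] [Module k C] [Coalgebra k C]
    (V : Type w) [AddCommGroup V] [Module k V] [HopfRep.Comod k C V]
    {n : ℕ} (K : Fin n → Type w') [∀ i, AddCommGroup (K i)] [∀ i, Module k (K i)] [∀ i, HopfRep.Comod k C (K i)]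
    (hK : ∀ i, HopfRep.IsSimpleComod k C (K i)) (g : ∀ i, K i →ₗ[k] V) (hg : ∀ i, Hoch.IsComodHom C (g i))
    (hsum : (⨆ i, LinearMap.range (g i)) = ⊤)
    (S : Type w') [AddCommGroup S] [Module k S] [HopfRep.Comod k C S] (hS : HopfRep.IsSimpleComod k C S)
    (f : S →ₗ[k] V) (hf : Hoch.IsComodHom C f) (hf0 : f ≠ 0) :
    ∃ (i : Fin n) (e : S ≃ₗ[k] K i), Hoch.IsComodHom C (e : S →ₗ[k] K i) := by
  classical
  letI mV := Groth.Agent.Lib.ComodDual_helper9.dualModule ‹HopfRep.Comod k C V›
  letI mS := Groth.Agent.Lib.ComodDual_helper9.dualModule ‹HopfRep.Comod k C S›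
  letI mK : ∀ i, Module (Groth.Agent.Lib.ComodDual_helper9.Dual k C) (K i) :=
    fun i => Groth.Agent.Lib.ComodDual_helper9.dualModule (inferInstance : HopfRep.Comod k C (K i))
  haveI tV := Groth.Agent.Lib.ComodDual_helper9.isScalarTower_dual ‹HopfRep.Comod k C V›
  haveI tS := Groth.Agent.Lib.ComodDual_helper9.isScalarTower_dual ‹HopfRep.Comod k C S›
  haveI tK : ∀ i, IsScalarTower k (Groth.Agent.Lib.ComodDual_helper9.Dual k C) (K i) :=
    fun i => Groth.Agent.Lib.ComodDual_helper9.isScalarTower_dual (inferInstance : HopfRep.Comod k C (K i))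
  let F : S →ₗ[Groth.Agent.Lib.ComodDual_helper9.Dual k C] V :=
    Groth.Agent.Lib.ComodDual_helper9.toDualLinear _ _ f hf
  let G : ∀ i, K i →ₗ[Groth.Agent.Lib.ComodDual_helper9.Dual k C] V :=
    fun i => Groth.Agent.Lib.ComodDual_helper9.toDualLinear _ _ (g i) (hg i)
  haveI sS : IsSimpleModule (Groth.Agent.Lib.ComodDual_helper9.Dual k C) S :=
    Groth.Agent.Lib.ComodDual_helper9.isSimpleModule_of_isSimpleComod _ hS
  haveI sK : ∀ i, IsSimpleModule (Groth.Agent.Lib.ComodDual_helper9.Dual k C) (K i) :=
    fun i => Groth.Agent.Lib.ComodDual_helper9.isSimpleModule_of_isSimpleComod _ (hK i)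
  have hFinj : Function.Injective F :=
    Groth.Agent.Lib.Comod_helper9.injective_of_simple hS f hf hf0
  haveI : IsSimpleModule (Groth.Agent.Lib.ComodDual_helper9.Dual k C) (LinearMap.range F) :=
    IsSimpleModule.congr (LinearEquiv.ofInjective F hFinj).symm
  let s : Set (Submodule (Groth.Agent.Lib.ComodDual_helper9.Dual k C) V) :=
    Set.range (fun i => LinearMap.range (G i))
  have hs : ∀ m : s, IsSemisimpleModule (Groth.Agent.Lib.ComodDual_helper9.Dual k C) m := by
    rintro ⟨_, i, rfl⟩
    exact IsSemisimpleModule.range (G i)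
  have htop : sSup s = ⊤ := by
    rw [sSup_range]
    have h1 : (⨆ i, LinearMap.range (G i)).restrictScalars k = ⊤ := by
      rw [Submodule.restrictScalars_iSup, ← hsum]
      rfl
    rw [eq_top_iff]
    intro v _
    have : v ∈ (⨆ i, LinearMap.range (G i)).restrictScalars k := by rw [h1]; trivial
    exact this
  have hle : LinearMap.range F ≤ sSup s := by rw [htop]; exact le_top
  obtain ⟨_, ⟨i, rfl⟩, S', hS'le, ⟨e⟩⟩ := Submodule.le_linearEquiv_of_le_sSup (LinearMap.range F) s hle
  haveI : IsSimpleModule (Groth.Agent.Lib.ComodDual_helper9.Dual k C) S' :=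
    IsSimpleModule.congr (M := S') (N := LinearMap.range F) e.symm
  have hS'atom := isSimpleModule_iff_isAtom.mp ‹IsSimpleModule (Groth.Agent.Lib.ComodDual_helper9.Dual k C) S'›
  have hGne : G i ≠ 0 := by
    intro h0
    apply hS'atom.1
    rw [eq_bot_iff]
    refine hS'le.trans ?_
    show LinearMap.range (G i) ≤ ⊥
    rw [h0, LinearMap.range_zero]
  have hgne : g i ≠ 0 := by
    intro h0
    apply hGne
    ext x
    show g i x = 0
    rw [h0]; rfl
  have hGinj : Function.Injective (G i) :=
    Groth.Agent.Lib.Comod_helper9.injective_of_simple (hK i) (g i) (hg i) hgne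
  haveI : IsSimpleModule (Groth.Agent.Lib.ComodDual_helper9.Dual k C) (LinearMap.range (G i)) :=
    IsSimpleModule.congr (LinearEquiv.ofInjective (G i) hGinj).symm
  have hGatom := isSimpleModule_iff_isAtom.mp
    ‹IsSimpleModule (Groth.Agent.Lib.ComodDual_helper9.Dual k C) (LinearMap.range (G i))›
  have hEq : S' = LinearMap.range (G i) := by
    rcases hGatom.le_iff.mp hS'le with h | h
    · exact absurd h hS'atom.1
    · exact h
  let E : S ≃ₗ[Groth.Agent.Lib.ComodDual_helper9.Dual k C] K i :=
    (LinearEquiv.ofInjective F hFinj).trans (e.trans ((LinearEquiv.ofEq _ _ hEq).trans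
      (LinearEquiv.ofInjective (G i) hGinj).symm))
  refine ⟨i, E.restrictScalars k, ?_⟩
  apply Groth.Agent.Lib.ComodDual_helper9.isComodHom_of_act_comm
  intro φ v
  exact E.map_smul (WithConv.toConv φ) v

end Groth.Agent.S18819
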