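import Groth.Statements.S18820
import Mathlib
import Groth.Agent.Lib.SchPbPoints_helper7

set_option autoImplicit false
universe u
open CategoryTheory MonoidalCategory CartesianMonoidalCategory AlgebraicGeometry
open AlgGrp

namespace Groth.Agent.S18820

/-- Let k be a field, M a k-scheme (in the source a monoid k-scheme) acting on a k-scheme X through a :
M ×_k X → X, and z : Z → X a closed immersion which is surjective (a closed subscheme defined by an
ideal all of whose sections are nilpotent, e.g. the reduction of X), stable under the action: a_Z :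
M ×_k Z → Z satisfies (id_M × z) followed by a = a_Z followed by z. For an open subset U of X the
following are equivalent: (i) U is stable, i.e. a maps M ×_k U into U; (ii) U ∩ Z is stable, i.e.
a_Z maps M ×_k (U ∩ Z) into U ∩ Z. (The monoid axioms of the source play no role and are not
assumed.) -/
theorem result (k : Type u) [Field k]
    (M X Z : Over (Spec (CommRingCat.of k))) (a : M ⊗ X ⟶ X) (aZ : M ⊗ Z ⟶ Z) (z : Z ⟶ X)
    [IsClosedImmersion z.left] [Surjective z.left] (hz : (M ◁ z) ≫ a = aZ ≫ z) (U : X.left.Opens) :
    (CartesianMonoidalCategory.snd M X).left ⁻¹ᵁ U ≤ a.left ⁻¹ᵁ U ↔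
      (CartesianMonoidalCategory.snd M Z).left ⁻¹ᵁ (z.left ⁻¹ᵁ U) ≤ aZ.left ⁻¹ᵁ (z.left ⁻¹ᵁ U) := by
  have hpb : IsPullback (M ◁ z).left (snd M Z).left (snd M X).left z.left := by
    apply IsPullback.of_right (h₁₂ := (fst M X).left) (h₂₂ := X.hom) (v₁₃ := M.hom)
    · have h1 : (M ◁ z).left ≫ (fst M X).left = (fst M Z).left := by simp
      rw [h1, Over.w z]
      exact IsPullback.of_hasPullback M.hom Z.hom
    · simp
    · exact IsPullback.of_hasPullback M.hom X.hom
  have e : (M ◁ z) ≫ snd M X = snd M Z ≫ z := by simp
  have hsq : ∀ p : (M ⊗ Z).left, (snd M X).left.base ((M ◁ z).left.base p) =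
      z.left.base ((snd M Z).left.base p) := by
    intro p
    rw [← SchPbPointsH7.over_comp_base, e, SchPbPointsH7.over_comp_base]
  have hact : ∀ p : (M ⊗ Z).left, a.left.base ((M ◁ z).left.base p) =
      z.left.base (aZ.left.base p) := by
    intro p
    rw [← SchPbPointsH7.over_comp_base, hz, SchPbPointsH7.over_comp_base]
  constructor
  · intro h p hp
    show z.left.base (aZ.left.base p) ∈ U
    rw [← hact]
    apply h
    show (snd M X).left.base ((M ◁ z).left.base p) ∈ U
    rw [hsq]; exact hp
  · intro h q hq
    obtain ⟨y, hy⟩ := z.left.surjective ((snd M X).left.base q)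
    obtain ⟨p, hp1, hp2⟩ := SchPbPointsH7.exists_of_isPullback_base hpb q y hy.symm
    show a.left.base q ∈ U
    rw [← hp1, hact]
    apply h
    show z.left.base ((snd M Z).left.base p) ∈ U
    rw [← hsq, hp1]; exact hq

end Groth.Agent.S18820
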