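import Groth.Statements.S18821
import Mathlib

set_option autoImplicit false
universe u
open CategoryTheory MonoidalCategory CartesianMonoidalCategory MonObj AlgebraicGeometry
open AlgGrp

namespace Groth.Agent.S18821

/-- Let k be a commutative ring and M a monoid k-scheme (a monoid object in k-schemes). Then the group
k-functor of units T ↦ M(T)^× is representable by a k-scheme: there are a k-scheme G and a
monomorphism i : G → M such that, for every k-scheme T, a T-valued point of M factors through i if
and only if it is invertible in the monoid M(T). If moreover M is affine then G is affine. -/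
theorem result (k : Type u) [CommRing k]
    (M : Over (Spec (CommRingCat.of k))) [MonObj M] :
    ∃ (G : Over (Spec (CommRingCat.of k))) (i : G ⟶ M), Mono i ∧
      (∀ (T : Over (Spec (CommRingCat.of k))) (m : T ⟶ M), (∃ g : T ⟶ G, g ≫ i = m) ↔ IsUnit m) ∧
      (IsAffine M.left → IsAffine G.left) := by
  let c : M ⊗ M ⟶ M ⊗ M := lift (fst M M * snd M M) (snd M M * fst M M)
  let e : 𝟙_ (Over (Spec (CommRingCat.of k))) ⟶ M ⊗ M := lift η[M] η[M]
  have hc : ∀ {T : Over (Spec (CommRingCat.of k))} (p : T ⟶ M ⊗ M),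
      p ≫ c = lift ((p ≫ fst M M) * (p ≫ snd M M)) ((p ≫ snd M M) * (p ≫ fst M M)) := by
    intro T p; simp only [c, comp_lift, MonObj.comp_mul]
  have he : ∀ {T : Over (Spec (CommRingCat.of k))} (u : T ⟶ 𝟙_ _),
      u ≫ e = lift (1 : T ⟶ M) 1 := by
    intro T u
    simp only [e, comp_lift, Hom.one_def]
    rw [toUnit_unique u (toUnit T)]
  have hg : ∀ {T : Over (Spec (CommRingCat.of k))} (g : T ⟶ Limits.pullback c e),
      ((g ≫ Limits.pullback.fst c e) ≫ fst M M) * ((g ≫ Limits.pullback.fst c e) ≫ snd M M) = 1 ∧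
      ((g ≫ Limits.pullback.fst c e) ≫ snd M M) * ((g ≫ Limits.pullback.fst c e) ≫ fst M M) = 1 := by
    intro T g
    have h := congrArg (fun q => g ≫ q) (Limits.pullback.condition (f := c) (g := e))
    simp only [← Category.assoc] at h
    rw [hc, he] at h
    exact ⟨by simpa using congrArg (fun q => q ≫ fst M M) h,
      by simpa using congrArg (fun q => q ≫ snd M M) h⟩
  refine ⟨Limits.pullback c e, Limits.pullback.fst c e ≫ fst M M, ?_, ?_, ?_⟩
  · refine ⟨fun {T} g1 g2 h => ?_⟩
    obtain ⟨a1, b1⟩ := hg g1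
    obtain ⟨a2, b2⟩ := hg g2
    simp only [← Category.assoc] at h
    apply Limits.pullback.hom_ext
    · apply CartesianMonoidalCategory.hom_ext
      · exact h
      · rw [← h] at a2 b2
        generalize (g1 ≫ Limits.pullback.fst c e) ≫ fst M M = x at a1 b1 a2 b2
        generalize (g1 ≫ Limits.pullback.fst c e) ≫ snd M M = y1 at a1 b1
        generalize (g2 ≫ Limits.pullback.fst c e) ≫ snd M M = y2 at a2 b2
        calc y1 = y1 * (x * y2) := by rw [a2, _root_.mul_one]
          _ = (y1 * x) * y2 := by rw [_root_.mul_assoc]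
          _ = y2 := by rw [b1, _root_.one_mul]
    · exact toUnit_unique _ _
  · intro T m
    constructor
    · rintro ⟨g, rfl⟩
      obtain ⟨a1, b1⟩ := hg g
      rw [← Category.assoc]
      exact ⟨⟨_, _, a1, b1⟩, rfl⟩
    · rintro ⟨u, rfl⟩
      refine ⟨Limits.pullback.lift (lift (u : T ⟶ M) ((u⁻¹ : (T ⟶ M)ˣ) : T ⟶ M)) (toUnit T) ?_, ?_⟩
      · rw [hc, he]; simp
      · rw [← Category.assoc, Limits.pullback.lift_fst, lift_fst]
  · intro hM
    have hpb := (IsPullback.of_hasPullback c e).map (Over.forget _)
    haveI : IsAffine (M ⊗ M).left := by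
      show IsAffine (Limits.pullback M.hom M.hom); infer_instance
    haveI : IsAffine (𝟙_ (Over (Spec (CommRingCat.of k)))).left := by
      show IsAffine (Spec _); infer_instance
    haveI : IsAffine ((Over.forget (Spec (CommRingCat.of k))).obj (M ⊗ M)) := ‹IsAffine (M ⊗ M).left›
    haveI : IsAffine ((Over.forget (Spec (CommRingCat.of k))).obj (𝟙_ _)) :=
      ‹IsAffine (𝟙_ (Over (Spec (CommRingCat.of k)))).left›
    exact IsAffine.of_isIso hpb.isoPullback.hom

end Groth.Agent.S18821
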