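import Groth.Statements.S18824
import Mathlib
import Groth.Agent.Lib.GrpShear_helper7
import Groth.Agent.Lib.SchPbPoints_helper7

set_option autoImplicit false
universe u
open CategoryTheory MonoidalCategory CartesianMonoidalCategory MonObj AlgebraicGeometry
open AlgGrp

namespace Groth.Agent.S18824

/-- Let k be a field, G a locally algebraic group over k (a group k-scheme locally of finite type)
acting on a k-scheme X through a : G ×_k X → X, and U an open subset of X. Let G·U ⊆ X be the image
under a of G ×_k U (the preimage of U under the projection). Then G·U is open in X, contains U, is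
G-stable in the sense that a maps G ×_k (G·U) into G·U, and is the smallest such set: every G-stable
open subset of X containing U contains G·U. -/
theorem result (k : Type u) [Field k]
    (G X : Over (Spec (CommRingCat.of k))) [GrpObj G] [LocallyOfFiniteType G.hom] (a : AlgGrp.Action G X)
    (U : Set ↥X.left) (hU : IsOpen U) :
    IsOpen (a.act.left.base '' ((CartesianMonoidalCategory.snd G X).left.base ⁻¹' U)) ∧
      U ⊆ a.act.left.base '' ((CartesianMonoidalCategory.snd G X).left.base ⁻¹' U) ∧
      a.act.left.base '' ((CartesianMonoidalCategory.snd G X).left.base ⁻¹'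
          (a.act.left.base '' ((CartesianMonoidalCategory.snd G X).left.base ⁻¹' U))) ⊆
        a.act.left.base '' ((CartesianMonoidalCategory.snd G X).left.base ⁻¹' U) ∧
      ∀ W : Set ↥X.left, IsOpen W → U ⊆ W →
        a.act.left.base '' ((CartesianMonoidalCategory.snd G X).left.base ⁻¹' W) ⊆ W →
          a.act.left.base '' ((CartesianMonoidalCategory.snd G X).left.base ⁻¹' U) ⊆ W := by
  haveI hσ : IsIso (Groth.Agent.Lib.GrpShearH7.shear a.act) :=
    Groth.Agent.Lib.GrpShearH7.isIso_shear a.act a.one_act a.mul_act
  haveI : IsIso (Groth.Agent.Lib.GrpShearH7.shear a.act).left :=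
    inferInstanceAs (IsIso ((Over.forget _).map (Groth.Agent.Lib.GrpShearH7.shear a.act)))
  have e : a.act.left = (Groth.Agent.Lib.GrpShearH7.shear a.act).left ≫
      Limits.pullback.snd G.hom X.hom :=
    (congrArg CommaMorphism.left (Groth.Agent.Lib.GrpShearH7.shear_snd a.act)).symm
  haveI : Flat G.hom := inferInstance
  haveI : LocallyOfFinitePresentation G.hom := inferInstance
  haveI : UniversallyOpen G.hom := inferInstance
  haveI : UniversallyOpen a.act.left := by rw [e]; infer_instance
  have hopen : IsOpenMap a.act.left.base := a.act.left.isOpenMap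
  have hcont : Continuous (snd G X).left.base := (snd G X).left.continuous
  let s : X ⟶ G ⊗ X := lift (toUnit X ≫ η[G]) (𝟙 X)
  have hs1 : s ≫ a.act = 𝟙 X := by
    have : s = (λ_ X).inv ≫ (η[G] ▷ X) := by
      apply CartesianMonoidalCategory.hom_ext <;> simp [s]
    rw [this, Category.assoc, a.one_act]; simp
  have hs2 : s ≫ snd G X = 𝟙 X := by simp [s]
  refine ⟨hopen _ (hU.preimage hcont), ?_, ?_, ?_⟩
  · intro x hx
    refine ⟨s.left.base x, ?_, ?_⟩
    · show (snd G X).left.base (s.left.base x) ∈ U
      rw [← SchPbPointsH7.over_comp_base, hs2, SchPbPointsH7.over_id_base]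
      exact hx
    · rw [← SchPbPointsH7.over_comp_base, hs1, SchPbPointsH7.over_id_base]
  · rintro _ ⟨p, ⟨p', hp'U, hp'⟩, rfl⟩
    have hpb : IsPullback (G ◁ a.act).left (snd G (G ⊗ X)).left (snd G X).left a.act.left := by
      apply IsPullback.of_right (h₁₂ := (fst G X).left) (h₂₂ := X.hom) (v₁₃ := G.hom)
      · have h1 : (G ◁ a.act).left ≫ (fst G X).left = (fst G (G ⊗ X)).left := by simp
        rw [h1, Over.w a.act]
        exact IsPullback.of_hasPullback G.hom (G ⊗ X).hom
      · simp
      · exact IsPullback.of_hasPullback G.hom X.hom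
    obtain ⟨w, hw1, hw2⟩ := SchPbPointsH7.exists_of_isPullback_base hpb p p' hp'.symm
    let B : G ⊗ (G ⊗ X) ⟶ G ⊗ X := (α_ G G X).inv ≫ (μ[G] ▷ X)
    have hB1 : B ≫ a.act = (G ◁ a.act) ≫ a.act := by simp [B, a.mul_act]
    have hB2 : B ≫ snd G X = snd G (G ⊗ X) ≫ snd G X := by simp [B]
    refine ⟨B.left.base w, ?_, ?_⟩
    · show (snd G X).left.base (B.left.base w) ∈ U
      rw [← SchPbPointsH7.over_comp_base, hB2, SchPbPointsH7.over_comp_base, hw2]
      exact hp'U
    · rw [← SchPbPointsH7.over_comp_base, hB1, SchPbPointsH7.over_comp_base, hw1]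
  · intro W hW hUW hst
    exact (Set.image_mono (Set.preimage_mono hUW)).trans hst

end Groth.Agent.S18824
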