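import Groth.Statements.S18825
import Groth.Agent.Lib.SchImGrp_helper4

set_option autoImplicit false
universe u
open CategoryTheory MonoidalCategory CartesianMonoidalCategory MonObj AlgebraicGeometry
open AlgGrp

namespace Groth.Agent.S18825

/-- Let k be a field and f : H → G a homomorphism of locally algebraic groups over k (group k-schemes
locally of finite type) which is of finite type (equivalently quasi-compact). Let H → K → G be the
factorization of f through its scheme-theoretic image: i : K → G a closed immersion and g : H → K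
with g followed by i equal to f and O_K → g_*O_H injective. Then (1) K is a closed subgroup scheme
of G: the unit section of G factors through i and, for every k-scheme T and T-valued points k₁, k₂
of K, the T-valued point (i k₁)⁻¹ · (i k₂) of G factors through i; and (2) g : H → K is surjective.
(The source also records that g is a homomorphism for the group structure induced on K; this row
does not state it.) -/
theorem result (k : Type u) [Field k]
    (H G K : Over (Spec (CommRingCat.of k))) [GrpObj H] [GrpObj G]
    [LocallyOfFiniteType H.hom] [LocallyOfFiniteType G.hom]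
    (f : H ⟶ G) [IsMonHom f] [QuasiCompact f.left]
    (i : K ⟶ G) [IsClosedImmersion i.left] (g : H ⟶ K) (hgi : g ≫ i = f)
    [IsSchemeTheoreticallyDominant g.left] :
    ((∃ e : 𝟙_ (Over (Spec (CommRingCat.of k))) ⟶ K, e ≫ i = η[G]) ∧
      ∀ (T : Over (Spec (CommRingCat.of k))) (k₁ k₂ : T ⟶ K),
        ∃ k₃ : T ⟶ K, k₃ ≫ i = (k₁ ≫ i)⁻¹ * (k₂ ≫ i)) ∧
    Surjective g.left := by
  haveI : Mono i.left := inferInstance
  haveI : Mono i := Over.mono_of_mono_left i
  obtain ⟨H', grp, i', f', hi'mon, hf'mon, hfac, hci', hker, hqc, hsurj⟩ :=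
    SchImGrpH4.main3024 k H G f
  haveI := hi'mon
  haveI := hci'
  haveI : Mono i'.left := inferInstance
  haveI : Mono i' := Over.mono_of_mono_left i'
  haveI : IsSchemeTheoreticallyDominant f'.left := ⟨hker⟩
  have hk1 : (g.left ≫ i.left).ker = i.left.ker := by
    rw [Scheme.Hom.ker_comp, Scheme.Hom.ker_eq_bot, Scheme.IdealSheafData.map_bot]
  have hk2 : (f'.left ≫ i'.left).ker = i'.left.ker := by
    rw [Scheme.Hom.ker_comp, Scheme.Hom.ker_eq_bot, Scheme.IdealSheafData.map_bot]
  have e1 : g.left ≫ i.left = f.left := by rw [← Over.comp_left, hgi]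
  have e2 : f'.left ≫ i'.left = f.left := by rw [← Over.comp_left, hfac]
  have hkk : i.left.ker = i'.left.ker := by rw [← hk1, ← hk2, e1, e2]
  let u : K ⟶ H' := Over.homMk (IsClosedImmersion.lift i'.left i.left (le_of_eq hkk.symm)) (by
    rw [← Over.w i', IsClosedImmersion.lift_fac_assoc, Over.w])
  let v : H' ⟶ K := Over.homMk (IsClosedImmersion.lift i.left i'.left (le_of_eq hkk)) (by
    rw [← Over.w i, IsClosedImmersion.lift_fac_assoc, Over.w])
  have hu : u ≫ i' = i := by
    ext1
    exact IsClosedImmersion.lift_fac _ _ _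
  have hv : v ≫ i = i' := by
    ext1
    exact IsClosedImmersion.lift_fac _ _ _
  have huv : u ≫ v = 𝟙 K := by
    rw [← cancel_mono i, Category.assoc, hv, hu, Category.id_comp]
  refine ⟨⟨⟨η[H] ≫ g, ?_⟩, ?_⟩, ?_⟩
  · rw [Category.assoc, hgi]
    exact IsMonHom.one_hom f
  · intro T k₁ k₂
    refine ⟨((k₁ ≫ u)⁻¹ * (k₂ ≫ u)) ≫ v, ?_⟩
    rw [Category.assoc, hv, MonObj.mul_comp, GrpObj.inv_comp, Category.assoc, Category.assoc, hu]
  · have hg : g = f' ≫ v := by
      rw [← cancel_mono i, Category.assoc, hv, hgi, hfac]
    haveI := hsurj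
    haveI : Surjective v.left := ⟨fun y => ⟨u.left.base y, by
      rw [← Scheme.Hom.comp_apply, ← Over.comp_left, huv]
      rfl⟩⟩
    rw [hg, Over.comp_left]
    infer_instance

end Groth.Agent.S18825
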