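import Groth.Statements.S18829
import Groth.Agent.Lib.LinRed_helper9

set_option autoImplicit false
universe u
open scoped TensorProduct
open HopfRep

open Groth.Agent.Lib.LinRed_helper9 Groth.Agent.Lib.Integral_helper9
namespace Groth.Agent.S18829

/-- Let k be a field and A a finitely generated commutative Hopf algebra over k, the coordinate ring of
an affine algebraic group T. Suppose T is a torus: for some algebraically closed field extension K
of k the base change K ⊗_k A is isomorphic as a K-bialgebra to the group algebra over K of a free
abelian group ℤ^n (T_K is a split torus of rank n). Then T is linearly reductive in the sense that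
every finite-dimensional A-comodule is semisimple. (The source's definition of a torus asks for such
an isomorphism over every algebraically closed extension; one suffices for the printed argument. The
source's notion of a linearly reductive algebraic group also includes smoothness of T over k, which
this row does not assert.) -/
theorem result (k K A : Type u) [Field k] [Field K]
    [Algebra k K] [IsAlgClosed K] [CommRing A] [HopfAlgebra k A] [Algebra.FiniteType k A] (n : ℕ)
    (e : (K ⊗[k] A) ≃ₐc[K] MonoidAlgebra K (Multiplicative (Fin n → ℤ))) :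
    HopfRep.IsLinearlyReductive k A := by
  classical
  have hα₀ : ∀ (g : Multiplicative (Fin n → ℤ)) (c : K),
      (Finsupp.lapply 1 ∘ₗ (MonoidAlgebra.coeffLinearEquiv K).toLinearMap :
        MonoidAlgebra K (Multiplicative (Fin n → ℤ)) →ₗ[K] K) (MonoidAlgebra.single g c) =
        if g = 1 then c else 0 := by
    intro g c
    show (MonoidAlgebra.single g c).coeff 1 = _
    rw [MonoidAlgebra.coeff_single, Finsupp.single_apply]
  have hint₀ : ∀ x : MonoidAlgebra K (Multiplicative (Fin n → ℤ)),
      Theta K (MonoidAlgebra K (Multiplicative (Fin n → ℤ)))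
        (Finsupp.lapply 1 ∘ₗ (MonoidAlgebra.coeffLinearEquiv K).toLinearMap)
        (CoalgebraStruct.comul (R := K) x) =
      (Finsupp.lapply 1 ∘ₗ (MonoidAlgebra.coeffLinearEquiv K).toLinearMap :
        MonoidAlgebra K (Multiplicative (Fin n → ℤ)) →ₗ[K] K) x •
        (1 : MonoidAlgebra K (Multiplicative (Fin n → ℤ))) := by
    intro x
    induction x using MonoidAlgebra.induction_linear with
    | zero => simp
    | add x y hx hy => rw [map_add, map_add, map_add, add_smul, hx, hy]
    | single g c =>
      rw [MonoidAlgebra.comul_single, CommSemiring.comul_apply, TensorProduct.map_tmul, Theta_tmul,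
        MonoidAlgebra.lsingle_apply, MonoidAlgebra.lsingle_apply, hα₀, hα₀, MonoidAlgebra.one_def]
      by_cases hg : g = 1
      · subst hg
        rw [if_pos rfl, if_pos rfl, one_smul, MonoidAlgebra.smul_single, smul_eq_mul, mul_one]
      · rw [if_neg hg, if_neg hg, zero_smul, zero_smul]
  have hf : Function.Injective (e.toCoalgEquiv.toCoalgHom.toLinearMap) := e.injective
  have hf1 : e.toCoalgEquiv.toCoalgHom.toLinearMap 1 = 1 := map_one e
  have hcomul : ∀ b : K ⊗[k] A, TensorProduct.map e.toCoalgEquiv.toCoalgHom.toLinearMap
      e.toCoalgEquiv.toCoalgHom.toLinearMap (CoalgebraStruct.comul (R := K) b) =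
      CoalgebraStruct.comul (R := K) (e.toCoalgEquiv.toCoalgHom.toLinearMap b) :=
    fun b => LinearMap.congr_fun e.toCoalgEquiv.toCoalgHom.map_comp_comul b
  have hintK := integral_comp K e.toCoalgEquiv.toCoalgHom.toLinearMap hf hf1 hcomul _ hint₀
  have h1K : ((Finsupp.lapply 1 ∘ₗ (MonoidAlgebra.coeffLinearEquiv K).toLinearMap :
        MonoidAlgebra K (Multiplicative (Fin n → ℤ)) →ₗ[K] K) ∘ₗ
        e.toCoalgEquiv.toCoalgHom.toLinearMap) 1 = 1 := by
    rw [LinearMap.comp_apply, hf1, MonoidAlgebra.one_def, hα₀, if_pos rfl]
  obtain ⟨r, hr⟩ : ∃ r : K →ₗ[k] k, r 1 = 1 := by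
    have hinj : Function.Injective (Algebra.linearMap k K) := (algebraMap k K).injective
    obtain ⟨r, hr⟩ := (Algebra.linearMap k K).exists_leftInverse_of_injective
      (LinearMap.ker_eq_bot.mpr hinj)
    refine ⟨r, ?_⟩
    have := LinearMap.congr_fun hr 1
    simpa using this
  intro V _ _ _ _
  exact isSemisimpleComod_of_integral k A (descFun k K A r _) V
    (descFun_integral k K A r _ hintK) (descFun_one k K A r hr _ h1K)

end Groth.Agent.S18829
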