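import Groth.Statements.S18830
import Mathlib
import Groth.Agent.Lib.GrpSchIso_helper7

set_option autoImplicit false
universe u
open CategoryTheory MonoidalCategory CartesianMonoidalCategory MonObj AlgebraicGeometry
open AlgGrp

namespace Groth.Agent.S18830

/-- Let k be a field and M an algebraic monoid over k (a monoid k-scheme of finite type). Let i : G → M
be its group of units: a monomorphism of k-schemes through which a T-valued point of M factors if
and only if it is invertible in the monoid M(T). Then G is of finite type over k, i.e. the unit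
group is an algebraic group. -/
theorem result (k : Type u) [Field k]
    (M G : Over (Spec (CommRingCat.of k))) [MonObj M] [LocallyOfFiniteType M.hom] [QuasiCompact M.hom]
    (i : G ⟶ M) [Mono i]
    (hi : ∀ (T : Over (Spec (CommRingCat.of k))) (m : T ⟶ M), (∃ g : T ⟶ G, g ≫ i = m) ↔ IsUnit m) :
    LocallyOfFiniteType G.hom ∧ QuasiCompact G.hom := by
  let c : M ⊗ M ⟶ M ⊗ M := lift (fst M M * snd M M) (snd M M * fst M M)
  let e : 𝟙_ (Over (Spec (CommRingCat.of k))) ⟶ M ⊗ M := lift η[M] η[M]
  have hc : ∀ {T : Over (Spec (CommRingCat.of k))} (p : T ⟶ M ⊗ M),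
      p ≫ c = lift ((p ≫ fst M M) * (p ≫ snd M M)) ((p ≫ snd M M) * (p ≫ fst M M)) := by
    intro T p; simp only [c, comp_lift, MonObj.comp_mul]
  have he : ∀ {T : Over (Spec (CommRingCat.of k))} (u : T ⟶ 𝟙_ _),
      u ≫ e = lift (1 : T ⟶ M) 1 := by
    intro T u
    simp only [e, comp_lift, Hom.one_def]
    rw [toUnit_unique u (toUnit T)]
  have hg : ∀ {T : Over (Spec (CommRingCat.of k))} (g : T ⟶ Limits.pullback c e),
      ((g ≫ Limits.pullback.fst c e) ≫ fst M M) * ((g ≫ Limits.pullback.fst c e) ≫ snd M M) = 1 ∧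
      ((g ≫ Limits.pullback.fst c e) ≫ snd M M) * ((g ≫ Limits.pullback.fst c e) ≫ fst M M) = 1 := by
    intro T g
    have h := congrArg (fun q => g ≫ q) (Limits.pullback.condition (f := c) (g := e))
    simp only [← Category.assoc] at h
    rw [hc, he] at h
    exact ⟨by simpa using congrArg (fun q => q ≫ fst M M) h,
      by simpa using congrArg (fun q => q ≫ snd M M) h⟩
  have hmono₀ : Mono (Limits.pullback.fst c e ≫ fst M M) := by
    refine ⟨fun {T} g1 g2 h => ?_⟩
    obtain ⟨a1, b1⟩ := hg g1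
    obtain ⟨a2, b2⟩ := hg g2
    simp only [← Category.assoc] at h
    apply Limits.pullback.hom_ext
    · apply CartesianMonoidalCategory.hom_ext
      · exact h
      · rw [← h] at a2 b2
        generalize (g1 ≫ Limits.pullback.fst c e) ≫ fst M M = x at a1 b1 a2 b2
        generalize (g1 ≫ Limits.pullback.fst c e) ≫ snd M M = y1 at a1 b1
        generalize (g2 ≫ Limits.pullback.fst c e) ≫ snd M M = y2 at a2 b2
        calc y1 = y1 * (x * y2) := by rw [a2, _root_.mul_one]
          _ = (y1 * x) * y2 := by rw [_root_.mul_assoc]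
          _ = y2 := by rw [b1, _root_.one_mul]
    · exact toUnit_unique _ _
  have hi₀ : ∀ (T : Over (Spec (CommRingCat.of k))) (m : T ⟶ M),
      (∃ g : T ⟶ Limits.pullback c e, g ≫ (Limits.pullback.fst c e ≫ fst M M) = m) ↔ IsUnit m := by
    intro T m
    constructor
    · rintro ⟨g, rfl⟩
      obtain ⟨a1, b1⟩ := hg g
      rw [← Category.assoc]
      exact ⟨⟨_, _, a1, b1⟩, rfl⟩
    · rintro ⟨u, rfl⟩
      refine ⟨Limits.pullback.lift (lift (u : T ⟶ M) ((u⁻¹ : (T ⟶ M)ˣ) : T ⟶ M)) (toUnit T) ?_, ?_⟩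
      · rw [hc, he]; simp
      · rw [← Category.assoc, Limits.pullback.lift_fst, lift_fst]
  generalize hi₀' : Limits.pullback.fst c e ≫ fst M M = i₀ at hmono₀ hi₀
  obtain ⟨g, hg'⟩ := (hi₀ G i).2 ((hi G i).1 ⟨𝟙 G, Category.id_comp i⟩)
  obtain ⟨h, hh⟩ := (hi _ i₀).2 ((hi₀ _ i₀).1 ⟨𝟙 _, Category.id_comp i₀⟩)
  have h1 : g ≫ h = 𝟙 G := by rw [← cancel_mono i, Category.assoc, hh, hg', Category.id_comp]
  have h2 : h ≫ g = 𝟙 _ := by rw [← cancel_mono i₀, Category.assoc, hg', hh, Category.id_comp]
  haveI : IsIso g := ⟨h, h1, h2⟩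
  haveI : IsIso g.left := GrpSchIsoH7.isIso_left_of_isIso g
  have hpb := (IsPullback.of_hasPullback c e).map (Over.forget _)
  haveI : LocallyOfFiniteType (M ⊗ M).hom := by rw [Over.tensorObj_hom]; infer_instance
  haveI : QuasiCompact (M ⊗ M).hom := by rw [Over.tensorObj_hom]; infer_instance
  haveI : LocallyOfFiniteType (e.left ≫ (M ⊗ M).hom) := by
    rw [Over.w e]; show LocallyOfFiniteType (𝟙 _); infer_instance
  haveI he1 : LocallyOfFiniteType e.left := locallyOfFiniteType_of_comp e.left (M ⊗ M).hom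
  haveI : IsLocallyNoetherian (M ⊗ M).left := LocallyOfFiniteType.isLocallyNoetherian (M ⊗ M).hom
  haveI : CompactSpace (𝟙_ (Over (Spec (CommRingCat.of k)))).left := by
    show CompactSpace (Spec _); infer_instance
  haveI he2 : QuasiCompact e.left := inferInstance
  haveI hf1 : LocallyOfFiniteType (Limits.pullback.fst c e).left :=
    MorphismProperty.of_isPullback (P := @LocallyOfFiniteType) hpb.flip he1
  haveI hf2 : QuasiCompact (Limits.pullback.fst c e).left :=
    MorphismProperty.of_isPullback (P := @QuasiCompact) hpb.flip he2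
  have hGhom : G.hom = g.left ≫ (Limits.pullback.fst c e).left ≫ (M ⊗ M).hom := by
    rw [Over.w, Over.w]
  constructor
  · rw [hGhom]; infer_instance
  · rw [hGhom]; infer_instance

end Groth.Agent.S18830
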