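import Groth.Statements.S18861
import Groth.Agent.Lib.GrpShear_helper7

set_option autoImplicit false
universe u
open CategoryTheory MonoidalCategory CartesianMonoidalCategory MonObj GrpObj AlgebraicGeometry
open AlgGrp

namespace Groth.Agent.S18861

/-- Let S be a scheme and G a group scheme over S acting on an S-scheme X, with action morphism G ×_S X
→ X. If G → S is surjective, resp. flat, resp. affine, resp. proper, resp. finite, resp. smooth,
then so is the action morphism. (The source works over a field, where G → S is automatically
faithfully flat, with G and X of finite type, and concludes that the action morphism is faithfully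
flat, and smooth, affine, proper or finite when G is; the base and the finiteness conditions play no
role.) -/
theorem result {S : Scheme.{u}} {G X : Over S} [GrpObj G]
    (a : AlgGrp.Action G X) :
    (Surjective G.hom → Surjective a.act.left) ∧ (Flat G.hom → Flat a.act.left) ∧
      (IsAffineHom G.hom → IsAffineHom a.act.left) ∧ (IsProper G.hom → IsProper a.act.left) ∧
      (IsFinite G.hom → IsFinite a.act.left) ∧ (Smooth G.hom → Smooth a.act.left) := by
  haveI hσ : IsIso (Groth.Agent.Lib.GrpShearH7.shear a.act) :=
    Groth.Agent.Lib.GrpShearH7.isIso_shear a.act a.one_act a.mul_act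
  haveI : IsIso (Groth.Agent.Lib.GrpShearH7.shear a.act).left :=
    inferInstanceAs (IsIso ((Over.forget S).map (Groth.Agent.Lib.GrpShearH7.shear a.act)))
  have e : a.act.left = (Groth.Agent.Lib.GrpShearH7.shear a.act).left ≫
      Limits.pullback.snd G.hom X.hom :=
    (congrArg CommaMorphism.left (Groth.Agent.Lib.GrpShearH7.shear_snd a.act)).symm
  have key : ∀ (P : MorphismProperty Scheme.{u}) [P.IsStableUnderBaseChange],
      P G.hom → P a.act.left := by
    intro P _ h
    haveI : P.RespectsIso := MorphismProperty.IsStableUnderBaseChange.respectsIso
    rw [e]
    exact (MorphismProperty.cancel_left_of_respectsIso P _ _).2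
      (MorphismProperty.pullback_snd _ _ h)
  exact ⟨key @Surjective, key @Flat, key @IsAffineHom, key @IsProper, key @IsFinite, key @Smooth⟩

end Groth.Agent.S18861
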