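import Groth.Statements.S18864
import Mathlib.RingTheory.Flat.Basic
import Mathlib.LinearAlgebra.Basis.VectorSpace
import Mathlib.LinearAlgebra.FreeModule.Basic
import Mathlib.Algebra.Module.Projective
import Mathlib.RingTheory.FiniteType
import Mathlib.RingTheory.Bialgebra.Hom

set_option autoImplicit false
universe u v w
open HopfRep

namespace Groth.Agent.S18864

/-- Let k be a field and G = lim G_i a pro-algebraic group scheme over k, so that G = Spec A with A the
direct limit of the Hopf algebras A_i of the affine group schemes G_i of finite type; assume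
moreover that the maps A_i → A are injective, so that A is the directed union of the A_i, here given
as injective bialgebra maps A_i → A with directed, jointly covering images. Then every homomorphism
from G to an affine group scheme H = Spec B of finite type over k factors through some projection G
→ G_i: every bialgebra map f : B → A with B finitely generated as a k-algebra is the composite of
A_i → A with a bialgebra map B → A_i for some i. (The published statement allows arbitrary
transition maps in the system; this row assumes each A_i → A injective, the case the printed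
argument treats. The source also states the pro-finite variant with H finite, which is the case of
finite-dimensional A_i and B; finite generation of the A_i is not used.) -/
theorem result (k : Type u) [Field k]
    (A : Type v) [CommRing A] [HopfAlgebra k A] {ι : Type v} (Aι : ι → Type v)
    [∀ i, CommRing (Aι i)] [∀ i, HopfAlgebra k (Aι i)] (emb : ∀ i, Aι i →ₐc[k] A)
    (hinj : ∀ i, Function.Injective (emb i))
    (hdir : ∀ i j, ∃ l, Set.range (emb i) ⊆ Set.range (emb l) ∧ Set.range (emb j) ⊆ Set.range (emb l))
    (hcov : ∀ a : A, ∃ i, a ∈ Set.range (emb i))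
    (B : Type w) [CommRing B] [HopfAlgebra k B] [Algebra.FiniteType k B] (f : B →ₐc[k] A) :
    ∃ (i : ι) (g : B →ₐc[k] Aι i), (emb i).comp g = f := by
  classical
  obtain ⟨s, hs⟩ := (Algebra.FiniteType.out : (⊤ : Subalgebra k B).FG)
  -- a single index receiving the images of all generators
  have hfin : ∀ t : Finset B, ∃ l, ∀ b ∈ t, f b ∈ Set.range (emb l) := by
    intro t
    induction t using Finset.induction_on with
    | empty =>
      obtain ⟨i, _⟩ := hcov 1
      exact ⟨i, by simp⟩
    | insert b t _ ih =>
      obtain ⟨l, hl⟩ := ih
      obtain ⟨i, hi⟩ := hcov (f b)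
      obtain ⟨m, hm1, hm2⟩ := hdir i l
      refine ⟨m, ?_⟩
      intro b' hb'
      rcases Finset.mem_insert.mp hb' with rfl | hb'
      · exact hm1 hi
      · exact hm2 (hl b' hb')
  obtain ⟨l, hl⟩ := hfin s
  let E : Aι l →ₐ[k] A := (emb l : Aι l →ₐ[k] A)
  let F : B →ₐ[k] A := (f : B →ₐ[k] A)
  have hmem : ∀ b : B, F b ∈ E.range := by
    have htop : Subalgebra.comap F E.range = ⊤ := by
      rw [eq_top_iff, ← hs]
      apply Algebra.adjoin_le
      intro b hb
      obtain ⟨a, ha⟩ := hl b hb
      exact ⟨a, ha⟩
    intro b
    have : b ∈ Subalgebra.comap F E.range := by rw [htop]; trivial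
    exact this
  have hEinj : Function.Injective E := hinj l
  let g₀ : B →ₐ[k] Aι l :=
    ((AlgEquiv.ofInjective E hEinj).symm : E.range →ₐ[k] Aι l).comp (F.codRestrict E.range hmem)
  have hg₀ : ∀ b, emb l (g₀ b) = f b := by
    intro b
    have h1 : E ((AlgEquiv.ofInjective E hEinj).symm (F.codRestrict E.range hmem b)) =
        ((AlgEquiv.ofInjective E hEinj) ((AlgEquiv.ofInjective E hEinj).symm
          (F.codRestrict E.range hmem b)) : A) := rfl
    have h2 : E (g₀ b) = F b := by
      show E ((AlgEquiv.ofInjective E hEinj).symm (F.codRestrict E.range hmem b)) = F b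
      rw [h1, AlgEquiv.apply_symm_apply]
      rfl
    exact h2
  have hmapinj : Function.Injective (Algebra.TensorProduct.map E E) := by
    have : ⇑(Algebra.TensorProduct.map E E) = ⇑(TensorProduct.map E.toLinearMap E.toLinearMap) := by
      ext x; rfl
    rw [this]
    exact TensorProduct.map_injective_of_flat_flat _ _ hEinj hEinj
  refine ⟨l, BialgHom.ofAlgHom g₀ ?_ ?_, ?_⟩
  · ext b
    have h1 := CoalgHomClass.counit_comp_apply (emb l) (g₀ b)
    have h2 := CoalgHomClass.counit_comp_apply f b
    simp only [AlgHom.comp_apply, Bialgebra.counitAlgHom_apply]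
    rw [← h1, hg₀, h2]
  · ext b
    apply hmapinj
    simp only [AlgHom.comp_apply, Bialgebra.comulAlgHom_apply]
    have h1 := CoalgHomClass.map_comp_comul_apply (emb l) (g₀ b)
    have h2 := CoalgHomClass.map_comp_comul_apply f b
    have h3 : (Algebra.TensorProduct.map E E) ((Algebra.TensorProduct.map g₀ g₀) (Coalgebra.comul b)) =
        TensorProduct.map (f : B →ₗ[k] A) (f : B →ₗ[k] A) (Coalgebra.comul b) := by
      generalize (Coalgebra.comul (R := k) b) = t
      induction t using TensorProduct.induction_on with
      | zero => simp
      | add x y hx hy => simp only [map_add, hx, hy]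
      | tmul x y =>
        simp only [Algebra.TensorProduct.map_tmul, TensorProduct.map_tmul]
        show emb l (g₀ x) ⊗ₜ[k] emb l (g₀ y) = _
        rw [hg₀, hg₀]; rfl
    rw [h3, h2, ← hg₀ b, ← h1]
    rfl
  · ext b
    exact hg₀ b

end Groth.Agent.S18864
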