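import Groth.Statements.S18870
import Mathlib.RingTheory.Ideal.AssociatedPrime.Localization
import Mathlib.RingTheory.Ideal.Height
import Mathlib.RingTheory.Polynomial.Basic

set_option autoImplicit false
universe u
open Liaison

namespace Groth.Agent.S18870

/-- Let K be a field, R = K[x_0, …, x_n] graded by degree, and J ⊆ I ⊂ R homogeneous ideals with J ≠ 0,
height I = height J + 1 = h + 1 and R/J Cohen–Macaulay; let f ∈ R be homogeneous of degree d with J
: f = J, and put Ĩ = J + fI (the basic double link). Then Ĩ has the same height h + 1 as I. -/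
theorem result (K : Type u) [Field K] (n h : ℕ)
    (J I : Ideal (MvPolynomial (Fin (n + 1)) K))
    (hJ : J.IsHomogeneous (GrSyz.stdGr K (Fin (n + 1)))) (hI : I.IsHomogeneous (GrSyz.stdGr K (Fin (n + 1))))
    (hJ0 : J ≠ ⊥) (hJI : J ≤ I) (hJh : J.height = h) (hIh : I.height = h + 1)
    [LocCoh.IsCohenMacaulayRing (MvPolynomial (Fin (n + 1)) K ⧸ J)]
    (f : MvPolynomial (Fin (n + 1)) K) (d : ℕ) (hf : f ∈ GrSyz.stdGr K (Fin (n + 1)) (d : ℤ)) (hJf : J.colon {f} = J) :
    (J ⊔ Ideal.span {f} * I).height = h + 1 := by
  apply le_antisymm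
  · rw [← hIh]
    apply Ideal.height_mono
    exact sup_le hJI Ideal.mul_le_right
  · rw [Ideal.height_eq_inf_minimalPrimes]
    refine le_iInf₂ (fun P hP => ?_)
    haveI hPprime : P.IsPrime := hP.isPrime
    have hle : J ⊔ Ideal.span {f} * I ≤ P := hP.le
    have hJP : J ≤ P := le_trans le_sup_left hle
    have hfI : Ideal.span {f} * I ≤ P := le_trans le_sup_right hle
    rcases hPprime.mul_le.mp hfI with hf' | hI'
    · have hfP : f ∈ P := hf' (Ideal.mem_span_singleton_self f)
      obtain ⟨Q, hQ, hQP⟩ := Ideal.exists_minimalPrimes_le hJP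
      haveI hQprime : Q.IsPrime := hQ.isPrime
      have hfQ : f ∉ Q := by
        intro hfQ
        have hass : Q ∈ associatedPrimes (MvPolynomial (Fin (n + 1)) K) (MvPolynomial (Fin (n + 1)) K ⧸ J) := by
          apply Module.associatedPrimes.minimalPrimes_annihilator_subset_associatedPrimes
          rw [Ideal.annihilator_quotient]
          exact hQ
        obtain ⟨_, x, hx⟩ := Submodule.isAssociatedPrime_iff.mp hass
        obtain ⟨r, rfl⟩ := Ideal.Quotient.mk_surjective x
        have h1 : f ∈ (⊥ : Submodule (MvPolynomial (Fin (n + 1)) K) (MvPolynomial (Fin (n + 1)) K ⧸ J)).colon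
            {Ideal.Quotient.mk J r} := hx ▸ hfQ
        rw [Submodule.mem_colon_singleton, Submodule.mem_bot] at h1
        have h2 : f * r ∈ J := by
          rw [← Ideal.Quotient.eq_zero_iff_mem, map_mul]
          exact h1
        have h3 : r ∈ J.colon {f} := by
          rw [Submodule.mem_colon_singleton]
          rw [smul_eq_mul, mul_comm]
          exact h2
        rw [hJf] at h3
        have h4 : (1 : MvPolynomial (Fin (n + 1)) K) ∈ Q := by
          rw [hx, Submodule.mem_colon_singleton, Submodule.mem_bot, one_smul]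
          exact Ideal.Quotient.eq_zero_iff_mem.mpr h3
        exact hQprime.ne_top ((Ideal.eq_top_iff_one Q).mpr h4)
      have hlt : Q < P := lt_of_le_of_ne hQP (fun h => hfQ (h ▸ hfP))
      have h1 := Ideal.height_add_one_le_of_lt_of_isPrime hlt
      have h2 : J.height ≤ Q.height := by
        rw [Ideal.height_eq_inf_minimalPrimes]
        exact iInf₂_le Q hQ
      rw [hJh] at h2
      calc ((h : ℕ∞) + 1) ≤ Q.height + 1 := by gcongr
        _ ≤ P.height := h1
    · rw [← hIh]
      exact Ideal.height_mono hI'

end Groth.Agent.S18870
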