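import Groth.Statements.S18879
import Groth.Agent.Lib.FibGen_helper8
import Groth.Agent.Lib.SchFT_helper8

set_option autoImplicit false
universe u
open CategoryTheory AlgebraicGeometry
open Resolve

namespace Groth.Agent.S18879

/-- Let f : Y ⟶ X be a morphism locally of finite type between Noetherian separated schemes which is
birational: it maps the maximal points of Y bijectively onto the maximal points of X, and over every
maximal point of X its fibre is one point with the same residue field. Then for every point y of Y,
the Krull dimension of the local ring of Y at y is at most the Krull dimension of the local ring of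
X at f y (the codimension of a point does not increase along f). -/
theorem result {X Y : Scheme.{u}} (f : Y ⟶ X)
    [IsNoetherian X] [X.IsSeparated] [IsNoetherian Y] [Y.IsSeparated] [LocallyOfFiniteType f]
    (hf : RadPt.IsBirational f) (y : Y) :
    ringKrullDim (Y.presheaf.stalk y) ≤ ringKrullDim (X.presheaf.stalk (f.base y)) := by
  rw [AlgebraicGeometry.ringKrullDim_stalk_eq_coheight,
    AlgebraicGeometry.ringKrullDim_stalk_eq_coheight]
  have key := FibGenH8.coheight_add_trdeg_le f y 0 (by
    intro ξ hξ _
    have hξg : ξ ∈ genericPoints Y :=
      (Groth.Agent.SchFTH8.closure_mem_irreducibleComponents_iff ξ).mpr hξ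
    have hfξ : f ξ ∈ genericPoints X := hf.1.mapsTo hξg
    have hbij := (hf.2 (f ξ) hfξ).2 ξ rfl
    unfold Dual3.resTrdeg
    letI := (f.residueFieldMap ξ).hom.toAlgebra
    haveI : Algebra.IsIntegral (X.residueField (f ξ)) (Y.residueField ξ) :=
      Algebra.isIntegral_of_surjective hbij.2
    rw [_root_.trdeg_eq_zero]
    simp)
  have h2 : Order.coheight y ≤ Order.coheight (f y) := by
    calc Order.coheight y ≤ Order.coheight y + Cardinal.toENat (Dual3.resTrdeg f y) := le_self_add
      _ ≤ Order.coheight (f y) + ((0 : ℕ) : ℕ∞) := key
      _ = Order.coheight (f y) := by simp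
  exact_mod_cast h2

end Groth.Agent.S18879
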