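import Groth.Statements.S18887
import Mathlib

set_option autoImplicit false
universe u v
open DblCov

namespace Groth.Agent.S18887

/-- Let A be a commutative ring in which 2 is invertible and B a commutative A-algebra which is free of
rank 2 as an A-module and whose trace form tr : B → A has kernel free of rank 1 over A. Then σ(b) =
tr(b) − b defines an A-algebra endomorphism σ of B with σ ≠ id and σ ∘ σ = id, and the elements
fixed by σ are exactly the image of A in B. -/
theorem result {A : Type u} {B : Type v} [CommRing A] [CommRing B]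
    [Algebra A B] (h2 : IsUnit (2 : A)) [Module.Free A B] [Module.Finite A B]
    (hrk : Module.finrank A B = 2)
    [Module.Free A (LinearMap.ker (Algebra.trace A B))]
    (hker : Module.finrank A (LinearMap.ker (Algebra.trace A B)) = 1) :
    ∃ σ : B →ₐ[A] B, (∀ b : B, σ b = algebraMap A B (Algebra.trace A B b) - b) ∧
      σ ≠ AlgHom.id A B ∧ σ.comp σ = AlgHom.id A B ∧
      ∀ b : B, σ b = b ↔ b ∈ Set.range (algebraMap A B) := by
  classical
  haveI : Nontrivial A := by
    by_contra hnt
    rw [not_nontrivial_iff_subsingleton] at hnt
    haveI : Subsingleton B := Module.subsingleton A B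
    have h1 : Module.rank A B ≤ 1 := by
      refine (rank_le_card A B).trans ?_
      rw [Cardinal.le_one_iff_subsingleton]
      infer_instance
    have h3 : Module.finrank A B ≤ 1 := by
      have := Cardinal.toNat_le_toNat h1 (by simp)
      simpa [Module.finrank] using this
    omega
  let e : Module.Basis (Fin 2) A B := Module.finBasisOfFinrankEq A B hrk
  have hLinj : Function.Injective (Algebra.leftMulMatrix e) := Algebra.leftMulMatrix_injective e
  have htr : ∀ b, Algebra.trace A B b = Matrix.trace (Algebra.leftMulMatrix e b) :=
    Algebra.trace_eq_matrix_trace e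
  have htrA : ∀ a : A, Algebra.trace A B (algebraMap A B a) = 2 * a := by
    intro a
    rw [Algebra.trace_algebraMap_of_basis e, Fintype.card_fin, two_smul, two_mul]
  let σl : B →ₗ[A] B := (Algebra.linearMap A B) ∘ₗ (Algebra.trace A B) - LinearMap.id
  have hσl : ∀ b, σl b = algebraMap A B (Algebra.trace A B b) - b := fun b => rfl
  have hLσ : ∀ b, Algebra.leftMulMatrix e (σl b) = Matrix.adjugate (Algebra.leftMulMatrix e b) := by
    intro b
    rw [hσl, map_sub, AlgHom.commutes, htr, Matrix.adjugate_fin_two]
    ext i j
    fin_cases i <;> fin_cases j <;>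
      simp [Matrix.trace_fin_two, Matrix.algebraMap_matrix_apply]
  have hmul : ∀ b b', σl (b * b') = σl b * σl b' := by
    intro b b'
    apply hLinj
    calc Algebra.leftMulMatrix e (σl (b * b'))
        = Matrix.adjugate (Algebra.leftMulMatrix e b * Algebra.leftMulMatrix e b') := by
          rw [hLσ, map_mul]
      _ = Algebra.leftMulMatrix e (σl b') * Algebra.leftMulMatrix e (σl b) := by
          rw [Matrix.adjugate_mul_distrib, hLσ, hLσ]
      _ = Algebra.leftMulMatrix e (σl b * σl b') := by
          rw [← map_mul, mul_comm]
  have hone : σl 1 = 1 := by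
    rw [hσl, ← map_one (algebraMap A B), htrA, ← map_sub]
    congr 1
    ring
  let σ : B →ₐ[A] B := AlgHom.ofLinearMap σl hone hmul
  have hσ : ∀ b : B, σ b = algebraMap A B (Algebra.trace A B b) - b := fun b => rfl
  have hfix : ∀ b : B, σ b = b ↔ b ∈ Set.range (algebraMap A B) := by
    intro b
    constructor
    · intro hb
      rw [hσ, sub_eq_iff_eq_add] at hb
      obtain ⟨u, hu⟩ := h2.exists_left_inv
      refine ⟨u * Algebra.trace A B b, ?_⟩
      rw [map_mul, hb, ← two_mul, ← mul_assoc]
      have : algebraMap A B u * 2 = 1 := by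
        rw [← map_ofNat (algebraMap A B) 2, ← map_mul, hu, map_one]
      rw [this, one_mul]
    · rintro ⟨a, rfl⟩
      rw [hσ, htrA, ← map_sub]
      congr 1
      ring
  refine ⟨σ, hσ, ?_, ?_, hfix⟩
  · intro hid
    -- then every element is in the image of `A`, so the rank is at most one
    have hall : ∀ b : B, b ∈ Set.range (algebraMap A B) := by
      intro b
      rw [← hfix, hid]
      rfl
    obtain ⟨a₀, ha₀⟩ := hall (e 0)
    obtain ⟨a₁, ha₁⟩ := hall (e 1)
    have hli := e.linearIndependent
    rw [Fintype.linearIndependent_iff] at hli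
    have h0 : -a₀ = 0 := by
      have := hli ![a₁, -a₀] (by
        rw [Fin.sum_univ_two]
        simp only [Matrix.cons_val_zero, Matrix.cons_val_one]
        rw [← ha₀, ← ha₁]
        rw [Algebra.smul_def, Algebra.smul_def, ← map_mul, ← map_mul, ← map_add]
        have : a₁ * a₀ + -a₀ * a₁ = 0 := by ring
        rw [this, map_zero]) 1
      simpa using this
    rw [neg_eq_zero] at h0
    have : e 0 = 0 := by rw [← ha₀, h0, map_zero]
    exact e.ne_zero 0 this
  · ext b
    change σ (σ b) = b
    rw [hσ, hσ, map_sub, htrA, map_sub, map_mul, map_ofNat]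
    ring

end Groth.Agent.S18887
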