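import Groth.Statements.S18889
import Mathlib
-- import your own Groth.Agent.* helpers here

set_option autoImplicit false
universe u v w
open CAlg
set_option maxSynthPendingDepth 3

namespace Groth.Agent.S18889

/-- Let R be a commutative ring, A a commutative R-algebra of finite presentation, and G a finite group
acting on A by R-algebra automorphisms such that the order of G is invertible in R. Then the ring of
invariants A^G is an R-algebra of finite presentation. (The source takes G to be a group of
automorphisms of A; here G acts through a possibly non-faithful action, which changes nothing since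
the invariants and the invertibility of the order only depend on the image of G.) -/
theorem result {R : Type u} {A : Type v} [CommRing R] [CommRing A]
    [Algebra R A] [Algebra.FinitePresentation R A]
    {G : Type w} [Group G] [Finite G] [MulSemiringAction G A] [SMulCommClass G R A]
    (hG : IsUnit ((Nat.card G : ℕ) : R)) :
    Algebra.FinitePresentation R (FixedPoints.subalgebra R A G) := by
  classical
  haveI : Fintype G := Fintype.ofFinite G
  obtain ⟨u, hu⟩ : ∃ u : R, u * ((Fintype.card G : ℕ) : R) = 1 := by
    rw [Nat.card_eq_fintype_card] at hG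
    obtain ⟨v, hv⟩ := hG.exists_left_inv
    exact ⟨v, hv⟩
  set B := FixedPoints.subalgebra R A G with hBdef
  have hBmem : ∀ a : A, a ∈ B ↔ ∀ g : G, g • a = a := fun a => Iff.rfl
  -- Reynolds operator
  let ρ : A → A := fun a => u • ∑ g : G, g • a
  have hρfix : ∀ (a : A) (g' : G), g' • ρ a = ρ a := by
    intro a g'
    change g' • (u • ∑ g : G, g • a) = u • ∑ g : G, g • a
    rw [smul_comm, Finset.smul_sum]
    congr 1
    simp only [smul_smul]
    exact Fintype.sum_equiv (Equiv.mulLeft g') _ _ (fun _ => rfl)
  have hρid : ∀ b : A, (∀ g : G, g • b = b) → ρ b = b := by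
    intro b hb
    change u • ∑ g : G, g • b = b
    simp only [hb, Finset.sum_const, Finset.card_univ]
    rw [← Nat.cast_smul_eq_nsmul R, smul_smul, hu, one_smul]
  have hρmul : ∀ b a : A, (∀ g : G, g • b = b) → ρ (b * a) = b * ρ a := by
    intro b a hb
    change u • ∑ g : G, g • (b * a) = b * (u • ∑ g : G, g • a)
    simp only [smul_mul', hb]
    rw [← Finset.mul_sum, mul_smul_comm]
  have hρadd : ∀ a a' : A, ρ (a + a') = ρ a + ρ a' := by
    intro a a'
    change u • ∑ g : G, g • (a + a') = u • ∑ g : G, g • a + u • ∑ g : G, g • a'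
    simp only [smul_add, Finset.sum_add_distrib]
  -- Step 1: the invariants are finitely generated
  have hBfg : B.FG := by
    obtain ⟨s, hs⟩ := (inferInstance : Algebra.FiniteType R A).out
    let T : Finset A := s.biUnion (fun a =>
      (Finset.range ((MulSemiringAction.charpoly G a).natDegree + 1)).image
        (fun n => (MulSemiringAction.charpoly G a).coeff n))
    have hTB : ∀ c ∈ (T : Set A), c ∈ B := by
      intro c hc
      simp only [T, Finset.coe_biUnion, Finset.coe_image, Set.mem_iUnion, Set.mem_image] at hc
      obtain ⟨a, -, n, -, rfl⟩ := hc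
      exact fun g => MulSemiringAction.smul_coeff_charpoly a n g
    set B₀ : Subalgebra R A := Algebra.adjoin R (T : Set A) with hB₀
    have hB₀B : B₀ ≤ B := Algebra.adjoin_le hTB
    have hcoeff : ∀ a ∈ s, ∀ n, (MulSemiringAction.charpoly G a).coeff n ∈ B₀ := by
      intro a ha n
      by_cases hn : n ≤ (MulSemiringAction.charpoly G a).natDegree
      · apply Algebra.subset_adjoin
        simp only [T, Finset.coe_biUnion, Finset.coe_image, Set.mem_iUnion, Set.mem_image]
        exact ⟨a, ha, n, Finset.mem_coe.mpr (Finset.mem_range.mpr (Nat.lt_succ_of_le hn)), rfl⟩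
      · rw [Polynomial.coeff_eq_zero_of_natDegree_lt (not_le.mp hn)]
        exact B₀.zero_mem
    have hint : ∀ a ∈ s, IsIntegral ↥B₀ a := by
      intro a ha
      have hl : MulSemiringAction.charpoly G a ∈ Polynomial.lifts (algebraMap ↥B₀ A) := by
        rw [Polynomial.lifts_iff_coeff_lifts]
        intro n
        exact ⟨⟨_, hcoeff a ha n⟩, rfl⟩
      obtain ⟨p, hp1, -, hp2⟩ := Polynomial.lifts_and_natDegree_eq_and_monic hl
        (MulSemiringAction.monic_charpoly G a)
      exact ⟨p, hp2, by rw [← Polynomial.eval_map, hp1, MulSemiringAction.eval_charpoly]⟩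
    haveI : Algebra.IsIntegral ↥B₀ A := by
      constructor
      intro a
      have h1 : Algebra.adjoin R (s : Set A) ≤ (integralClosure ↥B₀ A).restrictScalars R :=
        Algebra.adjoin_le (fun x hx => hint x hx)
      have h2 : a ∈ (integralClosure ↥B₀ A).restrictScalars R := h1 (hs ▸ Algebra.mem_top)
      exact h2
    haveI : Algebra.FiniteType ↥B₀ A := Algebra.FiniteType.of_restrictScalars_finiteType R ↥B₀ A
    haveI : Module.Finite ↥B₀ A := Algebra.IsIntegral.finite
    let ρ₀ : A →ₗ[↥B₀] A :=
      { toFun := ρ
        map_add' := hρadd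
        map_smul' := fun c a => by
          change ρ ((c : A) * a) = (c : A) * ρ a
          exact hρmul _ _ ((hBmem _).mp (hB₀B c.2)) }
    obtain ⟨t, ht⟩ : (LinearMap.range ρ₀).FG := Submodule.fg_range ρ₀
    refine ⟨T ∪ t, le_antisymm ?_ ?_⟩
    · apply Algebra.adjoin_le
      intro x hx
      rw [Finset.coe_union] at hx
      rcases hx with hx | hx
      · exact hTB x hx
      · have h3 : x ∈ LinearMap.range ρ₀ := ht ▸ Submodule.subset_span hx
        obtain ⟨a, rfl⟩ := h3
        exact fun g => hρfix a g
    · intro b hb
      have h1 : b ∈ LinearMap.range ρ₀ := ⟨b, hρid b hb⟩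
      rw [← ht] at h1
      have hTle : B₀ ≤ Algebra.adjoin R ((T ∪ t : Finset A) : Set A) :=
        Algebra.adjoin_mono (by rw [Finset.coe_union]; exact Set.subset_union_left)
      refine Submodule.span_induction ?_ ?_ ?_ ?_ h1
      · intro x hx
        apply Algebra.subset_adjoin
        rw [Finset.coe_union]
        exact Or.inr hx
      · exact Subalgebra.zero_mem _
      · intro x y _ _ hx hy
        exact Subalgebra.add_mem _ hx hy
      · intro c x _ hx
        change (c : A) * x ∈ _
        exact Subalgebra.mul_mem _ (hTle c.2) hx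
  -- Step 2: finite presentation
  haveI hBft : Algebra.FiniteType R ↥B := (Subalgebra.fg_iff_finiteType B).mp hBfg
  obtain ⟨n, f, hf⟩ := Algebra.FiniteType.iff_quotient_mvPolynomial''.mp hBft
  letI algPB : Algebra (MvPolynomial (Fin n) R) ↥B := f.toRingHom.toAlgebra
  letI algPA : Algebra (MvPolynomial (Fin n) R) A := (B.val.comp f).toRingHom.toAlgebra
  haveI t1 : IsScalarTower R (MvPolynomial (Fin n) R) ↥B :=
    IsScalarTower.of_algebraMap_eq' f.comp_algebraMap.symm
  haveI t2 : IsScalarTower R (MvPolynomial (Fin n) R) A :=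
    IsScalarTower.of_algebraMap_eq' (B.val.comp f).comp_algebraMap.symm
  haveI t3 : IsScalarTower (MvPolynomial (Fin n) R) ↥B A := IsScalarTower.of_algebraMap_eq' rfl
  haveI : Algebra.IsInvariant ↥B A G := ⟨fun b hb => ⟨⟨b, hb⟩, rfl⟩⟩
  haveI : Algebra.IsIntegral ↥B A := Algebra.IsInvariant.isIntegral ↥B A G
  haveI : Algebra.IsIntegral (MvPolynomial (Fin n) R) ↥B := Algebra.isIntegral_of_surjective hf
  haveI : Algebra.IsIntegral (MvPolynomial (Fin n) R) A := Algebra.IsIntegral.trans ↥B
  haveI : Algebra.FinitePresentation (MvPolynomial (Fin n) R) A :=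
    Algebra.FinitePresentation.of_restrict_scalars_finitePresentation R (MvPolynomial (Fin n) R) A
  haveI : Module.Finite (MvPolynomial (Fin n) R) A := Algebra.IsIntegral.finite
  haveI : Module.FinitePresentation (MvPolynomial (Fin n) R) A :=
    Module.FinitePresentation.of_finite_of_finitePresentation (MvPolynomial (Fin n) R) A
  let ρ' : A →ₗ[MvPolynomial (Fin n) R] ↥B :=
    { toFun := fun a => ⟨ρ a, fun g => hρfix a g⟩
      map_add' := fun a a' => Subtype.ext (hρadd a a')
      map_smul' := fun p a => by
        apply Subtype.ext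
        change ρ (p • a) = ((p • (⟨ρ a, fun g => hρfix a g⟩ : ↥B) : ↥B) : A)
        rw [Algebra.smul_def, Algebra.smul_def]
        exact hρmul _ _ (fun g => (f p).2 g) }
  have hsurj : Function.Surjective ρ' := fun b => ⟨b.1, Subtype.ext (hρid b.1 b.2)⟩
  have hker : (LinearMap.ker ρ').FG := by
    let ι : ↥B →ₗ[MvPolynomial (Fin n) R] A :=
      (IsScalarTower.toAlgHom (MvPolynomial (Fin n) R) ↥B A).toLinearMap
    let e : A →ₗ[MvPolynomial (Fin n) R] A := LinearMap.id - ι ∘ₗ ρ'
    have hιρ : ∀ a : A, ρ' (ι (ρ' a)) = ρ' a :=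
      fun a => Subtype.ext (hρid _ (fun g => hρfix a g))
    have hke : LinearMap.ker ρ' = LinearMap.range e := by
      ext a
      constructor
      · intro ha
        refine ⟨a, ?_⟩
        change a - ι (ρ' a) = a
        rw [LinearMap.mem_ker.mp ha, map_zero, sub_zero]
      · rintro ⟨a', rfl⟩
        rw [LinearMap.mem_ker]
        change ρ' (a' - ι (ρ' a')) = 0
        rw [map_sub, hιρ, sub_self]
    rw [hke]
    exact Submodule.fg_range e
  haveI : Module.FinitePresentation (MvPolynomial (Fin n) R) ↥B :=
    Module.finitePresentation_of_surjective ρ' hsurj hker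
  have hkerf : (LinearMap.ker (Algebra.linearMap (MvPolynomial (Fin n) R) ↥B)).FG :=
    Module.FinitePresentation.fg_ker (Algebra.linearMap (MvPolynomial (Fin n) R) ↥B) hf
  refine Algebra.FinitePresentation.of_surjective (f := f) hf ?_
  have heq : (RingHom.ker f.toRingHom : Ideal (MvPolynomial (Fin n) R)) =
      LinearMap.ker (Algebra.linearMap (MvPolynomial (Fin n) R) ↥B) := by
    ext x
    rfl
  rw [heq]
  exact hkerf

end Groth.Agent.S18889
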