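import Groth.Statements.S18890
import Mathlib.RepresentationTheory.Invariants

set_option autoImplicit false
universe u v w w'
open CAlg

namespace Groth.Agent.S18890

/-- Let R be a commutative ring, G a finite group whose order is invertible in R, M an R-module with an
R-linear action ρ of G and N an arbitrary R-module. Then the natural map M^G ⊗_R N → M ⊗_R N induced
by the inclusion of the invariants is injective, and its image is the submodule of invariants of M
⊗_R N under the action ρ ⊗ 1 (G acting on the first factor). (The source lets G be a group of
R-automorphisms of M; a possibly non-faithful linear action changes nothing.) -/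
theorem result {R : Type u} [CommRing R]
    {G : Type v} [Group G] [Finite G] (hG : IsUnit ((Nat.card G : ℕ) : R))
    {M : Type w} {N : Type w'} [AddCommGroup M] [Module R M] [AddCommGroup N] [Module R N]
    (ρ : Representation R G M) :
    Function.Injective (LinearMap.rTensor N ρ.invariants.subtype) ∧
      LinearMap.range (LinearMap.rTensor N ρ.invariants.subtype) =
        (ρ.tprod (Representation.trivial R G N)).invariants := by
  classical
  haveI : Fintype G := Fintype.ofFinite G
  have hcard : ((Fintype.card G : ℕ) : R) = ((Nat.card G : ℕ) : R) := by
    rw [Nat.card_eq_fintype_card]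
  haveI : Invertible ((Fintype.card G : ℕ) : R) := by
    rw [hcard]; exact hG.invertible
  have havg : ∀ {W : Type (max w w')} [AddCommGroup W] [Module R W] (σ : Representation R G W),
      Representation.averageMap σ = ⅟((Fintype.card G : ℕ) : R) • ∑ g : G, σ g := by
    intro W _ _ σ
    simp [Representation.averageMap, GroupAlgebra.average, map_sum]
  have havg' : Representation.averageMap ρ = ⅟((Fintype.card G : ℕ) : R) • ∑ g : G, ρ g := by
    simp [Representation.averageMap, GroupAlgebra.average, map_sum]
  let e := Representation.averageMap ρ
  let P : M →ₗ[R] ρ.invariants := e.codRestrict ρ.invariants (Representation.averageMap_invariant ρ)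
  have hιP : ρ.invariants.subtype ∘ₗ P = e := by
    ext m; rfl
  have hPι : P ∘ₗ ρ.invariants.subtype = LinearMap.id := by
    ext m
    exact Representation.averageMap_id ρ m.1 m.2
  have htp : ∀ g, (ρ.tprod (Representation.trivial R G N)) g = (ρ g).rTensor N := by
    intro g
    rw [Representation.tprod_apply]
    rfl
  have hE : Representation.averageMap (ρ.tprod (Representation.trivial R G N)) = e.rTensor N := by
    rw [havg, show e = _ from havg', LinearMap.rTensor_smul, ← LinearMap.coe_rTensorHom, map_sum]
    simp only [htp, LinearMap.coe_rTensorHom]
  constructor
  · apply Function.LeftInverse.injective (g := P.rTensor N)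
    intro y
    rw [← LinearMap.comp_apply, ← LinearMap.rTensor_comp, hPι, LinearMap.rTensor_id, LinearMap.id_apply]
  · apply le_antisymm
    · rintro _ ⟨y, rfl⟩
      rw [Representation.mem_invariants]
      intro g
      rw [htp, ← LinearMap.comp_apply, ← LinearMap.rTensor_comp]
      congr 2
      ext m
      exact m.2 g
    · intro x hx
      have h1 := Representation.averageMap_id _ x hx
      rw [hE, ← hιP, LinearMap.rTensor_comp, LinearMap.comp_apply] at h1
      exact ⟨_, h1⟩

end Groth.Agent.S18890
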