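import Groth.Statements.S18891
import Mathlib
import Groth.Agent.Lib.BddFib_helper6
-- import your own Groth.Agent.* helpers here

set_option autoImplicit false
universe u
open CategoryTheory CategoryTheory.Limits AlgebraicGeometry
open Mor

namespace Groth.Agent.S18891

/-- Let f : X → Y be a morphism of schemes which is proper and formally unramified, and such that for
every algebraically closed field Ω the map X(Ω) → Y(Ω), g ↦ g ≫ f, is injective. Then f is a closed
immersion. -/
theorem result {X Y : Scheme.{u}} (f : X ⟶ Y)
    [IsProper f] [FormallyUnramified f]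
    (hinj : ∀ (Ω : Type u) [Field Ω] [IsAlgClosed Ω],
      Function.Injective (fun g : Spec (CommRingCat.of Ω) ⟶ X => g ≫ f)) :
    IsClosedImmersion f := by

  haveI : IsOpenImmersion (Limits.pullback.diagonal f) := inferInstance
  have huniv : UniversallyInjective f := by
    have htfae := tfae_universallyInjective f
    apply (htfae.out 0 1).mpr
    intro K _ g₁ g₂ hg
    have hK : IsField (CommRingCat.of K) := Field.toIsField K
    have hL : IsField (CommRingCat.of (AlgebraicClosure K)) := Field.toIsField _
    obtain ⟨φ, hφ⟩ : ∃ φ : CommRingCat.of K ⟶ CommRingCat.of (AlgebraicClosure K),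
      φ = CommRingCat.ofHom (algebraMap K (AlgebraicClosure K)) := ⟨_, rfl⟩
    haveI : Flat (Spec.map φ) := Groth.Agent.Lib.BddFib_helper6.flat_SpecMap_of_isField hK φ
    haveI : Surjective (Spec.map φ) :=
      Groth.Agent.Lib.BddFib_helper6.surjective_SpecMap_of_isField hK hL φ
    haveI : Epi (Spec.map φ) := Flat.epi_of_flat_of_surjective _
    have h1 : (Spec.map φ ≫ g₁) ≫ f = (Spec.map φ ≫ g₂) ≫ f := by
      rw [Category.assoc, Category.assoc]
      exact congrArg (Spec.map φ ≫ ·) hg
    have h2 := hinj (AlgebraicClosure K) h1
    exact (cancel_epi (Spec.map φ)).mp h2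
  haveI : Surjective (Limits.pullback.diagonal f) := (UniversallyInjective.iff_diagonal f).mp huniv
  haveI : IsIso (Limits.pullback.diagonal f) :=
    (isIso_iff_isOpenImmersion_and_epi_base _).mpr ⟨inferInstance,
      (TopCat.epi_iff_surjective _).mpr (Limits.pullback.diagonal f).surjective⟩
  haveI : Mono f := (Limits.pullback.isIso_diagonal_iff f).mp inferInstance
  exact (IsClosedImmersion.iff_isProper_and_mono f).mpr ⟨inferInstance, inferInstance⟩

end Groth.Agent.S18891
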