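import Groth.Statements.S18895
import Mathlib
import Groth.Agent.Lib.CurveSpec1_helper9
import Groth.Agent.Lib.VBCurve3_helper9
import Groth.Agent.Lib.CurveLin3_helper9

set_option autoImplicit false
universe u
open CategoryTheory CategoryTheory.Limits AlgebraicGeometry
open Curves

namespace Groth.Agent.S18895

/-- Let k be an algebraically closed field of characteristic different from 2 (the standing convention
of the section; it plays no role here) and X a connected smooth proper curve over k of genus dim_k
H¹(X, O_X) ≥ 1. For every invertible O_X-module L of positive degree one has dim_k H⁰(X, L) ≤ deg L. -/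
theorem result (k : Type u) [Field k] [IsAlgClosed k] (h2 : (2 : k) ≠ 0)
    (X : Scheme.{u}) [X.Over (Spec (CommRingCat.of k))]
    [IsProper (X ↘ Spec (CommRingCat.of k))] [Smooth (X ↘ Spec (CommRingCat.of k))] [ConnectedSpace ↥X]
    (hX : topologicalKrullDim ↥X = 1) (hg : 1 ≤ Curv2.genus k X)
    (L : X.Modules) (hL : PicF.IsInvertible L) (hdeg : 0 < Curv2.deg k X L 1) :
    (Module.finrank k (Coh.HH X L 0) : ℤ) ≤ Curv2.deg k X L 1 := by
  haveI : IsLocallyNoetherian X :=
    LocallyOfFiniteType.isLocallyNoetherian (X ↘ Spec (CommRingCat.of k))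
  haveI : IsIntegral X := ConnIrrH8.isIntegral_of_connected X (fun x => by
    haveI := VBCurve.hreg_of_smooth k X x
    exact Groth.Agent.RegularLib.isDomain _)
  have h0 := CurveSpec.finrank_HH0_structureModule k X hX
  by_cases hs : Nontrivial (Coh.HH X L 0)
  · obtain ⟨h1, h2⟩ := CurveLin.h0_le_deg_add_one k X hX h0 hL hs
    by_contra hlt
    rw [not_le] at hlt
    have h3 : (Module.finrank k (Coh.HH X L 0) : ℤ) = Curv2.deg k X L 1 + 1 := by omega
    have h4 := h2 h3 hdeg
    omega
  · rw [not_nontrivial_iff_subsingleton] at hs
    have h1 : Module.finrank k (Coh.HH X L 0) = 0 := Module.finrank_zero_of_subsingleton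
    rw [h1]
    push_cast
    omega

end Groth.Agent.S18895
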