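import Groth.Statements.S18899
import Mathlib

set_option autoImplicit false
universe u v w
open CAlg

namespace Groth.Agent.S18899

/-- Let A be a commutative ring on which a finite group G acts by ring automorphisms, with ring of
invariants A^G, and let K be a field. If two ring homomorphisms f₁, f₂ : A → K have the same
restriction to A^G, then f₂ = f₁ ∘ γ for some γ ∈ G. -/
theorem result {A : Type u} [CommRing A] {G : Type v} [Group G] [Finite G]
    [MulSemiringAction G A] {K : Type w} [Field K] (f₁ f₂ : A →+* K)
    (h : ∀ a : A, (∀ g : G, g • a = a) → f₁ a = f₂ a) :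
    ∃ γ : G, ∀ a : A, f₂ a = f₁ (γ • a) := by
  classical
  haveI : Fintype G := Fintype.ofFinite G
  -- coefficientwise extension to polynomial rings
  have hcoeff : ∀ (g : G) (q : Polynomial A) (n : ℕ), (g • q).coeff n = g • q.coeff n := by
    intro g q n
    rw [Polynomial.smul_eq_map, Polynomial.coeff_map]
    rfl
  have hinv : ∀ q : Polynomial A, (∀ g : G, g • q = q) →
      Polynomial.map f₁ q = Polynomial.map f₂ q := by
    intro q hq
    ext n
    rw [Polynomial.coeff_map, Polynomial.coeff_map]
    apply h
    intro g
    rw [← hcoeff, hq]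
  have key : ∀ b : Polynomial A, ∃ g : G, Polynomial.map f₂ b = Polynomial.map f₁ (g • b) := by
    intro b
    have h1 : (MulSemiringAction.charpoly G b).map (Polynomial.mapRingHom f₁) =
        (MulSemiringAction.charpoly G b).map (Polynomial.mapRingHom f₂) := by
      ext1 n
      rw [Polynomial.coeff_map, Polynomial.coeff_map]
      exact hinv _ (fun g => MulSemiringAction.smul_coeff_charpoly b n g)
    have h2 : ((MulSemiringAction.charpoly G b).map (Polynomial.mapRingHom f₂)).eval
        (Polynomial.mapRingHom f₂ b) = 0 := by
      rw [Polynomial.eval_map_apply, MulSemiringAction.eval_charpoly, map_zero]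
    rw [← h1, MulSemiringAction.charpoly_eq, Polynomial.map_prod, Polynomial.eval_prod] at h2
    obtain ⟨g, -, hg⟩ := Finset.prod_eq_zero_iff.mp h2
    refine ⟨g, ?_⟩
    rw [Polynomial.map_sub, Polynomial.map_X, Polynomial.map_C, Polynomial.eval_sub,
      Polynomial.eval_X, Polynomial.eval_C, sub_eq_zero] at hg
    exact hg
  by_contra hne
  push Not at hne
  choose a ha using hne
  let e := Fintype.equivFin G
  let b : Polynomial A := ∑ γ : G, Polynomial.monomial (e γ : ℕ) (a γ)
  have hb : ∀ γ : G, b.coeff (e γ : ℕ) = a γ := by
    intro γ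
    rw [Polynomial.finsetSum_coeff]
    rw [Finset.sum_eq_single γ]
    · rw [Polynomial.coeff_monomial, if_pos rfl]
    · intro γ' _ hγ'
      rw [Polynomial.coeff_monomial, if_neg]
      intro heq
      exact hγ' (e.injective (Fin.ext heq))
    · intro hγ; exact absurd (Finset.mem_univ γ) hγ
  obtain ⟨g, hg⟩ := key b
  have h3 := congrArg (fun p => Polynomial.coeff p (e g : ℕ)) hg
  simp only [Polynomial.coeff_map, hcoeff, hb] at h3
  exact ha g h3

end Groth.Agent.S18899
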