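import Groth.Statements.S18918
import Groth.Agent.Lib.FEtCount_helper6
import Groth.Agent.Lib.CoverRank_helper4

set_option autoImplicit false
universe u
open CategoryTheory CategoryTheory.Limits AlgebraicGeometry
open FEt

namespace Groth.Agent.S18918

/-- Let f : X → Y be a finite étale morphism of degree n (f_*O_X locally free of rank n) and φ : X' → Y
a morphism from a nonempty connected scheme X'. Then the Y-morphisms X' → X (equivalently, the
sections of X ×_Y X' → X') form a finite set with at most n elements, and there are exactly n of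
them if and only if the covering X ×_Y X' → X' is trivial, i.e. X ×_Y X' is isomorphic over X' to
the disjoint union of n copies of X'. The source works with separated Noetherian schemes over an
algebraically closed field of characteristic zero; that setting is not needed for the statement. -/
theorem result
    {X Y X' : Scheme.{u}} (f : X ⟶ Y) [IsFinite f] [Etale f] (n : ℕ)
    (hdeg : FlatMod.IsFinLocFreeOfRank n ((Scheme.Modules.pushforward f).obj (Coh.structureModule X)))
    (φ : X' ⟶ Y) [Nonempty X'] [ConnectedSpace X'] :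
    Finite (Over.mk φ ⟶ Over.mk f) ∧ Nat.card (Over.mk φ ⟶ Over.mk f) ≤ n ∧
      (Nat.card (Over.mk φ ⟶ Over.mk f) = n ↔
        ∃ e : pullback f φ ≅ ∐ fun _ : Fin n => X',
          e.hom ≫ Sigma.desc (fun _ : Fin n => 𝟙 X') = pullback.snd f φ) := by
  classical
  have hrankf : ∀ y, f.finrank y = n :=
    ((Groth.Agent.Lib.CoverRankH4.main19692 f n).mpr ⟨inferInstance, hdeg⟩).2
  have hrank : ∀ x', (pullback.snd f φ).finrank x' = n := fun x' => by
    rw [Scheme.Hom.finrank_pullback_snd, hrankf]
  -- the section attached to an over-morphism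
  obtain ⟨sec, hsec⟩ : ∃ sec : (Over.mk φ ⟶ Over.mk f) → (X' ⟶ pullback f φ),
      ∀ t, sec t = pullback.lift t.left (𝟙 X') (by simpa using Over.w t) := ⟨_, fun _ => rfl⟩
  have hsec_snd : ∀ t, sec t ≫ pullback.snd f φ = 𝟙 X' := fun t => by
    rw [hsec, pullback.lift_snd]
  have hsec_fst : ∀ t, sec t ≫ pullback.fst f φ = t.left := fun t => by
    rw [hsec, pullback.lift_fst]
  have hsec_inj : Function.Injective sec := by
    intro t t' h
    apply Over.OverMorphism.ext
    rw [← hsec_fst, ← hsec_fst, h]
  have hdisj : ∀ t t', t ≠ t' → Disjoint (Set.range (sec t)) (Set.range (sec t')) := by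
    intro t t' hne
    rw [Set.disjoint_left]
    rintro _ ⟨a, rfl⟩ ⟨b, hb⟩
    have hab : b = a := by
      have h1 := congrArg (fun x => (pullback.snd f φ) x) hb
      simp only [← Scheme.Hom.comp_apply, hsec_snd] at h1
      exact h1
    subst hab
    exact hne (hsec_inj (Groth.Agent.Lib.FEtCountH6.section_eq_of_apply_eq (pullback.snd f φ)
      (sec t) (sec t') (hsec_snd t) (hsec_snd t') b hb.symm))
  -- every finite family of distinct morphisms has at most n members
  have hbound : ∀ s : Finset (Over.mk φ ⟶ Over.mk f), s.card ≤ n := by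
    intro s
    obtain ⟨x'⟩ : Nonempty ↥X' := inferInstance
    have := (Groth.Agent.Lib.FEtCountH6.card_le_finrank s.card (pullback.snd f φ)
      (fun i => sec (s.equivFin.symm i).1) (fun i => hsec_snd _)
      (fun i j hij => hdisj _ _ (fun h => hij (by
        have := Subtype.ext h
        exact s.equivFin.symm.injective this)))).1 x'
    rw [hrank] at this
    exact this
  have hfin : Finite (Over.mk φ ⟶ Over.mk f) := by
    by_contra hinf
    rw [not_finite_iff_infinite] at hinf
    obtain ⟨s, hs⟩ := Infinite.exists_subset_card_eq (Over.mk φ ⟶ Over.mk f) (n + 1)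
    have := hbound s
    omega
  haveI := hfin
  haveI := Fintype.ofFinite (Over.mk φ ⟶ Over.mk f)
  have hcard : Nat.card (Over.mk φ ⟶ Over.mk f) ≤ n := by
    rw [Nat.card_eq_fintype_card, ← Finset.card_univ]
    exact hbound _
  refine ⟨hfin, hcard, ?_, ?_⟩
  · intro hn
    obtain ⟨eq⟩ : Nonempty ((Over.mk φ ⟶ Over.mk f) ≃ Fin n) := by
      rw [← hn]
      exact ⟨Finite.equivFin _⟩
    have hcov := (Groth.Agent.Lib.FEtCountH6.card_le_finrank n (pullback.snd f φ)
      (fun i => sec (eq.symm i)) (fun i => hsec_snd _)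
      (fun i j hij => hdisj _ _ (fun h => hij (eq.symm.injective h)))).2 hrank
    have hT : Groth.Agent.Lib.FEtSplitH6.Triv (Fin n) (pullback.snd f φ) :=
      ⟨fun i => sec (eq.symm i), fun i => hsec_snd _,
        fun i => Groth.Agent.Lib.FEtCountH6.isOpenImmersion_section _ _ (hsec_snd _),
        fun i j hij => hdisj _ _ (fun h => hij (eq.symm.injective h)), hcov⟩
    obtain ⟨e, he⟩ := Groth.Agent.Lib.FEtSplitH6.exists_iso_of_triv_fin _ hT
    refine ⟨e, ?_⟩
    have hfold : e.inv ≫ pullback.snd f φ = Sigma.desc (fun _ : Fin n => 𝟙 X') := by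
      apply Sigma.hom_ext
      intro i
      rw [Sigma.ι_desc]
      exact he i
    rw [← hfold, Iso.hom_inv_id_assoc]
  · rintro ⟨e, he⟩
    apply le_antisymm hcard
    have hs : ∀ i : Fin n, (Sigma.ι (fun _ : Fin n => X') i ≫ e.inv) ≫ pullback.snd f φ = 𝟙 X' := by
      intro i
      rw [← he, Category.assoc, Iso.inv_hom_id_assoc, Sigma.ι_desc]
    obtain ⟨t, ht⟩ : ∃ t : Fin n → (Over.mk φ ⟶ Over.mk f),
        ∀ i, (t i).left = (Sigma.ι (fun _ : Fin n => X') i ≫ e.inv) ≫ pullback.fst f φ :=
      ⟨fun i => Over.homMk ((Sigma.ι (fun _ : Fin n => X') i ≫ e.inv) ≫ pullback.fst f φ) (by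
        show ((Sigma.ι (fun _ : Fin n => X') i ≫ e.inv) ≫ pullback.fst f φ) ≫ f = φ
        rw [Category.assoc, pullback.condition, ← Category.assoc, hs, Category.id_comp]),
        fun i => rfl⟩
    have htinj : Function.Injective t := by
      intro i l hil
      by_contra hne
      have h1 : Sigma.ι (fun _ : Fin n => X') i ≫ e.inv = Sigma.ι (fun _ : Fin n => X') l ≫ e.inv := by
        apply pullback.hom_ext
        · rw [← ht, ← ht, hil]
        · rw [hs, hs]
      have h2 : Sigma.ι (fun _ : Fin n => X') i = Sigma.ι (fun _ : Fin n => X') l := by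
        have := congrArg (· ≫ e.hom) h1
        simpa using this
      obtain ⟨x'⟩ : Nonempty ↥X' := inferInstance
      have h3 := disjoint_opensRange_sigmaι (fun _ : Fin n => X') i l hne
      rw [disjoint_iff] at h3
      have h4 : Sigma.ι (fun _ : Fin n => X') i x' ∈
          (Sigma.ι (fun _ : Fin n => X') i).opensRange ⊓ (Sigma.ι (fun _ : Fin n => X') l).opensRange :=
        ⟨⟨x', rfl⟩, ⟨x', by rw [h2]⟩⟩
      rw [h3] at h4
      exact h4
    calc n = Nat.card (Fin n) := (Nat.card_fin n).symm
      _ ≤ Nat.card (Over.mk φ ⟶ Over.mk f) := Nat.card_le_card_of_injective t htinj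

end Groth.Agent.S18918
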