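import Groth.Statements.S18920

set_option autoImplicit false
universe u
open CAlg

namespace Groth.Agent.S18920

/-- Let M be a commutative monoid, s ≥ 1, and ξ_1, …, ξ_s elements of M with ξ_i ^ (s!/i) = 1 for 1 ≤ i
≤ s (an (s!/i)-th root of unity for each i). Suppose that for every finitely supported function d on
{1, …, s} with Σ_i i · d_i = s! the product ∏_i ξ_i ^ d_i equals 1. Then ξ_1 ^ j = ξ_j for every 1 ≤
j ≤ s. (The source works with roots of unity in the complex numbers.) -/
theorem result
    {M : Type u} [CommMonoid M] (s : ℕ) (hs : 1 ≤ s) (ξ : ℕ → M)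
    (hξ : ∀ i : ℕ, 1 ≤ i → i ≤ s → ξ i ^ (s.factorial / i) = 1)
    (hprod : ∀ d : ℕ →₀ ℕ, (∀ i ∈ d.support, 1 ≤ i ∧ i ≤ s) →
      (d.sum fun i n => i * n) = s.factorial → (d.prod fun i n => ξ i ^ n) = 1)
    (j : ℕ) (hj : 1 ≤ j) (hjs : j ≤ s) :
    ξ 1 ^ j = ξ j := by
  rcases Nat.lt_or_ge 1 j with hj1 | hj1
  · have hdvd : j ∣ s.factorial := Nat.dvd_factorial (by omega) hjs
    have hq : 1 ≤ s.factorial / j :=
      Nat.div_pos (Nat.le_of_dvd (Nat.factorial_pos s) hdvd) (by omega)
    have hmul : j * (s.factorial / j) = s.factorial := Nat.mul_div_cancel' hdvd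
    have hne : j ≠ 1 := by omega
    have key := hprod (Finsupp.single j (s.factorial / j - 1) + Finsupp.single 1 j) ?_ ?_
    · rw [Finsupp.prod_add_index' (h := fun i n => ξ i ^ n) (fun a => pow_zero _)
          (fun a b₁ b₂ => pow_add _ _ _),
        Finsupp.prod_single_index (h := fun i n => ξ i ^ n) (pow_zero _),
        Finsupp.prod_single_index (h := fun i n => ξ i ^ n) (pow_zero _)] at key
      have key : ξ j ^ (s.factorial / j - 1) * ξ 1 ^ j = 1 := key
      calc ξ 1 ^ j = ξ j ^ (s.factorial / j) * ξ 1 ^ j := by rw [hξ j hj hjs, one_mul]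
        _ = ξ j ^ (s.factorial / j - 1 + 1) * ξ 1 ^ j := by rw [Nat.sub_add_cancel hq]
        _ = ξ j * (ξ j ^ (s.factorial / j - 1) * ξ 1 ^ j) := by rw [pow_succ', mul_assoc]
        _ = ξ j := by rw [key, mul_one]
    · intro i hi
      have hi' := Finsupp.support_add hi
      rcases Finset.mem_union.mp hi' with h | h
      · have := Finsupp.support_single_subset h
        rw [Finset.mem_singleton] at this
        subst this; exact ⟨hj, hjs⟩
      · have := Finsupp.support_single_subset h
        rw [Finset.mem_singleton] at this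
        subst this; exact ⟨le_refl _, hs⟩
    · rw [Finsupp.sum_add_index' (h := fun i n => i * n) (fun a => Nat.mul_zero _)
          (fun a b₁ b₂ => Nat.mul_add _ _ _),
        Finsupp.sum_single_index (h := fun i n => i * n) (Nat.mul_zero _),
        Finsupp.sum_single_index (h := fun i n => i * n) (Nat.mul_zero _)]
      show j * (s.factorial / j - 1) + 1 * j = s.factorial
      rw [Nat.mul_sub, hmul, Nat.mul_one, Nat.one_mul]
      have : j ≤ s.factorial := Nat.le_of_dvd (Nat.factorial_pos s) hdvd
      omega
  · have : j = 1 := by omega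
    subst this
    exact pow_one _

end Groth.Agent.S18920
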