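import Groth.Statements.S18928
import Mathlib.Tactic.LinearCombination
import Mathlib.Tactic.Ring
import Mathlib.Data.Nat.Choose.Sum

set_option autoImplicit false
universe u
open DPow

namespace Groth.Agent.S18928

/-- Let B be a commutative ring, I an ideal of B with a divided power structure, p a prime, r a natural
number, b an element of B and δ an element of I. Then (b + δ)^(p^r) − b^(p^r) lies in the ideal p^r
I. (The source states this for a divided power thickening over the Witt vectors of length n and 0 ≤
r ≤ n; neither restriction is used.) -/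
theorem result {B : Type u} [CommRing B] {I : Ideal B}
    (hI : DividedPowers I) (p : ℕ) [Fact p.Prime] (r : ℕ) (b δ : B) (hδ : δ ∈ I) :
    (b + δ) ^ (p ^ r) - b ^ (p ^ r) ∈ Ideal.span {((p : B) ^ r)} * I := by
  set n := p ^ r with hn
  have hexp : (b + δ) ^ n - b ^ n
      = ∑ m ∈ Finset.range n, b ^ m * δ ^ (n - m) * (n.choose m : B) := by
    rw [add_pow, Finset.sum_range_succ]
    simp
  rw [hexp]
  refine sum_mem (fun m hm => ?_)
  have hm' : m < n := Finset.mem_range.mp hm
  obtain ⟨j, hj⟩ : ∃ j, n - m = j + 1 := ⟨n - m - 1, by omega⟩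
  have hnpos : 0 < n := by omega
  obtain ⟨n', hn'⟩ : ∃ n', n = n' + 1 := ⟨n - 1, by omega⟩
  have hchoose : n.choose m = n.choose (j + 1) := by
    rw [← hj]; exact (Nat.choose_symm (le_of_lt hm')).symm
  have hnat : (j + 1).factorial * n.choose (j + 1) = n * n'.descFactorial j := by
    rw [← Nat.descFactorial_eq_factorial_mul_choose, hn', Nat.succ_descFactorial_succ]
  have hpow : δ ^ (j + 1) = ((j + 1).factorial : B) * hI.dpow (j + 1) δ :=
    (hI.factorial_mul_dpow_eq_pow hδ).symm
  have hterm : b ^ m * δ ^ (n - m) * (n.choose m : B)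
      = (n : B) * ((n'.descFactorial j : B) * b ^ m * hI.dpow (j + 1) δ) := by
    rw [hj, hpow, hchoose]
    have hcast : ((j + 1).factorial : B) * (n.choose (j + 1) : B)
        = (n : B) * (n'.descFactorial j : B) := by exact_mod_cast congrArg (Nat.cast : ℕ → B) hnat
    linear_combination (b ^ m * hI.dpow (j + 1) δ) * hcast
  rw [hterm]
  refine Ideal.mul_mem_mul ?_ ?_
  · rw [hn, Nat.cast_pow]
    exact Ideal.subset_span rfl
  · exact Ideal.mul_mem_left _ _ (hI.dpow_mem (Nat.succ_ne_zero j) hδ)

end Groth.Agent.S18928
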