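import Groth.Statements.S18929
import Mathlib
import Groth.Agent.Lib.DPowWitt_helper4

set_option autoImplicit false
universe u
open DPow

namespace Groth.Agent.S18929

/-- Let p be a prime, n a natural number, B a commutative ring in which p^n = 0, and I an ideal of B
equipped with divided powers. There is a ring homomorphism θ from the truncated Witt vectors
W_n(B/I) to B such that, for every Witt vector x over B, θ applied to the truncation of the image of
x in W_n(B/I) equals Σ_{i<n} p^i x_i^(p^(n−i)); in particular this sum depends only on the residues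
of x_0, …, x_{n−1} modulo I. (The source works with a divided power thickening of an algebra over a
perfect field and also checks linearity over the Witt vectors of that field; only the ring
homomorphism is asserted here. θ is unique, the truncation-of-reduction map being surjective.) -/
theorem result (p : ℕ) [Fact p.Prime] (n : ℕ)
    {B : Type u} [CommRing B] (hp : (p : B) ^ n = 0) {I : Ideal B} (hI : DividedPowers I) :
    ∃ θ : TruncatedWittVector p n (B ⧸ I) →+* B, ∀ x : WittVector p B, θ (WittVector.truncate n (WittVector.map (Ideal.Quotient.mk I) x)) =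
        ∑ i : Fin n, (p : B) ^ (i : ℕ) * (x.coeff i) ^ (p ^ (n - i)) := by
  classical
  have hf : Function.Surjective (Groth.Agent.Lib.DPowWittH4.redTrunc p n I) :=
    Groth.Agent.Lib.DPowWittH4.redTrunc_surjective p n I
  have hg : ∀ x : WittVector p B, WittVector.ghostComponent n x =
      ∑ i : Fin n, (p : B) ^ (i : ℕ) * (x.coeff i) ^ (p ^ (n - i)) := by
    intro x
    rw [WittVector.ghostComponent_apply, aeval_wittPolynomial, Finset.sum_range_succ,
      Nat.sub_self, pow_zero, pow_one, hp, zero_mul, add_zero,
      ← Fin.sum_univ_eq_sum_range (fun i => (p : B) ^ i * (x.coeff i) ^ (p ^ (n - i))) n]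
  have hker : RingHom.ker (Groth.Agent.Lib.DPowWittH4.redTrunc p n I) ≤
      RingHom.ker (WittVector.ghostComponent n : WittVector p B →+* B) := by
    intro x hx
    rw [RingHom.mem_ker] at hx ⊢
    rw [hg]
    have hxI : ∀ i : Fin n, x.coeff i ∈ I := by
      intro i
      have h1 := congrArg (TruncatedWittVector.coeff i) hx
      rw [TruncatedWittVector.coeff_zero, Groth.Agent.Lib.DPowWittH4.coeff_redTrunc] at h1
      exact Ideal.Quotient.eq_zero_iff_mem.1 h1
    apply Finset.sum_eq_zero
    intro i _
    have h3 := hI.factorial_mul_dpow_eq_pow (n := p ^ (n - i)) (hxI i)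
    rw [← h3]
    obtain ⟨c, hc⟩ := Nat.dvd_factorial (pow_pos (Fact.out : p.Prime).pos (n - i)) (le_refl _)
    rw [hc]
    push_cast
    calc (p : B) ^ (i : ℕ) * ((p : B) ^ (n - i) * (c : B) * hI.dpow (p ^ (n - i)) (x.coeff i))
        = ((p : B) ^ (i : ℕ) * (p : B) ^ (n - i)) *
            ((c : B) * hI.dpow (p ^ (n - i)) (x.coeff i)) := by ring
      _ = 0 := by rw [← pow_add, Nat.add_sub_cancel' (le_of_lt i.2), hp, zero_mul]
  refine ⟨RingHom.liftOfSurjective (Groth.Agent.Lib.DPowWittH4.redTrunc p n I) hf
    ⟨WittVector.ghostComponent n, hker⟩, fun x => ?_⟩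
  have h1 := RingHom.liftOfSurjective_comp_apply (Groth.Agent.Lib.DPowWittH4.redTrunc p n I) hf
    ⟨WittVector.ghostComponent n, hker⟩ x
  rw [← hg]
  exact h1

end Groth.Agent.S18929
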