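import Groth.Statements.S18930
import Mathlib
import Groth.Agent.Lib.DPowWitt_helper4

set_option autoImplicit false
universe u
open DPow

namespace Groth.Agent.S18930

/-- Let p be a prime, n ≥ 1, B a commutative ring with p^n = 0 and A = B/pB. Let θ : W_n(A) → B be the
ring homomorphism which sends the reduction of a Witt vector (x_0, …, x_{n−1}) over B to Σ_{i<n} p^i
x_i^(p^(n−i)), let J_n be its kernel and let I_n be the set of a in W_n(A) whose zeroth component
satisfies a_0^(p^n) = 0. Then J_n + (p) ⊆ I_n. (In the source B is the ring of global sections of a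
scheme over the Witt vectors of length n of a perfect field.) -/
theorem result (p : ℕ) [Fact p.Prime] (n : ℕ) (hn : 0 < n)
    {B : Type u} [CommRing B] (hp : (p : B) ^ n = 0)
    (θ : TruncatedWittVector p n (B ⧸ (Ideal.span {(p : B)})) →+* B)
    (hθ : ∀ x : WittVector p B, θ (WittVector.truncate n (WittVector.map (Ideal.Quotient.mk (Ideal.span {(p : B)})) x)) =
        ∑ i : Fin n, (p : B) ^ (i : ℕ) * (x.coeff i) ^ (p ^ (n - i)))
    (a : TruncatedWittVector p n (B ⧸ (Ideal.span {(p : B)})))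
    (ha : a ∈ RingHom.ker θ ⊔ Ideal.span {(p : TruncatedWittVector p n (B ⧸ (Ideal.span {(p : B)})))}) :
    (TruncatedWittVector.coeff ⟨0, hn⟩ a) ^ (p ^ n) = 0 := by
  classical
  have hmkp : (Ideal.Quotient.mk (Ideal.span {(p : B)})) (p : B) = 0 :=
    Ideal.Quotient.eq_zero_iff_mem.2 (Ideal.mem_span_singleton_self _)
  have hpA : ((p : ℕ) : B ⧸ Ideal.span {(p : B)}) = 0 := by
    rw [← map_natCast (Ideal.Quotient.mk (Ideal.span {(p : B)})) p]
    exact hmkp
  obtain ⟨j, hj, z, hz, rfl⟩ := Submodule.mem_sup.1 ha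
  obtain ⟨c, rfl⟩ := Ideal.mem_span_singleton'.1 hz
  rw [Groth.Agent.Lib.DPowWittH4.coeff0_add hn, Groth.Agent.Lib.DPowWittH4.coeff0_mul hn,
    Groth.Agent.Lib.DPowWittH4.coeff0_natCast_p hn, hpA, mul_zero, add_zero]
  obtain ⟨y, rfl⟩ := Groth.Agent.Lib.DPowWittH4.redTrunc_surjective p n (Ideal.span {(p : B)}) j
  rw [Groth.Agent.Lib.DPowWittH4.coeff_redTrunc]
  have hj' : θ (Groth.Agent.Lib.DPowWittH4.redTrunc p n (Ideal.span {(p : B)}) y) = 0 := hj
  rw [Groth.Agent.Lib.DPowWittH4.redTrunc_apply, hθ,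
    Fin.sum_univ_eq_sum_range (fun i => (p : B) ^ i * (y.coeff i) ^ (p ^ (n - i))) n] at hj'
  obtain ⟨m, rfl⟩ : ∃ m, n = m + 1 := ⟨n - 1, by omega⟩
  rw [Finset.sum_range_succ'] at hj'
  simp only [pow_zero, one_mul, Nat.sub_zero] at hj'
  have hmem : (y.coeff 0) ^ (p ^ (m + 1)) ∈ Ideal.span {(p : B)} := by
    have h1 : (y.coeff 0) ^ (p ^ (m + 1)) = -(∑ i ∈ Finset.range m,
        (p : B) ^ (i + 1) * (y.coeff (i + 1)) ^ (p ^ (m + 1 - (i + 1)))) := by
      linear_combination hj'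
    rw [h1]
    apply neg_mem
    apply Ideal.sum_mem
    intro i _
    rw [pow_succ', mul_assoc]
    exact Ideal.mul_mem_right _ _ (Ideal.mem_span_singleton_self _)
  rw [← map_pow]
  exact Ideal.Quotient.eq_zero_iff_mem.2 hmem

end Groth.Agent.S18930
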