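import Groth.Statements.S18931
import Mathlib
import Groth.Agent.Lib.DPowWitt_helper4

set_option autoImplicit false
universe u
open DPow

namespace Groth.Agent.S18931

/-- Let p be a prime, n ≥ 1, B a commutative ring with p^n = 0 and A = B/pB, and assume that the p-th
power map of A is surjective. Let θ : W_n(A) → B be the ring homomorphism which sends the reduction
of a Witt vector (x_0, …, x_{n−1}) over B to Σ_{i<n} p^i x_i^(p^(n−i)). Then every a in W_n(A) with
a_0^(p^n) = 0 lies in ker θ + (p); together with the reverse inclusion, ker θ + (p) is exactly the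
set of such a. (In the source B is the ring of global sections of a scheme over the Witt vectors of
length n of a perfect field. The printed argument subtracts a single correction term, which suffices
for n ≤ 2; in general one corrects the components one at a time.) -/
theorem result (p : ℕ) [Fact p.Prime]
    (n : ℕ) (hn : 0 < n) {B : Type u} [CommRing B] (hp : (p : B) ^ n = 0)
    (hF : Function.Surjective (fun y : B ⧸ (Ideal.span {(p : B)}) => y ^ p))
    (θ : TruncatedWittVector p n (B ⧸ (Ideal.span {(p : B)})) →+* B)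
    (hθ : ∀ x : WittVector p B, θ (WittVector.truncate n (WittVector.map (Ideal.Quotient.mk (Ideal.span {(p : B)})) x)) =
        ∑ i : Fin n, (p : B) ^ (i : ℕ) * (x.coeff i) ^ (p ^ (n - i)))
    (a : TruncatedWittVector p n (B ⧸ (Ideal.span {(p : B)}))) (ha : (TruncatedWittVector.coeff ⟨0, hn⟩ a) ^ (p ^ n) = 0) :
    a ∈ RingHom.ker θ ⊔ Ideal.span {(p : TruncatedWittVector p n (B ⧸ (Ideal.span {(p : B)})))} := by
  classical
  by_cases hB : Nontrivial B
  swap
  · haveI : Subsingleton B := not_nontrivial_iff_subsingleton.1 hB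
    haveI : Subsingleton (B ⧸ Ideal.span {(p : B)}) :=
      Function.Surjective.subsingleton Ideal.Quotient.mk_surjective
    have ha0 : a = 0 := by
      apply TruncatedWittVector.ext
      intro i
      exact Subsingleton.elim _ _
    rw [ha0]
    exact Ideal.zero_mem _
  haveI := hB
  have hp2 : (p : B) ∈ nonunits B := by
    intro hu
    have h1 := hu.pow n
    rw [hp] at h1
    exact not_isUnit_zero h1
  haveI : CharP (B ⧸ Ideal.span {(p : B)}) p := CharP.quotient B p hp2
  obtain ⟨y₀, hy₀⟩ := Ideal.Quotient.mk_surjective (TruncatedWittVector.coeff ⟨0, hn⟩ a)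
  have hy₀mem : y₀ ^ (p ^ n) ∈ Ideal.span {(p : B)} := by
    rw [← Ideal.Quotient.eq_zero_iff_mem, map_pow, hy₀]
    exact ha
  obtain ⟨b₁, hb₁⟩ := Ideal.mem_span_singleton'.1 hy₀mem
  obtain ⟨y', hy', r', hr'⟩ := Groth.Agent.Lib.DPowWittH4.SA p n hF 0 (n - 1) 1 (by omega)
    (fun _ => y₀) b₁ (by
      simp only [Finset.sum_range_one, pow_zero, one_mul, Nat.sub_zero, sub_zero, pow_one]
      rw [← hb₁, mul_comm])
  rw [hp, zero_mul, sub_zero] at hr'
  have hjker : Groth.Agent.Lib.DPowWittH4.redTrunc p n (Ideal.span {(p : B)})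
      (WittVector.mk p y') ∈ RingHom.ker θ := by
    rw [RingHom.mem_ker, Groth.Agent.Lib.DPowWittH4.redTrunc_apply, hθ,
      Fin.sum_univ_eq_sum_range
        (fun i => (p : B) ^ i * ((WittVector.mk p y').coeff i) ^ (p ^ (n - i))) n]
    simp only [WittVector.coeff_mk]
    exact hr'
  have hj0 : TruncatedWittVector.coeff ⟨0, hn⟩
      (Groth.Agent.Lib.DPowWittH4.redTrunc p n (Ideal.span {(p : B)}) (WittVector.mk p y')) =
      TruncatedWittVector.coeff ⟨0, hn⟩ a := by
    rw [Groth.Agent.Lib.DPowWittH4.coeff_redTrunc, ← hy₀]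
    show Ideal.Quotient.mk _ ((WittVector.mk p y').coeff 0) = _
    rw [WittVector.coeff_mk, hy' 0 (by omega)]
  generalize Groth.Agent.Lib.DPowWittH4.redTrunc p n (Ideal.span {(p : B)})
    (WittVector.mk p y') = j at hjker hj0
  have hd0 : TruncatedWittVector.coeff ⟨0, hn⟩ (a - j) = 0 := by
    have h1 := Groth.Agent.Lib.DPowWittH4.coeff0_add hn j (a - j)
    rw [add_sub_cancel, hj0] at h1
    linear_combination (-1 : B ⧸ Ideal.span {(p : B)}) * h1
  have hdmem : a - j ∈
      Ideal.span {((p : ℕ) : TruncatedWittVector p n (B ⧸ Ideal.span {(p : B)}))} := by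
    obtain ⟨d, hd⟩ := WittVector.truncate_surjective p n (B ⧸ Ideal.span {(p : B)}) (a - j)
    have hd00 : d.coeff 0 = 0 := by
      have h1 := congrArg (TruncatedWittVector.coeff ⟨0, hn⟩) hd
      rw [WittVector.coeff_truncate, hd0] at h1
      exact h1
    choose e he using fun i : ℕ => hF (d.coeff (i + 1))
    have hcd : WittVector.mk p e * ((p : ℕ) : WittVector p (B ⧸ Ideal.span {(p : B)})) = d := by
      apply WittVector.ext
      intro i
      cases i with
      | zero => rw [WittVector.mul_charP_coeff_zero, hd00]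
      | succ i =>
        rw [WittVector.mul_charP_coeff_succ, WittVector.coeff_mk]
        exact he i
    rw [Ideal.mem_span_singleton']
    refine ⟨WittVector.truncate n (WittVector.mk p e), ?_⟩
    rw [← hd, ← hcd, map_mul, map_natCast]
  exact Submodule.mem_sup.2 ⟨j, hjker, a - j, hdmem, add_sub_cancel j a⟩

end Groth.Agent.S18931
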