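import Groth.Statements.S18936
import Mathlib

set_option autoImplicit false
universe u
open CAlg

namespace Groth.Agent.S18936

/-- Let A be a Noetherian commutative ring, q a prime ideal of A and f an element of A whose image in
the localization A_q is a non-zero-divisor. Then there is an element b of A not in q such that the
image of f in A[1/b] is a non-zero-divisor. -/
theorem result {A : Type u} [CommRing A] [IsNoetherianRing A]
    (q : Ideal A) [q.IsPrime] (f : A)
    (hf : algebraMap A (Localization.AtPrime q) f ∈ nonZeroDivisors (Localization.AtPrime q)) :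
    ∃ b : A, b ∉ q ∧ algebraMap A (Localization.Away b) f ∈ nonZeroDivisors (Localization.Away b) := by
  classical
  -- annihilator of f
  obtain ⟨S, hS⟩ := IsNoetherian.noetherian ((Ideal.span ({f} : Set A)).annihilator)
  have hK : ∀ x : A, x ∈ (Ideal.span ({f} : Set A)).annihilator ↔ x * f = 0 := by
    intro x
    rw [Submodule.mem_annihilator_span_singleton, smul_eq_mul]
  have hs : ∀ x ∈ S, ∃ s : A, s ∉ q ∧ s * x = 0 := by
    intro x hx
    have hxK : x * f = 0 := (hK x).mp (hS ▸ Submodule.subset_span hx)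
    have h1 : algebraMap A (Localization.AtPrime q) f * algebraMap A (Localization.AtPrime q) x
        = 0 := by
      rw [← map_mul, mul_comm, hxK, map_zero]
    have h2 : algebraMap A (Localization.AtPrime q) x = 0 :=
      (mem_nonZeroDivisors_iff_left.mp hf) _ h1
    obtain ⟨m, hm⟩ := (IsLocalization.map_eq_zero_iff q.primeCompl (Localization.AtPrime q) x).mp h2
    exact ⟨m, m.2, hm⟩
  choose! s hs using hs
  have hbq : (∏ x ∈ S, s x) ∈ q.primeCompl :=
    Submonoid.prod_mem _ (fun x hx => (hs x hx).1)
  have hbK : ∀ x ∈ (Ideal.span ({f} : Set A)).annihilator, (∏ x ∈ S, s x) * x = 0 := by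
    intro x hx
    rw [← hS] at hx
    refine Submodule.span_induction ?_ ?_ ?_ ?_ hx
    · intro y hy
      have hyS : y ∈ S := hy
      rw [← Finset.mul_prod_erase S s hyS, mul_comm (s y), mul_assoc, (hs y hyS).2, mul_zero]
    · rw [mul_zero]
    · intro y z _ _ hy hz
      rw [mul_add, hy, hz, add_zero]
    · intro c y _ hy
      rw [smul_eq_mul, mul_left_comm, hy, mul_zero]
  refine ⟨∏ x ∈ S, s x, hbq, ?_⟩
  rw [mem_nonZeroDivisors_iff_left]
  intro z hz
  obtain ⟨y, t, rfl⟩ := IsLocalization.exists_mk'_eq (Submonoid.powers (∏ x ∈ S, s x)) z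
  rw [IsLocalization.mul_mk'_eq_mk'_of_mul, IsLocalization.mk'_eq_zero_iff] at hz
  obtain ⟨m, hm⟩ := hz
  rw [IsLocalization.mk'_eq_zero_iff]
  have hmy : (m : A) * y ∈ (Ideal.span ({f} : Set A)).annihilator := by
    rw [hK]; rw [← hm]; ring
  refine ⟨⟨(∏ x ∈ S, s x), Submonoid.mem_powers _⟩ * m, ?_⟩
  rw [Submonoid.coe_mul, mul_assoc]
  exact hbK _ hmy

end Groth.Agent.S18936
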