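import Groth.Statements.S18942
import Mathlib

set_option autoImplicit false
universe u
open DPow

namespace Groth.Agent.S18942

/-- Let p be a prime, k a perfect field of characteristic p, n a natural number and x an element of
W_n(k), written here as the truncation of a Witt vector x over k. For any Witt vectors y_0, …,
y_{n−1} over k lifting the components of x under the map y ↦ (y_0)^(p^n) (that is, (y_i)_0^(p^n) =
x_i), one has x = Σ_{i<n} p^i y_i^(p^(n−i)) in W_n(k). -/
theorem result (p : ℕ) [Fact p.Prime]
    (k : Type u) [Field k] [CharP k p] [PerfectRing k p] (n : ℕ) (x : WittVector p k)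
    (y : Fin n → WittVector p k) (hy : ∀ i : Fin n, ((y i).coeff 0) ^ (p ^ n) = x.coeff i) :
    WittVector.truncate n x =
      WittVector.truncate n (∑ i : Fin n, (p : WittVector p k) ^ (i : ℕ) * (y i) ^ (p ^ (n - i))) := by
  classical
  cases n with
  | zero =>
    apply TruncatedWittVector.ext
    intro i
    exact i.elim0
  | succ m =>
    have hterm : ∀ i : Fin (m + 1), (p : WittVector p k) ^ (m + 1) ∣
        WittVector.teichmuller p (((_root_.frobeniusEquiv k p).symm ^ (i : ℕ)) (x.coeff i)) *
          (p : WittVector p k) ^ (i : ℕ) -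
        (p : WittVector p k) ^ (i : ℕ) * (y i) ^ (p ^ (m + 1 - i)) := by
      intro i
      have h1 : ((_root_.frobeniusEquiv k p).symm ^ (i : ℕ)) (x.coeff i) =
          ((y i).coeff 0) ^ (p ^ (m + 1 - i)) := by
        rw [RingAut.coe_pow]
        apply iterateFrobenius_inj k p (i : ℕ)
        rw [iterateFrobenius_def, iterateFrobenius_def, iterate_frobeniusEquiv_symm_pow_p_pow,
          ← pow_mul, ← pow_add, Nat.sub_add_cancel (le_of_lt i.2)]
        exact (hy i).symm
      have h2 : WittVector.teichmuller p (((y i).coeff 0) ^ (p ^ (m + 1 - i))) =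
          (WittVector.teichmuller p ((y i).coeff 0)) ^ (p ^ (m + 1 - i)) := map_pow _ _ _
      have h3 : (p : WittVector p k) ∣ y i - WittVector.teichmuller p ((y i).coeff 0) := by
        apply Ideal.mem_span_singleton.1
        rw [WittVector.mem_span_p_iff_coeff_zero_eq_zero]
        show WittVector.constantCoeff (y i - WittVector.teichmuller p ((y i).coeff 0)) = 0
        rw [map_sub]
        show (y i).coeff 0 - (WittVector.teichmuller p ((y i).coeff 0)).coeff 0 = 0
        rw [WittVector.teichmuller_coeff_zero, sub_self]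
      obtain ⟨w, hw⟩ := dvd_sub_pow_of_dvd_sub h3 (m + 1 - i)
      have e : (p : WittVector p k) ^ (i : ℕ) * (p : WittVector p k) ^ (m + 1 - i + 1) =
          (p : WittVector p k) ^ (m + 1) * (p : WittVector p k) := by
        rw [← pow_add, ← pow_succ]
        congr 1
        have := i.2
        omega
      refine ⟨-((p : WittVector p k) * w), ?_⟩
      rw [h1, h2]
      linear_combination (-(p : WittVector p k) ^ (i : ℕ)) * hw - w * e
    have hT := WittVector.dvd_sub_sum_teichmuller_iterateFrobeniusEquiv_coeff x m
    rw [← Nat.range_succ_eq_Iic, ← Fin.sum_univ_eq_sum_range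
      (fun i => WittVector.teichmuller p (((_root_.frobeniusEquiv k p).symm ^ i) (x.coeff i)) *
        (p : WittVector p k) ^ i) (m + 1)] at hT
    have hTS : (p : WittVector p k) ^ (m + 1) ∣
        (∑ i : Fin (m + 1), WittVector.teichmuller p
          (((_root_.frobeniusEquiv k p).symm ^ (i : ℕ)) (x.coeff i)) *
            (p : WittVector p k) ^ (i : ℕ)) -
        ∑ i : Fin (m + 1), (p : WittVector p k) ^ (i : ℕ) * (y i) ^ (p ^ (m + 1 - i)) := by
      rw [← Finset.sum_sub_distrib]
      apply Finset.dvd_sum
      intro i _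
      exact hterm i
    have hdvd : (p : WittVector p k) ^ (m + 1) ∣ x -
        ∑ i : Fin (m + 1), (p : WittVector p k) ^ (i : ℕ) * (y i) ^ (p ^ (m + 1 - i)) := by
      have h5 := dvd_add hT hTS
      have e5 : x - ∑ i : Fin (m + 1), (p : WittVector p k) ^ (i : ℕ) *
          (y i) ^ (p ^ (m + 1 - i)) =
          (x - ∑ i : Fin (m + 1), WittVector.teichmuller p
            (((_root_.frobeniusEquiv k p).symm ^ (i : ℕ)) (x.coeff i)) *
              (p : WittVector p k) ^ (i : ℕ)) +
          ((∑ i : Fin (m + 1), WittVector.teichmuller p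
            (((_root_.frobeniusEquiv k p).symm ^ (i : ℕ)) (x.coeff i)) *
              (p : WittVector p k) ^ (i : ℕ)) -
          ∑ i : Fin (m + 1), (p : WittVector p k) ^ (i : ℕ) * (y i) ^ (p ^ (m + 1 - i))) := by
        ring
      rw [e5]
      exact h5
    have h1 : x - ∑ i : Fin (m + 1), (p : WittVector p k) ^ (i : ℕ) *
        (y i) ^ (p ^ (m + 1 - i)) ∈ Ideal.span {((p : WittVector p k) ^ (m + 1))} :=
      Ideal.mem_span_singleton.2 hdvd
    rw [WittVector.mem_span_p_pow_iff_le_coeff_eq_zero,
      ← WittVector.le_coeff_eq_iff_le_sub_coeff_eq_zero] at h1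
    apply TruncatedWittVector.ext
    intro i
    rw [WittVector.coeff_truncate, WittVector.coeff_truncate]
    exact h1 i i.2

end Groth.Agent.S18942
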