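import Groth.Statements.S18943
import Mathlib

set_option autoImplicit false
open scoped ContDiff
open CInfGerm

namespace Groth.Agent.S18943

open MeasureTheory Set Filter Topology Interval in
theorem hasDerivAt_I (h : ℝ → ℝ) (hdiff : Differentiable ℝ h) (hdcont : Continuous (deriv h))
    (k : ℕ) (x₀ : ℝ) :
    HasDerivAt (fun x => ∫ t in (0:ℝ)..1, h (t * x) * t ^ k)
      (∫ t in (0:ℝ)..1, deriv h (t * x₀) * t ^ (k + 1)) x₀ := by
  have hcont : Continuous h := hdiff.continuous
  obtain ⟨M, hM⟩ := (isCompact_Icc : IsCompact (Icc (-(|x₀| + 1)) (|x₀| + 1))).exists_bound_of_continuousOn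
    hdcont.continuousOn
  have hb : ∀ᵐ t ∂(volume : Measure ℝ), t ∈ Ι (0:ℝ) 1 → ∀ x ∈ Metric.ball x₀ 1,
      ‖deriv h (t * x) * t ^ (k + 1)‖ ≤ M := by
    refine Eventually.of_forall (fun t ht x hx => ?_)
    rw [uIoc_of_le zero_le_one] at ht
    have hx' : |x| ≤ |x₀| + 1 := by
      have h1 : |x - x₀| < 1 := by rwa [Metric.mem_ball, Real.dist_eq] at hx
      have h2 := abs_sub_abs_le_abs_sub x x₀
      linarith
    have htx : t * x ∈ Icc (-(|x₀| + 1)) (|x₀| + 1) := by
      rw [mem_Icc, ← abs_le, abs_mul, abs_of_pos ht.1]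
      calc t * |x| ≤ 1 * |x| := mul_le_mul_of_nonneg_right ht.2 (abs_nonneg x)
        _ = |x| := one_mul _
        _ ≤ _ := hx'
    have h1 : ‖deriv h (t * x)‖ ≤ M := hM _ htx
    have h2 : ‖t ^ (k + 1)‖ ≤ 1 := by
      rw [norm_pow, Real.norm_eq_abs, abs_of_pos ht.1]
      exact pow_le_one₀ ht.1.le ht.2
    calc ‖deriv h (t * x) * t ^ (k + 1)‖ = ‖deriv h (t * x)‖ * ‖t ^ (k + 1)‖ := norm_mul _ _
      _ ≤ M * 1 := mul_le_mul h1 h2 (norm_nonneg _) ((norm_nonneg _).trans h1)
      _ = M := mul_one _
  have hd : ∀ᵐ t ∂(volume : Measure ℝ), t ∈ Ι (0:ℝ) 1 → ∀ x ∈ Metric.ball x₀ 1,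
      HasDerivAt (fun x => h (t * x) * t ^ k) (deriv h (t * x) * t ^ (k + 1)) x := by
    refine Eventually.of_forall (fun t _ x _ => ?_)
    have h1 : HasDerivAt (fun y => t * y) t x := by
      simpa using (hasDerivAt_id x).const_mul t
    have h2 : HasDerivAt (fun y => h (t * y)) (deriv h (t * x) * t) x :=
      (hdiff (t * x)).hasDerivAt.comp x h1
    have h3 := h2.mul_const (t ^ k)
    refine h3.congr_deriv ?_
    rw [pow_succ]; ring
  have hmeas : ∀ᶠ x in 𝓝 x₀, AEStronglyMeasurable (fun t => h (t * x) * t ^ k)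
      ((volume : Measure ℝ).restrict (Ι (0:ℝ) 1)) :=
    Eventually.of_forall (fun x => Continuous.aestronglyMeasurable (by fun_prop))
  have hint : IntervalIntegrable (fun t => h (t * x₀) * t ^ k) volume (0:ℝ) 1 :=
    Continuous.intervalIntegrable (by fun_prop) _ _
  have hmeas' : AEStronglyMeasurable (fun t => deriv h (t * x₀) * t ^ (k + 1))
      ((volume : Measure ℝ).restrict (Ι (0:ℝ) 1)) :=
    Continuous.aestronglyMeasurable (by fun_prop)
  exact (intervalIntegral.hasDerivAt_integral_of_dominated_loc_of_deriv_le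
    (μ := volume) (a := 0) (b := 1) (bound := fun _ => M)
    (F := fun x t => h (t * x) * t ^ k) (F' := fun x t => deriv h (t * x) * t ^ (k + 1))
    (x₀ := x₀) (s := Metric.ball x₀ 1) (Metric.ball_mem_nhds x₀ one_pos)
    hmeas hint hmeas' hb intervalIntegrable_const hd).2

open scoped ContDiff in
theorem contDiff_I : ∀ (n : ℕ) (h : ℝ → ℝ), ContDiff ℝ ∞ h → ∀ k : ℕ,
    ContDiff ℝ (n : WithTop ℕ∞) (fun x => ∫ t in (0:ℝ)..1, h (t * x) * t ^ k) := by
  intro n
  induction n with
  | zero =>
    intro h hh k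
    obtain ⟨hd, hc⟩ := contDiff_infty_iff_deriv.1 hh
    have hder := fun x => hasDerivAt_I h hd hc.continuous k x
    rw [Nat.cast_zero, contDiff_zero]
    exact continuous_iff_continuousAt.2 (fun x => (hder x).continuousAt)
  | succ n ih =>
    intro h hh k
    obtain ⟨hd, hc⟩ := contDiff_infty_iff_deriv.1 hh
    have hder := fun x => hasDerivAt_I h hd hc.continuous k x
    rw [Nat.cast_succ, contDiff_succ_iff_deriv]
    refine ⟨fun x => (hder x).differentiableAt, fun hω => ?_, ?_⟩
    · exact absurd hω (by simp)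
    · have e : deriv (fun x => ∫ t in (0:ℝ)..1, h (t * x) * t ^ k) =
          fun x => ∫ t in (0:ℝ)..1, deriv h (t * x) * t ^ (k + 1) :=
        funext (fun x => (hder x).deriv)
      rw [e]
      exact ih (deriv h) hc (k + 1)

/-- Let f be an infinitely differentiable real-valued function on the real line with f(0) = 0. Then f(x)
= x·g(x) for an infinitely differentiable function g. (The source phrases this for germs at 0: the
maximal ideal of the local ring of germs of smooth functions at the origin is generated by the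
coordinate t; the global form stated here is what its argument, smooth extension of f(x)/x across 0,
gives.) -/
theorem result (f : ℝ → ℝ) (hf : ContDiff ℝ ∞ f) (h0 : f 0 = 0) :
    ∃ g : ℝ → ℝ, ContDiff ℝ ∞ g ∧ ∀ x : ℝ, f x = x * g x := by
  obtain ⟨hd, hc⟩ := contDiff_infty_iff_deriv.1 hf
  refine ⟨fun x => ∫ t in (0:ℝ)..1, deriv f (t * x) * t ^ 0, ?_, ?_⟩
  · exact contDiff_infty.2 (fun n => contDiff_I n (deriv f) hc 0)
  · intro x
    show f x = x * ∫ t in (0:ℝ)..1, deriv f (t * x) * t ^ 0
    have hderiv : ∀ t ∈ Set.uIcc (0:ℝ) 1,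
        HasDerivAt (fun t => f (t * x)) (deriv f (t * x) * x) t := by
      intro t _
      have h1 : HasDerivAt (fun s => s * x) x t := by
        simpa using (hasDerivAt_id t).mul_const x
      exact (hd (t * x)).hasDerivAt.comp t h1
    have hcd : Continuous (deriv f) := hc.continuous
    have hint : IntervalIntegrable (fun t => deriv f (t * x) * x) MeasureTheory.volume 0 1 :=
      Continuous.intervalIntegrable (by fun_prop) _ _
    have hftc : ∫ t in (0:ℝ)..1, deriv f (t * x) * x = f (1 * x) - f (0 * x) :=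
      intervalIntegral.integral_eq_sub_of_hasDerivAt hderiv hint
    rw [one_mul, zero_mul, h0, sub_zero] at hftc
    have e : (fun t : ℝ => deriv f (t * x) * x) = fun t => x * (deriv f (t * x) * t ^ 0) := by
      funext t; rw [pow_zero, mul_one, mul_comm]
    rw [e, intervalIntegral.integral_const_mul] at hftc
    exact hftc.symm

end Groth.Agent.S18943
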