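import Groth.Statements.S18946
import Mathlib

set_option autoImplicit false
universe u
open scoped BigOperators
open InvQ

namespace Groth.Agent.S18946

open MvPolynomial in
theorem aeval_scale_monomial {k : Type u} [Field k] {ι : Type*} [Fintype ι] (c : ι → k)
    (v : ι →₀ ℕ) (a : k) :
    MvPolynomial.aeval (fun i => (C (c i) * X i : MvPolynomial ι k)) (monomial v a) =
      monomial v (a * ∏ i, c i ^ v i) := by
  rw [aeval_monomial, Finsupp.prod_fintype _ _ (fun i => pow_zero _)]
  have h1 : ∏ i, (C (c i) * X i : MvPolynomial ι k) ^ v i =
      C (∏ i, c i ^ v i) * ∏ i, (X i : MvPolynomial ι k) ^ v i := by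
    rw [map_prod, ← Finset.prod_mul_distrib]
    refine Finset.prod_congr rfl (fun i _ => ?_)
    rw [mul_pow, C_pow]
  rw [h1, algebraMap_eq, ← mul_assoc, ← C_mul, monomial_eq,
    Finsupp.prod_fintype _ _ (fun i => pow_zero _)]

open MvPolynomial in
theorem coeff_aeval_scale {k : Type u} [Field k] {ι : Type*} [Fintype ι] (c : ι → k)
    (m : ι →₀ ℕ) (g : MvPolynomial ι k) :
    coeff m (MvPolynomial.aeval (fun i => (C (c i) * X i : MvPolynomial ι k)) g) =
      (∏ i, c i ^ m i) * coeff m g := by
  classical
  induction g using MvPolynomial.induction_on' with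
  | monomial v a =>
    rw [aeval_scale_monomial, coeff_monomial, coeff_monomial]
    by_cases h : v = m
    · rw [if_pos h, if_pos h, h, mul_comm]
    · rw [if_neg h, if_neg h, mul_zero]
  | add p q hp hq => rw [map_add, coeff_add, coeff_add, hp, hq, mul_add]

/-- Let k be an algebraically closed field of characteristic zero and n a natural number, and let the
torus of (n+1)-tuples of units of k with product 1 act on the polynomial ring k[t_0, ..., t_n] by
rescaling each variable t_i by the i-th unit. A polynomial is fixed by every such rescaling if and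
only if it lies in the k-subalgebra generated by the product t_0 t_1 ... t_n. (This is the
computation of the ring of functions on affine (n+1)-space invariant under the maximal diagonal
torus of the special linear group, identified with the polynomial ring in the single coordinate t =
t_0 ... t_n of the line it maps to by the product map; invariance is tested on k-valued points of
the torus, which over an infinite field is the same as invariance under the group scheme.) -/
theorem result
    (k : Type u) [Field k] [IsAlgClosed k] [CharZero k] (n : ℕ)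
    (f : MvPolynomial (Fin (n + 1)) k) :
    (∀ σ : Fin (n + 1) → kˣ, ∏ i, (σ i : k) = 1 →
        MvPolynomial.aeval (fun i => MvPolynomial.C (σ i : k) * MvPolynomial.X i) f = f) ↔
      f ∈ Algebra.adjoin k ({∏ i : Fin (n + 1), MvPolynomial.X i} : Set (MvPolynomial (Fin (n + 1)) k)) := by
  classical
  constructor
  · intro hinv
    have hconst : ∀ m ∈ f.support, ∀ i j : Fin (n + 1), m i = m j := by
      intro m hm i j
      by_contra hne
      have hij : i ≠ j := fun e => hne (by rw [e])
      have h2 : (2 : k) ≠ 0 := two_ne_zero
      let u : kˣ := Units.mk0 2 h2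
      have hu : (u : k) = 2 := rfl
      let σ : Fin (n + 1) → kˣ := fun l => if l = i then u else if l = j then u⁻¹ else 1
      have hσi : σ i = u := if_pos rfl
      have hσj : σ j = u⁻¹ := by
        show (if j = i then u else if j = j then u⁻¹ else 1) = u⁻¹
        rw [if_neg (Ne.symm hij), if_pos rfl]
      have hσl : ∀ l, l ≠ i ∧ l ≠ j → σ l = 1 := by
        intro l hl
        show (if l = i then u else if l = j then u⁻¹ else 1) = 1
        rw [if_neg hl.1, if_neg hl.2]
      have hprod : ∏ l, (σ l : k) = 1 := by
        rw [Finset.prod_eq_mul i j hij (fun l _ hl => by rw [hσl l hl, Units.val_one])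
          (fun h => absurd (Finset.mem_univ _) h) (fun h => absurd (Finset.mem_univ _) h),
          hσi, hσj, ← Units.val_mul, mul_inv_cancel, Units.val_one]
      have hprodm : ∏ l, (σ l : k) ^ m l = (2 : k) ^ m i * ((2 : k)⁻¹) ^ m j := by
        rw [Finset.prod_eq_mul i j hij
          (fun l _ hl => by rw [hσl l hl, Units.val_one, one_pow])
          (fun h => absurd (Finset.mem_univ _) h) (fun h => absurd (Finset.mem_univ _) h),
          hσi, hσj, Units.val_inv_eq_inv_val, hu]
      have hc : MvPolynomial.coeff m (MvPolynomial.aeval
          (fun i => MvPolynomial.C (σ i : k) * MvPolynomial.X i) f) =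
          (∏ l, (σ l : k) ^ m l) * MvPolynomial.coeff m f :=
        coeff_aeval_scale (fun l => (σ l : k)) m f
      rw [hinv σ hprod, hprodm] at hc
      have hcm : MvPolynomial.coeff m f ≠ 0 := MvPolynomial.mem_support_iff.1 hm
      have h1 : (2 : k) ^ m i * ((2 : k)⁻¹) ^ m j = 1 := by
        have h1' : (1 : k) * MvPolynomial.coeff m f =
            ((2 : k) ^ m i * ((2 : k)⁻¹) ^ m j) * MvPolynomial.coeff m f := by
          rw [one_mul]; exact hc
        exact (mul_right_cancel₀ hcm h1').symm
      rw [inv_pow, mul_inv_eq_one₀ (pow_ne_zero _ h2)] at h1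
      have h3 : ((2 ^ m i : ℕ) : k) = ((2 ^ m j : ℕ) : k) := by push_cast; exact h1
      exact hne (Nat.pow_right_injective (le_refl 2) (Nat.cast_injective h3))
    have hmono : ∀ m ∈ f.support, MvPolynomial.monomial m (MvPolynomial.coeff m f) ∈
        Algebra.adjoin k ({∏ i : Fin (n + 1), MvPolynomial.X i} :
          Set (MvPolynomial (Fin (n + 1)) k)) := by
      intro m hm
      have hm0 : ∀ i, m i = m 0 := fun i => hconst m hm i 0
      have e : MvPolynomial.monomial m (MvPolynomial.coeff m f) =
          algebraMap k (MvPolynomial (Fin (n + 1)) k) (MvPolynomial.coeff m f) *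
            (∏ i : Fin (n + 1), (MvPolynomial.X i : MvPolynomial (Fin (n + 1)) k)) ^ (m 0) := by
        rw [MvPolynomial.monomial_eq, Finsupp.prod_fintype _ _ (fun i => pow_zero _),
          MvPolynomial.algebraMap_eq, ← Finset.prod_pow]
        congr 1
        exact Finset.prod_congr rfl (fun i _ => by rw [hm0 i])
      have hP : (∏ i : Fin (n + 1), (MvPolynomial.X i : MvPolynomial (Fin (n + 1)) k)) ∈
          Algebra.adjoin k ({∏ i : Fin (n + 1), MvPolynomial.X i} :
            Set (MvPolynomial (Fin (n + 1)) k)) := Algebra.subset_adjoin (Set.mem_singleton _)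
      rw [e]
      exact Subalgebra.mul_mem _ (Subalgebra.algebraMap_mem _ _) (Subalgebra.pow_mem _ hP _)
    have hsum := f.as_sum
    rw [hsum]
    exact Subalgebra.sum_mem _ hmono
  · intro hf σ hσ
    induction hf using Algebra.adjoin_induction with
    | mem x hx =>
      rw [Set.mem_singleton_iff] at hx
      rw [hx, map_prod]
      simp only [MvPolynomial.aeval_X]
      rw [Finset.prod_mul_distrib,
        ← map_prod (MvPolynomial.C : k →+* MvPolynomial (Fin (n + 1)) k) (fun i => (σ i : k))
          Finset.univ, hσ, map_one, one_mul]
    | algebraMap r => exact AlgHom.commutes _ r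
    | add x y _ _ hx hy => rw [map_add, hx, hy]
    | mul x y _ _ hx hy => rw [map_mul, hx, hy]

end Groth.Agent.S18946
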