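import Groth.Statements.S18948
import Mathlib.Tactic.Group

set_option autoImplicit false
universe u v
open CExt

namespace Groth.Agent.S18948

lemma mem_orb {H : Type*} [Group H] (x y : H) :
    y ∈ MulAction.orbit (ConjAct H) x ↔ ∃ c : H, c * x * c⁻¹ = y := by
  rw [MulAction.mem_orbit_iff]
  constructor
  · rintro ⟨c, rfl⟩
    exact ⟨ConjAct.ofConjAct c, (ConjAct.smul_def c x).symm⟩
  · rintro ⟨c, rfl⟩
    exact ⟨ConjAct.toConjAct c, by rw [ConjAct.smul_def, ConjAct.ofConjAct_toConjAct]⟩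


/-- Let f : E → G be a surjective homomorphism of groups whose kernel is central in E, and let x ∈ E.
Then f maps the conjugacy class of x bijectively onto the conjugacy class of f(x) if and only if
every element of G commuting with f(x) is the image of some element of E commuting with x. (In the
source E → G is the central extension, with kernel the roots of unity, attached to a Brauer class of
the classifying stack of a finite tame étale group scheme, and a conjugacy class of E mapping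
bijectively onto a given class of G is a marking; the equivalence is stated here for an arbitrary
central extension of abstract groups.) -/
theorem result {E : Type u} {G : Type v} [Group E] [Group G]
    (f : E →* G) (hf : Function.Surjective f) (hker : f.ker ≤ Subgroup.center E) (x : E) :
    Set.BijOn f (MulAction.orbit (ConjAct E) x) (MulAction.orbit (ConjAct G) (f x)) ↔
      ∀ g : G, g * f x = f x * g → ∃ e : E, f e = g ∧ e * x = x * e := by
  have hcomm : ∀ (a : E), a ∈ f.ker → ∀ e : E, e * a = a * e :=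
    fun a ha e => (Subgroup.mem_center_iff.mp (hker ha)) e
  constructor
  · rintro ⟨-, hinj, -⟩ g hg
    obtain ⟨e₀, rfl⟩ := hf g
    refine ⟨e₀, rfl, ?_⟩
    have h1 : e₀ * x * e₀⁻¹ ∈ MulAction.orbit (ConjAct E) x := (mem_orb x _).mpr ⟨e₀, rfl⟩
    have h2 : x ∈ MulAction.orbit (ConjAct E) x := (mem_orb x _).mpr ⟨1, by simp⟩
    have h3 : f (e₀ * x * e₀⁻¹) = f x := by
      rw [map_mul, map_mul, map_inv, hg, mul_inv_cancel_right]
    have h4 := hinj h1 h2 h3
    calc e₀ * x = (e₀ * x * e₀⁻¹) * e₀ := by group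
      _ = x * e₀ := by rw [h4]
  · intro hlift
    refine ⟨?_, ?_, ?_⟩
    · intro y hy
      obtain ⟨c, rfl⟩ := (mem_orb x y).mp hy
      exact (mem_orb (f x) _).mpr ⟨f c, by rw [map_mul, map_mul, map_inv]⟩
    · intro y₁ hy₁ y₂ hy₂ h12
      obtain ⟨c₁, rfl⟩ := (mem_orb x y₁).mp hy₁
      obtain ⟨c₂, rfl⟩ := (mem_orb x y₂).mp hy₂
      rw [map_mul, map_mul, map_inv, map_mul, map_mul, map_inv] at h12
      have hg : f (c₂⁻¹ * c₁) * f x = f x * f (c₂⁻¹ * c₁) := by
        rw [map_mul, map_inv]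
        calc (f c₂)⁻¹ * f c₁ * f x = (f c₂)⁻¹ * (f c₁ * f x * (f c₁)⁻¹) * f c₁ := by group
          _ = (f c₂)⁻¹ * (f c₂ * f x * (f c₂)⁻¹) * f c₁ := by rw [h12]
          _ = f x * ((f c₂)⁻¹ * f c₁) := by group
      obtain ⟨e, hfe, hex⟩ := hlift _ hg
      have ha : c₂⁻¹ * c₁ * e⁻¹ ∈ f.ker := by
        rw [MonoidHom.mem_ker, map_mul, map_inv, hfe, mul_inv_cancel]
      have hcen := hcomm _ ha x
      have hex' : e * x * e⁻¹ = x := by
        calc e * x * e⁻¹ = x * e * e⁻¹ := by rw [hex]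
          _ = x := by group
      have key : (c₂⁻¹ * c₁) * x * (c₂⁻¹ * c₁)⁻¹ = x := by
        calc (c₂⁻¹ * c₁) * x * (c₂⁻¹ * c₁)⁻¹
            = (c₂⁻¹ * c₁ * e⁻¹) * (e * x * e⁻¹) * (c₂⁻¹ * c₁ * e⁻¹)⁻¹ := by group
          _ = (c₂⁻¹ * c₁ * e⁻¹) * x * (c₂⁻¹ * c₁ * e⁻¹)⁻¹ := by rw [hex']
          _ = x * (c₂⁻¹ * c₁ * e⁻¹) * (c₂⁻¹ * c₁ * e⁻¹)⁻¹ := by rw [← hcen]
          _ = x := by group
      calc c₁ * x * c₁⁻¹ = c₂ * ((c₂⁻¹ * c₁) * x * (c₂⁻¹ * c₁)⁻¹) * c₂⁻¹ := by group
        _ = c₂ * x * c₂⁻¹ := by rw [key]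
    · intro z hz
      obtain ⟨g, rfl⟩ := (mem_orb (f x) z).mp hz
      obtain ⟨e, rfl⟩ := hf g
      exact ⟨e * x * e⁻¹, (mem_orb x _).mpr ⟨e, rfl⟩, by rw [map_mul, map_mul, map_inv]⟩

end Groth.Agent.S18948
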