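import Groth.Statements.S18949
import Mathlib.Tactic.Group

set_option autoImplicit false
universe u v
open CExt

namespace Groth.Agent.S18949

/-- Automorphisms over the base: let f : E → G be a surjective homomorphism of groups with central
kernel A. For every homomorphism χ : G → A the map e ↦ χ(f(e)) · e is an endomorphism of E over G
which is the identity on A; and every endomorphism α of E with f ∘ α = f and α equal to the identity
on A is of this form for exactly one χ. (In the source this identifies the automorphisms of a
central extension fixing its kernel with Hom(G, A), for extensions of profinite étale group schemes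
over a field; stated here for abstract groups.) -/
theorem result {E : Type u} {G : Type v} [Group E] [Group G]
    (f : E →* G) (hf : Function.Surjective f) (hker : f.ker ≤ Subgroup.center E) :
    (∀ χ : G →* f.ker, ∃ α : E →* E, f.comp α = f ∧ (∀ a ∈ f.ker, α a = a) ∧
        ∀ e : E, α e = (χ (f e) : E) * e) ∧
      ∀ α : E →* E, f.comp α = f → (∀ a ∈ f.ker, α a = a) →
        ∃! χ : G →* f.ker, ∀ e : E, α e = (χ (f e) : E) * e := by
  have hcomm : ∀ (a : E), a ∈ f.ker → ∀ e : E, e * a = a * e :=
    fun a ha e => (Subgroup.mem_center_iff.mp (hker ha)) e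
  constructor
  · intro χ
    refine ⟨{ toFun := fun e => (χ (f e) : E) * e, map_one' := ?_, map_mul' := ?_ }, ?_, ?_, ?_⟩
    · simp
    · intro x y
      simp only [map_mul, Subgroup.coe_mul]
      calc ((χ (f x) : E) * (χ (f y) : E)) * (x * y)
          = (χ (f x) : E) * (((χ (f y) : E) * x) * y) := by simp only [mul_assoc]
        _ = (χ (f x) : E) * ((x * (χ (f y) : E)) * y) := by rw [hcomm _ (χ (f y)).2 x]
        _ = ((χ (f x) : E) * x) * ((χ (f y) : E) * y) := by simp only [mul_assoc]
    · ext e
      show f ((χ (f e) : E) * e) = f e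
      rw [map_mul, MonoidHom.mem_ker.mp (χ (f e)).2, one_mul]
    · intro a ha
      show (χ (f a) : E) * a = a
      rw [MonoidHom.mem_ker.mp ha, map_one, Subgroup.coe_one, one_mul]
    · intro e; rfl
  · intro α hα hαA
    have hfα : ∀ e, f (α e) = f e := fun e => DFunLike.congr_fun hα e
    have hc_mem : ∀ e, α e * e⁻¹ ∈ f.ker := fun e => by
      rw [MonoidHom.mem_ker, map_mul, map_inv, hfα, mul_inv_cancel]
    have hc_eq : ∀ e e', f e = f e' → α e * e⁻¹ = α e' * e'⁻¹ := by
      intro e e' h
      have ha : e' * e⁻¹ ∈ f.ker := by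
        rw [MonoidHom.mem_ker, map_mul, map_inv, h, mul_inv_cancel]
      have h1 : α (e' * e⁻¹) = e' * e⁻¹ := hαA _ ha
      have h2 : α e' = (e' * e⁻¹) * α e := by
        rw [← h1, ← map_mul]; congr 1; group
      rw [h2]
      have hcen := hcomm _ ha
      calc α e * e⁻¹ = α e * e⁻¹ * ((e' * e⁻¹) * (e' * e⁻¹)⁻¹) := by group
        _ = (e' * e⁻¹) * (α e * e⁻¹) * (e' * e⁻¹)⁻¹ := by
            rw [← mul_assoc, hcen (α e * e⁻¹)]
        _ = e' * e⁻¹ * α e * e'⁻¹ := by group
    have hc_mul : ∀ e e', α (e * e') * (e * e')⁻¹ = (α e * e⁻¹) * (α e' * e'⁻¹) := by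
      intro e e'
      have hcen := hcomm _ (hc_mem e')
      calc α (e * e') * (e * e')⁻¹ = α e * ((α e' * e'⁻¹) * e⁻¹) := by rw [map_mul]; group
        _ = α e * (e⁻¹ * (α e' * e'⁻¹)) := by rw [← hcen e⁻¹]
        _ = (α e * e⁻¹) * (α e' * e'⁻¹) := by group
    let χ : G →* f.ker :=
      { toFun := fun g => ⟨α (Classical.choose (hf g)) * (Classical.choose (hf g))⁻¹, hc_mem _⟩
        map_one' := by
          apply Subtype.ext
          show α (Classical.choose (hf 1)) * (Classical.choose (hf 1))⁻¹ = 1
          rw [hc_eq _ 1 (by rw [Classical.choose_spec (hf 1), map_one])]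
          simp
        map_mul' := fun g g' => by
          apply Subtype.ext
          show α (Classical.choose (hf (g * g'))) * (Classical.choose (hf (g * g')))⁻¹
            = (α (Classical.choose (hf g)) * (Classical.choose (hf g))⁻¹)
              * (α (Classical.choose (hf g')) * (Classical.choose (hf g'))⁻¹)
          rw [← hc_mul]
          apply hc_eq
          rw [Classical.choose_spec (hf (g * g')), map_mul, Classical.choose_spec (hf g),
            Classical.choose_spec (hf g')] }
    have hχ : ∀ e, α e = (χ (f e) : E) * e := by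
      intro e
      show α e = (α (Classical.choose (hf (f e))) * (Classical.choose (hf (f e)))⁻¹) * e
      rw [hc_eq _ e (Classical.choose_spec (hf (f e)))]
      group
    refine ⟨χ, hχ, fun χ' hχ' => ?_⟩
    refine MonoidHom.ext (fun g => Subtype.ext ?_)
    obtain ⟨e, rfl⟩ := hf g
    have h1 := hχ e
    have h2 := hχ' e
    exact mul_right_cancel (h2.symm.trans h1)

end Groth.Agent.S18949
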