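import Groth.Statements.S18951
import Mathlib

set_option autoImplicit false
universe u
open OrbPic

namespace Groth.Agent.S18951

open W4c6brauerbgmalle in
theorem mem_picOrb_iff {G : Type u} [Group G] (C : Set G)
    (p : (Additive G →+ QmodZ) × (G → ℚ)) :
    p ∈ picOrb G C ↔ (p.2 1 = 0 ∧ (∀ g : G, g ∉ C → p.2 g = 0) ∧
      (∀ g h : G, p.2 (h * g * h⁻¹) = p.2 g) ∧
      ∀ g : G, g ∈ C → toQmodZ (p.2 g) = p.1 (Additive.ofMul g)) := Iff.rfl

open W4c6brauerbgmalle in
theorem mem_intWeights_iff {G : Type u} [Group G] (C : Set G) (w : G → ℚ) :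
    w ∈ intWeights G C ↔ (w 1 = 0 ∧ (∀ g : G, g ∉ C → w g = 0) ∧
      (∀ g h : G, w (h * g * h⁻¹) = w g) ∧ ∀ g : G, ∃ n : ℤ, w g = n) := Iff.rfl

/-- Let G be a group and C ⊆ G a subset that generates G. Then the projection (χ, w) ↦ w from the group
of geometric partial orbifold line bundles with respect to C to functions G → ℚ is injective, its
image contains every conjugation-invariant integer-valued function vanishing at 1 and outside C, and
the group is torsion-free. (The source works with the geometric points of a tame finite étale group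
scheme, characters with values in roots of unity and weights on conjugacy classes of the Tate twist;
here these are identified with a group, homomorphisms to ℚ/ℤ and class functions as the source does
after choosing roots of unity. The case C = G ∖ {1} is the statement for full orbifold line
bundles.) -/
theorem result (G : Type u) [Group G] (C : Set G)
    (hC : Subgroup.closure C = ⊤) :
    Set.InjOn (fun p : (Additive G →+ W4c6brauerbgmalle.QmodZ) × (G → ℚ) => p.2) (W4c6brauerbgmalle.picOrb G C) ∧
      (∀ w ∈ W4c6brauerbgmalle.intWeights G C, ((0 : Additive G →+ W4c6brauerbgmalle.QmodZ), w) ∈ W4c6brauerbgmalle.picOrb G C) ∧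
      ∀ (n : ℕ) (p : (Additive G →+ W4c6brauerbgmalle.QmodZ) × (G → ℚ)), p ∈ W4c6brauerbgmalle.picOrb G C → n ≠ 0 →
        n • p = 0 → p = 0 := by
  have key : ∀ χ χ' : Additive G →+ W4c6brauerbgmalle.QmodZ,
      (∀ g ∈ C, χ (Additive.ofMul g) = χ' (Additive.ofMul g)) → χ = χ' := by
    intro χ χ' h
    have hall : ∀ g : G, χ (Additive.ofMul g) = χ' (Additive.ofMul g) := by
      intro g
      have hg : g ∈ Subgroup.closure C := by rw [hC]; exact Subgroup.mem_top g
      induction hg using Subgroup.closure_induction with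
      | mem x hx => exact h x hx
      | one => rw [ofMul_one, map_zero, map_zero]
      | mul x y _ _ hx hy => rw [ofMul_mul, map_add, map_add, hx, hy]
      | inv x _ hx => rw [ofMul_inv, map_neg, map_neg, hx]
    apply AddMonoidHom.ext
    intro a
    have := hall (Additive.toMul a)
    simpa using this
  refine ⟨?_, ?_, ?_⟩
  · rintro ⟨χ, w⟩ hp ⟨χ', w'⟩ hp' hw
    rw [SetLike.mem_coe, mem_picOrb_iff] at hp hp'
    obtain ⟨-, -, -, h4⟩ := hp
    obtain ⟨-, -, -, h4'⟩ := hp'
    have hw' : w = w' := hw
    subst hw'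
    have h4a : ∀ g : G, g ∈ C → W4c6brauerbgmalle.toQmodZ (w g) = χ (Additive.ofMul g) := h4
    have h4b : ∀ g : G, g ∈ C → W4c6brauerbgmalle.toQmodZ (w g) = χ' (Additive.ofMul g) := h4'
    have : χ = χ' := key χ χ' (fun g hg => by rw [← h4a g hg, ← h4b g hg])
    rw [this]
  · intro w hw
    rw [mem_intWeights_iff] at hw
    obtain ⟨h1, h2, h3, h4⟩ := hw
    rw [mem_picOrb_iff]
    refine ⟨h1, h2, h3, fun g _ => ?_⟩
    obtain ⟨n, hn⟩ := h4 g
    show W4c6brauerbgmalle.toQmodZ (w g) = (0 : Additive G →+ W4c6brauerbgmalle.QmodZ) (Additive.ofMul g)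
    rw [AddMonoidHom.zero_apply, hn, QuotientAddGroup.mk'_apply, QuotientAddGroup.eq_zero_iff]
    exact AddSubgroup.mem_zmultiples_iff.2 ⟨n, by simp⟩
  · rintro n ⟨χ, w⟩ hp hn hnp
    rw [mem_picOrb_iff] at hp
    obtain ⟨-, -, -, h4⟩ := hp
    have h4a : ∀ g : G, g ∈ C → W4c6brauerbgmalle.toQmodZ (w g) = χ (Additive.ofMul g) := h4
    have hw : w = 0 := by
      funext g
      have hg : n • w g = 0 := by
        have := congrFun (congrArg Prod.snd hnp) g
        exact this
      rw [nsmul_eq_mul] at hg
      rcases mul_eq_zero.1 hg with h' | h'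
      · exact absurd (Nat.cast_eq_zero.1 h') hn
      · exact h'
    have hχ : χ = 0 := key χ 0 (fun g hg => by
      rw [← h4a g hg, hw]; simp)
    rw [hχ, hw]; rfl

end Groth.Agent.S18951
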