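import Groth.Statements.S18952
import Mathlib

set_option autoImplicit false
universe u
open OrbPic

namespace Groth.Agent.S18952

open W4c6brauerbgmalle in
theorem mem_picOrb_iff {G : Type u} [Group G] (C : Set G)
    (p : (Additive G →+ QmodZ) × (G → ℚ)) :
    p ∈ picOrb G C ↔ (p.2 1 = 0 ∧ (∀ g : G, g ∉ C → p.2 g = 0) ∧
      (∀ g h : G, p.2 (h * g * h⁻¹) = p.2 g) ∧
      ∀ g : G, g ∈ C → toQmodZ (p.2 g) = p.1 (Additive.ofMul g)) := Iff.rfl

open W4c6brauerbgmalle in
theorem mem_intWeights_iff {G : Type u} [Group G] (C : Set G) (w : G → ℚ) :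
    w ∈ intWeights G C ↔ (w 1 = 0 ∧ (∀ g : G, g ∉ C → w g = 0) ∧
      (∀ g h : G, w (h * g * h⁻¹) = w g) ∧ ∀ g : G, ∃ n : ℤ, w g = n) := Iff.rfl

/-- Let G be a group and C ⊆ G a subset stable under conjugation. Then (χ, w) ↦ χ maps the group of
geometric partial orbifold line bundles with respect to C onto all characters G → ℚ/ℤ, and a pair in
its kernel (χ trivial) has w a conjugation-invariant integer-valued function vanishing at 1 and
outside C: with the inclusion of such functions this is the exact sequence 0 → Hom(C/conj, ℤ) → Pic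
→ Hom(G, ℚ/ℤ) → 0 over a separably closed field. (As in the source after a choice of roots of unity,
the group G stands for the geometric points of a tame finite étale group scheme, characters are
homomorphisms to ℚ/ℤ and weights are class functions on G.) -/
theorem result (G : Type u) [Group G] (C : Set G)
    (hC : ∀ g h : G, g ∈ C → h * g * h⁻¹ ∈ C) :
    (∀ χ : Additive G →+ W4c6brauerbgmalle.QmodZ, ∃ w : G → ℚ, (χ, w) ∈ W4c6brauerbgmalle.picOrb G C) ∧
      (∀ p : (Additive G →+ W4c6brauerbgmalle.QmodZ) × (G → ℚ), p ∈ W4c6brauerbgmalle.picOrb G C → p.1 = 0 →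
        p.2 ∈ W4c6brauerbgmalle.intWeights G C) := by
  classical
  refine ⟨fun χ => ?_, ?_⟩
  · have hCiff : ∀ g h : G, h * g * h⁻¹ ∈ C ↔ g ∈ C := by
      intro g h
      refine ⟨fun hg => ?_, fun hg => hC g h hg⟩
      have := hC (h * g * h⁻¹) h⁻¹ hg
      have e : h⁻¹ * (h * g * h⁻¹) * h⁻¹⁻¹ = g := by group
      rwa [e] at this
    have hχconj : ∀ g h : G, χ (Additive.ofMul (h * g * h⁻¹)) = χ (Additive.ofMul g) := by
      intro g h
      rw [ofMul_mul, ofMul_mul, ofMul_inv, map_add, map_add, map_neg]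
      abel
    have h1iff : ∀ g h : G, h * g * h⁻¹ = 1 ↔ g = 1 := by
      intro g h
      constructor
      · intro e
        have e' : g = h⁻¹ * (h * g * h⁻¹) * h := by group
        rw [e', e]; group
      · rintro rfl; group
    refine ⟨fun g => if g ∈ C ∧ g ≠ 1 then Quotient.out (χ (Additive.ofMul g)) else 0, ?_⟩
    rw [mem_picOrb_iff]
    refine ⟨?_, ?_, ?_, ?_⟩
    · show (if (1:G) ∈ C ∧ (1:G) ≠ 1 then Quotient.out (χ (Additive.ofMul (1:G))) else (0:ℚ)) = 0
      rw [if_neg]; exact fun h => h.2 rfl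
    · intro g hg
      show (if g ∈ C ∧ g ≠ 1 then Quotient.out (χ (Additive.ofMul g)) else (0:ℚ)) = 0
      rw [if_neg]; exact fun h => hg h.1
    · intro g h
      show (if h * g * h⁻¹ ∈ C ∧ h * g * h⁻¹ ≠ 1 then
          Quotient.out (χ (Additive.ofMul (h * g * h⁻¹))) else (0:ℚ)) =
        (if g ∈ C ∧ g ≠ 1 then Quotient.out (χ (Additive.ofMul g)) else 0)
      rw [hχconj g h]
      by_cases hg : g ∈ C ∧ g ≠ 1
      · rw [if_pos hg, if_pos]
        exact ⟨(hCiff g h).2 hg.1, fun e => hg.2 ((h1iff g h).1 e)⟩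
      · rw [if_neg hg, if_neg]
        rintro ⟨h1, h2⟩
        exact hg ⟨(hCiff g h).1 h1, fun e => h2 ((h1iff g h).2 e)⟩
    · intro g hg
      show W4c6brauerbgmalle.toQmodZ (if g ∈ C ∧ g ≠ 1 then Quotient.out (χ (Additive.ofMul g)) else 0) =
        χ (Additive.ofMul g)
      by_cases h1 : g = 1
      · rw [if_neg (fun h => h.2 h1), map_zero, h1, ofMul_one, map_zero]
      · rw [if_pos ⟨hg, h1⟩, QuotientAddGroup.mk'_apply]
        exact QuotientAddGroup.out_eq' _
  · rintro ⟨χ, w⟩ hp hχ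
    rw [mem_picOrb_iff] at hp
    obtain ⟨h1, h2, h3, h4⟩ := hp
    have hχ' : χ = 0 := hχ
    subst hχ'
    show w ∈ W4c6brauerbgmalle.intWeights G C
    rw [mem_intWeights_iff]
    refine ⟨h1, h2, h3, fun g => ?_⟩
    by_cases hg : g ∈ C
    · have h0 : W4c6brauerbgmalle.toQmodZ (w g) = 0 := h4 g hg
      rw [QuotientAddGroup.mk'_apply, QuotientAddGroup.eq_zero_iff] at h0
      obtain ⟨k, hk⟩ := AddSubgroup.mem_zmultiples_iff.1 h0
      refine ⟨k, ?_⟩
      rw [← hk]; simp
    · exact ⟨0, by rw [show w g = 0 from h2 g hg]; simp⟩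

end Groth.Agent.S18952
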