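import Groth.Statements.S18953
import Mathlib

set_option autoImplicit false
universe u v
open OrbPic

namespace Groth.Agent.S18953

open W4c6brauerbgmalle in
theorem mem_picOrb_iff {G : Type u} [Group G] (C : Set G)
    (p : (Additive G →+ QmodZ) × (G → ℚ)) :
    p ∈ picOrb G C ↔ (p.2 1 = 0 ∧ (∀ g : G, g ∉ C → p.2 g = 0) ∧
      (∀ g h : G, p.2 (h * g * h⁻¹) = p.2 g) ∧
      ∀ g : G, g ∈ C → toQmodZ (p.2 g) = p.1 (Additive.ofMul g)) := Iff.rfl

theorem conj_eq_one_iff {G : Type u} [Group G] (g h : G) : h * g * h⁻¹ = 1 ↔ g = 1 := by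
  constructor
  · intro e
    have e' : g = h⁻¹ * (h * g * h⁻¹) * h := by group
    rw [e', e]; group
  · rintro rfl; group

/-- Let G₁ and G₂ be groups with subsets C₁ ⊆ G₁ and C₂ ⊆ G₂, and let C ⊆ G₁ × G₂ be the union of C₁ ×
{1} and {1} × C₂. Restricting the character and the weight along the two inclusions G₁ → G₁ × G₂ and
G₂ → G₁ × G₂ is a bijection from the geometric partial orbifold line bundles of G₁ × G₂ with respect
to C onto pairs of geometric partial orbifold line bundles of G₁ with respect to C₁ and of G₂ with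
respect to C₂. (As in the source after a choice of roots of unity, each group stands for the
geometric points of a tame finite étale group scheme, characters are homomorphisms to ℚ/ℤ and
weights are class functions; the source states the Galois-equivariant version, which follows by
taking invariants.) -/
theorem result (G₁ : Type u) (G₂ : Type v) [Group G₁] [Group G₂] (C₁ : Set G₁) (C₂ : Set G₂) :
    Set.BijOn
      (fun p : (Additive (G₁ × G₂) →+ W4c6brauerbgmalle.QmodZ) × (G₁ × G₂ → ℚ) =>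
        ((p.1.comp (MonoidHom.toAdditive (MonoidHom.inl G₁ G₂)), fun g => p.2 (g, 1)),
          (p.1.comp (MonoidHom.toAdditive (MonoidHom.inr G₁ G₂)), fun g => p.2 (1, g))))
      (W4c6brauerbgmalle.picOrb (G₁ × G₂) ((fun g => (g, (1 : G₂))) '' C₁ ∪ (fun g => ((1 : G₁), g)) '' C₂))
      ((W4c6brauerbgmalle.picOrb G₁ C₁ : Set _) ×ˢ (W4c6brauerbgmalle.picOrb G₂ C₂ : Set _)) := by
  classical
  refine ⟨?_, ?_, ?_⟩
  · -- MapsTo
    rintro ⟨χ, w⟩ hp
    rw [SetLike.mem_coe, mem_picOrb_iff] at hp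
    obtain ⟨h1, h2, h3, h4⟩ := hp
    have h1 : w (1, 1) = 0 := h1
    have h2 : ∀ g : G₁ × G₂, g ∉ ((fun g => (g, (1 : G₂))) '' C₁ ∪ (fun g => ((1 : G₁), g)) '' C₂) →
        w g = 0 := h2
    have h3 : ∀ g h : G₁ × G₂, w (h * g * h⁻¹) = w g := h3
    have h4 : ∀ g : G₁ × G₂, g ∈ ((fun g => (g, (1 : G₂))) '' C₁ ∪ (fun g => ((1 : G₁), g)) '' C₂) →
        W4c6brauerbgmalle.toQmodZ (w g) = χ (Additive.ofMul g) := h4
    refine Set.mem_prod.2 ⟨?_, ?_⟩
    · rw [SetLike.mem_coe, mem_picOrb_iff]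
      refine ⟨h1, fun g hg => ?_, fun g h => ?_, fun g hg => ?_⟩
      · show w (g, 1) = 0
        by_cases hg1 : g = 1
        · rw [hg1]; exact h1
        · apply h2
          rintro (⟨a, ha, hae⟩ | ⟨b, hb, hbe⟩)
          · have : a = g := (Prod.mk.inj hae).1
            exact hg (this ▸ ha)
          · have : (1 : G₁) = g := (Prod.mk.inj hbe).1
            exact hg1 this.symm
      · show w (h * g * h⁻¹, 1) = w (g, 1)
        have := h3 (g, 1) (h, 1)
        have e : ((h, 1) * (g, 1) * (h, 1)⁻¹ : G₁ × G₂) = (h * g * h⁻¹, 1) := by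
          ext <;> simp
        rw [e] at this; exact this
      · exact h4 (g, 1) (Or.inl ⟨g, hg, rfl⟩)
    · rw [SetLike.mem_coe, mem_picOrb_iff]
      refine ⟨h1, fun g hg => ?_, fun g h => ?_, fun g hg => ?_⟩
      · show w (1, g) = 0
        by_cases hg1 : g = 1
        · rw [hg1]; exact h1
        · apply h2
          rintro (⟨a, ha, hae⟩ | ⟨b, hb, hbe⟩)
          · have : (1 : G₂) = g := (Prod.mk.inj hae).2
            exact hg1 this.symm
          · have : b = g := (Prod.mk.inj hbe).2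
            exact hg (this ▸ hb)
      · show w (1, h * g * h⁻¹) = w (1, g)
        have := h3 (1, g) (1, h)
        have e : ((1, h) * (1, g) * (1, h)⁻¹ : G₁ × G₂) = (1, h * g * h⁻¹) := by
          ext <;> simp
        rw [e] at this; exact this
      · exact h4 (1, g) (Or.inr ⟨g, hg, rfl⟩)
  · -- InjOn
    rintro ⟨χ, w⟩ hp ⟨χ', w'⟩ hp' heq
    rw [SetLike.mem_coe, mem_picOrb_iff] at hp hp'
    obtain ⟨-, h2, -, -⟩ := hp
    obtain ⟨-, h2', -, -⟩ := hp'
    have h2 : ∀ g : G₁ × G₂, g ∉ ((fun g => (g, (1 : G₂))) '' C₁ ∪ (fun g => ((1 : G₁), g)) '' C₂) →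
        w g = 0 := h2
    have h2' : ∀ g : G₁ × G₂, g ∉ ((fun g => (g, (1 : G₂))) '' C₁ ∪ (fun g => ((1 : G₁), g)) '' C₂) →
        w' g = 0 := h2'
    have e1 : ∀ g : G₁, χ (Additive.ofMul (g, 1)) = χ' (Additive.ofMul (g, 1)) := fun g =>
      DFunLike.congr_fun (congrArg (fun q => q.1.1) heq) (Additive.ofMul g)
    have e2 : ∀ g : G₁, w (g, 1) = w' (g, 1) := fun g =>
      congrFun (congrArg (fun q => q.1.2) heq) g
    have e3 : ∀ g : G₂, χ (Additive.ofMul (1, g)) = χ' (Additive.ofMul (1, g)) := fun g =>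
      DFunLike.congr_fun (congrArg (fun q => q.2.1) heq) (Additive.ofMul g)
    have e4 : ∀ g : G₂, w (1, g) = w' (1, g) := fun g =>
      congrFun (congrArg (fun q => q.2.2) heq) g
    have hχ : χ = χ' := by
      apply AddMonoidHom.ext
      intro a
      obtain ⟨g, rfl⟩ := Additive.ofMul.surjective a
      obtain ⟨g₁, g₂⟩ := g
      have hg : ((g₁, g₂) : G₁ × G₂) = (g₁, 1) * (1, g₂) := by
        ext <;> simp
      rw [hg, ofMul_mul, map_add, map_add, e1, e3]
    have hw : w = w' := by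
      funext g
      by_cases hg : g ∈ ((fun g => (g, (1 : G₂))) '' C₁ ∪ (fun g => ((1 : G₁), g)) '' C₂)
      · rcases hg with ⟨a, -, rfl⟩ | ⟨b, -, rfl⟩
        · exact e2 a
        · exact e4 b
      · rw [h2 g hg, h2' g hg]
    rw [hχ, hw]
  · -- SurjOn
    rintro ⟨⟨χ₁, w₁⟩, ⟨χ₂, w₂⟩⟩ hq
    obtain ⟨hq1, hq2⟩ := Set.mem_prod.1 hq
    rw [SetLike.mem_coe, mem_picOrb_iff] at hq1 hq2
    obtain ⟨a1, a2, a3, a4⟩ := hq1
    obtain ⟨b1, b2, b3, b4⟩ := hq2
    have a1 : w₁ 1 = 0 := a1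
    have a2 : ∀ g : G₁, g ∉ C₁ → w₁ g = 0 := a2
    have a3 : ∀ g h : G₁, w₁ (h * g * h⁻¹) = w₁ g := a3
    have a4 : ∀ g : G₁, g ∈ C₁ → W4c6brauerbgmalle.toQmodZ (w₁ g) = χ₁ (Additive.ofMul g) := a4
    have b1 : w₂ 1 = 0 := b1
    have b2 : ∀ g : G₂, g ∉ C₂ → w₂ g = 0 := b2
    have b3 : ∀ g h : G₂, w₂ (h * g * h⁻¹) = w₂ g := b3
    have b4 : ∀ g : G₂, g ∈ C₂ → W4c6brauerbgmalle.toQmodZ (w₂ g) = χ₂ (Additive.ofMul g) := b4
    let χ : Additive (G₁ × G₂) →+ W4c6brauerbgmalle.QmodZ :=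
      χ₁.comp (MonoidHom.toAdditive (MonoidHom.fst G₁ G₂)) +
        χ₂.comp (MonoidHom.toAdditive (MonoidHom.snd G₁ G₂))
    have hχ : ∀ (g₁ : G₁) (g₂ : G₂), χ (Additive.ofMul (g₁, g₂)) =
        χ₁ (Additive.ofMul g₁) + χ₂ (Additive.ofMul g₂) := fun _ _ => rfl
    let w : G₁ × G₂ → ℚ := fun g => if g.2 = 1 then w₁ g.1 else if g.1 = 1 then w₂ g.2 else 0
    have hw : ∀ (g₁ : G₁) (g₂ : G₂), w (g₁, g₂) =
        if g₂ = 1 then w₁ g₁ else if g₁ = 1 then w₂ g₂ else 0 := fun _ _ => rfl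
    refine ⟨(χ, w), ?_, ?_⟩
    · rw [SetLike.mem_coe, mem_picOrb_iff]
      refine ⟨?_, ?_, ?_, ?_⟩
      · show w (1, 1) = 0
        rw [hw, if_pos rfl]; exact a1
      · rintro ⟨g₁, g₂⟩ hg
        show w (g₁, g₂) = 0
        rw [hw]
        by_cases e2 : g₂ = 1
        · rw [if_pos e2]
          apply a2
          intro hg1
          exact hg (Or.inl ⟨g₁, hg1, by rw [e2]⟩)
        · rw [if_neg e2]
          by_cases e1 : g₁ = 1
          · rw [if_pos e1]
            apply b2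
            intro hg2
            exact hg (Or.inr ⟨g₂, hg2, by rw [e1]⟩)
          · rw [if_neg e1]
      · rintro ⟨g₁, g₂⟩ ⟨k₁, k₂⟩
        show w (k₁ * g₁ * k₁⁻¹, k₂ * g₂ * k₂⁻¹) = w (g₁, g₂)
        rw [hw, hw, a3 g₁ k₁, b3 g₂ k₂]
        have c1 : (k₁ * g₁ * k₁⁻¹ = 1) = (g₁ = 1) := propext (conj_eq_one_iff g₁ k₁)
        have c2 : (k₂ * g₂ * k₂⁻¹ = 1) = (g₂ = 1) := propext (conj_eq_one_iff g₂ k₂)
        simp only [c1, c2]
      · rintro ⟨g₁, g₂⟩ hg
        show W4c6brauerbgmalle.toQmodZ (w (g₁, g₂)) = χ (Additive.ofMul (g₁, g₂))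
        rw [hw, hχ]
        rcases hg with ⟨a, ha, hae⟩ | ⟨b, hb, hbe⟩
        · obtain ⟨ea, e1⟩ := Prod.mk.inj hae
          subst ea
          subst e1
          rw [if_pos rfl, a4 a ha, ofMul_one, map_zero, add_zero]
        · obtain ⟨e1, eb⟩ := Prod.mk.inj hbe
          subst eb
          subst e1
          by_cases hb1 : b = 1
          · rw [if_pos hb1, a1, hb1]; simp
          · rw [if_neg hb1, if_pos rfl, b4 b hb, ofMul_one, map_zero, zero_add]
    · have e1 : χ.comp (MonoidHom.toAdditive (MonoidHom.inl G₁ G₂)) = χ₁ := by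
        apply AddMonoidHom.ext
        intro a
        obtain ⟨g, rfl⟩ := Additive.ofMul.surjective a
        show χ (Additive.ofMul (g, 1)) = χ₁ (Additive.ofMul g)
        rw [hχ, ofMul_one, map_zero, add_zero]
      have e3 : χ.comp (MonoidHom.toAdditive (MonoidHom.inr G₁ G₂)) = χ₂ := by
        apply AddMonoidHom.ext
        intro a
        obtain ⟨g, rfl⟩ := Additive.ofMul.surjective a
        show χ (Additive.ofMul (1, g)) = χ₂ (Additive.ofMul g)
        rw [hχ, ofMul_one, map_zero, zero_add]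
      have e2 : (fun g => w (g, 1)) = w₁ := by
        funext g
        rw [hw, if_pos rfl]
      have e4 : (fun g => w (1, g)) = w₂ := by
        funext g
        rw [hw]
        by_cases hg : g = 1
        · rw [if_pos hg, hg, a1, b1]
        · rw [if_neg hg, if_pos rfl]
      show ((χ.comp (MonoidHom.toAdditive (MonoidHom.inl G₁ G₂)), fun g => w (g, 1)),
          (χ.comp (MonoidHom.toAdditive (MonoidHom.inr G₁ G₂)), fun g => w (1, g))) =
        ((χ₁, w₁), (χ₂, w₂))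
      rw [e1, e2, e3, e4]

end Groth.Agent.S18953
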