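import Groth.Statements.S18954
import Mathlib

set_option autoImplicit false
universe u v w
open Classical
open BGCount

namespace Groth.Agent.S18954

/-- Let a finite group G act on a finite set X, let W be a finite set of orbits and f a function on
orbits with values in a field of characteristic zero. Then Σ_{O ∈ W} f(O)/|Stab(x_O)|, with x_O any
point of O, equals |G|⁻¹ · Σ f(orbit(x)) over the points x of X whose orbit lies in W. (In the
source X is the set of 1-cocycles of the absolute Galois group of a field in a finite étale group
scheme G, acted on by the geometric points of G, the orbits are the isomorphism classes of G-torsors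
and the stabilisers their automorphism groups; stated here for an arbitrary action of a finite group
on a finite set, the representative x_O being chosen by Quotient.out.) -/
theorem result {G : Type u} {X : Type v} (𝕜 : Type w)
    [Group G] [Fintype G] [MulAction G X] [Fintype X] [Field 𝕜] [CharZero 𝕜]
    (W : Finset (MulAction.orbitRel.Quotient G X)) (f : MulAction.orbitRel.Quotient G X → 𝕜) :
    (∑ O ∈ W, f O / (Nat.card (MulAction.stabilizer G O.out) : 𝕜)) =
      (Fintype.card G : 𝕜)⁻¹ *
        ∑ x ∈ Finset.univ.filter (fun x : X => (Quotient.mk (MulAction.orbitRel G X) x) ∈ W),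
          f (Quotient.mk (MulAction.orbitRel G X) x) := by
  classical
  set q : X → MulAction.orbitRel.Quotient G X := Quotient.mk (MulAction.orbitRel G X) with hq
  have hGne : ((Fintype.card G : ℕ) : 𝕜) ≠ 0 := Nat.cast_ne_zero.2 Fintype.card_ne_zero
  have hfib : ∑ x ∈ Finset.univ.filter (fun x : X => q x ∈ W), f (q x)
      = ∑ O ∈ W, ∑ x ∈ (Finset.univ.filter (fun x : X => q x ∈ W)).filter (fun x => q x = O), f O := by
    rw [Finset.sum_fiberwise_of_maps_to' (g := q) (fun x hx => (Finset.mem_filter.1 hx).2) f]
  rw [hfib, Finset.mul_sum]
  refine Finset.sum_congr rfl (fun O hO => ?_)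
  rw [Finset.sum_const]
  have hmem : ∀ x : X, x ∈ (Finset.univ.filter (fun x : X => q x ∈ W)).filter (fun x => q x = O) ↔
      x ∈ MulAction.orbit G O.out := by
    intro x
    rw [Finset.mem_filter, Finset.mem_filter]
    constructor
    · rintro ⟨_, hx⟩
      have h1 : q x = q O.out := by rw [hx, hq]; exact (Quotient.out_eq O).symm
      exact (MulAction.orbitRel_apply).1 (Quotient.exact h1)
    · intro hx
      have h1 : q x = q O.out := Quotient.sound ((MulAction.orbitRel_apply).2 hx)
      have h2 : q O.out = O := Quotient.out_eq O
      have h3 : q x = O := h1.trans h2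
      exact ⟨⟨Finset.mem_univ _, by rw [h3]; exact hO⟩, h3⟩
  have hcard : Fintype.card (MulAction.orbit G O.out) =
      ((Finset.univ.filter (fun x : X => q x ∈ W)).filter (fun x => q x = O)).card :=
    Fintype.card_of_subtype _ hmem
  have hos := MulAction.card_orbit_mul_card_stabilizer_eq_card_group G O.out
  rw [hcard] at hos
  rw [Nat.card_eq_fintype_card]
  set N := ((Finset.univ.filter (fun x : X => q x ∈ W)).filter (fun x => q x = O)).card with hN
  set S := Fintype.card (MulAction.stabilizer G O.out) with hS
  have hNS : (N : 𝕜) * (S : 𝕜) = ((Fintype.card G : ℕ) : 𝕜) := by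
    rw [← hos]; push_cast; rfl
  have hSne : (S : 𝕜) ≠ 0 := by
    intro h
    rw [h, mul_zero] at hNS
    exact hGne hNS.symm
  have hNne : (N : 𝕜) ≠ 0 := by
    intro h
    rw [h, zero_mul] at hNS
    exact hGne hNS.symm
  rw [nsmul_eq_mul, ← hNS]
  field_simp

end Groth.Agent.S18954
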