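import Groth.Statements.S18960
import Mathlib

set_option autoImplicit false
universe w' w v u
open CategoryTheory Limits
open CatLim

namespace Groth.Agent.S18960

section CatLimAux

variable {C : Type u} [Category.{v} C] (T : C ⥤ C)

/-- the property "structure map is an isomorphism" -/
abbrev PIso : ObjectProperty (Endofunctor.Algebra T) :=
  fun A : Endofunctor.Algebra T => IsIso A.str

variable {J : Type w} [Category.{w'} J] (K : J ⥤ (PIso T).FullSubcategory)
  (c : Cocone (K ⋙ (PIso T).ι ⋙ Endofunctor.Algebra.forget T))

/-- underlying objects -/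
abbrev ob (j : J) : C := (K.obj j).obj.a

/-- structure maps -/
abbrev st (j : J) : T.obj (ob T K j) ⟶ ob T K j := (K.obj j).obj.str

/-- transition maps -/
abbrev tr {j j' : J} (φ : j ⟶ j') : ob T K j ⟶ ob T K j' := (K.map φ).hom.f

instance instIsIsoSt (j : J) : IsIso (st T K j) := (K.obj j).property

/-- cocone legs with clean types -/
def inj (j : J) : ob T K j ⟶ c.pt := c.ι.app j

lemma inj_w {j j' : J} (φ : j ⟶ j') : tr T K φ ≫ inj T K c j' = inj T K c j := c.w φ

lemma st_nat {j j' : J} (φ : j ⟶ j') :
    T.map (tr T K φ) ≫ st T K j' = st T K j ≫ tr T K φ := (K.map φ).hom.h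

/-- cocone of structure maps -/
def strCocone : Cocone ((K ⋙ (PIso T).ι ⋙ Endofunctor.Algebra.forget T) ⋙ T) where
  pt := c.pt
  ι :=
    { app := fun j => (st T K j ≫ inj T K c j : T.obj (ob T K j) ⟶ c.pt)
      naturality := fun j j' φ => by
        show T.map (tr T K φ) ≫ (st T K j' ≫ inj T K c j') = (st T K j ≫ inj T K c j) ≫ 𝟙 c.pt
        rw [Category.comp_id, ← Category.assoc, st_nat, Category.assoc, inj_w] }

/-- cocone of inverse structure maps -/
noncomputable def invCocone : Cocone (K ⋙ (PIso T).ι ⋙ Endofunctor.Algebra.forget T) where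
  pt := T.obj c.pt
  ι :=
    { app := fun j => (inv (st T K j) ≫ T.map (inj T K c j) : ob T K j ⟶ T.obj c.pt)
      naturality := fun j j' φ => by
        show tr T K φ ≫ (inv (st T K j') ≫ T.map (inj T K c j')) =
          (inv (st T K j) ≫ T.map (inj T K c j)) ≫ 𝟙 (T.obj c.pt)
        have h2 : tr T K φ ≫ inv (st T K j') = inv (st T K j) ≫ T.map (tr T K φ) := by
          rw [IsIso.comp_inv_eq, Category.assoc, st_nat, IsIso.inv_hom_id_assoc]
        rw [Category.comp_id, ← Category.assoc, h2, Category.assoc, ← T.map_comp, inj_w] }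

variable [PreservesColimitsOfShape J T] (t : IsColimit c)

noncomputable def uMap : T.obj c.pt ⟶ c.pt :=
  (isColimitOfPreserves T t).desc (strCocone T K c)

lemma uMap_fac (j : J) :
    T.map (inj T K c j) ≫ uMap T K c t = st T K j ≫ inj T K c j :=
  (isColimitOfPreserves T t).fac (strCocone T K c) j

noncomputable def vMap : c.pt ⟶ T.obj c.pt := t.desc (invCocone T K c)

lemma vMap_fac (j : J) :
    inj T K c j ≫ vMap T K c t = inv (st T K j) ≫ T.map (inj T K c j) :=
  t.fac (invCocone T K c) j

include t in
lemma T_hom_ext {W : C} (f g : T.obj c.pt ⟶ W)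
    (h : ∀ j, T.map (inj T K c j) ≫ f = T.map (inj T K c j) ≫ g) : f = g :=
  (isColimitOfPreserves T t).hom_ext h

include t in
lemma c_hom_ext {W : C} (f g : c.pt ⟶ W)
    (h : ∀ j, inj T K c j ≫ f = inj T K c j ≫ g) : f = g :=
  t.hom_ext h

lemma u_v : uMap T K c t ≫ vMap T K c t = 𝟙 _ := by
  apply T_hom_ext T K c t
  intro j
  rw [← Category.assoc, uMap_fac, Category.assoc, vMap_fac, IsIso.hom_inv_id_assoc,
    Category.comp_id]

lemma v_u : vMap T K c t ≫ uMap T K c t = 𝟙 _ := by
  apply c_hom_ext T K c t
  intro j
  rw [← Category.assoc, vMap_fac, Category.assoc, uMap_fac, IsIso.inv_hom_id_assoc,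
    Category.comp_id]

/-- the lifted point -/
noncomputable def liftPt : (PIso T).FullSubcategory :=
  ⟨⟨c.pt, uMap T K c t⟩, ⟨⟨vMap T K c t, u_v T K c t, v_u T K c t⟩⟩⟩

/-- the lifted cocone -/
noncomputable def liftCocone : Cocone K where
  pt := liftPt T K c t
  ι :=
    { app := fun j => ObjectProperty.homMk (X := K.obj j) (Y := liftPt T K c t)
        { f := inj T K c j, h := uMap_fac T K c t j }
      naturality := fun j j' φ => by
        apply ObjectProperty.hom_ext
        apply Endofunctor.Algebra.ext
        show tr T K φ ≫ inj T K c j' = inj T K c j ≫ 𝟙 c.pt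
        rw [Category.comp_id, inj_w] }

/-- legs of a competing cocone, clean types -/
def sj (s : Cocone K) (j : J) : ob T K j ⟶ s.pt.obj.a := (s.ι.app j).hom.f

lemma sj_h (s : Cocone K) (j : J) :
    T.map (sj T K s j) ≫ s.pt.obj.str = st T K j ≫ sj T K s j := (s.ι.app j).hom.h

/-- descent map -/
noncomputable def dsc (s : Cocone K) : c.pt ⟶ s.pt.obj.a :=
  t.desc (((PIso T).ι ⋙ Endofunctor.Algebra.forget T).mapCocone s)

lemma dsc_fac (s : Cocone K) (j : J) : inj T K c j ≫ dsc T K c t s = sj T K s j :=
  t.fac (((PIso T).ι ⋙ Endofunctor.Algebra.forget T).mapCocone s) j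

lemma dsc_h (s : Cocone K) :
    T.map (dsc T K c t s) ≫ s.pt.obj.str = uMap T K c t ≫ dsc T K c t s := by
  apply T_hom_ext T K c t
  intro j
  rw [← Category.assoc, ← T.map_comp, dsc_fac, sj_h, ← Category.assoc, uMap_fac, Category.assoc,
    dsc_fac]

noncomputable def liftIsColimit : IsColimit (liftCocone T K c t) where
  desc s := ObjectProperty.homMk (X := liftPt T K c t) (Y := s.pt)
    { f := dsc T K c t s, h := dsc_h T K c t s }
  fac s j := by
    apply ObjectProperty.hom_ext
    apply Endofunctor.Algebra.ext
    exact dsc_fac T K c t s j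
  uniq s m hm := by
    apply ObjectProperty.hom_ext
    apply Endofunctor.Algebra.ext
    apply t.uniq (((PIso T).ι ⋙ Endofunctor.Algebra.forget T).mapCocone s) m.hom.f
    intro j
    have := congrArg (fun g => g.hom.f) (hm j)
    exact this

noncomputable def liftsAux :
    LiftsToColimit K ((PIso T).ι ⋙ Endofunctor.Algebra.forget T) c t where
  liftedCocone := liftCocone T K c t
  validLift := Cocone.ext (Iso.refl _) (fun _ => Category.comp_id _)
  makesColimit := liftIsColimit T K c t

end CatLimAux

/-- Let C be a category and T an endofunctor of C; let C(T) be the category whose objects are pairs (X,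
u) with u : T X → X an isomorphism and whose morphisms (X, u) → (Y, w) are the morphisms X → Y
compatible with u and w — the full subcategory of T-algebras with invertible structure map — and let
π : C(T) → C be the forgetful functor. If T preserves colimits of shape J then π creates colimits of
shape J. (The source assumes T preserves all small colimits and concludes for all small shapes; the
argument is shape by shape.) -/
theorem result {C : Type u} [Category.{v} C] (T : C ⥤ C)
    (J : Type w) [Category.{w'} J] [PreservesColimitsOfShape J T] :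
    Nonempty (CreatesColimitsOfShape J
      ((ObjectProperty.ι (fun A : Endofunctor.Algebra T => IsIso A.str)) ⋙ Endofunctor.Algebra.forget T)) := by
  exact ⟨{ CreatesColimit := fun {K} => createsColimitOfReflectsIso (fun c t => liftsAux T K c t) }⟩

end Groth.Agent.S18960
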