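import Groth.Statements.S19005
import Mathlib

set_option autoImplicit false
open scoped TensorProduct
open K2Cent

namespace Groth.Agent.S19005

/-- For abelian groups X and M and ε in M with 2ε = 0 (in the source X is the character group of a split
torus and ε is the class of −1 among the units), the map x ↦ (x ⊗ x, −(x ⊗ ε)) into (X ⊗ X) × (X ⊗
M) is quadratic over ℤ, i.e. it underlies an integer quadratic map with exactly these values. -/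
theorem result (X M : Type*) [AddCommGroup X]
    [AddCommGroup M] (ε : M) (hε : 2 • ε = 0) :
    ∃ R : QuadraticMap ℤ X (TensorProduct ℤ X X × TensorProduct ℤ X M),
      ∀ x : X, R x = (x ⊗ₜ[ℤ] x, -(x ⊗ₜ[ℤ] ε)) := by
  have hε' : ε + ε = 0 := by rw [← two_nsmul]; exact hε
  have ht : ∀ x : X, x ⊗ₜ[ℤ] ε + x ⊗ₜ[ℤ] ε = (0 : TensorProduct ℤ X M) := by
    intro x
    rw [← TensorProduct.tmul_add, hε', TensorProduct.tmul_zero]
  refine ⟨{ toFun := fun x => (x ⊗ₜ[ℤ] x, -(x ⊗ₜ[ℤ] ε)), toFun_smul := ?_,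
            exists_companion' := ?_ }, fun x => rfl⟩
  · intro a x
    apply Prod.ext
    · show (a • x) ⊗ₜ[ℤ] (a • x) = (a * a) • (x ⊗ₜ[ℤ] x)
      rw [TensorProduct.smul_tmul_smul]
    · show -((a • x) ⊗ₜ[ℤ] ε) = (a * a) • (-(x ⊗ₜ[ℤ] ε))
      obtain ⟨k, hk⟩ := Int.even_mul_pred_self a
      have h1 : (a * a - a) • (x ⊗ₜ[ℤ] ε) = (0 : TensorProduct ℤ X M) := by
        have h2 : a * a - a = k + k := by rw [← hk]; ring
        rw [h2, add_smul, ← smul_add, ht, smul_zero]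
      rw [sub_smul, sub_eq_zero] at h1
      rw [smul_neg, h1, TensorProduct.smul_tmul']
  · refine ⟨LinearMap.mk₂ ℤ (fun x y => (x ⊗ₜ[ℤ] y + y ⊗ₜ[ℤ] x, (0 : TensorProduct ℤ X M)))
      ?_ ?_ ?_ ?_, ?_⟩
    · intro x₁ x₂ y
      apply Prod.ext
      · show (x₁ + x₂) ⊗ₜ[ℤ] y + y ⊗ₜ[ℤ] (x₁ + x₂)
          = (x₁ ⊗ₜ[ℤ] y + y ⊗ₜ[ℤ] x₁) + (x₂ ⊗ₜ[ℤ] y + y ⊗ₜ[ℤ] x₂)
        rw [TensorProduct.add_tmul, TensorProduct.tmul_add]; abel
      · show (0 : TensorProduct ℤ X M) = 0 + 0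
        rw [add_zero]
    · intro c x y
      apply Prod.ext
      · show (c • x) ⊗ₜ[ℤ] y + y ⊗ₜ[ℤ] (c • x) = c • (x ⊗ₜ[ℤ] y + y ⊗ₜ[ℤ] x)
        rw [smul_add, TensorProduct.smul_tmul', TensorProduct.tmul_smul]
      · show (0 : TensorProduct ℤ X M) = c • 0
        rw [smul_zero]
    · intro x y₁ y₂
      apply Prod.ext
      · show x ⊗ₜ[ℤ] (y₁ + y₂) + (y₁ + y₂) ⊗ₜ[ℤ] x
          = (x ⊗ₜ[ℤ] y₁ + y₁ ⊗ₜ[ℤ] x) + (x ⊗ₜ[ℤ] y₂ + y₂ ⊗ₜ[ℤ] x)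
        rw [TensorProduct.add_tmul, TensorProduct.tmul_add]; abel
      · show (0 : TensorProduct ℤ X M) = 0 + 0
        rw [add_zero]
    · intro c x y
      apply Prod.ext
      · show x ⊗ₜ[ℤ] (c • y) + (c • y) ⊗ₜ[ℤ] x = c • (x ⊗ₜ[ℤ] y + y ⊗ₜ[ℤ] x)
        rw [smul_add, TensorProduct.tmul_smul, ← TensorProduct.smul_tmul']
      · show (0 : TensorProduct ℤ X M) = c • 0
        rw [smul_zero]
    · intro x y
      apply Prod.ext
      · show (x + y) ⊗ₜ[ℤ] (x + y)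
          = x ⊗ₜ[ℤ] x + y ⊗ₜ[ℤ] y + (x ⊗ₜ[ℤ] y + y ⊗ₜ[ℤ] x)
        rw [TensorProduct.add_tmul, TensorProduct.tmul_add, TensorProduct.tmul_add]; abel
      · show -((x + y) ⊗ₜ[ℤ] ε) = -(x ⊗ₜ[ℤ] ε) + -(y ⊗ₜ[ℤ] ε) + 0
        rw [TensorProduct.add_tmul, neg_add, add_zero]

end Groth.Agent.S19005
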