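import Groth.Statements.S19007
import Groth.Agent.Lib.RootDZ2_helper8
import Mathlib.LinearAlgebra.QuadraticForm.Basic
import Mathlib.Tactic.LinearCombination

set_option autoImplicit false
universe u v w x
open RootD

namespace Groth.Agent.S19007

/-- Let P be a finite reduced crystallographic root pairing over an integral domain of characteristic
zero, b a base of P (a system of simple roots) and Q a quadratic form on the coweight module with
polar form B. Then Q is invariant under all root reflections (equivalently under the Weyl group) on
the span of the coroots if and only if for all pairs of distinct simple roots α_i ≠ α_j one has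
B(α_i^∨, α_j^∨) = ⟨α_j, α_i^∨⟩ Q(α_j^∨). (In the source the form is integer-valued on the lattice
spanned by the coroots and the condition says that the bilinear form lies in the kernel of the last
map of a three-term complex built from the Bruhat cells of codimension at most two; here the form
takes values in the base ring.) -/
theorem result {ι : Type u} {R : Type v} {M : Type w} {N : Type x} [CommRing R] [IsDomain R] [CharZero R]
    [AddCommGroup M] [Module R M] [AddCommGroup N] [Module R N] (P : RootPairing ι R M N)
    [Finite ι] [P.IsCrystallographic] [P.IsReduced] (b : P.Base) (Q : QuadraticMap R N R) :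
    (∀ i : ι, ∀ y ∈ Submodule.span R (Set.range P.coroot), Q (P.coreflection i y) = Q y) ↔
      ∀ i ∈ b.support, ∀ j ∈ b.support, i ≠ j →
        QuadraticMap.polar Q (P.coroot i) (P.coroot j) = P.pairing j i * Q (P.coroot j) := by
  classical
  set D : Submodule R N := Submodule.span R (Set.range P.coroot) with hD
  have key : ∀ (j : ι) (y : N), Q (P.coreflection j y) - Q y =
      P.root' j y * (P.root' j y * Q (P.coroot j) - QuadraticMap.polar Q y (P.coroot j)) := by
    intro j y
    have h1 : P.coreflection j y = y + (-(P.root' j y)) • P.coroot j := by
      rw [P.coreflection_apply, neg_smul, sub_eq_add_neg]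
    have h2 : Q (y + (-(P.root' j y)) • P.coroot j) =
        Q y + Q ((-(P.root' j y)) • P.coroot j) +
          QuadraticMap.polar Q y ((-(P.root' j y)) • P.coroot j) := by
      unfold QuadraticMap.polar; ring
    rw [h1, h2, QuadraticMap.map_smul, QuadraticMap.polar_smul_right]
    simp only [smul_eq_mul]
    ring
  have hcoroot_mem : ∀ j, P.coroot j ∈ D := fun j => Submodule.subset_span ⟨j, rfl⟩
  have h2R : (2 : R) ≠ 0 := two_ne_zero
  constructor
  · intro h i _ j _ _
    have hy := key j (P.coroot i)
    rw [h j _ (hcoroot_mem i), sub_self] at hy
    have hpair : P.root' j (P.coroot i) = P.pairing j i := rfl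
    rw [← hpair]
    by_cases hc : P.root' j (P.coroot i) = 0
    · have hy' := key j (P.coroot i + P.coroot j)
      rw [h j _ (D.add_mem (hcoroot_mem i) (hcoroot_mem j)), sub_self] at hy'
      have hc' : P.root' j (P.coroot i + P.coroot j) = 2 := by
        rw [map_add, hc, zero_add]
        exact P.root_coroot_two j
      rw [hc', QuadraticMap.polar_add_left, QuadraticMap.polar_self] at hy'
      rcases mul_eq_zero.mp hy'.symm with h3 | h3
      · exact absurd h3 h2R
      · rw [hc, zero_mul]
        simp only [nsmul_eq_mul, Nat.cast_ofNat] at h3
        have : QuadraticMap.polar Q (P.coroot i) (P.coroot j) =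
            2 * Q (P.coroot j) - 2 * Q (P.coroot j) := by
          linear_combination -h3
        rw [this, sub_self]
    · rcases mul_eq_zero.mp hy.symm with h3 | h3
      · exact absurd h3 hc
      · exact (sub_eq_zero.mp h3).symm
  · intro h
    have h1 : ∀ j ∈ b.support, ∀ y ∈ D,
        QuadraticMap.polar Q y (P.coroot j) = P.root' j y * Q (P.coroot j) := by
      intro j hj y hy
      have hspan : D = Submodule.span R (P.coroot '' b.support) := by
        rw [b.span_coroot_support]
      rw [hspan] at hy
      induction hy using Submodule.span_induction with
      | mem x hx =>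
        obtain ⟨i, hi, rfl⟩ := hx
        by_cases hij : i = j
        · subst hij
          rw [QuadraticMap.polar_self]
          have : P.root' i (P.coroot i) = 2 := P.root_coroot_two i
          rw [this]
          simp
        · exact h i hi j hj hij
      | zero => simp [QuadraticMap.polar]
      | add x z _ _ hx hz =>
        rw [QuadraticMap.polar_add_left, hx, hz, map_add, add_mul]
      | smul a x _ hx =>
        rw [QuadraticMap.polar_smul_left, hx, map_smul, smul_eq_mul, smul_eq_mul, mul_assoc]
    have h2 : ∀ j ∈ b.support, ∀ y ∈ D, Q (P.coreflection j y) = Q y := by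
      intro j hj y hy
      have := key j y
      rw [h1 j hj y hy, sub_self, mul_zero] at this
      exact sub_eq_zero.mp this
    have hDinv : ∀ i, ∀ y ∈ D, P.coreflection i y ∈ D := by
      intro i y hy
      rw [P.coreflection_apply]
      exact D.sub_mem hy (D.smul_mem _ (hcoroot_mem i))
    have h3 : ∀ (l : List ι), (∀ a ∈ l, a ∈ b.support) → ∀ j ∈ b.support, ∀ y ∈ D,
        Q (P.coreflection ((l.map P.reflectionPerm).prod j) y) = Q y := by
      intro l
      induction l with
      | nil =>
        intro _ j hj y hy
        simpa using h2 j hj y hy
      | cons a l ih =>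
        intro hl j hj y hy
        rw [List.map_cons, List.prod_cons, Equiv.Perm.mul_apply]
        have hconj : P.coreflection (P.reflectionPerm a ((l.map P.reflectionPerm).prod j)) =
            P.coreflection a * P.coreflection ((l.map P.reflectionPerm).prod j) *
              P.coreflection a :=
          P.flip.reflection_reflectionPerm
        have ha : a ∈ b.support := hl a List.mem_cons_self
        have hl' : ∀ c ∈ l, c ∈ b.support := fun c hc => hl c (List.mem_cons_of_mem _ hc)
        rw [hconj]
        simp only [LinearEquiv.mul_apply]
        rw [h2 a ha _ (hDinv _ _ (hDinv _ _ hy)), ih hl' j hj _ (hDinv _ _ hy), h2 a ha _ hy]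
    intro i y hy
    obtain ⟨l, hl, j, hj, hlj⟩ :=
      Groth.Agent.Lib.RootDZ2_helper8.exists_word_smul_eq (P := P) b i
    rw [← hlj, Groth.Agent.Lib.RootDZ_helper8.wprodR_smul_idx]
    exact h3 l hl j hj y hy

end Groth.Agent.S19007
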