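import Groth.Statements.S19010
import Groth.Agent.Lib.RootDQuad_helper8
import Mathlib.LinearAlgebra.Projection

set_option autoImplicit false
universe u v w x
open RootD

namespace Groth.Agent.S19010

/-- Let P be a root pairing over an integral domain R of characteristic zero (roots α acting on the
coweight module N through reflections y ↦ y − ⟨α, y⟩ α^∨), D ⊆ N a submodule containing every coroot
and such that every element of D has a positive integer multiple in the span of the coroots (the
derived part), and Y₀ a complement of D in N. Let Q' be a quadratic form on N invariant under all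
root reflections. Then restriction to Y₀ is a bijection from the set of quadratic forms on N that
are invariant under all root reflections and agree with Q' on D onto the set of all quadratic forms
on Y₀. (In the source R = ℤ and N = Y₀ ⊕ Y_der is the cocharacter lattice of a split reductive
group; forms take values in R here.) -/
theorem result {ι : Type u} {R : Type v} {M : Type w} {N : Type x} [CommRing R] [IsDomain R] [CharZero R]
    [AddCommGroup M] [Module R M] [AddCommGroup N] [Module R N] (P : RootPairing ι R M N)
    (D Y₀ : Submodule R N) (hD : ∀ i : ι, P.coroot i ∈ D)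
    (hDsat : ∀ y ∈ D, ∃ n : ℕ, 0 < n ∧ n • y ∈ Submodule.span R (Set.range P.coroot))
    (hc : IsCompl Y₀ D)
    (Q' : QuadraticMap R N R) (hQ' : ∀ (i : ι) (y : N), Q' (P.coreflection i y) = Q' y) :
    Set.BijOn (fun Q : QuadraticMap R N R => Q.comp Y₀.subtype)
      {Q | (∀ (i : ι) (y : N), Q (P.coreflection i y) = Q y) ∧ ∀ y ∈ D, Q y = Q' y} Set.univ := by
  classical
  refine ⟨fun _ _ => Set.mem_univ _, ?_, ?_⟩
  · -- injectivity
    rintro Q₁ ⟨hQ₁, hQ₁D⟩ Q₂ ⟨hQ₂, hQ₂D⟩ hres
    have hres' : ∀ y₀ ∈ Y₀, Q₁ y₀ = Q₂ y₀ := by
      intro y₀ hy₀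
      have := congrArg (fun q : QuadraticMap R Y₀ R => q ⟨y₀, hy₀⟩) hres
      simpa using this
    -- the polar forms agree on `N × span coroots`
    have hpol : ∀ (y : N), ∀ d ∈ Submodule.span R (Set.range P.coroot),
        QuadraticMap.polar Q₁ y d = QuadraticMap.polar Q₂ y d := by
      intro y d hd
      induction hd using Submodule.span_induction with
      | mem x hx =>
        obtain ⟨i, rfl⟩ := hx
        rw [Groth.Agent.Lib.RootDQuad_helper8.polar_coroot_of_invariant P Q₁ i (hQ₁ i),
          Groth.Agent.Lib.RootDQuad_helper8.polar_coroot_of_invariant P Q₂ i (hQ₂ i),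
          hQ₁D _ (hD i), hQ₂D _ (hD i)]
      | zero => simp [QuadraticMap.polar]
      | add x z _ _ hx hz =>
        rw [QuadraticMap.polar_add_right, QuadraticMap.polar_add_right, hx, hz]
      | smul a x _ hx =>
        rw [QuadraticMap.polar_smul_right, QuadraticMap.polar_smul_right, hx]
    have hpolD : ∀ (y : N), ∀ d ∈ D,
        QuadraticMap.polar Q₁ y d = QuadraticMap.polar Q₂ y d := by
      intro y d hd
      obtain ⟨n, hn, hnd⟩ := hDsat d hd
      have h := hpol y _ hnd
      have e1 : ∀ Q : QuadraticMap R N R, QuadraticMap.polar Q y (n • d) =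
          (n : R) * QuadraticMap.polar Q y d := by
        intro Q
        rw [← Nat.cast_smul_eq_nsmul R n d, QuadraticMap.polar_smul_right, smul_eq_mul]
      rw [e1, e1] at h
      have hn' : (n : R) ≠ 0 := Nat.cast_ne_zero.mpr hn.ne'
      exact mul_left_cancel₀ hn' h
    ext y
    obtain ⟨y₀, d, rfl, -⟩ := Submodule.existsUnique_add_of_isCompl hc y
    have e : ∀ Q : QuadraticMap R N R, Q ((y₀ : N) + (d : N)) =
        Q y₀ + Q d + QuadraticMap.polar Q (y₀ : N) (d : N) := by
      intro Q; unfold QuadraticMap.polar; ring
    rw [e, e, hres' _ y₀.2, hQ₁D _ d.2, hQ₂D _ d.2, hpolD _ _ d.2]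
  · -- surjectivity
    intro q₀ _
    set π₀ : N →ₗ[R] Y₀ := Y₀.projectionOnto D hc with hπ₀
    refine ⟨Q' + (q₀ - Q'.comp Y₀.subtype).comp π₀, ⟨?_, ?_⟩, ?_⟩
    · intro i y
      have h1 : π₀ (P.coreflection i y) = π₀ y := by
        rw [P.coreflection_apply, map_sub, map_smul,
          Submodule.projectionOnto_apply_of_mem_right hc (hD i), smul_zero, sub_zero]
      simp only [add_apply, QuadraticMap.comp_apply, sub_apply, h1, hQ']
    · intro y hy
      have h1 : π₀ y = 0 := Submodule.projectionOnto_apply_of_mem_right hc hy
      simp only [add_apply, QuadraticMap.comp_apply, sub_apply, h1,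
        QuadraticMap.map_zero, sub_self, add_zero, Submodule.subtype_apply, ZeroMemClass.coe_zero]
    · ext y₀
      have h1 : π₀ (y₀ : N) = y₀ := Submodule.projectionOnto_apply_left hc y₀
      simp only [add_apply, QuadraticMap.comp_apply, sub_apply, h1,
        Submodule.subtype_apply]
      ring

end Groth.Agent.S19010
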