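import Groth.Statements.S19011
import Groth.Agent.Lib.RootDZ2_helper8
import Groth.Agent.Lib.RootDDual_helper8

set_option autoImplicit false
universe u v w x
open RootD

namespace Groth.Agent.S19011

/-- For a finite reduced crystallographic root pairing over an integral domain of characteristic zero,
the additive group generated by the coroots admits the presentation with one generator [β] for each
root β and the relations [s_α(β)] = [β] − ⟨α, β^∨⟩ [α] for all roots α, β, where ⟨α, β^∨⟩ is the
Cartan integer. Concretely: the kernel of the ℤ-linear map from the free abelian group on the index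
type of the roots to the coweight module sending the generator of index β to the coroot β^∨ is the
subgroup generated by the elements [s_α(β)] − [β] + ⟨α, β^∨⟩ [α]. (The source states this for the
cocharacter lattice of a split semi-simple simply connected group, which is the group generated by
the coroots.) -/
theorem result {ι : Type u} {R : Type v} {M : Type w} {N : Type x} [CommRing R] [IsDomain R] [CharZero R]
    [AddCommGroup M] [Module R M] [AddCommGroup N] [Module R N] (P : RootPairing ι R M N)
    [Finite ι] [P.IsCrystallographic] [P.IsReduced] :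
    LinearMap.ker (Finsupp.linearCombination ℤ (fun i : ι => (P.coroot i : N))) =
      Submodule.span ℤ (Set.range fun p : ι × ι =>
        Finsupp.single (P.reflectionPerm p.1 p.2) (1 : ℤ) - Finsupp.single p.2 1 +
          P.pairingIn ℤ p.1 p.2 • Finsupp.single p.1 1) := by
  classical
  have htfN : Module.IsTorsionFree ℤ N := Groth.Agent.Lib.RootDZ_helper8.isTorsionFreeInt P.flip
  set gen : ι × ι → (ι →₀ ℤ) := fun p =>
    Finsupp.single (P.reflectionPerm p.1 p.2) (1 : ℤ) - Finsupp.single p.2 1 +
      P.pairingIn ℤ p.1 p.2 • Finsupp.single p.1 1 with hgen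
  set K := Submodule.span ℤ (Set.range gen) with hK
  -- the generators are relations
  have hKker : K ≤ LinearMap.ker (Finsupp.linearCombination ℤ (fun i : ι => (P.coroot i : N))) := by
    rw [hK, Submodule.span_le]
    rintro - ⟨⟨a, c⟩, rfl⟩
    simp only [hgen, SetLike.mem_coe, LinearMap.mem_ker, map_add, map_sub, map_smul,
      Finsupp.linearCombination_single, one_smul]
    rw [← P.reflectionPerm_coroot a c, ← Int.cast_smul_eq_zsmul R]
    have h := P.algebraMap_pairingIn ℤ a c
    rw [algebraMap_int_eq, eq_intCast] at h
    rw [h]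
    change P.coroot c - P.pairing a c • P.coroot a - P.coroot c + P.pairing a c • P.coroot a = 0
    abel
  refine le_antisymm ?_ hKker
  -- a simple system of the integral form
  obtain ⟨Δ, hΔ⟩ := Groth.Agent.Lib.RootDWeyl_helper8.exists_isSimpleSys
    (Groth.Agent.Lib.RootDZ_helper8.zForm P)
  set SΔ := Finsupp.supported ℤ ℤ Δ with hSΔ
  -- every generator is congruent to a combination of simple ones
  have hstep : ∀ (a : ι) (i' : ι), Finsupp.single i' (1 : ℤ) ∈ K ⊔ SΔ → a ∈ Δ →
      Finsupp.single (P.reflectionPerm a i') (1 : ℤ) ∈ K ⊔ SΔ := by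
    intro a i' hi' ha
    have h1 : Finsupp.single (P.reflectionPerm a i') (1 : ℤ) =
        gen (a, i') + Finsupp.single i' 1 - P.pairingIn ℤ a i' • Finsupp.single a 1 := by
      simp only [hgen]; abel
    rw [h1]
    refine sub_mem (add_mem (Submodule.mem_sup_left (Submodule.subset_span ⟨_, rfl⟩)) hi') ?_
    apply Submodule.smul_mem
    apply Submodule.mem_sup_right
    rw [hSΔ]
    exact Finsupp.single_mem_supported ℤ 1 ha
  have hall : ∀ i : ι, Finsupp.single i (1 : ℤ) ∈ K ⊔ SΔ := by
    intro i
    obtain ⟨g, hg, j, hj, hgj⟩ := Groth.Agent.Lib.RootDGen_helper8.exists_reflGroup_smul_eq hΔ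
      (Groth.Agent.Lib.RootDZ2_helper8.isIndiv_zForm (P := P) i)
    obtain ⟨l, hl, rfl⟩ := Groth.Agent.Lib.RootDWord_helper8.exists_wprod_eq hg
    rw [← hgj]
    clear hgj hg
    induction l with
    | nil =>
      rw [Groth.Agent.Lib.RootDWord_helper8.wprod_nil, one_smul]
      apply Submodule.mem_sup_right
      rw [hSΔ]
      exact Finsupp.single_mem_supported ℤ 1 hj
    | cons a l ih =>
      rw [Groth.Agent.Lib.RootDWord_helper8.wprod_cons, mul_smul]
      exact hstep a _ (ih fun b hb => hl b (List.mem_cons_of_mem _ hb)) (hl a List.mem_cons_self)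
  have htop : K ⊔ SΔ = ⊤ := by
    rw [eq_top_iff]
    intro x _
    induction x using Finsupp.induction_linear with
    | zero => exact zero_mem _
    | add x y hx hy => exact add_mem (hx trivial) (hy trivial)
    | single i a =>
      have : Finsupp.single i a = a • Finsupp.single i (1 : ℤ) := by
        rw [Finsupp.smul_single, smul_eq_mul, mul_one]
      rw [this]
      exact Submodule.smul_mem _ _ (hall i)
  -- linear independence of the simple coroots
  have hli : ∀ y ∈ SΔ, Finsupp.linearCombination ℤ (fun i : ι => (P.coroot i : N)) y = 0 → y = 0 := by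
    intro y hy hy0
    have hli₀ := Groth.Agent.Lib.RootDDual_helper8.linearIndepOn_coroot hΔ
    rw [linearIndepOn_iff] at hli₀
    apply hli₀ y hy
    apply LinearMap.ext
    intro x
    apply FaithfulSMul.algebraMap_injective ℤ R
    rw [Finsupp.linearCombination_apply, Finsupp.sum, LinearMap.sum_apply, map_sum,
      LinearMap.zero_apply, map_zero]
    have h1 := congrArg (fun n => P.toLinearMap (x : M) n) hy0
    simp only [Finsupp.linearCombination_apply, Finsupp.sum, map_sum, map_zero] at h1
    rw [← h1]
    refine Finset.sum_congr rfl fun j _ => ?_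
    rw [LinearMap.smul_apply, smul_eq_mul, map_mul]
    change algebraMap ℤ R (y j) * algebraMap ℤ R (P.coroot'In ℤ j x) = _
    rw [RootPairing.algebraMap_coroot'In_apply, ← Int.cast_smul_eq_zsmul R, map_smul, smul_eq_mul,
      algebraMap_int_eq, eq_intCast]
    rfl
  intro x hx
  have hx' : x ∈ K ⊔ SΔ := htop ▸ Submodule.mem_top
  obtain ⟨k, hk, y, hy, rfl⟩ := Submodule.mem_sup.mp hx'
  have hy0 : Finsupp.linearCombination ℤ (fun i : ι => (P.coroot i : N)) y = 0 := by
    have h1 := LinearMap.mem_ker.mp hx
    have h2 := LinearMap.mem_ker.mp (hKker hk)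
    rw [map_add, h2, zero_add] at h1
    exact h1
  rw [hli y hy hy0, add_zero]
  exact hk

end Groth.Agent.S19011
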