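import Groth.Statements.S19012
import Groth.Agent.S19006
import Mathlib.LinearAlgebra.RootSystem.Irreducible

set_option autoImplicit false
universe u v w x
open RootD

namespace Groth.Agent.S19012

/-- Let P be a finite reduced crystallographic root pairing over a field of characteristic zero which is
irreducible, and b a base. A quadratic form on the coweight module that is invariant under all root
reflections and vanishes on some simple coroot is zero; in other words an invariant form is
determined by its value on a single simple coroot. (The source proves, component by component of the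
Dynkin diagram, that an invariant integer-valued form on the coroot lattice with prescribed value on
the first simple coroot of each component is unique; here the system is irreducible, the coroots
span the coweight module, and forms take values in the base field.) -/
theorem result {ι : Type u} {K : Type v} {M : Type w} {N : Type x} [Field K] [CharZero K]
    [AddCommGroup M] [Module K M] [AddCommGroup N] [Module K N] (P : RootPairing ι K M N)
    [Finite ι] [P.IsCrystallographic] [P.IsReduced] [P.IsIrreducible] (b : P.Base)
    (Q : QuadraticMap K N K) (hQ : ∀ (i : ι) (y : N), Q (P.coreflection i y) = Q y)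
    (i₀ : ι) (hi₀ : i₀ ∈ b.support) (h0 : Q (P.coroot i₀) = 0) : Q = 0 := by
  have hpol : ∀ (j : ι) (y : N),
      QuadraticMap.polar Q y (P.coroot j) = P.root' j y * Q (P.coroot j) := fun j =>
    (Groth.Agent.S19006.result P Q j).mp (hQ j)
  -- the span of the isotropic coroots
  set D₀ : Submodule K N := Submodule.span K {y | ∃ j, Q (P.coroot j) = 0 ∧ y = P.coroot j} with hD₀
  have hinv : ∀ i, D₀ ∈ Module.End.invtSubmodule (P.coreflection i).toLinearMap := by
    intro i
    rw [Module.End.mem_invtSubmodule]
    rw [hD₀, Submodule.span_le]
    rintro _ ⟨j, hj, rfl⟩
    simp only [Submodule.comap_coe, Set.mem_preimage, SetLike.mem_coe]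
    apply Submodule.subset_span
    refine ⟨P.reflectionPerm i j, ?_, ?_⟩
    · rw [P.coroot_reflectionPerm i j, hQ]; exact hj
    · exact (P.coroot_reflectionPerm i j).symm
  have hne : D₀ ≠ ⊥ := by
    intro h
    have : P.coroot i₀ ∈ D₀ := Submodule.subset_span ⟨i₀, h0, rfl⟩
    rw [h, Submodule.mem_bot] at this
    exact P.ne_zero' i₀ this
  have htop : D₀ = ⊤ :=
    RootPairing.IsIrreducible.eq_top_of_invtSubmodule_coreflection D₀ hinv hne
  have hzero : ∀ y d : N, QuadraticMap.polar Q y d = 0 := by
    intro y d
    have hd : d ∈ D₀ := by rw [htop]; trivial
    rw [hD₀] at hd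
    induction hd using Submodule.span_induction with
    | mem x hx =>
      obtain ⟨j, hj, rfl⟩ := hx
      rw [hpol, hj, mul_zero]
    | zero => simp [QuadraticMap.polar]
    | add x z _ _ hx hz => rw [QuadraticMap.polar_add_right, hx, hz, add_zero]
    | smul a x _ hx => rw [QuadraticMap.polar_smul_right, hx, smul_zero]
  ext y
  have h := hzero y y
  rw [QuadraticMap.polar_self] at h
  simp only [zero_apply]
  have h2 : (2 : K) ≠ 0 := two_ne_zero
  simpa [h2] using h

end Groth.Agent.S19012
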