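import Groth.Statements.S19013
import Mathlib
import Groth.Agent.Lib.MilK2_helper4

set_option autoImplicit false
universe u v
open MilnorK

namespace Groth.Agent.S19013

open MilK Groth.Agent.Lib.MilKH4 Groth.Agent.Lib.MilK2H4 in
theorem aux
    (A B : Type u) [CommRing A] [IsDomain A] [IsDiscreteValuationRing A]
    [CommRing B] [IsDomain B] [IsDiscreteValuationRing B] [Algebra A B] [IsLocalHom (algebraMap A B)]
    (E F : Type v) [Field E] [Field F] [Algebra A E] [IsFractionRing A E] [Algebra B F] [IsFractionRing B F]
    [Algebra E F] [Algebra A F] [IsScalarTower A E F] [IsScalarTower A B F]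
    (e : ℕ) (he : Ideal.map (algebraMap A B) (IsLocalRing.maximalIdeal A) = IsLocalRing.maximalIdeal B ^ e)
    (n : ℕ) (dA : MilK.K E (n + 1) →+ MilK.K (IsLocalRing.ResidueField A) n) (hdA : MilK.IsTameSymbol A E n dA)
    (dB : MilK.K F (n + 1) →+ MilK.K (IsLocalRing.ResidueField B) n) (hdB : MilK.IsTameSymbol B F n dB)
    (x : MilK.K E (n + 1)) :
    dB (MilK.map (algebraMap E F) (n + 1) x) =
      e • MilK.map (IsLocalRing.ResidueField.map (algebraMap A B)) n (dA x) := by
  obtain ⟨πA, hπA⟩ := IsDiscreteValuationRing.exists_irreducible A
  obtain ⟨πB, hπB⟩ := IsDiscreteValuationRing.exists_irreducible B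
  obtain ⟨c, hc⟩ : ∃ c : Bˣ, algebraMap A B πA = πB ^ e * (c : B) := by
    have h1 : IsLocalRing.maximalIdeal A = Ideal.span {πA} := hπA.maximalIdeal_eq
    have h2 : IsLocalRing.maximalIdeal B = Ideal.span {πB} := hπB.maximalIdeal_eq
    rw [h1, h2, Ideal.map_span, Set.image_singleton, Ideal.span_singleton_pow,
      Ideal.span_singleton_eq_span_singleton] at he
    obtain ⟨c, hc⟩ := he
    refine ⟨c⁻¹, ?_⟩
    rw [← hc, mul_assoc, Units.mul_inv, mul_one]
  have hunit : ∀ a : Aˣ, Units.map (algebraMap E F : E →* F) (unitToFrac A E a) =
      unitToFrac B F (Units.map (algebraMap A B : A →* B) a) := by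
    intro a
    apply Units.ext
    show algebraMap E F (algebraMap A E (a : A)) = algebraMap B F (algebraMap A B (a : A))
    rw [← IsScalarTower.algebraMap_apply A E F, ← IsScalarTower.algebraMap_apply A B F]
  have hπ : Units.map (algebraMap E F : E →* F) (unitFrac A E πA hπA.ne_zero) =
      unitFrac B F πB hπB.ne_zero ^ (e : ℤ) * unitToFrac B F c := by
    apply Units.ext
    show algebraMap E F (algebraMap A E πA) = _
    rw [← IsScalarTower.algebraMap_apply A E F, IsScalarTower.algebraMap_apply A B F, hc, map_mul,
      map_pow, Units.val_mul, Units.val_zpow_eq_zpow_val, zpow_natCast]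
    rfl
  have hres : ∀ a : Aˣ,
      Units.map (IsLocalRing.ResidueField.map (algebraMap A B) :
        IsLocalRing.ResidueField A →* IsLocalRing.ResidueField B) (unitResidue A a) =
      unitResidue B (Units.map (algebraMap A B : A →* B) a) := by
    intro a
    apply Units.ext
    show IsLocalRing.ResidueField.map (algebraMap A B) (IsLocalRing.residue A (a : A)) =
      IsLocalRing.residue B (algebraMap A B (a : A))
    exact IsLocalRing.ResidueField.map_residue _ _
  obtain ⟨f, hf⟩ : ∃ f : K E (n + 1) →+ K (IsLocalRing.ResidueField B) n,
      ∀ x, f x = dB (MilK.map (algebraMap E F) (n + 1) x) :=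
    ⟨dB.comp (MilK.map (algebraMap E F) (n + 1)), fun x => rfl⟩
  obtain ⟨g, hg⟩ : ∃ g : K E (n + 1) →+ K (IsLocalRing.ResidueField B) n,
      ∀ x, g x = e • MilK.map (IsLocalRing.ResidueField.map (algebraMap A B)) n (dA x) :=
    ⟨e • ((MilK.map (IsLocalRing.ResidueField.map (algebraMap A B)) n).comp dA), fun x => rfl⟩
  have hfg : f = g := by
    apply dvr_hom_ext A E πA hπA n
    · intro w
      rw [hf, hg, map_symbol, hdA πA hπA w, map_symbol]
      have e1 : (fun i => Units.map (algebraMap E F : E →* F)
          ((Fin.cons (unitFrac A E πA hπA.ne_zero) (fun i => unitToFrac A E (w i)) :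
            Fin (n + 1) → Eˣ) i)) =
          Fin.cons (unitFrac B F πB hπB.ne_zero ^ (e : ℤ) * unitToFrac B F c)
            (fun i => unitToFrac B F (Units.map (algebraMap A B : A →* B) (w i))) := by
        funext i
        refine Fin.cases ?_ (fun j => ?_) i
        · simp only [Fin.cons_zero]; exact hπ
        · simp only [Fin.cons_succ]; exact hunit _
      have e2 : (fun i => Units.map (IsLocalRing.ResidueField.map (algebraMap A B) :
          IsLocalRing.ResidueField A →* IsLocalRing.ResidueField B) (unitResidue A (w i))) =
          fun i => unitResidue B (Units.map (algebraMap A B : A →* B) (w i)) :=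
        funext fun i => hres _
      rw [e1, e2, symbol_cons_mul, map_add]
      have e3 : (symbol (Fin.cons (unitFrac B F πB hπB.ne_zero ^ (e : ℤ))
          (fun i => unitToFrac B F (Units.map (algebraMap A B : A →* B) (w i))) :
            Fin (n + 1) → Fˣ) : K F (n + 1)) =
          (e : ℤ) • symbol (Fin.cons (unitFrac B F πB hπB.ne_zero)
            (fun i => unitToFrac B F (Units.map (algebraMap A B : A →* B) (w i))) :
              Fin (n + 1) → Fˣ) := by
        have := symbol_update_zpow (Fin.cons (unitFrac B F πB hπB.ne_zero)
          (fun i => unitToFrac B F (Units.map (algebraMap A B : A →* B) (w i))) :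
            Fin (n + 1) → Fˣ) 0 (unitFrac B F πB hπB.ne_zero) (e : ℤ)
        rw [Fin.update_cons_zero, Fin.update_cons_zero] at this
        exact this
      rw [e3, map_zsmul, hdB πB hπB, natCast_zsmul]
      have e4 : (Fin.cons (unitToFrac B F c)
          (fun i => unitToFrac B F (Units.map (algebraMap A B : A →* B) (w i))) :
            Fin (n + 1) → Fˣ) =
          fun i => unitToFrac B F ((Fin.cons c
            (fun i => Units.map (algebraMap A B : A →* B) (w i)) : Fin (n + 1) → Bˣ) i) := by
        funext i
        refine Fin.cases ?_ (fun j => ?_) i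
        · simp
        · simp
      rw [e4, tame_units B F n dB hdB, add_zero]
    · intro w
      rw [hf, hg, map_symbol, tame_units A E n dA hdA w, map_zero, smul_zero]
      have e1 : (fun i => Units.map (algebraMap E F : E →* F) (unitToFrac A E (w i))) =
          fun i => unitToFrac B F ((fun i => Units.map (algebraMap A B : A →* B) (w i)) i) :=
        funext fun i => hunit _
      rw [e1]
      exact tame_units B F n dB hdB _
  rw [← hf, ← hg, hfg]

/-- Let A ⊆ B be discrete valuation rings, the inclusion being a local homomorphism, with fraction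
fields E ⊆ F compatibly, with the induced homomorphism of residue fields κ(A) → κ(B), and with
ramification index e, the natural number such that the maximal ideal of A generates the e-th power
of the maximal ideal of B. Let ∂_A : K_{n+1}(E) → K_n(κ(A)) and ∂_B : K_{n+1}(F) → K_n(κ(B)) be the
residue maps (tame symbols) on Milnor K-groups. Then for every x in K_{n+1}(E) one has ∂_B(x_F) = e
· (∂_A x)_{κ(B)}, where the subscripts denote the change-of-fields maps along E → F and κ(A) → κ(B).
(The published statement concerns discrete valuations of geometric type on fields finitely generated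
over a base field; it is stated here for an arbitrary pair of discrete valuation rings, which is all
the printed computation uses.) -/
theorem result
    (A B : Type u) [CommRing A] [IsDomain A] [IsDiscreteValuationRing A]
    [CommRing B] [IsDomain B] [IsDiscreteValuationRing B] [Algebra A B] [IsLocalHom (algebraMap A B)]
    (E F : Type v) [Field E] [Field F] [Algebra A E] [IsFractionRing A E] [Algebra B F] [IsFractionRing B F]
    [Algebra E F] [Algebra A F] [IsScalarTower A E F] [IsScalarTower A B F]
    (e : ℕ) (he : Ideal.map (algebraMap A B) (IsLocalRing.maximalIdeal A) = IsLocalRing.maximalIdeal B ^ e)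
    (n : ℕ) (dA : MilK.K E (n + 1) →+ MilK.K (IsLocalRing.ResidueField A) n) (hdA : MilK.IsTameSymbol A E n dA)
    (dB : MilK.K F (n + 1) →+ MilK.K (IsLocalRing.ResidueField B) n) (hdB : MilK.IsTameSymbol B F n dB)
    (x : MilK.K E (n + 1)) :
    dB (MilK.map (algebraMap E F) (n + 1) x) =
      e • MilK.map (IsLocalRing.ResidueField.map (algebraMap A B)) n (dA x) := by
  exact aux A B E F e he n dA hdA dB hdB x

end Groth.Agent.S19013
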