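import Groth.Statements.S19015
import Mathlib
import Groth.Agent.Lib.MilK_helper4

set_option autoImplicit false
universe u v
open MilnorK

namespace Groth.Agent.S19015

open Groth.Agent.Lib.MilKH4 MilK in
theorem aux
    (B : Type u) [CommRing B] [IsDomain B] [IsDiscreteValuationRing B]
    (E F : Type v) [Field E] [Field F] [Algebra B F] [IsFractionRing B F]
    [Algebra E B] [Algebra E F] [IsScalarTower E B F]
    (n : ℕ) (d : MilK.K F (n + 1) →+ MilK.K (IsLocalRing.ResidueField B) n)
    (hd : MilK.IsTameSymbol B F n d)
    (ϖ : B) (hϖ : Irreducible ϖ) (x : MilK.K E n) :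
    d (MilK.cast F (Nat.add_comm 1 n)
        (MilK.mul F 1 n (MilK.symbol ![-MilK.unitFrac B F ϖ hϖ.ne_zero])
          (MilK.map (algebraMap E F) n x))) =
      MilK.map ((IsLocalRing.residue B).comp (algebraMap E B)) n x := by
  have key : d.comp ((MilK.cast F (Nat.add_comm 1 n)).toAddMonoidHom.comp
      ((MilK.mul F 1 n (symbol ![-unitFrac B F ϖ hϖ.ne_zero])).comp
        (MilK.map (algebraMap E F) n))) =
      MilK.map ((IsLocalRing.residue B).comp (algebraMap E B)) n := by
    apply hom_ext
    intro y
    show d (MilK.cast F (Nat.add_comm 1 n) (MilK.mul F 1 n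
        (symbol ![-unitFrac B F ϖ hϖ.ne_zero]) (MilK.map (algebraMap E F) n (symbol y)))) =
      MilK.map ((IsLocalRing.residue B).comp (algebraMap E B)) n (symbol y)
    rw [map_symbol, map_symbol, mul_symbol_symbol, cast_symbol, append_one_comp_cast]
    have hneg : Irreducible (-ϖ) := by
      have h1 : -ϖ = ϖ * (((-1 : Bˣ) : Bˣ) : B) := by simp
      rw [h1]
      exact (irreducible_mul_units (-1 : Bˣ)).2 hϖ
    have e0 : -unitFrac B F ϖ hϖ.ne_zero = unitFrac B F (-ϖ) hneg.ne_zero := by
      apply Units.ext
      show -(algebraMap B F ϖ) = algebraMap B F (-ϖ)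
      exact (map_neg _ _).symm
    have e : (fun i => Units.map ((algebraMap E F : E →+* F) : E →* F) (y i)) =
        fun i => unitToFrac B F (Units.map ((algebraMap E B : E →+* B) : E →* B) (y i)) := by
      funext i
      apply Units.ext
      show algebraMap E F (y i : E) = algebraMap B F (algebraMap E B (y i : E))
      exact IsScalarTower.algebraMap_apply E B F _
    rw [e0, e, hd (-ϖ) hneg]
    congr 1
  exact DFunLike.congr_fun key x

/-- Let B be a discrete valuation ring with fraction field F, residue field κ and uniformizer π, and let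
E be a field with a ring homomorphism into B, hence into F and into κ. Let ∂ : K_{n+1}(F) → K_n(κ)
be the residue map (tame symbol) on Milnor K-groups and s^π(ρ) = ∂({−π} · ρ) the specialization map
attached to π. Then s^π(x_F) = x_κ for every x in K_n(E): the product {−π} · x_F in K_{1+n}(F),
regarded in K_{n+1}(F), has residue the image of x in K_n(κ). (The published statement concerns
discrete valuations of geometric type on fields finitely generated over a base field; it is stated
here for an arbitrary discrete valuation ring, which is all the printed computation uses.) -/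
theorem result
    (B : Type u) [CommRing B] [IsDomain B] [IsDiscreteValuationRing B]
    (E F : Type v) [Field E] [Field F] [Algebra B F] [IsFractionRing B F]
    [Algebra E B] [Algebra E F] [IsScalarTower E B F]
    (n : ℕ) (d : MilK.K F (n + 1) →+ MilK.K (IsLocalRing.ResidueField B) n) (hd : MilK.IsTameSymbol B F n d)
    (ϖ : B) (hϖ : Irreducible ϖ) (x : MilK.K E n) :
    d (MilK.cast F (Nat.add_comm 1 n)
        (MilK.mul F 1 n (MilK.symbol ![-MilK.unitFrac B F ϖ hϖ.ne_zero]) (MilK.map (algebraMap E F) n x))) =
      MilK.map ((IsLocalRing.residue B).comp (algebraMap E B)) n x := by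
  exact aux B E F n d hd ϖ hϖ x

end Groth.Agent.S19015
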