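import Groth.Statements.S19016
import Mathlib
import Groth.Agent.Lib.MilK2_helper4

set_option autoImplicit false
universe u v
open MilnorK

namespace Groth.Agent.S19016

open MilK Groth.Agent.Lib.MilKH4 Groth.Agent.Lib.MilK2H4 in
theorem aux
    (B : Type u) [CommRing B] [IsDomain B] [IsDiscreteValuationRing B]
    (F : Type v) [Field F] [Algebra B F] [IsFractionRing B F] (n : ℕ)
    (d : MilK.K F (n + 1) →+ MilK.K (IsLocalRing.ResidueField B) n) (hd : MilK.IsTameSymbol B F n d)
    (d' : MilK.K F (n + 1 + 1) →+ MilK.K (IsLocalRing.ResidueField B) (n + 1))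
    (hd' : MilK.IsTameSymbol B F (n + 1) d')
    (u : Bˣ) (ρ : MilK.K F (n + 1)) :
    d' (MilK.cast F (Nat.add_comm 1 (n + 1)) (MilK.mul F 1 (n + 1) (MilK.symbol ![MilK.unitToFrac B F u]) ρ)) =
      -(MilK.cast (IsLocalRing.ResidueField B) (Nat.add_comm 1 n)
          (MilK.mul (IsLocalRing.ResidueField B) 1 n (MilK.symbol ![MilK.unitResidue B u]) (d ρ))) := by
  obtain ⟨ϖ, hϖ⟩ := IsDiscreteValuationRing.exists_irreducible B
  obtain ⟨f, hf⟩ : ∃ f : MilK.K F (n + 1) →+ MilK.K (IsLocalRing.ResidueField B) (n + 1),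
      ∀ ρ, f ρ = d' (MilK.cast F (Nat.add_comm 1 (n + 1))
        (MilK.mul F 1 (n + 1) (MilK.symbol ![MilK.unitToFrac B F u]) ρ)) :=
    ⟨d'.comp ((MilK.cast F (Nat.add_comm 1 (n + 1))).toAddMonoidHom.comp
      (MilK.mul F 1 (n + 1) (MilK.symbol ![MilK.unitToFrac B F u]))), fun ρ => rfl⟩
  obtain ⟨g, hg⟩ : ∃ g : MilK.K F (n + 1) →+ MilK.K (IsLocalRing.ResidueField B) (n + 1),
      ∀ ρ, g ρ = -(MilK.cast (IsLocalRing.ResidueField B) (Nat.add_comm 1 n)
          (MilK.mul (IsLocalRing.ResidueField B) 1 n (MilK.symbol ![MilK.unitResidue B u]) (d ρ))) :=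
    ⟨-((MilK.cast (IsLocalRing.ResidueField B) (Nat.add_comm 1 n)).toAddMonoidHom.comp
      ((MilK.mul (IsLocalRing.ResidueField B) 1 n (MilK.symbol ![MilK.unitResidue B u])).comp d)),
      fun ρ => rfl⟩
  have hfg : f = g := by
    apply dvr_hom_ext B F ϖ hϖ n
    · intro w
      rw [hf, hg, mul_symbol_symbol, cast_symbol, append_one_comp_cast, hd ϖ hϖ w,
        mul_symbol_symbol, cast_symbol, append_one_comp_cast, symbol_cons_cons_swap, map_neg]
      congr 1
      have h := hd' ϖ hϖ (Fin.cons u w)
      have e1 : (fun i => unitToFrac B F ((Fin.cons u w : Fin (n + 1) → Bˣ) i)) =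
          Fin.cons (unitToFrac B F u) (fun i => unitToFrac B F (w i)) := by
        funext i
        refine Fin.cases ?_ (fun j => ?_) i
        · simp
        · simp
      have e2 : (fun i => unitResidue B ((Fin.cons u w : Fin (n + 1) → Bˣ) i)) =
          Fin.cons (unitResidue B u) (fun i => unitResidue B (w i)) := by
        funext i
        refine Fin.cases ?_ (fun j => ?_) i
        · simp
        · simp
      rw [e1, e2] at h
      exact h
    · intro w
      rw [hf, hg, tame_units B F n d hd w, map_zero, map_zero, neg_zero, mul_symbol_symbol,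
        cast_symbol, append_one_comp_cast]
      have e1 : (Fin.cons (unitToFrac B F u) (fun i => unitToFrac B F (w i)) :
          Fin (n + 1 + 1) → Fˣ) =
          fun i => unitToFrac B F ((Fin.cons u w : Fin (n + 1 + 1) → Bˣ) i) := by
        funext i
        refine Fin.cases ?_ (fun j => ?_) i
        · simp
        · simp
      rw [e1]
      exact tame_units B F (n + 1) d' hd' _
  rw [← hf, ← hg, hfg]

/-- Let B be a discrete valuation ring with fraction field F and residue field κ, let u be a unit of B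
with residue class ū, and let ∂ denote the residue maps (tame symbols) K_{n+1}(F) → K_n(κ) and
K_{n+2}(F) → K_{n+1}(κ) on Milnor K-groups. Then ∂({u} · ρ) = −{ū} · ∂(ρ) for every ρ in K_{n+1}(F),
the products {u} · ρ in K_{1+(n+1)}(F) and {ū} · ∂ρ in K_{1+n}(κ) being regarded in K_{n+2}(F) and
K_{n+1}(κ). (The published statement concerns discrete valuations of geometric type on fields
finitely generated over a base field; it is stated here for an arbitrary discrete valuation ring,
which is all the printed computation uses.) -/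
theorem result
    (B : Type u) [CommRing B] [IsDomain B] [IsDiscreteValuationRing B]
    (F : Type v) [Field F] [Algebra B F] [IsFractionRing B F] (n : ℕ)
    (d : MilK.K F (n + 1) →+ MilK.K (IsLocalRing.ResidueField B) n) (hd : MilK.IsTameSymbol B F n d)
    (d' : MilK.K F (n + 1 + 1) →+ MilK.K (IsLocalRing.ResidueField B) (n + 1))
    (hd' : MilK.IsTameSymbol B F (n + 1) d')
    (u : Bˣ) (ρ : MilK.K F (n + 1)) :
    d' (MilK.cast F (Nat.add_comm 1 (n + 1)) (MilK.mul F 1 (n + 1) (MilK.symbol ![MilK.unitToFrac B F u]) ρ)) =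
      -(MilK.cast (IsLocalRing.ResidueField B) (Nat.add_comm 1 n)
          (MilK.mul (IsLocalRing.ResidueField B) 1 n (MilK.symbol ![MilK.unitResidue B u]) (d ρ))) := by
  exact aux B F n d hd d' hd' u ρ

end Groth.Agent.S19016
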