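import Groth.Statements.S19019
import Mathlib

set_option autoImplicit false
open scoped ComplexOrder
open Toeplitz

namespace Groth.Agent.S19019

open scoped Matrix

private noncomputable def E (n : ℤ) (y : ℝ) : ℂ := Complex.exp (Complex.I * (n : ℂ) * (y : ℂ))

private noncomputable def fT (m : ℕ) (t : ℤ → ℂ) (y : ℝ) : ℂ :=
  ∑ k ∈ Finset.Ioo (-(m : ℤ)) (m : ℤ), t k * E k y

private noncomputable def Gc {m : ℕ} (x : Fin m → ℂ) (y : ℝ) : ℂ :=
  ∑ i : Fin m, star (x i) * E ((i : ℕ) : ℤ) y

private noncomputable def G {m : ℕ} (x : Fin m → ℂ) (y : ℝ) : ℂ :=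
  ∑ j : Fin m, x j * E (-((j : ℕ) : ℤ)) y

private lemma E_add (a b : ℤ) (y : ℝ) : E (a + b) y = E a y * E b y := by
  unfold E
  rw [← Complex.exp_add]
  congr 1
  push_cast
  ring

private lemma E_zero (y : ℝ) : E 0 y = 1 := by
  unfold E
  simp

private lemma continuous_E (n : ℤ) : Continuous (E n) := by
  have : E n = fun y : ℝ => Complex.exp (Complex.I * (n : ℂ) * (y : ℂ)) := rfl
  rw [this]
  exact Complex.continuous_exp.comp (continuous_const.mul Complex.continuous_ofReal)

private lemma conj_E (n : ℤ) (y : ℝ) : (starRingEnd ℂ) (E n y) = E (-n) y := by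
  unfold E
  rw [← Complex.exp_conj]
  congr 1
  simp only [map_mul, Complex.conj_I, Complex.conj_ofReal, map_intCast]
  push_cast
  ring

private lemma integral_E (n : ℤ) :
    ∫ y in (0:ℝ)..(2 * Real.pi), E n y = if n = 0 then ((2 * Real.pi : ℝ) : ℂ) else 0 := by
  unfold E
  split_ifs with h
  · subst h
    simp
  · have hc : Complex.I * (n : ℂ) ≠ 0 := mul_ne_zero Complex.I_ne_zero (by exact_mod_cast h)
    rw [integral_exp_mul_complex hc]
    have h1 : Complex.exp (Complex.I * (n:ℂ) * ((2 * Real.pi : ℝ) : ℂ)) = 1 := by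
      rw [← Complex.exp_int_mul_two_pi_mul_I n]
      congr 1
      push_cast
      ring
    rw [h1]
    simp

private lemma continuous_fT (m : ℕ) (t : ℤ → ℂ) : Continuous (fT m t) := by
  have : fT m t = fun y : ℝ => ∑ k ∈ Finset.Ioo (-(m : ℤ)) (m : ℤ), t k * E k y := rfl
  rw [this]
  exact continuous_finsetSum _ (fun k _ => continuous_const.mul (continuous_E k))

private lemma continuous_G {m : ℕ} (x : Fin m → ℂ) : Continuous (G x) := by
  have : G x = fun y : ℝ => ∑ j : Fin m, x j * E (-((j : ℕ) : ℤ)) y := rfl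
  rw [this]
  exact continuous_finsetSum _ (fun k _ => continuous_const.mul (continuous_E _))

private lemma Gc_eq {m : ℕ} (x : Fin m → ℂ) (y : ℝ) : Gc x y = (starRingEnd ℂ) (G x y) := by
  unfold Gc G
  rw [map_sum]
  refine Finset.sum_congr rfl (fun j _ => ?_)
  rw [map_mul, conj_E, neg_neg, starRingEnd_apply]

private lemma GcG {m : ℕ} (x : Fin m → ℂ) (y : ℝ) :
    Gc x y * G x y = ((‖G x y‖ ^ 2 : ℝ) : ℂ) := by
  rw [Gc_eq, Complex.conj_mul', Complex.ofReal_pow]

private lemma main_identity (m : ℕ) (t : ℤ → ℂ) (x : Fin m → ℂ) :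
    ∫ y in (0:ℝ)..(2 * Real.pi), fT m t y * (Gc x y * G x y) =
    ((2 * Real.pi : ℝ) : ℂ) *
      ∑ i : Fin m, ∑ j : Fin m, star (x i) * t (((j:ℕ) : ℤ) - ((i:ℕ) : ℤ)) * x j := by
  have hint : ∀ y : ℝ, fT m t y * (Gc x y * G x y) =
      ∑ k ∈ Finset.Ioo (-(m : ℤ)) (m : ℤ), ∑ i : Fin m, ∑ j : Fin m,
        (t k * star (x i) * x j) * E (k + ((i:ℕ):ℤ) + -((j:ℕ):ℤ)) y := by
    intro y
    unfold fT Gc G
    rw [Finset.sum_mul]
    refine Finset.sum_congr rfl (fun k _ => ?_)
    rw [Finset.sum_mul, Finset.mul_sum]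
    refine Finset.sum_congr rfl (fun i _ => ?_)
    rw [Finset.mul_sum, Finset.mul_sum]
    refine Finset.sum_congr rfl (fun j _ => ?_)
    rw [E_add, E_add]
    ring
  simp_rw [hint]
  have hcont : ∀ (c : ℂ) (n : ℤ), Continuous (fun y : ℝ => c * E n y) :=
    fun c n => continuous_const.mul (continuous_E n)
  have hI : ∀ (c : ℂ) (n : ℤ), ∫ y in (0:ℝ)..(2 * Real.pi), c * E n y =
      c * (if n = 0 then ((2 * Real.pi : ℝ) : ℂ) else 0) := by
    intro c n
    rw [intervalIntegral.integral_const_mul, integral_E]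
  have h2 : ∀ k : ℤ, ∫ y in (0:ℝ)..(2 * Real.pi), ∑ i : Fin m, ∑ j : Fin m,
        (t k * star (x i) * x j) * E (k + ((i:ℕ):ℤ) + -((j:ℕ):ℤ)) y =
      ∑ i : Fin m, ∑ j : Fin m, (t k * star (x i) * x j) *
        (if k + ((i:ℕ):ℤ) + -((j:ℕ):ℤ) = 0 then ((2 * Real.pi : ℝ) : ℂ) else 0) := by
    intro k
    rw [intervalIntegral.integral_finsetSum (fun i _ =>
      (continuous_finsetSum _ (fun j _ => hcont _ _)).intervalIntegrable _ _)]
    refine Finset.sum_congr rfl (fun i _ => ?_)
    rw [intervalIntegral.integral_finsetSum (fun j _ => (hcont _ _).intervalIntegrable _ _)]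
    exact Finset.sum_congr rfl (fun j _ => hI _ _)
  rw [intervalIntegral.integral_finsetSum (fun k _ =>
    (continuous_finsetSum _ (fun i _ => continuous_finsetSum _
      (fun j _ => hcont _ _))).intervalIntegrable _ _)]
  rw [Finset.sum_congr rfl (fun k _ => h2 k)]
  rw [Finset.mul_sum]
  refine (Finset.sum_comm.trans ?_)
  refine Finset.sum_congr rfl (fun i _ => ?_)
  rw [Finset.mul_sum]
  refine (Finset.sum_comm.trans ?_)
  refine Finset.sum_congr rfl (fun j _ => ?_)
  rw [Finset.sum_eq_single (((j:ℕ):ℤ) - ((i:ℕ):ℤ))]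
  · rw [if_pos (by ring)]
    ring
  · intro k _ hk
    rw [if_neg, mul_zero]
    intro h
    apply hk
    linarith
  · intro h
    exfalso
    apply h
    rw [Finset.mem_Ioo]
    have := i.isLt
    have := j.isLt
    constructor <;> omega


/-- Let A be an m × m complex Hermitian Toeplitz matrix, with entries A i j = t (j - i) constant along
diagonals, and let f(y) = Σ_{-m < k < m} t k · exp(i k y) be the trigonometric polynomial attached
to it. If f has positive real part at every real y outside a countable set, then A is positive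
definite (hence nondegenerate). (The source also states the mirror case: f negative off a countable
set gives A negative definite, which is this statement for -A.) -/
theorem result
    (m : ℕ) (t : ℤ → ℂ) (A : Matrix (Fin m) (Fin m) ℂ)
    (hA : ∀ i j : Fin m, A i j = t ((j : ℤ) - (i : ℤ))) (hH : A.IsHermitian)
    (hpos : Set.Countable {y : ℝ | ¬ 0 < (∑ k ∈ Finset.Ioo (-(m : ℤ)) (m : ℤ),
        t k * Complex.exp (Complex.I * (k : ℂ) * (y : ℂ))).re}) :
    A.PosDef := by
  classical
  refine Matrix.PosDef.of_dotProduct_mulVec_pos hH (fun x hx => ?_)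
  rw [Complex.pos_iff]
  have him : (star x ⬝ᵥ A *ᵥ x).im = 0 := hH.im_star_dotProduct_mulVec_self x
  refine ⟨?_, him.symm⟩
  have hQ : star x ⬝ᵥ A *ᵥ x =
      ∑ i : Fin m, ∑ j : Fin m, star (x i) * t (((j:ℕ) : ℤ) - ((i:ℕ):ℤ)) * x j := by
    simp only [dotProduct, Matrix.mulVec, Pi.star_apply, Finset.mul_sum]
    refine Finset.sum_congr rfl (fun i _ => Finset.sum_congr rfl (fun j _ => ?_))
    rw [hA]
    ring
  have h2pi : 0 < 2 * Real.pi := Real.two_pi_pos
  have hcontf := continuous_fT m t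
  have hcontG := continuous_G x
  have hcontW : Continuous (fun y : ℝ => ((‖G x y‖ ^ 2 : ℝ) : ℂ)) :=
    Complex.continuous_ofReal.comp (hcontG.norm.pow 2)
  have hmain := main_identity m t x
  simp_rw [GcG] at hmain
  have hre : ∫ y in (0:ℝ)..(2 * Real.pi), (fT m t y).re * ‖G x y‖ ^ 2 =
      2 * Real.pi * (star x ⬝ᵥ A *ᵥ x).re := by
    have h1 := Complex.reCLM.intervalIntegral_comp_comm
      (f := fun y => fT m t y * ((‖G x y‖ ^ 2 : ℝ) : ℂ)) (μ := MeasureTheory.volume)
      (a := 0) (b := 2 * Real.pi) ((hcontf.mul hcontW).intervalIntegrable _ _)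
    rw [hmain] at h1
    simp only [Complex.reCLM_apply, Complex.re_mul_ofReal] at h1
    rw [h1, hQ, Complex.re_ofReal_mul]
  -- positivity of the weight integral
  have hm0 : 0 < m := by
    rcases Nat.eq_zero_or_pos m with h | h
    · subst h
      exfalso
      apply hx
      ext i
      exact i.elim0
    · exact h
  have hW : 0 < ∫ y in (0:ℝ)..(2 * Real.pi), ‖G x y‖ ^ 2 := by
    have h1 := main_identity m (fun k => if k = 0 then 1 else 0) x
    have hf1 : ∀ y, fT m (fun k => if k = 0 then 1 else 0) y = 1 := by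
      intro y
      unfold fT
      rw [Finset.sum_eq_single 0]
      · show (if (0:ℤ) = 0 then (1:ℂ) else 0) * E 0 y = 1
        rw [if_pos rfl, one_mul, E_zero]
      · intro k _ hk
        show (if k = 0 then (1:ℂ) else 0) * E k y = 0
        rw [if_neg hk, zero_mul]
      · intro h
        exfalso
        apply h
        rw [Finset.mem_Ioo]
        constructor <;> omega
    simp_rw [hf1, GcG, one_mul] at h1
    have h2 : ∀ i : Fin m, ∑ j : Fin m, star (x i) *
        (if ((j:ℕ):ℤ) - ((i:ℕ):ℤ) = 0 then (1:ℂ) else 0) * x j = ((‖x i‖ ^ 2 : ℝ) : ℂ) := by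
      intro i
      rw [Finset.sum_eq_single i]
      · rw [if_pos (sub_self _), mul_one]
        have := Complex.conj_mul' (x i)
        rw [starRingEnd_apply] at this
        rw [this, Complex.ofReal_pow]
      · intro j _ hj
        rw [if_neg, mul_zero, zero_mul]
        intro h
        apply hj
        ext
        omega
      · intro h
        exact absurd (Finset.mem_univ i) h
    simp_rw [h2] at h1
    have h4 := Complex.reCLM.intervalIntegral_comp_comm
      (f := fun y => ((‖G x y‖ ^ 2 : ℝ) : ℂ)) (μ := MeasureTheory.volume)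
      (a := 0) (b := 2 * Real.pi) (hcontW.intervalIntegrable _ _)
    rw [h1] at h4
    simp only [Complex.reCLM_apply, Complex.ofReal_re] at h4
    rw [h4, Complex.re_ofReal_mul, ← Complex.ofReal_sum, Complex.ofReal_re]
    apply mul_pos h2pi
    obtain ⟨i₀, hi₀⟩ : ∃ i, x i ≠ 0 := by
      by_contra h
      push Not at h
      exact hx (funext h)
    exact Finset.sum_pos' (fun i _ => sq_nonneg _) ⟨i₀, Finset.mem_univ _, by positivity⟩
  have hZ : MeasureTheory.volume {y : ℝ | ¬ 0 < (fT m t y).re} = 0 := hpos.measure_zero _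
  have hnn : 0 ≤ᵐ[MeasureTheory.volume] fun y => (fT m t y).re * ‖G x y‖ ^ 2 := by
    have : ∀ᵐ y ∂MeasureTheory.volume, 0 < (fT m t y).re := by
      rw [MeasureTheory.ae_iff]
      exact hZ
    filter_upwards [this] with y hy
    show (0:ℝ) ≤ (fT m t y).re * ‖G x y‖ ^ 2
    exact mul_nonneg hy.le (sq_nonneg _)
  have hWsupp := (intervalIntegral.integral_pos_iff_support_of_nonneg_ae
    (Filter.Eventually.of_forall (fun y => sq_nonneg ‖G x y‖))
    ((hcontG.norm.pow 2).intervalIntegrable _ _)).mp hW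
  have hposint : 0 < ∫ y in (0:ℝ)..(2 * Real.pi), (fT m t y).re * ‖G x y‖ ^ 2 := by
    rw [intervalIntegral.integral_pos_iff_support_of_nonneg_ae hnn
      (((Complex.continuous_re.comp hcontf).mul (hcontG.norm.pow 2)).intervalIntegrable _ _)]
    refine ⟨h2pi, ?_⟩
    have hsub : (Function.support (fun y => ‖G x y‖ ^ 2) ∩ Set.Ioc 0 (2 * Real.pi)) \
        {y : ℝ | ¬ 0 < (fT m t y).re} ⊆
        Function.support (fun y => (fT m t y).re * ‖G x y‖ ^ 2) ∩ Set.Ioc 0 (2 * Real.pi) := by
      rintro y ⟨⟨hy1, hy2⟩, hy3⟩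
      refine ⟨?_, hy2⟩
      simp only [Set.mem_ofPred_eq, not_not] at hy3
      rw [Function.mem_support] at hy1 ⊢
      exact mul_ne_zero hy3.ne' hy1
    calc (0 : ENNReal) < MeasureTheory.volume
          (Function.support (fun y => ‖G x y‖ ^ 2) ∩ Set.Ioc 0 (2 * Real.pi)) := hWsupp.2
      _ = MeasureTheory.volume ((Function.support (fun y => ‖G x y‖ ^ 2) ∩
            Set.Ioc 0 (2 * Real.pi)) \ {y : ℝ | ¬ 0 < (fT m t y).re}) :=
          (MeasureTheory.measure_sdiff_null hZ).symm
      _ ≤ _ := MeasureTheory.measure_mono hsub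
  rw [hre] at hposint
  exact (mul_pos_iff_of_pos_left h2pi).mp hposint

end Groth.Agent.S19019
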