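import Groth.Statements.S19020
import Mathlib.Data.Nat.Choose.Vandermonde
import Mathlib.Algebra.BigOperators.Fin
import Mathlib.Algebra.BigOperators.Intervals
import Mathlib.Algebra.BigOperators.NatAntidiagonal
import Mathlib.Algebra.Order.Star.Real
import Mathlib.Tactic.Ring
import Mathlib.Tactic.Linarith

set_option autoImplicit false
open Toeplitz

namespace Groth.Agent.S19020

/-- signed binomial coefficient -/
noncomputable def c (n a : ℕ) : ℝ := (-1) ^ a * (n.choose a : ℝ)

lemma choose_conv (n d : ℕ) :
    ∑ t ∈ Finset.range (n + 1), (n.choose (d + t)) * (n.choose t) = (2 * n).choose (n + d) := by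
  have hV := Nat.add_choose_eq n n (n + d)
  rw [Finset.Nat.sum_antidiagonal_eq_sum_range_succ (fun a b => n.choose a * n.choose b)] at hV
  calc ∑ t ∈ Finset.range (n + 1), n.choose (d + t) * n.choose t
      = ∑ j ∈ Finset.range (n + 1), n.choose (d + (n + 1 - 1 - j)) * n.choose (n + 1 - 1 - j) :=
        (Finset.sum_range_reflect (fun t => n.choose (d + t) * n.choose t) (n + 1)).symm
    _ = ∑ j ∈ Finset.range (n + 1), n.choose j * n.choose (n + d - j) := by
        refine Finset.sum_congr rfl (fun j hj => ?_)
        have hj' : j ≤ n := Nat.lt_succ_iff.mp (Finset.mem_range.mp hj)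
        have e1 : d + (n + 1 - 1 - j) = n + d - j := by omega
        have e2 : n + 1 - 1 - j = n - j := by omega
        rw [e1, e2, Nat.choose_symm hj', mul_comm]
    _ = ∑ k ∈ Finset.range (n + d + 1), n.choose k * n.choose (n + d - k) := by
        refine Finset.sum_subset (Finset.range_mono (by omega)) (fun k _ hk => ?_)
        have : n < k := by
          rw [Finset.mem_range] at hk; omega
        rw [Nat.choose_eq_zero_of_lt this, zero_mul]
    _ = (2 * n).choose (n + d) := by rw [two_mul, hV]

lemma gram (n m i j : ℕ) (hij : i ≤ j) (hj : j < m) :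
    ∑ r ∈ Finset.range (m + n),
        (if i ≤ r then c n (r - i) else 0) * (if j ≤ r then c n (r - j) else 0)
      = (-1) ^ (i + j) * ((2 * n).choose (n + (j - i)) : ℝ) := by
  have hsub : Finset.Ico j (j + (n + 1)) ⊆ Finset.range (m + n) := by
    intro r hr
    rw [Finset.mem_Ico] at hr
    rw [Finset.mem_range]; omega
  rw [← Finset.sum_subset hsub ?_, Finset.sum_Ico_eq_sum_range, Nat.add_sub_cancel_left]
  · have hterm : ∀ t ∈ Finset.range (n + 1),
        (if i ≤ j + t then c n (j + t - i) else 0) * (if j ≤ j + t then c n (j + t - j) else 0)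
          = (-1 : ℝ) ^ (i + j) * ((n.choose (j - i + t) * n.choose t : ℕ) : ℝ) := by
      intro t _
      have h1 : i ≤ j + t := by omega
      have h2 : j ≤ j + t := by omega
      have e1 : j + t - i = j - i + t := by omega
      have e2 : j + t - j = t := by omega
      rw [if_pos h1, if_pos h2, e1, e2]
      unfold c
      have key : (-1 : ℝ) ^ (j - i + t) * (-1) ^ t = (-1) ^ (i + j) := by
        rw [← pow_add, neg_one_pow_eq_pow_mod_two (j - i + t + t),
          neg_one_pow_eq_pow_mod_two (i + j)]
        congr 1; omega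
      calc (-1 : ℝ) ^ (j - i + t) * (n.choose (j - i + t) : ℝ) * ((-1) ^ t * (n.choose t : ℝ))
          = ((-1 : ℝ) ^ (j - i + t) * (-1) ^ t)
              * ((n.choose (j - i + t) : ℝ) * (n.choose t : ℝ)) := by ring
        _ = _ := by rw [key]; push_cast; ring
    rw [Finset.sum_congr rfl hterm, ← Finset.mul_sum, ← Nat.cast_sum, choose_conv]
  · intro r _ hr
    rw [Finset.mem_Ico, not_and_or] at hr
    by_cases hjr : j ≤ r
    · rw [if_pos hjr]
      have : n < r - j := by omega
      simp [c, Nat.choose_eq_zero_of_lt this]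
    · rw [if_neg hjr, mul_zero]

/-- the rectangular factor -/
noncomputable def Lmat (n m : ℕ) : Matrix (Fin (m + n)) (Fin m) ℝ :=
  Matrix.of fun r j => if (j : ℕ) ≤ (r : ℕ) then c n ((r : ℕ) - (j : ℕ)) else 0

lemma Lmat_apply (n m : ℕ) (r : Fin (m + n)) (j : Fin m) :
    Lmat n m r j = if (j : ℕ) ≤ (r : ℕ) then c n ((r : ℕ) - (j : ℕ)) else 0 := rfl

lemma gramFin (n m : ℕ) (i j : Fin m) :
    ∑ r : Fin (m + n), Lmat n m r i * Lmat n m r j
      = (-1) ^ ((i : ℕ) + (j : ℕ)) * ((2 * n).choose (n + Nat.dist i j) : ℝ) := by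
  refine (Fin.sum_univ_eq_sum_range (fun r => (if (i : ℕ) ≤ r then c n (r - i) else 0)
      * (if (j : ℕ) ≤ r then c n (r - j) else 0)) (m + n)).trans ?_
  rcases le_total (i : ℕ) (j : ℕ) with hij | hij
  · rw [gram n m i j hij j.2, Nat.dist_eq_sub_of_le hij]
  · have h := gram n m j i hij i.2
    rw [Finset.sum_congr rfl (fun r _ => mul_comm _ _), h, Nat.dist_eq_sub_of_le_right hij,
      add_comm]

lemma Lmat_inj (n m : ℕ) : Function.Injective (Lmat n m).mulVec := by
  intro x y hxy
  have hz : (Lmat n m).mulVec (x - y) = 0 := by rw [Matrix.mulVec_sub, hxy, sub_self]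
  have hz' : ∀ (N : ℕ) (k : Fin m), (k : ℕ) = N → (x - y) k = 0 := by
    intro N
    induction N using Nat.strong_induction_on with
    | _ N ih =>
      intro k hk
      have hr : (k : ℕ) < m + n := by have := k.2; omega
      have h0 := congrFun hz ⟨(k : ℕ), hr⟩
      simp only [Matrix.mulVec, dotProduct, Lmat_apply, Pi.zero_apply] at h0
      rw [Finset.sum_eq_single k] at h0
      · simpa [c] using h0
      · intro j _ hjk
        by_cases hle : (j : ℕ) ≤ (k : ℕ)
        · have hlt : (j : ℕ) < (k : ℕ) := lt_of_le_of_ne hle (fun h => hjk (Fin.ext h))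
          rw [ih (j : ℕ) (hk ▸ hlt) j rfl, mul_zero]
        · rw [if_neg hle, zero_mul]
      · intro h; exact absurd (Finset.mem_univ k) h
  have : x - y = 0 := funext (fun k => hz' _ k rfl)
  exact sub_eq_zero.mp this


/-- For natural numbers n and m, the m × m real Toeplitz matrix with (i, j) entry (-1)^(i+j) · C(2n, n +
|i - j|), i.e. with t_k = (-1)^k C(2n, n + k) on the k-th diagonal for |k| ≤ n and zero beyond, is
positive definite; in particular it is nondegenerate, which is the printed assertion (positive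
definiteness is what the printed proof establishes; m = 0 is the empty matrix). -/
theorem result (n m : ℕ) :
    (Matrix.of fun i j : Fin m =>
        (-1 : ℝ) ^ ((i : ℕ) + (j : ℕ)) * (Nat.choose (2 * n) (n + Nat.dist i j) : ℝ)).PosDef := by
  have hT : (Matrix.of fun i j : Fin m =>
        (-1 : ℝ) ^ ((i : ℕ) + (j : ℕ)) * (Nat.choose (2 * n) (n + Nat.dist i j) : ℝ))
      = (Lmat n m).conjTranspose * Lmat n m := by
    ext i j
    simp only [Matrix.mul_apply, Matrix.conjTranspose_apply, Matrix.of_apply, star_trivial]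
    exact (gramFin n m i j).symm
  rw [hT]
  exact Matrix.PosDef.conjTranspose_mul_self (Lmat n m) (Lmat_inj n m)

end Groth.Agent.S19020
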