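import Groth.Statements.S19021
import Groth.Agent.S19020
import Mathlib.LinearAlgebra.Matrix.ToLinearEquiv
import Mathlib.Tactic.Ring
import Mathlib.Tactic.Linarith

set_option autoImplicit false
open Toeplitz

namespace Groth.Agent.S19021

/-- the integer Toeplitz matrix of the statement -/
def Tmat (n m : ℕ) : Matrix (Fin m) (Fin m) ℤ :=
  Matrix.of fun i j : Fin m =>
    (-1 : ℤ) ^ ((i : ℕ) + (j : ℕ)) *
      (if (j : ℕ) ≤ (i : ℕ) then (Nat.choose (2 * n + 1) (n + 1 + ((i : ℕ) - (j : ℕ))) : ℤ)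
        else (Nat.choose (2 * n + 1) (n + ((j : ℕ) - (i : ℕ))) : ℤ))

lemma Tmat_apply (n m : ℕ) (i j : Fin m) : Tmat n m i j =
    (-1 : ℤ) ^ ((i : ℕ) + (j : ℕ)) *
      (if (j : ℕ) ≤ (i : ℕ) then (Nat.choose (2 * n + 1) (n + 1 + ((i : ℕ) - (j : ℕ))) : ℤ)
        else (Nat.choose (2 * n + 1) (n + ((j : ℕ) - (i : ℕ))) : ℤ)) := rfl

lemma pascal (n d : ℕ) :
    (2 * (n + 1)).choose (n + 1 + d) = (2 * n + 1).choose (n + d) + (2 * n + 1).choose (n + 1 + d) := by
  have e1 : 2 * (n + 1) = (2 * n + 1) + 1 := by ring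
  have e2 : n + 1 + d = (n + d) + 1 := by ring
  rw [e1, e2, Nat.choose_succ_succ']

/-- the symmetrisation of `Tmat n m` is the positive definite matrix of S19020 for `n + 1`. -/
lemma sym_eq (n m : ℕ) :
    (Matrix.of fun i j : Fin m =>
        (-1 : ℝ) ^ ((i : ℕ) + (j : ℕ)) * (Nat.choose (2 * (n + 1)) (n + 1 + Nat.dist i j) : ℝ))
      = (Tmat n m).map (fun x => (x : ℝ)) + ((Tmat n m).map (fun x => (x : ℝ))).transpose := by
  ext i j
  simp only [Matrix.add_apply, Matrix.transpose_apply, Matrix.map_apply, Matrix.of_apply,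
    Tmat_apply]
  rcases lt_trichotomy (i : ℕ) (j : ℕ) with h | h | h
  · have h1 : ¬ (j : ℕ) ≤ (i : ℕ) := by omega
    have h2 : (i : ℕ) ≤ (j : ℕ) := by omega
    rw [if_neg h1, if_pos h2, Nat.dist_eq_sub_of_le h2, add_comm (j : ℕ) (i : ℕ), pascal]
    push_cast
    ring
  · have h1 : (j : ℕ) ≤ (i : ℕ) := by omega
    have h2 : (i : ℕ) ≤ (j : ℕ) := by omega
    rw [if_pos h1, if_pos h2, Nat.dist_eq_sub_of_le h2, add_comm (j : ℕ) (i : ℕ), pascal]
    have e : (j : ℕ) - (i : ℕ) = 0 := by omega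
    have e' : (i : ℕ) - (j : ℕ) = 0 := by omega
    rw [e, e', add_zero, add_zero, Nat.choose_symm_half]
    push_cast
    ring
  · have h1 : (j : ℕ) ≤ (i : ℕ) := by omega
    have h2 : ¬ (i : ℕ) ≤ (j : ℕ) := by omega
    rw [if_pos h1, if_neg h2, Nat.dist_eq_sub_of_le_right h1, add_comm (j : ℕ) (i : ℕ), pascal]
    push_cast
    ring


/-- For natural numbers n and m, the m × m integer Toeplitz matrix with (i, j) entry (-1)^(i+j) ·
C(2n+1, n+1+i-j) (the binomial coefficient being 0 outside the range 0 ≤ n+1+i-j ≤ 2n+1;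
equivalently s_k = (-1)^k C(2n+1, n+k+1) on the diagonal i - j = k for -n-1 ≤ k ≤ n and zero beyond)
is nondegenerate: its determinant is nonzero (m = 0 is the empty matrix, of determinant 1). -/
theorem result (n m : ℕ) :
    (Matrix.of fun i j : Fin m =>
        (-1 : ℤ) ^ ((i : ℕ) + (j : ℕ)) *
          (if (j : ℕ) ≤ (i : ℕ) then (Nat.choose (2 * n + 1) (n + 1 + ((i : ℕ) - (j : ℕ))) : ℤ)
            else (Nat.choose (2 * n + 1) (n + ((j : ℕ) - (i : ℕ))) : ℤ))).det ≠ 0 := by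
  change (Tmat n m).det ≠ 0
  intro hdet
  have hdetr : ((Tmat n m).map (fun x => (x : ℝ))).det = 0 := by
    rw [← Int.cast_det, hdet, Int.cast_zero]
  obtain ⟨v, hv0, hv⟩ := Matrix.exists_mulVec_eq_zero_iff.mpr hdetr
  have hM := Groth.Agent.S19020.result (n + 1) m
  rw [sym_eq] at hM
  have hpos := hM.dotProduct_mulVec_pos hv0
  rw [Matrix.add_mulVec, hv, Matrix.mulVec_transpose, dotProduct_add, dotProduct_zero, zero_add,
    star_trivial, dotProduct_comm, ← Matrix.dotProduct_mulVec, hv, dotProduct_zero] at hpos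
  exact lt_irrefl _ hpos

end Groth.Agent.S19021
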