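import Groth.Statements.S19025
import Mathlib

set_option autoImplicit false
universe u
open HigherRestr

namespace Groth.Agent.S19025

theorem aux (S : Type u) [CommRing S] (I : Ideal S) (g₀ g₁ : S) (hg : g₁ - g₀ ∈ I)
    (N : ℕ) (y : ℕ → S)
    (hy : ∀ i : ℕ, 1 ≤ i → i ≤ N → (fwdDiff (1 : ℕ))^[N - i] y i ∈ I ^ (N - i)) :
    g₀ ^ N * (fwdDiff (1 : ℕ))^[N] y 0 -
        (fwdDiff (1 : ℕ))^[N] (fun j : ℕ => g₀ ^ (N - j) * g₁ ^ j * y j) 0 ∈ I ^ N := by
  classical
  obtain ⟨E, hE⟩ : ∃ E : Module.End S (ℕ → S), ∀ (u : ℕ → S) (j : ℕ), E u j = u (j + 1) :=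
    ⟨LinearMap.funLeft S S (fun j => j + 1), fun u j => rfl⟩
  have hEpow : ∀ (k : ℕ) (u : ℕ → S) (j : ℕ), (E ^ k) u j = u (j + k) := by
    intro k
    induction k with
    | zero => intro u j; simp
    | succ k ih =>
      intro u j
      rw [pow_succ, Module.End.mul_apply, ih, hE, add_assoc]
  obtain ⟨D, hD⟩ : ∃ D : Module.End S (ℕ → S), D = E - 1 := ⟨_, rfl⟩
  have hDfun : ∀ u : ℕ → S, D u = fwdDiff (1 : ℕ) u := by
    intro u; funext j
    rw [hD, LinearMap.sub_apply, Module.End.one_apply, Pi.sub_apply, hE]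
    rfl
  have hDpow : ∀ (k : ℕ) (u : ℕ → S), (D ^ k) u = (fwdDiff (1 : ℕ))^[k] u := by
    intro k
    induction k with
    | zero => intro u; simp
    | succ k ih =>
      intro u
      rw [pow_succ, Module.End.mul_apply, ih, hDfun, Function.iterate_succ_apply]
  have hsmulpow : ∀ (a : S) (F : Module.End S (ℕ → S)) (k : ℕ) (u : ℕ → S) (j : ℕ),
      ((a • F) ^ k) u j = a ^ k * (F ^ k) u j := by
    intro a F k u j
    rw [smul_pow, LinearMap.smul_apply, Pi.smul_apply, smul_eq_mul]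
  have hterm : ∀ (X Y : Module.End S (ℕ → S)) (m k c : ℕ) (u : ℕ → S) (j : ℕ),
      (X ^ m * Y ^ k * (c : Module.End S (ℕ → S))) u j = c * ((X ^ m) ((Y ^ k) u) j) := by
    intro X Y m k c u j
    rw [Module.End.mul_apply, Module.End.mul_apply, Module.End.natCast_apply, map_nsmul,
      map_nsmul, Pi.smul_apply, nsmul_eq_mul]
  obtain ⟨δ, hδ⟩ : ∃ δ, δ = g₁ - g₀ := ⟨_, rfl⟩
  have hT : g₁ • E + (-g₀) • (1 : Module.End S (ℕ → S)) = δ • E + g₀ • D := by
    rw [hD, hδ]; module
  have hc1 : Commute (g₁ • E) ((-g₀) • (1 : Module.End S (ℕ → S))) :=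
    (Commute.one_right _).smul_right _
  have hc2 : Commute (δ • E) (g₀ • D) := by
    have : Commute E D := by rw [hD]; exact (Commute.refl E).sub_right (Commute.one_right E)
    exact (this.smul_left δ).smul_right g₀
  have hpow : (g₁ • E + (-g₀) • (1 : Module.End S (ℕ → S))) ^ N = (δ • E + g₀ • D) ^ N := by
    rw [hT]
  rw [hc1.add_pow, hc2.add_pow] at hpow
  have heval := congrFun (LinearMap.congr_fun hpow y) 0
  rw [LinearMap.sum_apply, LinearMap.sum_apply, Finset.sum_apply, Finset.sum_apply] at heval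
  simp only [hterm, hsmulpow, hEpow, hDpow, one_pow, Module.End.one_apply, zero_add] at heval
  have hz : (fwdDiff (1 : ℕ))^[N] (fun j : ℕ => g₀ ^ (N - j) * g₁ ^ j * y j) 0 =
      ∑ m ∈ Finset.range (N + 1), (N.choose m : S) * (g₁ ^ m * ((-g₀) ^ (N - m) * y m)) := by
    rw [fwdDiff_iter_eq_sum_shift]
    apply Finset.sum_congr rfl
    intro m _
    rw [zsmul_eq_mul, zero_add, smul_eq_mul, mul_one, neg_pow g₀]
    push_cast
    ring
  rw [hz, heval, Finset.sum_range_succ']
  simp only [Nat.choose_zero_right, Nat.cast_one, pow_zero, one_mul, Nat.sub_zero]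
  have hcancel : ∀ a b : S, a - (b + a) = -b := fun a b => by ring
  rw [hcancel]
  apply (Ideal.neg_mem_iff _).mpr
  apply Ideal.sum_mem
  intro m hm
  have hmN : m + 1 ≤ N := Finset.mem_range.mp hm
  have h1 : δ ^ (m + 1) ∈ I ^ (m + 1) := Ideal.pow_mem_pow (hδ ▸ hg) _
  have h2 := hy (m + 1) (Nat.le_add_left 1 m) hmN
  have h3 : δ ^ (m + 1) * (fwdDiff (1 : ℕ))^[N - (m + 1)] y (m + 1) ∈ I ^ N := by
    have : I ^ N = I ^ (m + 1) * I ^ (N - (m + 1)) := by
      rw [← pow_add, Nat.add_sub_cancel' hmN]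
    rw [this]; exact Ideal.mul_mem_mul h1 h2
  have : (N.choose (m + 1) : S) * (δ ^ (m + 1) * (g₀ ^ (N - (m + 1)) *
      (fwdDiff (1 : ℕ))^[N - (m + 1)] y (m + 1))) =
      ((N.choose (m + 1) : S) * g₀ ^ (N - (m + 1))) *
        (δ ^ (m + 1) * (fwdDiff (1 : ℕ))^[N - (m + 1)] y (m + 1)) := by ring
  rw [this]
  exact Ideal.mul_mem_left _ _ h3

/-- In abstract form, the estimate its proof establishes. Let S be a commutative ring, I an ideal of S,
g₀ and g₁ elements with g₁ - g₀ ∈ I, N a natural number and y a sequence in S such that, for 1 ≤ i ≤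
N, the (N-i)-fold unit-step forward difference of y taken at i lies in I^(N-i). Then g₀^N times the
N-fold forward difference of y at 0, minus the N-fold forward difference at 0 of the twisted
sequence j ↦ g₀^(N-j) g₁^j y_j, lies in I^N. (In the source S is the ring of functions on an affine
chart of X^n, I the ideal of a pairwise diagonal, g₀ and g₁ the two pullbacks of a transition unit
of L, and y_j the components x_λ along the compositions a₀^(N-j) a₁^j μ; the estimate is what makes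
the higher order restrictions D^l_L well defined on ker D^(l-1)_L independently of the
trivialisation.) -/
theorem result
    (S : Type u) [CommRing S] (I : Ideal S) (g₀ g₁ : S) (hg : g₁ - g₀ ∈ I)
    (N : ℕ) (y : ℕ → S)
    (hy : ∀ i : ℕ, 1 ≤ i → i ≤ N → (fwdDiff (1 : ℕ))^[N - i] y i ∈ I ^ (N - i)) :
    g₀ ^ N * (fwdDiff (1 : ℕ))^[N] y 0 -
        (fwdDiff (1 : ℕ))^[N] (fun j : ℕ => g₀ ^ (N - j) * g₁ ^ j * y j) 0 ∈ I ^ N := by
  exact aux S I g₀ g₁ hg N y hy

end Groth.Agent.S19025
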