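import Groth.Statements.S19033
import Groth.Agent.Lib.LabGraph2_helper3

set_option autoImplicit false
set_option linter.unusedSectionVars false
universe u
open LabGraph Groth.Agent.Lib.LabGraph_helper3 Groth.Agent.Lib.LabGraph2_helper3

namespace Groth.Agent.S19033

variable {V E : Type u} [Fintype V] [Fintype E] [DecidableEq V] [DecidableEq E]

lemma two_abs_le {x b : ℤ} : 2 * |x| ≤ b ↔ -b ≤ 2 * x ∧ 2 * x ≤ b := by
  rw [← abs_le, abs_mul, abs_two]

lemma delta_mul_nonpos (ends : E → V × V) {S T : Finset V} (h : Disjoint S T) (e : E) :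
    delta ends S e * delta ends T e ≤ 0 := by
  unfold delta chi
  by_cases h1 : (ends e).1 ∈ S <;> by_cases h2 : (ends e).2 ∈ S <;>
    by_cases h3 : (ends e).1 ∈ T <;> by_cases h4 : (ends e).2 ∈ T <;>
    simp [h1, h2, h3, h4] <;>
    first | exact absurd h3 (Finset.disjoint_left.mp h h1) | exact absurd h4 (Finset.disjoint_left.mp h h2)

/-- if no edge crosses `Z` then `δ_e(Z) = 0` for all edges. -/
lemma delta_eq_zero_of_cut (ends : E → V × V) (Z : Finset V) (h : cut ends Z = 0) (e : E) :
    delta ends Z e = 0 := by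
  have h1 : Bf ends Z Z = 0 := by rw [← cut_eq_Bf, h]; rfl
  unfold Bf at h1
  have hnn : ∀ e ∈ (Finset.univ : Finset E), 0 ≤ delta ends Z e * delta ends Z e :=
    fun e _ => mul_self_nonneg _
  have := (Finset.sum_eq_zero_iff_of_nonneg hnn).mp h1 e (Finset.mem_univ e)
  exact mul_self_eq_zero.mp this

/-- the twist of an indicator at a vertex, in terms of `chi`. -/
lemma twist_chi_apply (ends : E → V × V) (Z : Finset V) (v : V) :
    twist ends (fun u => if u ∈ Z then (1 : ℤ) else 0) v =
      ∑ e : E, ((if (ends e).1 = v then - delta ends Z e else 0) +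
        (if (ends e).2 = v then delta ends Z e else 0)) := by
  unfold twist delta chi
  refine Finset.sum_congr rfl fun e _ => ?_
  by_cases h1 : (ends e).1 ∈ Z <;> by_cases h2 : (ends e).2 ∈ Z <;> simp [h1, h2]

lemma twist_chi_eq_zero_of_cut (ends : E → V × V) (Z : Finset V) (h : cut ends Z = 0) (v : V) :
    twist ends (fun u => if u ∈ Z then (1 : ℤ) else 0) v = 0 := by
  rw [twist_chi_apply]
  refine Finset.sum_eq_zero fun e _ => ?_
  rw [delta_eq_zero_of_cut ends Z h e]; simp

/-- at a vertex of `Z`, the twist of the indicator of `Z` is nonpositive. -/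
lemma twist_chi_nonpos_of_mem (ends : E → V × V) (Z : Finset V) (v : V) (hv : v ∈ Z) :
    twist ends (fun u => if u ∈ Z then (1 : ℤ) else 0) v ≤ 0 := by
  rw [twist_chi_apply]
  refine Finset.sum_nonpos fun e _ => ?_
  unfold delta chi
  by_cases h1 : (ends e).1 = v <;> by_cases h2 : (ends e).2 = v
  · simp [h1, h2, hv]
  · have : (ends e).1 ∈ Z := h1 ▸ hv
    simp only [h1, h2, if_true, if_false, hv]; split_ifs <;> simp
  · have : (ends e).2 ∈ Z := h2 ▸ hv
    simp only [h1, h2, if_true, if_false, hv]; split_ifs <;> simp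
  · simp [h1, h2]

/-- at a vertex of `Z` on a crossing edge, the twist of the indicator of `Z` is negative. -/
lemma twist_chi_neg_of_crossing (ends : E → V × V) (Z : Finset V) (v : V) (hv : v ∈ Z) (e₀ : E)
    (he₀ : ((ends e₀).1 = v ∧ (ends e₀).2 ∉ Z) ∨ ((ends e₀).2 = v ∧ (ends e₀).1 ∉ Z)) :
    twist ends (fun u => if u ∈ Z then (1 : ℤ) else 0) v ≤ -1 := by
  rw [twist_chi_apply, ← Finset.add_sum_erase _ _ (Finset.mem_univ e₀)]
  have hrest : ∑ e ∈ Finset.univ.erase e₀, ((if (ends e).1 = v then - delta ends Z e else 0) +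
        (if (ends e).2 = v then delta ends Z e else 0)) ≤ 0 := by
    refine Finset.sum_nonpos fun e _ => ?_
    unfold delta chi
    by_cases h1 : (ends e).1 = v <;> by_cases h2 : (ends e).2 = v
    · simp [h1, h2, hv]
    · have : (ends e).1 ∈ Z := h1 ▸ hv
      simp only [h1, h2, if_true, if_false, hv]; split_ifs <;> simp
    · have : (ends e).2 ∈ Z := h2 ▸ hv
      simp only [h1, h2, if_true, if_false, hv]; split_ifs <;> simp
    · simp [h1, h2]
  have h0 : ((if (ends e₀).1 = v then - delta ends Z e₀ else 0) +
        (if (ends e₀).2 = v then delta ends Z e₀ else 0)) = -1 := by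
    unfold delta chi
    rcases he₀ with ⟨h1, h2⟩ | ⟨h2, h1⟩
    · have hne : (ends e₀).2 ≠ v := fun h => h2 (h ▸ hv)
      have : (ends e₀).1 ∈ Z := h1 ▸ hv
      simp [h1, hne, hv, h2]
    · have hne : (ends e₀).1 ≠ v := fun h => h1 (h ▸ hv)
      have : (ends e₀).2 ∈ Z := h2 ▸ hv
      simp [h2, hne, hv, h1]
  linarith

/-- an exceptional vertex has exactly two edge-ends. -/
lemma endCount_of_isExceptional (ends : E → V × V) (w : V → ℕ) (y : V)
    (hy : IsExceptional ends w y) : (endCount ends Finset.univ y : ℤ) = 2 := by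
  obtain ⟨_, hloop, hcut⟩ := hy
  have h1 : (cut ends {y} : ℤ) = 2 := by rw [hcut]; rfl
  rw [← h1, cut_eq_Bf]
  unfold endCount Bf delta chi
  push_cast
  refine Finset.sum_congr rfl fun e _ => ?_
  have := hloop e
  by_cases h1 : (ends e).1 = y <;> by_cases h2 : (ends e).2 = y
  · exact absurd (Prod.ext h1 h2) this
  · simp [h1, h2]
  · simp [h1, h2]
  · simp [h1, h2]

/-- If `Y` is at the upper extreme for a BI multidegree `d` with value one on exceptional vertices,
then no exceptional vertex outside `Y` is joined to `Y`. -/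
lemma no_exceptional_outside (ends : E → V × V) (w : V → ℕ) (hK : 1 ≤ canDeg ends w Finset.univ)
    (d : V → ℤ) (hBI : SatisfiesBI ends w d) (hone : ∀ v : V, IsExceptional ends w v → d v = 1)
    (Y : Finset V)
    (hext : 2 * (canDeg ends w Finset.univ * (∑ v ∈ Y, d v) - (∑ v, d v) * canDeg ends w Y)
          = (cut ends Y : ℤ) * canDeg ends w Finset.univ)
    (y : V) (hyY : y ∉ Y) (hy : IsExceptional ends w y) (e₀ : E)
    (he₀ : ((ends e₀).1 ∈ Y ∧ (ends e₀).2 = y) ∨ ((ends e₀).2 ∈ Y ∧ (ends e₀).1 = y)) : False := by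
  have hdisj : Disjoint Y {y} := Finset.disjoint_singleton_right.mpr hyY
  have b := (two_abs_le.mp (hBI (Y ∪ {y}))).2
  rw [cut_eq_Bf, Bf_union_left ends hdisj, Bf_union_right ends hdisj, Bf_union_right ends hdisj,
    ← cut_eq_Bf ends {y}, hy.2.2, Finset.sum_union hdisj, Finset.sum_singleton, hone y hy] at b
  have hc : canDeg ends w (Y ∪ {y}) = canDeg ends w Y := by
    unfold canDeg
    rw [Finset.sum_union hdisj, Finset.sum_singleton, endCount_of_isExceptional ends w y hy, hy.1]
    simp
  rw [hc, Bf_comm ends {y} Y] at b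
  rw [cut_eq_Bf] at hext
  -- Bf Y {y} ≤ -1
  have hneg : Bf ends Y {y} ≤ -1 := by
    unfold Bf
    rw [← Finset.add_sum_erase _ _ (Finset.mem_univ e₀)]
    have hrest : ∑ e ∈ Finset.univ.erase e₀, delta ends Y e * delta ends {y} e ≤ 0 := by
      exact Finset.sum_nonpos fun e _ => delta_mul_nonpos ends hdisj e
    have h0 : delta ends Y e₀ * delta ends {y} e₀ = -1 := by
      unfold delta chi
      rcases he₀ with ⟨h1, h2⟩ | ⟨h2, h1⟩
      · have h3 : (ends e₀).2 ∉ Y := h2 ▸ hyY
        have h4 : (ends e₀).1 ≠ y := fun h => hyY (h ▸ h1)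
        simp [h1, h2, h4, hyY, Finset.mem_singleton]
      · have h3 : (ends e₀).1 ∉ Y := h1 ▸ hyY
        have h4 : (ends e₀).2 ≠ y := fun h => hyY (h ▸ h2)
        simp [h1, h2, h4, hyY, Finset.mem_singleton]
    linarith
  push_cast at b
  nlinarith


open LabGraph in
/-- Let X be a quasi-wp-stable curve of genus g ≥ 2 over an algebraically closed field, encoded by a
weighted multigraph: vertices are the irreducible components C_v, with the weight w v and the loops
at v chosen so that w v plus the number of loops at v is the arithmetic genus of C_v; two distinct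
components are joined by one edge for each node and by two edges for each tacnode at which they
meet. For a set Y of vertices (a subcurve) canDeg Y is then deg_Y ω_X = 2 g_Y − 2 + k_Y and cut Y is
k_Y, the length of the intersection of Y with its complementary subcurve; a vertex is exceptional
(weight zero, loopless, exactly two edges to other vertices) exactly when C_v is an exceptional
component; the twist of the indicator function of Y is the multidegree Σ_{C ⊆ Y} C of the degree
class group construction; and the graph is a connected quasistable graph. Let d, d' be properly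
balanced multidegrees of the same total degree D (each satisfies the Basic Inequality 2·|K·d_Y −
D·canDeg Y| ≤ cut Y·K for every Y, where K = 2g − 2 = canDeg of the whole graph, and takes the value
1 on every exceptional vertex), with d strictly balanced: for every nonempty proper Y with d_Y equal
to the upper extreme, i.e. 2(K·d_Y − D·canDeg Y) = K·cut Y, every edge with exactly one endpoint in
Y has an exceptional endpoint. Suppose d' = d + Σ_i twist(1_{Z_i}) for nested vertex sets Z_1 ⊆ ⋯ ⊆
Z_m, each with d at its upper extreme, such that for j < i no edge joins a vertex of Z_j to a vertex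
outside Z_i. Then d = d'. (The source assumes only that d − d' lies in the lattice generated by the
multidegrees of the components and takes the existence of such a nested family from an earlier paper
it cites without proof; this row carries that description as its hypothesis.) -/
theorem result {V E : Type u} [Fintype V] [Fintype E]
    [DecidableEq V] [DecidableEq E] (ends : E → V × V) (w : V → ℕ) (hX : IsQuasistableGraph ends w)
    (hg : 2 ≤ genus ends w) (d d' : V → ℤ) (hD : ∑ v, d v = ∑ v, d' v)
    (hBI : SatisfiesBI ends w d) (hBI' : SatisfiesBI ends w d')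
    (hone : ∀ v : V, IsExceptional ends w v → d v = 1) (hone' : ∀ v : V, IsExceptional ends w v → d' v = 1)
    (hstrict : ∀ Y : Finset V, Y.Nonempty → Y ≠ Finset.univ →
      2 * (canDeg ends w Finset.univ * (∑ v ∈ Y, d v) - (∑ v, d v) * canDeg ends w Y)
          = (cut ends Y : ℤ) * canDeg ends w Finset.univ →
      ∀ e : E, (((ends e).1 ∈ Y ∧ (ends e).2 ∉ Y) ∨ ((ends e).1 ∉ Y ∧ (ends e).2 ∈ Y)) →
        (IsExceptional ends w (ends e).1 ∨ IsExceptional ends w (ends e).2))
    (m : ℕ) (Z : Fin m → Finset V) (hmono : ∀ i j : Fin m, i ≤ j → Z i ⊆ Z j)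
    (hext : ∀ i : Fin m, 2 * (canDeg ends w Finset.univ * (∑ v ∈ Z i, d v) - (∑ v, d v) * canDeg ends w (Z i))
          = (cut ends (Z i) : ℤ) * canDeg ends w Finset.univ)
    (hsep : ∀ i j : Fin m, j < i → ∀ e : E,
      ¬ (((ends e).1 ∈ Z j ∧ (ends e).2 ∉ Z i) ∨ ((ends e).2 ∈ Z j ∧ (ends e).1 ∉ Z i)))
    (hsum : ∀ v : V, d' v = d v + ∑ i : Fin m, twist ends (fun u => if u ∈ Z i then (1 : ℤ) else 0) v) :
    d = d' := by
  have hK : 1 ≤ canDeg ends w Finset.univ := by rw [canDeg_univ]; linarith
  -- every `Z i` has no crossing edge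
  have hcut' : ∀ n : ℕ, ∀ i : Fin m, i.val = n → cut ends (Z i) = 0 := by
    intro n
    induction n using Nat.strong_induction_on with
    | _ n ih =>
      intro i hi
      by_contra hne
      have hpos : 0 < cut ends (Z i) := Nat.pos_of_ne_zero hne
      unfold cut at hpos
      obtain ⟨e₀, he₀⟩ := Finset.card_pos.mp hpos
      rw [Finset.mem_filter] at he₀
      obtain ⟨-, he₀⟩ := he₀
      have hne' : (Z i).Nonempty := by rcases he₀ with ⟨h, _⟩ | ⟨_, h⟩ <;> exact ⟨_, h⟩
      have hproper : Z i ≠ Finset.univ := by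
        intro h; rw [h] at he₀; simp at he₀
      have hexc := hstrict (Z i) hne' hproper (hext i) e₀ he₀
      have inner : ∀ x : V, x ∈ Z i → IsExceptional ends w x →
          (((ends e₀).1 = x ∧ (ends e₀).2 ∉ Z i) ∨ ((ends e₀).2 = x ∧ (ends e₀).1 ∉ Z i)) → False := by
        intro x hx hxe hcross
        have h1 : ∑ j : Fin m, twist ends (fun u => if u ∈ Z j then (1 : ℤ) else 0) x = 0 := by
          have := hsum x; rw [hone x hxe, hone' x hxe] at this; linarith
        rw [← Finset.add_sum_erase _ _ (Finset.mem_univ i)] at h1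
        have h2 := twist_chi_neg_of_crossing ends (Z i) x hx e₀ hcross
        have h3 : ∑ j ∈ Finset.univ.erase i,
            twist ends (fun u => if u ∈ Z j then (1 : ℤ) else 0) x ≤ 0 := by
          refine Finset.sum_nonpos fun j _ => ?_
          rcases lt_or_ge j i with hji | hij
          · rw [twist_chi_eq_zero_of_cut ends (Z j) (ih j.val (by rw [← hi]; exact hji) j rfl)]
          · exact twist_chi_nonpos_of_mem ends (Z j) x (hmono i j hij hx)
        linarith
      rcases he₀ with ⟨h1, h2⟩ | ⟨h1, h2⟩
      · rcases hexc with hx | hy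
        · exact inner _ h1 hx (Or.inl ⟨rfl, h2⟩)
        · exact no_exceptional_outside ends w hK d hBI hone (Z i) (hext i) (ends e₀).2 h2 hy e₀
            (Or.inl ⟨h1, rfl⟩)
      · rcases hexc with hx | hy
        · exact no_exceptional_outside ends w hK d hBI hone (Z i) (hext i) (ends e₀).1 h1 hx e₀
            (Or.inr ⟨h2, rfl⟩)
        · exact inner _ h2 hy (Or.inr ⟨rfl, h1⟩)
  have hcut : ∀ i : Fin m, cut ends (Z i) = 0 := fun i => hcut' i.val i rfl
  funext v
  rw [hsum v]
  have : ∑ i : Fin m, twist ends (fun u => if u ∈ Z i then (1 : ℤ) else 0) v = 0 :=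
    Finset.sum_eq_zero fun i _ => twist_chi_eq_zero_of_cut ends (Z i) (hcut i) v
  rw [this, add_zero]

end Groth.Agent.S19033
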