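import Groth.Statements.S19034
import Groth.Agent.Lib.LabGraph2_helper3

set_option autoImplicit false
set_option linter.unusedSectionVars false
universe u
open LabGraph Groth.Agent.Lib.LabGraph_helper3 Groth.Agent.Lib.LabGraph2_helper3

namespace Groth.Agent.S19034

variable {V E : Type u} [Fintype V] [Fintype E] [DecidableEq V] [DecidableEq E]

/-- an exceptional vertex has exactly two edge-ends. -/
lemma endCount_of_isExceptional (ends : E → V × V) (w : V → ℕ) (y : V)
    (hy : IsExceptional ends w y) : (endCount ends Finset.univ y : ℤ) = 2 := by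
  obtain ⟨_, hloop, hcut⟩ := hy
  have h1 : (cut ends {y} : ℤ) = 2 := by rw [hcut]; rfl
  rw [← h1, cut_eq_Bf]
  unfold endCount Bf delta chi
  push_cast
  refine Finset.sum_congr rfl fun e _ => ?_
  have := hloop e
  by_cases h1 : (ends e).1 = y <;> by_cases h2 : (ends e).2 = y
  · exact absurd (Prod.ext h1 h2) this
  · simp [h1, h2]
  · simp [h1, h2]
  · simp [h1, h2]

/-- number of edge-ends at `s` whose other end is outside `W`. -/
def Nout (ends : E → V × V) (W : Finset V) (s : V) : ℤ :=
  ∑ e : E, ((if (ends e).1 = s then 1 - chi W (ends e).2 else 0) +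
    (if (ends e).2 = s then 1 - chi W (ends e).1 else 0))

lemma Nout_nonneg (ends : E → V × V) (W : Finset V) (s : V) : 0 ≤ Nout ends W s := by
  unfold Nout chi
  refine Finset.sum_nonneg fun e _ => ?_
  refine add_nonneg ?_ ?_ <;> (split_ifs <;> simp)

lemma Nout_eq_zero (ends : E → V × V) (W : Finset V) (s : V)
    (h : ∀ e : E, ((ends e).1 = s → (ends e).2 ∈ W) ∧ ((ends e).2 = s → (ends e).1 ∈ W)) :
    Nout ends W s = 0 := by
  unfold Nout chi
  refine Finset.sum_eq_zero fun e _ => ?_
  have h1 : (if (ends e).1 = s then 1 - (if (ends e).2 ∈ W then (1 : ℤ) else 0) else 0) = 0 := by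
    by_cases a : (ends e).1 = s
    · rw [if_pos a, if_pos ((h e).1 a)]; ring
    · rw [if_neg a]
  have h2 : (if (ends e).2 = s then 1 - (if (ends e).1 ∈ W then (1 : ℤ) else 0) else 0) = 0 := by
    by_cases a : (ends e).2 = s
    · rw [if_pos a, if_pos ((h e).2 a)]; ring
    · rw [if_neg a]
  rw [h1, h2]; ring

lemma Nout_pos (ends : E → V × V) (W : Finset V) (s : V)
    (h : ¬ ∀ e : E, ((ends e).1 = s → (ends e).2 ∈ W) ∧ ((ends e).2 = s → (ends e).1 ∈ W)) :
    1 ≤ Nout ends W s := by
  push Not at h
  obtain ⟨e₀, he₀⟩ := h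
  unfold Nout
  rw [← Finset.add_sum_erase _ _ (Finset.mem_univ e₀)]
  have hrest : 0 ≤ ∑ e ∈ Finset.univ.erase e₀, ((if (ends e).1 = s then 1 - chi W (ends e).2 else 0) +
      (if (ends e).2 = s then 1 - chi W (ends e).1 else 0)) := by
    refine Finset.sum_nonneg fun e _ => ?_
    unfold chi
    refine add_nonneg ?_ ?_ <;> (split_ifs <;> simp)
  have h0 : 1 ≤ ((if (ends e₀).1 = s then 1 - chi W (ends e₀).2 else 0) +
      (if (ends e₀).2 = s then 1 - chi W (ends e₀).1 else 0)) := by
    have hnn1 : 0 ≤ (if (ends e₀).1 = s then 1 - chi W (ends e₀).2 else 0) := by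
      unfold chi; split_ifs <;> simp
    have hnn2 : 0 ≤ (if (ends e₀).2 = s then 1 - chi W (ends e₀).1 else 0) := by
      unfold chi; split_ifs <;> simp
    by_cases hc : (ends e₀).1 = s → (ends e₀).2 ∈ W
    · obtain ⟨h2, h3⟩ := he₀ hc
      have : (if (ends e₀).2 = s then 1 - chi W (ends e₀).1 else 0) = 1 := by
        unfold chi; rw [if_pos h2, if_neg h3]; ring
      linarith
    · obtain ⟨h2, h3⟩ := Classical.not_imp.mp hc
      have : (if (ends e₀).1 = s then 1 - chi W (ends e₀).2 else 0) = 1 := by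
        unfold chi; rw [if_pos h2, if_neg h3]; ring
      linarith
  linarith

/-- `Bf(W,{s}) = N_s - 2` for an exceptional vertex `s ∉ W`. -/
lemma Bf_singleton (ends : E → V × V) (w : V → ℕ) (W : Finset V) (s : V) (hs : IsExceptional ends w s)
    (hsW : s ∉ W) : Bf ends W {s} = Nout ends W s - 2 := by
  rw [← endCount_of_isExceptional ends w s hs]
  unfold Bf Nout endCount delta
  push_cast
  rw [← Finset.sum_sub_distrib]
  refine Finset.sum_congr rfl fun e _ => ?_
  have hloop := hs.2.1 e
  have hchis : ∀ v, chi ({s} : Finset V) v = if v = s then 1 else 0 := by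
    intro v; unfold chi; simp [Finset.mem_singleton]
  rw [hchis, hchis]
  by_cases h1 : (ends e).1 = s <;> by_cases h2 : (ends e).2 = s
  · exact absurd (Prod.ext h1 h2) hloop
  · have : chi W s = 0 := by unfold chi; simp [hsW]
    simp [h1, h2, this]
  · have : chi W s = 0 := by unfold chi; simp [hsW]
    simp [h1, h2, this]
  · simp [h1, h2]

/-- independence of exceptional vertices in a quasistable graph. -/
lemma Bf_exceptional_indep (ends : E → V × V) (w : V → ℕ) (hq : IsQuasistableGraph ends w)
    (T : Finset V) (hT : ∀ v ∈ T, IsExceptional ends w v) (s : V) (hs : IsExceptional ends w s)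
    (hsT : s ∉ T) : Bf ends T {s} = 0 := by
  unfold Bf
  refine Finset.sum_eq_zero fun e _ => ?_
  unfold delta
  have hchis : ∀ v, chi ({s} : Finset V) v = if v = s then 1 else 0 := by
    intro v; unfold chi; simp [Finset.mem_singleton]
  rw [hchis, hchis]
  have hloop := hs.2.1 e
  have hqe := hq.2 e
  by_cases h1 : (ends e).1 = s <;> by_cases h2 : (ends e).2 = s
  · exact absurd (Prod.ext h1 h2) hloop
  · have hne : (ends e).1 ≠ (ends e).2 := fun h => h2 (h ▸ h1)
    have h3 : (ends e).2 ∉ T := fun h => hqe hne ⟨h1 ▸ hs, hT _ h⟩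
    have h4 : (ends e).1 ∉ T := h1 ▸ hsT
    simp [chi, h3, h4]
  · have hne : (ends e).1 ≠ (ends e).2 := fun h => h1 (h ▸ h2)
    have h3 : (ends e).1 ∉ T := fun h => hqe hne ⟨hT _ h, h2 ▸ hs⟩
    have h4 : (ends e).2 ∉ T := h2 ▸ hsT
    simp [chi, h3, h4]
  · simp [h1, h2]

/-- cut of `W ∪ T` for a set `T` of exceptional vertices disjoint from `W`. -/
lemma cut_union_exceptional (ends : E → V × V) (w : V → ℕ) (hq : IsQuasistableGraph ends w)
    (W : Finset V) (T : Finset V) (hT : ∀ v ∈ T, IsExceptional ends w v) (hWT : Disjoint W T) :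
    (cut ends (W ∪ T) : ℤ) = cut ends W + ∑ s ∈ T, (2 * Nout ends W s - 2) := by
  induction T using Finset.induction_on with
  | empty => simp
  | @insert s T hsT ih =>
    have hs : IsExceptional ends w s := hT s (Finset.mem_insert_self s T)
    have hT' : ∀ v ∈ T, IsExceptional ends w v := fun v hv => hT v (Finset.mem_insert_of_mem hv)
    have hWT' : Disjoint W T := hWT.mono_right (Finset.subset_insert s T)
    have hsW : s ∉ W := fun h => Finset.disjoint_left.mp hWT h (Finset.mem_insert_self s T)
    have hdisj : Disjoint (W ∪ T) {s} := by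
      rw [Finset.disjoint_singleton_right, Finset.mem_union]; tauto
    have hun : W ∪ insert s T = (W ∪ T) ∪ {s} := by
      ext v; simp only [Finset.mem_union, Finset.mem_insert, Finset.mem_singleton]; tauto
    rw [hun, cut_eq_Bf, Bf_union_left ends hdisj, Bf_union_right ends hdisj, Bf_union_right ends hdisj,
      ← cut_eq_Bf, ih hT' hWT', Bf_comm ends {s} (W ∪ T), Bf_union_left ends hWT',
      Bf_singleton ends w W s hs hsW, Bf_exceptional_indep ends w hq T hT' s hs hsT,
      ← cut_eq_Bf ends {s}, hs.2.2, Finset.sum_insert hsT]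
    push_cast
    ring

lemma canDeg_union_exceptional (ends : E → V × V) (w : V → ℕ)
    (W : Finset V) (T : Finset V) (hT : ∀ v ∈ T, IsExceptional ends w v) (hWT : Disjoint W T) :
    canDeg ends w (W ∪ T) = canDeg ends w W := by
  unfold canDeg
  rw [Finset.sum_union hWT]
  have : ∑ v ∈ T, (2 * (w v : ℤ) - 2 + (endCount ends Finset.univ v : ℤ)) = 0 := by
    refine Finset.sum_eq_zero fun v hv => ?_
    rw [endCount_of_isExceptional ends w v (hT v hv), (hT v hv).1]; simp
  rw [this, add_zero]


open LabGraph in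
/-- Let σ : Z → X be the contraction of some exceptional components of a quasi-wp-stable curve Z of
genus g ≥ 2 onto a quasi-wp-stable curve X, and d a properly balanced multidegree on X; then the
pull-back d̃ of d to Z (d̃_W = d_{σ(W)} when σ(W) is a curve, d̃ = 0 on contracted components) is
balanced. Encode Z by its weighted multigraph (vertices = irreducible components, weight plus number
of loops = arithmetic genus of the component, one edge per node and two per tacnode joining distinct
components; canDeg Y = deg_Y ω_Z, cut Y = k_Y, K = canDeg of all vertices = 2g − 2; exceptional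
vertex = exceptional component), and let S be the set of contracted components, each an exceptional
vertex. The components of X are the vertices outside S; for a set W of them, the subcurve σ(W) of X
has deg ω_X equal to canDeg Ŵ and k equal to cut Ŵ, where Ŵ is W together with the vertices of S all
of whose edges end in W, and the exceptional components of X are the exceptional vertices outside S.
So the hypotheses below say that d̃ vanishes on S and that d = d̃|_{V∖S} is properly balanced on X
(Basic Inequality 2·|K·d_W − D·canDeg Ŵ| ≤ cut Ŵ·K for every W disjoint from S, D the total degree,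
and value 1 on exceptional vertices outside S); the conclusion is the Basic Inequality for d̃ on Z,
for every set of vertices. -/
theorem result {V E : Type u} [Fintype V] [Fintype E]
    [DecidableEq V] [DecidableEq E] (ends : E → V × V) (w : V → ℕ) (hZ : IsQuasistableGraph ends w)
    (hg : 2 ≤ genus ends w) (S : Finset V) (hS : ∀ v ∈ S, IsExceptional ends w v)
    (dt : V → ℤ) (hzero : ∀ v ∈ S, dt v = 0)
    (hBI : ∀ W : Finset V, Disjoint W S →
      2 * |canDeg ends w Finset.univ * (∑ v ∈ W, dt v) - (∑ v, dt v) * canDeg ends w (Finset.univ.filter (fun v : V => v ∈ W ∨ (v ∈ S ∧ ∀ e : E, ((ends e).1 = v → (ends e).2 ∈ W) ∧ ((ends e).2 = v → (ends e).1 ∈ W))))|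
        ≤ (cut ends (Finset.univ.filter (fun v : V => v ∈ W ∨ (v ∈ S ∧ ∀ e : E, ((ends e).1 = v → (ends e).2 ∈ W) ∧ ((ends e).2 = v → (ends e).1 ∈ W)))) : ℤ) * canDeg ends w Finset.univ)
    (hone : ∀ v : V, v ∉ S → IsExceptional ends w v → dt v = 1) :
    SatisfiesBI ends w dt := by
  intro Y
  have hK : 0 ≤ canDeg ends w Finset.univ := by rw [canDeg_univ]; linarith
  set W := Y \ S with hW
  set YS := Y ∩ S with hYS
  set S₂ := S.filter (fun v : V => ∀ e : E, ((ends e).1 = v → (ends e).2 ∈ W) ∧ ((ends e).2 = v → (ends e).1 ∈ W)) with hS₂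
  have hWS : Disjoint W S := by rw [hW]; exact Finset.sdiff_disjoint
  have hWYS : Disjoint W YS := hWS.mono_right Finset.inter_subset_right
  have hWS₂ : Disjoint W S₂ := hWS.mono_right (Finset.filter_subset _ _)
  have hY : Y = W ∪ YS := by
    rw [hW, hYS]; exact (Finset.sdiff_union_inter Y S).symm
  have hhat : (Finset.univ.filter (fun v : V => v ∈ W ∨ (v ∈ S ∧ ∀ e : E, ((ends e).1 = v → (ends e).2 ∈ W) ∧ ((ends e).2 = v → (ends e).1 ∈ W)))) = W ∪ S₂ := by
    ext v; simp [hS₂]
  have hYSe : ∀ v ∈ YS, IsExceptional ends w v := fun v hv => hS v (Finset.mem_inter.mp hv).2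
  have hS₂e : ∀ v ∈ S₂, IsExceptional ends w v := fun v hv => hS v (Finset.mem_filter.mp hv).1
  have b := hBI W hWS
  rw [hhat, canDeg_union_exceptional ends w W S₂ hS₂e hWS₂] at b
  -- degree on Y
  have hdY : ∑ v ∈ Y, dt v = ∑ v ∈ W, dt v := by
    rw [hY, Finset.sum_union hWYS]
    have : ∑ v ∈ YS, dt v = 0 :=
      Finset.sum_eq_zero fun v hv => hzero v (Finset.mem_inter.mp hv).2
    rw [this, add_zero]
  have hcY : canDeg ends w Y = canDeg ends w W := by
    rw [hY]; exact canDeg_union_exceptional ends w W YS hYSe hWYS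
  rw [hdY, hcY]
  refine b.trans (mul_le_mul_of_nonneg_right ?_ hK)
  -- comparison of cuts
  have c1 := cut_union_exceptional ends w hZ W YS hYSe hWYS
  have c2 := cut_union_exceptional ends w hZ W S₂ hS₂e hWS₂
  rw [← hY] at c1
  rw [c1, c2]
  have e2 : ∑ s ∈ S₂, (2 * Nout ends W s - 2) = ∑ s ∈ S₂, (-2 : ℤ) := by
    refine Finset.sum_congr rfl fun s hs => ?_
    rw [Nout_eq_zero ends W s (Finset.mem_filter.mp hs).2]; ring
  have e1 : ∑ s ∈ YS ∩ S₂, (-2 : ℤ) ≤ ∑ s ∈ YS, (2 * Nout ends W s - 2) := by
    rw [← Finset.sum_inter_add_sum_sdiff YS S₂]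
    have h1 : ∑ s ∈ YS ∩ S₂, (-2 : ℤ) ≤ ∑ s ∈ YS ∩ S₂, (2 * Nout ends W s - 2) :=
      Finset.sum_le_sum fun s _ => by linarith [Nout_nonneg ends W s]
    have h2 : 0 ≤ ∑ s ∈ YS \ S₂, (2 * Nout ends W s - 2) := by
      refine Finset.sum_nonneg fun s hs => ?_
      obtain ⟨hs1, hs2⟩ := Finset.mem_sdiff.mp hs
      have hsS : s ∈ S := (Finset.mem_inter.mp hs1).2
      have : ¬ ∀ e : E, ((ends e).1 = s → (ends e).2 ∈ W) ∧ ((ends e).2 = s → (ends e).1 ∈ W) :=
        fun h => hs2 (Finset.mem_filter.mpr ⟨hsS, h⟩)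
      linarith [Nout_pos ends W s this]
    linarith
  have e3 : ∑ s ∈ S₂, (-2 : ℤ) ≤ ∑ s ∈ YS ∩ S₂, (-2 : ℤ) := by
    rw [Finset.sum_const, Finset.sum_const]
    have : (YS ∩ S₂).card ≤ S₂.card := Finset.card_le_card Finset.inter_subset_right
    simp only [nsmul_eq_mul]
    have : ((YS ∩ S₂).card : ℤ) ≤ S₂.card := by exact_mod_cast this
    linarith
  linarith

end Groth.Agent.S19034
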