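import Groth.Statements.S19035
import Mathlib

set_option autoImplicit false
universe u v w x
open CAlg

namespace Groth.Agent.S19035

theorem aux
    (p : ℕ) [Fact p.Prime] (k : Type u) [Field k]
    {ι : Type v} [Preorder ι] [IsDirected ι (· ≤ ·)] [Nonempty ι]
    (A : ι → Type w) [∀ i, CommRing (A i)] [∀ i, Algebra k (A i)]
    [∀ i, Algebra.FiniteType k (A i)]
    (f : ∀ i j, i ≤ j → (A i →ₐ[k] A j))
    (hf : ∀ i j l (hij : i ≤ j) (hjl : j ≤ l) (x : A i),
      f j l hjl (f i j hij x) = f i l (hij.trans hjl) x)
    (B : Type x) [CommRing B] [Algebra k B] [Algebra.FiniteType k B]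
    (g : ∀ i, A i →ₐ[k] B)
    (hfg : ∀ i j (hij : i ≤ j) (x : A i), g j (f i j hij x) = g i x)
    (hsurj : ∀ b : B, ∃ i, ∃ x : A i, g i x = b)
    (hinj : ∀ i (x y : A i), g i x = g i y → ∃ j, ∃ hij : i ≤ j, f i j hij x = f i j hij y) :
    (∀ w : WittVector p B, ∃ i, ∃ v : WittVector p (A i),
        WittVector.map (g i).toRingHom v = w) ∧
    (∀ i (v v' : WittVector p (A i)),
        WittVector.map (g i).toRingHom v = WittVector.map (g i).toRingHom v' →
        ∃ j, ∃ hij : i ≤ j,
          WittVector.map (f i j hij).toRingHom v = WittVector.map (f i j hij).toRingHom v') := by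
  classical
  constructor
  · obtain ⟨s, hs⟩ := (Algebra.FiniteType.out : (⊤ : Subalgebra k B).FG)
    choose I X hIX using hsurj
    obtain ⟨i, hi⟩ := Finset.exists_le (s.image I)
    have hsurj_i : Function.Surjective (g i) := by
      have hle : Algebra.adjoin k (s : Set B) ≤ (g i).range := by
        apply Algebra.adjoin_le
        intro b hb
        have hIb : I b ≤ i := hi _ (Finset.mem_image_of_mem I hb)
        exact ⟨f (I b) i hIb (X b), (hfg _ _ hIb _).trans (hIX b)⟩
      rw [hs] at hle
      intro b
      obtain ⟨x, hx⟩ := hle (Algebra.mem_top : b ∈ (⊤ : Subalgebra k B))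
      exact ⟨x, hx⟩
    intro w
    choose v hv using fun n => hsurj_i (w.coeff n)
    refine ⟨i, WittVector.mk p v, ?_⟩
    ext n
    rw [WittVector.map_coeff, WittVector.coeff_mk]
    exact hv n
  · intro i v v' hvv
    haveI : IsNoetherianRing (A i) := Algebra.FiniteType.isNoetherianRing k (A i)
    obtain ⟨s, hs⟩ : (RingHom.ker (g i).toRingHom).FG := IsNoetherian.noetherian _
    have h1 : ∀ a : A i, a ∈ RingHom.ker (g i).toRingHom →
        ∃ j, ∃ hij : i ≤ j, f i j hij a = 0 := by
      intro a ha
      have ha' : g i a = 0 := RingHom.mem_ker.mp ha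
      have : g i a = g i 0 := by rw [map_zero]; exact ha'
      obtain ⟨j, hij, h⟩ := hinj i a 0 this
      exact ⟨j, hij, by rw [h, map_zero]⟩
    choose! J hJ1 hJ2 using h1
    obtain ⟨j, hj⟩ := Finset.exists_le (insert i (s.image J))
    have hij : i ≤ j := hj i (Finset.mem_insert_self _ _)
    refine ⟨j, hij, ?_⟩
    have hker : RingHom.ker (g i).toRingHom ≤ RingHom.ker (f i j hij).toRingHom := by
      rw [← hs, Ideal.span_le]
      intro a ha
      have haker : a ∈ RingHom.ker (g i).toRingHom := by rw [← hs]; exact Ideal.subset_span ha
      have hJa : J a ≤ j := hj _ (Finset.mem_insert_of_mem (Finset.mem_image_of_mem J ha))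
      have h0 : (f i j hij) a = 0 := by
        rw [← hf i (J a) j (hJ1 a haker) hJa a, hJ2 a haker, map_zero]
      exact RingHom.mem_ker.mpr h0
    ext n
    rw [WittVector.map_coeff, WittVector.map_coeff]
    have h0 : v.coeff n - v'.coeff n ∈ RingHom.ker (g i).toRingHom := by
      rw [RingHom.mem_ker, map_sub, sub_eq_zero]
      have := congrArg (fun w => w.coeff n) hvv
      simpa only [WittVector.map_coeff] using this
    have := hker h0
    rw [RingHom.mem_ker, map_sub, sub_eq_zero] at this
    exact this

/-- Let p be a prime and k a perfect field of characteristic p. Let (A_i) be a directed system of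
finitely generated commutative k-algebras, indexed by a nonempty directed preorder, with compatible
k-algebra transition maps, and let B be a finitely generated k-algebra with compatible k-algebra
maps A_i → B which present B as the direct limit of the system (every element of B is the image of
an element of some A_i, and two elements of some A_i with the same image in B have the same image in
some A_j). Then the p-typical Witt vectors commute with this direct limit: every Witt vector over B
is the image of a Witt vector over some A_i, and two Witt vectors over some A_i with the same image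
over B already have the same image over some A_j. (Both finiteness hypotheses matter: for an
arbitrary filtered direct limit of commutative rings either assertion can fail.) -/
theorem result
    (p : ℕ) [Fact p.Prime] (k : Type u) [Field k] [CharP k p] [PerfectRing k p]
    {ι : Type v} [Preorder ι] [IsDirected ι (· ≤ ·)] [Nonempty ι]
    (A : ι → Type w) [∀ i, CommRing (A i)] [∀ i, Algebra k (A i)]
    [∀ i, Algebra.FiniteType k (A i)]
    (f : ∀ i j, i ≤ j → (A i →ₐ[k] A j))
    (hf : ∀ i j l (hij : i ≤ j) (hjl : j ≤ l) (x : A i),
      f j l hjl (f i j hij x) = f i l (hij.trans hjl) x)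
    (B : Type x) [CommRing B] [Algebra k B] [Algebra.FiniteType k B]
    (g : ∀ i, A i →ₐ[k] B)
    (hfg : ∀ i j (hij : i ≤ j) (x : A i), g j (f i j hij x) = g i x)
    (hsurj : ∀ b : B, ∃ i, ∃ x : A i, g i x = b)
    (hinj : ∀ i (x y : A i), g i x = g i y → ∃ j, ∃ hij : i ≤ j, f i j hij x = f i j hij y) :
    (∀ w : WittVector p B, ∃ i, ∃ v : WittVector p (A i),
        WittVector.map (g i).toRingHom v = w) ∧
    (∀ i (v v' : WittVector p (A i)),
        WittVector.map (g i).toRingHom v = WittVector.map (g i).toRingHom v' →
        ∃ j, ∃ hij : i ≤ j,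
          WittVector.map (f i j hij).toRingHom v = WittVector.map (f i j hij).toRingHom v') := by
  exact aux p k A f hf B g hfg hsurj hinj

end Groth.Agent.S19035
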