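import Groth.Statements.S19043
import Mathlib
import Groth.Agent.Lib.DieuGc_helper4

set_option autoImplicit false
universe u
open Dieu

namespace Groth.Agent.S19043

open W4c6eohyperellchar2 in
theorem aux (c : ℕ) (k : Type u) [Field k] [CharP k 2] [PerfectRing k 2] :
    LinearIndependent k (fun j : {j : ℕ // c < 2 * j ∧ j ≤ c} =>
        Submodule.mkQ (Submodule.span k (Set.range (F c k) ∪ Set.range (V c k))) (X c k j.1)) ∧
      Submodule.span k (Set.range (fun j : {j : ℕ // c < 2 * j ∧ j ≤ c} =>
        Submodule.mkQ (Submodule.span k (Set.range (F c k) ∪ Set.range (V c k))) (X c k j.1))) = ⊤ := by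
  classical
  obtain ⟨Q, hQ⟩ : ∃ Q, Q = Submodule.span k (Set.range (F c k) ∪ Set.range (V c k)) := ⟨_, rfl⟩
  rw [← hQ]
  constructor
  · have hφ : ∀ j : {j : ℕ // c < 2 * j ∧ j ≤ c}, ∃ φ : GcMod c k →ₗ[k] k,
        (∀ v, φ v = coefX v j.1) := by
      intro j
      have hj1 : j.1 - 1 < c := by have := j.2; omega
      refine ⟨(LinearMap.proj (⟨j.1 - 1, hj1⟩ : Fin c)).comp (LinearMap.fst k _ _), fun v => ?_⟩
      unfold coefX
      rw [dif_pos (by have := j.2; omega)]
      rfl
    choose φ hφ using hφ
    have hker : ∀ j, Q ≤ LinearMap.ker (φ j) := by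
      intro j
      rw [hQ]
      apply Submodule.span_le.mpr
      rintro _ (⟨v, rfl⟩ | ⟨v, rfl⟩)
      · show F c k v ∈ LinearMap.ker (φ j)
        rw [LinearMap.mem_ker, hφ]
        unfold coefX
        rw [dif_pos (by have := j.2; omega)]
        show coefX v (2 * ((j.1 - 1) + 1)) ^ 2 = 0
        unfold coefX
        rw [dif_neg (by have := j.2; omega), zero_pow (by norm_num)]
      · show V c k v ∈ LinearMap.ker (φ j)
        rw [LinearMap.mem_ker, hφ]
        unfold coefX
        rw [dif_pos (by have := j.2; omega)]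
        rfl
    rw [linearIndependent_iff']
    intro s g hsum j hj
    have h1 := congrArg (Q.liftQ (φ j) (hker j)) hsum
    rw [map_sum, map_zero] at h1
    have h2 : ∀ j' ∈ s, (Q.liftQ (φ j) (hker j)) (g j' • Q.mkQ (X c k j'.1)) =
        if j' = j then g j' else 0 := by
      intro j' _
      rw [map_smul, Submodule.mkQ_apply, Submodule.liftQ_apply, hφ,
        Groth.Agent.Lib.DieuGcH4.coefX_X, smul_eq_mul]
      by_cases h : j' = j
      · rw [if_pos ⟨by have := j.2; omega, by rw [h]⟩, if_pos h, mul_one]
      · rw [if_neg (fun h3 => h (Subtype.ext h3.2.symm)), if_neg h, mul_zero]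
    rw [Finset.sum_congr rfl h2, Finset.sum_ite_eq' s j, if_pos hj] at h1
    exact h1
  · have hrange : (Set.range fun j : {j : ℕ // c < 2 * j ∧ j ≤ c} => Q.mkQ (X c k j.1)) =
        Q.mkQ '' (Set.range fun j : {j : ℕ // c < 2 * j ∧ j ≤ c} => X c k j.1) := by
      rw [← Set.range_comp]; rfl
    rw [hrange, ← Submodule.map_span, Submodule.map_mkQ_eq_top, eq_top_iff]
    intro v _
    rw [Groth.Agent.Lib.DieuGcH4.decomp c k v]
    refine Submodule.add_mem _ (Submodule.sum_mem _ fun i _ => Submodule.smul_mem _ _ ?_)
      (Submodule.sum_mem _ fun i _ => Submodule.smul_mem _ _ ?_)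
    · have hi := i.isLt
      by_cases h2 : c < 2 * (i.val + 1)
      · apply Submodule.mem_sup_right
        exact Submodule.subset_span ⟨⟨i.val + 1, h2, by omega⟩, rfl⟩
      · apply Submodule.mem_sup_left
        rw [hQ]
        apply Submodule.subset_span
        left
        refine ⟨X c k (2 * (i.val + 1)), ?_⟩
        rw [Groth.Agent.Lib.DieuGcH4.F_X_even c k (by omega) (by omega) (by omega)]
        have : 2 * (i.val + 1) / 2 = i.val + 1 := by omega
        rw [this]
    · have hi := i.isLt
      apply Submodule.mem_sup_left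
      rw [hQ]
      apply Submodule.subset_span
      right
      exact Groth.Agent.Lib.DieuGcH4.Y_mem_range_V c k (by omega) (by omega)

/-- Let `k` be a perfect field of characteristic `2` and `c` a natural number, and let `M` be the
explicit `2c`-dimensional `k`-space on `X_1, …, X_c, Y_1, …, Y_c` with its operators `F` and `V` (`F
Y_j = 0`; `F X_j = X_{j/2}` for `j` even and `Y_{c-(j-1)/2}` for `j` odd; `V Y_j = Y_{2j}` when `2j
≤ c`, else `0`; `V X_j = Y_{2c-2j+1}` when `2j > c`, else `0`). The classes of the `X_j` with `c <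
2j ≤ 2c` in the quotient of `M` by the `k`-span of `F(M) ∪ V(M)` are linearly independent and span
that quotient. (Stated over any perfect field of characteristic `2`; the source works over an
algebraically closed one.) -/
theorem result (c : ℕ) (k : Type u) [Field k] [CharP k 2] [PerfectRing k 2] :
    LinearIndependent k (fun j : {j : ℕ // c < 2 * j ∧ j ≤ c} =>
        Submodule.mkQ (Submodule.span k (Set.range (W4c6eohyperellchar2.F c k) ∪ Set.range (W4c6eohyperellchar2.V c k))) (W4c6eohyperellchar2.X c k j.1)) ∧
      Submodule.span k (Set.range (fun j : {j : ℕ // c < 2 * j ∧ j ≤ c} =>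
        Submodule.mkQ (Submodule.span k (Set.range (W4c6eohyperellchar2.F c k) ∪ Set.range (W4c6eohyperellchar2.V c k))) (W4c6eohyperellchar2.X c k j.1))) = ⊤ := by
  exact aux c k

end Groth.Agent.S19043
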