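import Groth.Statements.S1905
import Groth.Agent.Lib.OrdFlat2_helper8
import Groth.Agent.Lib.CycPull1_helper8
import Groth.Agent.Lib.EquidimChar_helper8

set_option autoImplicit false
universe u
open CategoryTheory AlgebraicGeometry
open Cyc

namespace Groth.Agent.S1905

/-- Let f : X → Y be a flat morphism, locally of finite type, of relative dimension r between integral
schemes, and g a nonzero rational function on Y, taken in the residue field at f(η_X) (the generic
point of Y). Then f^*(div_Y g) = div_X(g ∘ f) coefficientwise, where g ∘ f is the image of g in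
κ(η_X). A pair (X, δ) with Cyc.IsSetup plays the role of a scheme locally of finite type over a
fixed base with a dimension function (X locally Noetherian with universally catenary local rings, δ
a dimension function), and Cyc.DeltaCompat records that the dimension function upstairs is the
induced one. -/
theorem result (X Y : Scheme.{u}) [IsIntegral X] [IsIntegral Y] (δX : X → ℤ) (δY : Y → ℤ) (hX : Cyc.IsSetup X δX) (hY : Cyc.IsSetup Y δY) (f : X ⟶ Y) [Flat f] [LocallyOfFiniteType f] (r : ℕ) (hr : Cyc.HasRelDim f r) (hδ : Cyc.DeltaCompat f δX δY) (g : Y.residueField (f (genericPoint X))) (hg : g ≠ 0) : Cyc.pullFun f δX δY r (Cyc.divFun δY (f (genericPoint X)) g) = Cyc.divFun δX (genericPoint X) (f.residueFieldMap (genericPoint X) g) := by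
  classical
  obtain ⟨hXn, -, hδX⟩ := hX
  obtain ⟨hYn, -, hδY⟩ := hY
  haveI := hXn
  haveI := hYn
  -- the generic point is maximal
  have hηmax : ∀ x'' : X, f x'' = f (genericPoint X) → x'' ⤳ genericPoint X →
      x'' = genericPoint X := by
    intro x'' _ h
    exact (h.antisymm (genericPoint_specializes x'')).eq
  have hηδ : δX (genericPoint X) = δY (f (genericPoint X)) + r := by
    obtain ⟨n, hn, hδη⟩ := hδ (genericPoint X)
    have e1 := EquidimCharH8.trdeg_of_fibre_max f r (genericPoint X)
      (hr (f (genericPoint X))) hηmax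
    have hn' : Dual3.resTrdeg f (genericPoint X) = n := hn
    rw [hn', Cardinal.toENat_nat] at e1
    have : n = r := by exact_mod_cast e1
    rw [hδη, this]
  funext x
  have hηx : genericPoint X ⤳ x := genericPoint_specializes x
  have hfηx : f (genericPoint X) ⤳ f x := hηx.map f.continuous
  have hdle := CycPullH8.delta_le f δX δY r hr hδ x
  -- injectivity of `O_{X,x} → κ(η)`
  have hinj : Function.Injective (Cyc.specMap x (genericPoint X) hηx) := by
    have h1 : Function.Injective (X.presheaf.stalkSpecializes hηx).hom :=
      IsFractionRing.injective (X.presheaf.stalk x) X.functionField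
    have h2 : Function.Injective (X.residue (genericPoint X)).hom :=
      RingHom.injective (R := X.functionField) (X.residue (genericPoint X)).hom
    exact h2.comp h1
  have hJ : RingHom.ker (Cyc.specMap x (genericPoint X) hηx) = ⊥ :=
    (RingHom.injective_iff_ker_eq_bot _).mp hinj
  haveI hfr := OrdFlatH8.isFractionRing_locQuot x (genericPoint X) hηx
  haveI hpx : (RingHom.ker (Cyc.specMap x (genericPoint X) hηx)).IsPrime := RingHom.ker_isPrime _
  haveI hpy : (RingHom.ker (Cyc.specMap (f x) (f (genericPoint X)) hfηx)).IsPrime :=
    RingHom.ker_isPrime _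
  unfold Cyc.pullFun Cyc.divFun
  by_cases h1 : δX x + 1 = δX (genericPoint X)
  · rw [dif_pos (show genericPoint X ⤳ x ∧ δX x + 1 = δX (genericPoint X) from ⟨hηx, h1⟩)]
    haveI hkx := OrdFlatH8.krullDimLE_one_locQuot δX hδX x (genericPoint X) hηx (by omega)
    by_cases h2 : δX x = δY (f x) + r
    · rw [if_pos h2]
      have h3 : δY (f x) + 1 = δY (f (genericPoint X)) := by omega
      rw [dif_pos (show f (genericPoint X) ⤳ f x ∧ δY (f x) + 1 = δY (f (genericPoint X)) from
        ⟨hfηx, h3⟩)]
      haveI hky := OrdFlatH8.krullDimLE_one_locQuot δY hδY (f x) (f (genericPoint X)) hfηx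
        (by omega)
      haveI hfry := OrdFlatH8.isFractionRing_locQuot (f x) (f (genericPoint X)) hfηx
      unfold Cyc.ordAt
      refine (OrdFlatH8.ordFrac_flat (f.stalkMap x).hom (Flat.stalkMap f x)
        (RingHom.ker (Cyc.specMap (f x) (f (genericPoint X)) hfηx))
        (RingHom.ker (Cyc.specMap x (genericPoint X) hηx)) hJ
        (f.residueFieldMap (genericPoint X)).hom ?_ g hg).symm
      intro a
      rw [OrdFlatH8.algebraMap_locQuot_mk, OrdFlatH8.algebraMap_locQuot_mk]
      exact OrdFlatH8.residueFieldMap_specMap f x (genericPoint X) hηx hfηx a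
    · rw [if_neg h2]
      -- `f x = f η`
      have hfx : f x = f (genericPoint X) := by
        by_contra hne
        have := (hδY _ _ hfηx (fun e => hne e.symm)).1
        omega
      have key : ∀ (y y' : Y) (h : y' ⤳ y), y = y' →
          Function.Surjective (Cyc.specMap y y' h) := by
        rintro y _ h rfl
        intro z
        obtain ⟨z', rfl⟩ := IsLocalRing.residue_surjective (R := Y.presheaf.stalk y) z
        refine ⟨z', ?_⟩
        change Y.residue y (Y.presheaf.stalkSpecializes h z') = _
        rw [TopCat.Presheaf.stalkSpecializes_refl]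
        rfl
      obtain ⟨a, ha⟩ := key _ _ hfηx hfx g
      obtain ⟨a', ha'⟩ := key _ _ hfηx hfx g⁻¹
      have hau : IsUnit a := by
        by_contra hnu
        have hm : a ∈ IsLocalRing.maximalIdeal (Y.presheaf.stalk (f x)) :=
          (IsLocalRing.mem_maximalIdeal a).mpr hnu
        have hker : RingHom.ker (Cyc.specMap (f x) (f (genericPoint X)) hfηx) ≤
            IsLocalRing.maximalIdeal (Y.presheaf.stalk (f x)) :=
          IsLocalRing.le_maximalIdeal (RingHom.ker_ne_top _)
        have h4 : a * a' - 1 ∈ RingHom.ker (Cyc.specMap (f x) (f (genericPoint X)) hfηx) := by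
          rw [RingHom.mem_ker, map_sub, map_mul, ha, ha', mul_inv_cancel₀ hg, map_one, sub_self]
        have h5 := hker h4
        have h6 : a * a' ∈ IsLocalRing.maximalIdeal (Y.presheaf.stalk (f x)) :=
          Ideal.mul_mem_right _ _ hm
        have h7 : (1 : Y.presheaf.stalk (f x)) ∈
            IsLocalRing.maximalIdeal (Y.presheaf.stalk (f x)) := by
          have := sub_mem h6 h5
          simpa using this
        exact (Ideal.ne_top_iff_one _).mp (IsLocalRing.maximalIdeal.isMaximal _).ne_top h7
      rw [← ha, OrdFlatH8.residueFieldMap_specMap f x (genericPoint X) hηx hfηx a,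
        ← OrdFlatH8.algebraMap_locQuot_mk]
      unfold Cyc.ordAt
      rw [OrdFlatH8.ordFrac_algebraMap_unit (Cyc.LocQuot x (genericPoint X) hηx)
        (X.residueField (genericPoint X))
        ((hau.map (f.stalkMap x).hom).map (Ideal.Quotient.mk _))]
  · rw [dif_neg (show ¬ (genericPoint X ⤳ x ∧ δX x + 1 = δX (genericPoint X)) from fun h => h1 h.2)]
    by_cases h2 : δX x = δY (f x) + r
    · rw [if_pos h2, dif_neg (show ¬ (f (genericPoint X) ⤳ f x ∧
        δY (f x) + 1 = δY (f (genericPoint X))) from fun h => h1 (by have := h.2; omega)), zero_mul]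
    · rw [if_neg h2]

end Groth.Agent.S1905
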