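import Groth.Statements.S1907
import Mathlib
import Groth.Agent.Lib.CycFD3_helper5

set_option autoImplicit false
universe u
open CategoryTheory AlgebraicGeometry
open Cyc

namespace Groth.Agent.S1907

open Groth.Agent.Lib.CycFBCH5 Groth.Agent.Lib.CycFDH5 in
theorem pmult_of_maximalIdeal_eq_bot {X Y : Scheme.{u}} (f : X ⟶ Y) (ξ' : X)
    (h : IsLocalRing.maximalIdeal (Y.presheaf.stalk (f ξ')) = ⊥) :
    pmult f ξ' = Module.length (X.presheaf.stalk ξ') (X.presheaf.stalk ξ') := by
  unfold pmult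
  rw [h, Ideal.map_bot]
  exact (Submodule.quotEquivOfEqBot (⊥ : Ideal (X.presheaf.stalk ξ')) rfl).length_eq

theorem maximalIdeal_stalk_eq_bot {Y : Scheme.{u}} [IsIntegral Y] (y : Y)
    (e : y = genericPoint Y) : IsLocalRing.maximalIdeal (Y.presheaf.stalk y) = ⊥ := by
  subst e
  exact IsLocalRing.maximalIdeal_eq_bot (R := Y.functionField)

/-- Let Y be integral with δY(η_Y) = k, f : X → Y flat, locally of finite type, of relative dimension r,
and g a nonzero rational function on Y. Then f^*(div_Y g) = Σ_j n_j · div_{X_j}(g|_{X_j}) as (k + r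
− 1)-cycles on X, the sum over the irreducible components X_j of X (generic points ξ_j, which map to
η_Y) with n_j the length of O_{X,ξ_j}, and g|_{X_j} the image of g in κ(ξ_j). A pair (X, δ) with
Cyc.IsSetup plays the role of a scheme locally of finite type over a fixed base with a dimension
function (X locally Noetherian with universally catenary local rings, δ a dimension function), and
Cyc.DeltaCompat records that the dimension function upstairs is the induced one. -/
theorem result (X Y : Scheme.{u}) [IsIntegral Y] (δX : X → ℤ) (δY : Y → ℤ) (hX : Cyc.IsSetup X δX) (hY : Cyc.IsSetup Y δY) (f : X ⟶ Y) [Flat f] [LocallyOfFiniteType f] (r : ℕ) (hr : Cyc.HasRelDim f r) (hδ : Cyc.DeltaCompat f δX δY) (k : ℤ) (hk : δY (genericPoint Y) = k) (g : Y.residueField (genericPoint Y)) (hg : g ≠ 0) (x : X) : Cyc.pullFun f δX δY r (Cyc.divFun δY (genericPoint Y) g) x = ∑ᶠ ξ : {ξ : X // (∀ x' : X, x' ⤳ ξ → x' = ξ) ∧ f ξ = genericPoint Y}, ((Module.length (X.presheaf.stalk ξ.1) (X.presheaf.stalk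 ξ.1)).toNat : ℤ) * Cyc.divFun δX ξ.1 (f.residueFieldMap ξ.1 ((Y.residueFieldCongr ξ.2.2.symm).hom g)) x := by
  classical
  rw [Groth.Agent.Lib.CycFDH5.pull_div δX δY hX hY f r hr hδ (genericPoint Y) g hg x]
  have hiff : ∀ ξ : X, ((∀ x' : X, x' ⤳ ξ → x' = ξ) ∧ f ξ = genericPoint Y) ↔
      (Groth.Agent.Lib.CycFBCH5.FibMax f ξ ∧ f ξ = genericPoint Y) := by
    intro ξ
    constructor
    · rintro ⟨h1, h2⟩
      exact ⟨fun y _ hy => h1 y hy, h2⟩
    · rintro ⟨h1, h2⟩
      refine ⟨fun x' hx' => ?_, h2⟩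
      have h3 : f x' ⤳ f ξ := hx'.map f.continuous
      rw [h2] at h3
      have h4 : f x' = genericPoint Y :=
        (h3.antisymm (genericPoint_specializes (f x'))).eq
      exact h1 x' (h4.trans h2.symm) hx'
  rw [← finsum_comp_equiv (Equiv.subtypeEquivRight hiff)]
  apply finsum_congr
  intro ξ
  show ((Groth.Agent.Lib.CycFBCH5.pmult f ξ.1).toNat : ℤ) * _ = _
  rw [pmult_of_maximalIdeal_eq_bot f ξ.1 (maximalIdeal_stalk_eq_bot (f ξ.1) ξ.2.2)]
  rfl

end Groth.Agent.S1907
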