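import Groth.Statements.S19092
import Mathlib

set_option autoImplicit false
universe u
open FrobAlg

namespace Groth.Agent.S19092

/-- Let p be a prime and A a commutative ring of characteristic p whose absolute Frobenius a ↦ a^p is a
finite ring homomorphism. Then the same holds for every quotient and every localization of A: for
every ideal I of A such that A ⧸ I has characteristic p (every proper ideal) the absolute Frobenius
of A ⧸ I is finite, and for every submonoid S of A and every localization B of A at S of
characteristic p (every nonzero localization) the absolute Frobenius of B is finite. -/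
theorem result (p : ℕ) [Fact p.Prime]
    (A : Type u) [CommRing A] [CharP A p] (hF : (frobenius A p).Finite) :
    (∀ (I : Ideal A) [CharP (A ⧸ I) p], (frobenius (A ⧸ I) p).Finite) ∧
      ∀ (S : Submonoid A) (B : Type u) [CommRing B] [Algebra A B] [IsLocalization S B] [CharP B p],
        (frobenius B p).Finite := by
  have hp : p.Prime := Fact.out
  haveI : ExpChar A p := ExpChar.prime hp
  constructor
  · intro I _
    haveI : ExpChar (A ⧸ I) p := ExpChar.prime hp
    apply RingHom.Finite.of_comp_finite (f := Ideal.Quotient.mk I)
    rw [← RingHom.frobenius_comm]
    exact (RingHom.Finite.of_surjective _ Ideal.Quotient.mk_surjective).comp hF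
  · intro S B _ _ _ _
    haveI : ExpChar B p := ExpChar.prime hp
    haveI hloc : IsLocalization (S.map (frobenius A p)) B := by
      refine (IsLocalization.iff_of_le_of_exists_dvd (S.map (frobenius A p)) S ?_ ?_).mpr
        inferInstance
      · rintro _ ⟨s, hs, rfl⟩
        exact pow_mem hs p
      · intro s hs
        exact ⟨s ^ p, ⟨s, hs, rfl⟩, dvd_pow_self s hp.ne_zero⟩
    have h := RingHom.finite_localizationPreserves (frobenius A p) S B B hF
    have heq : frobenius B p =
        IsLocalization.map B (frobenius A p) (Submonoid.le_comap_map S) := by
      apply IsLocalization.ringHom_ext S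
      rw [IsLocalization.map_comp]
      exact (RingHom.frobenius_comm (algebraMap A B) p).symm
    rw [heq]
    exact h

end Groth.Agent.S19092
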