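import Groth.Statements.S19093
import Groth.Agent.Lib.FrobRank_helper3
import Groth.Agent.S19092
-- import your own Groth.Agent.* helpers here

set_option autoImplicit false
universe u
open FrobAlg


namespace Groth.Agent.S19093

/-- Let p be a prime, k a finite field of characteristic p, A a commutative k[[t]]-algebra of finite
type over the power series ring k[[t]], and P a prime ideal of A. Then the absolute Frobenius a ↦
a^p of the local ring A_P is a finite ring homomorphism. In particular every local ring of a scheme
of finite type over k[[t]] has finite absolute Frobenius. (The instance hypothesis that A_P has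
characteristic p always holds, A_P being a nonzero algebra over k.) The published statement is for
the local rings of a projective strictly semistable scheme over k[[t]] and adds that such a scheme
is regular with F-finite local rings; its proof uses only that the scheme is of finite type over
k[[t]], which is the form stated here. -/
theorem result (p : ℕ) [Fact p.Prime]
    (k : Type u) [Field k] [Finite k] [CharP k p]
    (A : Type u) [CommRing A] [Algebra (PowerSeries k) A] [Algebra.FiniteType (PowerSeries k) A]
    (P : Ideal A) [P.IsPrime] [CharP (Localization.AtPrime P) p] :
    (frobenius (Localization.AtPrime P) p).Finite := by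
  have hp : p.Prime := Fact.out
  haveI : Nontrivial A := ⟨⟨0, 1, fun h => ‹P.IsPrime›.ne_top ((Ideal.eq_top_iff_one P).mpr (h ▸ P.zero_mem))⟩⟩
  haveI : CharP (PowerSeries k) p :=
    (RingHom.charP_iff (PowerSeries.C : k →+* PowerSeries k) PowerSeries.C_injective p).mp
      inferInstance
  haveI : CharP A p := by
    refine (CharP.charP_iff_prime_eq_zero hp).mpr ?_
    have h1 : ((p : PowerSeries k)) = 0 := CharP.cast_eq_zero (PowerSeries k) p
    have h2 := congrArg (algebraMap (PowerSeries k) A) h1
    rwa [map_natCast, map_zero] at h2
  have hF : (frobenius A p).Finite :=
    Groth.Agent.Lib.FrobRankH3.frobenius_finite_of_finiteType p k A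
  exact (Groth.Agent.S19092.result p A hF).2 P.primeCompl (Localization.AtPrime P)

end Groth.Agent.S19093
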