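import Groth.Statements.S19136
import Mathlib.Tactic.Linarith
import Mathlib.Analysis.Normed.Field.Basic
import Mathlib.Analysis.SpecialFunctions.Pow.Real

set_option autoImplicit false
universe u
open Instab

namespace Groth.Agent.S19136

/-- Let p be a seminorm and ℓ a linear form on a real vector space, let y₀ and y₁ be vectors at which p
is positive and ℓ is non-negative, and let y = t y₀ + (1 - t) y₁ with 0 < t < 1 be a point of the
open segment at which p is positive. Then ℓ(y)/p(y) is at least the smaller of ℓ(y₀)/p(y₀) and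
ℓ(y₁)/p(y₁), and if it equals that smaller value then ℓ(y₀)/p(y₀) = ℓ(y₁)/p(y₁). (The published
lemma concerns the numerical invariant attached to a degree-two cohomology class and a semi-norm on
graded points of a stack; restricted to one rational simplex that invariant is the quotient of a
linear form by a semi-norm on the non-negative orthant of a real coordinate space, and local
quasi-concavity there amounts to this inequality with its equality clause, the set where the linear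
form is non-negative being automatically convex; the lemma's further assertion, that the invariant
is positive at no pair of antipodal points, is not stated here. The vector space is arbitrary here.) -/
theorem result {E : Type u} [AddCommGroup E] [Module ℝ E]
    (p : Seminorm ℝ E) (ℓ : E →ₗ[ℝ] ℝ) (y₀ y₁ : E) (h₀ : 0 < p y₀) (h₁ : 0 < p y₁)
    (hℓ₀ : 0 ≤ ℓ y₀) (hℓ₁ : 0 ≤ ℓ y₁) (t : ℝ) (ht₀ : 0 < t) (ht₁ : t < 1)
    (hy : 0 < p (t • y₀ + (1 - t) • y₁)) :
    min (ℓ y₀ / p y₀) (ℓ y₁ / p y₁) ≤ ℓ (t • y₀ + (1 - t) • y₁) / p (t • y₀ + (1 - t) • y₁) ∧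
      (ℓ (t • y₀ + (1 - t) • y₁) / p (t • y₀ + (1 - t) • y₁) = min (ℓ y₀ / p y₀) (ℓ y₁ / p y₁) →
        ℓ y₀ / p y₀ = ℓ y₁ / p y₁) := by
  set P₀ := p y₀ with hP₀
  set P₁ := p y₁ with hP₁
  set y := t • y₀ + (1 - t) • y₁ with hy'
  have ht1' : 0 < 1 - t := by linarith
  have hℓy : ℓ y = t * ℓ y₀ + (1 - t) * ℓ y₁ := by
    rw [hy', map_add, map_smul, map_smul, smul_eq_mul, smul_eq_mul]
  have hpy : p y ≤ t * P₀ + (1 - t) * P₁ := by
    calc p y ≤ p (t • y₀) + p ((1 - t) • y₁) := map_add_le_add p _ _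
      _ = t * P₀ + (1 - t) * P₁ := by
          rw [map_smul_eq_mul, map_smul_eq_mul, Real.norm_of_nonneg ht₀.le,
            Real.norm_of_nonneg ht1'.le]
  set μ := min (ℓ y₀ / P₀) (ℓ y₁ / P₁) with hμ
  have hμ0 : 0 ≤ μ := le_min (div_nonneg hℓ₀ h₀.le) (div_nonneg hℓ₁ h₁.le)
  have hμ₀ : μ * P₀ ≤ ℓ y₀ := by
    have : μ ≤ ℓ y₀ / P₀ := min_le_left _ _
    exact (le_div_iff₀ h₀).mp this
  have hμ₁ : μ * P₁ ≤ ℓ y₁ := by
    have : μ ≤ ℓ y₁ / P₁ := min_le_right _ _
    exact (le_div_iff₀ h₁).mp this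
  have hchain1 : μ * p y ≤ μ * (t * P₀ + (1 - t) * P₁) := mul_le_mul_of_nonneg_left hpy hμ0
  have hchain2 : μ * (t * P₀ + (1 - t) * P₁) ≤ ℓ y := by
    rw [hℓy]
    have a1 : t * (μ * P₀) ≤ t * ℓ y₀ := mul_le_mul_of_nonneg_left hμ₀ ht₀.le
    have a2 : (1 - t) * (μ * P₁) ≤ (1 - t) * ℓ y₁ := mul_le_mul_of_nonneg_left hμ₁ ht1'.le
    nlinarith
  refine ⟨?_, ?_⟩
  · rw [le_div_iff₀ hy]
    linarith
  · intro heq
    have heq' : ℓ y = μ * p y := by
      rw [div_eq_iff hy.ne'] at heq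
      exact heq
    -- all inequalities are equalities
    have e0 : t * (ℓ y₀ - μ * P₀) + (1 - t) * (ℓ y₁ - μ * P₁) ≤ 0 := by
      have : μ * (t * P₀ + (1 - t) * P₁) = ℓ y := le_antisymm hchain2 (by rw [heq']; exact hchain1)
      rw [hℓy] at this
      nlinarith
    have b0 : 0 ≤ t * (ℓ y₀ - μ * P₀) := mul_nonneg ht₀.le (by linarith)
    have b1 : 0 ≤ (1 - t) * (ℓ y₁ - μ * P₁) := mul_nonneg ht1'.le (by linarith)
    have c0 : t * (ℓ y₀ - μ * P₀) = 0 := by linarith
    have c1 : (1 - t) * (ℓ y₁ - μ * P₁) = 0 := by linarith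
    have d0 : ℓ y₀ - μ * P₀ = 0 := (mul_eq_zero.mp c0).resolve_left ht₀.ne'
    have d1 : ℓ y₁ - μ * P₁ = 0 := (mul_eq_zero.mp c1).resolve_left ht1'.ne'
    have r0 : ℓ y₀ / P₀ = μ := by rw [div_eq_iff h₀.ne']; linarith
    have r1 : ℓ y₁ / P₁ = μ := by rw [div_eq_iff h₁.ne']; linarith
    rw [r0, r1]

end Groth.Agent.S19136
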