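import Groth.Statements.S19160
import Mathlib

set_option autoImplicit false
open scoped TensorProduct
universe u
open PureMod

namespace Groth.Agent.S19160

/-- (2) ⇒ (3): in affine form, let R be a commutative ring and i : A → B an R-linear map such that for
every commutative R-algebra R' the base change R' ⊗ A → R' ⊗ B is injective (the pull-back of i to
every affine scheme over Spec R is a monomorphism). Then F ⊗ A → F ⊗ B is injective for every
R-module F, i.e. i is universally injective (pure). (Modules and algebras are taken in the universe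
of R.) -/
theorem result (R : Type u) [CommRing R]
    (A B : Type u) [AddCommGroup A] [Module R A] [AddCommGroup B] [Module R B] (i : A →ₗ[R] B)
    (h : ∀ (R' : Type u) [CommRing R'] [Algebra R R'], Function.Injective (i.baseChange R'))
    (F : Type u) [AddCommGroup F] [Module R F] :
    Function.Injective (i.lTensor F) := by
  classical
  letI : Module Rᵐᵒᵖ F := Module.compHom F ((RingHom.id R).fromOpposite mul_comm)
  haveI : IsCentralScalar R F := ⟨fun r m => rfl⟩
  have hinj := h (TrivSqZeroExt R F)
  have hbc : ∀ y, (i.baseChange (TrivSqZeroExt R F)) y = (i.lTensor (TrivSqZeroExt R F)) y :=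
    fun y => rfl
  have hretr : (TrivSqZeroExt.sndHom R F) ∘ₗ (TrivSqZeroExt.inrHom R F) = LinearMap.id := by
    ext m; simp
  rw [injective_iff_map_eq_zero]
  intro x hx
  have h1 : (i.lTensor (TrivSqZeroExt R F)) ((LinearMap.rTensor A (TrivSqZeroExt.inrHom R F)) x)
      = 0 := by
    have h2 : (i.lTensor (TrivSqZeroExt R F)) ∘ₗ (LinearMap.rTensor A (TrivSqZeroExt.inrHom R F))
        = (LinearMap.rTensor B (TrivSqZeroExt.inrHom R F)) ∘ₗ (i.lTensor F) := by
      rw [LinearMap.lTensor_comp_rTensor, LinearMap.rTensor_comp_lTensor]
    have h3 := LinearMap.congr_fun h2 x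
    rw [LinearMap.comp_apply, LinearMap.comp_apply, hx, map_zero] at h3
    exact h3
  rw [← hbc] at h1
  have h4 : (LinearMap.rTensor A (TrivSqZeroExt.inrHom R F)) x = 0 :=
    (injective_iff_map_eq_zero _).mp hinj _ h1
  have h5 := congrArg (LinearMap.rTensor A (TrivSqZeroExt.sndHom R F)) h4
  rw [map_zero, ← LinearMap.comp_apply, ← LinearMap.rTensor_comp, hretr, LinearMap.rTensor_id,
    LinearMap.id_apply] at h5
  exact h5

end Groth.Agent.S19160
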