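import Groth.Statements.S19167
import Mathlib.Algebra.Category.Grp.Injective
import Mathlib.Algebra.Module.CharacterModule
import Mathlib.Topology.Algebra.OpenSubgroup

set_option autoImplicit false
universe u v
open ProCompl

namespace Groth.Agent.S19167

open Topology in
/-- Let i : A → B be an injective continuous homomorphism of topological abelian groups inducing the
topology of A from that of B (a strict injection), with open image. Then every character χ : A → ℚ/ℤ
with open kernel extends along i to a character ψ : B → ℚ/ℤ with open kernel. Here ℚ/ℤ is regarded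
as a discrete group, so that continuity of a character means that its kernel is open. -/
theorem result
    {A : Type u} {B : Type v} [AddCommGroup A] [TopologicalSpace A] [IsTopologicalAddGroup A]
    [AddCommGroup B] [TopologicalSpace B] [IsTopologicalAddGroup B]
    (i : A →+ B) (hi : Continuous i) (hinj : Function.Injective i) (hind : IsInducing i)
    (hopen : IsOpen (Set.range i))
    (χ : A →+ ℚ ⧸ AddSubgroup.zmultiples (1 : ℚ)) (hχ : IsOpen (χ.ker : Set A)) :
    ∃ ψ : B →+ ℚ ⧸ AddSubgroup.zmultiples (1 : ℚ), IsOpen (ψ.ker : Set B) ∧ ψ.comp i = χ := by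
  haveI : DivisibleBy (ℚ ⧸ AddSubgroup.zmultiples (1 : ℚ)) ℤ := inferInstance
  obtain ⟨ψ, hψ⟩ := (Module.Baer.of_divisible (ℚ ⧸ AddSubgroup.zmultiples (1 : ℚ))).extension_property_addMonoidHom i hinj χ
  refine ⟨ψ, ?_, hψ⟩
  -- the image of ker χ is open in B
  obtain ⟨U, hU, hUχ⟩ := hind.isOpen_iff.1 hχ
  have hopen' : IsOpen (U ∩ Set.range i) := hU.inter hopen
  have h0 : (0 : B) ∈ U ∩ Set.range i := by
    refine ⟨?_, ⟨0, map_zero i⟩⟩
    have : (0 : A) ∈ i ⁻¹' U := by rw [hUχ]; exact χ.ker.zero_mem
    simpa using this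
  have hsub : U ∩ Set.range i ⊆ (ψ.ker : Set B) := by
    rintro b ⟨hbU, ⟨a, rfl⟩⟩
    have ha : a ∈ (χ.ker : Set A) := by rw [← hUχ]; exact hbU
    have h1 : χ a = 0 := ha
    show ψ (i a) = 0
    have h2 : ψ (i a) = χ a := by rw [← hψ]; rfl
    rw [h2, h1]
  exact AddSubgroup.isOpen_of_mem_nhds ψ.ker (g := 0) (Filter.mem_of_superset (hopen'.mem_nhds h0) hsub)

end Groth.Agent.S19167
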