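import Groth.Statements.S19169
import Groth.Agent.Lib.VanDantzig_helper2

set_option autoImplicit false
universe u
open ProCompl

namespace Groth.Agent.S19169

/-- Let B be a Hausdorff, locally compact, totally disconnected topological abelian group which is
compactly generated, i.e. generated as a group by a compact subset. Then the open subgroups of
finite index of B have trivial intersection: every nonzero b lies outside some open subgroup of
finite index. Equivalently, the natural map from B to its completion with respect to open subgroups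
of finite index is injective. -/
theorem result
    {B : Type u} [AddCommGroup B] [TopologicalSpace B] [IsTopologicalAddGroup B]
    [T2Space B] [LocallyCompactSpace B] [TotallyDisconnectedSpace B]
    (hcg : ∃ K : Set B, IsCompact K ∧ AddSubgroup.closure K = ⊤) (b : B) (hb : b ≠ 0) :
    ∃ B' : AddSubgroup B, IsOpen (B' : Set B) ∧ B'.FiniteIndex ∧ b ∉ B' := by
  obtain ⟨K, hKc, hKgen⟩ := hcg
  have hV : IsOpen ({b}ᶜ : Set B) := isClosed_singleton.isOpen_compl
  have h0V : (0 : B) ∈ ({b}ᶜ : Set B) := by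
    simp only [Set.mem_compl_iff, Set.mem_singleton_iff]
    exact fun h => hb h.symm
  obtain ⟨U, hUo, -, hUV⟩ :=
    Groth.Agent.Lib.VanDantzig.exists_compact_open_addSubgroup_subset hV h0V
  have hbU : b ∉ U := fun h => hUV h rfl
  obtain ⟨M, -, hMmax⟩ := zorn_le_nonempty₀ {C : AddSubgroup B | U ≤ C ∧ b ∉ C} (by
      intro c hc hchain y hy
      refine ⟨sSup c, ⟨le_trans (hc hy).1 (le_sSup hy), ?_⟩, fun z hz => le_sSup hz⟩
      intro hb'
      obtain ⟨C, hC, hbC⟩ :=
        (AddSubgroup.mem_sSup_of_directedOn ⟨y, hy⟩ hchain.directedOn).1 hb'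
      exact (hc hC).2 hbC) U ⟨le_rfl, hbU⟩
  have hMs : U ≤ M ∧ b ∉ M := hMmax.prop
  have hMo : IsOpen (M : Set B) := AddSubgroup.isOpen_mono hMs.1 hUo
  have hbne : (b : B ⧸ M) ≠ 0 := by
    rw [Ne, QuotientAddGroup.eq_zero_iff]
    exact hMs.2
  have hess : ∀ C : AddSubgroup (B ⧸ M), C ≠ ⊥ → (b : B ⧸ M) ∈ C := by
    intro C hC
    by_contra hbC
    have hle : M ≤ C.comap (QuotientAddGroup.mk' M) := by
      intro x hx
      rw [AddSubgroup.mem_comap]
      have h1 : (QuotientAddGroup.mk' M) x = 0 := (QuotientAddGroup.eq_zero_iff x).2 hx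
      rw [h1]
      exact C.zero_mem
    have hM' : U ≤ C.comap (QuotientAddGroup.mk' M) ∧ b ∉ C.comap (QuotientAddGroup.mk' M) :=
      ⟨le_trans hMs.1 hle, hbC⟩
    have hge := hMmax.le_of_ge hM' hle
    apply hC
    rw [eq_bot_iff]
    intro q hq
    obtain ⟨x, rfl⟩ := QuotientAddGroup.mk_surjective q
    rw [AddSubgroup.mem_bot, QuotientAddGroup.eq_zero_iff]
    exact hge hq
  have hzne : ∀ y : B ⧸ M, y ≠ 0 → (b : B ⧸ M) ∈ AddSubgroup.zmultiples y := fun y hy =>
    hess _ (by rw [Ne, AddSubgroup.zmultiples_eq_bot]; exact hy)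
  have hb_fin : IsOfFinAddOrder (b : B ⧸ M) := by
    by_cases h2 : (2 : ℤ) • (b : B ⧸ M) = 0
    · exact isOfFinAddOrder_iff_zsmul_eq_zero.2 ⟨2, by norm_num, h2⟩
    · obtain ⟨k, hk⟩ := AddSubgroup.mem_zmultiples_iff.1 (hzne _ h2)
      refine isOfFinAddOrder_iff_zsmul_eq_zero.2 ⟨k * 2 - 1, by omega, ?_⟩
      rw [sub_smul, one_smul, mul_smul, hk, sub_self]
  have htors : IsAddTorsion (B ⧸ M) := by
    intro y
    by_cases hy : y = 0
    · rw [hy]
      exact isOfFinAddOrder_iff_zsmul_eq_zero.2 ⟨1, one_ne_zero, smul_zero _⟩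
    · obtain ⟨k, hk⟩ := AddSubgroup.mem_zmultiples_iff.1 (hzne y hy)
      obtain ⟨m, hm0, hm⟩ := isOfFinAddOrder_iff_zsmul_eq_zero.1 hb_fin
      have hk0 : k ≠ 0 := by
        rintro rfl
        rw [zero_smul] at hk
        exact hbne hk.symm
      exact isOfFinAddOrder_iff_zsmul_eq_zero.2
        ⟨m * k, mul_ne_zero hm0 hk0, by rw [mul_smul, hk, hm]⟩
  have hopen : ∀ x : B, IsOpen ((fun y => y + -x) ⁻¹' (M : Set B)) := fun x =>
    hMo.preimage (continuous_id.add continuous_const)
  obtain ⟨t, -, htfin, hcover⟩ := hKc.elim_finite_subcover_image (b := K)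
    (c := fun x => (fun y => y + -x) ⁻¹' (M : Set B)) (fun x _ => hopen x)
    (fun x hx => Set.mem_biUnion hx (by
      show x + -x ∈ (M : Set B)
      rw [add_neg_cancel]
      exact M.zero_mem))
  have hfinK : ((QuotientAddGroup.mk' M) '' K).Finite :=
    (htfin.image (QuotientAddGroup.mk' M)).subset (by
      rintro _ ⟨y, hy, rfl⟩
      obtain ⟨x, hx, hyx⟩ := Set.mem_iUnion₂.1 (hcover hy)
      refine ⟨x, hx, ?_⟩
      have h1 : -x + y ∈ M := by
        have h2 : y + -x ∈ M := hyx
        rwa [add_comm] at h2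
      exact QuotientAddGroup.eq.2 h1)
  have hgenQ : AddSubgroup.closure ((QuotientAddGroup.mk' M) '' K) = ⊤ := by
    rw [← AddMonoidHom.map_closure, hKgen, ← AddMonoidHom.range_eq_map,
      AddMonoidHom.range_eq_top]
    exact QuotientAddGroup.mk'_surjective M
  have hfg : AddGroup.FG (B ⧸ M) := AddGroup.fg_iff.2 ⟨_, hgenQ, hfinK⟩
  haveI : Finite (B ⧸ M) := AddCommGroup.finite_of_fg_isAddTorsion (B ⧸ M) htors
  exact ⟨M, hMo, AddSubgroup.finiteIndex_of_finite_quotient, hMs.2⟩

end Groth.Agent.S19169
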