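import Groth.Statements.S19170
import Mathlib.GroupTheory.FiniteAbelian.Basic
import Mathlib.Topology.Compactness.Compact
import Mathlib.GroupTheory.Finiteness

set_option autoImplicit false
universe u
open ProCompl

namespace Groth.Agent.S19170

/-- Let B be a topological abelian group generated as a group by a compact subset. Then every character
χ : B → ℚ/ℤ with open kernel (a continuous character for discrete ℚ/ℤ) has kernel of finite index;
consequently each such character factors through B^∧, the completion of B taken along its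
finite-index open subgroups, i.e. (B^∧)^D = B^D. (The published statement assumes moreover that B is
Hausdorff, locally compact and totally disconnected; only compact generation is needed for this
assertion, so those assumptions are dropped here.) -/
theorem result
    {B : Type u} [AddCommGroup B] [TopologicalSpace B] [IsTopologicalAddGroup B]
    (hcg : ∃ K : Set B, IsCompact K ∧ AddSubgroup.closure K = ⊤)
    (χ : B →+ ℚ ⧸ AddSubgroup.zmultiples (1 : ℚ)) (hχ : IsOpen (χ.ker : Set B)) : χ.ker.FiniteIndex := by
  obtain ⟨K, hK, hgen⟩ := hcg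
  have hopen : ∀ b : B, IsOpen {x : B | χ x = χ b} := by
    intro b
    have h1 : {x : B | χ x = χ b} = (fun x => x + -b) ⁻¹' (χ.ker : Set B) := by
      ext x
      simp only [Set.mem_setOf_eq, Set.mem_preimage, SetLike.mem_coe, AddMonoidHom.mem_ker,
        map_add, map_neg]
      rw [← sub_eq_add_neg, sub_eq_zero]
    rw [h1]
    exact hχ.preimage (continuous_id.add continuous_const)
  obtain ⟨t, htK, htfin, hcover⟩ := hK.elim_finite_subcover_image (b := K)
    (c := fun b => {x : B | χ x = χ b}) (fun b _ => hopen b)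
    (fun x hx => Set.mem_biUnion hx rfl)
  have hfin : (χ '' K).Finite := (htfin.image χ).subset (by
    rintro _ ⟨x, hx, rfl⟩
    obtain ⟨b, hb, hxb⟩ := Set.mem_iUnion₂.1 (hcover hx)
    exact ⟨b, hb, hxb.symm⟩)
  have hrange : χ.range = AddSubgroup.closure (χ '' K) := by
    rw [AddMonoidHom.range_eq_map, ← hgen, AddMonoidHom.map_closure]
  have htors : ∀ y : ℚ ⧸ AddSubgroup.zmultiples (1 : ℚ), IsOfFinAddOrder y := by
    intro y
    obtain ⟨r, rfl⟩ := QuotientAddGroup.mk_surjective y
    rw [isOfFinAddOrder_iff_nsmul_eq_zero]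
    refine ⟨r.den, r.den_pos, ?_⟩
    have h2 : (r.den • r : ℚ) = (r.num : ℚ) := by
      rw [nsmul_eq_mul, mul_comm, Rat.mul_den_eq_num]
    have h3 : (r.den • (r : ℚ ⧸ AddSubgroup.zmultiples (1 : ℚ))) =
        ((r.den • r : ℚ) : ℚ ⧸ AddSubgroup.zmultiples (1 : ℚ)) := rfl
    rw [h3, h2, QuotientAddGroup.eq_zero_iff]
    exact AddSubgroup.mem_zmultiples_iff.2 ⟨r.num, by simp⟩
  have hFG : AddGroup.FG (AddSubgroup.closure (χ '' K)) := by
    haveI := hfin.to_subtype
    exact AddGroup.closure_finite_fg _
  have hFG' : AddGroup.FG χ.range := by rw [hrange]; exact hFG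
  have htors' : IsAddTorsion χ.range := by
    intro y
    obtain ⟨m, hm, hmy⟩ := isOfFinAddOrder_iff_nsmul_eq_zero.1 (htors (y : ℚ ⧸ AddSubgroup.zmultiples (1 : ℚ)))
    exact isOfFinAddOrder_iff_nsmul_eq_zero.2 ⟨m, hm, Subtype.ext (by simpa using hmy)⟩
  haveI : Finite χ.range := AddCommGroup.finite_of_fg_isAddTorsion _ htors'
  refine ⟨?_⟩
  rw [AddSubgroup.index_ker]
  exact Nat.card_pos.ne'

end Groth.Agent.S19170
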