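import Groth.Statements.S19171
import Groth.Agent.Lib.VanDantzig_helper2

set_option autoImplicit false
universe u v
open ProCompl

namespace Groth.Agent.S19171

open Topology in
/-- Let B be a Hausdorff, locally compact, totally disconnected topological abelian group generated as a
group by a compact subset, and let i : A → B be an injective continuous homomorphism inducing the
topology of A from that of B (a strict injection) whose image is closed. Then every character χ : A
→ ℚ/ℤ with open kernel extends along i to a character ψ : B → ℚ/ℤ with open kernel; with ℚ/ℤ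
discrete this says that restriction B^D → A^D of continuous characters is surjective, i.e. the dual
of a topological exact sequence 0 → A → B → C → 0 with such B, strict closed i and open p is a short
exact sequence 0 → C^D → B^D → A^D → 0. -/
theorem result
    {A : Type u} {B : Type v} [AddCommGroup A] [TopologicalSpace A] [IsTopologicalAddGroup A]
    [AddCommGroup B] [TopologicalSpace B] [IsTopologicalAddGroup B]
    [T2Space B] [LocallyCompactSpace B] [TotallyDisconnectedSpace B]
    (hcg : ∃ K : Set B, IsCompact K ∧ AddSubgroup.closure K = ⊤)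
    (i : A →+ B) (hi : Continuous i) (hinj : Function.Injective i) (hind : IsInducing i)
    (hcl : IsClosed (Set.range i))
    (χ : A →+ ℚ ⧸ AddSubgroup.zmultiples (1 : ℚ)) (hχ : IsOpen (χ.ker : Set A)) :
    ∃ ψ : B →+ ℚ ⧸ AddSubgroup.zmultiples (1 : ℚ), IsOpen (ψ.ker : Set B) ∧ ψ.comp i = χ := by
  obtain ⟨V, hV, hVχ⟩ := hind.isOpen_iff.1 hχ
  have h0V : (0 : B) ∈ V := by
    have h1 : (0 : A) ∈ i ⁻¹' V := by rw [hVχ]; exact χ.ker.zero_mem
    simpa using h1
  obtain ⟨U, hUo, -, hUV⟩ :=
    Groth.Agent.Lib.VanDantzig.exists_compact_open_addSubgroup_subset hV h0V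
  obtain ⟨s, hs⟩ : ∃ s : A × U →+ B, ∀ x : A × U, s x = i x.1 + (x.2 : B) :=
    ⟨(i.comp (AddMonoidHom.fst A U)) + (U.subtype.comp (AddMonoidHom.snd A U)), fun _ => rfl⟩
  obtain ⟨χ', hχ'⟩ : ∃ χ' : A × U →+ ℚ ⧸ AddSubgroup.zmultiples (1 : ℚ), ∀ x : A × U, χ' x = χ x.1 :=
    ⟨χ.comp (AddMonoidHom.fst A U), fun _ => rfl⟩
  have hker : s.ker ≤ χ'.ker := by
    rintro ⟨a, u⟩ h
    rw [AddMonoidHom.mem_ker] at h ⊢
    rw [hs] at h
    rw [hχ']
    have h1 : i a = -(u : B) := eq_neg_of_add_eq_zero_left h
    have h2 : i a ∈ V := hUV (by rw [h1]; exact U.neg_mem u.2)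
    have h3 : a ∈ (χ.ker : Set A) := by rw [← hVχ]; exact h2
    exact h3
  have hinj := QuotientAddGroup.kerLift_injective s
  obtain ⟨ψ, hψ⟩ := (Module.Baer.of_divisible
    (ℚ ⧸ AddSubgroup.zmultiples (1 : ℚ))).extension_property_addMonoidHom
    (QuotientAddGroup.kerLift s) hinj (QuotientAddGroup.lift s.ker χ' hker)
  have hkey : ∀ x : A × U, ψ (s x) = χ' x := by
    intro x
    have h1 := DFunLike.congr_fun hψ (QuotientAddGroup.mk x)
    exact h1
  refine ⟨ψ, ?_, ?_⟩
  · apply AddSubgroup.isOpen_mono (H₁ := U) _ hUo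
    intro u hu
    rw [AddMonoidHom.mem_ker]
    have h1 := hkey ((0 : A), (⟨u, hu⟩ : U))
    rw [hs, hχ'] at h1
    simpa using h1
  · ext a
    have h1 := hkey (a, (0 : U))
    rw [hs, hχ'] at h1
    simpa using h1

end Groth.Agent.S19171
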