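import Groth.Statements.S19173
import Groth.Agent.S19171
import Groth.Agent.S19170
import Mathlib.Algebra.Module.CharacterModule
import Mathlib.GroupTheory.Index

set_option autoImplicit false
universe u v
open ProCompl

namespace Groth.Agent.S19173

open W4c61motalbduality Topology in
/-- Let B be a Hausdorff, locally compact, totally disconnected topological abelian group generated as a
group by a compact subset, and let i : A → B be an injective continuous homomorphism inducing the
topology of A from that of B (a strict injection) with closed image. Then the map induced by i on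
completions with respect to open subgroups of finite index is injective; together with right
exactness for open surjections this makes 0 → A^∧ → B^∧ → C^∧ → 0 exact for a topological exact
sequence 0 → A → B → C → 0 with such B, strict closed i and open p. -/
theorem result
    {A : Type u} {B : Type v} [AddCommGroup A] [TopologicalSpace A] [IsTopologicalAddGroup A]
    [AddCommGroup B] [TopologicalSpace B] [IsTopologicalAddGroup B]
    [T2Space B] [LocallyCompactSpace B] [TotallyDisconnectedSpace B]
    (hcg : ∃ K : Set B, IsCompact K ∧ AddSubgroup.closure K = ⊤)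
    (i : A →+ B) (hi : Continuous i) (hinj : Function.Injective i) (hind : IsInducing i)
    (hcl : IsClosed (Set.range i)) :
    Function.Injective (FICompl.map i hi) := by
  have key : ∀ U : OpenFI A, ∃ V : OpenFI B, (V.comap i hi).toAddSubgroup ≤ U.toAddSubgroup := by
    intro U
    haveI : U.toAddSubgroup.FiniteIndex := U.finiteIndex'
    haveI : Finite (A ⧸ U.toAddSubgroup) := inferInstance
    have hq : ∀ q : A ⧸ U.toAddSubgroup, ∃ Vq : AddSubgroup B, IsOpen (Vq : Set B) ∧
        Vq.FiniteIndex ∧ (q ≠ 0 → ∀ a : A, (a : A ⧸ U.toAddSubgroup) = q → i a ∉ Vq) := by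
      intro q
      by_cases hq0 : q = 0
      · exact ⟨⊤, by simp, inferInstance, fun h => (h hq0).elim⟩
      · obtain ⟨c, hc⟩ := CharacterModule.exists_character_apply_ne_zero_of_ne_zero hq0
        obtain ⟨χ, hχdef⟩ : ∃ χ : A →+ ℚ ⧸ AddSubgroup.zmultiples (1 : ℚ),
            ∀ a : A, χ a = c (a : A ⧸ U.toAddSubgroup) :=
          ⟨(c : (A ⧸ U.toAddSubgroup) →+ ℚ ⧸ AddSubgroup.zmultiples (1 : ℚ)).comp
            (QuotientAddGroup.mk' U.toAddSubgroup), fun _ => rfl⟩
        have hχo : IsOpen (χ.ker : Set A) := by
          apply AddSubgroup.isOpen_mono (H₁ := U.toAddSubgroup) _ U.isOpen'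
          intro a ha
          rw [AddMonoidHom.mem_ker, hχdef, (QuotientAddGroup.eq_zero_iff a).2 ha]
          exact map_zero c
        obtain ⟨ψ, hψo, hψ⟩ := Groth.Agent.S19171.result hcg i hi hinj hind hcl χ hχo
        have hfi := Groth.Agent.S19170.result hcg ψ hψo
        refine ⟨ψ.ker, hψo, hfi, fun _ a ha hia => ?_⟩
        apply hc
        have h1 : ψ (i a) = 0 := hia
        have h2 : ψ (i a) = χ a := by rw [← hψ]; rfl
        rw [← ha, ← hχdef, ← h2]
        exact h1
    choose Vf hVo hVfi hVne using hq
    refine ⟨⟨⨅ q, Vf q, ?_, AddSubgroup.finiteIndex_iInf hVfi⟩, ?_⟩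
    · rw [AddSubgroup.coe_iInf]
      exact isOpen_iInter_of_finite hVo
    · intro a ha
      by_contra haU
      have hq0 : (a : A ⧸ U.toAddSubgroup) ≠ 0 := by
        rw [Ne, QuotientAddGroup.eq_zero_iff]
        exact haU
      have h1 : i a ∈ ⨅ q, Vf q := ha
      rw [AddSubgroup.mem_iInf] at h1
      exact hVne _ hq0 a rfl (h1 _)
  rw [injective_iff_map_eq_zero]
  intro x hx
  apply Subtype.ext
  funext U
  obtain ⟨V, hVU⟩ := key U
  have hcompat := x.2 (V.comap i hi) U hVU
  have hxV : x.1 (V.comap i hi) = 0 := by
    obtain ⟨a, ha⟩ := QuotientAddGroup.mk_surjective (x.1 (V.comap i hi))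
    have h1 : ((FICompl.map i hi x).1 V) = 0 := by rw [hx]; rfl
    have h2 : (FICompl.map i hi x).1 V = QuotientAddGroup.map (V.comap i hi).toAddSubgroup
        V.toAddSubgroup i (V.comap_le i) (x.1 (V.comap i hi)) := rfl
    rw [h2, ← ha, QuotientAddGroup.map_mk, QuotientAddGroup.eq_zero_iff] at h1
    rw [← ha, QuotientAddGroup.eq_zero_iff]
    exact h1
  rw [hxV, map_zero] at hcompat
  exact hcompat.symm

end Groth.Agent.S19173
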