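import Groth.Statements.S19183
import Mathlib

set_option autoImplicit false
universe u
open CAlg

namespace Groth.Agent.S19183

/-- Let A be a non-zero commutative ring and f ∈ A a non-zero-divisor. The fibre product A ×_{A/(f)} A
of two copies of A over A/(f) — the A-submodule of A × A of pairs (x, y) with x − y ∈ (f), which is
the coordinate ring of two copies of Spec A glued along the Cartier divisor f = 0 — is a free
A-module of rank 2. (This is what makes the gluing of two copies of a curve along an effective
Cartier divisor finite locally free of degree 2 over the curve.) -/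
theorem result (A : Type u) [CommRing A] [Nontrivial A]
    (f : A) (hf : f ∈ nonZeroDivisors A) :
    Module.Free A (Submodule.comap (LinearMap.fst A A A - LinearMap.snd A A A) (Ideal.span ({f} : Set A))) ∧
      Module.finrank A (Submodule.comap (LinearMap.fst A A A - LinearMap.snd A A A) (Ideal.span ({f} : Set A))) = 2 := by
  classical
  obtain ⟨F, hF⟩ : ∃ F : A × A →ₗ[A] A × A, ∀ p : A × A, F p = (p.1 + f * p.2, p.1) :=
    ⟨{ toFun := fun p => (p.1 + f * p.2, p.1)
       map_add' := by
         intro p q
         apply Prod.ext
         · show (p + q).1 + f * (p + q).2 = (p.1 + f * p.2) + (q.1 + f * q.2)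
           simp only [Prod.fst_add, Prod.snd_add]; ring
         · rfl
       map_smul' := by
         intro c p
         apply Prod.ext
         · show (c • p).1 + f * (c • p).2 = c • (p.1 + f * p.2)
           simp only [Prod.smul_fst, Prod.smul_snd, smul_eq_mul]; ring
         · rfl }, fun p => rfl⟩
  have hmem : ∀ p : A × A, p ∈ Submodule.comap (LinearMap.fst A A A - LinearMap.snd A A A)
      (Ideal.span ({f} : Set A)) ↔ p.1 - p.2 ∈ Ideal.span ({f} : Set A) := fun p => Iff.rfl
  have hcod : ∀ p : A × A, F p ∈ Submodule.comap (LinearMap.fst A A A - LinearMap.snd A A A)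
        (Ideal.span ({f} : Set A)) := by
    intro p
    rw [hmem, hF]
    show p.1 + f * p.2 - p.1 ∈ Ideal.span ({f} : Set A)
    rw [add_sub_cancel_left]
    exact Ideal.mul_mem_right _ _ (Ideal.mem_span_singleton_self f)
  have hbij : Function.Bijective (LinearMap.codRestrict
      (Submodule.comap (LinearMap.fst A A A - LinearMap.snd A A A) (Ideal.span ({f} : Set A)))
      F hcod) := by
    constructor
    · rw [injective_iff_map_eq_zero]
      intro p h
      have h' : F p = 0 := congrArg Subtype.val h
      rw [hF] at h'
      have h1 : p.1 + f * p.2 = 0 := congrArg Prod.fst h'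
      have h2 : p.1 = 0 := congrArg Prod.snd h'
      rw [h2, zero_add] at h1
      have ht : p.2 = 0 := (mem_nonZeroDivisors_iff.mp hf).1 p.2 h1
      exact Prod.ext h2 ht
    · rintro ⟨p, hp⟩
      rw [hmem] at hp
      obtain ⟨t, ht⟩ := Ideal.mem_span_singleton'.mp hp
      refine ⟨(p.2, t), ?_⟩
      apply Subtype.ext
      show F (p.2, t) = p
      rw [hF]
      apply Prod.ext
      · show p.2 + f * t = p.1
        rw [mul_comm, ht]; ring
      · rfl
  have e := LinearEquiv.ofBijective _ hbij
  refine ⟨Module.Free.of_equiv e, ?_⟩
  rw [← e.finrank_eq, Module.finrank_prod, Module.finrank_self]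

end Groth.Agent.S19183
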