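import Groth.Statements.S19184
import Mathlib

set_option autoImplicit false
universe u
open CAlg

namespace Groth.Agent.S19184

open Polynomial in
theorem aux (S : Type u) [CommRing S] (a b : S) :
    Module.Free S ((⊥ : Subalgebra S (S[X] ⧸ Ideal.span ({X ^ 2 + C a * X + C b} : Set S[X]))).comap
        (Ideal.Quotient.mkₐ S (Ideal.span ({X ^ 2 + C a * X + C b} : Set S[X])))) ∧
      Module.Finite ((⊥ : Subalgebra S (S[X] ⧸ Ideal.span ({X ^ 2 + C a * X + C b} : Set S[X]))).comap
        (Ideal.Quotient.mkₐ S (Ideal.span ({X ^ 2 + C a * X + C b} : Set S[X])))) S[X] := by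
  classical
  rcases subsingleton_or_nontrivial S with hS | hS
  · haveI : Subsingleton S[X] := Polynomial.subsingleton_iff_subsingleton.2 hS
    exact ⟨inferInstance, inferInstance⟩
  set f : S[X] := X ^ 2 + C a * X + C b with hf
  set I : Ideal S[X] := Ideal.span ({f} : Set S[X]) with hI
  set π := Ideal.Quotient.mkₐ S I with hπ
  set A := (⊥ : Subalgebra S (S[X] ⧸ I)).comap π with hA
  have hf' : f = X ^ 2 + (C a * X + C b) := by rw [hf, add_assoc]
  have hmonic : f.Monic := by rw [hf']; exact monic_X_pow_add degree_linear_lt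
  have hnat : f.natDegree = 2 := by
    rw [hf', natDegree_add_eq_left_of_degree_lt, natDegree_X_pow]
    rw [degree_X_pow]; exact degree_linear_lt
  have hdeg : f.degree = 2 := by
    rw [degree_eq_natDegree hmonic.ne_zero, hnat]; rfl
  have hπf : π f = 0 := by
    show Ideal.Quotient.mk I f = 0
    exact Ideal.Quotient.eq_zero_iff_mem.2 (Ideal.subset_span rfl)
  have hmemA : ∀ p : S[X], p ∈ A ↔ ∃ c : S, algebraMap S (S[X] ⧸ I) c = π p := by
    intro p
    rw [hA, Subalgebra.mem_comap, Algebra.mem_bot]
    rfl
  have hψA : ∀ (c : S) (q : S[X]), algebraMap S S[X] c + f * q ∈ A := by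
    intro c q
    rw [hmemA]
    refine ⟨c, ?_⟩
    rw [map_add, map_mul, hπf, zero_mul, add_zero, AlgHom.commutes]
  constructor
  · -- freeness
    let ψ : S × S[X] →ₗ[S] S[X] := (Algebra.linearMap S S[X]).coprod (LinearMap.mulLeft S f)
    have hψ : ∀ x : S × S[X], ψ x = algebraMap S S[X] x.1 + f * x.2 := fun x => rfl
    let φ : S × S[X] →ₗ[S] ↥(Subalgebra.toSubmodule A) :=
      LinearMap.codRestrict (Subalgebra.toSubmodule A) ψ (fun x => by
        rw [Subalgebra.mem_toSubmodule, hψ]; exact hψA _ _)
    have hinj : Function.Injective φ := by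
      rw [← LinearMap.ker_eq_bot, LinearMap.ker_eq_bot']
      rintro ⟨c, q⟩ hx
      have h0 : algebraMap S S[X] c + f * q = 0 := by
        have := congrArg Subtype.val hx
        exact this
      have hq : q = 0 := by
        by_contra hq
        have h1 : (f * q).natDegree = f.natDegree + q.natDegree := hmonic.natDegree_mul' hq
        have h2 : f * q = -C c := by
          rw [eq_neg_iff_add_eq_zero, add_comm]; exact h0
        rw [h2, natDegree_neg, natDegree_C, hnat] at h1
        omega
      rw [hq, mul_zero, add_zero] at h0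
      have hc : c = 0 := by
        have : (C c : S[X]) = 0 := h0
        exact Polynomial.C_eq_zero.1 this
      rw [hq, hc]; rfl
    have hsurj : Function.Surjective φ := by
      rintro ⟨p, hp⟩
      rw [Subalgebra.mem_toSubmodule, hmemA] at hp
      obtain ⟨c, hc⟩ := hp
      have h1 : p - C c ∈ I := by
        rw [← Ideal.Quotient.eq_zero_iff_mem]
        show π (p - C c) = 0
        rw [map_sub, ← hc]
        have : π (C c) = algebraMap S (S[X] ⧸ I) c := AlgHom.commutes π c
        rw [this, sub_self]
      rw [hI, Ideal.mem_span_singleton] at h1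
      obtain ⟨q, hq⟩ := h1
      refine ⟨(c, q), ?_⟩
      apply Subtype.ext
      show algebraMap S S[X] c + f * q = p
      rw [← hq]
      show C c + (p - C c) = p
      ring
    exact Module.Free.of_equiv ((LinearEquiv.ofBijective φ ⟨hinj, hsurj⟩).trans
      (Subalgebra.toSubmoduleEquiv A))
  · -- finiteness
    refine ⟨⟨{1, X}, ?_⟩⟩
    rw [eq_top_iff]
    intro p _
    rw [Finset.coe_insert, Finset.coe_singleton, Submodule.mem_span_pair]
    set r := p %ₘ f with hr
    set q := p /ₘ f with hq
    have hpr : r + f * q = p := modByMonic_add_div p f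
    have hrdeg : r.degree ≤ 1 := by
      have h1 : r.degree < 2 := by rw [← hdeg]; exact degree_modByMonic_lt p hmonic
      by_cases hr0 : r = 0
      · rw [hr0, degree_zero]; exact bot_le
      · have h2 : r.natDegree < 2 := (natDegree_lt_iff_degree_lt hr0).2 h1
        have h3 : r.natDegree ≤ 1 := by omega
        exact_mod_cast degree_le_of_natDegree_le h3
    have hr2 := eq_X_add_C_of_degree_le_one hrdeg
    refine ⟨⟨algebraMap S S[X] (r.coeff 0) + f * q, hψA _ _⟩,
      ⟨algebraMap S S[X] (r.coeff 1) + f * 0, hψA _ _⟩, ?_⟩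
    rw [Subalgebra.smul_def, Subalgebra.smul_def]
    show (algebraMap S S[X] (r.coeff 0) + f * q) * 1 + (algebraMap S S[X] (r.coeff 1) + f * 0) * X = p
    rw [← hpr]
    conv_rhs => rw [hr2]
    show (C (r.coeff 0) + f * q) * 1 + (C (r.coeff 1) + f * 0) * X = _
    ring

open Polynomial in
/-- Let S be a commutative ring, a, b ∈ S, f = x² + ax + b ∈ S[x] and R = S[x]/(f), a free S-algebra of
rank 2. Let A ⊂ S[x] be the S-subalgebra of polynomials whose class in R lies in the image of S → R;
it is the fibre product S[x] ×_R S, the coordinate ring of the affine line over S with the degree-2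
subscheme Spec R collapsed onto Spec S. Then A is a free S-module and S[x] is a finitely generated
A-module. -/
theorem result (S : Type u) [CommRing S] (a b : S) :
    Module.Free S ((⊥ : Subalgebra S (S[X] ⧸ Ideal.span ({X ^ 2 + C a * X + C b} : Set S[X]))).comap
        (Ideal.Quotient.mkₐ S (Ideal.span ({X ^ 2 + C a * X + C b} : Set S[X])))) ∧
      Module.Finite ((⊥ : Subalgebra S (S[X] ⧸ Ideal.span ({X ^ 2 + C a * X + C b} : Set S[X]))).comap
        (Ideal.Quotient.mkₐ S (Ideal.span ({X ^ 2 + C a * X + C b} : Set S[X])))) S[X] := by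
  exact aux S a b

end Groth.Agent.S19184
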