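import Groth.Statements.S19186
import Mathlib.Algebra.Module.NatInt
import Mathlib.Data.Int.GCD
import Mathlib.Algebra.Module.Basic

set_option autoImplicit false
universe u
open OneMot

namespace Groth.Agent.S19186

/-- Let p and ℓ be distinct prime numbers, r and n natural numbers, and f : A → B a homomorphism of
abelian groups whose kernel and cokernel are annihilated by p^r (f a = 0 implies p^r • a = 0, and
every p^r • b lies in the image of f). Then f induces a bijection between the ℓ^n-torsion subgroups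
of A and B and a bijection A/ℓ^n A → B/ℓ^n B. Spelled out without quotients: every ℓ^n-torsion
element of B has exactly one ℓ^n-torsion preimage; an element of A whose image is an ℓ^n-multiple is
itself an ℓ^n-multiple; and every element of B is the sum of an image and an ℓ^n-multiple. -/
theorem result {A B : Type u} [AddCommGroup A] [AddCommGroup B] (f : A →+ B) (p ℓ r n : ℕ) (hp : p.Prime) (hl : ℓ.Prime) (hne : ℓ ≠ p) (hker : ∀ a : A, f a = 0 → p ^ r • a = 0) (hcoker : ∀ b : B, ∃ a : A, f a = p ^ r • b) : (∀ b : B, ℓ ^ n • b = 0 → ∃! a : A, ℓ ^ n • a = 0 ∧ f a = b) ∧ (∀ a : A, (∃ b' : B, f a = ℓ ^ n • b') → ∃ a' : A, a = ℓ ^ n • a') ∧ (∀ b : B, ∃ (a : A) (b' : B), b = f a + ℓ ^ n • b') := by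
  have hcop : ∀ k : ℕ, Nat.Coprime (ℓ ^ n) (p ^ k) :=
    fun k => Nat.Coprime.pow _ _ ((Nat.coprime_primes hl hp).mpr hne)
  -- Bezout: every x is u•(ℓ^n•x) + v•(p^k•x)
  have bez : ∀ k : ℕ, ∃ u v : ℤ, ∀ (X : Type u) [AddCommGroup X] (x : X),
      x = u • (ℓ ^ n • x) + v • (p ^ k • x) := by
    intro k
    refine ⟨Nat.gcdA (ℓ ^ n) (p ^ k), Nat.gcdB (ℓ ^ n) (p ^ k), fun X _ x => ?_⟩
    have h := Nat.gcd_eq_gcd_ab (ℓ ^ n) (p ^ k)
    rw [(hcop k)] at h
    have h1 : (1 : ℤ) • x = x := one_smul _ _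
    have h2 : ((1 : ℕ) : ℤ) = 1 := Nat.cast_one
    rw [h2] at h
    calc x = (1 : ℤ) • x := h1.symm
      _ = (((ℓ ^ n : ℕ) : ℤ) * Nat.gcdA (ℓ ^ n) (p ^ k)
            + ((p ^ k : ℕ) : ℤ) * Nat.gcdB (ℓ ^ n) (p ^ k)) • x := by rw [← h]
      _ = Nat.gcdA (ℓ ^ n) (p ^ k) • (ℓ ^ n • x) + Nat.gcdB (ℓ ^ n) (p ^ k) • (p ^ k • x) := by
          rw [add_smul, mul_comm, mul_smul, mul_comm ((p ^ k : ℕ) : ℤ), mul_smul,
            natCast_zsmul, natCast_zsmul]
  obtain ⟨u, v, huv⟩ := bez r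
  obtain ⟨u', v', huv'⟩ := bez (2 * r)
  have hf_z : ∀ (z : ℤ) (a : A), f (z • a) = z • f a := fun z a => map_zsmul f z a
  have hf_n : ∀ (m : ℕ) (a : A), f (m • a) = m • f a := fun m a => map_nsmul f m a
  refine ⟨?_, ?_, ?_⟩
  · intro b hb
    obtain ⟨a₀, ha₀⟩ := hcoker b
    -- a₁ = v • a₀ has f a₁ = b
    have hb' : b = v • (p ^ r • b) := by
      have := huv B b
      rw [hb, smul_zero, zero_add] at this
      exact this
    have hfa₁ : f (v • a₀) = b := by rw [hf_z, ha₀, ← hb']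
    have hk : p ^ r • (ℓ ^ n • (v • a₀)) = 0 := by
      apply hker
      rw [hf_n, hfa₁, hb]
    refine ⟨v • (p ^ r • (v • a₀)), ⟨?_, ?_⟩, ?_⟩
    · rw [smul_comm (ℓ ^ n) v, smul_comm (ℓ ^ n) (p ^ r), hk, smul_zero]
    · rw [hf_z, hf_n, hfa₁, ← hb']
    · rintro a' ⟨ha'1, ha'2⟩
      have hd : f (a' - v • (p ^ r • (v • a₀))) = 0 := by
        rw [map_sub, ha'2, hf_z, hf_n, hfa₁, ← hb', sub_self]
      have hd1 : p ^ r • (a' - v • (p ^ r • (v • a₀))) = 0 := hker _ hd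
      have hd2 : ℓ ^ n • (a' - v • (p ^ r • (v • a₀))) = 0 := by
        rw [smul_sub, ha'1, smul_comm (ℓ ^ n) v, smul_comm (ℓ ^ n) (p ^ r), hk, smul_zero,
          sub_zero]
      have := huv A (a' - v • (p ^ r • (v • a₀)))
      rw [hd1, hd2, smul_zero, smul_zero, add_zero] at this
      exact sub_eq_zero.mp this
  · rintro a ⟨b', hb'⟩
    obtain ⟨a₃, ha₃⟩ := hcoker b'
    have hd : f (p ^ r • a - ℓ ^ n • a₃) = 0 := by
      rw [map_sub, hf_n, hf_n, hb', ha₃, smul_comm, sub_self]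
    have hd1 : p ^ r • (p ^ r • a - ℓ ^ n • a₃) = 0 := hker _ hd
    have hd2 : p ^ (2 * r) • a = ℓ ^ n • (p ^ r • a₃) := by
      rw [smul_sub, sub_eq_zero] at hd1
      rw [two_mul, pow_add, mul_smul, hd1, smul_comm]
    refine ⟨u' • a + v' • (p ^ r • a₃), ?_⟩
    have := huv' A a
    rw [hd2] at this
    rw [smul_add, smul_comm (ℓ ^ n) u', smul_comm (ℓ ^ n) v']
    exact this
  · intro b
    obtain ⟨a₀, ha₀⟩ := hcoker b
    refine ⟨v • a₀, u • b, ?_⟩
    rw [hf_z, ha₀, smul_comm (ℓ ^ n) u, add_comm]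
    exact huv B b

end Groth.Agent.S19186
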