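import Groth.Statements.S19187
import Mathlib

set_option autoImplicit false
universe u
open Cpct

namespace Groth.Agent.S19187

open CategoryTheory AlgebraicGeometry in
/-- Let k be a field, X̄ and Ȳ schemes proper over Spec k, j : X → X̄ an open immersion with dense image
and v : Y → Ȳ an open immersion (compactifications of X and Y), f : X → Y a proper morphism and f̄ :
X̄ → Ȳ a morphism over Spec k with f̄ ∘ j = v ∘ f. Then the preimage under f̄ of the open v(Y) is
the open j(X); equivalently, the complement of X in X̄ is the preimage of the complement of Y in Ȳ.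
(The base field k is arbitrary: no perfectness assumption is needed.) -/
theorem result {k : Type u} [Field k] {X Y Xb Yb : Scheme.{u}} (a : Xb ⟶ Spec (CommRingCat.of k)) (b : Yb ⟶ Spec (CommRingCat.of k)) [IsProper a] [IsProper b] (j : X ⟶ Xb) [IsOpenImmersion j] (hj : Dense (Set.range j.base)) (v : Y ⟶ Yb) [IsOpenImmersion v] (f : X ⟶ Y) [IsProper f] (fb : Xb ⟶ Yb) (hfb : fb ≫ b = a) (hsq : j ≫ fb = f ≫ v) : fb ⁻¹ᵁ v.opensRange = j.opensRange := by
  have hmem : ∀ x : X, fb (j x) ∈ v.opensRange := fun x => by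
    rw [← Scheme.Hom.comp_apply, hsq]; exact ⟨f x, rfl⟩
  have hjW : Set.range j ⊆ Set.range (fb ⁻¹ᵁ v.opensRange).ι := by
    rintro _ ⟨x, rfl⟩
    rw [Scheme.Opens.range_ι]
    exact hmem x
  let j' : X ⟶ (fb ⁻¹ᵁ v.opensRange).toScheme := IsOpenImmersion.lift (fb ⁻¹ᵁ v.opensRange).ι j hjW
  have hj' : j' ≫ (fb ⁻¹ᵁ v.opensRange).ι = j := IsOpenImmersion.lift_fac _ _ _
  have hj'val : ∀ z, (j' z).1 = j z := fun z => by
    have := congrArg (fun k => k.base z) hj'
    simpa using this
  have hWv : Set.range ((fb ⁻¹ᵁ v.opensRange).ι ≫ fb) ⊆ Set.range v := by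
    rintro _ ⟨w, rfl⟩
    exact w.2
  let q : (fb ⁻¹ᵁ v.opensRange).toScheme ⟶ Y :=
    IsOpenImmersion.lift v ((fb ⁻¹ᵁ v.opensRange).ι ≫ fb) hWv
  have hq : q ≫ v = (fb ⁻¹ᵁ v.opensRange).ι ≫ fb := IsOpenImmersion.lift_fac _ _ _
  have hj'q : j' ≫ q = f := by
    rw [← cancel_mono v, Category.assoc, hq, ← Category.assoc, hj', hsq]
  haveI : IsSeparated (q ≫ v ≫ b) := by
    rw [← Category.assoc, hq, Category.assoc, hfb]; infer_instance
  haveI : IsSeparated q := IsSeparated.of_comp q (v ≫ b)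
  haveI : IsProper (j' ≫ q) := by rw [hj'q]; infer_instance
  haveI : IsProper j' := IsProper.of_comp j' q
  have hcl : IsClosed (Set.range j') := j'.isClosedMap.isClosed_range
  have hrange : Set.range j' = Subtype.val ⁻¹' Set.range j := by
    ext w
    constructor
    · rintro ⟨z, rfl⟩
      exact ⟨z, (hj'val z).symm⟩
    · rintro ⟨z, hz⟩
      exact ⟨z, Subtype.ext ((hj'val z).trans hz)⟩
  have hdense : Dense (Set.range j') := by
    rw [hrange]
    exact Dense.preimage hj (fb ⁻¹ᵁ v.opensRange).2.isOpenMap_subtype_val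
  have hsurj : Set.range j' = Set.univ := hcl.closure_eq ▸ hdense.closure_eq
  ext x
  constructor
  · intro hx
    obtain ⟨z, hz⟩ : (⟨x, hx⟩ : (fb ⁻¹ᵁ v.opensRange)) ∈ Set.range j' := hsurj ▸ trivial
    refine ⟨z, ?_⟩
    have := congrArg Subtype.val hz
    rw [← hj'val z]; exact this
  · rintro ⟨z, rfl⟩
    exact hmem z

end Groth.Agent.S19187
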