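import Groth.Statements.S19194
import Mathlib

set_option autoImplicit false
universe u
open CategoryTheory Opposite TopologicalSpace
open CohTop

namespace Groth.Agent.S19194

open scoped Classical in
open W4c6blochformula0cyc TopologicalSpace Opposite in
theorem switchExt_apply {X : Type u} [TopologicalSpace X] {ι : Type u}
    (A : X → AddCommGrpCat.{u}) (U : ι → Opens X) (S : ι → Set X) (V : Opens X) (β : ι)
    (g : (prodPresheaf A).obj (op (V ⊓ U β))) (y : V) :
    (switchExt A U S V β g : ∀ y : V, A y.1) y =
      if h : (y.1 ∈ U β) ∧ (y.1 ∈ S β) then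
        (g : ∀ z : (V ⊓ U β : Opens X), A z.1) ⟨y.1, ⟨y.2, h.1⟩⟩ else 0 := by
  by_cases h : (y.1 ∈ U β) ∧ (y.1 ∈ S β)
  · rw [dif_pos h]
    have e : ((if h : (y.1 ∈ U β) ∧ (y.1 ∈ S β) then
        (Pi.evalAddMonoidHom (fun z : (V ⊓ U β : Opens X) => (A z.1 : Type u)) ⟨y.1, ⟨y.2, h.1⟩⟩ :
          (prodPresheaf A).obj (op (V ⊓ U β)) →+ A y.1) else 0) :
          (prodPresheaf A).obj (op (V ⊓ U β)) →+ A y.1) =
        Pi.evalAddMonoidHom (fun z : (V ⊓ U β : Opens X) => (A z.1 : Type u))
          ⟨y.1, ⟨y.2, h.1⟩⟩ := dif_pos h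
    exact DFunLike.congr_fun e g
  · rw [dif_neg h]
    have e : ((if h : (y.1 ∈ U β) ∧ (y.1 ∈ S β) then
        (Pi.evalAddMonoidHom (fun z : (V ⊓ U β : Opens X) => (A z.1 : Type u)) ⟨y.1, ⟨y.2, h.1⟩⟩ :
          (prodPresheaf A).obj (op (V ⊓ U β)) →+ A y.1) else 0) :
          (prodPresheaf A).obj (op (V ⊓ U β)) →+ A y.1) = 0 := dif_neg h
    exact DFunLike.congr_fun e g

open W4c6blochformula0cyc TopologicalSpace Opposite in
theorem sum_apply' {X : Type u} [TopologicalSpace X] {ι : Type u}
    (A : X → AddCommGrpCat.{u}) (V : Opens X) (s : Finset ι)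
    (F : ι → (prodPresheaf A).obj (op V)) (y : V) :
    ((∑ α ∈ s, F α : (prodPresheaf A).obj (op V)) : ∀ y : V, A y.1) y =
      ∑ α ∈ s, ((F α : (prodPresheaf A).obj (op V)) : ∀ y : V, A y.1) y := by
  classical
  induction s using Finset.induction_on with
  | empty => simp; rfl
  | insert a s ha ih =>
    rw [Finset.sum_insert ha, Finset.sum_insert ha, ← ih]
    rfl

open W4c6blochformula0cyc in
/-- Let `X` be a topological space, `U` a family of opens of `X` indexed by a finite type, `A y` an
abelian group for every point `y` of `X`, and `F` the presheaf `V ↦ ∏_{y ∈ V} A y` with the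
projections as restriction maps. Let `S α ⊆ U_α` be subsets such that every point of `X` lies in
exactly one `S α`. For an open `V` and an index `β` let `E V β : F(V ∩ U_β) → F(V)` keep the
components at the points of `S β` and put `0` at all other points. Then: (i) `∑_α E V α (f|_{V ∩
U_α}) = f` for every open `V` and every `f ∈ F(V)`; and (ii) `(E V α g)|_{V ∩ U_β} = E (V ∩ U_β) α
(g|_{V ∩ U_β ∩ U_α})` for every open `V`, all indices `α, β` and every `g ∈ F(V ∩ U_α)`. (These are
exactly the hypotheses (i) and (ii) of the algebraic partition-of-unity statement, here for every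
open `V` rather than only for finite intersections of members of the family. The published statement
takes the presheaf of direct sums `⊕_{y ∈ V} A y`; the product presheaf used here contains it, these
maps and the restrictions preserve it, and both identities restrict to it.) -/
theorem result {X : Type u} [TopologicalSpace X]
    {ι : Type u} [Fintype ι] (A : X → AddCommGrpCat.{u}) (U : ι → Opens X) (S : ι → Set X)
    (hSU : ∀ α, S α ⊆ (U α : Set X)) (hS : ∀ x : X, ∃! α, x ∈ S α) :
    (∀ (V : Opens X) (f : (prodPresheaf A).obj (op V)),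
        ∑ α, switchExt A U S V α (res (prodPresheaf A) inf_le_left f) = f) ∧
      ∀ (V : Opens X) (α β : ι) (g : (prodPresheaf A).obj (op (V ⊓ U α))),
        res (prodPresheaf A) inf_le_left (switchExt A U S V α g) =
          switchExt A U S (V ⊓ U β) α (res (prodPresheaf A) (inf_le_inf_right (U α) inf_le_left) g) := by
  classical
  constructor
  · intro V f
    funext y
    obtain ⟨α₀, hα₀, huniq⟩ := hS y.1
    have hy : ∀ α, ((switchExt A U S V α (res (prodPresheaf A) inf_le_left f) :
        (prodPresheaf A).obj (op V)) : ∀ y : V, A y.1) y =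
        if α = α₀ then (f : ∀ y : V, A y.1) y else 0 := by
      intro α
      rw [switchExt_apply]
      by_cases hα : α = α₀
      · subst hα
        rw [dif_pos ⟨hSU _ hα₀, hα₀⟩, if_pos rfl]
        rfl
      · rw [dif_neg (fun h => hα (huniq α h.2)), if_neg hα]
    rw [sum_apply']
    simp only [hy]
    rw [Finset.sum_ite_eq' Finset.univ α₀]
    simp
  · intro V α β g
    funext y
    have h1 : ((res (prodPresheaf A) inf_le_left (switchExt A U S V α g) :
        (prodPresheaf A).obj (op (V ⊓ U β))) : ∀ y : (V ⊓ U β : Opens X), A y.1) y =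
        ((switchExt A U S V α g : (prodPresheaf A).obj (op V)) : ∀ y : V, A y.1)
          ⟨y.1, y.2.1⟩ := rfl
    rw [h1, switchExt_apply, switchExt_apply]
    by_cases h : (y.1 ∈ U α) ∧ (y.1 ∈ S α)
    · rw [dif_pos h, dif_pos h]
      rfl
    · rw [dif_neg h, dif_neg h]

end Groth.Agent.S19194
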