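import Groth.Statements.S19196
import Mathlib

set_option autoImplicit false
universe u
open RelS1

namespace Groth.Agent.S19196

/-- Let R be a Noetherian commutative ring and N a finitely generated R-module which fails Serre's
condition (S_1), in the sense that some associated prime of N is not a minimal prime of the
annihilator of N. Then there exist an element a of R lying in no minimal prime of the annihilator of
N and a nonzero element b of N with a • b = 0; thus the basic open set D(a) meets the support of N
densely while restriction to it is not injective on N. -/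
theorem result (R N : Type u) [CommRing R] [IsNoetherianRing R]
    [AddCommGroup N] [Module R N] [Module.Finite R N]
    (h : ¬ associatedPrimes R N ⊆ (Module.annihilator R N).minimalPrimes) :
    ∃ (a : R) (b : N), (∀ P ∈ (Module.annihilator R N).minimalPrimes, a ∉ P) ∧ b ≠ 0 ∧ a • b = 0 := by
  rw [Set.not_subset] at h
  obtain ⟨P, hPass, hPmin⟩ := h
  have hPass' : (⊥ : Submodule R N).IsAssociatedPrime P := hPass
  rw [Submodule.isAssociatedPrime_iff] at hPass'
  obtain ⟨hPprime, b, hb⟩ := hPass'
  have hmemP : ∀ r : R, r ∈ P ↔ r • b = 0 := by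
    intro r
    rw [hb, Submodule.mem_colon_singleton, Submodule.mem_bot]
  have hb0 : b ≠ 0 := by
    rintro rfl
    apply hPprime.ne_top
    rw [Ideal.eq_top_iff_one, hmemP]
    exact smul_zero _
  have hannle : Module.annihilator R N ≤ P := by
    intro r hr
    rw [hmemP]
    exact Module.mem_annihilator.1 hr b
  have hfin : (Module.annihilator R N).minimalPrimes.Finite :=
    Ideal.finite_minimalPrimes_of_isNoetherianRing R _
  have hnot : ¬ ((P : Set R) ⊆ ⋃ Q ∈ (↑hfin.toFinset : Set (Ideal R)), ((id Q : Ideal R) : Set R)) := by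
    intro hsub
    have hpr : ∀ Q ∈ hfin.toFinset, Q ≠ P → Q ≠ P → (id Q : Ideal R).IsPrime := by
      intro Q hQ _ _
      exact ((Set.Finite.mem_toFinset hfin).1 hQ).1.1
    obtain ⟨Q, hQ, hPQ⟩ := (Ideal.subset_union_prime (f := id) P P hpr).1 hsub
    have hQ' := (Set.Finite.mem_toFinset hfin).1 hQ
    have hQP : Q ≤ P := hQ'.2 ⟨hPprime, hannle⟩ hPQ
    have hPQeq : P = Q := le_antisymm hPQ hQP
    exact hPmin (hPQeq ▸ hQ')
  obtain ⟨a, haP, hau⟩ := Set.not_subset.1 hnot
  refine ⟨a, b, fun Q hQ haQ => hau ?_, hb0, (hmemP a).1 haP⟩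
  rw [Set.mem_iUnion₂]
  exact ⟨Q, by simpa using hQ, haQ⟩

end Groth.Agent.S19196
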