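import Groth.Statements.S19208
import Mathlib
import Groth.Agent.Lib.HS6_helper9

set_option autoImplicit false
universe u
open Filter
open LocAlg

namespace Groth.Agent.S19208

/-- Let O be a Noetherian local ring of Krull dimension r containing a field, with maximal ideal m. The
zeroth flat multiplicity e_0(O), the supremum over m-primary ideals I of e(I)/(r!·length(O/I)) with
e(I) the Samuel multiplicity, is at least 1: for every ε > 0 there is an m-primary ideal I (I ⊆ m,
m^N ⊆ I for some N) whose multiplicity e(I), the limit of r!·length(O/I^n)/n^r, satisfies e(I) ≥ (1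
− ε)·r!·length(O/I). (The same statement for the power-series rings O[[t_1, …, t_k]] is the bound
e_k(O) ≥ 1 for the k-th flat multiplicity.) -/
theorem result (O : Type u) [CommRing O] [IsNoetherianRing O]
    [IsLocalRing O] (K : Type u) [Field K] [Algebra K O] (r : ℕ) (hr : ringKrullDim O = r)
    (ε : ℝ) (hε : 0 < ε) :
    ∃ (I : Ideal O) (e : ℝ), I ≤ IsLocalRing.maximalIdeal O ∧
      (∃ N : ℕ, IsLocalRing.maximalIdeal O ^ N ≤ I) ∧
      Tendsto (fun n : ℕ => (r.factorial : ℝ) * ((Module.length O (O ⧸ I ^ n)).toNat : ℝ) / (n : ℝ) ^ r)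
        atTop (nhds e) ∧
      (1 - ε) * ((r.factorial : ℝ) * ((Module.length O (O ⧸ I)).toNat : ℝ)) ≤ e := by
  obtain ⟨P, N, hdeg, hP0, hval⟩ := Groth.Agent.HS9.exists_local_samuel O r hr
  obtain ⟨L, hL⟩ : ∃ L : ℝ, L = ((P.leadingCoeff : ℚ) : ℝ) := ⟨_, rfl⟩
  have hlim1 := Groth.Agent.HS9.tendsto_poly_mul P r hdeg hP0 1 le_rfl
  rw [← hL] at hlim1
  have hχ : Tendsto (fun n : ℕ => (r.factorial : ℝ) *
      ((Module.length O (O ⧸ IsLocalRing.maximalIdeal O ^ n)).toNat : ℝ) / (n : ℝ) ^ r) atTop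
      (nhds ((r.factorial : ℝ) * L)) := by
    have h1 : (r.factorial : ℝ) * ((1 : ℕ) : ℝ) ^ r * L = (r.factorial : ℝ) * L := by
      push_cast; ring
    rw [h1] at hlim1
    refine hlim1.congr' ?_
    filter_upwards [eventually_ge_atTop N] with n hn
    have h2 := (hval n hn).2
    rw [one_mul, ← h2]
    push_cast
    rfl
  have hLnonneg : 0 ≤ (r.factorial : ℝ) * L := ge_of_tendsto' hχ (fun n => by positivity)
  have hfac : (0 : ℝ) < (r.factorial : ℝ) := by exact_mod_cast Nat.factorial_pos r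
  have hLne : L ≠ 0 := by
    rw [hL]
    exact_mod_cast (Polynomial.leadingCoeff_ne_zero.mpr hP0)
  have hLpos : 0 < L := by
    rcases lt_or_gt_of_ne hLne with h | h
    · exfalso
      have : (r.factorial : ℝ) * L < 0 := mul_neg_of_pos_of_neg hfac h
      linarith
    · exact h
  have hE : 0 < (r.factorial : ℝ) * L := mul_pos hfac hLpos
  have hg := hχ.const_mul (1 - ε)
  have hlt : (1 - ε) * ((r.factorial : ℝ) * L) < (r.factorial : ℝ) * L := by nlinarith
  have hev := hg.eventually (gt_mem_nhds hlt)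
  obtain ⟨k, hk⟩ := (hev.and (eventually_ge_atTop (max N 1))).exists
  obtain ⟨hk1, hk2⟩ := hk
  have hkN : N ≤ k := le_trans (le_max_left _ _) hk2
  have hk0 : 1 ≤ k := le_trans (le_max_right _ _) hk2
  have hkpos : (0 : ℝ) < (k : ℝ) ^ r := by positivity
  refine ⟨IsLocalRing.maximalIdeal O ^ k, (r.factorial : ℝ) * (k : ℝ) ^ r * L,
    Ideal.pow_le_self (by omega), ⟨k, le_rfl⟩, ?_, ?_⟩
  · have hlimk := Groth.Agent.HS9.tendsto_poly_mul P r hdeg hP0 k hk0
    rw [← hL] at hlimk
    refine hlimk.congr' ?_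
    filter_upwards [eventually_ge_atTop N] with n hn
    have hkn : N ≤ k * n := by
      calc N ≤ n := hn
        _ ≤ k * n := Nat.le_mul_of_pos_left n hk0
    have h2 := (hval (k * n) hkn).2
    rw [← pow_mul, ← h2]
    push_cast
    rfl
  · have h3 : (1 - ε) * ((r.factorial : ℝ) *
        ((Module.length O (O ⧸ IsLocalRing.maximalIdeal O ^ k)).toNat : ℝ) / (k : ℝ) ^ r) <
        (r.factorial : ℝ) * L := hk1
    have h4 : (1 - ε) * ((r.factorial : ℝ) *
        ((Module.length O (O ⧸ IsLocalRing.maximalIdeal O ^ k)).toNat : ℝ)) =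
        ((1 - ε) * ((r.factorial : ℝ) *
        ((Module.length O (O ⧸ IsLocalRing.maximalIdeal O ^ k)).toNat : ℝ) / (k : ℝ) ^ r)) *
          (k : ℝ) ^ r := by
      field_simp
    rw [h4]
    have h5 := mul_le_mul_of_nonneg_right h3.le hkpos.le
    linarith

end Groth.Agent.S19208
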