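import Groth.Statements.S19210
import Mathlib

set_option autoImplicit false
universe u
open LocAlg

namespace Groth.Agent.S19210

theorem pow_succ_sub_bounds (m : ℕ) (x : ℝ) (hx : 0 ≤ x) :
    ((m : ℝ) + 1) * x ^ m ≤ (x + 1) ^ (m + 1) - x ^ (m + 1) ∧
    (x + 1) ^ (m + 1) - x ^ (m + 1) ≤ ((m : ℝ) + 1) * (x + 1) ^ m := by
  induction m with
  | zero => simp
  | succ m ih =>
    obtain ⟨h1, h2⟩ := ih
    have hx1 : 0 ≤ x + 1 := by linarith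
    have e : (x + 1) ^ (m + 1 + 1) - x ^ (m + 1 + 1) =
        (x + 1) * ((x + 1) ^ (m + 1) - x ^ (m + 1)) + x ^ (m + 1) := by ring
    have hxm : 0 ≤ x ^ m := pow_nonneg hx m
    have hxm1 : 0 ≤ x ^ (m + 1) := pow_nonneg hx _
    have hle : x ^ (m + 1) ≤ (x + 1) ^ (m + 1) := pow_le_pow_left₀ hx (by linarith) _
    have hm0 : (0 : ℝ) ≤ (m : ℝ) + 1 := by positivity
    have h3 : (x + 1) * (((m : ℝ) + 1) * x ^ m) ≤
        (x + 1) * ((x + 1) ^ (m + 1) - x ^ (m + 1)) := mul_le_mul_of_nonneg_left h1 hx1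
    have h4 : (x + 1) * ((x + 1) ^ (m + 1) - x ^ (m + 1)) ≤
        (x + 1) * (((m : ℝ) + 1) * (x + 1) ^ m) := mul_le_mul_of_nonneg_left h2 hx1
    have h5 : (x + 1) * (((m : ℝ) + 1) * x ^ m) =
        ((m : ℝ) + 1) * x ^ (m + 1) + ((m : ℝ) + 1) * x ^ m := by ring
    have h6 : (x + 1) * (((m : ℝ) + 1) * (x + 1) ^ m) = ((m : ℝ) + 1) * (x + 1) ^ (m + 1) := by
      ring
    have h7 : 0 ≤ ((m : ℝ) + 1) * x ^ m := mul_nonneg hm0 hxm
    rw [e]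
    push_cast
    constructor
    · have h8 : ((m : ℝ) + 1 + 1) * x ^ (m + 1) = ((m : ℝ) + 1) * x ^ (m + 1) + x ^ (m + 1) := by
        ring
      rw [h8]
      linarith
    · have h8 : ((m : ℝ) + 1 + 1) * (x + 1) ^ (m + 1) =
          ((m : ℝ) + 1) * (x + 1) ^ (m + 1) + (x + 1) ^ (m + 1) := by ring
      rw [h8]
      linarith

theorem sum_pow_bounds (b n : ℕ) :
    ((b : ℝ) + 1) * ∑ i ∈ Finset.range n, (i : ℝ) ^ b ≤ (n : ℝ) ^ (b + 1) ∧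
    (n : ℝ) ^ (b + 1) ≤ ((b : ℝ) + 1) * (∑ i ∈ Finset.range n, (i : ℝ) ^ b) +
      ((b : ℝ) + 1) * (n : ℝ) ^ b := by
  induction n with
  | zero =>
    constructor
    · simp
    · rw [Finset.sum_range_zero, mul_zero, zero_add, Nat.cast_zero, zero_pow (Nat.succ_ne_zero b)]
      positivity
  | succ n ih =>
    obtain ⟨h1, h2⟩ := ih
    obtain ⟨h3, h4⟩ := pow_succ_sub_bounds b (n : ℝ) (Nat.cast_nonneg n)
    rw [Finset.sum_range_succ]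
    push_cast
    constructor
    · rw [mul_add]
      linarith
    · rw [mul_add]
      linarith

theorem main (a : ℕ) : ∀ b : ℕ, ∃ C : ℝ, 0 ≤ C ∧ ∀ n : ℕ, 1 ≤ n →
    |(∑ i ∈ Finset.range n, ((n : ℝ) - (i : ℝ)) ^ a * (i : ℝ) ^ b) -
      (a.factorial : ℝ) * (b.factorial : ℝ) / ((a + b + 1).factorial : ℝ) *
        (n : ℝ) ^ (a + b + 1)| ≤ C * (n : ℝ) ^ (a + b) := by
  induction a with
  | zero =>
    intro b
    refine ⟨1, zero_le_one, fun n hn => ?_⟩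
    obtain ⟨h1, h2⟩ := sum_pow_bounds b n
    simp only [pow_zero, one_mul, Nat.factorial_zero, Nat.cast_one, zero_add]
    have hb : (0 : ℝ) < (b : ℝ) + 1 := by positivity
    have hfac : (b.factorial : ℝ) / ((b + 1).factorial : ℝ) * (n : ℝ) ^ (b + 1) =
        (n : ℝ) ^ (b + 1) / ((b : ℝ) + 1) := by
      rw [Nat.factorial_succ]
      push_cast
      have h0 : (b.factorial : ℝ) ≠ 0 := by positivity
      field_simp
    rw [hfac]
    have hq : ((b : ℝ) + 1) * ((n : ℝ) ^ (b + 1) / ((b : ℝ) + 1)) = (n : ℝ) ^ (b + 1) := by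
      field_simp
    have hSq : ∑ i ∈ Finset.range n, (i : ℝ) ^ b ≤ (n : ℝ) ^ (b + 1) / ((b : ℝ) + 1) := by
      have h3 : ((b : ℝ) + 1) * ∑ i ∈ Finset.range n, (i : ℝ) ^ b ≤
          ((b : ℝ) + 1) * ((n : ℝ) ^ (b + 1) / ((b : ℝ) + 1)) := by rw [hq]; exact h1
      exact le_of_mul_le_mul_left h3 hb
    have hqS : (n : ℝ) ^ (b + 1) / ((b : ℝ) + 1) ≤
        ∑ i ∈ Finset.range n, (i : ℝ) ^ b + (n : ℝ) ^ b := by
      have h3 : ((b : ℝ) + 1) * ((n : ℝ) ^ (b + 1) / ((b : ℝ) + 1)) ≤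
          ((b : ℝ) + 1) * (∑ i ∈ Finset.range n, (i : ℝ) ^ b + (n : ℝ) ^ b) := by
        rw [hq, mul_add]; exact h2
      exact le_of_mul_le_mul_left h3 hb
    have hnb : 0 ≤ (n : ℝ) ^ b := by positivity
    rw [abs_le]
    constructor <;> linarith
  | succ a ih =>
    intro b
    obtain ⟨C₁, hC₁, h₁⟩ := ih b
    obtain ⟨C₂, hC₂, h₂⟩ := ih (b + 1)
    refine ⟨C₁ + C₂, by linarith, fun n hn => ?_⟩
    have hrec : ∑ i ∈ Finset.range n, ((n : ℝ) - (i : ℝ)) ^ (a + 1) * (i : ℝ) ^ b =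
        (n : ℝ) * ∑ i ∈ Finset.range n, ((n : ℝ) - (i : ℝ)) ^ a * (i : ℝ) ^ b -
          ∑ i ∈ Finset.range n, ((n : ℝ) - (i : ℝ)) ^ a * (i : ℝ) ^ (b + 1) := by
      rw [Finset.mul_sum, ← Finset.sum_sub_distrib]
      apply Finset.sum_congr rfl
      intro i _
      ring
    have hc : ((a + 1).factorial : ℝ) * (b.factorial : ℝ) / ((a + 1 + b + 1).factorial : ℝ) =
        (a.factorial : ℝ) * (b.factorial : ℝ) / ((a + b + 1).factorial : ℝ) -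
        (a.factorial : ℝ) * ((b + 1).factorial : ℝ) / ((a + (b + 1) + 1).factorial : ℝ) := by
      have e1 : a + 1 + b + 1 = (a + b + 1) + 1 := by ring
      have e2 : a + (b + 1) + 1 = (a + b + 1) + 1 := by ring
      rw [e1, e2, Nat.factorial_succ (a + b + 1), Nat.factorial_succ a, Nat.factorial_succ b]
      push_cast
      have h1 : ((a + b + 1).factorial : ℝ) ≠ 0 := by positivity
      have h2 : ((a : ℝ) + b + 1 + 1) ≠ 0 := by positivity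
      field_simp
      ring
    have e3 : (n : ℝ) ^ (a + 1 + b + 1) = (n : ℝ) * (n : ℝ) ^ (a + b + 1) := by
      rw [show a + 1 + b + 1 = (a + b + 1) + 1 by ring, pow_succ]; ring
    have e4 : (n : ℝ) ^ (a + (b + 1) + 1) = (n : ℝ) * (n : ℝ) ^ (a + b + 1) := by
      rw [show a + (b + 1) + 1 = (a + b + 1) + 1 by ring, pow_succ]; ring
    have e5 : (n : ℝ) ^ (a + 1 + b) = (n : ℝ) * (n : ℝ) ^ (a + b) := by
      rw [show a + 1 + b = (a + b) + 1 by ring, pow_succ]; ring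
    have e6 : (n : ℝ) ^ (a + (b + 1)) = (n : ℝ) * (n : ℝ) ^ (a + b) := by
      rw [show a + (b + 1) = (a + b) + 1 by ring, pow_succ]; ring
    have H₁ := h₁ n hn
    have H₂ := h₂ n hn
    rw [e4, e6] at H₂
    rw [hrec, hc, e3, e5]
    have hn0 : (0 : ℝ) ≤ (n : ℝ) := Nat.cast_nonneg n
    generalize (∑ i ∈ Finset.range n, ((n : ℝ) - (i : ℝ)) ^ a * (i : ℝ) ^ b) = S₁ at H₁ ⊢
    generalize (∑ i ∈ Finset.range n, ((n : ℝ) - (i : ℝ)) ^ a * (i : ℝ) ^ (b + 1)) = S₂ at H₂ ⊢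
    generalize (a.factorial : ℝ) * (b.factorial : ℝ) / ((a + b + 1).factorial : ℝ) = c₁ at H₁ ⊢
    generalize (a.factorial : ℝ) * ((b + 1).factorial : ℝ) /
      ((a + (b + 1) + 1).factorial : ℝ) = c₂ at H₂ ⊢
    have e7 : (n : ℝ) * S₁ - S₂ - (c₁ - c₂) * ((n : ℝ) * (n : ℝ) ^ (a + b + 1)) =
        (n : ℝ) * (S₁ - c₁ * (n : ℝ) ^ (a + b + 1)) -
          (S₂ - c₂ * ((n : ℝ) * (n : ℝ) ^ (a + b + 1))) := by ring
    rw [e7]
    calc |(n : ℝ) * (S₁ - c₁ * (n : ℝ) ^ (a + b + 1)) -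
          (S₂ - c₂ * ((n : ℝ) * (n : ℝ) ^ (a + b + 1)))|
        ≤ |(n : ℝ) * (S₁ - c₁ * (n : ℝ) ^ (a + b + 1))| +
          |S₂ - c₂ * ((n : ℝ) * (n : ℝ) ^ (a + b + 1))| := abs_sub _ _
      _ = (n : ℝ) * |S₁ - c₁ * (n : ℝ) ^ (a + b + 1)| +
          |S₂ - c₂ * ((n : ℝ) * (n : ℝ) ^ (a + b + 1))| := by
        rw [abs_mul, abs_of_nonneg hn0]
      _ ≤ (n : ℝ) * (C₁ * (n : ℝ) ^ (a + b)) + C₂ * ((n : ℝ) * (n : ℝ) ^ (a + b)) :=
        add_le_add (mul_le_mul_of_nonneg_left H₁ hn0) H₂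
      _ = (C₁ + C₂) * ((n : ℝ) * (n : ℝ) ^ (a + b)) := by ring

/-- For natural numbers j ≤ r, the sums Σ_{i=0}^{n−1} (n − i)^{r−j} i^j equal n^{r+1}·(r − j)!·j!/(r +
1)! up to O(n^r): there is a real constant C with |Σ_{i<n} (n − i)^{r−j} i^j − ((r − j)!·j!/(r +
1)!)·n^{r+1}| ≤ C·n^r for all n ≥ 1. -/
theorem result (r j : ℕ) (hj : j ≤ r) :
    ∃ C : ℝ, ∀ n : ℕ, 1 ≤ n →
      |(∑ i ∈ Finset.range n, ((n : ℝ) - (i : ℝ)) ^ (r - j) * (i : ℝ) ^ j) -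
          ((r - j).factorial : ℝ) * (j.factorial : ℝ) / ((r + 1).factorial : ℝ) * (n : ℝ) ^ (r + 1)| ≤
        C * (n : ℝ) ^ r := by
  obtain ⟨C, _, hC⟩ := main (r - j) j
  refine ⟨C, fun n hn => ?_⟩
  have h := hC n hn
  rw [Nat.sub_add_cancel hj] at h
  exact h

end Groth.Agent.S19210
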