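import Groth.Statements.S19216
import Mathlib.Algebra.BigOperators.Field
import Mathlib.Tactic.FieldSimp
import Mathlib.Tactic.Ring
import Mathlib.Algebra.CharZero.Defs
import Mathlib.Data.Fintype.BigOperators
import Mathlib.Algebra.Order.Field.Basic

set_option autoImplicit false
universe u
open SymRep

namespace Groth.Agent.S19216

/-- Let k be a field of characteristic zero and r, s ≥ 1. Realise the standard representation of the
symmetric group on a finite set T as the hyperplane of functions T → k with sum zero, the group
acting by precomposition with the inverse. Then the standard representation of the symmetric group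
of Fin r ⊕ Fin s, restricted to the subgroup S_r × S_s, is isomorphic to the direct sum of the
standard representations of S_r and of S_s and of a one-dimensional trivial representation: there is
a k-linear map E from functions on Fin r ⊕ Fin s to triples (function on Fin r, function on Fin s,
scalar), compatible with the actions of S_r × S_s (trivial on the scalar), which maps the sum-zero
hyperplane bijectively onto the product of the two sum-zero hyperplanes and k. (The published
statement is over the complex numbers; a field of characteristic zero is used here. The published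
statement also gives the analogous decomposition for any number of blocks, which follows by
induction; only the two-block case is stated here.) -/
theorem result (k : Type u) [Field k] [CharZero k]
    (r s : ℕ) (hr : 1 ≤ r) (hs : 1 ≤ s) :
    ∃ E : (Fin r ⊕ Fin s → k) →ₗ[k] (Fin r → k) × (Fin s → k) × k,
      (∀ (σ : Equiv.Perm (Fin r)) (τ : Equiv.Perm (Fin s)) (f : Fin r ⊕ Fin s → k),
        E (f ∘ ⇑(Equiv.sumCongr σ τ).symm) = ((E f).1 ∘ ⇑σ.symm, (E f).2.1 ∘ ⇑τ.symm, (E f).2.2)) ∧
      Set.BijOn E {f | ∑ i, f i = 0}
        ({g : Fin r → k | ∑ i, g i = 0} ×ˢ ({h : Fin s → k | ∑ i, h i = 0} ×ˢ Set.univ)) := by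
  have hr' : (r : k) ≠ 0 := Nat.cast_ne_zero.2 (by omega)
  have hs' : (s : k) ≠ 0 := Nat.cast_ne_zero.2 (by omega)
  have hsumr : ∀ c : k, ∑ _i : Fin r, c / (r : k) = c := by
    intro c
    rw [Finset.sum_const, Finset.card_univ, Fintype.card_fin, nsmul_eq_mul]
    field_simp
  have hsums : ∀ c : k, ∑ _j : Fin s, c / (s : k) = c := by
    intro c
    rw [Finset.sum_const, Finset.card_univ, Fintype.card_fin, nsmul_eq_mul]
    field_simp
  let E : (Fin r ⊕ Fin s → k) →ₗ[k] (Fin r → k) × (Fin s → k) × k :=
    { toFun := fun f => (fun i => f (Sum.inl i) - (∑ i', f (Sum.inl i')) / (r : k),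
                         fun j => f (Sum.inr j) - (∑ j', f (Sum.inr j')) / (s : k),
                         ∑ i', f (Sum.inl i'))
      map_add' := by
        intro f f'
        refine Prod.ext (funext fun i => ?_) (Prod.ext (funext fun j => ?_) ?_)
        · simp only [Pi.add_apply, Prod.fst_add, Finset.sum_add_distrib, add_div]; ring
        · simp only [Pi.add_apply, Prod.snd_add, Prod.fst_add, Finset.sum_add_distrib, add_div]; ring
        · simp only [Pi.add_apply, Prod.snd_add, Finset.sum_add_distrib]
      map_smul' := by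
        intro c f
        refine Prod.ext (funext fun i => ?_) (Prod.ext (funext fun j => ?_) ?_)
        · simp only [Pi.smul_apply, smul_eq_mul, Prod.smul_fst, RingHom.id_apply,
            ← Finset.mul_sum, mul_div_assoc]; ring
        · simp only [Pi.smul_apply, smul_eq_mul, Prod.smul_snd, Prod.smul_fst, RingHom.id_apply,
            ← Finset.mul_sum, mul_div_assoc]; ring
        · simp only [Pi.smul_apply, smul_eq_mul, Prod.smul_snd, RingHom.id_apply,
            ← Finset.mul_sum] }
  have hE1 : ∀ f i, (E f).1 i = f (Sum.inl i) - (∑ i', f (Sum.inl i')) / (r : k) := fun _ _ => rfl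
  have hE2 : ∀ f j, (E f).2.1 j = f (Sum.inr j) - (∑ j', f (Sum.inr j')) / (s : k) := fun _ _ => rfl
  have hE3 : ∀ f, (E f).2.2 = ∑ i', f (Sum.inl i') := fun _ => rfl
  refine ⟨E, ?_, ?_, ?_, ?_⟩
  · intro σ τ f
    have e1 : ∀ i, (f ∘ ⇑(Equiv.sumCongr σ τ).symm) (Sum.inl i) = f (Sum.inl (σ.symm i)) :=
      fun i => by simp
    have e2 : ∀ j, (f ∘ ⇑(Equiv.sumCongr σ τ).symm) (Sum.inr j) = f (Sum.inr (τ.symm j)) :=
      fun j => by simp
    have s1 : ∑ i, f (Sum.inl (σ.symm i)) = ∑ i, f (Sum.inl i) :=
      Equiv.sum_comp σ.symm (fun i => f (Sum.inl i))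
    have s2 : ∑ j, f (Sum.inr (τ.symm j)) = ∑ j, f (Sum.inr j) :=
      Equiv.sum_comp τ.symm (fun j => f (Sum.inr j))
    refine Prod.ext (funext fun i => ?_) (Prod.ext (funext fun j => ?_) ?_)
    · show (E _).1 i = (E f).1 (σ.symm i)
      rw [hE1, hE1]
      simp only [e1, s1]
    · show (E _).2.1 j = (E f).2.1 (τ.symm j)
      rw [hE2, hE2]
      simp only [e2, s2]
    · show (E _).2.2 = (E f).2.2
      rw [hE3, hE3]
      simp only [e1, s1]
  · intro f hf
    have hf' : ∑ i, f (Sum.inl i) + ∑ j, f (Sum.inr j) = 0 := by
      rw [← Fintype.sum_sum_type]; exact hf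
    refine ⟨?_, ?_, trivial⟩
    · show ∑ i, (E f).1 i = 0
      simp only [hE1]
      rw [Finset.sum_sub_distrib, hsumr, sub_self]
    · show ∑ j, (E f).2.1 j = 0
      simp only [hE2]
      rw [Finset.sum_sub_distrib, hsums, sub_self]
  · intro f hf f' hf' hEq
    have hfs : ∑ i, f (Sum.inl i) + ∑ j, f (Sum.inr j) = 0 := by
      rw [← Fintype.sum_sum_type]; exact hf
    have hfs' : ∑ i, f' (Sum.inl i) + ∑ j, f' (Sum.inr j) = 0 := by
      rw [← Fintype.sum_sum_type]; exact hf'
    have h3 : ∑ i, f (Sum.inl i) = ∑ i, f' (Sum.inl i) := by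
      have := congrArg (fun t => t.2.2) hEq
      simpa only [hE3] using this
    have h4 : ∑ j, f (Sum.inr j) = ∑ j, f' (Sum.inr j) := by
      have a1 : ∑ j, f (Sum.inr j) = -∑ i, f (Sum.inl i) := eq_neg_of_add_eq_zero_right hfs
      have a2 : ∑ j, f' (Sum.inr j) = -∑ i, f' (Sum.inl i) := eq_neg_of_add_eq_zero_right hfs'
      rw [a1, a2, h3]
    funext z
    rcases z with i | j
    · have := congrFun (congrArg (fun t => t.1) hEq) i
      simp only [hE1, h3] at this
      exact sub_left_injective this
    · have := congrFun (congrArg (fun t => t.2.1) hEq) j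
      simp only [hE2, h4] at this
      exact sub_left_injective this
  · rintro ⟨g, h, c⟩ ⟨hg, hh, -⟩
    have hg0 : ∑ i, g i = 0 := hg
    have hh0 : ∑ j, h j = 0 := hh
    let f : Fin r ⊕ Fin s → k := Sum.elim (fun i => g i + c / (r : k)) (fun j => h j - c / (s : k))
    have hA : ∑ i, f (Sum.inl i) = c := by
      show ∑ i, (g i + c / (r : k)) = c
      rw [Finset.sum_add_distrib, hg0, zero_add, hsumr]
    have hB : ∑ j, f (Sum.inr j) = -c := by
      show ∑ j, (h j - c / (s : k)) = -c
      rw [Finset.sum_sub_distrib, hh0, zero_sub, hsums]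
    refine ⟨f, ?_, ?_⟩
    · show ∑ z, f z = 0
      rw [Fintype.sum_sum_type, hA, hB, add_neg_cancel]
    · refine Prod.ext (funext fun i => ?_) (Prod.ext (funext fun j => ?_) ?_)
      · show (E f).1 i = g i
        rw [hE1, hA]
        show g i + c / (r : k) - c / (r : k) = g i
        ring
      · show (E f).2.1 j = h j
        rw [hE2, hB]
        show h j - c / (s : k) - -c / (s : k) = h j
        ring
      · show (E f).2.2 = c
        rw [hE3, hA]

end Groth.Agent.S19216
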