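import Groth.Statements.S19218
import Mathlib

set_option autoImplicit false
universe u v
open TensorProduct
open DiagIdeal

namespace Groth.Agent.S19218

open TensorProduct in
theorem key (k : Type u) [Field k] [CharZero k] (A : Type v) [CommRing A] [Algebra k A] (n : ℕ)
    (i j : Fin n) (hij : i ≠ j) (J : Ideal (⨂[k] _ : Fin n, A))
    (hJ : J = Ideal.span (Set.range fun a : A =>
        PiTensorProduct.singleAlgHom (R := k) (A := fun _ : Fin n => A) i a -
        PiTensorProduct.singleAlgHom (R := k) (A := fun _ : Fin n => A) j a))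
    (s : ℕ) (hs : Odd s) (x : ⨂[k] _ : Fin n, A)
    (hx : PiTensorProduct.reindex k (fun _ : Fin n => A) (Equiv.swap i j) x = x)
    (hmem : x ∈ J ^ s) : x ∈ J ^ (s + 1) := by
  classical
  let τ : (⨂[k] _ : Fin n, A) →ₗ[k] (⨂[k] _ : Fin n, A) :=
    (PiTensorProduct.reindex k (fun _ : Fin n => A) (Equiv.swap i j)).toLinearMap
  have hτtprod : ∀ f : Fin n → A, τ (PiTensorProduct.tprod k f) =
      PiTensorProduct.tprod k (fun l => f ((Equiv.swap i j).symm l)) := by
    intro f
    exact PiTensorProduct.reindex_tprod (Equiv.swap i j) f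
  have hτone : τ 1 = 1 := by
    rw [PiTensorProduct.one_def, hτtprod]; rfl
  have hτmul : ∀ y z, τ (y * z) = τ y * τ z := by
    intro y z
    induction y using PiTensorProduct.induction_on with
    | smul_tprod r f =>
      induction z using PiTensorProduct.induction_on with
      | smul_tprod r' g =>
        rw [PiTensorProduct.smul_tprod_mul_smul_tprod, map_smul, map_smul, map_smul, hτtprod,
          hτtprod, hτtprod, PiTensorProduct.smul_tprod_mul_smul_tprod]
        rfl
      | add z₁ z₂ h₁ h₂ => rw [mul_add, map_add, map_add, mul_add, h₁, h₂]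
    | add y₁ y₂ h₁ h₂ => rw [add_mul, map_add, map_add, add_mul, h₁, h₂]
  let τA : (⨂[k] _ : Fin n, A) →ₐ[k] (⨂[k] _ : Fin n, A) := AlgHom.ofLinearMap τ hτone hτmul
  have hτA : ∀ y, τA y = τ y := fun y => rfl
  have hsingle : ∀ (l : Fin n) (a : A),
      τA (PiTensorProduct.singleAlgHom (R := k) (A := fun _ : Fin n => A) l a) =
      PiTensorProduct.singleAlgHom (R := k) (A := fun _ : Fin n => A) (Equiv.swap i j l) a := by
    intro l a
    rw [hτA, PiTensorProduct.singleAlgHom_apply, PiTensorProduct.singleAlgHom_apply, hτtprod]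
    congr 1
    funext m
    simp only [MonoidHom.mulSingle_apply, Pi.mulSingle_apply]
    by_cases h : m = Equiv.swap i j l
    · rw [if_pos h, if_pos]
      rw [h, Equiv.symm_apply_apply]
    · rw [if_neg h, if_neg]
      intro h'
      apply h
      rw [← h', Equiv.apply_symm_apply]
  let g : A → (⨂[k] _ : Fin n, A) := fun a =>
    PiTensorProduct.singleAlgHom (R := k) (A := fun _ : Fin n => A) i a -
      PiTensorProduct.singleAlgHom (R := k) (A := fun _ : Fin n => A) j a
  have hgmem : ∀ a, g a ∈ J := by
    intro a
    rw [hJ]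
    exact Ideal.subset_span ⟨a, rfl⟩
  have hg : ∀ a : A, τA (g a) = - g a := by
    intro a
    simp only [g, map_sub, hsingle, Equiv.swap_apply_left, Equiv.swap_apply_right, neg_sub]
  have hii : ∀ r, τA r - r ∈ J := by
    intro r
    have hq : (Ideal.Quotient.mkₐ k J).comp τA = Ideal.Quotient.mkₐ k J := by
      apply PiTensorProduct.algHom_ext
      intro l
      refine AlgHom.ext (fun a => ?_)
      simp only [AlgHom.comp_apply]
      rw [hsingle, Ideal.Quotient.mkₐ_eq_mk, Ideal.Quotient.eq]
      by_cases hl : l = i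
      · subst hl
        rw [Equiv.swap_apply_left]
        have h1 : PiTensorProduct.singleAlgHom (R := k) (A := fun _ : Fin n => A) j a -
            PiTensorProduct.singleAlgHom (R := k) (A := fun _ : Fin n => A) l a = -(g a) := by
          simp only [g, neg_sub]
        rw [h1]
        exact J.neg_mem (hgmem a)
      · by_cases hl' : l = j
        · subst hl'
          rw [Equiv.swap_apply_right]
          exact hgmem a
        · rw [Equiv.swap_apply_of_ne_of_ne hl hl', sub_self]
          exact J.zero_mem
    have h2 := DFunLike.congr_fun hq r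
    simp only [AlgHom.comp_apply, Ideal.Quotient.mkₐ_eq_mk] at h2
    exact Ideal.Quotient.eq.1 h2
  have hJle : J ^ 2 ≤ J := by
    rw [pow_two]
    exact Ideal.mul_le_right
  have hv : ∀ v ∈ J, τA v + v ∈ J ^ 2 := by
    intro v hvJ
    have hvJ2 : v ∈ Ideal.span (Set.range fun a : A =>
        PiTensorProduct.singleAlgHom (R := k) (A := fun _ : Fin n => A) i a -
        PiTensorProduct.singleAlgHom (R := k) (A := fun _ : Fin n => A) j a) := hJ ▸ hvJ
    refine Submodule.span_induction (p := fun v _ => τA v + v ∈ J ^ 2) ?_ ?_ ?_ ?_ hvJ2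
    · rintro _ ⟨a, rfl⟩
      show τA (g a) + g a ∈ J ^ 2
      rw [hg, neg_add_cancel]
      exact Ideal.zero_mem _
    · rw [map_zero, add_zero]
      exact Ideal.zero_mem _
    · intro v₁ v₂ _ _ h₁ h₂
      have h3 : τA (v₁ + v₂) + (v₁ + v₂) = (τA v₁ + v₁) + (τA v₂ + v₂) := by
        rw [map_add]; ring
      rw [h3]
      exact Ideal.add_mem _ h₁ h₂
    · intro r v hvs h
      have hvJ' : v ∈ J := by rw [hJ]; exact hvs
      have hτv : τA v ∈ J := by
        have h4 : τA v = (τA v + v) - v := by ring
        rw [h4]
        exact J.sub_mem (hJle h) hvJ'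
      have h3 : τA (r • v) + r • v = (τA r - r) * τA v + r * (τA v + v) := by
        rw [smul_eq_mul, map_mul]; ring
      rw [h3]
      refine Ideal.add_mem _ ?_ (Ideal.mul_mem_left _ _ h)
      rw [pow_two]
      exact Ideal.mul_mem_mul (hii r) hτv
  have hiv : ∀ s : ℕ, ∀ y ∈ J ^ s, τA y - (-1) ^ s * y ∈ J ^ (s + 1) := by
    intro s
    induction s with
    | zero =>
      intro y _
      rw [pow_zero, one_mul, zero_add, pow_one]
      exact hii y
    | succ s ih =>
      intro y hy
      rw [pow_succ] at hy
      refine Submodule.mul_induction_on hy ?_ ?_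
      · intro u hu v hv'
        have h1 := ih u hu
        have h2 := hv v hv'
        have hτv : τA v ∈ J := by
          have h4 : τA v = (τA v + v) - v := by ring
          rw [h4]
          exact J.sub_mem (hJle h2) hv'
        have h3 : τA (u * v) - (-1) ^ (s + 1) * (u * v) =
            (τA u - (-1) ^ s * u) * τA v + (-1) ^ s * u * (τA v + v) := by
          rw [map_mul, pow_succ]; ring
        rw [h3]
        refine Ideal.add_mem _ ?_ ?_
        · rw [pow_succ J (s + 1)]
          exact Ideal.mul_mem_mul h1 hτv
        · have h5 : J ^ (s + 1 + 1) = J ^ s * J ^ 2 := by rw [← pow_add]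
          rw [h5]
          exact Ideal.mul_mem_mul (Ideal.mul_mem_left _ _ hu) h2
      · intro y₁ y₂ h₁ h₂
        have h3 : τA (y₁ + y₂) - (-1) ^ (s + 1) * (y₁ + y₂) =
            (τA y₁ - (-1) ^ (s + 1) * y₁) + (τA y₂ - (-1) ^ (s + 1) * y₂) := by
          rw [map_add]; ring
        rw [h3]
        exact Ideal.add_mem _ h₁ h₂
  have h1 := hiv s x hmem
  rw [hτA] at h1
  have hτx : τ x = x := hx
  rw [hτx, hs.neg_one_pow, neg_one_mul, sub_neg_eq_add] at h1
  have h2 : x = algebraMap k (⨂[k] _ : Fin n, A) (1 / 2) * (x + x) := by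
    rw [Algebra.algebraMap_eq_smul_one, smul_mul_assoc, one_mul, smul_add, ← add_smul]
    norm_num
  rw [h2]
  exact Ideal.mul_mem_left _ _ h1

/-- Let k be an algebraically closed field of characteristic zero and A a smooth k-algebra which is a
domain of Krull dimension 2. In the n-fold tensor power R of A over k, indexed by Fin n, let I_p (p
= (i, j), i < j) be the ideal generated by the a_i − a_j, a ∈ A, and let I be the intersection of
the I_p, the ideal of the big diagonal. Assume that for every s ≥ 0 the power I ^ s is the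
intersection of the powers I_p ^ s (a property of the big diagonal of a smooth surface that the
source takes from the literature). Then for m ≥ 1 every element of R fixed by all permutations of
the n factors and lying in I ^ (2m − 1) lies in I ^ (2m): on the symmetric product the invariants of
the odd power and of the next even power of the ideal of the big diagonal coincide. (The source
states the sheaf version for a smooth quasi-projective complex surface, using the displayed property
of the powers without restating it as a hypothesis.) -/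
theorem result (k : Type u) [Field k] [IsAlgClosed k] [CharZero k]
    (A : Type v) [CommRing A] [Algebra k A] [Algebra.Smooth k A] [IsDomain A]
    (hdim : ringKrullDim A = 2) (n : ℕ)
    (I : Fin n × Fin n → Ideal (⨂[k] _ : Fin n, A))
    (hI : ∀ p, I p = Ideal.span (Set.range fun a : A =>
        PiTensorProduct.singleAlgHom (R := k) (A := fun _ : Fin n => A) p.1 a -
        PiTensorProduct.singleAlgHom (R := k) (A := fun _ : Fin n => A) p.2 a))
    (IΔ : Ideal (⨂[k] _ : Fin n, A))
    (hIΔ : IΔ = ⨅ p ∈ Finset.univ.filter (fun p : Fin n × Fin n => p.1 < p.2), I p)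
    (hpow : ∀ s : ℕ, IΔ ^ s = ⨅ p ∈ Finset.univ.filter (fun p : Fin n × Fin n => p.1 < p.2), (I p) ^ s)
    (m : ℕ) (hm : 1 ≤ m) (x : ⨂[k] _ : Fin n, A)
    (hx : ∀ σ : Equiv.Perm (Fin n), PiTensorProduct.reindex k (fun _ : Fin n => A) σ x = x)
    (hmem : x ∈ IΔ ^ (2 * m - 1)) :
    x ∈ IΔ ^ (2 * m) := by
  classical
  rw [hpow (2 * m)]
  rw [hpow (2 * m - 1)] at hmem
  simp only [Submodule.mem_iInf] at hmem ⊢
  intro p hp
  have hp' : p.1 < p.2 := (Finset.mem_filter.1 hp).2
  have hodd : Odd (2 * m - 1) := by
    obtain ⟨m', rfl⟩ : ∃ m', m = m' + 1 := ⟨m - 1, by omega⟩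
    exact ⟨m', by omega⟩
  have h2m : 2 * m - 1 + 1 = 2 * m := by omega
  have h3 := key k A n p.1 p.2 (ne_of_lt hp') (I p) (hI p) (2 * m - 1) hodd x (hx _)
    (hmem p hp)
  rwa [h2m] at h3

end Groth.Agent.S19218
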