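import Groth.Statements.S1923
import Groth.Agent.Lib.SecOrd4_helper8

set_option autoImplicit false
universe u
open CategoryTheory AlgebraicGeometry
open Cyc

namespace Groth.Agent.S1923

/-- Let X be integral with δ(η) = n, L an invertible O_X-module and s a global section of L whose germ
at η is nonzero. Then div_L(s) = [Z(s)]_{n−1} as (n − 1)-cycles, where s is viewed as a rational
section through its image in L(η). Here L(ξ) = L_ξ/𝔪_ξ L_ξ is the space of rational sections of L on
the closure of ξ, div_{L|W}(s) and c_1(L) ∩ α are computed as coefficient functions from chosen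
nonzero rational sections (Cyc.secDivFun, Cyc.c1CapFun), and results are compared up to rational
equivalence for any cycles with those coefficients. A pair (X, δ) with Cyc.IsSetup plays the role of
a scheme locally of finite type over a fixed base with a dimension function (X locally Noetherian
with universally catenary local rings, δ a dimension function), and Cyc.DeltaCompat records that the
dimension function upstairs is the induced one. -/
theorem result (X : Scheme.{u}) [IsIntegral X] (δ : X → ℤ) (hX : Cyc.IsSetup X δ) (n : ℤ) (hn : δ (genericPoint X) = n) (L : X.Modules) (hL : PicF.IsInvertible L) (s : L.presheaf.obj (Opposite.op ⊤)) (hs : (L.presheaf.germ ⊤ (genericPoint X) trivial) s ≠ 0) : Cyc.secDivFun δ L (genericPoint X) (Submodule.Quotient.mk ((L.presheaf.germ ⊤ (genericPoint X) trivial) s)) = Cyc.zeroSectionFun δ (n - 1) L s := by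
  classical
  obtain ⟨hXn, -, hδ⟩ := hX
  haveI := hXn
  funext x
  have hηx : genericPoint X ⤳ x := genericPoint_specializes x
  unfold Cyc.secDivFun Cyc.zeroSectionFun
  by_cases hd : δ x + 1 = δ (genericPoint X)
  · have hd' : δ x = n - 1 := by omega
    rw [dif_pos (show genericPoint X ⤳ x ∧ δ x + 1 = δ (genericPoint X) from ⟨hηx, hd⟩),
      if_pos hd']
    obtain ⟨t, ht⟩ := SecOrdH8.exists_isFreeGen hL x
    have ht₀ : ∃ t : L.presheaf.stalk x, Submodule.span (X.presheaf.stalk x) {t} = ⊤ :=
      ⟨t, ht.span_eq_top⟩
    rw [dif_pos ht₀]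
    have hspan := Classical.choose_spec ht₀
    obtain ⟨u, hu, htu⟩ := ht.exists_unit hspan
    have hfree0 : SecOrdH8.IsFreeGen L x (Classical.choose ht₀) := by
      rw [htu]; exact ht.smul_unit hu
    have hf : ∃ f : X.presheaf.stalk x,
        (L.presheaf.germ ⊤ x trivial) s = f • Classical.choose ht₀ :=
      hfree0.1 _
    rw [dif_pos hf]
    have hspec := Classical.choose_spec hf
    generalize Classical.choose hf = f₀ at hspec ⊢
    have hJ : RingHom.ker (Cyc.specMap x (genericPoint X) hηx) = ⊥ :=
      (RingHom.injective_iff_ker_eq_bot _).mp (SecOrdH8.specMap_genericPoint_injective x hηx)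
    have hgerm : (L.presheaf.germ ⊤ (genericPoint X) trivial) s =
        L.presheaf.stalkSpecializes hηx ((L.presheaf.germ ⊤ x trivial) s) :=
      (SecOrdH8.stalkSpecializes_germ L hηx ⊤ trivial s).symm
    have hf0 : f₀ ∉ RingHom.ker (Cyc.specMap x (genericPoint X) hηx) := by
      rw [hJ, Ideal.mem_bot]
      rintro rfl
      apply hs
      rw [hgerm, hspec, zero_smul, map_zero]
    have key := SecOrdH8.secOrdAt_germ_eq_length δ hδ hL hηx hd _ hfree0 f₀ hspec hf0
    rw [hJ, bot_sup_eq] at key
    rw [hgerm]
    exact key
  · have hd' : ¬ δ x = n - 1 := by omega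
    rw [dif_neg (show ¬ (genericPoint X ⤳ x ∧ δ x + 1 = δ (genericPoint X)) from fun h => hd h.2),
      if_neg hd']

end Groth.Agent.S1923
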