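import Groth.Statements.S19230
import Groth.Agent.Lib.SigmaLin_helper3
-- import your own Groth.Agent.* helpers here

set_option autoImplicit false
universe u v
open SigmaLin
open Groth.Agent.Lib.SigmaLin_helper3

namespace Groth.Agent.S19230

/-- Let k be a field, σ a surjective ring endomorphism of k, V a finite-dimensional k-vector space and T
: V → V additive with T (c • v) = σ c • T v. Then the set of vectors killed by some iterate of T is
a k-subspace on which a single iterate of T vanishes, it is a complement of the intersection over n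
of the k-spans of the images of the n-th iterates, and T restricts to a bijection of that
intersection onto itself. -/
theorem result
    (k : Type u) [Field k] (σ : k →+* k) (hσ : Function.Surjective σ)
    (V : Type v) [AddCommGroup V] [Module k V] [FiniteDimensional k V] (T : V →ₛₗ[σ] V) :
    (∃ W : Submodule k V, (W : Set V) = {v : V | ∃ n : ℕ, (⇑T)^[n] v = 0} ∧
      (∃ N : ℕ, ∀ v ∈ W, (⇑T)^[N] v = 0) ∧
      IsCompl W (⨅ n : ℕ, Submodule.span k (Set.range ((⇑T)^[n])))) ∧
    Set.BijOn (⇑T) (⋂ n : ℕ, (Submodule.span k (Set.range ((⇑T)^[n])) : Set V))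
      (⋂ n : ℕ, (Submodule.span k (Set.range ((⇑T)^[n])) : Set V)) := by
  obtain ⟨N, hN, hcompl⟩ := fitting T hσ
  refine ⟨⟨kerSub T N, ?_, ⟨N, fun v hv => mem_kerSub.mp hv⟩, hcompl⟩, ?_, ?_, ?_⟩
  · ext v
    constructor
    · intro hv
      exact ⟨N, mem_kerSub.mp hv⟩
    · rintro ⟨n, hn⟩
      have h1 : v ∈ kerSub T (max n N) := kerSub_mono T (le_max_left _ _) (mem_kerSub.mpr hn)
      rw [hN _ (le_max_right _ _)] at h1
      exact h1
  · intro x hx
    have hx' : x ∈ ssPart T := by
      rw [mem_ssPart]; intro n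
      exact Set.mem_iInter.mp hx n
    have := map_mem_ssPart T hx'
    rw [mem_ssPart] at this
    exact Set.mem_iInter.mpr this
  · intro x hx y hy hxy
    have hx' : x ∈ ssPart T := mem_ssPart.mpr fun n => Set.mem_iInter.mp hx n
    have hy' : y ∈ ssPart T := mem_ssPart.mpr fun n => Set.mem_iInter.mp hy n
    have h0 : T (x - y) = 0 := by rw [map_sub, hxy, sub_self]
    exact sub_eq_zero.mp (eq_zero_of_mem_ssPart T (Submodule.sub_mem _ hx' hy') h0)
  · intro y hy
    have hy' : y ∈ ssPart T := mem_ssPart.mpr fun n => Set.mem_iInter.mp hy n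
    obtain ⟨x, hx, hxy⟩ := exists_mem_ssPart_map_eq T hσ hy'
    exact ⟨x, Set.mem_iInter.mpr (mem_ssPart.mp hx), hxy⟩

end Groth.Agent.S19230
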