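import Groth.Statements.S19244
import Mathlib

set_option autoImplicit false
universe v v' u u'
open HomAlg3

namespace Groth.Agent.S19244

open CategoryTheory CategoryTheory.Limits in
theorem quasi_inv {A : Type u} [Category.{v} A] [Abelian A] {Y Y' : A} (s : Y ⟶ Y') (a b : ℤ)
    (hcok : a • 𝟙 (cokernel s) = 0) (hker : b • 𝟙 (kernel s) = 0) :
    ∃ t : Y' ⟶ Y, s ≫ t = (a * b) • 𝟙 Y := by
  have h1 : (a • 𝟙 Y') ≫ cokernel.π s = 0 := by
    rw [Preadditive.zsmul_comp, Category.id_comp, ← Category.comp_id (cokernel.π s),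
      ← Preadditive.comp_zsmul, hcok, comp_zero]
  let u : Y' ⟶ Abelian.image s := kernel.lift (cokernel.π s) (a • 𝟙 Y') h1
  have hu : u ≫ Abelian.image.ι s = a • 𝟙 Y' := kernel.lift_ι _ _ _
  have h2 : kernel.ι s ≫ (b • 𝟙 Y) = 0 := by
    rw [Preadditive.comp_zsmul, Category.comp_id, ← Category.id_comp (kernel.ι s),
      ← Preadditive.zsmul_comp, hker, zero_comp]
  let v : Abelian.coimage s ⟶ Y := cokernel.desc (kernel.ι s) (b • 𝟙 Y) h2
  have hv : Abelian.coimage.π s ≫ v = b • 𝟙 Y := cokernel.π_desc _ _ _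
  refine ⟨u ≫ (Abelian.coimageIsoImage s).inv ≫ v, ?_⟩
  have h3 : s ≫ u = a • Abelian.factorThruImage s := by
    apply (cancel_mono (Abelian.image.ι s)).1
    rw [Category.assoc, hu, Preadditive.comp_zsmul, Category.comp_id, Preadditive.zsmul_comp,
      Abelian.image.fac]
  have h4 : Abelian.factorThruImage s =
      Abelian.coimage.π s ≫ (Abelian.coimageIsoImage s).hom := by
    apply (cancel_mono (Abelian.image.ι s)).1
    rw [Abelian.image.fac, Category.assoc]
    exact (Abelian.coimage_image_factorisation s).symm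
  rw [← Category.assoc, h3, h4, Preadditive.zsmul_comp, Category.assoc, Iso.hom_inv_id_assoc, hv,
    smul_smul]

open CategoryTheory CategoryTheory.Limits in
theorem zsmul_id_isoModSerre {A : Type u} [Category.{v} A] [Abelian A]
    (P : ObjectProperty A) (hP : ∀ X : A, P X ↔ ∃ n : ℤ, n ≠ 0 ∧ n • (𝟙 X) = 0) [P.IsSerreClass]
    (Z : A) (n : ℤ) (hn : n ≠ 0) : P.isoModSerre (n • 𝟙 Z) := by
  constructor
  · show P (kernel (n • 𝟙 Z))
    rw [hP]
    refine ⟨n, hn, ?_⟩
    apply (cancel_mono (kernel.ι (n • 𝟙 Z))).1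
    rw [zero_comp, Preadditive.zsmul_comp, Category.id_comp,
      ← Category.comp_id (kernel.ι (n • 𝟙 Z)), ← Preadditive.comp_zsmul, kernel.condition]
  · show P (cokernel (n • 𝟙 Z))
    rw [hP]
    refine ⟨n, hn, ?_⟩
    apply (cancel_epi (cokernel.π (n • 𝟙 Z))).1
    rw [comp_zero, Preadditive.comp_zsmul, Category.comp_id,
      ← Category.id_comp (cokernel.π (n • 𝟙 Z)), ← Preadditive.zsmul_comp, cokernel.condition]

open CategoryTheory in
/-- Let A be an abelian category and let P be the class of bounded-torsion objects of A, those X with n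
• 𝟙_X = 0 for some nonzero integer n; assume P is a Serre class. Let L : A ⥤ D be an additive
functor to a preadditive category exhibiting D as the localization of A at the morphisms whose
kernel and cokernel are in P (so D is the quotient category A_ℚ = A ⧸ A_{b-tor}; the source assumes
A well-powered, which guarantees that this quotient exists). Then for all objects X, Y of A: (1) for
every nonzero integer n, multiplication by n is bijective on Hom_D(L X, L Y), so that this group is
naturally a ℚ-vector space; (2) a morphism f : X ⟶ Y satisfies L f = 0 if and only if n • f = 0 for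
some nonzero integer n; (3) for every g : L X ⟶ L Y there are a nonzero integer n and f : X ⟶ Y with
n • g = L f. Equivalently, the natural map Hom_A(X, Y) ⊗_ℤ ℚ → Hom_D(L X, L Y) is an isomorphism. -/
theorem result
    {A : Type u} [Category.{v} A] [Abelian A] {D : Type u'} [Category.{v'} D] [Preadditive D]
    (P : ObjectProperty A) (hP : ∀ X : A, P X ↔ ∃ n : ℤ, n ≠ 0 ∧ n • (𝟙 X) = 0) [P.IsSerreClass]
    (L : A ⥤ D) [L.Additive] [L.IsLocalization P.isoModSerre] (X Y : A) :
    (∀ n : ℤ, n ≠ 0 → Function.Bijective (fun g : L.obj X ⟶ L.obj Y => n • g)) ∧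
    (∀ f : X ⟶ Y, L.map f = 0 ↔ ∃ n : ℤ, n ≠ 0 ∧ n • f = 0) ∧
    (∀ g : L.obj X ⟶ L.obj Y, ∃ (n : ℤ) (f : X ⟶ Y), n ≠ 0 ∧ n • g = L.map f) := by
  have hiso : ∀ (Z : A) (n : ℤ), n ≠ 0 → IsIso (n • 𝟙 (L.obj Z)) := by
    intro Z n hn
    have hW : P.isoModSerre (n • 𝟙 Z) := zsmul_id_isoModSerre P hP Z n hn
    have h1 : IsIso (L.map (n • 𝟙 Z)) := Localization.inverts L P.isoModSerre _ hW
    rwa [Functor.map_zsmul, L.map_id] at h1
  refine ⟨fun n hn => ?_, ?_, ?_⟩
  · haveI := hiso Y n hn
    have heq : (fun g : L.obj X ⟶ L.obj Y => n • g) = fun g => g ≫ (n • 𝟙 (L.obj Y)) := by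
      funext g
      rw [Preadditive.comp_zsmul, Category.comp_id]
    rw [heq]
    constructor
    · intro g g' h
      exact (cancel_mono (n • 𝟙 (L.obj Y))).1 h
    · intro g
      refine ⟨g ≫ inv (n • 𝟙 (L.obj Y)), ?_⟩
      show (g ≫ inv (n • 𝟙 (L.obj Y))) ≫ (n • 𝟙 (L.obj Y)) = g
      rw [Category.assoc, IsIso.inv_hom_id, Category.comp_id]
  · intro f
    rw [ObjectProperty.SerreClassLocalization.map_eq_zero_iff L P, hP]
    have hfac : ∀ n : ℤ, n • f =
        Abelian.factorThruImage f ≫ (n • 𝟙 _) ≫ Abelian.image.ι f := by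
      intro n
      rw [Preadditive.zsmul_comp, Category.id_comp, Preadditive.comp_zsmul, Abelian.image.fac]
    constructor
    · rintro ⟨n, hn, h⟩
      refine ⟨n, hn, ?_⟩
      rw [hfac, h, CategoryTheory.Limits.zero_comp, CategoryTheory.Limits.comp_zero]
    · rintro ⟨n, hn, h⟩
      refine ⟨n, hn, ?_⟩
      rw [hfac] at h
      have h2 : (n • 𝟙 (Abelian.image f)) ≫ Abelian.image.ι f = 0 :=
        (cancel_epi (Abelian.factorThruImage f)).1 (by rw [h, CategoryTheory.Limits.comp_zero])
      exact (cancel_mono (Abelian.image.ι f)).1 (by rw [h2, CategoryTheory.Limits.zero_comp])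
  · intro g
    obtain ⟨φ, hφ⟩ := Localization.exists_leftFraction L P.isoModSerre g
    obtain ⟨a, ha, hcok⟩ := (hP _).1 φ.hs.2
    obtain ⟨b, hb, hker⟩ := (hP _).1 φ.hs.1
    obtain ⟨t, ht⟩ := quasi_inv φ.s a b hcok hker
    refine ⟨a * b, φ.f ≫ t, mul_ne_zero ha hb, ?_⟩
    have h0 : g ≫ L.map φ.s = L.map φ.f := by
      rw [hφ]
      exact MorphismProperty.LeftFraction.map_comp_map_s φ L (Localization.inverts L _)
    have h1 : L.map φ.s ≫ L.map t = (a * b) • 𝟙 _ := by
      rw [← L.map_comp, ht, Functor.map_zsmul, L.map_id]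
    calc (a * b) • g = g ≫ ((a * b) • 𝟙 _) := by rw [Preadditive.comp_zsmul, Category.comp_id]
      _ = g ≫ L.map φ.s ≫ L.map t := by rw [h1]
      _ = L.map (φ.f ≫ t) := by rw [← Category.assoc, h0, L.map_comp]

end Groth.Agent.S19244
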