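import Groth.Statements.S19258
import Mathlib.Algebra.Category.Grp.Injective
import Mathlib.Algebra.Module.CharacterModule
import Mathlib.Tactic.FieldSimp
import Mathlib.Tactic.Linarith

set_option autoImplicit false
universe u
open PontDual

namespace Groth.Agent.S19258

private lemma torsion_gen (e : ℕ) (he : 0 < e) (y : AddCircle (1:ℚ)) (hy : e • y = 0) :
    ∃ a : ℤ, y = a • ((((1:ℚ) / (e : ℚ) : ℚ)) : AddCircle (1:ℚ)) := by
  obtain ⟨q, rfl⟩ := QuotientAddGroup.mk_surjective y
  have h1 : ((e • q : ℚ) : AddCircle (1:ℚ)) = 0 := by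
    rw [AddCircle.coe_nsmul]; exact hy
  rw [AddCircle.coe_eq_zero_iff] at h1
  obtain ⟨a, ha⟩ := h1
  refine ⟨a, ?_⟩
  have hq : q = a • ((1:ℚ) / (e : ℚ)) := by
    have he' : (e:ℚ) ≠ 0 := by exact_mod_cast he.ne'
    simp only [zsmul_eq_mul, nsmul_eq_mul, mul_one] at ha ⊢
    field_simp
    linarith
  rw [← AddCircle.coe_zsmul, ← hq]

private lemma hom_torsion (φ : AddCircle (1:ℚ) →+ AddCircle (1:ℚ)) (e : ℕ) (he : 0 < e) :
    ∃ m : ℤ, ∀ y : AddCircle (1:ℚ), e • y = 0 → φ y = m • y := by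
  have he' : (e:ℚ) ≠ 0 := by exact_mod_cast he.ne'
  have hu : e • ((((1:ℚ) / (e : ℚ) : ℚ)) : AddCircle (1:ℚ)) = 0 := by
    rw [← AddCircle.coe_nsmul, AddCircle.coe_eq_zero_iff]
    refine ⟨1, ?_⟩
    simp only [one_smul, nsmul_eq_mul]
    field_simp
  have hφu : e • φ ((((1:ℚ) / (e : ℚ) : ℚ)) : AddCircle (1:ℚ)) = 0 := by
    rw [← map_nsmul, hu, map_zero]
  obtain ⟨m, hm⟩ := torsion_gen e he _ hφu
  refine ⟨m, fun y hy => ?_⟩
  obtain ⟨a, rfl⟩ := torsion_gen e he y hy
  rw [map_zsmul, hm, smul_comm]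


/-- Let G and G' be abelian groups such that every element of G' has finite order, and let β : G' →
Hom(G, ℚ/ℤ) be an injective homomorphism (equivalently a pairing G' × G → ℚ/ℤ with no left kernel).
Endow G with the weak topology defined by G': the coarsest topology for which every character β(f),
f ∈ G', is continuous when ℚ/ℤ carries the discrete topology. Then every homomorphism χ : G → ℚ/ℤ
that is continuous for this topology on G and the discrete topology on ℚ/ℤ equals β(f) for some f ∈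
G', so that β is a bijection from G' onto the group of continuous characters of G. -/
theorem result
    (G : Type u) (G' : Type u) [AddCommGroup G] [AddCommGroup G'] (hG' : IsAddTorsion G')
    (β : G' →+ (G →+ AddCircle (1 : ℚ))) (hβ : Function.Injective β)
    (χ : G →+ AddCircle (1 : ℚ))
    (hχ : @Continuous G (AddCircle (1 : ℚ)) (⨅ f' : G', TopologicalSpace.induced (fun x : G => β f' x) ⊥) ⊥ χ) :
    ∃ f' : G', β f' = χ := by
  classical
  -- Step 1: a finite set of characters whose common kernel lies in `ker χ`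
  have hdisc : @DiscreteTopology (AddCircle (1:ℚ)) ⊥ := @DiscreteTopology.mk _ ⊥ rfl
  obtain ⟨τ, hτ⟩ : ∃ τ : TopologicalSpace G,
      τ = ⨅ f' : G', TopologicalSpace.induced (fun x : G => β f' x) ⊥ := ⟨_, rfl⟩
  rw [← hτ] at hχ
  have hopen : @IsOpen G τ (χ ⁻¹' {0}) :=
    @Continuous.isOpen_preimage G (AddCircle (1:ℚ)) τ ⊥ χ hχ {0} (@isOpen_discrete _ ⊥ hdisc {0})
  have hnhds : χ ⁻¹' {0} ∈ @nhds G τ 0 := by
    letI := τ
    exact hopen.mem_nhds (by simp)
  rw [hτ] at hnhds
  rw [nhds_iInf] at hnhds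
  have hn : ∀ f' : G', @nhds G (TopologicalSpace.induced (fun x : G => β f' x) ⊥) 0 =
      Filter.principal ((fun x : G => β f' x) ⁻¹' {0}) := by
    intro f'
    rw [@nhds_induced _ _ ⊥, @nhds_discrete _ ⊥ hdisc, Filter.comap_pure, map_zero]
  simp only [hn] at hnhds
  rw [Filter.mem_iInf] at hnhds
  obtain ⟨I, hI, V, hV, hVeq⟩ := hnhds
  haveI : Fintype I := hI.fintype
  have hK : ∀ g : G, (∀ i : I, β i g = 0) → χ g = 0 := by
    intro g hg
    have : g ∈ χ ⁻¹' {0} := by
      rw [hVeq]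
      refine Set.mem_iInter.mpr (fun i => ?_)
      have := hV i
      rw [Filter.mem_principal] at this
      apply this
      simp [hg i]
    simpa using this
  -- Step 2: extend through the product
  let Ψ : G →+ (I → AddCircle (1:ℚ)) := AddMonoidHom.pi (fun i : I => β i)
  have hΨ : ∀ g i, Ψ g i = β i g := fun g i => rfl
  have hker : Ψ.ker ≤ χ.ker := by
    intro g hg
    rw [AddMonoidHom.mem_ker] at hg ⊢
    apply hK
    intro i
    rw [← hΨ, hg]; rfl
  haveI : DivisibleBy (AddCircle (1:ℚ)) ℤ := inferInstance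
  obtain ⟨Φ, hΦ⟩ := (Module.Baer.of_divisible (AddCircle (1:ℚ))).extension_property_addMonoidHom
    (QuotientAddGroup.kerLift Ψ) (QuotientAddGroup.kerLift_injective Ψ)
    (QuotientAddGroup.lift Ψ.ker χ hker)
  have hΦχ : ∀ g, Φ (Ψ g) = χ g := by
    intro g
    have := DFunLike.congr_fun hΦ (QuotientAddGroup.mk g)
    simpa using this
  -- Step 3: coordinates
  have hord : ∀ i : I, 0 < addOrderOf (i : G') := fun i => (hG' (i : G')).addOrderOf_pos
  have hm : ∀ i : I, ∃ m : ℤ, ∀ y : AddCircle (1:ℚ), addOrderOf (i : G') • y = 0 →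
      Φ (Pi.single i y) = m • y := by
    intro i
    exact hom_torsion (Φ.comp (AddMonoidHom.single (fun _ : I => AddCircle (1:ℚ)) i)) _ (hord i)
  choose m hm using hm
  refine ⟨∑ i : I, m i • (i : G'), ?_⟩
  ext g
  rw [map_sum, AddMonoidHom.finsetSum_apply, ← hΦχ g]
  have hdecomp : Ψ g = ∑ i : I, Pi.single i (Ψ g i) := (Finset.univ_sum_single (Ψ g)).symm
  rw [hdecomp, map_sum]
  refine Finset.sum_congr rfl (fun i _ => ?_)
  rw [map_zsmul, AddMonoidHom.zsmul_apply, hΨ]
  symm
  apply hm i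
  rw [← AddMonoidHom.nsmul_apply, ← map_nsmul, addOrderOf_nsmul_eq_zero, map_zero]
  rfl

end Groth.Agent.S19258
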