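import Groth.Statements.S19264
import Mathlib
import Groth.Agent.Lib.WittFilUFD2_helper4

set_option autoImplicit false
universe u
open WittFil

namespace Groth.Agent.S19264

/-- Let A be a unique factorisation domain of characteristic p, x_1, …, x_r pairwise non-associate prime
elements of A, B = A[1/(x_1⋯x_r)] with u_i the unit of B defined by x_i, n ∈ ℤ^r and m ≥ 0. The
restriction map from truncated p-typical Witt vectors of length m+1 to those of length m over B
(forgetting the last coordinate) maps the filtered piece cut out by ∏ u_i ^ n_i onto the filtered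
piece cut out by ∏ u_i ^ ⌊n_i / p⌋; that is, the image is exactly that piece. (The other parts of
the exact sequence, injectivity of the (m-fold) Verschiebung from the fractional ideal generated by
(∏ u_i ^ n_i)⁻¹ and exactness in the middle, are immediate from the definition and are not restated.
The published setting is a regular local ring; only unique factorisation is used.) -/
theorem result (p : ℕ) [Fact p.Prime] {A B : Type u} [CommRing A] [IsDomain A]
    [UniqueFactorizationMonoid A] [CharP A p] [CommRing B] [Algebra A B] {r : ℕ} (x : Fin r → A)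
    (hx : ∀ i, Prime (x i)) (hxa : ∀ i j, Associated (x i) (x j) → i = j)
    [IsLocalization.Away (∏ i, x i) B] (u : Fin r → Bˣ)
    (hu : ∀ i, (u i : B) = algebraMap A B (x i)) (n : Fin r → ℤ) (m : ℕ) :
    (TruncatedWittVector.truncate (Nat.le_succ m)) '' WittFil.fil p (m + 1) (A := A) (WittFil.zmon u n) =
      WittFil.fil p m (A := A) (WittFil.zmon u (fun i => n i / (p : ℤ))) := by
  have hp : p.Prime := Fact.out
  have hp0 : 0 < (p : ℤ) := by exact_mod_cast hp.pos
  have hρ : ∀ i, (n i % (p : ℤ)).toNat < p := fun i => by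
    have h1 := Int.emod_nonneg (n i) hp0.ne'
    have h2 := Int.emod_lt_of_pos (n i) hp0
    omega
  have hdecomp : n = (fun i => (((n i % (p : ℤ)).toNat : ℕ) : ℤ)) +
      (fun i => (p : ℤ) * (n i / (p : ℤ))) := by
    funext i
    rw [Pi.add_apply, Int.toNat_of_nonneg (Int.emod_nonneg _ hp0.ne')]
    exact (Int.emod_add_mul_ediv (n i) p).symm
  have hzn : WittFil.zmon u n = algebraMap A B (∏ i, x i ^ (n i % (p : ℤ)).toNat) *
      (WittFil.zmon u (fun i => n i / (p : ℤ))) ^ p := by
    conv_lhs => rw [hdecomp]
    rw [Lib.WittFilUFD2_helper4.zmon_add, Lib.WittFilUFD2_helper4.zmon_natCast u x hu,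
      Lib.WittFilUFD2_helper4.zmon_natMul]
  have hkey : ∀ (y : B) (j : ℕ), j < m →
      (y ^ p ^ (m - 1 - j) * WittFil.zmon u (fun i => n i / (p : ℤ))) ^ p *
        algebraMap A B (∏ i, x i ^ (n i % (p : ℤ)).toNat) =
      y ^ p ^ (m + 1 - 1 - j) * WittFil.zmon u n := by
    intro y j hj
    have e : m + 1 - 1 - j = (m - 1 - j) + 1 := by omega
    rw [hzn, mul_pow, ← pow_mul, e, pow_succ]
    ring
  ext b
  constructor
  · rintro ⟨a, ha, rfl⟩
    intro j
    rw [TruncatedWittVector.coeff_truncate]
    have hj := ha (Fin.castLE (Nat.le_succ m) j)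
    apply Lib.WittFilUFD2_helper4.mem_range_of_pow_mul x hx hxa p hp.ne_zero _ hρ
    rw [hkey _ _ j.2]
    exact hj
  · intro hb
    refine ⟨TruncatedWittVector.mk p (fun j : Fin (m + 1) =>
      if h : (j : ℕ) < m then TruncatedWittVector.coeff ⟨j, h⟩ b else 0), ?_, ?_⟩
    · intro j
      rw [TruncatedWittVector.coeff_mk]
      by_cases h : (j : ℕ) < m
      · rw [dif_pos h, ← hkey _ _ h]
        exact Subring.mul_mem _ (Subring.pow_mem _ (hb ⟨j, h⟩) _) ⟨_, rfl⟩
      · rw [dif_neg h, zero_pow (pow_ne_zero _ hp.ne_zero), zero_mul]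
        exact Subring.zero_mem _
    · ext j
      rw [TruncatedWittVector.coeff_truncate, TruncatedWittVector.coeff_mk]
      have h : ((Fin.castLE (Nat.le_succ m) j : Fin (m + 1)) : ℕ) < m := j.2
      rw [dif_pos h]
      rfl

end Groth.Agent.S19264
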