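import Groth.Statements.S19269
import Mathlib
-- import your own Groth.Agent.* helpers here

set_option autoImplicit false
universe u
open CAlg
set_option maxSynthPendingDepth 3

namespace Groth.Agent.S19269

open IsLocalRing in
/-- Let R be a Noetherian local ring with maximal ideal 𝔪, M a finitely generated R-module and M^ its
𝔪-adic completion, a module over the 𝔪-adic completion R^ of R. Let N' be an R^-submodule of M^ and
N an R-submodule of M whose image in M^ is contained in N' and is dense in N' for the 𝔪-adic
topology, in the sense that for every y in N' and every k there is x in N with y ≡ x modulo the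
kernel of M^ → M/𝔪^k M. Then N' equals the image of the completion of N under the map induced by the
inclusion N → M (so N' is the completion of N), and N is the set of elements of M whose image in M^
lies in N'. -/
theorem result {R : Type u} [CommRing R]
    [IsNoetherianRing R] [IsLocalRing R] {M : Type u} [AddCommGroup M] [Module R M]
    [Module.Finite R M] (N : Submodule R M)
    (N' : Submodule (AdicCompletion (maximalIdeal R) R) (AdicCompletion (maximalIdeal R) M))
    (hle : ∀ x ∈ N, AdicCompletion.of (maximalIdeal R) M x ∈ N')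
    (hdense : ∀ y ∈ N', ∀ k : ℕ, ∃ x ∈ N,
      AdicCompletion.eval (maximalIdeal R) M k y = Submodule.Quotient.mk x) :
    (N'.restrictScalars R =
        (LinearMap.range (AdicCompletion.map (maximalIdeal R) N.subtype)).restrictScalars R) ∧
      (∀ x : M, x ∈ N ↔ AdicCompletion.of (maximalIdeal R) M x ∈ N') := by
  classical
  haveI : IsNoetherian R M := isNoetherian_of_isNoetherianRing_of_finite R M
  have hIne : IsLocalRing.maximalIdeal R ≠ ⊤ := (IsLocalRing.maximalIdeal.isMaximal R).ne_top
  -- Part 2
  have part2 : ∀ x : M, x ∈ N ↔ AdicCompletion.of (IsLocalRing.maximalIdeal R) M x ∈ N' := by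
    intro x
    refine ⟨hle x, fun hx => ?_⟩
    have hkrull : (⨅ i : ℕ, (IsLocalRing.maximalIdeal R) ^ i • ⊤ : Submodule R (M ⧸ N)) = ⊥ :=
      Ideal.iInf_pow_smul_eq_bot_of_isLocalRing (IsLocalRing.maximalIdeal R) hIne
    have hmem : N.mkQ x ∈ (⨅ i : ℕ, (IsLocalRing.maximalIdeal R) ^ i • ⊤ : Submodule R (M ⧸ N)) := by
      rw [Submodule.mem_iInf]
      intro k
      obtain ⟨xk, hxkN, hxk⟩ := hdense _ hx k
      rw [AdicCompletion.eval_of, Submodule.mkQ_apply, Submodule.Quotient.eq] at hxk
      have h1 : N.mkQ x = N.mkQ (x - xk) := by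
        rw [map_sub, Submodule.mkQ_apply N xk, (Submodule.Quotient.mk_eq_zero N).mpr hxkN, sub_zero]
      have h2 : ((IsLocalRing.maximalIdeal R) ^ k • ⊤ : Submodule R (M ⧸ N)) = Submodule.map N.mkQ ((IsLocalRing.maximalIdeal R) ^ k • ⊤) := by
        rw [Submodule.map_smul'', Submodule.map_top, Submodule.range_mkQ]
      rw [h1, h2]
      exact Submodule.mem_map_of_mem hxk
    rw [hkrull, Submodule.mem_bot, Submodule.mkQ_apply, Submodule.Quotient.mk_eq_zero] at hmem
    exact hmem
  refine ⟨?_, part2⟩
  apply le_antisymm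
  · -- N' ⊆ range
    intro y hy
    change y ∈ N' at hy
    change y ∈ LinearMap.range (AdicCompletion.map (IsLocalRing.maximalIdeal R) N.subtype)
    obtain ⟨c, hc⟩ := Ideal.exists_pow_inf_eq_pow_smul (IsLocalRing.maximalIdeal R) N
    choose x hxN hx using hdense y hy
    have hxval : ∀ k, y.val k = Submodule.Quotient.mk (x k) := fun k => hx k
    have hdiff : ∀ k, x (k + 1 + c) - x (k + c) ∈ ((IsLocalRing.maximalIdeal R) ^ (k + c) • ⊤ : Submodule R M) := by
      intro k
      have hle' : k + c ≤ k + 1 + c := by omega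
      have h1 := AdicCompletion.transitionMap_comp_eval_apply (I := IsLocalRing.maximalIdeal R) (M := M) hle' y
      rw [hxval, hxval] at h1
      have h2 : (Submodule.Quotient.mk (x (k + 1 + c)) : M ⧸ ((IsLocalRing.maximalIdeal R) ^ (k + c) • ⊤ : Submodule R M)) =
          Submodule.Quotient.mk (x (k + c)) := h1
      rwa [Submodule.Quotient.eq] at h2
    have hdiff' : ∀ k, ∃ d' : ↥N, d' ∈ ((IsLocalRing.maximalIdeal R) ^ k • ⊤ : Submodule R ↥N) ∧
        (d' : M) = x (k + 1 + c) - x (k + c) := by
      intro k
      have h3 : x (k + 1 + c) - x (k + c) ∈ ((IsLocalRing.maximalIdeal R) ^ (k + c) • ⊤ ⊓ N : Submodule R M) :=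
        ⟨hdiff k, N.sub_mem (hxN _) (hxN _)⟩
      rw [hc (k + c) (by omega), Nat.add_sub_cancel] at h3
      have h4 : ((IsLocalRing.maximalIdeal R) ^ k • ((IsLocalRing.maximalIdeal R) ^ c • ⊤ ⊓ N) : Submodule R M) ≤ (IsLocalRing.maximalIdeal R) ^ k • N :=
        Submodule.smul_mono le_rfl inf_le_right
      have h5 : ((IsLocalRing.maximalIdeal R) ^ k • N : Submodule R M) = Submodule.map N.subtype ((IsLocalRing.maximalIdeal R) ^ k • ⊤) := by
        rw [Submodule.map_smul'', Submodule.map_subtype_top]
      have h6 := h4 h3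
      rw [h5] at h6
      obtain ⟨d', hd', hd'e⟩ := h6
      exact ⟨d', hd', hd'e⟩
    let a : ℕ → ↥N := fun k => ⟨x (k + c), hxN (k + c)⟩
    have hcauchy : ∀ k, a k ≡ a (k + 1) [SMOD ((IsLocalRing.maximalIdeal R) ^ k • ⊤ : Submodule R ↥N)] := by
      intro k
      obtain ⟨d', hd', hd'e⟩ := hdiff' k
      apply SModEq.symm
      rw [SModEq.sub_mem]
      have h7 : a (k + 1) - a k = d' := by
        apply Subtype.ext
        rw [hd'e]
        rfl
      rw [h7]
      exact hd'
    refine ⟨AdicCompletion.mk (IsLocalRing.maximalIdeal R) ↥N (AdicCompletion.AdicCauchySequence.mk (IsLocalRing.maximalIdeal R) ↥N a hcauchy), ?_⟩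
    apply AdicCompletion.ext
    intro k
    have hle' : k ≤ k + c := by omega
    have h8 := AdicCompletion.transitionMap_comp_eval_apply (I := IsLocalRing.maximalIdeal R) (M := M) hle' y
    rw [← h8, hxval]
    rfl
  · -- range ⊆ N'
    rintro _ ⟨z, rfl⟩
    change AdicCompletion.map (IsLocalRing.maximalIdeal R) N.subtype z ∈ N'
    obtain ⟨w, rfl⟩ := AdicCompletion.ofTensorProduct_surjective_of_finite (IsLocalRing.maximalIdeal R) ↥N z
    induction w using TensorProduct.induction_on with
    | zero =>
      rw [map_zero, map_zero]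
      exact N'.zero_mem
    | tmul r n =>
      rw [AdicCompletion.ofTensorProduct_tmul, map_smul, AdicCompletion.map_of]
      exact N'.smul_mem r (hle _ n.2)
    | add a b ha hb =>
      rw [map_add, map_add]
      exact N'.add_mem ha hb

end Groth.Agent.S19269
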