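import Groth.Statements.S19273
import Mathlib

set_option autoImplicit false
universe u
open CAlg

namespace Groth.Agent.S19273

open KaehlerDifferential in
/-- Let A be an integral domain of prime characteristic p, x_1, …, x_N elements of A, r ≤ N, B =
A[1/(x_1⋯x_r)] with u_i the unit of B defined by x_i for i ≤ r, and suppose that the module Ω_A of
absolute Kähler differentials of A is free with a basis b indexed by {1, …, N} ⊔ ι whose i-th vector
is d(x_i) for i ≤ N. Then the module of logarithmic 1-forms — the A-submodule of Ω_B spanned by the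
image of Ω_A and the forms u_i⁻¹ · d(x_i), i ≤ r — is a free A-module: it has a basis indexed by {1,
…, N} ⊔ ι whose vector at i ≤ r is u_i⁻¹ · d(x_i), at r < i ≤ N is d(x_i), and at k ∈ ι is the image
of b_k. (In the published statement A is a regular local F-finite algebra over the prime field with
maximal ideal (x_1, …, x_N), the basis of Ω_A comes from the preceding lemma, and the assertion
covers the logarithmic q-forms for all q together with their identification with the log de Rham
complex of the log ring; only the degree-one freeness is stated here, from the properties of A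
actually used.) -/
theorem result (p : ℕ) [Fact p.Prime]
    {A B : Type u} [CommRing A] [IsDomain A] [CharP A p] [CommRing B] [Algebra A B] {r N : ℕ}
    (hr : r ≤ N) (x : Fin N → A) [IsLocalization.Away (∏ i : Fin r, x (Fin.castLE hr i)) B]
    (u : Fin r → Bˣ) (hu : ∀ i, (u i : B) = algebraMap A B (x (Fin.castLE hr i)))
    {ι : Type u} (b : Module.Basis (Fin N ⊕ ι) A (Ω[A⁄ℤ])) (hb : ∀ i, b (Sum.inl i) = D ℤ A (x i)) :
    ∃ e : Module.Basis (Fin N ⊕ ι) A
        (W4c6katofilta.logForms1 (fun i : Fin r => x (Fin.castLE hr i)) u),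
      (∀ i : Fin r, (e (Sum.inl (Fin.castLE hr i)) : Ω[B⁄ℤ]) =
          ((u i)⁻¹ : Bˣ) • KaehlerDifferential.map ℤ ℤ A B (D ℤ A (x (Fin.castLE hr i)))) ∧
      (∀ i : Fin N, r ≤ (i : ℕ) →
          (e (Sum.inl i) : Ω[B⁄ℤ]) = KaehlerDifferential.map ℤ ℤ A B (D ℤ A (x i))) ∧
      (∀ k : ι, (e (Sum.inr k) : Ω[B⁄ℤ]) = KaehlerDifferential.map ℤ ℤ A B (b (Sum.inr k))) := by
  classical
  set π : A := ∏ i : Fin r, x (Fin.castLE hr i) with hπdef
  have hxne : ∀ i : Fin N, x i ≠ 0 := by
    intro i h0
    have h1 : b (Sum.inl i) = 0 := by rw [hb i, h0, map_zero]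
    exact b.ne_zero _ h1
  have hπne : π ≠ 0 := Finset.prod_ne_zero_iff.2 (fun i _ => hxne _)
  have hinj : Function.Injective (algebraMap A B) :=
    IsLocalization.injective B (powers_le_nonZeroDivisors_of_noZeroDivisors hπne)
  let f : Ω[A⁄ℤ] →ₗ[A] Ω[B⁄ℤ] := KaehlerDifferential.map ℤ ℤ A B
  haveI : IsLocalization (Submonoid.powers π) B := ‹IsLocalization.Away π B›
  haveI : IsLocalizedModule (Submonoid.powers π) f :=
    KaehlerDifferential.isLocalizedModule_map (R := ℤ) (S := A) (T := B) (Submonoid.powers π)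
  let bB : Module.Basis (Fin N ⊕ ι) B (Ω[B⁄ℤ]) := b.ofIsLocalizedModule B (Submonoid.powers π) f
  have hbB : ∀ j, bB j = f (b j) :=
    fun j => b.ofIsLocalizedModule_apply B (Submonoid.powers π) f j
  let w : Fin N ⊕ ι → Bˣ := fun j =>
    Sum.elim (fun i : Fin N => if h : (i : ℕ) < r then (u ⟨i, h⟩)⁻¹ else 1) (fun _ => 1) j
  let v : Fin N ⊕ ι → Ω[B⁄ℤ] := fun j => w j • bB j
  have hliB : LinearIndependent B v := by
    have h1 := bB.linearIndependent.units_smul w
    exact h1
  have hliA : LinearIndependent A v := by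
    refine LinearIndependent.restrict_scalars ?_ hliB
    intro a a' h
    simp only [Algebra.smul_def, mul_one] at h
    exact hinj h
  have hv1 : ∀ i : Fin r, v (Sum.inl (Fin.castLE hr i)) =
      ((u i)⁻¹ : Bˣ) • f (KaehlerDifferential.D ℤ A (x (Fin.castLE hr i))) := by
    intro i
    have h : ((Fin.castLE hr i : Fin N) : ℕ) < r := by
      rw [Fin.val_castLE]; exact i.2
    have hi : (⟨((Fin.castLE hr i : Fin N) : ℕ), h⟩ : Fin r) = i := Fin.ext (by simp)
    show w (Sum.inl (Fin.castLE hr i)) • bB (Sum.inl (Fin.castLE hr i)) = _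
    have hw : w (Sum.inl (Fin.castLE hr i)) = (u i)⁻¹ := by
      simp only [w, Sum.elim_inl, dif_pos h, hi]
    rw [hw, hbB, hb]
  have hv2 : ∀ i : Fin N, r ≤ (i : ℕ) → v (Sum.inl i) = f (KaehlerDifferential.D ℤ A (x i)) := by
    intro i hi
    show w (Sum.inl i) • bB (Sum.inl i) = _
    have hw : w (Sum.inl i) = 1 := by
      simp only [w, Sum.elim_inl, dif_neg (not_lt.2 hi)]
    rw [hw, one_smul, hbB, hb]
  have hv3 : ∀ k : ι, v (Sum.inr k) = f (b (Sum.inr k)) := by
    intro k
    show w (Sum.inr k) • bB (Sum.inr k) = _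
    have hw : w (Sum.inr k) = 1 := by simp only [w, Sum.elim_inr]
    rw [hw, one_smul, hbB]
  have hvmem : ∀ j, v j ∈ W4c6katofilta.logForms1 (fun i : Fin r => x (Fin.castLE hr i)) u := by
    intro j
    apply Submodule.subset_span
    rcases j with i | k
    · by_cases h : (i : ℕ) < r
      · right
        refine ⟨⟨i, h⟩, ?_⟩
        have h2 := hv1 ⟨i, h⟩
        have h3 : Fin.castLE hr ⟨i, h⟩ = i := Fin.ext rfl
        rw [h3] at h2
        rw [h2]
        simp only [h3]
        rfl
      · left
        exact ⟨b (Sum.inl i), by rw [hv2 i (not_lt.1 h), ← hb]⟩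
    · left
      exact ⟨b (Sum.inr k), (hv3 k).symm⟩
  have hfb : ∀ j, f (b j) ∈ Submodule.span A (Set.range v) := by
    intro j
    rcases j with i | k
    · by_cases h : (i : ℕ) < r
      · have h3 : Fin.castLE hr ⟨i, h⟩ = i := Fin.ext rfl
        have h2 := hv1 ⟨i, h⟩
        rw [h3] at h2
        have h1 : f (b (Sum.inl i)) = x i • v (Sum.inl i) := by
          rw [h2, hb, Units.smul_def, ← algebraMap_smul B (x i), smul_smul]
          have h4 : algebraMap A B (x i) = (u ⟨i, h⟩ : B) := by rw [hu, h3]
          rw [h4, ← Units.val_mul, mul_inv_cancel, Units.val_one, one_smul]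
        rw [h1]
        exact Submodule.smul_mem _ _ (Submodule.subset_span ⟨_, rfl⟩)
      · have h1 : f (b (Sum.inl i)) = v (Sum.inl i) := by rw [hv2 i (not_lt.1 h), hb]
        rw [h1]
        exact Submodule.subset_span ⟨_, rfl⟩
    · rw [← hv3 k]
      exact Submodule.subset_span ⟨_, rfl⟩
  have hrange : ∀ ω, f ω ∈ Submodule.span A (Set.range v) := by
    intro ω
    have h1 : Submodule.map f (Submodule.span A (Set.range b)) ≤
        Submodule.span A (Set.range v) := by
      rw [Submodule.map_span_le]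
      rintro _ ⟨j, rfl⟩
      exact hfb j
    rw [b.span_eq] at h1
    exact h1 (Submodule.mem_map_of_mem trivial)
  have heq : Submodule.span A (Set.range v) =
      W4c6katofilta.logForms1 (fun i : Fin r => x (Fin.castLE hr i)) u := by
    apply le_antisymm
    · rw [Submodule.span_le]
      rintro _ ⟨j, rfl⟩
      exact hvmem j
    · unfold W4c6katofilta.logForms1
      rw [Submodule.span_le]
      rintro _ (⟨ω, rfl⟩ | ⟨i, rfl⟩)
      · exact hrange ω
      · have h2 := hv1 i
        have : ((u i)⁻¹ : Bˣ) • (KaehlerDifferential.map ℤ ℤ A B)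
            (KaehlerDifferential.D ℤ A (x (Fin.castLE hr i))) = v (Sum.inl (Fin.castLE hr i)) :=
          h2.symm
        show ((u i)⁻¹ : Bˣ) • (KaehlerDifferential.map ℤ ℤ A B)
            (KaehlerDifferential.D ℤ A (x (Fin.castLE hr i))) ∈ _
        rw [this]
        exact Submodule.subset_span ⟨_, rfl⟩
  refine ⟨(Module.Basis.span hliA).map (LinearEquiv.ofEq _ _ heq), ?_, ?_, ?_⟩
  · intro i
    rw [Module.Basis.map_apply, LinearEquiv.coe_ofEq_apply, Module.Basis.span_apply]
    exact hv1 i
  · intro i hi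
    rw [Module.Basis.map_apply, LinearEquiv.coe_ofEq_apply, Module.Basis.span_apply]
    exact hv2 i hi
  · intro k
    rw [Module.Basis.map_apply, LinearEquiv.coe_ofEq_apply, Module.Basis.span_apply]
    exact hv3 k

end Groth.Agent.S19273
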