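import Groth.Statements.S19274
import Mathlib
import Groth.Agent.Lib.WittFilUFD2_helper4

set_option autoImplicit false
universe u
open WittFil

namespace Groth.Agent.S19274

/-- Let A be a unique factorisation domain of characteristic p, x a prime element of A, B = A[1/x] with
u the unit of B defined by x, m ≥ 1, and n an integer NOT divisible by p^m. For e in B and k ≥ 0
write fil_k(e) for the set of truncated p-typical Witt vectors of length k over B whose j-th
coordinate y_j satisfies y_j ^ (p ^ (k−1−j)) · e ∈ A for all j < k (the filtered piece; fil_k(u^n)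
is the piece of index n). Then fil_{m+1}(u^n) is contained in fil_{m+1}(u^(n−1)) + V(fil_m(u^n))
(the reverse inclusion is immediate): every a in fil_{m+1}(u^n) can be written a = b + V(y) with b
in fil_{m+1}(u^(n−1)) and y a Witt vector over B whose length-m truncation lies in fil_m(u^n), V(y)
being truncated to length m+1. (In the source A is a henselian discrete valuation ring, n = p^r·l >
1 with p not dividing l, and the condition reads m ≥ r + 1.) -/
theorem result (p : ℕ) [Fact p.Prime]
    {A B : Type u} [CommRing A] [IsDomain A] [UniqueFactorizationMonoid A] [CharP A p]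
    [CommRing B] [Algebra A B] (x : A) (hx : Prime x) [IsLocalization.Away x B] (u : Bˣ)
    (hu : (u : B) = algebraMap A B x) (m : ℕ) (hm : 0 < m) (n : ℤ) (hn : ¬ ((p : ℤ) ^ m ∣ n)) :
    ∀ a ∈ WittFil.fil p (m + 1) (A := A) ((u ^ n : Bˣ) : B),
      ∃ b ∈ WittFil.fil p (m + 1) (A := A) ((u ^ (n - 1) : Bˣ) : B),
        ∃ y : WittVector p B,
          WittVector.truncate m y ∈ WittFil.fil p m (A := A) ((u ^ n : Bˣ) : B) ∧
            a = b + WittVector.truncate (m + 1) (WittVector.verschiebung y) := by
  classical
  have hp : p.Prime := Fact.out
  intro a ha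
  obtain ⟨z, rfl⟩ := WittVector.truncate_surjective p (m + 1) B a
  have hdec : z = WittVector.teichmuller p (z.coeff 0) +
      WittVector.verschiebung (WittVector.mk p (fun j => z.coeff (j + 1))) := by
    calc z = WittVector.init 1 z + WittVector.tail 1 z := (WittVector.init_add_tail z 1).symm
      _ = _ := by
        congr 1
        · ext i
          cases i with
          | zero => simp [WittVector.init, WittVector.select, WittVector.coeff_mk]
          | succ i =>
            rw [WittVector.teichmuller_coeff_pos _ _ _ (Nat.succ_pos i)]
            simp [WittVector.init, WittVector.select, WittVector.coeff_mk]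
        · ext i
          cases i with
          | zero =>
            rw [WittVector.verschiebung_coeff_zero]
            simp [WittVector.tail, WittVector.select, WittVector.coeff_mk]
          | succ i =>
            rw [WittVector.verschiebung_coeff_succ]
            simp [WittVector.tail, WittVector.select, WittVector.coeff_mk]
  refine ⟨WittVector.truncate (m + 1) (WittVector.teichmuller p (z.coeff 0)), ?_,
    WittVector.mk p (fun j => z.coeff (j + 1)), ?_, ?_⟩
  · intro j
    rw [WittVector.coeff_truncate]
    rcases j with ⟨j, hj⟩
    cases j with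
    | zero =>
      have h0 := ha ⟨0, by omega⟩
      rw [WittVector.coeff_truncate] at h0
      show (WittVector.teichmuller p (z.coeff 0)).coeff 0 ^ p ^ (m + 1 - 1 - 0) * _ ∈ _
      rw [WittVector.teichmuller_coeff_zero]
      have h0' : z.coeff 0 ^ p ^ (m + 1 - 1 - 0) * ((u ^ n : Bˣ) : B) ∈ (algebraMap A B).range := h0
      have e : m + 1 - 1 - 0 = m := by omega
      rw [e] at h0' ⊢
      exact Lib.WittFilUFD2_helper4.pow_mul_zpow_pred_mem x hx u hu _ (p ^ m)
        (pow_ne_zero _ hp.ne_zero) n (by push_cast; exact hn) h0'
    | succ k =>
      show (WittVector.teichmuller p (z.coeff 0)).coeff (k + 1) ^ p ^ (m + 1 - 1 - (k + 1)) * _ ∈ _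
      rw [WittVector.teichmuller_coeff_pos _ _ _ (Nat.succ_pos k),
        zero_pow (pow_ne_zero _ hp.ne_zero), zero_mul]
      exact Subring.zero_mem _
  · intro j
    rw [WittVector.coeff_truncate]
    have hj := ha ⟨(j : ℕ) + 1, by have := j.2; omega⟩
    rw [WittVector.coeff_truncate] at hj
    have e : m + 1 - 1 - ((j : ℕ) + 1) = m - 1 - (j : ℕ) := by omega
    show z.coeff ((j : ℕ) + 1) ^ p ^ (m - 1 - (j : ℕ)) * _ ∈ _
    rw [← e]
    exact hj
  · rw [← map_add, ← hdec]

end Groth.Agent.S19274
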