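import Groth.Statements.S19276
import Mathlib
import Groth.Agent.Lib.CycQuot_helper4
import Groth.Agent.Lib.CycQuot2_helper4

set_option autoImplicit false
universe u v
open GrpAlg

namespace Groth.Agent.S19276

/-- Let `A` be a finite commutative group and `Λ` a commutative ring in which the order of `A` is
invertible. Then the ring homomorphism from the group ring `Λ[A]` to the product, over the subgroups
`B` of `A` with cyclic quotient, of the cyclotomic quotients `Λ[A ⧸ B]/(Φ_{|A/B|})`, each component
induced by `A → A/B`, is bijective. (In terms of group schemes: `Λ[A]` is the representation ring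
with coefficients in `Λ` of the finite diagonalizable group with character group `A`, the factors
are indexed by its dual cyclic subgroups, i.e. those isomorphic to some `μ_n`, and the components
are restriction followed by the cyclotomic quotient. The published statement takes `Λ = ℤ[1/|A|]`;
here `Λ` is any commutative ring in which `|A|` is invertible.) -/
theorem result (Λ : Type u) [CommRing Λ] (A : Type v)
    [AddCommGroup A] [Finite A] (hA : IsUnit ((Nat.card A : ℕ) : Λ)) :
    Function.Bijective (RingHom.pi fun B : {B : AddSubgroup A // IsAddCyclic (A ⧸ B)} =>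
      W4c6equivkfinstab.cycQuotMap Λ A B.1) := by
  classical
  haveI : Finite (AddSubgroup A) :=
    Finite.of_injective (fun B : AddSubgroup A => (B : Set A)) SetLike.coe_injective
  have hu : ∀ C : AddSubgroup A, IsUnit ((C.index : ℕ) : Λ) := by
    intro C
    obtain ⟨m, hm⟩ := AddSubgroup.index_dvd_card C
    rw [hm, Nat.cast_mul] at hA
    exact isUnit_of_mul_isUnit_left hA
  constructor
  · rw [injective_iff_map_eq_zero]
    intro x hx
    apply Groth.Agent.Lib.CycQuot2H4.eq_zero_of_forall Λ hA x
    intro B hB
    exact congrFun hx ⟨B, hB⟩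
  · intro y
    let I : {B : AddSubgroup A // IsAddCyclic (A ⧸ B)} → Ideal (AddMonoidAlgebra Λ A) :=
      fun B => RingHom.ker (W4c6equivkfinstab.cycQuotMap Λ A B.1)
    have hI : Pairwise (Function.onFun IsCoprime I) := by
      intro B B' hne
      haveI := B.2
      haveI := B'.2
      obtain ⟨s, hs1, hs0⟩ := Groth.Agent.Lib.CycQuotH4.exists_sep Λ A B.1 B'.1
        (fun h => hne (Subtype.ext h)) (hu _) (hu _)
      rw [Function.onFun, Ideal.isCoprime_iff_exists]
      refine ⟨s, hs0, 1 - s, ?_, by ring⟩
      show W4c6equivkfinstab.cycQuotMap Λ A B'.1 (1 - s) = 0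
      rw [map_sub, map_one, hs1, sub_self]
    choose x hx using fun B : {B : AddSubgroup A // IsAddCyclic (A ⧸ B)} =>
      Groth.Agent.Lib.CycQuotH4.cycQuotMap_surjective Λ A B.1 (y B)
    obtain ⟨r, hr⟩ := Ideal.exists_forall_sub_mem_ideal hI x
    refine ⟨r, funext fun B => ?_⟩
    have h1 : W4c6equivkfinstab.cycQuotMap Λ A B.1 (r - x B) = 0 := hr B
    rw [map_sub, sub_eq_zero] at h1
    show W4c6equivkfinstab.cycQuotMap Λ A B.1 r = y B
    rw [h1, hx]

end Groth.Agent.S19276
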