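import Groth.Statements.S19279
import Mathlib
import Groth.Agent.Lib.CycQuot_helper4
import Groth.Agent.Lib.CycQuot2_helper4

set_option autoImplicit false
universe u v
open GrpAlg

namespace Groth.Agent.S19279

open W4c6equivkfinstab in
theorem G2 (Λ : Type u) [CommRing Λ] (M : Type v) [AddCommGroup M] (B₀ : AddSubgroup M)
    [B₀.FiniteIndex] (hu : IsUnit ((B₀.index : ℕ) : Λ)) (x : AddMonoidAlgebra Λ M)
    (hx : ∀ B : AddSubgroup M, B₀ ≤ B → IsAddCyclic (M ⧸ B) → cycQuotMap Λ M B x = 0) :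
    quotMap Λ M B₀ x = 0 := by
  haveI : Finite (M ⧸ B₀) := inferInstance
  apply Groth.Agent.Lib.CycQuot2H4.eq_zero_of_forall Λ (A := M ⧸ B₀) hu (quotMap Λ M B₀ x)
  intro K hK
  let φ : M →+ (M ⧸ B₀) ⧸ K := (QuotientAddGroup.mk' K).comp (QuotientAddGroup.mk' B₀)
  have hφsurj : Function.Surjective φ :=
    (QuotientAddGroup.mk'_surjective K).comp (QuotientAddGroup.mk'_surjective B₀)
  let θ : M ⧸ φ.ker ≃+ (M ⧸ B₀) ⧸ K := QuotientAddGroup.quotientKerEquivOfSurjective φ hφsurj
  have hle : B₀ ≤ φ.ker := by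
    intro b hb
    rw [AddMonoidHom.mem_ker]
    show ((QuotientAddGroup.mk' K) ((QuotientAddGroup.mk' B₀) b)) = 0
    have h0 : (QuotientAddGroup.mk' B₀) b = 0 := (QuotientAddGroup.eq_zero_iff b).2 hb
    rw [h0, map_zero]
  haveI : IsAddCyclic (M ⧸ φ.ker) :=
    isAddCyclic_of_surjective θ.symm.toAddMonoidHom θ.symm.surjective
  have h1 := hx φ.ker hle inferInstance
  have h2 : quotMap Λ M φ.ker x ∈ cycIdeal Λ (M ⧸ φ.ker) := Ideal.Quotient.eq_zero_iff_mem.1 h1
  have h3 := Groth.Agent.Lib.CycQuot2H4.mapDomain_mem_cycIdeal Λ θ _ h2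
  have e1 : AddMonoidAlgebra.mapDomainRingHom Λ θ.toAddMonoidHom (quotMap Λ M φ.ker x) =
      AddMonoidAlgebra.mapDomainRingHom Λ
        (θ.toAddMonoidHom.comp (QuotientAddGroup.mk' φ.ker)) x := by
    rw [AddMonoidAlgebra.mapDomainRingHom_comp]; rfl
  have e2 : quotMap Λ (M ⧸ B₀) K (quotMap Λ M B₀ x) =
      AddMonoidAlgebra.mapDomainRingHom Λ
        ((QuotientAddGroup.mk' K).comp (QuotientAddGroup.mk' B₀)) x := by
    rw [AddMonoidAlgebra.mapDomainRingHom_comp]; rfl
  have e3 : θ.toAddMonoidHom.comp (QuotientAddGroup.mk' φ.ker) =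
      (QuotientAddGroup.mk' K).comp (QuotientAddGroup.mk' B₀) := by
    ext m; rfl
  rw [e1, e3, ← e2] at h3
  exact Ideal.Quotient.eq_zero_iff_mem.2 h3

/-- Let `M` be a commutative group, `B₀` a subgroup of finite index and `Λ` a commutative ring in which
the index of `B₀` is invertible. Then the `Λ[M]`-linear map from `Λ[M ⧸ B₀]` to the product, over
the subgroups `B ⊇ B₀` with `M ⧸ B` cyclic, of the localizations of `Λ[M ⧸ B₀]` at the
multiplicative subsets of `Λ[M]` of elements with image `1` in `Λ[M ⧸ B]/(Φ_{|M/B|})`, with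
components the localization maps, is bijective. (In terms of group schemes: for a finite closed
subgroup T' = D(M/B₀) of the diagonalizable group with character group `M`, the representation ring
of T' with coefficients in `Λ` is the product of its localizations at the dual cyclic subgroups of
T'. The published statement has a split torus and `Λ = ℤ[1/|T'|]`; here `M` is any commutative group
and `Λ` any commutative ring in which the order of T' is invertible.) -/
theorem result (Λ : Type u) [CommRing Λ]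
    (M : Type v) [AddCommGroup M] (B₀ : AddSubgroup M) [B₀.FiniteIndex]
    (hu : IsUnit ((B₀.index : ℕ) : Λ)) :
    Function.Bijective (LinearMap.pi (R := AddMonoidAlgebra Λ M)
      fun B : {B : AddSubgroup M // B₀ ≤ B ∧ IsAddCyclic (M ⧸ B)} =>
        LocalizedModule.mkLinearMap (W4c6equivkfinstab.locSubmonoid Λ M B.1)
          (AddMonoidAlgebra Λ (M ⧸ B₀))) := by
  classical
  have hsm : ∀ (r : AddMonoidAlgebra Λ M) (n : AddMonoidAlgebra Λ (M ⧸ B₀)),
      r • n = W4c6equivkfinstab.quotMap Λ M B₀ r * n := by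
    intro r n
    rw [Algebra.smul_def]
    rfl
  haveI hfinA : Finite (M ⧸ B₀) := inferInstance
  haveI hfinι : Finite {B : AddSubgroup M // B₀ ≤ B ∧ IsAddCyclic (M ⧸ B)} := by
    haveI : Finite (AddSubgroup (M ⧸ B₀)) :=
      Finite.of_injective (fun B : AddSubgroup (M ⧸ B₀) => (B : Set (M ⧸ B₀)))
        SetLike.coe_injective
    refine Finite.of_injective (fun B : {B : AddSubgroup M // B₀ ≤ B ∧ IsAddCyclic (M ⧸ B)} =>
      B.1.map (QuotientAddGroup.mk' B₀)) ?_
    intro B B' h
    apply Subtype.ext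
    have h1 : ∀ C : {B : AddSubgroup M // B₀ ≤ B ∧ IsAddCyclic (M ⧸ B)},
        (C.1.map (QuotientAddGroup.mk' B₀)).comap (QuotientAddGroup.mk' B₀) = C.1 := by
      intro C
      apply AddSubgroup.comap_map_eq_self
      rw [QuotientAddGroup.ker_mk']
      exact C.2.1
    rw [← h1 B, ← h1 B']
    exact congrArg _ h
  letI : Fintype {B : AddSubgroup M // B₀ ≤ B ∧ IsAddCyclic (M ⧸ B)} := Fintype.ofFinite _
  have hfi : ∀ B : {B : AddSubgroup M // B₀ ≤ B ∧ IsAddCyclic (M ⧸ B)}, B.1.FiniteIndex :=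
    fun B => AddSubgroup.finiteIndex_of_le B.2.1
  have huB : ∀ B : {B : AddSubgroup M // B₀ ≤ B ∧ IsAddCyclic (M ⧸ B)},
      IsUnit ((B.1.index : ℕ) : Λ) := by
    intro B
    obtain ⟨m, hm⟩ := AddSubgroup.index_dvd_of_le B.2.1
    rw [hm, Nat.cast_mul] at hu
    exact isUnit_of_mul_isUnit_left hu
  have hG2 : ∀ x : AddMonoidAlgebra Λ M,
      (∀ B : {B : AddSubgroup M // B₀ ≤ B ∧ IsAddCyclic (M ⧸ B)},
        W4c6equivkfinstab.cycQuotMap Λ M B.1 x = 0) →
      W4c6equivkfinstab.quotMap Λ M B₀ x = 0 := by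
    intro x hx
    exact G2 Λ M B₀ hu x (fun B hle hc => hx ⟨B, hle, hc⟩)
  let I : {B : AddSubgroup M // B₀ ≤ B ∧ IsAddCyclic (M ⧸ B)} → Ideal (AddMonoidAlgebra Λ M) :=
    fun B => RingHom.ker (W4c6equivkfinstab.cycQuotMap Λ M B.1)
  have hI : Pairwise (Function.onFun IsCoprime I) := by
    intro B B' hne
    haveI := B.2.2
    haveI := B'.2.2
    haveI := hfi B
    haveI := hfi B'
    obtain ⟨s, hs1, hs0⟩ := Groth.Agent.Lib.CycQuotH4.exists_sep Λ M B.1 B'.1
      (fun h => hne (Subtype.ext h)) (huB B) (huB B')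
    rw [Function.onFun, Ideal.isCoprime_iff_exists]
    refine ⟨s, hs0, 1 - s, ?_, by ring⟩
    show W4c6equivkfinstab.cycQuotMap Λ M B'.1 (1 - s) = 0
    rw [map_sub, map_one, hs1, sub_self]
  have hex : ∀ B : {B : AddSubgroup M // B₀ ≤ B ∧ IsAddCyclic (M ⧸ B)},
      ∃ r : AddMonoidAlgebra Λ M, ∀ B' : {B : AddSubgroup M // B₀ ≤ B ∧ IsAddCyclic (M ⧸ B)},
        W4c6equivkfinstab.cycQuotMap Λ M B'.1 r = if B' = B then 1 else 0 := by
    intro B
    obtain ⟨r, hr⟩ := Ideal.exists_forall_sub_mem_ideal hI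
      (fun B' => if B' = B then (1 : AddMonoidAlgebra Λ M) else 0)
    refine ⟨r, fun B' => ?_⟩
    have h1 : W4c6equivkfinstab.cycQuotMap Λ M B'.1
        (r - (if B' = B then (1 : AddMonoidAlgebra Λ M) else 0)) = 0 := hr B'
    rw [map_sub, sub_eq_zero] at h1
    rw [h1]
    split_ifs
    · exact map_one _
    · exact map_zero _
  choose e he using hex
  constructor
  · rw [injective_iff_map_eq_zero]
    intro n hn
    have h1 : ∀ B : {B : AddSubgroup M // B₀ ≤ B ∧ IsAddCyclic (M ⧸ B)},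
        ∃ r ∈ W4c6equivkfinstab.locSubmonoid Λ M B.1, r • n = 0 := by
      intro B
      have h2 : LocalizedModule.mkLinearMap (W4c6equivkfinstab.locSubmonoid Λ M B.1)
          (AddMonoidAlgebra Λ (M ⧸ B₀)) n = 0 := congrFun hn B
      exact LocalizedModule.mem_ker_mkLinearMap_iff.1 (LinearMap.mem_ker.2 h2)
    choose s hsS hsn using h1
    have h3 : ∀ T : Finset {B : AddSubgroup M // B₀ ≤ B ∧ IsAddCyclic (M ⧸ B)},
        (∏ B ∈ T, (1 - s B)) • n = n := by
      intro T
      induction T using Finset.induction_on with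
      | empty => rw [Finset.prod_empty, one_smul]
      | insert B T hB ih =>
        rw [Finset.prod_insert hB, mul_smul, ih, sub_smul, one_smul, hsn, sub_zero]
    have h4 : W4c6equivkfinstab.quotMap Λ M B₀ (∏ B ∈ Finset.univ, (1 - s B)) = 0 := by
      apply hG2
      intro B
      rw [map_prod]
      apply Finset.prod_eq_zero (Finset.mem_univ B)
      have h5 : W4c6equivkfinstab.cycQuotMap Λ M B.1 (s B) = 1 := hsS B
      rw [map_sub, map_one, h5, sub_self]
    have h5 := h3 Finset.univ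
    rw [hsm, h4, zero_mul] at h5
    exact h5.symm
  · intro ν
    have h1 : ∀ B : {B : AddSubgroup M // B₀ ≤ B ∧ IsAddCyclic (M ⧸ B)},
        ∃ p : AddMonoidAlgebra Λ (M ⧸ B₀) × W4c6equivkfinstab.locSubmonoid Λ M B.1,
          ν B = LocalizedModule.mk p.1 p.2 := by
      intro B
      exact LocalizedModule.induction_on
        (β := fun x => ∃ p : AddMonoidAlgebra Λ (M ⧸ B₀) ×
          W4c6equivkfinstab.locSubmonoid Λ M B.1, x = LocalizedModule.mk p.1 p.2)
        (fun m s => ⟨(m, s), rfl⟩) (ν B)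
    choose p hp using h1
    refine ⟨∑ B, e B • (p B).1, funext fun B => ?_⟩
    show LocalizedModule.mkLinearMap (W4c6equivkfinstab.locSubmonoid Λ M B.1)
      (AddMonoidAlgebra Λ (M ⧸ B₀)) (∑ B, e B • (p B).1) = ν B
    rw [hp B, LocalizedModule.mkLinearMap_apply, LocalizedModule.mk_eq]
    have heS : e B ∈ W4c6equivkfinstab.locSubmonoid Λ M B.1 := by
      show W4c6equivkfinstab.cycQuotMap Λ M B.1 (e B) = 1
      rw [he B B, if_pos rfl]
    refine ⟨⟨e B, heS⟩, ?_⟩
    rw [one_smul]
    simp only [Submonoid.smul_def]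
    rw [Finset.smul_sum, Finset.smul_sum]
    rw [Finset.sum_eq_single B]
    · rw [smul_smul, smul_smul, hsm, hsm]
      congr 1
      have h6 : W4c6equivkfinstab.quotMap Λ M B₀
          (e B * ((p B).2 : AddMonoidAlgebra Λ M) * e B - e B) = 0 := by
        apply hG2
        intro B''
        rw [map_sub, map_mul, map_mul, he B B'']
        by_cases h : B'' = B
        · subst h
          have h7 : W4c6equivkfinstab.cycQuotMap Λ M B''.1
              ((p B'').2 : AddMonoidAlgebra Λ M) = 1 := (p B'').2.2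
          rw [if_pos rfl, h7]; ring
        · rw [if_neg h]; ring
      rw [map_sub, sub_eq_zero] at h6
      exact h6
    · intro B' _ hne
      rw [smul_smul, smul_smul, hsm]
      have h6 : W4c6equivkfinstab.quotMap Λ M B₀
          (e B * ((p B).2 : AddMonoidAlgebra Λ M) * e B') = 0 := by
        apply hG2
        intro B''
        rw [map_mul, map_mul, he B B'', he B' B'']
        by_cases h : B'' = B
        · have h' : ¬ B'' = B' := fun h2 => hne (h2.symm.trans h)
          rw [if_neg h', mul_zero]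
        · rw [if_neg h, zero_mul, zero_mul]
      rw [h6, zero_mul]
    · intro h; exact absurd (Finset.mem_univ B) h

end Groth.Agent.S19279
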