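import Groth.Statements.S19323
import Mathlib
import Groth.Agent.S8355

set_option autoImplicit false
universe v u
open CategoryTheory CategoryTheory.Limits
open SpSeq

namespace Groth.Agent.S19323

/-- In an abelian category let E and E' be first-quadrant E₂ cohomological spectral sequences and φ : E
⟶ E' a morphism of spectral sequences such that (i) every differential of E' leaving a position
whose first coordinate is nonzero vanishes, (ii) on every page the map φ at each position followed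
by the outgoing differential of E' is zero, and (iii) φ is a monomorphism at every position of page
2. Then E degenerates at page 2. -/
theorem result
    {C : Type u} [Category.{v} C] [Abelian C]
    (E E' : E₂CohomologicalSpectralSequence C) (φ : E ⟶ E')
    (hE : ∀ pq : ℤ × ℤ, pq.1 < 0 ∨ pq.2 < 0 → IsZero ((E.page 2 le_rfl).X pq))
    (hE' : ∀ pq : ℤ × ℤ, pq.1 < 0 ∨ pq.2 < 0 → IsZero ((E'.page 2 le_rfl).X pq))
    (hd' : ∀ (r : ℤ) (hr : 2 ≤ r) (pq : ℤ × ℤ), pq.1 ≠ 0 →
      (E'.page r hr).d pq (pq + (r, 1 - r)) = 0)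
    (hφd : ∀ (r : ℤ) (hr : 2 ≤ r) (pq : ℤ × ℤ),
      (φ.hom r hr).f pq ≫ (E'.page r hr).d pq (pq + (r, 1 - r)) = 0)
    (hmono : ∀ pq : ℤ × ℤ, Mono ((φ.hom 2 le_rfl).f pq)) :
    SpSeq.Degenerates E 2 := by
  have hEz : ∀ (r : ℤ) (hr : 2 ≤ r) (pq : ℤ × ℤ), pq.1 < 0 ∨ pq.2 < 0 →
      IsZero ((E.page r hr).X pq) := by
    intro r hr pq h
    exact (Groth.Agent.S8355.result E 2 le_rfl pq (hE pq h)).1 r hr
  have hM : ∀ (r : ℤ) (hr : 2 ≤ r) (pq : ℤ × ℤ), r ≤ pq.1 → Mono ((φ.hom r hr).f pq) := by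
    intro r hr
    refine Int.le_induction (motive := fun r _ => ∀ hr : 2 ≤ r, ∀ pq : ℤ × ℤ, r ≤ pq.1 →
      Mono ((φ.hom r hr).f pq)) ?_ ?_ r hr hr
    · intro _ pq _
      exact hmono pq
    · intro r hr2 ih hr' pq hpq
      have hr : 2 ≤ r := hr2
      have hmono_r : ∀ pq' : ℤ × ℤ, r ≤ pq'.1 → Mono ((φ.hom r hr).f pq') := ih hr
      have hdE : ∀ pq1 pq2 : ℤ × ℤ, pq1 + (r, 1 - r) = pq2 → r ≤ pq2.1 →
          (E.page r hr).d pq1 pq2 = 0 := by
        intro pq1 pq2 h12 h2
        subst h12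
        have := hmono_r _ h2
        rw [← cancel_mono ((φ.hom r hr).f (pq1 + (r, 1 - r))), zero_comp, ← (φ.hom r hr).comm,
          hφd r hr pq1]
      have hdE' : ∀ pq1 pq2 : ℤ × ℤ, pq1 + (r, 1 - r) = pq2 → pq1.1 ≠ 0 →
          (E'.page r hr).d pq1 pq2 = 0 := by
        intro pq1 pq2 h12 h1
        subst h12
        exact hd' r hr pq1 h1
      have hrel1 : (ComplexShape.up' ((r, 1 - r) : ℤ × ℤ)).Rel (pq - (r, 1 - r)) pq :=
        sub_add_cancel pq _
      have hrel2 : (ComplexShape.up' ((r, 1 - r) : ℤ × ℤ)).Rel pq (pq + (r, 1 - r)) := rfl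
      have hpq1 : (pq - (r, 1 - r)).1 = pq.1 - r := rfl
      have hpq2 : (pq + (r, 1 - r)).1 = pq.1 + r := rfl
      have hf₁ : ((E.page r hr).sc pq).f = 0 := by
        show (E.page r hr).dTo pq = 0
        rw [(E.page r hr).dTo_eq hrel1, hdE _ _ (sub_add_cancel pq _) (by omega), comp_zero]
      have hg₁ : ((E.page r hr).sc pq).g = 0 := by
        show (E.page r hr).dFrom pq = 0
        rw [(E.page r hr).dFrom_eq hrel2, hdE _ _ rfl (by rw [hpq2]; omega), zero_comp]
      have hf₂ : ((E'.page r hr).sc pq).f = 0 := by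
        show (E'.page r hr).dTo pq = 0
        rw [(E'.page r hr).dTo_eq hrel1, hdE' _ _ (sub_add_cancel pq _) (by rw [hpq1]; omega),
          comp_zero]
      have hg₂ : ((E'.page r hr).sc pq).g = 0 := by
        show (E'.page r hr).dFrom pq = 0
        rw [(E'.page r hr).dFrom_eq hrel2, hdE' _ _ rfl (by omega), zero_comp]
      have hmpq : Mono ((φ.hom r hr).f pq) := hmono_r pq (by omega)
      have hHmono : Mono (HomologicalComplex.homologyMap (φ.hom r hr) pq) := by
        let γ := ShortComplex.LeftHomologyMapData.ofZeros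
          ((HomologicalComplex.shortComplexFunctor C _ pq).map (φ.hom r hr)) hf₁ hg₁ hf₂ hg₂
        have e' : HomologicalComplex.homologyMap (φ.hom r hr) pq = _ := γ.homologyMap_eq
        rw [e']
        have hγ : Mono γ.φH := hmpq
        exact mono_comp' inferInstance (mono_comp' hγ inferInstance)
      have e : (φ.hom (r + 1) hr').f pq = (E.iso r (r + 1) pq rfl hr).inv ≫
          HomologicalComplex.homologyMap (φ.hom r hr) pq ≫ (E'.iso r (r + 1) pq rfl hr).hom := by
        rw [φ.comm r (r + 1) pq rfl hr, Iso.inv_hom_id_assoc]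
      rw [e]
      infer_instance
  refine ⟨le_rfl, fun r' h₀ _ pq pq' => ?_⟩
  by_cases hrel : (ComplexShape.up' ((r', 1 - r') : ℤ × ℤ)).Rel pq pq'
  · have hrel' : pq + (r', 1 - r') = pq' := hrel
    subst hrel'
    by_cases hneg : pq.1 < 0
    · exact (hEz r' h₀ pq (Or.inl hneg)).eq_of_src _ _
    · have hpq2 : (pq + (r', 1 - r')).1 = pq.1 + r' := rfl
      have := hM r' h₀ (pq + (r', 1 - r')) (by rw [hpq2]; omega)
      rw [← cancel_mono ((φ.hom r' h₀).f (pq + (r', 1 - r'))), zero_comp, ← (φ.hom r' h₀).comm,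
        hφd r' h₀ pq]
  · exact (E.page r' h₀).shape _ _ hrel

end Groth.Agent.S19323
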