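import Groth.Statements.S19326
import Mathlib

set_option autoImplicit false
universe u
open TensorProduct
open GLin

namespace Groth.Agent.S19326

section aux
variable {k : Type u} [Field k] {M : Type u} [AddCommGroup M]

/-- coordinate projection `V ⊗ k[M] → V` -/
noncomputable def P (V : Type u) [AddCommGroup V] [Module k V] (a : M) :
    V ⊗[k] AddMonoidAlgebra k M →ₗ[k] V :=
  (TensorProduct.rid k V).toLinearMap ∘ₗ
    LinearMap.lTensor V ((AddMonoidAlgebra.basis M k).coord a)

lemma P_tmul (V : Type u) [AddCommGroup V] [Module k V] (a : M) (v : V)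
    (x : AddMonoidAlgebra k M) :
    P V a (v ⊗ₜ[k] x) = ((AddMonoidAlgebra.basis M k).coord a x) • v := by
  simp [P]

lemma coord_single [DecidableEq M] (a c : M) :
    (AddMonoidAlgebra.basis M k).coord a (AddMonoidAlgebra.single c (1:k)) =
      if c = a then 1 else 0 := by
  rw [← AddMonoidAlgebra.basis_apply, Module.Basis.coord_apply, Module.Basis.repr_self,
    Finsupp.single_apply]

lemma repr_single [DecidableEq M] (a c : M) :
    (AddMonoidAlgebra.basis M k).repr (AddMonoidAlgebra.single c (1:k)) a =
      if c = a then 1 else 0 := by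
  rw [← AddMonoidAlgebra.basis_apply, Module.Basis.repr_self, Finsupp.single_apply]

lemma decomp [Fintype M] (V : Type u) [AddCommGroup V] [Module k V]
    (t : V ⊗[k] AddMonoidAlgebra k M) :
    t = ∑ a : M, (P V a t) ⊗ₜ[k] (AddMonoidAlgebra.single a (1:k)) := by
  induction t using TensorProduct.induction_on with
  | zero => simp
  | tmul v x =>
    simp only [P_tmul]
    simp_rw [TensorProduct.smul_tmul, ← TensorProduct.tmul_sum]
    congr 1
    have := (AddMonoidAlgebra.basis M k).sum_repr x
    simp only [AddMonoidAlgebra.basis_apply] at this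
    simp only [Module.Basis.coord_apply]
    exact this.symm
  | add x y hx hy =>
    conv_lhs => rw [hx, hy]
    rw [← Finset.sum_add_distrib]
    refine Finset.sum_congr rfl fun a _ => ?_
    rw [map_add, TensorProduct.add_tmul]

lemma P_rTensor (V W : Type u) [AddCommGroup V] [Module k V] [AddCommGroup W] [Module k W]
    (φ : V →ₗ[k] W) (a : M) (t : V ⊗[k] AddMonoidAlgebra k M) :
    P W a (LinearMap.rTensor (AddMonoidAlgebra k M) φ t) = φ (P V a t) := by
  induction t using TensorProduct.induction_on with
  | zero => simp
  | tmul v x => simp [P_tmul]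
  | add x y hx hy => simp only [map_add, hx, hy]

end aux


/-- Let k be a field, M a finite abelian group and D = Spec k[M] the finite diagonalizable group scheme
it defines, acting on an affine k-scheme U = Spec R through a multiplicative coaction R → R ⊗ k[M];
write R_a for the weight space of a ∈ M (elements with coaction f ⊗ a). For an ideal J of R the
induced action of D on the closed subscheme V(J) is trivial, meaning that the coaction followed by
reduction modulo J equals f ↦ (f mod J) ⊗ 1, exactly when J contains the ideal generated by the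
weight spaces R_a for a ≠ 0; in other words that ideal defines the largest closed subscheme of U on
which D acts trivially. (The printed setting has U smooth, which plays no role here and is not
assumed; the further assertion that the construction commutes with flat base change on U/D is not
part of this statement.) -/
theorem result
    {k : Type u} [Field k] {M : Type u} [AddCommGroup M] [Finite M]
    {R : Type u} [CommRing R] [Algebra k R] [HopfRep.Comod k (AddMonoidAlgebra k M) R]
    [GLin.IsCoactAlg k (AddMonoidAlgebra k M) R] (J : Ideal R) :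
    (∀ f : R, LinearMap.rTensor (AddMonoidAlgebra k M) (Ideal.Quotient.mkₐ k J).toLinearMap
        (HopfRep.Comod.coact (k := k) (A := AddMonoidAlgebra k M) f) =
        (Ideal.Quotient.mk J f) ⊗ₜ[k] (1 : AddMonoidAlgebra k M)) ↔
      Ideal.span (⋃ (a : M) (_ : a ≠ 0),
        (HopfRep.eigenspace k (AddMonoidAlgebra k M) R (AddMonoidAlgebra.single a 1) : Set R)) ≤ J := by
  classical
  have := Fintype.ofFinite M
  set ρ : R →ₗ[k] R ⊗[k] AddMonoidAlgebra k M :=
    HopfRep.Comod.coact (k := k) (A := AddMonoidAlgebra k M) with hρ
  constructor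
  · intro h
    rw [Ideal.span_le]
    intro f hf
    simp only [Set.mem_iUnion] at hf
    obtain ⟨a, ha, hfa⟩ := hf
    have hfa' : ρ f = f ⊗ₜ[k] AddMonoidAlgebra.single a (1:k) := hfa
    have h1 := h f
    rw [hfa', LinearMap.rTensor_tmul] at h1
    have h2 := congrArg (P (R ⧸ J) a) h1
    rw [P_tmul, P_tmul, AddMonoidAlgebra.one_def, coord_single, coord_single, if_pos rfl,
      if_neg (Ne.symm ha), one_smul, zero_smul] at h2
    rw [SetLike.mem_coe, ← Ideal.Quotient.eq_zero_iff_mem]
    exact h2
  · intro hJ f
    have hmemJ : ∀ (a : M) (g : R), a ≠ 0 →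
        ρ g = g ⊗ₜ[k] AddMonoidAlgebra.single a (1:k) → g ∈ J := by
      intro a g ha hg
      apply hJ
      apply Ideal.subset_span
      simp only [Set.mem_iUnion]
      exact ⟨a, ha, hg⟩
    obtain ⟨g, hg⟩ : ∃ g : M → R, ∀ c, g c = P R c (ρ f) := ⟨_, fun _ => rfl⟩
    have hdec : ρ f = ∑ c : M, g c ⊗ₜ[k] AddMonoidAlgebra.single c (1:k) := by
      simp_rw [hg]; exact decomp R (ρ f)
    have hsum : f = ∑ c : M, g c := by
      have h1 := LinearMap.congr_fun
        (HopfRep.Comod.counit_comp (k := k) (A := AddMonoidAlgebra k M) (V := R)) f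
      simp only [LinearMap.comp_apply] at h1
      change LinearMap.lTensor R _ (ρ f) = _ at h1
      rw [hdec, map_sum] at h1
      simp only [LinearMap.lTensor_tmul, AddMonoidAlgebra.counit_single,
        CommSemiring.counit_apply, LinearMap.flip_apply, TensorProduct.mk_apply] at h1
      have h2 := congrArg (TensorProduct.rid k R) h1
      simpa using h2.symm
    have heig : ∀ a, ρ (g a) = g a ⊗ₜ[k] AddMonoidAlgebra.single a (1:k) := by
      intro a
      have h1 := LinearMap.congr_fun
        (HopfRep.Comod.coassoc (k := k) (A := AddMonoidAlgebra k M) (V := R)) f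
      simp only [LinearMap.comp_apply, LinearEquiv.coe_coe] at h1
      change TensorProduct.assoc k R _ _ (LinearMap.rTensor _ ρ (ρ f)) =
        LinearMap.lTensor R _ (ρ f) at h1
      have h2 : LinearMap.rTensor _ ρ (ρ f) = (TensorProduct.assoc k R _ _).symm
          (LinearMap.lTensor R (CoalgebraStruct.comul (R := k) (A := AddMonoidAlgebra k M))
            (ρ f)) := by
        rw [← h1, LinearEquiv.symm_apply_apply]
      have h3 := congrArg (P (R ⊗[k] AddMonoidAlgebra k M) a) h2
      rw [P_rTensor, ← hg a] at h3
      rw [h3, hdec, map_sum, map_sum, map_sum]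
      rw [Finset.sum_eq_single a]
      · simp [AddMonoidAlgebra.comul_single, CommSemiring.comul_apply, P_tmul, coord_single, repr_single]
      · intro c _ hca
        simp [AddMonoidAlgebra.comul_single, CommSemiring.comul_apply, P_tmul, coord_single, repr_single, hca]
      · intro h; exact absurd (Finset.mem_univ a) h
    have hg0 : ∀ c, c ≠ 0 → Ideal.Quotient.mk J (g c) = 0 := fun c hc =>
      Ideal.Quotient.eq_zero_iff_mem.mpr (hmemJ c (g c) hc (heig c))
    rw [hdec, map_sum]
    simp only [LinearMap.rTensor_tmul, AlgHom.toLinearMap_apply, Ideal.Quotient.mkₐ_eq_mk]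
    rw [Finset.sum_eq_single 0]
    · conv_rhs => rw [hsum, map_sum, Finset.sum_eq_single 0 (fun c _ hc => hg0 c hc)
        (fun h => absurd (Finset.mem_univ _) h)]
      rw [AddMonoidAlgebra.one_def]
    · intro c _ hc
      rw [hg0 c hc, TensorProduct.zero_tmul]
    · intro h; exact absurd (Finset.mem_univ _) h

end Groth.Agent.S19326
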