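import Groth.Statements.S19329
import Groth.Agent.Lib.Cart3_helper8

set_option autoImplicit false
universe u
open CategoryTheory CategoryTheory.Limits AlgebraicGeometry TopologicalSpace
open ModPair

namespace Groth.Agent.S19329

/-- Let (X, I), (Y, J), (Z, K) be modulus pairs, i.e. schemes with quasi-coherent ideal sheaves of
effective Cartier divisors, and let f : X ⟶ Y and g : Y ⟶ Z satisfy the modulus conditions I ≤
J.comap f and J ≤ K.comap g. Suppose the composite X ⟶ Z is minimal, I = K.comap (f ≫ g). Then f is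
minimal, and there is an open subset U of Y whose inclusion is quasi-compact, which contains the
image of f, and such that U ⟶ Z is minimal for the modulus of Y restricted to U. -/
theorem result {X Y Z : Scheme.{u}}
    (I : X.IdealSheafData) (J : Y.IdealSheafData) (K : Z.IdealSheafData)
    (hI : BlowUp.IsEffCartierIdeal I) (hJ : BlowUp.IsEffCartierIdeal J)
    (hK : BlowUp.IsEffCartierIdeal K) (f : X ⟶ Y) (g : Y ⟶ Z)
    (hf : ModPair.IsAmbient I J f) (hg : ModPair.IsAmbient J K g)
    (hfg : ModPair.IsMinimal I K (f ≫ g)) :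
    ModPair.IsMinimal I J f ∧
      ∃ U : Y.Opens, QuasiCompact U.ι ∧ Set.range f.base ⊆ (U : Set Y) ∧
        ModPair.IsMinimal (J.comap U.ι) K (U.ι ≫ g) := by
  have hf' : I ≤ J.comap f := hf
  have hg' : J ≤ K.comap g := hg
  have hfg' : I = K.comap (f ≫ g) := hfg
  have hLc : BlowUp.IsEffCartierIdeal (K.comap g) :=
    CartH8.isEffCartier_comap_of_le g K hK J hJ hg'
  have hmin : I = J.comap f := by
    apply le_antisymm hf'
    have h1 : J.comap f ≤ (K.comap g).comap f := Scheme.IdealSheafData.comap_mono _ hg'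
    rw [← Scheme.IdealSheafData.comap_comp, ← hfg'] at h1
    exact h1
  refine ⟨hmin, CartH8.agreeLocus J (K.comap g), ?_, ?_, ?_⟩
  · haveI := CartH8.isAffineHom_agreeLocus_ι J (K.comap g) hJ hLc hg'
    infer_instance
  · rintro _ ⟨x, rfl⟩
    refine CartH8.map_mem_agreeLocus J (K.comap g) hJ hLc hg' f ?_ ?_ x
    · rw [← hmin, ← Scheme.IdealSheafData.comap_comp, ← hfg']
    · rw [← hmin]
      exact hI
  · show J.comap (CartH8.agreeLocus J (K.comap g)).ι =
      K.comap ((CartH8.agreeLocus J (K.comap g)).ι ≫ g)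
    rw [Scheme.IdealSheafData.comap_comp]
    exact CartH8.comap_agreeLocus_ι J (K.comap g)

end Groth.Agent.S19329
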