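import Groth.Statements.S19330
import Groth.Agent.Lib.Cart8_helper8

set_option autoImplicit false
universe u
open CategoryTheory CategoryTheory.Limits AlgebraicGeometry TopologicalSpace
open ModPair

namespace Groth.Agent.S19330

/-- Let (S, I) be a modulus pair, i.e. a scheme with the quasi-coherent ideal sheaf of an effective
Cartier divisor, with interior U, and let g_i : V_i ⟶ U be a jointly surjective family of closed
immersions into the interior. Let V̄_i be the scheme-theoretic image of V_i ⟶ U ⟶ S. Then the closed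
immersions V̄_i ⟶ S are jointly surjective, the modulus restricted to each V̄_i is again the ideal
sheaf of an effective Cartier divisor (so that V̄_i ⟶ S is a minimal morphism of modulus pairs), and
the interior of V̄_i is V_i: the canonical morphism V_i ⟶ V̄_i is an open immersion whose image is
the preimage of U. -/
theorem result {S : Scheme.{u}} (I : S.IdealSheafData)
    (hI : BlowUp.IsEffCartierIdeal I) {ι : Type u} (V : ι → Scheme.{u})
    (g : ∀ i, V i ⟶ (ModPair.interior I : Scheme.{u})) [∀ i, IsClosedImmersion (g i)]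
    (hsurj : ∀ u : (ModPair.interior I : Scheme.{u}), ∃ (i : ι) (v : V i), (g i).base v = u) :
    (∀ s : S, ∃ (i : ι) (v : (g i ≫ (ModPair.interior I).ι).image),
        (g i ≫ (ModPair.interior I).ι).imageι.base v = s) ∧
      (∀ i, BlowUp.IsEffCartierIdeal (I.comap (g i ≫ (ModPair.interior I).ι).imageι)) ∧
      ∀ i, IsOpenImmersion (g i ≫ (ModPair.interior I).ι).toImage ∧
        Set.range (g i ≫ (ModPair.interior I).ι).toImage.base =
          (g i ≫ (ModPair.interior I).ι).imageι.base ⁻¹' (ModPair.interior I : Set S) := by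
  have hU : ∀ z : ↑S, z ∈ ModPair.interior I ↔ z ∉ I.support := fun z => Iff.rfl
  obtain ⟨haff, -⟩ := StrictClH8.cartier_compl I hI (ModPair.interior I) hU
  haveI : IsAffineHom (ModPair.interior I).ι := haff
  have hprinc : ∀ z : ↑S, ∃ U : S.affineOpens, z ∈ U.1 ∧
      ∃ d : Γ(S, U.1), I.ideal U = Ideal.span {d} := by
    intro z
    obtain ⟨U, hzU, d, -, hd⟩ := hI z
    exact ⟨U, hzU, d, hd⟩
  refine ⟨?_, ?_, ?_⟩
  · intro s
    obtain ⟨ξ, hξs, hξ⟩ := CartH8.exists_generization_notMem_support I hI s
    obtain ⟨i, v, hv⟩ := hsurj ⟨ξ, hξ⟩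
    have h1 : ξ ∈ Set.range (g i ≫ (ModPair.interior I).ι) := by
      refine ⟨v, ?_⟩
      rw [Scheme.Hom.comp_apply]
      have hv' : g i v = ⟨ξ, hξ⟩ := hv
      rw [hv']
      rfl
    have h2 : ξ ∈ (g i ≫ (ModPair.interior I).ι).ker.support :=
      (g i ≫ (ModPair.interior I).ι).range_subset_ker_support h1
    have h3 : s ∈ (g i ≫ (ModPair.interior I).ι).ker.support :=
      hξs.mem_closed (g i ≫ (ModPair.interior I).ι).ker.support.isClosed h2
    have h4 : s ∈ Set.range (g i ≫ (ModPair.interior I).ι).imageι := by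
      rw [Scheme.Hom.imageι, Scheme.IdealSheafData.range_subschemeι]
      exact h3
    obtain ⟨w, hw⟩ := h4
    exact ⟨i, w, hw⟩
  · intro i
    apply CartH8.isEffCartier_comap_imageι' (g i ≫ (ModPair.interior I).ι) I hprinc
    intro w
    rw [Scheme.Hom.comp_apply]
    exact (g i w).2
  · intro i
    exact ⟨inferInstance, CartH8.range_toImage_eq (ModPair.interior I) (g i)⟩

end Groth.Agent.S19330
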