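import Groth.Statements.S19333
import Mathlib

set_option autoImplicit false
universe u
open ModPair

namespace Groth.Agent.S19333

/-- Let A → B be any homomorphism of commutative rings. An element x of B is integral over A if and only
if for every field K, every valuation subring R of K and every ring homomorphism φ : B → K which
sends the image of A into R, the element φ(x) lies in R. In other words the integral closure of A in
B is the intersection of the subrings R ×_K B taken over all commutative squares A → R ⊆ K ← B with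
R a valuation ring of the field K. -/
theorem result {A B : Type u} [CommRing A]
    [CommRing B] [Algebra A B] (x : B) :
    x ∈ integralClosure A B ↔
      ∀ (K : Type u) [Field K] (R : ValuationSubring K) (φ : B →+* K),
        (∀ a : A, φ (algebraMap A B a) ∈ R) → φ x ∈ R := by
  classical
  constructor
  · intro hx K _ R φ hR
    obtain ⟨p, hp, hpx⟩ := hx
    obtain ⟨ψ, hψ⟩ : ∃ ψ : A →+* R, (algebraMap R K).comp ψ = φ.comp (algebraMap A B) :=
      ⟨(φ.comp (algebraMap A B)).codRestrict R.toSubring hR, by ext a; rfl⟩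
    have hint : IsIntegral R (φ x) := by
      refine ⟨p.map ψ, hp.map ψ, ?_⟩
      rw [Polynomial.eval₂_map, hψ, ← Polynomial.hom_eval₂, hpx, map_zero]
    obtain ⟨y, hy⟩ := IsIntegrallyClosed.isIntegral_iff.mp hint
    rw [← hy]; exact y.2
  · intro h
    by_contra hx
    obtain ⟨S, hS⟩ : ∃ S : Submonoid B, ∀ b, b ∈ S ↔ ∃ p : Polynomial A, p.Monic ∧ Polynomial.aeval x p = b :=
      ⟨{ carrier := {b | ∃ p : Polynomial A, p.Monic ∧ Polynomial.aeval x p = b}
         one_mem' := ⟨1, Polynomial.monic_one, by simp⟩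
         mul_mem' := by
           rintro _ _ ⟨p, hp, rfl⟩ ⟨q, hq, rfl⟩
           exact ⟨p * q, hp.mul hq, by simp⟩ }, fun b => Iff.rfl⟩
    have h0 : (0 : B) ∉ S := by
      intro h0
      obtain ⟨p, hp, hp0⟩ := (hS 0).mp h0
      exact hx ⟨p, hp, by rw [← Polynomial.aeval_def]; exact hp0⟩
    obtain ⟨𝔮, h𝔮, -, hdisj⟩ := Ideal.exists_le_prime_disjoint (⊥ : Ideal B) S (by
      rw [Set.disjoint_left]
      intro b hb hbS
      have hb0 : b = 0 := hb
      exact h0 (hb0 ▸ hbS))
    obtain ⟨φ, hφker⟩ : ∃ φ : B →+* FractionRing (B ⧸ 𝔮), ∀ b, φ b = 0 → b ∈ 𝔮 := by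
      refine ⟨(algebraMap (B ⧸ 𝔮) (FractionRing (B ⧸ 𝔮))).comp (Ideal.Quotient.mk 𝔮), ?_⟩
      intro b hb
      have h1 : algebraMap (B ⧸ 𝔮) (FractionRing (B ⧸ 𝔮)) (Ideal.Quotient.mk 𝔮 b) = 0 := hb
      have h2 := (IsFractionRing.injective (B ⧸ 𝔮) (FractionRing (B ⧸ 𝔮))) (h1.trans (map_zero _).symm)
      exact Ideal.Quotient.eq_zero_iff_mem.mp h2
    have hmem : φ x ∈ (⨅ V : {V : ValuationSubring (FractionRing (B ⧸ 𝔮)) //
        Set.range (φ.comp (algebraMap A B)) ⊆ V.toSubring}, V.1.toSubring) := by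
      rw [Subring.mem_iInf]
      rintro ⟨V, hV⟩
      exact h (FractionRing (B ⧸ 𝔮)) V φ (fun a => hV ⟨a, rfl⟩)
    rw [iInf_valuationSubring_superset] at hmem
    obtain ⟨q, hq, hqx⟩ : IsIntegral (Subring.closure (Set.range (φ.comp (algebraMap A B)))) (φ x) := hmem
    have hlift : q.map (Subring.closure (Set.range (φ.comp (algebraMap A B)))).subtype ∈
        Polynomial.lifts (φ.comp (algebraMap A B)) := by
      rw [Polynomial.lifts_iff_coeff_lifts]
      intro n
      rw [Polynomial.coeff_map]
      have hle : Subring.closure (Set.range (φ.comp (algebraMap A B))) ≤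
          (φ.comp (algebraMap A B)).range := by
        rw [Subring.closure_le]; rintro _ ⟨a, rfl⟩; exact ⟨a, rfl⟩
      obtain ⟨a, ha⟩ := hle (q.coeff n).2
      exact ⟨a, ha⟩
    obtain ⟨p, hpmap, -, hpmonic⟩ := Polynomial.lifts_and_natDegree_eq_and_monic hlift (hq.map _)
    have hb : Polynomial.aeval x p ∈ 𝔮 := by
      apply hφker
      rw [Polynomial.aeval_def, Polynomial.hom_eval₂, ← Polynomial.eval_map, hpmap, Polynomial.eval_map]
      exact hqx
    exact Set.disjoint_left.mp hdisj hb ((hS _).mpr ⟨p, hpmonic, rfl⟩)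

end Groth.Agent.S19333
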