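import Groth.Statements.S19338
import Mathlib

set_option autoImplicit false
universe w v u
open CategoryTheory
open ModPair

namespace Groth.Agent.S19338

/-- Let C be a category and S a class of morphisms which contains the identities, is closed under
composition, admits a right calculus of fractions, and consists of monomorphisms. Then the sieves
containing a morphism of S are the covering sieves of a Grothendieck topology on C, and for every
such topology J a presheaf of types F on C is a J-sheaf if and only if it is S-local, i.e. F sends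
every morphism of S to a bijection. -/
theorem result {C : Type u} [Category.{v} C]
    (S : MorphismProperty C) [S.HasRightCalculusOfFractions]
    (hmono : ∀ ⦃X Y : C⦄ (s : X ⟶ Y), S s → Mono s) :
    (∃ J : GrothendieckTopology C, ∀ (X : C) (T : Sieve X),
        T ∈ J X ↔ ∃ (Y : C) (s : Y ⟶ X), S s ∧ T s) ∧
      ∀ J : GrothendieckTopology C, (∀ (X : C) (T : Sieve X),
          T ∈ J X ↔ ∃ (Y : C) (s : Y ⟶ X), S s ∧ T s) →
        ∀ F : Cᵒᵖ ⥤ Type w,
          Presheaf.IsSheaf J F ↔ ∀ ⦃X Y : C⦄ (s : X ⟶ Y), S s → IsIso (F.map s.op) := by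
  have hJ : ∃ J : GrothendieckTopology C, ∀ (X : C) (T : Sieve X),
        T ∈ J X ↔ ∃ (Y : C) (s : Y ⟶ X), S s ∧ T s := by
    refine ⟨{ sieves := fun X => {T | ∃ (Y : C) (s : Y ⟶ X), S s ∧ T s}
              top_mem' := fun X => ⟨X, 𝟙 X, S.id_mem X, trivial⟩
              pullback_stable' := ?_
              transitive' := ?_ }, fun X T => Iff.rfl⟩
    · rintro X X' T f ⟨Y, s, hs, hTs⟩
      obtain ⟨ψ, hψ⟩ := MorphismProperty.HasRightCalculusOfFractions.exists_rightFraction (W := S)
        (MorphismProperty.LeftFraction.mk f s hs)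
      have e : ψ.s ≫ f = ψ.f ≫ s := hψ
      refine ⟨ψ.X', ψ.s, ψ.hs, ?_⟩
      show T (ψ.s ≫ f)
      rw [e]
      exact T.downward_closed hTs ψ.f
    · rintro X T ⟨Y, s, hs, hTs⟩ R hR
      obtain ⟨Z, t, ht, hRt⟩ := hR hTs
      exact ⟨Z, t ≫ s, S.comp_mem _ _ ht hs, hRt⟩
  refine ⟨hJ, fun J hJ F => ?_⟩
  rw [isSheaf_iff_isSheaf_of_type]
  constructor
  · intro hF X Y s hs
    have hm : Mono s := hmono s hs
    rw [isIso_iff_bijective]
    have hfac : ∀ ⦃Z : C⦄ (g : Z ⟶ Y), (Sieve.generate (Presieve.singleton s)) g →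
        ∃ h : Z ⟶ X, h ≫ s = g := by
      rintro Z g ⟨W, h, k, ⟨⟩, rfl⟩
      exact ⟨h, rfl⟩
    have hcov : Sieve.generate (Presieve.singleton s) ∈ J Y :=
      (hJ Y _).mpr ⟨X, s, hs, Sieve.le_generate _ _ _ (Presieve.singleton.mk)⟩
    have hsh := hF _ hcov
    constructor
    · intro a b hab
      apply hsh.isSeparatedFor.ext
      intro Z g hg
      obtain ⟨h, rfl⟩ := hfac g hg
      rw [op_comp, F.map_comp]
      show F.map h.op (F.map s.op a) = F.map h.op (F.map s.op b)
      rw [hab]
    · intro x
      let fam : Presieve.FamilyOfElements F (Sieve.generate (Presieve.singleton s)).arrows :=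
        fun Z g hg => F.map (hfac g hg).choose.op x
      have hcompat : fam.Compatible := by
        intro Y₁ Y₂ Z g₁ g₂ f₁ f₂ h₁ h₂ hcomm
        show F.map g₁.op (F.map (hfac f₁ h₁).choose.op x) = F.map g₂.op (F.map (hfac f₂ h₂).choose.op x)
        have e1 := (hfac f₁ h₁).choose_spec
        have e2 := (hfac f₂ h₂).choose_spec
        have : g₁ ≫ (hfac f₁ h₁).choose = g₂ ≫ (hfac f₂ h₂).choose := by
          rw [← cancel_mono s, Category.assoc, Category.assoc, e1, e2, hcomm]
        rw [← FunctorToTypes.map_comp_apply, ← FunctorToTypes.map_comp_apply, ← op_comp, ← op_comp, this]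
      obtain ⟨y, hy, -⟩ := hsh fam hcompat
      refine ⟨y, ?_⟩
      have hs' : (Sieve.generate (Presieve.singleton s)) s :=
        Sieve.le_generate _ _ _ (Presieve.singleton.mk)
      have := hy s hs'
      rw [this]
      show F.map (hfac s hs').choose.op x = x
      have e1 := (hfac s hs').choose_spec
      have : (hfac s hs').choose = 𝟙 X := by
        rw [← cancel_mono s, e1, Category.id_comp]
      rw [this, op_id, FunctorToTypes.map_id_apply]
  · intro hF X T hT
    obtain ⟨Y, s, hs, hTs⟩ := (hJ X T).mp hT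
    intro x hx
    have bij : Function.Bijective (F.map s.op) := (isIso_iff_bijective _).mp (hF s hs)
    obtain ⟨y, hy⟩ := bij.2 (x s hTs)
    refine ⟨y, ?_, ?_⟩
    · intro Z g hg
      obtain ⟨ψ, hψ⟩ := MorphismProperty.HasRightCalculusOfFractions.exists_rightFraction (W := S)
        (MorphismProperty.LeftFraction.mk g s hs)
      have e : ψ.s ≫ g = ψ.f ≫ s := hψ
      have bij' : Function.Bijective (F.map ψ.s.op) := (isIso_iff_bijective _).mp (hF ψ.s ψ.hs)
      apply bij'.1
      rw [← FunctorToTypes.map_comp_apply, ← op_comp, e, op_comp, FunctorToTypes.map_comp_apply, hy]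
      exact (hx ψ.s ψ.f hg hTs e).symm
    · intro y' hy'
      apply bij.1
      rw [hy, hy' s hTs]

end Groth.Agent.S19338
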