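import Groth.Statements.S19340
import Mathlib

set_option autoImplicit false
universe v v' u u'
open CategoryTheory
open ModPair

namespace Groth.Agent.S19340

/-- Let C be a category, S a class of morphisms of C containing the identities, closed under composition
and admitting a right calculus of fractions, and L : C ⥤ D a localization functor for S. Then for
every object X of C the comma category of L under X, whose objects are pairs (Y, L(X) ⟶ L(Y)) and
whose morphisms are morphisms Y ⟶ Y' of C compatible with the structure maps, is cofiltered. The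
published statement calls this category filtered; its proof verifies, and this row states,
cofilteredness. -/
theorem result {C : Type u}
    [Category.{v} C] {D : Type u'} [Category.{v'} D] (S : MorphismProperty C)
    [S.HasRightCalculusOfFractions] (L : C ⥤ D) [L.IsLocalization S] (X : C) :
    IsCofiltered (StructuredArrow (L.obj X) L) := by
  have hL : S.IsInvertedBy L := Localization.inverts L S
  have key : ∀ A : StructuredArrow (L.obj X) L, ∃ (X' : C) (s : X' ⟶ X) (_ : S s)
      (f : X' ⟶ A.right), L.map s ≫ A.hom = L.map f := by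
    intro A
    obtain ⟨φ, hφ⟩ := Localization.exists_rightFraction L S A.hom
    exact ⟨φ.X', φ.s, φ.hs, φ.f, by rw [hφ]; exact φ.map_s_comp_map L hL⟩
  have homOf : ∀ (A : StructuredArrow (L.obj X) L) (Z : C) (t : Z ⟶ X) (ht : S t)
      (g : Z ⟶ A.right), L.map t ≫ A.hom = L.map g →
      ∃ h : (StructuredArrow.mk (@inv _ _ _ _ (L.map t) (hL t ht)) :
        StructuredArrow (L.obj X) L) ⟶ A, h.right = g := by
    intro A Z t ht g hg
    have : IsIso (L.map t) := hL t ht
    refine ⟨StructuredArrow.homMk g ?_, rfl⟩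
    simp only [StructuredArrow.mk_hom_eq_self]
    rw [← hg, IsIso.inv_hom_id_assoc]
  refine { cone_objs := ?_, cone_maps := ?_, nonempty := ⟨StructuredArrow.mk (𝟙 (L.obj X))⟩ }
  · intro A B
    obtain ⟨X₁, s₁, hs₁, f₁, h₁⟩ := key A
    obtain ⟨X₂, s₂, hs₂, f₂, h₂⟩ := key B
    obtain ⟨ψ, hψ⟩ := MorphismProperty.HasRightCalculusOfFractions.exists_rightFraction (W := S)
      (MorphismProperty.LeftFraction.mk s₁ s₂ hs₂)
    have e : ψ.s ≫ s₁ = ψ.f ≫ s₂ := hψ
    have ht : S (ψ.s ≫ s₁) := S.comp_mem _ _ ψ.hs hs₁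
    obtain ⟨a, -⟩ := homOf A ψ.X' (ψ.s ≫ s₁) ht (ψ.s ≫ f₁) (by
      rw [L.map_comp, L.map_comp, Category.assoc, h₁])
    obtain ⟨b, -⟩ := homOf B ψ.X' (ψ.s ≫ s₁) ht (ψ.f ≫ f₂) (by
      rw [e, L.map_comp, L.map_comp, Category.assoc, h₂])
    exact ⟨_, a, b, trivial⟩
  · intro A B u v
    obtain ⟨X₁, s₁, hs₁, f₁, h₁⟩ := key A
    have hu : A.hom ≫ L.map u.right = B.hom := StructuredArrow.w u
    have hv : A.hom ≫ L.map v.right = B.hom := StructuredArrow.w v
    have e : L.map (f₁ ≫ u.right) = L.map (f₁ ≫ v.right) := by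
      rw [L.map_comp, L.map_comp, ← h₁, Category.assoc, Category.assoc, hu, hv]
    obtain ⟨Z, t, ht, htt⟩ := (MorphismProperty.map_eq_iff_precomp L S _ _).mp e
    have hts : S (t ≫ s₁) := S.comp_mem _ _ ht hs₁
    obtain ⟨a, ha⟩ := homOf A Z (t ≫ s₁) hts (t ≫ f₁) (by
      rw [L.map_comp, L.map_comp, Category.assoc, h₁])
    refine ⟨_, a, ?_⟩
    apply StructuredArrow.ext
    rw [StructuredArrow.comp_right, StructuredArrow.comp_right, ha, Category.assoc, Category.assoc]
    exact htt

end Groth.Agent.S19340
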