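import Groth.Statements.S19379
import Groth.Agent.Lib.FSFlat4_helper3
import Groth.Agent.Lib.SmoothRegHom_helper3
import Groth.Agent.Lib.GeomRegFS_helper3
-- import your own Groth.Agent.* helpers here

set_option autoImplicit false
universe u
open CAlg
set_option maxSynthPendingDepth 3
open TensorProduct

namespace Groth.Agent.S19379

/-- Let A and B be Noetherian rings and let B be an A-algebra which is formally smooth for the discrete
topologies. Then A → B is a regular homomorphism, that is, flat with (Noetherian) geometrically
regular fibres. -/
theorem result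
    (A B : Type u) [CommRing A] [CommRing B] [Algebra A B]
    [IsNoetherianRing A] [IsNoetherianRing B] [Algebra.FormallySmooth A B] :
    CAlg.IsRegularHom A B := by
  refine ⟨?_, fun p hp => ?_⟩
  · exact Groth.Agent.Lib.FSFlatH3.flat_of_forall_adic_localRingHom A B (fun q hq => by
      haveI : q.IsPrime := hq.isPrime
      exact Groth.Agent.Lib.FSFlatH3.adic_localRingHom_of_formallySmooth A B q)
  · haveI : IsNoetherianRing (p.Fiber B) := Groth.Agent.Lib.RegFlatH3.isNoetherianRing_fiber A B p
    refine ⟨inferInstance, ?_⟩
    intro k' _ _ hfin
    haveI := hfin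
    haveI : Algebra.FormallySmooth p.ResidueField (p.Fiber B) :=
      inferInstanceAs (Algebra.FormallySmooth p.ResidueField (p.ResidueField ⊗[A] B))
    haveI : IsNoetherianRing (k' ⊗[p.ResidueField] p.Fiber B) :=
      Groth.Agent.Lib.GeomRegFSH3.isNoetherianRing_tensor_of_finite k'
    exact Groth.Agent.Lib.SmoothRegHomH3.isRegularRing_of_formallySmooth_field k' _

end Groth.Agent.S19379
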