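import Groth.Statements.S19380
import Mathlib.LinearAlgebra.Matrix.SchurComplement

set_option autoImplicit false
universe u
open CAlg

namespace Groth.Agent.S19380

lemma charpolyRev_map {L : Type u} [CommRing L] (τ : L →+* L) {r : ℕ}
    (M : Matrix (Fin r) (Fin r) L) :
    (Matrix.charpolyRev M).map τ = Matrix.charpolyRev (M.map τ) := by
  unfold Matrix.charpolyRev
  rw [← Polynomial.coe_mapRingHom, RingHom.map_det]
  congr 1
  ext i j : 1
  by_cases h : i = j <;> simp [h, Matrix.one_apply]

lemma charpolyRev_mul_comm {L : Type u} [CommRing L] {r : ℕ} (A P : Matrix (Fin r) (Fin r) L) :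
    Matrix.charpolyRev (A * P) = Matrix.charpolyRev (P * A) := by
  unfold Matrix.charpolyRev
  rw [Matrix.map_mul, Matrix.map_mul, ← Matrix.smul_mul, ← Matrix.mul_smul]
  exact Matrix.det_one_sub_mul_comm _ _


/-- Let L be a commutative ring, σ a ring automorphism of L of finite order dividing d (σ^d = 1), and C
an r × r matrix over L. The reverse characteristic polynomial det(1 − T·N) of the twisted product N
= C·σ(C)·σ²(C)⋯σ^(d−1)(C), with σ applied to the entries, is fixed by σ acting on coefficients. (In
the source this is phrased for the fibre at a closed point x of degree d of a convergent F-module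
with Frobenius matrix C: the d-th iterate of the semilinear Frobenius of the fibre is the linear map
with matrix N, so its characteristic polynomial has coefficients in the subfield fixed by the
Frobenius of K(x), namely K, and likewise with the valuation ring in place of K for an integral
F-module; only this linear-algebra statement, over any commutative ring, is given here.) -/
theorem result
    (L : Type u) [CommRing L] (σ : L ≃+* L) (d : ℕ) (hσ : σ ^ d = 1)
    (r : ℕ) (C : Matrix (Fin r) (Fin r) L) :
    (Matrix.charpolyRev (((List.range d).map fun i => C.map ⇑(σ ^ i)).prod)).map (σ : L →+* L) =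
      Matrix.charpolyRev (((List.range d).map fun i => C.map ⇑(σ ^ i)).prod) := by
  rw [charpolyRev_map]
  set Cs : ℕ → Matrix (Fin r) (Fin r) L := fun i => C.map ⇑(σ ^ i) with hCs
  have hmapσ : ∀ i, (Cs i).map (σ : L →+* L) = Cs (i + 1) := by
    intro i
    ext a b
    simp only [hCs, Matrix.map_apply, pow_succ']
    rfl
  have hprodmap : ∀ l : List ℕ, ((l.map Cs).prod).map (σ : L →+* L)
      = (l.map (fun i => Cs (i + 1))).prod := by
    intro l
    have h := map_list_prod ((σ : L →+* L).mapMatrix) (l.map Cs)
    rw [RingHom.mapMatrix_apply] at h
    rw [h, List.map_map]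
    congr 1
    apply List.map_congr_left
    intro i _
    exact hmapσ i
  rw [hprodmap]
  cases d with
  | zero => simp
  | succ d' =>
    have h1 : ((List.range (d' + 1)).map Cs).prod
        = Cs 0 * ((List.range d').map (fun i => Cs (i + 1))).prod := by
      rw [List.range_succ_eq_map, List.map_cons, List.prod_cons, List.map_map]
      rfl
    have h2 : ((List.range (d' + 1)).map (fun i => Cs (i + 1))).prod
        = ((List.range d').map (fun i => Cs (i + 1))).prod * Cs 0 := by
      rw [List.range_succ, List.map_append, List.prod_append, List.map_singleton,
        List.prod_singleton]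
      congr 1
      simp only [hCs, hσ, pow_zero]
    rw [h1, h2]
    exact (charpolyRev_mul_comm _ _).symm

end Groth.Agent.S19380
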