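import Groth.Statements.S19383
import Mathlib

set_option autoImplicit false
universe u
open CAlg

namespace Groth.Agent.S19383

/-- Over a discrete valuation ring, let V be a henselian discrete valuation ring with maximal ideal 𝔪
and B a Noetherian V-algebra, B̂ its 𝔪B-adic completion. Then B is flat over V if and only if B̂ is
flat over V. (The published lemma takes V an excellent normal ring with an ideal I such that (V,
V/I) is a henselian pair and B of finite type; in that generality it fails: for V = ℤ_p[[x]], I =
(p) and B = V[y]/(x, py − 1) ≅ ℚ_p one has IB = B, so B̂ = 0 is flat while B is not flat over V.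
Over a discrete valuation ring flatness is torsion-freeness and the statement holds for every
Noetherian B.) -/
theorem result
    (V : Type u) [CommRing V] [IsDomain V] [IsDiscreteValuationRing V] [HenselianLocalRing V]
    (B : Type u) [CommRing B] [Algebra V B] [IsNoetherianRing B] :
    Module.Flat V B ↔
      Module.Flat V (AdicCompletion ((IsLocalRing.maximalIdeal V).map (algebraMap V B)) B) := by
  classical
  obtain ⟨I, hI⟩ : ∃ I : Ideal B, I = (IsLocalRing.maximalIdeal V).map (algebraMap V B) := ⟨_, rfl⟩
  rw [← hI]
  constructor
  · intro hflat
    have h1 : Module.Flat B (AdicCompletion I B) := inferInstance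
    exact Module.Flat.trans V B (AdicCompletion I B)
  · intro hflat
    have htf : Module.IsTorsionFree V (AdicCompletion I B) := inferInstance
    obtain ⟨π, hπ⟩ := IsDiscreteValuationRing.exists_irreducible V
    have hImem : ∀ c ∈ I, ∃ c', c = algebraMap V B π * c' := by
      intro c hc
      rw [hI, (IsDiscreteValuationRing.irreducible_iff_uniformizer π).mp hπ, Ideal.map_span,
        Set.image_singleton] at hc
      obtain ⟨c', rfl⟩ := Ideal.mem_span_singleton'.mp hc
      exact ⟨c', mul_comm _ _⟩
    have htfB : Module.IsTorsionFree V B := by
      apply Module.IsTorsionFree.of_smul_eq_zero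
      intro r b hrb
      by_cases hr : r = 0
      · left; exact hr
      right
      have h1 : r • (AdicCompletion.of I B b) = 0 := by
        apply AdicCompletion.ext
        intro n
        rw [AdicCompletion.val_smul_apply, AdicCompletion.of_apply]
        show r • Submodule.Quotient.mk b = _
        rw [← Submodule.Quotient.mk_smul, hrb, Submodule.Quotient.mk_zero]
        rfl
      have h2 : AdicCompletion.of I B b = 0 := (smul_eq_zero_iff_right hr).mp h1
      have h3 : b ∈ (⨅ i : ℕ, I ^ i • ⊤ : Submodule B B) := by
        rw [Submodule.mem_iInf]
        intro n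
        have h4 := congrArg (fun z => z.val n) h2
        simp only [AdicCompletion.of_apply] at h4
        exact (Submodule.Quotient.mk_eq_zero _).mp h4
      obtain ⟨⟨c, hc⟩, hcb⟩ := (Ideal.mem_iInf_smul_pow_eq_bot_iff I b).mp h3
      obtain ⟨c', rfl⟩ := hImem c hc
      obtain ⟨j, u, hu⟩ := IsDiscreteValuationRing.eq_unit_mul_pow_irreducible hr hπ
      have hπj : algebraMap V B π ^ j * b = 0 := by
        have h5 : algebraMap V B r * b = 0 := by rw [← Algebra.smul_def]; exact hrb
        rw [hu, map_mul, map_pow, mul_assoc] at h5
        exact ((u.isUnit.map (algebraMap V B)).mul_right_eq_zero).mp h5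
      have hcb' : (algebraMap V B π * c') * b = b := hcb
      have hiter : ∀ i : ℕ, b = (algebraMap V B π * c') ^ i * b := by
        intro i
        induction i with
        | zero => simp
        | succ i ih =>
          rw [pow_succ, mul_assoc, hcb']; exact ih
      rw [hiter j, mul_pow, mul_comm (_ ^ j) (c' ^ j), mul_assoc, hπj, mul_zero]
    infer_instance

end Groth.Agent.S19383
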