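import Groth.Statements.S19384
import Groth.Agent.Lib.Versch_helper9

set_option autoImplicit false
universe u
open Versch

open scoped TensorProduct
namespace Groth.Agent.S19384

/-- Over a field and for one finite level, let k be a field of characteristic p > 0 and G = Spec A a
finite commutative k-group scheme (A a finite-dimensional commutative cocommutative Hopf algebra)
killed by p^n, i.e. the p^n-th power map of G is the trivial homomorphism, and suppose the
Verschiebung of G is an isomorphism (the ring map v : A → A ⊗_k k^(p) characterised as the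
Verschiebung is bijective). Then G is infinitesimal, more precisely the n-th iterate of its
Frobenius is trivial: a^(p^n) = 0 for every a in the augmentation ideal. (The source states this for
the p^n-torsion levels of a p-divisible group of multiplicative type over any scheme of
characteristic p and reduces to a field fibre by fibre; it also records that the Cartier dual has
unipotent fibres, which is not stated here.) -/
theorem result
    (p : ℕ) [Fact p.Prime] (k : Type u) [Field k] [CharP k p]
    (A : Type u) [CommRing A] [HopfAlgebra k A] [Coalgebra.IsCocomm k A] [Module.Finite k A]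
    (n : ℕ)
    (hn : SGA3b.powConv k A (p ^ n) = (Algebra.ofId k A).comp (Bialgebra.counitAlgHom k A))
    (v : A →+* FrobAlg.BaseChange p k A) (hv : Versch.IsVerschiebung p k A v)
    (hbij : Function.Bijective v)
    (a : A) (ha : Coalgebra.counit (R := k) a = 0) : a ^ (p ^ n) = 0 := by
  classical
  haveI : Nontrivial A := by
    refine ⟨⟨0, 1, fun h => ?_⟩⟩
    have h1 := congrArg (Coalgebra.counit (R := k)) h
    rw [map_zero, Bialgebra.counit_one] at h1
    exact zero_ne_one h1
  haveI : CharP A p := charP_of_injective_algebraMap (algebraMap k A).injective p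
  have hφ : ∀ a, FrobAlg.relFrob p k A (v a) = SGA3b.powConv k A p a :=
    Versch9.relFrob_verschiebung_apply p k A v hv
  have hv' := (Versch.isVerschiebung_iff p k A v).mp hv
  have hrel : ∀ (b : A), FrobAlg.relFrob p k A (b ⊗ₜ[k] (1 : FrobAlg.Twist p k)) = b ^ p := by
    intro b
    simp [FrobAlg.relFrob, FrobAlg.frobHom, FrobAlg.inclHom, Algebra.TensorProduct.lift_tmul]
    rfl
  have hp0 : p ≠ 0 := (Fact.out : p.Prime).ne_zero
  have hstep : ∀ b : A, Coalgebra.counit (R := k) b = 0 →
      ∃ a' : A, Coalgebra.counit (R := k) a' = 0 ∧ b ^ p = SGA3b.powConv k A p a' := by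
    intro b hb
    obtain ⟨a', ha'⟩ := hbij.2 (b ⊗ₜ[k] (1 : FrobAlg.Twist p k))
    refine ⟨a', ?_, ?_⟩
    · have h1 := hv' a' 1
      rw [ha', Versch.evTw_tmul', one_pow] at h1
      have h2 : ((1 : CartDual.D k A) b) = Coalgebra.counit (R := k) b := by
        simp [CartDual.coe_apply]
      have h3 : ((1 : CartDual.D k A) a') = Coalgebra.counit (R := k) a' := by
        simp [CartDual.coe_apply]
      rw [h2, h3, hb, zero_pow hp0, map_zero, zero_mul] at h1
      exact (map_eq_zero_iff _ (FrobAlg.toTwist p k).injective).mp h1.symm
    · rw [← hφ, ha', hrel]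
  have hclaim : ∀ m : ℕ, ∀ b : A, Coalgebra.counit (R := k) b = 0 →
      ∃ a' : A, Coalgebra.counit (R := k) a' = 0 ∧ b ^ (p ^ m) = SGA3b.powConv k A (p ^ m) a' := by
    intro m
    induction m with
    | zero =>
      intro b hb
      refine ⟨b, hb, ?_⟩
      rw [pow_zero, pow_one, Versch9.powConv_one]
      rfl
    | succ m ih =>
      intro b hb
      obtain ⟨a1, ha1, h1⟩ := ih b hb
      obtain ⟨a2, ha2, h2⟩ := hstep a1 ha1
      refine ⟨a2, ha2, ?_⟩
      rw [pow_succ, pow_mul, h1, ← map_pow, h2, ← Versch9.powConv_comp]
      rfl
  obtain ⟨a', ha', h⟩ := hclaim n a ha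
  rw [h, hn]
  show algebraMap k A (Coalgebra.counit (R := k) a') = 0
  rw [ha', map_zero]

end Groth.Agent.S19384
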