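import Groth.Statements.S1939
import Groth.Agent.Lib.CycBC1_helper8

set_option autoImplicit false
universe u
open CategoryTheory AlgebraicGeometry
open CategoryTheory.Limits
open Cyc

namespace Groth.Agent.S1939

/-- Let (S, δS) and (S', δS') be two pairs satisfying Cyc.IsSetup, g : S' → S flat with δS'(s') = δS(g
s') + c for every s' generic in an irreducible component of its fibre g⁻¹(g s'), a : X → S locally
of finite type with X integral of δ-dimension k (δX induced from δS), and X' = X ×_S S' with δX'
induced from δS'. Then every generic point x' of an irreducible component of X' has δX'(x') = k + c.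
A pair (X, δ) with Cyc.IsSetup plays the role of a scheme locally of finite type over a fixed base
with a dimension function (X locally Noetherian with universally catenary local rings, δ a dimension
function), and Cyc.DeltaCompat records that the dimension function upstairs is the induced one. -/
theorem result (S S' X : Scheme.{u}) (δS : S → ℤ) (δS' : S' → ℤ) (hS : Cyc.IsSetup S δS) (hS' : Cyc.IsSetup S' δS') (g : S' ⟶ S) [Flat g] (c : ℤ) (hc : ∀ s' : S', (∀ y, g y = g s' → y ⤳ s' → y = s') → δS' s' = δS (g s') + c) (a : X ⟶ S) [LocallyOfFiniteType a] [IsIntegral X] (δX : X → ℤ) (hX : Cyc.DeltaCompat a δX δS) (δX' : ↥(pullback a g) → ℤ) (hX' : Cyc.DeltaCompat (pullback.snd a g) δX' δS') (k : ℤ) (hk : δX (genericPoint X) = k) (x' : ↥(pullback a g)) (hx' : ∀ y : ↥(pullback a g), y ⤳ x' → y = x') : δX' x' = k + c := by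
  obtain ⟨h1, h2, h3⟩ := CycBCH8.maximal_point_baseChange g a x' hx'
  obtain ⟨n', hn', hδ'⟩ := hX' x'
  obtain ⟨n, hn, hδ⟩ := hX (pullback.fst a g x')
  have hcs := hc _ h2
  have hnn : (n' : Cardinal.{u}) = n := by
    have e1 : Dual3.resTrdeg (pullback.snd a g) x' = n' := hn'
    have e2 : Dual3.resTrdeg a (pullback.fst a g x') = n := hn
    rw [← e1, ← e2]; exact h3
  have hnn' : n' = n := by exact_mod_cast hnn
  have hcond : a (pullback.fst a g x') = g (pullback.snd a g x') := by
    have := congrArg (fun h : pullback a g ⟶ S => h x') (pullback.condition (f := a) (g := g))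
    simpa only [Scheme.Hom.comp_apply] using this
  rw [hδ', hcs, ← hk, ← h1, hδ, hcond, hnn']
  ring

end Groth.Agent.S1939
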