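import Groth.Statements.S19392
import Mathlib

set_option autoImplicit false
universe u
open InvQ

namespace Groth.Agent.S19392

/-- Over a field of characteristic different from 2 and 3, a nonzero binary quartic f has P(f) = Q(f) =
0 for the two basic invariants P, Q if and only if f has a triple zero. Stated for f = ∏_i (μ_i X₀ −
λ_i X₁) given by four root points (λ_i, μ_i) ≠ (0, 0) (over an algebraically closed field every
nonzero quartic form is of this shape), with the integral invariants I = 6P and J = 72Q of the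
coefficients of f; a triple zero means that three of the four root points are pairwise proportional. -/
theorem result (k : Type u) [Field k]
    (h2 : (2 : k) ≠ 0) (h3 : (3 : k) ≠ 0) (la mu : Fin 4 → k) (hne : ∀ i, la i ≠ 0 ∨ mu i ≠ 0) :
    (W4c6intromoduli.invI (W4c6intromoduli.coef la mu) = 0 ∧
        W4c6intromoduli.invJ (W4c6intromoduli.coef la mu) = 0) ↔
      ∃ i j l : Fin 4, i ≠ j ∧ j ≠ l ∧ i ≠ l ∧
        la i * mu j = la j * mu i ∧ la j * mu l = la l * mu j := by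
  have hroot : W4c6intromoduli.rootPoly la mu =
      Polynomial.C (mu 0 * mu 1 * mu 2 * mu 3)
      + Polynomial.C (-(la 0 * mu 1 * mu 2 * mu 3 + mu 0 * la 1 * mu 2 * mu 3
          + mu 0 * mu 1 * la 2 * mu 3 + mu 0 * mu 1 * mu 2 * la 3)) * Polynomial.X
      + Polynomial.C (la 0 * la 1 * mu 2 * mu 3 + la 0 * mu 1 * la 2 * mu 3
          + la 0 * mu 1 * mu 2 * la 3 + mu 0 * la 1 * la 2 * mu 3 + mu 0 * la 1 * mu 2 * la 3
          + mu 0 * mu 1 * la 2 * la 3) * Polynomial.X ^ 2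
      + Polynomial.C (-(la 0 * la 1 * la 2 * mu 3 + la 0 * la 1 * mu 2 * la 3
          + la 0 * mu 1 * la 2 * la 3 + mu 0 * la 1 * la 2 * la 3)) * Polynomial.X ^ 3
      + Polynomial.C (la 0 * la 1 * la 2 * la 3) * Polynomial.X ^ 4 := by
    unfold W4c6intromoduli.rootPoly
    rw [Fin.prod_univ_four]
    simp only [map_add, map_mul, map_neg]
    ring
  have hcoef0 : ∀ a0 a1 a2 a3 a4 : k, (Polynomial.C a0 + Polynomial.C a1 * Polynomial.X
      + Polynomial.C a2 * Polynomial.X ^ 2 + Polynomial.C a3 * Polynomial.X ^ 3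
      + Polynomial.C a4 * Polynomial.X ^ 4).coeff 0 = a0 := by
    intros; simp [Polynomial.coeff_X, Polynomial.coeff_X_pow, Polynomial.coeff_C]
  have hcoef1 : ∀ a0 a1 a2 a3 a4 : k, (Polynomial.C a0 + Polynomial.C a1 * Polynomial.X
      + Polynomial.C a2 * Polynomial.X ^ 2 + Polynomial.C a3 * Polynomial.X ^ 3
      + Polynomial.C a4 * Polynomial.X ^ 4).coeff 1 = a1 := by
    intros; simp [Polynomial.coeff_X, Polynomial.coeff_X_pow, Polynomial.coeff_C]
  have hcoef2 : ∀ a0 a1 a2 a3 a4 : k, (Polynomial.C a0 + Polynomial.C a1 * Polynomial.X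
      + Polynomial.C a2 * Polynomial.X ^ 2 + Polynomial.C a3 * Polynomial.X ^ 3
      + Polynomial.C a4 * Polynomial.X ^ 4).coeff 2 = a2 := by
    intros; simp [Polynomial.coeff_X, Polynomial.coeff_X_pow, Polynomial.coeff_C]
  have hcoef3 : ∀ a0 a1 a2 a3 a4 : k, (Polynomial.C a0 + Polynomial.C a1 * Polynomial.X
      + Polynomial.C a2 * Polynomial.X ^ 2 + Polynomial.C a3 * Polynomial.X ^ 3
      + Polynomial.C a4 * Polynomial.X ^ 4).coeff 3 = a3 := by
    intros; simp [Polynomial.coeff_X, Polynomial.coeff_X_pow, Polynomial.coeff_C]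
  have hcoef4 : ∀ a0 a1 a2 a3 a4 : k, (Polynomial.C a0 + Polynomial.C a1 * Polynomial.X
      + Polynomial.C a2 * Polynomial.X ^ 2 + Polynomial.C a3 * Polynomial.X ^ 3
      + Polynomial.C a4 * Polynomial.X ^ 4).coeff 4 = a4 := by
    intros; simp [Polynomial.coeff_X, Polynomial.coeff_X_pow, Polynomial.coeff_C]
  have hc0 : W4c6intromoduli.coef la mu 0 = mu 0 * mu 1 * mu 2 * mu 3 := by
    unfold W4c6intromoduli.coef
    rw [hroot]
    exact hcoef0 _ _ _ _ _
  have hc1 : W4c6intromoduli.coef la mu 1 = -(la 0 * mu 1 * mu 2 * mu 3 + mu 0 * la 1 * mu 2 * mu 3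
          + mu 0 * mu 1 * la 2 * mu 3 + mu 0 * mu 1 * mu 2 * la 3) := by
    unfold W4c6intromoduli.coef
    rw [hroot]
    exact hcoef1 _ _ _ _ _
  have hc2 : W4c6intromoduli.coef la mu 2 = la 0 * la 1 * mu 2 * mu 3 + la 0 * mu 1 * la 2 * mu 3
          + la 0 * mu 1 * mu 2 * la 3 + mu 0 * la 1 * la 2 * mu 3 + mu 0 * la 1 * mu 2 * la 3
          + mu 0 * mu 1 * la 2 * la 3 := by
    unfold W4c6intromoduli.coef
    rw [hroot]
    exact hcoef2 _ _ _ _ _
  have hc3 : W4c6intromoduli.coef la mu 3 = -(la 0 * la 1 * la 2 * mu 3 + la 0 * la 1 * mu 2 * la 3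
          + la 0 * mu 1 * la 2 * la 3 + mu 0 * la 1 * la 2 * la 3) := by
    unfold W4c6intromoduli.coef
    rw [hroot]
    exact hcoef3 _ _ _ _ _
  have hc4 : W4c6intromoduli.coef la mu 4 = la 0 * la 1 * la 2 * la 3 := by
    unfold W4c6intromoduli.coef
    rw [hroot]
    exact hcoef4 _ _ _ _ _
  have hsum : ((la 0 * mu 1 - la 1 * mu 0) * (la 2 * mu 3 - la 3 * mu 2)) + ((la 0 * mu 2 - la 2 * mu 0) * (la 3 * mu 1 - la 1 * mu 3)) + ((la 0 * mu 3 - la 3 * mu 0) * (la 1 * mu 2 - la 2 * mu 1)) = 0 := by ring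
  have hI : 2 * W4c6intromoduli.invI (W4c6intromoduli.coef la mu) =
      ((la 0 * mu 1 - la 1 * mu 0) * (la 2 * mu 3 - la 3 * mu 2)) ^ 2 + ((la 0 * mu 2 - la 2 * mu 0) * (la 3 * mu 1 - la 1 * mu 3)) ^ 2 + ((la 0 * mu 3 - la 3 * mu 0) * (la 1 * mu 2 - la 2 * mu 1)) ^ 2 := by
    unfold W4c6intromoduli.invI
    rw [hc0, hc1, hc2, hc3, hc4]
    ring
  have hJ : W4c6intromoduli.invJ (W4c6intromoduli.coef la mu) =
      (((la 0 * mu 1 - la 1 * mu 0) * (la 2 * mu 3 - la 3 * mu 2)) - ((la 0 * mu 2 - la 2 * mu 0) * (la 3 * mu 1 - la 1 * mu 3))) * (((la 0 * mu 2 - la 2 * mu 0) * (la 3 * mu 1 - la 1 * mu 3)) - ((la 0 * mu 3 - la 3 * mu 0) * (la 1 * mu 2 - la 2 * mu 1))) * (((la 0 * mu 3 - la 3 * mu 0) * (la 1 * mu 2 - la 2 * mu 1)) - ((la 0 * mu 1 - la 1 * mu 0) * (la 2 * mu 3 - la 3 * mu 2))) := by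
    unfold W4c6intromoduli.invJ
    rw [hc0, hc1, hc2, hc3, hc4]
    ring
  have h6 : (6 : k) ≠ 0 := by
    have h : (6 : k) = 2 * 3 := by norm_num
    rw [h]; exact mul_ne_zero h2 h3
  have hlem : ∀ x y z : k, x + y + z = 0 → x ^ 2 + y ^ 2 + z ^ 2 = 0 → x = y →
      x = 0 ∧ y = 0 ∧ z = 0 := by
    intro x y z h1 h2' h3'
    subst h3'
    have hz : z = -2 * x := by linear_combination h1
    have h6x : 6 * x ^ 2 = 0 := by rw [hz] at h2'; linear_combination h2'
    have hx : x = 0 := by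
      rcases mul_eq_zero.mp h6x with h | h
      · exact absurd h h6
      · exact (pow_eq_zero_iff (by norm_num)).mp h
    exact ⟨hx, hx, by rw [hz, hx]; ring⟩
  generalize hAdef : ((la 0 * mu 1 - la 1 * mu 0) * (la 2 * mu 3 - la 3 * mu 2)) = PA at hsum hI hJ
  generalize hBdef : ((la 0 * mu 2 - la 2 * mu 0) * (la 3 * mu 1 - la 1 * mu 3)) = PB at hsum hI hJ
  generalize hCdef : ((la 0 * mu 3 - la 3 * mu 0) * (la 1 * mu 2 - la 2 * mu 1)) = PC at hsum hI hJ
  constructor
  · rintro ⟨hI0, hJ0⟩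
    have hsq : PA ^ 2 + PB ^ 2 + PC ^ 2 = 0 := by rw [← hI, hI0, mul_zero]
    have hprod : (PA - PB) * (PB - PC) * (PC - PA) = 0 := by rw [← hJ, hJ0]
    have hAB : PA = 0 ∧ PB = 0 := by
      rcases mul_eq_zero.mp hprod with h | h
      · rcases mul_eq_zero.mp h with h | h
        · have := hlem PA PB PC hsum hsq (sub_eq_zero.mp h)
          exact ⟨this.1, this.2.1⟩
        · have := hlem PB PC PA (by linear_combination hsum) (by linear_combination hsq)
            (sub_eq_zero.mp h)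
          exact ⟨this.2.2, this.1⟩
      · have := hlem PC PA PB (by linear_combination hsum) (by linear_combination hsq)
          (sub_eq_zero.mp h)
        exact ⟨this.2.1, this.2.2⟩
    obtain ⟨hA, hB⟩ := hAB
    rw [← hAdef] at hA
    rw [← hBdef] at hB
    rcases mul_eq_zero.mp hA with h01 | h23 <;> rcases mul_eq_zero.mp hB with h02 | h31
    · exact ⟨1, 0, 2, by decide, by decide, by decide, by linear_combination -h01,
        by linear_combination h02⟩
    · exact ⟨0, 1, 3, by decide, by decide, by decide, by linear_combination h01,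
        by linear_combination -h31⟩
    · exact ⟨3, 2, 0, by decide, by decide, by decide, by linear_combination -h23,
        by linear_combination -h02⟩
    · exact ⟨2, 3, 1, by decide, by decide, by decide, by linear_combination h23,
        by linear_combination h31⟩
  · rintro ⟨i, j, l, hij, hjl, hil, e1, e2⟩
    have e3 : la i * mu l = la l * mu i := by
      rcases hne j with h | h
      · apply mul_left_cancel₀ h
        linear_combination (la i) * e2 + (la l) * e1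
      · apply mul_left_cancel₀ h
        linear_combination (mu l) * e1 + (mu i) * e2
    have hS : ∀ p q : Fin 4, (p = i ∨ p = j ∨ p = l) → (q = i ∨ q = j ∨ q = l) →
        la p * mu q - la q * mu p = 0 := by
      rintro p q (rfl | rfl | rfl) (rfl | rfl | rfl)
      all_goals first | ring1 | linear_combination e1 | linear_combination -e1 |
        linear_combination e2 | linear_combination -e2 | linear_combination e3 |
        linear_combination -e3
    have hcomb : ∀ i j l : Fin 4, i ≠ j → j ≠ l → i ≠ l →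
        ((((0 : Fin 4) = i ∨ (0 : Fin 4) = j ∨ (0 : Fin 4) = l) ∧ ((1 : Fin 4) = i ∨ (1 : Fin 4) = j ∨ (1 : Fin 4) = l)) ∨ (((2 : Fin 4) = i ∨ (2 : Fin 4) = j ∨ (2 : Fin 4) = l) ∧ ((3 : Fin 4) = i ∨ (3 : Fin 4) = j ∨ (3 : Fin 4) = l))) ∧
        ((((0 : Fin 4) = i ∨ (0 : Fin 4) = j ∨ (0 : Fin 4) = l) ∧ ((2 : Fin 4) = i ∨ (2 : Fin 4) = j ∨ (2 : Fin 4) = l)) ∨ (((3 : Fin 4) = i ∨ (3 : Fin 4) = j ∨ (3 : Fin 4) = l) ∧ ((1 : Fin 4) = i ∨ (1 : Fin 4) = j ∨ (1 : Fin 4) = l))) ∧
        ((((0 : Fin 4) = i ∨ (0 : Fin 4) = j ∨ (0 : Fin 4) = l) ∧ ((3 : Fin 4) = i ∨ (3 : Fin 4) = j ∨ (3 : Fin 4) = l)) ∨ (((1 : Fin 4) = i ∨ (1 : Fin 4) = j ∨ (1 : Fin 4) = l) ∧ ((2 : Fin 4) = i ∨ (2 : Fin 4) = j ∨ (2 : Fin 4) = l))) := by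
      intro i j l hij hjl hil
      fin_cases i <;> fin_cases j <;> fin_cases l <;> revert hij hjl hil <;> decide
    obtain ⟨cA, cB, cC⟩ := hcomb i j l hij hjl hil
    have hA : PA = 0 := by
      rw [← hAdef]
      rcases cA with ⟨h1, h2'⟩ | ⟨h1, h2'⟩
      · rw [hS 0 1 h1 h2', zero_mul]
      · rw [hS 2 3 h1 h2', mul_zero]
    have hB : PB = 0 := by
      rw [← hBdef]
      rcases cB with ⟨h1, h2'⟩ | ⟨h1, h2'⟩
      · rw [hS 0 2 h1 h2', zero_mul]
      · rw [hS 3 1 h1 h2', mul_zero]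
    have hC : PC = 0 := by
      rw [← hCdef]
      rcases cC with ⟨h1, h2'⟩ | ⟨h1, h2'⟩
      · rw [hS 0 3 h1 h2', zero_mul]
      · rw [hS 1 2 h1 h2', mul_zero]
    rw [hA, hB, hC] at hI hJ
    refine ⟨?_, ?_⟩
    · have h0 : 2 * W4c6intromoduli.invI (W4c6intromoduli.coef la mu) = 0 := by
        rw [hI]; ring
      rcases mul_eq_zero.mp h0 with h | h
      · exact absurd h h2
      · exact h
    · rw [hJ]; ring

end Groth.Agent.S19392
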