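import Groth.Statements.S19398
import Groth.Agent.Lib.InvRey_helper9

set_option autoImplicit false
universe u
open GIT

open Groth.Agent.Lib.LinRed_helper9 Groth.Agent.Lib.Integral_helper9 Groth.Agent.Lib.InvRey_helper9 Groth.Agent.Lib.Comod_helper9
open TensorProduct
namespace Groth.Agent.S19398

/-- For a reductive group G (here: every finite-dimensional representation completely reducible, i.e.
linearly reductive) acting linearly on vector spaces V and V′ of any dimension, with Reynolds
operators E and E′ (the projections onto the invariants along the unique invariant complement),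
every G-linear map u : V → V′ satisfies E′ ∘ u = u ∘ E. Stated for comodules over a commutative Hopf
algebra A whose finite-dimensional comodules are semisimple; a Reynolds operator is a comodule
endomorphism that is idempotent and fixes exactly the invariant vectors (such an operator is the
projection onto the invariants along an invariant complement, which is unique). -/
theorem result (k : Type u) [Field k] (A : Type u) [CommRing A] [HopfAlgebra k A]
    (hG : HopfRep.IsLinearlyReductive k A)
    (V W : Type u) [AddCommGroup V] [Module k V] [HopfRep.Comod k A V]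
    [AddCommGroup W] [Module k W] [HopfRep.Comod k A W]
    (E : V →ₗ[k] V) (hE₁ : Hoch.IsComodHom A E) (hE₂ : E ∘ₗ E = E)
    (hE₃ : ∀ x : V, E x = x ↔ x ∈ HopfRep.fixedPts k A V)
    (E' : W →ₗ[k] W) (hE'₁ : Hoch.IsComodHom A E') (hE'₂ : E' ∘ₗ E' = E')
    (hE'₃ : ∀ y : W, E' y = y ↔ y ∈ HopfRep.fixedPts k A W)
    (u : V →ₗ[k] W) (hu : Hoch.IsComodHom A u) :
    E' ∘ₗ u = u ∘ₗ E := by
  obtain ⟨β, hβ, h1⟩ := exists_leftIntegral k A hG
  apply LinearMap.ext
  intro x
  rw [LinearMap.comp_apply, LinearMap.comp_apply]
  have hEfix : ∀ v, E v ∈ HopfRep.fixedPts k A V :=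
    fun v => (hE₃ (E v)).mp (LinearMap.congr_fun hE₂ v)
  have hE'fix : ∀ w, E' w ∈ HopfRep.fixedPts k A W :=
    fun w => (hE'₃ (E' w)).mp (LinearMap.congr_fun hE'₂ w)
  have hufix : ∀ v ∈ HopfRep.fixedPts k A V, u v ∈ HopfRep.fixedPts k A W := by
    intro v hv
    have hv' : HopfRep.Comod.coact (k := k) (A := A) v = v ⊗ₜ[k] (1 : A) := hv
    show HopfRep.Comod.coact (k := k) (A := A) (u v) = u v ⊗ₜ[k] (1 : A)
    rw [isComodHom_apply hu, hv', LinearMap.rTensor_tmul]
  have h1' : E' (u (E x)) = u (E x) := (hE'₃ _).mpr (hufix _ (hEfix x))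
  have h2 : E' (u (x - E x)) = 0 := by
    have hEy : E (x - E x) = 0 := by
      rw [map_sub, show E (E x) = E x from LinearMap.congr_fun hE₂ x, sub_self]
    have hRy : rey k A β V (x - E x) = 0 := by
      have a1 : E (rey k A β V (x - E x)) = rey k A β V (E (x - E x)) :=
        rey_natural k A β V E hE₁ (x - E x)
      have a2 : E (rey k A β V (x - E x)) = rey k A β V (x - E x) :=
        (hE₃ _).mpr (rey_mem_fixedPts k A β V hβ (x - E x))
      rw [← a2, a1, hEy, map_zero]
    have hw : E' (u (x - E x)) = rey k A β W (E' (u (x - E x))) :=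
      (rey_of_mem_fixedPts k A β W h1 _ (hE'fix _)).symm
    rw [hw, ← rey_natural k A β W E' hE'₁, ← rey_natural k A β V u hu, hRy, map_zero, map_zero]
  have hx : E x + (x - E x) = x := by abel
  calc E' (u x) = E' (u (E x + (x - E x))) := by rw [hx]
    _ = E' (u (E x)) + E' (u (x - E x)) := by rw [map_add, map_add]
    _ = u (E x) := by rw [h1', h2, add_zero]

end Groth.Agent.S19398
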