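import Groth.Statements.S19402
import Groth.Agent.Lib.GalFree4_helper6
import Groth.Agent.Lib.GalFree5_helper6
import Groth.Agent.Lib.EakinNagata_helper6

set_option autoImplicit false
universe u v w
open scoped Pointwise
open GLin

namespace Groth.Agent.S19402

/-- Let k be an algebraically closed field of characteristic zero, R a finitely generated commutative
k-algebra which is an integrally closed domain (a normal irreducible affine variety X), and G a
finite group acting faithfully on R by k-algebra automorphisms. Let B be a commutative k-algebra
with an injective algebra map B → R, compatible with the k-structures and G-invariant, whose image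
is exactly the subring of G-invariants (so Spec R → Spec B is the quotient morphism X → X/G). Then
for a maximal ideal m of R (a closed point x of X), R is étale over B at m (the local ring R_m is
formally étale over B) if and only if the stabilizer of m in G is trivial. -/
theorem result (k : Type u) [Field k] [IsAlgClosed k] [CharZero k]
    (R : Type v) [CommRing R] [IsDomain R] [IsIntegrallyClosed R] [Algebra k R] [Algebra.FiniteType k R]
    (G : Type w) [Group G] [Finite G] [MulSemiringAction G R] [FaithfulSMul G R] [SMulCommClass G k R]
    (B : Type v) [CommRing B] [Algebra k B] [Algebra B R] [IsScalarTower k B R] [FaithfulSMul B R]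
    [SMulCommClass G B R] [Algebra.IsInvariant B R G]
    (m : Ideal R) [m.IsMaximal] :
    Algebra.IsEtaleAt B m ↔ MulAction.stabilizer G m = ⊥ := by
  have hinj := FaithfulSMul.algebraMap_injective B R
  haveI : IsNoetherianRing R := Algebra.FiniteType.isNoetherianRing k R
  constructor
  · intro het
    haveI : Algebra.FormallyEtale B (Localization.AtPrime m) := het
    rw [Subgroup.eq_bot_iff_forall]
    intro g hg
    have hgm : g • m = m := MulAction.mem_stabilizer_iff.mp hg
    refine Groth.Agent.Lib.GalFreeH6.eq_one_of_formallyUnramified (B := B) m g hgm ?_
    intro r
    obtain ⟨c, hc⟩ := Groth.Agent.Lib.GalFreeH6.exists_sub_mem_of_isAlgClosed k R m r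
    have h1 : g • (r - algebraMap k R c) ∈ m := by
      rw [← hgm]
      exact Ideal.smul_mem_pointwise_smul g _ m hc
    have h2 : g • r - r = g • (r - algebraMap k R c) - (r - algebraMap k R c) := by
      rw [smul_sub, smul_algebraMap]; ring
    rw [h2]
    exact sub_mem h1 hc
  · intro hstab
    haveI : Algebra.FiniteType B R := Algebra.FiniteType.of_restrictScalars_finiteType k B R
    haveI : Algebra.IsIntegral B R := Algebra.IsInvariant.isIntegral B R G
    haveI : Module.Finite B R := Algebra.IsIntegral.finite
    haveI : IsNoetherianRing B :=
      Groth.Agent.Lib.EakinNagataH6.isNoetherianRing_of_finite B R hinj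
    haveI : Algebra.FinitePresentation B R := Algebra.FinitePresentation.of_finiteType.mp inferInstance
    refine Groth.Agent.Lib.GalFreeH6.formallyEtale_atPrime (B := B) (G := G) m ?_
    intro g hg
    have : g ∈ MulAction.stabilizer G m := MulAction.mem_stabilizer_iff.mpr hg
    rw [hstab] at this
    exact Subgroup.mem_bot.mp this

end Groth.Agent.S19402
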