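import Groth.Statements.S19427
import Mathlib
import Groth.Agent.Lib.MilK_helper4

set_option autoImplicit false
universe u
open MilnorK

namespace Groth.Agent.S19427

open Groth.Agent.Lib.MilKH4 MilK in
theorem aux (F : Type u) [Field F] (b c : Fˣ) (h : (b : F) + (c : F) ≠ 0) :
    (symbol ![b, c] : K F 2) + symbol ![Units.mk0 ((b : F) + (c : F)) h, -(b / c)] = 0 := by
  set s : Fˣ := Units.mk0 ((b : F) + (c : F)) h with hs
  have hst : (symbol ![b * s⁻¹, c * s⁻¹] : K F 2) = 0 := by
    apply sym2_steinberg
    show (b : F) * ((s⁻¹ : Fˣ) : F) + (c : F) * ((s⁻¹ : Fˣ) : F) = 1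
    rw [← add_mul, Units.val_inv_eq_inv_val]
    exact mul_inv_cancel₀ h
  simp only [sym2_mul_left, sym2_mul_right, sym2_inv_left, sym2_inv_right, neg_neg] at hst
  have e : -(b / c) = (-1) * b * c⁻¹ := by
    rw [div_eq_mul_inv, neg_one_mul, neg_mul]
  simp only [e, sym2_mul_right, sym2_inv_right]
  rw [← sym2_self, sym2_swap b s]
  refine Eq.trans ?_ hst
  abel

/-- For a field F and nonzero b, c with b + c ≠ 0, in the Milnor K-group K_2(F) one has {b, c} + {b + c,
-b/c} = 0, that is {b, c} = -{b + c, -b/c} = {b + c, -c/b}. (The identity as displayed in the source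
is {b, c} = {b + c, -b/c}, which differs from this by a sign and fails in general: for b = 3, c = 5
over the rationals the tame symbol at 5 takes the values 3 and 1/3 on the two sides; the
accompanying derivation from the Steinberg relation b/(b+c) + c/(b+c) = 1 gives exactly the identity
stated here.) -/
theorem result (F : Type u) [Field F] (b c : Fˣ)
    (h : (b : F) + (c : F) ≠ 0) :
    (MilK.symbol ![b, c] : MilK.K F 2) + MilK.symbol ![Units.mk0 ((b : F) + (c : F)) h, -(b / c)] = 0 := by
  exact aux F b c h

end Groth.Agent.S19427
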