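import Groth.Statements.S19436
import Mathlib

set_option autoImplicit false
universe u
open CAlg

namespace Groth.Agent.S19436

/-- For a Noetherian local commutative algebra R over a field k, with maximal ideal M, and an ideal I of
R whose quotient R/I is finite-dimensional over k of dimension n, the power M^n lies in I. -/
theorem result (k : Type u) [Field k] (R : Type u) [CommRing R]
    [Algebra k R] [IsNoetherianRing R] [IsLocalRing R] (I : Ideal R) [Module.Finite k (R ⧸ I)] (n : ℕ)
    (hn : Module.finrank k (R ⧸ I) = n) : IsLocalRing.maximalIdeal R ^ n ≤ I := by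
  classical
  have hJle : ∀ i : ℕ, (IsLocalRing.maximalIdeal R ^ (i + 1)).map (Ideal.Quotient.mk I)
      ≤ (IsLocalRing.maximalIdeal R ^ i).map (Ideal.Quotient.mk I) :=
    fun i => Ideal.map_mono (Ideal.pow_le_pow_right (Nat.le_succ i))
  have hbot : ∀ i : ℕ, (IsLocalRing.maximalIdeal R ^ i).map (Ideal.Quotient.mk I) = ⊥ ↔
      IsLocalRing.maximalIdeal R ^ i ≤ I := by
    intro i
    rw [Ideal.map_eq_bot_iff_le_ker, Ideal.mk_ker]
  have hstep : ∀ i : ℕ, (IsLocalRing.maximalIdeal R ^ i).map (Ideal.Quotient.mk I)
      ≤ (IsLocalRing.maximalIdeal R ^ (i + 1)).map (Ideal.Quotient.mk I) →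
      (IsLocalRing.maximalIdeal R ^ i).map (Ideal.Quotient.mk I) = ⊥ := by
    intro i hle
    have h1 : IsLocalRing.maximalIdeal R ^ i
        ≤ I ⊔ IsLocalRing.maximalIdeal R • IsLocalRing.maximalIdeal R ^ i := by
      calc IsLocalRing.maximalIdeal R ^ i
          ≤ Ideal.comap (Ideal.Quotient.mk I)
              ((IsLocalRing.maximalIdeal R ^ i).map (Ideal.Quotient.mk I)) := Ideal.le_comap_map
        _ ≤ Ideal.comap (Ideal.Quotient.mk I)
              ((IsLocalRing.maximalIdeal R ^ (i + 1)).map (Ideal.Quotient.mk I)) :=
            Ideal.comap_mono hle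
        _ = IsLocalRing.maximalIdeal R ^ (i + 1) ⊔ I := by
            rw [Ideal.comap_map_of_surjective _ Ideal.Quotient.mk_surjective,
              ← RingHom.ker_eq_comap_bot, Ideal.mk_ker]
        _ = I ⊔ IsLocalRing.maximalIdeal R • IsLocalRing.maximalIdeal R ^ i := by
            rw [sup_comm, smul_eq_mul, ← pow_succ']
    have h2 : IsLocalRing.maximalIdeal R ^ i ≤ I :=
      Submodule.le_of_le_smul_of_le_jacobson_bot (IsNoetherian.noetherian _)
        (by rw [IsLocalRing.jacobson_eq_maximalIdeal ⊥ bot_ne_top]) h1
    exact (hbot i).mpr h2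
  have hP : ∀ i : ℕ, (IsLocalRing.maximalIdeal R ^ i).map (Ideal.Quotient.mk I) = ⊥ ∨
      Module.finrank k (((IsLocalRing.maximalIdeal R ^ i).map
        (Ideal.Quotient.mk I)).restrictScalars k) + i ≤ n := by
    intro i
    induction i with
    | zero =>
      right
      rw [pow_zero, Ideal.one_eq_top, Ideal.map_top, Submodule.restrictScalars_top, finrank_top, hn,
        add_zero]
    | succ i ih =>
      rcases ih with h0 | hfr
      · left
        exact le_bot_iff.mp (h0 ▸ hJle i)
      · by_cases heq : (IsLocalRing.maximalIdeal R ^ (i + 1)).map (Ideal.Quotient.mk I)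
            = (IsLocalRing.maximalIdeal R ^ i).map (Ideal.Quotient.mk I)
        · left
          rw [heq]
          exact hstep i heq.ge
        · right
          have hlt := lt_of_le_of_ne (hJle i) heq
          have hlt' : ((IsLocalRing.maximalIdeal R ^ (i + 1)).map
              (Ideal.Quotient.mk I)).restrictScalars k
              < ((IsLocalRing.maximalIdeal R ^ i).map (Ideal.Quotient.mk I)).restrictScalars k := by
            rw [SetLike.lt_iff_le_and_exists] at hlt ⊢
            exact hlt
          have h3 := Submodule.finrank_lt_finrank_of_lt hlt'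
          omega
  rcases hP n with h0 | hfr
  · exact (hbot n).mp h0
  · have h0 : Module.finrank k (((IsLocalRing.maximalIdeal R ^ n).map
        (Ideal.Quotient.mk I)).restrictScalars k) = 0 := by omega
    rw [Submodule.finrank_eq_zero] at h0
    apply (hbot n).mp
    rw [eq_bot_iff]
    intro x hx
    have hx' : x ∈ ((IsLocalRing.maximalIdeal R ^ n).map
        (Ideal.Quotient.mk I)).restrictScalars k := hx
    rw [h0] at hx'
    exact hx'

end Groth.Agent.S19436
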