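import Groth.Statements.S19438
import Mathlib

set_option autoImplicit false
universe u
open CAlg

namespace Groth.Agent.S19438

/-- First assertion: let A be a Noetherian local commutative algebra over a field k with maximal ideal
M, residue field k (the map from k to A/M is onto) and embedding dimension dim M/M^2 at least 2, and
let I be a proper ideal with A/I finite-dimensional over k. If A/I is generated as a k-algebra by
one element, then some element of I does not lie in M^2; that is, the finite closed subscheme
defined by I lies on a smooth hypersurface germ (it is curvilinear). (The published statement is for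
the local ring of a smooth surface at a closed point; only a Noetherian local algebra with residue
field k and embedding dimension at least 2 is assumed here, which is what the published argument
uses.) -/
theorem result (k : Type u) [Field k]
    (A : Type u) [CommRing A] [Algebra k A] [IsNoetherianRing A] [IsLocalRing A]
    (hres : Function.Surjective (algebraMap k (IsLocalRing.ResidueField A)))
    (hemb : 2 ≤ Module.finrank (IsLocalRing.ResidueField A) (IsLocalRing.CotangentSpace A))
    (I : Ideal A) (hI : I ≠ ⊤) [Module.Finite k (A ⧸ I)]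
    (f : A ⧸ I) (hf : Algebra.adjoin k {f} = ⊤) :
    ∃ g ∈ I, g ∉ IsLocalRing.maximalIdeal A ^ 2 := by
  by_contra hcon
  push_neg at hcon
  set m := IsLocalRing.maximalIdeal A with hm
  have hIm : I ≤ m ^ 2 := fun g hg => hcon g hg
  obtain ⟨a, rfl⟩ := Ideal.Quotient.mk_surjective f
  obtain ⟨c, hc⟩ := hres (IsLocalRing.residue A a)
  have hc' : IsLocalRing.residue A (algebraMap k A c) = IsLocalRing.residue A a := by
    rw [← hc]; rfl
  set μ := a - algebraMap k A c with hμ
  have hμm : μ ∈ m := by
    rw [hm, ← IsLocalRing.residue_eq_zero_iff, hμ, map_sub, hc', sub_self]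
  have hsm : ∀ r : k, r • μ ∈ m := by
    intro r
    rw [Algebra.smul_def]
    exact Ideal.mul_mem_left _ _ hμm
  have key : ∀ x ∈ m, ∃ r : k, x - r • μ ∈ m ^ 2 := by
    intro x hx
    have hxmem : (Ideal.Quotient.mk I x) ∈ Algebra.adjoin k {Ideal.Quotient.mk I a} := by
      rw [hf]; trivial
    rw [Algebra.adjoin_singleton_eq_range_aeval] at hxmem
    obtain ⟨p, hp⟩ := hxmem
    have hp' : Polynomial.aeval (Ideal.Quotient.mk I a) p = Ideal.Quotient.mk I x := hp
    have h1 : x - Polynomial.aeval a p ∈ I := by
      rw [← Ideal.Quotient.eq, ← hp']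
      exact Polynomial.aeval_algHom_apply (Ideal.Quotient.mkₐ k I) a p
    have h2 : x - Polynomial.aeval a p ∈ m ^ 2 := hIm h1
    let q := Ideal.Quotient.mkₐ k (m ^ 2)
    have hμ2 : (q μ) ^ 2 = 0 := by
      rw [← map_pow]
      exact Ideal.Quotient.eq_zero_iff_mem.2 (Ideal.pow_mem_pow hμm 2)
    have ha : q a = algebraMap k (A ⧸ m ^ 2) c + q μ := by
      rw [hμ, map_sub, AlgHom.commutes]; ring
    have h3 : q (Polynomial.aeval a p) = algebraMap k (A ⧸ m ^ 2) (p.eval c) +
        algebraMap k (A ⧸ m ^ 2) (p.derivative.eval c) * q μ := by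
      rw [← Polynomial.aeval_algHom_apply, ha, Polynomial.aeval_add_of_sq_eq_zero _ _ _ hμ2,
        Polynomial.aeval_algebraMap_apply_eq_algebraMap_eval,
        Polynomial.aeval_algebraMap_apply_eq_algebraMap_eval]
    have h4 : x - (algebraMap k A (p.eval c) + p.derivative.eval c • μ) ∈ m ^ 2 := by
      rw [← Ideal.Quotient.eq_zero_iff_mem]
      have hxq : q x = q (Polynomial.aeval a p) := Ideal.Quotient.eq.2 h2
      show q (x - (algebraMap k A (p.eval c) + p.derivative.eval c • μ)) = 0
      rw [map_sub, map_add, hxq, h3, AlgHom.commutes, map_smul, Algebra.smul_def]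
      ring
    have h5 : p.eval c = 0 := by
      by_contra hne
      have hu : IsUnit (algebraMap k A (p.eval c)) := (IsUnit.mk0 _ hne).map (algebraMap k A)
      have hmem : algebraMap k A (p.eval c) ∈ m := by
        have h6 : x - (algebraMap k A (p.eval c) + p.derivative.eval c • μ) ∈ m :=
          Ideal.pow_le_self two_ne_zero h4
        have h7 := m.sub_mem hx h6
        have h8 := m.sub_mem h7 (hsm (p.derivative.eval c))
        have e : x - (x - (algebraMap k A (p.eval c) + p.derivative.eval c • μ)) -
            p.derivative.eval c • μ = algebraMap k A (p.eval c) := by ring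
        rw [e] at h8
        exact h8
      exact (IsLocalRing.mem_maximalIdeal _).1 hmem hu
    refine ⟨p.derivative.eval c, ?_⟩
    rw [h5, map_zero, zero_add] at h4
    exact h4
  have hle : Module.finrank (IsLocalRing.ResidueField A) (IsLocalRing.CotangentSpace A) ≤ 1 := by
    apply finrank_le_one (m.toCotangent ⟨μ, hμm⟩)
    intro w
    obtain ⟨⟨x, hx⟩, rfl⟩ := Ideal.toCotangent_surjective m w
    obtain ⟨r, hr⟩ := key x hx
    refine ⟨algebraMap A (IsLocalRing.ResidueField A) (algebraMap k A r), ?_⟩
    rw [IsScalarTower.algebraMap_smul, ← map_smul, Ideal.toCotangent_eq]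
    show (algebraMap k A r) • μ - x ∈ m ^ 2
    rw [smul_eq_mul, ← Algebra.smul_def]
    have := (m ^ 2).neg_mem hr
    rwa [neg_sub] at this
  omega

end Groth.Agent.S19438
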