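import Groth.Statements.S19439
import Mathlib

set_option autoImplicit false
universe u
open CAlg

namespace Groth.Agent.S19439

theorem aux (k : Type u) [Field k] (N : ℕ) (I : Ideal (MvPolynomial (Fin N) k))
    [Module.Finite k (MvPolynomial (Fin N) k ⧸ I)] (n : ℕ)
    (hn : Module.finrank k (MvPolynomial (Fin N) k ⧸ I) = n) :
    Submodule.map (Ideal.Quotient.mkₐ k I).toLinearMap
      (MvPolynomial.restrictTotalDegree (Fin N) k n) = ⊤ := by
  classical
  set π : MvPolynomial (Fin N) k →ₗ[k] (MvPolynomial (Fin N) k ⧸ I) :=
    (Ideal.Quotient.mkₐ k I).toLinearMap with hπ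
  have hπmul : ∀ p q, π (p * q) = π p * π q := fun p q => map_mul (Ideal.Quotient.mkₐ k I) p q
  let V : ℕ → Submodule k (MvPolynomial (Fin N) k ⧸ I) :=
    fun j => Submodule.map π (MvPolynomial.restrictTotalDegree (Fin N) k j)
  have hmemV : ∀ j (p : MvPolynomial (Fin N) k), p.totalDegree ≤ j → π p ∈ V j := by
    intro j p hp
    exact Submodule.mem_map_of_mem ((MvPolynomial.mem_restrictTotalDegree _ _ _).2 hp)
  have hVmem : ∀ j y, y ∈ V j → ∃ p : MvPolynomial (Fin N) k, p.totalDegree ≤ j ∧ π p = y := by
    intro j y hy
    obtain ⟨p, hp, rfl⟩ := hy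
    exact ⟨p, (MvPolynomial.mem_restrictTotalDegree _ _ _).1 hp, rfl⟩
  have hmono : Monotone V := by
    intro a b hab y hy
    obtain ⟨p, hp, rfl⟩ := hVmem a y hy
    exact hmemV b p (hp.trans hab)
  -- some step stalls
  have hex : ∃ j, j ≤ n ∧ V j = V (j + 1) := by
    by_contra hno
    push_neg at hno
    have hfr : ∀ j, j ≤ n + 1 → j ≤ Module.finrank k (V j) := by
      intro j
      induction j with
      | zero => intro _; exact Nat.zero_le _
      | succ j ih =>
        intro hj
        have hj' : j ≤ n := Nat.le_of_succ_le_succ hj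
        have hlt : V j < V (j + 1) := lt_of_le_of_ne (hmono (Nat.le_succ j)) (hno j hj')
        have := Submodule.finrank_lt_finrank_of_lt hlt
        have := ih (hj'.trans (Nat.le_succ n))
        omega
    have h1 := hfr (n + 1) le_rfl
    have h2 := Submodule.finrank_le (V (n + 1))
    omega
  obtain ⟨j, hjn, hj⟩ := hex
  have hall : ∀ p : MvPolynomial (Fin N) k, π p ∈ V j := by
    intro p
    induction p using MvPolynomial.induction_on with
    | C a => exact hmemV j _ (by rw [MvPolynomial.totalDegree_C]; exact Nat.zero_le _)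
    | add p q hp hq => rw [map_add]; exact Submodule.add_mem _ hp hq
    | mul_X p i hp =>
      obtain ⟨q, hq, hqp⟩ := hVmem j _ hp
      rw [hπmul, ← hqp, ← hπmul, hj]
      apply hmemV
      refine (MvPolynomial.totalDegree_mul _ _).trans ?_
      rw [MvPolynomial.totalDegree_X]
      omega
  rw [eq_top_iff]
  intro y _
  obtain ⟨p, rfl⟩ := Ideal.Quotient.mk_surjective y
  exact hmono hjn (hall p)

/-- Affine form: for all n and N there is an integer d, that depends only on n and N, such that for
every algebraically closed field k and every ideal I of the polynomial ring in N variables over k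
whose quotient has finite dimension n over k, the polynomials of total degree at most d map onto the
quotient. -/
theorem result (n N : ℕ) :
    ∃ d : ℕ, ∀ (k : Type u) [Field k] [IsAlgClosed k] (I : Ideal (MvPolynomial (Fin N) k))
      [Module.Finite k (MvPolynomial (Fin N) k ⧸ I)],
      Module.finrank k (MvPolynomial (Fin N) k ⧸ I) = n →
      Submodule.map (Ideal.Quotient.mkₐ k I).toLinearMap (MvPolynomial.restrictTotalDegree (Fin N) k d) = ⊤ := by
  refine ⟨n, ?_⟩
  intro k _ _ I _ hn
  exact aux k N I n hn

end Groth.Agent.S19439
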