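import Groth.Statements.S19443

set_option autoImplicit false
universe u
open LinAlg

namespace Groth.Agent.S19443

/-- Algebraic form: let G be a finite group with order invertible in the field k, ρ a linear
representation of G on a k-vector space V, and ω a nondegenerate bilinear form on V invariant under
G. Then ω restricted to the fixed subspace V^G is nondegenerate (for a finite group of symplectic
automorphisms, the fixed subspace is a symplectic subspace). -/
theorem result (k : Type u) [Field k]
    (G : Type u) [Group G] [Finite G] (hG : (Nat.card G : k) ≠ 0)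
    (V : Type u) [AddCommGroup V] [Module k V] (ρ : Representation k G V)
    (ω : LinearMap.BilinForm k V) (hω : ω.Nondegenerate)
    (hinv : ∀ (g : G) (v w : V), ω (ρ g v) (ρ g w) = ω v w) :
    (ω.restrict ρ.invariants).Nondegenerate := by
  classical
  haveI : Fintype G := Fintype.ofFinite G
  have hcard : (Fintype.card G : k) ≠ 0 := by rwa [Nat.card_eq_fintype_card] at hG
  set c : k := (Fintype.card G : k)⁻¹ with hc
  let P : V → V := fun u => c • ∑ g : G, ρ g u
  have hPinv : ∀ u, P u ∈ ρ.invariants := by
    intro u h
    show ρ h (c • ∑ g : G, ρ g u) = c • ∑ g : G, ρ g u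
    rw [map_smul, map_sum]
    congr 1
    refine Fintype.sum_equiv (Equiv.mulLeft h) _ _ (fun g => ?_)
    simp only [Equiv.coe_mulLeft, map_mul, Module.End.mul_apply]
  have hleft : ∀ v ∈ ρ.invariants, ∀ u, ω v (P u) = ω v u := by
    intro v hv u
    show ω v (c • ∑ g : G, ρ g u) = ω v u
    rw [map_smul, map_sum, smul_eq_mul]
    have h1 : ∀ g : G, ω v (ρ g u) = ω v u := by
      intro g
      have h2 := hinv g v u
      rw [hv g] at h2
      exact h2
    rw [Finset.sum_congr rfl (fun g _ => h1 g), Finset.sum_const, Finset.card_univ,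
      nsmul_eq_mul, hc, ← mul_assoc, inv_mul_cancel₀ hcard, one_mul]
  have hright : ∀ v ∈ ρ.invariants, ∀ u, ω (P u) v = ω u v := by
    intro v hv u
    show ω (c • ∑ g : G, ρ g u) v = ω u v
    rw [map_smul, map_sum, LinearMap.smul_apply, LinearMap.sum_apply, smul_eq_mul]
    have h1 : ∀ g : G, ω (ρ g u) v = ω u v := by
      intro g
      have h2 := hinv g u v
      rw [hv g] at h2
      exact h2
    rw [Finset.sum_congr rfl (fun g _ => h1 g), Finset.sum_const, Finset.card_univ,
      nsmul_eq_mul, hc, ← mul_assoc, inv_mul_cancel₀ hcard, one_mul]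
  refine ⟨?_, ?_⟩
  · intro x hx
    have h0 : (x : V) = 0 := hω.1 x (fun u => by
      rw [← hleft x x.2 u]
      exact hx ⟨P u, hPinv u⟩)
    exact Subtype.ext h0
  · intro y hy
    have h0 : (y : V) = 0 := hω.2 y (fun u => by
      rw [← hright y y.2 u]
      exact hy ⟨P u, hPinv u⟩)
    exact Subtype.ext h0

end Groth.Agent.S19443
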