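import Groth.Statements.S19461
import Mathlib
import Groth.Agent.Lib.CompletionRegular_helper5
import Groth.Agent.Lib.LocalCrit2_helper9

set_option autoImplicit false
universe u
open CAlg

namespace Groth.Agent.S19461

/-- The implication from isomorphic completions to flat and unramified. Let A → B be a local
homomorphism of Noetherian local rings and ψ a ring map from the completion of A at its maximal
ideal to that of B whose composite with A → A^ is A → B → B^. If ψ is bijective, then A → B is flat
and the maximal ideal of A generates the maximal ideal of B. (The published statement is the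
implication, for a morphism of algebraic varieties over an algebraically closed field, from
isomorphic induced maps of completed local rings at every point to flat and unramified; its proof is
this local-ring argument, valid for any Noetherian local rings. The converse implication is a
separate result.) -/
theorem result (A B : Type u) [CommRing A]
    [CommRing B] [IsLocalRing A] [IsLocalRing B] [IsNoetherianRing A] [IsNoetherianRing B]
    [Algebra A B] [IsLocalHom (algebraMap A B)]
    (ψ : AdicCompletion (IsLocalRing.maximalIdeal A) A →+* AdicCompletion (IsLocalRing.maximalIdeal B) B)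
    (hψ : ψ.comp (algebraMap A (AdicCompletion (IsLocalRing.maximalIdeal A) A)) =
      (algebraMap B (AdicCompletion (IsLocalRing.maximalIdeal B) B)).comp (algebraMap A B))
    (hbij : Function.Bijective ψ) :
    Module.Flat A B ∧
      Ideal.map (algebraMap A B) (IsLocalRing.maximalIdeal A) = IsLocalRing.maximalIdeal B := by

  classical
  have hA : IsLocalRing.maximalIdeal A ≠ ⊤ := Ideal.IsPrime.ne_top'
  have hB : IsLocalRing.maximalIdeal B ≠ ⊤ := Ideal.IsPrime.ne_top'
  haveI := Groth.Agent.RegularLib.isLocalRing_adicCompletion A _ hA
  haveI := Groth.Agent.RegularLib.isLocalRing_adicCompletion B _ hB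
  haveI := Groth.Agent.RegularLib.isLocalHom_adicCompletion A _ hA
  haveI := Groth.Agent.RegularLib.isLocalHom_adicCompletion B _ hB
  haveI : Module.FaithfullyFlat A (AdicCompletion (IsLocalRing.maximalIdeal A) A) :=
    Module.FaithfullyFlat.of_flat_of_isLocalHom
  haveI : Module.FaithfullyFlat B (AdicCompletion (IsLocalRing.maximalIdeal B) B) :=
    Module.FaithfullyFlat.of_flat_of_isLocalHom
  have hsmul : ∀ (a : A) (y : AdicCompletion (IsLocalRing.maximalIdeal B) B),
      a • y = algebraMap B (AdicCompletion (IsLocalRing.maximalIdeal B) B) (algebraMap A B a) * y := by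
    intro a y
    rw [Algebra.smul_def]
    rfl
  let e : AdicCompletion (IsLocalRing.maximalIdeal A) A ≃ₗ[A]
      AdicCompletion (IsLocalRing.maximalIdeal B) B :=
    { toFun := ψ
      map_add' := map_add ψ
      map_smul' := fun a x => by
        rw [RingHom.id_apply, hsmul, Algebra.smul_def, map_mul]
        congr 1
        exact RingHom.congr_fun hψ a
      invFun := (RingEquiv.ofBijective ψ hbij).symm
      left_inv := (RingEquiv.ofBijective ψ hbij).symm_apply_apply
      right_inv := (RingEquiv.ofBijective ψ hbij).apply_symm_apply }
  haveI : Module.Flat A (AdicCompletion (IsLocalRing.maximalIdeal B) B) :=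
    Module.Flat.of_linearEquiv e.symm
  refine ⟨Groth.Agent.Lib.LocalCrit2.flat_of_faithfullyFlat_of_flat (A := A) (B := B)
    (M := AdicCompletion (IsLocalRing.maximalIdeal B) B), ?_⟩
  apply Ideal.map_injective_of_faithfullyFlat (A := B)
    (B := AdicCompletion (IsLocalRing.maximalIdeal B) B)
  rw [Ideal.map_map, ← hψ, ← Ideal.map_map,
    Groth.Agent.RegularLib.map_maximalIdeal_adicCompletion A _ hA,
    Groth.Agent.RegularLib.map_maximalIdeal_adicCompletion B _ hB]
  exact IsLocalRing.map_ringEquiv_maximalIdeal (RingEquiv.ofBijective ψ hbij)

end Groth.Agent.S19461
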