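import Groth.Statements.S19473
import Groth.Agent.Lib.GrpShear_helper7

set_option autoImplicit false
universe u
open CategoryTheory CategoryTheory.Limits MonoidalCategory CartesianMonoidalCategory MonObj GrpObj AlgebraicGeometry
open AlgGrp

namespace Groth.Agent.S19473

/-- Let S be a scheme and G an S-group scheme whose structure morphism G → S is locally of finite type.
Then G → S is unramified — formally unramified, since it is locally of finite type — if and only if
the identity section S → G is an open immersion. (The separated and quasi-separated clauses of the
published item are separate results.) -/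
theorem result (S : Scheme.{u})
    (G : Over S) [GrpObj G] [LocallyOfFiniteType G.hom] :
    FormallyUnramified G.hom ↔ IsOpenImmersion η[G].left := by
  have sq := (Groth.Agent.Lib.GrpShearH7.isPullback_diag_unit G).map (Over.forget S)
  have sq' : IsPullback G.hom (pullback.diagonal G.hom) η[G].left
      (((fst G G)⁻¹ * snd G G : G ⊗ G ⟶ G)).left := sq
  constructor
  · intro h
    haveI := h
    haveI hpost : MorphismProperty.HasOfPostcompProperty @IsOpenImmersion
        (@LocallyOfFiniteType ⊓ @FormallyUnramified) := by
      rw [MorphismProperty.hasOfPostcompProperty_iff_le_diagonal]
      intro X Y f ⟨hft, hfu⟩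
      exact inferInstanceAs <| IsOpenImmersion (pullback.diagonal f)
    have h1 : IsOpenImmersion (η[G].left ≫ G.hom) := by
      rw [Over.w η[G]]
      show IsOpenImmersion (𝟙 S)
      infer_instance
    exact MorphismProperty.of_postcomp (W := @IsOpenImmersion)
      (W' := @LocallyOfFiniteType ⊓ @FormallyUnramified) η[G].left G.hom
      ⟨inferInstance, h⟩ h1
  · intro h
    haveI : IsOpenImmersion (pullback.diagonal G.hom) :=
      MorphismProperty.of_isPullback (P := @IsOpenImmersion) sq' h
    infer_instance

end Groth.Agent.S19473
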