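import Groth.Statements.S19479
import Groth.Agent.Lib.Cosemisimple_helper9

set_option autoImplicit false
universe u v w
open HopfRep
open Groth.Agent.Lib.Comod_helper9 Groth.Agent.Lib.ComodDual_helper9 Groth.Agent.Lib.Cosemisimple_helper9

namespace Groth.Agent.S19479

open TensorProduct in
/-- Let K be a field, C a K-coalgebra and V a right C-comodule. The following are equivalent: (i) V is
the internal direct sum of a family of simple subcomodules, i.e. there is an independent family of
subcomodules W_i with sum V, each W_i nonzero and having no subcomodules inside it other than 0 and
W_i; (ii) every subcomodule of V has a complementary subcomodule. A subcomodule is a subspace W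
whose coaction lands in the image of W ⊗ C. (The source states this for left comodules; a left
comodule over C is a right comodule over the co-opposite coalgebra, so the statement is the same.) -/
theorem result {K : Type u} {C : Type v} [Field K]
    [AddCommGroup C] [Module K C] [Coalgebra K C] (V : Type w) [AddCommGroup V] [Module K V] [HopfRep.Comod K C V] :
    (∃ (ι : Type w) (W : ι → Submodule K V), iSupIndep W ∧ iSup W = ⊤ ∧ ∀ i,
        HopfRep.IsSubcomod (k := K) (A := C) (W i) ∧ W i ≠ ⊥ ∧
          ∀ W' : Submodule K V, HopfRep.IsSubcomod (k := K) (A := C) W' → W' ≤ W i → W' = ⊥ ∨ W' = W i) ↔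
      HopfRep.IsSemisimpleComod K C V := by
  classical
  letI mV := dualModule (inferInstance : HopfRep.Comod K C V)
  haveI := isScalarTower_dual (inferInstance : HopfRep.Comod K C V)
  constructor
  · rintro ⟨ι, W, -, htop, hW⟩
    apply isSemisimpleComod_of_isSemisimpleModule (inferInstance : HopfRep.Comod K C V)
    let N : ι → Submodule (Dual K C) V := fun i => toDualSubmodule inferInstance (W i) (hW i).1
    have hNatom : ∀ i, IsAtom (N i) := by
      intro i
      constructor
      · intro h
        apply (hW i).2.1
        exact (toDualSubmodule_eq_bot_iff inferInstance (W i) (hW i).1).mp h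
      · intro b hb
        have hle : ofDualSubmodule inferInstance b ≤ W i := fun x hx => hb.le hx
        rcases (hW i).2.2 _ (isSubcomod_ofDualSubmodule inferInstance b) hle with h | h
        · exact (ofDualSubmodule_eq_bot_iff inferInstance b).mp h
        · exfalso
          apply hb.ne
          ext x
          constructor
          · intro hx; exact hb.le hx
          · intro hx
            have : x ∈ W i := hx
            rw [← h] at this
            exact this
    apply isSemisimpleModule_of_isSemisimpleModule_submodule' (p := N)
    · intro i
      haveI : IsSimpleModule (Dual K C) (N i) := isSimpleModule_iff_isAtom.mpr (hNatom i)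
      infer_instance
    · rw [← Submodule.restrictScalars_eq_top_iff K, Submodule.restrictScalars_iSup, ← htop]
      rfl
  · intro h
    haveI : IsSemisimpleModule (Dual K C) V :=
      isSemisimpleModule_of_isSemisimpleComod (inferInstance : HopfRep.Comod K C V) h
    obtain ⟨s, hind, hsup, hsimp⟩ := IsSemisimpleModule.exists_sSupIndep_sSup_simples_eq_top (Dual K C) V
    refine ⟨↥s, fun m => ofDualSubmodule inferInstance m.1, ?_, ?_, ?_⟩
    · exact iSupIndep_restrictScalars K _ ((sSupIndep_iff _).mp hind)
    · unfold ofDualSubmodule
      rw [← Submodule.restrictScalars_iSup, ← sSup_eq_iSup', hsup, Submodule.restrictScalars_top]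
    · rintro ⟨m, hm⟩
      have hatom : IsAtom m := isSimpleModule_iff_isAtom.mp (hsimp m hm)
      refine ⟨isSubcomod_ofDualSubmodule inferInstance m, ?_, ?_⟩
      · intro h0
        exact hatom.1 ((ofDualSubmodule_eq_bot_iff inferInstance m).mp h0)
      · intro W' hW' hle
        have hle' : toDualSubmodule inferInstance W' hW' ≤ m := fun x hx => hle hx
        rcases hatom.le_iff.mp hle' with h | h
        · left
          exact (toDualSubmodule_eq_bot_iff inferInstance W' hW').mp h
        · right
          ext x
          constructor
          · intro hx; exact hle hx
          · intro hx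
            have : x ∈ m := hx
            rw [← h] at this
            exact this

end Groth.Agent.S19479
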