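import Groth.Statements.S19502
import Mathlib.Analysis.Normed.Group.InfiniteSum

set_option autoImplicit false
universe u
open W4c3ghconstell

namespace Groth.Agent.S19502


theorem summable_ite_aux {ι : Type*} [DecidableEq ι] (f : ι → ℝ) (hf : Summable f) (D : Finset ι) :
    Summable (fun i => if i ∈ D then (0 : ℝ) else f i) := by
  have h1 : Summable (fun i => if i ∈ D then f i else (0 : ℝ)) :=
    summable_of_ne_finset_zero (s := D) (fun b hb => if_neg hb)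
  have := hf.sub h1
  refine this.congr (fun i => ?_)
  by_cases hi : i ∈ D <;> simp [hi]

theorem tsum_split_aux {ι : Type*} [DecidableEq ι] (f : ι → ℝ) (hf : Summable f) (D : Finset ι) :
    ∑' i, f i = ∑ i ∈ D, f i + ∑' i, if i ∈ D then (0 : ℝ) else f i := by
  have h1 : Summable (fun i => if i ∈ D then f i else (0 : ℝ)) :=
    summable_of_ne_finset_zero (s := D) (fun b hb => if_neg hb)
  have h2 := summable_ite_aux f hf D
  have h3 : ∑' i, (if i ∈ D then f i else (0 : ℝ)) = ∑ i ∈ D, f i := by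
    rw [tsum_eq_sum (s := D) (fun b hb => if_neg hb)]
    exact Finset.sum_congr rfl (fun i hi => if_pos hi)
  rw [← h3, ← h1.tsum_add h2]
  congr 1
  funext i
  by_cases hi : i ∈ D <;> simp [hi]

theorem tsum_ite_sdiff_aux {ι : Type*} [DecidableEq ι] (f : ι → ℝ) (hf : Summable f) (D D' : Finset ι)
    (hDD' : D ⊆ D') :
    (∑' i, if i ∈ D then (0 : ℝ) else f i) =
      (∑' i, if i ∈ D' then (0 : ℝ) else f i) + ∑ i ∈ D' \ D, f i := by
  have h2 := summable_ite_aux f hf D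
  rw [tsum_split_aux _ h2 (D' \ D)]
  rw [add_comm]
  congr 1
  · congr 1
    funext i
    by_cases hi : i ∈ D'
    · by_cases hi2 : i ∈ D
      · simp [hi, hi2]
      · simp [hi, hi2]
    · have hi2 : i ∉ D := fun h => hi (hDD' h)
      simp [hi, hi2]
  · apply Finset.sum_congr rfl
    intro i hi
    rw [Finset.mem_sdiff] at hi
    simp [hi.2]

/-- Let ι index the irreducible representations, θ : ι → ℚ a weight which is negative exactly on the
finite set D₋, h h' : ι → ℕ with h' ≤ h pointwise (the isotypic dimensions of an object and of a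
sub-object) and Σ_i θ_i h_i summable. For a finite set D of indices put S_D = Σ_{i ∉ D} θ_i h_i, d =
#(D ∖ D₋) and θ̃_D = Σ_{i ∈ D} θ_i h'_i + (S_D / d) · Σ_{i ∈ D ∖ D₋} h'_i / h_i, the modified weight
attached to the parameters chosen for D (a quotient by zero is read as zero). Then for finite sets
D₋ ⊆ D ⊆ D̃ contained in the locus θ ≠ 0: (first error term) θ̃_{D̃} − θ̃_D = Σ_{τ ∈ D̃ ∖ D} (θ_τ
h_τ + S_{D̃}/d̃) · (h'_τ/h_τ − (1/d) Σ_{σ ∈ D ∖ D₋} h'_σ/h_σ); (second error term) Σ_i θ_i h'_i −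
θ̃_D = Σ_{τ ∉ D} θ_τ h_τ · (h'_τ/h_τ − (1/d) Σ_{σ ∈ D ∖ D₋} h'_σ/h_σ). -/
theorem result {ι : Type u} [DecidableEq ι]
    (θ : ι → ℚ) (h h' : ι → ℕ) (hle : ∀ i, h' i ≤ h i) (hfin : {i | θ i < 0}.Finite)
    (hsum : Summable (fun i => (θ i : ℝ) * (h i : ℝ))) (D D' : Finset ι)
    (hDm : hfin.toFinset ⊆ D) (hDD' : D ⊆ D') (hsupp : ∀ i ∈ D', θ i ≠ 0) :
    (((∑ i ∈ D', (θ i : ℝ) * (h' i : ℝ)) + ((∑' i, if i ∈ D' then (0 : ℝ) else (θ i : ℝ) * (h i : ℝ)) / ((D' \ hfin.toFinset).card : ℝ)) * (∑ σ ∈ D' \ hfin.toFinset, ((h' σ : ℝ) / (h σ : ℝ)))) - ((∑ i ∈ D, (θ i : ℝ) * (h' i : ℝ)) + ((∑' i, if i ∈ D then (0 : ℝ) else (θ i : ℝ) * (h i : ℝ)) / ((D \ hfin.toFinset).card : ℝ)) * (∑ σ ∈ D \ hfin.toFinset, ((h' σ : ℝ) / (h σ : ℝ)))) =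
      ∑ τ ∈ D' \ D, ((θ τ : ℝ) * (h τ : ℝ) + (∑' i, if i ∈ D' then (0 : ℝ) else (θ i : ℝ) * (h i : ℝ)) / ((D' \ hfin.toFinset).card : ℝ)) *
        (((h' τ : ℝ) / (h τ : ℝ)) - (1 / ((D \ hfin.toFinset).card : ℝ)) * (∑ σ ∈ D \ hfin.toFinset, ((h' σ : ℝ) / (h σ : ℝ))))) ∧
    ((∑' i, (θ i : ℝ) * (h' i : ℝ)) - ((∑ i ∈ D, (θ i : ℝ) * (h' i : ℝ)) + ((∑' i, if i ∈ D then (0 : ℝ) else (θ i : ℝ) * (h i : ℝ)) / ((D \ hfin.toFinset).card : ℝ)) * (∑ σ ∈ D \ hfin.toFinset, ((h' σ : ℝ) / (h σ : ℝ)))) =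
      ∑' τ, if τ ∈ D then (0 : ℝ) else (θ τ : ℝ) * (h τ : ℝ) *
        (((h' τ : ℝ) / (h τ : ℝ)) - (1 / ((D \ hfin.toFinset).card : ℝ)) * (∑ σ ∈ D \ hfin.toFinset, ((h' σ : ℝ) / (h σ : ℝ))))) := by
  classical
  set Dm := hfin.toFinset with hDm_def
  set f : ι → ℝ := fun i => (θ i : ℝ) * (h i : ℝ) with hf_def
  set f' : ι → ℝ := fun i => (θ i : ℝ) * (h' i : ℝ) with hf'_def
  set q : ι → ℝ := fun i => (h' i : ℝ) / (h i : ℝ) with hq_def
  have hfq : ∀ i, f' i = f i * q i := by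
    intro i
    simp only [hf_def, hf'_def, hq_def]
    by_cases hi : h i = 0
    · have : h' i = 0 := Nat.le_zero.mp (hi ▸ hle i)
      simp [hi, this]
    · have : (h i : ℝ) ≠ 0 := by exact_mod_cast hi
      field_simp
  have hf'sum : Summable f' := by
    refine Summable.of_norm_bounded hsum.abs (fun i => ?_)
    have e1 : ‖f' i‖ = |(θ i : ℝ)| * (h' i : ℝ) := by
      simp only [hf'_def, Real.norm_eq_abs, abs_mul, Nat.abs_cast]
    have e2 : |(θ i : ℝ) * (h i : ℝ)| = |(θ i : ℝ)| * (h i : ℝ) := by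
      simp only [abs_mul, Nat.abs_cast]
    rw [e1, e2]
    exact mul_le_mul_of_nonneg_left (Nat.cast_le.mpr (hle i)) (abs_nonneg _)
  have hTsplit : ∑ σ ∈ D' \ Dm, q σ = ∑ σ ∈ D \ Dm, q σ + ∑ σ ∈ D' \ D, q σ := by
    have hdisj : Disjoint (D \ Dm) (D' \ D) := by
      rw [Finset.disjoint_left]
      intro x hx hx'
      exact (Finset.mem_sdiff.mp hx').2 (Finset.mem_sdiff.mp hx).1
    have hunion : D' \ Dm = (D \ Dm) ∪ (D' \ D) := by
      ext x
      simp only [Finset.mem_sdiff, Finset.mem_union]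
      constructor
      · rintro ⟨h1, h2⟩
        by_cases hx : x ∈ D
        · exact Or.inl ⟨hx, h2⟩
        · exact Or.inr ⟨h1, hx⟩
      · rintro (⟨h1, h2⟩ | ⟨h1, h2⟩)
        · exact ⟨hDD' h1, h2⟩
        · exact ⟨h1, fun hm => h2 (hDm hm)⟩
    rw [hunion, Finset.sum_union hdisj]
  have hcard : ((D' \ Dm).card : ℝ) = ((D \ Dm).card : ℝ) + ((D' \ D).card : ℝ) := by
    have hdisj : Disjoint (D \ Dm) (D' \ D) := by
      rw [Finset.disjoint_left]
      intro x hx hx'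
      exact (Finset.mem_sdiff.mp hx').2 (Finset.mem_sdiff.mp hx).1
    have hunion : D' \ Dm = (D \ Dm) ∪ (D' \ D) := by
      ext x
      simp only [Finset.mem_sdiff, Finset.mem_union]
      constructor
      · rintro ⟨h1, h2⟩
        by_cases hx : x ∈ D
        · exact Or.inl ⟨hx, h2⟩
        · exact Or.inr ⟨h1, hx⟩
      · rintro (⟨h1, h2⟩ | ⟨h1, h2⟩)
        · exact ⟨hDD' h1, h2⟩
        · exact ⟨h1, fun hm => h2 (hDm hm)⟩
    rw [hunion, Finset.card_union_of_disjoint hdisj]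
    push_cast
    ring
  have hSsplit := tsum_ite_sdiff_aux f hsum D D' hDD'
  set SD := ∑' i, if i ∈ D then (0 : ℝ) else f i with hSD
  set SD' := ∑' i, if i ∈ D' then (0 : ℝ) else f i with hSD'
  set d : ℝ := ((D \ Dm).card : ℝ) with hd
  set d' : ℝ := ((D' \ Dm).card : ℝ) with hd'
  set e : ℝ := ((D' \ D).card : ℝ) with he
  set TD := ∑ σ ∈ D \ Dm, q σ with hTD
  set X := ∑ σ ∈ D' \ D, f σ with hX
  set Y := ∑ σ ∈ D' \ D, q σ with hY
  have hTD0 : d = 0 → TD = 0 := by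
    intro h0
    have h0' : ((D \ Dm).card : ℝ) = 0 := h0
    have : (D \ Dm).card = 0 := by exact_mod_cast h0'
    rw [Finset.card_eq_zero] at this
    rw [hTD, this, Finset.sum_empty]
  have he0 : 0 ≤ e := Nat.cast_nonneg _
  have hd0 : 0 ≤ d := Nat.cast_nonneg _
  constructor
  · -- first identity
    have hsumD' : ∑ i ∈ D', f' i = ∑ i ∈ D, f' i + ∑ i ∈ D' \ D, f' i := by
      rw [add_comm]; exact (Finset.sum_sdiff hDD').symm
    have hZ : ∑ i ∈ D' \ D, f' i = ∑ i ∈ D' \ D, f i * q i :=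
      Finset.sum_congr rfl (fun i _ => hfq i)
    have hRHS : ∑ τ ∈ D' \ D, (f τ + SD' / d') * (q τ - 1 / d * TD) =
        (∑ i ∈ D' \ D, f i * q i) - (1 / d * TD) * X + (SD' / d') * Y - e * ((SD' / d') * (1 / d * TD)) := by
      have : ∀ τ ∈ D' \ D, (f τ + SD' / d') * (q τ - 1 / d * TD) =
          f τ * q τ - (1 / d * TD) * f τ + (SD' / d') * q τ - (SD' / d') * (1 / d * TD) := by
        intro τ _; ring
      rw [Finset.sum_congr rfl this, Finset.sum_sub_distrib, Finset.sum_add_distrib,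
        Finset.sum_sub_distrib, ← Finset.mul_sum, ← Finset.mul_sum, Finset.sum_const, nsmul_eq_mul]
    show (∑ i ∈ D', f' i + SD' / d' * ∑ σ ∈ D' \ Dm, q σ) - (∑ i ∈ D, f' i + SD / d * TD) =
      ∑ τ ∈ D' \ D, (f τ + SD' / d') * (q τ - 1 / d * TD)
    rw [hRHS, hsumD', hZ, hTsplit, hSsplit]
    by_cases hd00 : d = 0
    · rw [hTD0 hd00]; ring
    · have hd'0 : d' ≠ 0 := by rw [hcard]; positivity
      rw [hcard] at hd'0 ⊢
      field_simp
      ring
  · -- second identity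
    have h1 := tsum_split_aux f' hf'sum D
    have hs1 := summable_ite_aux f' hf'sum D
    have hs2 := summable_ite_aux f hsum D
    have hR : (∑' τ, if τ ∈ D then (0 : ℝ) else f τ * (q τ - 1 / d * TD)) =
        (∑' τ, if τ ∈ D then (0 : ℝ) else f' τ) - (1 / d * TD) * SD := by
      rw [hSD, ← hs2.tsum_mul_left, ← hs1.tsum_sub (hs2.mul_left _)]
      congr 1
      funext τ
      by_cases hτ : τ ∈ D
      · simp [hτ]
      · simp only [hτ, if_false]
        rw [hfq τ]; ring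
    show (∑' i, f' i) - (∑ i ∈ D, f' i + SD / d * TD) =
      ∑' τ, if τ ∈ D then (0 : ℝ) else f τ * (q τ - 1 / d * TD)
    rw [hR, h1]
    ring

end Groth.Agent.S19502
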