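import Groth.Statements.S19503
import Mathlib
import Groth.Agent.Lib.Snap59_helper9
import Groth.Agent.Lib.VAmpPn2_helper5

set_option autoImplicit false
universe u
open CategoryTheory CategoryTheory.Limits AlgebraicGeometry
open Curves

namespace Groth.Agent.S19503

/-- Let A be a Noetherian ring and f : X → Spec A a proper morphism such that H^1(X, O_X) = 0 and every
fibre of f has dimension at most one. If an O_X-module L is f-ample (f quasi-compact and L an ample
invertible module on the preimage of every affine open of Spec A), then L is f-very ample: for some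
n there is an immersion i : X → Pⁿ over Spec A, compatible with f, such that L is isomorphic to the
pullback of O(1) along i. -/
theorem result (A : Type u) [CommRing A]
    [IsNoetherianRing A] (X : Scheme.{u}) (f : X ⟶ Spec (CommRingCat.of A)) [IsProper f]
    (h1 : Subsingleton (Coh.HH X (Coh.structureModule X) 1))
    (hfib : ∀ y : ↥(Spec (CommRingCat.of A)), topologicalKrullDim ↥(f.fiber y) ≤ 1)
    (L : X.Modules) (hL : RelAmple.IsRelAmple f L) :
    RelAmple.IsRelVeryAmplePn f L := by
  have hLi := TensH8.isInvertible_of_isRelAmple f hL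
  have hamp : CohB1.IsAmple L := by
    have h := ((TensH8.isRelAmple_iff f hLi).mp hL).2 ⟨⊤, isAffineOpen_top _⟩
    exact (TensH8.isAmple_iff_isAmpleOn_top hLi).mpr h
  obtain ⟨F, hF⟩ := Snap9.exists_veryAmple_sections f h1 hfib L hamp
  apply Groth.Agent.VAmpPn.isRelVeryAmplePn_of_sections f L hLi F
  intro x
  obtain ⟨t, ht, U, hU, hxU, haff, h, hb⟩ := hF x
  exact ⟨t, ht, U, hU, hxU, haff, ⊤, isAffineOpen_top _, h, hb⟩

end Groth.Agent.S19503
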