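import Groth.Statements.S19504
import Groth.Agent.S15400
import Groth.Agent.Lib.PicLaw_helper8

set_option autoImplicit false
open CategoryTheory CategoryTheory.Limits AlgebraicGeometry
universe u
open PicF

namespace Groth.Agent.S19504

/-- Let X be a scheme and I a quasi-coherent ideal sheaf of square zero defining the closed subscheme i
: X₀ → X, and suppose H²(X, I) = 0 for the ideal regarded as an O_X-module (Zariski cohomology).
Then every invertible O_{X₀}-module is, up to isomorphism, the pullback along i of an invertible
O_X-module: restriction of Picard groups along i is surjective. (The published statement allows a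
nilpotent ideal with the same hypothesis on I alone; its proof treats the square-zero case, which is
what is stated. No separatedness is assumed.) -/
theorem result (X : Scheme.{u}) (I : X.IdealSheafData)
    (hI : I * I = ⊥) (h2 : Subsingleton (Coh.HH X (ClSub.idealMod I) 2))
    (c : PicF.Cl I.subscheme) (hc : PicF.IsInvertibleCl c) :
    ∃ d : PicF.Cl X, PicF.IsInvertibleCl d ∧ PicF.pullCl I.subschemeι d = c := by
  letI : PicGrp.Law X := Groth.Agent.Lib.PicLawH8.picLaw X
  letI : PicGrp.Law I.subscheme := Groth.Agent.Lib.PicLawH8.picLaw _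
  have hi : PicGrp.PullMul I.subschemeι := Groth.Agent.Lib.PicLawH8.pullMul _
  obtain ⟨ε, δ₀, α, δ₁, -, -, -, -, -, h6⟩ := Groth.Agent.S15400.result X I hI hi
  obtain ⟨c₀, hc₀⟩ : ∃ c₀ : PicLoc.PicSet I.subscheme, c₀ = ⟨c, hc⟩ := ⟨_, rfl⟩
  have hmem : c₀ ∈ (PicGrp.pullHom I.subschemeι hi).range := by
    rw [← h6]
    haveI : Subsingleton (Multiplicative (Coh.HH X (ClSub.idealMod I) 2)) := h2
    exact MonoidHom.mem_ker.2 (Subsingleton.elim _ _)
  obtain ⟨d, hd⟩ := hmem
  refine ⟨d.1, d.2, ?_⟩
  have h7 := congrArg Subtype.val (hd.trans hc₀)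
  exact h7

end Groth.Agent.S19504
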