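import Groth.Statements.S19512
import Mathlib

set_option autoImplicit false
universe u
open CategoryTheory CategoryTheory.Limits AlgebraicGeometry
open Variety

namespace Groth.Agent.S19512

/-- Let k be a field and f : X → Y a k-morphism between proper k-schemes which is a fibration, i.e. O_Y
→ f_*O_X is an isomorphism (Γ(V, O_Y) → Γ(f⁻¹V, O_X) bijective for every open V ⊆ Y). If X is
integral, then Y is integral. (The second assertion of (ii), generic flatness of f, is quoted from
the literature and not stated.) -/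
theorem result (k : Type u) [Field k] (X Y : Scheme.{u})
    [X.Over (Spec (CommRingCat.of k))] [Y.Over (Spec (CommRingCat.of k))] [IsProper (X ↘ Spec (CommRingCat.of k))] [IsProper (Y ↘ Spec (CommRingCat.of k))]
    (f : X ⟶ Y) (hf : f ≫ (Y ↘ Spec (CommRingCat.of k)) = X ↘ Spec (CommRingCat.of k)) (hfib : ∀ V : Y.Opens, IsIso (f.app V))
    [AlgebraicGeometry.IsIntegral X] : AlgebraicGeometry.IsIntegral Y := by
  have key : ∀ V : Y.Opens, (f ⁻¹ᵁ V : X.Opens) = ⊥ → V = ⊥ := by
    intro V hV
    have := hfib V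
    have h1 : Subsingleton Γ(X, f ⁻¹ᵁ V) := by rw [hV]; infer_instance
    have h2 : Subsingleton Γ(Y, V) :=
      (asIso (f.app V)).commRingCatIsoToRingEquiv.toEquiv.subsingleton
    have h3 : Y.basicOpen (1 : Γ(Y, V)) = V := Scheme.basicOpen_of_isUnit Y isUnit_one
    rw [← h3, Subsingleton.elim (1 : Γ(Y, V)) 0, Scheme.basicOpen_zero]
  have hred : IsReduced Y := by
    refine ⟨fun V => ?_⟩
    have := hfib V
    exact isReduced_of_injective (f.app V).hom
      (asIso (f.app V)).commRingCatIsoToRingEquiv.injective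
  have hne : Nonempty Y := by
    obtain ⟨x⟩ : Nonempty X := inferInstance
    exact ⟨f.base x⟩
  have hirr : IrreducibleSpace Y := by
    have : PreirreducibleSpace Y := by
      constructor
      intro u v hu hv hnu hnv
      rw [Set.univ_inter] at hnu hnv ⊢
      let Vu : Y.Opens := ⟨u, hu⟩
      let Vv : Y.Opens := ⟨v, hv⟩
      have hu' : ((f ⁻¹ᵁ Vu : X.Opens) : Set X).Nonempty := by
        rw [Set.nonempty_iff_ne_empty]
        intro h
        have : (f ⁻¹ᵁ Vu : X.Opens) = ⊥ := TopologicalSpace.Opens.ext h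
        have h2 := key Vu this
        have h3 : u = ∅ := congrArg (fun W : Y.Opens => (W : Set Y)) h2
        exact hnu.ne_empty h3
      have hv' : ((f ⁻¹ᵁ Vv : X.Opens) : Set X).Nonempty := by
        rw [Set.nonempty_iff_ne_empty]
        intro h
        have : (f ⁻¹ᵁ Vv : X.Opens) = ⊥ := TopologicalSpace.Opens.ext h
        have h2 := key Vv this
        have h3 : v = ∅ := congrArg (fun W : Y.Opens => (W : Set Y)) h2
        exact hnv.ne_empty h3
      obtain ⟨x, hx1, hx2⟩ := nonempty_preirreducible_inter (f ⁻¹ᵁ Vu).isOpen (f ⁻¹ᵁ Vv).isOpen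
        hu' hv'
      exact ⟨f.base x, hx1, hx2⟩
    exact ⟨hne⟩
  exact isIntegral_of_irreducibleSpace_of_isReduced Y

end Groth.Agent.S19512
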