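import Groth.Statements.S19513
import Groth.Agent.Lib.Norm3_helper8

set_option autoImplicit false
universe u
open CategoryTheory CategoryTheory.Limits AlgebraicGeometry
open Variety

namespace Groth.Agent.S19513

/-- Let k be a field and f : X → Y a k-morphism between proper k-schemes which is a fibration, i.e. O_Y
→ f_*O_X is an isomorphism (Γ(V, O_Y) → Γ(f⁻¹V, O_X) bijective for every open V ⊆ Y). If X is normal
(every local ring an integrally closed domain), then so is Y. -/
theorem result (k : Type u) [Field k] (X Y : Scheme.{u})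
    [X.Over (Spec (CommRingCat.of k))] [Y.Over (Spec (CommRingCat.of k))] [IsProper (X ↘ Spec (CommRingCat.of k))] [IsProper (Y ↘ Spec (CommRingCat.of k))]
    (f : X ⟶ Y) (hf : f ≫ (Y ↘ Spec (CommRingCat.of k)) = X ↘ Spec (CommRingCat.of k)) (hfib : ∀ V : Y.Opens, IsIso (f.app V))
    (hX : Pi1.IsNormalScheme X) : Pi1.IsNormalScheme Y := by
  haveI : IsLocallyNoetherian X :=
    LocallyOfFiniteType.isLocallyNoetherian (X ↘ Spec (CommRingCat.of k))
  have hb : ∀ V : Y.Opens, Function.Bijective (f.app V) := fun V => by
    haveI := hfib V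
    exact (ConcreteCategory.isIso_iff_bijective (f.app V)).1 inferInstance
  intro y
  exact ⟨NormH8.isDomain_stalk_of_fibration (fun x => (hX x).1) f hb y,
    NormH8.isIntegrallyClosed_stalk_of_fibration' (fun x => (hX x).1) (fun x => (hX x).2) f hb y⟩

end Groth.Agent.S19513
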