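import Groth.Statements.S19514
import Groth.Agent.Lib.FibBC1_helper8

set_option autoImplicit false
universe u
open CategoryTheory CategoryTheory.Limits AlgebraicGeometry
open Variety

namespace Groth.Agent.S19514

/-- Let k be a field and f : X → Y a k-morphism between proper k-schemes which is a fibration, i.e. O_Y
→ f_*O_X is an isomorphism (Γ(V, O_Y) → Γ(f⁻¹V, O_X) bijective for every open V ⊆ Y). If X is
geometrically integral over k, then so is Y. (The assertion of (iii) for geometric normality is not
stated here.) -/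
theorem result (k : Type u) [Field k] (X Y : Scheme.{u})
    [X.Over (Spec (CommRingCat.of k))] [Y.Over (Spec (CommRingCat.of k))] [IsProper (X ↘ Spec (CommRingCat.of k))] [IsProper (Y ↘ Spec (CommRingCat.of k))]
    (f : X ⟶ Y) (hf : f ≫ (Y ↘ Spec (CommRingCat.of k)) = X ↘ Spec (CommRingCat.of k)) (hfib : ∀ V : Y.Opens, IsIso (f.app V))
    [GeometricallyIntegral (X ↘ Spec (CommRingCat.of k))] : GeometricallyIntegral (Y ↘ Spec (CommRingCat.of k)) := by
  haveI : IsProper (f ≫ (Y ↘ Spec (CommRingCat.of k))) := by rw [hf]; infer_instance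
  haveI : IsProper f := IsProper.of_comp f (Y ↘ Spec (CommRingCat.of k))
  have hb : ∀ V : Y.Opens, Function.Bijective (f.app V) := fun V => by
    haveI := hfib V
    exact (ConcreteCategory.isIso_iff_bijective (f.app V)).1 inferInstance
  constructor
  intro K _ y Z fst snd h
  haveI : IsIntegral (pullback (X ↘ Spec (CommRingCat.of k)) y) :=
    GeometricallyIntegral.geometrically_isIntegral (f := X ↘ Spec (CommRingCat.of k)) y _ _
      (.of_hasPullback _ _)
  obtain ⟨fK, hfK1, hfK2⟩ : ∃ fK : pullback (X ↘ Spec (CommRingCat.of k)) y ⟶ Z,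
      fK ≫ fst = pullback.fst _ _ ≫ f ∧ fK ≫ snd = pullback.snd _ _ :=
    ⟨h.lift (pullback.fst _ _ ≫ f) (pullback.snd _ _)
      (by rw [Category.assoc, hf, pullback.condition]), h.lift_fst _ _ _, h.lift_snd _ _ _⟩
  have H : IsPullback (pullback.fst (X ↘ Spec (CommRingCat.of k)) y) fK f fst := by
    refine IsPullback.of_bot ?_ hfK1.symm h
    rw [hfK2, hf]
    exact .of_hasPullback _ _
  haveI : Flat y := by
    obtain ⟨φ, rfl⟩ := Spec.map_surjective y
    rw [Flat.SpecMap_iff]
    letI := φ.hom.toAlgebra
    change Module.Flat k K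
    infer_instance
  haveI : Flat fst := MorphismProperty.of_isPullback (P := @Flat) h.flip inferInstance
  exact FibH8.isIntegral_of_fibration fK (FibH8.bijective_app_of_isPullback H hb)

end Groth.Agent.S19514
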