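import Groth.Statements.S19515
import Groth.Agent.Lib.Norm3_helper8
import Groth.Agent.Lib.FibBC1_helper8

set_option autoImplicit false
universe u
open CategoryTheory CategoryTheory.Limits AlgebraicGeometry
open Variety

namespace Groth.Agent.S19515

/-- Let k be a field and f : X → Y a k-morphism between proper k-schemes which is a fibration, i.e. O_Y
→ f_*O_X is an isomorphism (Γ(V, O_Y) → Γ(f⁻¹V, O_X) bijective for every open V ⊆ Y). If X is
geometrically normal, i.e. its base change to every algebraic closure of k has all local rings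
integrally closed domains, then Y is geometrically normal in the same sense. -/
theorem result (k : Type u) [Field k] (X Y : Scheme.{u})
    [X.Over (Spec (CommRingCat.of k))] [Y.Over (Spec (CommRingCat.of k))] [IsProper (X ↘ Spec (CommRingCat.of k))] [IsProper (Y ↘ Spec (CommRingCat.of k))]
    (f : X ⟶ Y) (hf : f ≫ (Y ↘ Spec (CommRingCat.of k)) = X ↘ Spec (CommRingCat.of k)) (hfib : ∀ V : Y.Opens, IsIso (f.app V))
    (hX : ∀ (K : Type u) [Field K] [Algebra k K] [IsAlgClosure k K],
      Pi1.IsNormalScheme (pullback (X ↘ Spec (CommRingCat.of k)) (Spec.map (CommRingCat.ofHom (algebraMap k K)))))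
    (K : Type u) [Field K] [Algebra k K] [IsAlgClosure k K] :
    Pi1.IsNormalScheme (pullback (Y ↘ Spec (CommRingCat.of k)) (Spec.map (CommRingCat.ofHom (algebraMap k K)))) := by
  haveI : IsProper (f ≫ (Y ↘ Spec (CommRingCat.of k))) := by rw [hf]; infer_instance
  haveI : IsProper f := IsProper.of_comp f (Y ↘ Spec (CommRingCat.of k))
  have hb : ∀ V : Y.Opens, Function.Bijective (f.app V) := fun V => by
    haveI := hfib V
    exact (ConcreteCategory.isIso_iff_bijective (f.app V)).1 inferInstance
  obtain ⟨y, hy⟩ : ∃ y : Spec (CommRingCat.of K) ⟶ Spec (CommRingCat.of k),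
      y = Spec.map (CommRingCat.ofHom (algebraMap k K)) := ⟨_, rfl⟩
  rw [← hy]
  have hXK := hX K
  rw [← hy] at hXK
  have h : IsPullback (pullback.fst (Y ↘ Spec (CommRingCat.of k)) y) (pullback.snd _ _)
      (Y ↘ Spec (CommRingCat.of k)) y := .of_hasPullback _ _
  obtain ⟨fK, hfK1, hfK2⟩ : ∃ fK : pullback (X ↘ Spec (CommRingCat.of k)) y ⟶
      pullback (Y ↘ Spec (CommRingCat.of k)) y,
      fK ≫ pullback.fst _ _ = pullback.fst _ _ ≫ f ∧ fK ≫ pullback.snd _ _ = pullback.snd _ _ :=
    ⟨h.lift (pullback.fst _ _ ≫ f) (pullback.snd _ _)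
      (by rw [Category.assoc, hf, pullback.condition]), h.lift_fst _ _ _, h.lift_snd _ _ _⟩
  have H : IsPullback (pullback.fst (X ↘ Spec (CommRingCat.of k)) y) fK f
      (pullback.fst (Y ↘ Spec (CommRingCat.of k)) y) := by
    refine IsPullback.of_bot ?_ hfK1.symm h
    rw [hfK2, hf]
    exact .of_hasPullback _ _
  haveI : Flat y := by
    rw [hy, Flat.SpecMap_iff]
    change (algebraMap k K).Flat
    rw [RingHom.flat_algebraMap_iff]
    infer_instance
  haveI : Flat (pullback.fst (Y ↘ Spec (CommRingCat.of k)) y) :=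
    MorphismProperty.of_isPullback (P := @Flat) h.flip inferInstance
  have hbK := FibH8.bijective_app_of_isPullback H hb
  haveI : IsLocallyNoetherian (pullback (X ↘ Spec (CommRingCat.of k)) y) :=
    LocallyOfFiniteType.isLocallyNoetherian (pullback.snd _ _)
  intro z
  exact ⟨NormH8.isDomain_stalk_of_fibration (fun x => (hXK x).1) fK hbK z,
    NormH8.isIntegrallyClosed_stalk_of_fibration' (fun x => (hXK x).1) (fun x => (hXK x).2)
      fK hbK z⟩

end Groth.Agent.S19515
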