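import Groth.Statements.S19522
import Mathlib

set_option autoImplicit false
universe u
open TensorProduct
open GLin

namespace Groth.Agent.S19522


variable {k : Type u} [Field k] {A : Type u} [CommRing A] [Bialgebra k A] {R : Type u} [CommRing R] [Algebra k R]

/-- coefficient extraction `R[X] ⊗ A → R ⊗ A` -/
noncomputable def cs (s : ℕ) : Polynomial R ⊗[k] A →ₗ[k] R ⊗[k] A :=
  ((Polynomial.lcoeff R s).restrictScalars k).rTensor A

theorem cs_formula (y : R ⊗[k] A) (i s : ℕ) (a : A) :
    cs (k := k) (A := A) (R := R) s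
      (Algebra.TensorProduct.map (Polynomial.CAlgHom : R →ₐ[k] Polynomial R) (AlgHom.id k A) y *
        (((Polynomial.X : Polynomial R) ^ i) ⊗ₜ[k] a)) =
      if i = s then y * ((1 : R) ⊗ₜ[k] a) else 0 := by
  induction y using TensorProduct.induction_on with
  | zero => simp
  | add x y hx hy =>
    rw [map_add, add_mul, map_add, hx, hy]
    split_ifs
    · rw [add_mul]
    · rw [add_zero]
  | tmul u b =>
    rw [Algebra.TensorProduct.map_tmul, Algebra.TensorProduct.tmul_mul_tmul, AlgHom.id_apply]
    show (Polynomial.coeff (Polynomial.C u * Polynomial.X ^ i) s) ⊗ₜ[k] (b * a) = _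
    rw [Polynomial.coeff_C_mul_X_pow]
    by_cases h : i = s
    · rw [if_pos h, if_pos h.symm, Algebra.TensorProduct.tmul_mul_tmul, mul_one]
    · rw [if_neg h, if_neg (Ne.symm h), TensorProduct.zero_tmul]

/-- Let k be a field, A a commutative k-bialgebra coacting multiplicatively on a commutative k-algebra
R, and χ ∈ A a group-like element with an inverse χ' (χχ' = 1). Suppose the polynomial ring R[t]
carries a multiplicative coaction which restricts to the given one on constants and sends t to t ⊗
χ'. Then g ∈ R[t] is coinvariant if and only if, for every r, its r-th coefficient has coaction g_r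
↦ g_r ⊗ χ^r; that is, the ring of invariants of R[t] is the sum over r ≥ 0 of the weight-χ^r
semi-invariants of R times t^r. (The published statement is phrased for an affine variety with an
action of a linear algebraic group over an algebraically closed field of characteristic zero and
identifies the invariants of X × A¹ with the graded ring of invariant sections of the powers of the
linearised trivial bundle; this is its coordinate-ring content, valid over any field.) -/
theorem result (k : Type u) [Field k]
    (A : Type u) [CommRing A] [Bialgebra k A]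
    (R : Type u) [CommRing R] [Algebra k R] [HopfRep.Comod k A R] [GLin.IsCoactAlg k A R]
    [HopfRep.Comod k A (Polynomial R)] [GLin.IsCoactAlg k A (Polynomial R)]
    (χ χ' : A) (hχ : CoalgebraStruct.comul (R := k) (A := A) χ = χ ⊗ₜ[k] χ)
    (hχε : CoalgebraStruct.counit (R := k) (A := A) χ = 1) (hχχ' : χ * χ' = 1)
    (hC : ∀ r : R, HopfRep.Comod.coact (k := k) (A := A) (Polynomial.C r) =
      Algebra.TensorProduct.map (Polynomial.CAlgHom : R →ₐ[k] Polynomial R) (AlgHom.id k A)
        (HopfRep.Comod.coact (k := k) (A := A) r))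
    (hX : HopfRep.Comod.coact (k := k) (A := A) (Polynomial.X : Polynomial R) = Polynomial.X ⊗ₜ[k] χ')
    (g : Polynomial R) :
    g ∈ GLin.invariants k A (Polynomial R) ↔
      ∀ r : ℕ, g.coeff r ∈ HopfRep.eigenspace k A R (χ ^ r) := by
  classical
  have hρ'app : ∀ f : Polynomial R, GLin.coactAlgHom k A (Polynomial R) f =
      HopfRep.Comod.coact (k := k) (A := A) f := fun f => rfl
  have hterm : ∀ (u : R) (i : ℕ),
      HopfRep.Comod.coact (k := k) (A := A) (Polynomial.C u * Polynomial.X ^ i : Polynomial R) =
      Algebra.TensorProduct.map (Polynomial.CAlgHom : R →ₐ[k] Polynomial R) (AlgHom.id k A)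
        (HopfRep.Comod.coact (k := k) (A := A) u) * (((Polynomial.X : Polynomial R) ^ i) ⊗ₜ[k] (χ' ^ i)) := by
    intro u i
    rw [← hρ'app, map_mul, map_pow, hρ'app, hρ'app, hC, hX, Algebra.TensorProduct.tmul_pow]
  have hsum : HopfRep.Comod.coact (k := k) (A := A) g =
      ∑ i ∈ g.support, Algebra.TensorProduct.map (Polynomial.CAlgHom : R →ₐ[k] Polynomial R) (AlgHom.id k A)
        (HopfRep.Comod.coact (k := k) (A := A) (g.coeff i)) *
          (((Polynomial.X : Polynomial R) ^ i) ⊗ₜ[k] (χ' ^ i)) := by
    have e := congrArg (HopfRep.Comod.coact (k := k) (A := A)) g.as_sum_support_C_mul_X_pow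
    rw [map_sum] at e
    rw [e]
    exact Finset.sum_congr rfl (fun i _ => hterm _ i)
  constructor
  · intro hg r
    have hg' : HopfRep.Comod.coact (k := k) (A := A) g = g ⊗ₜ[k] (1 : A) := hg
    by_cases hr : r ∈ g.support
    · have h1 := congrArg (cs (k := k) (A := A) (R := R) r) hsum
      rw [hg', map_sum] at h1
      have h2 : ∀ i ∈ g.support, cs (k := k) (A := A) (R := R) r
          (Algebra.TensorProduct.map (Polynomial.CAlgHom : R →ₐ[k] Polynomial R) (AlgHom.id k A)
            (HopfRep.Comod.coact (k := k) (A := A) (g.coeff i)) *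
              (((Polynomial.X : Polynomial R) ^ i) ⊗ₜ[k] (χ' ^ i))) =
          if i = r then HopfRep.Comod.coact (k := k) (A := A) (g.coeff i) * ((1 : R) ⊗ₜ[k] (χ' ^ i)) else 0 :=
        fun i _ => cs_formula _ i r _
      rw [Finset.sum_congr rfl h2, Finset.sum_ite_eq' g.support r, if_pos hr] at h1
      have h3 : cs (k := k) (A := A) (R := R) r (g ⊗ₜ[k] (1 : A)) = g.coeff r ⊗ₜ[k] (1 : A) := rfl
      rw [h3] at h1
      show HopfRep.Comod.coact (k := k) (A := A) (g.coeff r) = g.coeff r ⊗ₜ[k] (χ ^ r)
      have h4 := congrArg (fun z => z * ((1 : R) ⊗ₜ[k] (χ ^ r))) h1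
      simp only [mul_assoc, Algebra.TensorProduct.tmul_mul_tmul, one_mul, mul_one, ← mul_pow] at h4
      rw [mul_comm χ' χ, hχχ', one_pow] at h4
      rw [show ((1 : R) ⊗ₜ[k] (1 : A)) = 1 from rfl, mul_one] at h4
      exact h4.symm
    · rw [Polynomial.notMem_support_iff.mp hr]
      exact Submodule.zero_mem _
  · intro h
    show HopfRep.Comod.coact (k := k) (A := A) g = g ⊗ₜ[k] (1 : A)
    rw [hsum]
    have h5 : ∀ i ∈ g.support, Algebra.TensorProduct.map (Polynomial.CAlgHom : R →ₐ[k] Polynomial R) (AlgHom.id k A)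
        (HopfRep.Comod.coact (k := k) (A := A) (g.coeff i)) *
          (((Polynomial.X : Polynomial R) ^ i) ⊗ₜ[k] (χ' ^ i)) =
        (Polynomial.C (g.coeff i) * Polynomial.X ^ i) ⊗ₜ[k] (1 : A) := by
      intro i _
      have hi : HopfRep.Comod.coact (k := k) (A := A) (g.coeff i) = g.coeff i ⊗ₜ[k] (χ ^ i) := h i
      rw [hi, Algebra.TensorProduct.map_tmul, Algebra.TensorProduct.tmul_mul_tmul, AlgHom.id_apply,
        ← mul_pow, hχχ', one_pow]
      rfl
    rw [Finset.sum_congr rfl h5, ← TensorProduct.sum_tmul, ← g.as_sum_support_C_mul_X_pow]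

end Groth.Agent.S19522
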