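import Groth.Statements.S19530
import Mathlib
import Groth.Agent.Lib.RefVal20_helper6
import Groth.Agent.S14769
-- import your own Groth.Agent.* helpers here

set_option autoImplicit false
universe u
open CategoryTheory CategoryTheory.Limits AlgebraicGeometry
open Subtr

namespace Groth.Agent.S19530

/-- Let f : X ⟶ Y be a morphism of schemes such that every base change of f has the lifting property for
ordered pairs of points (every point together with a specialization of it is the image of such a
pair). Then every finite chain of points y_0, y_1, …, y_n of Y, in which y_j is a specialization of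
y_i whenever i ≤ j, lifts to a chain in X: there are points x_0, …, x_n of X with x_j a
specialization of x_i for i ≤ j and f(x_i) = y_i for every i. (The published statement is for
universally subtrusive f, which adds submersiveness for the constructible topologies, and for
arbitrary chains having a lower bound in Y; this row keeps the pair-lifting property alone and
finite chains, whose most special member is a lower bound.) -/
theorem result {X Y : Scheme.{u}} (f : X ⟶ Y)
    (hf : Subtr.UnivSSubtrusive f) (n : ℕ) (y : Fin (n + 1) → Y)
    (hy : ∀ i j : Fin (n + 1), i ≤ j → y i ⤳ y j) :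
    ∃ x : Fin (n + 1) → X, (∀ i j : Fin (n + 1), i ≤ j → x i ⤳ x j) ∧ ∀ i, f (x i) = y i := by

  obtain ⟨L, _, V, h, v, hv, hhv, -⟩ :=
    Groth.Agent.Lib.RefVal.exists_valuationRing_of_chain n y hy
  obtain ⟨V', _, _, _, a, b, hb, hab⟩ := (Groth.Agent.S14769.result f).mp hf ↥V h
  have hsurj : Function.Surjective b := b.surjective
  have hσ : ∀ p, b (Function.surjInv hsurj p) = p := Function.surjInv_eq hsurj
  refine ⟨fun i => a (Function.surjInv hsurj (v i)), ?_, ?_⟩
  · intro i j hij
    apply Specializes.map _ a.continuous
    have htot : Function.surjInv hsurj (v i) ⤳ Function.surjInv hsurj (v j) ∨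
        Function.surjInv hsurj (v j) ⤳ Function.surjInv hsurj (v i) := by
      rcases (ValuationRing.le_total_ideal (A := V')).total
        (Function.surjInv hsurj (v i)).asIdeal (Function.surjInv hsurj (v j)).asIdeal with h1 | h1
      · left
        exact (PrimeSpectrum.le_iff_specializes _ _).mp h1
      · right
        exact (PrimeSpectrum.le_iff_specializes _ _).mp h1
    rcases htot with h1 | h1
    · exact h1
    · have h2 : v j ⤳ v i := by
        have := h1.map b.continuous
        rwa [hσ, hσ] at this
      have h3 : v i = v j := ((hv i j hij).antisymm h2).eq
      rw [h3]
  · intro i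
    change f (a _) = _
    rw [← Scheme.Hom.comp_apply, hab, Scheme.Hom.comp_apply, hσ, hhv]

end Groth.Agent.S19530
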