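import Groth.Statements.S19567
import Groth.Agent.Lib.EtaleNbhdKill_lead
import Groth.Agent.Lib.PairHensExists_lead

set_option autoImplicit false
universe u
open Hensel

namespace Groth.Agent.S19567

/-- Let A be a ring and I an ideal of A, and consider étale A-algebras A' for which the induced map A/I
→ A'/IA' is bijective. (1) For any two such algebras A₁ and A₂ there is a third such algebra A₃
admitting A-algebra maps from both. (2) For any two A-algebra maps f, g : A₁ → A₂ between such
algebras there are such an algebra A₃ and an A-algebra map h : A₂ → A₃ with h ∘ f = h ∘ g. (All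
algebras are taken in the universe of A. Since A itself is such an algebra, (1) and (2) say that the
category of these algebras and A-algebra maps is filtered.) -/
theorem result (A : Type u) [CommRing A] (I : Ideal A) :
    (∀ (A₁ A₂ : Type u) [CommRing A₁] [Algebra A A₁] [Algebra.Etale A A₁] [CommRing A₂] [Algebra A A₂]
        [Algebra.Etale A A₂],
        Function.Bijective (Ideal.quotientMap (I.map (algebraMap A A₁)) (algebraMap A A₁) Ideal.le_comap_map) →
        Function.Bijective (Ideal.quotientMap (I.map (algebraMap A A₂)) (algebraMap A A₂) Ideal.le_comap_map) →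
          ∃ (A₃ : Type u) (_ : CommRing A₃) (_ : Algebra A A₃) (_ : Algebra.Etale A A₃),
            Function.Bijective (Ideal.quotientMap (I.map (algebraMap A A₃)) (algebraMap A A₃) Ideal.le_comap_map) ∧
              Nonempty (A₁ →ₐ[A] A₃) ∧ Nonempty (A₂ →ₐ[A] A₃)) ∧
    (∀ (A₁ A₂ : Type u) [CommRing A₁] [Algebra A A₁] [Algebra.Etale A A₁] [CommRing A₂] [Algebra A A₂]
        [Algebra.Etale A A₂],
        Function.Bijective (Ideal.quotientMap (I.map (algebraMap A A₁)) (algebraMap A A₁) Ideal.le_comap_map) →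
        Function.Bijective (Ideal.quotientMap (I.map (algebraMap A A₂)) (algebraMap A A₂) Ideal.le_comap_map) →
          ∀ (f g : A₁ →ₐ[A] A₂),
            ∃ (A₃ : Type u) (_ : CommRing A₃) (_ : Algebra A A₃) (_ : Algebra.Etale A A₃),
              Function.Bijective (Ideal.quotientMap (I.map (algebraMap A A₃)) (algebraMap A A₃) Ideal.le_comap_map) ∧
                ∃ h : A₂ →ₐ[A] A₃, h.comp f = h.comp g) := by
  classical
  obtain ⟨B, _, _, hB1, hB2⟩ := Groth.Agent.Lib.PairHensExists.exists_henselization A I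
  have hB : Hens2.IsPairHenselization A I B := ⟨hB1, hB2⟩
  refine ⟨?_, ?_⟩
  · intro A₁ A₂ _ _ _ _ _ _ h₁ h₂
    obtain ⟨u₁⟩ := Groth.Agent.Lib.EtaleNbhd.unique_algHom hB A₁ h₁
    obtain ⟨u₂⟩ := Groth.Agent.Lib.EtaleNbhd.unique_algHom hB A₂ h₂
    let N₁ : Groth.Agent.Lib.EtaleNbhd.Nb A I B :=
      { C := A₁, φ := u₁.default, surj := ((Groth.Agent.Lib.EtaleNbhd.bijective_iff I A₁).1 h₁).1 }
    let N₂ : Groth.Agent.Lib.EtaleNbhd.Nb A I B :=
      { C := A₂, φ := u₂.default, surj := ((Groth.Agent.Lib.EtaleNbhd.bijective_iff I A₂).1 h₂).1 }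
    refine ⟨(N₁.tensor N₂).C, (N₁.tensor N₂).cr, (N₁.tensor N₂).alg, (N₁.tensor N₂).et,
      (N₁.tensor N₂).bijective hB, ⟨?_⟩, ⟨?_⟩⟩
    · exact (Algebra.TensorProduct.includeLeft : A₁ →ₐ[A] TensorProduct A A₁ A₂)
    · exact (Algebra.TensorProduct.includeRight : A₂ →ₐ[A] TensorProduct A A₁ A₂)
  · intro A₁ A₂ _ _ _ _ _ _ h₁ h₂ f g
    obtain ⟨u₂⟩ := Groth.Agent.Lib.EtaleNbhd.unique_algHom hB A₂ h₂
    have hfg : (u₂.default).comp f = (u₂.default).comp g :=
      Groth.Agent.Lib.EtaleNbhd.algHom_eq hB A₁ h₁ _ _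
    haveI : Algebra.FiniteType A A₁ := inferInstance
    obtain ⟨s, hs⟩ := (Algebra.FiniteType.out : (⊤ : Subalgebra A A₁).FG)
    obtain ⟨A₃, _, _, _, hq₃, ψ, hψ⟩ := Groth.Agent.Lib.EtaleNbhd.exists_kill_many hB
      s.toList.length A₂ h₂ u₂.default
      (fun i => f (s.toList.getD i 0) - g (s.toList.getD i 0)) (fun i _ => by
        show u₂.default (f (s.toList.getD i 0) - g (s.toList.getD i 0)) = 0
        have h1 := DFunLike.congr_fun hfg (s.toList.getD i 0)
        rw [AlgHom.comp_apply, AlgHom.comp_apply] at h1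
        rw [map_sub, h1, sub_self])
    refine ⟨A₃, inferInstance, inferInstance, inferInstance, hq₃, ψ, ?_⟩
    apply AlgHom.ext_of_adjoin_eq_top hs
    intro x hx
    have hx' : x ∈ s.toList := Finset.mem_toList.2 hx
    obtain ⟨i, hi, hxi⟩ := List.mem_iff_getElem.1 hx'
    have h2 := hψ i hi
    beta_reduce at h2
    rw [List.getD_eq_getElem _ _ hi, hxi, map_sub, sub_eq_zero] at h2
    rw [AlgHom.comp_apply, AlgHom.comp_apply]
    exact h2

end Groth.Agent.S19567
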