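import Groth.Statements.S19569
import Groth.Agent.Lib.WeakColim5_lead

set_option autoImplicit false
universe u
open CAlg

namespace Groth.Agent.S19569

open TensorProduct in
/-- Let A be the colimit of a directed system of rings (A_i), given by compatible ring maps A_i → A
which are jointly surjective and such that an element of some A_i mapping to zero in A already maps
to zero in some later A_j, and let B be an étale A-algebra. Then for some index i there is an étale
A_i-algebra B_i such that B is isomorphic, as an A-algebra, to the base change A ⊗_{A_i} B_i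
(existence of an isomorphism). (Stated for a system indexed by a directed preordered set.) -/
theorem result {ι : Type u} [Preorder ι] [IsDirected ι (· ≤ ·)] [Nonempty ι]
    (G : ι → Type u) [∀ i, CommRing (G i)] (f : ∀ i j, i ≤ j → (G i →+* G j))
    (A : Type u) [CommRing A] (g : ∀ i, G i →+* A) (hg : ∀ i j (h : i ≤ j), (g j).comp (f i j h) = g i)
    (hsurj : ∀ a : A, ∃ i, ∃ x : G i, g i x = a)
    (hker : ∀ i (x : G i), g i x = 0 → ∃ j, ∃ h : i ≤ j, f i j h x = 0)
    (B : Type u) [CommRing B] [Algebra A B] [Algebra.Etale A B] :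
    ∃ (i : ι) (Bi : Type u) (_ : CommRing Bi) (_ : Algebra (G i) Bi), Algebra.Etale (G i) Bi ∧
      letI : Algebra (G i) A := (g i).toAlgebra
      Nonempty (B ≃ₐ[A] A ⊗[G i] Bi) := by
  classical
  let f' : ∀ i j, i ≤ j → (G i →ₐ[ℤ] G j) := fun i j h => (f i j h).toIntAlgHom
  let g' : ∀ i, G i →ₐ[ℤ] A := fun i => (g i).toIntAlgHom
  have H : Groth.Agent.Lib.WeakColim.IsWeakColim f' g' := by
    refine ⟨fun i j h => AlgHom.ext fun x => ?_, fun a => ?_, fun i x hx => ?_⟩
    · exact RingHom.congr_fun (hg i j h) x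
    · exact hsurj a
    · exact hker i x hx
  obtain ⟨A₀, B₀, _, _, hfg, het, ⟨e⟩⟩ := Algebra.Etale.exists_subalgebra_fg ℤ A B
  haveI hft : Algebra.FiniteType ℤ A₀ := (Subalgebra.fg_iff_finiteType A₀).mp hfg
  haveI hfp : Algebra.FinitePresentation ℤ A₀ := Algebra.FinitePresentation.of_finiteType.mp hft
  obtain ⟨i, _, ψ, hψ⟩ := H.exists_factor_bare A₀ A₀.val (Classical.arbitrary ι)
  letI : Algebra (G i) A := (g i).toAlgebra
  letI : Algebra A₀ (G i) := ψ.toRingHom.toAlgebra
  haveI : IsScalarTower A₀ (G i) A := IsScalarTower.of_algebraMap_eq (fun x => by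
    have := AlgHom.congr_fun hψ x
    exact this.symm)
  refine ⟨i, (G i) ⊗[A₀] B₀, inferInstance, inferInstance, inferInstance, ?_⟩
  exact ⟨e.trans (Algebra.TensorProduct.cancelBaseChange A₀ (G i) A A B₀).symm⟩

end Groth.Agent.S19569
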