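import Groth.Statements.S19571


set_option autoImplicit false
universe u
open CategoryTheory AlgebraicGeometry
open EtaPt

namespace Groth.Agent.S19571

/-- Let f : Y → X be a morphism of schemes which is flat, surjective and locally of finite presentation.
Then every affine open U of X is covered by affine opens V each of which is the image f(W) of some
affine open W of Y; stated pointwise: for every x ∈ U there are an affine open V of X with x ∈ V ≤ U
and an affine open W of Y with f(W) = V as sets. (For such V and W the induced ring map Γ(V) → Γ(W)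
is then faithfully flat.) -/
theorem result
    {X Y : Scheme.{u}} (f : Y ⟶ X) [Flat f] [Surjective f] [LocallyOfFinitePresentation f]
    (U : X.affineOpens) (x : X) (hx : x ∈ (U : X.Opens)) :
    ∃ V : X.affineOpens, x ∈ (V : X.Opens) ∧ (V : X.Opens) ≤ (U : X.Opens) ∧
      ∃ W : Y.affineOpens, f.base '' ((W : Y.Opens) : Set Y) = ((V : X.Opens) : Set X) := by
  obtain ⟨y, hy⟩ := f.surjective x
  have hyU : y ∈ f ⁻¹ᵁ (U : X.Opens) := by
    change f.base y ∈ (U : X.Opens)
    rw [hy]; exact hx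
  obtain ⟨W₀, hW₀aff, hyW₀, hW₀le⟩ :=
    TopologicalSpace.Opens.isBasis_iff_nbhd.mp (Y.isBasis_affineOpens) hyU
  have hopen : IsOpen (f.base '' (W₀ : Set Y)) := f.isOpenMap _ W₀.isOpen
  have hxO : x ∈ (⟨f.base '' (W₀ : Set Y), hopen⟩ : X.Opens) := ⟨y, hyW₀, hy⟩
  obtain ⟨g, hgle, hxg⟩ := U.2.exists_basicOpen_le
    (V := ⟨f.base '' (W₀ : Set Y), hopen⟩) ⟨x, hxO⟩ hx
  refine ⟨⟨X.basicOpen g, U.2.basicOpen g⟩, hxg, X.basicOpen_le g, ?_⟩
  have hWeq : Y.basicOpen (Y.presheaf.map (homOfLE hW₀le).op (f.app U g)) =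
      W₀ ⊓ f ⁻¹ᵁ (X.basicOpen g) := by
    rw [Scheme.basicOpen_res, Scheme.preimage_basicOpen]
  refine ⟨⟨Y.basicOpen (Y.presheaf.map (homOfLE hW₀le).op (f.app U g)),
    IsAffineOpen.basicOpen hW₀aff _⟩, ?_⟩
  change f.base '' ((Y.basicOpen (Y.presheaf.map (homOfLE hW₀le).op (f.app U g)) : Y.Opens) :
    Set Y) = ((X.basicOpen g : X.Opens) : Set X)
  rw [hWeq]
  ext v
  constructor
  · rintro ⟨w, hw, rfl⟩
    exact hw.2
  · intro hv
    obtain ⟨w, hw, hwv⟩ := hgle hv
    refine ⟨w, ⟨hw, ?_⟩, hwv⟩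
    change f.base w ∈ X.basicOpen g
    rw [hwv]; exact hv

end Groth.Agent.S19571
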