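import Groth.Statements.S19573
import Mathlib
import Groth.Agent.Lib.TopExt3_helper9

set_option autoImplicit false
universe u
open LocInt

namespace Groth.Agent.S19573

/-- The first sentence of the lemma together with the description of the closed subscheme Z given in its
proof, in the local model. Let R be a commutative ring, n ≥ 1, a ∈ R^n, and F = R^n / R·a the
cokernel of R → R^n, 1 ↦ a (the zeroth homology of the two-term complex R → R^n). Then the
annihilator ideal of the top exterior power ⋀^n F is the ideal generated by the coordinates a_1, …,
a_n of a, and at every prime p of R off the closed set V(a_1, …, a_n) the module F is free of rank n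
− 1 after localization at p. (The published statement is for a complex on a scheme which is locally
quasi-isomorphic to such a two-term complex L → E with L invertible and E locally free of rank n,
and says that H^0 restricted to the complement of the closed subscheme cut out by the annihilator of
its n-th exterior power is locally free of rank n − 1; this row is the local model.) -/
theorem result (R : Type u) [CommRing R]
    (n : ℕ) (hn : 1 ≤ n) (a : Fin n → R) :
    (⋀[R]^n ((Fin n → R) ⧸ Submodule.span R {a})).annihilator = Ideal.span (Set.range a) ∧
    ∀ p : PrimeSpectrum R, ¬ Ideal.span (Set.range a) ≤ p.asIdeal →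
      p ∈ Module.freeLocus R ((Fin n → R) ⧸ Submodule.span R {a}) ∧
      Module.rankAtStalk ((Fin n → R) ⧸ Submodule.span R {a}) p = n - 1 := by

  classical
  obtain ⟨q, rfl⟩ : ∃ q, n = q + 1 := ⟨n - 1, by omega⟩
  refine ⟨Groth.Agent.TopExt9.annihilator_top_ext q a, ?_⟩
  intro p hp
  obtain ⟨i, hi⟩ : ∃ i, a i ∉ p.asIdeal := by
    by_contra hcon
    push Not at hcon
    apply hp
    rw [Ideal.span_le]
    rintro _ ⟨i, rfl⟩
    exact hcon i
  have hai : a i ∈ p.asIdeal.primeCompl := hi
  let f := Groth.Agent.TopExt9.psiBar p.asIdeal.primeCompl (Localization.AtPrime p.asIdeal) a i hai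
  haveI : IsLocalizedModule p.asIdeal.primeCompl f :=
    Groth.Agent.TopExt9.psiBar_isLocalizedModule _ _ a i hai
  constructor
  · exact (Module.mem_freeLocus_of_isLocalization p (Localization.AtPrime p.asIdeal)
      ({j : Fin (q + 1) // j ≠ i} → Localization.AtPrime p.asIdeal) f).2 inferInstance
  · rw [Module.rankAtStalk_eq_finrank_tensorProduct]
    have e := (IsLocalizedModule.isBaseChange p.asIdeal.primeCompl
      (Localization.AtPrime p.asIdeal) f).equiv
    rw [e.finrank_eq, Module.finrank_fintype_fun_eq_card]
    have : Fintype.card {j : Fin (q + 1) // j ≠ i} = Fintype.card (Fin (q + 1)) - 1 :=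
      Set.card_ne_eq i
    rw [this, Fintype.card_fin]

end Groth.Agent.S19573
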