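import Groth.Statements.S1959
import Mathlib

set_option autoImplicit false
universe u
open Polynomial
open EtAlg

namespace Groth.Agent.S1959

/-- Let I be an ideal of a ring A, A -> B an integral ring map and b an element of B whose image in B/IB
is idempotent. Then there are d ≥ 1 and a monic polynomial f over A with f(b) = 0 whose reduction
modulo I is x^d (x - 1)^d. -/
theorem result (A B : Type u) [CommRing A] [CommRing B] [Algebra A B]
    [Algebra.IsIntegral A B] (I : Ideal A) (b : B)
    (hb : IsIdempotentElem (Ideal.Quotient.mk (I.map (algebraMap A B)) b)) :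
    ∃ (f : A[X]) (d : ℕ), f.Monic ∧ 1 ≤ d ∧ aeval b f = 0 ∧
      f.map (Ideal.Quotient.mk I) = X ^ d * (X - 1) ^ d := by
  classical
  rcases subsingleton_or_nontrivial A with hsA | hntA
  · haveI : Subsingleton (A ⧸ I) := (Ideal.Quotient.mk_surjective (I := I)).subsingleton
    refine ⟨0, 1, Subsingleton.elim _ _, le_refl 1, map_zero _, ?_⟩
    ext n
    exact Subsingleton.elim _ _
  have hmem : b * b - b ∈ I.map (algebraMap A B) := by
    rw [← Ideal.Quotient.eq_zero_iff_mem, map_sub, map_mul, hb.eq, sub_self]
  rw [Ideal.map, Ideal.span, Finsupp.mem_span_image_iff_linearCombination] at hmem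
  obtain ⟨l, hl, hsum⟩ := hmem
  obtain ⟨B', hB'⟩ : ∃ B' : Subalgebra A B,
      B' = Algebra.adjoin A ((insert b (l.support.image l) : Finset B) : Set B) := ⟨_, rfl⟩
  have hfg : Module.Finite A B' := by
    rw [hB']
    exact ⟨(Submodule.fg_top _).mpr
      (fg_adjoin_of_finite (Finset.finite_toSet _) (fun x _ => Algebra.IsIntegral.isIntegral x))⟩
  have hbB' : b ∈ B' := by
    rw [hB']; exact Algebra.subset_adjoin (by simp)
  have hlB' : ∀ a ∈ l.support, l a ∈ B' := by
    intro a ha
    rw [hB']
    apply Algebra.subset_adjoin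
    simp only [Finset.coe_insert, Finset.coe_image, Set.mem_insert_iff, Set.mem_image,
      Finset.mem_coe]
    exact Or.inr ⟨a, ha, rfl⟩
  let y : A → B' := fun a => if h : l a ∈ B' then ⟨l a, h⟩ else 0
  have hy : ∀ a ∈ l.support, (y a : B) = l a := by
    intro a ha
    simp only [y, dif_pos (hlB' a ha)]
  obtain ⟨c', hc'⟩ : ∃ c' : B', c' = ∑ a ∈ l.support, a • y a := ⟨_, rfl⟩
  have hc'B : (c' : B) = b * b - b := by
    rw [hc', ← hsum, Finsupp.linearCombination_apply, Finsupp.sum]
    rw [AddSubmonoidClass.coe_finsetSum]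
    apply Finset.sum_congr rfl
    intro a ha
    rw [Subalgebra.coe_smul, hy a ha, Algebra.smul_def, smul_eq_mul, mul_comm]
  have hI : LinearMap.range (Algebra.lmul A B' c') ≤ I • (⊤ : Submodule A B') := by
    rintro _ ⟨x, rfl⟩
    have hx : Algebra.lmul A B' c' x = ∑ a ∈ l.support, a • (y a * x) := by
      show c' * x = _
      rw [hc', Finset.sum_mul]
      apply Finset.sum_congr rfl
      intro a _
      rw [smul_mul_assoc]
    rw [hx]
    apply Submodule.sum_mem
    intro a ha
    exact Submodule.smul_mem_smul (hl ha) Submodule.mem_top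
  obtain ⟨p, hpmonic, -, hpcoeff, hpeval⟩ :=
    LinearMap.exists_monic_and_natDegree_eq_and_coeff_mem_pow_and_aeval_eq_zero A
      (Algebra.lmul A B' c') I hI
  have hev' : aeval c' p = 0 := by
    have h1 : aeval (Algebra.lmul A B' c') p = Algebra.lmul A B' (aeval c' p) :=
      Polynomial.aeval_algHom_apply (Algebra.lmul A B') c' p
    have h2 := LinearMap.congr_fun hpeval (1 : B')
    rw [h1] at h2
    have h3 : aeval c' p * 1 = 0 := h2
    rwa [mul_one] at h3
  have hev : aeval (b * b - b) p = 0 := by
    rw [← hc'B, ← Polynomial.aeval_subalgebra_coe, hev']; rfl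
  have hq : (X * (X - C (1 : A)) : A[X]).Monic := monic_X.mul (monic_X_sub_C 1)
  have hqdeg : (X * (X - C (1 : A)) : A[X]).natDegree ≠ 0 := by
    rw [Monic.natDegree_mul monic_X (monic_X_sub_C 1), natDegree_X, natDegree_X_sub_C]
    norm_num
  have hqev : aeval b (X * (X - C (1 : A)) : A[X]) = b * b - b := by
    simp; ring
  have hqmap : (X * (X - C (1 : A)) : A[X]).map (Ideal.Quotient.mk I) = X * (X - 1) := by
    simp
  by_cases hd : p.natDegree = 0
  · have hp1 : p = 1 := Polynomial.eq_one_of_monic_natDegree_zero hpmonic hd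
    rw [hp1] at hev
    have h10 : (1 : B) = 0 := by simpa using hev
    have hsub : Subsingleton B := subsingleton_of_zero_eq_one h10.symm
    refine ⟨X * (X - C (1 : A)), 1, hq, le_refl 1, Subsingleton.elim _ _, ?_⟩
    rw [hqmap, pow_one, pow_one]
  · refine ⟨p.comp (X * (X - C (1 : A))), p.natDegree, hpmonic.comp hq hqdeg,
      Nat.one_le_iff_ne_zero.mpr hd, ?_, ?_⟩
    · rw [Polynomial.aeval_comp, hqev, hev]
    · rw [Polynomial.map_comp, hqmap]
      have hpm : p.map (Ideal.Quotient.mk I) = X ^ p.natDegree := by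
        ext k
        rw [coeff_map, coeff_X_pow]
        by_cases hk : k = p.natDegree
        · rw [if_pos hk, hk, hpmonic.coeff_natDegree, map_one]
        · rw [if_neg hk]
          rcases lt_or_gt_of_ne hk with hlt | hgt
          · rw [Ideal.Quotient.eq_zero_iff_mem]
            have h1 := hpcoeff k
            have h2 : I ^ (p.natDegree - k) ≤ I := Ideal.pow_le_self (by omega)
            exact h2 h1
          · rw [coeff_eq_zero_of_natDegree_lt hgt, map_zero]
      rw [hpm, X_pow_comp, mul_pow]

end Groth.Agent.S1959
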