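import Groth.Statements.S19591
import Mathlib

set_option autoImplicit false
universe u v
open BddFin

namespace Groth.Agent.S19591

/-- Let K be a perfect field of characteristic 2, V a finite-dimensional K-vector space with dim V > 2
and q a quadratic form on V whose polar bilinear form is non-degenerate. Then q represents zero
non-trivially. (Non-degeneracy of the polar form, which is alternating in characteristic 2, forces
dim V to be even, as the published lemma notes.) -/
theorem result
    (K : Type u) [Field K] [CharP K 2] [PerfectField K]
    (V : Type v) [AddCommGroup V] [Module K V] [FiniteDimensional K V]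
    (hV : 2 < Module.finrank K V) (q : QuadraticForm K V)
    (hq : (QuadraticMap.polarBilin q).Nondegenerate) :
    ∃ v : V, v ≠ 0 ∧ q v = 0 := by
  classical
  haveI : ExpChar K 2 := ExpChar.prime Nat.prime_two
  haveI : PerfectRing K 2 := PerfectField.toPerfectRing 2
  have h2 : (2 : K) = 0 := CharTwo.two_eq_zero
  have hnt : Nontrivial V := Module.nontrivial_of_finrank_pos (R := K) (by omega)
  obtain ⟨x, hx⟩ := exists_ne (0 : V)
  by_cases hqx : q x = 0
  · exact ⟨x, hx, hqx⟩
  set φ : V →ₗ[K] K := QuadraticMap.polarBilin q x with hφ
  have hφx : φ x = 0 := by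
    rw [hφ, QuadraticMap.polarBilin_apply_apply, QuadraticMap.polar]
    have : x + x = (2 : K) • x := (two_smul K x).symm
    rw [this, h2, zero_smul, QuadraticMap.map_zero]
    rw [zero_sub, ← neg_add', ← two_mul, h2, zero_mul, neg_zero]
  have hker : 2 ≤ Module.finrank K (LinearMap.ker φ) := by
    have h1 := LinearMap.finrank_range_add_finrank_ker φ
    have h3 : Module.finrank K (LinearMap.range φ) ≤ 1 := by
      calc Module.finrank K (LinearMap.range φ) ≤ Module.finrank K K := Submodule.finrank_le _
        _ = 1 := Module.finrank_self K
    omega
  have : ∃ y ∈ LinearMap.ker φ, y ∉ Submodule.span K {x} := by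
    by_contra hcon
    push Not at hcon
    have hle : LinearMap.ker φ ≤ Submodule.span K {x} := hcon
    have := Submodule.finrank_mono hle
    rw [finrank_span_singleton hx] at this
    omega
  obtain ⟨y, hyk, hyx⟩ := this
  obtain ⟨a, ha⟩ := surjective_frobenius K 2 (q y / q x)
  rw [frobenius_def] at ha
  refine ⟨a • x + y, ?_, ?_⟩
  · intro h0
    apply hyx
    have : y = (-a) • x := by
      rw [neg_smul]
      exact eq_neg_of_add_eq_zero_right h0
    rw [this]
    exact Submodule.smul_mem _ _ (Submodule.mem_span_singleton_self x)
  · have hpol : QuadraticMap.polar q (a • x) y = 0 := by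
      rw [QuadraticMap.polar_smul_left]
      have : QuadraticMap.polar q x y = 0 := by
        have := LinearMap.mem_ker.mp hyk
        rwa [hφ, QuadraticMap.polarBilin_apply_apply] at this
      rw [this, smul_zero]
    have hadd : q (a • x + y) = q (a • x) + q y + QuadraticMap.polar q (a • x) y := by
      rw [QuadraticMap.polar]; ring
    rw [hadd, hpol, add_zero, QuadraticMap.map_smul, smul_eq_mul, ← pow_two, ha,
      div_mul_cancel₀ _ hqx, ← two_mul, h2, zero_mul]

end Groth.Agent.S19591
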