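import Groth.Statements.S19603
import Groth.Agent.Lib.GradedInv_helper9

set_option autoImplicit false
universe u
open GIT

open Groth.Agent.Lib.GradedInv_helper9 Groth.Agent.Lib.InvRey_helper9 Groth.Agent.Lib.LinRed_helper9
namespace Groth.Agent.S19603

/-- For the whole projective space U = P(V), let k be an algebraically closed field of arbitrary
characteristic and G = Spec A a linearly reductive affine algebraic group acting linearly on affine
ι-space, and let v be a vector. Then some invariant homogeneous polynomial of positive degree is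
non-zero at v (the point of v is semistable) if and only if the origin is not in the closure of the
orbit of v. -/
theorem result (k : Type u) [Field k] [IsAlgClosed k]
    (A : Type u) [CommRing A] [HopfAlgebra k A] [Algebra.FiniteType k A] (hG : HopfRep.IsLinearlyReductive k A)
    (ι : Type u) [Fintype ι] [HopfRep.Comod k A (MvPolynomial ι k)] [GLin.IsCoactAlg k A (MvPolynomial ι k)]
    (hlin : GLin.IsLinear k A ι) (v : ι → k) :
    GLin.IsSemistableVec k A v ↔
      ¬ GLin.InOrbitClosure k A (GLin.vecPt k ι v) (GLin.vecPt k ι (fun _ => (0 : k))) := by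
  classical
  have hlinQ : ∀ i : ι, HopfRep.Comod.coact (k := k) (A := A)
      (MvPolynomial.X i : MvPolynomial ι k) ∈ Q k A ι 1 := mem_Q_one_of_isLinear k A ι hlin
  obtain ⟨β, hβ, h1⟩ := exists_leftIntegral k A hG
  have hxe : ∀ (w : ι → k) (p : MvPolynomial ι k), GLin.vecPt k ι w p = MvPolynomial.eval w p :=
    fun w p => rfl
  constructor
  · intro hss hclos
    apply hss
    intro F hF d hd hhom
    have h2 := apply_eq_of_inOrbitClosure k A (MvPolynomial ι k) _ _ hclos F hF
    rw [← hxe, ← h2]
    show MvPolynomial.aeval (fun _ => (0 : k)) F = 0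
    rw [MvPolynomial.aeval_zero', MvPolynomial.constantCoeff_eq,
      hhom.coeff_eq_zero (d := 0) (by simpa using hd.ne), map_zero]
  · intro hclos hnull
    have hclos' : ¬ (RingHom.ker (GLin.orbitHom k A (GLin.vecPt k ι v)) ≤
        RingHom.ker (GLin.vecPt k ι (fun _ => (0 : k)))) := hclos
    obtain ⟨h, hh, hz⟩ := SetLike.not_le_iff_exists.mp hclos'
    obtain ⟨F, hFdef⟩ : ∃ F, F = rey k A β (MvPolynomial ι k) h := ⟨_, rfl⟩
    have hFfix : F ∈ HopfRep.fixedPts k A (MvPolynomial ι k) := by
      rw [hFdef]; exact rey_mem_fixedPts k A β (MvPolynomial ι k) hβ h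
    have hFker : F ∈ RingHom.ker (GLin.orbitHom k A (GLin.vecPt k ι v)) := by
      rw [hFdef]
      exact rey_mem_of_isSubcomod k A β (MvPolynomial ι k) _
        (isSubcomod_ker_orbitHom k A (MvPolynomial ι k) (GLin.vecPt k ι v)) h hh
    have hxF : GLin.vecPt k ι v F = 0 := by
      rw [← counit_orbitHom k A (MvPolynomial ι k) (GLin.vecPt k ι v) F,
        (RingHom.mem_ker).mp hFker, map_zero]
    have hc0 : MvPolynomial.homogeneousComponent 0 F = MvPolynomial.C (MvPolynomial.coeff 0 h) := by
      have h3 := rey_natural k A β (MvPolynomial ι k)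
        (MvPolynomial.homogeneousComponent 0 : MvPolynomial ι k →ₗ[k] MvPolynomial ι k)
        (isComodHom_hc k A ι hlinQ 0) h
      rw [hFdef, h3, MvPolynomial.homogeneousComponent_zero]
      apply rey_of_mem_fixedPts k A β (MvPolynomial ι k) h1
      rw [← MvPolynomial.algebraMap_eq, Algebra.algebraMap_eq_smul_one]
      exact Submodule.smul_mem _ _ (one_mem_fixedPts k A (MvPolynomial ι k))
    have hcne : MvPolynomial.coeff 0 h ≠ 0 := by
      intro h0
      apply hz
      rw [RingHom.mem_ker]
      show MvPolynomial.aeval (fun _ => (0 : k)) h = 0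
      rw [MvPolynomial.aeval_zero', MvPolynomial.constantCoeff_eq, h0, map_zero]
    have hsum : GLin.vecPt k ι v F = ∑ i ∈ Finset.range (F.totalDegree + 1),
        GLin.vecPt k ι v (MvPolynomial.homogeneousComponent i F) := by
      conv_lhs => rw [← MvPolynomial.sum_homogeneousComponent F]
      rw [map_sum]
    rw [Finset.sum_range_succ', hc0] at hsum
    have hzero : ∑ i ∈ Finset.range F.totalDegree,
        GLin.vecPt k ι v (MvPolynomial.homogeneousComponent (i + 1) F) = 0 := by
      refine Finset.sum_eq_zero (fun i _ => ?_)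
      rw [hxe]
      exact hnull _ (hc_mem_fixedPts k A ι hlinQ (i + 1) F hFfix) (i + 1) (Nat.succ_pos i)
        (MvPolynomial.homogeneousComponent_isHomogeneous (i + 1) F)
    rw [hzero, zero_add, hxF] at hsum
    apply hcne
    have h5 : GLin.vecPt k ι v (MvPolynomial.C (MvPolynomial.coeff 0 h)) = MvPolynomial.coeff 0 h := by
      show MvPolynomial.aeval v (MvPolynomial.C (MvPolynomial.coeff 0 h)) = _
      rw [MvPolynomial.aeval_C]; rfl
    rw [← h5, ← hsum]

end Groth.Agent.S19603
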