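import Groth.Statements.S19605
import Mathlib
import Groth.Agent.Lib.CMMul1_helper9
import Groth.Agent.S0022

set_option autoImplicit false
universe u
open CategoryTheory CategoryTheory.Limits AlgebraicGeometry
open Variety

namespace Groth.Agent.S19605

/-- Let F be an m-regular coherent module on projective n-space over a field k. Then for all integers d
≥ m and e ≥ 0 the multiplication map H^0(F(d)) ⊗_k H^0(O(e)) → H^0(F(d+e)) is surjective. The target
is written as the global sections of F(d) ⊗ O(e) and the map as the canonical map from the global
sections of the sectionwise tensor product presheaf (these are H^0(F(d)) ⊗ H^0(O(e)), the tensor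
being over the global functions, a field) to the global sections of its sheafification. -/
theorem result (k : Type u) [Field k] (n : ℕ)
    (F : (CohB1.ProjSpace n k).Modules) (hF : Coh.IsCoh F) (m d : ℤ) (hd : m ≤ d) (h : Curv2.IsMRegular k n F m)
    (e : ℕ) :
    Function.Surjective
      ((toSheafify (Opens.grothendieckTopology (CohB1.ProjSpace n k))
        (CohB1.tensorPre (CohB1.tensorMod F (Twist.twistProjSpace n k d))
          (Twist.twistProjSpace n k (e : ℤ))).presheaf).app (Opposite.op ⊤)) := by
  have h' : ∀ q : ℕ, 1 ≤ q → Subsingleton (Coh.HH (CohB1.ProjSpace n k)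
      (CohB1.tensorMod F (Groth.Agent.ProjTens.OO n k (m - q))) q) := by
    intro q hq
    by_cases hqn : q ≤ n
    · exact h q hq hqn
    · haveI := Groth.Agent.ProjTens.isQCoh_twistBy n k F hF.1 (m - q)
      exact Groth.Agent.S0022.result n k _ q (by omega)
  have hs := Groth.Agent.CMMul.mul_surjective n k F m d hd h' e
  intro z
  obtain ⟨p, hp⟩ := hs z
  exact ⟨p, hp⟩

end Groth.Agent.S19605
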