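import Groth.Statements.S19609
import Mathlib

set_option autoImplicit false
universe u
open CartMod

namespace Groth.Agent.S19609

/-- Let p be a prime and u : A → B a ring homomorphism between commutative rings which are complete and
separated for the p-adic topology and have no p-torsion (flat over the p-adic base). If u induces a
bijection A/pA → B/pB (injectivity: u a ∈ pB forces a ∈ pA; surjectivity: every b ∈ B is congruent
to some u a modulo pB), then u is bijective. (The published statement is for a morphism of flat
p-adic formal schemes over the Witt vectors of a perfect field: if its special fibre is an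
isomorphism, so is the morphism; this row is its affine, ring-level case.) -/
theorem result (p : ℕ) [Fact p.Prime]
    {A B : Type u} [CommRing A] [CommRing B]
    [IsAdicComplete (Ideal.span {(p : A)}) A] [IsAdicComplete (Ideal.span {(p : B)}) B]
    (hA : IsSMulRegular A (p : A)) (hB : IsSMulRegular B (p : B)) (u : A →+* B)
    (hinj : ∀ a : A, u a ∈ Ideal.span {(p : B)} → a ∈ Ideal.span {(p : A)})
    (hsurj : ∀ b : B, ∃ a : A, b - u a ∈ Ideal.span {(p : B)}) :
    Function.Bijective u := by
  have hmapI : (Ideal.span {(p : A)}).map u = Ideal.span {(p : B)} := by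
    rw [Ideal.map_span, Set.image_singleton, map_natCast]
  constructor
  · -- injectivity
    rw [injective_iff_map_eq_zero]
    intro a ha
    have hdiv : ∀ n : ℕ, ∃ c : A, a = (p : A) ^ n * c := by
      intro n
      induction n with
      | zero => exact ⟨a, by simp⟩
      | succ n ih =>
        obtain ⟨c, hc⟩ := ih
        have huc : u c = 0 := by
          have h1 : (p : B) ^ n * u c = 0 := by
            rw [← ha, hc, map_mul, map_pow, map_natCast]
          have hreg : IsSMulRegular B ((p : B) ^ n) := hB.pow n
          have := hreg (show ((p : B) ^ n) • u c = ((p : B) ^ n) • (0 : B) by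
            rw [smul_eq_mul, smul_eq_mul, h1, mul_zero])
          exact this
        have hcp : c ∈ Ideal.span {(p : A)} := hinj c (by rw [huc]; exact Ideal.zero_mem _)
        obtain ⟨c', hc'⟩ := Ideal.mem_span_singleton'.mp hcp
        exact ⟨c', by rw [hc, ← hc', pow_succ]; ring⟩
    have hA' : IsHausdorff (Ideal.span {(p : A)}) A := inferInstance
    apply hA'.haus' a
    intro n
    rw [SModEq.zero, smul_eq_mul, Ideal.mul_top, Ideal.span_singleton_pow]
    obtain ⟨c, hc⟩ := hdiv n
    rw [hc]
    exact Ideal.mul_mem_right _ _ (Ideal.subset_span rfl)
  · -- surjectivity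
    haveI : IsHausdorff ((Ideal.span {(p : A)}).map u) B := by
      rw [hmapI]; infer_instance
    apply surjective_of_mk_map_comp_surjective (I := Ideal.span {(p : A)}) u
    intro y
    obtain ⟨b, rfl⟩ := Ideal.Quotient.mk_surjective y
    obtain ⟨a, ha⟩ := hsurj b
    refine ⟨a, ?_⟩
    simp only [RingHom.comp_apply]
    rw [Ideal.Quotient.eq, hmapI]
    have : u a - b = -(b - u a) := by ring
    rw [this]
    exact Ideal.neg_mem_iff _ |>.mpr ha

end Groth.Agent.S19609
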