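import Groth.Statements.S19612
import Mathlib

set_option autoImplicit false
universe u
open scoped TensorProduct
open CartMod

namespace Groth.Agent.S19612

/-- Let k be a perfect field of characteristic p, W = W(k) the ring of Witt vectors of k, and A a
commutative W-algebra which is complete and separated for the p-adic topology (an adic W-algebra).
Then flatness of A over W is equivalent to flatness of A/p^nA = (W/p^nW) ⊗_W A over W/p^nW for every
n ≥ 1. -/
theorem result (p : ℕ) [Fact p.Prime] (k : Type u) [Field k]
    [CharP k p] [PerfectRing k p] (A : Type u) [CommRing A] [Algebra (WittVector p k) A]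
    [IsAdicComplete (Ideal.span {(p : WittVector p k)}) A] :
    Module.Flat (WittVector p k) A ↔
      ∀ n : ℕ, 1 ≤ n →
        Module.Flat (WittVector p k ⧸ (Ideal.span {(p : WittVector p k)} ^ n))
          ((WittVector p k ⧸ (Ideal.span {(p : WittVector p k)} ^ n)) ⊗[WittVector p k] A) := by
  classical
  constructor
  · intro hflat n _
    infer_instance
  · intro hall
    have hp0 : (p : WittVector p k) ≠ 0 := WittVector.p_nonzero p k
    -- elements of the base change are of the form 1 ⊗ a
    have hform : ∀ (n : ℕ) (t : (WittVector p k ⧸ (Ideal.span {(p : WittVector p k)} ^ n))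
        ⊗[WittVector p k] A), ∃ a' : A, t = 1 ⊗ₜ[WittVector p k] a' := by
      intro n t
      induction t using TensorProduct.induction_on with
      | zero => exact ⟨0, by simp⟩
      | tmul r a =>
        obtain ⟨w, rfl⟩ := Ideal.Quotient.mk_surjective r
        refine ⟨w • a, ?_⟩
        rw [← TensorProduct.smul_tmul]
        congr 1
        rw [Algebra.smul_def, mul_one]
        rfl
      | add t₁ t₂ h₁ h₂ =>
        obtain ⟨a₁, rfl⟩ := h₁
        obtain ⟨a₂, rfl⟩ := h₂
        exact ⟨a₁ + a₂, by rw [TensorProduct.tmul_add]⟩
    -- key: p-torsion lies in every power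
    have key : ∀ x : A, (p : WittVector p k) • x = 0 →
        ∀ n : ℕ, x ∈ (Ideal.span {(p : WittVector p k)} ^ n • ⊤ : Submodule (WittVector p k) A) := by
      intro x hx n
      haveI := hall (n + 1) (by omega)
      have hrel : ∑ i : Fin 1,
          (fun _ : Fin 1 => (Ideal.Quotient.mk (Ideal.span {(p : WittVector p k)} ^ (n + 1))
            (p : WittVector p k))) i •
          (fun _ : Fin 1 => ((1 : WittVector p k ⧸ (Ideal.span {(p : WittVector p k)} ^ (n + 1)))
            ⊗ₜ[WittVector p k] x)) i = 0 := by
        rw [Fin.sum_univ_one]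
        rw [TensorProduct.smul_tmul', smul_eq_mul, mul_one]
        have : (Ideal.Quotient.mk (Ideal.span {(p : WittVector p k)} ^ (n + 1)) (p : WittVector p k)) =
            (p : WittVector p k) • (1 : WittVector p k ⧸ (Ideal.span {(p : WittVector p k)} ^ (n + 1))) := by
          rw [Algebra.smul_def, mul_one]; rfl
        rw [this, TensorProduct.smul_tmul, hx, TensorProduct.tmul_zero]
      obtain ⟨k', a, y, hxy, hay⟩ := Module.Flat.isTrivialRelation_of_sum_smul_eq_zero hrel
      -- each a 0 j is a multiple of p^n
      have haj : ∀ j, ∃ b : WittVector p k ⧸ (Ideal.span {(p : WittVector p k)} ^ (n + 1)),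
          a 0 j = Ideal.Quotient.mk _ ((p : WittVector p k) ^ n) * b := by
        intro j
        have h1 := hay j
        rw [Fin.sum_univ_one] at h1
        obtain ⟨w, hw⟩ := Ideal.Quotient.mk_surjective (a 0 j)
        rw [← hw, ← map_mul, Ideal.Quotient.eq_zero_iff_mem, Ideal.span_singleton_pow,
          Ideal.mem_span_singleton'] at h1
        obtain ⟨v, hv⟩ := h1
        have h2 : w = (p : WittVector p k) ^ n * v := by
          have : (p : WittVector p k) * w = (p : WittVector p k) * ((p : WittVector p k) ^ n * v) := by
            rw [← hv, pow_succ]; ring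
          exact mul_left_cancel₀ hp0 this
        exact ⟨Ideal.Quotient.mk _ v, by rw [← hw, h2, map_mul]⟩
      choose b hb using haj
      obtain ⟨a', ha'⟩ := hform (n + 1) (∑ j, b j • y j)
      have h3 : ((1 : WittVector p k ⧸ (Ideal.span {(p : WittVector p k)} ^ (n + 1)))
          ⊗ₜ[WittVector p k] x) = 1 ⊗ₜ[WittVector p k] (((p : WittVector p k) ^ n) • a') := by
        have h4 := hxy 0
        simp only at h4
        rw [h4]
        have : ∑ j, a 0 j • y j = Ideal.Quotient.mk (Ideal.span {(p : WittVector p k)} ^ (n + 1))
            ((p : WittVector p k) ^ n) • ∑ j, b j • y j := by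
          rw [Finset.smul_sum]
          apply Finset.sum_congr rfl
          intro j _
          rw [hb j, mul_smul]
        rw [this, ha', TensorProduct.smul_tmul', smul_eq_mul, mul_one]
        have h5 : (Ideal.Quotient.mk (Ideal.span {(p : WittVector p k)} ^ (n + 1))
            ((p : WittVector p k) ^ n)) = ((p : WittVector p k) ^ n) •
            (1 : WittVector p k ⧸ (Ideal.span {(p : WittVector p k)} ^ (n + 1))) := by
          rw [Algebra.smul_def, mul_one]; rfl
        rw [h5, TensorProduct.smul_tmul]
      have h6 := congrArg (TensorProduct.quotTensorEquivQuotSMul A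
        (Ideal.span {(p : WittVector p k)} ^ (n + 1))) h3
      rw [TensorProduct.quotTensorEquivQuotSMul_mk_one_tmul,
        TensorProduct.quotTensorEquivQuotSMul_mk_one_tmul, Submodule.Quotient.eq] at h6
      have hle : (Ideal.span {(p : WittVector p k)} ^ (n + 1) • ⊤ : Submodule (WittVector p k) A) ≤
          Ideal.span {(p : WittVector p k)} ^ n • ⊤ :=
        Submodule.smul_mono_left (Ideal.pow_le_pow_right (Nat.le_succ n))
      have h7 : ((p : WittVector p k) ^ n) • a' ∈
          (Ideal.span {(p : WittVector p k)} ^ n • ⊤ : Submodule (WittVector p k) A) :=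
        Submodule.smul_mem_smul (Ideal.pow_mem_pow (Ideal.subset_span (Set.mem_singleton _)) n) Submodule.mem_top
      have h8 := Submodule.add_mem _ (hle h6) h7
      rw [sub_add_cancel] at h8
      exact h8
    have hptf : ∀ x : A, (p : WittVector p k) • x = 0 → x = 0 := by
      intro x hx
      have hH : IsHausdorff (Ideal.span {(p : WittVector p k)}) A := inferInstance
      apply hH.haus' x
      intro n
      rw [SModEq.zero]
      exact key x hx n
    have hpow : ∀ (m : ℕ) (x : A), ((p : WittVector p k) ^ m) • x = 0 → x = 0 := by
      intro m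
      induction m with
      | zero =>
        intro x hx
        rw [pow_zero, one_smul] at hx
        exact hx
      | succ m ih =>
        intro x hx
        apply ih
        apply hptf
        rw [← mul_smul, ← pow_succ']
        exact hx
    rw [Module.Flat.flat_iff_torsion_eq_bot_of_isBezout, Submodule.eq_bot_iff]
    intro x hx
    obtain ⟨a, ha⟩ := (Submodule.mem_torsion_iff x).mp hx
    have ha0 : (a : WittVector p k) ≠ 0 := nonZeroDivisors.ne_zero a.2
    obtain ⟨m, b, hab⟩ := WittVector.exists_eq_pow_p_mul' (a : WittVector p k) ha0
    have h1 : ((p : WittVector p k) ^ m) • ((b : WittVector p k) • x) = 0 := by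
      rw [← mul_smul, ← hab]; exact ha
    have h2 : (b : WittVector p k) • x = 0 := hpow m _ h1
    have h3 : x = ((b⁻¹ : (WittVector p k)ˣ) : WittVector p k) • ((b : WittVector p k) • x) := by
      rw [← mul_smul, Units.inv_mul, one_smul]
    rw [h3, h2, smul_zero]

end Groth.Agent.S19612
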