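import Groth.Statements.S19613
import Groth.Agent.Lib.NilAff3_helper8

set_option autoImplicit false
universe u
open CategoryTheory AlgebraicGeometry TopologicalSpace
open CartMod

namespace Groth.Agent.S19613

/-- Let u : T → U be an affine morphism of schemes and i : T → T♮ a nilpotent closed immersion (its
ideal has a vanishing power), so that |T♮| = |T|; let g : |T♮| → |U| be the continuous map
underlying u, and v : (T♮, O_{T♮}) → (U, g_*O_{T♮}) the induced morphism of ringed spaces (identity
on structure rings), with direct image v_* (sections over g⁻¹ of an open) and inverse image v^* its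
left adjoint. Then the restriction of v_* to quasi-coherent O_{T♮}-modules is exact; since v_* is a
right adjoint, the content is that v_* of an epimorphism between quasi-coherent O_{T♮}-modules is an
epimorphism of sheaves of g_*O_{T♮}-modules on U, which is what is stated. -/
theorem result
    {T Tc U : Scheme.{u}} (i : T ⟶ Tc) [IsClosedImmersion i]
    (hnil : ∃ n : ℕ, ∀ V : Tc.affineOpens, i.ker.ideal V ^ n = ⊥)
    (u : T ⟶ U) [IsAffineHom u] (g : Tc.carrier ⟶ U.carrier) (hg : i.base ≫ g = u.base)
    (M N : Tc.Modules) [M.IsQuasicoherent] [N.IsQuasicoherent] (φ : M ⟶ N) [Epi φ] :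
    Epi ((SheafOfModules.pushforward (F := Opens.map g) (R := Tc.ringCatSheaf)
      (𝟙 (((Opens.map g).sheafPushforwardContinuous RingCat.{u} (Opens.grothendieckTopology U)
        (Opens.grothendieckTopology Tc)).obj Tc.ringCatSheaf))).map φ) := by
  constructor
  intro H a b hab
  apply SheafOfModules.hom_ext
  apply PresheafOfModules.hom_ext
  intro W
  ext x
  obtain ⟨W⟩ := W
  -- locality in `H`
  have hloc : ∀ (s t : H.val.obj (Opposite.op W)),
      (∀ y ∈ W, ∃ (W' : Opens U) (hW' : W' ≤ W), y ∈ W' ∧
        H.val.map (homOfLE hW').op s = H.val.map (homOfLE hW').op t) → s = t := by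
    intro s t h
    choose W' hW' hy hst using h
    exact TopCat.Sheaf.eq_of_locally_eq' (F := ⟨H.val.presheaf, H.isSheaf⟩)
      (fun y : {y // y ∈ W} => W' y.1 y.2) W (fun y => homOfLE (hW' y.1 y.2))
      (fun y hyW => Opens.mem_iSup.mpr ⟨⟨y, hyW⟩, hy y hyW⟩) s t
      (fun y => hst y.1 y.2)
  apply hloc
  intro y hy
  obtain ⟨W', hW'aff, hyW', hW'W⟩ := Opens.isBasis_iff_nbhd.mp U.isBasis_affineOpens hy
  refine ⟨W', hW'W, hyW', ?_⟩
  have e : i ⁻¹ᵁ ((Opens.map g).obj W') = u ⁻¹ᵁ W' := by
    ext z
    show g (i.base z) ∈ W' ↔ u.base z ∈ W'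
    rw [← hg]
    rfl
  have haff : IsAffineOpen ((Opens.map g).obj W') := by
    apply NilAffH8.isAffineOpen_of_nilpotent i hnil
    rw [e]
    exact IsAffineHom.isAffine_preimage (f := u) W' hW'aff
  obtain ⟨z, hz⟩ := QCohExact.app_surjective_of_epi φ haff
    (N.val.map (homOfLE (show (Opens.map g).obj W' ≤ (Opens.map g).obj W from
      fun _ h => hW'W h)).op x)
  have hab' := congrArg (fun ψ => ψ.val.app (Opposite.op W') z) hab
  have na := PresheafOfModules.naturality_apply a.val (homOfLE hW'W).op x
  have nb := PresheafOfModules.naturality_apply b.val (homOfLE hW'W).op x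
  rw [← na, ← nb]
  have hz' : (((SheafOfModules.pushforward (F := Opens.map g) (R := Tc.ringCatSheaf)
      (𝟙 (((Opens.map g).sheafPushforwardContinuous RingCat.{u} (Opens.grothendieckTopology U)
        (Opens.grothendieckTopology Tc)).obj Tc.ringCatSheaf))).obj N).val.map
          (homOfLE hW'W).op x) =
      ((SheafOfModules.pushforward (F := Opens.map g) (R := Tc.ringCatSheaf)
      (𝟙 (((Opens.map g).sheafPushforwardContinuous RingCat.{u} (Opens.grothendieckTopology U)
        (Opens.grothendieckTopology Tc)).obj Tc.ringCatSheaf))).map φ).val.app (Opposite.op W') z :=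
    hz.symm
  rw [hz']
  exact hab'

end Groth.Agent.S19613
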