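import Groth.Statements.S19618
import Mathlib
import Groth.Agent.Lib.PropInt1_helper8

set_option autoImplicit false
universe u
open CategoryTheory CategoryTheory.Limits AlgebraicGeometry Opposite TopologicalSpace
open BlowUp

namespace Groth.Agent.S19618

/-- Let X be a locally Noetherian scheme, Y an effective Cartier divisor on X (a quasi-coherent ideal
sheaf which, near every point, is generated on some affine open by one nonzerodivisor; Y is its
support) and Z a closed integral subscheme (a closed immersion i from an integral scheme with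
generic point ξ). If Y and Z intersect properly — every point ζ of Y ∩ Z which is maximal under
generization inside Y ∩ Z satisfies dim O_{X,ζ} = codim(Y,X) + codim(Z,X), where codim(Y,X) is the
infimum over y ∈ Y of dim O_{X,y} and codim(Z,X) = dim O_{X,i(ξ)} — then Z is not contained in Y. -/
theorem result {X Z : Scheme.{u}}
    [IsLocallyNoetherian X] (𝓘 : X.IdealSheafData) (hY : BlowUp.IsEffCartierIdeal 𝓘)
    (i : Z ⟶ X) [IsClosedImmersion i] [IsIntegral Z]
    (hprop : ∀ ζ : ↥X, ζ ∈ (𝓘.support : Set ↥X) ∩ Set.range i.base →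
        (∀ ζ' : ↥X, ζ' ∈ (𝓘.support : Set ↥X) ∩ Set.range i.base → ζ' ⤳ ζ → ζ' = ζ) →
        ringKrullDim ↑(X.presheaf.stalk ζ) =
          (⨅ y : (𝓘.support : Set ↥X), ringKrullDim ↑(X.presheaf.stalk y.1)) +
            ringKrullDim ↑(X.presheaf.stalk (i (genericPoint ↥Z)))) :
    ¬ Set.range i.base ⊆ (𝓘.support : Set ↥X) := by
  intro hsub
  have hclosed : IsClosed (Set.range i.base) := i.isClosedEmbedding.isClosed_range
  have hzY : i.base (genericPoint Z) ∈ (𝓘.support : Set X) := hsub ⟨_, rfl⟩
  have h1 := hprop (i.base (genericPoint Z)) ⟨hzY, ⟨_, rfl⟩⟩ (by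
    rintro ζ' ⟨-, w, rfl⟩ hsp
    have h2 : i.base (genericPoint Z) ⤳ i.base w :=
      (genericPoint_specializes w).map i.base.hom.continuous
    exact (hsp.antisymm h2).eq)
  rw [PropIntH8.iInf_dim_support_eq_one 𝓘 hY _ hzY] at h1
  obtain ⟨_, ⟨U, hU : IsAffineOpen U, rfl⟩, hxU, -⟩ :=
    (X.isBasis_affineOpens).exists_subset_of_mem_open (Set.mem_univ (i.base (genericPoint Z)))
      isOpen_univ
  haveI : IsNoetherianRing Γ(X, U) := IsLocallyNoetherian.component_noetherian ⟨U, hU⟩
  rw [Groth.Agent.SchFTH8.ringKrullDim_stalk_eq_height hU _ hxU] at h1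
  haveI := (hU.primeIdealOf ⟨i.base (genericPoint Z), hxU⟩).2
  obtain ⟨n, hn⟩ := ENat.ne_top_iff_exists.mp
    (Ideal.height_ne_top_of_isPrime (I := (hU.primeIdealOf ⟨i.base (genericPoint Z), hxU⟩).asIdeal))
  rw [← hn] at h1
  have h3 : ((n : ℕ) : WithBot ℕ∞) = ((1 + n : ℕ) : WithBot ℕ∞) := by
    push_cast
    exact h1
  have h4 : n = 1 + n := by exact_mod_cast h3
  omega

end Groth.Agent.S19618
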