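import Groth.Statements.S19624
import Mathlib
import Groth.Agent.Lib.SemilinCoker_helper9

set_option autoImplicit false
universe u v
open IntTh

namespace Groth.Agent.S19624

/-- Let B be a discrete valuation ring with its normalised additive valuation v (so v(0) = ∞) and ω a
ring automorphism of B. For each i in a finite index set let M_i and N_i be free B-modules with
chosen bases indexed by one and the same finite type, and χ_i : M_i → N_i an additive map which is
ω-semilinear, χ_i(b·x) = ω(b)·χ_i(x); write A_i for the matrix of χ_i in the chosen bases. Then the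
length over B of the cokernel of the direct sum χ = ⊕_i χ_i : ⊕_i M_i → ⊕_i N_i (the quotient of ⊕_i
N_i by the submodule generated by the image of χ) equals v(∏_i det A_i); in particular both sides
are infinite exactly when some det A_i is zero. -/
theorem result {B : Type u} [CommRing B] [IsDomain B]
    [IsDiscreteValuationRing B] (ω : B ≃+* B) {n : ℕ} (r : Fin n → ℕ)
    (M N : Fin n → Type v) [∀ i, AddCommGroup (M i)] [∀ i, Module B (M i)]
    [∀ i, AddCommGroup (N i)] [∀ i, Module B (N i)]
    (bM : ∀ i, Module.Basis (Fin (r i)) B (M i)) (bN : ∀ i, Module.Basis (Fin (r i)) B (N i))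
    (χ : ∀ i, M i →+ N i) (hχ : ∀ i (b : B) (x : M i), χ i (b • x) = ω b • χ i x) :
    Module.length B ((∀ i, N i) ⧸ Submodule.span B (Set.range (fun (x : ∀ i, M i) (i : Fin n) => χ i (x i)))) =
      IsDiscreteValuationRing.addVal B (∏ i, Matrix.det
        (Matrix.of fun (a c : Fin (r i)) => (bN i).repr (χ i (bM i c)) a)) := by
  classical
  have hspan : Submodule.span B (Set.range (fun (x : ∀ i, M i) (i : Fin n) => χ i (x i))) =
      Submodule.pi Set.univ
        (fun i => Submodule.span B (Set.range (fun c => χ i (bM i c)))) := by
    apply le_antisymm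
    · rw [Submodule.span_le]
      rintro _ ⟨x, rfl⟩
      rw [SetLike.mem_coe, Submodule.mem_pi]
      intro i _
      have hx : x i = ∑ c, (bM i).repr (x i) c • bM i c := ((bM i).sum_repr (x i)).symm
      have : χ i (x i) = ∑ c, ω ((bM i).repr (x i) c) • χ i (bM i c) := by
        conv_lhs => rw [hx]
        rw [map_sum]
        exact Finset.sum_congr rfl fun c _ => hχ i _ _
      change χ i (x i) ∈ _
      rw [this]
      exact Submodule.sum_mem _ fun c _ =>
        Submodule.smul_mem _ _ (Submodule.subset_span ⟨c, rfl⟩)
    · intro y hy
      rw [Submodule.mem_pi] at hy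
      have hy' : ∀ i, ∃ g : Fin (r i) → B, ∑ c, g c • χ i (bM i c) = y i := fun i =>
        (Submodule.mem_span_range_iff_exists_fun B).mp (hy i (Set.mem_univ i))
      choose g hg using hy'
      refine Submodule.subset_span ⟨fun i => ∑ c, ω.symm (g i c) • bM i c, ?_⟩
      funext i
      change χ i (∑ c, ω.symm (g i c) • bM i c) = y i
      rw [map_sum, ← hg i]
      refine Finset.sum_congr rfl fun c _ => ?_
      rw [hχ, RingEquiv.apply_symm_apply]
  rw [hspan, (Submodule.quotientPi _).length_eq, Module.length_pi_of_fintype]
  have hprod : ∀ (s : Finset (Fin n)) (f : Fin n → B),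
      IsDiscreteValuationRing.addVal B (∏ i ∈ s, f i) =
        ∑ i ∈ s, IsDiscreteValuationRing.addVal B (f i) := by
    intro s f
    induction s using Finset.induction_on with
    | empty => simp
    | insert a s ha ih =>
      rw [Finset.prod_insert ha, Finset.sum_insert ha, AddValuation.map_mul, ih]
  rw [hprod]
  refine Finset.sum_congr rfl fun i _ => ?_
  rw [Groth.Agent.Lib.SemilinCoker.length_quotient_span (bN i), Module.Basis.det_apply]
  congr 2

end Groth.Agent.S19624
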