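import Groth.Statements.S19625
import Mathlib
import Groth.Agent.Lib.Snap77_helper9
import Groth.Agent.S13459

set_option autoImplicit false
universe u
open CategoryTheory CategoryTheory.Limits AlgebraicGeometry
open Surf

namespace Groth.Agent.S19625

/-- Let k be a field and S an integral surface (dimension two) which is smooth over k and projective (a
closed immersion into some P^n_k over k). Let i : C → S be the closed immersion of an integral curve
(dimension one) all of whose local rings are regular, with ideal sheaf I ⊆ O_S, and let N =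
Hom(i^*I, O_C) be the normal sheaf of C in S, the dual of the conormal sheaf i^*I (the sheaf Hom,
assumed to exist as the right adjoint of tensoring with i^*I). Then the self-intersection number
C·C, namely the intersection number of O_S(C) with itself computed as the alternating sum χ(O_S) −
2χ(I) + χ(I ⊗ I) with the inverse I = O_S(−C) of O_S(C) (packaged as FGA.intNum), equals the degree
of N on C, the degree of a module M on C being χ(M) − χ(O_C). -/
theorem result (k : Type u) [Field k] (S : Scheme.{u}) [S.Over (Spec (CommRingCat.of k))]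
    [IsIntegral S] (hdim : topologicalKrullDim S = 2) [Smooth (S ↘ (Spec (CommRingCat.of k)))]
    (hproj : ∃ (n : ℕ) (ι : S ⟶ CohB1.ProjSpace n k), IsClosedImmersion ι ∧ ι ≫ CohB1.ProjSpace.toSpec n k = (S ↘ (Spec (CommRingCat.of k))))
    (C : Scheme.{u}) (i : C ⟶ S) [IsClosedImmersion i] [IsIntegral C] (hC : topologicalKrullDim C = 1)
    (hCreg : ∀ c : C, IsRegularLocalRing (C.presheaf.stalk c))
    [DCoh.HasSheafHom (Omega.conormal i)] :
    letI : C.Over (Spec (CommRingCat.of k)) := ⟨i ≫ (S ↘ (Spec (CommRingCat.of k)))⟩
    FGA.intNum k S 2 ![ClSub.idealMod i.ker, ClSub.idealMod i.ker] (Coh.structureModule S) =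
      Curv2.deg k C ((DCoh.sheafHom (Omega.conormal i)).obj (Coh.structureModule C)) 1 := by
  letI instC : C.Over (Spec (CommRingCat.of k)) := ⟨i ≫ (S ↘ Spec (CommRingCat.of k))⟩
  haveI : IsIntegral i.ker.subscheme := Snap9.isIntegral_ker_subscheme i
  have hsupp : topologicalKrullDim (i.ker.support : Set S) = 1 := by
    rw [Snap9.dim_support_ker i, hC]
  have hcart := Snap9.isEffCartierIdeal_of_integral_curve k hdim
    (fun x => Groth.Agent.S1535.result k S x) i.ker hsupp
  have hIinv := TensH8.isInvertible_idealMod_of_isEffCartierIdeal i.ker hcart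
  obtain ⟨L, hLinv, ⟨e⟩⟩ := Groth.Agent.InvTensP.exists_inverse (ClSub.idealMod i.ker) hIinv
  have h1 := Groth.Agent.S13459.result k S hdim hproj C i hC hCreg L (ClSub.idealMod i.ker) hLinv
    ⟨Groth.Agent.TensInv.comm _ _ ≪≫ e⟩
  rw [h1]
  have ε : CohB1.tensorMod (Omega.conormal i) ((Scheme.Modules.pullback i).obj L) ≅
      Coh.structureModule C :=
    (PullTensH9.pullTensIso i hIinv hLinv).symm ≪≫ (Scheme.Modules.pullback i).mapIso e ≪≫
      PBH8.pullbackUnitIso i
  obtain ⟨φ⟩ := Snap9.nonempty_sheafHom_iso (Omega.conormal i) ((Scheme.Modules.pullback i).obj L) ε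
    (Coh.structureModule C)
  have h2 := CurveTens.euler_of_iso k C
    (φ ≪≫ Groth.Agent.CMMul.unitorL ((Scheme.Modules.pullback i).obj L))
  unfold Curv2.deg
  rw [h2]

end Groth.Agent.S19625
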