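import Groth.Statements.S19628
import Mathlib
import Groth.Agent.Lib.ExtBC2_helper9

set_option autoImplicit false
universe u
open DeRham

open TensorProduct
namespace Groth.Agent.S19628

open exteriorPower in
/-- In the affine case, at ring level, let k ⊆ K be an extension of fields of characteristic zero, A a
smooth k-algebra and A' = K ⊗_k A (a pushout square of commutative rings with the scalar-tower
conventions). Let d be the de Rham differential of A over k, d' that of A' over K, and ψ the map of
de Rham complexes induced by A → A', assumed compatible with d and d'. Then for every p the K-span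
of ψ(closed p-forms of A/k) is the module of closed p-forms of A'/K, and the K-span of ψ(exact
p-forms of A/k) is the module of exact p-forms of A'/K. Together with the degreewise base-change
bijection for exterior powers of differentials, this says that the natural map H^p_dR(A/k) ⊗_k K →
H^p_dR(A'/K) is an isomorphism. (The source states the isomorphism H^i_dR(X) ⊗_k K ≅ H^i_dR(X_K) for
a smooth variety X, induced by a quasi-isomorphism of complexes; this row is the case of an affine
X, phrased through closed and exact forms.) -/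
theorem result
    (k K : Type u) [Field k] [Field K] [CharZero k] [Algebra k K]
    (A A' : Type u) [CommRing A] [CommRing A'] [Algebra k A] [Algebra.Smooth k A]
    [Algebra A A'] [Algebra k A'] [IsScalarTower k A A'] [Algebra K A'] [IsScalarTower k K A']
    [Algebra.IsPushout k K A A']
    (d : ∀ p : ℕ, ↥(⋀[A]^p (Ω[A⁄k])) →ₗ[k] ↥(⋀[A]^(p + 1) (Ω[A⁄k])))
    (hd : DeRham.IsDiff (KaehlerDifferential.D k A) d)
    (d' : ∀ p : ℕ, ↥(⋀[A']^p (Ω[A'⁄K])) →ₗ[K] ↥(⋀[A']^(p + 1) (Ω[A'⁄K])))
    (hd' : DeRham.IsDiff (KaehlerDifferential.D K A') d')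
    (ψ : ∀ p : ℕ, ↥(⋀[A]^p (Ω[A⁄k])) →+ ↥(⋀[A']^p (Ω[A'⁄K])))
    (hψ : DeRham.IsCxMap (KaehlerDifferential.D k A) (KaehlerDifferential.D K A') (algebraMap A A') ψ)
    (hcomm : ∀ (p : ℕ) (x : ↥(⋀[A]^p (Ω[A⁄k]))), ψ (p + 1) (d p x) = d' p (ψ p x))
    (p : ℕ) :
    Submodule.span K (ψ p '' (DeRham.cocycles d p : Set ↥(⋀[A]^p (Ω[A⁄k])))) = DeRham.cocycles d' p ∧
      Submodule.span K (ψ p '' (DeRham.coboundaries d p : Set ↥(⋀[A]^p (Ω[A⁄k])))) =
        DeRham.coboundaries d' p := by

  classical
  have hflat : Module.Flat k K := inferInstance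
  -- the base change isos
  let Φ := fun q => Groth.Agent.ExtBC9.bcEquiv k K A A' q
  have hΦ : ∀ q (s : K) (x : ↥(⋀[A]^q (Ω[A⁄k]))), Φ q (s ⊗ₜ x) = s • ψ q x :=
    fun q s x => Groth.Agent.ExtBC9.bcEquiv_tmul k K A A' ψ hψ q s x
  -- compatibility with differentials
  have hcompat : ∀ q, (d' q) ∘ₗ (Φ q).toLinearMap =
      (Φ (q + 1)).toLinearMap ∘ₗ (d q).baseChange K := by
    intro q
    apply TensorProduct.AlgebraTensorModule.ext
    intro s x
    simp only [LinearMap.comp_apply, LinearEquiv.coe_coe, hΦ, map_smul,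
      LinearMap.baseChange_tmul, hcomm]
  have hspan : ∀ q (N : Submodule k ↥(⋀[A]^q (Ω[A⁄k]))),
      Submodule.map (Φ q).toLinearMap (N.baseChange K) =
        Submodule.span K (ψ q '' (N : Set ↥(⋀[A]^q (Ω[A⁄k])))) :=
    fun q N => Groth.Agent.ExtBC9.map_baseChange_eq_span k K A A' ψ hψ q N
  constructor
  · -- cocycles
    unfold DeRham.cocycles
    rw [← hspan, ← Groth.Agent.ExtBC9.ker_baseChange_of_flat]
    ext y
    constructor
    · rintro ⟨z, hz, rfl⟩
      have := LinearMap.congr_fun (hcompat p) z
      simp only [LinearMap.comp_apply] at this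
      rw [LinearMap.mem_ker]
      rw [SetLike.mem_coe, LinearMap.mem_ker] at hz
      rw [this, hz, map_zero]
    · intro hy
      rw [LinearMap.mem_ker] at hy
      refine ⟨(Φ p).symm y, ?_, by simp⟩
      rw [SetLike.mem_coe, LinearMap.mem_ker]
      apply (Φ (p + 1)).injective
      have := LinearMap.congr_fun (hcompat p) ((Φ p).symm y)
      simp only [LinearMap.comp_apply, LinearEquiv.coe_coe, LinearEquiv.apply_symm_apply] at this
      rw [← this, hy, map_zero]
  · -- coboundaries
    cases p with
    | zero =>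
      show Submodule.span K (ψ 0 '' (((⊥ : Submodule k ↥(⋀[A]^0 (Ω[A⁄k]))) : Set ↥(⋀[A]^0 (Ω[A⁄k]))))) = ⊥
      simp
    | succ q =>
      show Submodule.span K (ψ (q + 1) '' (LinearMap.range (d q) : Set _)) = LinearMap.range (d' q)
      rw [← hspan, ← Groth.Agent.ExtBC9.range_baseChange, ← LinearMap.range_comp, ← hcompat q,
        LinearMap.range_comp]
      have : LinearMap.range (Φ q).toLinearMap = ⊤ := LinearEquiv.range _
      rw [this, Submodule.map_top]

end Groth.Agent.S19628
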