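import Groth.Statements.S19630
import Mathlib
import Groth.Agent.Lib.DeRham_helper1

set_option autoImplicit false
universe u
open DeRham

namespace Groth.Agent.S19630

open exteriorPower in
/-- In the affine case, at ring level, let k ⊆ K be a finite extension of fields of characteristic zero
and B a smooth K-algebra, so that Y = Spec B is a smooth affine variety over K which may also be
regarded over k. Let ψ be the map of de Rham complexes from Ω•_{B/k} to Ω•_{B/K} induced by the
identity of B. Then ψ is bijective in every degree: the de Rham complex of Y over k and over K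
coincide, and hence the natural map H^i_dR(Y/k) → H^i_dR(Y/K) is an isomorphism. (The source states
the isomorphism on de Rham cohomology for any smooth variety Y over K, through the equality of the
two de Rham complexes; this row is that equality for affine Y.) -/
theorem result
    (k K : Type u) [Field k] [Field K] [CharZero k] [Algebra k K] [Module.Finite k K]
    (B : Type u) [CommRing B] [Algebra K B] [Algebra k B] [IsScalarTower k K B] [Algebra.Smooth K B]
    (ψ : ∀ p : ℕ, ↥(⋀[B]^p (Ω[B⁄k])) →+ ↥(⋀[B]^p (Ω[B⁄K])))
    (hψ : DeRham.IsCxMap (KaehlerDifferential.D k B) (KaehlerDifferential.D K B) (RingHom.id B) ψ)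
    (p : ℕ) :
    Function.Bijective (ψ p) := by
  haveI : Algebra.IsAlgebraic k K := Algebra.IsAlgebraic.of_finite k K
  haveI : Algebra.IsSeparable k K := inferInstance
  haveI : Algebra.FormallyUnramified k K := Algebra.FormallyUnramified.of_isSeparable k K
  haveI : Subsingleton (Ω[K⁄k]) := inferInstance
  have hπs : Function.Surjective (KaehlerDifferential.map k K B B) :=
    KaehlerDifferential.map_surjective k K B
  have hπi : Function.Injective (KaehlerDifferential.map k K B B) := by
    rw [← LinearMap.ker_eq_bot, ← KaehlerDifferential.range_mapBaseChange k K B,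
      LinearMap.range_eq_bot]
    apply LinearMap.ext
    intro x
    induction x using TensorProduct.induction_on with
    | zero => simp
    | tmul b w => rw [Subsingleton.elim w 0]; simp
    | add x y hx hy => rw [map_add, hx, hy]; simp
  let e : Ω[B⁄k] ≃ₗ[B] Ω[B⁄K] := LinearEquiv.ofBijective (KaehlerDifferential.map k K B B) ⟨hπi, hπs⟩
  have hbij : Function.Bijective (exteriorPower.map p (KaehlerDifferential.map k K B B)) := by
    refine ⟨exteriorPower.map_injective (e.symm : Ω[B⁄K] →ₗ[B] Ω[B⁄k]) ?_,
      exteriorPower.map_surjective hπs⟩
    apply LinearMap.ext
    intro x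
    exact e.symm_apply_apply x
  have hψeq : ∀ x, ψ p x = exteriorPower.map p (KaehlerDifferential.map k K B B) x := by
    apply Groth.Agent.Lib.DeRhamH1.kaehler_gen_induction k B p
    · simp
    · intro x y hx hy; rw [map_add, map_add, hx, hy]
    · intro b₀ b
      rw [hψ p b₀ b]
      unfold DeRham.gen
      rw [map_smul, exteriorPower.map_apply_ιMulti]
      congr 2
      funext i
      simp [KaehlerDifferential.map_D]
  have : (ψ p : _ → _) = exteriorPower.map p (KaehlerDifferential.map k K B B) := funext hψeq
  rw [this]
  exact hbij

end Groth.Agent.S19630
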