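import Groth.Statements.S19632
import Mathlib

set_option autoImplicit false
universe u
open DeRham

namespace Groth.Agent.S19632

/-- Let k be a field of characteristic zero and G_m = Spec k[t, t⁻¹] the multiplicative group. The
kernel of the differential d : k[t, t⁻¹] → Ω¹ of the de Rham complex of G_m consists of the
constants: for a Laurent polynomial f, df = 0 if and only if f lies in the image of k. Equivalently
H^0_dR(G_m/k) = k. (Characteristic zero is used: in characteristic p the element t^p is closed.) -/
theorem result (k : Type u) [Field k] [CharZero k]
    (f : LaurentPolynomial k) :
    KaehlerDifferential.D k (LaurentPolynomial k) f = 0 ↔ f ∈ Set.range (algebraMap k (LaurentPolynomial k)) := by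
  classical
  constructor
  · intro hf
    let δl : LaurentPolynomial k →ₗ[k] LaurentPolynomial k :=
      { toFun := fun g => AddMonoidAlgebra.ofCoeff
          (Finsupp.onFinset g.coeff.support (fun n => (n : k) * g.coeff n)
            (by
              intro n hn
              rw [Finsupp.mem_support_iff]
              intro h0
              apply hn
              rw [h0, mul_zero]))
        map_add' := by
          intro g h
          apply LaurentPolynomial.ext; intro n
          simp [mul_add]
        map_smul' := by
          intro c g
          apply LaurentPolynomial.ext; intro n
          simp [mul_left_comm] }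
    have hδcoeff : ∀ (g : LaurentPolynomial k) (n : ℤ),
        (δl g).coeff n = (n : k) * g.coeff n := by
      intro g n
      simp [δl]
    have hδsingle : ∀ (n : ℤ) (a : k),
        δl (AddMonoidAlgebra.single n a) = AddMonoidAlgebra.single n ((n : k) * a) := by
      intro n a
      apply LaurentPolynomial.ext; intro m
      rw [hδcoeff]
      simp only [AddMonoidAlgebra.coeff_single, Finsupp.single_apply]
      split_ifs with h
      · rw [h]
      · simp
    have hleib : ∀ f g : LaurentPolynomial k, δl (f * g) = f • δl g + g • δl f := by
      intro f g
      induction f using LaurentPolynomial.induction_on' with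
      | add p q hp hq =>
        rw [add_mul, map_add, hp, hq, map_add, add_smul, smul_add]; abel
      | C_mul_T m a =>
        induction g using LaurentPolynomial.induction_on' with
        | add p q hp hq =>
          rw [mul_add, map_add, hp, hq, map_add, smul_add, add_smul]; abel
        | C_mul_T n b =>
          rw [← LaurentPolynomial.single_eq_C_mul_T, ← LaurentPolynomial.single_eq_C_mul_T,
            AddMonoidAlgebra.single_mul_single, hδsingle, hδsingle, hδsingle, smul_eq_mul,
            smul_eq_mul, AddMonoidAlgebra.single_mul_single, AddMonoidAlgebra.single_mul_single,
            add_comm n m, ← AddMonoidAlgebra.single_add]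
          congr 1
          push_cast
          ring
    let δ : Derivation k (LaurentPolynomial k) (LaurentPolynomial k) := Derivation.mk' δl hleib
    have h0 : δ f = 0 := by
      rw [← Derivation.liftKaehlerDifferential_comp_D δ f, hf, map_zero]
    have hc : ∀ n : ℤ, n ≠ 0 → f.coeff n = 0 := by
      intro n hn
      have h1 : (δl f).coeff n = 0 := by
        have h2 : δl f = 0 := h0
        rw [h2]; simp
      rw [hδcoeff] at h1
      rcases mul_eq_zero.mp h1 with h | h
      · exact absurd (by exact_mod_cast h) hn
      · exact h
    refine ⟨f.coeff 0, ?_⟩
    rw [← LaurentPolynomial.C_eq_algebraMap]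
    apply LaurentPolynomial.ext
    intro n
    rw [← LaurentPolynomial.single_eq_C, AddMonoidAlgebra.coeff_single, Finsupp.single_apply]
    split_ifs with h
    · rw [h]
    · exact (hc n (Ne.symm h)).symm
  · rintro ⟨c, rfl⟩
    exact Derivation.map_algebraMap _ c

end Groth.Agent.S19632
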