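import Groth.Statements.S19651
import Mathlib

set_option autoImplicit false
universe u v
open AbVar

namespace Groth.Agent.S19651

open Polynomial in
theorem adj_pow {k : Type*} [Field k] {V : Type*} [AddCommGroup V] [Module k V]
    (B : LinearMap.BilinForm k V) (f g : V →ₗ[k] V) (hfg : f * g = 1)
    (hM : ∀ x y : V, B (f x) (f y) = B x y) :
    ∀ (j : ℕ) (x w : V), B ((f ^ j) x) w = B x ((g ^ j) w) := by
  intro j
  induction j with
  | zero => intro x w; simp
  | succ j ih =>
    intro x w
    rw [pow_succ, pow_succ', Module.End.mul_apply, ih, Module.End.mul_apply]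
    have h1 : f (g ((g ^ j) w)) = (g ^ j) w := by
      have := congrArg (fun φ : V →ₗ[k] V => φ ((g ^ j) w)) hfg
      simpa using this
    rw [← hM x, h1]

open Polynomial in
theorem adj_aeval {k : Type*} [Field k] {V : Type*} [AddCommGroup V] [Module k V]
    (B : LinearMap.BilinForm k V) (f g : V →ₗ[k] V) (hfg : f * g = 1)
    (hM : ∀ x y : V, B (f x) (f y) = B x y) (P : k[X]) (x w : V) :
    B (aeval f P x) w = B x (aeval g P w) := by
  induction P using Polynomial.induction_on' with
  | add p q hp hq => simp [map_add, hp, hq]
  | monomial n a =>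
    simp only [aeval_monomial, Module.algebraMap_end_eq_smul_id, Module.End.mul_apply,
      LinearMap.smul_apply, LinearMap.id_apply, map_smul]
    rw [adj_pow B f g hfg hM]

open Polynomial in
theorem aeval_reverse_eq {k : Type*} [Field k] {V : Type*} [AddCommGroup V] [Module k V]
    (f g : V →ₗ[k] V) (hgf : g * f = 1) (P : k[X]) :
    aeval f P.reverse = aeval g P * f ^ P.natDegree := by
  have hpow : ∀ i : ℕ, g ^ i * f ^ i = 1 := by
    intro i
    induction i with
    | zero => simp
    | succ i ih =>
      rw [pow_succ, pow_succ', mul_assoc, ← mul_assoc g f, hgf, one_mul, ih]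
  rw [aeval_eq_sum_range' (n := P.natDegree + 1) (Nat.lt_succ_of_le P.reverse_natDegree_le),
    aeval_eq_sum_range, Finset.sum_mul, ← Finset.sum_range_reflect]
  apply Finset.sum_congr rfl
  intro i hi
  rw [Finset.mem_range] at hi
  rw [coeff_reverse, revAt_le (by omega)]
  have h1 : P.natDegree - (P.natDegree + 1 - 1 - i) = i := by omega
  have h2 : P.natDegree = i + (P.natDegree + 1 - 1 - i) := by omega
  rw [h1, smul_mul_assoc]
  congr 1
  conv_rhs => rw [h2, pow_add, ← mul_assoc, hpow, one_mul]

open Polynomial in
theorem ortho_core {k : Type*} [Field k] {V : Type*} [AddCommGroup V] [Module k V]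
    (B : LinearMap.BilinForm k V) (f g : V →ₗ[k] V) (hfg : f * g = 1) (hgf : g * f = 1)
    (hM : ∀ x y : V, B (f x) (f y) = B x y)
    (P₁ P₂ : k[X]) (h : IsCoprime P₁.reverse P₂) (x y : V)
    (hx : aeval f P₁ x = 0) (hy : aeval f P₂ y = 0) : B x y = 0 := by
  obtain ⟨a, b, hab⟩ := h
  have hy' : y = aeval f P₁.reverse (aeval f a y) := by
    have := congrArg (fun p : k[X] => aeval f p y) hab
    simp only [map_add, map_mul, map_one, LinearMap.add_apply, Module.End.mul_apply,
      Module.End.one_apply, hy, map_zero, add_zero] at this
    rw [← Module.End.mul_apply, ← map_mul, mul_comm, map_mul, Module.End.mul_apply]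
    exact this.symm
  rw [hy', aeval_reverse_eq f g hgf, Module.End.mul_apply, ← adj_aeval B f g hfg hM, hx]
  simp

open Polynomial in
/-- Stated for an arbitrary invariant bilinear form, as the argument there allows. Let k be a field, V a
k-vector space with a bilinear form B and M a linear automorphism of V with B(Mx, My) = B(x, y) for
all x, y. If Q₁ and Q₂ are polynomials such that the reciprocal polynomial of Q₁ (its coefficient
list reversed) is coprime to Q₂, then every vector killed by a power of Q₁(M) is B-orthogonal to
every vector killed by a power of Q₂(M). With Q₁ = Q₂ = Q this says that the generalized kernel of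
Q(M) is totally isotropic whenever Q is coprime to its reciprocal polynomial, which for an
irreducible Q means that Q is not self-reciprocal. (The published statement takes M symplectic and
Q₁, Q₂ irreducible factors of the characteristic polynomial, with Q not self-reciprocal in the first
clause; its second clause asks Q₁ and Q₂ to be distinct and not reciprocal, which holds as proved
when this is read as saying that Q₂ is not the reciprocal of Q₁, but fails if it only means that
neither is self-reciprocal, as the diagonal matrix with entries 2 and 1/2 preserving the standard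
alternating form on k² shows; the coprimality of the reciprocal of Q₁ with Q₂, which is what the
published proof uses, is imposed here and covers both clauses.) -/
theorem result
    {k : Type u} [Field k] {V : Type v} [AddCommGroup V] [Module k V]
    (B : LinearMap.BilinForm k V) (M : V ≃ₗ[k] V)
    (hM : ∀ x y : V, B (M x) (M y) = B x y)
    (Q₁ Q₂ : k[X]) (h : IsCoprime Q₁.reverse Q₂)
    (x y : V)
    (hx : ∃ n : ℕ, (Polynomial.aeval (M : V →ₗ[k] V) Q₁ ^ n) x = 0)
    (hy : ∃ n : ℕ, (Polynomial.aeval (M : V →ₗ[k] V) Q₂ ^ n) y = 0) :
    B x y = 0 := by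
  obtain ⟨n, hn⟩ := hx
  obtain ⟨m, hm⟩ := hy
  have hfg : (M : V →ₗ[k] V) * (M.symm : V →ₗ[k] V) = 1 := by ext v; simp
  have hgf : (M.symm : V →ₗ[k] V) * (M : V →ₗ[k] V) = 1 := by ext v; simp
  have hrev : ∀ n : ℕ, (Q₁ ^ n).reverse = Q₁.reverse ^ n := by
    intro n
    induction n with
    | zero => rw [pow_zero, pow_zero, ← C_1, reverse_C]
    | succ n ih => rw [pow_succ, reverse_mul_of_domain, ih, pow_succ]
  refine ortho_core B _ _ hfg hgf (fun x y => by simpa using hM x y) (Q₁ ^ n) (Q₂ ^ m) ?_ x y ?_ ?_
  · rw [hrev]; exact h.pow
  · rw [map_pow]; exact hn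
  · rw [map_pow]; exact hm

end Groth.Agent.S19651
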