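import Groth.Statements.S19652
import Mathlib
import Groth.Agent.S19651

set_option autoImplicit false
universe u v
open AbVar

namespace Groth.Agent.S19652

open Polynomial in
theorem half_ortho {k : Type*} [Field k] {V : Type*} [AddCommGroup V] [Module k V]
    (B : LinearMap.BilinForm k V) (f g : V →ₗ[k] V) (hfg : f * g = 1) (hgf : g * f = 1)
    (hM : ∀ x y : V, B (f x) (f y) = B x y)
    (P : k[X]) (hP : P.reverse ∣ P) (w z : V) (hw : aeval f P w = 0) :
    B w (aeval f P z) = 0 := by
  obtain ⟨c, hc⟩ := hP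
  have h1 : aeval f P z = aeval g P ((f ^ P.natDegree) (aeval f c z)) := by
    conv_lhs => rw [hc, map_mul, Groth.Agent.S19651.aeval_reverse_eq f g hgf]
    rfl
  rw [h1, ← Groth.Agent.S19651.adj_aeval B f g hfg hM, hw]
  simp

open Polynomial in
theorem genker_ortho {k : Type*} [Field k] {V : Type*} [AddCommGroup V] [Module k V]
    (B : LinearMap.BilinForm k V) (f g : V →ₗ[k] V) (hfg : f * g = 1) (hgf : g * f = 1)
    (hM : ∀ x y : V, B (f x) (f y) = B x y)
    (Q : k[X]) (hQ : Q.reverse ∣ Q) (w w' : V)
    (hw : w ∈ ⨆ n : ℕ, LinearMap.ker (aeval f Q ^ n))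
    (hw' : w' ∈ ⨅ n : ℕ, LinearMap.range (aeval f Q ^ n)) :
    B w w' = 0 := by
  have hrev : ∀ n : ℕ, (Q ^ n).reverse = Q.reverse ^ n := by
    intro n
    induction n with
    | zero => rw [pow_zero, pow_zero, ← C_1, reverse_C]
    | succ n ih => rw [pow_succ, reverse_mul_of_domain, ih, pow_succ]
  obtain ⟨n, hn⟩ := (Submodule.mem_iSup_of_chain (LinearMap.iterateKer (aeval f Q)) w).1 hw
  rw [LinearMap.iterateKer_coe, LinearMap.mem_ker] at hn
  rw [Submodule.mem_iInf] at hw'
  obtain ⟨z, rfl⟩ := hw' n
  rw [← map_pow] at hn ⊢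
  exact half_ortho B f g hfg hgf hM (Q ^ n) (by rw [hrev]; exact pow_dvd_pow_of_dvd hQ n) w z hn

open Polynomial in
/-- Stated for an arbitrary invariant nondegenerate bilinear form, as the argument there allows. Let k
be a field, V a finite-dimensional k-vector space with a nondegenerate bilinear form B and M a
linear automorphism of V with B(Mx, My) = B(x, y) for all x, y. If Q is a polynomial associated to
its own reciprocal polynomial (its coefficient list reversed), then B restricted to the generalized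
kernel of Q(M), the union of the kernels of the powers Q(M)^n, is nondegenerate. (The published
statement takes M symplectic and Q a self-reciprocal divisor of the characteristic polynomial;
divisibility plays no role and is not assumed.) -/
theorem result
    {k : Type u} [Field k] {V : Type v} [AddCommGroup V] [Module k V] [FiniteDimensional k V]
    (B : LinearMap.BilinForm k V) (hB : B.Nondegenerate) (M : V ≃ₗ[k] V)
    (hM : ∀ x y : V, B (M x) (M y) = B x y)
    (Q : k[X]) (hQ : Associated Q Q.reverse) :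
    (B.restrict (⨆ n : ℕ, LinearMap.ker (Polynomial.aeval (M : V →ₗ[k] V) Q ^ n))).Nondegenerate := by
  have hfg : (M : V →ₗ[k] V) * (M.symm : V →ₗ[k] V) = 1 := by ext v; simp
  have hgf : (M.symm : V →ₗ[k] V) * (M : V →ₗ[k] V) = 1 := by ext v; simp
  have hdvd : Q.reverse ∣ Q := hQ.symm.dvd
  have hcompl := LinearMap.isCompl_iSup_ker_pow_iInf_range_pow
    (Polynomial.aeval (M : V →ₗ[k] V) Q)
  have h1 := genker_ortho B _ _ hfg hgf (fun x y => by simpa using hM x y) Q hdvd
  have h2 := genker_ortho B.flip _ _ hfg hgf (fun x y => by simpa using hM y x) Q hdvd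
  have hdec : ∀ v : V, ∃ a ∈ ⨆ n : ℕ, LinearMap.ker (Polynomial.aeval (M : V →ₗ[k] V) Q ^ n),
      ∃ b ∈ ⨅ n : ℕ, LinearMap.range (Polynomial.aeval (M : V →ₗ[k] V) Q ^ n), a + b = v := by
    intro v
    have : v ∈ (⨆ n : ℕ, LinearMap.ker (Polynomial.aeval (M : V →ₗ[k] V) Q ^ n)) ⊔
        ⨅ n : ℕ, LinearMap.range (Polynomial.aeval (M : V →ₗ[k] V) Q ^ n) := by
      rw [hcompl.sup_eq_top]; trivial
    exact Submodule.mem_sup.1 this
  refine ⟨?_, ?_⟩
  · intro x hx
    have : (x : V) = 0 := by
      apply hB.1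
      intro v
      obtain ⟨a, ha, b, hb, rfl⟩ := hdec v
      rw [map_add, h1 x b x.2 hb, add_zero]
      exact hx ⟨a, ha⟩
    exact Subtype.ext this
  · intro y hy
    have : (y : V) = 0 := by
      apply hB.2
      intro v
      obtain ⟨a, ha, b, hb, rfl⟩ := hdec v
      rw [map_add, LinearMap.add_apply]
      have : B b y = 0 := h2 y b y.2 hb
      rw [this, add_zero]
      exact hy ⟨a, ha⟩
    exact Subtype.ext this

end Groth.Agent.S19652
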