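import Groth.Statements.S1966
import Groth.Agent.Lib.HenselLimit_lead
import Groth.Agent.Lib.HenselPair_helper5

set_option autoImplicit false
universe u
open EtAlg

namespace Groth.Agent.S1966

/-- Towers indexed by the natural numbers: let (A_k) be rings with surjective transition maps A_{k+1} ->
A_k whose kernels consist of nilpotent elements, and let A be a ring with compatible projections p_k
: A -> A_k identifying A with the set of compatible sequences (p is jointly injective and every
compatible sequence comes from an element of A). Then for every k the pair (A, ker p_k) is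
henselian. -/
theorem result (A : Type u) [CommRing A] (As : ℕ → Type u) [∀ k, CommRing (As k)]
    (t : ∀ k, As (k + 1) →+* As k) (ht : ∀ k, Function.Surjective (t k))
    (hnil : ∀ k (x : As (k + 1)), t k x = 0 → IsNilpotent x)
    (p : ∀ k, A →+* As k) (hp : ∀ k, (t k).comp (p (k + 1)) = p k)
    (hinj : ∀ a b : A, (∀ k, p k a = p k b) → a = b)
    (hsurj : ∀ x : ∀ k, As k, (∀ k, t k (x (k + 1)) = x k) → ∃ a : A, ∀ k, p k a = x k) (k : ℕ) :
    HenselianRing A (RingHom.ker (p k)) := by
  classical
  have hp' : ∀ j (x : A), t j (p (j + 1) x) = p j x := fun j x => RingHom.congr_fun (hp j) x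
  -- elements of `ker (p k)` vanish at all levels `≤ k`
  have L1 : ∀ x : A, p k x = 0 → ∀ d j, j + d = k → p j x = 0 := by
    intro x hx d
    induction d with
    | zero => intro j hj; rw [Nat.add_zero] at hj; rw [hj]; exact hx
    | succ d ih =>
      intro j hj
      have h1 : p (j + 1) x = 0 := ih (j + 1) (by omega)
      rw [← hp' j x, h1, map_zero]
  -- and are nilpotent at all levels
  have L2 : ∀ x : A, p k x = 0 → ∀ j, IsNilpotent (p j x) := by
    intro x hx j
    induction j with
    | zero => rw [L1 x hx k 0 (by omega)]; exact IsNilpotent.zero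
    | succ j ih =>
      obtain ⟨N, hN⟩ := ih
      rw [← hp' j x, ← map_pow] at hN
      obtain ⟨M, hM⟩ := hnil j _ hN
      rw [← pow_mul] at hM
      exact ⟨N * M, hM⟩
  have hH : ∀ j, HenselianRing (As j) ((RingHom.ker (p k)).map (p j)) := by
    intro j
    apply Groth.Agent.Lib.HenselPair_helper5.henselianRing_of_locally_nilpotent
    have hle : (RingHom.ker (p k)).map (p j) ≤ nilradical (As j) := by
      rw [Ideal.map_le_iff_le_comap]
      intro x hx
      rw [Ideal.mem_comap, mem_nilradical]
      exact L2 x (RingHom.mem_ker.1 hx) j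
    intro y hy
    exact mem_nilradical.1 (hle hy)
  have key := Groth.Agent.Lib.HenselLimit.henselian_of_limit (L := A) (R := As) p
    (fun j => (RingHom.ker (p k)).map (p j)) hH (tr := ℕ) (fun n => n + 1) (fun n => n) t
    (fun n x => hp' n x)
    (fun n => by
      show ((RingHom.ker (p k)).map (p (n + 1))).map (t n) ≤ (RingHom.ker (p k)).map (p n)
      rw [Ideal.map_map, hp n])
    hinj
    (fun s hs => hsurj s hs)
  have heq : (⨅ j, ((RingHom.ker (p k)).map (p j)).comap (p j)) = RingHom.ker (p k) := by
    apply le_antisymm
    · intro x hx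
      rw [Ideal.mem_iInf] at hx
      have h1 := hx k
      rw [Ideal.mem_comap] at h1
      have h2 : (RingHom.ker (p k)).map (p k) ≤ ⊥ := by
        rw [Ideal.map_le_iff_le_comap]
        intro y hy
        rw [Ideal.mem_comap, Ideal.mem_bot]
        exact RingHom.mem_ker.1 hy
      have h3 := h2 h1
      rw [Ideal.mem_bot] at h3
      exact RingHom.mem_ker.2 h3
    · intro x hx
      rw [Ideal.mem_iInf]
      intro j
      rw [Ideal.mem_comap]
      exact Ideal.mem_map_of_mem _ hx
  rw [← heq]
  exact key

end Groth.Agent.S1966
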