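import Groth.Statements.S19660
import Mathlib

set_option autoImplicit false
universe u v
open AbVar

namespace Groth.Agent.S19660

section
variable {k : Type*} [Field k] {V : Type*} [AddCommGroup V] [Module k V]
  (B : LinearMap.BilinForm k V) (f g : V →ₗ[k] V) (hfg : f * g = 1) (hgf : g * f = 1)
  (q : k) (hM : ∀ x y : V, B (f x) (f y) = q * B x y) (lam mu : k) (hlm : lam * mu = q)
include hfg hgf hM hlm

theorem scaled_adj :
    ∀ (n : ℕ) (z y : V), B (((f - lam • (1 : V →ₗ[k] V)) ^ n) z) y =
      (-lam) ^ n * B z (((g * (f - mu • (1 : V →ₗ[k] V))) ^ n) y) := by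
  have hfg' : ∀ v, f (g v) = v := fun v => by
    simpa using congrArg (fun φ : V →ₗ[k] V => φ v) hfg
  have hgf' : ∀ v, g (f v) = v := fun v => by
    simpa using congrArg (fun φ : V →ₗ[k] V => φ v) hgf
  have step : ∀ z y, B ((f - lam • (1 : V →ₗ[k] V)) z) y =
      -lam * B z ((g * (f - mu • (1 : V →ₗ[k] V))) y) := by
    intro z y
    have h1 : B (f z) y = q * B z (g y) := by rw [← hM, hfg']
    simp only [LinearMap.sub_apply, LinearMap.smul_apply, Module.End.one_apply,
      Module.End.mul_apply, map_sub, map_smul, hgf', h1, smul_eq_mul]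
    rw [← hlm]; ring
  intro n
  induction n with
  | zero => intro z y; simp
  | succ n ih =>
    intro z y
    have e : ((g * (f - mu • (1 : V →ₗ[k] V))) ^ (n + 1)) y =
        (g * (f - mu • (1 : V →ₗ[k] V))) (((g * (f - mu • (1 : V →ₗ[k] V))) ^ n) y) := by
      rw [pow_succ']; rfl
    rw [pow_succ, Module.End.mul_apply, ih, step, e]
    ring

theorem scaled_kill (n : ℕ) (y : V) (hy : ((f - mu • (1 : V →ₗ[k] V)) ^ n) y = 0) (z : V) :
    B (((f - lam • (1 : V →ₗ[k] V)) ^ n) z) y = 0 := by
  have hcomm : Commute g (f - mu • (1 : V →ₗ[k] V)) := by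
    show g * (f - mu • (1 : V →ₗ[k] V)) = (f - mu • (1 : V →ₗ[k] V)) * g
    rw [mul_sub, sub_mul, hgf, hfg]; simp
  rw [scaled_adj B f g hfg hgf q hM lam mu hlm, hcomm.mul_pow, Module.End.mul_apply, hy,
    map_zero, map_zero, mul_zero]

/-- orthogonality to the Fitting complement -/
theorem scaled_compl (y : V) (hy : y ∈ Module.End.maxGenEigenspace f mu) (w' : V)
    (hw' : w' ∈ ⨅ n : ℕ, LinearMap.range ((f - lam • (1 : V →ₗ[k] V)) ^ n)) :
    B w' y = 0 := by
  rw [Module.End.mem_maxGenEigenspace] at hy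
  obtain ⟨n, hn⟩ := hy
  rw [Submodule.mem_iInf] at hw'
  obtain ⟨z, rfl⟩ := hw' n
  exact scaled_kill B f g hfg hgf q hM lam mu hlm n y hn z

open Polynomial in
/-- isotropy -/
theorem scaled_iso (y : V) (hy : y ∈ Module.End.maxGenEigenspace f mu) (nu : k) (hnu : nu ≠ lam)
    (x : V) (hx : x ∈ Module.End.maxGenEigenspace f nu) :
    B x y = 0 := by
  rw [Module.End.mem_maxGenEigenspace] at hy hx
  obtain ⟨n, hn⟩ := hy
  obtain ⟨m, hm⟩ := hx
  have hev : ∀ c : k, aeval f (X - C c) = f - c • (1 : V →ₗ[k] V) := by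
    intro c; simp [Algebra.algebraMap_eq_smul_one]
  have hcop : IsCoprime ((X - C lam : k[X]) ^ n) ((X - C nu) ^ m) :=
    (isCoprime_X_sub_C_of_isUnit_sub (sub_ne_zero.2 hnu.symm).isUnit).pow
  obtain ⟨a, b, hab⟩ := hcop
  have hx' : x = ((f - lam • (1 : V →ₗ[k] V)) ^ n) (aeval f a x) := by
    have := congrArg (fun p : k[X] => aeval f p x) hab
    simp only [map_add, map_mul, map_one, map_pow, hev, LinearMap.add_apply, Module.End.mul_apply,
      Module.End.one_apply, hm, map_zero, add_zero] at this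
    rw [← Module.End.mul_apply, ← hev, ← map_pow, ← map_mul, mul_comm, map_mul, map_pow, hev,
      Module.End.mul_apply]
    exact this.symm
  rw [hx']
  exact scaled_kill B f g hfg hgf q hM lam mu hlm n y hn _

end

/-- The text applies this to the Frobenius acting on the points of prime order of a principally
polarised abelian variety over a finite field with q elements and to their Weil pairing. Let k be a
field, V a finite-dimensional k-vector space with a nondegenerate bilinear form B, q a nonzero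
element of k and M a linear automorphism of V with B(Mx, My) = q·B(x, y) for all x, y. Write V₁ and
V_q for the generalized eigenspaces of M at 1 and at q. Then every vector of V₁ that is B-orthogonal
to all of V_q is zero, every vector of V_q that is B-orthogonal (on the right) to all of V₁ is zero,
and when q ≠ 1 the form B vanishes identically on V₁ × V₁ and on V_q × V_q. (The text asserts this
as the evident adaptation, to a form scaled by q, of the orthogonality and nondegeneracy facts for
generalized kernels of an automorphism preserving a form; the abstract statement is recorded here,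
the application to the Weil pairing needing that pairing's formalism.) -/
theorem result
    {k : Type u} [Field k] {V : Type v} [AddCommGroup V] [Module k V] [FiniteDimensional k V]
    (B : LinearMap.BilinForm k V) (hB : B.Nondegenerate) (q : k) (hq : q ≠ 0)
    (M : V ≃ₗ[k] V) (hM : ∀ x y : V, B (M x) (M y) = q * B x y) :
    (∀ x ∈ Module.End.maxGenEigenspace (M : Module.End k V) 1,
        (∀ y ∈ Module.End.maxGenEigenspace (M : Module.End k V) q, B x y = 0) → x = 0) ∧
      (∀ y ∈ Module.End.maxGenEigenspace (M : Module.End k V) q,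
        (∀ x ∈ Module.End.maxGenEigenspace (M : Module.End k V) 1, B x y = 0) → y = 0) ∧
      (q ≠ 1 → ∀ x ∈ Module.End.maxGenEigenspace (M : Module.End k V) 1,
        ∀ x' ∈ Module.End.maxGenEigenspace (M : Module.End k V) 1, B x x' = 0) ∧
      (q ≠ 1 → ∀ y ∈ Module.End.maxGenEigenspace (M : Module.End k V) q,
        ∀ y' ∈ Module.End.maxGenEigenspace (M : Module.End k V) q, B y y' = 0) := by
  have hfg : (M : V →ₗ[k] V) * (M.symm : V →ₗ[k] V) = 1 := by ext v; simp
  have hgf : (M.symm : V →ₗ[k] V) * (M : V →ₗ[k] V) = 1 := by ext v; simp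
  have hM1 : ∀ x y : V, B ((M : V →ₗ[k] V) x) ((M : V →ₗ[k] V) y) = q * B x y := by
    intro x y; simpa using hM x y
  have hM2 : ∀ x y : V, B.flip ((M : V →ₗ[k] V) x) ((M : V →ₗ[k] V) y) = q * B.flip x y := by
    intro x y; simpa using hM y x
  have hdec : ∀ (c : k) (v : V), ∃ a ∈ Module.End.maxGenEigenspace (M : Module.End k V) c,
      ∃ b ∈ ⨅ n : ℕ, LinearMap.range (((M : V →ₗ[k] V) - c • (1 : V →ₗ[k] V)) ^ n),
        a + b = v := by
    intro c v
    have hcompl := LinearMap.isCompl_iSup_ker_pow_iInf_range_pow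
      ((M : V →ₗ[k] V) - c • (1 : V →ₗ[k] V))
    have : v ∈ (⨆ n : ℕ, LinearMap.ker (((M : V →ₗ[k] V) - c • (1 : V →ₗ[k] V)) ^ n)) ⊔
        ⨅ n : ℕ, LinearMap.range (((M : V →ₗ[k] V) - c • (1 : V →ₗ[k] V)) ^ n) := by
      rw [hcompl.sup_eq_top]; trivial
    obtain ⟨a, ha, b, hb, hab⟩ := Submodule.mem_sup.1 this
    refine ⟨a, ?_, b, hb, hab⟩
    obtain ⟨n, hn⟩ := (Submodule.mem_iSup_of_chain
      (LinearMap.iterateKer ((M : V →ₗ[k] V) - c • (1 : V →ₗ[k] V))) a).1 ha
    rw [Module.End.mem_maxGenEigenspace]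
    exact ⟨n, by simpa using hn⟩
  refine ⟨?_, ?_, ?_, ?_⟩
  · intro x hx hxq
    apply hB.1
    intro v
    obtain ⟨a, ha, b, hb, rfl⟩ := hdec q v
    rw [map_add, hxq a ha, zero_add]
    exact scaled_compl B.flip _ _ hfg hgf q hM2 q 1 (mul_one q) x hx b hb
  · intro y hy hyq
    apply hB.2
    intro v
    obtain ⟨a, ha, b, hb, rfl⟩ := hdec 1 v
    rw [map_add, LinearMap.add_apply, hyq a ha, zero_add]
    exact scaled_compl B _ _ hfg hgf q hM1 1 q (one_mul q) y hy b hb
  · intro hq1 x hx x' hx'
    exact scaled_iso B.flip _ _ hfg hgf q hM2 q 1 (mul_one q) x hx 1 (Ne.symm hq1) x' hx'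
  · intro hq1 y hy y' hy'
    exact scaled_iso B _ _ hfg hgf q hM1 1 q (one_mul q) y' hy' q hq1 y hy

end Groth.Agent.S19660
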