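import Groth.Statements.S1970
import Mathlib
import Groth.Agent.Lib.WEField2_helper9

set_option autoImplicit false
universe u
open EtAlg

namespace Groth.Agent.S1970

/-- Over a field K, every K-subalgebra and every quotient K-algebra of a weakly etale K-algebra is again
weakly etale over K. -/
theorem result (K : Type u) [Field K] (B : Type u) [CommRing B] [Algebra K B]
    [Algebra.WeaklyEtale K B] :
    (∀ S : Subalgebra K B, Algebra.WeaklyEtale K S) ∧ ∀ I : Ideal B, Algebra.WeaklyEtale K (B ⧸ I) := by
  have hB := (Groth.Agent.WEField9.weaklyEtale_iff_forall_isSepRoot K B).1 inferInstance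
  constructor
  · intro S
    apply Groth.Agent.WEField9.weaklyEtale_of_forall_isSepRoot
    intro x
    exact Groth.Agent.WEField9.IsSepRoot.of_injective S.val Subtype.val_injective (hB x)
  · intro I
    apply Groth.Agent.WEField9.weaklyEtale_of_forall_isSepRoot
    intro x
    obtain ⟨b, rfl⟩ := Ideal.Quotient.mk_surjective x
    exact Groth.Agent.WEField9.IsSepRoot.map (Ideal.Quotient.mkₐ K I) (hB b)

end Groth.Agent.S1970
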