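import Groth.Statements.S1971
import Mathlib
import Groth.Agent.S0525

set_option autoImplicit false
universe u
open EtAlg

namespace Groth.Agent.S1971

/-- Let A be a ring with ideals I and J having the same zero locus in Spec A. Then an A-algebra is a
henselization of the pair (A, I) if and only if it is a henselization of the pair (A, J). -/
theorem result (A : Type u) [CommRing A] (I J : Ideal A)
    (h : PrimeSpectrum.zeroLocus (I : Set A) = PrimeSpectrum.zeroLocus (J : Set A)) (B : Type u) [CommRing B] [Algebra A B] :
    Hens2.IsPairHenselization A I B ↔ Hens2.IsPairHenselization A J B := by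
  have hrad : I.radical = J.radical := by
    rw [← PrimeSpectrum.vanishingIdeal_zeroLocus_eq_radical,
      ← PrimeSpectrum.vanishingIdeal_zeroLocus_eq_radical, h]
  have hle1 : ∀ (I J : Ideal A), I.radical = J.radical →
      (I.map (algebraMap A B)).radical ≤ (J.map (algebraMap A B)).radical := by
    intro I J hr
    rw [Ideal.radical_le_radical_iff]
    calc I.map (algebraMap A B) ≤ I.radical.map (algebraMap A B) := Ideal.map_mono Ideal.le_radical
      _ = J.radical.map (algebraMap A B) := by rw [hr]
      _ ≤ (J.map (algebraMap A B)).radical := Ideal.map_radical_le _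
  have key : ∀ (I J : Ideal A), I.radical = J.radical →
      Hens2.IsPairHenselization A I B → Hens2.IsPairHenselization A J B := by
    intro I J hrad ⟨h1, h2⟩
    have hradB : (I.map (algebraMap A B)).radical = (J.map (algebraMap A B)).radical :=
      le_antisymm (hle1 I J hrad) (hle1 J I hrad.symm)
    refine ⟨(Groth.Agent.S0525.result B _ _ hradB).mp h1, ?_⟩
    intro C _ J' f hJ' hle
    have hJ'rad : HenselianRing C J'.radical :=
      Groth.Agent.Lib.HenselPairOpsLead.henselian_radical hJ'
    apply h2 C J'.radical f hJ'rad
    rw [Ideal.map_le_iff_le_comap]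
    intro x hx
    have hx' : x ∈ J.radical := hrad ▸ Ideal.le_radical hx
    obtain ⟨n, hn⟩ := hx'
    exact ⟨n, by rw [← map_pow]; exact hle (Ideal.mem_map_of_mem f hn)⟩
  exact ⟨key I J hrad, key J I hrad.symm⟩

end Groth.Agent.S1971
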