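import Groth.Statements.S19710
import Mathlib
import Groth.Agent.Lib.FunFldS_helper2

set_option autoImplicit false
open FunFld

namespace Groth.Agent.S19710

/-- Let `k` be an algebraically closed field of characteristic zero. A `g^r_d` on a function field `K/k`
of one variable is a divisor `D` of degree `d` with a subspace `V ⊆ L(D)` of dimension `r + 1`;
`V(-nP) = V ∩ L(D - nP)`, and the `i`-th vanishing order `m_i(V, P)` (`m_0 < ⋯ < m_r`) equals `m`
exactly when `dim V(-mP) = r + 1 - i` and `dim V(-(m+1)P) = r - i`. Let `K_Y` have genus `0` and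
carry a `g^r_d` `(D_Y, V_Y)` with at least a cusp at a place `Q_Y` (`dim V_Y(-2Q_Y) ≥ r`); let
`(D_Z, V_Z)` be a `g^r_d` on a second function field `K_Z`, compatible with `(D_Y, V_Y)` at a node
formed by a place `P ≠ Q_Y` of `K_Y` and a place `Q` of `K_Z` (`dim V_Y(-nP) + dim V_Z(-(d+1-n)Q) =
r + 1` for `0 ≤ n ≤ d + 1`), and let `P'` be a place of `K_Y` different from `P` and from `Q_Y`.
Then `m_i(V_Y, P') < m_i(V_Z, Q)` for all but at most one index: the set of `i ≤ r` for which the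
`i`-th vanishing order of `V_Y` at `P'` equals the `i`-th vanishing order of `V_Z` at `Q` has at
most one element. (In the source `Q_Y` is the point where the rational component `Y` meets a chain
of curves ending in a curve of positive genus, which forces the cusp condition assumed here; the
source works over the complex numbers.) -/
theorem result
    (k : Type*) [Field k] [IsAlgClosed k] [CharZero k]
    (KY : Type*) [Field KY] [Algebra k KY] (hKY : FunFld.IsFunctionField k KY) (hg0 : FunFld.genus k KY = 0)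
    (KZ : Type*) [Field KZ] [Algebra k KZ] (hKZ : FunFld.IsFunctionField k KZ)
    (d r : ℕ) (DY : FunFld.Divisor k KY) (hDY : DY.deg = d) (DZ : FunFld.Divisor k KZ) (hDZ : DZ.deg = d)
    (VY : Submodule k KY) (hVY : VY ≤ FunFld.L DY) (hVYr : Module.finrank k ↥VY = r + 1)
    (VZ : Submodule k KZ) (hVZ : VZ ≤ FunFld.L DZ) (hVZr : Module.finrank k ↥VZ = r + 1)
    (QY : FunFld.Place k KY) (hcusp : r ≤ Module.finrank k ↥(VY ⊓ FunFld.L (DY - Finsupp.single QY ((2 : ℤ)))))
    (P : FunFld.Place k KY) (hP : P ≠ QY) (Q : FunFld.Place k KZ)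
    (hcomp : ∀ n : ℕ, n ≤ d + 1 →
      Module.finrank k ↥(VY ⊓ FunFld.L (DY - Finsupp.single P ((n : ℤ)))) + Module.finrank k ↥(VZ ⊓ FunFld.L (DZ - Finsupp.single Q ((d : ℤ) + 1 - n))) = r + 1)
    (P' : FunFld.Place k KY) (hP'P : P' ≠ P) (hP'Q : P' ≠ QY) :
    {i : ℕ | i ≤ r ∧ ∃ m : ℕ,
        Module.finrank k ↥(VY ⊓ FunFld.L (DY - Finsupp.single P' ((m : ℤ)))) = r + 1 - i ∧
        Module.finrank k ↥(VY ⊓ FunFld.L (DY - Finsupp.single P' ((m : ℤ) + 1))) = r - i ∧
        Module.finrank k ↥(VZ ⊓ FunFld.L (DZ - Finsupp.single Q ((m : ℤ)))) = r + 1 - i ∧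
        Module.finrank k ↥(VZ ⊓ FunFld.L (DZ - Finsupp.single Q ((m : ℤ) + 1))) = r - i}.Subsingleton := by
  classical
  intro i₁ hi₁ i₂ hi₂
  obtain ⟨hi₁r, m₁, h11, h12, h13, h14⟩ := hi₁
  obtain ⟨hi₂r, m₂, h21, h22, h23, h24⟩ := hi₂
  have hP1 : ∀ R : FunFld.Place k KY, R.deg = 1 := fun R => FunFld.Place.deg_eq_one hKY R
  have hsec : ∀ (i m : ℕ), i ≤ r →
      Module.finrank k ↥(VY ⊓ FunFld.L (DY - Finsupp.single P' ((m : ℤ)))) = r + 1 - i →
      Module.finrank k ↥(VZ ⊓ FunFld.L (DZ - Finsupp.single Q ((m : ℤ) + 1))) = r - i →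
      ∃ s, s ∈ VY ∧ s ≠ 0 ∧
        FunFld.div k s + DY = Finsupp.single P' (m : ℤ) + Finsupp.single P ((d : ℤ) - m) := by
    intro i m hir e1 e2
    have hmd : m ≤ d := by
      by_contra hlt
      have := FunFld.vdim_of_deg_lt hKY VY DY P' (n := (m : ℤ)) (by rw [hDY]; omega)
      unfold FunFld.vdim at this
      omega
    have hc := hcomp (d - m) (by omega)
    have e3 : (d : ℤ) + 1 - ((d - m : ℕ) : ℤ) = (m : ℤ) + 1 := by omega
    have e4 : ((d - m : ℕ) : ℤ) = (d : ℤ) - m := by omega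
    rw [e3, e4] at hc
    obtain ⟨s, hsV, hs0, hsL⟩ := FunFld.exists_ne_zero_of_lt_vdim_add hKY VY DY hVY hP'P
      (m := (m : ℤ)) (n := (d : ℤ) - m) (by positivity) (by omega)
      (by rw [hVYr]; unfold FunFld.vdim; omega)
    refine ⟨s, hsV, hs0, ?_⟩
    rw [sub_sub] at hsL
    apply FunFld.div_add_eq_of_mem_L hKY hs0 hsL
    rw [hDY, FunFld.deg_add, FunFld.deg_single, FunFld.deg_single, hP1, hP1]
    push_cast
    ring
  obtain ⟨s₁, hs₁V, hs₁0, hs₁⟩ := hsec i₁ m₁ hi₁r h11 h14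
  obtain ⟨s₂, hs₂V, hs₂0, hs₂⟩ := hsec i₂ m₂ hi₂r h21 h24
  have hoff : ∀ (m : ℕ) (R : FunFld.Place k KY), R ≠ P' → R ≠ P →
      (Finsupp.single P' (m : ℤ) + Finsupp.single P ((d : ℤ) - m) : FunFld.Divisor k KY) R = 0 := by
    intro m R h1 h2
    rw [Finsupp.add_apply, Finsupp.single_apply, Finsupp.single_apply, if_neg (Ne.symm h1),
      if_neg (Ne.symm h2), add_zero]
  obtain ⟨c, hc⟩ := FunFld.cusp_unique hKY hg0 VY DY hVY hVYr hcusp hP'Q hP hs₁V hs₂V hs₁0 hs₂0
    (fun R h1 h2 => by rw [hs₁]; exact hoff m₁ R h1 h2)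
    (fun R h1 h2 => by rw [hs₂]; exact hoff m₂ R h1 h2)
  have hc0 : c ≠ 0 := by
    rintro rfl
    rw [zero_smul] at hc
    exact hs₂0 hc
  have g1 : (FunFld.div k s₁ + DY) P' = m₁ := by
    rw [hs₁, Finsupp.add_apply, Finsupp.single_eq_same, Finsupp.single_apply, if_neg hP'P.symm,
      add_zero]
  have g2 : (FunFld.div k s₂ + DY) P' = m₂ := by
    rw [hs₂, Finsupp.add_apply, Finsupp.single_eq_same, Finsupp.single_apply, if_neg hP'P.symm,
      add_zero]
  rw [Finsupp.add_apply, FunFld.div_apply hKY] at g1 g2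
  rw [hc, Algebra.smul_def, P'.ord_mul ((_root_.map_ne_zero _).mpr hc0) hs₁0,
    P'.ord_algebraMap] at g2
  have hm : m₁ = m₂ := by omega
  subst hm
  omega

end Groth.Agent.S19710
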