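import Groth.Statements.S19764
import Groth.Agent.Lib.SegOne3_helper6

set_option autoImplicit false
universe u
open scoped TensorProduct
attribute [local instance] MvPolynomial.weightedGradedAlgebra
open GrSegre

namespace Groth.Agent.S19764

/-- Let R = k[X] and S = k[Y_1, …, Y_s] be polynomial rings over a field k with every variable of degree
1, s ≥ 2, T = R # S, and M = R(a), N = S(b) for integers a, b. Then (a) if a ≥ b, M # N is a
Cohen–Macaulay T-module; (b) if a < b, depth (M # N) = 1. (Part (a) of the published statement also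
identifies M # N with S(b); that identification is not stated here.) Here the polynomial rings carry
the standard grading by k-subspaces of homogeneous polynomials (indexed by ℤ, all variables of
weight 1); the Segre product T = R # S = ⊕_n R_n ⊗_k S_n is presented abstractly as a graded
k-algebra T with an injective k-algebra homomorphism ψ : T → R ⊗_k S carrying T_n onto the k-span of
the elementary tensors of bidegree (n, n), T_+ is the ideal spanned by the T_n with n > 0, and R(a)
# S(b) = ⊕_n R_{n+a} ⊗_k S_{n+b} is presented abstractly as a graded T-module P with an injective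
k-linear map φ : P → R ⊗_k S carrying P_n onto the k-span of the tensors x ⊗ y with x ∈ R_{n+a}, y ∈
S_{n+b} and turning the action of t ∈ T into that of ψ(t); a module over a ring is called
Cohen–Macaulay when each of its localizations at a prime ideal is zero or a Cohen–Macaulay module
over the local ring (dimension of the support equal to the depth), and the dimension of a module is
the Krull dimension of its support; the depth of P is its grade with respect to T_+ (the common
length of the maximal P-regular sequences in T_+). -/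
theorem result (k : Type u) [Field k] (s : ℕ) (h2s : 2 ≤ s) (T : Type u) [CommRing T] [Algebra k T] (𝒯 : ℤ → Submodule k T) [GradedAlgebra 𝒯] (ψ : T →ₐ[k] TensorProduct k (MvPolynomial (Fin 1) k) (MvPolynomial (Fin s) k)) (hT : GrSeg.IsSegreRing (MvPolynomial.weightedHomogeneousSubmodule k (fun _ : Fin 1 => (1 : ℤ))) (MvPolynomial.weightedHomogeneousSubmodule k (fun _ : Fin s => (1 : ℤ))) 𝒯 ψ) (mT : HomogeneousIdeal 𝒯) (hmT : mT.toIdeal = Ideal.span (⋃ n ∈ Set.Ioi (0 : ℤ), (𝒯 n : Set T))) (a b : ℤ) (P : Type u) [AddCommGroup P] [Module T P] [Module k P] [IsScalarTower k T P] (𝒬 : ℤ → AddSubgroup P) [DirectSum.Decomposition 𝒬] (φ : P →ₗ[k] TensorProduct k (MvPolynomial (Fin 1) k) (MvPolynomial (Fin s) k)) (hP : GrSeg.IsSegreMod ψ (fun n : ℤ => (MvPolynomial.weightedHomogeneousSubmodule k (fun _ : Fin 1 => (1 : ℤ))) (n + a)) (fun n : ℤ => (MvPolynomial.weightedHomogeneousSubmodule k (fun _ : Fin s => (1 : ℤ))) (n + b)) 𝒬 φ) : (b ≤ a → (∀ (q : Ideal T) [q.IsPrime], Subsingleton (LocalizedModule q.primeCompl P) ∨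 LocCoh.IsCohenMacaulayModule (Localization.AtPrime q) (LocalizedModule q.primeCompl P))) ∧ (a < b → LocCoh.idealDepth mT.toIdeal P = (1 : ℕ∞)) := by
  classical
  obtain ⟨hψinj, hψimg⟩ := hT
  have himgT : ∀ n, ψ.toLinearMap '' (𝒯 n : Set T) =
      (Groth.Agent.Lib.SegOneH6.W (k := k) (s := s) 0 0 n : Set _) := by
    intro n
    have h1 := hψimg n
    unfold Groth.Agent.Lib.SegOneH6.W
    simp only [add_zero]
    rw [← h1, Submodule.map_coe]
  have himgP : ∀ n, φ '' (𝒬 n : Set P) =
      (Groth.Agent.Lib.SegOneH6.W (k := k) (s := s) a b n : Set _) := hP.image_piece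
  have hσinj := Groth.Agent.Lib.SegOneH6.tau_injective (𝒬 := 𝒯) (φ := ψ.toLinearMap)
    (a := 0) (b := 0) hψinj himgT
  have hτinj := Groth.Agent.Lib.SegOneH6.tau_injective (𝒬 := 𝒬) (φ := φ)
    (a := a) (b := b) hP.injective himgP
  let σ : T →+* MvPolynomial (Fin s) k :=
    (Groth.Agent.Lib.SegOneH6.E k s).toRingHom.comp ψ.toRingHom
  let τ : P →+ MvPolynomial (Fin s) k := (Groth.Agent.Lib.SegOneH6.tau φ).toAddMonoidHom
  have hσ : ∀ t, σ t = Groth.Agent.Lib.SegOneH6.tau ψ.toLinearMap t := fun _ => rfl
  have hτ : ∀ p, τ p = Groth.Agent.Lib.SegOneH6.tau φ p := fun _ => rfl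
  have hmul : ∀ t p, τ (t • p) = σ t * τ p := by
    intro t p
    rw [hτ, hτ, hσ]
    simp only [Groth.Agent.Lib.SegOneH6.tau_apply, AlgHom.toLinearMap_apply]
    rw [hP.map_smul, Groth.Agent.Lib.SegOneH6.act_eq_mul, map_mul]
  constructor
  · intro hab q _
    right
    have hc : (b - a).toNat = 0 := by omega
    have hσbij : Function.Bijective σ := by
      refine ⟨hσinj, fun f => ?_⟩
      exact Groth.Agent.Lib.SegOneH6.exists_tau_eq_of_mem_Sge himgT f (by
        rw [show ((0 : ℤ) - 0).toNat = 0 from rfl, Groth.Agent.Lib.SegOneH6.Sge_zero]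
        trivial)
    have hτbij : Function.Bijective τ := by
      refine ⟨hτinj, fun f => ?_⟩
      exact Groth.Agent.Lib.SegOneH6.exists_tau_eq_of_mem_Sge himgP f (by
        rw [hc, Groth.Agent.Lib.SegOneH6.Sge_zero]
        trivial)
    exact Groth.Agent.Lib.SegOneH6.isCM_of_bijective σ hσbij τ hτbij hmul q
  · intro hab
    have hc : 1 ≤ (b - a).toNat := by omega
    let i0 : Fin s := ⟨0, by omega⟩
    have hI : ∀ t ∈ mT.toIdeal, σ t ∈ Groth.Agent.Lib.SegOneH6.Sge k s 1 := by
      intro t ht
      rw [hmT] at ht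
      induction ht using Submodule.span_induction with
      | mem t ht =>
        obtain ⟨n, hn, htn⟩ := Set.mem_iUnion₂.mp ht
        have h1 := (Groth.Agent.Lib.SegOneH6.tau_homog himgT htn).1
        rw [hσ]
        refine Groth.Agent.Lib.SegOneH6.mem_Sge_of_homog h1 ?_
        have : (0 : ℤ) < n := hn
        push_cast
        omega
      | zero => rw [map_zero]; exact Submodule.zero_mem _
      | add x y _ _ hx hy => rw [map_add]; exact Submodule.add_mem _ hx hy
      | smul r x _ hx => rw [smul_eq_mul, map_mul]; exact Ideal.mul_mem_left _ _ hx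
    have h1 : (MvPolynomial.X 0 : MvPolynomial (Fin 1) k) ⊗ₜ[k]
        (MvPolynomial.X i0 : MvPolynomial (Fin s) k) ∈
        (Groth.Agent.Lib.SegOneH6.W (k := k) (s := s) 0 0 1 : Set _) := by
      refine Submodule.subset_span ⟨_, ?_, _, ?_, rfl⟩
      · have := Groth.Agent.Lib.SegOneH6.X_pow_mem_A (k := k) 1
        simpa using this
      · rw [MvPolynomial.mem_weightedHomogeneousSubmodule]
        have := MvPolynomial.isWeightedHomogeneous_X k (fun _ : Fin s => (1 : ℤ)) i0
        simpa using this
    rw [← himgT 1] at h1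
    obtain ⟨t₁, ht₁, hψt₁⟩ := h1
    have ht₁I : t₁ ∈ mT.toIdeal := by
      rw [hmT]
      exact Ideal.subset_span (Set.mem_iUnion₂.mpr ⟨1, by simp, ht₁⟩)
    have hσt₁ : σ t₁ = MvPolynomial.X i0 := by
      rw [hσ, Groth.Agent.Lib.SegOneH6.tau_apply, hψt₁, Groth.Agent.Lib.SegOneH6.E_tmul]
      simp [Groth.Agent.Lib.SegOneH6.ev1]
    refine Groth.Agent.Lib.SegOneH6.idealDepth_eq_one mT.toIdeal σ τ hτinj hmul (b - a).toNat hc
      (fun f => ⟨fun hf => Groth.Agent.Lib.SegOneH6.exists_tau_eq_of_mem_Sge himgP f hf, ?_⟩)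
      hI i0 t₁ ht₁I hσt₁
    rintro ⟨p, rfl⟩
    exact Groth.Agent.Lib.SegOneH6.tau_mem_Sge himgP p

end Groth.Agent.S19764
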