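import Groth.Statements.S19799
import Mathlib
import Groth.Agent.Lib.FinAlgClosed_helper1

set_option autoImplicit false
universe u v w
open scoped TensorProduct
open CAlg

namespace Groth.Agent.S19799

/-- Let k be an algebraically closed field and A, B commutative k-algebras, each finite-dimensional as a
k-vector space. Then reduction commutes with tensor products: the kernel of the canonical surjection
A ⊗_k B ⟶ (A/nilradical A) ⊗_k (B/nilradical B) equals the nilradical of A ⊗_k B, so that this
surjection induces an isomorphism (A ⊗_k B)_red ≅ A_red ⊗_k B_red and in particular A_red ⊗_k B_red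
is reduced. -/
theorem result (k : Type u) [Field k]
    [IsAlgClosed k] (A : Type v) [CommRing A] [Algebra k A] [Module.Finite k A]
    (B : Type w) [CommRing B] [Algebra k B] [Module.Finite k B] :
    RingHom.ker (Algebra.TensorProduct.map (Ideal.Quotient.mkₐ k (nilradical A))
      (Ideal.Quotient.mkₐ k (nilradical B))).toRingHom = nilradical (A ⊗[k] B) := by
  classical
  have : Fintype (A →ₐ[k] k) := Fintype.ofFinite _
  have : Fintype (B →ₐ[k] k) := Fintype.ofFinite _
  let evA : A →ₐ[k] ((A →ₐ[k] k) → k) := AlgHom.pi (R := k) (fun f : A →ₐ[k] k => f)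
  let evB : B →ₐ[k] ((B →ₐ[k] k) → k) := AlgHom.pi (R := k) (fun f : B →ₐ[k] k => f)
  have hsA : Function.Surjective evA := Lib.FinAlgH1.eval_surjective k A
  have hsB : Function.Surjective evB := Lib.FinAlgH1.eval_surjective k B
  have hkA : RingHom.ker evA = nilradical A := Lib.FinAlgH1.ker_eval k A
  have hkB : RingHom.ker evB = nilradical B := Lib.FinAlgH1.ker_eval k B
  have hkQ : RingHom.ker (Algebra.TensorProduct.map (Ideal.Quotient.mkₐ k (nilradical A))
      (Ideal.Quotient.mkₐ k (nilradical B))).toRingHom =
      RingHom.ker (Algebra.TensorProduct.map evA evB) := by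
    have h1 := Algebra.TensorProduct.map_ker (Ideal.Quotient.mkₐ k (nilradical A))
      (Ideal.Quotient.mkₐ k (nilradical B)) (Ideal.Quotient.mkₐ_surjective k _)
      (Ideal.Quotient.mkₐ_surjective k _)
    have h2 := Algebra.TensorProduct.map_ker evA evB hsA hsB
    have hmkA : RingHom.ker (Ideal.Quotient.mkₐ k (nilradical A)) = nilradical A := by
      ext x; rw [RingHom.mem_ker, Ideal.Quotient.mkₐ_eq_mk, Ideal.Quotient.eq_zero_iff_mem]
    have hmkB : RingHom.ker (Ideal.Quotient.mkₐ k (nilradical B)) = nilradical B := by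
      ext x; rw [RingHom.mem_ker, Ideal.Quotient.mkₐ_eq_mk, Ideal.Quotient.eq_zero_iff_mem]
    rw [hmkA, hmkB] at h1
    rw [hkA, hkB] at h2
    exact h1.trans h2.symm
  rw [hkQ]
  have hred : IsReduced (((A →ₐ[k] k) → k) ⊗[k] ((B →ₐ[k] k) → k)) :=
    isReduced_of_injective
      (Algebra.TensorProduct.piScalarRight k k ((A →ₐ[k] k) → k) (B →ₐ[k] k))
      (Algebra.TensorProduct.piScalarRight k k ((A →ₐ[k] k) → k) (B →ₐ[k] k)).injective
  apply le_antisymm
  · rw [Algebra.TensorProduct.map_ker evA evB hsA hsB, hkA, hkB]
    refine sup_le ?_ ?_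
    · rw [Ideal.map_le_iff_le_comap]
      intro a ha
      rw [Ideal.mem_comap, mem_nilradical]
      exact (mem_nilradical.mp ha).map _
    · rw [Ideal.map_le_iff_le_comap]
      intro b hb
      rw [Ideal.mem_comap, mem_nilradical]
      exact (mem_nilradical.mp hb).map _
  · intro x hx
    rw [RingHom.mem_ker]
    have hn : IsNilpotent (Algebra.TensorProduct.map evA evB x) := (mem_nilradical.mp hx).map _
    exact hn.eq_zero

end Groth.Agent.S19799
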