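import Groth.Statements.S19804
import Mathlib

set_option autoImplicit false
open scoped TensorProduct
universe u v w
open Brauer

namespace Groth.Agent.S19804

theorem aux {R : Type u} [CommRing R] [ConnectedSpace (PrimeSpectrum R)] {A : Type v} [Ring A]
    [Algebra R A] [IsAzumaya R A]
    (e : A) (he : IsIdempotentElem e) (R' : Type w) [CommRing R'] [Nontrivial R'] [Algebra R R']
    (h0 : (1 : R') ⊗ₜ[R] e = (0 : R' ⊗[R] A)) : e = 0 := by
  obtain ⟨f, hf⟩ : ∃ f : A →ₗ[R] A, ∀ a, f a = e * a := ⟨LinearMap.mulLeft R e, fun a => rfl⟩
  have hffa : ∀ a, f (f a) = f a := fun a => by rw [hf, hf, ← mul_assoc, he.eq]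
  have hπι : f.rangeRestrict ∘ₗ (LinearMap.range f).subtype = LinearMap.id := by
    ext ⟨x, a, rfl⟩
    simp [hffa]
  have hAfin : Module.Finite R A := inferInstance
  have hAproj : Module.Projective R A := inferInstance
  have hMfin : Module.Finite R (LinearMap.range f) := inferInstance
  have hMproj : Module.Projective R (LinearMap.range f) :=
    Module.Projective.of_split (LinearMap.range f).subtype f.rangeRestrict hπι
  have hMflat : Module.Flat R (LinearMap.range f) := inferInstance
  have hMfp : Module.FinitePresentation R (LinearMap.range f) :=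
    Module.finitePresentation_of_projective R _
  have hsub : Subsingleton (R' ⊗[R] (LinearMap.range f)) := by
    have hinj : Function.Injective (LinearMap.lTensor R' (LinearMap.range f).subtype) := by
      have hc : (LinearMap.lTensor R' f.rangeRestrict) ∘ₗ
          (LinearMap.lTensor R' (LinearMap.range f).subtype) = LinearMap.id := by
        rw [← LinearMap.lTensor_comp, hπι, LinearMap.lTensor_id]
      exact Function.LeftInverse.injective (g := LinearMap.lTensor R' f.rangeRestrict)
        (fun x => LinearMap.congr_fun hc x)
    have hz : ∀ z : R' ⊗[R] (LinearMap.range f),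
        LinearMap.lTensor R' (LinearMap.range f).subtype z = 0 := by
      intro z
      induction z using TensorProduct.induction_on with
      | zero => simp
      | tmul r m =>
        obtain ⟨m, a, rfl⟩ := m
        have h1 : (r ⊗ₜ[R] (e * a) : R' ⊗[R] A) = ((1 : R') ⊗ₜ[R] e) * (r ⊗ₜ[R] a) := by
          rw [Algebra.TensorProduct.tmul_mul_tmul, one_mul]
        simp only [LinearMap.lTensor_tmul, Submodule.subtype_apply]
        rw [hf, h1, h0, zero_mul]
      | add x y hx hy => rw [map_add, hx, hy, add_zero]
    exact ⟨fun x y => hinj (by rw [hz x, hz y])⟩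
  have hlc := Module.isLocallyConstant_rankAtStalk (R := R) (M := LinearMap.range f)
  obtain ⟨q⟩ : Nonempty (PrimeSpectrum R') := inferInstance
  have h1 : Module.rankAtStalk (R := R) (LinearMap.range f) (q.comap (algebraMap R R')) = 0 := by
    rw [← Module.rankAtStalk_baseChange (S := R') (M := LinearMap.range f) q,
      Module.rankAtStalk_eq_zero_of_subsingleton]
    rfl
  have hconst : ∀ p, Module.rankAtStalk (R := R) (LinearMap.range f) p = 0 := by
    intro p
    rw [← h1]
    exact hlc.apply_eq_of_preconnectedSpace p _
  have hs : Subsingleton (LinearMap.range f) :=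
    Module.rankAtStalk_eq_zero_iff_subsingleton.mp (funext hconst)
  have hem : (⟨e, 1, by rw [hf, mul_one]⟩ : LinearMap.range f) = 0 := Subsingleton.elim _ _
  exact congrArg Subtype.val hem


/-- Let R be a commutative ring with Spec R connected, A an Azumaya R-algebra and e an idempotent
element of A. If for some nonzero commutative R-algebra R' the element 1 ⊗ e of R' ⊗_R A is 0, then
e = 0; and if 1 ⊗ e = 1 in R' ⊗_R A, then e = 1. (The published statement is for an Azumaya algebra
over a connected scheme S and base change to an arbitrary nonempty S-scheme T; this row takes S and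
T affine.) -/
theorem result {R : Type u} [CommRing R]
    [ConnectedSpace (PrimeSpectrum R)] {A : Type v} [Ring A] [Algebra R A] [IsAzumaya R A]
    (e : A) (he : IsIdempotentElem e) (R' : Type w) [CommRing R'] [Nontrivial R'] [Algebra R R'] :
    ((1 : R') ⊗ₜ[R] e = (0 : R' ⊗[R] A) → e = 0) ∧ ((1 : R') ⊗ₜ[R] e = (1 : R' ⊗[R] A) → e = 1) := by
  refine ⟨aux e he R', fun h1 => ?_⟩
  have h2 : (1 : R') ⊗ₜ[R] (1 - e) = (0 : R' ⊗[R] A) := by
    rw [TensorProduct.tmul_sub, h1, ← Algebra.TensorProduct.one_def, sub_self]
  have := aux (1 - e) he.one_sub R' h2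
  exact (sub_eq_zero.mp this).symm

end Groth.Agent.S19804
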