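import Groth.Statements.S19856
import Mathlib

set_option autoImplicit false
universe u v
open CAlg

namespace Groth.Agent.S19856

/-- Ring-level form: let O be a discrete valuation ring and G a finite group acting faithfully on O by
ring automorphisms, such that every element of G acts trivially on the residue field of O (that is,
g • a - a lies in the maximal ideal for all a) and such that the order of G is nonzero in the
residue field of O. Then G is cyclic. (The source states this for a finite group of order invertible
in an algebraically closed field k acting faithfully on a smooth connected k-variety and the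
subgroup of elements fixing pointwise a codimension-one irreducible component of the ramification
locus, applied to the local ring at the generic point of that component; it is stated here for an
arbitrary discrete valuation ring with a faithful action. The source also shows that this subgroup
is nontrivial; that geometric part is not stated.) -/
theorem result
    (O : Type u) [CommRing O] [IsDomain O] [IsDiscreteValuationRing O]
    (G : Type v) [Group G] [Finite G] [MulSemiringAction G O] [FaithfulSMul G O]
    (htriv : ∀ (g : G) (a : O), g • a - a ∈ IsLocalRing.maximalIdeal O)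
    (hcard : ((Nat.card G : ℕ) : IsLocalRing.ResidueField O) ≠ 0) :
    IsCyclic G := by
  classical
  obtain ⟨ϖ, hϖ⟩ := IsDiscreteValuationRing.exists_irreducible O
  have hm : IsLocalRing.maximalIdeal O = Ideal.span {ϖ} := hϖ.maximalIdeal_eq
  have hϖ0 : ϖ ≠ 0 := hϖ.ne_zero
  have hmem : ∀ x : O, x ∈ IsLocalRing.maximalIdeal O ↔ ∃ c, c * ϖ = x := by
    intro x; rw [hm, Ideal.mem_span_singleton']
  have hpow : ∀ (i : ℕ) (x : O), x ∈ IsLocalRing.maximalIdeal O ^ i ↔ ∃ c, c * ϖ ^ i = x := by
    intro i x; rw [hm, Ideal.span_singleton_pow, Ideal.mem_span_singleton']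
  have hgϖ : ∀ g : G, ∃ c, c * ϖ = g • ϖ := by
    intro g
    rw [← hmem]
    have h1 := htriv g ϖ
    have h2 : ϖ ∈ IsLocalRing.maximalIdeal O := (hmem ϖ).mpr ⟨1, one_mul _⟩
    have := Ideal.add_mem _ h1 h2
    simpa using this
  choose u hu using hgϖ
  have hu1 : u 1 = 1 := by
    apply mul_right_cancel₀ hϖ0
    rw [hu, one_smul, one_mul]
  have humul : ∀ g h : G, u (g * h) = (g • u h) * u g := by
    intro g h
    apply mul_right_cancel₀ hϖ0
    rw [hu, mul_smul, ← hu h, smul_mul', ← hu g]; ring
  have hres : ∀ (g : G) (a : O), IsLocalRing.residue O (g • a) = IsLocalRing.residue O a := by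
    intro g a
    rw [← sub_eq_zero, ← map_sub, IsLocalRing.residue_eq_zero_iff]
    exact htriv g a
  let f : G →* IsLocalRing.ResidueField O :=
    { toFun := fun g => IsLocalRing.residue O (u g)
      map_one' := by rw [hu1, map_one]
      map_mul' := fun g h => by rw [humul, map_mul, hres, mul_comm] }
  have hfdef : ∀ g, f g = IsLocalRing.residue O (u g) := fun g => rfl
  have hker : ∀ g : G, f g = 1 → g = 1 := by
    intro g hg
    rw [hfdef] at hg
    have hugi : ∀ i : ℕ, u g ^ i - 1 ∈ IsLocalRing.maximalIdeal O := by
      intro i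
      rw [← IsLocalRing.residue_eq_zero_iff, map_sub, map_pow, map_one, hg, one_pow, sub_self]
    have hB : ∀ (i : ℕ) (b : O), b ∈ IsLocalRing.maximalIdeal O ^ i →
        g • b - b ∈ IsLocalRing.maximalIdeal O ^ (i+1) := by
      intro i b hb
      obtain ⟨c, rfl⟩ := (hpow i b).mp hb
      have e1 : g • (c * ϖ ^ i) - c * ϖ ^ i =
          ((g • c - c) * u g ^ i + c * (u g ^ i - 1)) * ϖ ^ i := by
        rw [smul_mul', smul_pow', ← hu g]; ring
      rw [e1, pow_succ']
      apply Ideal.mul_mem_mul
      · exact Ideal.add_mem _ (Ideal.mul_mem_right _ _ (htriv g c))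
          (Ideal.mul_mem_left _ _ (hugi i))
      · exact (hpow i _).mpr ⟨1, one_mul _⟩
    have hC : ∀ (i : ℕ) (b : O), b ∈ IsLocalRing.maximalIdeal O ^ i → ∀ s : ℕ,
        g ^ s • b - b ∈ IsLocalRing.maximalIdeal O ^ (i+1) := by
      intro i b hb s
      induction s with
      | zero => simp
      | succ s ih =>
        have hgsb : g ^ s • b ∈ IsLocalRing.maximalIdeal O ^ i := by
          have : g ^ s • b = (g ^ s • b - b) + b := by ring
          rw [this]
          exact Ideal.add_mem _ (Ideal.pow_le_pow_right (Nat.le_succ i) ih) hb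
        have e : g ^ (s+1) • b - b = (g • (g ^ s • b) - g ^ s • b) + (g ^ s • b - b) := by
          rw [pow_succ', mul_smul]; ring
        rw [e]
        exact Ideal.add_mem _ (hB i _ hgsb) ih
    have htel : ∀ (a : O) (t : ℕ),
        g ^ t • a - a = ∑ s ∈ Finset.range t, g ^ s • (g • a - a) := by
      intro a t
      induction t with
      | zero => simp
      | succ t ih =>
        rw [Finset.sum_range_succ, ← ih, smul_sub, ← mul_smul, ← pow_succ]; ring
    obtain ⟨n, hn⟩ : ∃ n, n = orderOf g := ⟨_, rfl⟩
    have hgn : g ^ n = 1 := hn ▸ pow_orderOf_eq_one g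
    have hnunit : IsUnit ((n : ℕ) : O) := by
      have hdvd : n ∣ Nat.card G := hn ▸ orderOf_dvd_natCard g
      obtain ⟨k, hk⟩ := hdvd
      have hne : ((n : ℕ) : IsLocalRing.ResidueField O) ≠ 0 := by
        intro h0
        apply hcard
        rw [hk, Nat.cast_mul, h0, zero_mul]
      by_contra hnu
      apply hne
      have hmm : ((n : ℕ) : O) ∈ IsLocalRing.maximalIdeal O :=
        (IsLocalRing.mem_maximalIdeal _).mpr hnu
      rw [← IsLocalRing.residue_eq_zero_iff] at hmm
      simpa using hmm
    have hP : ∀ (i : ℕ) (a : O), g • a - a ∈ IsLocalRing.maximalIdeal O ^ i := by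
      intro i
      induction i with
      | zero => intro a; simp
      | succ i ih =>
        intro a
        have h0 : (0 : O) = ∑ s ∈ Finset.range n, g ^ s • (g • a - a) := by
          rw [← htel a n, hgn, one_smul, sub_self]
        have h1 : ∑ s ∈ Finset.range n, g ^ s • (g • a - a) = (n : O) * (g • a - a) +
            ∑ s ∈ Finset.range n, (g ^ s • (g • a - a) - (g • a - a)) := by
          rw [Finset.sum_sub_distrib, Finset.sum_const, Finset.card_range, nsmul_eq_mul]; ring
        have h2 : ∑ s ∈ Finset.range n, (g ^ s • (g • a - a) - (g • a - a)) ∈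
            IsLocalRing.maximalIdeal O ^ (i+1) :=
          Ideal.sum_mem _ (fun s _ => hC i _ (ih a) s)
        have h3 : (n : O) * (g • a - a) ∈ IsLocalRing.maximalIdeal O ^ (i+1) := by
          have h4 : (n : O) * (g • a - a) =
              - ∑ s ∈ Finset.range n, (g ^ s • (g • a - a) - (g • a - a)) := by
            rw [eq_neg_iff_add_eq_zero, ← h1, ← h0]
          rw [h4]; exact (Ideal.neg_mem_iff _).mpr h2
        obtain ⟨v, hv⟩ := hnunit
        have h5 : g • a - a = (↑v⁻¹ : O) * ((n : O) * (g • a - a)) := by
          rw [← mul_assoc, ← hv, Units.inv_mul, one_mul]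
        rw [h5]; exact Ideal.mul_mem_left _ _ h3
    apply eq_of_smul_eq_smul (α := O)
    intro a
    rw [one_smul]
    have hbot : g • a - a ∈ (⨅ i : ℕ, IsLocalRing.maximalIdeal O ^ i) := by
      rw [Ideal.mem_iInf]; exact fun i => hP i a
    rw [Ideal.iInf_pow_eq_bot_of_isLocalRing _ (IsLocalRing.maximalIdeal.isMaximal O).ne_top]
      at hbot
    exact sub_eq_zero.mp hbot
  have hFinj : Function.Injective f.toHomUnits := by
    rw [injective_iff_map_eq_one]
    intro g hg
    apply hker
    have := congrArg Units.val hg
    simpa using this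
  refine isCyclic_of_subgroup_isDomain f (fun g h hgh => hFinj (Units.ext ?_))
  simpa using hgh

end Groth.Agent.S19856
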