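import Groth.Statements.S19858
import Mathlib

set_option autoImplicit false
universe u
open EGA4

namespace Groth.Agent.S19858

open scoped TensorProduct

theorem flat_of_faithfullyFlat_comp (A B C : Type u) [CommRing A] [CommRing B] [CommRing C]
    [Algebra A B] [Algebra B C] [Algebra A C] [IsScalarTower A B C] [Module.FaithfullyFlat B C]
    [Module.Flat A C] : Module.Flat A B := by
  rw [Module.Flat.iff_lTensor_preserves_injective_linearMap]
  intro N P _ _ _ _ f hf
  have h1 : Function.Injective (LinearMap.lTensor C f) :=
    Module.Flat.lTensor_preserves_injective_linearMap f hf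
  have h2 : Function.Injective (LinearMap.baseChange B f) := by
    rw [← Module.FaithfullyFlat.lTensor_injective_iff_injective B C]
    have key : ∀ z, (TensorProduct.AlgebraTensorModule.cancelBaseChange A B C C P)
        (LinearMap.lTensor C (LinearMap.baseChange B f) z) =
        LinearMap.lTensor C f ((TensorProduct.AlgebraTensorModule.cancelBaseChange A B C C N) z) := by
      intro z
      induction z using TensorProduct.induction_on with
      | zero => simp
      | tmul c y =>
        induction y using TensorProduct.induction_on with
        | zero => simp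
        | tmul b n => simp
        | add y1 y2 h1 h2 => simp only [TensorProduct.tmul_add, map_add, h1, h2]
      | add z1 z2 h1 h2 => simp only [map_add, h1, h2]
    intro z1 z2 hz
    apply (TensorProduct.AlgebraTensorModule.cancelBaseChange A B C C N).injective
    apply h1
    rw [← key, ← key, hz]
  exact h2

theorem domain_intClosed_of_faithfullyFlat (R R' : Type u) [CommRing R] [CommRing R']
    [Algebra R R'] [Module.FaithfullyFlat R R'] [IsDomain R'] [IsIntegrallyClosed R'] :
    IsDomain R ∧ IsIntegrallyClosed R := by
  have hinj : Function.Injective (algebraMap R R') := FaithfulSMul.algebraMap_injective R R'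
  have hdom : IsDomain R := hinj.isDomain (algebraMap R R')
  refine ⟨hdom, ?_⟩
  rw [isIntegrallyClosed_iff (FractionRing R)]
  intro x hx
  have hg : Function.Injective ((algebraMap R' (FractionRing R')).comp (algebraMap R R')) :=
    (IsFractionRing.injective R' (FractionRing R')).comp hinj
  obtain ⟨φ, hφ⟩ : ∃ φ : FractionRing R →+* FractionRing R', ∀ r : R,
      φ (algebraMap R (FractionRing R) r) =
        algebraMap R' (FractionRing R') (algebraMap R R' r) :=
    ⟨IsFractionRing.lift hg, fun r => IsFractionRing.lift_algebraMap hg r⟩
  obtain ⟨a, b, hb, rfl⟩ := IsFractionRing.div_surjective (A := R) x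
  have hb0 : b ≠ 0 := nonZeroDivisors.ne_zero hb
  have hint : IsIntegral R' (φ (algebraMap R (FractionRing R) a / algebraMap R (FractionRing R) b)) := by
    refine IsIntegral.map_of_comp_eq (algebraMap R R') φ ?_ hx
    ext r; exact (hφ r).symm
  obtain ⟨c, hc⟩ := IsIntegrallyClosed.algebraMap_eq_of_integral hint
  have hb' : algebraMap R' (FractionRing R') (algebraMap R R' b) ≠ 0 := by
    intro h0
    apply hb0
    apply hg
    rw [map_zero]
    exact h0
  have hcb : c * algebraMap R R' b = algebraMap R R' a := by
    apply IsFractionRing.injective R' (FractionRing R')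
    rw [map_mul, hc, map_div₀, hφ, hφ, div_mul_cancel₀ _ hb']
  have ha : a ∈ Ideal.span {b} := by
    rw [← Ideal.comap_map_eq_self_of_faithfullyFlat (B := R') (Ideal.span {b}), Ideal.mem_comap,
      Ideal.map_span, Set.image_singleton, Ideal.mem_span_singleton']
    exact ⟨c, hcb⟩
  obtain ⟨d, hd⟩ := Ideal.mem_span_singleton'.mp ha
  refine ⟨d, ?_⟩
  have hbK : algebraMap R (FractionRing R) b ≠ 0 := by
    intro h0
    apply hb0
    apply IsFractionRing.injective R (FractionRing R)
    rw [map_zero]
    exact h0
  rw [← hd, map_mul, mul_div_assoc, div_self hbK, mul_one]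

theorem isNormalRing_of_faithfullyFlat {R R' : Type u} [CommRing R] [CommRing R'] (f : R →+* R')
    (hf : f.FaithfullyFlat) (h : EGA4.IsNormalRing R') : EGA4.IsNormalRing R := by
  algebraize [f]
  intro p hp
  obtain ⟨q, hq, hlo⟩ := Ideal.exists_isPrime_liesOver_of_faithfullyFlat (B := R') p
  letI := Localization.AtPrime.algebraOfLiesOver p q
  have hloc : IsLocalHom (algebraMap (Localization.AtPrime p) (Localization.AtPrime q)) := by
    rw [RingHom.algebraMap_toAlgebra]
    exact Localization.isLocalHom_localRingHom p q (algebraMap R R') Ideal.LiesOver.over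
  have hff : Module.FaithfullyFlat (Localization.AtPrime p) (Localization.AtPrime q) :=
    Module.FaithfullyFlat.of_flat_of_isLocalHom
  obtain ⟨hdom, hic⟩ := h q
  exact domain_intClosed_of_faithfullyFlat (Localization.AtPrime p) (Localization.AtPrime q)

theorem normal_of_ringEquiv {R R' : Type u} [CommRing R] [CommRing R'] (e : R ≃+* R')
    (h : EGA4.IsNormalRing R') : EGA4.IsNormalRing R :=
  isNormalRing_of_faithfullyFlat e.toRingHom (RingHom.FaithfullyFlat.of_bijective e.bijective) h

theorem fibre_step (A B C : Type u) [CommRing A] [CommRing B] [CommRing C] [Algebra A B]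
    [Algebra B C] [Algebra A C] [IsScalarTower A B C] [Module.FaithfullyFlat B C]
    (k k' : Type u) [Field k] [Field k'] [Algebra A k] [Algebra k k']
    (h : EGA4.IsNormalRing (k' ⊗[k] (k ⊗[A] C))) : EGA4.IsNormalRing (k' ⊗[k] (k ⊗[A] B)) := by
  letI : Algebra A k' := ((algebraMap k k').comp (algebraMap A k)).toAlgebra
  haveI : IsScalarTower A k k' := IsScalarTower.of_algebraMap_eq fun x => rfl
  have h6 : EGA4.IsNormalRing (k' ⊗[A] C) :=
    normal_of_ringEquiv (Algebra.TensorProduct.cancelBaseChange A k k k' C).symm.toRingEquiv h
  have h5 : EGA4.IsNormalRing (C ⊗[A] k') :=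
    normal_of_ringEquiv (Algebra.TensorProduct.comm A C k').toRingEquiv h6
  have h4 : EGA4.IsNormalRing (C ⊗[B] (B ⊗[A] k')) :=
    normal_of_ringEquiv (Algebra.TensorProduct.cancelBaseChange A B B C k').toRingEquiv h5
  have h3 : EGA4.IsNormalRing ((B ⊗[A] k') ⊗[B] C) :=
    normal_of_ringEquiv (Algebra.TensorProduct.comm B (B ⊗[A] k') C).toRingEquiv h4
  have hT : EGA4.IsNormalRing (B ⊗[A] k') :=
    isNormalRing_of_faithfullyFlat (algebraMap (B ⊗[A] k') ((B ⊗[A] k') ⊗[B] C))
      (by rw [RingHom.faithfullyFlat_algebraMap_iff]; infer_instance) h3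
  have h2 : EGA4.IsNormalRing (k' ⊗[A] B) :=
    normal_of_ringEquiv (Algebra.TensorProduct.comm A k' B).toRingEquiv hT
  exact normal_of_ringEquiv (Algebra.TensorProduct.cancelBaseChange A k k k' B).toRingEquiv h2


/-- Let A → B → C be homomorphisms of Noetherian rings such that C is faithfully flat over B and the
composite A → C is a normal homomorphism (flat, with geometrically normal fibres). Then A → B is a
normal homomorphism. (In the source C is the adic completion of A along an ideal and A → C is
assumed normal; only the faithful flatness of B → C and the normality of A → C enter, so C is an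
arbitrary Noetherian ring here.) -/
theorem result (A B C : Type u)
    [CommRing A] [CommRing B] [CommRing C] [IsNoetherianRing A] [IsNoetherianRing B] [IsNoetherianRing C]
    [Algebra A B] [Algebra B C] [Algebra A C] [IsScalarTower A B C] [Module.FaithfullyFlat B C]
    (hAC : EGA4.IsNormalHom A C) : EGA4.IsNormalHom A B := by
  obtain ⟨hflat, hfib⟩ := hAC
  refine ⟨flat_of_faithfullyFlat_comp A B C, ?_⟩
  intro p hp k' _ _ hfin
  have hC := hfib p k' hfin
  exact fibre_step A B C p.ResidueField k' hC

end Groth.Agent.S19858
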