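import Groth.Statements.S1986
import Mathlib
import Groth.Agent.Lib.InsepSol11_helper8
import Groth.Agent.Lib.InsepSol12_helper8
import Groth.Agent.Lib.FSGeomRed_helper3

set_option autoImplicit false
universe u
open EtAlg

namespace Groth.Agent.S1986

/-- Let A -> B be an extension of discrete valuation rings with separable extension of fraction fields
L/K and B a Nagata ring. If some finite extension of K is a solution for A -> B, then some finite
separable extension of K is a solution as well. -/
theorem result (A B K L : Type u) [CommRing A] [IsDomain A] [IsDiscreteValuationRing A]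
    [CommRing B] [IsDomain B] [IsDiscreteValuationRing B] [Algebra A B] [IsLocalHom (algebraMap A B)]
    (hinj : Function.Injective (algebraMap A B))
    [Field K] [Field L] [Algebra A K] [IsFractionRing A K] [Algebra B L] [IsFractionRing B L]
    [Algebra K L] [Algebra A L] [IsScalarTower A K L] [IsScalarTower A B L] [Algebra.IsSeparable K L] (hB : CAlg.IsNagata B)
    (K₂ : Type u) [Field K₂] [Algebra K K₂] [FiniteDimensional K K₂] (h₂ : EtRam.IsSolution B K L K₂) :
    ∃ (K₃ : Type u) (_ : Field K₃) (_ : Algebra K K₃) (_ : FiniteDimensional K K₃) (_ : Algebra.IsSeparable K K₃),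
      EtRam.IsSolution B K L K₃ := by
  classical
  haveI : Algebra.IsGeometricallyReduced K L := by
    haveI : Algebra.FormallyEtale K L := Algebra.FormallyEtale.of_isSeparable K L
    haveI : Algebra.FormallySmooth K L := inferInstance
    exact (Groth.Agent.Lib.FSGRH3.formallySmooth_iff_isGeometricallyReduced K L).mp inferInstance
  obtain ⟨p, hpK⟩ := CharP.exists K
  rcases CharP.char_is_prime_or_zero K p with hpp | rfl
  · haveI : Fact p.Prime := ⟨hpp⟩
    have key : ∀ n : ℕ, ∀ (K₂ : Type u) [Field K₂] [Algebra K K₂] [FiniteDimensional K K₂],
        Field.finInsepDegree K K₂ = n → EtRam.IsSolution B K L K₂ →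
        ∃ (K₃ : Type u) (_ : Field K₃) (_ : Algebra K K₃) (_ : FiniteDimensional K K₃)
          (_ : Algebra.IsSeparable K K₃), EtRam.IsSolution B K L K₃ := by
      intro n
      induction n using Nat.strong_induction_on with
      | _ n ih =>
        intro K₂ _ _ _ hn hsol
        by_cases hsep : Algebra.IsSeparable K K₂
        · exact ⟨K₂, inferInstance, inferInstance, inferInstance, hsep, hsol⟩
        · obtain ⟨E, hpi, hdeg⟩ := Groth.Agent.Lib.InsepSolH8.exists_top_step p hsep
          haveI := hpi
          obtain ⟨K₃, i1, i2, i3, i4, hfd, hsep₃, hsol₃⟩ :=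
            Groth.Agent.Lib.InsepSolH8.insep_step p A B K L E K₂ hB hdeg hsol
          haveI : FiniteDimensional K K₃ := Module.Finite.trans E K₃
          have h1 := Field.finInsepDegree_mul_finInsepDegree_of_isAlgebraic K E K₃
          have h2 := Field.finInsepDegree_mul_finInsepDegree_of_isAlgebraic K E K₂
          have h3 : Field.finInsepDegree E K₃ = 1 := Algebra.IsSeparable.finInsepDegree_eq E K₃
          have h4 : Field.finInsepDegree E K₂ = p := by
            rw [IsPurelyInseparable.finInsepDegree_eq, hdeg]
          have hpos : 0 < Field.finInsepDegree K E := by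
            rcases Nat.eq_zero_or_pos (Field.finInsepDegree K E) with h0 | h0
            · exfalso
              rw [h0, zero_mul] at h2
              have : 0 < Field.finInsepDegree K K₂ := Module.finrank_pos
              omega
            · exact h0
          have hlt : Field.finInsepDegree K K₃ < n := by
            rw [← hn, ← h1, ← h2, h3, h4, mul_one]
            exact lt_mul_of_one_lt_right hpos hpp.one_lt
          exact ih _ hlt K₃ rfl hsol₃
    exact key _ K₂ rfl h₂
  · haveI : CharZero K := CharP.charP_to_charZero K
    exact ⟨K₂, inferInstance, inferInstance, inferInstance, inferInstance, h₂⟩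

end Groth.Agent.S1986
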