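import Groth.Statements.S2038
import Groth.Agent.Lib.FSFiber2_helper3
import Groth.Agent.Lib.FSFlat3_helper3
import Groth.Agent.Lib.GeomRegAdic_helper3
import Groth.Agent.S4573
-- import your own Groth.Agent.* helpers here

set_option autoImplicit false
universe u
open CAlg
set_option maxSynthPendingDepth 3
open TensorProduct

namespace Groth.Agent.S2038

/-- Let `A → B` be a local homomorphism of Noetherian local rings with residue field `k` of `A`. Then `A
→ B` is flat with special fibre `B ⊗ k` geometrically regular over `k` if and only if `A → B` is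
formally smooth for the adic topology of the maximal ideal of `B`. -/
theorem result {A B : Type u} [CommRing A] [CommRing B]
    [IsLocalRing A] [IsLocalRing B] [IsNoetherianRing A] [IsNoetherianRing B] [Algebra A B]
    [IsLocalHom (algebraMap A B)] :
    (Module.Flat A B ∧ CAlg.IsGeometricallyRegular (IsLocalRing.maximalIdeal A).ResidueField
        ((IsLocalRing.maximalIdeal A).Fiber B)) ↔
      CAlgX.IsAdicFormallySmooth A B (IsLocalRing.maximalIdeal B) := by
  constructor
  · rintro ⟨hflat, hreg⟩
    haveI := hflat
    haveI : IsLocalRing ((IsLocalRing.maximalIdeal A).Fiber B) :=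
      Groth.Agent.Lib.FSFiberH3.fiber_isLocalRing
    haveI : IsNoetherianRing ((IsLocalRing.maximalIdeal A).Fiber B) :=
      Groth.Agent.Lib.FSFiberH3.fiber_isNoetherianRing
    obtain ⟨p, hp⟩ := ExpChar.exists (IsLocalRing.maximalIdeal A).ResidueField
    haveI := hp
    have h1 : CAlgX.IsAdicFormallySmooth (IsLocalRing.maximalIdeal A).ResidueField
        ((IsLocalRing.maximalIdeal A).Fiber B)
        (IsLocalRing.maximalIdeal ((IsLocalRing.maximalIdeal A).Fiber B)) :=
      (Groth.Agent.S4573.result p).2 (fun k' _ _ hfin _ => hreg k' hfin)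
    have h2 := Groth.Agent.Lib.FSFiberH3.liftKilled_of_fiber h1
    exact Groth.Agent.Lib.FSFiberH3.adic_of_flat_of_liftKilled h2
      (((IsLocalRing.local_hom_TFAE (algebraMap A B)).out 0 2).1 ‹IsLocalHom (algebraMap A B)›)
  · intro h
    haveI hflat : Module.Flat A B := Groth.Agent.Lib.FSFlatH3.flat_of_isAdicFormallySmooth h
    refine ⟨hflat, ?_⟩
    haveI : IsLocalRing ((IsLocalRing.maximalIdeal A).Fiber B) :=
      Groth.Agent.Lib.FSFiberH3.fiber_isLocalRing
    haveI : IsNoetherianRing ((IsLocalRing.maximalIdeal A).Fiber B) :=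
      Groth.Agent.Lib.FSFiberH3.fiber_isNoetherianRing
    exact Groth.Agent.Lib.GeomRegAdicH3.isGeometricallyRegular_of_adic
      (Groth.Agent.Lib.FSFiberH3.fiber_adic_of_adic h)

end Groth.Agent.S2038
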