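import Groth.Statements.S19864
import Groth.Agent.Lib.FSFiber3_helper3
import Groth.Agent.Lib.FSFlat4_helper3
import Groth.Agent.Lib.GeomRegFS_helper3
import Groth.Agent.Lib.RegHomLocal_helper3
import Groth.Agent.S2038
-- import your own Groth.Agent.* helpers here

set_option autoImplicit false
universe u
open CAlg
set_option maxSynthPendingDepth 3
open TensorProduct

namespace Groth.Agent.S19864

/-- Let A and B be Noetherian rings and B an A-algebra. Then A → B is a regular homomorphism (flat with
Noetherian, geometrically regular fibres) if and only if for every prime q of B lying over the prime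
p of A the induced local homomorphism A_p → B_q is formally smooth for the adic topologies of the
maximal ideals (equivalently, for the adic topology of the maximal ideal of B_q). -/
theorem result (A B : Type u)
    [CommRing A] [CommRing B] [Algebra A B] [IsNoetherianRing A] [IsNoetherianRing B] :
    CAlg.IsRegularHom A B ↔
      ∀ (q : Ideal B) [q.IsPrime],
        letI := (Localization.localRingHom (Ideal.comap (algebraMap A B) q) q (algebraMap A B) rfl).toAlgebra
        CAlgX.IsAdicFormallySmooth (Localization.AtPrime (Ideal.comap (algebraMap A B) q))
          (Localization.AtPrime q) (IsLocalRing.maximalIdeal (Localization.AtPrime q)) := by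
  constructor
  · intro h q hq
    letI := (Localization.localRingHom (Ideal.comap (algebraMap A B) q) q
      (algebraMap A B) rfl).toAlgebra
    have h1 := Groth.Agent.Lib.RegHomLocalH3.isRegularHom_localRingHom A B h q
    haveI : IsLocalHom (algebraMap (Localization.AtPrime (Ideal.comap (algebraMap A B) q))
        (Localization.AtPrime q)) :=
      Localization.isLocalHom_localRingHom (Ideal.comap (algebraMap A B) q) q (algebraMap A B) rfl
    haveI : IsNoetherianRing (Localization.AtPrime (Ideal.comap (algebraMap A B) q)) :=
      IsLocalization.isNoetherianRing (Ideal.comap (algebraMap A B) q).primeCompl _ inferInstance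
    haveI : IsNoetherianRing (Localization.AtPrime q) :=
      IsLocalization.isNoetherianRing q.primeCompl _ inferInstance
    exact (Groth.Agent.S2038.result).1 ⟨h1.1, (h1.2 (IsLocalRing.maximalIdeal _)).2⟩
  · intro H
    have hflat : Module.Flat A B :=
      Groth.Agent.Lib.FSFlatH3.flat_of_forall_adic_localRingHom A B (fun q hq => by
        haveI : q.IsPrime := hq.isPrime
        exact H q)
    refine ⟨hflat, fun p hp => ?_⟩
    haveI : IsNoetherianRing (p.Fiber B) := Groth.Agent.Lib.RegFlatH3.isNoetherianRing_fiber A B p
    refine ⟨inferInstance, ?_⟩
    rw [Groth.Agent.Lib.GeomRegFSH3.isGeometricallyRegular_iff_forall_adic]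
    intro 𝔮 h𝔮
    set q : Ideal B := 𝔮.comap
      (Algebra.TensorProduct.includeRight : B →ₐ[A] p.ResidueField ⊗[A] B).toRingHom with hq
    haveI : q.IsPrime := Ideal.comap_isPrime _ _
    letI := (Localization.localRingHom (Ideal.comap (algebraMap A B) q) q
      (algebraMap A B) rfl).toAlgebra
    haveI := Groth.Agent.Lib.RegHomLocalH3.isScalarTower_localRingHom A B q
    have h1 : CAlgX.IsAdicFormallySmooth A (Localization.AtPrime q)
        (IsLocalRing.maximalIdeal (Localization.AtPrime q)) :=
      Groth.Agent.Lib.FSFiberH3.adic_of_adic_isLocalization
        (R' := Localization.AtPrime (Ideal.comap (algebraMap A B) q))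
        (Ideal.comap (algebraMap A B) q).primeCompl _ (H q)
    exact Groth.Agent.Lib.GeomRegFSH3.adic_tensor_localization (R := A) (S := B)
      (K := p.ResidueField) q h1 𝔮 rfl

end Groth.Agent.S19864
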