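import Groth.Statements.S1989
import Mathlib
import Groth.Agent.Lib.DvrExt1_helper8
import Groth.Agent.Lib.DvrExt2_helper8
import Groth.Agent.Lib.DvrExt3_helper8

set_option autoImplicit false
universe u
open EtAlg

namespace Groth.Agent.S1989

/-- Let K be the fraction field of a discrete valuation ring A, and K ⊂ L ⊂ M finite separable
extensions. If M is tamely ramified, respectively unramified, with respect to A, then so is L. -/
theorem result (A K : Type u) [CommRing A] [IsDomain A] [IsDiscreteValuationRing A] [Field K] [Algebra A K] [IsFractionRing A K] (L M : Type u) [Field L] [Field M]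
    [Algebra K L] [Algebra K M] [Algebra L M] [IsScalarTower K L M] [FiniteDimensional K M] [Algebra.IsSeparable K M] :
    (EtRam.IsTamelyRamified A ((algebraMap K M).comp (algebraMap A K)) →
      EtRam.IsTamelyRamified A ((algebraMap K L).comp (algebraMap A K))) ∧
    (EtRam.IsUnramifiedExt A ((algebraMap K M).comp (algebraMap A K)) →
      EtRam.IsUnramifiedExt A ((algebraMap K L).comp (algebraMap A K))) := by
  haveI : FiniteDimensional K L := FiniteDimensional.left K L M
  haveI : Algebra.IsSeparable K L := Algebra.isSeparable_tower_bot_of_isSeparable K L M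
  have hg : ∀ a : A, ((algebraMap K M).comp (algebraMap A K)) a =
      (algebraMap L M) (((algebraMap K L).comp (algebraMap A K)) a) := by
    intro a
    simp only [RingHom.comp_apply]
    rw [← IsScalarTower.algebraMap_apply K L M]
  -- the common construction
  have key : ∀ (V : ValuationSubring L)
      (hV : EtRam.Dominates A ((algebraMap K L).comp (algebraMap A K)) V),
      ∃ (W : ValuationSubring M)
        (hW : EtRam.Dominates A ((algebraMap K M).comp (algebraMap A K)) W),
        letI : Algebra A V :=
          (RingHom.codRestrict ((algebraMap K L).comp (algebraMap A K)) V hV.1).toAlgebra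
        letI : Algebra A W :=
          (RingHom.codRestrict ((algebraMap K M).comp (algebraMap A K)) W hW.1).toAlgebra
        IsLocalHom (algebraMap A W) ∧
        ∀ [IsLocalHom (algebraMap A V)] [IsLocalHom (algebraMap A W)],
          (Algebra.IsSeparable (IsLocalRing.ResidueField A) (IsLocalRing.ResidueField W) →
            Algebra.IsSeparable (IsLocalRing.ResidueField A) (IsLocalRing.ResidueField V)) ∧
          (Ideal.ramificationIdx' (IsLocalRing.maximalIdeal A) (IsLocalRing.maximalIdeal V) ∣
            Ideal.ramificationIdx' (IsLocalRing.maximalIdeal A) (IsLocalRing.maximalIdeal W)) ∧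
          (EtRam.IsWeaklyUnramified A W → EtRam.IsWeaklyUnramified A V) := by
    intro V hV
    obtain ⟨W, hW, hloc⟩ := DvrExtH8.exists_extension (algebraMap L M) V
    have hdomW := DvrExtH8.dominates_comp _ V hV (algebraMap L M) W hW hloc _ hg
    refine ⟨W, hdomW, DvrExtH8.isLocalHom_of_dominates _ W hdomW, ?_⟩
    letI : Algebra A V :=
      (RingHom.codRestrict ((algebraMap K L).comp (algebraMap A K)) V hV.1).toAlgebra
    letI : Algebra A W :=
      (RingHom.codRestrict ((algebraMap K M).comp (algebraMap A K)) W hdomW.1).toAlgebra
    letI : Algebra V W := (RingHom.codRestrict ((algebraMap L M).comp V.subtype) W hW).toAlgebra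
    haveI : IsScalarTower A V W := IsScalarTower.of_algebraMap_eq (fun a => Subtype.ext (hg a))
    haveI : IsLocalHom (algebraMap V W) := hloc
    haveI : IsDiscreteValuationRing V := DvrExtH8.isDVR_of_dominates V hV
    haveI : IsDiscreteValuationRing W := DvrExtH8.isDVR_of_dominates W hdomW
    intro hlocV hlocW
    have hAV : Function.Injective (algebraMap A V) := by
      intro a b hab
      exact DvrExtH8.comp_injective (A := A) (K := K) (L := L) (congrArg Subtype.val hab)
    have hVW : Function.Injective (algebraMap V W) := by
      intro a b hab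
      exact Subtype.ext ((algebraMap L M).injective (congrArg Subtype.val hab))
    have hAW : Function.Injective (algebraMap A W) := by
      intro a b hab
      exact DvrExtH8.comp_injective (A := A) (K := K) (L := M) (congrArg Subtype.val hab)
    have htower := DvrExtH8.ramificationIdx'_tower (A := A) (V := V) (W := W) hAV hVW
    refine ⟨fun hsep => ?_, ⟨_, htower⟩, fun hwu => ?_⟩
    · exact Algebra.isSeparable_tower_bot_of_isSeparable (IsLocalRing.ResidueField A)
        (IsLocalRing.ResidueField V) (IsLocalRing.ResidueField W)
    · rw [DvrExtH8.isWeaklyUnramified_iff hAW, htower] at hwu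
      rw [DvrExtH8.isWeaklyUnramified_iff hAV]
      exact Nat.eq_one_of_mul_eq_one_right hwu
  constructor
  · intro hM V hV hlocV
    obtain ⟨W, hW, hlocW, hkey⟩ := key V hV
    obtain ⟨hsep, hram⟩ := @hM W hW hlocW
    obtain ⟨h1, h2, -⟩ := @hkey hlocV hlocW
    refine ⟨h1 hsep, fun p hp hchar hdvd => hram p hp hchar (hdvd.trans h2)⟩
  · intro hM V hV hlocV
    obtain ⟨W, hW, hlocW, hkey⟩ := key V hV
    obtain ⟨hwu, hsep⟩ := @hM W hW hlocW
    obtain ⟨h1, -, h3⟩ := @hkey hlocV hlocW
    exact ⟨h3 hwu, h1 hsep⟩

end Groth.Agent.S1989
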