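import Groth.Statements.S19890
import Mathlib

set_option autoImplicit false
universe u
open CAlg

namespace Groth.Agent.S19890

/-- Let R → R' be a faithfully flat ring map between Noetherian integrally closed local domains. Then
unique factorization descends along this map: when R' is a UFD, so is R. (The first assertion of the
lemma, descent of principality for an ideal whose extension to R' is principal, is a separate
statement.) -/
theorem result
    (R R' : Type u) [CommRing R] [CommRing R'] [IsDomain R] [IsDomain R']
    [IsNoetherianRing R] [IsNoetherianRing R'] [IsLocalRing R] [IsLocalRing R']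
    [IsIntegrallyClosed R] [IsIntegrallyClosed R']
    [Algebra R R'] [Module.FaithfullyFlat R R'] [UniqueFactorizationMonoid R'] :
    UniqueFactorizationMonoid R := by
  classical
  rw [UniqueFactorizationMonoid.iff_exists_prime_mem_of_isPrime]
  intro P hP0 hPprime
  have φinj : Function.Injective (algebraMap R R') := FaithfulSMul.algebraMap_injective R R'
  obtain ⟨a, haP, ha0⟩ := Submodule.exists_mem_ne_zero_of_ne_bot hP0
  have haP' : Ideal.span {a} ≤ P := (Ideal.span_singleton_le_iff_mem P).mpr haP
  obtain ⟨p, hpmin, hpP⟩ := Ideal.exists_minimalPrimes_le haP'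
  have hpprime : p.IsPrime := hpmin.1.1
  have hap : a ∈ p := hpmin.1.2 (Ideal.mem_span_singleton_self a)
  have hass : p ∈ associatedPrimes R (R ⧸ Ideal.span {a}) := by
    apply Module.associatedPrimes.minimalPrimes_annihilator_subset_associatedPrimes
    rwa [Ideal.annihilator_quotient]
  obtain ⟨-, y, hy⟩ := (isAssociatedPrime_iff (M := R ⧸ Ideal.span {a})).mp hass
  obtain ⟨b, rfl⟩ := Ideal.Quotient.mk_surjective y
  have hpb : ∀ x, x ∈ p ↔ a ∣ x * b := by
    intro x
    rw [hy, Submodule.mem_colon_singleton, Submodule.mem_bot, ← Ideal.mem_span_singleton]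
    rw [← Ideal.Quotient.eq_zero_iff_mem, map_mul]
    rfl
  have hb0 : b ≠ 0 := by
    rintro rfl
    apply hpprime.ne_top
    rw [Ideal.eq_top_iff_one, hpb]
    simp
  set a' := algebraMap R R' a with ha'
  set b' := algebraMap R R' b with hb'
  have hb'0 : b' ≠ 0 := fun h => hb0 (φinj (by show algebraMap R R' b = algebraMap R R' 0; rw [map_zero]; exact h))
  -- colon ideal upstairs via flatness
  have hmap : ∀ x : R', x ∈ p.map (algebraMap R R') ↔ a' ∣ x * b' := by
    intro x
    constructor
    · intro hx
      refine Submodule.span_induction (p := fun x _ => a' ∣ x * b') ?_ ?_ ?_ ?_ hx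
      · rintro _ ⟨z, hz, rfl⟩
        obtain ⟨c, hc⟩ := (hpb z).mp hz
        exact ⟨algebraMap R R' c, by rw [hb', ha', ← map_mul, hc, map_mul]⟩
      · simp
      · intro u v _ _ hu hv
        rw [add_mul]; exact dvd_add hu hv
      · intro r u _ hu
        rw [smul_eq_mul, mul_assoc]; exact Dvd.dvd.mul_left hu r
    · rintro ⟨y, hy⟩
      -- relation b • x - a • y = 0
      obtain ⟨k, α, z, hxz, hα⟩ := Module.Flat.isTrivialRelation_of_sum_smul_eq_zero
        (R := R) (M := R') (f := ![b, -a]) (x := ![x, y]) (by
          rw [Fin.sum_univ_two]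
          simp only [Matrix.cons_val_zero, Matrix.cons_val_one, Algebra.smul_def, map_neg]
          rw [← hb', ← ha', mul_comm b' x, hy]; ring)
      have h0 := hxz 0
      simp only [Matrix.cons_val_zero] at h0
      rw [h0]
      refine Ideal.sum_mem _ fun j _ => ?_
      rw [Algebra.smul_def]
      apply Ideal.mul_mem_right
      apply Ideal.mem_map_of_mem
      rw [hpb]
      have := hα j
      rw [Fin.sum_univ_two] at this
      simp only [Matrix.cons_val_zero, Matrix.cons_val_one] at this
      refine ⟨α 1 j, ?_⟩
      linear_combination this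
  -- the colon ideal upstairs is principal
  letI : GCDMonoid R' := UniqueFactorizationMonoid.toGCDMonoid R'
  obtain ⟨c, hc⟩ : b' ∣ lcm a' b' := dvd_lcm_right a' b'
  have hprinc : p.map (algebraMap R R') = Ideal.span {c} := by
    ext x
    rw [hmap, Ideal.mem_span_singleton]
    constructor
    · intro h
      have h1 : lcm a' b' ∣ x * b' := lcm_dvd h (Dvd.intro_left x rfl)
      rw [hc, mul_comm x b'] at h1
      exact (mul_dvd_mul_iff_left hb'0).mp h1
    · intro h
      have h1 : b' * c ∣ x * b' := by
        rw [mul_comm x b']; exact mul_dvd_mul_left b' h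
      rw [← hc] at h1
      exact (dvd_lcm_left a' b').trans h1
  have hc0 : c ≠ 0 := by
    rintro rfl
    have : a' ∈ p.map (algebraMap R R') := Ideal.mem_map_of_mem _ hap
    rw [hprinc, Ideal.mem_span_singleton, zero_dvd_iff] at this
    exact ha0 (φinj (by rw [← ha', this, map_zero]))
  -- descend principality
  have hcmem : c ∈ p.map (algebraMap R R') := by
    rw [hprinc]; exact Ideal.mem_span_singleton_self c
  have hex : ∃ x ∈ p, Ideal.span {algebraMap R R' x} = Ideal.span {c} := by
    by_contra hcon
    push Not at hcon
    -- every generator image lies in c • maximal ideal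
    have hle : p.map (algebraMap R R') ≤ Ideal.span {c} * IsLocalRing.maximalIdeal R' := by
      rw [Ideal.map_le_iff_le_comap]
      intro x hx
      have hxc : algebraMap R R' x ∈ Ideal.span {c} := by
        rw [← hprinc]; exact Ideal.mem_map_of_mem _ hx
      obtain ⟨s, hs⟩ := Ideal.mem_span_singleton'.mp hxc
      have hsm : s ∈ IsLocalRing.maximalIdeal R' := by
        rw [IsLocalRing.mem_maximalIdeal, mem_nonunits_iff]
        intro hsu
        apply hcon x hx
        rw [← hs]
        exact (Ideal.span_singleton_eq_span_singleton.mpr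
          (associated_unit_mul_left c s hsu))
      rw [Ideal.mem_comap, ← hs, mul_comm s c]
      exact Ideal.mul_mem_mul (Ideal.mem_span_singleton_self c) hsm
    have hcin : c ∈ Ideal.span {c} * IsLocalRing.maximalIdeal R' := hle hcmem
    rw [Ideal.mem_span_singleton_mul] at hcin
    obtain ⟨m, hm, hcm⟩ := hcin
    have : m = 1 := by
      have : c * m = c * 1 := by rw [hcm, mul_one]
      exact mul_left_cancel₀ hc0 this
    rw [this] at hm
    exact (Ideal.ne_top_iff_one _).mp (IsLocalRing.maximalIdeal.isMaximal R').ne_top hm
  obtain ⟨x, hxp, hx⟩ := hex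
  have hpx : p = Ideal.span {x} := by
    rw [← Ideal.comap_map_eq_self_of_faithfullyFlat (B := R') p, hprinc, ← hx,
      ← Set.image_singleton, ← Ideal.map_span, Ideal.comap_map_eq_self_of_faithfullyFlat]
  have hx0 : x ≠ 0 := by
    rintro rfl
    rw [hpx] at hap
    simp at hap
    exact ha0 hap
  refine ⟨x, hpP hxp, ?_⟩
  rw [← Ideal.span_singleton_prime hx0, ← hpx]
  exact hpprime

end Groth.Agent.S19890
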