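import Groth.Statements.S19891
import Mathlib
import Groth.Agent.Lib.RefVal7_helper6
-- import your own Groth.Agent.* helpers here

set_option autoImplicit false
universe u
open CategoryTheory AlgebraicGeometry
open ValCrit

namespace Groth.Agent.S19891

/-- Let h : Z → Y and f : Y → X be morphisms of quasi-compact quasi-separated schemes, with h dominant.
Then f is separated if and only if the following refined uniqueness criterion holds: for every point
z of Z, every valuation ring R of the residue field κ(z) and every morphism φ : Spec R → X whose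
restriction to Spec κ(z) is the canonical morphism Spec κ(z) → Z → Y → X, any two morphisms Spec R →
Y lying over φ and restricting to Spec κ(z) → Z → Y on the generic point coincide. (The published
statement does not require h to be dominant; its proof uses that every point of Y generalises to a
point of h(Z), and for Z empty the criterion holds whatever f is, so dominance of h is assumed
here.) -/
theorem result {X Y Z : Scheme.{u}} (h : Z ⟶ Y) (f : Y ⟶ X)
    [CompactSpace ↥Z] [QuasiSeparatedSpace ↥Z] [CompactSpace ↥Y] [QuasiSeparatedSpace ↥Y]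
    [CompactSpace ↥X] [QuasiSeparatedSpace ↥X] (hd : DenseRange h.base) :
    IsSeparated f ↔
      ∀ (z : ↥Z) (R : ValuationSubring ↑(Z.residueField z)) (φ : Spec (CommRingCat.of ↥R) ⟶ X),
        Spec.map (CommRingCat.ofHom R.subtype) ≫ φ = Z.fromSpecResidueField z ≫ h ≫ f →
        ∀ φ₁ φ₂ : Spec (CommRingCat.of ↥R) ⟶ Y,
          Spec.map (CommRingCat.ofHom R.subtype) ≫ φ₁ = Z.fromSpecResidueField z ≫ h → φ₁ ≫ f = φ →
          Spec.map (CommRingCat.ofHom R.subtype) ≫ φ₂ = Z.fromSpecResidueField z ≫ h → φ₂ ≫ f = φ →
          φ₁ = φ₂ := by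

  constructor
  · intro hs z R φ hφ φ₁ φ₂ a1 b1 a2 b2
    exact Groth.Agent.Lib.RefVal.refUniq_of_uniqueness h f (IsSeparated.valuativeCriterion f)
      z R φ₁ φ₂ a1 a2 (b1.trans b2.symm)
  · intro H
    have hU : Groth.Agent.Lib.RefVal.RefUniq h f := fun z R φ₁ φ₂ a1 a2 h12 =>
      H z R (φ₁ ≫ f) (by rw [← Category.assoc, a1, Category.assoc]) φ₁ φ₂ a1 rfl a2 h12.symm
    exact IsSeparated.of_valuativeCriterion f
      (Groth.Agent.Lib.RefVal.uniqueness_of_refUniq h f hd hU)

end Groth.Agent.S19891
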