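import Groth.Statements.S1990
import Mathlib
import Groth.Agent.Lib.DvrExt1_helper8
import Groth.Agent.Lib.DvrExt2_helper8
import Groth.Agent.Lib.DvrExt3_helper8
import Groth.Agent.Lib.DvrExt4_helper8

set_option autoImplicit false
universe u
open EtAlg

namespace Groth.Agent.S1990

/-- Let K be the fraction field of a discrete valuation ring A, and K ⊂ L ⊂ M finite separable
extensions. If L/K is tamely ramified (resp. unramified) with respect to A and M/L is tamely
ramified (resp. unramified) with respect to every valuation subring of L dominating A, then M/K is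
tamely ramified (resp. unramified) with respect to A. -/
theorem result (A K : Type u) [CommRing A] [IsDomain A] [IsDiscreteValuationRing A] [Field K] [Algebra A K] [IsFractionRing A K] (L M : Type u) [Field L] [Field M]
    [Algebra K L] [Algebra K M] [Algebra L M] [IsScalarTower K L M] [FiniteDimensional K M] [Algebra.IsSeparable K M] :
    (EtRam.IsTamelyRamified A ((algebraMap K L).comp (algebraMap A K)) →
      (∀ (V : ValuationSubring L), EtRam.Dominates A ((algebraMap K L).comp (algebraMap A K)) V →
        EtRam.IsTamelyRamified V ((algebraMap L M).comp V.subtype)) →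
      EtRam.IsTamelyRamified A ((algebraMap K M).comp (algebraMap A K))) ∧
    (EtRam.IsUnramifiedExt A ((algebraMap K L).comp (algebraMap A K)) →
      (∀ (V : ValuationSubring L), EtRam.Dominates A ((algebraMap K L).comp (algebraMap A K)) V →
        EtRam.IsUnramifiedExt V ((algebraMap L M).comp V.subtype)) →
      EtRam.IsUnramifiedExt A ((algebraMap K M).comp (algebraMap A K))) := by
  haveI : FiniteDimensional K L := FiniteDimensional.left K L M
  haveI : Algebra.IsSeparable K L := Algebra.isSeparable_tower_bot_of_isSeparable K L M
  have hg : ∀ a : A, ((algebraMap K M).comp (algebraMap A K)) a =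
      (algebraMap L M) (((algebraMap K L).comp (algebraMap A K)) a) := by
    intro a
    simp only [RingHom.comp_apply]
    rw [← IsScalarTower.algebraMap_apply K L M]
  -- the common construction
  have key : ∀ (W : ValuationSubring M)
      (hW : EtRam.Dominates A ((algebraMap K M).comp (algebraMap A K)) W),
      ∃ (V : ValuationSubring L)
        (hV : EtRam.Dominates A ((algebraMap K L).comp (algebraMap A K)) V)
        (hVW : EtRam.Dominates V ((algebraMap L M).comp V.subtype) W),
        letI : Algebra A V :=
          (RingHom.codRestrict ((algebraMap K L).comp (algebraMap A K)) V hV.1).toAlgebra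
        letI : Algebra A W :=
          (RingHom.codRestrict ((algebraMap K M).comp (algebraMap A K)) W hW.1).toAlgebra
        letI : Algebra V W :=
          (RingHom.codRestrict ((algebraMap L M).comp V.subtype) W hVW.1).toAlgebra
        IsLocalHom (algebraMap A V) ∧ IsLocalHom (algebraMap V W) ∧
        ∀ [IsLocalHom (algebraMap A V)] [IsLocalHom (algebraMap A W)] [IsLocalHom (algebraMap V W)],
          (Algebra.IsSeparable (IsLocalRing.ResidueField A) (IsLocalRing.ResidueField V) →
            Algebra.IsSeparable (IsLocalRing.ResidueField V) (IsLocalRing.ResidueField W) →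
            Algebra.IsSeparable (IsLocalRing.ResidueField A) (IsLocalRing.ResidueField W)) ∧
          (Ideal.ramificationIdx' (IsLocalRing.maximalIdeal A) (IsLocalRing.maximalIdeal W) =
            Ideal.ramificationIdx' (IsLocalRing.maximalIdeal A) (IsLocalRing.maximalIdeal V) *
            Ideal.ramificationIdx' (IsLocalRing.maximalIdeal V) (IsLocalRing.maximalIdeal W)) ∧
          (∀ p : ℕ, CharP (IsLocalRing.ResidueField A) p → CharP (IsLocalRing.ResidueField V) p) ∧
          (EtRam.IsWeaklyUnramified A V → EtRam.IsWeaklyUnramified V W →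
            EtRam.IsWeaklyUnramified A W) := by
    intro W hW
    obtain ⟨V, hVdef⟩ : ∃ V : ValuationSubring L, V = W.comap (algebraMap L M) := ⟨_, rfl⟩
    have hV : EtRam.Dominates A ((algebraMap K L).comp (algebraMap A K)) V := by
      rw [hVdef]
      exact DvrExtH8.dominates_of_comap ((algebraMap K L).comp (algebraMap A K))
        (algebraMap L M) W _ hg hW
    have hVW : EtRam.Dominates V ((algebraMap L M).comp V.subtype) W := by
      subst hVdef
      exact DvrExtH8.dominates_comap (algebraMap L M) W
    clear hVdef
    refine ⟨V, hV, hVW, DvrExtH8.isLocalHom_of_dominates _ _ hV,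
      DvrExtH8.isLocalHom_of_dominates _ _ hVW, ?_⟩
    letI : Algebra A V :=
      (RingHom.codRestrict ((algebraMap K L).comp (algebraMap A K)) V hV.1).toAlgebra
    letI : Algebra A W :=
      (RingHom.codRestrict ((algebraMap K M).comp (algebraMap A K)) W hW.1).toAlgebra
    letI : Algebra V W :=
      (RingHom.codRestrict ((algebraMap L M).comp V.subtype) W hVW.1).toAlgebra
    haveI : IsScalarTower A V W := IsScalarTower.of_algebraMap_eq (fun a => Subtype.ext (hg a))
    haveI : IsDiscreteValuationRing V := DvrExtH8.isDVR_of_dominates V hV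
    haveI : IsDiscreteValuationRing W := DvrExtH8.isDVR_of_dominates W hW
    intro hlocV hlocW hlocVW
    have hAV : Function.Injective (algebraMap A V) := by
      intro a b hab
      exact DvrExtH8.comp_injective (A := A) (K := K) (L := L) (congrArg Subtype.val hab)
    have hVW' : Function.Injective (algebraMap V W) := by
      intro a b hab
      exact Subtype.ext ((algebraMap L M).injective (congrArg Subtype.val hab))
    have htower := DvrExtH8.ramificationIdx'_tower (A := A) (V := V) (W := W) hAV hVW'
    refine ⟨fun hsep1 hsep2 => ?_, htower, fun p hp => ?_, fun h1 h2 => ?_⟩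
    · exact Algebra.IsSeparable.trans (IsLocalRing.ResidueField A)
        (IsLocalRing.ResidueField V) (IsLocalRing.ResidueField W)
    · exact charP_of_injective_algebraMap
        (algebraMap (IsLocalRing.ResidueField A) (IsLocalRing.ResidueField V)).injective p
    · exact DvrExtH8.isWeaklyUnramified_trans (A := A) (V := V) (W := W) h1 h2
  constructor
  · intro hL hML W hW hlocW
    obtain ⟨V, hV, hVW, hlocV, hlocVW, hkey⟩ := key W hW
    obtain ⟨hsep1, hram1⟩ := @hL V hV hlocV
    obtain ⟨hsep2, hram2⟩ := @hML V hV W hVW hlocVW
    obtain ⟨h1, h2, h3, -⟩ := @hkey hlocV hlocW hlocVW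
    refine ⟨h1 hsep1 hsep2, fun p hp hchar hdvd => ?_⟩
    rw [h2] at hdvd
    rcases (Nat.Prime.dvd_mul hp).mp hdvd with hd | hd
    · exact hram1 p hp hchar hd
    · exact hram2 p hp (h3 p hchar) hd
  · intro hL hML W hW hlocW
    obtain ⟨V, hV, hVW, hlocV, hlocVW, hkey⟩ := key W hW
    obtain ⟨hwu1, hsep1⟩ := @hL V hV hlocV
    obtain ⟨hwu2, hsep2⟩ := @hML V hV W hVW hlocVW
    obtain ⟨h1, -, -, h4⟩ := @hkey hlocV hlocW hlocVW
    exact ⟨h4 hwu1 hwu2, h1 hsep1 hsep2⟩

end Groth.Agent.S1990
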