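import Groth.Statements.S19904
import Mathlib

set_option autoImplicit false
universe u v
open CategoryTheory
open ArtFun

namespace Groth.Agent.S19904

/-- For functors F, G, G' on Artinian local Λ-algebras with residue field k and morphisms φ : F → G, ψ :
G' → G: if φ is smooth then the base change F ×_G G' → G' (second projection of the fibre product of
functors) is smooth. -/
theorem result {Λ : Type u} {k : Type u} [CommRing Λ] [Field k] [Algebra Λ k]
    [IsNoetherianRing Λ] [Module.Finite Λ k]
    {F G G' : ArtFun.Art Λ k ⥤ Type v} (φ : F ⟶ G) (ψ : G' ⟶ G) (hφ : ArtFun.IsSmooth φ) :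
    ArtFun.IsSmooth (Limits.pullback.snd φ ψ) := by
  intro B A μ hμ
  rintro ⟨⟨pA, gB⟩, hx⟩
  have hA : IsPullback ((Limits.pullback.fst φ ψ).app A) ((Limits.pullback.snd φ ψ).app A)
      (φ.app A) (ψ.app A) :=
    (IsPullback.of_hasPullback φ ψ).map ((evaluation _ _).obj A)
  have hB : IsPullback ((Limits.pullback.fst φ ψ).app B) ((Limits.pullback.snd φ ψ).app B)
      (φ.app B) (ψ.app B) :=
    (IsPullback.of_hasPullback φ ψ).map ((evaluation _ _).obj B)
  have h1 : φ.app A ((Limits.pullback.fst φ ψ).app A pA) = G.map μ (ψ.app B gB) := by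
    have h2 : φ.app A ((Limits.pullback.fst φ ψ).app A pA) =
        ψ.app A ((Limits.pullback.snd φ ψ).app A pA) := ConcreteCategory.congr_hom hA.w pA
    rw [h2]
    have h3 : (Limits.pullback.snd φ ψ).app A pA = G'.map μ gB := hx
    rw [h3]
    exact NatTrans.naturality_apply ψ μ gB
  obtain ⟨fB, hfB⟩ := hφ μ hμ ⟨((Limits.pullback.fst φ ψ).app A pA, ψ.app B gB), h1⟩
  have hfB1 : F.map μ fB = (Limits.pullback.fst φ ψ).app A pA :=
    congrArg (fun t => t.1.1) hfB
  have hfB2 : φ.app B fB = ψ.app B gB := congrArg (fun t => t.1.2) hfB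
  obtain ⟨z, hz1, hz2⟩ := Limits.Types.exists_of_isPullback hB fB gB hfB2
  refine ⟨z, ?_⟩
  apply Subtype.ext
  apply Prod.ext
  · change (Limits.pullback φ ψ).map μ z = pA
    apply Limits.Types.ext_of_isPullback hA
    · rw [NatTrans.naturality_apply, hz1, hfB1]
    · rw [NatTrans.naturality_apply, hz2]
      exact hx.symm
  · exact hz2

end Groth.Agent.S19904
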