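import Groth.Statements.S19912
import Groth.Agent.Lib.Regular_helper5

set_option autoImplicit false
universe u
open CategoryTheory CategoryTheory.Limits AlgebraicGeometry
open Models

namespace Groth.Agent.S19912

/-- Let R be a discrete valuation ring with fraction field K and YR a scheme over Spec R. Let V be a
discrete valuation ring which is an R-algebra in such a way that the maximal ideal of R generates
the maximal ideal of V (ramification index one), and let σ : Spec V -> YR be a morphism over Spec R
sending the closed point of Spec V to y. If the local ring of YR at y is regular, then the local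
ring at y of the special fibre of YR, namely O_{YR,y}/𝔪_R O_{YR,y}, is regular. (The published
statement takes YR a normal projective flat model of a smooth projective geometrically connected
curve Y over K and phrases the hypothesis through a point Q of Y rational over an extension L of K
unramified over K with y in the closure of Q: by the valuative criterion such a point yields a
morphism as above from the spectrum of the localization of the integral closure of R in L at a
maximal ideal over y, which is the form used here.) -/
theorem result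
    (R : Type u) [CommRing R] [IsDomain R] [IsDiscreteValuationRing R]
    (YR : Over (Spec (CommRingCat.of R)))
    (V : Type u) [CommRing V] [IsDomain V] [IsDiscreteValuationRing V] [Algebra R V]
    (hV : Ideal.map (algebraMap R V) (IsLocalRing.maximalIdeal R) = IsLocalRing.maximalIdeal V)
    (σ : Spec (CommRingCat.of V) ⟶ YR.left)
    (hσ : σ ≫ YR.hom = Spec.map (CommRingCat.ofHom (algebraMap R V)))
    (y : YR.left) (hy : σ.base (IsLocalRing.closedPoint V) = y)
    (hreg : IsRegularLocalRing (YR.left.presheaf.stalk y)) :
    IsRegularLocalRing (YR.left.presheaf.stalk y ⧸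
      Ideal.map (Models.stalkHom R YR y) (IsLocalRing.maximalIdeal R)) := by
  subst hy
  haveI := hreg
  obtain ⟨ϖ, hϖ⟩ := IsDiscreteValuationRing.exists_irreducible R
  have hm : IsLocalRing.maximalIdeal R = Ideal.span {ϖ} :=
    (IsDiscreteValuationRing.irreducible_iff_uniformizer ϖ).mp hϖ
  have hψφ : ∀ r : R, (Scheme.stalkClosedPointTo σ).hom
      (Models.stalkHom R YR (σ.base (IsLocalRing.closedPoint V)) r) = algebraMap R V r := by
    intro r
    have h1 : YR.left.presheaf.germ ⊤ (σ.base (IsLocalRing.closedPoint V)) trivial ≫
        Scheme.stalkClosedPointTo σ = σ.appTop ≫ (Scheme.ΓSpecIso (CommRingCat.of V)).hom := by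
      unfold Scheme.stalkClosedPointTo
      refine (Scheme.Hom.germ_stalkMap_assoc σ ⊤ (IsLocalRing.closedPoint V) trivial
        (stalkClosedPointIso (CommRingCat.of V)).hom).trans ?_
      exact congrArg (fun k => σ.appTop ≫ k) (germ_stalkClosedPointIso_hom (CommRingCat.of V))
    have h2 : (Scheme.stalkClosedPointTo σ).hom
        ((YR.left.presheaf.germ ⊤ (σ.base (IsLocalRing.closedPoint V)) trivial).hom
          ((Coh.toGlobal YR.hom) r)) =
        (Scheme.ΓSpecIso (CommRingCat.of V)).hom.hom ((σ.appTop).hom ((Coh.toGlobal YR.hom) r)) :=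
      congrArg (fun k => k.hom ((Coh.toGlobal YR.hom) r)) h1
    have h3 : (σ.appTop).hom ((Coh.toGlobal YR.hom) r) =
        ((Spec.map (CommRingCat.ofHom (algebraMap R V))).appTop).hom
          ((Scheme.ΓSpecIso (CommRingCat.of R)).inv.hom r) := by
      rw [← hσ, Scheme.Hom.comp_appTop]
      rfl
    have h4 : (Scheme.ΓSpecIso (CommRingCat.of V)).hom.hom
        (((Spec.map (CommRingCat.ofHom (algebraMap R V))).appTop).hom
          ((Scheme.ΓSpecIso (CommRingCat.of R)).inv.hom r)) =
        algebraMap R V ((Scheme.ΓSpecIso (CommRingCat.of R)).hom.hom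
          ((Scheme.ΓSpecIso (CommRingCat.of R)).inv.hom r)) :=
      congrArg (fun k => k.hom ((Scheme.ΓSpecIso (CommRingCat.of R)).inv.hom r))
        (Scheme.ΓSpecIso_naturality (CommRingCat.ofHom (algebraMap R V)))
    have h5 : (Scheme.ΓSpecIso (CommRingCat.of R)).hom.hom
        ((Scheme.ΓSpecIso (CommRingCat.of R)).inv.hom r) = r :=
      congrArg (fun k => k.hom r) (Scheme.ΓSpecIso (CommRingCat.of R)).inv_hom_id
    refine Eq.trans h2 ?_
    rw [h3, h4, h5]
  have hmap : Ideal.map (Models.stalkHom R YR (σ.base (IsLocalRing.closedPoint V)))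
      (IsLocalRing.maximalIdeal R) =
      Ideal.span {Models.stalkHom R YR (σ.base (IsLocalRing.closedPoint V)) ϖ} := by
    rw [hm, Ideal.map_span, Set.image_singleton]
  rw [hmap]
  have hV' : IsLocalRing.maximalIdeal V = Ideal.span {algebraMap R V ϖ} := by
    rw [← hV, hm, Ideal.map_span, Set.image_singleton]
  have hmemV : algebraMap R V ϖ ∈ IsLocalRing.maximalIdeal V := by
    rw [hV']; exact Ideal.mem_span_singleton_self _
  have hx1 : Models.stalkHom R YR (σ.base (IsLocalRing.closedPoint V)) ϖ ∈
      IsLocalRing.maximalIdeal (YR.left.presheaf.stalk (σ.base (IsLocalRing.closedPoint V))) := by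
    rw [IsLocalRing.mem_maximalIdeal, mem_nonunits_iff]
    intro hu
    have hu2 : IsUnit (algebraMap R V ϖ) := by
      rw [← hψφ]; exact hu.map (Scheme.stalkClosedPointTo σ).hom
    exact (IsLocalRing.mem_maximalIdeal _).mp hmemV hu2
  have hx2 : Models.stalkHom R YR (σ.base (IsLocalRing.closedPoint V)) ϖ ∉
      IsLocalRing.maximalIdeal (YR.left.presheaf.stalk (σ.base (IsLocalRing.closedPoint V))) ^ 2 := by
    intro h
    have h1 := Ideal.mem_map_of_mem (Scheme.stalkClosedPointTo σ).hom h
    rw [Ideal.map_pow, hψφ] at h1
    have hle : (IsLocalRing.maximalIdeal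
        (YR.left.presheaf.stalk (σ.base (IsLocalRing.closedPoint V)))).map
          (Scheme.stalkClosedPointTo σ).hom ≤ IsLocalRing.maximalIdeal V :=
      ((IsLocalRing.local_hom_TFAE (Scheme.stalkClosedPointTo σ).hom).out 0 2).mp
        (inferInstance : IsLocalHom (Scheme.stalkClosedPointTo σ).hom)
    have h2 : algebraMap R V ϖ ∈ IsLocalRing.maximalIdeal V ^ 2 := Ideal.pow_right_mono hle 2 h1
    rw [hV', Ideal.span_singleton_pow, Ideal.mem_span_singleton] at h2
    obtain ⟨c, hc⟩ := h2
    have ha0 : algebraMap R V ϖ ≠ 0 := by
      intro h0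
      apply IsDiscreteValuationRing.not_a_field V
      rw [hV', h0]
      simp
    have h3 : algebraMap R V ϖ * 1 = algebraMap R V ϖ * (algebraMap R V ϖ * c) := by
      rw [mul_one, ← mul_assoc, ← pow_two]; exact hc
    have h4 := mul_left_cancel₀ ha0 h3
    have hu : IsUnit (algebraMap R V ϖ) := IsUnit.of_mul_eq_one c h4.symm
    exact (IsLocalRing.mem_maximalIdeal _).mp hmemV hu
  obtain ⟨h, _⟩ := Groth.Agent.RegularLib.quotient_of_not_mem_sq
    (YR.left.presheaf.stalk (σ.base (IsLocalRing.closedPoint V)))
    (Models.stalkHom R YR (σ.base (IsLocalRing.closedPoint V)) ϖ) hx1 hx2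
  exact h

end Groth.Agent.S19912
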