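import Groth.Statements.S1992
import Mathlib

set_option autoImplicit false
universe u
open Polynomial
open EtAlg

namespace Groth.Agent.S1992

/-- Let A be an absolutely integrally closed ring, i.e. every monic polynomial over A is a product of
linear factors X - a. Then for every prime p of A the localization A_p is a strictly henselian local
ring (henselian with separably closed residue field). -/
theorem result (A : Type u) [CommRing A]
    (hA : ∀ f : A[X], f.Monic → ∃ s : Multiset A, f = (s.map fun a => X - C a).prod)
    (p : Ideal A) [p.IsPrime] :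
    EtCoh.IsStrictlyHenselianLocalRing (Localization.AtPrime p) := by
  classical
  have hR : ∀ f : (Localization.AtPrime p)[X], f.Monic →
      ∃ (σ : Localization.AtPrime p) (_ : IsUnit σ) (t : Multiset (Localization.AtPrime p)),
        Polynomial.scaleRoots f σ = (t.map fun a => X - C a).prod := by
    intro f hf
    obtain ⟨b, hb⟩ := IsLocalization.exist_integer_multiples_of_finset p.primeCompl f.coeffs
    have hσ : IsUnit (algebraMap A (Localization.AtPrime p) b) :=
      IsLocalization.map_units (Localization.AtPrime p) b
    have hl : Polynomial.scaleRoots f (algebraMap A (Localization.AtPrime p) b) ∈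
        Polynomial.lifts (algebraMap A (Localization.AtPrime p)) := by
      rw [Polynomial.lifts_iff_coeff_lifts]
      intro i
      rw [Polynomial.coeff_scaleRoots]
      rcases lt_trichotomy i f.natDegree with hi | hi | hi
      · by_cases h0 : f.coeff i = 0
        · exact ⟨0, by rw [map_zero, h0, zero_mul]⟩
        · obtain ⟨c, hc⟩ := RingHom.mem_rangeS.mp (hb _ (Polynomial.coeff_mem_coeffs h0))
          obtain ⟨k, hk⟩ : ∃ k, f.natDegree - i = k + 1 := ⟨f.natDegree - i - 1, by omega⟩
          refine ⟨c * (b : A) ^ k, ?_⟩
          rw [map_mul, map_pow, hc, Algebra.smul_def, hk, pow_succ]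
          ring
      · subst hi
        rw [Nat.sub_self, pow_zero, mul_one, hf.coeff_natDegree]
        exact ⟨1, map_one _⟩
      · rw [Polynomial.coeff_eq_zero_of_natDegree_lt hi, zero_mul]
        exact ⟨0, map_zero _⟩
    have hm : (Polynomial.scaleRoots f (algebraMap A (Localization.AtPrime p) b)).Monic :=
      (Polynomial.monic_scaleRoots_iff _).mpr hf
    obtain ⟨G, hG, -, hGm⟩ := Polynomial.lifts_and_degree_eq_and_monic hl hm
    obtain ⟨s, hs⟩ := hA G hGm
    refine ⟨algebraMap A (Localization.AtPrime p) b, hσ,
      s.map (algebraMap A (Localization.AtPrime p)), ?_⟩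
    rw [← hG, hs, Polynomial.map_multiset_prod, Multiset.map_map, Multiset.map_map]
    congr 1
    apply Multiset.map_congr rfl
    intro a _
    simp only [Function.comp_apply, Polynomial.map_sub, Polynomial.map_X, Polynomial.map_C]
  have hroot : ∀ (f : (Localization.AtPrime p)[X]) (σ σi α : Localization.AtPrime p)
      (t : Multiset (Localization.AtPrime p)), IsUnit σ → σi * σ = 1 →
      Polynomial.scaleRoots f σ = (t.map fun a => X - C a).prod → α ∈ t →
      Polynomial.eval (σi * α) f = 0 := by
    intro f σ σi α t hσ hσi ht hα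
    have h3 : Polynomial.eval (σ * (σi * α)) (Polynomial.scaleRoots f σ) = 0 := by
      have : σ * (σi * α) = α := by rw [← mul_assoc, mul_comm σ σi, hσi, one_mul]
      rw [this, ht, Polynomial.eval_multiset_prod, Multiset.map_map]
      apply Multiset.prod_eq_zero
      rw [Multiset.mem_map]
      exact ⟨α, hα, by simp⟩
    rw [Polynomial.scaleRoots_eval_mul] at h3
    exact (hσ.pow _).mul_right_eq_zero.mp h3
  have hloc : IsLocalRing (Localization.AtPrime p) := inferInstance
  have hhens : HenselianLocalRing (Localization.AtPrime p) := by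
    refine { toIsLocalRing := hloc, is_henselian := ?_ }
    intro f hf a₀ h₁ _
    obtain ⟨σ, hσ, t, ht⟩ := hR f hf
    have h2 : Polynomial.eval (σ * a₀) (Polynomial.scaleRoots f σ) ∈
        IsLocalRing.maximalIdeal (Localization.AtPrime p) := by
      rw [Polynomial.scaleRoots_eval_mul]
      exact Ideal.mul_mem_left _ _ h₁
    rw [ht, Polynomial.eval_multiset_prod, Multiset.map_map] at h2
    obtain ⟨y, hy, hym⟩ := ((IsLocalRing.maximalIdeal.isMaximal
      (Localization.AtPrime p)).isPrime.multiset_prod_mem_iff_exists_mem _).mp h2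
    obtain ⟨α, hα, rfl⟩ := Multiset.mem_map.mp hy
    simp only [Function.comp_apply, Polynomial.eval_sub, Polynomial.eval_X,
      Polynomial.eval_C] at hym
    obtain ⟨σi, hσi⟩ := hσ.exists_left_inv
    refine ⟨σi * α, hroot f σ σi α t hσ hσi ht hα, ?_⟩
    have : σi * α - a₀ = -(σi * (σ * a₀ - α)) := by
      rw [mul_sub, ← mul_assoc, hσi, one_mul]; ring
    rw [this]
    exact neg_mem (Ideal.mul_mem_left _ _ hym)
  refine ⟨hhens, ?_⟩
  apply IsSepClosed.of_exists_root
  intro q hq hirr _
  have hl : q ∈ Polynomial.lifts (IsLocalRing.residue (Localization.AtPrime p)) := by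
    rw [Polynomial.lifts_iff_coeff_lifts]
    intro n
    exact IsLocalRing.residue_surjective _
  obtain ⟨Q, hQ, hQd, hQm⟩ := Polynomial.lifts_and_degree_eq_and_monic hl hq
  obtain ⟨σ, hσ, t, ht⟩ := hR Q hQm
  have hdeg : 0 < q.natDegree := hirr.natDegree_pos
  have hcard : Multiset.card t = Q.natDegree := by
    have := congrArg Polynomial.natDegree ht
    rw [Polynomial.natDegree_scaleRoots, Polynomial.natDegree_multiset_prod_X_sub_C_eq_card] at this
    exact this.symm
  have hQn : Q.natDegree = q.natDegree := Polynomial.natDegree_eq_of_degree_eq hQd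
  obtain ⟨α, hα⟩ : ∃ α, α ∈ t := Multiset.card_pos_iff_exists_mem.mp (by omega)
  obtain ⟨σi, hσi⟩ := hσ.exists_left_inv
  refine ⟨IsLocalRing.residue (Localization.AtPrime p) (σi * α), ?_⟩
  rw [← hQ, Polynomial.eval_map_apply, hroot Q σ σi α t hσ hσi ht hα, map_zero]

end Groth.Agent.S1992
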