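import Groth.Statements.S1993
import Groth.Agent.Lib.PairHensExists_lead
import Groth.Agent.Lib.PairHensQuot_lead

set_option autoImplicit false
universe u
open EtAlg

namespace Groth.Agent.S1993

/-- Let A be a local ring with maximal ideal m and B a local A-algebra with local structure map. Then B
is a henselization of the pair (A, m) if and only if B is a henselization of the local ring A (both
in the sense of the universal properties). -/
theorem result (A B : Type u) [CommRing A] [IsLocalRing A] [CommRing B]
    [IsLocalRing B] [Algebra A B] [IsLocalHom (algebraMap A B)] :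
    Hens2.IsPairHenselization A (IsLocalRing.maximalIdeal A) B ↔ Hensel.IsHenselization A B := by
  have hle : (IsLocalRing.maximalIdeal A).map (algebraMap A B) ≤ IsLocalRing.maximalIdeal B :=
    ((IsLocalRing.local_hom_TFAE (algebraMap A B)).out 0 2).1 ‹IsLocalHom (algebraMap A B)›
  constructor
  · rintro ⟨h1, h2⟩
    have hbij := Groth.Agent.Lib.PairHensQuot.quotientMap_bijective B _ h1 h2
    have hmax := Groth.Agent.Lib.PairHensQuot.isMaximal_of_bijective B _ hbij
    have hM : (IsLocalRing.maximalIdeal A).map (algebraMap A B) = IsLocalRing.maximalIdeal B :=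
      IsLocalRing.eq_maximalIdeal hmax
    have h1' : HenselianRing B (IsLocalRing.maximalIdeal B) := hM ▸ h1
    haveI hHL : HenselianLocalRing B := Groth.Agent.Lib.PairHensQuot.henselianLocalRing_of h1'
    refine ⟨hHL, ?_⟩
    intro T _ _ f hf
    exact h2 T (IsLocalRing.maximalIdeal T) f inferInstance
      (((IsLocalRing.local_hom_TFAE f).out 0 2).1 hf)
  · intro hH
    obtain ⟨Ah, instR, instAlg, hAh1, hAh2⟩ :=
      Groth.Agent.Lib.PairHensExists.exists_henselization A (IsLocalRing.maximalIdeal A)
    have hbij := Groth.Agent.Lib.PairHensQuot.quotientMap_bijective Ah _ hAh1 hAh2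
    have hmax := Groth.Agent.Lib.PairHensQuot.isMaximal_of_bijective Ah _ hbij
    obtain ⟨hloc, hM⟩ := Groth.Agent.Lib.PairHensQuot.isLocalRing_of_isMaximal hAh1.jac hmax
    haveI := hloc
    have hAh1' : HenselianRing Ah (IsLocalRing.maximalIdeal Ah) := hM.symm ▸ hAh1
    haveI hHL : HenselianLocalRing Ah := Groth.Agent.Lib.PairHensQuot.henselianLocalRing_of hAh1'
    haveI hlh : IsLocalHom (algebraMap A Ah) :=
      ((IsLocalRing.local_hom_TFAE (algebraMap A Ah)).out 0 2).2 hM.ge
    haveI hBH : HenselianLocalRing B := hH.henselian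
    obtain ⟨σ, hσ, -⟩ := hH.universal Ah (algebraMap A Ah) hlh
    obtain ⟨ρ, hρ, -⟩ := hAh2 B (IsLocalRing.maximalIdeal B) (algebraMap A B) inferInstance hle
    have hρσ : ρ.comp σ = RingHom.id B := by
      obtain ⟨g₀, -, hu⟩ := hH.universal B (algebraMap A B) inferInstance
      exact (hu _ (by beta_reduce; rw [RingHom.comp_assoc, hσ, hρ])).trans (hu _ (RingHom.id_comp _)).symm
    refine ⟨Groth.Agent.Lib.HenselPairOpsLead.henselian_of_le hle inferInstance, ?_⟩
    intro C _ J f hJ hfJ
    obtain ⟨g₀, hg₀, hu⟩ := hAh2 C J f hJ hfJ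
    refine ⟨g₀.comp σ, by beta_reduce; rw [RingHom.comp_assoc, hσ, hg₀], ?_⟩
    intro g₁ hg₁
    have := hu (g₁.comp ρ) (by beta_reduce; rw [RingHom.comp_assoc, hρ, hg₁])
    rw [← this, RingHom.comp_assoc, hρσ, RingHom.comp_id]

end Groth.Agent.S1993
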