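import Groth.Statements.S1996
import Mathlib
import Groth.Agent.Lib.LocalCrit2_helper9

set_option autoImplicit false
universe u
open EtAlg

namespace Groth.Agent.S1996

/-- Let A -> B -> C be ring maps with B -> C faithfully flat. Weak etaleness of A -> C then implies weak
etaleness of A -> B. -/
theorem result (A B C : Type u) [CommRing A] [CommRing B] [CommRing C] [Algebra A B]
    [Algebra B C] [Algebra A C] [IsScalarTower A B C] [Module.FaithfullyFlat B C] [Algebra.WeaklyEtale A C] :
    Algebra.WeaklyEtale A B := by
  haveI : Module.Flat A B :=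
    Groth.Agent.Lib.LocalCrit2.flat_of_faithfullyFlat_of_flat (A := A) (B := B) (M := C)
  have key : ∀ {R S T : Type u} [CommRing R] [CommRing S] [CommRing T]
      (f : R →+* S) (g : S →+* T), g.FaithfullyFlat → (g.comp f).Flat → f.Flat := by
    intro R S T _ _ _ f g hg h
    algebraize [f, g, g.comp f]
    exact Groth.Agent.Lib.LocalCrit2.flat_of_faithfullyFlat_of_flat (A := R) (B := S) (M := T)
  refine ⟨inferInstance, ?_⟩
  have hφ : (IsScalarTower.toAlgHom A B C).Flat :=
    RingHom.flat_algebraMap_iff.mpr (inferInstance : Module.Flat B C)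
  apply key _ (algebraMap B C) (RingHom.faithfullyFlat_algebraMap_iff.mpr inferInstance)
  have heq : (IsScalarTower.toAlgHom A B C).comp (Algebra.TensorProduct.lmul' A (S := B)) =
      (Algebra.TensorProduct.lmul' A (S := C)).comp
        (Algebra.TensorProduct.map (IsScalarTower.toAlgHom A B C) (IsScalarTower.toAlgHom A B C)) := by
    ext <;> simp
  have heq' : (algebraMap B C).comp (Algebra.TensorProduct.lmul' A (S := B)).toRingHom =
      (Algebra.TensorProduct.lmul' A (S := C)).toRingHom.comp
        (Algebra.TensorProduct.map (IsScalarTower.toAlgHom A B C)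
          (IsScalarTower.toAlgHom A B C)).toRingHom :=
    congrArg AlgHom.toRingHom heq
  show ((algebraMap B C).comp (Algebra.TensorProduct.lmul' A (S := B)).toRingHom).Flat
  rw [heq']
  exact RingHom.Flat.comp (RingHom.Flat.tensorProductMap hφ hφ) (Algebra.WeaklyEtale.flat_lmul' A C)

end Groth.Agent.S1996
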