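import Groth.Statements.S19962
import Groth.Agent.Lib.BuchsEis_helper3
import Groth.Agent.Lib.McCoy_lead
-- import your own Groth.Agent.* helpers here

set_option autoImplicit false
universe u
open CAlg


namespace Groth.Agent.S19962

/-- Let R be a Noetherian commutative ring, not assumed local, and 0 → R^(n_e) → ⋯ → R^(n_1) → R^(n_0) a
complex of finite free modules with 1 ≤ e, the map R^(n_(i+1)) → R^(n_i) being given by the matrix A
i. Suppose that for every 1 ≤ j ≤ e the matrix of R^(n_j) → R^(n_(j-1)) has rank n_j - n_(j+1) + ⋯ ±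
n_e, the rank of a matrix being the largest size of a nonzero minor, and that its ideal of minors of
that size is either the unit ideal or contains an R-regular sequence of length j. Then the complex
is exact at R^(n_e), …, R^(n_1). -/
theorem result {R : Type u} [CommRing R] [IsNoetherianRing R]
    (e : ℕ) (he : 1 ≤ e) (n : ℕ → ℕ) (A : (i : ℕ) → Matrix (Fin (n i)) (Fin (n (i + 1))) R)
    (hA : ∀ i, i + 2 ≤ e → A i * A (i + 1) = 0)
    (hrank : ∀ j, 1 ≤ j → j ≤ e →
      (CAlgX.matrixRank (A (j - 1)) : ℤ) = ∑ t ∈ Finset.Icc j e, (-1 : ℤ) ^ (t - j) * (n t : ℤ))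
    (hdet : ∀ j, 1 ≤ j → j ≤ e →
      CAlgX.detIdeal (A (j - 1)) = ⊤ ∨
        ∃ rs : List R, rs.length = j ∧ (∀ r ∈ rs, r ∈ CAlgX.detIdeal (A (j - 1))) ∧
          RingTheory.Sequence.IsRegular R rs) :
    LinearMap.ker (A (e - 1)).mulVecLin = ⊥ ∧
      ∀ i, i + 2 ≤ e → LinearMap.ker (A i).mulVecLin = LinearMap.range (A (i + 1)).mulVecLin := by
  classical
  -- rank facts
  have hrk : ∀ {a b : ℕ} (M : Matrix (Fin a) (Fin b) R),
      CAlgX.minorIdeal M (CAlgX.matrixRank M + 1) = ⊥ := by
    intro a b M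
    by_contra h
    have hbound : ∀ r ∈ {r : ℕ | CAlgX.minorIdeal M r ≠ ⊥}, r ≤ b := by
      intro r hr
      by_contra hlt
      push Not at hlt
      exact hr (Groth.Agent.Lib.McCoy.minorIdeal_eq_bot_of_lt M hlt)
    have h1 : CAlgX.matrixRank M + 1 ≤ sSup {r : ℕ | CAlgX.minorIdeal M r ≠ ⊥} :=
      le_csSup ⟨b, hbound⟩ h
    have h2 : sSup {r : ℕ | CAlgX.minorIdeal M r ≠ ⊥} = CAlgX.matrixRank M := rfl
    omega
  let A' : (i : ℕ) → Matrix (Fin (n i)) (Fin (n (i + 1))) R := fun i => if i < e then A i else 0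
  let ρ : ℕ → ℕ := fun i => if i < e then CAlgX.matrixRank (A i) else 0
  have hA'pos : ∀ i, i < e → A' i = A i := fun i h => if_pos h
  have hA'neg : ∀ i, ¬ i < e → A' i = 0 := fun i h => if_neg h
  have hρpos : ∀ i, i < e → ρ i = CAlgX.matrixRank (A i) := fun i h => if_pos h
  have hρneg : ∀ i, ¬ i < e → ρ i = 0 := fun i h => if_neg h
  have hrank' : ∀ i, i < e → (CAlgX.matrixRank (A i) : ℤ) =
      ∑ t ∈ Finset.Icc (i + 1) e, (-1 : ℤ) ^ (t - (i + 1)) * (n t : ℤ) :=
    fun i hi => hrank (i + 1) (by omega) (by omega)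
  have H := Groth.Agent.Lib.BuchsEisH3.global e n A' ρ
    (fun i hi => by
      rw [hA'pos i hi]
      by_cases h : i + 1 < e
      · rw [hA'pos _ h]
        exact hA i (by omega)
      · rw [hA'neg _ h, Matrix.mul_zero])
    (hA'neg e (lt_irrefl e))
    (fun i hi => by
      rw [hρpos i hi]
      have h1 := hrank' i hi
      by_cases h : i + 1 < e
      · rw [hρpos _ h]
        have h2 := hrank' (i + 1) h
        have hs : ∑ t ∈ Finset.Icc (i + 1) e, (-1 : ℤ) ^ (t - (i + 1)) * (n t : ℤ) =
            (n (i + 1) : ℤ) -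
              ∑ t ∈ Finset.Icc (i + 1 + 1) e, (-1 : ℤ) ^ (t - (i + 1 + 1)) * (n t : ℤ) := by
          rw [← Finset.insert_Icc_add_one_left_eq_Icc (by omega : i + 1 ≤ e),
            Finset.sum_insert (by simp), Nat.sub_self, pow_zero, one_mul, sub_eq_add_neg,
            ← Finset.sum_neg_distrib]
          congr 1
          refine Finset.sum_congr rfl fun t ht => ?_
          rw [Finset.mem_Icc] at ht
          have : t - (i + 1) = (t - (i + 1 + 1)) + 1 := by
            have := ht.1
            omega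
          rw [this, pow_succ]
          ring
        rw [hs, ← h2] at h1
        omega
      · have he : i + 1 = e := by omega
        rw [hρneg _ h]
        have hs : ∑ t ∈ Finset.Icc (i + 1) e, (-1 : ℤ) ^ (t - (i + 1)) * (n t : ℤ) =
            (n (i + 1) : ℤ) := by
          rw [← he, Finset.Icc_self, Finset.sum_singleton, Nat.sub_self, pow_zero, one_mul]
        rw [hs] at h1
        omega)
    (hρneg e (lt_irrefl e))
    (fun i hi => by
      rw [hA'pos i hi, hρpos i hi]
      exact hrk (A i))
    (fun i hi => by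
      rw [hA'pos i hi, hρpos i hi]
      rw [Groth.Agent.DepthLib.le_idealDepth_iff]
      rcases hdet (i + 1) (by omega) (by omega) with h | ⟨rs, hlen, hmem, hreg⟩
      · left
        have h' : CAlgX.minorIdeal (A i) (CAlgX.matrixRank (A i)) = ⊤ := h
        rw [h', Ideal.smul_eq_mul, Ideal.mul_top]
      · right
        exact ⟨rs, hreg.toIsWeaklyRegular, hmem, hlen⟩)
  constructor
  · have h1 := H (e - 1) (by omega)
    rw [hA'pos _ (by omega)] at h1
    rw [h1, hA'neg _ (by omega), Matrix.mulVecLin_zero, LinearMap.range_zero]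
  · intro i hi
    have h1 := H i (by omega)
    rw [hA'pos _ (by omega), hA'pos _ (by omega)] at h1
    exact h1

end Groth.Agent.S19962
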