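import Groth.Statements.S1997
import Mathlib

set_option autoImplicit false
universe u
open CategoryTheory
open EtAlg

namespace Groth.Agent.S1997

open TensorProduct in
theorem flat_subalgebra_h4 (A B : Type u) [CommRing A] [CommRing B] [Algebra A B]
    (hA : ∀ I : Ideal A, Module.Flat A I) [Module.Flat A B] (S : Subalgebra A B) :
    Module.Flat A S := by
  rw [Module.Flat.iff_rTensor_injective']
  intro I
  haveI := hA I
  have h1 : Function.Injective (LinearMap.lTensor I S.val.toLinearMap) :=
    Module.Flat.lTensor_preserves_injective_linearMap (M := I) _ Subtype.val_injective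
  have h2 : Function.Injective (LinearMap.rTensor B I.subtype) :=
    Module.Flat.rTensor_preserves_injective_linearMap (M := B) _ Subtype.val_injective
  have hcomm : (LinearMap.rTensor B I.subtype) ∘ₗ (LinearMap.lTensor I S.val.toLinearMap)
      = (LinearMap.lTensor A S.val.toLinearMap) ∘ₗ (LinearMap.rTensor S I.subtype) := by
    apply TensorProduct.ext'
    intro a s
    simp
  have h3 : Function.Injective
      ((LinearMap.lTensor A S.val.toLinearMap) ∘ₗ (LinearMap.rTensor S I.subtype)) := by
    rw [← hcomm]
    exact h2.comp h1
  exact Function.Injective.of_comp h3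

open TensorProduct in
theorem isEpi_subalgebra_h4 (A B : Type u) [CommRing A] [CommRing B] [Algebra A B]
    [Module.Flat A B] [Algebra.IsEpi A B] (S : Subalgebra A B) [Module.Flat A S] :
    Algebra.IsEpi A S := by
  rw [Algebra.isEpi_iff_forall_one_tmul_eq]
  intro a
  have h1 : Function.Injective (LinearMap.lTensor S S.val.toLinearMap) :=
    Module.Flat.lTensor_preserves_injective_linearMap (M := S) _ Subtype.val_injective
  have h2 : Function.Injective (LinearMap.rTensor B S.val.toLinearMap) :=
    Module.Flat.rTensor_preserves_injective_linearMap (M := B) _ Subtype.val_injective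
  apply h1
  apply h2
  simp only [LinearMap.lTensor_tmul, LinearMap.rTensor_tmul, AlgHom.toLinearMap_apply,
    Subalgebra.coe_val, OneMemClass.coe_one]
  exact (Algebra.isEpi_iff_forall_one_tmul_eq A B).mp inferInstance (a : B)

/-- Let A be a ring all of whose ideals are flat (weak dimension at most one) and A -> B a flat,
injective ring map which is an epimorphism in the category of commutative rings. Then A is
integrally closed in B. -/
theorem result (A B : Type u) [CommRing A] [CommRing B] [Algebra A B]
    (hA : ∀ I : Ideal A, Module.Flat A I) [Module.Flat A B] (hinj : Function.Injective (algebraMap A B))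
    (hepi : Epi (CommRingCat.ofHom (algebraMap A B))) : IsIntegrallyClosedIn A B := by
  haveI hE : Algebra.IsEpi A B := CommRingCat.epi_iff_epi.mp hepi
  rw [isIntegrallyClosedIn_iff]
  refine ⟨hinj, ?_⟩
  intro x hx
  obtain ⟨S, hS⟩ : ∃ S : Subalgebra A B, S = Algebra.adjoin A {x} := ⟨_, rfl⟩
  haveI : Module.Finite A S := by
    rw [hS]
    exact Module.Finite.of_fg hx.fg_adjoin_singleton
  haveI : Module.Flat A S := flat_subalgebra_h4 A B hA S
  haveI : Algebra.IsEpi A S := isEpi_subalgebra_h4 A B S
  have hsurj : Function.Surjective (algebraMap A S) :=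
    Algebra.isEpi_iff_surjective_algebraMap_of_finite.mp inferInstance
  have hxS : x ∈ S := by
    rw [hS]
    exact Algebra.subset_adjoin rfl
  obtain ⟨y, hy⟩ := hsurj ⟨x, hxS⟩
  refine ⟨y, ?_⟩
  have := congrArg (Subtype.val) hy
  simpa using this

end Groth.Agent.S1997
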