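import Groth.Statements.S19977
import Groth.Agent.Lib.ActLim5_helper6

set_option autoImplicit false
universe u
open CategoryTheory CategoryTheory.Limits MonoidalCategory CartesianMonoidalCategory MonObj AlgebraicGeometry
open NonAbH1

namespace Groth.Agent.S19977

/-- Let k be a field and X a quasi-compact and quasi-separated k-scheme. Let (T_i)_{i ∈ I} be a
cofiltered inverse system of X-schemes that are affine over X, with limit T over X (in the source
the T_i are torsors over X under affine k-group schemes of finite type, forming a projective system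
of torsors; only their being affine over the quasi-compact quasi-separated X enters). Let G be a
finite k-group scheme and V → T a finite T-scheme with an action of G ×_k T for which it is a
G-torsor over T for the fpqc topology. Then there exist an index i, a finite T_i-scheme V_i with an
action of G ×_k T_i making it an fpqc G-torsor over T_i, and a G-equivariant isomorphism of
T-schemes between V_i ×_{T_i} T and V; the two base changes of G to T are compared through the
canonical isomorphism (G ×_k T_i) ×_{T_i} T ≅ G ×_k T. (The further assertions — V_i Nori-reduced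
when V is, descent of morphisms of torsors, pointed versions — are not stated.) -/
theorem result (k : Type u) [Field k]
    (X : Scheme.{u}) [X.Over (Spec (CommRingCat.of k))] [CompactSpace X] [QuasiSeparatedSpace X]
    {I : Type u} [SmallCategory I] [IsCofiltered I]
    (DT : I ⥤ Over X) [∀ i, IsAffineHom (DT.obj i).hom]
    (cT : Cone DT) (hcT : IsLimit cT)
    (G : Over (Spec (CommRingCat.of k))) [GrpObj G] [IsFinite G.hom]
    (V : Over cT.pt.left) [IsFinite V.hom]
    (a : AlgGrp.Action (Red.bc (cT.pt.hom ≫ (X ↘ Spec (CommRingCat.of k))) G) V)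
    (hV : NonAbH1.IsTorsorFor Scheme.fpqcPrecoverage a) :
    ∃ (i : I) (h : (cT.π.app i).left ≫ ((DT.obj i).hom ≫ (X ↘ Spec (CommRingCat.of k))) = cT.pt.hom ≫ (X ↘ Spec (CommRingCat.of k)))
      (Vi : Over (DT.obj i).left) (ai : AlgGrp.Action (Red.bc ((DT.obj i).hom ≫ (X ↘ Spec (CommRingCat.of k))) G) Vi),
      IsFinite Vi.hom ∧ NonAbH1.IsTorsorFor Scheme.fpqcPrecoverage ai ∧
      Nonempty (NonAbH1.EquivIso (ai.bc (cT.π.app i).left)
        (a.restrict (ActBC.bcCompIso (cT.π.app i).left ((DT.obj i).hom ≫ (X ↘ Spec (CommRingCat.of k))) G h).hom)) := by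
  classical
  haveI : IsConnected I := IsCofiltered.isConnected I
  have hc : IsLimit ((Over.forget X).mapCone cT) := isLimitOfPreserves (Over.forget X) hcT
  have hcpt : ∀ i, CompactSpace ((DT ⋙ Over.forget X).obj i) := fun i =>
    (QuasiCompact.compactSpace_of_compactSpace (DT.obj i).hom : CompactSpace (DT.obj i).left)
  have hqs : ∀ i, QuasiSeparatedSpace ((DT ⋙ Over.forget X).obj i) := fun i =>
    (quasiSeparatedSpace_of_quasiSeparated (DT.obj i).hom : QuasiSeparatedSpace (DT.obj i).left)
  have haff : ∀ (i i' : I) (f : i ⟶ i'), IsAffineHom ((DT ⋙ Over.forget X).map f) := by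
    intro i i' f
    change IsAffineHom (DT.map f).left
    have hw : (DT.map f).left ≫ (DT.obj i').hom = (DT.obj i).hom := Over.w (DT.map f)
    haveI : IsAffineHom ((DT.map f).left ≫ (DT.obj i').hom) := by rw [hw]; infer_instance
    exact IsAffineHom.of_comp (DT.map f).left (DT.obj i').hom
  haveI : Flat G.hom := Groth.Agent.Lib.OverLimH6.flat_of_field' G.hom
  haveI : LocallyOfFinitePresentation G.hom := Groth.Agent.Lib.OverLimH6.lfp_of_lft_of_noeth G.hom
  have ht : ∀ {i i' : I} (f : i ⟶ i'), (DT ⋙ Over.forget X).map f ≫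
      ((DT.obj i').hom ≫ (X ↘ Spec (CommRingCat.of k))) =
      (DT.obj i).hom ≫ (X ↘ Spec (CommRingCat.of k)) := by
    intro i i' f
    exact (Category.assoc _ _ _).symm.trans
      (congrArg (· ≫ (X ↘ Spec (CommRingCat.of k))) (Over.w (DT.map f)))
  have hT : ∀ i, ((Over.forget X).mapCone cT).π.app i ≫
      ((DT.obj i).hom ≫ (X ↘ Spec (CommRingCat.of k))) =
      cT.pt.hom ≫ (X ↘ Spec (CommRingCat.of k)) := by
    intro i
    exact (Category.assoc _ _ _).symm.trans
      (congrArg (· ≫ (X ↘ Spec (CommRingCat.of k))) (Over.w (cT.π.app i)))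
  haveI := hcpt
  haveI := hqs
  haveI := haff
  obtain ⟨i, Vi, ai, h1, h2, h3⟩ := Groth.Agent.Lib.OverLimH6.main_torsor_descend'
    (D := DT ⋙ Over.forget X) (c := (Over.forget X).mapCone cT) hc
    (fun i => (DT.obj i).hom ≫ (X ↘ Spec (CommRingCat.of k))) ht
    (cT.pt.hom ≫ (X ↘ Spec (CommRingCat.of k))) hT G V ‹IsFinite V.hom› a hV
  exact ⟨i, hT i, Vi, ai, h1, h2, h3⟩

end Groth.Agent.S19977
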