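import Groth.Statements.S1999
import Mathlib
import Groth.Agent.Lib.RamGrp4_helper8
import Groth.Agent.Lib.RamGrp10_helper8

set_option autoImplicit false
universe u
open scoped Pointwise
open EtAlg

namespace Groth.Agent.S1999

/-- Parts (2)–(5) in the case of part (6): let A be a discrete valuation ring with fraction field K, L/K
a finite Galois extension with group G, B the integral closure of A in L, m a maximal ideal of B
whose residue field is separable over that of A, and e the ramification index of m over A. Let D be
the decomposition group (stabilizer of m), I the inertia group (elements acting trivially on B/m)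
and P the wild inertia group, here the elements of D acting trivially on B/m² (the description valid
in the separable residue field case). Then P ≤ I, P is normal in D, P is a p-group if the residue
characteristic is p > 0 and trivial if it is 0, and I/P is cyclic of order the prime-to-p part of e
and isomorphic to a subgroup of the e-th roots of unity of B/m — more precisely to the full group of
e-th roots of unity of B/m. -/
theorem result (A K L B : Type u) [CommRing A] [IsDomain A] [IsDiscreteValuationRing A]
    [CommRing B] [IsDomain B] [Field K] [Field L] [Algebra A K] [Algebra B L] [IsFractionRing A K] [IsFractionRing B L]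
    [Algebra A B] [Algebra K L] [Algebra A L] [IsScalarTower A K L] [IsScalarTower A B L] [IsIntegralClosure B A L]
    [FiniteDimensional K L] [IsGalois K L] (m : Ideal B) [m.IsMaximal]
    [Algebra.IsSeparable (A ⧸ m.comap (algebraMap A B)) (B ⧸ m)] :
    letI := IsIntegralClosure.MulSemiringAction A K L B
    let D : Subgroup (L ≃ₐ[K] L) := MulAction.stabilizer (L ≃ₐ[K] L) m
    let I : Subgroup (L ≃ₐ[K] L) := m.inertia (L ≃ₐ[K] L)
    let P : Subgroup (L ≃ₐ[K] L) := D ⊓ (m ^ 2).inertia (L ≃ₐ[K] L)
    let e : ℕ := Ideal.ramificationIdx' (IsLocalRing.maximalIdeal A) m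
    P ≤ I ∧ I ≤ D ∧ (P.subgroupOf D).Normal ∧
    (∀ p : ℕ, p.Prime → CharP (A ⧸ m.comap (algebraMap A B)) p → IsPGroup p P) ∧
    (CharZero (A ⧸ m.comap (algebraMap A B)) → P = ⊥) ∧
    (∀ [(P.subgroupOf I).Normal],
      IsCyclic (I ⧸ P.subgroupOf I) ∧
      (∀ p : ℕ, p.Prime → CharP (A ⧸ m.comap (algebraMap A B)) p → Nat.card (I ⧸ P.subgroupOf I) = e / p ^ e.factorization p) ∧
      (CharZero (A ⧸ m.comap (algebraMap A B)) → Nat.card (I ⧸ P.subgroupOf I) = e) ∧
      Nonempty (I ⧸ P.subgroupOf I ≃* ↥(rootsOfUnity e (B ⧸ m)))) := by
  letI := IsIntegralClosure.MulSemiringAction A K L B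
  haveI : IsDedekindDomain B := IsIntegralClosure.isDedekindDomain A K L B
  haveI : Module.Finite A B := IsIntegralClosure.finite A K L B
  haveI : IsGaloisGroup (L ≃ₐ[K] L) A B := IsGaloisGroup.of_isFractionRing _ _ _ K L
  haveI : SMulCommClass (L ≃ₐ[K] L) A B := IsGaloisGroup.commutes
  haveI : FaithfulSMul (L ≃ₐ[K] L) B := IsGaloisGroup.faithful A
  haveI : Finite (L ≃ₐ[K] L) := inferInstance
  have hinj : Function.Injective (algebraMap A B) := by
    have h : Function.Injective (algebraMap A L) := by
      rw [IsScalarTower.algebraMap_eq A K L]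
      exact (algebraMap K L).injective.comp (IsFractionRing.injective A K)
    rw [IsScalarTower.algebraMap_eq A B L] at h
    exact Function.Injective.of_comp h
  haveI : Module.IsTorsionFree A B := Module.isTorsionFree_iff_algebraMap_injective.mpr hinj
  haveI : Module.Flat A B := inferInstance
  obtain ⟨p, hpdef⟩ : ∃ p : Ideal A, p = m.comap (algebraMap A B) := ⟨_, rfl⟩
  haveI : m.LiesOver (m.comap (algebraMap A B)) := ⟨rfl⟩
  haveI : (m.comap (algebraMap A B)).IsMaximal := inferInstance
  have hp : m.comap (algebraMap A B) = IsLocalRing.maximalIdeal A :=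
    IsLocalRing.eq_maximalIdeal inferInstance
  have hpne : m.comap (algebraMap A B) ≠ ⊥ := by
    rw [hp]
    exact IsDiscreteValuationRing.not_a_field A
  have hm : m ≠ ⊥ := by
    intro h
    apply hpne
    rw [h]
    exact (RingHom.injective_iff_ker_eq_bot _).mp hinj
  have he : Nat.card (m.inertia (L ≃ₐ[K] L)) =
      Ideal.ramificationIdx' (IsLocalRing.maximalIdeal A) m := by
    rw [RamGrpH8.card_inertia_eq (m.comap (algebraMap A B)) m, ← hp]
    exact (Ideal.ramificationIdx'_eq_ramificationIdx (m.comap (algebraMap A B)) m hpne).symm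
  intro D I P e
  refine ⟨RamGrpH8.P_le_I m, Ideal.inertia_le_stabilizer m, RamGrpH8.P_normal m,
    fun q hq hc => RamGrpH8.isPGroup_P' (m.comap (algebraMap A B)) m q hq,
    fun h0 => RamGrpH8.P_eq_bot' (m.comap (algebraMap A B)) m, ?_⟩
  intro hN
  exact RamGrpH8.tame_structure (m.comap (algebraMap A B)) m hm e he

end Groth.Agent.S1999
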