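import Groth.Statements.S19994
import Groth.Agent.Lib.GaloisSplit_helper3
import Groth.Agent.Lib.WildNotFlat_helper3
-- import your own Groth.Agent.* helpers here

set_option autoImplicit false
universe u v w
open WildQuot


namespace Groth.Agent.S19994

/-- Let `A` be a complete regular local ring of Krull dimension at least `2` and prime characteristic
`p`, with maximal ideal `m`; let `k` be a field with a ring map `k → A` whose composite with `A →
A/m` is onto; let `G` be a group of order `p` acting on `A` by ring automorphisms fixing the image
of `k` and ramified precisely at the origin (for every prime `P ≠ m`, the inertia subgroup of `P`,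
i.e. the elements of `G` fixing every element modulo `P`, is trivial). Then the singular locus of
`Spec A^G` is contained in the closed point: for every non-maximal prime ideal `P` of the invariant
ring `A^G`, the localization `(A^G)_P` is a regular local ring. (The published statement also
asserts that the punctured spectrum of `A` is a `G`-torsor over the punctured spectrum of `A^G`;
this row omits that clause. Together with the non-regularity of `A^G` itself, the singular locus is
exactly the closed point.) -/
theorem result
    (p : ℕ) [Fact p.Prime] (A : Type u) [CommRing A] [IsRegularLocalRing A] [CharP A p]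
    [IsAdicComplete (IsLocalRing.maximalIdeal A) A] (hdim : 2 ≤ ringKrullDim A)
    (k : Type v) [Field k] [Algebra k A]
    (hk : Function.Surjective (IsLocalRing.residue A ∘ algebraMap k A))
    (G : Type w) [Group G] [Finite G] [MulSemiringAction G A] (hcard : Nat.card G = p)
    (hGk : ∀ (σ : G) (c : k), σ • algebraMap k A c = algebraMap k A c)
    (hram : ∀ P : Ideal A, P.IsPrime → P ≠ IsLocalRing.maximalIdeal A → P.inertia G = ⊥)
    (P : Ideal (FixedPoints.subring A G)) [P.IsPrime] (hP : ¬ P.IsMaximal) :
    IsRegularLocalRing (Localization.AtPrime P) := by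
  classical
  cases nonempty_fintype G
  haveI := Groth.Agent.Lib.WildNotFlatH3.isInvariant (A := A) (G := G)
  haveI : Algebra.IsIntegral (FixedPoints.subring A G) A :=
    Algebra.IsInvariant.isIntegral (FixedPoints.subring A G) A G
  have hinj : Function.Injective (algebraMap (FixedPoints.subring A G) A) := Subtype.val_injective
  -- a prime over `P`
  obtain ⟨Q, -, hQp, hQP⟩ := Ideal.exists_ideal_over_prime_of_isIntegral P (⊥ : Ideal A) (by
    rw [← RingHom.ker_eq_comap_bot, (RingHom.injective_iff_ker_eq_bot _).1 hinj]
    exact bot_le)
  haveI : Q.IsPrime := hQp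
  haveI : Q.LiesOver P := ⟨hQP.symm⟩
  have hQm : Q ≠ IsLocalRing.maximalIdeal A := by
    intro h
    apply hP
    rw [← hQP, h]
    exact Ideal.isMaximal_comap_of_isIntegral_of_isMaximal (IsLocalRing.maximalIdeal A)
  -- all conjugates of `Q` have trivial inertia
  have hQ' : ∀ σ τ : G, τ ≠ 1 → ∃ a : A, σ • (τ • a - a) ∉ Q := by
    intro σ τ hτ
    by_contra hcon
    push_neg at hcon
    have hprime : (Q.comap (MulSemiringAction.toRingHom G A σ)).IsPrime := Ideal.comap_isPrime _ _
    have hne : Q.comap (MulSemiringAction.toRingHom G A σ) ≠ IsLocalRing.maximalIdeal A := by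
      intro h
      apply hQm
      refine (IsLocalRing.eq_maximalIdeal ?_)
      have hle : IsLocalRing.maximalIdeal A ≤ Q := by
        intro x hx
        have h1 : σ⁻¹ • x ∈ IsLocalRing.maximalIdeal A := by
          rw [IsLocalRing.mem_maximalIdeal, mem_nonunits_iff] at hx ⊢
          intro hu
          apply hx
          have := hu.map (MulSemiringAction.toRingHom G A σ)
          rwa [MulSemiringAction.toRingHom_apply, smul_inv_smul] at this
        rw [← h, Ideal.mem_comap, MulSemiringAction.toRingHom_apply, smul_inv_smul] at h1
        exact h1
      have := (IsLocalRing.maximalIdeal.isMaximal A).eq_of_le hQp.ne_top hle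
      rw [← this]
      exact IsLocalRing.maximalIdeal.isMaximal A
    have hmem : τ ∈ (Q.comap (MulSemiringAction.toRingHom G A σ)).inertia G := fun a => hcon a
    rw [hram _ hprime hne] at hmem
    exact hτ (Subgroup.mem_bot.1 hmem)
  have hnorm : ∀ s : A, ∃ r : FixedPoints.subring A G,
      algebraMap (FixedPoints.subring A G) A r = ∏ τ : G, τ • s := by
    intro s
    refine ⟨⟨∏ τ : G, τ • s, fun g => ?_⟩, rfl⟩
    show MulSemiringAction.toRingHom G A g _ = _
    rw [map_prod]
    refine (Fintype.prod_equiv (Equiv.mulLeft g) _ _ (fun τ => ?_)).trans rfl
    show g • τ • s = (g * τ) • s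
    rw [mul_smul]
  have hflat := Groth.Agent.Lib.GaloisSplitH3.flat_localRingHom (G := G) hinj
    (fun s => Groth.Agent.Lib.WildNotFlatH3.trace_mem s) hnorm P Q hQ'
  haveI : IsRegularLocalRing (Localization.AtPrime Q) :=
    Groth.Agent.Serre.localization_regular A Q
  letI : Algebra (Localization.AtPrime P) (Localization.AtPrime Q) :=
    (Localization.localRingHom P Q (algebraMap (FixedPoints.subring A G) A)
      Ideal.LiesOver.over).toAlgebra
  haveI : Module.Flat (Localization.AtPrime P) (Localization.AtPrime Q) := hflat
  haveI : IsLocalHom (algebraMap (Localization.AtPrime P) (Localization.AtPrime Q)) :=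
    Localization.isLocalHom_localRingHom P Q _ Ideal.LiesOver.over
  haveI : Module.FaithfullyFlat (Localization.AtPrime P) (Localization.AtPrime Q) :=
    Module.FaithfullyFlat.of_flat_of_isLocalHom
  haveI : IsNoetherianRing (Localization.AtPrime P) :=
    Groth.Agent.DepthLib.isNoetherianRing_of_faithfullyFlat (Localization.AtPrime P)
      (Localization.AtPrime Q)
  exact Groth.Agent.Serre.regular_of_flat_local (Localization.AtPrime P) (Localization.AtPrime Q)

end Groth.Agent.S19994
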