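import Groth.Statements.S2001
import Mathlib
import Groth.Agent.Lib.EtGlue3_helper4

set_option autoImplicit false
universe u
open TensorProduct
open EtAlg

namespace Groth.Agent.S2001

/-- Let (R -> R', f) be a glueing pair and M, N R-modules glueable for it. Given an R'-linear map φ' :
R' ⊗_R M -> R' ⊗_R N and an R-linear map φ₁ : M_f -> N_f which induce the same map into (R' ⊗_R N)_f
on elements of M, there is a unique R-linear map ψ : M -> N whose base change to R' is φ' and whose
localization is φ₁. -/
theorem result (R R' : Type u) [CommRing R] [CommRing R'] [Algebra R R'] (f : R)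
    (hRR : EtGlue.IsGlueingPair R R' f) (M N : Type u) [AddCommGroup M] [Module R M] [AddCommGroup N] [Module R N]
    (hM : EtGlue.IsGlueable R R' f M) (hN : EtGlue.IsGlueable R R' f N)
    (φ' : R' ⊗[R] M →ₗ[R'] R' ⊗[R] N)
    (φ₁ : LocalizedModule (Submonoid.powers f) M →ₗ[R] LocalizedModule (Submonoid.powers f) N)
    (hc : ∀ m : M, EtGlue.locOfTensor R R' f N (φ' ((1 : R') ⊗ₜ[R] m)) =
      EtGlue.tensorOfLoc R R' f N (φ₁ (LocalizedModule.mkLinearMap (Submonoid.powers f) M m))) :
    ∃! ψ : M →ₗ[R] N, ψ.baseChange R' = φ' ∧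
      IsLocalizedModule.map (Submonoid.powers f) (LocalizedModule.mkLinearMap (Submonoid.powers f) M)
        (LocalizedModule.mkLinearMap (Submonoid.powers f) N) ψ = φ₁ := by
  obtain ⟨hNinj, hNmid⟩ := hN
  have huniq : ∀ n n' : N, (1 : R') ⊗ₜ[R] n = (1 : R') ⊗ₜ[R] n' →
      LocalizedModule.mkLinearMap (Submonoid.powers f) N n
        = LocalizedModule.mkLinearMap (Submonoid.powers f) N n' → n = n' := by
    intro n n' h1 h2
    exact hNinj (a₁ := n) (a₂ := n') (by simp only [h1, h2])
  choose g hg1 hg2 using fun m : M => hNmid _ _ (hc m)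
  let ψ : M →ₗ[R] N :=
    { toFun := g
      map_add' := by
        intro a b
        apply huniq
        · rw [hg1, tmul_add, map_add, tmul_add, hg1, hg1]
        · rw [hg2, map_add, map_add, map_add, hg2, hg2]
      map_smul' := by
        intro r a
        apply huniq
        · rw [hg1, RingHom.id_apply, tmul_smul, tmul_smul, LinearMap.map_smul_of_tower, hg1]
        · rw [hg2, RingHom.id_apply, map_smul, map_smul, map_smul, hg2] }
  have hψ1 : ψ.baseChange R' = φ' := by
    apply TensorProduct.AlgebraTensorModule.ext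
    intro x m
    rw [LinearMap.baseChange_tmul]
    have : x ⊗ₜ[R] m = x • ((1 : R') ⊗ₜ[R] m) := by rw [smul_tmul', smul_eq_mul, mul_one]
    rw [this, map_smul, ← hg1, smul_tmul', smul_eq_mul, mul_one]
    rfl
  have hψ2 : IsLocalizedModule.map (Submonoid.powers f)
      (LocalizedModule.mkLinearMap (Submonoid.powers f) M)
      (LocalizedModule.mkLinearMap (Submonoid.powers f) N) ψ = φ₁ := by
    apply IsLocalizedModule.linearMap_ext (Submonoid.powers f)
      (LocalizedModule.mkLinearMap (Submonoid.powers f) M)
      (LocalizedModule.mkLinearMap (Submonoid.powers f) N)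
    ext m
    simp only [LinearMap.coe_comp, Function.comp_apply, IsLocalizedModule.map_apply]
    exact hg2 m
  refine ⟨ψ, ⟨hψ1, hψ2⟩, ?_⟩
  rintro ψ₂ ⟨h1, h2⟩
  ext m
  apply huniq
  · have := congrArg (fun F => F ((1 : R') ⊗ₜ[R] m)) h1
    simp only [LinearMap.baseChange_tmul] at this
    rw [this]; exact (hg1 m).symm
  · have := congrArg (fun F => F (LocalizedModule.mkLinearMap (Submonoid.powers f) M m)) h2
    simp only [IsLocalizedModule.map_apply] at this
    rw [this]; exact (hg2 m).symm

end Groth.Agent.S2001
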