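import Groth.Statements.S20018
import Mathlib

set_option autoImplicit false
open CAlg

namespace Groth.Agent.S20018

open PowerSeries in
theorem coeff_mul_one_sub {R : Type*} [CommRing R] (p : PowerSeries R) (c : R) (k m : ℕ) :
    coeff m (p * (1 - C c * X ^ k)) = coeff m p - (if k ≤ m then c * coeff (m - k) p else 0) := by
  have : p * (1 - C c * X ^ k) = p - C c * (p * X ^ k) := by ring
  rw [this, map_sub, coeff_C_mul, coeff_mul_X_pow']
  split_ifs <;> simp

/-- partial products -/
noncomputable def PP {R : Type*} [CommRing R] (γ : ℕ → R) (N : ℕ) : PowerSeries R :=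
  ∏ i ∈ Finset.range N, (1 - PowerSeries.C (γ i) * PowerSeries.X ^ (i + 1) : PowerSeries R)

theorem PP_succ {R : Type*} [CommRing R] (γ : ℕ → R) (N : ℕ) :
    PP γ (N + 1) = PP γ N * (1 - PowerSeries.C (γ N) * PowerSeries.X ^ (N + 1)) := by
  unfold PP; rw [Finset.prod_range_succ]

open PowerSeries in
theorem PP_coeff_zero {R : Type*} [CommRing R] (γ : ℕ → R) (N : ℕ) : coeff 0 (PP γ N) = 1 := by
  induction N with
  | zero => simp [PP]
  | succ N ih => rw [PP_succ, coeff_mul_one_sub]; simp [ih]

open PowerSeries in
theorem PP_coeff_succ {R : Type*} [CommRing R] (γ : ℕ → R) (N : ℕ) :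
    coeff (N + 1) (PP γ (N + 1)) = coeff (N + 1) (PP γ N) - γ N := by
  rw [PP_succ, coeff_mul_one_sub]
  simp [PP_coeff_zero]

theorem PP_congr {R : Type*} [CommRing R] (γ γ' : ℕ → R) (N : ℕ) (h : ∀ i < N, γ i = γ' i) :
    PP γ N = PP γ' N := by
  unfold PP
  apply Finset.prod_congr rfl
  intro i hi
  rw [h i (Finset.mem_range.mp hi)]

open PowerSeries in
/-- Product expansion of big Witt vectors: let R be a commutative ring and x ∈ 1 + tR[[t]] a formal
power series with constant term 1. Then x can be written uniquely as an infinite product ∏_{i ≥ 1}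
(1 - α_i t^i) with α_i ∈ R. The infinite product is expressed through its truncations: there is a
unique sequence α : ℕ → R (α i standing for the coefficient attached to t^{i+1}) such that for every
N the series x and the finite product ∏_{i=0}^{N} (1 - α_i t^{i+1}) agree modulo t^{N+2}. -/
theorem result
    (R : Type*) [CommRing R] (x : PowerSeries R) (hx : PowerSeries.constantCoeff x = 1) :
    ∃! α : ℕ → R, ∀ N : ℕ,
      PowerSeries.trunc (N + 2) x =
        PowerSeries.trunc (N + 2) (∏ i ∈ Finset.range (N + 1),
          (1 - PowerSeries.C (α i) * PowerSeries.X ^ (i + 1) : PowerSeries R)) := by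
  classical
  -- the recursively defined partial products
  let Q : ℕ → PowerSeries R := fun N => Nat.rec (motive := fun _ => PowerSeries R) 1
    (fun N q => q * (1 - PowerSeries.C (PowerSeries.coeff (N + 1) q - PowerSeries.coeff (N + 1) x)
      * PowerSeries.X ^ (N + 1))) N
  have hQ0 : Q 0 = 1 := rfl
  have hQs : ∀ N, Q (N + 1) = Q N * (1 - PowerSeries.C (PowerSeries.coeff (N + 1) (Q N)
      - PowerSeries.coeff (N + 1) x) * PowerSeries.X ^ (N + 1)) := fun N => rfl
  let α : ℕ → R := fun N => PowerSeries.coeff (N + 1) (Q N) - PowerSeries.coeff (N + 1) x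
  have hQP : ∀ N, Q N = PP α N := by
    intro N
    induction N with
    | zero => simp [hQ0, PP]
    | succ N ih => rw [hQs, PP_succ, ← ih]
  have hα : ∀ N, α N = PowerSeries.coeff (N + 1) (PP α N) - PowerSeries.coeff (N + 1) x := by
    intro N; rw [← hQP]
  have hx0 : PowerSeries.coeff 0 x = 1 := by
    rw [PowerSeries.coeff_zero_eq_constantCoeff_apply]; exact hx
  -- matching of coefficients
  have hH : ∀ N, ∀ m ≤ N, PowerSeries.coeff m (PP α N) = PowerSeries.coeff m x := by
    intro N
    induction N with
    | zero =>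
      intro m hm
      obtain rfl : m = 0 := by omega
      rw [PP_coeff_zero, hx0]
    | succ N ih =>
      intro m hm
      rcases Nat.lt_or_ge m (N + 1) with h | h
      · rw [PP_succ, coeff_mul_one_sub, if_neg (by omega), sub_zero]
        exact ih m (by omega)
      · obtain rfl : m = N + 1 := by omega
        rw [PP_coeff_succ, hα N]; ring
  -- the key recursion satisfied by any solution
  have hrec : ∀ γ : ℕ → R, (∀ N : ℕ, PowerSeries.trunc (N + 2) x =
      PowerSeries.trunc (N + 2) (∏ i ∈ Finset.range (N + 1),
        (1 - PowerSeries.C (γ i) * PowerSeries.X ^ (i + 1) : PowerSeries R))) →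
      ∀ N, γ N = PowerSeries.coeff (N + 1) (PP γ N) - PowerSeries.coeff (N + 1) x := by
    intro γ hγ N
    have h1 := congrArg (fun q => Polynomial.coeff q (N + 1)) (hγ N)
    simp only [PowerSeries.coeff_trunc, if_pos (show N + 1 < N + 2 by omega)] at h1
    have h2 : PowerSeries.coeff (N + 1) (PP γ (N + 1)) = PowerSeries.coeff (N + 1) x := h1.symm
    rw [PP_coeff_succ] at h2
    rw [← h2]; ring
  refine ⟨α, ?_, ?_⟩
  · intro N
    ext m
    rw [PowerSeries.coeff_trunc, PowerSeries.coeff_trunc]
    split_ifs with h
    · exact (hH (N + 1) m (by omega)).symm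
    · rfl
  · intro γ hγ
    have hγr := hrec γ hγ
    funext N
    induction N using Nat.strong_induction_on with
    | _ N ih =>
      rw [hγr N, hα N, PP_congr γ α N ih]

end Groth.Agent.S20018
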