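import Groth.Statements.S2006
import Mathlib
import Groth.Agent.Lib.EtGlue_helper4

set_option autoImplicit false
universe u
open TensorProduct
open EtAlg

namespace Groth.Agent.S2006

section
open TensorProduct
universe v
variable {R R' : Type v} [CommRing R] [CommRing R'] [Algebra R R'] {f : R}
  {M : Type v} [AddCommGroup M] [Module R M]

lemma exists_finset_tmul (x : R' ⊗[R] M) :
    ∃ T : Finset M, x ∈ Submodule.span R' ((fun m : M => (1 : R') ⊗ₜ[R] m) '' (T : Set M)) := by
  classical
  induction x using TensorProduct.induction_on with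
  | zero => exact ⟨∅, Submodule.zero_mem _⟩
  | tmul r m =>
    refine ⟨{m}, ?_⟩
    have : r ⊗ₜ[R] m = r • ((1 : R') ⊗ₜ[R] m) := by
      rw [TensorProduct.smul_tmul', smul_eq_mul, mul_one]
    rw [this]
    exact Submodule.smul_mem _ _ (Submodule.subset_span ⟨m, by simp, rfl⟩)
  | add x y hx hy =>
    obtain ⟨T1, h1⟩ := hx
    obtain ⟨T2, h2⟩ := hy
    refine ⟨T1 ∪ T2, Submodule.add_mem _ ?_ ?_⟩
    · exact Submodule.span_mono
        (Set.image_mono (Finset.coe_subset.mpr Finset.subset_union_left)) h1
    · exact Submodule.span_mono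
        (Set.image_mono (Finset.coe_subset.mpr Finset.subset_union_right)) h2

lemma exists_finset_span_top [Module.Finite R' (R' ⊗[R] M)] :
    ∃ T : Finset M,
      Submodule.span R' ((fun m : M => (1 : R') ⊗ₜ[R] m) '' (T : Set M)) = ⊤ := by
  classical
  obtain ⟨s, hs⟩ := (Module.Finite.fg_top : (⊤ : Submodule R' (R' ⊗[R] M)).FG)
  choose T hT using fun x : R' ⊗[R] M => exists_finset_tmul (R := R) (R' := R') (M := M) x
  refine ⟨s.biUnion T, ?_⟩
  rw [eq_top_iff, ← hs, Submodule.span_le]
  intro x hx
  refine Submodule.span_mono (Set.image_mono ?_) (hT x)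
  exact Finset.coe_subset.mpr (Finset.subset_biUnion_of_mem T (Finset.mem_coe.mp hx))

lemma exists_finset_loc_top
    [Module.Finite (Localization.Away f) (LocalizedModule (Submonoid.powers f) M)] :
    ∃ T : Finset M, Submodule.span (Localization.Away f)
      ((LocalizedModule.mkLinearMap (Submonoid.powers f) M) '' (T : Set M)) = ⊤ := by
  classical
  obtain ⟨s, hs⟩ := (Module.Finite.fg_top :
    (⊤ : Submodule (Localization.Away f) (LocalizedModule (Submonoid.powers f) M)).FG)
  have key : ∀ y : LocalizedModule (Submonoid.powers f) M, ∃ m : M,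
      y ∈ Submodule.span (Localization.Away f)
        {LocalizedModule.mkLinearMap (Submonoid.powers f) M m} := by
    intro y
    induction y using LocalizedModule.induction_on with
    | h m s =>
      refine ⟨m, ?_⟩
      have : LocalizedModule.mk m s = (Localization.mk 1 s : Localization.Away f) •
          LocalizedModule.mkLinearMap (Submonoid.powers f) M m := by
        rw [LocalizedModule.mkLinearMap_apply, LocalizedModule.mk_smul_mk, one_smul, mul_one]
      rw [this]
      exact Submodule.smul_mem _ _ (Submodule.mem_span_singleton_self _)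
  choose g hg using key
  refine ⟨s.image g, ?_⟩
  rw [eq_top_iff, ← hs, Submodule.span_le]
  intro y hy
  refine Submodule.span_mono ?_ (hg y)
  rw [Set.singleton_subset_iff]
  exact ⟨g y, by simpa using Finset.mem_image_of_mem g (Finset.mem_coe.mp hy), rfl⟩

theorem finite_of (hq : EtGlue.QuotPowBijective R R' f)
    [Module.Finite R' (R' ⊗[R] M)]
    [Module.Finite (Localization.Away f) (LocalizedModule (Submonoid.powers f) M)] :
    Module.Finite R M := by
  classical
  obtain ⟨T1, hT1⟩ := exists_finset_span_top (R := R) (R' := R') (M := M)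
  obtain ⟨T2, hT2⟩ := exists_finset_loc_top (R := R) (f := f) (M := M)
  set N : Submodule R M := Submodule.span R ((T1 ∪ T2 : Finset M) : Set M) with hN
  have hNfg : N.FG := ⟨T1 ∪ T2, rfl⟩
  -- torsion
  have htors : ∀ q : M ⧸ N, ∃ n : ℕ, f ^ n • q = 0 := by
    intro q
    obtain ⟨m, rfl⟩ := Submodule.Quotient.mk_surjective N q
    let ℓ := LocalizedModule.mkLinearMap (Submonoid.powers f) M
    have h1 : N.localized' (Localization.Away f) (Submonoid.powers f) ℓ = ⊤ := by
      rw [hN, Submodule.localized'_span, eq_top_iff, ← hT2]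
      exact Submodule.span_mono
        (Set.image_mono (Finset.coe_subset.mpr Finset.subset_union_right))
    have h2 : ℓ m ∈ N.localized' (Localization.Away f) (Submonoid.powers f) ℓ := by
      rw [h1]; trivial
    rw [Submodule.mem_localized'] at h2
    obtain ⟨n, hn, s, hs⟩ := h2
    rw [IsLocalizedModule.mk'_eq_iff, Submonoid.smul_def, ← map_smul] at hs
    obtain ⟨c, hc⟩ := (IsLocalizedModule.eq_iff_exists (Submonoid.powers f) ℓ).mp hs
    obtain ⟨a, ha⟩ := (Submonoid.mem_powers_iff _ _).mp c.2
    obtain ⟨b, hb⟩ := (Submonoid.mem_powers_iff _ _).mp s.2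
    refine ⟨a + b, ?_⟩
    rw [← Submodule.Quotient.mk_smul, Submodule.Quotient.mk_eq_zero]
    have : f ^ (a + b) • m = (c : R) • n := by
      rw [pow_add, mul_smul, ha, hb]
      simp only [Submonoid.smul_def] at hc
      exact hc.symm
    rw [this]
    exact N.smul_mem _ hn
  have hsurj : ∀ m : M, ∃ z : R' ⊗[R] N,
      (N.subtype.baseChange R') z = (1 : R') ⊗ₜ[R] m := by
    intro m
    have hrange : (⊤ : Submodule R' (R' ⊗[R] M)) ≤
        LinearMap.range (N.subtype.baseChange R') := by
      rw [← hT1, Submodule.span_le]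
      rintro _ ⟨t, ht, rfl⟩
      refine ⟨(1 : R') ⊗ₜ[R] (⟨t, Submodule.subset_span
        (Finset.coe_subset.mpr Finset.subset_union_left ht)⟩ : N), ?_⟩
      simp [LinearMap.baseChange_tmul]
    exact hrange (Submodule.mem_top : (1 : R') ⊗ₜ[R] m ∈ ⊤)
  have hzero : ∀ q : M ⧸ N, q = 0 := by
    intro q
    apply Groth.Agent.Lib.EtGlueH4.eq_zero_of_one_tmul_eq_zero (M ⧸ N) hq htors
    obtain ⟨m, rfl⟩ := Submodule.Quotient.mk_surjective N q
    obtain ⟨z, hz⟩ := hsurj m
    have h1 : (N.mkQ.baseChange R') ((N.subtype.baseChange R') z) = 0 := by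
      rw [← LinearMap.comp_apply, ← LinearMap.baseChange_comp]
      have : N.mkQ ∘ₗ N.subtype = 0 := by ext x; simp
      rw [this, LinearMap.baseChange_zero]; rfl
    rw [hz, LinearMap.baseChange_tmul] at h1
    exact h1
  have htop : N = ⊤ := by
    rw [eq_top_iff]
    intro m _
    have := hzero (Submodule.Quotient.mk m)
    rwa [Submodule.Quotient.mk_eq_zero] at this
  exact ⟨by rw [← htop]; exact hNfg⟩

end

/-- Let R -> R' induce bijections R/f^n R -> R'/f^n R' for all n > 0 and let M be an R-module. Then M is
finitely generated if and only if R' ⊗_R M is finitely generated over R' and M_f is finitely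
generated over R_f. -/
theorem result (R R' : Type u) [CommRing R] [CommRing R'] [Algebra R R'] (f : R)
    (hq : EtGlue.QuotPowBijective R R' f) (M : Type u) [AddCommGroup M] [Module R M] :
    Module.Finite R M ↔ Module.Finite R' (R' ⊗[R] M) ∧
      Module.Finite (Localization.Away f) (LocalizedModule (Submonoid.powers f) M) := by
  constructor
  · intro h
    exact ⟨inferInstance, inferInstance⟩
  · rintro ⟨h1, h2⟩
    exact finite_of hq

end Groth.Agent.S2006
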