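import Groth.Statements.S2008
import Groth.Agent.Lib.FlatTFAE_helper9

set_option autoImplicit false
universe u
open TensorProduct
open EtAlg

namespace Groth.Agent.S2008

/-- For a ring map R -> S and an ideal I of R the following are equivalent: (1) S is flat over R and
S/IS is faithfully flat over R/I; (2) S is flat over R and Spec(S/IS) -> Spec(R/I) is surjective;
(3) S is flat over R and S ⊗_R M is nonzero for every nonzero R-module M killed by I; (4) S is flat
over R and S ⊗_R M is nonzero for every nonzero I-power torsion R-module M. (Faithfulness of base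
change on these subcategories is stated as detection of nonzero objects, which is equivalent for an
exact functor.) -/
theorem result (R S : Type u) [CommRing R] [CommRing S] [Algebra R S] (I : Ideal R) :
    List.TFAE [
      Module.Flat R S ∧ Module.FaithfullyFlat (R ⧸ I) (S ⧸ I.map (algebraMap R S)),
      Module.Flat R S ∧ Function.Surjective (PrimeSpectrum.comap (Ideal.quotientMap (I.map (algebraMap R S)) (algebraMap R S) Ideal.le_comap_map)),
      Module.Flat R S ∧ ∀ (M : Type u) [AddCommGroup M] [Module R M], (∀ (a : R) (m : M), a ∈ I → a • m = 0) →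
        Nontrivial M → Nontrivial (S ⊗[R] M),
      Module.Flat R S ∧ ∀ (M : Type u) [AddCommGroup M] [Module R M], (∀ m : M, ∃ n : ℕ, ∀ a ∈ I ^ n, a • m = 0) →
        Nontrivial M → Nontrivial (S ⊗[R] M)] := by
  tfae_have 1 → 2 := fun ⟨h1, h2⟩ => ⟨h1, Groth.Agent.Lib.FlatTFAE.one_to_two R S I h2⟩
  tfae_have 2 → 3 := fun ⟨h1, h2⟩ => ⟨h1, fun M _ _ hM hnt =>
    haveI := h1; haveI := hnt; Groth.Agent.Lib.FlatTFAE.two_to_three R S I h2 M hM⟩
  tfae_have 3 → 4 := fun ⟨h1, h3⟩ => ⟨h1, fun M _ _ hM hnt =>
    haveI := h1; haveI := hnt; Groth.Agent.Lib.FlatTFAE.three_to_four R S I h3 M hM⟩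
  tfae_have 4 → 1 := fun ⟨h1, h4⟩ => ⟨h1,
    haveI := h1
    Groth.Agent.Lib.FlatTFAE.three_to_one R S I (fun M _ _ hM hnt =>
      h4 M (fun m => ⟨1, fun a ha => hM a m (by rwa [pow_one] at ha)⟩) hnt)⟩
  tfae_finish

end Groth.Agent.S2008
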