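import Groth.Statements.S2009
import Mathlib
import Groth.Agent.Lib.EtGlue6_helper4

set_option autoImplicit false
universe u
open TensorProduct
open EtAlg

namespace Groth.Agent.S2009

/-- Let R -> S be flat with S/IS faithfully flat over R/I. Then the natural map M -> S ⊗_R M is
bijective for every I-power torsion R-module M if and only if R/I -> S/IS is bijective. -/
theorem result (R S : Type u) [CommRing R] [CommRing S] [Algebra R S] (I : Ideal R)
    [Module.Flat R S] [Module.FaithfullyFlat (R ⧸ I) (S ⧸ I.map (algebraMap R S))] :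
    (∀ (M : Type u) [AddCommGroup M] [Module R M], (∀ m : M, ∃ n : ℕ, ∀ a ∈ I ^ n, a • m = 0) →
      Function.Bijective (TensorProduct.mk R S M 1)) ↔
    Function.Bijective (Ideal.quotientMap (I.map (algebraMap R S)) (algebraMap R S) Ideal.le_comap_map) := by
  constructor
  · intro h
    refine Groth.Agent.Lib.EtGlueH4.qbij_of_tors_bij (h (R ⧸ I) (fun m => ⟨1, fun a ha => ?_⟩))
    rw [pow_one] at ha
    obtain ⟨r, rfl⟩ := Ideal.Quotient.mk_surjective m
    rw [Algebra.smul_def, Ideal.Quotient.algebraMap_eq, ← map_mul,
      Ideal.Quotient.eq_zero_iff_mem]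
    exact I.mul_mem_right _ ha
  · intro hq M _ _ hM
    exact Groth.Agent.Lib.EtGlueH4.tors_bijective hq hM

end Groth.Agent.S2009
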