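import Groth.Statements.S2011
import Groth.Agent.Lib.JacSp_helper8

set_option autoImplicit false
universe u
open EtAlg

namespace Groth.Agent.S2011

/-- Let A be a Noetherian ring and I an ideal contained in the Jacobson radical of A (a Zariski pair).
Then for every f in I the localization A_f is a Jacobson ring. -/
theorem result (A : Type u) [CommRing A] [IsNoetherianRing A] (I : Ideal A)
    (hI : I ≤ (⊥ : Ideal A).jacobson) (f : A) (hf : f ∈ I) : IsJacobsonRing (Localization.Away f) := by
  rw [PrimeSpectrum.isJacobsonRing_iff_jacobsonSpace]
  have hJ := Groth.Agent.JacCrit.jacobsonSpace_compl_zeroLocus A (Ideal.span {f})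
    ((Ideal.span_singleton_le_iff_mem _).mpr (hI hf))
  have hemb := PrimeSpectrum.localization_away_isOpenEmbedding (Localization.Away f) f
  have hrange := PrimeSpectrum.localization_away_comap_range (Localization.Away f) f
  have hset : (PrimeSpectrum.zeroLocus ((Ideal.span {f} : Ideal A) : Set A))ᶜ =
      Set.range (PrimeSpectrum.comap (algebraMap A (Localization.Away f))) := by
    rw [hrange, PrimeSpectrum.zeroLocus_span, PrimeSpectrum.basicOpen_eq_zeroLocus_compl]
  rw [hset] at hJ
  exact JacobsonSpace.of_isOpenEmbedding (f := hemb.isEmbedding.toHomeomorph)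
    (hemb.isEmbedding.toHomeomorph).isOpenEmbedding

end Groth.Agent.S2011
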