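import Groth.Statements.S2012
import Mathlib

set_option autoImplicit false
universe u
open EtAlg

namespace Groth.Agent.S2012

/-- Let A be a ring and I an ideal contained in its Jacobson radical. Let B be an A-algebra which is
flat, integral and of finite presentation over A and such that A/I -> B/IB is bijective. Then A -> B
is bijective. -/
theorem result (A B : Type u) [CommRing A] [CommRing B] [Algebra A B]
    (I : Ideal A) (hI : I ≤ (⊥ : Ideal A).jacobson) [Module.Flat A B] [Algebra.IsIntegral A B] [Algebra.FinitePresentation A B]
    (hq : Function.Bijective (Ideal.quotientMap (I.map (algebraMap A B)) (algebraMap A B) Ideal.le_comap_map)) :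
    Function.Bijective (algebraMap A B) := by
  haveI : Module.Finite A B := Algebra.IsIntegral.finite
  haveI : Module.FinitePresentation A B := Module.FinitePresentation.of_finite_of_finitePresentation A B
  haveI : Module.Projective A B := Module.Flat.projective_of_finitePresentation
  -- surjectivity by Nakayama
  have hsurj : Function.Surjective (algebraMap A B) := by
    have h1 : (⊤ : Submodule A B) ≤ LinearMap.range (Algebra.linearMap A B) := by
      apply Submodule.le_of_le_smul_of_le_jacobson_bot Module.Finite.fg_top hI
      intro b _
      obtain ⟨x, hx⟩ := hq.2 (Ideal.Quotient.mk _ b)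
      obtain ⟨a, rfl⟩ := Ideal.Quotient.mk_surjective x
      rw [Ideal.quotientMap_mk, Ideal.Quotient.eq] at hx
      have hb : b = algebraMap A B a - (algebraMap A B a - b) := by ring
      rw [hb]
      apply Submodule.sub_mem
      · exact Submodule.mem_sup_left ⟨a, rfl⟩
      · apply Submodule.mem_sup_right
        rw [Ideal.smul_top_eq_map]
        exact hx
    intro b
    obtain ⟨a, ha⟩ := h1 (Submodule.mem_top (x := b))
    exact ⟨a, ha⟩
  refine ⟨?_, hsurj⟩
  -- a linear section
  obtain ⟨g, hg⟩ := Module.projective_lifting_property (Algebra.linearMap A B) LinearMap.id hsurj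
  have hg1 : algebraMap A B (g 1) = 1 := by
    have := LinearMap.congr_fun hg 1
    simpa using this
  set e : A := g 1 with he
  have hJe : ∀ j : A, algebraMap A B j = 0 → j * e = 0 := by
    intro j hj
    have : g (j • (1 : B)) = j * e := by rw [map_smul, smul_eq_mul]
    rw [← this, Algebra.smul_def, mul_one, hj, map_zero]
  have hu : algebraMap A B (1 - e) = 0 := by rw [map_sub, map_one, hg1, sub_self]
  have hJI : ∀ j : A, algebraMap A B j = 0 → j ∈ I := by
    intro j hj
    have h2 : Ideal.quotientMap (I.map (algebraMap A B)) (algebraMap A B) Ideal.le_comap_map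
        (Ideal.Quotient.mk I j) = 0 := by
      rw [Ideal.quotientMap_mk, hj, map_zero]
    have h3 := hq.1 (h2.trans (map_zero _).symm)
    exact Ideal.Quotient.eq_zero_iff_mem.mp h3
  have hidem : (1 - e) * e = 0 := hJe _ hu
  have hunit : IsUnit e := by
    have h4 := Ideal.mem_jacobson_bot.mp (hI (hJI _ hu)) (-1)
    have h5 : (1 - e) * -1 + 1 = e := by ring
    rwa [h5] at h4
  have hu0 : 1 - e = 0 := by
    rcases hunit.exists_right_inv with ⟨c, hc⟩
    calc 1 - e = (1 - e) * (e * c) := by rw [hc, mul_one]
      _ = ((1 - e) * e) * c := by ring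
      _ = 0 := by rw [hidem, zero_mul]
  rw [injective_iff_map_eq_zero]
  intro j hj
  have := hJe j hj
  have he1 : e = 1 := by rw [← sub_eq_zero, ← neg_eq_zero, neg_sub]; exact hu0
  rwa [he1, mul_one] at this

end Groth.Agent.S2012
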