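import Groth.Statements.S2014
import Mathlib

set_option autoImplicit false
universe u
open EtAlg

namespace Groth.Agent.S2014

/-- Let R be a Noetherian local ring of Krull dimension 1 and x an element of the maximal ideal
contained in no minimal prime of R. Then the number of minimal prime ideals of R is at most the
length of R/xR as an R-module. -/
theorem result (R : Type u) [CommRing R] [IsNoetherianRing R] [IsLocalRing R]
    (hdim : ringKrullDim R = 1) (x : R) (hx : x ∈ IsLocalRing.maximalIdeal R) (hmin : ∀ p ∈ minimalPrimes R, x ∉ p) :
    (Set.ncard (minimalPrimes R) : ℕ∞) ≤ Module.length R (R ⧸ Ideal.span {x}) := by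
  classical
  have key : ∀ s : Finset (Ideal R), (∀ q ∈ s, q ∈ minimalPrimes R) →
      (s.card : ℕ∞) ≤ Order.coheight ((s.inf id) ⊔ Ideal.span {x} : Ideal R) := by
    intro s
    induction s using Finset.induction_on with
    | empty => intro _; simp
    | insert p s hps ih =>
      intro hs
      have hs' : ∀ q ∈ s, q ∈ minimalPrimes R := fun q hq => hs q (Finset.mem_insert_of_mem hq)
      have hpmin : p ∈ minimalPrimes R := hs p (Finset.mem_insert_self p s)
      have hpprime : p.IsPrime := hpmin.1.1
      have ih' := ih hs'
      rw [Finset.inf_insert, Finset.card_insert_of_notMem hps, id]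
      have hle : (p ⊓ s.inf id) ⊔ Ideal.span {x} ≤ (s.inf id) ⊔ Ideal.span {x} :=
        sup_le_sup_right inf_le_right _
      have hne : (p ⊓ s.inf id) ⊔ Ideal.span {x} ≠ (s.inf id) ⊔ Ideal.span {x} := by
        intro heq
        have h1 : s.inf id ≤ (p ⊓ s.inf id) ⊔ Ideal.span {x} • (s.inf id) := by
          intro a ha
          have ha' : a ∈ (p ⊓ s.inf id) ⊔ Ideal.span {x} := by
            rw [heq]
            exact Ideal.mem_sup_left ha
          obtain ⟨b, hb, c, hc, rfl⟩ := Submodule.mem_sup.mp ha'
          obtain ⟨r, rfl⟩ := Ideal.mem_span_singleton'.mp hc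
          refine Submodule.add_mem_sup hb ?_
          have hrx : r * x ∈ s.inf id := by
            have := Ideal.sub_mem _ ha (hb.2)
            simpa using this
          have hr : r ∈ s.inf id := by
            rw [Submodule.mem_finsetInf]
            intro q hq
            have hq' := hs' q hq
            have : r * x ∈ q := (Finset.inf_le hq : s.inf id ≤ id q) hrx
            exact (hq'.1.1.mem_or_mem this).resolve_right (hmin q hq')
          rw [mul_comm]
          exact Submodule.smul_mem_smul (Ideal.mem_span_singleton_self x) hr
        have h2 : s.inf id ≤ p ⊓ s.inf id :=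
          Submodule.le_of_le_smul_of_le_jacobson_bot (IsNoetherian.noetherian _)
            (by
              rw [Ideal.span_singleton_le_iff_mem]
              exact (IsLocalRing.maximalIdeal_le_jacobson ⊥) hx) h1
        have h3 : s.inf id ≤ p := h2.trans inf_le_left
        obtain ⟨q, hq, hqp⟩ := (Ideal.IsPrime.inf_le' hpprime).mp h3
        have hq' := hs' q hq
        have : q = p := le_antisymm hqp (hpmin.2 ⟨hq'.1.1, bot_le⟩ hqp)
        exact hps (this ▸ hq)
      have hlt := lt_of_le_of_ne hle hne
      have := Order.coheight_add_one_le hlt
      push_cast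
      exact (add_le_add_left ih' 1).trans this
  have hfin : (minimalPrimes R).Finite := minimalPrimes.finite_of_isNoetherianRing R
  have h1 := key hfin.toFinset (fun q hq => hfin.mem_toFinset.mp hq)
  rw [← Set.ncard_eq_toFinset_card _ hfin] at h1
  refine h1.trans ?_
  rw [Module.length_quotient]
  exact Order.coheight_anti le_sup_right

end Groth.Agent.S2014
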