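import Groth.Statements.S2017
import Mathlib

set_option autoImplicit false
universe u
open EtAlg

namespace Groth.Agent.S2017

/-- Let R be a Noetherian ring, A, B, C R-algebras of finite type, f : A -> B a surjective R-algebra map
and g : C -> B an R-algebra map making B a finite C-module. Then the fibre product A ×_B C (the
equalizer of f ∘ pr₁ and g ∘ pr₂ in A × C) is an R-algebra of finite type. -/
theorem result (R A B C : Type u) [CommRing R] [IsNoetherianRing R] [CommRing A] [CommRing B]
    [CommRing C] [Algebra R A] [Algebra R B] [Algebra R C] [Algebra.FiniteType R A] [Algebra.FiniteType R B]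
    [Algebra.FiniteType R C] (f : A →ₐ[R] B) (hf : Function.Surjective f) (g : C →ₐ[R] B)
    (hg : (g.toRingHom).Finite) :
    Algebra.FiniteType R ↥(AlgHom.equalizer (f.comp (AlgHom.fst R A C)) (g.comp (AlgHom.snd R A C))) := by
  classical
  set D := AlgHom.equalizer (f.comp (AlgHom.fst R A C)) (g.comp (AlgHom.snd R A C)) with hD
  have memD : ∀ (a : A) (c : C), (a, c) ∈ D ↔ f a = g c := by
    intro a c
    rw [hD, AlgHom.mem_equalizer]
    simp
  letI := g.toRingHom.toAlgebra
  have hfin : Module.Finite C B := hg
  obtain ⟨s, hs⟩ := hfin.fg_top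
  have hsmul : ∀ (c : C) (b : B), c • b = g c * b := fun c b => by
    rw [Algebra.smul_def]; rfl
  let lift : B → A := Function.surjInv hf
  have hlift : ∀ b, f (lift b) = b := Function.surjInv_eq hf
  let E : Set (A × C) := insert (1, 1) ((fun b => (lift b, (0 : C))) '' (s : Set B))
  have hEfin : E.Finite := (s.finite_toSet.image _).insert _
  have hone : ((1 : A), (1 : C)) ∈ Submodule.span D E := Submodule.subset_span (Set.mem_insert _ _)
  -- elements of ker f × 0
  have hker : ∀ a : A, f a = 0 → ((a, (0 : C)) : A × C) ∈ Submodule.span D E := by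
    intro a ha
    have hmem : (a, (0 : C)) ∈ D := by rw [memD, ha, map_zero]
    have : ((a, (0 : C)) : A × C) = (⟨(a, 0), hmem⟩ : D) • ((1 : A), (1 : C)) := by
      rw [Subalgebra.smul_def]; simp
    rw [this]
    exact Submodule.smul_mem _ _ hone
  have key : ∀ b : B, ∀ a : A, f a = b → ((a, (0 : C)) : A × C) ∈ Submodule.span D E := by
    intro b
    have hb : b ∈ Submodule.span C (s : Set B) := by rw [hs]; trivial
    induction hb using Submodule.span_induction with
    | mem b hb =>
      intro a ha
      have h1 : ((a, (0 : C)) : A × C) = (lift b, 0) + (a - lift b, 0) := by simp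
      rw [h1]
      refine Submodule.add_mem _ (Submodule.subset_span (Set.mem_insert_of_mem _ ⟨b, hb, rfl⟩)) ?_
      apply hker
      rw [map_sub, ha, hlift, sub_self]
    | zero => exact hker
    | add b1 b2 _ _ h1 h2 =>
      intro a ha
      have h3 : ((a, (0 : C)) : A × C) = (lift b1, 0) + (a - lift b1, 0) := by simp
      rw [h3]
      refine Submodule.add_mem _ (h1 _ (hlift _)) (h2 _ ?_)
      rw [map_sub, ha, hlift, add_sub_cancel_left]
    | smul c b _ h1 =>
      intro a ha
      obtain ⟨a', ha'⟩ := hf (g c)
      have hmem : (a', c) ∈ D := by rw [memD, ha']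
      have h3 : ((a, (0 : C)) : A × C) = (⟨(a', c), hmem⟩ : D) • (lift b, (0 : C)) +
          (a - a' * lift b, 0) := by
        rw [Subalgebra.smul_def]; simp
      rw [h3]
      refine Submodule.add_mem _ (Submodule.smul_mem _ _ (h1 _ (hlift _))) ?_
      apply hker
      rw [map_sub, map_mul, ha, ha', hlift, hsmul, sub_self]
  have hfg : (⊤ : Submodule D (A × C)).FG := by
    rw [Submodule.fg_def]
    refine ⟨E, hEfin, ?_⟩
    rw [eq_top_iff]
    rintro ⟨a, c⟩ -
    obtain ⟨a', ha'⟩ := hf (g c)
    have hmem : (a', c) ∈ D := by rw [memD, ha']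
    have h3 : ((a, c) : A × C) = (⟨(a', c), hmem⟩ : D) • ((1 : A), (1 : C)) + (a - a', 0) := by
      rw [Subalgebra.smul_def]; simp
    rw [h3]
    exact Submodule.add_mem _ (Submodule.smul_mem _ _ hone) (key _ _ rfl)
  have hAC : (⊤ : Subalgebra R (A × C)).FG := (inferInstance : Algebra.FiniteType R (A × C)).out
  exact ⟨fg_of_fg_of_fg R D (A × C) hAC hfg Subtype.val_injective⟩

end Groth.Agent.S2017
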