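import Groth.Statements.S2018
import Mathlib.Algebra.Polynomial.Lifts
import Mathlib.RingTheory.IntegralClosure.IsIntegral.Defs

set_option autoImplicit false
universe u
open EtAlg

namespace Groth.Agent.S2018

/-- Let g : A' -> A be a surjective ring map and f : B -> A an integral ring map. Then the projection
from the fibre product B ×_A A' (the equalizer of f ∘ pr₁ and g ∘ pr₂ in B × A') to A' is integral. -/
theorem result (A A' B : Type u) [CommRing A] [CommRing A'] [CommRing B] (g : A' →+* A)
    (hg : Function.Surjective g) (f : B →+* A) (hf : f.IsIntegral) :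
    ((RingHom.snd B A').comp ((f.comp (RingHom.fst B A')).eqLocus (g.comp (RingHom.snd B A'))).subtype).IsIntegral := by
  classical
  obtain ⟨E, hE⟩ : ∃ E : Subring (B × A'),
      E = (f.comp (RingHom.fst B A')).eqLocus (g.comp (RingHom.snd B A')) := ⟨_, rfl⟩
  rw [← hE]
  have hmem : ∀ x : B × A', x ∈ E ↔ f x.1 = g x.2 := by
    intro x
    rw [hE]
    exact Iff.rfl
  obtain ⟨π, hπ⟩ : ∃ π : E →+* A', π = (RingHom.snd B A').comp E.subtype := ⟨_, rfl⟩
  rw [← hπ]
  obtain ⟨φ, hφ⟩ : ∃ φ : E →+* B, φ = (RingHom.fst B A').comp E.subtype := ⟨_, rfl⟩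
  have hπa : ∀ e : E, π e = (e : B × A').2 := fun e => by rw [hπ]; rfl
  have hφa : ∀ e : E, φ e = (e : B × A').1 := fun e => by rw [hφ]; rfl
  have hcomm : g.comp π = f.comp φ := by
    ext e
    simp only [RingHom.comp_apply]
    rw [hπa, hφa]
    exact ((hmem _).mp e.2).symm
  have hφsurj : Function.Surjective φ := by
    intro b
    obtain ⟨a', ha'⟩ := hg (f b)
    refine ⟨⟨(b, a'), (hmem _).mpr ha'.symm⟩, ?_⟩
    rw [hφa]
  intro a'
  obtain ⟨p, hp, hpe⟩ := hf (g a')
  obtain ⟨q, hq, -, hqm⟩ := Polynomial.lifts_and_natDegree_eq_and_monic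
    (Polynomial.mem_lifts_of_surjective hφsurj p) hp
  have hgc : g (a' * Polynomial.eval₂ π a' q) = 0 := by
    rw [map_mul, Polynomial.hom_eval₂, hcomm, ← Polynomial.eval₂_map, hq, hpe, mul_zero]
  obtain ⟨ec, hec⟩ : ∃ ec : E, π ec = a' * Polynomial.eval₂ π a' q := by
    refine ⟨⟨(0, a' * Polynomial.eval₂ π a' q), (hmem _).mpr ?_⟩, ?_⟩
    · rw [map_zero]
      exact hgc.symm
    · rw [hπa]
  rcases subsingleton_or_nontrivial E with hE' | hE'
  · refine ⟨1, Polynomial.monic_one, ?_⟩
    have h10 : (1 : A') = 0 := by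
      have h : (1 : E) = 0 := Subsingleton.elim _ _
      have := congrArg π h
      simpa using this
    rw [Polynomial.eval₂_one]
    exact h10
  · refine ⟨Polynomial.X * q - Polynomial.C ec, ?_, ?_⟩
    · have hpos : 0 < (Polynomial.X * q).degree := by
        apply Polynomial.natDegree_pos_iff_degree_pos.mp
        rw [Polynomial.Monic.natDegree_mul Polynomial.monic_X hqm, Polynomial.natDegree_X]
        omega
      have hdeg : (Polynomial.C ec).degree < (Polynomial.X * q).degree :=
        lt_of_le_of_lt Polynomial.degree_C_le hpos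
      exact Polynomial.Monic.sub_of_left (Polynomial.monic_X.mul hqm) hdeg
    · rw [Polynomial.eval₂_sub, Polynomial.eval₂_mul, Polynomial.eval₂_X, Polynomial.eval₂_C, hec,
        sub_self]

end Groth.Agent.S2018
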