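import Groth.Statements.S2040
import Groth.Agent.Lib.FlatLift_helper3
import Groth.Agent.Lib.FSFiber2_helper3
import Groth.Agent.Lib.FSRegular_helper3
import Groth.Agent.Lib.SmoothRegField_helper3
-- import your own Groth.Agent.* helpers here

set_option autoImplicit false
universe u
open CAlg
set_option maxSynthPendingDepth 3

namespace Groth.Agent.S2040

/-- For a complete Noetherian local ring `A` with residue field `k`, and a complete Noetherian local
`k`-algebra `B` which is formally smooth over `k` for the adic topology of its maximal ideal, there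
is a Noetherian complete local ring `C` with a local homomorphism `A → C`, formally smooth for the
adic topology of the maximal ideal of `C`, whose special fibre `C ⊗ k` is isomorphic to `B` over
`k`. -/
theorem result {A B : Type u} [CommRing A] [IsLocalRing A]
    [IsNoetherianRing A] [IsAdicComplete (IsLocalRing.maximalIdeal A) A] [CommRing B] [IsLocalRing B]
    [IsNoetherianRing B] [IsAdicComplete (IsLocalRing.maximalIdeal B) B]
    [Algebra (IsLocalRing.maximalIdeal A).ResidueField B]
    (hB : CAlgX.IsAdicFormallySmooth (IsLocalRing.maximalIdeal A).ResidueField B (IsLocalRing.maximalIdeal B)) :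
    ∃ (C : Type u) (_ : CommRing C) (_ : IsLocalRing C) (_ : Algebra A C),
      IsNoetherianRing C ∧ IsAdicComplete (IsLocalRing.maximalIdeal C) C ∧ IsLocalHom (algebraMap A C) ∧
        CAlgX.IsAdicFormallySmooth A C (IsLocalRing.maximalIdeal C) ∧
        Nonempty ((IsLocalRing.maximalIdeal A).Fiber C ≃ₐ[(IsLocalRing.maximalIdeal A).ResidueField] B) := by
  classical
  haveI : IsRegularLocalRing B :=
    Groth.Agent.Lib.SmoothRegFieldH3.regular_of_adic_field
      (k := (IsLocalRing.maximalIdeal A).ResidueField) hB
  let θ : A →+* B := (algebraMap (IsLocalRing.maximalIdeal A).ResidueField B).comp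
    (algebraMap A (IsLocalRing.maximalIdeal A).ResidueField)
  have hθ : ∀ z ∈ IsLocalRing.maximalIdeal A, θ z = 0 := fun z hz => by
    show algebraMap (IsLocalRing.maximalIdeal A).ResidueField B
      (algebraMap A (IsLocalRing.maximalIdeal A).ResidueField z) = 0
    rw [(Ideal.algebraMap_residueField_eq_zero).2 hz, map_zero]
  obtain ⟨C, _, _, hCn, algAC, hACloc, hcomp, hflat, Φ₀, hΦsurj, hΦalg, hΦker⟩ :=
    Groth.Agent.Lib.FlatLiftH3.exists_flat_lift θ hθ
  haveI := hCn
  haveI := hACloc
  haveI := hflat
  letI algAB : Algebra A B := θ.toAlgebra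
  haveI : IsScalarTower A (IsLocalRing.maximalIdeal A).ResidueField B :=
    IsScalarTower.of_algebraMap_eq (fun _ => rfl)
  let Φ₀A : C →ₐ[A] B := { Φ₀ with commutes' := fun a => hΦalg a }
  have hfib : Nonempty (TensorProduct A (IsLocalRing.maximalIdeal A).ResidueField C
      ≃ₐ[(IsLocalRing.maximalIdeal A).ResidueField] B) :=
    Groth.Agent.Lib.FlatLiftH3.fiber_equiv
      (Ideal.algebraMap_residueField_surjective (IsLocalRing.maximalIdeal A)) Φ₀A hΦsurj (by
        show RingHom.ker Φ₀ = _
        rw [hΦker, Ideal.ker_algebraMap_residueField])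
  obtain ⟨e⟩ := hfib
  refine ⟨C, inferInstance, inferInstance, algAC, hCn, hcomp, hACloc, ?_, ⟨e⟩⟩
  haveI : IsLocalRing ((IsLocalRing.maximalIdeal A).Fiber C) :=
    Groth.Agent.Lib.FSFiberH3.fiber_isLocalRing
  have hF : CAlgX.IsAdicFormallySmooth (IsLocalRing.maximalIdeal A).ResidueField
      ((IsLocalRing.maximalIdeal A).Fiber C)
      (IsLocalRing.maximalIdeal ((IsLocalRing.maximalIdeal A).Fiber C)) :=
    Groth.Agent.Lib.FSRegularH3.isAdicFormallySmooth_of_algEquiv e hB
  have hlk := Groth.Agent.Lib.FSFiberH3.liftKilled_of_fiber (A := A) (B := C) hF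
  have hle : (IsLocalRing.maximalIdeal A).map (algebraMap A C) ≤ IsLocalRing.maximalIdeal C :=
    ((IsLocalRing.local_hom_TFAE (algebraMap A C)).out 0 2).1 hACloc
  exact Groth.Agent.Lib.FSFiberH3.adic_of_flat_of_liftKilled hlk hle

end Groth.Agent.S2040
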