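import Groth.Statements.S2052
import Groth.Agent.Lib.Unibranch3_helper3
-- import your own Groth.Agent.* helpers here

set_option autoImplicit false
universe u
open CAlg
set_option maxSynthPendingDepth 3

namespace Groth.Agent.S2052

/-- A local ring `A` is unibranch (its reduction is a domain with local integral closure) if and only if
the henselization of `A` has a unique minimal prime ideal. -/
theorem result {A Ah : Type u} [CommRing A] [IsLocalRing A]
    [CommRing Ah] [IsLocalRing Ah] [Algebra A Ah] [IsLocalHom (algebraMap A Ah)]
    [Hensel.IsHenselization A Ah] :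
    CAlg2.IsUnibranch A ↔ CAlgX.HasUniqueMinimalPrime Ah := by
  have hie := Groth.Agent.Lib.UnibranchH3.isIndEtale_of_isHenselization A Ah
  rw [Groth.Agent.Lib.UnibranchH3.isUnibranch_iff_isDomain_quotient A Ah,
    Ideal.Quotient.isDomain_iff_prime,
    Groth.Agent.Lib.IndEtaleH3.nilradical_map_of_isIndEtale hie]
  unfold CAlgX.HasUniqueMinimalPrime
  constructor
  · intro hp
    refine ⟨nilradical Ah, ⟨⟨hp, bot_le⟩, fun q hq _ => nilradical_le_prime (H := hq.1) q⟩, ?_⟩
    intro p hpmin
    haveI := hpmin.1.1
    exact le_antisymm (hpmin.2 ⟨hp, bot_le⟩ (nilradical_le_prime p)) (nilradical_le_prime p)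
  · rintro ⟨p, hp, huniq⟩
    have h1 : nilradical Ah = p := by
      have h2 : nilradical Ah = sInf (minimalPrimes Ah) := by
        unfold minimalPrimes
        rw [Ideal.sInf_minimalPrimes]
        rfl
      rw [h2]
      have h3 : minimalPrimes Ah = {p} := by
        ext q
        constructor
        · intro hq
          exact huniq q hq
        · intro hq
          rw [Set.mem_singleton_iff.mp hq]
          exact hp
      rw [h3, sInf_singleton]
    rw [h1]
    exact hp.1.1

end Groth.Agent.S2052
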