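import Groth.Statements.S2053
import Groth.Agent.Lib.FlatPS3_helper3
-- import your own Groth.Agent.* helpers here

set_option autoImplicit false
universe u
open CAlg
set_option maxSynthPendingDepth 3

namespace Groth.Agent.S2053

/-- Consider a local homomorphism `A → B` between complete Noetherian local rings. Then there are power
series rings `R`, `S` in finitely many variables over coefficient rings which are both fields (when
the residue characteristic of `A` is zero) or both Cohen rings (when it is positive), surjections `R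
→ A`, `S → B` and a ring map `R → S` making the square commute, such that `R → S` is flat and `S/𝔪_R
S` is a regular ring. (The published statement also arranges that a regular system of parameters
maps into one; that is not asserted here.) -/
theorem result {A B : Type u} [CommRing A] [CommRing B]
    [IsLocalRing A] [IsLocalRing B] [IsNoetherianRing A] [IsNoetherianRing B]
    [IsAdicComplete (IsLocalRing.maximalIdeal A) A] [IsAdicComplete (IsLocalRing.maximalIdeal B) B]
    [Algebra A B] [IsLocalHom (algebraMap A B)] :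
    ∃ (Λ Λ' : Type u) (_ : CommRing Λ) (_ : CommRing Λ') (_ : IsLocalRing Λ) (n m : ℕ)
      (ρ : MvPowerSeries (Fin n) Λ →+* A) (σ : MvPowerSeries (Fin m) Λ' →+* B)
      (τ : MvPowerSeries (Fin n) Λ →+* MvPowerSeries (Fin m) Λ'),
      ((CharZero (IsLocalRing.ResidueField A) ∧ IsField Λ ∧ IsField Λ') ∨
        (¬ CharZero (IsLocalRing.ResidueField A) ∧ CAlg.IsCohenRing Λ ∧ CAlg.IsCohenRing Λ')) ∧
        Function.Surjective ρ ∧ Function.Surjective σ ∧ σ.comp τ = (algebraMap A B).comp ρ ∧
        τ.Flat ∧ IsRegularRing (MvPowerSeries (Fin m) Λ' ⧸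
          (IsLocalRing.maximalIdeal (MvPowerSeries (Fin n) Λ)).map τ) := by
  classical
  obtain ⟨Λ, _, _, vΛ, hΛ, hvΛsurj, hvΛloc⟩ := Groth.Agent.Lib.FSFlatH3.exists_cohen_to A
  obtain ⟨hΛdom, hΛpid, hΛnoeth, hΛcomp, hΛchar0⟩ := Groth.Agent.Lib.FSFlatH3.cohenEGA_facts hΛ
  haveI := hΛcomp
  haveI : IsLocalHom vΛ :=
    ((IsLocalRing.local_hom_TFAE vΛ).out 0 3).2 (fun a ha => hvΛloc a ha)
  obtain ⟨n, x, hx⟩ := Submodule.fg_iff_exists_fin_generating_family.1
    (IsNoetherian.noetherian (IsLocalRing.maximalIdeal A))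
  obtain ⟨m, b, hb⟩ := Submodule.fg_iff_exists_fin_generating_family.1
    (IsNoetherian.noetherian (IsLocalRing.maximalIdeal B))
  have hx' : Ideal.span (Set.range x) = IsLocalRing.maximalIdeal A := hx
  have hb' : Ideal.span (Set.range b) = IsLocalRing.maximalIdeal B := hb
  have hxm : ∀ i, x i ∈ IsLocalRing.maximalIdeal A := fun i => by
    rw [← hx']
    exact Ideal.subset_span ⟨i, rfl⟩
  have hbm : ∀ j, b j ∈ IsLocalRing.maximalIdeal B := fun j => by
    rw [← hb']
    exact Ideal.subset_span ⟨j, rfl⟩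
  letI algΛA : Algebra Λ A := vΛ.toAlgebra
  obtain ⟨ρa, hρa⟩ := Groth.Agent.Lib.RegPSH3.exists_algHom_X (Λ := Λ) (R := A) n x hxm
  have hρsurj : Function.Surjective ρa := by
    refine Groth.Agent.Lib.RegPSH3.surjective_of_span_eq n ρa ?_ hvΛsurj hvΛloc
    have h1 : (fun i => ρa (MvPowerSeries.X i)) = x := funext hρa
    rw [h1]
    exact hx'
  let ψ : Λ →+* B := (algebraMap A B).comp vΛ
  haveI : IsLocalHom ψ := ⟨fun c hc => by
    have h1 : IsUnit (vΛ c) := isUnit_of_map_unit (algebraMap A B) _ hc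
    exact isUnit_of_map_unit vΛ c h1⟩
  let y : Fin n → B := fun i => algebraMap A B (x i)
  have hy : ∀ i, y i ∈ IsLocalRing.maximalIdeal B := fun i => by
    have h1 : IsLocalRing.maximalIdeal A ≤ (IsLocalRing.maximalIdeal B).comap (algebraMap A B) :=
      ((IsLocalRing.local_hom_TFAE (algebraMap A B)).out 0 3).1 ‹IsLocalHom (algebraMap A B)›
    exact h1 (hxm i)
  have hspan : Ideal.span (Set.range y ∪ Set.range b) = IsLocalRing.maximalIdeal B := by
    apply le_antisymm
    · rw [Ideal.span_le]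
      rintro _ (⟨i, rfl⟩ | ⟨j, rfl⟩)
      · exact hy i
      · exact hbm j
    · rw [← hb']
      exact Ideal.span_mono Set.subset_union_right
  obtain ⟨Q, _, _, hQ, σ, τ, hσsurj, hσy, hσt, hτX, hστ, hflat, hτloc, hreg, hdim⟩ :=
    Groth.Agent.Lib.FlatPSH3.exists_flat_package hΛ ψ n m y b hy hspan
  refine ⟨Λ, Q, inferInstance, inferInstance, inferInstance, n, n + m, ρa.toRingHom, σ, τ, ?_,
    hρsurj, hσsurj, ?_, hflat, ?_⟩
  · haveI : IsLocalHom σ := IsLocalHom.of_surjective σ hσsurj
    let vQ : Q →+* B := σ.comp MvPowerSeries.C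
    haveI : IsLocalHom vQ := ⟨fun a ha => by
      have h1 : IsUnit (MvPowerSeries.C a : MvPowerSeries (Fin (n + m)) Q) :=
        isUnit_of_map_unit σ _ ha
      rw [MvPowerSeries.isUnit_iff_constantCoeff, MvPowerSeries.constantCoeff_C] at h1
      exact h1⟩
    have hAB : CharZero (IsLocalRing.ResidueField A) ↔ CharZero (IsLocalRing.ResidueField B) :=
      ⟨fun h => charZero_of_injective_ringHom
          (IsLocalRing.ResidueField.map (algebraMap A B)).injective,
        fun h => RingHom.charZero (IsLocalRing.ResidueField.map (algebraMap A B))⟩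
    rcases Groth.Agent.Lib.FlatPSH3.cohen_cases hΛ vΛ with ⟨h0, hf⟩ | ⟨h0, hc⟩
    · left
      rcases Groth.Agent.Lib.FlatPSH3.cohen_cases hQ vQ with ⟨h0', hf'⟩ | ⟨h0', hc'⟩
      · exact ⟨h0, hf, hf'⟩
      · exact absurd (hAB.1 h0) h0'
    · right
      rcases Groth.Agent.Lib.FlatPSH3.cohen_cases hQ vQ with ⟨h0', hf'⟩ | ⟨h0', hc'⟩
      · exact absurd (hAB.2 h0') h0
      · exact ⟨h0, hc, hc'⟩
  · apply Groth.Agent.Lib.FlatPSH3.ringHom_ext_of_X n
    · intro c
      show σ (τ (MvPowerSeries.C c)) = algebraMap A B (ρa (MvPowerSeries.C c))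
      rw [hστ, MvPowerSeries.c_eq_algebraMap, AlgHom.commutes]
      rfl
    · intro i
      show σ (τ (MvPowerSeries.X i)) = algebraMap A B (ρa (MvPowerSeries.X i))
      rw [hτX, hσy, hρa]
    · intro i
      show algebraMap A B (ρa (MvPowerSeries.X i)) ∈ _
      rw [hρa]
      exact hy i
  · haveI := hreg
    exact Groth.Agent.Lib.FlatPSH3.isRegularRing_of_isRegularLocalRing _

end Groth.Agent.S2053
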