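import Groth.Statements.S2054
import Mathlib
import Groth.Agent.Lib.ReflS2_helper6
-- import your own Groth.Agent.* helpers here

set_option autoImplicit false
universe u
open CAlg

namespace Groth.Agent.S2054

/-- Let `R` be a Noetherian normal domain and `M` a finite `R`-module. Then `M` is reflexive (the map to
its double dual is bijective) if and only if `M` is torsion free and satisfies Serre's condition
`(S_2)`. -/
theorem result {R M : Type u} [CommRing R] [IsDomain R] [IsNoetherianRing R]
    [IsIntegrallyClosed R] [AddCommGroup M] [Module R M] [Module.Finite R M] :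
    Module.IsReflexive R M ↔ NoZeroSMulDivisors R M ∧ LocCoh.HasSk 2 R M := by

  constructor
  · intro h
    exact Groth.Agent.Lib.ReflS2_helper6.torsionFree_hasSk_of_isReflexive M
  · rintro ⟨h1, h2⟩
    haveI := h1
    exact Groth.Agent.Lib.ReflS2_helper6.isReflexive_of_torsionFree_of_hasSk M h2

end Groth.Agent.S2054
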