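import Groth.Statements.S2057
import Groth.Agent.Lib.MLDom_lead

set_option autoImplicit false
universe u
open CAlg

namespace Groth.Agent.S2057

/-- An injective linear map `f : M₁ → M₂` is universally injective if and only if: whenever elements
`x_i` of `M₁` satisfy `f(x_i) = Σ_j a_{ij} y_j` for some `y_j ∈ M₂` and scalars `a_{ij}`, there are
`z_j ∈ M₁` with `x_i = Σ_j a_{ij} z_j`. -/
theorem result {R M₁ M₂ : Type u} [CommRing R] [AddCommGroup M₁]
    [Module R M₁] [AddCommGroup M₂] [Module R M₂] (f : M₁ →ₗ[R] M₂) (hf : Function.Injective f) :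
    CAlgX.UniversallyInjective R f ↔
      ∀ (n m : ℕ) (x : Fin n → M₁) (y : Fin m → M₂) (a : Fin n → Fin m → R),
        (∀ i, f (x i) = ∑ j, a i j • y j) → ∃ z : Fin m → M₁, ∀ i, x i = ∑ j, a i j • z j := by
  classical
  constructor
  · intro h n m x y a hxy
    have hdom : ∀ (Q : Type u) [AddCommGroup Q] [Module R Q],
        LinearMap.ker (f.rTensor Q) ≤ LinearMap.ker ((LinearMap.id : M₁ →ₗ[R] M₁).rTensor Q) := by
      intro Q _ _ z hz
      rw [LinearMap.mem_ker] at hz ⊢
      have : z = 0 := h Q (by rw [hz, map_zero])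
      rw [this, map_zero]
    exact Groth.Agent.Lib.MLPure_lead.exists_solution_of_dominates f LinearMap.id hdom a x y hxy
  · intro hcrit
    -- it suffices to test on finitely presented modules
    have hfp : ∀ (Q : Type u) [AddCommGroup Q] [Module R Q], Module.FinitePresentation R Q →
        Function.Injective (f.rTensor Q) := by
      intro Q _ _ hQ
      obtain ⟨m, n, π, κ, hπ, hκπ⟩ := Module.FinitePresentation.exists_fin' R Q
      rw [injective_iff_map_eq_zero]
      intro z hz
      obtain ⟨zt, rfl⟩ := LinearMap.lTensor_surjective M₁ hπ z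
      -- zt ∈ M₁ ⊗ R^m
      rw [Groth.Agent.Lib.MLPure_lead.rTensor_lTensor_comm] at hz
      have hex : Function.Exact (κ.lTensor M₂) (π.lTensor M₂) := lTensor_exact M₂ hκπ hπ
      obtain ⟨v, hv⟩ := (hex _).mp hz
      -- coordinates
      let zc : Fin m → M₁ := fun j => TensorProduct.piScalarRight R R M₁ (Fin m) zt j
      let yc : Fin n → M₂ := fun i => TensorProduct.piScalarRight R R M₂ (Fin n) v i
      have hzt : zt = ∑ j, zc j ⊗ₜ[R] (Pi.single j (1 : R) : Fin m → R) :=
        Groth.Agent.Lib.MLPure_lead.eq_sum_tmul_single zt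
      have hvv : v = ∑ i, yc i ⊗ₜ[R] (Pi.single i (1 : R) : Fin n → R) :=
        Groth.Agent.Lib.MLPure_lead.eq_sum_tmul_single v
      have hrel : ∀ j, f (zc j) = ∑ i, κ (Pi.single i 1) j • yc i := by
        intro j
        have h5 := congrArg (fun w => TensorProduct.piScalarRight R R M₂ (Fin m) w j) hv
        have e1 : (κ.lTensor M₂) v = ∑ i, yc i ⊗ₜ[R] κ (Pi.single i 1) := by
          conv_lhs => rw [hvv]
          simp only [map_sum, LinearMap.lTensor_tmul]
        have e2 : (f.rTensor (Fin m → R)) zt =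
            ∑ j', f (zc j') ⊗ₜ[R] (Pi.single j' (1 : R) : Fin m → R) := by
          conv_lhs => rw [hzt]
          simp only [map_sum, LinearMap.rTensor_tmul]
        rw [e1, e2, Groth.Agent.Lib.MLPure_lead.piScalarRight_sum_tmul,
          Groth.Agent.Lib.MLPure_lead.piScalarRight_sum_tmul] at h5
        simp only [Pi.single_apply, ite_smul, one_smul, zero_smul, Finset.sum_ite_eq,
          Finset.mem_univ, if_true] at h5
        exact h5.symm
      obtain ⟨w, hw⟩ := hcrit m n zc yc (fun j i => κ (Pi.single i 1) j) hrel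
      -- zt = (κ.lTensor M₁) (∑ i, w i ⊗ single i 1)
      have hzt' : zt = (κ.lTensor M₁) (∑ i, w i ⊗ₜ[R] (Pi.single i (1 : R) : Fin n → R)) := by
        apply (TensorProduct.piScalarRight R R M₁ (Fin m)).injective
        ext j
        have e3 : (κ.lTensor M₁) (∑ i, w i ⊗ₜ[R] (Pi.single i (1 : R) : Fin n → R)) =
            ∑ i, w i ⊗ₜ[R] κ (Pi.single i 1) := by
          simp only [map_sum, LinearMap.lTensor_tmul]
        rw [e3, Groth.Agent.Lib.MLPure_lead.piScalarRight_sum_tmul]
        exact hw j
      rw [hzt', ← LinearMap.comp_apply, ← LinearMap.lTensor_comp]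
      have h0 : π ∘ₗ κ = 0 := LinearMap.ext fun t => hκπ.apply_apply_eq_zero t
      rw [h0, LinearMap.lTensor_zero, LinearMap.zero_apply]
    intro Q _ _
    have hdom := Groth.Agent.Lib.MLDom_lead.dominates_of_finitePresentation f
      (LinearMap.id : M₁ →ₗ[R] M₁) (fun Q' _ _ hQ' => by
        intro z hz
        rw [LinearMap.mem_ker] at hz ⊢
        have : z = 0 := hfp Q' hQ' (by rw [hz, map_zero])
        rw [this, map_zero]) Q
    rw [injective_iff_map_eq_zero]
    intro z hz
    have := LinearMap.mem_ker.mp (hdom (LinearMap.mem_ker.mpr hz))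
    rwa [LinearMap.rTensor_id, LinearMap.id_apply] at this

end Groth.Agent.S2057
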