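import Groth.Statements.S2065
import Groth.Agent.Lib.BuchsEis2_helper3
import Groth.Agent.S19962
-- import your own Groth.Agent.* helpers here

set_option autoImplicit false
universe u
open CAlg


namespace Groth.Agent.S2065

/-- Let `R` be a Noetherian local ring and `0 → R^{n_e} → … → R^{n_1} → R^{n_0}` a complex of finite
free modules, the map `R^{n_{i+1}} → R^{n_i}` being given by the matrix `A i`. The complex is exact
at `R^{n_e}, …, R^{n_1}` if and only if for each `1 ≤ j ≤ e` the matrix of `R^{n_j} → R^{n_{j-1}}`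
has rank `n_j - n_{j+1} + … ± n_e` and its ideal of minors of that size is the unit ideal or
contains a regular sequence of length `j`. -/
theorem result {R : Type u} [CommRing R] [IsLocalRing R] [IsNoetherianRing R]
    (e : ℕ) (he : 1 ≤ e) (n : ℕ → ℕ) (A : (i : ℕ) → Matrix (Fin (n i)) (Fin (n (i + 1))) R)
    (hA : ∀ i, i + 2 ≤ e → A i * A (i + 1) = 0) :
    (LinearMap.ker (A (e - 1)).mulVecLin = ⊥ ∧
        ∀ i, i + 2 ≤ e → LinearMap.ker (A i).mulVecLin = LinearMap.range (A (i + 1)).mulVecLin) ↔
      ∀ j, 1 ≤ j → j ≤ e →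
        (CAlgX.matrixRank (A (j - 1)) : ℤ) = ∑ t ∈ Finset.Icc j e, (-1 : ℤ) ^ (t - j) * (n t : ℤ) ∧
          (CAlgX.detIdeal (A (j - 1)) = ⊤ ∨
            ∃ rs : List R, rs.length = j ∧ (∀ r ∈ rs, r ∈ CAlgX.detIdeal (A (j - 1))) ∧
              RingTheory.Sequence.IsRegular R rs) := by
  classical
  constructor
  · rintro ⟨hker, hex⟩
    let A' : (i : ℕ) → Matrix (Fin (n i)) (Fin (n (i + 1))) R := fun i => if i < e then A i else 0
    have hA'pos : ∀ i, i < e → A' i = A i := fun i h => if_pos h
    have hA'neg : ∀ i, ¬ i < e → A' i = 0 := fun i h => if_neg h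
    have hA'e : A' e = 0 := hA'neg e (lt_irrefl e)
    have hex' : ∀ i, i < e →
        LinearMap.ker (A' i).mulVecLin = LinearMap.range (A' (i + 1)).mulVecLin := by
      intro i hi
      rw [hA'pos i hi]
      by_cases h : i + 1 < e
      · rw [hA'pos _ h]
        exact hex i (by omega)
      · rw [hA'neg _ h, Matrix.mulVecLin_zero, LinearMap.range_zero]
        have hie : i = e - 1 := by omega
        subst hie
        exact hker
    intro j h1j hje
    have hi : j - 1 < e := by omega
    have hj1 : j - 1 + 1 = j := by omega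
    obtain ⟨ρ, hρ, h0, hann⟩ := Groth.Agent.Lib.BuchsEis2H3.rank_of_exact e n A' hA'e hex'
      (e - (j - 1)) (j - 1) (by omega)
    have hdep := Groth.Agent.Lib.BuchsEis2H3.depth_of_exact e R n A' hA'e hex'
      (e - (j - 1)) (j - 1) (by omega) hi ρ hρ
    rw [hA'pos _ hi] at h0 hann hdep
    have hne : CAlgX.minorIdeal (A (j - 1)) ρ ≠ ⊥ := by
      intro h
      rw [h, Submodule.annihilator_bot] at hann
      exact top_ne_bot hann
    have hrank : CAlgX.matrixRank (A (j - 1)) = ρ :=
      Groth.Agent.Lib.BuchsEis2H3.matrixRank_eq_of _ ρ h0 hne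
    refine ⟨?_, ?_⟩
    · rw [hrank, hρ, Groth.Agent.Lib.BuchsEis2H3.alt_eq_sum n e _ _ (by omega), hj1]
    · have hdet : CAlgX.detIdeal (A (j - 1)) = CAlgX.minorIdeal (A (j - 1)) ρ := by
        unfold CAlgX.detIdeal
        rw [hrank]
      rw [hdet]
      by_cases htop : CAlgX.minorIdeal (A (j - 1)) ρ = ⊤
      · exact Or.inl htop
      · right
        rcases (Groth.Agent.DepthLib.le_idealDepth_iff _ _ _).mp hdep with h3 | ⟨rs, hreg, hmem, hlen⟩
        · rw [Ideal.smul_eq_mul, Ideal.mul_top] at h3
          exact absurd h3 htop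
        · refine ⟨rs, by omega, hmem, ?_⟩
          refine (IsLocalRing.isRegular_iff_isWeaklyRegular_of_subset_maximalIdeal
            (fun r hr => ?_)).mpr hreg
          exact IsLocalRing.le_maximalIdeal htop (hmem r hr)
  · intro H
    exact Groth.Agent.S19962.result e he n A hA (fun j h1 h2 => (H j h1 h2).1)
      (fun j h1 h2 => (H j h1 h2).2)

end Groth.Agent.S2065
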