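import Groth.Statements.S2066
import Mathlib
import Groth.Agent.Lib.DMod20_helper6
-- import your own Groth.Agent.* helpers here

set_option autoImplicit false
universe u
open CategoryTheory
attribute [local instance] HasDerivedCategory.standard
open CAlg

namespace Groth.Agent.S2066

/-- An object `K` of `D(A)` is `m`-pseudo-coherent for every integer `m` if and only if some bounded
above complex of finite free modules represents it in `D(A)` ((1) iff (2)), and also if and only if
some bounded above complex of finite projective modules represents it ((2) iff (3)). -/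
theorem result {A : Type u} [CommRing A] (K : Dual.D A) :
    ((∀ m : ℤ, DRing.IsPseudoCoherent A m K) ↔ DRing.IsPseudoCoherent' A K) ∧
      ((∀ m : ℤ, DRing.IsPseudoCoherent A m K) ↔ ∃ (E : DRing.Cx A) (b : ℤ), DRing.VanishesAbove E b ∧
        DRing.TermwiseFiniteProjective E ∧ Nonempty (DRing.toD E ≅ K)) := by

  refine ⟨(Groth.Agent.Lib.DMod_helper6.isPseudoCoherent'_iff_forall K).symm, ?_⟩
  constructor
  · intro h
    obtain ⟨E, b, hva, hff, he⟩ :=
      Groth.Agent.Lib.DMod_helper6.isPseudoCoherent'_of_forall_isPseudoCoherent K h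
    exact ⟨E, b, hva, Groth.Agent.Lib.DMod_helper6.termwiseFiniteProjective_of_free hff, he⟩
  · rintro ⟨E, b, hva, hfp, ⟨e⟩⟩ m
    exact (Groth.Agent.Lib.DMod_helper6.isPseudoCoherent_iff_pcmP m K).2
      ((Groth.Agent.Lib.DMod_helper6.pcmP A m).prop_of_iso e
        (Groth.Agent.Lib.DMod_helper6.pcmP_of_projCls E b hva hfp m))

end Groth.Agent.S2066
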