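import Groth.Statements.S2088
import Groth.Agent.Lib.FlatLocalExt5_helper3
-- import your own Groth.Agent.* helpers here

set_option autoImplicit false
universe u
open CAlg
set_option maxSynthPendingDepth 3

namespace Groth.Agent.S2088

/-- Let `(R, 𝔪, k)` be a local ring and `K/k` a field extension. Then there is a flat local homomorphism
of local rings `R → R'` with `𝔪R' = 𝔪_{R'}` whose residue field is isomorphic to `K` over `k`. -/
theorem result {R K : Type u} [CommRing R] [IsLocalRing R] [Field K]
    [Algebra (IsLocalRing.ResidueField R) K] :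
    ∃ (R' : Type u) (_ : CommRing R') (_ : IsLocalRing R') (_ : Algebra R R') (_ : IsLocalHom (algebraMap R R')),
      Module.Flat R R' ∧ (IsLocalRing.maximalIdeal R).map (algebraMap R R') = IsLocalRing.maximalIdeal R' ∧
      Nonempty (IsLocalRing.ResidueField R' ≃ₐ[IsLocalRing.ResidueField R] K) := by
  classical
  let κ := IsLocalRing.ResidueField R
  let φ : R →+* K := (algebraMap κ K).comp (IsLocalRing.residue R)
  haveI : IsLocalHom φ := by
    constructor
    intro a ha
    by_contra hnu
    have h1 : IsLocalRing.residue R a = 0 := (IsLocalRing.residue_eq_zero_iff a).mpr hnu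
    have h2 : φ a = 0 := by
      show algebraMap κ K (IsLocalRing.residue R a) = 0
      rw [h1, map_zero]
    rw [h2] at ha
    exact not_isUnit_zero ha
  obtain ⟨B, _, _, ψ, hsurj, hgood⟩ := Groth.Agent.Lib.FlatLocalExtH3.exists_good φ
  haveI hloc := hgood.isLocalRing
  haveI hlh := hgood.isLocalHom_algebraMap
  haveI := hgood.isLocalHom
  refine ⟨B, inferInstance, hloc, inferInstance, hlh, hgood.flat, ?_, ?_⟩
  · rw [hgood.map_maximalIdeal]
    exact hgood.ker_eq
  · let f : IsLocalRing.ResidueField B →ₐ[IsLocalRing.ResidueField R] K :=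
      { IsLocalRing.ResidueField.lift ψ with
        commutes' := fun c => by
          obtain ⟨r, rfl⟩ := IsLocalRing.residue_surjective c
          show IsLocalRing.ResidueField.lift ψ
            (algebraMap κ (IsLocalRing.ResidueField B) (IsLocalRing.residue R r)) =
            algebraMap κ K (IsLocalRing.residue R r)
          rw [IsLocalRing.ResidueField.algebraMap_residue]
          exact hgood.comp_apply r }
    refine ⟨AlgEquiv.ofBijective f ⟨(IsLocalRing.ResidueField.lift ψ).injective, fun y => ?_⟩⟩
    obtain ⟨b, rfl⟩ := hsurj y
    exact ⟨IsLocalRing.residue B b, rfl⟩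

end Groth.Agent.S2088
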