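import Groth.Statements.S9442
import Groth.Agent.S2453
import Groth.Agent.Lib.SmoothReg_helper3
-- import your own Groth.Agent.* helpers here

set_option autoImplicit false
universe u
open CAlg
set_option maxSynthPendingDepth 3

namespace Groth.Agent.S9442

/-- For a finite type algebra S over a field k and a prime q of S with κ(q) separable over k, S is
smooth over k at q if and only if S_q is a regular local ring. -/
theorem result (k : Type u) [Field k]
    (S : Type u) [CommRing S] [Algebra k S] [Algebra.FiniteType k S] (q : Ideal S) [q.IsPrime]
    [Algebra.IsGeometricallyReduced k q.ResidueField] :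
    Algebra.IsSmoothAt k q ↔ IsRegularLocalRing (Localization.AtPrime q) := by
  classical
  haveI : IsNoetherianRing S := Algebra.FiniteType.isNoetherianRing k S
  haveI : IsNoetherianRing (Localization.AtPrime q) :=
    IsLocalization.isNoetherianRing q.primeCompl _ inferInstance
  have hTFAE := Groth.Agent.S2453.result (k := k) (A := Localization.AtPrime q)
  constructor
  · intro h
    haveI : Algebra.FormallySmooth k (Localization.AtPrime q) := h
    exact (hTFAE.out 0 3).1
      (Groth.Agent.Lib.SmoothRegH3.adic_of_formallySmooth (IsLocalRing.maximalIdeal _))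
  · intro h
    have hadic := (hTFAE.out 0 3).2 h
    obtain ⟨n, f, hf⟩ := Algebra.FiniteType.iff_quotient_mvPolynomial''.1
      (inferInstance : Algebra.FiniteType k S)
    refine Groth.Agent.Lib.SmoothRegH3.formallySmooth_of_adic_of_poly n
      ((IsScalarTower.toAlgHom k S (Localization.AtPrime q)).comp f) ?_ hadic
    intro s
    obtain ⟨a, t, rfl⟩ := IsLocalization.exists_mk'_eq q.primeCompl s
    obtain ⟨F, rfl⟩ := hf a
    obtain ⟨G, hG⟩ := hf t.1
    refine ⟨F, G, ?_, ?_⟩
    · show IsUnit (algebraMap S (Localization.AtPrime q) (f G))
      rw [hG]
      exact IsLocalization.map_units _ t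
    · show _ * algebraMap S (Localization.AtPrime q) (f G) =
        algebraMap S (Localization.AtPrime q) (f F)
      rw [hG]
      exact IsLocalization.mk'_spec _ _ _

end Groth.Agent.S9442
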