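import Groth.Statements.S2095
import Mathlib
-- import your own Groth.Agent.* helpers here

set_option autoImplicit false
universe u
open CAlg
set_option maxSynthPendingDepth 3

namespace Groth.Agent.S2095

open TensorProduct in
/-- Let `R → S` be a ring map, `𝔫 ⊆ S` an ideal and `R → R'` a ring map admitting an `R`-linear
retraction. If `R' → R' ⊗ S` is formally smooth for the adic topology of the extension of `𝔫`, then
`R → S` is formally smooth for the `𝔫`-adic topology. -/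
theorem result {R S R' : Type u} [CommRing R] [CommRing S] [Algebra R S]
    (𝔫 : Ideal S) [CommRing R'] [Algebra R R'] (ρ : R' →ₗ[R] R) (hρ : ∀ r : R, ρ (algebraMap R R' r) = r)
    (h : CAlgX.IsAdicFormallySmooth R' (R' ⊗[R] S)
      (𝔫.map (Algebra.TensorProduct.includeRight : S →ₐ[R] R' ⊗[R] S))) :
    CAlgX.IsAdicFormallySmooth R S 𝔫 := by
  intro C _ _ J hJ ψ hψ
  obtain ⟨n, hn⟩ := hψ
  let ιC : C →ₐ[R] R' ⊗[R] C := Algebra.TensorProduct.includeRight
  have hιC : ∀ c, ιC c = (1 : R') ⊗ₜ[R] c := fun c => rfl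
  let J' : Ideal (R' ⊗[R] C) := J.map ιC
  have hJ' : J' ^ 2 = ⊥ := by
    show (J.map ιC) ^ 2 = ⊥
    rw [← Ideal.map_pow, hJ, Ideal.map_bot]
  have hle : J ≤ J'.comap ιC := Ideal.le_comap_map
  let qC : C ⧸ J →ₐ[R] (R' ⊗[R] C) ⧸ J' := Ideal.quotientMapₐ J' ιC hle
  have hqC : ∀ c, qC (Ideal.Quotient.mk J c) = Ideal.Quotient.mk J' ((1 : R') ⊗ₜ[R] c) :=
    fun c => rfl
  let ψ' : R' ⊗[R] S →ₐ[R'] (R' ⊗[R] C) ⧸ J' :=
    Algebra.TensorProduct.lift (Algebra.ofId R' _) (qC.comp ψ) (fun _ _ => Commute.all _ _)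
  have hψ'1 : ∀ s, ψ' ((1 : R') ⊗ₜ[R] s) = qC (ψ s) := by
    intro s
    show Algebra.TensorProduct.lift (Algebra.ofId R' _) (qC.comp ψ) _ ((1 : R') ⊗ₜ[R] s) = _
    rw [Algebra.TensorProduct.lift_tmul, map_one, one_mul]
    rfl
  have hψ' : ∃ k : ℕ, ∀ x ∈ (𝔫.map (Algebra.TensorProduct.includeRight : S →ₐ[R] R' ⊗[R] S)) ^ k,
      ψ' x = 0 := by
    refine ⟨n, ?_⟩
    rw [← Ideal.map_pow]
    have hker : (𝔫 ^ n).map (Algebra.TensorProduct.includeRight : S →ₐ[R] R' ⊗[R] S) ≤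
        RingHom.ker ψ'.toRingHom := by
      rw [Ideal.map_le_iff_le_comap]
      intro s hs
      show ψ' ((1 : R') ⊗ₜ[R] s) = 0
      rw [hψ'1, hn s hs, map_zero]
    intro x hx
    exact hker hx
  obtain ⟨χ', hχ'⟩ := h (R' ⊗[R] C) J' hJ' ψ' hψ'
  have hχ'1 : ∀ z, Ideal.Quotient.mk J' (χ' z) = ψ' z := fun z => AlgHom.congr_fun hχ' z
  have hρ1 : ρ 1 = 1 := by
    have := hρ 1
    rwa [map_one] at this
  let P : R' ⊗[R] C →ₗ[R] C := (TensorProduct.lid R C).toLinearMap ∘ₗ (ρ.rTensor C)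
  have hP : ∀ (r' : R') (c : C), P (r' ⊗ₜ[R] c) = ρ r' • c := by
    intro r' c
    show (TensorProduct.lid R C) ((ρ.rTensor C) (r' ⊗ₜ[R] c)) = _
    rw [LinearMap.rTensor_tmul, TensorProduct.lid_tmul]
  have hP1 : ∀ c : C, P ((1 : R') ⊗ₜ[R] c) = c := by
    intro c
    rw [hP, hρ1, one_smul]
  have hPmul : ∀ (c : C) (z : R' ⊗[R] C), P (((1 : R') ⊗ₜ[R] c) * z) = c * P z := by
    intro c z
    induction z using TensorProduct.induction_on with
    | zero => simp
    | tmul r' c' =>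
      rw [Algebra.TensorProduct.tmul_mul_tmul, one_mul, hP, hP, mul_smul_comm]
    | add x y hx hy => rw [mul_add, map_add, hx, hy, map_add, mul_add]
  have hPJ : ∀ z ∈ J', P z ∈ J := by
    intro z hz
    have key : ∀ a : R' ⊗[R] C, P (a * z) ∈ J := by
      refine Submodule.span_induction (p := fun z _ => ∀ a : R' ⊗[R] C, P (a * z) ∈ J)
        ?_ ?_ ?_ ?_ hz
      · rintro _ ⟨j, hj, rfl⟩ a
        rw [mul_comm, hιC, hPmul]
        exact Ideal.mul_mem_right _ _ hj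
      · intro a
        rw [mul_zero, map_zero]
        exact Ideal.zero_mem _
      · intro x y _ _ hx hy a
        rw [mul_add, map_add]
        exact Ideal.add_mem _ (hx a) (hy a)
      · intro b x _ hx a
        rw [smul_eq_mul, ← mul_assoc]
        exact hx (a * b)
    have := key 1
    rwa [one_mul] at this
  have hdec : ∀ s : S, ∃ (cs : C) (ja : R' ⊗[R] C), Ideal.Quotient.mk J cs = ψ s ∧ ja ∈ J' ∧
      χ' ((1 : R') ⊗ₜ[R] s) = (1 : R') ⊗ₜ[R] cs + ja := by
    intro s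
    obtain ⟨cs, hcs⟩ := Ideal.Quotient.mk_surjective (ψ s)
    refine ⟨cs, χ' ((1 : R') ⊗ₜ[R] s) - (1 : R') ⊗ₜ[R] cs, hcs, ?_, by ring⟩
    rw [← Ideal.Quotient.eq, hχ'1, hψ'1, ← hcs, hqC]
  have hJ2 : ∀ x ∈ J, ∀ y ∈ J, x * y = 0 := by
    intro x hx y hy
    have : x * y ∈ J ^ 2 := by rw [pow_two]; exact Ideal.mul_mem_mul hx hy
    rwa [hJ, Ideal.mem_bot] at this
  have hJ'2 : ∀ x ∈ J', ∀ y ∈ J', x * y = 0 := by
    intro x hx y hy
    have : x * y ∈ J' ^ 2 := by rw [pow_two]; exact Ideal.mul_mem_mul hx hy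
    rwa [hJ', Ideal.mem_bot] at this
  have htmul : ∀ s t : S, ((1 : R') ⊗ₜ[R] (s * t)) = ((1 : R') ⊗ₜ[R] s) * ((1 : R') ⊗ₜ[R] t) := by
    intro s t
    rw [Algebra.TensorProduct.tmul_mul_tmul, one_mul]
  let χ : S →ₐ[R] C :=
    { toFun := fun s => P (χ' ((1 : R') ⊗ₜ[R] s))
      map_one' := by
        show P (χ' ((1 : R') ⊗ₜ[R] (1 : S))) = 1
        rw [← Algebra.TensorProduct.one_def, map_one, Algebra.TensorProduct.one_def, hP1]
      map_mul' := by
        intro s t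
        show P (χ' ((1 : R') ⊗ₜ[R] (s * t))) =
          P (χ' ((1 : R') ⊗ₜ[R] s)) * P (χ' ((1 : R') ⊗ₜ[R] t))
        obtain ⟨cs, ja, -, hja, hs⟩ := hdec s
        obtain ⟨ct, jb, -, hjb, ht⟩ := hdec t
        rw [htmul, map_mul, hs, ht]
        have e1 : ((1 : R') ⊗ₜ[R] cs + ja) * ((1 : R') ⊗ₜ[R] ct + jb) =
            ((1 : R') ⊗ₜ[R] cs) * ((1 : R') ⊗ₜ[R] ct) + ((1 : R') ⊗ₜ[R] cs) * jb +
              ((1 : R') ⊗ₜ[R] ct) * ja + ja * jb := by ring
        rw [e1, hJ'2 ja hja jb hjb, add_zero, map_add, map_add, hPmul, hPmul, hPmul, hP1,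
          map_add, map_add, hP1, hP1]
        have e2 : (cs + P ja) * (ct + P jb) = cs * ct + cs * P jb + ct * P ja + P ja * P jb := by
          ring
        rw [e2, hJ2 _ (hPJ ja hja) _ (hPJ jb hjb), add_zero]
      map_zero' := by
        show P (χ' ((1 : R') ⊗ₜ[R] (0 : S))) = 0
        rw [TensorProduct.tmul_zero, map_zero, map_zero]
      map_add' := by
        intro s t
        show P (χ' ((1 : R') ⊗ₜ[R] (s + t))) = _
        rw [TensorProduct.tmul_add, map_add, map_add]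
      commutes' := by
        intro r
        show P (χ' ((1 : R') ⊗ₜ[R] (algebraMap R S r))) = algebraMap R C r
        have e1 : ((1 : R') ⊗ₜ[R] (algebraMap R S r) : R' ⊗[R] S) =
            algebraMap R' (R' ⊗[R] S) (algebraMap R R' r) := by
          rw [Algebra.TensorProduct.algebraMap_apply, Algebra.algebraMap_self, RingHom.id_apply,
            Algebra.algebraMap_eq_smul_one (R := R) (A := S),
            Algebra.algebraMap_eq_smul_one (R := R) (A := R'), TensorProduct.tmul_smul,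
            TensorProduct.smul_tmul']
        rw [e1, χ'.commutes, Algebra.TensorProduct.algebraMap_apply, hP]
        simp only [Algebra.algebraMap_self, RingHom.id_apply]
        rw [hρ, Algebra.algebraMap_eq_smul_one] }
  refine ⟨χ, ?_⟩
  refine AlgHom.ext fun s => ?_
  show Ideal.Quotient.mk J (P (χ' ((1 : R') ⊗ₜ[R] s))) = ψ s
  obtain ⟨cs, ja, hcs, hja, hs⟩ := hdec s
  rw [hs, map_add, hP1, map_add, ← hcs]
  have : Ideal.Quotient.mk J (P ja) = 0 := Ideal.Quotient.eq_zero_iff_mem.mpr (hPJ ja hja)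
  rw [this, add_zero]

end Groth.Agent.S2095
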