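import Groth.Statements.S2096
import Groth.Agent.Lib.IndEtaleFib_helper3
-- import your own Groth.Agent.* helpers here

set_option autoImplicit false
universe u
open CAlg
set_option maxSynthPendingDepth 3

namespace Groth.Agent.S2096

/-- Let `B` be a Noetherian ind-étale `A`-algebra (a filtered colimit of étale algebras) and `𝔭` a prime
of `A`. Then only finitely many primes of `B` lie over `𝔭`, the fibre ring `B ⊗ κ(𝔭)` is reduced of
dimension zero, and each residue field extension `κ(𝔮)/κ(𝔭)` is separable algebraic. -/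
theorem result {A B : Type u} [CommRing A] [CommRing B] [Algebra A B] (hB : EtPBC.IsIndEtale A B)
    [IsNoetherianRing B] (p : Ideal A) [p.IsPrime] :
    {q : PrimeSpectrum B | q.asIdeal.LiesOver p}.Finite ∧ IsReduced (p.Fiber B) ∧ ringKrullDim (p.Fiber B) ≤ 0 ∧
      ∀ (q : Ideal B) [q.IsPrime] [q.LiesOver p],
        @Algebra.IsSeparable p.ResidueField q.ResidueField _ _
          (Ideal.ResidueField.mapₐ p q (Algebra.ofId A B) (q.over_def p)).toRingHom.toAlgebra := by
  have hF : EtPBC.IsIndEtale p.ResidueField (p.Fiber B) :=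
    Groth.Agent.Lib.IndEtaleH3.isIndEtale_baseChange A B p.ResidueField hB
  refine ⟨Groth.Agent.Lib.IndEtaleH3.finite_liesOver_of_isIndEtale hB p,
    Groth.Agent.Lib.IndEtaleH3.isReduced_of_isIndEtale hF,
    Groth.Agent.Lib.IndEtaleH3.ringKrullDim_le_zero_of_isIndEtale_field hF, ?_⟩
  intro q _ _
  exact Groth.Agent.Lib.IndEtaleH3.isSeparable_residueField_of_isIndEtale hB p q

end Groth.Agent.S2096
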