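import Groth.Statements.S2097
import Mathlib.RingTheory.Smooth.Basic
import Mathlib.RingTheory.Noetherian.Nilpotent
import Mathlib.RingTheory.FinitePresentation

set_option autoImplicit false
universe u
open CAlg

namespace Groth.Agent.S2097

/-- Let `R → S` be smooth, `A` an `R`-algebra and `I ⊆ A` an ideal all of whose elements are nilpotent.
Every `R`-algebra map `S → A/I` lifts to an `R`-algebra map `S → A`. -/
theorem result {R S A : Type u} [CommRing R] [CommRing S] [Algebra R S] [Algebra.Smooth R S]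
    [CommRing A] [Algebra R A] (I : Ideal A) (hI : ∀ x ∈ I, IsNilpotent x) (g : S →ₐ[R] A ⧸ I) :
    ∃ f : S →ₐ[R] A, (Ideal.Quotient.mkₐ R I).comp f = g := by
  classical
  obtain ⟨n, φ, hφ, hker⟩ := (Algebra.Smooth.finitePresentation (R := R) (A := S)).out
  obtain ⟨T, hT⟩ := hker
  -- lifts of the images of the variables
  have hlift : ∀ j : Fin n, ∃ a : A, Ideal.Quotient.mk I a = g (φ (MvPolynomial.X j)) :=
    fun j => Ideal.Quotient.mk_surjective _
  choose a ha using hlift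
  obtain ⟨ψ, hψ⟩ : ∃ ψ : MvPolynomial (Fin n) R →ₐ[R] A, ψ = MvPolynomial.aeval a := ⟨_, rfl⟩
  have hψX : ∀ j, ψ (MvPolynomial.X j) = a j := fun j => by rw [hψ, MvPolynomial.aeval_X]
  have hcomm : (Ideal.Quotient.mkₐ R I).comp ψ = g.comp φ := by
    apply MvPolynomial.algHom_ext
    intro j
    simp only [AlgHom.comp_apply, Ideal.Quotient.mkₐ_eq_mk, hψX, ha]
  have hψT : ∀ t ∈ T, ψ t ∈ I := by
    intro t ht
    have ht' : t ∈ RingHom.ker φ.toRingHom := by
      rw [← hT]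
      exact Ideal.subset_span ht
    have h1 : φ t = 0 := ht'
    have h2 := DFunLike.congr_fun hcomm t
    simp only [AlgHom.comp_apply, Ideal.Quotient.mkₐ_eq_mk, h1, map_zero] at h2
    exact Ideal.Quotient.eq_zero_iff_mem.mp h2
  obtain ⟨I₀, hI₀⟩ : ∃ I₀ : Ideal A, I₀ = Ideal.span (ψ '' (T : Set (MvPolynomial (Fin n) R))) :=
    ⟨_, rfl⟩
  have hI₀I : I₀ ≤ I := by
    rw [hI₀, Ideal.span_le]
    rintro _ ⟨t, ht, rfl⟩
    exact hψT t ht
  have hI₀fg : I₀.FG := by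
    rw [hI₀]
    exact ⟨T.image ψ, by rw [Finset.coe_image]⟩
  have hI₀nil : IsNilpotent I₀ := by
    rw [hI₀fg.isNilpotent_iff_le_nilradical]
    intro x hx
    exact mem_nilradical.mpr (hI x (hI₀I hx))
  -- the map `S → A / I₀`
  have hkerle : RingHom.ker φ.toRingHom ≤ RingHom.ker ((Ideal.Quotient.mkₐ R I₀).comp ψ).toRingHom := by
    rw [← hT, Ideal.span_le]
    intro t ht
    show ((Ideal.Quotient.mkₐ R I₀).comp ψ) t = 0
    rw [AlgHom.comp_apply, Ideal.Quotient.mkₐ_eq_mk, Ideal.Quotient.eq_zero_iff_mem, hI₀]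
    exact Ideal.subset_span ⟨t, ht, rfl⟩
  obtain ⟨g₀, hg₀⟩ : ∃ g₀ : S →ₐ[R] A ⧸ I₀, ∀ P, g₀ (φ P) = Ideal.Quotient.mk I₀ (ψ P) :=
    ⟨AlgHom.liftOfSurjective φ hφ ((Ideal.Quotient.mkₐ R I₀).comp ψ) hkerle, fun P => by
      rw [AlgHom.liftOfSurjective_apply]; rfl⟩
  refine ⟨Algebra.FormallySmooth.lift I₀ hI₀nil g₀, ?_⟩
  have hfl : ∀ s, Ideal.Quotient.mk I₀ (Algebra.FormallySmooth.lift I₀ hI₀nil g₀ s) = g₀ s :=
    Algebra.FormallySmooth.mk_lift I₀ hI₀nil g₀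
  have hcomp : ((Ideal.Quotient.mkₐ R I).comp (Algebra.FormallySmooth.lift I₀ hI₀nil g₀)).comp φ =
      g.comp φ := by
    apply MvPolynomial.algHom_ext
    intro j
    simp only [AlgHom.comp_apply, Ideal.Quotient.mkₐ_eq_mk]
    rw [← ha j]
    have h1 := hfl (φ (MvPolynomial.X j))
    rw [hg₀, hψX, Ideal.Quotient.eq] at h1
    exact Ideal.Quotient.eq.mpr (hI₀I h1)
  apply AlgHom.ext
  intro s
  obtain ⟨P, rfl⟩ := hφ s
  exact DFunLike.congr_fun hcomp P

end Groth.Agent.S2097
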