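import Groth.Statements.S2102
import Mathlib

set_option autoImplicit false
universe u
open CategoryTheory AlgebraicGeometry
open Mor

namespace Groth.Agent.S2102

/-- Ring-level step: if `g : R →+* S` is injective between domains, `S` integrally closed, and
`t = a / b` in `Frac R` is integral over `R`, then `g a = c * g b` for some `c : S`. -/
theorem exists_mul_eq_of_isIntegral {R S : Type u} [CommRing R] [IsDomain R] [CommRing S] [IsDomain S]
    [IsIntegrallyClosed S] (g : R →+* S) (hg : Function.Injective g) (a b : R) (hb : b ≠ 0)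
    (ht : IsIntegral R (algebraMap R (FractionRing R) a / algebraMap R (FractionRing R) b)) :
    ∃ c : S, g a = c * g b := by
  let K := FractionRing R
  let L := FractionRing S
  have hinj : Function.Injective ((algebraMap S L).comp g) :=
    (IsFractionRing.injective S L).comp hg
  let φ : K →+* L := IsFractionRing.lift hinj
  have hφ : ∀ r : R, φ (algebraMap R K r) = algebraMap S L (g r) := fun r =>
    IsFractionRing.lift_algebraMap hinj r
  have hint : IsIntegral S (φ (algebraMap R K a / algebraMap R K b)) :=
    IsIntegral.map_of_comp_eq g φ (by ext r; exact (hφ r).symm) ht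
  obtain ⟨c, hc⟩ := (isIntegrallyClosed_iff L).mp inferInstance hint
  refine ⟨c, ?_⟩
  apply IsFractionRing.injective S L
  have hgb : algebraMap S L (g b) ≠ 0 := by
    intro h0
    exact hb (hg ((IsFractionRing.injective S L) (by simpa using h0) |>.trans (map_zero g).symm))
  rw [map_mul, hc, map_div₀, hφ, hφ, div_mul_cancel₀ _ hgb]

/-- The ring of global sections of an integral normal scheme is an integrally closed domain. -/
theorem result (X : Scheme.{u}) [IsIntegral X] (hX : Pi1.IsNormalScheme X) :
    IsIntegrallyClosed (Γ(X, ⊤) : Type u) := by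
  rw [isIntegrallyClosed_iff (FractionRing Γ(X, ⊤))]
  intro t ht
  obtain ⟨a, b, hb, rfl⟩ := IsFractionRing.div_surjective (A := Γ(X, ⊤)) t
  have hb0 : b ≠ 0 := nonZeroDivisors.ne_zero hb
  -- stalkwise quotient
  have hstalk : ∀ x : X, ∃ c : X.presheaf.stalk x,
      X.presheaf.germ ⊤ x trivial a = c * X.presheaf.germ ⊤ x trivial b := by
    intro x
    haveI := (hX x).1
    haveI := (hX x).2
    exact exists_mul_eq_of_isIntegral (X.presheaf.germ ⊤ x trivial).hom
      (germ_injective_of_isIntegral X (U := ⊤) x trivial) a b hb0 ht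
  -- local sections
  have hloc : ∀ x : X, ∃ (U : X.Opens) (_ : x ∈ U) (s : Γ(X, U)),
      X.presheaf.map (homOfLE le_top).op a = s * X.presheaf.map (homOfLE le_top).op b := by
    intro x
    obtain ⟨c, hc⟩ := hstalk x
    obtain ⟨U, hxU, s, rfl⟩ := X.presheaf.exists_germ_eq c
    have h1 : X.presheaf.germ ⊤ x trivial a =
        X.presheaf.germ U x hxU (s * X.presheaf.map (homOfLE le_top).op b) := by
      rw [map_mul, X.presheaf.germ_res_apply (homOfLE (le_top : U ≤ ⊤)) x hxU b]
      exact hc
    obtain ⟨W, hxW, i₁, i₂, e⟩ := X.presheaf.germ_eq (U := ⊤) x trivial hxU _ _ h1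
    refine ⟨W, hxW, X.presheaf.map i₂.op s, ?_⟩
    have e' : X.presheaf.map i₁.op a = X.presheaf.map i₂.op s *
        X.presheaf.map i₂.op (X.presheaf.map (homOfLE le_top).op b) := by
      rw [← map_mul]; exact e
    rw [← ConcreteCategory.comp_apply, ← X.presheaf.map_comp] at e'
    exact e'
  choose U hxU s hs using hloc
  -- b is nonzero in each stalk
  have hbz : ∀ z : X, X.presheaf.germ ⊤ z trivial b ≠ 0 := fun z h0 =>
    hb0 (germ_injective_of_isIntegral X (U := ⊤) z trivial (h0.trans (map_zero _).symm))
  have hgerm : ∀ (x z : X) (hz : z ∈ U x), X.presheaf.germ ⊤ z trivial a =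
      X.presheaf.germ (U x) z hz (s x) * X.presheaf.germ ⊤ z trivial b := by
    intro x z hz
    have := congrArg (X.presheaf.germ (U x) z hz) (hs x)
    rw [map_mul, X.presheaf.germ_res_apply, X.presheaf.germ_res_apply] at this
    exact this
  have hcompat : TopCat.Presheaf.IsCompatible X.presheaf U s := by
    intro x y
    apply TopCat.Presheaf.section_ext X.sheaf
    intro z hz
    haveI := (hX z).1
    show X.presheaf.germ (U x ⊓ U y) z hz (X.presheaf.map
        (TopologicalSpace.Opens.infLELeft (U x) (U y)).op (s x)) =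
      X.presheaf.germ (U x ⊓ U y) z hz (X.presheaf.map
        (TopologicalSpace.Opens.infLERight (U x) (U y)).op (s y))
    rw [X.presheaf.germ_res_apply (TopologicalSpace.Opens.infLELeft (U x) (U y)) z hz (s x),
      X.presheaf.germ_res_apply (TopologicalSpace.Opens.infLERight (U x) (U y)) z hz (s y)]
    have h1 := hgerm x z hz.1
    have h2 := hgerm y z hz.2
    exact mul_right_cancel₀ (hbz z) (h1.symm.trans h2)
  have hcover : (⊤ : X.Opens) ≤ iSup U := fun x _ => TopologicalSpace.Opens.mem_iSup.mpr ⟨x, hxU x⟩
  obtain ⟨c, hc, -⟩ : ∃! c : Γ(X, ⊤), ∀ x, X.presheaf.map (homOfLE (le_top : U x ≤ ⊤)).op c = s x :=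
    X.sheaf.existsUnique_gluing' U ⊤ (fun x => homOfLE le_top) hcover s hcompat
  refine ⟨c, ?_⟩
  have hac : a = c * b := by
    apply TopCat.Presheaf.section_ext X.sheaf
    intro z _
    show X.presheaf.germ ⊤ z trivial a = X.presheaf.germ ⊤ z trivial (c * b)
    rw [map_mul]
    have h1 := hgerm z z (hxU z)
    have h2 : X.presheaf.germ ⊤ z trivial c = X.presheaf.germ (U z) z (hxU z) (s z) := by
      rw [← hc z, X.presheaf.germ_res_apply]
    rw [h2]; exact h1
  have hbK : algebraMap Γ(X, ⊤) (FractionRing Γ(X, ⊤)) b ≠ 0 := by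
    intro h0
    exact hb0 ((IsFractionRing.injective _ _) (h0.trans (map_zero _).symm))
  rw [hac, map_mul, mul_div_cancel_right₀ _ hbK]

end Groth.Agent.S2102
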