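import Groth.Statements.S2111
import Mathlib
import Groth.Agent.Lib.SerreCore_helper5

set_option autoImplicit false
universe u
open CAlg

namespace Groth.Agent.S2111

/-- Let `R` be a Noetherian normal domain with fraction field `K`. An element of `K` which lies in `R_𝔭`
for every prime `𝔭` of height one lies in `R`. -/
theorem result {R : Type u} [CommRing R] [IsDomain R] [IsNoetherianRing R]
    [IsIntegrallyClosed R] (x : FractionRing R)
    (hx : ∀ (p : Ideal R) [p.IsPrime], p.height = 1 →
      x ∈ Set.range (algebraMap (Localization.AtPrime p) (FractionRing R))) :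
    x ∈ Set.range (algebraMap R (FractionRing R)) := by
  classical
  obtain ⟨a, b, rfl⟩ := IsLocalization.exists_mk'_eq (nonZeroDivisors R) x
  by_contra hcon
  have hb0 : (b : R) ≠ 0 := nonZeroDivisors.ne_zero b.2
  have hab : a ∉ Ideal.span {(b : R)} := by
    intro h
    obtain ⟨c, hc⟩ := Ideal.mem_span_singleton'.mp h
    apply hcon
    refine ⟨c, ?_⟩
    rw [IsLocalization.eq_mk'_iff_mul_eq, ← map_mul, hc]
  have hne : Ideal.Quotient.mk (Ideal.span {(b : R)}) a ≠ 0 := by
    rw [Ne, Ideal.Quotient.eq_zero_iff_mem]
    exact hab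
  obtain ⟨P, hP, hle⟩ := exists_le_isAssociatedPrime_of_isNoetherianRing R
    (Ideal.Quotient.mk (Ideal.span {(b : R)}) a) hne
  haveI : P.IsPrime := hP.isPrime
  have hht := Groth.Agent.SerreLib.height_eq_one_of_mem_associatedPrimes R b hb0 P hP
  have hann : ∀ s : R, s * a ∈ Ideal.span {(b : R)} → s ∈ P := by
    intro s hs
    apply hle
    rw [Submodule.mem_colon_singleton, Submodule.mem_bot]
    show Ideal.Quotient.mk (Ideal.span {(b : R)}) (s * a) = 0
    rw [Ideal.Quotient.eq_zero_iff_mem]
    exact hs
  obtain ⟨y, hy⟩ := hx P hht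
  obtain ⟨c, s, rfl⟩ := IsLocalization.exists_mk'_eq P.primeCompl y
  have hinj : Function.Injective (algebraMap R (FractionRing R)) :=
    IsFractionRing.injective R (FractionRing R)
  have hcs : c * b = a * s := by
    apply hinj
    have h1 : algebraMap (Localization.AtPrime P) (FractionRing R)
        (IsLocalization.mk' (Localization.AtPrime P) c s) * algebraMap R (FractionRing R) s =
        algebraMap R (FractionRing R) c := by
      rw [IsScalarTower.algebraMap_apply R (Localization.AtPrime P) (FractionRing R) s,
        ← map_mul, IsLocalization.mk'_spec, ← IsScalarTower.algebraMap_apply]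
    have h2 : IsLocalization.mk' (FractionRing R) a b * algebraMap R (FractionRing R) b =
        algebraMap R (FractionRing R) a := IsLocalization.mk'_spec _ _ _
    rw [map_mul, map_mul, ← h1, hy, ← h2]
    ring
  exact s.2 (hann s (Ideal.mem_span_singleton'.mpr ⟨c, by rw [hcs, mul_comm]⟩))

end Groth.Agent.S2111
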