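import Groth.Statements.S2113
import Mathlib
import Groth.Agent.Lib.NoethPrimes_helper6
-- import your own Groth.Agent.* helpers here

set_option autoImplicit false
universe u
open CAlg

namespace Groth.Agent.S2113

/-- A Noetherian ring in which each prime is maximal or else lies below infinitely many primes is a
Jacobson ring. -/
theorem result {R : Type u} [CommRing R] [IsNoetherianRing R]
    (h : ∀ (p : Ideal R) [p.IsPrime], p.IsMaximal ∨ {q : PrimeSpectrum R | p ≤ q.asIdeal}.Infinite) :
    IsJacobsonRing R := by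

  rw [isJacobsonRing_iff_prime_eq]
  intro P
  refine IsNoetherian.induction (P := fun I : Submodule R R => Ideal.IsPrime I → Ideal.jacobson I = I) ?_ P
  intro I ih hI
  change Ideal R at I
  haveI : I.IsPrime := hI
  rcases h I with hmax | hinf
  · exact Ideal.jacobson_eq_self_of_isMaximal
  · by_contra hne
    have hlt : I < I.jacobson := lt_of_le_of_ne Ideal.le_jacobson (Ne.symm hne)
    obtain ⟨x, hxJ, hxI⟩ := Set.exists_of_ssubset hlt
    have hxQ : ∀ Q : Ideal R, Q.IsPrime → I < Q → x ∈ Q := by
      intro Q hQ hIQ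
      have h1 := ih Q hIQ hQ
      have h2 : I.jacobson ≤ Q.jacobson := Ideal.jacobson_mono hIQ.le
      rw [h1] at h2
      exact h2 hxJ
    -- pass to the quotient domain
    let mk := Ideal.Quotient.mk I
    have hsurj : Function.Surjective mk := Ideal.Quotient.mk_surjective
    have hx0 : mk x ≠ 0 := fun h0 => hxI (Ideal.Quotient.eq_zero_iff_mem.1 h0)
    have hall : ∀ q : Ideal (R ⧸ I), q.IsPrime → q ≠ ⊥ → mk x ∈ q := by
      intro q hq hq0
      haveI := hq
      have h1 : I ≤ q.comap mk := by
        intro a ha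
        rw [Ideal.mem_comap, Ideal.Quotient.eq_zero_iff_mem.2 ha]
        exact q.zero_mem
      have h2 : I ≠ q.comap mk := by
        intro heq
        apply hq0
        rw [eq_bot_iff]
        intro b hb
        obtain ⟨a, rfl⟩ := hsurj b
        have : a ∈ q.comap mk := hb
        rw [← heq] at this
        rw [Ideal.mem_bot]
        exact Ideal.Quotient.eq_zero_iff_mem.2 this
      exact hxQ (q.comap mk) (Ideal.comap_isPrime mk q) (lt_of_le_of_ne h1 h2)
    have hfin := Groth.Agent.Lib.NoethPrimes.finite_primes_of_forall_mem (mk x) hx0 hall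
    apply hinf
    refine Set.Finite.of_finite_image (f := fun Q : PrimeSpectrum R => Q.asIdeal.map mk) ?_ ?_
    · refine hfin.subset ?_
      rintro _ ⟨Q, hQ, rfl⟩
      exact Ideal.map_isPrime_of_surjective hsurj (by rw [Ideal.mk_ker]; exact hQ)
    · intro Q₁ hQ₁ Q₂ hQ₂ heq
      have hc : ∀ Q : PrimeSpectrum R, I ≤ Q.asIdeal → (Q.asIdeal.map mk).comap mk = Q.asIdeal := by
        intro Q hQ
        rw [Ideal.comap_map_of_surjective mk hsurj, ← RingHom.ker_eq_comap_bot, Ideal.mk_ker]
        exact sup_eq_left.2 hQ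
      apply PrimeSpectrum.ext
      rw [← hc Q₁ hQ₁, ← hc Q₂ hQ₂]
      exact congrArg (Ideal.comap mk) heq

end Groth.Agent.S2113
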