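import Groth.Statements.S2120
import Mathlib
import Groth.Agent.Lib.SepDescent_helper7

set_option autoImplicit false
universe u
open CategoryTheory AlgebraicGeometry
open Mor

namespace Groth.Agent.S2120

/-- Let `f : X → Y` be surjective and universally closed. If `X` is quasi-separated then so is `Y`; if
`X` is separated then so is `Y`. -/
theorem result {X Y : Scheme.{u}} (f : X ⟶ Y) [Surjective f] [UniversallyClosed f] :
    (QuasiSeparatedSpace X → QuasiSeparatedSpace Y) ∧ (X.IsSeparated → Y.IsSeparated) := by
  have hπ : f ≫ Limits.terminal.from Y = Limits.terminal.from X := Limits.terminal.hom_ext _ _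
  constructor
  · intro hX
    haveI : QuasiSeparated (Limits.terminal.from X) :=
      (quasiSeparatedSpace_iff_quasiSeparated X).mp hX
    exact (quasiSeparatedSpace_iff_quasiSeparated Y).mpr
      (Groth.Agent.Lib.SepDescentH7.quasiSeparated_of_surjective_universallyClosed _ _ f hπ)
  · intro hX
    exact ⟨Groth.Agent.Lib.SepDescentH7.isSeparated_of_surjective_universallyClosed _ _ f hπ⟩

end Groth.Agent.S2120
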