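import Groth.Statements.S2123
import Mathlib
import Groth.Agent.Lib.SchIrredComp2_helper7

set_option autoImplicit false
universe u
open CategoryTheory AlgebraicGeometry
open Mor

namespace Groth.Agent.S2123

/-- Let `X` be an integral separated scheme and `x, y` points such that the closure of `x` is not
contained in the closure of `y`. Then, inside the function field of `X`, the local ring at `x` is
not contained in the local ring at `y`. -/
theorem result (X : Scheme.{u}) [IsIntegral X] [X.IsSeparated] (x y : X)
    (h : ¬ closure ({x} : Set X) ⊆ closure {y}) :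
    ¬ Set.range (X.presheaf.stalkSpecializes (genericPoint_specializes x)) ⊆
        Set.range (X.presheaf.stalkSpecializes (genericPoint_specializes y)) := by
  intro hsub
  apply h
  rw [← specializes_iff_closure_subset]
  -- notation
  obtain ⟨ιx, hιx⟩ : ∃ ιx : X.presheaf.stalk x ⟶ X.presheaf.stalk (genericPoint X),
      ιx = X.presheaf.stalkSpecializes (genericPoint_specializes x) := ⟨_, rfl⟩
  obtain ⟨ιy, hιy⟩ : ∃ ιy : X.presheaf.stalk y ⟶ X.presheaf.stalk (genericPoint X),
      ιy = X.presheaf.stalkSpecializes (genericPoint_specializes y) := ⟨_, rfl⟩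
  rw [← hιx, ← hιy] at hsub
  have hinjy : Function.Injective ιy.hom := by
    rw [hιy]
    exact IsFractionRing.injective (X.presheaf.stalk y) X.functionField
  -- the induced homomorphism `O_x → O_y`
  let e : X.presheaf.stalk y ≃+* ιy.hom.range :=
    RingEquiv.ofBijective ιy.hom.rangeRestrict
      ⟨fun a b hab => hinjy (congrArg Subtype.val hab), ιy.hom.rangeRestrict_surjective⟩
  let g : X.presheaf.stalk x →+* X.presheaf.stalk y :=
    e.symm.toRingHom.comp (ιx.hom.codRestrict ιy.hom.range (fun a => hsub ⟨a, rfl⟩))
  have hg : ∀ a, ιy.hom (g a) = ιx.hom a := by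
    intro a
    have h1 : e (g a) = ιx.hom.codRestrict ιy.hom.range (fun a => hsub ⟨a, rfl⟩) a :=
      e.apply_symm_apply _
    exact congrArg Subtype.val h1
  have hgcomp : CommRingCat.ofHom g ≫ ιy = ιx := by
    ext a
    exact hg a
  -- the two morphisms `Spec O_y → X`
  haveI : IsDominant (Spec.map ιy) := by
    refine ⟨?_⟩
    show DenseRange (PrimeSpectrum.comap ιy.hom)
    refine (PrimeSpectrum.denseRange_comap_iff_ker_le_nilRadical ιy.hom).mpr ?_
    rw [(RingHom.injective_iff_ker_eq_bot _).mp hinjy]
    exact bot_le
  have hkey : Spec.map (CommRingCat.ofHom g) ≫ X.fromSpecStalk x = X.fromSpecStalk y := by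
    refine ext_of_isDominant_of_isSeparated (Limits.terminal.from X)
      (Limits.terminal.hom_ext _ _) (Spec.map ιy) ?_
    rw [← Category.assoc, ← Spec.map_comp, hgcomp, hιx, hιy,
      Scheme.SpecMap_stalkSpecializes_fromSpecStalk,
      Scheme.SpecMap_stalkSpecializes_fromSpecStalk]
  have := congr($hkey (IsLocalRing.closedPoint _))
  rw [Scheme.Hom.comp_apply, Scheme.fromSpecStalk_closedPoint] at this
  rw [← this]
  exact Groth.Agent.Lib.SchIrredComp2H7.fromSpecStalk_specializes X x _

end Groth.Agent.S2123
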