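import Groth.Statements.S2131
import Groth.Agent.Lib.SurjLocus2_helper3
import Groth.Agent.Lib.FlatRankLocus_helper3
-- import your own Groth.Agent.* helpers here

set_option autoImplicit false
universe u
open CAlg
set_option maxSynthPendingDepth 3

namespace Groth.Agent.S2131

/-- For an `R`-linear map from a finite module to a finitely presented module, the primes at which its
localization is bijective form an open subset of `Spec R`. -/
theorem result {R M N : Type u} [CommRing R] [AddCommGroup M] [Module R M] [Module.Finite R M]
    [AddCommGroup N] [Module R N] [Module.FinitePresentation R N] (φ : M →ₗ[R] N) :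
    IsOpen {p : PrimeSpectrum R | Function.Bijective (LocalizedModule.map p.asIdeal.primeCompl φ)} := by
  rw [isOpen_iff_forall_mem_open]
  intro p hp
  obtain ⟨r, hr, hbij⟩ := exists_bijective_map_powers p.asIdeal.primeCompl
    (LocalizedModule.mkLinearMap p.asIdeal.primeCompl M)
    (LocalizedModule.mkLinearMap p.asIdeal.primeCompl N) φ hp
  have hb := hbij r dvd_rfl
  refine ⟨PrimeSpectrum.basicOpen r, ?_, (PrimeSpectrum.basicOpen r).2, hr⟩
  intro q hq
  have hsupC : Module.support R (N ⧸ LinearMap.range φ) ⊆ PrimeSpectrum.zeroLocus {r} :=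
    (Groth.Agent.Lib.FlatRankLocus.surj_away_iff φ r).mp hb.2
  have hsubK : Subsingleton (LocalizedModule (Submonoid.powers r) (LinearMap.ker φ)) := by
    have : Subsingleton (LinearMap.ker (LocalizedModule.map (Submonoid.powers r) φ)) := by
      rw [LinearMap.ker_eq_bot.mpr hb.1]
      infer_instance
    exact (Groth.Agent.Lib.SurjLocus.kerLocEquiv (Submonoid.powers r) φ).toEquiv.subsingleton
  have hsupK : Module.support R (LinearMap.ker φ) ⊆ PrimeSpectrum.zeroLocus {r} :=
    LocalizedModule.subsingleton_iff_support_subset.mp hsubK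
  have hqn : q ∉ PrimeSpectrum.zeroLocus {r} := by
    rw [PrimeSpectrum.mem_zeroLocus, Set.singleton_subset_iff]
    exact hq
  constructor
  · have h1 : q ∉ Module.support R (LinearMap.ker φ) := fun h => hqn (hsupK h)
    rw [Module.notMem_support_iff] at h1
    have : Subsingleton (LinearMap.ker (LocalizedModule.map q.asIdeal.primeCompl φ)) :=
      (Groth.Agent.Lib.SurjLocus.kerLocEquiv q.asIdeal.primeCompl φ).symm.toEquiv.subsingleton
    rw [← LinearMap.ker_eq_bot]
    exact Submodule.subsingleton_iff_eq_bot.mp this
  · exact (Groth.Agent.Lib.FlatRankLocus.surj_at_iff φ q).mpr (fun h => hqn (hsupC h))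

end Groth.Agent.S2131
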