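import Groth.Statements.S2132
import Groth.Agent.Lib.HenselFiltered_lead

set_option autoImplicit false
universe u
open CategoryTheory
open CAlg

namespace Groth.Agent.S2132

/-- Let `F : J ⥤ CommRingCat` be a filtered diagram of henselian local rings with local transition maps
and `c` a colimit cocone. Then the colimit is a henselian local ring. -/
theorem result {J : Type u} [SmallCategory J] [IsFiltered J] (F : J ⥤ CommRingCat.{u})
    (hF : ∀ j, HenselianLocalRing (F.obj j)) (hloc : ∀ (i j : J) (a : i ⟶ j), IsLocalHom (F.map a).hom)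
    (c : Limits.Cocone F) (hc : Limits.IsColimit c) : HenselianLocalRing c.pt := by
  have hfilt : Groth.Agent.Lib.HenselFiltered.IsFilt (G := fun j => (F.obj j : Type u))
      (R := (c.pt : Type u)) (fun j => (c.ι.app j).hom) := by
    refine ⟨fun x => ?_, fun i j x y hxy => ?_⟩
    · obtain ⟨j, y, hy⟩ := Limits.Concrete.isColimit_exists_rep F hc x
      exact ⟨j, y, hy⟩
    · obtain ⟨k, f, g, hfg⟩ := Limits.Concrete.isColimit_exists_of_rep_eq F hc x y hxy
      refine ⟨k, (F.map f).hom, (F.map g).hom, hloc i k f, hloc j k g, fun z => ?_, fun z => ?_,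
        hfg⟩
      · exact RingHom.congr_fun (congrArg CommRingCat.Hom.hom (c.w f)) z
      · exact RingHom.congr_fun (congrArg CommRingCat.Hom.hom (c.w g)) z
  exact Groth.Agent.Lib.HenselFiltered.henselianLocalRing hfilt hF

end Groth.Agent.S2132
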