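import Groth.Statements.S2136
import Groth.Agent.Lib.UnramGU2_helper3
-- import your own Groth.Agent.* helpers here

set_option autoImplicit false
universe u
open CAlg


namespace Groth.Agent.S2136

/-- Let `A` be a domain, `A → B` a ring map of finite type, and `𝔮` a prime of `B` lying over `𝔭 ⊆ A`,
with `A_𝔭` geometrically unibranch, `A → B` unramified at `𝔮` and `A_𝔭 → B_𝔮` injective. Then `B_g`
is étale over `A` for some `g ∉ 𝔮`. (`B` is assumed of finite type over `A` throughout; the
published statement needs this only after inverting an element outside `𝔮`.) -/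
theorem result {A B : Type u} [CommRing A] [IsDomain A] [CommRing B]
    [Algebra A B] (q : Ideal B) [q.IsPrime] (p : Ideal A) [p.IsPrime] [q.LiesOver p]
    (hA : CAlg2.IsGeomUnibranch (Localization.AtPrime p)) [Algebra.FiniteType A B] [Algebra.IsUnramifiedAt A q]
    (hinj : Function.Injective (Localization.localRingHom p q (algebraMap A B) (q.over_def p))) :
    ∃ g : B, g ∉ q ∧ Algebra.Etale A (Localization.Away g) := by
  have hpq : q.comap (algebraMap A B) = p := (q.over_def p).symm
  refine Groth.Agent.Lib.UnramGUH3.exists_etale_away A B p q hpq hA ?_ (Or.inl inferInstance)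
  intro a t ht hta
  have h1 : algebraMap B (Localization.AtPrime q) (t * algebraMap A B a) = 0 := by
    rw [hta, map_zero]
  rw [map_mul] at h1
  have hunit : IsUnit (algebraMap B (Localization.AtPrime q) t) :=
    IsLocalization.map_units (Localization.AtPrime q) (⟨t, ht⟩ : q.primeCompl)
  have h2 : algebraMap B (Localization.AtPrime q) (algebraMap A B a) = 0 :=
    (hunit.mul_right_eq_zero).mp h1
  have h3 : Localization.localRingHom p q (algebraMap A B) (q.over_def p)
      (algebraMap A (Localization.AtPrime p) a) = 0 := by
    rw [Localization.localRingHom_to_map]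
    exact h2
  have h4 : algebraMap A (Localization.AtPrime p) a = 0 := hinj (h3.trans (map_zero _).symm)
  rw [IsLocalization.map_eq_zero_iff p.primeCompl] at h4
  obtain ⟨⟨s, hs⟩, hsa⟩ := h4
  exact ⟨s, hs, hsa⟩

end Groth.Agent.S2136
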