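import Groth.Statements.S2141
import Groth.Agent.Lib.LocDim_helper8

set_option autoImplicit false
universe u
open CAlg

namespace Groth.Agent.S2141

/-- Let `S` be of finite type over a field `k` and `𝔭` a prime of `S` whose residue field has
transcendence degree `r` over `k`. Then the local dimension of `Spec S` at `𝔭` equals `dim S_𝔭 + r`. -/
theorem result {k S : Type u} [Field k] [CommRing S] [Algebra k S] [Algebra.FiniteType k S]
    (p : Ideal S) [p.IsPrime] (r : ℕ) (hr : Algebra.trdeg k p.ResidueField = r) :
    FlatMor.localDim (PrimeSpectrum S) ⟨p, inferInstance⟩ = ringKrullDim (Localization.AtPrime p) + (r : WithBot ℕ∞) := by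
  classical
  haveI : FaithfulSMul k (S ⧸ p) :=
    (faithfulSMul_iff_algebraMap_injective k (S ⧸ p)).mpr (algebraMap k (S ⧸ p)).injective
  haveI : Algebra.IsAlgebraic (S ⧸ p) p.ResidueField :=
    IsLocalization.isAlgebraic p.ResidueField (nonZeroDivisors (S ⧸ p))
  have h1 := trdeg_add_eq k (S ⧸ p) (A := p.ResidueField)
  have h2 : Algebra.trdeg (S ⧸ p) p.ResidueField = 0 := trdeg_eq_zero
  rw [h2, add_zero, hr] at h1
  have h3 := Groth.Agent.LocDimH8.localDim_primeSpectrum k S ⟨p, inferInstance⟩ r h1
  rw [h3, IsLocalization.AtPrime.ringKrullDim_eq_height p (Localization.AtPrime p)]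
  push_cast
  rfl

end Groth.Agent.S2141
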