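import Groth.Statements.S2142
import Groth.Agent.Lib.BCDim_helper8
import Groth.Agent.Lib.LocDim_helper8

set_option autoImplicit false
universe u
open CAlg

namespace Groth.Agent.S2142

open TensorProduct in
/-- Let `S` be of finite type over a field `k`, `K/k` a field extension, `𝔮` a prime of `S` and `𝔮_K` a
prime of `K ⊗_k S` lying over `𝔮`. Then the local dimension of `Spec (K ⊗_k S)` at `𝔮_K` equals the
local dimension of `Spec S` at `𝔮`. -/
theorem result {k S K : Type u} [Field k] [CommRing S] [Algebra k S] [Algebra.FiniteType k S] [Field K]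
    [Algebra k K] (q : Ideal S) [q.IsPrime] (qK : Ideal (K ⊗[k] S)) [qK.IsPrime]
    (hq : qK.comap (Algebra.TensorProduct.includeRight.toRingHom : S →+* K ⊗[k] S) = q) :
    FlatMor.localDim (PrimeSpectrum (K ⊗[k] S)) ⟨qK, inferInstance⟩ = FlatMor.localDim (PrimeSpectrum S) ⟨q, inferInstance⟩ := by
  classical
  letI algSK : Algebra S (K ⊗[k] S) := Algebra.TensorProduct.rightAlgebra
  haveI : Module.Flat S (K ⊗[k] S) :=
    Module.Flat.of_linearEquiv (Algebra.TensorProduct.commRight k S K).symm.toLinearEquiv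
  haveI : Algebra.HasGoingDown S (K ⊗[k] S) := Algebra.HasGoingDown.of_flat
  haveI : Algebra.FinitePresentation k S := Algebra.FinitePresentation.of_finiteType.mp inferInstance
  set π : PrimeSpectrum (K ⊗[k] S) → PrimeSpectrum S :=
    PrimeSpectrum.comap (algebraMap S (K ⊗[k] S)) with hπ
  have hπq : π ⟨qK, inferInstance⟩ = ⟨q, inferInstance⟩ := PrimeSpectrum.ext hq
  have hπopen : IsOpenMap π := by
    have h1 : IsOpenMap (PrimeSpectrum.comap (algebraMap S (S ⊗[k] K))) :=
      PrimeSpectrum.isOpenMap_comap_algebraMap_tensorProduct_of_field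
    have h2 : algebraMap S (K ⊗[k] S) =
        ((Algebra.TensorProduct.commRight k S K) : S ⊗[k] K →+* K ⊗[k] S).comp
          (algebraMap S (S ⊗[k] K)) := by
      refine RingHom.ext fun s => ?_
      simp [Algebra.TensorProduct.right_algebraMap_apply]
    have h3 : π = (PrimeSpectrum.comap (algebraMap S (S ⊗[k] K))) ∘
        (PrimeSpectrum.comap ((Algebra.TensorProduct.commRight k S K) : S ⊗[k] K →+* K ⊗[k] S)) := by
      rw [hπ, h2]
      rfl
    rw [h3]
    refine h1.comp ?_
    exact (PrimeSpectrum.homeomorphOfRingEquiv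
      (Algebra.TensorProduct.commRight k S K).toRingEquiv).symm.isOpenMap
  have hmono : ∀ (R : Type u) [CommRing R] (U V : Set (PrimeSpectrum R)), IsOpen U → IsOpen V →
      U ⊆ V → topologicalKrullDim ↥U ≤ topologicalKrullDim ↥V := by
    intro R _ U V hU hV hUV
    rw [Groth.Agent.LocDimH8.topologicalKrullDim_open_primeSpectrum R U hU,
      Groth.Agent.LocDimH8.topologicalKrullDim_open_primeSpectrum R V hV]
    refine iSup_le fun u => ?_
    exact le_iSup (fun v : V => ((v.1.asIdeal.height : ℕ∞) : WithBot ℕ∞)) ⟨u.1, hUV u.2⟩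
  apply le_antisymm
  · refine le_iInf ?_
    rintro ⟨U, hqU⟩
    obtain ⟨_, ⟨g, rfl⟩, hqg, hgU⟩ :=
      PrimeSpectrum.isTopologicalBasis_basic_opens.exists_subset_of_mem_open hqU U.2
    have hqKV : (⟨qK, inferInstance⟩ : PrimeSpectrum (K ⊗[k] S)) ∈
        PrimeSpectrum.basicOpen ((1 : K) ⊗ₜ[k] g) := by
      rw [PrimeSpectrum.mem_basicOpen]
      intro hmem
      have : g ∈ q := by
        rw [← hq]; exact hmem
      exact hqg this
    refine (iInf_le _ ⟨PrimeSpectrum.basicOpen ((1 : K) ⊗ₜ[k] g), hqKV⟩).trans ?_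
    change topologicalKrullDim ↥((PrimeSpectrum.basicOpen ((1 : K) ⊗ₜ[k] g) :
      TopologicalSpace.Opens (PrimeSpectrum (K ⊗[k] S))) : Set (PrimeSpectrum (K ⊗[k] S))) ≤
      topologicalKrullDim ↥(U : Set (PrimeSpectrum S))
    rw [Groth.Agent.BCDimH8.topologicalKrullDim_basicOpen]
    have e := IsLocalization.Away.tensorProductEquivTMulRight k K g (Localization.Away g)
    rw [← ringKrullDim_eq_of_ringEquiv e.toRingEquiv,
      Groth.Agent.BCDimH8.ringKrullDim_tensor_field k K (Localization.Away g),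
      ← Groth.Agent.BCDimH8.topologicalKrullDim_basicOpen]
    exact hmono S _ _ (PrimeSpectrum.basicOpen g).2 U.2 hgU
  · refine le_iInf ?_
    rintro ⟨V, hqV⟩
    have hπV : IsOpen (π '' (V : Set (PrimeSpectrum (K ⊗[k] S)))) := hπopen _ V.2
    have hqπV : (⟨q, inferInstance⟩ : PrimeSpectrum S) ∈ π '' (V : Set (PrimeSpectrum (K ⊗[k] S))) :=
      ⟨_, hqV, hπq⟩
    refine (iInf_le _ ⟨⟨_, hπV⟩, hqπV⟩).trans ?_
    change topologicalKrullDim ↥(π '' (V : Set (PrimeSpectrum (K ⊗[k] S)))) ≤
      topologicalKrullDim ↥(V : Set (PrimeSpectrum (K ⊗[k] S)))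
    rw [Groth.Agent.LocDimH8.topologicalKrullDim_open_primeSpectrum S _ hπV,
      Groth.Agent.LocDimH8.topologicalKrullDim_open_primeSpectrum (K ⊗[k] S)
        (V : Set (PrimeSpectrum (K ⊗[k] S))) V.2]
    refine iSup_le fun u => ?_
    obtain ⟨P, hPV, hPu⟩ := u.2
    refine le_trans ?_ (le_iSup (fun v : (V : Set (PrimeSpectrum (K ⊗[k] S))) =>
      ((v.1.asIdeal.height : ℕ∞) : WithBot ℕ∞)) ⟨P, hPV⟩)
    haveI : P.asIdeal.LiesOver u.1.asIdeal := by
      constructor
      rw [← hPu]
      rfl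
    have := Groth.Agent.BCDimH8.height_le_of_liesOver u.1.asIdeal P.asIdeal
    exact_mod_cast this

end Groth.Agent.S2142
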