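import Groth.Statements.S2143
import Groth.Agent.Lib.DimFT_helper8
import Groth.Agent.Lib.LocDim_helper8

set_option autoImplicit false
universe u
open CAlg

namespace Groth.Agent.S2143

/-- (1) = (3): let `S` be of finite type over a field `k` and `𝔭` a prime of `S`. The local dimension of
`Spec S` at `𝔭` is the infimum of `dim S_𝔪` over the maximal ideals `𝔪 ⊇ 𝔭`. -/
theorem result {k S : Type u} [Field k] [CommRing S] [Algebra k S] [Algebra.FiniteType k S]
    (p : Ideal S) [p.IsPrime] :
    FlatMor.localDim (PrimeSpectrum S) ⟨p, inferInstance⟩ =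
      ⨅ m : {m : Ideal S // m.IsMaximal ∧ p ≤ m}, ringKrullDim (Localization.AtPrime (hp := m.2.1.isPrime') m.1) := by
  classical
  haveI : IsNoetherianRing S := Algebra.FiniteType.isNoetherianRing k S
  obtain ⟨r, -, hr, -, hht⟩ := Groth.Agent.DimFTH8.exists_dim_eq k (S ⧸ p)
  rw [Groth.Agent.LocDimH8.localDim_primeSpectrum k S ⟨p, inferInstance⟩ r hr]
  have hloc : ∀ m : {m : Ideal S // m.IsMaximal ∧ p ≤ m},
      ringKrullDim (Localization.AtPrime (hp := m.2.1.isPrime') m.1) = m.1.height := by
    intro m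
    haveI := m.2.1.isPrime'
    exact IsLocalization.AtPrime.ringKrullDim_eq_height m.1 (Localization.AtPrime m.1)
  apply le_antisymm
  · refine le_iInf fun m => ?_
    rw [hloc m]
    haveI := m.2.1.isPrime'
    have h1 := Groth.Agent.LocDimH8.height_add_height_map_mk_le p m.1 m.2.2
    haveI := m.2.1
    haveI : (m.1.map (Ideal.Quotient.mk p)).IsMaximal :=
      Ideal.IsMaximal.map_of_surjective_of_ker_le Ideal.Quotient.mk_surjective
        (by rw [Ideal.mk_ker]; exact m.2.2)
    rw [hht (m.1.map (Ideal.Quotient.mk p))] at h1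
    exact_mod_cast h1
  · obtain ⟨U, hUo, hpU, r', hr', hU⟩ := Groth.Agent.LocDimH8.exists_open_height_le k S ⟨p, inferInstance⟩
    have hrr : r' = r := by
      have : ((r' : ℕ) : Cardinal) = ((r : ℕ) : Cardinal) := by rw [← hr', ← hr]
      exact_mod_cast this
    subst hrr
    obtain ⟨m, hmU, hpm, hmmax, -⟩ :=
      Groth.Agent.LocDimH8.exists_isMaximal_mem_open k S ⟨p, inferInstance⟩ U hUo hpU
    refine (iInf_le _ ⟨m.asIdeal, hmmax, hpm⟩).trans ?_
    rw [hloc]
    exact_mod_cast hU m hmU

end Groth.Agent.S2143
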