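import Groth.Statements.S2148
import Groth.Agent.Lib.PDescent_helper3
-- import your own Groth.Agent.* helpers here

set_option autoImplicit false
universe u
open CAlg
set_option maxSynthPendingDepth 3

namespace Groth.Agent.S2148

/-- Let `k` be a perfect field of characteristic `p > 0` and `K` an extension field of `k`. For `a ∈ K`,
the differential `da` vanishes in `Ω_{K/k}` if and only if `a` is a `p`-th power in `K`. -/
theorem result {k K : Type u} [Field k] [Field K] [Algebra k K] (p : ℕ) [Fact p.Prime]
    [CharP k p] [PerfectRing k p] (a : K) :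
    KaehlerDifferential.D k K a = 0 ↔ ∃ b : K, b ^ p = a := by
  haveI : CharP K p := charP_of_injective_algebraMap (algebraMap k K).injective p
  constructor
  · intro h
    by_contra hne
    have ha : a ∉ Groth.Agent.Lib.PBasisH3.PK p k K := by
      intro hmem
      rw [← Groth.Agent.Lib.PBasisH3.mem_pPower_iff] at hmem
      apply hne
      let S : Subalgebra k K :=
        { (frobenius K p).range with
          algebraMap_mem' := fun c => ⟨algebraMap k K ((frobeniusEquiv k p).symm c), by
            rw [frobenius_def, ← map_pow, frobeniusEquiv_symm_pow_p]⟩ }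
      have hle : EGA41.pPowerSubalgebra p k K ≤ S :=
        Algebra.adjoin_le (by
          rintro _ ⟨y, rfl⟩
          exact ⟨y, rfl⟩)
      obtain ⟨b, hb⟩ := hle hmem
      exact ⟨b, hb⟩
    exact Groth.Agent.Lib.PBasisH3.D_ne_zero_of_notMem p a ha h
  · rintro ⟨b, rfl⟩
    exact Groth.Agent.Lib.PBasisH3.D_eq_zero_of_mem_pPower p _
      (Groth.Agent.Lib.PBasisH3.pow_mem_pPower p b)

end Groth.Agent.S2148
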