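import Groth.Statements.S2154
import Mathlib
import Groth.Agent.S9200
import Groth.Agent.Lib.LimSections2_helper7

set_option autoImplicit false
set_option backward.isDefEq.respectTransparency false
universe u
open CategoryTheory AlgebraicGeometry
open Lim

namespace Groth.Agent.S2154

/-- Let `S` be quasi-compact and quasi-separated and `X = lim X_i` a cofiltered limit of quasi-compact
quasi-separated `S`-schemes locally of finite type over `S`, with finite transition morphisms. If `X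
→ S` is integral then `X_i → S` is finite for all `i` beyond some index. -/
theorem result {I : Type u} [SmallCategory I] [IsCofiltered I] (S : Scheme.{u}) [CompactSpace S]
    [QuasiSeparatedSpace S] (D : I ⥤ Over S) (c : Limits.Cone D) (hc : Limits.IsLimit c)
    [∀ (i j : I) (f : i ⟶ j), IsFinite (D.map f).left] [∀ i, CompactSpace (D.obj i).left]
    [∀ i, QuasiSeparatedSpace (D.obj i).left] [∀ i, LocallyOfFiniteType (D.obj i).hom] [IsIntegralHom c.pt.hom] :
    ∃ i₀ : I, ∀ (i : I) (_ : i ⟶ i₀), IsFinite (D.obj i).hom := by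
  classical
  haveI : IsConnected I := IsCofiltered.isConnected I
  let D' : I ⥤ Scheme.{u} := D ⋙ Over.forget S
  let c' : Limits.Cone D' := (Over.forget S).mapCone c
  have hc' : Limits.IsLimit c' := Limits.isLimitOfPreserves (Over.forget S) hc
  haveI : ∀ (i j : I) (f : i ⟶ j), IsFinite (D'.map f) := fun i j f =>
    ‹∀ (i j : I) (f : i ⟶ j), IsFinite (D.map f).left› i j f
  haveI : ∀ (i j : I) (f : i ⟶ j), IsAffineHom (D'.map f) := fun _ _ _ => inferInstance
  haveI : ∀ i, CompactSpace (D'.obj i) := fun i => ‹∀ i, CompactSpace (D.obj i).left› i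
  haveI : ∀ i, QuasiSeparatedSpace (D'.obj i) := fun i =>
    ‹∀ i, QuasiSeparatedSpace (D.obj i).left› i
  let ti : ∀ i, D'.obj i ⟶ S := fun i => (D.obj i).hom
  have hnat : ∀ {i j : I} (a : i ⟶ j), D'.map a ≫ ti j = ti i := fun {i j} a => Over.w (D.map a)
  let t : D' ⟶ (Functor.const I).obj S :=
    { app := fun i => ti i
      naturality := fun i j a => by
        simp only [Functor.const_obj_obj, Functor.const_obj_map, Category.comp_id]
        exact hnat a }
  haveI hlft : ∀ i, LocallyOfFiniteType (ti i) := fun i =>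
    ‹∀ i, LocallyOfFiniteType (D.obj i).hom› i
  have hp : ∀ i, c'.π.app i ≫ ti i = c.pt.hom := fun i => Over.w (c.π.app i)
  haveI hint : ∀ i, IsIntegralHom (c'.π.app i ≫ ti i) := fun i => by rw [hp]; infer_instance
  obtain ⟨i₀⟩ := IsCofiltered.nonempty (C := I)
  haveI : IsAffineHom (c'.π.app i₀ ≫ t.app i₀) := by
    show IsAffineHom (c'.π.app i₀ ≫ ti i₀)
    infer_instance
  obtain ⟨i₁, hi₁⟩ := Groth.Agent.S9200.result S D' t c' hc' i₀
  have haff : ∀ (i : I) (_ : i ⟶ i₁), IsAffineHom (ti i) := hi₁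
  -- Claim A
  have claimA : ∀ U : S.Opens, IsAffineOpen U →
      ∃ k : Over i₁, ((ti k.left).app U).hom.Finite := by
    intro U hU
    haveI := haff i₁ (𝟙 i₁)
    have hV : IsAffineOpen (ti i₁ ⁻¹ᵁ U) := hU.preimage (ti i₁)
    have hft : RingHom.FiniteType ((ti i₁).app U).hom := by
      rw [Scheme.Hom.app_eq_appLE]
      exact HasRingHomProperty.appLE (P := @LocallyOfFiniteType) (ti i₁) inferInstance
        ⟨U, hU⟩ ⟨_, hV⟩ le_rfl
    letI : Algebra Γ(S, U) Γ(D'.obj i₁, ti i₁ ⁻¹ᵁ U) := ((ti i₁).app U).hom.toAlgebra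
    obtain ⟨s, hs⟩ := (show Algebra.FiniteType Γ(S, U) Γ(D'.obj i₁, ti i₁ ⁻¹ᵁ U) from hft).out
    let Q : ∀ {Z : Scheme.{u}} (_ : Z ⟶ D'.obj i₁), Γ(D'.obj i₁, ti i₁ ⁻¹ᵁ U) → Prop := fun e b =>
      ∃ P : Polynomial Γ(S, U), P.Monic ∧
        e.app (ti i₁ ⁻¹ᵁ U) (Polynomial.eval₂ ((ti i₁).app U).hom b P) = 0
    have Qcomp : ∀ {Z Z' : Scheme.{u}} (g : Z' ⟶ Z) (e : Z ⟶ D'.obj i₁) (b), Q e b →
        Q (g ≫ e) b := by
      rintro Z Z' g e b ⟨P, hP, hr⟩
      exact ⟨P, hP, by rw [Groth.Agent.Lib.LimSectionsH7.comp_app_apply, hr, map_zero]⟩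
    have Qcongr : ∀ {Z : Scheme.{u}} {e e' : Z ⟶ D'.obj i₁} (_ : e = e') (b), Q e b → Q e' b := by
      rintro Z e e' rfl b h
      exact h
    have single : ∀ b, ∃ k : Over i₁, Q (D'.map k.hom) b := by
      intro b
      obtain ⟨P, hP, hPb⟩ := Scheme.Hom.isIntegral_app (c'.π.app i₁ ≫ ti i₁) U hU
        ((c'.π.app i₁).app (ti i₁ ⁻¹ᵁ U) b)
      have hw : (c'.π.app i₁).app (ti i₁ ⁻¹ᵁ U)
          (Polynomial.eval₂ ((ti i₁).app U).hom b P) = 0 := by
        have h2 := Polynomial.hom_eval₂ P ((ti i₁).app U).hom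
          ((c'.π.app i₁).app (ti i₁ ⁻¹ᵁ U)).hom b
        refine h2.trans ?_
        rw [← hPb]
        congr 1
      obtain ⟨j, f, hf⟩ := exists_app_map_eq_zero_of_isLimit D' c' hc' hV.isCompact _ hw
      exact ⟨Over.mk f, P, hP, hf⟩
    have all : ∀ s : Finset Γ(D'.obj i₁, ti i₁ ⁻¹ᵁ U),
        ∃ k : Over i₁, ∀ b ∈ s, Q (D'.map k.hom) b := by
      intro s
      induction s using Finset.induction_on with
      | empty => exact ⟨Over.mk (𝟙 i₁), fun b hb => absurd hb (Finset.notMem_empty b)⟩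
      | insert b s hbs ih =>
        obtain ⟨k, hk⟩ := ih
        obtain ⟨kb, hkb⟩ := single b
        refine ⟨IsCofiltered.min k kb, fun b' hb' => ?_⟩
        rcases Finset.mem_insert.mp hb' with rfl | hb'
        · refine Qcongr ?_ _ (Qcomp (D'.map (IsCofiltered.minToRight k kb).left) _ _ hkb)
          rw [← D'.map_comp, Over.w]
        · refine Qcongr ?_ _ (Qcomp (D'.map (IsCofiltered.minToLeft k kb).left) _ _ (hk b' hb'))
          rw [← D'.map_comp, Over.w]
    obtain ⟨k, hk⟩ := all s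
    refine ⟨k, ?_⟩
    refine Groth.Agent.Lib.LimSections2H7.finite_app_of_eq (hnat k.hom) U ?_
    have hcomp : ((D'.map k.hom ≫ ti i₁).app U).hom =
        ((D'.map k.hom).app (ti i₁ ⁻¹ᵁ U)).hom.comp ((ti i₁).app U).hom := by
      rw [Scheme.Hom.comp_app, CommRingCat.hom_comp]
    have hτ : ((D'.map k.hom).app (ti i₁ ⁻¹ᵁ U)).hom.IsIntegral :=
      (Scheme.Hom.finite_app (D'.map k.hom) _ hV).to_isIntegral
    have hint' : (((D'.map k.hom).app (ti i₁ ⁻¹ᵁ U)).hom.comp ((ti i₁).app U).hom).IsIntegral := by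
      refine Groth.Agent.Lib.LimSections2H7.isIntegral_comp_of_generators _ _ (↑s) hs hτ ?_
      intro b hb
      obtain ⟨P, hP, hPb⟩ := hk b (Finset.mem_coe.mp hb)
      refine ⟨P, hP, ?_⟩
      rw [← Polynomial.hom_eval₂]
      exact hPb
    rw [hcomp]
    refine RingHom.IsIntegral.to_finite hint' ?_
    rw [← hcomp]
    haveI := haff k.left k.hom
    have hVk : IsAffineOpen ((D'.map k.hom ≫ ti i₁) ⁻¹ᵁ U) := by
      rw [hnat k.hom]
      exact hU.preimage (ti k.left)
    rw [Scheme.Hom.app_eq_appLE]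
    haveI : LocallyOfFiniteType (D'.map k.hom ≫ ti i₁) := by rw [hnat k.hom]; infer_instance
    exact HasRingHomProperty.appLE (P := @LocallyOfFiniteType) (D'.map k.hom ≫ ti i₁) inferInstance
      ⟨U, hU⟩ ⟨_, hVk⟩ le_rfl
  -- Claim B: persistence
  have claimB : ∀ (U : S.Opens), IsAffineOpen U → ∀ (k : I) (_ : k ⟶ i₁),
      ((ti k).app U).hom.Finite → ∀ (k' : I) (g : k' ⟶ k), ((ti k').app U).hom.Finite := by
    intro U hU k f h k' g
    haveI := haff k f
    exact Groth.Agent.Lib.LimSections2H7.finite_app_of_eq (hnat g) U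
      (Groth.Agent.Lib.LimSections2H7.finite_comp_app (D'.map g) (ti k) U h
        (Scheme.Hom.finite_app (D'.map g) (ti k ⁻¹ᵁ U) (hU.preimage (ti k))))
  -- finite affine cover of S
  have hcov : ∀ x : S, ∃ V : S.Opens, IsAffineOpen V ∧ x ∈ V := fun x => by
    obtain ⟨_, ⟨(V : S.Opens), hV, rfl⟩, hxV, -⟩ :=
      S.isBasis_affineOpens.exists_subset_of_mem_open (Set.mem_univ x) isOpen_univ
    exact ⟨V, hV, hxV⟩
  choose V hVaff hxV using hcov
  obtain ⟨sf, hsf⟩ := isCompact_univ.elim_finite_subcover (fun x => (V x : Set S))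
    (fun x => (V x).isOpen) (fun x _ => Set.mem_iUnion.mpr ⟨x, hxV x⟩)
  choose kx hkx using fun x => claimA (V x) (hVaff x)
  obtain ⟨i, hi⟩ := IsCofiltered.inf_objs_exists (insert i₁ (sf.image fun x => (kx x).left))
  obtain ⟨φ₁⟩ := hi (Finset.mem_insert_self i₁ _)
  refine ⟨i, fun i' ψ => ?_⟩
  haveI := haff i' (ψ ≫ φ₁)
  refine Groth.Agent.Lib.LimSections2H7.isFinite_of_finite_app (ti i') fun y => ?_
  obtain ⟨x, hx⟩ := Set.mem_iUnion.mp (hsf (Set.mem_univ y))
  obtain ⟨hxs, hyx⟩ := Set.mem_iUnion.mp hx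
  obtain ⟨φx⟩ := hi (Finset.mem_insert_of_mem (Finset.mem_image_of_mem (fun x => (kx x).left) hxs))
  exact ⟨V x, hyx, hVaff x,
    claimB (V x) (hVaff x) (kx x).left (kx x).hom (hkx x) i' (ψ ≫ φx)⟩

end Groth.Agent.S2154
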