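import Groth.Statements.S2159
import Mathlib

set_option autoImplicit false
universe u
open CAlg

namespace Groth.Agent.S2159

/-- A surjection with a section splits the source as kernel × target. -/
noncomputable def splitEquiv {R X P : Type u} [CommRing R] [AddCommGroup X] [Module R X]
    [AddCommGroup P] [Module R P] (f : X →ₗ[R] P) (s : P →ₗ[R] X) (hs : ∀ p, f (s p) = p) :
    X ≃ₗ[R] (LinearMap.ker f × P) where
  toFun x := (⟨x - s (f x), by rw [LinearMap.mem_ker, map_sub, hs, sub_self]⟩, f x)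
  map_add' x y := by
    ext
    · simp only [map_add, Prod.mk_add_mk, Submodule.coe_add]
      abel
    · simp
  map_smul' c x := by
    ext
    · simp [smul_sub]
    · simp
  invFun kp := kp.1.1 + s kp.2
  left_inv x := by simp
  right_inv kp := by
    obtain ⟨⟨k, hk⟩, p⟩ := kp
    rw [LinearMap.mem_ker] at hk
    ext
    · simp [hk, hs]
    · simp [hk, hs]

/-- The pullback `X = {(x₁, x₂) | p₁ x₁ = p₂ x₂}`; the kernel of its first projection is `ker p₂`. -/
theorem schanuel_half {R M P₁ P₂ : Type u} [CommRing R] [AddCommGroup M] [Module R M]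
    [AddCommGroup P₁] [Module R P₁] [Module.Projective R P₁] [AddCommGroup P₂] [Module R P₂]
    (p₁ : P₁ →ₗ[R] M) (p₂ : P₂ →ₗ[R] M) (h₂ : Function.Surjective p₂) :
    Nonempty (LinearMap.eqLocus (p₁ ∘ₗ LinearMap.fst R P₁ P₂) (p₂ ∘ₗ LinearMap.snd R P₁ P₂) ≃ₗ[R]
      (LinearMap.ker p₂ × P₁)) := by
  set X := LinearMap.eqLocus (p₁ ∘ₗ LinearMap.fst R P₁ P₂) (p₂ ∘ₗ LinearMap.snd R P₁ P₂) with hX
  let f : X →ₗ[R] P₁ := (LinearMap.fst R P₁ P₂) ∘ₗ X.subtype
  have hf : Function.Surjective f := by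
    intro x₁
    obtain ⟨x₂, hx₂⟩ := h₂ (p₁ x₁)
    exact ⟨⟨(x₁, x₂), by simp [hX, hx₂]⟩, rfl⟩
  obtain ⟨s, hs⟩ := Module.projective_lifting_property f LinearMap.id hf
  have hs' : ∀ p, f (s p) = p := fun p => LinearMap.congr_fun hs p
  let e1 := splitEquiv f s hs'
  -- ker f ≃ ker p₂
  let e2 : LinearMap.ker f ≃ₗ[R] LinearMap.ker p₂ :=
    { toFun := fun k => ⟨k.1.1.2, by
        have h1 : k.1.1.1 = 0 := k.2
        have h2 : p₁ k.1.1.1 = p₂ k.1.1.2 := k.1.2
        rw [LinearMap.mem_ker, ← h2, h1, map_zero]⟩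
      map_add' := fun a b => rfl
      map_smul' := fun c a => rfl
      invFun := fun l => ⟨⟨(0, l.1), by
        have : p₂ l.1 = 0 := l.2
        simp [hX, this]⟩, by
        rw [LinearMap.mem_ker]; rfl⟩
      left_inv := fun k => by
        have h1 : k.1.1.1 = 0 := k.2
        apply Subtype.ext
        apply Subtype.ext
        exact Prod.ext h1.symm rfl
      right_inv := fun l => rfl }
  exact ⟨e1.trans (LinearEquiv.prodCongr e2 (LinearEquiv.refl R P₁))⟩

/-- Given surjections `p₁ : P₁ → M` and `p₂ : P₂ → M` from projective modules, with kernels `K` and `L`,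
there is an isomorphism `K ⊕ P₂ ≅ L ⊕ P₁`. -/
theorem result {R M P₁ P₂ : Type u} [CommRing R] [AddCommGroup M] [Module R M] [AddCommGroup P₁] [Module R P₁]
    [Module.Projective R P₁] [AddCommGroup P₂] [Module R P₂] [Module.Projective R P₂] (p₁ : P₁ →ₗ[R] M) (p₂ : P₂ →ₗ[R] M)
    (h₁ : Function.Surjective p₁) (h₂ : Function.Surjective p₂) :
    Nonempty ((LinearMap.ker p₁ × P₂) ≃ₗ[R] (LinearMap.ker p₂ × P₁)) := by
  obtain ⟨eA⟩ := schanuel_half p₁ p₂ h₂
  obtain ⟨eB⟩ := schanuel_half p₂ p₁ h₁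
  -- swap identifies the two pullbacks
  let sw : LinearMap.eqLocus (p₂ ∘ₗ LinearMap.fst R P₂ P₁) (p₁ ∘ₗ LinearMap.snd R P₂ P₁) ≃ₗ[R]
      LinearMap.eqLocus (p₁ ∘ₗ LinearMap.fst R P₁ P₂) (p₂ ∘ₗ LinearMap.snd R P₁ P₂) :=
    { toFun := fun x => ⟨(x.1.2, x.1.1), by
        have : p₂ x.1.1 = p₁ x.1.2 := x.2
        simp [this]⟩
      map_add' := fun a b => rfl
      map_smul' := fun c a => rfl
      invFun := fun x => ⟨(x.1.2, x.1.1), by
        have : p₁ x.1.1 = p₂ x.1.2 := x.2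
        simp [this]⟩
      left_inv := fun x => rfl
      right_inv := fun x => rfl }
  exact ⟨eB.symm.trans (sw.trans eA)⟩

end Groth.Agent.S2159
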