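import Groth.Statements.S2160
import Mathlib

set_option autoImplicit false
universe u
open CAlg

namespace Groth.Agent.S2160

/-- Let `R` be a Noetherian local domain of Krull dimension at least `2`. Then every nonempty open
subset of `Spec R` is infinite. -/
theorem result {R : Type u} [CommRing R] [IsDomain R] [IsLocalRing R] [IsNoetherianRing R]
    (hdim : 2 ≤ ringKrullDim R) (U : Set (PrimeSpectrum R)) (hU : IsOpen U) (hne : U.Nonempty) : U.Infinite := by
  classical
  obtain ⟨p₀, hp₀⟩ := hne
  obtain ⟨_, ⟨_, ⟨f, rfl⟩, rfl⟩, hp₀f, hfU⟩ :=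
    PrimeSpectrum.isBasis_basic_opens.exists_subset_of_mem_open hp₀ hU
  have hf0 : f ≠ 0 := by
    rintro rfl
    simp at hp₀f
  -- the maximal ideal has height ≥ 2
  have hm2 : (2 : ℕ∞) ≤ (IsLocalRing.maximalIdeal R).height := by
    have := IsLocalRing.maximalIdeal_height_eq_ringKrullDim (R := R)
    rw [← this] at hdim
    have h2 : ((2 : ℕ∞) : WithBot ℕ∞) ≤ ((IsLocalRing.maximalIdeal R).height : WithBot ℕ∞) := hdim
    exact WithBot.coe_le_coe.mp h2
  -- height one primes
  set H : Set (Ideal R) := {p | p.IsPrime ∧ p.height = 1} with hH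
  have hHinf : H.Infinite := by
    intro hfin
    -- prime avoidance
    have hsub : ¬ (((IsLocalRing.maximalIdeal R : Ideal R) : Set R) ⊆
        ⋃ i ∈ ((insert ⊥ hfin.toFinset : Finset (Ideal R)) : Set (Ideal R)), (i : Set R)) := by
      intro hsub
      have hprime : ∀ i ∈ (insert ⊥ hfin.toFinset : Finset (Ideal R)), i ≠ (⊥ : Ideal R) →
          i ≠ (⊥ : Ideal R) → (id i : Ideal R).IsPrime := by
        intro i hi hne _
        rw [Finset.mem_insert] at hi
        rcases hi with rfl | hi
        · exact absurd rfl hne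
        · exact (hfin.mem_toFinset.mp hi).1
      obtain ⟨i, hi, hle⟩ := (Ideal.subset_union_prime (f := id) ⊥ ⊥ hprime).mp hsub
      rw [Finset.mem_insert] at hi
      rcases hi with rfl | hi
      · have : IsLocalRing.maximalIdeal R = ⊥ := le_bot_iff.mp hle
        rw [this, Ideal.height_bot] at hm2
        simp at hm2
      · have hi' := hfin.mem_toFinset.mp hi
        have hieq : i = IsLocalRing.maximalIdeal R :=
          le_antisymm (IsLocalRing.le_maximalIdeal hi'.1.ne_top) hle
        rw [← hieq, hi'.2] at hm2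
        norm_num at hm2
    rw [Set.not_subset] at hsub
    obtain ⟨x, hxm, hxn⟩ := hsub
    have hx0 : x ≠ 0 := by
      rintro rfl
      apply hxn
      refine Set.mem_biUnion (x := (⊥ : Ideal R)) ?_ (zero_mem _)
      simp
    have hxtop : Ideal.span {x} ≠ ⊤ := by
      intro h
      exact (IsLocalRing.maximalIdeal.isMaximal R).ne_top
        (top_le_iff.mp (h ▸ (Ideal.span_singleton_le_iff_mem _).mpr hxm))
    obtain ⟨q, hq⟩ := Ideal.nonempty_minimalPrimes hxtop
    have hqprime : q.IsPrime := hq.1.1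
    have hxq : x ∈ q := hq.1.2 (Ideal.mem_span_singleton_self x)
    have h1 : q.height ≤ 1 := Ideal.height_le_one_of_isPrincipal_of_mem_minimalPrimes _ q hq
    have h0 : q.height ≠ 0 := by
      rw [Ne, Ideal.height_eq_zero_iff_eq_bot]
      rintro rfl
      exact hx0 (by simpa using hxq)
    have hq1 : q.height = 1 := le_antisymm h1 (Order.one_le_iff_pos.mpr (pos_iff_ne_zero.mpr h0))
    apply hxn
    refine Set.mem_biUnion (x := q) ?_ hxq
    simp only [Finset.coe_insert, Set.Finite.coe_toFinset, Set.mem_insert_iff]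
    exact Or.inr ⟨hqprime, hq1⟩
  -- those containing f are finite
  have hfin2 : {p ∈ H | f ∈ p}.Finite := by
    refine (Ideal.finite_minimalPrimes_of_isNoetherianRing R (Ideal.span {f})).subset ?_
    rintro p ⟨⟨hpprime, hp1⟩, hfp⟩
    refine ⟨⟨hpprime, (Ideal.span_singleton_le_iff_mem _).mpr hfp⟩, ?_⟩
    intro q ⟨hqprime, hfq⟩ hqp
    by_contra hnle
    have hlt : q < p := lt_of_le_of_ne hqp (fun h => hnle (h ▸ le_rfl))
    have := Ideal.height_add_one_le_of_lt_of_isPrime hlt
    rw [hp1] at this
    have hq0 : q.height = 0 := by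
      have hne : q.height ≠ ⊤ := Ideal.height_ne_top hqprime.ne_top
      have hlt' : q.height < 1 := (ENat.add_one_le_iff hne).mp this
      exact Order.lt_one_iff.mp hlt'
    rw [Ideal.height_eq_zero_iff_eq_bot] at hq0
    subst hq0
    exact hf0 (by simpa using (Ideal.span_singleton_le_iff_mem _).mp hfq)
  have hinf3 : (H \ {p ∈ H | f ∈ p}).Infinite := hHinf.sdiff hfin2
  -- map to PrimeSpectrum
  have : (PrimeSpectrum.asIdeal '' U).Infinite := by
    refine hinf3.mono ?_
    rintro p ⟨hpH, hpf⟩
    refine ⟨⟨p, hpH.1⟩, hfU ?_, rfl⟩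
    show f ∉ p
    exact fun hfp => hpf ⟨hpH, hfp⟩
  exact Set.Infinite.of_image _ this

end Groth.Agent.S2160
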