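import Groth.Statements.S2161
import Mathlib
import Groth.Agent.Lib.UnivHomeo12_helper6
-- import your own Groth.Agent.* helpers here

set_option autoImplicit false
universe u
open CAlg

namespace Groth.Agent.S2161

/-- Let R → S be a ring map whose kernel consists of nilpotent elements, and suppose S is generated as
an R-algebra by elements x for which some power (T − x)ⁿ, n > 0, is the image of a polynomial over
R. Then Spec S → Spec R is a homeomorphism, and for every prime 𝔮 of S over 𝔭 the extension
κ(𝔮)/κ(𝔭) is purely inseparable. -/
theorem result {R S : Type u} [CommRing R] [CommRing S] [Algebra R S]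
    (hker : ∀ r : R, algebraMap R S r = 0 → IsNilpotent r) (G : Set S) (hG : Algebra.adjoin R G = ⊤)
    (hpow : ∀ x ∈ G, ∃ (n : ℕ) (P : Polynomial R), 0 < n ∧
      Polynomial.map (algebraMap R S) P = (Polynomial.X - Polynomial.C x) ^ n) :
    IsHomeomorph (PrimeSpectrum.comap (algebraMap R S)) ∧
      ∀ (q : Ideal S) [q.IsPrime] (p : Ideal R) [p.IsPrime] [q.LiesOver p],
        @IsPurelyInseparable p.ResidueField q.ResidueField _ _
          (Ideal.ResidueField.mapₐ p q (Algebra.ofId R S) (q.over_def p)).toRingHom.toAlgebra := by

  classical
  -- every generator is integral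
  have hintG : ∀ x ∈ G, IsIntegral R x := by
    intro x hx
    rcases subsingleton_or_nontrivial S with hS | hS
    · rw [Subsingleton.elim x 0]; exact isIntegral_zero
    obtain ⟨n, P, hn, hP⟩ := hpow x hx
    refine ⟨Polynomial.X ^ n + ∑ i ∈ Finset.range n, Polynomial.C (P.coeff i) * Polynomial.X ^ i,
      ?_, ?_⟩
    · apply Polynomial.monic_X_pow_add
      refine (Polynomial.degree_sum_le _ _).trans_lt ?_
      rw [Finset.sup_lt_iff (by exact_mod_cast WithBot.bot_lt_coe n)]
      intro i hi
      refine (Polynomial.degree_C_mul_X_pow_le _ _).trans_lt ?_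
      exact_mod_cast Finset.mem_range.mp hi
    · have hmap : Polynomial.map (algebraMap R S)
          (Polynomial.X ^ n + ∑ i ∈ Finset.range n, Polynomial.C (P.coeff i) * Polynomial.X ^ i) =
          (Polynomial.X - Polynomial.C x) ^ n := by
        have hmonic : ((Polynomial.X - Polynomial.C x) ^ n : Polynomial S).Monic :=
          (Polynomial.monic_X_sub_C x).pow n
        have hdeg : ((Polynomial.X - Polynomial.C x) ^ n : Polynomial S).natDegree = n := by
          rw [(Polynomial.monic_X_sub_C x).natDegree_pow, Polynomial.natDegree_X_sub_C, mul_one]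
        ext k
        simp only [Polynomial.coeff_map, Polynomial.coeff_add, Polynomial.coeff_X_pow,
          Polynomial.finset_sum_coeff, Polynomial.coeff_C_mul_X_pow, map_add, map_sum]
        rcases lt_trichotomy k n with h | h | h
        · rw [if_neg h.ne, map_zero, zero_add, Finset.sum_eq_single k]
          · rw [if_pos rfl, ← hP, Polynomial.coeff_map]
          · intro b _ hb; rw [if_neg (Ne.symm hb), map_zero]
          · intro hk; exact absurd (Finset.mem_range.mpr h) hk
        · subst h
          rw [if_pos rfl, map_one, Finset.sum_eq_zero, add_zero]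
          · have := hmonic.coeff_natDegree; rw [hdeg] at this; exact this.symm
          · intro b hb
            rw [if_neg (Finset.mem_range.mp hb).ne', map_zero]
        · rw [if_neg h.ne', map_zero, zero_add, Finset.sum_eq_zero]
          · rw [Polynomial.coeff_eq_zero_of_natDegree_lt]; rw [hdeg]; exact h
          · intro b hb
            rw [if_neg ((Finset.mem_range.mp hb).trans h).ne', map_zero]
      rw [Polynomial.eval₂_eq_eval_map, hmap]
      simp [Polynomial.eval_pow, hn.ne']
  have hint : Algebra.IsIntegral R S := by
    have h1 : Algebra.IsIntegral R (Algebra.adjoin R G) := Algebra.IsIntegral.adjoin hintG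
    rw [← integralClosure_eq_top_iff, ← top_le_iff, ← hG]
    exact Algebra.adjoin_le hintG
  have hPU : Groth.Agent.Lib.UnivHomeo.PU R S := by
    intro K _ ψ₁ ψ₂ h
    have hx : ∀ x ∈ G, ψ₁ x = ψ₂ x := by
      intro x hx
      obtain ⟨n, P, hn, hP⟩ := hpow x hx
      have e1 : Polynomial.map (ψ₁.comp (algebraMap R S)) P =
          (Polynomial.X - Polynomial.C (ψ₁ x)) ^ n := by
        rw [← Polynomial.map_map, hP]; simp
      have e2 : Polynomial.map (ψ₂.comp (algebraMap R S)) P =
          (Polynomial.X - Polynomial.C (ψ₂ x)) ^ n := by
        rw [← Polynomial.map_map, hP]; simp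
      rw [h, e2] at e1
      have := congrArg (Polynomial.eval (ψ₁ x)) e1
      simp only [Polynomial.eval_pow, Polynomial.eval_sub, Polynomial.eval_X, Polynomial.eval_C,
        sub_self, zero_pow hn.ne'] at this
      exact (sub_eq_zero.mp (pow_eq_zero_iff hn.ne' |>.mp this))
    ext s
    have hs : s ∈ Algebra.adjoin R G := hG ▸ Algebra.mem_top
    induction hs using Algebra.adjoin_induction with
    | mem x hx' => exact hx x hx'
    | algebraMap r => exact congr($h r)
    | add x y _ _ hx' hy' => rw [map_add, map_add, hx', hy']
    | mul x y _ _ hx' hy' => rw [map_mul, map_mul, hx', hy']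
  have hker' : RingHom.ker (algebraMap R S) ≤ nilradical R := fun r hr =>
    mem_nilradical.mpr (hker r ((RingHom.mem_ker).mp hr))
  have hU := (Groth.Agent.Lib.UnivHomeo.isUnivHomeo_iff_alg R S).mpr ⟨hint, hPU, hker'⟩
  obtain ⟨-, hinj, -⟩ := Groth.Agent.Lib.UnivHomeo.facts_of_isUnivHomeo hU
  have hsurj : Function.Surjective (PrimeSpectrum.comap (algebraMap R S)) := by
    have := ((Groth.Agent.Lib.UnivHomeo.isUnivHomeo_iff _).mp hU).2.2
    exact this.surj
  refine ⟨?_, ?_⟩
  · rw [isHomeomorph_iff_continuous_isClosedMap_bijective]
    exact ⟨PrimeSpectrum.continuous_comap (algebraMap R S),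
      PrimeSpectrum.isClosedMap_comap_of_isIntegral _ hint.isIntegral, hinj, hsurj⟩
  · intro q _ p _ _
    letI := (Ideal.ResidueField.mapₐ p q (Algebra.ofId R S) (q.over_def p)).toRingHom.toAlgebra
    haveI : Nonempty (q.ResidueField →+* AlgebraicClosure q.ResidueField) := ⟨algebraMap _ _⟩
    refine IsPurelyInseparable.of_injective_comp_algebraMap (F := p.ResidueField)
      (E := q.ResidueField) (AlgebraicClosure q.ResidueField) ?_
    intro f g hfg
    have key : f.comp (algebraMap S q.ResidueField) = g.comp (algebraMap S q.ResidueField) := by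
      apply hPU
      ext r
      have := congr($hfg (algebraMap R p.ResidueField r))
      simp only [RingHom.comp_apply] at this ⊢
      have e : algebraMap p.ResidueField q.ResidueField (algebraMap R p.ResidueField r) =
          algebraMap S q.ResidueField (algebraMap R S r) := by
        change (Ideal.ResidueField.mapₐ p q (Algebra.ofId R S) (q.over_def p))
          (algebraMap R p.ResidueField r) = _
        rw [Ideal.ResidueField.mapₐ_apply, Ideal.ResidueField.map_algebraMap]
        rfl
      rw [← e]; exact this
    -- S → κ(q) is an epimorphism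
    have hf : ∀ y : q.ResidueField, f y = g y := by
      intro y
      obtain ⟨a, s, hs, hy⟩ := Groth.Agent.Lib.UnivHomeo.residueField_exists_frac q y
      have hs0 : algebraMap S q.ResidueField s ≠ 0 := by
        intro h0
        exact hs ((Ideal.algebraMap_residueField_eq_zero).mp h0)
      have h1 : f (algebraMap S q.ResidueField s) * f y = g (algebraMap S q.ResidueField s) * g y := by
        rw [← map_mul, ← map_mul, hy]
        exact congr($key a)
      have h2 : f (algebraMap S q.ResidueField s) = g (algebraMap S q.ResidueField s) :=
        congr($key s)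
      rw [h2] at h1
      exact mul_left_cancel₀ ((map_ne_zero g).mpr hs0) h1
    exact RingHom.ext hf

end Groth.Agent.S2161
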