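import Groth.Statements.S4513
import Groth.Agent.Lib.ImperfField_helper3
-- import your own Groth.Agent.* helpers here

set_option autoImplicit false
universe u
open EGA41
set_option maxSynthPendingDepth 3

namespace Groth.Agent.S4513

open IsLocalRing in
/-- Let A be a Noetherian local ring and k a field mapping to A such that A is formally smooth over k
for the adic topology of its maximal ideal (k discrete). Then every field K with k → K → A
(compatible ring maps) is a separable extension of k, i.e. K is geometrically reduced over k. -/
theorem result {k A K : Type u} [Field k] [CommRing A]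
    [IsLocalRing A] [IsNoetherianRing A] [Algebra k A] (h : CAlgX.IsAdicFormallySmooth k A (maximalIdeal A))
    [Field K] [Algebra k K] [Algebra K A] [IsScalarTower k K A] :
    Algebra.IsGeometricallyReduced k K := by
  classical
  rw [Groth.Agent.Lib.ImperfFieldH3.isGeometricallyReduced_iff_extension]
  intro D₀
  haveI : IsScalarTower k K (ResidueField A) := IsScalarTower.of_algebraMap_eq (fun a => by
    rw [IsScalarTower.algebraMap_apply k A (ResidueField A), IsScalarTower.algebraMap_apply k K A,
      ← IsScalarTower.algebraMap_apply K A (ResidueField A)])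
  let ι : K →ₗ[k] ResidueField A := (IsScalarTower.toAlgHom k K (ResidueField A)).toLinearMap
  let D₁ : Derivation ℤ k (ResidueField A) := ι.compDer D₀
  obtain ⟨DA, hDA⟩ := Groth.Agent.Lib.AdicFSFieldH3.exists_derivation_extension (ResidueField A)
      (maximalIdeal A) h ⟨1, fun x hx => by
        rw [pow_one] at hx
        exact (residue_eq_zero_iff x).2 hx⟩ D₁
  obtain ⟨ρ, hρ⟩ := (Algebra.linearMap K (ResidueField A)).exists_leftInverse_of_injective
    (LinearMap.ker_eq_bot.2 (algebraMap K (ResidueField A)).injective)
  refine ⟨ρ.compDer (DA.compAlgebraMap K), fun a => ?_⟩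
  show ρ (DA (algebraMap K A (algebraMap k K a))) = D₀ a
  rw [← IsScalarTower.algebraMap_apply k K A, hDA]
  show ρ (algebraMap K (ResidueField A) (D₀ a)) = D₀ a
  exact LinearMap.congr_fun hρ (D₀ a)

end Groth.Agent.S4513
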