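import Groth.Statements.S2162
import Groth.Agent.S4513
import Groth.Agent.Lib.SmoothReg_helper3
import Groth.Agent.Lib.Admissible_helper3
-- import your own Groth.Agent.* helpers here

set_option autoImplicit false
universe u
open CAlg
set_option maxSynthPendingDepth 3

namespace Groth.Agent.S2162

/-- Let `R → S` be an injective ring map of finite type between domains, with fraction fields `K ⊆ L`.
Then `R → S` is smooth at the zero ideal of `S` if and only if `L` is geometrically reduced over `K`
(the published statement phrases the condition as `L/K` being separable; here separability is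
expressed as geometric reducedness). -/
theorem result {R S K L : Type u} [CommRing R] [IsDomain R] [CommRing S]
    [IsDomain S] [Algebra R S] [FaithfulSMul R S] [Algebra.FiniteType R S] [Field K] [Field L] [Algebra R K] [IsFractionRing R K]
    [Algebra S L] [IsFractionRing S L] [Algebra K L] [Algebra R L] [IsScalarTower R S L] [IsScalarTower R K L] :
    Algebra.IsSmoothAt R (⊥ : Ideal S) ↔ Algebra.IsGeometricallyReduced K L := by
  classical
  haveI hfrac : IsFractionRing S (Localization.AtPrime (⊥ : Ideal S)) := by
    simpa [Ideal.primeCompl_bot] using Localization.isLocalization (M := (⊥ : Ideal S).primeCompl)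
  let e : Localization.AtPrime (⊥ : Ideal S) ≃ₐ[S] L :=
    IsLocalization.algEquiv (nonZeroDivisors S) _ _
  let eR : Localization.AtPrime (⊥ : Ideal S) ≃ₐ[R] L := e.restrictScalars R
  have hRK : Algebra.FormallySmooth R K :=
    Algebra.FormallySmooth.of_isLocalization (nonZeroDivisors R)
  have key : Algebra.FormallySmooth K L ↔ Algebra.IsGeometricallyReduced K L := by
    constructor
    · intro h
      exact Groth.Agent.S4513.result (k := K) (A := L) (K := L)
        (Groth.Agent.Lib.SmoothRegH3.adic_of_formallySmooth _)
    · intro h
      exact Groth.Agent.Lib.AdmissibleH3.formallySmooth_of_isGeometricallyReduced' K L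
  show Algebra.FormallySmooth R (Localization.AtPrime (⊥ : Ideal S)) ↔ _
  rw [← key]
  constructor
  · intro h
    haveI : Algebra.FormallySmooth R L := Algebra.FormallySmooth.of_equiv eR
    exact Algebra.FormallySmooth.localization_base (nonZeroDivisors R)
  · intro h
    haveI : Algebra.FormallySmooth R L := Algebra.FormallySmooth.comp R K L
    exact Algebra.FormallySmooth.of_equiv eR.symm

end Groth.Agent.S2162
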