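import Groth.Statements.S2163
import Mathlib
-- import your own Groth.Agent.* helpers here

set_option autoImplicit false
universe u
open CAlg


namespace Groth.Agent.S2163

/-- A ring `R` is coherent — every finitely generated ideal is a finitely presented module — if and only
if for every index set `A` (in the same universe) the product module `R^A` is flat. -/
theorem result {R : Type u} [CommRing R] :
    (∀ I : Ideal R, I.FG → Module.FinitePresentation R I) ↔ ∀ (A : Type u), Module.Flat R (A → R) := by
  classical
  constructor
  · -- coherent ⟹ products flat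
    intro hcoh A
    apply Module.Flat.of_forall_isTrivialRelation
    intro l f x h
    set ψ : (Fin l → R) →ₗ[R] R := Fintype.linearCombination R f with hψ
    have hψa : ∀ c, ψ c = ∑ i, c i * f i := fun c => by
      rw [hψ, Fintype.linearCombination_apply]; simp only [smul_eq_mul]
    have hfg : (LinearMap.range ψ : Ideal R).FG := by
      rw [hψ, Fintype.range_linearCombination]
      exact ⟨Finset.univ.image f, by simp⟩
    haveI : Module.FinitePresentation R (LinearMap.range ψ) := hcoh _ hfg
    have hK : (LinearMap.ker ψ).FG := by
      have := Module.FinitePresentation.fg_ker ψ.rangeRestrict ψ.surjective_rangeRestrict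
      rwa [LinearMap.ker_rangeRestrict] at this
    obtain ⟨k, b, hb⟩ := Submodule.fg_iff_exists_fin_generating_family.mp hK
    have hz : ∀ α : A, (fun i => x i α) ∈ Submodule.span R (Set.range b) := by
      intro α
      rw [hb, LinearMap.mem_ker, hψa]
      have := congrFun h α
      simp only [Finset.sum_apply, Pi.smul_apply, smul_eq_mul, Pi.zero_apply] at this
      rw [← this]
      exact Finset.sum_congr rfl fun i _ => mul_comm _ _
    have hy : ∀ α : A, ∃ c : Fin k → R, ∑ j, c j • b j = fun i => x i α := fun α =>
      Submodule.mem_span_range_iff_exists_fun R |>.mp (hz α)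
    choose y hy using hy
    refine ⟨k, fun i j => b j i, fun j α => y α j, ?_, ?_⟩
    · intro i
      funext α
      have := congrFun (hy α) i
      simp only [Finset.sum_apply, Pi.smul_apply, smul_eq_mul] at this ⊢
      rw [← this]
      exact Finset.sum_congr rfl fun j _ => mul_comm _ _
    · intro j
      have hbj : b j ∈ LinearMap.ker ψ := hb ▸ Submodule.subset_span ⟨j, rfl⟩
      rw [LinearMap.mem_ker, hψa] at hbj
      rw [← hbj]
      exact Finset.sum_congr rfl fun i _ => mul_comm _ _
  · -- products flat ⟹ coherent
    intro hflat I hI
    obtain ⟨l, f, rfl⟩ := Submodule.fg_iff_exists_fin_generating_family.mp hI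
    set ψ : (Fin l → R) →ₗ[R] R := Fintype.linearCombination R f with hψ
    have hψa : ∀ c, ψ c = ∑ i, c i * f i := fun c => by
      rw [hψ, Fintype.linearCombination_apply]; simp only [smul_eq_mul]
    have hrange : Submodule.span R (Set.range f) = LinearMap.range ψ := by
      rw [hψ, Fintype.range_linearCombination]
    rw [hrange]
    let K := LinearMap.ker ψ
    haveI := hflat K
    let x : Fin l → (K → R) := fun i κ => κ.1 i
    have hx : ∑ i, f i • x i = 0 := by
      funext κ
      simp only [Finset.sum_apply, Pi.smul_apply, smul_eq_mul, Pi.zero_apply]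
      have := κ.2
      rw [LinearMap.mem_ker, hψa] at this
      rw [← this]
      exact Finset.sum_congr rfl fun i _ => mul_comm _ _
    obtain ⟨k, a, y, h1, h2⟩ := Module.Flat.isTrivialRelation_of_sum_smul_eq_zero hx
    have hKfg : (LinearMap.ker ψ).FG := by
      rw [Submodule.fg_iff_exists_fin_generating_family]
      refine ⟨k, fun j i => a i j, le_antisymm ?_ ?_⟩
      · rw [Submodule.span_le]
        rintro _ ⟨j, rfl⟩
        rw [SetLike.mem_coe, LinearMap.mem_ker, hψa, ← h2 j]
        exact Finset.sum_congr rfl fun i _ => mul_comm _ _
      · intro κ hκ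
        rw [Submodule.mem_span_range_iff_exists_fun]
        refine ⟨fun j => y j ⟨κ, hκ⟩, ?_⟩
        funext i
        have := congrFun (h1 i) ⟨κ, hκ⟩
        simp only [Finset.sum_apply, Pi.smul_apply, smul_eq_mul] at this ⊢
        show _ = x i ⟨κ, hκ⟩
        rw [this]
        exact Finset.sum_congr rfl fun j _ => mul_comm _ _
    exact Module.finitePresentation_of_free_of_surjective ψ.rangeRestrict
      ψ.surjective_rangeRestrict (by rwa [LinearMap.ker_rangeRestrict])

end Groth.Agent.S2163
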