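import Groth.Statements.S2179
import Mathlib
import Groth.Agent.Lib.Models_helper5

set_option autoImplicit false
open Finset
open Models Models.NumericalType

namespace Groth.Agent.S2179

/-- For a numerical type T, the map Z^n -> Z^n multiplying the i-th coordinate by w i induces a
well-defined injective homomorphism from Pic(T), the cokernel of (a i j / w i), to the cokernel of
the matrix a. -/
theorem result {n : ℕ} (T : Models.NumericalType n) :
    ∃ f : T.Pic →+ T.CokerA, Function.Injective f ∧
      ∀ x : Fin n → ℤ, f (Submodule.Quotient.mk x) = Submodule.Quotient.mk (fun i => T.w i * x i) := by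
  let D : (Fin n → ℤ) →ₗ[ℤ] (Fin n → ℤ) :=
    { toFun := fun x i => T.w i * x i
      map_add' := fun x y => by funext i; simp [mul_add]
      map_smul' := fun c x => by funext i; simp [mul_left_comm] }
  have hD : ∀ x i, D x i = T.w i * x i := fun _ _ => rfl
  have hDP : ∀ x, D (Matrix.mulVecLin T.picMatrix x) = Matrix.mulVecLin T.a x := by
    intro x; funext i
    rw [hD]
    simp only [Matrix.mulVecLin_apply, Matrix.mulVec, dotProduct, Finset.mul_sum]
    refine Finset.sum_congr rfl fun j _ => ?_
    show T.w i * (T.a i j / T.w i * x j) = T.a i j * x j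
    rw [← mul_assoc, Int.mul_ediv_cancel' (T.w_dvd i j)]
  let F : (Fin n → ℤ) →ₗ[ℤ] T.CokerA := (Submodule.mkQ _).comp D
  have hF : LinearMap.range (Matrix.mulVecLin T.picMatrix) ≤ LinearMap.ker F := by
    rintro _ ⟨x, rfl⟩
    simp only [LinearMap.mem_ker, F, LinearMap.comp_apply, Submodule.mkQ_apply,
      Submodule.Quotient.mk_eq_zero]
    rw [hDP]; exact ⟨x, rfl⟩
  refine ⟨(Submodule.liftQ _ F hF).toAddMonoidHom, ?_, fun x => rfl⟩
  rw [injective_iff_map_eq_zero]
  intro z hz
  obtain ⟨x, rfl⟩ := Submodule.Quotient.mk_surjective _ z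
  have hz' : F x = 0 := hz
  simp only [F, LinearMap.comp_apply, Submodule.mkQ_apply, Submodule.Quotient.mk_eq_zero] at hz'
  obtain ⟨y, hy⟩ := hz'
  rw [← hDP] at hy
  rw [Submodule.Quotient.mk_eq_zero]
  refine ⟨y, ?_⟩
  funext i
  have := congrFun hy i
  rw [hD, hD] at this
  exact mul_left_cancel₀ (T.w_pos i).ne' this

end Groth.Agent.S2179
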