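import Groth.Statements.S2182
import Mathlib
import Groth.Agent.Lib.Models_helper5

set_option autoImplicit false
open Finset
open Models Models.NumericalType

namespace Groth.Agent.S2182

/-- In a numerical type, whenever a i j > 0 one has m i * a i j at most m j * |a j j| and m i * w i at
most m j * |a j j|. -/
theorem result {n : ℕ} (T : Models.NumericalType n) (i j : Fin n) (hij : 0 < T.a i j) :
    T.m i * T.a i j ≤ T.m j * |T.a j j| ∧ T.m i * T.w i ≤ T.m j * |T.a j j| := by
  have hne : j ≠ i := by
    rintro rfl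
    have := Groth.Agent.Lib.ModelsH5.diag_nonpos T j
    omega
  have h1 := Groth.Agent.Lib.ModelsH5.diag_eq T j
  have h2 : T.a j i * T.m i ≤ ∑ k ∈ univ.erase j, T.a j k * T.m k :=
    Finset.single_le_sum (f := fun k => T.a j k * T.m k)
      (fun k hk => mul_nonneg (T.offDiag_nonneg j k (Finset.ne_of_mem_erase hk).symm) (T.m_pos k).le)
      (mem_erase.2 ⟨hne.symm, mem_univ i⟩)
  rw [T.symm.apply i j] at h2
  have h3 : |T.a j j| = -T.a j j := abs_of_nonpos (Groth.Agent.Lib.ModelsH5.diag_nonpos T j)
  have h4 : T.m i * T.a i j ≤ T.m j * |T.a j j| := by rw [h3]; linarith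
  refine ⟨h4, le_trans ?_ h4⟩
  exact mul_le_mul_of_nonneg_left (Int.le_of_dvd hij (T.w_dvd i j)) (T.m_pos i).le

end Groth.Agent.S2182
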