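import Groth.Statements.S2187
import Mathlib
import Groth.Agent.Lib.Vasc3_helper9

set_option autoImplicit false
universe u
open CategoryTheory
open LCI

namespace Groth.Agent.S2187

/-- Let R be a Noetherian local ring and I an ideal of finite projective dimension as an R-module. If F
is a direct summand of the conormal module I/I^2 which is isomorphic to R/I, then there is a
nonzerodivisor x in I whose class in I/I^2 generates F. -/
theorem result {R : Type u} [CommRing R]
    [IsNoetherianRing R] [IsLocalRing R] (I : Ideal R) (n : ℕ)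
    (hpd : HasProjectiveDimensionLT (ModuleCat.of R I) n)
    (F G : Submodule (R ⧸ I) I.Cotangent) (hFG : IsCompl F G) (e : F ≃ₗ[R ⧸ I] (R ⧸ I)) :
    ∃ (x : R) (hx : x ∈ I), x ∈ nonZeroDivisors R ∧
      Submodule.span (R ⧸ I) {I.toCotangent ⟨x, hx⟩} = F := by
  by_cases hI : I = ⊤
  · subst hI
    haveI : Subsingleton (R ⧸ (⊤ : Ideal R)) := Ideal.Quotient.subsingleton_iff.2 rfl
    haveI : Subsingleton (⊤ : Ideal R).Cotangent := Module.subsingleton (R ⧸ (⊤ : Ideal R)) _
    refine ⟨1, trivial, one_mem _, ?_⟩
    ext m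
    have hm : m = 0 := Subsingleton.elim _ _
    rw [hm]
    simp
  · let e' : F ≃ₗ[R ⧸ I] (Fin 1 → R ⧸ I) :=
      e.trans (LinearEquiv.funUnique (Fin 1) (R ⧸ I) (R ⧸ I)).symm
    obtain ⟨x, hx, hreg, hspan⟩ :=
      Groth.Agent.Vasc9.exists_regular_of_summand I hI n hpd F G hFG 1 e'
    refine ⟨x 0, hx 0, ?_, ?_⟩
    · have h1 : List.ofFn x = [x 0] := by
        rw [List.ofFn_succ, List.ofFn_zero]
      have h2 := hreg.toIsWeaklyRegular
      rw [h1, RingTheory.Sequence.isWeaklyRegular_cons_iff] at h2
      have h3 : IsRegular (x 0) := isLeftRegular_iff_isRegular.mp (isLeftRegular_iff.mpr h2.1)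
      exact isRegular_iff_mem_nonZeroDivisors.1 h3
    · rw [← hspan]
      congr 1
      ext m
      simp only [Set.mem_singleton_iff, Set.mem_range]
      constructor
      · rintro rfl
        exact ⟨0, rfl⟩
      · rintro ⟨i, rfl⟩
        have : i = 0 := Subsingleton.elim _ _
        rw [this]

end Groth.Agent.S2187
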