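import Groth.Statements.S2190
import Mathlib
import Groth.Agent.Lib.Models_helper5

set_option autoImplicit false
open Finset
open Models Models.NumericalType

namespace Groth.Agent.S2190

/-- A minimal numerical type of genus zero has a single index, with m = 1, a = 0, w = 1 and g = 0. -/
theorem result {n : ℕ} (T : Models.NumericalType n) (hmin : T.IsMinimal) (hg : T.genus = 0) :
    n = 1 ∧ ∀ i, T.m i = 1 ∧ T.a i i = 0 ∧ T.w i = 1 ∧ T.g i = 0 := by
  have hn1 : n = 1 := by
    by_contra hne
    have hn : 1 < n := by have := T.pos; omega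
    have := Groth.Agent.Lib.ModelsH5.one_le_genus T hmin hn
    omega
  subst hn1
  refine ⟨rfl, fun i => ?_⟩
  have hrow := Groth.Agent.Lib.ModelsH5.row_sum T i
  have hi0 : i = 0 := Subsingleton.elim _ _
  subst hi0
  rw [Fin.sum_univ_one] at hrow
  have ha : T.a 0 0 = 0 := by
    rcases mul_eq_zero.1 hrow with h | h
    · exact h
    · exact absurd h (T.m_pos 0).ne'
  have hgen := Groth.Agent.Lib.ModelsH5.two_genus T
  rw [hg, Fin.sum_univ_one, ha] at hgen
  have hm := T.m_pos 0
  have hw := T.w_pos 0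
  have hg0 := T.g_nonneg 0
  have hprod : T.m 0 * T.w 0 * (1 - T.g 0) = 1 := by linarith
  have hg1 : T.g 0 = 0 := by
    by_contra hne
    have : 1 ≤ T.g 0 := by omega
    have h1 : T.m 0 * T.w 0 * (1 - T.g 0) ≤ 0 :=
      mul_nonpos_of_nonneg_of_nonpos (mul_pos hm hw).le (by omega)
    omega
  rw [hg1, sub_zero, mul_one] at hprod
  have hm1 : T.m 0 = 1 := Int.eq_one_of_mul_eq_one_right hm.le hprod
  rw [hm1, one_mul] at hprod
  exact ⟨hm1, ha, hprod, hg1⟩

end Groth.Agent.S2190
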