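import Groth.Statements.S2234
import Groth.Agent.Lib.NLPerf_helper2
import Groth.Agent.Lib.NLTorAmp5_helper6

set_option autoImplicit false
universe u
attribute [local instance] HasDerivedCategory.standard
open LCI

namespace Groth.Agent.S2234

/-- Equivalence of (1) and (4): take a ring map A -> B that is flat and of finite presentation. The
naive cotangent complex NL_{B/A} has tor-amplitude in [-1, 0] (it is isomorphic in D(B) to a
two-term complex of flat modules in those degrees) if and only if A -> B is a local complete
intersection homomorphism (some presentation has Koszul-regular kernel ideal). -/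
theorem result {A B : Type u} [CommRing A] [CommRing B] [Algebra A B]
    [Module.Flat A B] [Algebra.FinitePresentation A B] :
    DRing.HasTorAmplitudeIn B (-1) 0 (LCI.NL A B) ↔ LCI.IsLCI A B := by
  constructor
  · intro h
    exact Groth.Agent.Lib.NLTorAmpH6.isLCI_of_torAmp h
  · intro h
    exact (Groth.Agent.Lib.NLPerf.main7072 h).2

end Groth.Agent.S2234
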