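import Groth.Statements.S9376
import Groth.Agent.Lib.PB8_helper8
import Groth.Agent.Lib.NakBC_helper8
import Groth.Agent.Lib.QCohCrit2_helper9

set_option autoImplicit false
universe u
open QCohSub

namespace Groth.Agent.S9376

open AlgebraicGeometry CategoryTheory Opposite in
/-- For a closed immersion i : Z → X with ideal sheaf 𝓘 and a quasi-coherent O_X-module G, the unit G →
i_* i^* G is an isomorphism if and only if 𝓘 G = 0 (sections of 𝓘 over affine opens annihilate the
sections of G). Full faithfulness and exactness of i_* are not restated. -/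
theorem result {Z X : Scheme.{u}} (i : Z ⟶ X) [IsClosedImmersion i]
    (G : X.Modules) (hG : Coh.IsQCoh G) :
    IsIso ((Scheme.Modules.pullbackPushforwardAdjunction i).unit.app G) ↔
      ∀ (U : X.affineOpens) (a : Γ(X, U.1)), a ∈ i.ker.ideal U → ∀ s : Γ(G, U.1), a • s = 0 := by
  haveI : G.IsQuasicoherent := hG
  set η := (Scheme.Modules.pullbackPushforwardAdjunction i).unit.app G with hη
  haveI : ((Scheme.Modules.pullback i).obj G).IsQuasicoherent := PBH8.isQuasicoherent_pullback i G
  haveI : ((Scheme.Modules.pushforward i).obj ((Scheme.Modules.pullback i).obj G)).IsQuasicoherent :=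
    QCohCrit.isQuasicoherent_pushforward i _
  -- local analysis on an affine open
  have key : ∀ (V : X.Opens) (hV : IsAffineOpen V),
      Function.Bijective (η.app V) ↔
        ∀ a : Γ(X, V), a ∈ RingHom.ker (i.app V).hom → ∀ s : Γ(G, V), a • s = 0 := by
    intro V hV
    have hU' : IsAffineOpen (i ⁻¹ᵁ V) := hV.preimage i
    have hle : i ⁻¹ᵁ V ≤ i ⁻¹ᵁ V := le_rfl
    letI : Algebra Γ(X, V) Γ(Z, i ⁻¹ᵁ V) := (i.appLE V (i ⁻¹ᵁ V) hle).hom.toAlgebra
    letI : Module Γ(X, V) Γ((Scheme.Modules.pullback i).obj G, i ⁻¹ᵁ V) :=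
      Module.compHom _ (i.appLE V (i ⁻¹ᵁ V) hle).hom
    haveI : IsScalarTower Γ(X, V) Γ(Z, i ⁻¹ᵁ V) Γ((Scheme.Modules.pullback i).obj G, i ⁻¹ᵁ V) :=
      IsScalarTower.of_algebraMap_smul fun _ _ => rfl
    have hbc := PBH8.isBaseChange_cUV i G hle hU' hV
    have happ : i.appLE V (i ⁻¹ᵁ V) hle = i.app V := by
      simp [Scheme.Hom.appLE]
    have hsurj : Function.Surjective (algebraMap Γ(X, V) Γ(Z, i ⁻¹ᵁ V)) := by
      change Function.Surjective (i.appLE V (i ⁻¹ᵁ V) hle).hom
      rw [happ]
      exact i.app_surjective V hV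
    have hker : RingHom.ker (algebraMap Γ(X, V) Γ(Z, i ⁻¹ᵁ V)) = RingHom.ker (i.app V).hom := by
      change RingHom.ker (i.appLE V (i ⁻¹ᵁ V) hle).hom = _
      rw [happ]
    have hc : ∀ s : Γ(G, V), η.app V s = PBH8.cUVLin i G hle s := by
      intro s
      change _ = PBH8.cUV i G hle s
      unfold PBH8.cUV
      have : (homOfLE hle).op = 𝟙 _ := rfl
      rw [this, CategoryTheory.Functor.map_id]
      rfl
    constructor
    · intro hbij a ha s
      apply hbij.1
      rw [map_zero, hc, map_smul]
      have : algebraMap Γ(X, V) Γ(Z, i ⁻¹ᵁ V) a = 0 := by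
        rw [← hker] at ha; exact ha
      rw [← algebraMap_smul Γ(Z, i ⁻¹ᵁ V) a, this, zero_smul]
      rfl
    · intro hann
      constructor
      · rw [injective_iff_map_eq_zero]
        intro s hs
        rw [hc] at hs
        have h1 := PBH8.IsBaseChange.ker_le_smul_top hsurj hbc s hs
        have h2 : RingHom.ker (algebraMap Γ(X, V) Γ(Z, i ⁻¹ᵁ V)) • (⊤ : Submodule Γ(X, V) Γ(G, V)) = ⊥ := by
          rw [eq_bot_iff, Submodule.smul_le]
          intro a ha s _
          rw [hker] at ha
          exact (Submodule.mem_bot _).mpr (hann a ha s)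
        rw [h2] at h1
        exact (Submodule.mem_bot _).mp h1
      · intro y
        obtain ⟨s, hs⟩ := PBH8.IsBaseChange.surjective_of_surjective hsurj hbc y
        exact ⟨s, (hc s).trans hs⟩
  constructor
  · intro hiso U a ha s
    have hbij : Function.Bijective (η.app U.1) :=
      (ConcreteCategory.isIso_iff_bijective (η.app U.1)).mp inferInstance
    refine (key U.1 U.2).mp hbij a ?_ s
    rw [Scheme.Hom.ker_apply] at ha
    exact ha
  · intro hann
    refine QCohCrit.isIso_of_bijective_on_cover (A := G)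
      (B := (Scheme.Modules.pushforward i).obj ((Scheme.Modules.pullback i).obj G)) η
      (fun U : X.affineOpens => U.1) (fun U => U.2)
      (iSup_affineOpens_eq_top X) (fun U => ?_)
    refine (key U.1 U.2).mpr (fun a ha s => hann U a ?_ s)
    rw [Scheme.Hom.ker_apply]
    exact ha

end Groth.Agent.S9376
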