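import Groth.Statements.S2335
import Mathlib
import Groth.Agent.Lib.ValCrit8_helper6
-- import your own Groth.Agent.* helpers here

set_option autoImplicit false
universe u
open CategoryTheory CategoryTheory.Limits AlgebraicGeometry
open EGA2

namespace Groth.Agent.S2335

/-- Let Y be locally Noetherian and f : X → Y of finite type. Then f is proper if and only if for every
discrete valuation ring A with fraction field K and every commutative square Spec K → X, Spec A → Y,
there is exactly one morphism Spec A → X making both triangles commute. -/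
theorem result {X Y : Scheme.{u}} [IsLocallyNoetherian Y] (f : X ⟶ Y) [LocallyOfFiniteType f] [QuasiCompact f] :
    IsProper f ↔ ∀ (A : Type u) [CommRing A] [IsDomain A] [IsDiscreteValuationRing A] (x : (Spec (CommRingCat.of (FractionRing A))) ⟶ X) (y : (Spec (CommRingCat.of A)) ⟶ Y),
      x ≫ f = (Spec.map (CommRingCat.ofHom (algebraMap A (FractionRing A)))) ≫ y → ∃! l : (Spec (CommRingCat.of A)) ⟶ X, l ≫ f = y ∧ (Spec.map (CommRingCat.ofHom (algebraMap A (FractionRing A)))) ≫ l = x := by

  constructor
  · intro hprop A _ _ _ x y w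
    obtain ⟨l, hl1, hl2⟩ := Groth.Agent.Lib.ValCrit.dvrExistence_of_universallyClosed f A x y w
    refine ⟨l, ⟨hl1, hl2⟩, ?_⟩
    rintro l' ⟨hl1', hl2'⟩
    exact Groth.Agent.Lib.ValCrit.dvrUniqueness_of_isSeparated f A l' l (hl1'.trans hl1.symm)
      (hl2'.trans hl2.symm)
  · intro h
    refine Groth.Agent.Lib.ValCrit.isProper_of_dvr (f := f) ?_ ?_
    · intro A _ _ _ x y w
      obtain ⟨l, hl, -⟩ := h A x y w
      exact ⟨l, hl⟩
    · intro A _ _ _ g₁ g₂ h1 h2
      obtain ⟨l, -, hl⟩ := h A
        (Spec.map (CommRingCat.ofHom (algebraMap A (FractionRing A))) ≫ g₁) (g₁ ≫ f)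
        (by rw [Category.assoc])
      rw [hl g₁ ⟨rfl, rfl⟩, hl g₂ ⟨h1.symm, h2.symm⟩]

end Groth.Agent.S2335
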