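import Groth.Statements.S2337
import Groth.Agent.Lib.Tens14_helper8

set_option autoImplicit false
universe u
open CategoryTheory CategoryTheory.Limits AlgebraicGeometry
open EGA2

namespace Groth.Agent.S2337

/-- Let f : X → Y be quasi-compact. Then f is quasi-affine (preimages of affine opens are quasi-affine)
if and only if O_X is ample relative to f. -/
theorem result {X Y : Scheme.{u}} (f : X ⟶ Y) [QuasiCompact f] :
    Mor2.IsQuasiAffine f ↔ RelAmple.IsRelAmple f (Coh.structureModule X) := by
  unfold Mor2.IsQuasiAffine RelAmple.IsRelAmple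
  refine and_congr Iff.rfl ?_
  have key : ∀ V : Y.Opens, IsAffineOpen V →
      (CohB1.IsAmple ((Coh.structureModule X).restrict (f ⁻¹ᵁ V).ι) ↔
        Scheme.IsQuasiAffine (f ⁻¹ᵁ V : Scheme.{u})) := by
    intro V hV
    haveI : CompactSpace ((f ⁻¹ᵁ V).toScheme) := isCompact_iff_compactSpace.mp
      (QuasiCompact.isCompact_preimage (f := f) _ V.isOpen hV.isCompact)
    exact TensH8.isAmple_iff_isQuasiAffine_of_frame
      (TensH8.isInvertible_restrict _ TensH8.isInvertible_structureModule)
      ((TensH8.Frame.unit (Coh.structureModule X)).restrict (f ⁻¹ᵁ V).ι)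
  constructor
  · intro h V
    exact (key V.1 V.2).mpr (h V.1 V.2)
  · intro h V hV
    exact (key V hV).mp (h ⟨V, hV⟩)

end Groth.Agent.S2337
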