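import Groth.Statements.S2338
import Groth.Agent.Lib.QuasiAffine_helper3
-- import your own Groth.Agent.* helpers here

set_option autoImplicit false
universe u
open CategoryTheory CategoryTheory.Limits AlgebraicGeometry
open Groth.Agent.Lib.QuasiAffine_helper3
open EGA2

namespace Groth.Agent.S2338

/-- The composite of two quasi-affine morphisms is quasi-affine. -/
theorem result {X Y Z : Scheme.{u}} (f : X ⟶ Y) (g : Y ⟶ Z) (hf : Mor2.IsQuasiAffine f) (hg : Mor2.IsQuasiAffine g) :
    Mor2.IsQuasiAffine (f ≫ g) := by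
  obtain ⟨hf1, hf2⟩ := (mor2_iff f).mp hf
  obtain ⟨hg1, hg2⟩ := (mor2_iff g).mp hg
  exact (mor2_iff _).mpr ⟨inferInstance, PQA_comp f g hf2 hg2⟩

end Groth.Agent.S2338
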