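import Groth.Statements.S2340
import Groth.Agent.Lib.QuasiAffine_helper3
-- import your own Groth.Agent.* helpers here

set_option autoImplicit false
universe u
open CategoryTheory CategoryTheory.Limits AlgebraicGeometry
open Groth.Agent.Lib.QuasiAffine_helper3
open EGA2

namespace Groth.Agent.S2340

/-- Let f : X → Y and g : Y → Z be morphisms of schemes with g ∘ f quasi-affine and g quasi-separated.
Then f is quasi-affine. -/
theorem result {X Y Z : Scheme.{u}} (f : X ⟶ Y) (g : Y ⟶ Z) [QuasiSeparated g]
    (h : Mor2.IsQuasiAffine (f ≫ g)) : Mor2.IsQuasiAffine f := by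
  obtain ⟨h1, h2⟩ := (mor2_iff _).mp h
  let Γf : X ⟶ pullback (f ≫ g) g := pullback.lift (𝟙 X) f (by simp)
  have e1 : Γf ≫ pullback.fst (f ≫ g) g = 𝟙 X := pullback.lift_fst ..
  have e2 : Γf ≫ pullback.snd (f ≫ g) g = f := pullback.lift_snd ..
  have hi : IsImmersion Γf := by
    have : IsImmersion (Γf ≫ pullback.fst (f ≫ g) g) := by rw [e1]; infer_instance
    exact IsImmersion.of_comp Γf (pullback.fst _ _)
  have hqs : QuasiSeparated (pullback.fst (f ≫ g) g) :=
    MorphismProperty.pullback_fst (P := @QuasiSeparated) _ _ inferInstance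
  have hqc : QuasiCompact Γf := by
    have : QuasiCompact (Γf ≫ pullback.fst (f ≫ g) g) := by rw [e1]; infer_instance
    exact QuasiCompact.of_comp Γf (pullback.fst _ _)
  have hsnd : PQA (pullback.snd (f ≫ g) g) := MorphismProperty.pullback_snd (P := PQA) _ _ h2
  have hsndqc : QuasiCompact (pullback.snd (f ≫ g) g) :=
    MorphismProperty.pullback_snd (P := @QuasiCompact) _ _ h1
  rw [← e2]
  exact (mor2_iff _).mpr ⟨inferInstance, PQA_comp Γf _ (PQA_of_isImmersion Γf) hsnd⟩

end Groth.Agent.S2340
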