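import Groth.Statements.S2341
import Mathlib
-- import your own Groth.Agent.* helpers here

set_option autoImplicit false
universe u
open CategoryTheory CategoryTheory.Limits AlgebraicGeometry
open EGA2

namespace Groth.Agent.S2341

open TopologicalSpace in
theorem isQuasiAffine_of_isEmbedding {X Y : Scheme.{u}} (g : X ⟶ Y) [IsAffine Y] [CompactSpace X]
    (hg : Topology.IsEmbedding g.base) : X.IsQuasiAffine := by
  refine .of_forall_exists_mem_basicOpen _ fun x => ?_
  obtain ⟨_, ⟨W, hW : IsAffineOpen W, rfl⟩, hxW, -⟩ :=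
    X.isBasis_affineOpens.exists_subset_of_mem_open (Set.mem_univ x) isOpen_univ
  obtain ⟨W', hW'o, hW'⟩ := hg.isInducing.isOpen_iff.mp W.2
  have hgx : g.base x ∈ W' := by rw [← Set.mem_preimage, hW']; exact hxW
  obtain ⟨_, ⟨s, rfl⟩, hxs, hsW'⟩ := Opens.isBasis_iff_nbhd.mp (isBasis_basicOpen Y) (U := ⟨W', hW'o⟩) hgx
  refine ⟨g.appTop s, ?_, ?_⟩
  · have hle : X.basicOpen (g.appTop s) ≤ W := by
      rw [← Scheme.preimage_basicOpen_top]
      intro z hz
      have : g.base z ∈ W' := hsW' hz
      rw [← Set.mem_preimage, hW'] at this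
      exact this
    have h1 : X.basicOpen (X.presheaf.map (homOfLE (le_top : W ≤ ⊤)).op (g.appTop s)) = X.basicOpen (g.appTop s) := by
      rw [Scheme.basicOpen_res]
      exact inf_eq_right.mpr hle
    rw [← h1]
    exact hW.basicOpen _
  · rw [← Scheme.preimage_basicOpen_top]
    exact hxs


/-- A quasi-compact morphism X → Y whose underlying map is a homeomorphism onto its image (for instance
a closed immersion) is quasi-affine. -/
theorem result {X Y : Scheme.{u}} (f : X ⟶ Y) [QuasiCompact f]
    (hf : Topology.IsEmbedding f.base) : Mor2.IsQuasiAffine f := by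
  refine ⟨inferInstance, fun V hV => ?_⟩
  have : IsAffine (V : Scheme.{u}) := hV
  have : CompactSpace ((f ⁻¹ᵁ V : X.Opens) : Scheme.{u}) :=
    isCompact_iff_compactSpace.mp (QuasiCompact.isCompact_preimage (f := f) _ V.2 hV.isCompact)
  refine isQuasiAffine_of_isEmbedding (f ∣_ V) ?_
  rw [morphismRestrict_base]
  exact hf.restrictPreimage _

end Groth.Agent.S2341
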