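import Groth.Statements.S2346
import Mathlib
import Groth.Agent.Lib.CurveTop_helper7

set_option autoImplicit false
universe u
open CategoryTheory CategoryTheory.Limits AlgebraicGeometry
open EGA2

namespace Groth.Agent.S2346

/-- Let X and Y be irreducible algebraic curves over k (separated, of finite type, local rings at closed
points one-dimensional) and f : X → Y a k-morphism. Then f is dominant if and only if every fibre
f⁻¹(y) is a finite set. -/
theorem result (k : Type u) [Field k] (X Y : Scheme.{u}) [X.Over (Spec (CommRingCat.of k))] [Y.Over (Spec (CommRingCat.of k))]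
    [LocallyOfFiniteType (X ↘ (Spec (CommRingCat.of k)))] [QuasiCompact (X ↘ (Spec (CommRingCat.of k)))] [IsSeparated (X ↘ (Spec (CommRingCat.of k)))] [LocallyOfFiniteType (Y ↘ (Spec (CommRingCat.of k)))] [QuasiCompact (Y ↘ (Spec (CommRingCat.of k)))] [IsSeparated (Y ↘ (Spec (CommRingCat.of k)))] [IrreducibleSpace X] [IrreducibleSpace Y]
    (hX : (∀ x : X, IsClosed ({x} : Set X) → ringKrullDim (X.presheaf.stalk x) = 1)) (hY : (∀ x : Y, IsClosed ({x} : Set Y) → ringKrullDim (Y.presheaf.stalk x) = 1))
    (f : X ⟶ Y) (hf : f ≫ (Y ↘ (Spec (CommRingCat.of k))) = X ↘ (Spec (CommRingCat.of k))) :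
    IsDominant f ↔ ∀ y : Y, (f.base ⁻¹' {y}).Finite := by
  haveI : IsLocallyNoetherian X :=
    LocallyOfFiniteType.isLocallyNoetherian (X ↘ (Spec (CommRingCat.of k)))
  haveI : CompactSpace X :=
    QuasiCompact.compactSpace_of_compactSpace (X ↘ (Spec (CommRingCat.of k)))
  haveI : CompactSpace Y :=
    QuasiCompact.compactSpace_of_compactSpace (Y ↘ (Spec (CommRingCat.of k)))
  haveI : AlgebraicGeometry.IsNoetherian X := AlgebraicGeometry.IsNoetherian.mk
  haveI : JacobsonSpace X := LocallyOfFiniteType.jacobsonSpace (X ↘ (Spec (CommRingCat.of k)))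
  haveI : JacobsonSpace Y := LocallyOfFiniteType.jacobsonSpace (Y ↘ (Spec (CommRingCat.of k)))
  haveI : LocallyOfFiniteType f := by
    haveI : LocallyOfFiniteType (f ≫ (Y ↘ (Spec (CommRingCat.of k)))) := by rw [hf]; infer_instance
    exact locallyOfFiniteType_of_comp f (Y ↘ (Spec (CommRingCat.of k)))
  have hclX := Groth.Agent.Lib.CurveTopH7.isClosed_of_ne_genericPoint hX
  have hclY := Groth.Agent.Lib.CurveTopH7.isClosed_of_ne_genericPoint hY
  have hξX := Groth.Agent.Lib.CurveTopH7.not_isClosed_genericPoint hX
  have hξY := Groth.Agent.Lib.CurveTopH7.not_isClosed_genericPoint hY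
  constructor
  · intro hdom y
    have hfξ : f (genericPoint X) = genericPoint Y :=
      Groth.Agent.Lib.CurveTopH7.map_genericPoint_of_isDominant f
    by_cases hy : y = genericPoint Y
    · rw [hy]
      refine (Set.finite_singleton (genericPoint X)).subset ?_
      intro x hx
      have hx' : f x = genericPoint Y := hx
      by_contra hne
      have hxcl : IsClosed ({x} : Set X) := hclX x hne
      have h1 : IsClosed ({f x} : Set Y) := f.closePoints_subset_preimage_closedPoints hxcl
      rw [hx'] at h1
      exact hξY h1
    · have hycl := hclY y hy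
      apply Groth.Agent.Lib.CurveTopH7.finite_of_isClosed_of_forall_isClosed _
        (hycl.preimage f.continuous)
      intro z hz
      have hz' : f z = y := hz
      apply hclX
      rintro rfl
      exact hy (hz'.symm.trans hfξ)
  · intro hfin
    by_cases h0 : f (genericPoint X) = genericPoint Y
    · constructor
      have h1 : Dense ({genericPoint Y} : Set Y) := by
        rw [dense_iff_closure_eq]; exact genericPoint_spec Y
      refine h1.mono ?_
      intro y hy
      rw [Set.mem_singleton_iff] at hy
      exact ⟨genericPoint X, h0.trans hy.symm⟩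
    · exfalso
      have hcl := hclY _ h0
      have hall : ∀ x : X, f x = f (genericPoint X) := by
        intro x
        have h1 : f (genericPoint X) ⤳ f x := (genericPoint_specializes x).map f.continuous
        have h2 : f x ∈ closure ({f (genericPoint X)} : Set Y) := specializes_iff_mem_closure.mp h1
        rw [hcl.closure_eq] at h2
        exact h2
      have hfinX : (Set.univ : Set X).Finite :=
        (hfin (f (genericPoint X))).subset (fun x _ => hall x)
      haveI : Finite X := Set.finite_univ_iff.mp hfinX
      haveI : DiscreteTopology X := inferInstance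
      exact hξX (isClosed_discrete _)

end Groth.Agent.S2346
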