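import Groth.Statements.S2349
import Mathlib
-- import your own Groth.Agent.* helpers here

set_option autoImplicit false
universe u
open CategoryTheory CategoryTheory.Limits AlgebraicGeometry

open EGA2

namespace Groth.Agent.S2349

/-- Let f : X → Y be separated and of finite type, and let j_i : X_i → X and h_i : Y_i → Y (i in a
finite index type) be closed immersions with morphisms f_i : X_i → Y_i satisfying j_i ≫ f = f_i ≫
h_i, such that the images of the j_i cover X. Then f is proper if and only if every f_i is proper. -/
theorem result {X Y : Scheme.{u}} (f : X ⟶ Y) [IsSeparated f] [LocallyOfFiniteType f] [QuasiCompact f]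
    (ι : Type u) [Finite ι] (Xi Yi : ι → Scheme.{u}) (j : ∀ i, Xi i ⟶ X) (h : ∀ i, Yi i ⟶ Y) (fi : ∀ i, Xi i ⟶ Yi i)
    [∀ i, IsClosedImmersion (j i)] [∀ i, IsClosedImmersion (h i)] (hcomm : ∀ i, j i ≫ f = fi i ≫ h i)
    (hcov : ∀ x : X, ∃ i, x ∈ Set.range (j i).base) : IsProper f ↔ ∀ i, IsProper (fi i) := by
  classical
  constructor
  · intro hf i
    have h1 : IsProper (j i ≫ f) := inferInstance
    rw [hcomm i] at h1
    exact IsProper.of_comp (fi i) (h i)
  · intro hfi
    have hprop : ∀ i, IsProper (j i ≫ f) := by
      intro i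
      rw [hcomm i]
      have := hfi i
      infer_instance
    have huc : UniversallyClosed f := by
      rw [universallyClosed_eq]
      intro X' Y' i₁ i₂ f' hpb
      change IsClosedMap f'.base
      have hcl : ∀ i, IsClosedMap ((pullback.snd (j i) i₁ ≫ f').base) := by
        intro i
        have hp1 : IsPullback (pullback.snd (j i) i₁) (pullback.fst (j i) i₁) i₁ (j i) :=
          (IsPullback.of_hasPullback (j i) i₁).flip
        have hp2 := hp1.paste_horiz hpb
        have h3 : UniversallyClosed (j i ≫ f) := by
          have := hprop i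
          infer_instance
        rw [universallyClosed_eq] at h3
        exact h3 _ _ _ hp2
      have hcovX' : ∀ x' : X', ∃ i, x' ∈ Set.range (pullback.snd (j i) i₁).base := by
        intro x'
        obtain ⟨i, xi, hxi⟩ := hcov (i₁.base x')
        obtain ⟨z, -, hz⟩ := Scheme.Pullback.exists_preimage_pullback (f := j i) (g := i₁) xi x' hxi
        exact ⟨i, z, hz⟩
      intro Z hZ
      have hZeq : f'.base '' Z = ⋃ i, (pullback.snd (j i) i₁ ≫ f').base '' ((pullback.snd (j i) i₁).base ⁻¹' Z) := by
        ext y
        simp only [Set.mem_image, Set.mem_iUnion, Set.mem_preimage]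
        constructor
        · rintro ⟨x', hx', rfl⟩
          obtain ⟨i, z, hz⟩ := hcovX' x'
          exact ⟨i, z, by rw [hz]; exact hx', by rw [← hz]; rfl⟩
        · rintro ⟨i, z, hz, rfl⟩
          exact ⟨_, hz, rfl⟩
      rw [hZeq]
      exact isClosed_iUnion_of_finite fun i =>
        hcl i _ (hZ.preimage (pullback.snd (j i) i₁).base.hom.continuous)
    exact { }

end Groth.Agent.S2349
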