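import Groth.Statements.S2454
import Groth.Agent.Lib.FSNilp_helper3
import Groth.Agent.Lib.SepSmooth_helper3
-- import your own Groth.Agent.* helpers here

set_option autoImplicit false
universe u
open EGA41
set_option maxSynthPendingDepth 3

namespace Groth.Agent.S2454

open IsLocalRing in
/-- Let A → B be a local homomorphism of Noetherian local rings making B a Cohen A-algebra. Then B, with
its adic topology, is formally smooth over A with its adic topology. -/
theorem result {A B : Type u} [CommRing A] [IsLocalRing A] [CommRing B] [IsLocalRing B]
    [Algebra A B] [IsLocalHom (algebraMap A B)] (h : EGA41.IsCohenAlgebra A B) :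
    EGA41.IsFormallySmoothAdic A (maximalIdeal A) B (maximalIdeal B) := by
  obtain ⟨hA, hB, hcomp, hflat, hmax, hsep⟩ := h
  haveI := hflat
  haveI := hsep
  apply Groth.Agent.Lib.FSNilpH3.isFormallySmoothAdic_of_forall
  intro n
  refine Groth.Agent.Lib.FSNilpH3.formallySmooth_quot_pow (maximalIdeal A)
    (residue A) (residue B) (algebraMap (ResidueField A) (ResidueField B))
    residue_surjective residue_surjective ?_ ker_residue ?_ ?_ n
  · exact RingHom.ext fun a => rfl
  · rw [ker_residue, hmax]
  · rw [RingHom.formallySmooth_algebraMap]
    exact Groth.Agent.Lib.SepSmoothH3.formallySmooth_of_isGeometricallyReduced _ _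

end Groth.Agent.S2454
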