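import Groth.Statements.S2459
import Groth.Agent.Lib.CohenLift3_helper3
import Groth.Agent.Lib.CohenRing_helper3
-- import your own Groth.Agent.* helpers here

set_option autoImplicit false
universe u
open EGA41
set_option maxSynthPendingDepth 3

namespace Groth.Agent.S2459

open IsLocalRing in
/-- Let A be an Artinian local ring with maximal ideal 𝔪 and residue field of characteristic p (p = 0
allowed). Then A is isomorphic to a quotient of a Cohen ring if and only if 𝔪 is generated by p·1. -/
theorem result {A : Type u} [CommRing A] [IsLocalRing A] [IsArtinianRing A]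
    (p : ℕ) [CharP (ResidueField A) p] :
    (∃ (W : Type u) (_ : CommRing W) (I : Ideal W), EGA41.IsCohenRingEGA W ∧ Nonempty (A ≃+* W ⧸ I)) ↔
      maximalIdeal A = Ideal.span {(p : A)} := by
  classical
  constructor
  · rintro ⟨W, _, I, hW, ⟨e⟩⟩
    haveI : IsLocalRing W := by
      rcases hW with ⟨hfield, -⟩ | ⟨hdom, hdvr, -⟩
      · letI := hfield.toField
        infer_instance
      · haveI := hdom
        haveI := hdvr
        infer_instance
    haveI : IsLocalRing (W ⧸ I) := e.isLocalRing
    obtain ⟨q, hq⟩ := CharP.exists (ResidueField W)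
    haveI := hq
    obtain ⟨-, -, hm, -⟩ := Groth.Agent.Lib.CohenLiftH3.cohen_basic hW q
    have hmI : maximalIdeal (W ⧸ I) = Ideal.span {(q : W ⧸ I)} := by
      rw [← Groth.Agent.Lib.CohenLiftH3.map_mk_maximalIdeal I, hm, Ideal.map_span,
        Set.image_singleton, map_natCast]
    -- transport to `A`
    have hmA : maximalIdeal A = Ideal.span {(q : A)} := by
      ext a
      have h1 : a ∈ maximalIdeal A ↔ e a ∈ maximalIdeal (W ⧸ I) := by
        rw [mem_maximalIdeal, mem_maximalIdeal, mem_nonunits_iff, mem_nonunits_iff]
        exact not_congr (MulEquiv.isUnit_map e.toMulEquiv).symm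
      rw [h1, hmI, Ideal.mem_span_singleton', Ideal.mem_span_singleton']
      constructor
      · rintro ⟨c, hc⟩
        refine ⟨e.symm c, ?_⟩
        apply e.injective
        rw [map_mul, RingEquiv.apply_symm_apply, map_natCast, hc]
      · rintro ⟨c, hc⟩
        refine ⟨e c, ?_⟩
        rw [← hc, map_mul, map_natCast]
    -- compare `p` and `q`
    have hpA : (p : A) ∈ maximalIdeal A := by
      rw [← residue_eq_zero_iff, map_natCast]
      exact CharP.cast_eq_zero _ p
    have hqK : (q : ResidueField A) = 0 := by
      rw [← map_natCast (residue A), residue_eq_zero_iff, hmA]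
      exact Ideal.subset_span rfl
    have hpq : p ∣ q := (CharP.cast_eq_zero_iff (ResidueField A) p q).1 hqK
    by_cases hq0 : q = 0
    · subst hq0
      rw [Nat.cast_zero, Ideal.span_singleton_eq_bot.2 rfl] at hmA
      rw [hmA] at hpA
      have : (p : A) = 0 := hpA
      rw [hmA, this]
      exact (Ideal.span_singleton_eq_bot.2 rfl).symm
    · have hqp : q.Prime := (CharP.char_is_prime_or_zero (ResidueField W) q).resolve_right hq0
      rcases (Nat.dvd_prime hqp).1 hpq with h | h
      · exact absurd h (CharP.char_ne_one (ResidueField A) p)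
      · rw [h]
        exact hmA
  · intro hmA
    by_cases hp0 : p = 0
    · subst hp0
      rw [Nat.cast_zero, Ideal.span_singleton_eq_bot.2 rfl] at hmA
      have hfield : IsField A := isField_iff_maximalIdeal_eq.2 hmA
      haveI : CharZero (ResidueField A) := CharP.charP_to_charZero _
      have hcz : CharZero A := ⟨fun m n h => by
        have := congrArg (residue A) h
        rw [map_natCast, map_natCast] at this
        exact Nat.cast_injective this⟩
      exact ⟨A, inferInstance, ⊥, Or.inl ⟨hfield, hcz⟩, ⟨(RingEquiv.quotientBot A).symm⟩⟩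
    · have hpp : p.Prime := (CharP.char_is_prime_or_zero (ResidueField A) p).resolve_right hp0
      haveI : Fact p.Prime := ⟨hpp⟩
      obtain ⟨Λ, _, _, hΛ, ⟨e₀⟩⟩ :=
        Groth.Agent.Lib.CohenRingH3.exists_cohenRing p (ResidueField A)
      have hW : EGA41.IsCohenRingEGA Λ := Or.inr hΛ
      haveI : CharP (ResidueField Λ) p :=
        charP_of_injective_ringHom (f := (e₀.symm : ResidueField A →+* ResidueField Λ))
          e₀.symm.injective p
      obtain ⟨hN, hC, hm, -⟩ := Groth.Agent.Lib.CohenLiftH3.cohen_basic hW p
      haveI : IsNoetherianRing A := inferInstance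
      let ũ : Λ →+* A ⧸ maximalIdeal A := (e₀ : ResidueField Λ →+* ResidueField A).comp (residue Λ)
      haveI : IsLocalHom ũ := ⟨fun a ha => by
        have h1 : IsUnit (e₀ (residue Λ a)) := ha
        have h2 : IsUnit (residue Λ a) := by
          have := h1.map (e₀.symm : ResidueField A →+* ResidueField Λ)
          simpa using this
        exact isUnit_of_map_unit (residue Λ) a h2⟩
      haveI : IsLocalRing (A ⧸ maximalIdeal A) := inferInstanceAs (IsLocalRing (ResidueField A))
      obtain ⟨v, hvloc, hv⟩ := Groth.Agent.Lib.CohenLiftH3.exists_lift_to_complete hW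
        (maximalIdeal A) (maximalIdeal.isMaximal A).ne_top ũ
      have hres : ∀ x, residue A (v x) = e₀ (residue Λ x) := fun x => RingHom.congr_fun hv x
      have hmap : (maximalIdeal Λ).map v = maximalIdeal A := by
        rw [hm, hmA, Ideal.map_span, Set.image_singleton, map_natCast]
      have hsurj : Function.Surjective v := by
        haveI : IsHausdorff ((maximalIdeal Λ).map v) A := hmap.symm ▸ inferInstance
        apply surjective_of_mk_map_comp_surjective (I := maximalIdeal Λ) v
        intro y
        obtain ⟨y', rfl⟩ := Ideal.Quotient.mk_surjective y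
        obtain ⟨x, hx⟩ := residue_surjective (e₀.symm (residue A y'))
        refine ⟨x, ?_⟩
        show Ideal.Quotient.mk _ (v x) = Ideal.Quotient.mk _ y'
        rw [Ideal.Quotient.eq, hmap]
        have : residue A (v x - y') = 0 := by
          rw [map_sub, hres, hx, RingEquiv.apply_symm_apply, sub_self]
        exact (residue_eq_zero_iff _).1 this
      exact ⟨Λ, inferInstance, RingHom.ker v, hW,
        ⟨(RingHom.quotientKerEquivOfSurjective hsurj).symm⟩⟩

end Groth.Agent.S2459
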