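import Groth.Statements.S2464
import Groth.Agent.Lib.PBasis3_helper3
-- import your own Groth.Agent.* helpers here

set_option autoImplicit false
universe u
open EGA41
set_option maxSynthPendingDepth 3

namespace Groth.Agent.S2464

/-- Let p be a prime, B a ring of characteristic p and A → B an injective ring map whose image contains
every p-th power, and (x_α) a p-basis of B over A. Let E be an A-algebra and q : E → B a surjective
A-algebra homomorphism whose kernel K has K^p = 0. (i) q admits an A-algebra right inverse if and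
only if, for all z ∈ E and a ∈ A with a ↦ q(z)^p in B, the image of a in E is z^p. (ii) When this
holds, for every family (z_α) in E with q(z_α) = x_α there is a unique A-algebra homomorphism v : B
→ E with v(x_α) = z_α for all α, and q ∘ v is the identity. -/
theorem result (p : ℕ) [Fact p.Prime] {A B : Type u} [CommRing A] [CommRing B] [Algebra A B] [CharP B p]
    (hinj : Function.Injective (algebraMap A B)) (hpow : ∀ b : B, b ^ p ∈ Set.range (algebraMap A B))
    {ι : Type u} (x : ι → B) (hx : EGA41.IsPBasis p A x)
    {E : Type u} [CommRing E] [Algebra A E] (q : E →ₐ[A] B) (hq : Function.Surjective q) (hK : RingHom.ker q.toRingHom ^ p = ⊥) :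
    ((∃ v : B →ₐ[A] E, q.comp v = AlgHom.id A B) ↔ ∀ (z : E) (a : A), algebraMap A B a = q z ^ p → algebraMap A E a = z ^ p) ∧
    ((∀ (z : E) (a : A), algebraMap A B a = q z ^ p → algebraMap A E a = z ^ p) →
      ∀ z : ι → E, (∀ i, q (z i) = x i) →
        (∃! v : B →ₐ[A] E, ∀ i, v (x i) = z i) ∧ ∀ v : B →ₐ[A] E, (∀ i, v (x i) = z i) → q.comp v = AlgHom.id A B) := by
  classical
  obtain ⟨hli, hsp⟩ := Groth.Agent.Lib.PBasisH3.isPBasis_base p x hinj hpow hx
  choose a ha using fun i => hpow (x i)
  -- part (ii) core
  have part2 : (∀ (z : E) (a : A), algebraMap A B a = q z ^ p → algebraMap A E a = z ^ p) →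
      ∀ z : ι → E, (∀ i, q (z i) = x i) →
        (∃! v : B →ₐ[A] E, ∀ i, v (x i) = z i) ∧
          ∀ v : B →ₐ[A] E, (∀ i, v (x i) = z i) → q.comp v = AlgHom.id A B := by
    intro H z hz
    have hzp : ∀ i, z i ^ p = algebraMap A E (a i) := fun i =>
      (H (z i) (a i) (by rw [ha, hz])).symm
    refine ⟨Groth.Agent.Lib.PBasisH3.existsUnique_algHom p x a ha hli hsp z hzp, ?_⟩
    intro v hv
    have huniq := Groth.Agent.Lib.PBasisH3.existsUnique_algHom p x a ha hli hsp x
      (fun i => (ha i).symm)
    refine huniq.unique ?_ ?_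
    · intro i
      show q (v (x i)) = x i
      rw [hv, hz]
    · intro i
      rfl
  refine ⟨⟨?_, ?_⟩, part2⟩
  · rintro ⟨v, hv⟩ z r hr
    -- characteristic p on E
    haveI : Nontrivial B := CharP.nontrivial_of_char_ne_one (R := B) (v := p) (Fact.out : p.Prime).ne_one
    haveI : Nontrivial E := q.toRingHom.domain_nontrivial
    have hpA : (p : A) = 0 := by
      apply hinj
      rw [map_natCast, map_zero]
      exact CharP.cast_eq_zero B p
    have hpE : (p : E) = 0 := by
      rw [← map_natCast (algebraMap A E), hpA, map_zero]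
    haveI : CharP E p := (CharP.charP_iff_prime_eq_zero (Fact.out : p.Prime)).2 hpE
    have hk : z - v (q z) ∈ RingHom.ker q.toRingHom := by
      rw [RingHom.mem_ker]
      show q (z - v (q z)) = 0
      rw [map_sub]
      have : q (v (q z)) = (q.comp v) (q z) := rfl
      rw [this, hv]
      simp
    have hkp : (z - v (q z)) ^ p = 0 := by
      have h1 : (z - v (q z)) ^ p ∈ RingHom.ker q.toRingHom ^ p := Ideal.pow_mem_pow hk p
      rw [hK] at h1
      exact h1
    rw [sub_pow_char, sub_eq_zero] at hkp
    rw [hkp, ← map_pow, ← hr, AlgHom.commutes]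
  · intro H
    choose z hz using fun i => hq (x i)
    obtain ⟨⟨v, hv, -⟩, h2⟩ := part2 H z hz
    exact ⟨v, h2 v hv⟩

end Groth.Agent.S2464
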