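import Groth.Statements.S2473
import Groth.Agent.Lib.PRootCot4_helper3
import Groth.Agent.Lib.IntegralHeight_helper5
import Groth.Agent.Lib.Serre_helper5
-- import your own Groth.Agent.* helpers here

set_option autoImplicit false
universe u
open EGA41
set_option maxSynthPendingDepth 3
open Groth.Agent.Lib.PRootCotH3 MvPolynomial IsLocalRing

namespace Groth.Agent.S2473

open IsLocalRing TensorProduct in
/-- Let A be a regular local ring whose residue field K has characteristic p > 0; for 1 ≤ i ≤ r let F_i
= T_i^p + p Σ_{j=1}^{p-1} c_{ij} T_i^{p-j} − f_i with c_{ij}, f_i ∈ A, and let B be the quotient of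
A[T_1, …, T_r] by the ideal generated by the F_i. Then B is a local ring, and B is regular if and
only if the elements d f_i ⊗ 1 of Ω_{A/ℤ} ⊗_A K are linearly independent over K. Assumed in
addition: p lies in the square of the maximal ideal of A (which covers the case where A has
characteristic p); the printed statement omits this, and the equivalence can fail for A absolutely
unramified, e.g. A = ℤ_(p), r = 1, f_1 = p. (Condition (c) of the source, on the characteristic
homomorphism Ξ, is not stated.) -/
theorem result {A : Type u} [CommRing A] [IsRegularLocalRing A] (p : ℕ) [Fact p.Prime] [CharP (ResidueField A) p]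
    {r : ℕ} (c : Fin r → Fin p → A) (f : Fin r → A)
    (hp : (p : A) ∈ maximalIdeal A ^ 2) :
    let F : Fin r → MvPolynomial (Fin r) A := fun i =>
      MvPolynomial.X i ^ p + (p : MvPolynomial (Fin r) A) * (Finset.univ.sum fun j : Fin p =>
        if (j : ℕ) = 0 then 0 else MvPolynomial.C (c i j) * MvPolynomial.X i ^ (p - (j : ℕ))) - MvPolynomial.C (f i)
    IsLocalRing (MvPolynomial (Fin r) A ⧸ Ideal.span (Set.range F)) ∧
      (IsRegularRing (MvPolynomial (Fin r) A ⧸ Ideal.span (Set.range F)) ↔
        LinearIndependent (ResidueField A) (fun i => (1 : ResidueField A) ⊗ₜ[A] KaehlerDifferential.D ℤ A (f i))) := by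
  intro F
  classical
  haveI hpp : Fact p.Prime := inferInstance
  have hp1 : 1 ≤ p := hpp.out.one_le
  -- the one-variable polynomials
  obtain ⟨q, hqdef⟩ : ∃ q : Fin r → Polynomial A, q = fun i =>
      Polynomial.X ^ p + (((p : ℕ) : Polynomial A) * (Finset.univ.sum fun j : Fin p =>
        if (j : ℕ) = 0 then 0 else Polynomial.C (c i j) * Polynomial.X ^ (p - (j : ℕ))) -
        Polynomial.C (f i)) := ⟨_, rfl⟩
  have hdeg : ∀ i, (((p : ℕ) : Polynomial A) * (Finset.univ.sum fun j : Fin p =>
        if (j : ℕ) = 0 then 0 else Polynomial.C (c i j) * Polynomial.X ^ (p - (j : ℕ))) -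
        Polynomial.C (f i)).degree < (p : WithBot ℕ) := by
    intro i
    rw [Polynomial.degree_lt_iff_coeff_zero]
    intro m hm
    rw [Polynomial.coeff_sub, Polynomial.coeff_C, if_neg (by omega : m ≠ 0), sub_zero,
      ← Polynomial.C_eq_natCast, Polynomial.coeff_C_mul, Polynomial.finset_sum_coeff,
      Finset.sum_eq_zero, mul_zero]
    intro j _
    split_ifs with hj
    · simp
    · rw [Polynomial.coeff_C_mul_X_pow, if_neg]
      omega
  have hq : ∀ i, (q i).Monic := by
    intro i
    rw [hqdef]
    exact Polynomial.monic_X_pow_add (hdeg i)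
  have hd : ∀ i, (q i).natDegree ≠ 0 := by
    intro i
    rw [hqdef]
    show (Polynomial.X ^ p + _ : Polynomial A).natDegree ≠ 0
    rw [Polynomial.natDegree_add_eq_left_of_degree_lt (by
      rw [Polynomial.degree_X_pow]; exact hdeg i), Polynomial.natDegree_X_pow]
    omega
  have hFq : ∀ i, F i = Polynomial.aeval (X i : MvPolynomial (Fin r) A) (q i) := by
    intro i
    rw [hqdef]
    simp only [F, map_add, map_sub, map_mul, map_pow, map_natCast, Polynomial.aeval_X,
      Polynomial.aeval_C, map_sum, MvPolynomial.algebraMap_eq, apply_ite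
        (Polynomial.aeval (X i : MvPolynomial (Fin r) A)), map_zero]
    ring
  have hF : ∀ i, F i = X i ^ p + ((p : ℕ) : MvPolynomial (Fin r) A) *
      (fun i => Finset.univ.sum fun j : Fin p =>
        if (j : ℕ) = 0 then 0 else C (c i j) * X i ^ (p - (j : ℕ))) i - C (f i) := fun i => rfl
  have hpm : ((p : ℕ) : A) ∈ maximalIdeal A := Ideal.pow_le_self two_ne_zero hp
  haveI := isIntegral_quotient _ (isIntegral_mk_X q F hFq hq)
  obtain ⟨hloc, hlh⟩ := isLocalRing_quotient p hpm f _ F hF
  haveI : Algebra.FiniteType A (MvPolynomial (Fin r) A ⧸ Ideal.span (Set.range F)) :=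
    Algebra.FiniteType.of_surjective (Ideal.Quotient.mkₐ A _) (Ideal.Quotient.mkₐ_surjective A _)
  haveI : Module.Finite A (MvPolynomial (Fin r) A ⧸ Ideal.span (Set.range F)) :=
    Algebra.IsIntegral.finite
  refine ⟨hloc, ?_⟩
  have hiff := finrank_cotangentSpace_eq_iff_aux p hp f _ F hF
    (B := MvPolynomial (Fin r) A ⧸ Ideal.span (Set.range F))
    Ideal.Quotient.mk_surjective (by rw [Ideal.Quotient.algebraMap_eq]; exact Ideal.mk_ker)
  rw [← hiff]
  have hdim : ringKrullDim (MvPolynomial (Fin r) A ⧸ Ideal.span (Set.range F)) =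
      ringKrullDim A :=
    Groth.Agent.IntegralHeight.ringKrullDim_eq_of_isIntegral_of_injective A _
      (algebraMap_injective_quotient q F hFq hq hd)
  have hA : (Module.finrank (ResidueField A) (CotangentSpace A) : WithBot ℕ∞) = ringKrullDim A :=
    (IsRegularLocalRing.iff_finrank_cotangentSpace A).1 inferInstance
  constructor
  · intro hreg
    haveI := hreg
    have hB : IsRegularLocalRing (MvPolynomial (Fin r) A ⧸ Ideal.span (Set.range F)) :=
      IsRegularLocalRing.of_isRegularRing_of_isLocalRing _
    have hB' := (IsRegularLocalRing.iff_finrank_cotangentSpace _).1 hB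
    rw [hdim, ← hA] at hB'
    exact_mod_cast hB'.symm
  · intro h
    have hB : IsRegularLocalRing (MvPolynomial (Fin r) A ⧸ Ideal.span (Set.range F)) := by
      rw [IsRegularLocalRing.iff_finrank_cotangentSpace, hdim, ← hA, h]
    rw [isRegularRing_iff]
    intro P hP
    exact Groth.Agent.Serre.localization_regular _ P

end Groth.Agent.S2473
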