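import Groth.Statements.S2475
import Groth.Agent.Lib.PDescent_helper3
import Groth.Agent.Lib.SepSmooth_helper3
-- import your own Groth.Agent.* helpers here

set_option autoImplicit false
universe u
open EGA41
set_option maxSynthPendingDepth 3

namespace Groth.Agent.S2475

/-- Let K be a field of characteristic p > 0, k₀ ⊆ K a subfield and (k_α) a decreasing filtered family
of subfields of K containing k₀. Then ⋂_α k_α(K^p) = k₀(K^p) if and only if the canonical map
Ω_{K/k₀} → lim_α Ω_{K/k_α} is injective (an element of Ω_{K/k₀} whose image in every Ω_{K/k_α}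
vanishes is zero). (Conditions (b), (b') of the source, on admissible subfields, are not stated.) -/
theorem result (p : ℕ) [Fact p.Prime] {k₀ K : Type u} [Field k₀] [Field K] [Algebra k₀ K] [CharP K p]
    {ι : Type u} [Preorder ι] [IsDirected ι (· ≤ ·)] [Nonempty ι] (k : ι → IntermediateField k₀ K) (hk : Antitone k) :
    (⨅ i, k i ⊔ IntermediateField.adjoin k₀ (Set.range fun y : K => y ^ p)) = IntermediateField.adjoin k₀ (Set.range fun y : K => y ^ p) ↔
      ∀ ω : Ω[K⁄k₀], (∀ i, KaehlerDifferential.map k₀ (k i) K K ω = 0) → ω = 0 := by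
  classical
  open Groth.Agent.Lib.PBasisH3 in
  have hdir : ∀ a b, ∃ c, k c ≤ k a ⊓ k b := by
    intro a b
    obtain ⟨c, hac, hbc⟩ := directed_of (· ≤ ·) a b
    exact ⟨c, le_inf (hk hac) (hk hbc)⟩
  constructor
  · intro hint ω hω
    obtain ⟨B, hB⟩ := Groth.Agent.Lib.SepSmoothH3.exists_pBasis_field p k₀ K
    obtain ⟨b, hb⟩ := Groth.Agent.Lib.PBasisH3.exists_basis_D p (Subtype.val : B → K) hB
    set c := b.repr ω with hc
    set J : Finset B := c.support with hJ
    have hxJ : EGA41.IsPIndependent p k₀ ((Subtype.val : B → K) ∘ (Subtype.val : J → B)) :=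
      Groth.Agent.Lib.PBasisH3.isPIndependent_comp p (Subtype.val : B → K) hB.1
        (Subtype.val : J → B) Subtype.val_injective
    obtain ⟨i, hi⟩ := Groth.Agent.Lib.PBasisH3.exists_isPIndependent_of_iInf p k hdir hint
      ((Subtype.val : B → K) ∘ (Subtype.val : J → B)) hxJ
    have hli := Groth.Agent.Lib.PBasisH3.linearIndependent_D_of_isPIndependent p _ hi
    rw [Fintype.linearIndependent_iff] at hli
    have hωsum : ω = ∑ β ∈ J, c β • b β := by
      conv_lhs => rw [← b.linearCombination_repr ω]
      rw [Finsupp.linearCombination_apply]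
      rfl
    have h1 := hω i
    rw [hωsum, map_sum] at h1
    have h2 : ∑ j : J, c (j : B) • KaehlerDifferential.D (k i) K (((j : B) : K)) = 0 := by
      rw [← h1, ← Finset.sum_coe_sort J]
      refine Finset.sum_congr rfl fun j _ => ?_
      rw [map_smul, hb, KaehlerDifferential.map_D]
      rfl
    have h3 := hli (fun j : J => c (j : B)) h2
    have hc0 : c = 0 := by
      ext β
      by_cases hβ : β ∈ J
      · exact h3 ⟨β, hβ⟩
      · exact Finsupp.notMem_support_iff.1 hβ
    exact b.repr.map_eq_zero_iff.1 hc0
  · intro hinj'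
    apply le_antisymm
    · intro y hy
      by_contra hyP
      have hne := Groth.Agent.Lib.PBasisH3.D_ne_zero_of_notMem p (k₀ := k₀) y hyP
      apply hne
      apply hinj'
      intro i
      rw [KaehlerDifferential.map_D]
      have hyi : y ∈ k i ⊔ IntermediateField.adjoin k₀ (Set.range fun z : K => z ^ p) := by
        have := (SetLike.mem_coe.2 hy)
        rw [IntermediateField.coe_iInf, Set.mem_iInter] at this
        exact this i
      exact Groth.Agent.Lib.PBasisH3.D_eq_zero_of_mem_sup p (k i) y hyi
    · exact le_iInf fun i => le_sup_right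

end Groth.Agent.S2475
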