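import Groth.Statements.S2476
import Groth.Agent.Lib.ComplKaehlerRank_helper3
-- import your own Groth.Agent.* helpers here

set_option autoImplicit false
universe u
open EGA41
set_option maxSynthPendingDepth 3

namespace Groth.Agent.S2476

open IsLocalRing in
/-- Let k₀ be a field and A a complete Noetherian local k₀-algebra, formally smooth over k₀ for the adic
topology, whose residue field K is a finitely generated extension of k₀. Then the 𝔪-adic completion
Ω̂_{A/k₀} of Ω_{A/k₀} is a free A-module of rank dim A + trdeg_{k₀} K. -/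
theorem result {k₀ A : Type u} [Field k₀] [CommRing A] [IsLocalRing A] [IsNoetherianRing A] [Algebra k₀ A]
    [IsAdicComplete (maximalIdeal A) A] (hfs : CAlgX.IsAdicFormallySmooth k₀ A (maximalIdeal A))
    [Algebra.EssFiniteType k₀ (ResidueField A)] :
    Module.Finite A (AdicCompletion (maximalIdeal A) (Ω[A⁄k₀])) ∧ Module.Free A (AdicCompletion (maximalIdeal A) (Ω[A⁄k₀])) ∧
      (Module.finrank A (AdicCompletion (maximalIdeal A) (Ω[A⁄k₀])) : WithBot ℕ∞) =
        ringKrullDim A + (Cardinal.toNat (Algebra.trdeg k₀ (ResidueField A)) : WithBot ℕ∞) := by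
  classical
  haveI := Groth.Agent.Lib.ComplKaehlerH3.finite_tensor_kaehler (k₀ := k₀) (A := A)
  obtain ⟨e⟩ := Groth.Agent.Lib.ComplKaehlerH3.nonempty_equiv_completedKaehler (k := k₀) (A := A) hfs
  have hrank := Groth.Agent.Lib.ComplKaehlerH3.finrank_tensor_kaehler (k₀ := k₀) (A := A) hfs
  haveI hreg : IsRegularLocalRing A := ((Groth.Agent.S2471.result (k := k₀) (A := A)).1 hfs).1
  refine ⟨Module.Finite.equiv e, Module.Free.of_equiv e, ?_⟩
  rw [← e.finrank_eq, Module.finrank_fin_fun, hrank, Nat.cast_add,
    ← IsLocalRing.spanFinrank_maximalIdeal_eq_finrank_cotangentSpace,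
    ← IsRegularLocalRing.spanFinrank_maximalIdeal]

end Groth.Agent.S2476
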