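import Groth.Statements.S2481
import Groth.Agent.Lib.SmallExt2_helper3
import Groth.Agent.S4537
-- import your own Groth.Agent.* helpers here

set_option autoImplicit false
universe u
open EGA41
set_option maxSynthPendingDepth 3

namespace Groth.Agent.S2481

open IsLocalRing in
/-- Let A → B be a local homomorphism of Noetherian local rings with the adic topologies, K the residue
field of B. Then B is formally smooth over A if and only if: for every Artinian local ring C with a
local homomorphism A → C, every nilpotent ideal J of C and every local A-algebra homomorphism u : B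
→ C/J inducing a bijection of residue fields (so that C has residue field K and u induces the
identity on it), u is induced by a local A-algebra homomorphism B → C. -/
theorem result {A B : Type u} [CommRing A] [IsLocalRing A] [IsNoetherianRing A] [CommRing B] [IsLocalRing B] [IsNoetherianRing B]
    [Algebra A B] [IsLocalHom (algebraMap A B)] :
    EGA41.IsFormallySmoothAdic A (maximalIdeal A) B (maximalIdeal B) ↔
      ∀ (C : Type u) [CommRing C] [IsLocalRing C] [IsArtinianRing C] [Algebra A C] [IsLocalHom (algebraMap A C)]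
        (J : Ideal C), IsNilpotent J → ∀ [IsLocalRing (C ⧸ J)] (u : B →ₐ[A] C ⧸ J) [IsLocalHom u.toRingHom],
        Function.Bijective (ResidueField.map u.toRingHom) →
        ∃ f : B →ₐ[A] C, IsLocalHom f.toRingHom ∧ (Ideal.Quotient.mkₐ A J).comp f = u := by
  classical
  constructor
  · intro h C _ _ _ _ _ J hJ _ u _ hb
    obtain ⟨n, hn⟩ : ∃ n : ℕ, maximalIdeal C ^ n = ⊥ := by
      have h1 := IsArtinianRing.isNilpotent_jacobson_bot (R := C)
      rw [IsLocalRing.jacobson_eq_maximalIdeal ⊥ bot_ne_top] at h1
      obtain ⟨n, hn⟩ := h1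
      exact ⟨n, hn⟩
    have hA : ∃ k : ℕ, ((maximalIdeal A) ^ k).map (algebraMap A C) = ⊥ := by
      refine ⟨n, ?_⟩
      have h1 : (maximalIdeal A).map (algebraMap A C) ≤ maximalIdeal C :=
        ((local_hom_TFAE (algebraMap A C)).out 0 2).1 ‹IsLocalHom (algebraMap A C)›
      rw [eq_bot_iff, Ideal.map_pow, ← hn]
      exact Ideal.pow_right_mono h1 n
    have hu : ∃ k : ℕ, ∀ x ∈ maximalIdeal B ^ k, u x = 0 := by
      refine ⟨n, fun x hx => ?_⟩
      have h1 : (maximalIdeal B).map u.toRingHom ≤ maximalIdeal (C ⧸ J) :=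
        ((local_hom_TFAE u.toRingHom).out 0 2).1 ‹IsLocalHom u.toRingHom›
      have h2 : u.toRingHom x ∈ ((maximalIdeal B) ^ n).map u.toRingHom :=
        Ideal.mem_map_of_mem _ hx
      rw [Ideal.map_pow] at h2
      have h3 := Ideal.pow_right_mono h1 n h2
      rw [← Groth.Agent.Lib.CohenLiftH3.map_mk_maximalIdeal, ← Ideal.map_pow, hn, Ideal.map_bot] at h3
      exact h3
    obtain ⟨v, hv⟩ := h C J hJ hA u hu
    refine ⟨v, ⟨fun b hbu => ?_⟩, hv⟩
    have h1 : Ideal.Quotient.mk J (v b) = u b := AlgHom.congr_fun hv b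
    have h2 : IsUnit (u.toRingHom b) := by
      show IsUnit (u b)
      rw [← h1]
      exact IsUnit.map (Ideal.Quotient.mk J) hbu
    exact isUnit_of_map_unit u.toRingHom b h2
  · intro H
    have hsmall : Groth.Agent.Lib.SmallExtH3.SmallLift A B := by
      intro C _ _ _ _ _ J hJ2 _ _ ψ _ hb
      obtain ⟨f, _, hf⟩ := H C J ⟨2, hJ2⟩ ψ hb
      exact ⟨f, hf⟩
    have hadic := Groth.Agent.Lib.SmallExtH3.adic_of_smallLift hsmall
    intro C _ _ J hJ _ u hu
    exact Groth.Agent.S4537.key (maximalIdeal B) hadic C J hJ hJ u hu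

end Groth.Agent.S2481
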