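import Groth.Statements.S2482
import Groth.Agent.Lib.CohenAlg_helper3
-- import your own Groth.Agent.* helpers here

set_option autoImplicit false
universe u
open EGA41
set_option maxSynthPendingDepth 3

namespace Groth.Agent.S2482

open IsLocalRing in
/-- (a) ⟹ (b): let A, B be complete discrete valuation rings and u : A → B a ring homomorphism with
u(𝔪_A)B = 𝔪_B, such that the residue field L of B is separable over the residue field K of A. Then
for every complete discrete valuation ring B', every homomorphism u' : A → B' with u'(𝔪_A)B' =
𝔪_{B'} and every isomorphism σ of residue fields L ≅ L' compatible with the maps from K, there is an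
isomorphism w : B ≅ B' with u' = w ∘ u inducing σ on residue fields. -/
theorem result {A B B' : Type u} [CommRing A] [IsDomain A] [IsDiscreteValuationRing A] [IsAdicComplete (maximalIdeal A) A]
    [CommRing B] [IsDomain B] [IsDiscreteValuationRing B] [IsAdicComplete (maximalIdeal B) B]
    [CommRing B'] [IsDomain B'] [IsDiscreteValuationRing B'] [IsAdicComplete (maximalIdeal B') B']
    (u : A →+* B) [IsLocalHom u] (hu : (maximalIdeal A).map u = maximalIdeal B)
    (hsep : letI := (ResidueField.map u).toAlgebra; Algebra.IsGeometricallyReduced (ResidueField A) (ResidueField B))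
    (u' : A →+* B') [IsLocalHom u'] (hu' : (maximalIdeal A).map u' = maximalIdeal B')
    (σ : ResidueField B ≃+* ResidueField B') (hσ : (σ : ResidueField B →+* ResidueField B').comp (ResidueField.map u) = ResidueField.map u') :
    ∃ w : B ≃+* B', (w : B →+* B').comp u = u' ∧ ∀ b : B, residue B' (w b) = σ (residue B b) := by
  classical
  have hinju := Groth.Agent.Lib.CohenAlgH3.injective_of_map_maximalIdeal u hu
  have hinju' := Groth.Agent.Lib.CohenAlgH3.injective_of_map_maximalIdeal u' hu'
  have hflatu := Groth.Agent.Lib.CohenAlgH3.flat_of_injective u hinju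
  have hflatu' := Groth.Agent.Lib.CohenAlgH3.flat_of_injective u' hinju'
  letI : Algebra A B := u.toAlgebra
  letI : Algebra A B' := u'.toAlgebra
  haveI : IsLocalHom (algebraMap A B) := inferInstanceAs (IsLocalHom u)
  haveI : IsLocalHom (algebraMap A B') := inferInstanceAs (IsLocalHom u')
  haveI : Module.Flat A B := hflatu
  haveI : Module.Flat A B' := hflatu'
  have halg : (ResidueField.map u).toAlgebra =
      (IsLocalRing.ResidueField.instAlgebra : Algebra (ResidueField A) (ResidueField B)) :=
    Algebra.algebra_ext _ _ (fun x => by
      obtain ⟨a, rfl⟩ := residue_surjective x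
      rfl)
  haveI : Algebra.IsGeometricallyReduced (ResidueField A) (ResidueField B) := by
    have := hsep
    rwa [halg] at this
  let σ' : ResidueField B ≃ₐ[ResidueField A] ResidueField B' :=
    AlgEquiv.ofRingEquiv (f := σ) (fun x => by
      obtain ⟨a, rfl⟩ := residue_surjective x
      exact RingHom.congr_fun hσ (residue A a))
  haveI : Algebra.IsGeometricallyReduced (ResidueField A) (ResidueField B') :=
    Algebra.IsGeometricallyReduced.of_injective σ'.symm.toAlgHom σ'.symm.injective
  have h : EGA41.IsCohenAlgebra A B :=
    ⟨inferInstance, inferInstance, inferInstance, inferInstance, hu, inferInstance⟩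
  have h' : EGA41.IsCohenAlgebra A B' :=
    ⟨inferInstance, inferInstance, inferInstance, inferInstance, hu', inferInstance⟩
  obtain ⟨w, hw⟩ := Groth.Agent.Lib.CohenAlgH3.exists_algEquiv_of_residue h h' σ'
  refine ⟨w.toRingEquiv, RingHom.ext fun a => ?_, fun b => hw b⟩
  exact w.commutes a

end Groth.Agent.S2482
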