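import Groth.Statements.S2484
import Groth.Agent.Lib.FSGeomRed_helper3
-- import your own Groth.Agent.* helpers here

set_option autoImplicit false
universe u
open EGA41
set_option maxSynthPendingDepth 3

namespace Groth.Agent.S2484

/-- Let K ⊆ E ⊆ F be fields. (i) If F is a separable extension of E, then Υ_{F/E/K} = 0, i.e. the
canonical map Ω_{E/K} ⊗_E F → Ω_{F/K} is injective. (ii) Conversely, if F is separable over K and
this map is injective, then F is separable over E. (Separable means geometrically reduced.) -/
theorem result {K E F : Type u} [Field K] [Field E] [Field F] [Algebra K E] [Algebra E F] [Algebra K F] [IsScalarTower K E F] :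
    (Algebra.IsGeometricallyReduced E F → Function.Injective (KaehlerDifferential.mapBaseChange K E F)) ∧
    (Algebra.IsGeometricallyReduced K F → Function.Injective (KaehlerDifferential.mapBaseChange K E F) → Algebra.IsGeometricallyReduced E F) := by
  constructor
  · intro h
    haveI : Algebra.FormallySmooth E F :=
      Groth.Agent.Lib.SepSmoothH3.formallySmooth_of_isGeometricallyReduced E F
    have hex := Algebra.H1Cotangent.exact_δ_mapBaseChange K E F
    rw [← LinearMap.ker_eq_bot, hex.linearMap_ker_eq, LinearMap.range_eq_bot]
    ext x
    rw [Subsingleton.elim x 0]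
    simp
  · intro hKF hinj
    haveI : Algebra.FormallySmooth K F :=
      Groth.Agent.Lib.SepSmoothH3.formallySmooth_of_isGeometricallyReduced K F
    have hex1 := Algebra.H1Cotangent.exact_map_δ K E F
    have hex2 := Algebra.H1Cotangent.exact_δ_mapBaseChange K E F
    have hδ0 : ∀ x, Algebra.H1Cotangent.δ K E F x = 0 := by
      intro x
      apply hinj
      rw [map_zero]
      exact hex2.apply_apply_eq_zero x
    have hsub : Subsingleton (Algebra.H1Cotangent E F) := by
      refine ⟨fun x y => ?_⟩
      obtain ⟨z, hz⟩ := (hex1 x).1 (hδ0 x)
      obtain ⟨w, hw⟩ := (hex1 y).1 (hδ0 y)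
      rw [← hz, ← hw, Subsingleton.elim z w]
    haveI : Algebra.FormallySmooth E F := ⟨inferInstance, hsub⟩
    exact (Groth.Agent.Lib.FSGRH3.formallySmooth_iff_isGeometricallyReduced E F).1 inferInstance

end Groth.Agent.S2484
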