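import Groth.Statements.S8870
import Mathlib
import Groth.Agent.Lib.WeakAssSch2_helper4

set_option autoImplicit false
universe u
open CategoryTheory CategoryTheory.Limits AlgebraicGeometry TopologicalSpace
open SDiv

namespace Groth.Agent.S8870

open AlgebraicGeometry CategoryTheory TopologicalSpace Opposite FlatCA
open Groth.Agent.Lib.WeakAss_helper4 Groth.Agent.Lib.QCohLoc_helper4 Groth.Agent.Lib.WeakAssSch_helper4
open Groth.Agent.Lib.WeakAssSch2_helper4

/-- Let X be a scheme and 0 → F₁ → F₂ → F₃ → 0 a short exact sequence of quasi-coherent O_X-modules.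
Then WeakAss(F₂) ⊆ WeakAss(F₁) ∪ WeakAss(F₃) and WeakAss(F₁) ⊆ WeakAss(F₂). -/
theorem result (X : Scheme.{u}) (S : ShortComplex X.Modules) (hS : S.ShortExact)
    (h₁ : Coh.IsQCoh S.X₁) (h₂ : Coh.IsQCoh S.X₂) (h₃ : Coh.IsQCoh S.X₃) :
    (∀ x : ↥X, Curv2.IsWeakAssPoint S.X₂ x → Curv2.IsWeakAssPoint S.X₁ x ∨ Curv2.IsWeakAssPoint S.X₃ x) ∧
      (∀ x : ↥X, Curv2.IsWeakAssPoint S.X₁ x → Curv2.IsWeakAssPoint S.X₂ x) := by
  haveI : S.X₁.IsQuasicoherent := h₁
  haveI : S.X₂.IsQuasicoherent := h₂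
  haveI : S.X₃.IsQuasicoherent := h₃
  constructor
  · intro x hx
    obtain ⟨U, hU, hxU, -⟩ := (Opens.isBasis_iff_nbhd.mp X.isBasis_affineOpens)
      (show x ∈ (⊤ : X.Opens) from trivial)
    obtain ⟨hinj, hex⟩ := sections_exact hS U
    have h2 := (isWeakAssPoint_iff (locOn_of_isQuasicoherent S.X₂ hU) hU hxU).mp hx
    rcases weakAss_subset_union_of_exact (appLin S.f U) (appLin S.g U) hinj hex h2 with h | h
    · exact Or.inl ((isWeakAssPoint_iff (locOn_of_isQuasicoherent S.X₁ hU) hU hxU).mpr h)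
    · exact Or.inr ((isWeakAssPoint_iff (locOn_of_isQuasicoherent S.X₃ hU) hU hxU).mpr h)
  · intro x hx
    obtain ⟨U, hU, hxU, -⟩ := (Opens.isBasis_iff_nbhd.mp X.isBasis_affineOpens)
      (show x ∈ (⊤ : X.Opens) from trivial)
    obtain ⟨hinj, hex⟩ := sections_exact hS U
    have h1 := (isWeakAssPoint_iff (locOn_of_isQuasicoherent S.X₁ hU) hU hxU).mp hx
    exact (isWeakAssPoint_iff (locOn_of_isQuasicoherent S.X₂ hU) hU hxU).mpr
      (weakAss_subset_of_injective (appLin S.f U) hinj h1)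

end Groth.Agent.S8870
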