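import Groth.Statements.S2553
import Groth.Agent.Lib.NPF3_helper8
import Groth.Agent.Lib.GeomInt2_helper8

set_option autoImplicit false
open CategoryTheory AlgebraicGeometry
universe u
open EGA43

namespace Groth.Agent.S2553

/-- Let f : X ⟶ Y be proper, flat and locally of finite presentation. The set of points y of Y whose
fibre is geometrically integral over the residue field of y is open in Y. -/
theorem result {X Y : Scheme.{u}} (f : X ⟶ Y) [IsProper f]
    [Flat f] [LocallyOfFinitePresentation f] :
    IsOpen {y : Y | GeometricallyIntegral (f.fiberToSpecResidueField y)} := by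
  rw [isOpen_iff_mem_nhds]
  intro y hy
  have hy' : GeometricallyIntegral (f.fiberToSpecResidueField y) := hy
  haveI := hy'
  obtain ⟨hPG, hn⟩ := (Groth.Agent.Lib.GeomIntH8.geometricallyIntegral_fiber_iff f y).1 hy'
  have hA := (Groth.Agent.Lib.GPIH8.main2554 f).mem_nhds
    (show y ∈ {y : Y | ∀ x : ↥(f.fiber y),
      FBase.IsGeomPtIntegralAt (f.fiberToSpecResidueField y) x} from
      (Groth.Agent.Lib.GPIH8.forall_fiber_iff _ Groth.Agent.Lib.GPIH8.descInj_isDomain f y).2 hPG)
  obtain ⟨V, hV, heq⟩ := Groth.Agent.Lib.NPFH8.nGeomConnComp_const_at f y inferInstance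
  filter_upwards [hA, hV] with z hz1 hz2
  exact (Groth.Agent.Lib.GeomIntH8.geometricallyIntegral_fiber_iff f z).2
    ⟨(Groth.Agent.Lib.GPIH8.forall_fiber_iff _ Groth.Agent.Lib.GPIH8.descInj_isDomain f z).1 hz1,
      (heq z hz2).trans hn⟩

end Groth.Agent.S2553
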