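import Groth.Statements.S4938
import Mathlib
import Groth.Agent.Lib.UOQ4_helper8

set_option autoImplicit false
open CategoryTheory AlgebraicGeometry
universe u v w
open EGA43

namespace Groth.Agent.S4938

/-- Let Y be a locally Noetherian scheme, f : X ⟶ Y a morphism locally of finite type, and y a
geometrically unibranch point of Y, lying on the unique irreducible component Y₀ of Y with generic
point η. The following are equivalent: a) f is universally open at every point of X_y; b) every
point x of X_y lies on an irreducible component Z of X dominating Y₀ with dim_x(Z ∩ X_y) = dim(Z ∩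
X_η); b'') for every open subset U of X, dim(U ∩ X_η) ≥ dim(U ∩ X_y); c) f is open at every point of
X_y. (The published statement assumes Y locally Noetherian only for c) and also lists b′), the
pointwise form of b″) (for every x in X_y and every open U ∋ x, dim(U ∩ X_η) ≥ dim_x(U ∩ X_y)); over
the spectrum of an infinite product of copies of a field, the inclusion of a non-open closed point
satisfies b) and b″) but not a), so this row takes Y locally Noetherian throughout, and b′) is not
listed.) -/
theorem result {X Y : Scheme.{u}} [IsLocallyNoetherian Y] (f : X ⟶ Y)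
    [LocallyOfFiniteType f] (y : Y) (hy : CAlg2.IsGeomUnibranch (Y.presheaf.stalk y)) :
    List.TFAE [∀ x : X, f.base x = y → EGA43.IsUnivOpenAt f x,
      ∀ x : X, f.base x = y → ∀ Y₀ ∈ irreducibleComponents (Y : Type u), y ∈ Y₀ →
        ∃ Z ∈ irreducibleComponents (X : Type u), ∃ hx : x ∈ Z, closure (f.base '' Z) = Y₀ ∧
          ∀ η : Y, closure ({η} : Set Y) = Y₀ →
            FlatMor.localDim ↥(Z ∩ f.base ⁻¹' {f.base x}) ⟨x, ⟨hx, rfl⟩⟩ = topologicalKrullDim ↥(Z ∩ f.base ⁻¹' {η}),
      ∀ U : X.Opens, ∀ Y₀ ∈ irreducibleComponents (Y : Type u), y ∈ Y₀ → ∀ η : Y, closure ({η} : Set Y) = Y₀ →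
        topologicalKrullDim ↥((U : Set X) ∩ f.base ⁻¹' {y}) ≤ topologicalKrullDim ↥((U : Set X) ∩ f.base ⁻¹' {η}),
      ∀ x : X, f.base x = y → EGA43.IsOpenAt f.base x] := by
  tfae_have 1 → 4 := fun ha x hx => Groth.Agent.Lib.UOQH8.isOpenAt_of_isUnivOpenAt f x (ha x hx)
  tfae_have 4 → 3 := by
    intro hc U Y₀ hY₀ hyY₀ η hη
    have hηy : η ⤳ y := by rw [specializes_iff_mem_closure, hη]; exact hyY₀
    exact Groth.Agent.Lib.UOQH8.c_imp_bsecond f y hc U η hηy
  tfae_have 3 → 2 := by
    intro Hb x hx Y₀ hY₀ hyY₀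
    subst hx
    obtain ⟨η, hηcl, hηmax⟩ :=
      Groth.Agent.Lib.EquidimAtH8.exists_generic_of_mem_irreducibleComponents Y₀ hY₀
    have hηx : η ⤳ f.base x := by rw [specializes_iff_mem_closure, hηcl]; exact hyY₀
    obtain ⟨Z, hZ, hxZ, hcl, hdim⟩ := Groth.Agent.Lib.UOQH8.bsecond_imp_b f x η hηx hηmax
      (fun U => Hb U Y₀ hY₀ hyY₀ η hηcl)
    refine ⟨Z, hZ, hxZ, hcl.trans hηcl, ?_⟩
    intro η' hη'
    have hee : η' = η := hηmax η' (by
      rw [specializes_iff_mem_closure, hη', ← hηcl]; exact subset_closure rfl)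
    subst hee
    exact hdim
  tfae_have 2 → 1 := by
    intro Hb x hx
    subst hx
    obtain ⟨Z, hZ, hxZ, hcl, h⟩ := Hb x rfl (irreducibleComponent (f.base x))
      (irreducibleComponent_mem_irreducibleComponents _) mem_irreducibleComponent
    apply Groth.Agent.Lib.UOQH8.b_imp_a f x hy Z hZ hxZ
    · rw [hcl]; exact irreducibleComponent_mem_irreducibleComponents _
    · intro η hη
      exact h η (hη.trans hcl)
  tfae_finish

end Groth.Agent.S4938
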