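import Groth.Statements.S2563
import Mathlib
import Groth.Agent.Lib.NilFree_lead

set_option autoImplicit false
open TensorProduct
universe u
open EGA43

namespace Groth.Agent.S2563

/-- Let A be a commutative ring, J a nilpotent ideal of A, and (B_i) a family of commutative A-algebras
such that an element of A vanishing in every B_i is zero. Let M be an A-module such that each B_i
⊗_A M is a free B_i-module and (A/J) ⊗_A M is a free (A/J)-module. Then M is a free A-module. -/
theorem result {A : Type u} [CommRing A] (J : Ideal A) (hJ : IsNilpotent J)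
    {ι : Type u} (B : ι → Type u) [∀ i, CommRing (B i)] [∀ i, Algebra A (B i)]
    (hB : ∀ a : A, (∀ i, algebraMap A (B i) a = 0) → a = 0)
    (M : Type u) [AddCommGroup M] [Module A M]
    (hfree : ∀ i, Module.Free (B i) (B i ⊗[A] M)) (hfreeJ : Module.Free (A ⧸ J) ((A ⧸ J) ⊗[A] M)) :
    Module.Free A M := by
  classical
  let I := Module.Free.ChooseBasisIndex (A ⧸ J) ((A ⧸ J) ⊗[A] M)
  let e : Module.Basis I (A ⧸ J) ((A ⧸ J) ⊗[A] M) := Module.Free.chooseBasis _ _
  let q : M →ₗ[A] (A ⧸ J) ⊗[A] M := TensorProduct.mk A (A ⧸ J) M 1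
  have hkerq : ∀ z : M, q z = 0 → z ∈ J • (⊤ : Submodule A M) := by
    intro z hz
    have h := LinearMap.congr_fun (TensorProduct.quotTensorEquivQuotSMul_comp_mk (M := M) J) z
    simp only [LinearMap.comp_apply] at h
    change (TensorProduct.quotTensorEquivQuotSMul M J) (q z) = _ at h
    rw [hz, map_zero] at h
    exact (Submodule.Quotient.mk_eq_zero _).mp h.symm
  let ρ : (I →₀ A) →ₗ[A] (I →₀ A ⧸ J) :=
    Finsupp.mapRange.linearMap (Algebra.linearMap A (A ⧸ J))
  have hρsurj : Function.Surjective ρ := by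
    intro c
    obtain ⟨x, hx⟩ := Finsupp.mapRange_surjective (Ideal.Quotient.mk J) (map_zero _)
      Ideal.Quotient.mk_surjective c
    exact ⟨x, hx⟩
  let E : (I →₀ A ⧸ J) →ₗ[A] (A ⧸ J) ⊗[A] M := (e.repr.symm.toLinearMap).restrictScalars A
  have hEinj : Function.Injective E := e.repr.symm.injective
  have hqsurj : Function.Surjective q := by
    intro z
    induction z using TensorProduct.induction_on with
    | zero => exact ⟨0, map_zero _⟩
    | tmul a m =>
      obtain ⟨a, rfl⟩ := Ideal.Quotient.mk_surjective a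
      refine ⟨a • m, ?_⟩
      change (1 : A ⧸ J) ⊗ₜ[A] (a • m) = _
      rw [TensorProduct.tmul_smul, TensorProduct.smul_tmul', Algebra.smul_def, mul_one]
      rfl
    | add x y hx hy =>
      obtain ⟨x', rfl⟩ := hx
      obtain ⟨y', rfl⟩ := hy
      exact ⟨x' + y', map_add _ _ _⟩
  choose m hm using fun k => hqsurj (e k)
  let φ : (I →₀ A) →ₗ[A] M := Finsupp.linearCombination A m
  have hqφ : q ∘ₗ φ = E ∘ₗ ρ := by
    apply Finsupp.lhom_ext
    intro k a
    simp only [LinearMap.comp_apply, φ, Finsupp.linearCombination_single, map_smul, hm, ρ,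
      Finsupp.mapRange.linearMap_apply, Finsupp.mapRange_single, E, LinearMap.coe_restrictScalars,
      LinearEquiv.coe_coe, Module.Basis.repr_symm_single, Algebra.linearMap_apply,
      algebraMap_smul]
  have hqφ' : ∀ x, q (φ x) = E (ρ x) := fun x => LinearMap.congr_fun hqφ x
  -- kernel of φ is inside J • ⊤
  have hkerφ : LinearMap.ker φ ≤ J • (⊤ : Submodule A (I →₀ A)) := by
    intro x hx
    rw [LinearMap.mem_ker] at hx
    have h1 : E (ρ x) = 0 := by rw [← hqφ', hx, map_zero]
    have h2 : ρ x = 0 := hEinj (by rw [h1, map_zero])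
    have h3 : ∀ k, x k ∈ J := by
      intro k
      have := DFunLike.congr_fun h2 k
      simp only [ρ, Finsupp.mapRange.linearMap_apply, Finsupp.mapRange_apply,
        Algebra.linearMap_apply, Finsupp.coe_zero, Pi.zero_apply] at this
      exact Ideal.Quotient.eq_zero_iff_mem.mp this
    rw [← Finsupp.sum_single x, Finsupp.sum]
    refine Submodule.sum_mem _ fun k _ => ?_
    rw [← Finsupp.smul_single_one]
    exact Submodule.smul_mem_smul (h3 k) trivial
  -- surjectivity
  have hφsurj : Function.Surjective φ := by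
    rw [← LinearMap.range_eq_top]
    apply Groth.Agent.Lib.NilFree.eq_top_of_sup_smul_top_of_nilpotent J hJ
    intro y _
    obtain ⟨x, hx⟩ := hρsurj (e.repr (q y))
    have h1 : q (y - φ x) = 0 := by
      rw [map_sub, hqφ', hx]
      simp [E]
    refine Submodule.mem_sup.mpr ⟨φ x, ⟨x, rfl⟩, y - φ x, hkerq _ h1, by abel⟩
  -- injectivity
  have hφinj : Function.Injective φ := by
    rw [← LinearMap.ker_eq_bot, eq_bot_iff]
    intro x hx
    rw [LinearMap.mem_ker] at hx
    rw [Submodule.mem_bot]
    ext k
    rw [Finsupp.zero_apply]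
    apply hB
    intro i
    have := hfree i
    let ψ : B i ⊗[A] (I →₀ A) →ₗ[A] B i ⊗[A] M := φ.lTensor (B i)
    have hsurjB : Function.Surjective (φ.baseChange (B i)) := by
      intro z
      obtain ⟨w, hw⟩ := LinearMap.lTensor_surjective (B i) hφsurj z
      exact ⟨w, hw⟩
    obtain ⟨sB, hsB⟩ := Module.projective_lifting_property (φ.baseChange (B i)) LinearMap.id hsurjB
    have hs : ∀ y, ψ ((sB.restrictScalars A) y) = y := fun y => LinearMap.congr_fun hsB y
    have hex0 := LinearMap.exact_subtype_ker_map φ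
    have hex := lTensor_exact (M := ↥(LinearMap.ker φ)) (B i) hex0 hφsurj
    have hK : LinearMap.ker ψ ≤ J • (⊤ : Submodule A (B i ⊗[A] (I →₀ A))) := by
      change LinearMap.ker (φ.lTensor (B i)) ≤ _
      rw [LinearMap.exact_iff.mp hex]
      rintro _ ⟨z, rfl⟩
      induction z using TensorProduct.induction_on with
      | zero => simp
      | tmul b k =>
        rw [LinearMap.lTensor_tmul]
        have h1 : ((LinearMap.ker φ).subtype k) ∈ J • (⊤ : Submodule A (I →₀ A)) := hkerφ k.2
        have h2 : (TensorProduct.mk A (B i) (I →₀ A) b) ((LinearMap.ker φ).subtype k) ∈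
            Submodule.map (TensorProduct.mk A (B i) (I →₀ A) b) (J • (⊤ : Submodule A (I →₀ A))) :=
          Submodule.mem_map_of_mem h1
        rw [Submodule.map_smul''] at h2
        exact Submodule.smul_mono le_rfl le_top h2
      | add x y hx hy =>
        rw [map_add]
        exact add_mem hx hy
    have hker := Groth.Agent.Lib.NilFree.ker_eq_bot_of_split_of_nilpotent J hJ ψ
      (sB.restrictScalars A) hs hK
    have h0 : (1 : B i) ⊗ₜ[A] x = 0 := by
      have : (1 : B i) ⊗ₜ[A] x ∈ LinearMap.ker ψ := by
        rw [LinearMap.mem_ker]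
        change (φ.lTensor (B i)) ((1 : B i) ⊗ₜ[A] x) = 0
        rw [LinearMap.lTensor_tmul, hx, TensorProduct.tmul_zero]
      rw [hker] at this
      exact this
    have h1 := congrArg (fun z => (TensorProduct.rid A (B i))
      ((LinearMap.lTensor (B i) (Finsupp.lapply k : (I →₀ A) →ₗ[A] A)) z)) h0
    simp only [LinearMap.lTensor_tmul, Finsupp.lapply_apply, TensorProduct.rid_tmul, map_zero] at h1
    rw [Algebra.algebraMap_eq_smul_one]
    exact h1
  exact Module.Free.of_equiv (LinearEquiv.ofBijective φ ⟨hφinj, hφsurj⟩)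

end Groth.Agent.S2563
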