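import Groth.Statements.S2564
import Mathlib
import Groth.Agent.Lib.IntDesc7_helper8

set_option autoImplicit false
open CategoryTheory AlgebraicGeometry
universe u
open EGA43

namespace Groth.Agent.S2564

open CategoryTheory.Limits in
/-- Let A ⟶ A' be an injective ring homomorphism making A' integral over A, f : X ⟶ Spec A locally of
finite presentation, x a point of X, and X' = X ×_{Spec A} Spec A'. If X' ⟶ Spec A' is flat at every
point of X' lying over x, then f is flat at x. -/
theorem result {A A' : Type u} [CommRing A] [CommRing A']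
    [Algebra A A'] [Algebra.IsIntegral A A'] (hinj : Function.Injective (algebraMap A A'))
    {X : Scheme.{u}} (f : X ⟶ Spec (CommRingCat.of A)) [LocallyOfFinitePresentation f] (x : X)
    (h : ∀ x' : ↥(pullback f (Spec.map (CommRingCat.ofHom (algebraMap A A')))),
      (pullback.fst f _).base x' = x →
      ((pullback.snd f (Spec.map (CommRingCat.ofHom (algebraMap A A')))).stalkMap x').hom.Flat) :
    (f.stalkMap x).hom.Flat := by
  have happ : (Spec.map (CommRingCat.ofHom (algebraMap A A'))).appLE ⊤ ⊤ le_top =
      (Scheme.ΓSpecIso (CommRingCat.of A)).hom ≫ CommRingCat.ofHom (algebraMap A A') ≫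
        (Scheme.ΓSpecIso (CommRingCat.of A')).inv := by
    have h1 : (Spec.map (CommRingCat.ofHom (algebraMap A A'))).appLE ⊤ ⊤ le_top =
        (Spec.map (CommRingCat.ofHom (algebraMap A A'))).appTop := by
      rw [Scheme.Hom.appTop, Scheme.Hom.app_eq_appLE]
      rfl
    rw [h1, Scheme.ΓSpecIso_inv_naturality, Iso.hom_inv_id_assoc]
  have hbij1 : Function.Bijective (Scheme.ΓSpecIso (CommRingCat.of A)).hom.hom :=
    ConcreteCategory.bijective_of_isIso (Scheme.ΓSpecIso (CommRingCat.of A)).hom
  have hbij2 : Function.Bijective (Scheme.ΓSpecIso (CommRingCat.of A')).inv.hom :=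
    ConcreteCategory.bijective_of_isIso (Scheme.ΓSpecIso (CommRingCat.of A')).inv
  refine Groth.Agent.Lib.IntDescH8.flat_stalkMap_of_integral_pullback
    (IsPullback.of_hasPullback f (Spec.map (CommRingCat.ofHom (algebraMap A A')))) ?_ ?_ x h
  · rw [happ]
    simp only [CommRingCat.hom_comp, CommRingCat.hom_ofHom, RingHom.coe_comp]
    exact hbij2.injective.comp (hinj.comp hbij1.injective)
  · rw [happ]
    simp only [CommRingCat.hom_comp, CommRingCat.hom_ofHom]
    refine RingHom.IsIntegral.trans _ _ (RingHom.isIntegral_of_surjective _ hbij1.surjective) ?_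
    refine RingHom.IsIntegral.trans _ _ ?_ (RingHom.isIntegral_of_surjective _ hbij2.surjective)
    exact algebraMap_isIntegral_iff.mpr inferInstance

end Groth.Agent.S2564
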