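import Groth.Statements.S2568
import Groth.Agent.Lib.NNChev2_helper8

set_option autoImplicit false
open CategoryTheory AlgebraicGeometry
universe u
open EGA43

namespace Groth.Agent.S2568

/-- Chevalley's criterion in the case of irreducible source and base: let X and Y be irreducible
schemes, all local rings of Y geometrically unibranch, and f : X ⟶ Y a dominant morphism locally of
finite type such that for every point x the local dimension at x of the fibre through x equals the
dimension of the generic fibre (the fibre over the image of the generic point of X). Then f is
universally open. -/
theorem result {X Y : Scheme.{u}} [IrreducibleSpace X] [IrreducibleSpace Y]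
    (hY : ∀ y : Y, CAlg2.IsGeomUnibranch (Y.presheaf.stalk y)) (f : X ⟶ Y) [LocallyOfFiniteType f] [IsDominant f]
    (h : ∀ x : X, FlatMor.fibreDimAt f x = topologicalKrullDim ↥(f.fiber (f.base (genericPoint X)))) :
    UniversallyOpen f := by
  obtain ⟨e, he⟩ := EquidimIrrH8.exists_nat_fibreDimAt f (genericPoint X)
  have hd : DenseRange f.base := ‹IsDominant f›.denseRange
  refine Groth.Agent.Lib.NNChevH8.universallyOpen_of_fibreDimAt_const hY f hd e ?_
  intro x
  rw [h x, ← h (genericPoint X)]
  exact he

end Groth.Agent.S2568
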