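import Groth.Statements.S9249
import Mathlib
import Groth.Agent.Lib.CompletionRegular_helper5
import Groth.Agent.Lib.DepthFlat_helper5

set_option autoImplicit false
universe u
open CAlg

namespace Groth.Agent.S9249

theorem isCM_iff (R : Type u) [CommRing R] [IsLocalRing R] [IsNoetherianRing R] :
    LocCoh.IsCohenMacaulayLocalRing R ↔
      ringKrullDim R = ((LocCoh.depth R R : ℕ∞) : WithBot ℕ∞) := by
  rw [← Module.supportDim_self_eq_ringKrullDim]
  exact ⟨fun h => h.supportDim_eq_depth, fun h => { supportDim_eq_depth := h }⟩

theorem depth_completion (A : Type u) [CommRing A] [IsLocalRing A] [IsNoetherianRing A] :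
    LocCoh.depth (AdicCompletion (IsLocalRing.maximalIdeal A) A)
      (AdicCompletion (IsLocalRing.maximalIdeal A) A) = LocCoh.depth A A := by
  haveI := Groth.Agent.RegularLib.isNoetherianRing_adicCompletion A (IsLocalRing.maximalIdeal A)
  haveI : Module.FaithfullyFlat A (AdicCompletion (IsLocalRing.maximalIdeal A) A) :=
    Module.FaithfullyFlat.of_flat_of_isLocalHom
  unfold LocCoh.depth
  rw [← Groth.Agent.DepthLib.idealDepth_congr _ _
    (TensorProduct.AlgebraTensorModule.rid A (AdicCompletion (IsLocalRing.maximalIdeal A) A)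
      (AdicCompletion (IsLocalRing.maximalIdeal A) A)),
    AdicCompletion.maximalIdeal_eq_map]
  exact Groth.Agent.DepthLib.idealDepth_baseChange_eq A _ _ A

/-- A Noetherian local ring is Cohen-Macaulay if and only if its completion is. -/
theorem result (A : Type u) [CommRing A] [IsLocalRing A]
    [IsNoetherianRing A] :
    LocCoh.IsCohenMacaulayLocalRing A ↔
      LocCoh.IsCohenMacaulayLocalRing (AdicCompletion (IsLocalRing.maximalIdeal A) A) := by
  have hne : IsLocalRing.maximalIdeal A ≠ ⊤ := (IsLocalRing.maximalIdeal.isMaximal A).ne_top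
  haveI := Groth.Agent.RegularLib.isNoetherianRing_adicCompletion A (IsLocalRing.maximalIdeal A)
  rw [isCM_iff A, isCM_iff (AdicCompletion (IsLocalRing.maximalIdeal A) A),
    Groth.Agent.RegularLib.ringKrullDim_adicCompletion A _ hne, depth_completion A]

end Groth.Agent.S9249
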