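import Groth.Statements.S2909
import Mathlib
import Groth.Agent.Lib.IsQuot5_helper8

set_option autoImplicit false
open CategoryTheory CategoryTheory.Limits AlgebraicGeometry
universe u
open SGA1

namespace Groth.Agent.S2909

/-- Let a finite group G act on a scheme X by automorphisms over a scheme Z (structure morphism f), and
let p : X ⟶ Y be a quotient of X by G with Y ⟶ Z the induced morphism q (so p ≫ q = f). Then X is
affine over Z iff Y is, X is separated over Z iff Y is; if f is locally of finite type then p is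
finite; and if moreover Z is locally Noetherian and f quasi-compact then q is of finite type
(locally of finite type and quasi-compact). -/
theorem result {X Y Z : Scheme.{u}} {G : Type u} [Group G] [Finite G] (ρ : G →* Aut X)
    (p : X ⟶ Y) (hp : SGA1.IsQuot ρ p) (f : X ⟶ Z) (q : Y ⟶ Z) (hq : p ≫ q = f) (hρ : ∀ g : G, (ρ g).hom ≫ f = f) :
    (IsAffineHom f ↔ IsAffineHom q) ∧ (IsSeparated f ↔ IsSeparated q) ∧
    (LocallyOfFiniteType f → IsFinite p) ∧
    (IsLocallyNoetherian Z → LocallyOfFiniteType f → QuasiCompact f → LocallyOfFiniteType q ∧ QuasiCompact q) := by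
  subst hq
  haveI haff : IsAffineHom p := hp.affine
  haveI hint : IsIntegralHom p := Groth.Agent.S13596.result ρ p hp
  have hsurj : Function.Surjective p.base := (Groth.Agent.S2908.result ρ p hp).1
  refine ⟨⟨fun h => ⟨fun U hU => ?_⟩, fun h => ?_⟩, ⟨fun h => ?_, fun h => ?_⟩, fun h => ?_,
    fun hZ h1 h2 => ⟨?_, ?_⟩⟩
  · exact IsQuotH8.isAffineOpen_of_isQuot ρ p hp (q ⁻¹ᵁ U) (h.isAffine_preimage U hU)
  · haveI := h
    infer_instance
  · haveI := h
    exact IsQuotH8.isSeparated_of_comp_surjective p q hsurj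
  · haveI := h
    infer_instance
  · haveI := h
    rw [IsFinite.iff_isIntegralHom_and_locallyOfFiniteType]
    exact ⟨hint, locallyOfFiniteType_of_comp p q⟩
  · haveI := hZ
    rw [HasRingHomProperty.iff_appLE (P := @LocallyOfFiniteType)]
    intro U V e
    have hpV : IsAffineOpen (p ⁻¹ᵁ V.1) := haff.isAffine_preimage V.1 V.2
    have e' : p ⁻¹ᵁ V.1 ≤ (p ≫ q) ⁻¹ᵁ U.1 := fun x hx => e hx
    have hcomp := HasRingHomProperty.appLE (P := @LocallyOfFiniteType) (p ≫ q) h1 U
      ⟨p ⁻¹ᵁ V.1, hpV⟩ e'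
    have heq : (p ≫ q).appLE U.1 (p ⁻¹ᵁ V.1) e' = q.appLE U.1 V.1 e ≫ p.app V.1 := by
      rw [Scheme.Hom.app_eq_appLE p, Scheme.Hom.appLE_comp_appLE]
    haveI : IsNoetherianRing Γ(Z, U.1) := IsLocallyNoetherian.component_noetherian U
    refine IsQuotH8.finiteType_of_comp_integral (q.appLE U.1 V.1 e).hom (p.app V.1).hom ?_
      (Groth.Agent.Lib.GrpQuot.isQuot_affine_data ρ p hp V.1).1 (hp.injective V.1)
    change ((p ≫ q).appLE U.1 (p ⁻¹ᵁ V.1) e').hom.FiniteType at hcomp
    rw [heq] at hcomp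
    exact hcomp
  · haveI := h2
    exact IsQuotH8.quasiCompact_of_comp_surjective p q hsurj

end Groth.Agent.S2909
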