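import Groth.Statements.S2911
import Mathlib
import Groth.Agent.Lib.EtQuot3_helper8
import Groth.Agent.Lib.QuotRes3_helper8
import Groth.Agent.S2909
import Groth.Agent.S2908

set_option autoImplicit false
open CategoryTheory CategoryTheory.Limits AlgebraicGeometry
universe u
open SGA1

namespace Groth.Agent.S2911

/-- With the existence of the quotient taken as a hypothesis: Let Y be locally Noetherian, f : X ⟶ Y
etale, separated and quasi-compact, G a finite group acting on X by Y-automorphisms, p : X ⟶ X' a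
quotient of X by G and q : X' ⟶ Y the induced morphism. Then p and q are etale, and if f is finite
then q is finite. -/
theorem result {X X' Y : Scheme.{u}} {G : Type u} [Group G] [Finite G] (ρ : G →* Aut X)
    [IsLocallyNoetherian Y] (f : X ⟶ Y) [Etale f] [IsSeparated f] [QuasiCompact f] (hρ : ∀ g : G, (ρ g).hom ≫ f = f)
    (p : X ⟶ X') (hp : SGA1.IsQuot ρ p) (q : X' ⟶ Y) (hq : p ≫ q = f) :
    Etale p ∧ Etale q ∧ (IsFinite f → IsFinite q) := by
  haveI : IsAffineHom p := hp.affine
  haveI : LocallyOfFiniteType f := inferInstance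
  have h09 := Groth.Agent.S2909.result ρ p hp f q hq hρ
  obtain ⟨hq_lft, hq_qc⟩ := h09.2.2.2 inferInstance inferInstance inferInstance
  haveI : IsFinite p := h09.2.2.1 inferInstance
  haveI : IsIntegralHom p := inferInstance
  have h08 := Groth.Agent.S2908.result ρ p hp
  haveI : Surjective p := ⟨h08.1⟩
  -- the local key
  have key : ∀ y' : X', ∃ (W : Y.affineOpens) (V : X'.affineOpens) (_ : y' ∈ V.1)
      (e : V.1 ≤ q ⁻¹ᵁ W.1), (q.appLE W V e).hom.Etale ∧ (p.app V.1).hom.Etale := by
    intro y'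
    obtain ⟨_, ⟨W, hW : IsAffineOpen W, rfl⟩, hyW, -⟩ :=
      Y.isBasis_affineOpens.exists_subset_of_mem_open (Set.mem_univ (q.base y')) isOpen_univ
    obtain ⟨_, ⟨V, hV : IsAffineOpen V, rfl⟩, hyV, hVW⟩ :=
      X'.isBasis_affineOpens.exists_subset_of_mem_open (show y' ∈ (q ⁻¹ᵁ W : Set X') from hyW)
        (q ⁻¹ᵁ W).isOpen
    have e : V ≤ q ⁻¹ᵁ W := hVW
    have hU : IsAffineOpen (p ⁻¹ᵁ V) := hV.preimage p
    have e' : p ⁻¹ᵁ V ≤ f ⁻¹ᵁ W := by
      intro x hx
      have h1 : p.base x ∈ q ⁻¹ᵁ W := e hx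
      show f.base x ∈ W
      rw [← hq, Scheme.Hom.comp_apply]
      exact h1
    refine ⟨⟨W, hW⟩, ⟨V, hV⟩, hyV, e, ?_⟩
    haveI : IsNoetherianRing Γ(Y, W) := IsLocallyNoetherian.component_noetherian ⟨W, hW⟩
    have hcomp : (p.app V).hom.comp (q.appLE W V e).hom = (f.appLE W (p ⁻¹ᵁ V) e').hom := by
      have h1 : q.appLE W V e ≫ p.app V = (p ≫ q).appLE W (p ⁻¹ᵁ V) (by rw [hq]; exact e') := by
        rw [Scheme.Hom.app_eq_appLE, Scheme.Hom.appLE_comp_appLE]
      have h2 : (p ≫ q).appLE W (p ⁻¹ᵁ V) (by rw [hq]; exact e') = f.appLE W (p ⁻¹ᵁ V) e' :=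
        IsQuotH8.appLE_congr hq W (p ⁻¹ᵁ V) _ _
      rw [← h2, ← h1]
      rfl
    exact EtQuotH8.etale_of_invariants (G := G) (q.appLE W V e).hom (p.app V).hom
      (q.finiteType_appLE hW hV e)
      (by rw [hcomp]; exact f.etale_appLE hW hU e')
      (IsIntegralHom.isIntegral_app p V hV)
      (fun g => (IsQuotH8.act ρ p hp.inv g V).hom)
      (fun g a => IsQuotH8.act_app ρ p hp.inv g V a)
      (fun b => IsQuotH8.act_one ρ p hp.inv V b)
      (fun g h b => IsQuotH8.act_mul ρ p hp.inv V g h b)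
      (hp.injective V)
      (fun b hb => (hp.range_iff V b).mpr hb)
  have hstable : RingHom.StableUnderCompositionWithLocalizationAwaySource RingHom.Etale := by
    intro R S T _ _ _ _ r _ f hf
    have h1 : (algebraMap R S).Etale :=
      RingHom.etale_algebraMap.mpr (Algebra.Etale.of_isLocalizationAway r)
    exact RingHom.Etale.stableUnderComposition _ _ h1 hf
  have hEq : Etale q := by
    refine (HasRingHomProperty.iff_exists_appLE (P := @Etale) hstable).mpr fun y' => ?_
    obtain ⟨W, V, hyV, e, h1, -⟩ := key y'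
    exact ⟨W, V, hyV, e, h1⟩
  have hEp : Etale p := by
    refine (HasRingHomProperty.iff_exists_appLE (P := @Etale) hstable).mpr fun x => ?_
    obtain ⟨W, V, hyV, e, -, h2⟩ := key (p.base x)
    refine ⟨V, ⟨p ⁻¹ᵁ V.1, V.2.preimage p⟩, hyV, le_rfl, ?_⟩
    rw [← Scheme.Hom.app_eq_appLE]
    exact h2
  refine ⟨hEp, hEq, fun hfin => ?_⟩
  haveI : IsFinite f := hfin
  haveI : IsAffineHom q := h09.1.mp inferInstance
  haveI : IsSeparated q := h09.2.1.mp inferInstance
  haveI : IsFinite (p ≫ q) := by rw [hq]; infer_instance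
  haveI : UniversallyClosed q := UniversallyClosed.of_comp_surjective p q
  haveI : IsProper q := { }
  exact IsFinite.iff_isProper_and_isAffineHom.mpr ⟨inferInstance, inferInstance⟩

end Groth.Agent.S2911
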