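import Groth.Statements.S2913
import Mathlib

set_option autoImplicit false
open CategoryTheory CategoryTheory.Limits AlgebraicGeometry Opposite
universe u
open SGA1

namespace Groth.Agent.S2913

/-- Let g : S' ⟶ S be a surjective morphism of schemes such that for every open U of S the map O_S(U) →
O_{S'}(g⁻¹U) is injective. Then g is an epimorphism in the category of schemes. -/
theorem result {S' S : Scheme.{u}} (g : S' ⟶ S) [Surjective g]
    (hinj : ∀ U : S.Opens, Function.Injective (g.app U).hom) : Epi g := by
  constructor
  intro T a b hab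
  have h_base : a.base = b.base := by
    ext x
    obtain ⟨x', rfl⟩ := g.surjective x
    have := congrArg (fun f : S' ⟶ T => f x') hab
    simpa using this
  refine Scheme.Hom.ext h_base fun U => ?_
  haveI hmono : Mono (g.app (b ⁻¹ᵁ U)) := ConcreteCategory.mono_of_injective _ (hinj _)
  rw [← cancel_mono (g.app (b ⁻¹ᵁ U))]
  rw [Category.assoc, Scheme.Hom.naturality, ← Category.assoc, ← Scheme.Hom.comp_app,
    ← Scheme.Hom.comp_app]
  rw [Scheme.Hom.congr_app hab U]
  refine (Category.assoc _ _ _).trans ?_
  refine (congrArg (_ ≫ ·) (S'.presheaf.map_comp _ _).symm).trans ?_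
  refine (congrArg (_ ≫ ·) ((congrArg S'.presheaf.map (Subsingleton.elim _ (𝟙 _))).trans
    (S'.presheaf.map_id _))).trans (Category.comp_id _)

end Groth.Agent.S2913
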