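import Groth.Statements.S2917
import Mathlib
import Groth.Agent.Lib.UnivSubm1_helper6
-- import your own Groth.Agent.* helpers here

set_option autoImplicit false
open CategoryTheory CategoryTheory.Limits AlgebraicGeometry Opposite
universe u
open SGA1

namespace Groth.Agent.S2917

/-- Let g : S' ⟶ S be universally submersive, f : X ⟶ Y a morphism of S-schemes (Y ⟶ S the structure
map) and f' its base change along S' ⟶ S, realised as X ×_S S' ⟶ Y ×_S S'. If f' is open (resp.
closed) then so is f; if f' is universally open (resp. universally closed, resp. separated) then so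
is f; and if moreover g is quasi-compact and f locally of finite type, then f is proper as soon as
f' is. -/
theorem result {S' S X Y : Scheme.{u}} (g : S' ⟶ S) (hg : SGA1.UnivSubmersive g)
    (f : X ⟶ Y) (q : Y ⟶ S) :
    (IsOpenMap (pullback.map (f ≫ q) g q g f (𝟙 S') (𝟙 S) (Category.comp_id _) ((Category.comp_id _).trans (Category.id_comp _).symm)).base → IsOpenMap f.base) ∧
    (IsClosedMap (pullback.map (f ≫ q) g q g f (𝟙 S') (𝟙 S) (Category.comp_id _) ((Category.comp_id _).trans (Category.id_comp _).symm)).base → IsClosedMap f.base) ∧
    (UniversallyOpen (pullback.map (f ≫ q) g q g f (𝟙 S') (𝟙 S) (Category.comp_id _) ((Category.comp_id _).trans (Category.id_comp _).symm)) → UniversallyOpen f) ∧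
    (UniversallyClosed (pullback.map (f ≫ q) g q g f (𝟙 S') (𝟙 S) (Category.comp_id _) ((Category.comp_id _).trans (Category.id_comp _).symm)) → UniversallyClosed f) ∧
    (IsSeparated (pullback.map (f ≫ q) g q g f (𝟙 S') (𝟙 S) (Category.comp_id _) ((Category.comp_id _).trans (Category.id_comp _).symm)) → IsSeparated f) ∧
    (QuasiCompact g → LocallyOfFiniteType f →
      IsProper (pullback.map (f ≫ q) g q g f (𝟙 S') (𝟙 S) (Category.comp_id _) ((Category.comp_id _).trans (Category.id_comp _).symm)) → IsProper f) := by

  have hQ : SGA1.UnivSubmersive (pullback.fst q g) :=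
    MorphismProperty.pullback_fst (P := SGA1.UnivSubmersive) q g hg
  have hsq : IsPullback
      (pullback.map (f ≫ q) g q g f (𝟙 S') (𝟙 S) (Category.comp_id _)
        ((Category.comp_id _).trans (Category.id_comp _).symm))
      (pullback.fst (f ≫ q) g) (pullback.fst q g) f := by
    have hright : IsPullback (pullback.snd q g) (pullback.fst q g) g q :=
      (IsPullback.of_hasPullback q g).flip
    have houter : IsPullback
        (pullback.map (f ≫ q) g q g f (𝟙 S') (𝟙 S) (Category.comp_id _)
          ((Category.comp_id _).trans (Category.id_comp _).symm) ≫ pullback.snd q g)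
        (pullback.fst (f ≫ q) g) g (f ≫ q) := by
      have : pullback.map (f ≫ q) g q g f (𝟙 S') (𝟙 S) (Category.comp_id _)
          ((Category.comp_id _).trans (Category.id_comp _).symm) ≫ pullback.snd q g =
          pullback.snd (f ≫ q) g := by
        rw [pullback.map, pullback.lift_snd, Category.comp_id]
      rw [this]
      exact (IsPullback.of_hasPullback (f ≫ q) g).flip
    exact IsPullback.of_right houter (by rw [pullback.map, pullback.lift_fst]) hright
  refine ⟨fun h => ?_, fun h => ?_, fun h => ?_, fun h => ?_, fun h => ?_, fun _ hft h => ?_⟩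
  · exact Groth.Agent.Lib.UnivSubm.descendsAlong_isOpenMap.of_isPullback hsq hQ h
  · exact Groth.Agent.Lib.UnivSubm.descendsAlong_isClosedMap.of_isPullback hsq hQ h
  · exact Groth.Agent.Lib.UnivSubm.descendsAlong_universallyOpen.of_isPullback hsq hQ h
  · exact Groth.Agent.Lib.UnivSubm.descendsAlong_universallyClosed.of_isPullback hsq hQ h
  · exact Groth.Agent.Lib.UnivSubm.descendsAlong_isSeparated.of_isPullback hsq hQ h
  · haveI := hft
    haveI := h
    exact Groth.Agent.Lib.UnivSubm.isProper_of_isPullback hsq hQ

end Groth.Agent.S2917
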