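import Groth.Statements.S2919
import Mathlib
import Groth.Agent.Lib.SecIdem2_helper8

set_option autoImplicit false
open CategoryTheory CategoryTheory.Limits AlgebraicGeometry
universe u
open SGA1

namespace Groth.Agent.S2919

/-- Let a finite group G act on X, p : X ⟶ Y a quotient with Y locally Noetherian and p finite, G acting
freely on geometric points, and suppose p has a section. Then the morphism from the disjoint union
of copies of Y indexed by G to X which is s followed by the action of g on the g-th copy is an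
isomorphism. -/
theorem result {X Y : Scheme.{u}} {G : Type u} [Group G] [Finite G] (ρ : G →* Aut X)
    (p : X ⟶ Y) (hp : SGA1.IsQuot ρ p) [IsLocallyNoetherian Y] [IsFinite p]
    (hfree : (∀ (K : Type u) [Field K] [IsAlgClosed K] (ξ : Spec (CommRingCat.of K) ⟶ X) (g : G), ξ ≫ (ρ g).hom = ξ → g = 1)) (s : Y ⟶ X) (hs : s ≫ p = 𝟙 Y) :
    IsIso (Sigma.desc (fun g : G => s ≫ (ρ g).hom) : (∐ fun _ : G => Y) ⟶ X) := by
  have hfreept : ∀ (g : G) (y y' : Y), (ρ g).hom.base (s.base y) = s.base y' → g = 1 :=
    fun g y y' h => SecIdemH8.free_on_section ρ p hp hfree s hs g y y' h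
  have hsO : IsOpenImmersion s := SecIdemH8.isOpenImmersion_section ρ p hp s hs hfreept
  have hO : ∀ g : G, IsOpenImmersion (s ≫ (ρ g).hom) := fun g => inferInstance
  have hbase : ∀ (a b : G) (x : X), (ρ (a * b)).hom.base x = (ρ a).hom.base ((ρ b).hom.base x) := by
    intro a b x
    rw [IsQuotH8.hom_mul]
    rfl
  have hone : ∀ x : X, (ρ 1).hom.base x = x := by
    intro x
    rw [IsQuotH8.hom_one]
    rfl
  have hdisj : Pairwise (Function.onFun Disjoint
      (fun g : G => Set.range (s ≫ (ρ g).hom))) := by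
    intro g h hgh
    rw [Function.onFun, Set.disjoint_iff_forall_ne]
    rintro _ ⟨y, rfl⟩ _ ⟨y', rfl⟩ heq
    apply hgh
    have h1 : (ρ (h⁻¹ * g)).hom.base (s.base y) = s.base y' := by
      rw [hbase]
      have h2 : (ρ g).hom.base (s.base y) = (ρ h).hom.base (s.base y') := heq
      rw [h2, ← hbase, inv_mul_cancel, hone]
    have := hfreept _ _ _ h1
    exact (inv_mul_eq_one.mp this).symm
  have hOI : IsOpenImmersion (Sigma.desc (fun g : G => s ≫ (ρ g).hom)) :=
    isOpenImmersion_sigmaDesc _ _ hdisj
  have hS : Surjective (Sigma.desc (fun g : G => s ≫ (ρ g).hom)) := by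
    apply Surjective.sigmaDesc_of_union_range_eq_univ
    rw [Set.eq_univ_iff_forall]
    intro x
    obtain ⟨g, hg⟩ := SecIdemH8.cover_by_section ρ p hp s hs x
    rw [Set.mem_iUnion]
    refine ⟨g⁻¹, p.base x, ?_⟩
    show (ρ g⁻¹).hom.base (s.base (p.base x)) = x
    rw [← hg, ← hbase, inv_mul_cancel, hone]
  exact (isIso_iff_isOpenImmersion_and_surjective _).mpr ⟨hOI, hS⟩

end Groth.Agent.S2919
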