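import Groth.Statements.S2920
import Mathlib
import Groth.Agent.Lib.GalQuot1_helper8
import Groth.Agent.Lib.QuotPts1_helper8
import Groth.Agent.S2908

set_option autoImplicit false
open CategoryTheory CategoryTheory.Limits AlgebraicGeometry
universe u
open SGA1

namespace Groth.Agent.S2920

/-- (i) ⇒ (iii): Let a finite group G act on X, p : X ⟶ Y a quotient with Y locally Noetherian and p
finite, G acting freely on geometric points. Then the morphism from the disjoint union of copies of
X indexed by G to X ×_Y X given on the g-th copy by (id, g) is an isomorphism, and p is flat and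
surjective. -/
theorem result {X Y : Scheme.{u}} {G : Type u} [Group G] [Finite G] (ρ : G →* Aut X)
    (p : X ⟶ Y) (hp : SGA1.IsQuot ρ p) [IsLocallyNoetherian Y] [IsFinite p] (hfree : (∀ (K : Type u) [Field K] [IsAlgClosed K] (ξ : Spec (CommRingCat.of K) ⟶ X) (g : G), ξ ≫ (ρ g).hom = ξ → g = 1)) :
    IsIso (Sigma.desc (fun g : G => pullback.lift (𝟙 X) (ρ g).hom ((Category.id_comp p).trans (hp.inv g).symm)) :
      (∐ fun _ : G => X) ⟶ pullback p p) ∧ Flat p ∧ Surjective p := by
  haveI : IsAffineHom p := hp.affine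
  obtain ⟨hflat, hunr⟩ := GalQuotH8.flat_unramified_of_free ρ p hp hfree
  have hsurjp : Surjective p := ⟨(Groth.Agent.S2908.result ρ p hp).1⟩
  refine ⟨?_, hflat, hsurjp⟩
  have hlft : LocallyOfFiniteType p := inferInstance
  have hdiag : IsOpenImmersion (pullback.diagonal p) := inferInstance
  -- the graph morphisms
  have hΓ : ∀ g : G, pullback.lift (𝟙 X) (ρ g).hom ((Category.id_comp p).trans (hp.inv g).symm) =
      pullback.diagonal p ≫ pullback.map p p p p (𝟙 X) (ρ g).hom (𝟙 Y)
        (by rw [Category.id_comp, Category.comp_id])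
        (by rw [Category.comp_id, hp.inv g]) := by
    intro g
    apply pullback.hom_ext
    · rw [pullback.lift_fst, Category.assoc]
      erw [pullback.lift_fst]
      rw [← Category.assoc, pullback.diagonal_fst, Category.id_comp]
    · rw [pullback.lift_snd, Category.assoc]
      erw [pullback.lift_snd]
      rw [← Category.assoc, pullback.diagonal_snd, Category.id_comp]
  have hO : ∀ g : G, IsOpenImmersion
      (pullback.lift (𝟙 X) (ρ g).hom ((Category.id_comp p).trans (hp.inv g).symm)) := by
    intro g
    rw [hΓ g]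
    infer_instance
  have hfst : ∀ g : G, pullback.lift (𝟙 X) (ρ g).hom ((Category.id_comp p).trans (hp.inv g).symm) ≫
      pullback.fst p p = 𝟙 X := fun g => pullback.lift_fst _ _ _
  have hsnd : ∀ g : G, pullback.lift (𝟙 X) (ρ g).hom ((Category.id_comp p).trans (hp.inv g).symm) ≫
      pullback.snd p p = (ρ g).hom := fun g => pullback.lift_snd _ _ _
  have hdisj : Pairwise (Function.onFun Disjoint (fun g : G => Set.range
      (pullback.lift (𝟙 X) (ρ g).hom ((Category.id_comp p).trans (hp.inv g).symm)))) := by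
    intro g h hgh
    rw [Function.onFun, Set.disjoint_iff_forall_ne]
    rintro _ ⟨x, rfl⟩ _ ⟨x', rfl⟩ heq
    apply hgh
    obtain ⟨e, -, -⟩ := Scheme.Pullback.exists_preimage_pullback
      (f := pullback.lift (𝟙 X) (ρ g).hom ((Category.id_comp p).trans (hp.inv g).symm))
      (g := pullback.lift (𝟙 X) (ρ h).hom ((Category.id_comp p).trans (hp.inv h).symm)) x x' heq
    obtain ⟨ζ, -⟩ : ∃ ζ : Spec (CommRingCat.of (AlgebraicClosure (IsLocalRing.ResidueField
        ((pullback (pullback.lift (𝟙 X) (ρ g).hom ((Category.id_comp p).trans (hp.inv g).symm))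
          (pullback.lift (𝟙 X) (ρ h).hom ((Category.id_comp p).trans
            (hp.inv h).symm))).presheaf.stalk e)))) ⟶ _,
        ζ = Spec.map (CommRingCat.ofHom (algebraMap _ _)) ≫
          Scheme.fromSpecResidueField _ e := ⟨_, rfl⟩
    have hcond : (ζ ≫ pullback.fst _ _) ≫
        pullback.lift (𝟙 X) (ρ g).hom ((Category.id_comp p).trans (hp.inv g).symm) =
        (ζ ≫ pullback.snd _ _) ≫
        pullback.lift (𝟙 X) (ρ h).hom ((Category.id_comp p).trans (hp.inv h).symm) := by
      rw [Category.assoc, Category.assoc, pullback.condition]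
    have hab : ζ ≫ pullback.fst _ _ = ζ ≫ pullback.snd _ _ := by
      have := congrArg (· ≫ pullback.fst p p) hcond
      simpa only [Category.assoc, hfst, Category.comp_id] using this
    have hgh' : (ζ ≫ pullback.fst _ _) ≫ (ρ g).hom = (ζ ≫ pullback.fst _ _) ≫ (ρ h).hom := by
      have := congrArg (· ≫ pullback.snd p p) hcond
      simp only [Category.assoc, hsnd] at this
      rw [Category.assoc, this, hab, Category.assoc]
    have hfix : (ζ ≫ pullback.fst _ _) ≫ (ρ (h⁻¹ * g)).hom = ζ ≫ pullback.fst _ _ := by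
      rw [IsQuotH8.hom_mul, ← Category.assoc, hgh', Category.assoc, ← IsQuotH8.hom_mul,
        inv_mul_cancel, IsQuotH8.hom_one, Category.comp_id]
    have := hfree _ _ _ hfix
    exact (inv_mul_eq_one.mp this).symm
  have hOI : IsOpenImmersion (Sigma.desc (fun g : G =>
      pullback.lift (𝟙 X) (ρ g).hom ((Category.id_comp p).trans (hp.inv g).symm))) :=
    isOpenImmersion_sigmaDesc _ _ hdisj
  have hS : Surjective (Sigma.desc (fun g : G =>
      pullback.lift (𝟙 X) (ρ g).hom ((Category.id_comp p).trans (hp.inv g).symm))) := by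
    apply Surjective.sigmaDesc_of_union_range_eq_univ
    rw [Set.eq_univ_iff_forall]
    intro z
    obtain ⟨ζ, hζ0⟩ : ∃ ζ : Spec (CommRingCat.of (IsLocalRing.ResidueField
        ((pullback p p).presheaf.stalk z))) ⟶ pullback p p,
      ζ = (pullback p p).fromSpecResidueField z := ⟨_, rfl⟩
    have hζpt : ζ.base (IsLocalRing.closedPoint _) = z := by
      rw [hζ0]; exact Scheme.fromSpecResidueField_apply _ _
    have hcond : (ζ ≫ pullback.fst p p) ≫ p = (ζ ≫ pullback.snd p p) ≫ p := by
      rw [Category.assoc, Category.assoc, pullback.condition]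
    obtain ⟨g, hg⟩ := IsQuotH8.exists_eq_comp_of_comp_eq ρ p hp _ _ _ hcond
    rw [Set.mem_iUnion]
    refine ⟨g, (ζ ≫ pullback.fst p p).base (IsLocalRing.closedPoint _), ?_⟩
    have hζ : ζ = (ζ ≫ pullback.fst p p) ≫
        pullback.lift (𝟙 X) (ρ g).hom ((Category.id_comp p).trans (hp.inv g).symm) := by
      apply pullback.hom_ext
      · rw [Category.assoc, hfst, Category.comp_id]
      · rw [Category.assoc, hsnd, ← hg]
    conv_rhs => rw [← hζpt, hζ]
    rfl
  exact (isIso_iff_isOpenImmersion_and_surjective _).mpr ⟨hOI, hS⟩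

end Groth.Agent.S2920
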