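import Groth.Statements.S2921
import Mathlib
import Groth.Agent.Lib.Kum4_helper8
import Groth.Agent.Lib.Kum5_helper8

set_option autoImplicit false
universe u
open IsLocalRing
open SGA1

namespace Groth.Agent.S2921

/-- Regularity and etaleness; the tameness assertion is not stated: Let A be a regular local ring, f_1,
…, f_r elements of the maximal ideal whose images in the cotangent space are linearly independent
(part of a regular system of parameters), and n_1, …, n_r ≥ 1. Then A' = A[T_1, …, T_r]/(T_i^{n_i} −
f_i) is a regular local ring; and if each n_i is invertible in the residue field of A, then A'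
becomes etale over A after inverting f_1 ⋯ f_r. -/
theorem result (A : Type u) [CommRing A] [IsRegularLocalRing A] (r : ℕ) (f : Fin r → A)
    (hm : ∀ i, f i ∈ maximalIdeal A)
    (hf : LinearIndependent (ResidueField A) (fun i => (maximalIdeal A).toCotangent ⟨f i, hm i⟩))
    (n : Fin r → ℕ) (hn : ∀ i, 1 ≤ n i) :
    IsRegularLocalRing (SGA1.kummerAlg A f n) ∧
    ((∀ i, IsUnit ((n i : ℕ) : ResidueField A)) →
      letI := (Localization.awayMap (algebraMap A (SGA1.kummerAlg A f n)) (∏ i, f i)).toAlgebra
      Algebra.Etale (Localization.Away (∏ i, f i)) (Localization.Away (algebraMap A (SGA1.kummerAlg A f n) (∏ i, f i)))) := by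
  haveI : Nontrivial A := inferInstance
  refine ⟨KumH8.isRegularLocalRing_kummer A r f hm hf n hn, ?_⟩
  intro hu
  letI := (Localization.awayMap (algebraMap A (SGA1.kummerAlg A f n)) (∏ i, f i)).toAlgebra
  haveI : IsScalarTower A (Localization.Away (∏ i, f i))
      (Localization.Away (algebraMap A (SGA1.kummerAlg A f n) (∏ i, f i))) :=
    IsScalarTower.of_algebraMap_eq (fun x => by
      show algebraMap A (Localization.Away (algebraMap A (SGA1.kummerAlg A f n) (∏ i, f i))) x =
        Localization.awayMap (algebraMap A (SGA1.kummerAlg A f n)) (∏ i, f i)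
          (algebraMap A (Localization.Away (∏ i, f i)) x)
      unfold Localization.awayMap IsLocalization.Away.map
      rw [IsLocalization.map_eq]
      exact IsScalarTower.algebraMap_apply A (SGA1.kummerAlg A f n) _ x)
  apply KumH8.etale f n _ _ hn
  intro i
  have h1 : IsUnit ((n i : ℕ) : A) := by
    have h2 := hu i
    rw [← map_natCast (IsLocalRing.residue A)] at h2
    exact isUnit_of_map_unit _ _ h2
  have h3 := h1.map (algebraMap A (Localization.Away (∏ i, f i)))
  rwa [map_natCast] at h3

end Groth.Agent.S2921
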