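import Groth.Statements.S2937
import Mathlib
import Groth.Agent.Lib.PurDesc2_helper5
import Groth.Agent.Lib.PurDesc4_helper5

set_option autoImplicit false
universe u
open CategoryTheory AlgebraicGeometry
open Pi1

namespace Groth.Agent.S2937

/-- Let X be a locally Noetherian scheme and U an open subscheme such that O_X → i_*O_U is an
isomorphism, equivalently, every local ring of X at a point outside U has depth ≥ 2. Let f : X_1 → X
be faithfully flat and quasi-compact. If the pair (X_1, X_1 − f⁻¹U) is pure (restriction of finite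
étale covers from every open V to V ∩ f⁻¹U is an equivalence), then so is (X, X − U). -/
theorem result (X X₁ : Scheme.{u}) [IsLocallyNoetherian X] (U : X.Opens) (hU : ∀ x : X, x ∉ U → (2 : ℕ∞) ≤ LocCoh.depth (X.presheaf.stalk x) (X.presheaf.stalk x)) (f : X₁ ⟶ X) [Flat f] [Surjective f] [QuasiCompact f] (h : SGA2.IsPurePair X₁ (f ⁻¹ᵁ U)) : SGA2.IsPurePair X U := by
  intro V
  have hU' : ∀ x : X, x ∉ U.ι.opensRange →
      (2 : ℕ∞) ≤ LocCoh.depth (X.presheaf.stalk x) (X.presheaf.stalk x) := by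
    rw [Scheme.Opens.opensRange_ι]
    exact hU
  -- full faithfulness
  have Sq0 : IsPullback (X.homOfLE (inf_le_right : V ⊓ U ≤ U))
      (X.homOfLE (inf_le_left : V ⊓ U ≤ V)) U.ι V.ι := (isPullback_opens_inf V U).flip
  haveI hfull : (FEt.restrict (X.homOfLE (inf_le_left : V ⊓ U ≤ V))).Full :=
    Groth.Agent.Lib.PurDesc.full_restrict U.ι hU' V.ι _ _ Sq0
  haveI hfaith : (FEt.restrict (X.homOfLE (inf_le_left : V ⊓ U ≤ V))).Faithful :=
    Groth.Agent.Lib.PurDesc.faithful_restrict U.ι hU' V.ι _ _ Sq0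
  -- essential surjectivity
  haveI : Surjective (f ∣_ V) := IsZariskiLocalAtTarget.restrict (P := @Surjective) inferInstance V
  have hle : f ⁻¹ᵁ V ⊓ f ⁻¹ᵁ U ≤ f ⁻¹ᵁ (V ⊓ U) := le_of_eq (Scheme.Hom.preimage_inf f).symm
  have H : IsPullback (f.resLE (V ⊓ U) (f ⁻¹ᵁ V ⊓ f ⁻¹ᵁ U) hle)
      (X₁.homOfLE (inf_le_left : f ⁻¹ᵁ V ⊓ f ⁻¹ᵁ U ≤ f ⁻¹ᵁ V))
      (X.homOfLE (inf_le_left : V ⊓ U ≤ V)) (f ∣_ V) := by
    refine IsOpenImmersion.isPullback _ _ _ _ ?_ ?_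
    · rw [← cancel_mono V.ι]
      simp
    · rw [Scheme.opensRange_homOfLE, Scheme.opensRange_homOfLE, ← Scheme.Hom.comp_preimage,
        morphismRestrict_ι, Scheme.Hom.comp_preimage, Scheme.Hom.preimage_inf]
  haveI hEq := h (f ⁻¹ᵁ V)
  have H1 : (FEt.restrict (X₁.homOfLE (inf_le_left : f ⁻¹ᵁ V ⊓ f ⁻¹ᵁ U ≤ f ⁻¹ᵁ V))).EssSurj :=
    inferInstance
  haveI hes : (FEt.restrict (X.homOfLE (inf_le_left : V ⊓ U ≤ V))).EssSurj := by
    refine Groth.Agent.Lib.PurDesc.essSurj_restrict _ (f ∣_ V) _ _ H H1 ?_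
    intro W W₀ c κ c₀ _ _ Hκ O
    have Sqb : IsPullback (X₁.homOfLE (inf_le_right : f ⁻¹ᵁ V ⊓ f ⁻¹ᵁ U ≤ f ⁻¹ᵁ U))
        (X₁.homOfLE (inf_le_left : f ⁻¹ᵁ V ⊓ f ⁻¹ᵁ U ≤ f ⁻¹ᵁ V)) (f ⁻¹ᵁ U).ι (f ⁻¹ᵁ V).ι :=
      (isPullback_opens_inf (f ⁻¹ᵁ V) (f ⁻¹ᵁ U)).flip
    have Sqc := isPullback_morphismRestrict f U
    have H' := Hκ.flip.paste_horiz (Sqb.paste_horiz Sqc)
    exact Groth.Agent.Lib.PurDesc.isIso_app_of_flat U.ι hU' _ _ κ H' O
  exact { }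

end Groth.Agent.S2937
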