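import Groth.Statements.S2955
import Mathlib.LinearAlgebra.RootSystem.Base

set_option autoImplicit false
open RootPairing
open scoped Pointwise Classical
universe u
open RootD

namespace Groth.Agent.S2955

/-- Let P be a finite crystallographic reduced root pairing over a domain of characteristic zero, with a
base b, and write 2ρ for the sum of the positive roots with respect to b. Then for every simple root
β (an index in the support of b) the reflection in β sends 2ρ to 2ρ − 2β (equivalently, the coroot
of β pairs to 1 with ρ; only the reflection identity is asserted). -/
theorem result {ι R M N : Type*} [CommRing R] [CharZero R] [IsDomain R] [AddCommGroup M] [Module R M]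
    [AddCommGroup N] [Module R N] (P : RootPairing ι R M N) [Finite ι] [P.IsCrystallographic] [P.IsReduced]
    [Fintype ι] (b : P.Base) (j : ι) (hj : j ∈ b.support) :
    P.reflection j (∑ i, if b.IsPos i then P.root i else 0) =
      (∑ i, if b.IsPos i then P.root i else 0) - (2 : R) • P.root j := by
  have hjpos : b.IsPos j := b.isPos_of_mem_support hj
  have hnegj : ¬ b.IsPos (P.reflectionPerm j j) := by
    have h2 : b.height (P.reflectionPerm j j) = - b.height j := b.height_reflectionPerm_self j
    rw [RootPairing.Base.isPos_iff, h2]
    rw [RootPairing.Base.isPos_iff] at hjpos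
    omega
  have hne : j ≠ P.reflectionPerm j j := fun h => hnegj (h ▸ hjpos)
  -- the reflection permutes the sum
  have h1 : P.reflection j (∑ i, if b.IsPos i then P.root i else 0) =
      ∑ k, if b.IsPos (P.reflectionPerm j k) then P.root k else 0 := by
    rw [map_sum]
    rw [← Equiv.sum_comp (P.reflectionPerm j)]
    refine Finset.sum_congr rfl fun k _ => ?_
    split_ifs with h
    · rw [← P.root_reflectionPerm, P.reflectionPerm_self]
    · rw [map_zero]
  rw [h1, eq_sub_iff_add_eq, ← sub_eq_zero]
  have h2 : (∑ k, if b.IsPos (P.reflectionPerm j k) then P.root k else 0) + (2 : R) • P.root j -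
      (∑ i, if b.IsPos i then P.root i else 0) =
      (2 : R) • P.root j + ∑ k, ((if b.IsPos (P.reflectionPerm j k) then P.root k else 0) -
        (if b.IsPos k then P.root k else 0)) := by
    rw [Finset.sum_sub_distrib]; abel
  rw [h2, Finset.sum_eq_add j (P.reflectionPerm j j) hne]
  · rw [P.reflectionPerm_self, if_neg hnegj, if_pos hjpos, if_pos hjpos, if_neg hnegj,
      P.root_reflectionPerm, P.reflection_apply_self, two_smul]
    abel
  · intro k _ ⟨hk1, hk2⟩
    have hiff : b.IsPos (P.reflectionPerm j k) ↔ b.IsPos k := by
      constructor
      · intro h
        have h3 : P.reflectionPerm j k ≠ j := by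
          intro h4
          apply hk2
          have h5 := P.reflectionPerm_self j k
          rw [h4] at h5
          exact h5.symm
        have := h.reflectionPerm hj h3
        rwa [P.reflectionPerm_self] at this
      · intro h
        exact h.reflectionPerm hj hk1
    by_cases h : b.IsPos k
    · rw [if_pos (hiff.mpr h), if_pos h, sub_self]
    · rw [if_neg (fun h' => h (hiff.mp h')), if_neg h, sub_self]
  · intro h; exact absurd (Finset.mem_univ _) h
  · intro h; exact absurd (Finset.mem_univ _) h

end Groth.Agent.S2955
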