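import Groth.Statements.S2965


set_option autoImplicit false
universe u
open SGA3t2b

namespace Groth.Agent.S2965

open Polynomial in
/-- Implication (iv) ⇒ (i) (global form, finite free module): let u be an endomorphism of a finite free
module M over a commutative ring A whose characteristic polynomial is X^r · Q with Q(0) invertible.
Then M is the direct sum of two u-stable submodules M', M'' such that u is nilpotent on M' and
bijective on M''. -/
theorem result {A : Type u} [CommRing A] {M : Type u} [AddCommGroup M] [Module A M]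
    [Module.Free A M] [Module.Finite A M] (u : M →ₗ[A] M) (r : ℕ) (Q : A[X]) (hQ : IsUnit (Q.coeff 0))
    (h : u.charpoly = X ^ r * Q) :
    ∃ M' M'' : Submodule A M, IsCompl M' M'' ∧ (∀ x ∈ M', u x ∈ M') ∧ (∀ x ∈ M'', u x ∈ M'') ∧
      (∃ n : ℕ, ∀ x ∈ M', (u ^ n) x = 0) ∧ Set.BijOn u M'' M'' := by
  classical
  have hQdecomp : Q.divX * X + C (Q.coeff 0) = Q := Polynomial.divX_mul_X_add Q
  obtain ⟨c, hc⟩ := hQ.exists_left_inv
  have hcop1 : IsCoprime (X : A[X]) Q := by
    refine ⟨-(C c * Q.divX), C c, ?_⟩
    have : C c * Q = C c * (Q.divX * X) + 1 := by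
      conv_lhs => rw [← hQdecomp]
      rw [mul_add, ← C_mul, hc, C_1]
    rw [this]
    ring
  have hcop : IsCoprime (X ^ r : A[X]) Q := hcop1.pow_left
  -- commutation
  have hcomm : ∀ (P : A[X]) (x : M), (aeval u P) (u x) = u ((aeval u P) x) := by
    intro P x
    have h1 : aeval u P * aeval u (X : A[X]) = aeval u (X : A[X]) * aeval u P := by
      rw [← map_mul, ← map_mul, mul_comm]
    rw [aeval_X] at h1
    exact LinearMap.congr_fun h1 x
  have hcomm2 : ∀ (P P' : A[X]) (x : M), (aeval u P) ((aeval u P') x) =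
      (aeval u P') ((aeval u P) x) := by
    intro P P' x
    have h1 : aeval u P * aeval u P' = aeval u P' * aeval u P := by
      rw [← map_mul, ← map_mul, mul_comm]
    exact LinearMap.congr_fun h1 x
  have hQeval : ∀ x : M, (aeval u Q) x = (aeval u Q.divX) (u x) + Q.coeff 0 • x := by
    intro x
    conv_lhs => rw [← hQdecomp]
    simp [map_add, map_mul, aeval_X, aeval_C, Module.algebraMap_end_apply]
  have hsup : LinearMap.ker (aeval u (X ^ r : A[X])) ⊔ LinearMap.ker (aeval u Q) = ⊤ := by
    rw [Polynomial.sup_ker_aeval_eq_ker_aeval_mul_of_coprime u hcop, ← h,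
      LinearMap.aeval_self_charpoly, LinearMap.ker_zero]
  have hdisj := Polynomial.disjoint_ker_aeval_of_isCoprime u hcop
  refine ⟨LinearMap.ker (aeval u (X ^ r : A[X])), LinearMap.ker (aeval u Q),
    ⟨hdisj, codisjoint_iff.mpr hsup⟩, ?_, ?_, ⟨r, ?_⟩, ?_⟩
  · intro x hx
    rw [LinearMap.mem_ker] at hx ⊢
    rw [hcomm, hx, map_zero]
  · intro x hx
    rw [LinearMap.mem_ker] at hx ⊢
    rw [hcomm, hx, map_zero]
  · intro x hx
    rw [LinearMap.mem_ker] at hx
    simpa [map_pow, aeval_X] using hx
  · refine ⟨?_, ?_, ?_⟩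
    · intro x hx
      simp only [SetLike.mem_coe, LinearMap.mem_ker] at hx ⊢
      rw [hcomm, hx, map_zero]
    · intro x hx y hy hxy
      simp only [SetLike.mem_coe, LinearMap.mem_ker] at hx hy
      have hz : (aeval u Q) (x - y) = 0 := by rw [map_sub, hx, hy, sub_zero]
      have hu : u (x - y) = 0 := by rw [map_sub, hxy, sub_self]
      rw [hQeval, hu, map_zero, zero_add] at hz
      have : x - y = 0 := by
        calc x - y = (c * Q.coeff 0) • (x - y) := by rw [hc, one_smul]
          _ = c • (Q.coeff 0 • (x - y)) := by rw [mul_smul]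
          _ = 0 := by rw [hz, smul_zero]
      exact sub_eq_zero.mp this
    · intro y hy
      simp only [SetLike.mem_coe, LinearMap.mem_ker] at hy
      refine ⟨-(c • (aeval u Q.divX) y), ?_, ?_⟩
      · simp only [SetLike.mem_coe, LinearMap.mem_ker]
        rw [map_neg, map_smul, hcomm2, hy, map_zero, smul_zero, neg_zero]
      · have h1 := hQeval y
        rw [hy, hcomm] at h1
        have h2 : Q.coeff 0 • y = -u ((aeval u Q.divX) y) := by
          rw [eq_neg_iff_add_eq_zero, add_comm]; exact h1.symm
        calc u (-(c • (aeval u Q.divX) y)) = c • (-u ((aeval u Q.divX) y)) := by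
              rw [map_neg, map_smul, smul_neg]
          _ = c • (Q.coeff 0 • y) := by rw [h2]
          _ = (c * Q.coeff 0) • y := by rw [mul_smul]
          _ = y := by rw [hc, one_smul]

end Groth.Agent.S2965
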