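import Groth.Statements.S2967


set_option autoImplicit false
universe u
open SGA3t2b

namespace Groth.Agent.S2967

/-- A commutative p-Lie algebra over a field k of characteristic p is recorded as a k-vector space g
together with its p-th power map φ, which is additive and Frobenius-semilinear. Let g be
finite-dimensional and non-zero, and assume every element of g is killed by some iterate of φ (g is
unipotent). Then the k-subspace of g spanned by the image φ(g) is a proper subspace. -/
theorem result {k : Type u} [Field k] (p : ℕ) [Fact p.Prime] [CharP k p]
    {V : Type u} [AddCommGroup V] [Module k V] [FiniteDimensional k V] [Nontrivial V]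
    (φ : V →ₛₗ[frobenius k p] V) (hφ : ∀ x : V, ∃ n : ℕ, φ^[n] x = 0) :
    Submodule.span k (Set.range φ) ≠ ⊤ := by
  classical
  intro htop
  -- image of a span under φ is inside the span of the image
  have himg : ∀ S : Set V, ∀ v ∈ Submodule.span k S, φ v ∈ Submodule.span k (φ '' S) := by
    intro S v hv
    induction hv using Submodule.span_induction with
    | mem x hx => exact Submodule.subset_span ⟨x, hx, rfl⟩
    | zero => simp
    | add x y _ _ hx hy => rw [map_add]; exact Submodule.add_mem _ hx hy
    | smul c x _ hx => rw [map_smulₛₗ]; exact Submodule.smul_mem _ _ hx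
  -- span of the image of φ^[n] is everything
  have hn : ∀ n : ℕ, Submodule.span k (Set.range (φ^[n])) = ⊤ := by
    intro n
    induction n with
    | zero => simp
    | succ n ih =>
      rw [eq_top_iff, ← htop, Submodule.span_le]
      rintro _ ⟨v, rfl⟩
      have hv : v ∈ Submodule.span k (Set.range (φ^[n])) := by rw [ih]; trivial
      have := himg _ v hv
      refine Submodule.span_mono ?_ this
      rintro _ ⟨_, ⟨w, rfl⟩, rfl⟩
      exact ⟨w, by rw [Function.iterate_succ_apply']⟩
  -- a uniform bound on a basis
  let b := Module.finBasis k V
  choose m hm using fun i => hφ (b i)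
  let N := Finset.univ.sup m
  have hzero : ∀ n : ℕ, φ^[n] (0 : V) = 0 := by
    intro n
    induction n with
    | zero => rfl
    | succ n ih => rw [Function.iterate_succ_apply', ih, map_zero]
  have hb : ∀ i, φ^[N] (b i) = 0 := by
    intro i
    have hle : m i ≤ N := Finset.le_sup (Finset.mem_univ i)
    obtain ⟨d, hd⟩ := Nat.exists_eq_add_of_le hle
    rw [hd, add_comm, Function.iterate_add_apply, hm i, hzero]
  -- φ^[N] is additive and semilinear up to a power of Frobenius, kills the span of the basis
  have hkill : ∀ v ∈ Submodule.span k (Set.range b), φ^[N] v = 0 := by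
    have hadd : ∀ n : ℕ, ∀ x y : V, φ^[n] (x + y) = φ^[n] x + φ^[n] y := by
      intro n
      induction n with
      | zero => intro x y; rfl
      | succ n ih => intro x y; rw [Function.iterate_succ_apply', ih, map_add,
          ← Function.iterate_succ_apply' φ, ← Function.iterate_succ_apply' φ]
    have hsmul : ∀ n : ℕ, ∀ (c : k) (x : V), φ^[n] x = 0 → φ^[n] (c • x) = 0 := by
      intro n
      induction n with
      | zero => intro c x hx; simp only [Function.iterate_zero, id_eq] at hx ⊢; rw [hx, smul_zero]
      | succ n ih =>
        intro c x hx
        rw [Function.iterate_succ_apply, map_smulₛₗ]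
        apply ih
        rwa [Function.iterate_succ_apply] at hx
    intro v hv
    induction hv using Submodule.span_induction with
    | mem x hx => obtain ⟨i, rfl⟩ := hx; exact hb i
    | zero => exact hzero N
    | add x y _ _ hx hy => rw [hadd, hx, hy, add_zero]
    | smul c x _ hx => exact hsmul N c x hx
  have hall : ∀ v : V, φ^[N] v = 0 := fun v => hkill v (by rw [b.span_eq]; trivial)
  have h0 : Submodule.span k (Set.range (φ^[N])) = ⊥ := by
    rw [Submodule.span_eq_bot]
    rintro _ ⟨v, rfl⟩
    exact hall v
  have := hn N
  rw [h0] at this
  exact bot_ne_top this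

end Groth.Agent.S2967
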