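import Groth.Statements.S2978
import Mathlib.RingTheory.Noetherian.Basic
import Mathlib.LinearAlgebra.Pi
import Mathlib.RingTheory.Finiteness.Defs

set_option autoImplicit false
universe u
open SGA3b

namespace Groth.Agent.S2978

/-- Let A be a Noetherian ring, M a set and a : M × M → A a family vanishing off the diagonal which is a
finite sum of decomposable families: a(m, m') = Σ_i b_i(m) c_i(m') for finitely many b_i, c_i : M →
A. Then a has finite support. -/
theorem result (A : Type u) [CommRing A] [IsNoetherianRing A] (M : Type u)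
    (a : M × M → A) (hdiag : ∀ m m', m ≠ m' → a (m, m') = 0)
    (ι : Type u) [Fintype ι] (b c : ι → M → A) (hdec : ∀ m m', a (m, m') = ∑ i, b i m * c i m') :
    Set.Finite {p : M × M | a p ≠ 0} := by
  classical
  obtain ⟨bv, hbv⟩ : ∃ bv : M → (ι → A), ∀ m i, bv m i = b i m := ⟨fun m i => b i m, fun _ _ => rfl⟩
  have hfg : (Submodule.span A (Set.range bv)).FG := IsNoetherian.noetherian _
  obtain ⟨T, hTsub, hTspan⟩ := (Submodule.fg_span_iff_fg_span_finset_subset _).mp hfg
  have hpre : ∀ t ∈ T, ∃ m, bv m = t := fun t ht => hTsub ht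
  choose mt hmt using hpre
  have hzero : ∀ m, m ∉ T.attach.image (fun t => mt t.1 t.2) → a (m, m) = 0 := by
    intro m hm
    obtain ⟨φ, hφ⟩ : ∃ φ : (ι → A) →ₗ[A] A, ∀ v, φ v = ∑ i, v i * c i m := by
      refine ⟨∑ i, c i m • LinearMap.proj i, fun v => ?_⟩
      simp [LinearMap.sum_apply, mul_comm]
    have hker : Submodule.span A (Set.range bv) ≤ LinearMap.ker φ := by
      rw [hTspan, Submodule.span_le]
      intro t ht
      rw [SetLike.mem_coe, LinearMap.mem_ker, hφ, ← hmt t ht]
      have h1 : ∑ i, bv (mt t ht) i * c i m = a (mt t ht, m) := by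
        rw [hdec]
        exact Finset.sum_congr rfl (fun i _ => by rw [hbv])
      rw [h1]
      apply hdiag
      intro h
      apply hm
      rw [← h]
      exact Finset.mem_image.mpr ⟨⟨t, ht⟩, Finset.mem_attach _ _, rfl⟩
    have h2 : φ (bv m) = 0 := hker (Submodule.subset_span ⟨m, rfl⟩)
    rw [hφ] at h2
    rw [hdec, ← h2]
    exact Finset.sum_congr rfl (fun i _ => by rw [hbv])
  apply Set.Finite.subset ((T.attach.image (fun t => mt t.1 t.2)).image (fun m => (m, m))).finite_toSet
  rintro ⟨m, m'⟩ hp
  have hp' : a (m, m') ≠ 0 := hp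
  have hmm' : m = m' := by
    by_contra h
    exact hp' (hdiag m m' h)
  subst hmm'
  have hmF : m ∈ T.attach.image (fun t => mt t.1 t.2) := by
    by_contra h
    exact hp' (hzero m h)
  rw [Finset.mem_coe]
  exact Finset.mem_image_of_mem (fun m => (m, m)) hmF

end Groth.Agent.S2978
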