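import Groth.Statements.S3043
import Mathlib

set_option autoImplicit false
universe u
open CategoryTheory MonoidalCategory CartesianMonoidalCategory MonObj GrpObj AlgebraicGeometry TensorProduct
open SGA3

namespace Groth.Agent.S3043

/-- Let π : X → S be a morphism of schemes admitting a section ε (ε followed by π is the identity). If π
is injective on underlying points, then π is an integral morphism. -/
theorem result (X S : Scheme.{u}) (π : X ⟶ S) (ε : S ⟶ X) (hε : ε ≫ π = 𝟙 S)
    (hinj : Function.Injective π.base) : IsIntegralHom π := by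
  have h1 : ∀ s : S, π.base (ε.base s) = s := fun s => by
    rw [← Scheme.Hom.comp_apply, hε]; rfl
  have h2 : ∀ x : X, ε.base (π.base x) = x := fun x => hinj (h1 _)
  let e : X ≃ₜ S := ⟨⟨π.base, ε.base, h2, h1⟩, π.continuous, ε.continuous⟩
  have haff : IsAffineHom π := isAffineHom_of_isInducing π e.isInducing (by
    rw [show Set.range π.base = Set.univ from e.surjective.range_eq]; exact isClosed_univ)
  refine { toIsAffineHom := haff, isIntegral_app := fun U hU => ?_ }
  have hW : IsAffineOpen (π ⁻¹ᵁ U) := hU.preimage π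
  have hUW : U = ε ⁻¹ᵁ π ⁻¹ᵁ U := by
    rw [← Scheme.Hom.comp_preimage, hε]; rfl
  let T : Γ(S, ε ⁻¹ᵁ π ⁻¹ᵁ U) ⟶ Γ(S, U) := S.presheaf.map (eqToHom hUW).op
  let ψ : Γ(X, π ⁻¹ᵁ U) ⟶ Γ(S, U) := ε.app (π ⁻¹ᵁ U) ≫ T
  have hψ : π.app U ≫ ψ = 𝟙 _ := by
    simp only [ψ, T, ← Category.assoc, ← Scheme.Hom.comp_app]
    rw [Scheme.Hom.congr_app hε U]
    simp
    refine (Category.id_comp _).trans ?_
    rw [← S.presheaf.map_id]
    exact congrArg _ (Subsingleton.elim _ _)
  intro b
  set a := ψ.hom b with ha
  have hc : ψ.hom (b - (π.app U).hom a) = 0 := by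
    rw [map_sub]
    have : ψ.hom ((π.app U).hom a) = a := by
      have := congr($hψ a)
      simpa using this
    rw [this, ha, sub_self]
  have hc2 : (ε.app (π ⁻¹ᵁ U)).hom (b - (π.app U).hom a) = 0 := by
    have hT : Function.Injective T.hom := by
      have : IsIso T := inferInstance
      exact (ConcreteCategory.bijective_of_isIso T).injective
    apply hT
    rw [map_zero]
    exact hc
  have hbo : X.basicOpen (b - (π.app U).hom a) = ⊥ := by
    have h3 : ε ⁻¹ᵁ X.basicOpen (b - (π.app U).hom a) = ⊥ := by
      rw [Scheme.preimage_basicOpen]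
      have : (ε.app (π ⁻¹ᵁ U)) (b - (π.app U).hom a) = 0 := hc2
      rw [this, Scheme.basicOpen_zero]
    ext x
    simp only [TopologicalSpace.Opens.coe_bot, Set.mem_empty_iff_false, iff_false]
    intro hx
    have : π.base x ∈ ε ⁻¹ᵁ X.basicOpen (b - (π.app U).hom a) := by
      have h4 : ε.base (π.base x) ∈ X.basicOpen (b - (π.app U).hom a) := by
        rw [h2]; exact hx
      exact h4
    rw [h3] at this
    exact this
  have hnil : IsNilpotent (b - (π.app U).hom a) :=
    (Scheme.isNilpotent_iff_basicOpen_eq_bot_of_isCompact hW.isCompact _).mpr hbo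
  have hint1 : (π.app U).hom.IsIntegralElem (b - (π.app U).hom a) := by
    obtain ⟨n, hn⟩ := hnil
    by_cases hn0 : n = 0
    · subst hn0
      have : Subsingleton Γ(X, π ⁻¹ᵁ U) := by
        constructor
        intro u v
        have h01 : (1 : Γ(X, π ⁻¹ᵁ U)) = 0 := by simpa using hn
        calc u = u * 1 := (_root_.mul_one u).symm
          _ = v * 1 := by rw [h01, mul_zero, mul_zero]
          _ = v := _root_.mul_one v
      exact ⟨Polynomial.X, Polynomial.monic_X, Subsingleton.elim _ _⟩
    · refine ⟨Polynomial.X ^ n, Polynomial.monic_X_pow n, ?_⟩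
      simp [Polynomial.eval₂_pow, hn]
  have hint2 : (π.app U).hom.IsIntegralElem ((π.app U).hom a) := (π.app U).hom.isIntegralElem_map
  have := RingHom.IsIntegralElem.add (π.app U).hom hint1 hint2
  simpa using this

end Groth.Agent.S3043
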