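import Groth.Statements.S3045
import Groth.Agent.Lib.PointAct_helper9

set_option autoImplicit false
universe u
open TensorProduct
open SGA3

namespace Groth.Agent.S3045

/-- Let A be a commutative Hopf algebra over a commutative ring k (the coordinate ring of an affine
group G = Spec A) and φ, ψ two k[ε]-valued points of G reducing to the unit point modulo ε (tangent
vectors at the identity). Then for every a ∈ A the ε-component of the product point φ · ψ at a — the
product of points being convolution, formed here as the triple convolution of φ, ψ and the unit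
point — is the sum of the ε-components of φ(a) and ψ(a): on tangent vectors at the identity the
group law of G induces addition. -/
theorem result (k : Type u) [CommRing k] (A : Type u) [CommRing A] [HopfAlgebra k A]
    (φ ψ : LieHopf.LiePts k A) (a : A) :
    TrivSqZeroExt.snd (Dyn.conv3 k A φ.1 ψ.1 ((Algebra.ofId k (DualNumber k)).comp (Bialgebra.counitAlgHom k A)) a) =
      LieHopf.LiePts.tangent k A φ a + LieHopf.LiePts.tangent k A ψ a := by
  have key : ∀ t : A ⊗[k] A,
      TrivSqZeroExt.snd (Algebra.TensorProduct.lmul' (S := DualNumber k) k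
        (Algebra.TensorProduct.map φ.1 ψ.1 t)) =
      TrivSqZeroExt.snd (ψ.1 (TensorProduct.lid k A ((Coalgebra.counit (R := k) (A := A)).rTensor A t))) +
      TrivSqZeroExt.snd (φ.1 (TensorProduct.rid k A ((Coalgebra.counit (R := k) (A := A)).lTensor A t))) := by
    intro t
    induction t using TensorProduct.induction_on with
    | zero => simp
    | add x y hx hy =>
      simp only [map_add, TrivSqZeroExt.snd_add, hx, hy]
      abel
    | tmul x y =>
      simp only [Algebra.TensorProduct.map_tmul, Algebra.TensorProduct.lmul'_apply_tmul,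
        LinearMap.rTensor_tmul, LinearMap.lTensor_tmul, TensorProduct.lid_tmul, TensorProduct.rid_tmul,
        map_smul, TrivSqZeroExt.snd_smul, TrivSqZeroExt.snd_mul, φ.2 x, ψ.2 y]
      simp only [Bialgebra.counitAlgHom_apply, MulOpposite.smul_eq_mul_unop, MulOpposite.unop_op,
        smul_eq_mul]
      ring
  have h1 := PointAct9.conv3_eq' (k := k) (A := A) φ.1 ψ.1
    ((Algebra.ofId k (DualNumber k)).comp (Bialgebra.counitAlgHom k A))
  rw [← AlgHom.convOne_def] at h1
  have hm : ∀ x : WithConv (A →ₐ[k] DualNumber k), x * 1 = x := fun x => mul_one x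
  have h1 := h1.trans (congrArg WithConv.ofConv (hm _))
  have h1' := congrArg (fun f => TrivSqZeroExt.snd (f a)) h1
  refine h1'.trans ?_
  show TrivSqZeroExt.snd ((WithConv.toConv φ.1 * WithConv.toConv ψ.1).ofConv a) =
    TrivSqZeroExt.snd (φ.1 a) + TrivSqZeroExt.snd (ψ.1 a)
  have h2 : (WithConv.toConv φ.1 * WithConv.toConv ψ.1).ofConv a =
      Algebra.TensorProduct.lmul' (S := DualNumber k) k
        (Algebra.TensorProduct.map φ.1 ψ.1 (Coalgebra.comul (R := k) a)) := by
    rw [AlgHom.convMul_def]
    rfl
  rw [h2, key, Coalgebra.rTensor_counit_comul, Coalgebra.lTensor_counit_comul,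
    TensorProduct.lid_tmul, TensorProduct.rid_tmul, one_smul]
  exact add_comm _ _

end Groth.Agent.S3045
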