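import Groth.Statements.S3046
import Groth.Agent.Lib.PointAct_helper9

set_option autoImplicit false
universe u
open TensorProduct
open SGA3

namespace Groth.Agent.S3046


theorem inv_unique {M : Type*} [Ring M] (X u : M) (hXX : X * X = 0) (h : (1 + X) * u = 1) : u = 1 - X := by
  have h2 : (1 - X) * (1 + X) = 1 := by
    have : (1 - X) * (1 + X) = 1 - X * X := by noncomm_ring
    rw [this, hXX, sub_zero]
  calc u = (1 - X) * (1 + X) * u := by rw [h2, one_mul]
    _ = (1 - X) * ((1 + X) * u) := mul_assoc _ _ _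
    _ = 1 - X := by rw [h, mul_one]

theorem comm_ring_aux {M : Type*} [Ring M] (X Y : M) (hXX : X * X = 0) (hYY : Y * Y = 0)
    (hXYX : X * Y * X = 0) (hYXY : Y * X * Y = 0) :
    (1 + X) * (1 + Y) * (1 - X) * (1 - Y) = 1 + (X * Y - Y * X) := by
  have hP : (1 + X) * (1 + Y) * (1 - X) * (1 - Y) =
      1 + X * Y - Y * X - X * X - Y * Y + X * X * Y + Y * X * Y - X * Y * X - X * (Y * Y) + X * Y * X * Y := by
    noncomm_ring
  rw [hP, hXX, hYY, hXYX, hYXY]
  noncomm_ring

variable {k : Type u} [CommRing k] {A : Type u} [CommRing A] [HopfAlgebra k A]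

/-- linear-map shadow of an algebra-map point -/
noncomputable def Lam (R : Type u) [CommRing R] [Algebra k R] (f : WithConv (A →ₐ[k] R)) : WithConv (A →ₗ[k] R) :=
  WithConv.toConv f.ofConv.toLinearMap

noncomputable def dd (D : LieHopf.Lie k A) (R : Type u) [CommRing R] [Algebra k R] : WithConv (A →ₗ[k] R) :=
  WithConv.toConv (Algebra.linearMap k R ∘ₗ LieHopf.dlin D)

theorem Lam_pt (D : LieHopf.Lie k A) (R : Type u) [CommRing R] [Algebra k R] (t : R) (ht : t * t = 0) :
    Lam R (WithConv.toConv (LieHopf.ptOfLie D R t ht)) = 1 + t • dd D R := by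
  apply WithConv.ofConv_injective
  apply LinearMap.ext
  intro a
  show algebraMap k R (Bialgebra.counitAlgHom k A a) + algebraMap k R (LieHopf.dlin D a) * t =
    algebraMap k R (Coalgebra.counit (R := k) a) + t • algebraMap k R (LieHopf.dlin D a)
  rw [smul_eq_mul, mul_comm t]
  rfl

theorem smul_dd_sq (D : LieHopf.Lie k A) (R : Type u) [CommRing R] [Algebra k R] (t : R) (ht : t * t = 0) :
    (t • dd D R) * (t • dd D R) = 0 := by
  rw [smul_mul_smul_comm, ht, zero_smul]

theorem Lam_pt_inv (D : LieHopf.Lie k A) (R : Type u) [CommRing R] [Algebra k R] (t : R) (ht : t * t = 0) :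
    Lam R (WithConv.toConv ((LieHopf.ptOfLie D R t ht).comp (HopfAlgebra.antipodeAlgHom k A))) =
      1 - t • dd D R := by
  apply inv_unique _ _ (smul_dd_sq D R t ht)
  rw [← Lam_pt D R t ht]
  have h := PointAct9.mul_comp_antipode' (LieHopf.ptOfLie D R t ht)
  have h2 := congrArg (Lam R) h
  exact h2

theorem dd_mul_dd (D E : LieHopf.Lie k A) (R : Type u) [CommRing R] [Algebra k R] (a : A) :
    (dd D R * dd E R).ofConv a = algebraMap k R (LieHopf.conv (LieHopf.dlin D) (LieHopf.dlin E) a) := by
  show LinearMap.mul' k R (TensorProduct.map (Algebra.linearMap k R ∘ₗ LieHopf.dlin D)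
      (Algebra.linearMap k R ∘ₗ LieHopf.dlin E) (Coalgebra.comul (R := k) a)) =
    algebraMap k R (LinearMap.mul' k k (TensorProduct.map (LieHopf.dlin D) (LieHopf.dlin E)
      (Coalgebra.comul (R := k) a)))
  generalize Coalgebra.comul (R := k) a = s
  induction s using TensorProduct.induction_on with
  | zero => simp
  | add x y hx hy => simp only [map_add, hx, hy]
  | tmul x y => simp

theorem comm_formula (D E : LieHopf.Lie k A) (R : Type u) [CommRing R] [Algebra k R] (t t' : R)
    (ht : t * t = 0) (ht' : t' * t' = 0) (a : A) :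
    Dyn.conv3 k A
        (Dyn.conv3 k A (LieHopf.ptOfLie D R t ht) (LieHopf.ptOfLie E R t' ht')
          ((LieHopf.ptOfLie D R t ht).comp (HopfAlgebra.antipodeAlgHom k A)))
        ((LieHopf.ptOfLie E R t' ht').comp (HopfAlgebra.antipodeAlgHom k A))
        ((Algebra.ofId k R).comp (Bialgebra.counitAlgHom k A)) a =
      algebraMap k R (Bialgebra.counitAlgHom k A a) + algebraMap k R (LieHopf.bracketLin D E a) * (t * t') := by
  rw [PointAct9.conv3_eq', PointAct9.conv3_eq']
  set x := WithConv.toConv (LieHopf.ptOfLie D R t ht) with hx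
  set y := WithConv.toConv (LieHopf.ptOfLie E R t' ht') with hy
  set xi := WithConv.toConv ((LieHopf.ptOfLie D R t ht).comp (HopfAlgebra.antipodeAlgHom k A)) with hxi
  set yi := WithConv.toConv ((LieHopf.ptOfLie E R t' ht').comp (HopfAlgebra.antipodeAlgHom k A)) with hyi
  rw [WithConv.toConv_ofConv, ← AlgHom.convOne_def, mul_one]
  have h1 : Lam R (x * y * xi * yi) = Lam R x * Lam R y * Lam R xi * Lam R yi := rfl
  have h0 : (x * y * xi * yi).ofConv a = (Lam R (x * y * xi * yi)).ofConv a := rfl
  rw [h0, h1]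
  clear h0 h1
  rw [hx, hy, hxi, hyi, Lam_pt, Lam_pt, Lam_pt_inv, Lam_pt_inv]
  have hXYX : (t • dd D R) * (t' • dd E R) * (t • dd D R) = 0 := by
    rw [smul_mul_smul_comm, smul_mul_smul_comm]
    have : t * t' * t = 0 := by linear_combination t' * ht
    rw [this, zero_smul]
  have hYXY : (t' • dd E R) * (t • dd D R) * (t' • dd E R) = 0 := by
    rw [smul_mul_smul_comm, smul_mul_smul_comm]
    have : t' * t * t' = 0 := by linear_combination t * ht'
    rw [this, zero_smul]
  rw [comm_ring_aux _ _ (smul_dd_sq D R t ht) (smul_dd_sq E R t' ht') hXYX hYXY]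
  show (1 + ((t • dd D R) * (t' • dd E R) - (t' • dd E R) * (t • dd D R)) : WithConv (A →ₗ[k] R)).ofConv a = _
  rw [smul_mul_smul_comm, smul_mul_smul_comm, mul_comm t' t, ← smul_sub]
  show algebraMap k R (Coalgebra.counit (R := k) a) +
      (t * t') • ((dd D R * dd E R).ofConv a - (dd E R * dd D R).ofConv a) = _
  rw [dd_mul_dd, dd_mul_dd, smul_eq_mul, mul_comm (t * t'), ← map_sub]
  rfl

/-- Let A be a commutative Hopf algebra over a commutative ring k, D and E two ε-derivations A → k
(tangent vectors at the identity of G = Spec A), R a commutative k-algebra and t, t' ∈ R with t² = 0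
= t'². Let x = e + tD and y = e + t'E be the corresponding R-points of G. Then the commutator x y
x⁻¹ y⁻¹ (product of points; the inverse of a point is its composite with the antipode) is the point
a ↦ ε(a) + [D, E](a) · t t', where [D, E] = D ⋆ E − E ⋆ D is the convolution commutator. -/
theorem result (k : Type u) [CommRing k] (A : Type u) [CommRing A] [HopfAlgebra k A]
    (D E : LieHopf.Lie k A) (R : Type u) [CommRing R] [Algebra k R] (t t' : R) (ht : t * t = 0) (ht' : t' * t' = 0)
    (a : A) :
    Dyn.conv3 k A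
        (Dyn.conv3 k A (LieHopf.ptOfLie D R t ht) (LieHopf.ptOfLie E R t' ht')
          ((LieHopf.ptOfLie D R t ht).comp (HopfAlgebra.antipodeAlgHom k A)))
        ((LieHopf.ptOfLie E R t' ht').comp (HopfAlgebra.antipodeAlgHom k A))
        ((Algebra.ofId k R).comp (Bialgebra.counitAlgHom k A)) a =
      algebraMap k R (Bialgebra.counitAlgHom k A a) + algebraMap k R (LieHopf.bracketLin D E a) * (t * t') := by
  classical
  let Λ : WithConv (A →ₐ[k] R) → WithConv (A →ₗ[k] R) := fun f => WithConv.toConv f.ofConv.toLinearMap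
  have Λmul : ∀ f g, Λ (f * g) = Λ f * Λ g := fun f g => rfl
  have Λone : Λ 1 = 1 := rfl
  let d₀ : WithConv (A →ₗ[k] R) := WithConv.toConv (Algebra.linearMap k R ∘ₗ LieHopf.dlin D)
  let e₀ : WithConv (A →ₗ[k] R) := WithConv.toConv (Algebra.linearMap k R ∘ₗ LieHopf.dlin E)
  exact comm_formula D E R t t' ht ht' a

end Groth.Agent.S3046
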