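import Groth.Statements.S3058
import Mathlib
import Groth.Agent.Lib.ToposFin6_helper8

set_option autoImplicit false
open CategoryTheory CategoryTheory.Limits Opposite
universe u
open ToposFin

namespace Groth.Agent.S3058

attribute [-instance] CategoryTheory.hasColimitsEssentiallySmallSite

/-- For a topos of sheaves of sets on a small site: the coproduct of a small family of objects is
quasi-compact if and only if every member is quasi-compact and all but finitely many members are
initial (empty) objects. -/
theorem result {C : Type u} [SmallCategory C] {J : GrothendieckTopology C} {ι : Type u}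
    (F : ι → ToposFin.Sh J) :
    ToposFin.IsQC (∐ F) ↔ (∀ i, ToposFin.IsQC (F i)) ∧ {i | IsEmpty (F i ≅ ⊥_ (ToposFin.Sh J))}.Finite := by
  classical
  have good := Groth.Agent.Lib.ToposFinH8.goodCofan_of_small (Cofan.mk (∐ F) (Sigma.ι F))
    (coproductIsCoproduct F)
  have key := Groth.Agent.Lib.ToposFinH8.isQC_cofan_iff good
  have key' : ToposFin.IsQC (∐ F) ↔ (∀ i, ToposFin.IsQC (F i)) ∧
      ∃ s : Finset ι, ∀ i, i ∉ s → Nonempty (IsInitial (F i)) := key
  rw [key']
  refine and_congr Iff.rfl ⟨?_, ?_⟩
  · rintro ⟨s, hs⟩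
    refine Set.Finite.subset s.finite_toSet ?_
    intro i hi
    by_contra hne
    obtain ⟨hI⟩ := hs i hne
    exact hi.false (hI.uniqueUpToIso initialIsInitial)
  · intro hN
    refine ⟨hN.toFinset, fun i hi => ?_⟩
    have : ¬ IsEmpty (F i ≅ ⊥_ (ToposFin.Sh J)) := fun h => hi (hN.mem_toFinset.2 h)
    rw [not_isEmpty_iff] at this
    obtain ⟨e⟩ := this
    exact ⟨initialIsInitial.ofIso e.symm⟩

end Groth.Agent.S3058
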