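import Groth.Statements.S3081
import Mathlib
import Groth.Agent.Lib.VKSheaf_helper8
import Groth.Agent.S5217

set_option autoImplicit false
universe u
open CategoryTheory
open SGA4

namespace Groth.Agent.S3081

open CategoryTheory.Limits in
/-- c): in the category of sheaves of u-small sets on a u-small site, every u-small family has a
coproduct which is disjoint and stable under base change, and every equivalence relation is
effective with universally effective-epimorphic quotient map. -/
theorem result {C : Type u} [SmallCategory C] (J : GrothendieckTopology C) :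
    SGA4.HasDisjointUniversalCoproducts.{u + 1, u} (Sheaf J (Type u)) ∧
    ∀ (R A : Sheaf J (Type u)) (p₁ p₂ : R ⟶ A), SGA4.IsEquivRel p₁ p₂ → SGA4.IsEffectiveUniversalEquivRel p₁ p₂ := by
  refine ⟨?_, ?_⟩
  · intro ι X
    obtain ⟨c, hvk⟩ := Groth.Agent.Lib.VKSheafH8.sheaf_exists_isVanKampen J X
    exact ⟨c, hvk.isColimit, Groth.Agent.Lib.VKSheafH8.sheaf_coproductDisjoint J X,
      hvk.isUniversal⟩
  · intro R A p₁ p₂ hR
    have hjm : JointlyMono₂ p₁ p₂ := ⟨fun T f g h1 h2 => (hR T).1 (Prod.ext h1 h2)⟩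
    obtain ⟨r, hr1, hr2⟩ := (hR A).2.refl (𝟙 A)
    obtain ⟨s, hs1, hs2⟩ := (hR R).2.symm ⟨𝟙 R, Category.id_comp _, Category.id_comp _⟩
    obtain ⟨t, ht1, ht2⟩ := (hR (pullback p₂ p₁)).2.trans
      (⟨pullback.fst p₂ p₁, rfl, rfl⟩ : ∃ f : pullback p₂ p₁ ⟶ R,
        f ≫ p₁ = pullback.fst p₂ p₁ ≫ p₁ ∧ f ≫ p₂ = pullback.fst p₂ p₁ ≫ p₂)
      (⟨pullback.snd p₂ p₁, pullback.condition.symm, rfl⟩ : ∃ f : pullback p₂ p₁ ⟶ R,
        f ≫ p₁ = pullback.fst p₂ p₁ ≫ p₂ ∧ f ≫ p₂ = pullback.snd p₂ p₁ ≫ p₂)
    let er : EquivalenceRelation p₁ p₂ :=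
      { right_cancellation := hjm.right_cancellation
        r := r
        reflexivity₁ := hr1
        reflexivity₂ := hr2
        s := s
        symmetry₁ := hs1
        symmetry₂ := hs2
        c := pullback.cone p₂ p₁
        isLimit := pullback.isLimit p₂ p₁
        t := t
        transitivity₁ := ht1
        transitivity₂ := ht2 }
    haveI : IsEquivalenceRelation p₁ p₂ := er.isEquivalenceRelation
    obtain ⟨e⟩ := (Groth.Agent.S5217.result J p₁ p₂).nonempty_universallyEffectiveEquivalenceRelation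
    refine ⟨e.B, e.π, e.isKernelPair, e.isPushout, fun B' g => ?_⟩
    exact e.universally_effectiveEpi_π (pullback.fst e.π g) g (pullback.snd e.π g)
      (IsPullback.of_hasPullback e.π g).flip

end Groth.Agent.S3081
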