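import Groth.Statements.S3082
import Mathlib
import Groth.Agent.Lib.ShRep_helper8

set_option autoImplicit false
universe u
open CategoryTheory
open SGA4

namespace Groth.Agent.S3082

/-- Let (C, J) be a small site and G a set of objects of C such that each object of C has a covering
family whose members all lie in G. Then the sheafifications of the presheaves represented by the
members of G form a detecting family in the category Sh(C, J) of set-valued sheaves on (C, J): any
morphism of sheaves that is bijective on sections over each member of G is an isomorphism. -/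
theorem result {C : Type u} [SmallCategory C] (J : GrothendieckTopology C) (G : Set C)
    (hG : ∀ X : C, ∃ (ι : Type u) (Y : ι → C) (f : ∀ i, Y i ⟶ X), Sieve.ofArrows Y f ∈ J X ∧ ∀ i, Y i ∈ G) :
    (ObjectProperty.ofObj fun X : G => (presheafToSheaf J (Type u)).obj (yoneda.obj (X : C))).IsDetecting := by
  intro A B f hf
  have key : ∀ X : C, X ∈ G → Function.Bijective (f.hom.app (Opposite.op X)) := by
    intro X hX
    have nat : ∀ h' : (presheafToSheaf J (Type u)).obj (yoneda.obj X) ⟶ A,
        Groth.Agent.Lib.ShRepH8.homEquiv J X B (h' ≫ f) =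
          f.hom.app (Opposite.op X) (Groth.Agent.Lib.ShRepH8.homEquiv J X A h') := by
      intro h'
      unfold Groth.Agent.Lib.ShRepH8.homEquiv
      simp only [Equiv.trans_apply]
      rw [Adjunction.homEquiv_naturality_right]
      exact yonedaEquiv_comp _ _
    have hP : (ObjectProperty.ofObj fun X : G =>
        (presheafToSheaf J (Type u)).obj (yoneda.obj (X : C)))
        ((presheafToSheaf J (Type u)).obj (yoneda.obj X)) :=
      ObjectProperty.ofObj_apply _ (⟨X, hX⟩ : G)
    constructor
    · intro x x' hxx
      obtain ⟨h0, _, huniq⟩ := hf _ hP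
        ((Groth.Agent.Lib.ShRepH8.homEquiv J X B).symm (f.hom.app _ x))
      have h1 := huniq ((Groth.Agent.Lib.ShRepH8.homEquiv J X A).symm x) (by
        apply (Groth.Agent.Lib.ShRepH8.homEquiv J X B).injective
        rw [nat, Equiv.apply_symm_apply, Equiv.apply_symm_apply])
      have h2 := huniq ((Groth.Agent.Lib.ShRepH8.homEquiv J X A).symm x') (by
        apply (Groth.Agent.Lib.ShRepH8.homEquiv J X B).injective
        rw [nat, Equiv.apply_symm_apply, Equiv.apply_symm_apply, hxx])
      exact (Groth.Agent.Lib.ShRepH8.homEquiv J X A).symm.injective (h1.trans h2.symm)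
    · intro y
      obtain ⟨h0, hh0, _⟩ := hf _ hP ((Groth.Agent.Lib.ShRepH8.homEquiv J X B).symm y)
      refine ⟨Groth.Agent.Lib.ShRepH8.homEquiv J X A h0, ?_⟩
      rw [← nat]
      have hh0' : h0 ≫ f = (Groth.Agent.Lib.ShRepH8.homEquiv J X B).symm y := hh0
      rw [hh0', Equiv.apply_symm_apply]
  refine (Sheaf.isLocallyBijective_iff_isIso f).1 ⟨?_, ?_⟩
  · refine ⟨fun {X} x y h => ?_⟩
    obtain ⟨ι, Yc, g, hcov, hYG⟩ := hG X.unop
    refine J.superset_covering ?_ hcov
    rintro Z _ ⟨W, k, _, ⟨i⟩, rfl⟩
    show A.obj.map (k ≫ g i).op x = A.obj.map (k ≫ g i).op y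
    rw [op_comp, CategoryTheory.Functor.map_comp]
    show A.obj.map k.op (A.obj.map (g i).op x) = A.obj.map k.op (A.obj.map (g i).op y)
    congr 1
    apply (key (Yc i) (hYG i)).1
    have e1 := NatTrans.naturality_apply f.hom (g i).op x
    have e2 := NatTrans.naturality_apply f.hom (g i).op y
    exact e1.trans ((congrArg _ h).trans e2.symm)
  · refine ⟨fun {X} y => ?_⟩
    obtain ⟨ι, Yc, g, hcov, hYG⟩ := hG X
    refine J.superset_covering ?_ hcov
    rintro Z _ ⟨W, k, _, ⟨i⟩, rfl⟩
    apply Sieve.downward_closed
    obtain ⟨t, ht⟩ := (key (Yc i) (hYG i)).2 (B.obj.map (g i).op y)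
    exact ⟨t, ht⟩

end Groth.Agent.S3082
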