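import Groth.Statements.S3084
import Mathlib
import Groth.Agent.Lib.ClosedCompl_helper8

set_option autoImplicit false
universe u
open CategoryTheory
open SGA4

namespace Groth.Agent.S3084

open CategoryTheory.Limits in
/-- For sheaves of sets on a small site: let U be an open, j^* = (X ↦ U × X over U) the restriction to
the open subtopos E/U and i^* any left adjoint of the inclusion of the closed complement of U. A
morphism m of E is an isomorphism if and only if both j^*(m) and i^*(m) are isomorphisms. -/
theorem result {C : Type u} [SmallCategory C] (J : GrothendieckTopology C)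
    (U : Sheaf J (Type u)) (hU : SGA4.IsOpen U)
    (L : Sheaf J (Type u) ⥤ (SGA4.closedCompl U).FullSubcategory) (adj : L ⊣ (SGA4.closedCompl U).ι)
    {X Y : Sheaf J (Type u)} (m : X ⟶ Y) :
    IsIso m ↔ IsIso ((Over.star U).map m) ∧ IsIso (L.map m) := by
  have hsub : ∀ (T : Sheaf J (Type u)) (a b : T ⟶ U), a = b := fun T a b => by
    haveI := hU
    rw [← cancel_mono (terminal.from U)]
    exact Subsingleton.elim _ _
  haveI : Adhesive (Sheaf J (Type u)) :=
    adhesive_of_reflective (sheafificationAdjunction J (Type u))
  have adj4 : MonoidalCategory.tensorLeft U ⊣ ihom U := ihom.adjunction U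
  have e2 : MonoidalCategory.tensorLeft U ≅ prod.functor.obj U :=
    CartesianMonoidalCategory.tensorLeftIsoProd U
  haveI : (prod.functor.obj U).IsLeftAdjoint := (adj4.ofNatIsoLeft e2).isLeftAdjoint
  haveI : PreservesColimitsOfShape WalkingSpan (prod.functor.obj U) := inferInstance
  constructor
  · intro h
    exact ⟨inferInstance, inferInstance⟩
  · rintro ⟨h1, h2⟩
    have h1' : IsIso (prod.map (𝟙 U) m) := by
      have := (Over.forget U).map_isIso ((Over.star U).map m)
      exact this
    exact Groth.Agent.Lib.ClosedComplH8.isIso_of_isIso_prod_of_isIso_refl U hsub L adj m h1' h2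

end Groth.Agent.S3084
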