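import Groth.Statements.S3085
import Mathlib
import Groth.Agent.Lib.ClosedLex_helper8
import Groth.Agent.Lib.Glue_helper8

set_option autoImplicit false
universe u
open CategoryTheory
open SGA4

namespace Groth.Agent.S3085

open CategoryTheory.Limits in
/-- Gluing a topos from an open subtopos and its closed complement, for sheaves of sets on a small site:
let E be the category of sheaves of sets on a small site, U an open of E (a subobject of the final
object) with restriction functor j^* : E → E/U, X ↦ U × X; assume j^* has a right adjoint j_* (true
in any topos; taken as an instance hypothesis), and let i^* be a left adjoint of the inclusion of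
the closed complement F of U. With ρ = i^* ∘ j_* : E/U → F, the category E is equivalent to the
glued category of triples (Y in F, X in E/U, Y → ρX). (Only the existence of an equivalence is
asserted; the published statement gives it explicitly as X ↦ (i^*X, j^*X, i^*(X → j_*j^*X)).) -/
theorem result {C : Type u} [SmallCategory C] (J : GrothendieckTopology C)
    (U : Sheaf J (Type u)) (hU : SGA4.IsOpen U) [(Over.star U).IsLeftAdjoint]
    (L : Sheaf J (Type u) ⥤ (SGA4.closedCompl U).FullSubcategory) (adj : L ⊣ (SGA4.closedCompl U).ι) :
    Nonempty (Sheaf J (Type u) ≌
      Comma (𝟭 (SGA4.closedCompl U).FullSubcategory) ((Over.star U).rightAdjoint ⋙ L)) := by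
  have hsub : ∀ (T : Sheaf J (Type u)) (a b : T ⟶ U), a = b := fun T a b => by
    haveI := hU
    rw [← cancel_mono (terminal.from U)]
    exact Subsingleton.elim _ _
  haveI : Adhesive (Sheaf J (Type u)) :=
    adhesive_of_reflective (sheafificationAdjunction J (Type u))
  have adj4 : MonoidalCategory.tensorLeft U ⊣ ihom U := ihom.adjunction U
  have e2 : MonoidalCategory.tensorLeft U ≅ prod.functor.obj U :=
    CartesianMonoidalCategory.tensorLeftIsoProd U
  haveI : (prod.functor.obj U).IsLeftAdjoint := (adj4.ofNatIsoLeft e2).isLeftAdjoint
  haveI : PreservesColimitsOfShape WalkingSpan (prod.functor.obj U) := inferInstance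
  haveI hlex : PreservesFiniteLimits L := by
    haveI := Groth.Agent.Lib.ClosedLexH8.refl_preservesFiniteLimits J U hsub
    exact preservesFiniteLimits_of_natIso
      (adj.leftAdjointUniq (Groth.Agent.Lib.ClosedComplH8.reflAdj U hsub)).symm
  haveI : PreservesLimitsOfShape WalkingCospan L := inferInstance
  exact Groth.Agent.Lib.GlueH8.glue_equivalence U L adj
    (Adjunction.ofIsLeftAdjoint (Over.star U)) hsub

end Groth.Agent.S3085
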