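import Groth.Statements.S3093
import Mathlib.Tactic

set_option autoImplicit false
universe u
open CohTop

namespace Groth.Agent.S3093

/-- Let X be a topological space and K ⊆ X a compact subset such that any two distinct points of K have
disjoint open neighbourhoods in X. If A and B are subsets of K that are closed in K and W is an open
subset of X containing A ∩ B, then there are open subsets U ⊇ A and V ⊇ B of X with U ∩ V ⊆ W. -/
theorem result {X : Type u} [TopologicalSpace X] {K : Set X} (hK : IsCompact K)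
    (hsep : ∀ x ∈ K, ∀ y ∈ K, x ≠ y → ∃ U V : Set X, IsOpen U ∧ IsOpen V ∧ x ∈ U ∧ y ∈ V ∧ Disjoint U V)
    {A B W : Set X} (hA : A ⊆ K) (hB : B ⊆ K) (hAc : IsClosed (Subtype.val ⁻¹' A : Set K))
    (hBc : IsClosed (Subtype.val ⁻¹' B : Set K)) (hW : IsOpen W) (hABW : A ∩ B ⊆ W) :
    ∃ U V : Set X, IsOpen U ∧ IsOpen V ∧ A ⊆ U ∧ B ⊆ V ∧ U ∩ V ⊆ W := by
  -- A and B are traces on K of closed subsets of X
  obtain ⟨CA, hCA, hCAeq⟩ := isClosed_induced_iff.mp hAc
  obtain ⟨CB, hCB, hCBeq⟩ := isClosed_induced_iff.mp hBc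
  have hAK : A = K ∩ CA := by
    ext x
    constructor
    · intro hx
      have : (⟨x, hA hx⟩ : K) ∈ Subtype.val ⁻¹' CA := by rw [hCAeq]; exact hx
      exact ⟨hA hx, this⟩
    · rintro ⟨hxK, hxC⟩
      have : (⟨x, hxK⟩ : K) ∈ Subtype.val ⁻¹' A := by rw [← hCAeq]; exact hxC
      exact this
  have hBK : B = K ∩ CB := by
    ext x
    constructor
    · intro hx
      have : (⟨x, hB hx⟩ : K) ∈ Subtype.val ⁻¹' CB := by rw [hCBeq]; exact hx
      exact ⟨hB hx, this⟩
    · rintro ⟨hxK, hxC⟩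
      have : (⟨x, hxK⟩ : K) ∈ Subtype.val ⁻¹' B := by rw [← hCBeq]; exact hxC
      exact this
  have hA'c : IsCompact (A \ W) := by
    have : A \ W = K ∩ (CA ∩ Wᶜ) := by rw [hAK]; ext x; simp; tauto
    rw [this]
    exact hK.inter_right (hCA.inter hW.isClosed_compl)
  have hB'c : IsCompact (B \ W) := by
    have : B \ W = K ∩ (CB ∩ Wᶜ) := by rw [hBK]; ext x; simp; tauto
    rw [this]
    exact hK.inter_right (hCB.inter hW.isClosed_compl)
  have hsepN : SeparatedNhds (A \ W) (B \ W) := by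
    rw [separatedNhds_iff_disjoint, hA'c.disjoint_nhdsSet_left]
    intro x hx
    rw [hB'c.disjoint_nhdsSet_right]
    intro y hy
    have hxy : x ≠ y := by
      rintro rfl
      exact hx.2 (hABW ⟨hx.1, hy.1⟩)
    obtain ⟨U, V, hU, hV, hxU, hyV, hUV⟩ := hsep x (hA hx.1) y (hB hy.1) hxy
    exact Filter.disjoint_iff.2 ⟨U, hU.mem_nhds hxU, V, hV.mem_nhds hyV, hUV⟩
  obtain ⟨U₀, V₀, hU₀, hV₀, hAU, hBV, hUV⟩ := hsepN
  refine ⟨U₀ ∪ W, V₀ ∪ W, hU₀.union hW, hV₀.union hW, ?_, ?_, ?_⟩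
  · intro a ha
    by_cases haW : a ∈ W
    · exact Or.inr haW
    · exact Or.inl (hAU ⟨ha, haW⟩)
  · intro b hb
    by_cases hbW : b ∈ W
    · exact Or.inr hbW
    · exact Or.inl (hBV ⟨hb, hbW⟩)
  · rintro x ⟨hxU | hxW, hxV | hxW'⟩
    · exact absurd (Set.mem_inter hxU hxV) (Set.disjoint_iff.mp hUV · |>.elim)
    · exact hxW'
    · exact hxW
    · exact hxW

end Groth.Agent.S3093
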