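import Groth.Statements.S3209
import Mathlib

set_option autoImplicit false
universe u
open TensorProduct
open SGA7

namespace Groth.Agent.S3209

/-- Let f : B' → B be a surjective map of R-algebras with kernel J, g : C → B a map of R-algebras, P =
B' ×_B C their fibre product (the equalizer of f ∘ pr₁ and g ∘ pr₂ in B' × C) and S an R-algebra
such that S ⊗_R J → S ⊗_R B' is injective (this holds when Tor_1^R(B, S) = 0, the published
hypothesis, and in particular when S is flat). Then the canonical map S ⊗_R P → (S ⊗_R B') ×_{S ⊗_R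
B} (S ⊗_R C) is bijective: it is injective, and every pair with the same image in S ⊗_R B comes from
S ⊗_R P. -/
theorem result (R B' B C S : Type u) [CommRing R] [CommRing B'] [CommRing B] [CommRing C]
    [CommRing S] [Algebra R B'] [Algebra R B] [Algebra R C] [Algebra R S]
    (f : B' →ₐ[R] B) (hf : Function.Surjective f) (g : C →ₐ[R] B)
    (hJ : Function.Injective (LinearMap.lTensor S (LinearMap.ker f.toLinearMap).subtype)) :
    letI P := AlgHom.equalizer (f.comp (AlgHom.fst R B' C)) (g.comp (AlgHom.snd R B' C))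
    letI φ₁ := Algebra.TensorProduct.map (AlgHom.id R S) ((AlgHom.fst R B' C).comp P.val)
    letI φ₂ := Algebra.TensorProduct.map (AlgHom.id R S) ((AlgHom.snd R B' C).comp P.val)
    Function.Injective (fun z : S ⊗[R] ↥P => (φ₁ z, φ₂ z)) ∧
    ∀ (x : S ⊗[R] B') (y : S ⊗[R] C),
      Algebra.TensorProduct.map (AlgHom.id R S) f x = Algebra.TensorProduct.map (AlgHom.id R S) g y →
        ∃ z : S ⊗[R] ↥P, φ₁ z = x ∧ φ₂ z = y := by
  classical
  set P := AlgHom.equalizer (f.comp (AlgHom.fst R B' C)) (g.comp (AlgHom.snd R B' C)) with hP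
  have memP : ∀ (b : B') (c : C), (b, c) ∈ P ↔ f b = g c := by
    intro b c
    rw [hP, AlgHom.mem_equalizer]
    simp
  have key : ∀ (X Y : Type u) [CommRing X] [CommRing Y] [Algebra R X] [Algebra R Y]
      (h : X →ₐ[R] Y) (z : S ⊗[R] X),
      Algebra.TensorProduct.map (AlgHom.id R S) h z = h.toLinearMap.lTensor S z := by
    intro X Y _ _ _ _ h z
    induction z using TensorProduct.induction_on with
    | zero => simp
    | tmul s x => rfl
    | add x y hx hy => rw [map_add, map_add, hx, hy]
  set π₁ : P →ₐ[R] B' := (AlgHom.fst R B' C).comp P.val with hπ₁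
  set π₂ : P →ₐ[R] C := (AlgHom.snd R B' C).comp P.val with hπ₂
  have hπ₁a : ∀ p : P, π₁ p = (p : B' × C).1 := fun p => rfl
  have hπ₂a : ∀ p : P, π₂ p = (p : B' × C).2 := fun p => rfl
  let ι : LinearMap.ker f.toLinearMap →ₗ[R] P :=
    { toFun := fun j => ⟨((j : B'), 0), (memP _ _).mpr (by
        rw [map_zero]; exact j.2)⟩
      map_add' := fun a b => Subtype.ext (by simp)
      map_smul' := fun r a => Subtype.ext (by simp) }
  have hι1 : ∀ j, π₁ (ι j) = (j : B') := fun j => rfl
  have hι2 : ∀ j, π₂ (ι j) = 0 := fun j => rfl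
  have hex : Function.Exact ι π₂.toLinearMap := by
    intro p
    constructor
    · intro h0
      have hp := p.2
      rw [show (p : B' × C) = ((p : B' × C).1, (p : B' × C).2) from rfl, memP] at hp
      have h0' : (p : B' × C).2 = 0 := h0
      rw [h0', map_zero] at hp
      refine ⟨⟨(p : B' × C).1, hp⟩, Subtype.ext ?_⟩
      exact Prod.ext rfl h0'.symm
    · rintro ⟨j, rfl⟩
      rfl
  have hsurj : Function.Surjective π₂.toLinearMap := by
    intro c
    obtain ⟨b, hb⟩ := hf (g c)
    exact ⟨⟨(b, c), (memP _ _).mpr hb⟩, rfl⟩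
  have hex2 := lTensor_exact S hex hsurj
  have hsurj2 : Function.Surjective (π₂.toLinearMap.lTensor S) :=
    LinearMap.lTensor_surjective S hsurj
  have hex3 := lTensor_exact S (LinearMap.exact_subtype_ker_map f.toLinearMap) hf
  have hcomp1 : ∀ w, π₁.toLinearMap.lTensor S (ι.lTensor S w) =
      (LinearMap.ker f.toLinearMap).subtype.lTensor S w := by
    intro w
    rw [← LinearMap.comp_apply, ← LinearMap.lTensor_comp]
    rfl
  have hcomp2 : ∀ z, f.toLinearMap.lTensor S (π₁.toLinearMap.lTensor S z) =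
      g.toLinearMap.lTensor S (π₂.toLinearMap.lTensor S z) := by
    intro z
    rw [← LinearMap.comp_apply, ← LinearMap.lTensor_comp, ← LinearMap.comp_apply,
      ← LinearMap.lTensor_comp]
    congr 2
    ext p
    have hp := p.2
    rw [show (p : B' × C) = ((p : B' × C).1, (p : B' × C).2) from rfl, memP] at hp
    exact hp
  simp only [key]
  constructor
  · intro z z' hzz'
    rw [Prod.mk.injEq] at hzz'
    obtain ⟨h1, h2⟩ := hzz'
    rw [← sub_eq_zero] at h1 h2 ⊢
    rw [← map_sub] at h1 h2
    obtain ⟨w, hw⟩ := (hex2 _).mp h2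
    rw [← hw, hcomp1] at h1
    have hw0 : w = 0 := hJ (h1.trans (map_zero _).symm)
    rw [← hw, hw0, map_zero]
  · intro x y hxy
    obtain ⟨z₀, hz₀⟩ := hsurj2 y
    have h1 : f.toLinearMap.lTensor S (π₁.toLinearMap.lTensor S z₀ - x) = 0 := by
      rw [map_sub, hcomp2, hz₀, hxy, sub_self]
    obtain ⟨w, hw⟩ := (hex3 _).mp h1
    refine ⟨z₀ - ι.lTensor S w, ?_, ?_⟩
    · rw [map_sub, hcomp1, hw]
      abel
    · rw [map_sub, hz₀, (hex2 _).mpr ⟨w, rfl⟩, sub_zero]

end Groth.Agent.S3209
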