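import Groth.Statements.S3246
import Groth.Agent.Lib.KummerLES_helper8

set_option autoImplicit false
universe u
open CategoryTheory AlgebraicGeometry
open Dix

namespace Groth.Agent.S3246

/-- Let X be a scheme, ℓ a prime and n an integer with cd_ℓ(X) ≤ n (étale cohomology of ℓ-primary
torsion sheaves vanishes above degree n). Then the ℓ-primary torsion of H^i(X_ét, G_m) is zero for i
> n + 1; if moreover ℓ is invertible on X, it is zero for i > n. -/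
theorem result (X : Scheme.{u}) (ℓ : ℕ) (hℓ : ℓ.Prime) (n : ℕ) (hcd : Dix.CohDimLEAt X ℓ n) : (∀ i : ℕ, n + 1 < i → ∀ ξ : EtCoh.H X (EtCoh.Gm X) i, (∃ k : ℕ, ℓ ^ k • ξ = 0) → ξ = 0) ∧ (Dix.InvertibleOn X ℓ → ∀ i : ℕ, n < i → ∀ ξ : EtCoh.H X (EtCoh.Gm X) i, (∃ k : ℕ, ℓ ^ k • ξ = 0) → ξ = 0) := by
  refine ⟨?_, ?_⟩
  · rintro i hi ξ ⟨k, hk⟩
    exact Groth.Agent.Lib.KummerLESH8.torsion_vanish_general X ℓ n hcd i hi ξ k hk
  · rintro hinv i hi ξ ⟨k, hk⟩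
    exact Groth.Agent.Lib.KummerLESH8.torsion_vanish_inv X ℓ n hcd hinv i hi ξ k hk

end Groth.Agent.S3246
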