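import Groth.Statements.S3248
import Mathlib
import Groth.Agent.Lib.CSATensor_helper6
-- import your own Groth.Agent.* helpers here

set_option autoImplicit false
universe u
open TensorProduct
open Dix

namespace Groth.Agent.S3248

/-- Stated for a commutative subalgebra: let A be a central simple algebra of dimension r² over a field
k and L a commutative k-algebra embedded in A by an injective k-algebra homomorphism ι, such that A
is free of rank r for the right L-module structure a · l = a ι(l) (given here as a module structure
together with that compatibility). Then L ⊗_k A is isomorphic as an L-algebra to the matrix algebra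
M_r(L). (Only the existence of an isomorphism is stated; the text names the map a ⊗ l ↦ (y ↦ a y
l).) -/
theorem result (k : Type u) [Field k] (A : Type u) [Ring A] [Algebra k A] [Algebra.IsCentral k A] [IsSimpleRing A] [FiniteDimensional k A] (L : Type u) [CommRing L] [Algebra k L] (ι : L →ₐ[k] A) (hι : Function.Injective ι) [Module L A] (hmod : ∀ (l : L) (a : A), l • a = a * ι l) [Module.Free L A] (r : ℕ) (hr : 0 < r) (hA : Module.finrank k A = r ^ 2) (hrank : Module.finrank L A = r) : Nonempty ((L ⊗[k] A) ≃ₐ[L] Matrix (Fin r) (Fin r) L) := by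

  classical
  haveI : Nontrivial L :=
    ⟨⟨1, 0, fun h => one_ne_zero (α := A) (by rw [← map_one ι, h, map_zero])⟩⟩
  haveI hst : IsScalarTower k L A :=
    ⟨fun c l a => by rw [hmod, hmod, map_smul, mul_smul_comm]⟩
  haveI hcomm : SMulCommClass L k A :=
    ⟨fun l c a => by rw [hmod, hmod, smul_mul_assoc]⟩
  haveI hcomm' : SMulCommClass k L A :=
    ⟨fun c l a => by rw [hmod, hmod, smul_mul_assoc]⟩
  haveI : FiniteDimensional k L := FiniteDimensional.of_injective ι.toLinearMap hι
  obtain ⟨g, hg⟩ : ∃ g : A →ₐ[k] Module.End L A, ∀ a y, g a y = a * y := by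
    refine ⟨{ toFun := fun a =>
                { toFun := fun y => a * y
                  map_add' := mul_add a
                  map_smul' := fun l y => by
                    simp only [hmod, RingHom.id_apply, mul_assoc] }
              map_one' := ?_, map_mul' := ?_, map_zero' := ?_, map_add' := ?_, commutes' := ?_ },
      fun a y => rfl⟩
    · apply LinearMap.ext
      intro y
      show (1 : A) * y = y
      rw [one_mul]
    · intro a b
      apply LinearMap.ext
      intro y
      show a * b * y = a * (b * y)
      rw [mul_assoc]
    · apply LinearMap.ext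
      intro y
      show (0 : A) * y = 0
      rw [zero_mul]
    · intro a b
      apply LinearMap.ext
      intro y
      show (a + b) * y = a * y + b * y
      rw [add_mul]
    · intro c
      apply LinearMap.ext
      intro y
      show algebraMap k A c * y = c • y
      rw [Algebra.smul_def]
  obtain ⟨Φ, hΦ⟩ : ∃ Φ : L ⊗[k] A →ₐ[L] Module.End L A,
      ∀ (l : L) (a y : A), Φ (l ⊗ₜ[k] a) y = l • (a * y) := by
    refine ⟨Algebra.TensorProduct.lift (Algebra.ofId L (Module.End L A)) g
      (fun l a => Algebra.commutes l (g a)), fun l a y => ?_⟩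
    rw [Algebra.TensorProduct.lift_tmul]
    show (algebraMap L (Module.End L A) l * g a) y = l • (a * y)
    rw [Module.End.mul_apply, hg, Module.algebraMap_end_apply]
  have hinj : Function.Injective Φ := by
    rw [injective_iff_map_eq_zero]
    intro x hx
    obtain ⟨N, hN, hl, hr⟩ := Groth.Agent.Lib.CSATensor.exists_submodule_of_twoSidedIdeal
      (TwoSidedIdeal.ker Φ.toRingHom)
    have hxN : x ∈ N := (hN x).2 (by rw [TwoSidedIdeal.mem_ker]; exact hx)
    obtain ⟨t, rfl⟩ := Groth.Agent.Lib.CSATensor.le_range_core N hl hr hxN
    have hcore : Groth.Agent.Lib.CSATensor.core N = ⊥ := by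
      rw [eq_bot_iff]
      intro l hl'
      rw [Groth.Agent.Lib.CSATensor.mem_core, hN, TwoSidedIdeal.mem_ker] at hl'
      have h1 : Φ (l ⊗ₜ[k] (1 : A)) (1 : A) = 0 := by
        have h2 : Φ (l ⊗ₜ[k] (1 : A)) = 0 := hl'
        rw [h2]
        rfl
      rw [hΦ, mul_one, hmod, one_mul] at h1
      rw [Submodule.mem_bot]
      apply hι
      rw [map_zero, h1]
    haveI : Subsingleton ↥(Groth.Agent.Lib.CSATensor.core N) := by
      rw [hcore]
      infer_instance
    rw [Subsingleton.elim t 0, map_zero]
  haveI : Module.Finite L A := Module.Finite.of_restrictScalars_finite k L A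
  obtain ⟨E₂, -⟩ : ∃ E₂ : Module.End L A ≃ₐ[L] Matrix (Fin r) (Fin r) L, True :=
    ⟨algEquivMatrix ((Module.finBasis L A).reindex (finCongr hrank)), trivial⟩
  haveI : FiniteDimensional k (Module.End L A) :=
    Module.Finite.equiv (E₂.toLinearEquiv.restrictScalars k).symm
  have hfr : Module.finrank k (L ⊗[k] A) = Module.finrank k (Module.End L A) := by
    rw [(E₂.toLinearEquiv.restrictScalars k).finrank_eq, Module.finrank_matrix,
      Fintype.card_fin, Module.finrank_tensorProduct, hA]
    ring
  have hsurj : Function.Surjective Φ :=
    (LinearMap.injective_iff_surjective_of_finrank_eq_finrank hfr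
      (f := Φ.toLinearMap.restrictScalars k)).1 hinj
  exact ⟨(AlgEquiv.ofBijective Φ ⟨hinj, hsurj⟩).trans E₂⟩

end Groth.Agent.S3248
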