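import Groth.Statements.S3351
import Mathlib
import Groth.Agent.Lib.Lattice_helper6
-- import your own Groth.Agent.* helpers here

set_option autoImplicit false
open Models

namespace Groth.Agent.S3351

/-- Let L be a finite free Z-module with a positive definite symmetric integral bilinear form, A ⊆ L a
submodule with L/A torsion free and B the orthogonal complement of A. Write M^# for the dual lattice
of a sublattice M, identified here with the Z-dual Hom(M, Z) through the form. Then the natural maps
L/(A ⊕ B) → B^#/B and L/(A ⊕ B) → A^#/A are injective: an element x of L whose functional ⟨x, -⟩ on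
B (resp. on A) is represented by an element of B (resp. of A) lies in A ⊕ B. Moreover the
restriction maps L^# → B^# and L^# → A^# are surjective, so that the cokernels of the two injections
are quotients of L^#/L. -/
theorem result {L : Type} [AddCommGroup L] [Module.Finite ℤ L] [Module.Free ℤ L]
    (B : LinearMap.BilinForm ℤ L) (hsymm : B.IsSymm) (hpos : ∀ x, x ≠ 0 → 0 < B x x)
    (A : Submodule ℤ L) (htf : ∀ (c : ℤ) (x : L), c ≠ 0 → c • x ∈ A → x ∈ A) :
    (∀ x : L, (∃ b ∈ B.orthogonal A, ∀ b' ∈ B.orthogonal A, B x b' = B b b') → x ∈ A ⊔ B.orthogonal A) ∧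
      (∀ x : L, (∃ a ∈ A, ∀ a' ∈ A, B x a' = B a a') → x ∈ A ⊔ B.orthogonal A) ∧
      (∀ ψ : Module.Dual ℤ ↥(B.orthogonal A), ∃ φ : Module.Dual ℤ L, φ ∘ₗ (B.orthogonal A).subtype = ψ) ∧
      (∀ ψ : Module.Dual ℤ ↥A, ∃ φ : Module.Dual ℤ L, φ ∘ₗ A.subtype = ψ) := by

  have hsatB : ∀ (c : ℤ) (x : L), c ≠ 0 → c • x ∈ B.orthogonal A → x ∈ B.orthogonal A := by
    intro c x hc hx
    rw [LinearMap.BilinForm.mem_orthogonal_iff] at hx ⊢
    intro n hn
    have h := hx n hn
    rw [map_smul, smul_eq_mul] at h
    exact (mul_eq_zero.1 h).resolve_left hc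
  refine ⟨?_, ?_, ?_, ?_⟩
  · rintro x ⟨b, hb, hxb⟩
    have hy : ∀ b' ∈ B.orthogonal A, B (x - b) b' = 0 := by
      intro b' hb'
      rw [map_sub, LinearMap.sub_apply, hxb b' hb', sub_self]
    obtain ⟨c, hc, a, ha, hca⟩ := Groth.Agent.Lib.Lattice_helper6.exists_smul_eq B hpos A
      ((B.flip (x - b)) ∘ₗ A.subtype)
    have hb2 : c • (x - b) - a ∈ B.orthogonal A := by
      rw [LinearMap.BilinForm.mem_orthogonal_iff]
      intro n hn
      have h := hca ⟨n, hn⟩
      simp only [LinearMap.comp_apply, Submodule.subtype_apply, LinearMap.flip_apply, LinearMap.BilinForm.flip_apply] at h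
      rw [map_sub, map_smul, smul_eq_mul, h, sub_self]
    have h5 : ∀ z ∈ B.orthogonal A, B (c • (x - b) - a) z = 0 := by
      intro z hz
      rw [map_sub, LinearMap.sub_apply, map_smul, LinearMap.smul_apply, hy z hz, smul_zero,
        (LinearMap.BilinForm.mem_orthogonal_iff.1 hz) a ha, sub_zero]
    have hzero : c • (x - b) - a = 0 := by
      by_contra hne
      have h4 := hpos _ hne
      rw [h5 _ hb2] at h4
      exact lt_irrefl _ h4
    have hyA : x - b ∈ A := htf c (x - b) hc (by rw [sub_eq_zero.1 hzero]; exact ha)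
    exact Submodule.mem_sup.2 ⟨x - b, hyA, b, hb, by abel⟩
  · rintro x ⟨a, ha, hxa⟩
    have h : x - a ∈ B.orthogonal A := by
      rw [LinearMap.BilinForm.mem_orthogonal_iff]
      intro n hn
      rw [map_sub, hsymm.eq n x, hsymm.eq n a, hxa n hn, sub_self]
    exact Submodule.mem_sup.2 ⟨a, ha, x - a, h, by abel⟩
  · intro ψ
    exact Groth.Agent.Lib.Lattice_helper6.exists_extension (B.orthogonal A) hsatB ψ
  · intro ψ
    exact Groth.Agent.Lib.Lattice_helper6.exists_extension A htf ψ

end Groth.Agent.S3351
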