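import Groth.Statements.S3352
import Mathlib
import Groth.Agent.Lib.Lattice_helper6
-- import your own Groth.Agent.* helpers here

set_option autoImplicit false
open Models

namespace Groth.Agent.S3352

/-- Let L₀, L₁ be finite free ℤ-modules with positive definite symmetric integral bilinear forms, the
form on L₀ unimodular (x ↦ ⟨x, −⟩ is a bijection L₀ → Hom(L₀, ℤ)), and let d : L₀ → L₁ and d* : L₁ →
L₀ be adjoint. Identify Im(d)^# (the dual lattice of Im(d)) with Hom(Im(d), ℤ) through the form on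
L₁. Then there is an isomorphism Φ from the torsion subgroup of Coker(d* d) onto Im(d)^#/Im(d),
determined by: for x ∈ L₀ whose class is torsion, Φ[x] is the class of the functional d(y') ↦ ⟨x,
y'⟩ (equivalently the class of (1/a)·d(y) when a·x = d* d(y)). -/
theorem result {L₀ L₁ : Type} [AddCommGroup L₀] [AddCommGroup L₁]
    [Module.Finite ℤ L₀] [Module.Free ℤ L₀] [Module.Finite ℤ L₁] [Module.Free ℤ L₁]
    (B₀ : LinearMap.BilinForm ℤ L₀) (B₁ : LinearMap.BilinForm ℤ L₁) (h₀s : B₀.IsSymm) (h₁s : B₁.IsSymm)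
    (h₀p : ∀ x, x ≠ 0 → 0 < B₀ x x) (h₁p : ∀ x, x ≠ 0 → 0 < B₁ x x) (huni : Function.Bijective B₀)
    (d : L₀ →ₗ[ℤ] L₁) (ds : L₁ →ₗ[ℤ] L₀) (hadj : ∀ x y, B₁ (d x) y = B₀ x (ds y)) :
    ∃ Φ : ↥(Submodule.torsion ℤ (L₀ ⧸ LinearMap.range (ds ∘ₗ d))) ≃ₗ[ℤ]
        (Module.Dual ℤ ↥(LinearMap.range d) ⧸
          LinearMap.range ((B₁.compl₂ (LinearMap.range d).subtype) ∘ₗ (LinearMap.range d).subtype)),
      ∀ (x : L₀) (hx : Submodule.Quotient.mk x ∈ Submodule.torsion ℤ (L₀ ⧸ LinearMap.range (ds ∘ₗ d)))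
        (ψ : Module.Dual ℤ ↥(LinearMap.range d)),
        (∀ y' : L₀, ψ ⟨d y', LinearMap.mem_range_self d y'⟩ = B₀ x y') →
          Φ ⟨Submodule.Quotient.mk x, hx⟩ = Submodule.Quotient.mk ψ := by

  classical
  have hB₀inj : ∀ x x' : L₀, (∀ y, B₀ x y = B₀ x' y) → x = x' := fun x x' h =>
    huni.1 (LinearMap.ext h)
  have hkey : ∀ y y' : L₀, B₁ (d y) (d y') = B₀ (ds (d y)) y' := by
    intro y y'
    rw [h₁s.eq, hadj y' (d y), h₀s.eq]
  obtain ⟨Ξ, hΞ⟩ : ∃ Ξ : Module.Dual ℤ (LinearMap.range d) →ₗ[ℤ] L₀,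
      ∀ ψ y', B₀ (Ξ ψ) y' = ψ ⟨d y', LinearMap.mem_range_self d y'⟩ := by
    refine ⟨(LinearEquiv.ofBijective B₀ huni).symm.toLinearMap ∘ₗ d.rangeRestrict.dualMap, ?_⟩
    intro ψ y'
    have h := (LinearEquiv.ofBijective B₀ huni).apply_symm_apply (d.rangeRestrict.dualMap ψ)
    have h2 := LinearMap.congr_fun h y'
    rw [LinearEquiv.ofBijective_apply] at h2
    exact h2
  have hΞu : ∀ (ψ : Module.Dual ℤ (LinearMap.range d)) (x : L₀),
      (∀ y', ψ ⟨d y', LinearMap.mem_range_self d y'⟩ = B₀ x y') → Ξ ψ = x := by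
    intro ψ x h
    apply hB₀inj
    intro y'
    rw [hΞ, h]
  obtain ⟨ιR, hιR⟩ : ∃ ιR : LinearMap.range d →ₗ[ℤ] Module.Dual ℤ (LinearMap.range d),
      ιR = (B₁.compl₂ (LinearMap.range d).subtype) ∘ₗ (LinearMap.range d).subtype := ⟨_, rfl⟩
  have hι : ∀ r r' : LinearMap.range d, ιR r r' = B₁ (r : L₁) (r' : L₁) := by
    intro r r'; rw [hιR]; rfl
  have hΞι : ∀ y : L₀, Ξ (ιR ⟨d y, LinearMap.mem_range_self d y⟩) = ds (d y) := by
    intro y
    apply hΞu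
    intro y'
    rw [hι, hkey]
  obtain ⟨G, hG⟩ : ∃ G : Module.Dual ℤ (LinearMap.range d) →ₗ[ℤ]
      L₀ ⧸ LinearMap.range (ds ∘ₗ d), ∀ ψ, G ψ = Submodule.Quotient.mk (Ξ ψ) :=
    ⟨(LinearMap.range (ds ∘ₗ d)).mkQ ∘ₗ Ξ, fun ψ => rfl⟩
  have hIm : LinearMap.range ιR ≤ LinearMap.ker G := by
    rintro φ ⟨⟨_, y, rfl⟩, rfl⟩
    rw [LinearMap.mem_ker, hG]
    have h1 := hΞι y
    rw [h1, Submodule.Quotient.mk_eq_zero]
    exact ⟨y, rfl⟩
  have hT : ∀ q, (LinearMap.range ιR).liftQ G hIm q ∈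
      Submodule.torsion ℤ (L₀ ⧸ LinearMap.range (ds ∘ₗ d)) := by
    intro q
    obtain ⟨ψ, rfl⟩ := Submodule.Quotient.mk_surjective _ q
    obtain ⟨c, hc, a, ha, hca⟩ :=
      Groth.Agent.Lib.Lattice_helper6.exists_smul_eq B₁ h₁p (LinearMap.range d) ψ
    have hmem : c • ψ ∈ LinearMap.range ιR := by
      refine ⟨⟨a, ha⟩, ?_⟩
      ext n
      rw [hι, LinearMap.smul_apply, smul_eq_mul, hca n, h₁s.eq]
    rw [Submodule.mem_torsion_iff]
    refine ⟨⟨c, mem_nonZeroDivisors_of_ne_zero hc⟩, ?_⟩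
    show c • (LinearMap.range ιR).liftQ G hIm (Submodule.Quotient.mk ψ) = 0
    rw [← map_smul, ← Submodule.Quotient.mk_smul, (Submodule.Quotient.mk_eq_zero _).2 hmem,
      map_zero]
  obtain ⟨F, hF⟩ : ∃ F : (Module.Dual ℤ (LinearMap.range d) ⧸ LinearMap.range ιR) →ₗ[ℤ]
      Submodule.torsion ℤ (L₀ ⧸ LinearMap.range (ds ∘ₗ d)),
      ∀ ψ, (F (Submodule.Quotient.mk ψ)).1 = Submodule.Quotient.mk (Ξ ψ) := by
    refine ⟨((LinearMap.range ιR).liftQ G hIm).codRestrict _ hT, fun ψ => ?_⟩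
    rw [LinearMap.codRestrict_apply, Submodule.liftQ_apply, hG]
  have hFinj : Function.Injective F := by
    rw [injective_iff_map_eq_zero]
    intro q hq
    obtain ⟨ψ, rfl⟩ := Submodule.Quotient.mk_surjective _ q
    have h1 : (Submodule.Quotient.mk (Ξ ψ) : L₀ ⧸ LinearMap.range (ds ∘ₗ d)) = 0 := by
      rw [← hF ψ, hq]; rfl
    rw [Submodule.Quotient.mk_eq_zero] at h1
    obtain ⟨y, hy⟩ := h1
    rw [Submodule.Quotient.mk_eq_zero]
    refine ⟨⟨d y, LinearMap.mem_range_self d y⟩, ?_⟩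
    ext r
    obtain ⟨_, y', rfl⟩ := r
    rw [hι]
    have h2 := hΞ ψ y'
    rw [← hy] at h2
    exact (hkey y y').trans h2
  have hFsurj : Function.Surjective F := by
    rintro ⟨q, hq⟩
    obtain ⟨x, rfl⟩ := Submodule.Quotient.mk_surjective _ q
    obtain ⟨a, ha⟩ := (Submodule.mem_torsion_iff _).1 hq
    have ha0 : (a : ℤ) ≠ 0 := nonZeroDivisors.coe_ne_zero a
    have h1 : (a : ℤ) • x ∈ LinearMap.range (ds ∘ₗ d) := by
      rw [← Submodule.Quotient.mk_eq_zero, Submodule.Quotient.mk_smul]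
      exact ha
    obtain ⟨y, hy⟩ := h1
    have hker : LinearMap.ker d ≤ LinearMap.ker (B₀ x) := by
      intro z hz
      rw [LinearMap.mem_ker] at hz ⊢
      have h3 : B₀ ((a : ℤ) • x) z = B₁ (d y) (d z) := by
        rw [← hy]; exact (hkey y z).symm
      rw [map_smul, LinearMap.smul_apply, smul_eq_mul, hz, map_zero] at h3
      exact (mul_eq_zero.1 h3).resolve_left ha0
    obtain ⟨ψ, hψ⟩ : ∃ ψ : Module.Dual ℤ (LinearMap.range d),
        ∀ y', ψ ⟨d y', LinearMap.mem_range_self d y'⟩ = B₀ x y' := by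
      refine ⟨((LinearMap.ker d).liftQ (B₀ x) hker) ∘ₗ d.quotKerEquivRange.symm.toLinearMap,
        fun y' => ?_⟩
      have h4 : d.quotKerEquivRange.symm ⟨d y', LinearMap.mem_range_self d y'⟩ =
          Submodule.Quotient.mk y' := by
        rw [LinearEquiv.symm_apply_eq]
        apply Subtype.ext
        exact (LinearMap.quotKerEquivRange_apply_mk d y').symm
      rw [LinearMap.comp_apply, LinearEquiv.coe_coe, h4, Submodule.liftQ_apply]
    refine ⟨Submodule.Quotient.mk ψ, Subtype.ext ?_⟩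
    rw [hF, hΞu ψ x hψ]
  subst hιR
  refine ⟨(LinearEquiv.ofBijective F ⟨hFinj, hFsurj⟩).symm, ?_⟩
  intro x hx ψ hψ
  rw [LinearEquiv.symm_apply_eq, LinearEquiv.ofBijective_apply]
  apply Subtype.ext
  rw [hF, hΞu ψ x hψ]

end Groth.Agent.S3352
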