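import Groth.Statements.S3390
import Groth.Agent.Lib.GenFibDim_helper8
import Groth.Agent.S9687
import Groth.Agent.Lib.DimGenFib_helper8

set_option autoImplicit false
open CategoryTheory AlgebraicGeometry
universe u
open EGA43

namespace Groth.Agent.S3390

/-- Let Y be an irreducible locally Noetherian scheme with generic point η and X an irreducible scheme,
and let f : X ⟶ Y be dominant and locally of finite type. Take a point x of X and write y = f x.
Suppose dim O_{X,x} = dim O_{Y,y} + dim O_{X_y,x}. Then the local dimension of the fibre X_y at x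
(FlatMor.fibreDimAt f x) equals the dimension of the generic fibre X_η (i.e. f is equidimensional at
x). -/
theorem result {X Y : Scheme.{u}} [IrreducibleSpace X] [IrreducibleSpace Y]
    [IsLocallyNoetherian Y] (f : X ⟶ Y) [LocallyOfFiniteType f] [IsDominant f] (x : X)
    (h : ringKrullDim (X.presheaf.stalk x) =
        ringKrullDim (Y.presheaf.stalk (f.base x)) + ringKrullDim ((f.fiber (f.base x)).presheaf.stalk (f.asFiber x))) :
    FlatMor.fibreDimAt f x = topologicalKrullDim ↥(f.fiber (genericPoint Y)) := by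
  obtain ⟨n0, h1, h2, h3⟩ := GenFibDimH8.exists_nat f
  apply le_antisymm
  · rw [h1]
    obtain ⟨n, hn⟩ := Groth.Agent.ResQuot2H8.exists_trdeg_nat f x
    have hn' : Dual3.resTrdeg f x = n := hn
    have key := Groth.Agent.S9687.result f x n n0 hn (by
      intro ξ' hξ' _
      have hξ'eq : ξ' = genericPoint X :=
        Groth.Agent.DimGenFibH8.eq_of_closure_mem_irreducibleComponents (genericPoint X) ξ'
          (fun x' => genericPoint_specializes x') hξ'
      subst hξ'eq
      show Dual3.resTrdeg f (genericPoint X) ≤ _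
      rw [h3])
    have hfc := FibCohH8.stalk_fiber_eq_fibCoh f x
    rw [h, hfc] at key
    have hYfin : ringKrullDim ↥(Y.presheaf.stalk (f x)) < ⊤ := ringKrullDim_lt_top
    have hYbot : ringKrullDim ↥(Y.presheaf.stalk (f x)) ≠ ⊥ := by
      rw [AlgebraicGeometry.ringKrullDim_stalk_eq_coheight]; simp
    obtain ⟨k, hk⟩ : ∃ k : ℕ, ringKrullDim ↥(Y.presheaf.stalk (f x)) = (k : WithBot ℕ∞) := by
      rw [AlgebraicGeometry.ringKrullDim_stalk_eq_coheight] at hYfin ⊢
      have : Order.coheight (f x) ≠ ⊤ := by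
        intro htop
        rw [htop] at hYfin
        exact absurd hYfin (by simp)
      obtain ⟨k, hk⟩ := ENat.ne_top_iff_exists.mp this
      exact ⟨k, by rw [← hk]; rfl⟩
    rw [hk] at key
    have key2 : (k : ℕ∞) + (FibCohH8.fibCoh f x + (n : ℕ∞)) ≤ (k : ℕ∞) + (n0 : ℕ∞) := by
      have : (((k : ℕ∞) + FibCohH8.fibCoh f x + (n : ℕ∞) : ℕ∞) : WithBot ℕ∞) ≤
          (((k : ℕ∞) + (n0 : ℕ∞) : ℕ∞) : WithBot ℕ∞) := by
        push_cast
        exact key
      rw [add_assoc] at this
      exact WithBot.coe_le_coe.mp this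
    have key3 : FibCohH8.fibCoh f x + (n : ℕ∞) ≤ (n0 : ℕ∞) :=
      (ENat.add_le_add_iff_left (ENat.natCast_ne_top k)).mp key2
    rw [FibCohH8.fibreDimAt_eq f x, hn', Cardinal.toENat_nat]
    exact_mod_cast key3
  · exact GenFibDimH8.generic_le f x

end Groth.Agent.S3390
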