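import Groth.Statements.S3391
import Groth.Agent.Lib.DimGenFib_helper8
import Groth.Agent.Lib.FibRes2_helper8
import Groth.Agent.Lib.LocDimSch_helper8

set_option autoImplicit false
open CategoryTheory AlgebraicGeometry
universe u
open EGA43

namespace Groth.Agent.S3391

/-- With X, Y, f, x, y as in the first assertion, suppose O_{Y,y} is universally catenary and the local
dimension at x of the fibre through x equals the dimension of the generic fibre. Then dim O_{X,x} =
dim O_{Y,y} + dim O_{X_y,x}. -/
theorem result {X Y : Scheme.{u}} [IrreducibleSpace X] [IrreducibleSpace Y]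
    [IsLocallyNoetherian Y] (f : X ⟶ Y) [LocallyOfFiniteType f] [IsDominant f] (x : X)
    (hcat : CAlg.IsUniversallyCatenary (Y.presheaf.stalk (f.base x)))
    (h : FlatMor.fibreDimAt f x = topologicalKrullDim ↥(f.fiber (genericPoint Y))) :
    ringKrullDim (X.presheaf.stalk x) =
        ringKrullDim (Y.presheaf.stalk (f.base x)) + ringKrullDim ((f.fiber (f.base x)).presheaf.stalk (f.asFiber x)) := by
  classical
  set ξ : X := genericPoint X with hξdef
  have hξ : ∀ x' : X, ξ ⤳ x' := fun x' => genericPoint_specializes x'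
  have hgen : f.base ξ = genericPoint Y := by
    have h1 : IsGenericPoint (f.base ξ) (closure (f.base '' (Set.univ : Set X))) :=
      (genericPoint_spec X).image f.base.hom.continuous
    rw [Set.image_univ, f.denseRange.closure_range] at h1
    exact h1.eq (genericPoint_spec Y)
  have hη : ∀ y' : Y, f.base ξ ⤳ y' := fun y' => by
    rw [hgen]; exact genericPoint_specializes y'
  obtain ⟨E, hE⟩ := Groth.Agent.ResQuot2H8.exists_trdeg_nat f ξ
  have hfib : topologicalKrullDim (f.fiber (f.base ξ)) = E :=
    Groth.Agent.FibRes2H8.dim_fiber_of_generic f ξ (fun x' _ => hξ x') E hE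
  rw [← hgen, hfib] at h
  obtain ⟨n, hn⟩ := Groth.Agent.ResQuot2H8.exists_trdeg_nat f x
  have hM := Groth.Agent.DimEqSchH8.dim_formula_eq f ξ x hξ hη hcat n E hn hE
  -- the fibre
  letI ovZ : (f.fiber (f.base x)).Over (Spec (CommRingCat.of (Y.residueField (f.base x)))) :=
    ⟨f.fiberToSpecResidueField (f.base x)⟩
  haveI hlft : LocallyOfFiniteType
      (f.fiber (f.base x) ↘ Spec (CommRingCat.of (Y.residueField (f.base x)))) :=
    Groth.Agent.FibRes2H8.lft_fiber f (f.base x)
  haveI : IsLocallyNoetherian (f.fiber (f.base x)) :=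
    LocallyOfFiniteType.isLocallyNoetherian
      (f.fiber (f.base x) ↘ Spec (CommRingCat.of (Y.residueField (f.base x))))
  have hb : ringKrullDim ((f.fiber (f.base x)).presheaf.stalk (f.asFiber x)) =
      ((LTSeries.longestOf (PrimeSpectrum ((f.fiber (f.base x)).presheaf.stalk (f.asFiber x)))).length : ℕ) :=
    Order.krullDim_eq_length_of_finiteDimensionalOrder
  set b := (LTSeries.longestOf
    (PrimeSpectrum ((f.fiber (f.base x)).presheaf.stalk (f.asFiber x)))).length with hbdef
  have hloc := Groth.Agent.LocDimSchH8.localDim_scheme (Y.residueField (f.base x))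
    (f.fiber (f.base x)) (f.asFiber x) n b
    (by rw [Groth.Agent.FibResH8.trdeg_asFiber f x]; exact hn) hb
  have hnb : n + b = E := by
    have h1 : FlatMor.fibreDimAt f x = ((n + b : ℕ) : WithBot ℕ∞) := hloc
    rw [h1] at h
    exact_mod_cast h
  rw [hb]
  apply Groth.Agent.WBEH8.add_nat_cancel _ _ n
  rw [hM, ← hnb]
  push_cast
  ring

end Groth.Agent.S3391
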