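import Groth.Statements.S3396
import Groth.Agent.Lib.Equi133_helper8

set_option autoImplicit false
open CategoryTheory AlgebraicGeometry
universe u
open EGA43

namespace Groth.Agent.S3396

/-- Let Y be locally Noetherian, f : X ⟶ Y locally of finite type and equidimensional at the point x,
and suppose the local ring O_{Y,f x} is universally catenary. If O_{Y,f x} is equidimensional, then
so is O_{X,x}. -/
theorem result {X Y : Scheme.{u}} [IsLocallyNoetherian Y] (f : X ⟶ Y)
    [LocallyOfFiniteType f] (x : X) (h : EGA43.IsEquidimAt f x)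
    (hcat : CAlg.IsUniversallyCatenary (Y.presheaf.stalk (f.base x)))
    (hY : EGA4.IsEquidim (Y.presheaf.stalk (f.base x))) :
    EGA4.IsEquidim (X.presheaf.stalk x) := by
  haveI : IsLocallyNoetherian X := LocallyOfFiniteType.isLocallyNoetherian f
  intro 𝔭 h𝔭
  obtain ⟨𝔭₁, h𝔭₁, hdim⟩ := Equi133H8.exists_minimalPrimes_dim_eq (X.presheaf.stalk x)
  obtain ⟨n, hn⟩ := Groth.Agent.ResQuot2H8.exists_trdeg_nat f x
  obtain ⟨hform, hmin⟩ := Equi133H8.key f x h hcat 𝔭 h𝔭 n hn
  obtain ⟨hform₁, hmin₁⟩ := Equi133H8.key f x h hcat 𝔭₁ h𝔭₁ n hn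
  rw [hY _ hmin] at hform
  rw [hY _ hmin₁, hdim] at hform₁
  exact Equi133H8.add_nat_cancel _ _ n (hform.trans hform₁.symm)

end Groth.Agent.S3396
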