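import Groth.Statements.S3400
import Groth.Agent.Lib.ProConsAff_helper8

set_option autoImplicit false
open CategoryTheory AlgebraicGeometry
universe u
open EGA41

namespace Groth.Agent.S3400

/-- Let X be a quasi-compact and quasi-separated scheme. A subset E of X is pro-constructible if and
only if there are an affine scheme X' and a morphism f : X' ⟶ X with f(X') = E. -/
theorem result (X : Scheme.{u}) [CompactSpace X] [QuasiSeparatedSpace X]
    (E : Set X) :
    ProCons.IsProConstructible E ↔ ∃ (X' : Scheme.{u}) (f : X' ⟶ X), IsAffine X' ∧ Set.range f.base = E := by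
  classical
  constructor
  · intro hE
    have hloc : ∀ x : X, ∃ W : X.Opens, IsAffineOpen W ∧ x ∈ W := by
      intro x
      obtain ⟨_, ⟨W, hW, rfl⟩, hxW, -⟩ :=
        X.isBasis_affineOpens.exists_subset_of_mem_open (Set.mem_univ x) isOpen_univ
      exact ⟨W, hW, hxW⟩
    choose W hW hxW using hloc
    obtain ⟨t, ht⟩ := isCompact_univ.elim_nhds_subcover (fun x => (W x : Set X))
      (fun x _ => (W x).2.mem_nhds (hxW x))
    have hex := fun x : X => Groth.Agent.Lib.ProConsAffH8.exists_affine_range_eq X E hE (W x) (hW x)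
    choose B g hg using hex
    refine ⟨∐ (fun x : {x // x ∈ t} => Spec (B x.1)),
      Limits.Sigma.desc (fun x : {x // x ∈ t} => g x.1), inferInstance, ?_⟩
    ext e
    constructor
    · rintro ⟨z, rfl⟩
      obtain ⟨⟨i, y⟩, rfl⟩ := (sigmaMk (fun x : {x // x ∈ t} => Spec (B x.1))).surjective z
      rw [sigmaMk_mk]
      have h1 : (Limits.Sigma.desc (fun x : {x // x ∈ t} => g x.1)).base
          ((Limits.Sigma.ι (fun x : {x // x ∈ t} => Spec (B x.1)) i).base y) = (g i.1).base y := by
        rw [← Scheme.Hom.comp_apply, Limits.Sigma.ι_desc]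
      rw [h1]
      have : (g i.1).base y ∈ Set.range (g i.1).base := ⟨y, rfl⟩
      rw [hg] at this
      exact this.1
    · intro he
      obtain ⟨x, hxt, hex⟩ := Set.mem_iUnion₂.mp (ht.2 (Set.mem_univ e))
      have : e ∈ Set.range (g x).base := by
        rw [hg]; exact ⟨he, hex⟩
      obtain ⟨y, rfl⟩ := this
      refine ⟨(Limits.Sigma.ι (fun x : {x // x ∈ t} => Spec (B x.1)) ⟨x, hxt⟩).base y, ?_⟩
      rw [← Scheme.Hom.comp_apply, Limits.Sigma.ι_desc]
  · rintro ⟨X', f, hX', rfl⟩
    have := Groth.Agent.Lib.ProConsImgH8.isProConstructible_image f Set.univ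
      Groth.Agent.Lib.ProConsAffH8.isProConstructible_univ
    rwa [Set.image_univ] at this

end Groth.Agent.S3400
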