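import Groth.Statements.S3433
import Groth.Agent.Lib.JacSp_helper8

set_option autoImplicit false
universe u
open EGA43

namespace Groth.Agent.S3433

/-- Let A be a Noetherian local ring with maximal ideal m and let Y be the punctured spectrum Spec A ∖
{m}. Then Y is a Jacobson space, and a point p of Y is closed in Y if and only if dim A/p = 1. -/
theorem result (A : Type u) [CommRing A] [IsNoetherianRing A] [IsLocalRing A] :
    JacobsonSpace ↥({IsLocalRing.closedPoint A}ᶜ : Set (PrimeSpectrum A)) ∧
      ∀ p : ↥({IsLocalRing.closedPoint A}ᶜ : Set (PrimeSpectrum A)),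
        IsClosed ({p} : Set ↥({IsLocalRing.closedPoint A}ᶜ : Set (PrimeSpectrum A))) ↔
          ringKrullDim (A ⧸ p.1.asIdeal) = 1 := by
  classical
  have hset : ({IsLocalRing.closedPoint A}ᶜ : Set (PrimeSpectrum A)) =
      (PrimeSpectrum.zeroLocus ((IsLocalRing.maximalIdeal A : Ideal A) : Set A))ᶜ := by
    congr 1
    ext x
    simp only [Set.mem_singleton_iff, PrimeSpectrum.mem_zeroLocus, SetLike.coe_subset_coe]
    constructor
    · rintro rfl
      exact le_rfl
    · intro h
      apply PrimeSpectrum.ext
      exact (le_antisymm (IsLocalRing.le_maximalIdeal x.2.ne_top) h)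
  constructor
  · rw [hset]
    refine Groth.Agent.JacCrit.jacobsonSpace_compl_zeroLocus A (IsLocalRing.maximalIdeal A) ?_
    rw [IsLocalRing.jacobson_eq_maximalIdeal ⊥ bot_ne_top]
  · intro p
    haveI := p.1.2
    have hmk : Function.Surjective (Ideal.Quotient.mk p.1.asIdeal) := Ideal.Quotient.mk_surjective
    have hker : RingHom.ker (Ideal.Quotient.mk p.1.asIdeal) = p.1.asIdeal := Ideal.mk_ker
    have hpm : p.1.asIdeal ≠ IsLocalRing.maximalIdeal A := by
      intro h
      apply p.2
      show p.1 = IsLocalRing.closedPoint A
      apply PrimeSpectrum.ext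
      exact h
    have hnf : ¬ IsField (A ⧸ p.1.asIdeal) := by
      rw [← Ideal.Quotient.maximal_ideal_iff_isField_quotient]
      intro hmax
      exact hpm (IsLocalRing.eq_maximalIdeal hmax)
    -- closedness criterion
    have hcl : IsClosed ({p} : Set ↥({IsLocalRing.closedPoint A}ᶜ : Set (PrimeSpectrum A))) ↔
        ∀ q : Ideal A, q.IsPrime → p.1.asIdeal < q → q = IsLocalRing.maximalIdeal A := by
      constructor
      · intro hc q hq hlt
        by_contra hqm
        have hqY : (⟨q, hq⟩ : PrimeSpectrum A) ∈ ({IsLocalRing.closedPoint A}ᶜ : Set (PrimeSpectrum A)) := by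
          intro h
          apply hqm
          exact congrArg PrimeSpectrum.asIdeal h
        obtain ⟨T, hT, hTp⟩ := isClosed_induced_iff.mp hc
        have hpT : p.1 ∈ T := by
          have : p ∈ Subtype.val ⁻¹' T := by rw [hTp]; rfl
          exact this
        have hqT : (⟨q, hq⟩ : PrimeSpectrum A) ∈ T := by
          have : (⟨q, hq⟩ : PrimeSpectrum A) ∈ closure {p.1} := by
            rw [PrimeSpectrum.closure_singleton]
            exact hlt.le
          exact (hT.closure_subset_iff.mpr (Set.singleton_subset_iff.mpr hpT)) this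
        have : (⟨⟨q, hq⟩, hqY⟩ : ↥({IsLocalRing.closedPoint A}ᶜ : Set (PrimeSpectrum A))) ∈
            Subtype.val ⁻¹' T := hqT
        rw [hTp, Set.mem_singleton_iff] at this
        have h2 : q = p.1.asIdeal := congrArg (fun z => z.1.asIdeal) this
        exact absurd hlt (by rw [h2]; exact lt_irrefl _)
      · intro h
        rw [isClosed_induced_iff]
        refine ⟨PrimeSpectrum.zeroLocus (p.1.asIdeal : Set A), PrimeSpectrum.isClosed_zeroLocus _, ?_⟩
        ext y
        simp only [Set.mem_preimage, PrimeSpectrum.mem_zeroLocus, SetLike.coe_subset_coe,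
          Set.mem_singleton_iff]
        constructor
        · intro hle
          by_contra hne
          have hlt : p.1.asIdeal < y.1.asIdeal := by
            refine lt_of_le_of_ne hle ?_
            intro h'
            apply hne
            apply Subtype.ext
            apply PrimeSpectrum.ext
            exact h'.symm
          apply y.2
          show y.1 = IsLocalRing.closedPoint A
          apply PrimeSpectrum.ext
          exact h _ y.1.2 hlt
        · rintro rfl
          exact le_rfl
    rw [hcl]
    constructor
    · intro h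
      have hle : Ring.KrullDimLE 1 (A ⧸ p.1.asIdeal) := by
        rw [Ring.krullDimLE_one_iff_of_noZeroDivisors]
        intro Q hQ0 hQ
        have hqc : (Q.comap (Ideal.Quotient.mk p.1.asIdeal)).IsPrime := Ideal.IsPrime.comap _
        have hle : p.1.asIdeal ≤ Q.comap (Ideal.Quotient.mk p.1.asIdeal) := by
          intro x hx
          rw [Ideal.mem_comap, Ideal.Quotient.eq_zero_iff_mem.mpr hx]
          exact zero_mem _
        have hne : p.1.asIdeal ≠ Q.comap (Ideal.Quotient.mk p.1.asIdeal) := by
          intro heq
          apply hQ0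
          have h1 : Q.comap (Ideal.Quotient.mk p.1.asIdeal) =
              (⊥ : Ideal (A ⧸ p.1.asIdeal)).comap (Ideal.Quotient.mk p.1.asIdeal) := by
            rw [← heq, ← RingHom.ker_eq_comap_bot, Ideal.mk_ker]
          exact Ideal.comap_injective_of_surjective _ hmk h1
        have hqm := h _ hqc (lt_of_le_of_ne hle hne)
        have hmax : (Q.comap (Ideal.Quotient.mk p.1.asIdeal)).IsMaximal := by
          rw [hqm]; exact IsLocalRing.maximalIdeal.isMaximal A
        have := Ideal.map_eq_top_or_isMaximal_of_surjective _ hmk hmax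
        rw [Ideal.map_comap_of_surjective _ hmk] at this
        exact this.resolve_left hQ.ne_top
      rw [Ring.krullDimLE_iff] at hle
      have hnle : ¬ ringKrullDim (A ⧸ p.1.asIdeal) ≤ 0 := fun h0 => by
        have : Ring.KrullDimLE 0 (A ⧸ p.1.asIdeal) := Ring.krullDimLE_iff.mpr h0
        exact hnf Ring.KrullDimLE.isField_of_isDomain
      exact le_antisymm hle (Order.succ_le_of_lt (lt_of_not_ge hnle))
    · intro hdim q hq hlt
      have hle : Ring.KrullDimLE 1 (A ⧸ p.1.asIdeal) := Ring.krullDimLE_iff.mpr (by simp [hdim])
      rw [Ring.krullDimLE_one_iff_of_noZeroDivisors] at hle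
      have hcm : (q.map (Ideal.Quotient.mk p.1.asIdeal)).comap (Ideal.Quotient.mk p.1.asIdeal) = q := by
        rw [Ideal.comap_map_of_surjective _ hmk, ← RingHom.ker_eq_comap_bot, hker]
        exact sup_eq_left.mpr hlt.le
      have hQprime : (q.map (Ideal.Quotient.mk p.1.asIdeal)).IsPrime :=
        Ideal.map_isPrime_of_surjective hmk (by rw [hker]; exact hlt.le)
      have hQ0 : q.map (Ideal.Quotient.mk p.1.asIdeal) ≠ ⊥ := by
        intro h
        rw [Ideal.map_eq_bot_iff_le_ker, hker] at h
        exact absurd hlt (not_lt_of_ge h)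
      have hQmax := hle _ hQ0 hQprime
      have : q.IsMaximal := by
        rw [← hcm]
        exact Ideal.comap_isMaximal_of_surjective _ hmk
      exact IsLocalRing.eq_maximalIdeal this

end Groth.Agent.S3433
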