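import Groth.Statements.S3435
import Mathlib

set_option autoImplicit false
universe u
open EGA41

namespace Groth.Agent.S3435

open TensorProduct in
/-- Let Λ → A → B → C be ring homomorphisms. The homomorphism Ω_{B/Λ} ⊗_B C → Ω_{B/A} ⊗_B C maps the
imperfection module Υ_{C/B/Λ} (the kernel of Ω_{B/Λ} ⊗_B C → Ω_{C/Λ}) onto the imperfection module
Υ_{C/B/A} (the kernel of Ω_{B/A} ⊗_B C → Ω_{C/A}): every element of Υ_{C/B/A} is the image of some
element of Υ_{C/B/Λ}. -/
theorem result (Λ A B C : Type u) [CommRing Λ] [CommRing A] [CommRing B] [CommRing C]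
    [Algebra Λ A] [Algebra Λ B] [Algebra Λ C] [Algebra A B] [Algebra A C] [Algebra B C]
    [IsScalarTower Λ A B] [IsScalarTower Λ A C] [IsScalarTower Λ B C] [IsScalarTower A B C] :
    ∀ ω ∈ EGA41.imperfection A B C, ∃ η ∈ EGA41.imperfection Λ B C,
      (KaehlerDifferential.map Λ A B B).baseChange C η = ω := by
  classical
  intro ω hω
  -- step 1: lift ω
  have hsurj : Function.Surjective ((KaehlerDifferential.map Λ A B B).baseChange C) :=
    LinearMap.lTensor_surjective C (KaehlerDifferential.map_surjective Λ A B)
  obtain ⟨η', hη'⟩ := hsurj ω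
  -- step 2: compatibility
  have hcompat : ∀ z : C ⊗[B] Ω[B⁄Λ],
      KaehlerDifferential.mapBaseChange A B C ((KaehlerDifferential.map Λ A B B).baseChange C z) =
        KaehlerDifferential.map Λ A C C (KaehlerDifferential.mapBaseChange Λ B C z) := by
    intro z
    induction z with
    | zero => simp
    | add x y hx hy => simp only [map_add, hx, hy]
    | tmul c w =>
      simp only [LinearMap.baseChange_tmul, KaehlerDifferential.mapBaseChange_tmul, map_smul]
      congr 1
      have hw : w ∈ Submodule.span B (Set.range (KaehlerDifferential.D Λ B)) := by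
        rw [KaehlerDifferential.span_range_derivation]; trivial
      induction hw using Submodule.span_induction with
      | mem x hx =>
        obtain ⟨b, rfl⟩ := hx
        simp only [KaehlerDifferential.map_D, Algebra.algebraMap_self, RingHom.id_apply]
      | zero => simp
      | add x y _ _ hx hy => simp only [map_add, hx, hy]
      | smul b x _ hx =>
        rw [map_smul, map_smul, map_smul, LinearMap.map_smul_of_tower, hx]
  -- the image of η' in Ω[C/Λ] dies in Ω[C/A]
  have hζ : KaehlerDifferential.map Λ A C C (KaehlerDifferential.mapBaseChange Λ B C η') = 0 := by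
    rw [← hcompat, hη']
    exact hω
  obtain ⟨θ, hθ⟩ := (KaehlerDifferential.exact_mapBaseChange_map Λ A C _).mp hζ
  -- transport θ to C ⊗[B] Ω[B/Λ]
  have hclaim : ∀ θ : C ⊗[A] Ω[A⁄Λ], ∃ θ' : C ⊗[B] Ω[B⁄Λ],
      KaehlerDifferential.mapBaseChange Λ B C θ' = KaehlerDifferential.mapBaseChange Λ A C θ ∧
        (KaehlerDifferential.map Λ A B B).baseChange C θ' = 0 := by
    intro θ
    induction θ with
    | zero => exact ⟨0, by simp, by simp⟩
    | add x y hx hy =>
      obtain ⟨x', hx1, hx2⟩ := hx
      obtain ⟨y', hy1, hy2⟩ := hy
      exact ⟨x' + y', by simp only [map_add, hx1, hy1], by simp only [map_add, hx2, hy2, add_zero]⟩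
    | tmul c w =>
      refine ⟨c ⊗ₜ KaehlerDifferential.map Λ Λ A B w, ?_, ?_⟩
      · simp only [KaehlerDifferential.mapBaseChange_tmul]
        congr 1
        have hw : w ∈ Submodule.span A (Set.range (KaehlerDifferential.D Λ A)) := by
          rw [KaehlerDifferential.span_range_derivation]; trivial
        induction hw using Submodule.span_induction with
        | mem x hx =>
          obtain ⟨a, rfl⟩ := hx
          simp only [KaehlerDifferential.map_D]
          rw [← IsScalarTower.algebraMap_apply]
        | zero => simp
        | add x y _ _ hx hy => simp only [map_add, hx, hy]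
        | smul a x _ hx =>
          rw [map_smul, LinearMap.map_smul_of_tower, hx, map_smul]
      · simp only [LinearMap.baseChange_tmul]
        have : KaehlerDifferential.map Λ A B B (KaehlerDifferential.map Λ Λ A B w) = 0 := by
          have hw : w ∈ Submodule.span A (Set.range (KaehlerDifferential.D Λ A)) := by
            rw [KaehlerDifferential.span_range_derivation]; trivial
          induction hw using Submodule.span_induction with
          | mem x hx =>
            obtain ⟨a, rfl⟩ := hx
            simp only [KaehlerDifferential.map_D, Algebra.algebraMap_self, RingHom.id_apply]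
            exact (KaehlerDifferential.D A B).map_algebraMap a
          | zero => simp
          | add x y _ _ hx hy => simp only [map_add, hx, hy, add_zero]
          | smul a x _ hx =>
            rw [map_smul, LinearMap.map_smul_of_tower, hx, smul_zero]
        rw [this, TensorProduct.tmul_zero]
  obtain ⟨θ', hθ'1, hθ'2⟩ := hclaim θ
  refine ⟨η' - θ', ?_, ?_⟩
  · show η' - θ' ∈ LinearMap.ker (KaehlerDifferential.mapBaseChange Λ B C)
    rw [LinearMap.mem_ker, map_sub, hθ'1, hθ, sub_self]
  · rw [map_sub, hθ'2, sub_zero, hη']

end Groth.Agent.S3435
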