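import Groth.Statements.S3438
import Groth.Agent.Lib.Equi133_helper8

set_option autoImplicit false
open CategoryTheory AlgebraicGeometry
universe u
open EGA43

namespace Groth.Agent.S3438

/-- Let Y be locally Noetherian, f : X ⟶ Y locally of finite type, x a point of X with y = f x, and
suppose O_{Y,y} is equidimensional and universally catenary. If f is equidimensional at x, then dim
O_{X,x} = dim O_{Y,y} + dim O_{X_y,x}. (That O_{X,x} is then also equidimensional is a separate
result, not asserted here.) -/
theorem result {X Y : Scheme.{u}} [IsLocallyNoetherian Y] (f : X ⟶ Y)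
    [LocallyOfFiniteType f] (x : X) (hY : EGA4.IsEquidim (Y.presheaf.stalk (f.base x)))
    (hcat : CAlg.IsUniversallyCatenary (Y.presheaf.stalk (f.base x))) (h : EGA43.IsEquidimAt f x) :
    ringKrullDim (X.presheaf.stalk x) =
        ringKrullDim (Y.presheaf.stalk (f.base x)) + ringKrullDim ((f.fiber (f.base x)).presheaf.stalk (f.asFiber x)) := by
  haveI : IsLocallyNoetherian X := LocallyOfFiniteType.isLocallyNoetherian f
  obtain ⟨𝔭, h𝔭, hdim⟩ := Equi133H8.exists_minimalPrimes_dim_eq (X.presheaf.stalk x)
  obtain ⟨n, hn⟩ := Groth.Agent.ResQuot2H8.exists_trdeg_nat f x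
  obtain ⟨hform, hmin⟩ := Equi133H8.key f x h hcat 𝔭 h𝔭 n hn
  rw [hdim, hY _ hmin, FibCohH8.fibreDimAt_eq f x, ← FibCohH8.stalk_fiber_eq_fibCoh] at hform
  have hn' : Dual3.resTrdeg f x = n := hn
  rw [hn', Cardinal.toENat_nat, ← add_assoc] at hform
  exact Equi133H8.add_nat_cancel _ _ n hform

end Groth.Agent.S3438
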