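import Groth.Statements.S3449
import Groth.Agent.Lib.JUC6_helper8
import Groth.Agent.Lib.FibRes2_helper8

set_option autoImplicit false
open CategoryTheory AlgebraicGeometry
universe u
open EGA43

namespace Groth.Agent.S3449

/-- Let S be a locally Noetherian scheme which is Jacobson, whose local rings are universally catenary,
and whose irreducible components S' are equidimensional in the sense that for every closed point s
of S' the dimension of S' equals the dimension of S' at s (the Krull dimension of the set of
generizations of s inside S'). Let X and Y be S-schemes, each locally of finite type over the base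
S, and let f : X ⟶ Y be a morphism over S, with X irreducible and f dominant; let η be the generic
point of Y and e the dimension of the fibre over η. Then dim X = dim Y + e. -/
theorem result {X Y S : Scheme.{u}} [IsLocallyNoetherian S]
    [JacobsonSpace S] (h2 : ∀ s : S, CAlg.IsUniversallyCatenary (S.presheaf.stalk s))
    (h3 : ∀ S' ∈ irreducibleComponents (S : Type u), ∀ s ∈ S', IsClosed ({s} : Set S) →
      topologicalKrullDim (↥S' : Type u) = topologicalKrullDim ↥{t : S | t ∈ S' ∧ t ⤳ s})
    (p : X ⟶ S) (q : Y ⟶ S) [LocallyOfFiniteType p] [LocallyOfFiniteType q] (f : X ⟶ Y) (hf : f ≫ q = p)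
    [IrreducibleSpace X] [IrreducibleSpace Y] [IsDominant f] :
    topologicalKrullDim (X : Type u) =
      topologicalKrullDim (Y : Type u) + topologicalKrullDim ↥(f.fiber (genericPoint Y)) := by
  classical
  subst hf
  haveI : LocallyOfFiniteType f := locallyOfFiniteType_of_comp f q
  have hξ : ∀ x' : X, genericPoint X ⤳ x' := fun x' =>
    (genericPoint_spec X).specializes (Set.mem_univ _)
  have hgen : f.base (genericPoint X) = genericPoint Y := by
    have h1 : IsGenericPoint (f.base (genericPoint X)) (closure (f.base '' Set.univ)) :=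
      (genericPoint_spec X).image f.continuous
    rw [Set.image_univ, f.denseRange.closure_range] at h1
    exact h1.eq (genericPoint_spec Y)
  have hη : ∀ y' : Y, f.base (genericPoint X) ⤳ y' := by
    rw [hgen]
    exact fun y' => (genericPoint_spec Y).specializes (Set.mem_univ _)
  obtain ⟨nX, hnX⟩ := Groth.Agent.ResQuot2H8.exists_trdeg_nat (f ≫ q) (genericPoint X)
  obtain ⟨nY, hnY⟩ := Groth.Agent.ResQuot2H8.exists_trdeg_nat q (f.base (genericPoint X))
  obtain ⟨E, hE⟩ := Groth.Agent.ResQuot2H8.exists_trdeg_nat f (genericPoint X)
  have htower := Groth.Agent.JUC5H8.trdeg_comp f q (genericPoint X)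
  rw [hnY, hE, hnX] at htower
  have hsum : nY + E = nX := by exact_mod_cast htower
  obtain ⟨hX0, hXdim⟩ := Groth.Agent.JUC6H8.dim_of_lft S h2 h3 (f ≫ q) (genericPoint X) hξ nX hnX
  obtain ⟨hY0, hYdim⟩ := Groth.Agent.JUC6H8.dim_of_lft S h2 h3 q (f.base (genericPoint X)) hη nY hnY
  have hfib := Groth.Agent.FibRes2H8.dim_fiber_of_generic f (genericPoint X)
    (fun x' _ => hξ x') E hE
  rw [hgen] at hfib
  rw [hXdim, hYdim, hfib]
  have hbase : (f ≫ q).base (genericPoint X) = q.base (f.base (genericPoint X)) := rfl
  rw [hbase] at hX0 ⊢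
  have : (Groth.Agent.JUC4H8.δ S (q.base (f.base (genericPoint X))) + (nX : ℤ)).toNat =
      (Groth.Agent.JUC4H8.δ S (q.base (f.base (genericPoint X))) + (nY : ℤ)).toNat + E := by
    omega
  rw [this]
  push_cast
  rfl

end Groth.Agent.S3449
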