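import Groth.Statements.S3551
import Mathlib
import Groth.Agent.Lib.GStar4_helper5

set_option autoImplicit false
universe u
open CategoryTheory CategoryTheory.Limits AlgebraicGeometry
open EGA2

namespace Groth.Agent.S3551

/-- Let S be a graded ring whose irrelevant ideal S_+ is generated by finitely many elements of degree
one, and X = Proj S. Then every quasi-coherent O_X-module of finite type is isomorphic to N~ for
some finitely generated graded S-module N (graded in nonnegative degrees). -/
theorem result {R A : Type u} [CommRing R] [CommRing A] [Algebra R A] (𝒜 : ℕ → Submodule R A) [GradedAlgebra 𝒜]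
    (s : Finset A) (hs1 : ∀ f ∈ s, f ∈ 𝒜 1)
    (hs : (HomogeneousIdeal.irrelevant 𝒜).toIdeal = Ideal.span (s : Set A))
    (F : (Proj 𝒜).Modules) (hF : Coh.IsQCoh F) (hFT : CohB1.IsFT F) :
    ∃ (N : Type u) (_ : AddCommGroup N) (_ : Module R N) (_ : Module A N) (_ : IsScalarTower R A N)
      (𝒩 : ℕ → Submodule R N) (_ : DirectSum.Decomposition 𝒩) (_ : SetLike.GradedSMul 𝒜 𝒩),
      Module.Finite A N ∧ Nonempty (GrTilde.tilde 𝒜 𝒩 0 ≅ F) := by
  haveI : F.IsQuasicoherent := hF
  haveI : SheafOfModules.IsFiniteType (R := (Proj 𝒜).ringCatSheaf) F := hFT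
  obtain ⟨J, hJ, k, q, hq, h⟩ := Groth.Agent.GStar.exists_finite_iso (𝒜 := 𝒜) (s := s) (F := F) hs1 hs
  haveI := hJ
  exact ⟨Groth.Agent.GStar.GM (Groth.Agent.GStar.genFam k q hq), inferInstance, inferInstance,
    inferInstance, inferInstance, Groth.Agent.GStar.deg (Groth.Agent.GStar.genFam k q hq),
    inferInstance, inferInstance, Groth.Agent.GStar.finite_GM k q hq, h⟩

end Groth.Agent.S3551
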