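import Groth.Statements.S3554
import Mathlib
import Groth.Agent.Lib.ProjBC_helper5

set_option autoImplicit false
universe u
open CategoryTheory CategoryTheory.Limits AlgebraicGeometry
open EGA2

namespace Groth.Agent.S3554

/-- Let A' → A be a ring homomorphism, S' a graded A'-algebra and S = S' ⊗_{A'} A with the induced
grading (here: any graded A-algebra S with a graded homomorphism S' → S exhibiting S as the base
change of S'). Then the square formed by Proj S → Proj S', the structure morphisms to Spec A and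
Spec A', and Spec A → Spec A' is cartesian. -/
theorem result {R R' A B : Type u} [CommRing R'] [CommRing R] [Algebra R' R]
    [CommRing B] [Algebra R' B] (ℬ : ℕ → Submodule R' B) [GradedAlgebra ℬ]
    [CommRing A] [Algebra R A] [Algebra R' A] [IsScalarTower R' R A] (𝒜 : ℕ → Submodule R A) [GradedAlgebra 𝒜]
    [Algebra B A] [IsScalarTower R' B A] [Algebra.IsPushout R' R B A]
    (φ : ℬ →+*ᵍ 𝒜) (hφA : ∀ b : B, φ b = algebraMap B A b)
    (hφ : HomogeneousIdeal.irrelevant 𝒜 ≤ (HomogeneousIdeal.irrelevant ℬ).map φ) :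
    IsPullback (Proj.map φ hφ)
      (Proj.toSpecZero 𝒜 ≫ Spec.map (CommRingCat.ofHom (algebraMap R (𝒜 0))))
      (Proj.toSpecZero ℬ ≫ Spec.map (CommRingCat.ofHom (algebraMap R' (ℬ 0))))
      (Spec.map (CommRingCat.ofHom (algebraMap R' R))) := by
  refine Scheme.isPullback_of_openCover _ _ _ _ (Proj.affineOpenCover ℬ).openCover (fun s => ?_)
  obtain ⟨⟨m, hm⟩, ⟨g, hg⟩⟩ := s
  have hφg : φ g ∈ 𝒜 m := Graded.map_mem φ hg
  -- the square of basic opens is cartesian
  have hsq : IsPullback (Spec.map (CommRingCat.ofHom (HomogeneousLocalization.Away.map φ g)))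
      (Proj.awayι 𝒜 (φ g) hφg hm) (Proj.awayι ℬ g hg hm) (Proj.map φ hφ) := by
    refine IsOpenImmersion.isPullback _ _ _ _ (Proj.awayι_comp_map φ hφ hm g hg) ?_
    rw [Proj.opensRange_awayι, Proj.opensRange_awayι]
    rfl
  -- the affine square is cartesian
  have hpo := Groth.Agent.ProjBC.isPushout_away ℬ 𝒜 φ hφA hg
  have haff := (isPullback_SpecMap_of_isPushout _ _ _ _ hpo).flip
  have eA : Proj.awayι 𝒜 (φ g) hφg hm ≫ Proj.toSpecZero 𝒜 ≫
      Spec.map (CommRingCat.ofHom (algebraMap R (𝒜 0))) =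
      Spec.map (CommRingCat.ofHom (Groth.Agent.ProjBC.rho 𝒜 (φ g))) := by
    rw [Proj.awayι_toSpecZero_assoc, ← Spec.map_comp]
    rfl
  have eB : Proj.awayι ℬ g hg hm ≫ Proj.toSpecZero ℬ ≫
      Spec.map (CommRingCat.ofHom (algebraMap R' (ℬ 0))) =
      Spec.map (CommRingCat.ofHom (Groth.Agent.ProjBC.rho ℬ g)) := by
    rw [Proj.awayι_toSpecZero_assoc, ← Spec.map_comp]
    rfl
  refine IsPullback.of_iso haff hsq.flip.isoPullback (Iso.refl _) (Iso.refl _) (Iso.refl _)
    ?_ ?_ ?_ ?_
  · exact (Category.comp_id _).trans (hsq.flip.isoPullback_hom_snd).symm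
  · refine (Category.comp_id _).trans ?_
    show _ = hsq.flip.isoPullback.hom ≫ pullback.fst _ _ ≫ _
    rw [IsPullback.isoPullback_hom_fst_assoc, eA]
  · exact (Category.comp_id _).trans ((Category.id_comp _).trans eB).symm
  · exact (Category.comp_id _).trans (Category.id_comp _).symm

end Groth.Agent.S3554
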