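import Groth.Statements.S3570
import Groth.Prelude.Def_AffAlg
-- import your own Groth.Agent.* helpers here

set_option autoImplicit false
universe u
open CategoryTheory CategoryTheory.Limits AlgebraicGeometry Opposite
open AffAlg
open EGA2

namespace Groth.Agent.S3570

/-- Let f : X → S and g : Y → S be affine morphisms and h : Y → X an S-morphism. Then h is an
isomorphism if and only if A(h) : f_*O_X → g_*O_Y is an isomorphism (of presheaves of rings on S). -/
theorem result {X Y S : Scheme.{u}} (f : X ⟶ S) [IsAffineHom f] (g : Y ⟶ S)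
    [IsAffineHom g] (h : Y ⟶ X) (w : h ≫ f = g) :
    IsIso h ↔ IsIso (AffAlg.algHom f g h w) := by
  subst w
  constructor
  · intro hh
    have : IsIso h.c := inferInstance
    unfold AffAlg.algHom
    infer_instance
  · intro hiso
    have key : ∀ V : S.affineOpens, IsIso (h.app (f ⁻¹ᵁ (V : S.Opens))) := by
      intro V
      have h1 : IsIso ((AffAlg.algHom f (h ≫ f) h rfl).app (op (V : S.Opens))) := inferInstance
      have h2 : (AffAlg.algHom f (h ≫ f) h rfl).app (op (V : S.Opens)) = h.app (f ⁻¹ᵁ (V : S.Opens)) := by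
        simp [AffAlg.algHom]
        rfl
      rwa [h2] at h1
    change (MorphismProperty.isomorphisms Scheme.{u}) h
    have hcov : ⨆ V : S.affineOpens, (f ⁻¹ᵁ (V : S.Opens)) = ⊤ :=
      (TopologicalSpace.IsOpenCover.comap (iSup_affineOpens_eq_top S) f.base.hom)
    rw [HasAffineProperty.iff_of_iSup_eq_top (P := MorphismProperty.isomorphisms Scheme.{u})
      (fun V : S.affineOpens => (⟨f ⁻¹ᵁ (V : S.Opens), V.2.preimage f⟩ : X.affineOpens)) hcov]
    intro V
    refine ⟨?_, ?_⟩
    · have : IsAffineOpen (h ⁻¹ᵁ (f ⁻¹ᵁ (V : S.Opens))) := V.2.preimage (h ≫ f)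
      exact this
    · rw [morphismRestrict_appTop]
      have h3 : (f ⁻¹ᵁ (V : S.Opens)).ι ''ᵁ ⊤ = f ⁻¹ᵁ (V : S.Opens) := by simp
      have := key V
      have h4 : IsIso (h.app ((f ⁻¹ᵁ (V : S.Opens)).ι ''ᵁ ⊤)) := by rw [h3]; exact this
      have h5 : IsIso (Y.presheaf.map
          (eqToHom (image_morphismRestrict_preimage h (f ⁻¹ᵁ (V : S.Opens)) ⊤)).op) :=
        Functor.map_isIso _ _
      exact IsIso.comp_isIso' h4 h5

end Groth.Agent.S3570
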