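import Groth.Statements.S3577
import Groth.Agent.Lib.NormDesc6_helper6
import Groth.Agent.Lib.VAmpPn8_helper5

set_option autoImplicit false
universe u
open CategoryTheory CategoryTheory.Limits AlgebraicGeometry
open EGA2

namespace Groth.Agent.S3577

/-- Let Y be an affine scheme, X a Noetherian reduced scheme, f : X → Y a quasi-compact morphism and g :
X' → X a finite surjective morphism. Assume that at every point x of X either the local ring of X at
x is an integrally closed domain, or the direct image of the structure sheaf of X' is locally free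
on some open neighbourhood of x. Then an invertible O_X-module L is ample relative to f if and only
if its inverse image on X' is ample relative to f ∘ g. -/
theorem result {X X' Y : Scheme.{u}} [IsAffine Y]
    [IsNoetherian X] [IsReduced X] (f : X ⟶ Y) [QuasiCompact f] (g : X' ⟶ X) [IsFinite g] [Surjective g]
    (hW : ∀ x : X, (IsDomain (X.presheaf.stalk x) ∧ IsIntegrallyClosed (X.presheaf.stalk x)) ∨
      ∃ T : X.Opens, x ∈ T ∧ FlatMod.IsFinLocFree (((Coh.push g).obj (Coh.structureModule X')).restrict T.ι))
    (L : X.Modules) (hL : PicF.IsInvertible L) :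
    RelAmple.IsRelAmple f L ↔ RelAmple.IsRelAmple (g ≫ f) ((Scheme.Modules.pullback g).obj L) := by
  have hL' := TensH8.isInvertible_pullback g hL
  constructor
  · rintro ⟨-, h⟩
    refine ⟨inferInstance, fun V => ?_⟩
    have h1 := (TensH8.isAmple_restrict_ι_iff hL _).mp (h V)
    have hc : IsCompact (((g ≫ f) ⁻¹ᵁ V.1 : X'.Opens) : Set X') :=
      QuasiCompact.isCompact_preimage (f := g ≫ f) _ V.1.isOpen V.2.isCompact
    have h2 := TensH8.isAmpleOn_pullback_of_isAffineHom g hL h1 hc
    exact (TensH8.isAmple_restrict_ι_iff hL' _).mpr h2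
  · intro h
    have h1 : TensH8.IsAmpleOn ((Scheme.Modules.pullback g).obj L) ⊤ :=
      ((TensH8.isRelAmple_iff (g ≫ f) hL').mp h).2 ⟨⊤, isAffineOpen_top Y⟩
    have h2 : CohB1.IsAmple ((Scheme.Modules.pullback g).obj L) :=
      (TensH8.isAmple_iff_isAmpleOn_top hL').mpr h1
    have hN : Groth.Agent.Lib.NormDescH6.NormalOrFree g := by
      intro x
      rcases hW x with hn | ⟨T, hxT, hT⟩
      · exact Or.inr hn
      · left
        obtain ⟨V, hV, hxV, -⟩ :=
          Groth.Agent.Lib.NormDescH6.exists_isFreeOpen_of_restrict g T hT x hxT ⊤ trivial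
        exact Groth.Agent.Lib.NormDescH6.mem_freeLocus.mpr ⟨V, hV, hxV⟩
    exact Groth.Agent.VAmpPn.isRelAmple_of_isAmple f
      (Groth.Agent.Lib.NormDescH6.isAmple_of_pullback_of_normalOrFree hN hL h2)

end Groth.Agent.S3577
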