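import Groth.Statements.S3578
-- import your own Groth.Agent.* helpers here

set_option autoImplicit false
universe u
open EGA2


namespace Groth.Agent.S3578

/-- Via the correspondence between closed subsets of Proj S and radical graded ideals of S_+: let S be a
graded ring and Z a closed subset of Proj S, with J = S_+ ∩ (vanishing ideal of Z). Then Z is
irreducible if and only if J is a prime ideal of the ring-without-unit S_+: J ≠ S_+ and a product of
two elements of S_+ lies in J only if one factor does. -/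
theorem result {R A : Type u} [CommRing R] [CommRing A] [Algebra R A] (𝒜 : ℕ → Submodule R A) [GradedAlgebra 𝒜]
    (Z : Set (ProjectiveSpectrum 𝒜)) (hZ : IsClosed Z) :
    IsIrreducible Z ↔
      (¬ (HomogeneousIdeal.irrelevant 𝒜).toIdeal ≤ (ProjectiveSpectrum.vanishingIdeal Z).toIdeal ∧
        ∀ f ∈ (HomogeneousIdeal.irrelevant 𝒜).toIdeal, ∀ g ∈ (HomogeneousIdeal.irrelevant 𝒜).toIdeal,
          f * g ∈ (ProjectiveSpectrum.vanishingIdeal Z).toIdeal →
            f ∈ (ProjectiveSpectrum.vanishingIdeal Z).toIdeal ∨ g ∈ (ProjectiveSpectrum.vanishingIdeal Z).toIdeal) := by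
  have hmem : ∀ f : A, f ∈ (ProjectiveSpectrum.vanishingIdeal Z).toIdeal ↔
      ∀ x ∈ Z, f ∈ x.asHomogeneousIdeal.toIdeal := fun f => ProjectiveSpectrum.mem_vanishingIdeal Z f
  constructor
  · intro hirr
    refine ⟨?_, ?_⟩
    · obtain ⟨x, hx⟩ := hirr.nonempty
      intro hle
      apply x.not_irrelevant_le
      intro f hf
      exact (hmem f).mp (hle hf) x hx
    · intro f _ g _ hfg
      have hcov : Z ⊆ ProjectiveSpectrum.zeroLocus 𝒜 {f} ∪ ProjectiveSpectrum.zeroLocus 𝒜 {g} := by
        intro x hx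
        have h := (hmem (f * g)).mp hfg x hx
        rcases x.isPrime.mem_or_mem h with h | h
        · left
          rw [ProjectiveSpectrum.mem_zeroLocus, Set.singleton_subset_iff]
          exact h
        · right
          rw [ProjectiveSpectrum.mem_zeroLocus, Set.singleton_subset_iff]
          exact h
      rcases isPreirreducible_iff_isClosed_union_isClosed.mp hirr.isPreirreducible _ _
        (ProjectiveSpectrum.isClosed_zeroLocus 𝒜 _) (ProjectiveSpectrum.isClosed_zeroLocus 𝒜 _) hcov with h | h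
      · left
        rw [hmem]
        intro x hx
        have := h hx
        rw [ProjectiveSpectrum.mem_zeroLocus, Set.singleton_subset_iff] at this
        exact this
      · right
        rw [hmem]
        intro x hx
        have := h hx
        rw [ProjectiveSpectrum.mem_zeroLocus, Set.singleton_subset_iff] at this
        exact this
  · rintro ⟨hne, hprime⟩
    have hnonempty : Z.Nonempty := by
      by_contra hempty
      rw [Set.not_nonempty_iff_eq_empty] at hempty
      apply hne
      intro f _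
      rw [hmem]
      intro x hx
      rw [hempty] at hx
      exact hx.elim
    refine ⟨hnonempty, ?_⟩
    rw [isPreirreducible_iff_isClosed_union_isClosed]
    intro Z₁ Z₂ h₁ h₂ hcov
    by_contra hcon
    rw [not_or] at hcon
    obtain ⟨hn1, hn2⟩ := hcon
    obtain ⟨x₁, hx₁, hx₁'⟩ := Set.not_subset.mp hn1
    obtain ⟨x₂, hx₂, hx₂'⟩ := Set.not_subset.mp hn2
    obtain ⟨s₁, rfl⟩ := (ProjectiveSpectrum.isClosed_iff_zeroLocus 𝒜 _).mp h₁
    obtain ⟨s₂, rfl⟩ := (ProjectiveSpectrum.isClosed_iff_zeroLocus 𝒜 _).mp h₂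
    rw [ProjectiveSpectrum.mem_zeroLocus, Set.not_subset] at hx₁' hx₂'
    obtain ⟨f₁, hf₁, hf₁'⟩ := hx₁'
    obtain ⟨f₂, hf₂, hf₂'⟩ := hx₂'
    obtain ⟨k₁, hk₁, hk₁'⟩ := SetLike.not_le_iff_exists.mp x₁.not_irrelevant_le
    obtain ⟨k₂, hk₂, hk₂'⟩ := SetLike.not_le_iff_exists.mp x₂.not_irrelevant_le
    have hF₁ : f₁ * k₁ ∈ (HomogeneousIdeal.irrelevant 𝒜).toIdeal := Ideal.mul_mem_left _ f₁ hk₁
    have hF₂ : f₂ * k₂ ∈ (HomogeneousIdeal.irrelevant 𝒜).toIdeal := Ideal.mul_mem_left _ f₂ hk₂
    have hn₁ : f₁ * k₁ ∉ x₁.asHomogeneousIdeal.toIdeal := fun h =>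
      (x₁.isPrime.mem_or_mem h).elim hf₁' hk₁'
    have hn₂ : f₂ * k₂ ∉ x₂.asHomogeneousIdeal.toIdeal := fun h =>
      (x₂.isPrime.mem_or_mem h).elim hf₂' hk₂'
    have hprod : (f₁ * k₁) * (f₂ * k₂) ∈ (ProjectiveSpectrum.vanishingIdeal Z).toIdeal := by
      rw [hmem]
      intro x hx
      rcases hcov hx with h | h
      · exact Ideal.mul_mem_right _ _ (Ideal.mul_mem_right _ _ (h hf₁))
      · exact Ideal.mul_mem_left _ _ (Ideal.mul_mem_right _ _ (h hf₂))
    rcases hprime _ hF₁ _ hF₂ hprod with h | h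
    · exact hn₁ ((hmem _).mp h x₁ hx₁)
    · exact hn₂ ((hmem _).mp h x₂ hx₂)

end Groth.Agent.S3578
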