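import Groth.Statements.S3583
import Groth.Prelude.Def_AffAlg
-- import your own Groth.Agent.* helpers here

set_option autoImplicit false
universe u
open CategoryTheory AlgebraicGeometry Opposite
open AffAlg
open EGA2

namespace Groth.Agent.S3583

/-- In the form stated after its proof: let f : X → S and f' : X' → S be affine morphisms and h : X' → X
an S-morphism such that the O_S-algebra homomorphism A(h) : f_*O_X → f'_*O_{X'} is surjective (as a
map of quasi-coherent O_S-modules, i.e. on sections over every affine open of S). Then h is a closed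
immersion. -/
theorem result {X X' S : Scheme.{u}} (f : X ⟶ S) [IsAffineHom f]
    (f' : X' ⟶ S) [IsAffineHom f'] (h : X' ⟶ X) (w : h ≫ f = f')
    (hsurj : ∀ U : S.affineOpens, Function.Surjective ((AffAlg.algHom f f' h w).app (op U.1)).hom) :
    IsClosedImmersion h := by
  subst w
  have key : ∀ V : S.affineOpens, Function.Surjective (h.app (f ⁻¹ᵁ (V : S.Opens))).hom := by
    intro V
    have h1 := hsurj V
    have h2 : (AffAlg.algHom f (h ≫ f) h rfl).app (op (V : S.Opens)) = h.app (f ⁻¹ᵁ (V : S.Opens)) := by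
      simp [AffAlg.algHom]
      rfl
    rwa [h2] at h1
  have hcov : ⨆ V : S.affineOpens, (f ⁻¹ᵁ (V : S.Opens)) = ⊤ :=
    (TopologicalSpace.IsOpenCover.comap (iSup_affineOpens_eq_top S) f.base.hom)
  rw [HasAffineProperty.iff_of_iSup_eq_top (P := @IsClosedImmersion)
    (fun V : S.affineOpens => (⟨f ⁻¹ᵁ (V : S.Opens), V.2.preimage f⟩ : X.affineOpens)) hcov]
  intro V
  refine ⟨?_, ?_⟩
  · have : IsAffineOpen (h ⁻¹ᵁ (f ⁻¹ᵁ (V : S.Opens))) := V.2.preimage (h ≫ f)
    exact this
  · rw [morphismRestrict_appTop]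
    have h3 : (f ⁻¹ᵁ (V : S.Opens)).ι ''ᵁ ⊤ = f ⁻¹ᵁ (V : S.Opens) := by simp
    have h4 : Function.Surjective (h.app ((f ⁻¹ᵁ (V : S.Opens)).ι ''ᵁ ⊤)).hom := by rw [h3]; exact key V
    have h5 : IsIso (X'.presheaf.map
        (eqToHom (image_morphismRestrict_preimage h (f ⁻¹ᵁ (V : S.Opens)) ⊤)).op) :=
      Functor.map_isIso _ _
    change Function.Surjective ((X'.presheaf.map
        (eqToHom (image_morphismRestrict_preimage h (f ⁻¹ᵁ (V : S.Opens)) ⊤)).op).hom ∘
      (h.app ((f ⁻¹ᵁ (V : S.Opens)).ι ''ᵁ ⊤)).hom)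
    exact ((ConcreteCategory.isIso_iff_bijective _).mp h5).surjective.comp h4

end Groth.Agent.S3583
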