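import Groth.Statements.S3585
import Mathlib
import Groth.Agent.Lib.VAmpPn11_helper5
import Groth.Agent.Lib.VAmpPn12_helper5
import Groth.Agent.Lib.VAmpPn13_helper5
import Groth.Agent.Lib.Tens13_helper8

set_option autoImplicit false
universe u
open CategoryTheory CategoryTheory.Limits AlgebraicGeometry
open EGA2

namespace Groth.Agent.S3585

/-- Let A be a ring and f : X → Spec A a proper morphism, and suppose X carries an invertible O_X-module
which is ample relative to f (so f is quasi-projective). Then f is projective: X is isomorphic over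
Spec A to Proj S for some graded A-algebra S whose degree-zero part is the image of A and whose
irrelevant ideal is generated by finitely many elements of degree one. -/
theorem result {A : Type u} [CommRing A] {X : Scheme.{u}}
    (f : X ⟶ Spec (CommRingCat.of A)) [IsProper f]
    (L : X.Modules) (hL : PicF.IsInvertible L) (hamp : RelAmple.IsRelAmple f L) :
    ∃ (S : Type u) (_ : CommRing S) (_ : Algebra A S) (𝒮 : ℕ → Submodule A S) (_ : GradedAlgebra 𝒮) (s : Finset S),
      Function.Surjective (algebraMap A (𝒮 0)) ∧ (∀ g ∈ s, g ∈ 𝒮 1) ∧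
      (HomogeneousIdeal.irrelevant 𝒮).toIdeal = Ideal.span (s : Set S) ∧
      ∃ e : X ≅ Proj 𝒮, e.hom ≫ Proj.toSpecZero 𝒮 ≫ Spec.map (CommRingCat.ofHom (algebraMap A (𝒮 0))) = f := by
  classical
  have hamp' : CohB1.IsAmple L := by
    have h1 := ((TensH8.isRelAmple_iff f hL).mp hamp).2 ⟨⊤, isAffineOpen_top _⟩
    rw [Scheme.Hom.preimage_top] at h1
    exact (TensH8.isAmple_iff_isAmpleOn_top hL).mpr h1
  obtain ⟨n₀, hn₀⟩ := Groth.Agent.VAmpPn.exists_veryAmple_sections_of_cover f hamp' hL
    {⊤} (fun V hV => by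
      rw [Set.mem_singleton_iff] at hV
      rw [hV]
      exact isAffineOpen_top _) (fun s => ⟨⊤, rfl, trivial⟩)
  obtain ⟨F, hF⟩ := hn₀ n₀ le_rfl
  have hM : PicF.IsInvertible (CohB1.tensorMod (CohB1.tensorPow L n₀) L) :=
    TensH8.isInvertible_tensorMod (TensH8.isInvertible_tensorPow hL n₀) hL
  obtain ⟨N, r, hr_imm, hr, -⟩ := Groth.Agent.VAmpPn.exists_immersion_of_sections f _ hM F
    (fun x => by
      obtain ⟨t, ht, U, hU, hx, haff, V, hV, h, hcl⟩ := hF x
      have hV' : V = ⊤ := hV
      subst hV'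
      exact ⟨t, ht, U, hU, hx, haff, h, hcl⟩)
  haveI : IsSeparated (CohB1.ProjSpace.toSpec N A) :=
    (Groth.Agent.Lib.ProjSpaceProperH4.isProper_toSpec N A).toIsSeparated
  haveI : IsProper (r ≫ CohB1.ProjSpace.toSpec N A) := by
    rw [hr]
    infer_instance
  haveI : IsProper r := IsProper.of_comp r (CohB1.ProjSpace.toSpec N A)
  haveI : IsClosedImmersion r :=
    IsClosedImmersion.of_isPreimmersion r r.isClosedMap.isClosed_range
  obtain ⟨S, i1, i2, 𝒮, i3, s, h1, h2, h3, e, he⟩ :=
    Groth.Agent.VAmpPn.exists_proj_of_isClosedImmersion N r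
  exact ⟨S, i1, i2, 𝒮, i3, s, h1, h2, h3, e, he.trans hr⟩

end Groth.Agent.S3585
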