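import Groth.Statements.S3588
import Groth.Agent.Lib.ProjMap_helper3
-- import your own Groth.Agent.* helpers here

set_option autoImplicit false
universe u
open CategoryTheory CategoryTheory.Limits AlgebraicGeometry
open HomogeneousLocalization
open EGA2

namespace Groth.Agent.S3588

/-- Let S be a graded ring, N_+ the set of nilpotent elements of S_+ (an ideal of S), and S → S/N_+ the
quotient (here: any surjective homomorphism of graded rings φ : S → S' whose kernel is N_+). Then
the induced morphism Proj S' → Proj S is a closed immersion which is a homeomorphism of the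
underlying spaces, and Proj S' is reduced; thus Proj S' is the reduced closed subscheme (Proj
S)_red. -/
theorem result {R A : Type u} [CommRing R] [CommRing A] [Algebra R A] (𝒜 : ℕ → Submodule R A) [GradedAlgebra 𝒜]
    {B : Type u} [CommRing B] [Algebra R B] (ℬ : ℕ → Submodule R B) [GradedAlgebra ℬ]
    (φ : 𝒜 →+*ᵍ ℬ) (hsurj : Function.Surjective φ)
    (hker : ∀ a : A, φ a = 0 ↔ a ∈ (HomogeneousIdeal.irrelevant 𝒜).toIdeal ∧ IsNilpotent a)
    (hφ : HomogeneousIdeal.irrelevant ℬ ≤ (HomogeneousIdeal.irrelevant 𝒜).map φ) :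
    IsClosedImmersion (Proj.map φ hφ) ∧ IsHomeomorph (Proj.map φ hφ).base ∧
      AlgebraicGeometry.IsReduced (Proj ℬ) := by
  classical
  have hci := Groth.Agent.Lib.ProjMap_helper3.map_isClosedImmersion 𝒜 ℬ φ hsurj hφ
  have hdom := Groth.Agent.Lib.ProjMap_helper3.map_isDominant 𝒜 ℬ φ hφ fun a ha => ((hker a).mp ha).2
  refine ⟨hci, ?_, ?_⟩
  · have hemb : Topology.IsClosedEmbedding (Proj.map φ hφ).base := (Proj.map φ hφ).isClosedEmbedding
    have hsurj' : Function.Surjective (Proj.map φ hφ).base := by
      rw [← Set.range_eq_univ, ← hemb.isClosed_range.closure_eq]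
      exact hdom.denseRange.closure_range
    exact (hemb.isEmbedding.toHomeomorphOfSurjective hsurj').isHomeomorph
  · refine Groth.Agent.Lib.ProjBasic_helper3.proj_isReduced ℬ fun b hb hnil => ?_
    obtain ⟨a, rfl⟩ := hsurj b
    -- replace a by a - a₀
    set a' := a - (DirectSum.decompose 𝒜 a 0 : A) with ha'
    have h0 : φ (DirectSum.decompose 𝒜 a 0 : A) = 0 := by
      rw [GradedRingHom.map_directSumDecompose]
      exact (HomogeneousIdeal.mem_irrelevant_iff _ _).mp hb
    have hφa : φ a' = φ a := by rw [ha', map_sub, h0, sub_zero]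
    have ha'irr : a' ∈ (HomogeneousIdeal.irrelevant 𝒜).toIdeal := by
      rw [HomogeneousIdeal.mem_iff, HomogeneousIdeal.mem_irrelevant_iff, GradedRing.proj_apply, ha',
        DirectSum.decompose_sub, DirectSum.sub_apply, AddSubgroupClass.coe_sub, DirectSum.decompose_coe,
        DirectSum.of_eq_same, sub_self]
    obtain ⟨k, hk⟩ := hnil
    have h1 : φ (a' ^ k) = 0 := by rw [map_pow, hφa, hk]
    have h2 : IsNilpotent a' := by
      obtain ⟨m, hm⟩ := ((hker _).mp h1).2
      exact ⟨k * m, by rw [pow_mul, hm]⟩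
    rw [← hφa]
    exact (hker a').mpr ⟨ha'irr, h2⟩

end Groth.Agent.S3588
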