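import Groth.Statements.S3589
import Mathlib
import Groth.Agent.Lib.ProjUP7_helper5

set_option autoImplicit false
universe u
open CategoryTheory CategoryTheory.Limits AlgebraicGeometry
open EGA2

namespace Groth.Agent.S3589

theorem mem_secKernel {R : Type u} [CommRing R] (n : ℕ)
    (s : Spec (CommRingCat.of R) ⟶ CohB1.ProjSpace n R) (w : Fin (n + 1) → R) :
    w ∈ ProjUP.secKernel n R s ↔
      ∑ j, ((Scheme.ΓSpecIso (CommRingCat.of R)).inv.hom (w j)) •
        ProjUP.pullSec s (Twist.twistProjSpace n R 1) (ProjUP.coord n R j) = 0 := by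
  letI : Module R (ProjUP.Γm ((Scheme.Modules.pullback s).obj (Twist.twistProjSpace n R 1))) :=
    Module.compHom _ (Scheme.ΓSpecIso (CommRingCat.of R)).inv.hom
  show w ∈ LinearMap.ker (Fintype.linearCombination R
    (fun i => ProjUP.pullSec s (Twist.twistProjSpace n R 1) (ProjUP.coord n R i))) ↔ _
  rw [LinearMap.mem_ker, Fintype.linearCombination_apply]
  rfl

theorem sum_single {R : Type u} [CommRing R] (n : ℕ)
    (s : Spec (CommRingCat.of R) ⟶ CohB1.ProjSpace n R) (k : Fin (n + 1)) (a₀ : R) :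
    ∑ j, ((Scheme.ΓSpecIso (CommRingCat.of R)).inv.hom ((Pi.single k a₀ : Fin (n + 1) → R) j)) •
        ProjUP.pullSec s (Twist.twistProjSpace n R 1) (ProjUP.coord n R j) =
      ((Scheme.ΓSpecIso (CommRingCat.of R)).inv.hom a₀) •
        ProjUP.pullSec s (Twist.twistProjSpace n R 1) (ProjUP.coord n R k) := by
  rw [Finset.sum_eq_single k]
  · rw [Pi.single_eq_same]
  · intro j _ hj
    rw [Pi.single_eq_of_ne hj, map_zero, zero_smul]
  · intro h
    exact absurd (Finset.mem_univ k) h

/-- For E = O_Y^{n+1} over an affine base Y = Spec R (injectivity of the correspondence): a section s of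
projective n-space over R is determined by the submodule F(s) of R^{n+1} formed by the R-linear
relations among the pulled-back coordinates s^*T_0, …, s^*T_n in the global sections of s^*O(1). -/
theorem result {R : Type u} [CommRing R] (n : ℕ)
    (s₁ s₂ : Spec (CommRingCat.of R) ⟶ CohB1.ProjSpace n R)
    (h₁ : s₁ ≫ CohB1.ProjSpace.toSpec n R = 𝟙 _) (h₂ : s₂ ≫ CohB1.ProjSpace.toSpec n R = 𝟙 _)
    (h : ProjUP.secKernel n R s₁ = ProjUP.secKernel n R s₂) :
    s₁ = s₂ := by
  refine Groth.Agent.ProjUPU.eq_of_rel (CohB1.polyGrading n R) s₁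
    (MvPolynomial.X : Fin (n + 1) → MvPolynomial (Fin (n + 1)) R)
    (fun i => MvPolynomial.isHomogeneous_X R i) MvPolynomial.adjoin_range_X s₂
    (h₁.trans h₂.symm) ?_
  intro i k a c hrel
  have ha : (Scheme.ΓSpecIso (CommRingCat.of R)).inv.hom
      ((Scheme.ΓSpecIso (CommRingCat.of R)).hom.hom a) = a :=
    congrArg (fun f => f.hom a) (Scheme.ΓSpecIso (CommRingCat.of R)).hom_inv_id
  have hc : (Scheme.ΓSpecIso (CommRingCat.of R)).inv.hom
      ((Scheme.ΓSpecIso (CommRingCat.of R)).hom.hom c) = c :=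
    congrArg (fun f => f.hom c) (Scheme.ΓSpecIso (CommRingCat.of R)).hom_inv_id
  have key : ∀ s : Spec (CommRingCat.of R) ⟶ CohB1.ProjSpace n R,
      (Pi.single k ((Scheme.ΓSpecIso (CommRingCat.of R)).hom.hom a) -
        Pi.single i ((Scheme.ΓSpecIso (CommRingCat.of R)).hom.hom c) : Fin (n + 1) → R) ∈
          ProjUP.secKernel n R s ↔
      a • ProjUP.pullSec s (Twist.twistProjSpace n R 1) (ProjUP.coord n R k) =
        c • ProjUP.pullSec s (Twist.twistProjSpace n R 1) (ProjUP.coord n R i) := by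
    intro s
    rw [mem_secKernel]
    simp only [Pi.sub_apply, map_sub, sub_smul, Finset.sum_sub_distrib]
    rw [sum_single, sum_single, ha, hc, sub_eq_zero]
  have h3 := (key s₁).mpr hrel
  rw [h] at h3
  exact (key s₂).mp h3

end Groth.Agent.S3589
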