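import Groth.Statements.S3590
import Mathlib
import Groth.Agent.Lib.InvMod4_helper5
import Groth.Agent.S3572
import Groth.Agent.S3589

set_option autoImplicit false
universe u
open CategoryTheory CategoryTheory.Limits AlgebraicGeometry
open EGA2

namespace Groth.Agent.S3590

/-- For E = O_Y^{n+1} over an affine base Y = Spec R (image of the correspondence): a submodule F of
R^{n+1} is the module of relations among the pulled-back coordinates of some section of projective
n-space over R if and only if the quotient R^{n+1}/F is an invertible R-module (projective, of rank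
one at every prime). -/
theorem result {R : Type u} [CommRing R] (n : ℕ)
    (F : Submodule R (Fin (n + 1) → R)) :
    (∃ s : Spec (CommRingCat.of R) ⟶ CohB1.ProjSpace n R,
        s ≫ CohB1.ProjSpace.toSpec n R = 𝟙 _ ∧ ProjUP.secKernel n R s = F) ↔
      (Module.Projective R ((Fin (n + 1) → R) ⧸ F) ∧
        ∀ p : PrimeSpectrum R, Module.finrank (Localization.AtPrime p.asIdeal)
          (LocalizedModule p.asIdeal.primeCompl ((Fin (n + 1) → R) ⧸ F)) = 1) := by
  classical
  constructor
  · rintro ⟨s, -, rfl⟩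
    letI : Module R (ProjUP.Γm ((Scheme.Modules.pullback s).obj (Twist.twistProjSpace n R 1))) :=
      Module.compHom _ (Scheme.ΓSpecIso (CommRingCat.of R)).inv.hom
    have hloc := Groth.Agent.InvMod.locGen_pullSec n s
    let v : Fin (n + 1) → ProjUP.Γm ((Scheme.Modules.pullback s).obj (Twist.twistProjSpace n R 1)) :=
      fun i => ProjUP.pullSec s (Twist.twistProjSpace n R 1) (ProjUP.coord n R i)
    have hsurj := Groth.Agent.InvMod.surjective_linearCombination v hloc
    let E : ((Fin (n + 1) → R) ⧸ LinearMap.ker (Fintype.linearCombination R v)) ≃ₗ[R]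
        ProjUP.Γm ((Scheme.Modules.pullback s).obj (Twist.twistProjSpace n R 1)) :=
      LinearMap.quotKerEquivOfSurjective _ hsurj
    have hloc' : ∀ p : PrimeSpectrum R, ∃ f : R, f ∉ p.asIdeal ∧ ∃ i,
        Groth.Agent.InvMod.LocGen f (E.symm (v i)) := fun p => by
      obtain ⟨f, hf, i, hi⟩ := hloc p
      exact ⟨f, hf, i, hi.map E.symm⟩
    exact ⟨Groth.Agent.InvMod.projective _ hloc', Groth.Agent.InvMod.finrank_eq_one _ hloc'⟩
  · rintro ⟨hproj, hrk⟩
    let w : Fin (n + 1) → ((Fin (n + 1) → R) ⧸ F) := fun i => F.mkQ (Pi.single i 1)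
    have hsum : ∀ c : Fin (n + 1) → R, F.mkQ c = ∑ j, c j • w j := by
      intro c
      have h0 : c = ∑ j, c j • (Pi.single j 1 : Fin (n + 1) → R) := by
        funext k
        simp [Finset.sum_apply, Pi.single_apply]
      conv_lhs => rw [h0]
      rw [map_sum]
      simp only [map_smul]
      rfl
    have hw : Submodule.span R (Set.range w) = ⊤ := by
      rw [eq_top_iff]
      intro q _
      obtain ⟨c, rfl⟩ := F.mkQ_surjective q
      rw [hsum]
      exact Submodule.sum_mem _ (fun j _ => Submodule.smul_mem _ _ (Submodule.subset_span ⟨j, rfl⟩))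
    have hL := Groth.Agent.InvMod.isInvertible_tl R ((Fin (n + 1) → R) ⧸ F) hrk
    have hgen := Groth.Agent.InvMod.generatedBy_tl R ((Fin (n + 1) → R) ⧸ F) w hw
    obtain ⟨r, hr, τ, hτ⟩ := Groth.Agent.S3572.result n (𝟙 (Spec (CommRingCat.of R)))
      (Groth.Agent.InvMod.tl R ((Fin (n + 1) → R) ⧸ F)) hL
      (fun i => Groth.Agent.InvMod.E₀ R ((Fin (n + 1) → R) ⧸ F) (w i)) hgen
    refine ⟨r, hr, ?_⟩
    have hinj : Function.Injective (τ.hom.app ⊤) := by
      intro a b hab
      have h1 : ∀ x, τ.inv.app ⊤ (τ.hom.app ⊤ x) = x := fun x => by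
        have h2 : (τ.hom ≫ τ.inv).app ⊤ = Scheme.Modules.Hom.app (𝟙 _) ⊤ := by rw [τ.hom_inv_id]
        rw [Scheme.Modules.Hom.comp_app, Scheme.Modules.Hom.id_app] at h2
        exact congrArg (fun φ => (ConcreteCategory.hom φ) x) h2
      have := congrArg (τ.inv.app ⊤) hab
      rwa [h1, h1] at this
    ext c
    rw [Groth.Agent.S3589.mem_secKernel]
    have hτlin : τ.hom.app ⊤ (∑ j, ((Scheme.ΓSpecIso (CommRingCat.of R)).inv.hom (c j)) •
        ProjUP.pullSec r (Twist.twistProjSpace n R 1) (ProjUP.coord n R j)) =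
        Groth.Agent.InvMod.E₀ R ((Fin (n + 1) → R) ⧸ F) (F.mkQ c) := by
      rw [hsum, map_sum, map_sum]
      refine Finset.sum_congr rfl (fun j _ => ?_)
      rw [Scheme.Modules.Hom.app_smul, hτ j, Groth.Agent.InvMod.E₀_smul]
    constructor
    · intro h0
      rw [h0, map_zero] at hτlin
      have h1 : F.mkQ c = 0 := (Groth.Agent.InvMod.E₀_bijective R _).1 (by rw [← hτlin, map_zero])
      exact (Submodule.Quotient.mk_eq_zero F).mp h1
    · intro hc
      have h1 : F.mkQ c = 0 := (Submodule.Quotient.mk_eq_zero F).mpr hc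
      rw [h1, map_zero] at hτlin
      exact hinj (by rw [hτlin, map_zero])

end Groth.Agent.S3590
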