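import Groth.Statements.S3593
import Groth.Agent.Lib.ProjClosed_helper3
import Groth.Agent.Lib.Veronese_helper3
-- import your own Groth.Agent.* helpers here

set_option autoImplicit false
universe u
open CategoryTheory CategoryTheory.Limits AlgebraicGeometry
open Groth.Agent.Lib.ProjClosed_helper3 Groth.Agent.Lib.Veronese_helper3
open EGA2

namespace Groth.Agent.S3593

/-- Let S be a graded R-algebra, Ŝ a graded R-algebra with a graded homomorphism φ : S → Ŝ making Ŝ an
S-algebra, and z an element of Ŝ of degree one such that the S-algebra map S[X] → Ŝ, X ↦ z, is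
bijective (so Ŝ = S[z] with z in degree one, the graded ring of the projective cone of S). Then
there is a ring isomorphism S ≅ Ŝ_(z) onto the degree-zero localization at z, sending a homogeneous
a of degree n to φ(a)/z^n. (This is the isomorphism that identifies the affine cone Spec S with the
open D_+(z) of the projective cone Proj Ŝ; that identification itself is not asserted here.) -/
theorem result {R A : Type u} [CommRing R] [CommRing A] [Algebra R A] (𝒜 : ℕ → Submodule R A) [GradedAlgebra 𝒜]
    {B : Type u} [CommRing B] [Algebra R B] (ℬ : ℕ → Submodule R B) [GradedAlgebra ℬ]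
    [Algebra A B] [IsScalarTower R A B] (φ : 𝒜 →+*ᵍ ℬ) (hφ : ∀ a : A, φ a = algebraMap A B a)
    (z : B) (hz : z ∈ ℬ 1) (hhat : Function.Bijective (Polynomial.aeval (R := A) z)) :
    ∃ θ : A ≃+* HomogeneousLocalization.Away ℬ z,
      ∀ (n : ℕ) (a : A), a ∈ 𝒜 n → (θ a).val = Localization.mk (φ a) ⟨z ^ n, pow_mem (Submonoid.mem_powers z) n⟩ := by
  classical
  have hφmem : ∀ {n : ℕ} {a : A}, a ∈ 𝒜 n → φ a ∈ ℬ n := fun h => Graded.map_mem φ h
  have hzpow : ∀ i : ℕ, z ^ i ∈ ℬ i := fun i => by
    have := SetLike.pow_mem_graded i hz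
    rwa [smul_eq_mul, mul_one] at this
  let piece : ∀ n, 𝒜 n →+ HomogeneousLocalization.Away ℬ z := fun n =>
    { toFun := fun a => HomogeneousLocalization.Away.mk ℬ hz n (φ a)
        (by rw [smul_eq_mul, mul_one]; exact hφmem a.2)
      map_zero' := by
        rw [HomogeneousLocalization.ext_iff_val, HomogeneousLocalization.Away.val_mk,
          HomogeneousLocalization.val_zero]
        simp [Localization.mk_zero]
      map_add' := fun x y => by
        rw [HomogeneousLocalization.ext_iff_val, HomogeneousLocalization.val_add,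
          HomogeneousLocalization.Away.val_mk, HomogeneousLocalization.Away.val_mk,
          HomogeneousLocalization.Away.val_mk, Localization.add_mk_self]
        simp }
  let θ : A →+* HomogeneousLocalization.Away ℬ z := gradedLift 𝒜 piece
    (by
      change HomogeneousLocalization.Away.mk ℬ hz 0 (φ 1) _ = 1
      rw [HomogeneousLocalization.ext_iff_val, HomogeneousLocalization.Away.val_mk,
        HomogeneousLocalization.val_one]
      simp)
    (by
      intro i j x y
      change HomogeneousLocalization.Away.mk ℬ hz (i + j) (φ ((x : A) * (y : A))) _ =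
        HomogeneousLocalization.Away.mk ℬ hz i (φ x) _ * HomogeneousLocalization.Away.mk ℬ hz j (φ y) _
      rw [HomogeneousLocalization.ext_iff_val, HomogeneousLocalization.val_mul,
        HomogeneousLocalization.Away.val_mk, HomogeneousLocalization.Away.val_mk,
        HomogeneousLocalization.Away.val_mk, Localization.mk_mul, map_mul]
      congr 1
      exact Subtype.ext (pow_add z i j))
  have hθ : ∀ (n : ℕ) (a : A), a ∈ 𝒜 n → (θ a).val = frac z n (φ a) := by
    intro n a ha
    rw [show θ a = piece n ⟨a, ha⟩ from gradedLift_of_mem 𝒜 _ _ _ ha]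
    change (HomogeneousLocalization.Away.mk ℬ hz n (φ a) _).val = _
    rw [HomogeneousLocalization.Away.val_mk]
    rfl
  -- the retraction `B → A`, `z ↦ 1`
  let e : Polynomial A ≃ₐ[A] B := AlgEquiv.ofBijective (Polynomial.aeval z) hhat
  let ψ : B →+* A := (Polynomial.evalRingHom (1 : A)).comp (e.symm : B →+* Polynomial A)
  have hψz : ψ z = 1 := by
    have h1 : e.symm z = Polynomial.X := by
      rw [AlgEquiv.symm_apply_eq]
      simp [e]
    change Polynomial.eval 1 (e.symm z) = 1
    rw [h1, Polynomial.eval_X]
  have hψφ : ∀ a, ψ (φ a) = a := by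
    intro a
    have h1 : e.symm (φ a) = Polynomial.C a := by
      rw [AlgEquiv.symm_apply_eq, hφ]
      simp [e]
    change Polynomial.eval 1 (e.symm (φ a)) = a
    rw [h1, Polynomial.eval_C]
  let ψl : Localization.Away z →+* A :=
    IsLocalization.Away.lift z (g := ψ) (by rw [hψz]; exact isUnit_one)
  have hψl : ∀ (n : ℕ) (b : B), ψl (frac z n b) = ψ b := by
    intro n b
    have h1 : frac z n b * algebraMap B (Localization.Away z) (z ^ n) = algebraMap B _ b := by
      unfold frac
      rw [Localization.mk_eq_mk']
      exact IsLocalization.mk'_spec ..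
    have h2 := congrArg ψl h1
    rw [map_mul, IsLocalization.Away.lift_eq, IsLocalization.Away.lift_eq, map_pow, hψz, one_pow,
      mul_one] at h2
    exact h2
  have hinj : Function.Injective θ := by
    have hcomp : ∀ a, ψl (θ a).val = a := by
      intro a
      refine DirectSum.Decomposition.inductionOn 𝒜 (motive := fun a => ψl (θ a).val = a) ?_ ?_ ?_ a
      · rw [map_zero, HomogeneousLocalization.val_zero, map_zero]
      · intro n a
        rw [hθ n a a.2, hψl, hψφ]
      · intro a b ha hb
        rw [map_add, HomogeneousLocalization.val_add, map_add, ha, hb]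
    intro a b hab
    rw [← hcomp a, ← hcomp b, hab]
  have hsurj : Function.Surjective θ := by
    let P : B → Prop := fun b => ∀ n : ℕ, ∃ a : A, (θ a).val = frac z n ((DirectSum.decompose ℬ b n : ℬ n) : B)
    have P0 : P 0 := fun n => ⟨0, by
      rw [map_zero, HomogeneousLocalization.val_zero, DirectSum.decompose_zero, DirectSum.zero_apply,
        ZeroMemClass.coe_zero, frac_zero]⟩
    have Padd : ∀ b₁ b₂, P b₁ → P b₂ → P (b₁ + b₂) := by
      intro b₁ b₂ h₁ h₂ n
      obtain ⟨a₁, e₁⟩ := h₁ n
      obtain ⟨a₂, e₂⟩ := h₂ n
      refine ⟨a₁ + a₂, ?_⟩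
      rw [map_add, HomogeneousLocalization.val_add, e₁, e₂, frac_add, DirectSum.decompose_add,
        DirectSum.add_apply, Submodule.coe_add]
    have Phom : ∀ (i j : ℕ) (a : A), a ∈ 𝒜 j → P (φ a * z ^ i) := by
      intro i j a ha n
      have hmem : φ a * z ^ i ∈ ℬ (j + i) := SetLike.mul_mem_graded (hφmem ha) (hzpow i)
      by_cases h : j + i = n
      · subst h
        rw [DirectSum.decompose_of_mem_same ℬ hmem]
        refine ⟨a, ?_⟩
        rw [hθ j a ha]
        exact frac_eq_of (by ring)
      · rw [DirectSum.decompose_of_mem_ne ℬ hmem h]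
        exact ⟨0, by rw [map_zero, HomogeneousLocalization.val_zero, frac_zero]⟩
    have Pgen : ∀ (i : ℕ) (a : A), P (φ a * z ^ i) := by
      intro i a
      refine DirectSum.Decomposition.inductionOn 𝒜 (motive := fun a => P (φ a * z ^ i)) ?_ ?_ ?_ a
      · rw [map_zero, zero_mul]
        exact P0
      · intro j a
        exact Phom i j a a.2
      · intro a b ha hb
        rw [map_add, add_mul]
        exact Padd _ _ ha hb
    have Ppoly : ∀ p : Polynomial A, P (Polynomial.aeval z p) := by
      intro p
      induction p using Polynomial.induction_on' with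
      | add p q hp hq =>
        rw [map_add]
        exact Padd _ _ hp hq
      | monomial i c =>
        rw [Polynomial.aeval_monomial, ← hφ]
        exact Pgen i c
    intro x
    obtain ⟨n, b, hb, rfl⟩ := HomogeneousLocalization.Away.mk_surjective ℬ hz x
    have hb' : b ∈ ℬ n := by rwa [smul_eq_mul, mul_one] at hb
    obtain ⟨p, rfl⟩ := hhat.2 b
    obtain ⟨a, ha⟩ := Ppoly p n
    rw [DirectSum.decompose_of_mem_same ℬ hb'] at ha
    refine ⟨a, ?_⟩
    rw [HomogeneousLocalization.ext_iff_val, ha, HomogeneousLocalization.Away.val_mk]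
    rfl
  refine ⟨RingEquiv.ofBijective θ ⟨hinj, hsurj⟩, fun n a ha => ?_⟩
  rw [RingEquiv.ofBijective_apply, hθ n a ha]
  rfl

end Groth.Agent.S3593
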