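import Groth.Statements.S3594
import Groth.Agent.Lib.ProjMap_helper3
-- import your own Groth.Agent.* helpers here

set_option autoImplicit false
universe u
open CategoryTheory CategoryTheory.Limits AlgebraicGeometry

open EGA2

namespace Groth.Agent.S3594

/-- The closed immersion at infinity of a projective cone: let S be a graded R-algebra and Ŝ a graded
R-algebra over S such that the structure map φ : S → Ŝ is a graded homomorphism and Ŝ = S[z] is the
polynomial algebra on an element z of degree one (evaluation at z is a bijection S[T] → Ŝ); let ψ :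
Ŝ → S be a graded homomorphism retracting φ and killing z, with S₊ contained in the ideal generated
by ψ(Ŝ₊) so that j = Proj(ψ) : X = Proj S → Ĉ = Proj Ŝ is defined (it is the canonical closed
immersion). Then the image of j is exactly the complement of the open subset D₊(z) of Proj Ŝ (which
is the affine cone C = Spec S). -/
theorem result {R A : Type u} [CommRing R] [CommRing A] [Algebra R A] (𝒜 : ℕ → Submodule R A) [GradedAlgebra 𝒜]
    {B : Type u} [CommRing B] [Algebra R B] (ℬ : ℕ → Submodule R B) [GradedAlgebra ℬ]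
    [Algebra A B] [IsScalarTower R A B] (φ : 𝒜 →+*ᵍ ℬ) (hφ : ∀ a : A, φ a = algebraMap A B a)
    (z : B) (hz : z ∈ ℬ 1) (hhat : Function.Bijective (Polynomial.aeval (R := A) z))
    (ψ : ℬ →+*ᵍ 𝒜) (hψφ : ∀ a : A, ψ (φ a) = a) (hψz : ψ z = 0)
    (hψ : HomogeneousIdeal.irrelevant 𝒜 ≤ (HomogeneousIdeal.irrelevant ℬ).map ψ) :
    Set.range (Proj.map ψ hψ).base = ((Proj.basicOpen ℬ z : Set (Proj ℬ)))ᶜ := by
  classical
  have hsurj : Function.Surjective ψ := fun a => ⟨φ a, hψφ a⟩
  have hdecomp : ∀ b : B, ∃ c : B, b = z * c + φ (ψ b) := by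
    intro b
    obtain ⟨P, rfl⟩ := hhat.surjective b
    refine ⟨Polynomial.aeval z P.divX, ?_⟩
    have hP : P = P.divX * Polynomial.X + Polynomial.C (P.coeff 0) := (Polynomial.divX_mul_X_add P).symm
    have h1 : Polynomial.aeval z P = Polynomial.aeval z P.divX * z + algebraMap A B (P.coeff 0) := by
      conv_lhs => rw [hP]
      rw [map_add, map_mul, Polynomial.aeval_X, Polynomial.aeval_C]
    have h2 : ψ (Polynomial.aeval z P) = P.coeff 0 := by
      rw [h1, map_add, map_mul, hψz, mul_zero, zero_add, ← hφ, hψφ]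
    rw [h2, hφ, h1]
    ring
  rw [Groth.Agent.Lib.ProjMap_helper3.range_map_of_surjective ℬ 𝒜 ψ hsurj hψ]
  ext p
  simp only [Set.mem_ofPred_eq, Set.mem_compl_iff, SetLike.mem_coe]
  rw [Proj.mem_basicOpen, not_not]
  constructor
  · intro h
    exact h z hψz
  · intro hz' b hb
    obtain ⟨c, hc⟩ := hdecomp b
    rw [hc, hb, map_zero, add_zero]
    exact Ideal.mul_mem_right _ _ hz'

end Groth.Agent.S3594
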