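import Groth.Statements.S3623
import Mathlib
import Groth.Agent.Lib.GorSch_helper9

set_option autoImplicit false
universe u
open CategoryTheory CategoryTheory.Limits AlgebraicGeometry
attribute [local instance] HasDerivedCategory.standard
open Dual3

namespace Groth.Agent.S3623

/-- Let f : Y → X be a local complete intersection morphism (affine-locally given by local complete
intersection ring maps) with X a Gorenstein scheme. Then Y is a Gorenstein scheme. -/
theorem result (Y X : Scheme.{u}) (f : Y ⟶ X) (hf : Dual3.IsLCIMor f) (hX : Dual3.IsGorenstein X) : Dual3.IsGorenstein Y := by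
  apply Groth.Agent.GorSch9.isGorenstein_of_cover
  intro y
  obtain ⟨U, V, e, hyU, hlci⟩ := hf y
  refine ⟨U, hyU, ?_⟩
  letI := (f.appLE V.1 U.1 e).hom.toAlgebra
  exact Groth.Agent.GorLCI9.isGorRing_of_isLCI Γ(X, V.1) Γ(Y, U.1)
    (Groth.Agent.GorSch9.isGorRing_of_isGorenstein hX V.1 V.2) hlci

end Groth.Agent.S3623
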