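import Groth.Statements.S3624
import Mathlib
import Groth.Agent.Lib.GorMor_helper9

set_option autoImplicit false
universe u
open CategoryTheory CategoryTheory.Limits AlgebraicGeometry
attribute [local instance] HasDerivedCategory.standard
open Dual3

namespace Groth.Agent.S3624

/-- Let f : X → Y be a flat morphism of locally Noetherian schemes with X Gorenstein. Then f is a
Gorenstein morphism (flat with Gorenstein local rings of fibres at every point) and the local ring
O_{Y, f(x)} is Gorenstein for every point x of X. -/
theorem result (X Y : Scheme.{u}) [IsLocallyNoetherian Y] (f : X ⟶ Y) [Flat f] (hX : Dual3.IsGorenstein X) : Dual3.IsGorensteinMor f ∧ ∀ x : X, LocCoh.IsGorensteinLocalRing (Y.presheaf.stalk (f x)) := by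
  obtain ⟨hN, hG⟩ := hX
  exact ⟨fun x => (Groth.Agent.GorMor9.gor_of_flat f x (hG x)).1,
    fun x => (Groth.Agent.GorMor9.gor_of_flat f x (hG x)).2⟩

end Groth.Agent.S3624
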