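import Groth.Statements.S3675
import Mathlib
import Groth.Agent.Lib.SchDual3_helper6
-- import your own Groth.Agent.* helpers here

set_option autoImplicit false
universe u
open CategoryTheory CategoryTheory.Limits AlgebraicGeometry
attribute [local instance] HasDerivedCategory.standard
open Dual3

namespace Groth.Agent.S3675

/-- Let X be a locally Noetherian scheme (exactness instances as in the definition of dualizing
complexes) and ω a coherent O_X-module such that ω[0] is a dualizing complex on X. Then X is
Cohen–Macaulay: every local ring O_{X,x} is a Cohen–Macaulay local ring. -/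
theorem result (X : Scheme.{u}) [IsLocallyNoetherian X] [∀ (U V : Scheme.{u}) (j : U ⟶ V) [IsOpenImmersion j], PreservesFiniteLimits (Scheme.Modules.restrictFunctor j)] [∀ (R : CommRingCat.{u}), PreservesFiniteLimits (tilde.functor R)] (ω : X.Modules) (hω : Coh.IsCoh ω) (hD : Dual2.IsDualizingSch X (DCoh.inD X ω)) (x : X) : LocCoh.IsCohenMacaulayLocalRing (X.presheaf.stalk x) := by

  refine Groth.Agent.Lib.SchDual_helper6.isCohenMacaulayLocalRing_stalk_of_forall_ne
    (DCoh.inD X ω) hD x 0 (fun i hi => ?_)
  exact Groth.Agent.Lib.SchDual_helper6.subsingleton_stalk_of_isZero _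
    (Groth.Agent.Lib.SchDual_helper6.isZero_HD_inD_sch ω i hi) x

end Groth.Agent.S3675
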