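import Groth.Statements.S3707
import Mathlib

set_option autoImplicit false
universe u
open SGA1

namespace Groth.Agent.S3707

open AlgebraicGeometry CategoryTheory CategoryTheory.Limits in
/-- Let g : S' -> S be a surjective morphism of schemes, X and Y schemes over S with Y unramified over S
(formally unramified and locally of finite type), and X', Y' their base changes to S'. Then the map
sending an S-morphism X -> Y to the induced S'-morphism X' -> Y' is injective. -/
theorem result {S S' X Y : Scheme.{u}} (g : S' ⟶ S) [Surjective g]
    (p : X ⟶ S) (q : Y ⟶ S) [FormallyUnramified q] [LocallyOfFiniteType q]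
    (u v : X ⟶ Y) (hu : p ≫ 𝟙 S = u ≫ q) (hv : p ≫ 𝟙 S = v ≫ q)
    (h : pullback.map p g q g u (𝟙 S') (𝟙 S) hu ((Category.comp_id _).trans (Category.id_comp _).symm) =
      pullback.map p g q g v (𝟙 S') (𝟙 S) hv ((Category.comp_id _).trans (Category.id_comp _).symm)) :
    u = v := by
  have huv : u ≫ q = v ≫ q := by rw [← hu, ← hv]
  have hπ : pullback.fst p g ≫ u = pullback.fst p g ≫ v := by
    have h1 : pullback.map p g q g u (𝟙 S') (𝟙 S) hu
        ((Category.comp_id _).trans (Category.id_comp _).symm) ≫ pullback.fst q g =
        pullback.fst p g ≫ u := pullback.lift_fst _ _ _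
    have h2 : pullback.map p g q g v (𝟙 S') (𝟙 S) hv
        ((Category.comp_id _).trans (Category.id_comp _).symm) ≫ pullback.fst q g =
        pullback.fst p g ≫ v := pullback.lift_fst _ _ _
    rw [← h1, ← h2, h]
  haveI : IsOpenImmersion (pullback.diagonal q) := inferInstance
  have hrange : Set.range (pullback.lift u v huv) ⊆ Set.range (pullback.diagonal q) := by
    rintro _ ⟨x, rfl⟩
    obtain ⟨x', rfl⟩ := (pullback.fst p g).surjective x
    have hd : pullback.fst p g ≫ pullback.lift u v huv =
        (pullback.fst p g ≫ u) ≫ pullback.diagonal q := by
      apply pullback.hom_ext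
      · rw [Category.assoc, pullback.lift_fst, Category.assoc, pullback.diagonal_fst,
          Category.comp_id]
      · rw [Category.assoc, pullback.lift_snd, Category.assoc, pullback.diagonal_snd,
          Category.comp_id, hπ]
    have h3 := congrArg (fun k : pullback p g ⟶ pullback q q => k x') hd
    refine ⟨(pullback.fst p g ≫ u) x', ?_⟩
    exact ((Scheme.Hom.comp_apply _ _ _).symm.trans h3.symm).trans (Scheme.Hom.comp_apply _ _ _)
  have he : IsOpenImmersion.lift (pullback.diagonal q) (pullback.lift u v huv) hrange ≫
      pullback.diagonal q = pullback.lift u v huv := IsOpenImmersion.lift_fac _ _ _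
  have h1 : u = IsOpenImmersion.lift (pullback.diagonal q) (pullback.lift u v huv) hrange := by
    have := congrArg (fun k => k ≫ pullback.fst q q) he
    simp only [Category.assoc, pullback.diagonal_fst, Category.comp_id, pullback.lift_fst] at this
    exact this.symm
  have h2 : v = IsOpenImmersion.lift (pullback.diagonal q) (pullback.lift u v huv) hrange := by
    have := congrArg (fun k => k ≫ pullback.snd q q) he
    simp only [Category.assoc, pullback.diagonal_snd, Category.comp_id, pullback.lift_snd] at this
    exact this.symm
  rw [h1, ← h2]

end Groth.Agent.S3707
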