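import Groth.Statements.S3709
import Mathlib
import Groth.Agent.Lib.EtDescent_helper6
-- import your own Groth.Agent.* helpers here

set_option autoImplicit false
universe u
open SGA1

namespace Groth.Agent.S3709

open AlgebraicGeometry CategoryTheory CategoryTheory.Limits in
/-- A universally submersive morphism is a descent morphism for etale schemes (exactness of Hom_S(X, Y)
-> Hom_S'(X', Y') => Hom_S''(X'', Y'')): let g : S' -> S be universally submersive, X and Y schemes
over S with Y etale over S, X' and Y' their base changes along g, and f' : X' -> Y' an S'-morphism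
whose two pullbacks to S'' = S' x_S S' coincide (equivalently: the two composites X'' -> X' -> Y' ->
Y along the two projections agree). Then there is exactly one S-morphism u : X -> Y whose base
change is f'. -/
theorem result {S S' X Y : Scheme.{u}} (g : S' ⟶ S) (hg : SGA1.UnivSubmersive g)
    (p : X ⟶ S) (q : Y ⟶ S) [Etale q]
    (f' : pullback p g ⟶ pullback q g) (hf' : f' ≫ pullback.snd q g = pullback.snd p g)
    (hcoc : pullback.map p (pullback.fst g g ≫ g) p g (𝟙 X) (pullback.fst g g) (𝟙 S)
        ((Category.comp_id _).trans (Category.id_comp _).symm) (Category.comp_id _) ≫ f' ≫ pullback.fst q g =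
      pullback.map p (pullback.fst g g ≫ g) p g (𝟙 X) (pullback.snd g g) (𝟙 S)
        ((Category.comp_id _).trans (Category.id_comp _).symm) ((Category.comp_id _).trans pullback.condition) ≫
        f' ≫ pullback.fst q g) :
    ∃! u : X ⟶ Y, u ≫ q = p ∧ f' ≫ pullback.fst q g = pullback.fst p g ≫ u := by

  haveI : SGA1.UnivSubmersive.IsStableUnderBaseChange := by
    unfold SGA1.UnivSubmersive; infer_instance
  have hπ : SGA1.UnivSubmersive (pullback.fst p g) :=
    MorphismProperty.of_isPullback (P := SGA1.UnivSubmersive)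
      (IsPullback.of_hasPullback p g).flip hg
  have hπsurj : Function.Surjective (pullback.fst p g).base :=
    (show Topology.IsQuotientMap (pullback.fst p g).base from
      MorphismProperty.universally_le _ _ hπ).surjective
  have hφ : (f' ≫ pullback.fst q g) ≫ q = pullback.fst p g ≫ p := by
    rw [Category.assoc, pullback.condition, ← Category.assoc, hf', pullback.condition]
  have KP : ∀ {T : Scheme.{u}} (t₁ t₂ : T ⟶ pullback p g),
      t₁ ≫ pullback.fst p g = t₂ ≫ pullback.fst p g →
      t₁ ≫ (f' ≫ pullback.fst q g) = t₂ ≫ (f' ≫ pullback.fst q g) := by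
    intro T t₁ t₂ ht
    have c1 : (t₁ ≫ pullback.snd p g) ≫ g = (t₂ ≫ pullback.snd p g) ≫ g := by
      have h1 : (t₁ ≫ pullback.snd p g) ≫ g = (t₁ ≫ pullback.fst p g) ≫ p := by
        rw [Category.assoc, Category.assoc, pullback.condition]
      have h2 : (t₂ ≫ pullback.snd p g) ≫ g = (t₂ ≫ pullback.fst p g) ≫ p := by
        rw [Category.assoc, Category.assoc, pullback.condition]
      rw [h1, h2, ht]
    let s2 : T ⟶ pullback g g :=
      pullback.lift (t₁ ≫ pullback.snd p g) (t₂ ≫ pullback.snd p g) c1
    have hs2a : s2 ≫ pullback.fst g g = t₁ ≫ pullback.snd p g := pullback.lift_fst _ _ _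
    have hs2b : s2 ≫ pullback.snd g g = t₂ ≫ pullback.snd p g := pullback.lift_snd _ _ _
    have c2 : (t₁ ≫ pullback.fst p g) ≫ p = s2 ≫ pullback.fst g g ≫ g := by
      rw [← Category.assoc, hs2a, Category.assoc, Category.assoc, pullback.condition]
    let m : T ⟶ pullback p (pullback.fst g g ≫ g) :=
      pullback.lift (t₁ ≫ pullback.fst p g) s2 c2
    have hm1 : m ≫ pullback.fst p (pullback.fst g g ≫ g) = t₁ ≫ pullback.fst p g :=
      pullback.lift_fst _ _ _
    have hm2 : m ≫ pullback.snd p (pullback.fst g g ≫ g) = s2 := pullback.lift_snd _ _ _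
    have ha1 : ∀ pf1 pf2, m ≫ pullback.map p (pullback.fst g g ≫ g) p g (𝟙 X)
        (pullback.fst g g) (𝟙 S) pf1 pf2 = t₁ := by
      intro pf1 pf2
      apply pullback.hom_ext
      · rw [Category.assoc, pullback.lift_fst, ← Category.assoc, hm1, Category.comp_id]
      · rw [Category.assoc, pullback.lift_snd, ← Category.assoc, hm2, hs2a]
    have ha2 : ∀ pf1 pf2, m ≫ pullback.map p (pullback.fst g g ≫ g) p g (𝟙 X)
        (pullback.snd g g) (𝟙 S) pf1 pf2 = t₂ := by
      intro pf1 pf2
      apply pullback.hom_ext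
      · rw [Category.assoc, pullback.lift_fst, ← Category.assoc, hm1, Category.comp_id, ht]
      · rw [Category.assoc, pullback.lift_snd, ← Category.assoc, hm2, hs2b]
    have h := congrArg (fun k => m ≫ k) hcoc
    rw [← Category.assoc m, ← Category.assoc m, ha1, ha2] at h
    exact h
  obtain ⟨u₀, hu1, hu2⟩ := Lib.EtDescent.exists_desc_of_univSubmersive (pullback.fst p g) hπ p q
    (f' ≫ pullback.fst q g) hφ KP
  refine ⟨u₀, ⟨hu1, hu2.symm⟩, ?_⟩
  rintro u₂ ⟨hu₂1, hu₂2⟩
  haveI : IsOpenImmersion (pullback.diagonal q) := inferInstance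
  apply Lib.EtDescent.eq_of_locally_eq q u₂ u₀ (hu₂1.trans hu1.symm)
  intro x
  obtain ⟨x', rfl⟩ := hπsurj x
  exact ⟨_, pullback.fst p g, ⟨x', rfl⟩, hu₂2.symm.trans hu2.symm⟩

end Groth.Agent.S3709
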