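import Groth.Statements.S3780
import Mathlib
import Groth.Agent.Lib.LambdaRing_helper1
import Groth.Agent.Lib.LambdaSplit_helper1
import Groth.Agent.S3779

set_option autoImplicit false
universe v u
open CategoryTheory CategoryTheory.Limits AlgebraicGeometry
attribute [local instance] HasDerivedCategory.standard
open KRR

namespace Groth.Agent.S3780

open LambdaRing Groth.Agent.Lib.LambdaRingH1 Groth.Agent.Lib.LambdaSplitH1 Polynomial


/-- Let K be a λ-ring with positive structure admitting a splitting, e a positive element of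
augmentation ε(e) = r + 1, K_e = K[T]/(p_e(T)) the elementary extension of K with ℓ the class of T,
and f : K_e → K a K-linear functional with f(ℓ^i) = σ^i(e) for i ≤ r. For any λ-operations on K_e
extending those of K with λ^i(ℓ) = 0 for i ≥ 2, and q = e − ℓ ∈ K_e, one has f(λ^0(q)) = 1 and
f(λ^i(q)) = 0 for all i ≥ 1; that is, f(λ_t(q)) = 1. -/
theorem result (K : Type v) [CommRing K] [LambdaRing.LambdaOps K] (P : LambdaRing.PosStructure K) (hK : LambdaRing.HasSplitting K P) (e : K) (he : e ∈ P.pos) (r : ℕ) (hr : P.aug e = r + 1)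
    (inst : LambdaRing.LambdaOps (AdjoinRoot (KRR.extPoly P e)))
    (hext : ∀ (i : ℕ) (x : K), @LambdaRing.LambdaOps.lam _ _ inst i (AdjoinRoot.of (KRR.extPoly P e) x) =
      AdjoinRoot.of (KRR.extPoly P e) (LambdaRing.LambdaOps.lam i x))
    (hroot : ∀ i : ℕ, 2 ≤ i → @LambdaRing.LambdaOps.lam _ _ inst i (AdjoinRoot.root (KRR.extPoly P e)) = 0)
    (f : AdjoinRoot (KRR.extPoly P e) →ₗ[K] K)
    (hf : ∀ i : ℕ, i ≤ r → f (AdjoinRoot.root (KRR.extPoly P e) ^ i) = KRR.sigma i e) (i : ℕ) :
    f (@LambdaRing.LambdaOps.lam _ _ inst i (AdjoinRoot.of (KRR.extPoly P e) e - AdjoinRoot.root (KRR.extPoly P e))) =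
      if i = 0 then 1 else 0 := by
  letI := inst
  have h1 := Groth.Agent.S3779.part1 P e he r hr f hf
  have hσ0 : KRR.sigma 0 e = 1 := by
    unfold KRR.sigma KRR.sigmaSeries
    rw [PowerSeries.coeff_zero_eq_constantCoeff_apply, PowerSeries.constantCoeff_invOfUnit]
    simp
  have hlam : LambdaOps.lam i
      (AdjoinRoot.of (KRR.extPoly P e) e - AdjoinRoot.root (KRR.extPoly P e)) =
      ∑ a ∈ Finset.range (i + 1), (LambdaOps.lam a e * (-1 : K) ^ (i - a)) •
        AdjoinRoot.root (KRR.extPoly P e) ^ (i - a) := by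
    rw [sub_eq_add_neg, LambdaOps.lam_add]
    apply Finset.sum_congr rfl
    intro a _
    rw [hext, lam_neg_of_line hroot, Algebra.smul_def, AdjoinRoot.algebraMap_eq, neg_pow,
      map_mul, map_pow, map_neg, map_one]
    ring
  rw [hlam, map_sum]
  simp only [map_smul, h1, smul_eq_mul]
  by_cases hi : i = 0
  · subst hi
    rw [Finset.sum_range_one]
    simp [LambdaOps.lam_zero, hσ0]
  · rw [if_neg hi]
    have h2 := Groth.Agent.S3779.sigma_rel e i (by omega)
    have h3 : ∑ a ∈ Finset.range (i + 1),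
        LambdaOps.lam a e * (-1 : K) ^ (i - a) * KRR.sigma (i - a) e =
        (-1 : K) ^ i * ∑ a ∈ Finset.range (i + 1),
          Groth.Agent.S3779.cc e a * KRR.sigma (i - a) e := by
      rw [Finset.mul_sum]
      apply Finset.sum_congr rfl
      intro a ha
      rw [Finset.mem_range] at ha
      have e1 : (-1 : K) ^ i = (-1) ^ (i - a) * (-1) ^ a := by
        rw [← pow_add]; congr 1; omega
      have e2 : ((-1 : K) ^ a) * (-1) ^ a = 1 := by rw [← mul_pow]; simp
      unfold Groth.Agent.S3779.cc
      rw [e1]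
      linear_combination (-(LambdaOps.lam a e * (-1 : K) ^ (i - a) * KRR.sigma (i - a) e)) * e2
    rw [h3, h2, mul_zero]

end Groth.Agent.S3780
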