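import Groth.Statements.S3791
import Mathlib
import Groth.Agent.Lib.LambdaRing_helper1
import Groth.Agent.Lib.LambdaSplit_helper1

set_option autoImplicit false
universe v u
open CategoryTheory CategoryTheory.Limits AlgebraicGeometry
attribute [local instance] HasDerivedCategory.standard
open KRR

namespace Groth.Agent.S3791

open LambdaRing Groth.Agent.Lib.LambdaRingH1 Groth.Agent.Lib.LambdaSplitH1

theorem key {K : Type v} [CommRing K] [LambdaRing.LambdaOps K] (P : PosStructure K) {L : K}
    (hL : P.IsLine L) (m : ℕ) (e : K) (he : e ∈ P.pos)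
    (h : -L = e - m) : (1 - L) ^ m = 0 := by
  have h1 : ∀ k : ℕ, 2 ≤ k → LambdaOps.lam k (1 : K) = 0 :=
    fun k hk => lam_line_eq_zero P (isLine_one P) k hk
  have hL2 : ∀ j : ℕ, 2 ≤ j → LambdaOps.lam j L = 0 := fun j hj => lam_line_eq_zero P hL j hj
  have he' : e = ((m : ℕ) : K) + (-L) := by rw [h]; ring
  have haug : P.aug e = (m : ℤ) - 1 := by
    rw [he', map_add, map_neg, hL.2, map_natCast]; ring
  have h0 : LambdaOps.lam m e = 0 := P.lam_eq_zero e he m (by rw [haug]; omega)
  rw [he', LambdaOps.lam_add] at h0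
  have h2 : (1 - L) ^ m = ∑ i ∈ Finset.range (m + 1),
      LambdaOps.lam i ((m : ℕ) : K) * LambdaOps.lam (m - i) (-L) := by
    rw [sub_eq_add_neg, add_pow]
    apply Finset.sum_congr rfl
    intro i hi
    rw [lam_natCast h1, lam_neg_of_line hL2, one_pow, one_mul]
    ring
  rw [h2, h0]


/-- Let K be a λ-ring with positive structure P and u an ample line element (for every x, u^n x is a
positive element minus a natural number for all large n). Then for every line element v, the element
v - 1 is nilpotent. -/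
theorem result (K : Type v) [CommRing K] [LambdaRing.LambdaOps K] (P : LambdaRing.PosStructure K)
    (u : K) (hu : KRR.IsAmpleElt P u) (w : K) (hw : P.IsLine w) : IsNilpotent (w - 1) := by
  obtain ⟨huL, hamp⟩ := hu
  have step : ∀ w' : K, P.IsLine w' → ∃ n₀ : ℕ, ∀ n, n₀ ≤ n → IsNilpotent (1 - u ^ n * w') := by
    intro w' hw'
    obtain ⟨n₀, hn₀⟩ := hamp (-w')
    refine ⟨n₀, fun n hn => ?_⟩
    obtain ⟨e, m, he, hem⟩ := hn₀ n hn
    have hLn : P.IsLine (u ^ n * w') := isLine_mul P (isLine_pow P huL n) hw'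
    exact ⟨m, key P hLn m e he (by rw [← hem]; ring)⟩
  obtain ⟨n₁, hn₁⟩ := step 1 (isLine_one P)
  obtain ⟨n₂, hn₂⟩ := step w hw
  have ha : IsNilpotent (1 - u ^ (max n₁ n₂) * 1) := hn₁ _ (le_max_left _ _)
  have hb : IsNilpotent (1 - u ^ (max n₁ n₂) * w) := hn₂ _ (le_max_right _ _)
  have hw1 : w - 1 = -(1 - u ^ (max n₁ n₂) * w) + (1 - u ^ (max n₁ n₂) * 1) * w := by ring
  rw [hw1, ← mem_nilradical]
  rw [← mem_nilradical] at ha hb
  exact Ideal.add_mem _ (Ideal.neg_mem_iff _ |>.2 hb) (Ideal.mul_mem_right _ _ ha)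

end Groth.Agent.S3791
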