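import Groth.Statements.S3795
import Mathlib
import Groth.Agent.Lib.LambdaGammaAdams_helper1

set_option autoImplicit false
universe v u
open CategoryTheory CategoryTheory.Limits AlgebraicGeometry
attribute [local instance] HasDerivedCategory.standard
open KRR

namespace Groth.Agent.S3795

open LambdaRing Groth.Agent.Lib.LambdaGAH1


/-- Let K be a λ-ring with positive structure having the splitting property, j ≥ 2, n ≥ 0 and x ∈ K. If
ψ^j(x) - j^n x lies in ℚF^{n+1} (some positive multiple lies in F^{n+1}, γ-filtration), then x lies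
in ℚF^n (some positive multiple of x lies in F^n). -/
theorem result (K : Type v) [CommRing K] [LambdaRing.LambdaOps K] (P : LambdaRing.PosStructure K) (hK : LambdaRing.HasSplitting K P) (j : ℕ) (hj : 2 ≤ j) (n : ℕ) (x : K)
    (hx : ∃ N : ℕ, 1 ≤ N ∧ (N : K) * (LambdaRing.adams P j x - (j : K) ^ n * x) ∈ LambdaRing.gammaFiltration P (n + 1)) :
    ∃ N : ℕ, 1 ≤ N ∧ (N : K) * x ∈ LambdaRing.gammaFiltration P n := by
  have key : ∀ m, m ≤ n → ∃ N : ℕ, 1 ≤ N ∧ (N : K) * x ∈ gammaFiltration P m := by
    intro m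
    induction m with
    | zero =>
      intro _
      exact ⟨1, le_rfl, by unfold gammaFiltration; simp⟩
    | succ m ih =>
      intro hm
      obtain ⟨N, hN1, hN⟩ := ih (by omega)
      obtain ⟨N₀, hN₀1, hN₀⟩ := hx
      have h1 := adams_sub_pow_mem P hK j m _ hN
      have h2 : adams P j ((N : K) * x) = (N : K) * adams P j x := by
        rw [← adamsRingHom_apply P hK, map_mul, map_natCast]
        rfl
      rw [h2] at h1
      have h3 := filt_mono P (show m + 1 ≤ n + 1 by omega) hN₀
      have hlt : j ^ m < j ^ n := Nat.pow_lt_pow_right (by omega) (by omega)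
      refine ⟨N₀ * N * (j ^ n - j ^ m), Nat.mul_pos (Nat.mul_pos hN₀1 hN1) (Nat.sub_pos_of_lt hlt), ?_⟩
      have e : ((N₀ * N * (j ^ n - j ^ m) : ℕ) : K) * x =
          (N₀ : K) * ((N : K) * adams P j x - (j : K) ^ m * ((N : K) * x)) -
            (N : K) * ((N₀ : K) * (adams P j x - (j : K) ^ n * x)) := by
        rw [Nat.cast_mul, Nat.cast_mul, Nat.cast_sub hlt.le, Nat.cast_pow, Nat.cast_pow]
        ring
      rw [e]
      exact sub_mem (smul_mem_filt P _ _ h1) (smul_mem_filt P _ _ h3)
  exact key n le_rfl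

end Groth.Agent.S3795
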