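import Groth.Statements.S3810
import Mathlib
import Groth.Agent.Lib.PP16_lead

set_option autoImplicit false
universe u
open scoped TensorProduct
open PP16

namespace Groth.Agent.S3810

/-- Let B be an A-algebra, K an ideal of B and C = B/K. Then the canonical map P^n_{B/A} → P^n_{C/A} is
surjective and its kernel is the ideal generated by the image of K under the structure map B →
P^n_{B/A} together with the image of K under the principal-part map d^n (the latter is an additive
subgroup, not a B-submodule, in general). -/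
theorem result (n : ℕ) (A B : Type u) [CommRing A] [CommRing B] [Algebra A B]
    (K : Ideal B) :
    Function.Surjective (PP16.map n A B A (B ⧸ K)) ∧
      RingHom.ker (PP16.map n A B A (B ⧸ K)) =
        K.map (algebraMap B (PP16.P n A B)) ⊔ K.map (PP16.dn n A B) := by
  have hs : Function.Surjective (algebraMap B (B ⧸ K)) := Ideal.Quotient.mk_surjective
  refine ⟨Groth.Agent.Lib.PP16L.map_surjective_of_surjective n A B A (B ⧸ K) hs, ?_⟩
  rw [Groth.Agent.Lib.PP16L.ker_map_eq n A B A (B ⧸ K) hs]
  have hτ : (PP16.tensorMap A B A (B ⧸ K) : B ⊗[A] B →ₐ[A] (B ⧸ K) ⊗[A] (B ⧸ K)) =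
      Algebra.TensorProduct.map (Ideal.Quotient.mkₐ A K) (Ideal.Quotient.mkₐ A K) := by
    apply Algebra.TensorProduct.ext'
    intro b c
    rw [PP16.tensorMap_tmul, Algebra.TensorProduct.map_tmul]
    rfl
  have hk : RingHom.ker (PP16.tensorMap A B A (B ⧸ K)) =
      K.map (Algebra.TensorProduct.includeLeft : B →ₐ[A] B ⊗[A] B) ⊔
        K.map (Algebra.TensorProduct.includeRight : B →ₐ[A] B ⊗[A] B) := by
    rw [hτ, Algebra.TensorProduct.map_ker _ _ (Ideal.Quotient.mkₐ_surjective A K)
      (Ideal.Quotient.mkₐ_surjective A K)]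
    congr 1
    · congr 1
      exact Ideal.Quotient.mkₐ_ker A K
    · congr 1
      exact Ideal.Quotient.mkₐ_ker A K
  rw [hk, Ideal.map_sup]
  have e1 : (K.map (Algebra.TensorProduct.includeLeft : B →ₐ[A] B ⊗[A] B)).map
      (Ideal.Quotient.mk (KaehlerDifferential.ideal A B ^ (n + 1))) =
      K.map (algebraMap B (PP16.P n A B)) :=
    Ideal.map_map (Algebra.TensorProduct.includeLeft : B →ₐ[A] B ⊗[A] B).toRingHom
      (Ideal.Quotient.mk (KaehlerDifferential.ideal A B ^ (n + 1)))
  have e2 : (K.map (Algebra.TensorProduct.includeRight : B →ₐ[A] B ⊗[A] B)).map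
      (Ideal.Quotient.mk (KaehlerDifferential.ideal A B ^ (n + 1))) =
      K.map (PP16.dn n A B) :=
    Ideal.map_map (Algebra.TensorProduct.includeRight : B →ₐ[A] B ⊗[A] B).toRingHom
      (Ideal.Quotient.mk (KaehlerDifferential.ideal A B ^ (n + 1)))
  rw [e1, e2]

end Groth.Agent.S3810
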