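import Groth.Statements.S3831
import Groth.Agent.Lib.GeomIntegralFF_helper3
import Groth.Agent.Lib.GeomIrr3_lead
import Groth.Agent.Lib.QuotFormalFibre_helper3
import Groth.Agent.Lib.HensIntegral_helper3
-- import your own Groth.Agent.* helpers here

set_option autoImplicit false
universe u
open Hensel18


namespace Groth.Agent.S3831

/-- Let A be a henselian Noetherian local ring whose formal fibres are geometrically normal. Then the
formal fibres of A are geometrically integral: for every prime p of A and every field extension K of
the residue field k(p), the ring K ⊗_{k(p)} (k(p) ⊗_A Â) is an integral domain. -/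
theorem result (A : Type u) [CommRing A] [HenselianLocalRing A]
    [IsNoetherianRing A] (hA : EGA4.HasGeomNormalFormalFibres A) (p : Ideal A) [p.IsPrime]
    (K : Type u) [Field K] [Algebra p.ResidueField K] :
    IsDomain (TensorProduct p.ResidueField K (EGA4.formalFibre A p)) := by
  have key : ∀ (k' : Type u) [Field k'] [Algebra p.ResidueField k']
      [Module.Finite p.ResidueField k'],
      IsDomain (TensorProduct p.ResidueField k' (EGA4.formalFibre A p)) := by
    intro k' _ _ _
    haveI : IsDomain (A ⧸ p) := Ideal.Quotient.isDomain p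
    haveI : Algebra.IsIntegral A (A ⧸ p) :=
      Algebra.isIntegral_of_surjective Ideal.Quotient.mk_surjective
    haveI : HenselianLocalRing (A ⧸ p) :=
      Groth.Agent.Lib.HensIntegralH3.henselianLocalRing_of_isIntegral A _
    have hD := Groth.Agent.Lib.QuotFormalFibreH3.hasGeomNormalFormalFibres_quotient A p hA
    letI algAk : Algebra A k' := Algebra.compHom k' (algebraMap A p.ResidueField)
    haveI : IsScalarTower A p.ResidueField k' := IsScalarTower.of_algebraMap_eq (fun _ => rfl)
    letI algDk : Algebra (A ⧸ p) k' := Algebra.compHom k' (algebraMap (A ⧸ p) p.ResidueField)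
    haveI : IsScalarTower (A ⧸ p) p.ResidueField k' :=
      IsScalarTower.of_algebraMap_eq (fun _ => rfl)
    haveI : IsScalarTower A (A ⧸ p) k' := IsScalarTower.of_algebraMap_eq (fun a => by
      show algebraMap p.ResidueField k' (algebraMap A p.ResidueField a) =
        algebraMap p.ResidueField k' (algebraMap (A ⧸ p) p.ResidueField (algebraMap A (A ⧸ p) a))
      rw [← IsScalarTower.algebraMap_apply A (A ⧸ p) p.ResidueField])
    haveI hdom := Groth.Agent.Lib.GeomIntegralFFH3.isDomain_tensor_of_finite (A ⧸ p) hD
      p.ResidueField k'
    obtain ⟨e⟩ := Groth.Agent.Lib.GRingCoreH3.exists_ringEquiv_tensor_cpl_of_surjective A (A ⧸ p)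
      Ideal.Quotient.mk_surjective k'
    let e₁ : TensorProduct p.ResidueField k' (EGA4.formalFibre A p) ≃ₐ[k']
        TensorProduct A k' (EGA4.Cpl A) :=
      Algebra.TensorProduct.cancelBaseChange A p.ResidueField k' k' (EGA4.Cpl A)
    exact (e₁.toRingEquiv.trans e).toMulEquiv.isDomain _
  have h2 := (Groth.Agent.Lib.GeomIrr.tfae_geomIntegral (k := p.ResidueField)
    (S := EGA4.formalFibre A p)).out 1 0
  refine h2.mp ?_ K
  intro k' i1 i2 i3
  exact key k'

end Groth.Agent.S3831
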