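import Groth.Statements.S3833
import Mathlib

set_option autoImplicit false
universe u
open CategoryTheory CategoryTheory.Limits AlgebraicGeometry TopologicalSpace
open Rat20

namespace Groth.Agent.S3833

/-- Stated for a global section, the case of a section over an open subset U being the same statement
for the open subscheme U: let X be a scheme and s a global section of O_X which is regular in the
sense that its germ at every point x is a non-zero-divisor of the local ring O_{X,x} (on an affine
scheme this is the same as being a non-zero-divisor of Γ(X, O_X), but not in general). Then the open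
subset X_s where s is invertible is schematically dense in X. -/
theorem result (X : Scheme.{u}) (s : Γ(X, ⊤))
    (hs : ∀ x : ↥X, (X.presheaf.germ ⊤ x trivial s) ∈ nonZeroDivisors ↑(X.presheaf.stalk x)) :
    CInt.IsSchematicallyDense (X.basicOpen s) := by
  intro V
  rw [injective_iff_map_eq_zero]
  intro a ha
  apply TopCat.Presheaf.section_ext X.sheaf V a 0
  intro x hx
  rw [map_zero]
  obtain ⟨_, ⟨W, hW, rfl⟩, hxW, hWV⟩ :=
    X.isBasis_affineOpens.exists_subset_of_mem_open hx V.isOpen
  obtain ⟨a', ha'⟩ : ∃ a' : Γ(X, W), a' = X.presheaf.map (homOfLE hWV).op a := ⟨_, rfl⟩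
  obtain ⟨s', hs'⟩ : ∃ s' : Γ(X, W), s' = X.presheaf.map (homOfLE (le_top : W ≤ ⊤)).op s := ⟨_, rfl⟩
  have hbo : X.basicOpen s' = W ⊓ X.basicOpen s := by
    rw [hs']; exact X.basicOpen_res s (homOfLE (le_top : W ≤ ⊤)).op
  have hle : X.basicOpen s' ≤ V ⊓ X.basicOpen s := by
    rw [hbo]; exact inf_le_inf_right _ hWV
  have hres : a' |_ (X.basicOpen s') = 0 := by
    show X.presheaf.map (homOfLE (X.basicOpen_le s')).op a' = 0
    have h1 : X.presheaf.map (homOfLE (X.basicOpen_le s')).op a' =
        X.presheaf.map (homOfLE hle).op (X.presheaf.map (homOfLE (inf_le_left : V ⊓ X.basicOpen s ≤ V)).op a) := by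
      rw [ha']
      simp only [← CommRingCat.comp_apply, ← Functor.map_comp]
      rfl
    rw [h1, ha, map_zero]
  obtain ⟨n, hn⟩ :=
    exists_pow_mul_eq_zero_of_res_basicOpen_eq_zero_of_isAffineOpen X hW a' s' hres
  have hg := congrArg (X.presheaf.germ W x hxW).hom hn
  rw [map_mul, map_pow, map_zero] at hg
  have e1 : (X.presheaf.germ W x hxW).hom s' = X.presheaf.germ ⊤ x trivial s := by
    rw [hs']
    exact TopCat.Presheaf.germ_res_apply X.presheaf (homOfLE (le_top : W ≤ ⊤)) x hxW s
  have e2 : (X.presheaf.germ W x hxW).hom a' = X.presheaf.germ V x hx a := by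
    rw [ha']
    exact TopCat.Presheaf.germ_res_apply X.presheaf (homOfLE hWV) x hxW a
  rw [e1, e2] at hg
  exact (mul_left_mem_nonZeroDivisors_eq_zero_iff (pow_mem (hs x) n)).mp hg

end Groth.Agent.S3833
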