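import Groth.Statements.S3842
import Mathlib

set_option autoImplicit false
universe u
open CategoryTheory CategoryTheory.Limits AlgebraicGeometry TopologicalSpace
open Rat20

namespace Groth.Agent.S3842

theorem gen_mem_of_schDense {X : Scheme.{u}} (V : X.Opens) (hV : CInt.IsSchematicallyDense V)
    (η : X) (hη : closure ({η} : Set X) ∈ irreducibleComponents ↥X)
    (hfin : ∃ W : X.Opens, η ∈ W ∧
      {Z ∈ irreducibleComponents ↥X | (Z ∩ (W : Set ↥X)).Nonempty}.Finite) : η ∈ V := by
  by_contra hηV
  obtain ⟨W, hηW, hWfin⟩ := hfin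
  let T : Set X := ⋃ Z' ∈ {Z' ∈ irreducibleComponents ↥X |
    (Z' ∩ (W : Set ↥X)).Nonempty ∧ Z' ≠ closure ({η} : Set X)}, Z'
  have hTclosed : IsClosed T := by
    apply Set.Finite.isClosed_biUnion
    · exact hWfin.subset (fun Z' h => ⟨h.1, h.2.1⟩)
    · intro Z' h
      exact isClosed_of_mem_irreducibleComponents Z' h.1
  have hηT : η ∉ T := by
    intro h
    obtain ⟨Z', ⟨hZ'comp, -, hne⟩, hηZ'⟩ := Set.mem_iUnion₂.mp h
    apply hne
    have hsub : closure ({η} : Set X) ⊆ Z' :=
      (isClosed_of_mem_irreducibleComponents Z' hZ'comp).closure_subset_iff.mpr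
        (Set.singleton_subset_iff.mpr hηZ')
    exact (hη.eq_of_subset hZ'comp.1 hsub).symm
  let W0 : X.Opens := ⟨(W : Set X) ∩ Tᶜ, W.2.inter hTclosed.isOpen_compl⟩
  have hηW0 : η ∈ W0 := ⟨hηW, hηT⟩
  have hW0Z : (W0 : Set X) ⊆ closure ({η} : Set X) := by
    rintro w ⟨hwW, hwT⟩
    have hcomp := irreducibleComponent_mem_irreducibleComponents w
    have hw : w ∈ irreducibleComponent w := mem_irreducibleComponent
    by_cases hEq : irreducibleComponent w = closure ({η} : Set X)
    · rw [← hEq]
      exact hw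
    · exfalso
      apply hwT
      exact Set.mem_iUnion₂.mpr ⟨irreducibleComponent w, ⟨hcomp, ⟨w, hw, hwW⟩, hEq⟩, hw⟩
  have hdisj : W0 ⊓ V = ⊥ := by
    rw [eq_bot_iff]
    rintro w ⟨hwW0, hwV⟩
    have hsp : η ⤳ w := specializes_iff_mem_closure.mpr (hW0Z hwW0)
    exact hηV (hsp.mem_open V.2 hwV)
  have hinj := hV W0
  haveI : Subsingleton Γ(X, W0 ⊓ V) := by
    rw [hdisj]
    infer_instance
  have h01 : (1 : Γ(X, W0)) = 0 := hinj (Subsingleton.elim _ _)
  have h2 := congrArg (X.presheaf.germ W0 η hηW0) h01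
  rw [map_one, map_zero] at h2
  exact one_ne_zero h2

/-- For the open subset U = X; the general case is the same statement over the open subscheme U: let f :
X' → X be a morphism of schemes with X' reduced, suppose the irreducible components of X form a
locally finite family and that every irreducible component of X' dominates an irreducible component
of X (the closure of its image is an irreducible component of X). Then for every schematically dense
open subset V of X, the preimage f⁻¹(V) is schematically dense in X'. -/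
theorem result {X X' : Scheme.{u}} (f : X' ⟶ X) [IsReduced X']
    (hfin : ∀ x : ↥X, ∃ W : X.Opens, x ∈ W ∧ {Z ∈ irreducibleComponents ↥X | (Z ∩ (W : Set ↥X)).Nonempty}.Finite)
    (hdom : ∀ Z' ∈ irreducibleComponents ↥X', closure (f '' Z') ∈ irreducibleComponents ↥X)
    (V : X.Opens) (hV : CInt.IsSchematicallyDense V) : CInt.IsSchematicallyDense (f ⁻¹ᵁ V) := by
  intro W'
  refine (injective_iff_map_eq_zero (X'.presheaf.map (homOfLE (inf_le_left :
    W' ⊓ f ⁻¹ᵁ V ≤ W')).op).hom).mpr ?_
  intro s hs
  rw [← basicOpen_eq_bot_iff, eq_bot_iff]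
  intro x' hx'
  exfalso
  have hcomp := irreducibleComponent_mem_irreducibleComponents x'
  have hirr : IsIrreducible (irreducibleComponent x') := isIrreducible_irreducibleComponent
  have hclosed : IsClosed (irreducibleComponent x') := isClosed_irreducibleComponent
  obtain ⟨ξ', hξ'⟩ := QuasiSober.sober hirr hclosed
  have hcl : closure ({ξ'} : Set X') = irreducibleComponent x' := hξ'
  have hx'mem : x' ∈ closure ({ξ'} : Set X') := by
    rw [hcl]
    exact mem_irreducibleComponent
  have hspec : ξ' ⤳ x' := specializes_iff_mem_closure.mpr hx'mem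
  have hξ's : ξ' ∈ X'.basicOpen s := hspec.mem_open (X'.basicOpen s).2 hx'
  have hξ'W : ξ' ∈ W' := X'.basicOpen_le s hξ's
  have hZ := hdom _ hcomp
  have hclf : closure (f '' irreducibleComponent x') = closure ({f ξ'} : Set X) := by
    apply subset_antisymm
    · apply closure_minimal _ isClosed_closure
      rw [← hcl]
      refine (image_closure_subset_closure_image f.continuous).trans ?_
      rw [Set.image_singleton]
    · apply closure_mono
      rw [Set.singleton_subset_iff]
      refine ⟨ξ', ?_, rfl⟩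
      rw [← hcl]
      exact subset_closure rfl
  rw [hclf] at hZ
  have hfV : f ξ' ∈ V := gen_mem_of_schDense V hV (f ξ') hZ (hfin (f ξ'))
  have hmem : ξ' ∈ W' ⊓ f ⁻¹ᵁ V := ⟨hξ'W, hfV⟩
  have h1 := congrArg (X'.presheaf.germ (W' ⊓ f ⁻¹ᵁ V) ξ' hmem) hs
  rw [map_zero] at h1
  have h2 : X'.presheaf.germ W' ξ' hξ'W s = 0 :=
    (TopCat.Presheaf.germ_res_apply X'.presheaf (homOfLE (inf_le_left :
      W' ⊓ f ⁻¹ᵁ V ≤ W')) ξ' hmem s).symm.trans h1
  have hu := (Scheme.mem_basicOpen X' s ξ' hξ'W).mp hξ's
  rw [h2] at hu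
  exact not_isUnit_zero hu

end Groth.Agent.S3842
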