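import Groth.Statements.S3834
import Mathlib
import Groth.Agent.S3842
import Groth.Agent.Lib.SchDenseFlat_helper5
import Groth.Agent.Lib.Mero_helper4
import Groth.Agent.Lib.MeroDepth_helper5
import Groth.Agent.Lib.FLF1_helper8
import Groth.Agent.Lib.StalkLoc_helper8

set_option autoImplicit false
universe u
open CategoryTheory CategoryTheory.Limits AlgebraicGeometry TopologicalSpace
open Rat20

namespace Groth.Agent.S3834

theorem reduced_case (X : Scheme.{u}) [IsAffine X] [IsReduced X]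
    (hfin : (irreducibleComponents ↥X).Finite) (U : X.Opens) (hU : CInt.IsSchematicallyDense U) :
    ∃ t : Γ(X, ⊤), t ∈ nonZeroDivisors Γ(X, ⊤) ∧ X.basicOpen t ≤ U := by
  classical
  rcases isEmpty_or_nonempty ↥X with hE | hNE
  · exact ⟨1, one_mem _, fun y _ => (hE.false y).elim⟩
  have hT : IsAffineOpen (⊤ : X.Opens) := isAffineOpen_top X
  have hgen : ∀ Z ∈ irreducibleComponents ↥X, ∃ η : X, closure ({η} : Set X) = Z :=
    fun Z hZ => QuasiSober.sober hZ.1 (isClosed_of_mem_irreducibleComponents Z hZ)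
  choose! gen hgen' using hgen
  let P : Set X → Ideal Γ(X, ⊤) := fun Z => (hT.primeIdealOf ⟨gen Z, Opens.mem_top _⟩).asIdeal
  let I : Ideal Γ(X, ⊤) :=
    ⨅ x : {x : X // x ∉ U}, (hT.primeIdealOf ⟨x.1, Opens.mem_top _⟩).asIdeal
  have hgenU : ∀ Z ∈ irreducibleComponents ↥X, gen Z ∈ U := fun Z hZ =>
    Groth.Agent.S3842.gen_mem_of_schDense U hU (gen Z) (by rw [hgen' Z hZ]; exact hZ)
      ⟨⊤, Opens.mem_top _, hfin.subset (fun Z h => h.1)⟩
  have hIP : ∀ Z ∈ hfin.toFinset, ¬ I ≤ P Z := by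
    intro Z hZ hle
    have hZ' := hfin.mem_toFinset.mp hZ
    obtain ⟨a, haU, hηa⟩ := hT.exists_basicOpen_le (V := U) ⟨gen Z, hgenU Z hZ'⟩ (Opens.mem_top _)
    have haI : a ∈ I := by
      rw [Ideal.mem_iInf]
      intro x
      by_contra hax
      exact x.2 (haU (FLFH8.mem_basicOpen_of_notMem_prime hT (Opens.mem_top _) hax))
    exact (StalkLocH8.notMem_prime_of_mem_basicOpen hT (Opens.mem_top _) hηa) (hle haI)
  have havoid : ¬ ((I : Set Γ(X, ⊤)) ⊆ ⋃ Z ∈ (hfin.toFinset : Set (Set X)), (P Z : Set Γ(X, ⊤))) := by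
    rw [Ideal.subset_union_prime (∅ : Set X) (∅ : Set X)
      (fun Z _ _ _ => (hT.primeIdealOf ⟨gen Z, Opens.mem_top _⟩).isPrime)]
    rintro ⟨Z, hZ, hle⟩
    exact hIP Z hZ hle
  obtain ⟨t, htI, htP⟩ : ∃ t ∈ I, ∀ Z ∈ irreducibleComponents ↥X, t ∉ P Z := by
    by_contra hno
    push Not at hno
    apply havoid
    intro t ht
    obtain ⟨Z, hZ, htZ⟩ := hno t ht
    exact Set.mem_iUnion₂.mpr ⟨Z, by simpa using hZ, htZ⟩
  refine ⟨t, ?_, ?_⟩
  · rw [mem_nonZeroDivisors_iff_left]
    intro b hb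
    rw [← basicOpen_eq_bot_iff, eq_bot_iff]
    intro y hy
    exfalso
    have hZ := irreducibleComponent_mem_irreducibleComponents y
    have hsp : gen (irreducibleComponent y) ⤳ y := specializes_iff_mem_closure.mpr (by
      rw [hgen' _ hZ]
      exact mem_irreducibleComponent)
    have h1 : gen (irreducibleComponent y) ∈ X.basicOpen b :=
      hsp.mem_open (X.basicOpen b).2 hy
    have h2 : gen (irreducibleComponent y) ∈ X.basicOpen t :=
      FLFH8.mem_basicOpen_of_notMem_prime hT (Opens.mem_top _) (htP _ hZ)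
    have h3 : gen (irreducibleComponent y) ∈ X.basicOpen (t * b) := by
      rw [Scheme.basicOpen_mul]
      exact ⟨h2, h1⟩
    rw [hb, Scheme.basicOpen_zero] at h3
    exact h3
  · intro y hy
    by_contra hyU
    have h1 : t ∈ (hT.primeIdealOf ⟨y, Opens.mem_top _⟩).asIdeal :=
      (Ideal.mem_iInf.mp htI) ⟨y, hyU⟩
    exact (StalkLocH8.notMem_prime_of_mem_basicOpen hT (Opens.mem_top _) hy) h1

theorem dense_of_basicOpen (X : Scheme.{u}) [IsAffine X] (U : X.Opens) (t : Γ(X, ⊤))
    (ht : t ∈ nonZeroDivisors Γ(X, ⊤)) (htU : X.basicOpen t ≤ U) :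
    CInt.IsSchematicallyDense U := by
  intro V
  refine (injective_iff_map_eq_zero (X.presheaf.map (homOfLE (inf_le_left :
    V ⊓ U ≤ V)).op).hom).mpr ?_
  intro s hs
  have htreg : t ∈ Mero.regSub X ⊤ :=
    Groth.Agent.Lib.Mero_helper4.mem_regSub_of_mem_nonZeroDivisors (isAffineOpen_top X) ht
  apply TopCat.Presheaf.section_ext X.sheaf V
  intro x hxV
  obtain ⟨_, ⟨W, hW : IsAffineOpen W, rfl⟩, hxW, hWsub⟩ :=
    (X.isBasis_affineOpens).exists_subset_of_mem_open hxV V.2
  have hWV : W ≤ V := hWsub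
  have ht' : X.presheaf.map (homOfLE (le_top : W ≤ ⊤)).op t ∈ Mero.regSub X W :=
    Mero.regSub_res _ htreg
  obtain ⟨n, hn⟩ := Groth.Agent.Lib.Mero_helper4.exists_pow_mul_eq_zero_of_germ hW
    (X.presheaf.map (homOfLE (le_top : W ≤ ⊤)).op t) (X.presheaf.map (homOfLE hWV).op s) (by
    intro y hy
    have hyW : y ∈ W := X.basicOpen_le _ hy
    have hyt : y ∈ X.basicOpen t := by
      have h0 := (Scheme.mem_basicOpen X _ y hyW).mp hy
      rw [TopCat.Presheaf.germ_res_apply] at h0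
      exact (Scheme.mem_basicOpen X t y (Opens.mem_top y)).mpr h0
    have hyU : y ∈ U := htU hyt
    have h1 := congrArg (X.presheaf.germ (V ⊓ U) y ⟨hWV hyW, hyU⟩) hs
    rw [map_zero] at h1
    rw [TopCat.Presheaf.germ_res_apply]
    refine Eq.trans ?_ h1
    exact (TopCat.Presheaf.germ_res_apply X.presheaf (homOfLE (inf_le_left :
      V ⊓ U ≤ V)) y ⟨hWV hyW, hyU⟩ s).symm)
  have hs' : X.presheaf.map (homOfLE hWV).op s = 0 := by
    have hnzd := pow_mem (Groth.Agent.MeroDepth.nzd_of_mem_regSub ht') n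
    exact (mem_nonZeroDivisors_iff_left.mp hnzd) _ hn
  have h2 := congrArg (X.presheaf.germ W x hxW) hs'
  rw [TopCat.Presheaf.germ_res_apply, map_zero] at h2
  exact h2.trans (map_zero (X.presheaf.germ V x hxV).hom).symm

/-- Let X = Spec A be an affine scheme, with A Noetherian, or A reduced with finitely many minimal
primes. Then an open subset U of X is schematically dense if and only if it contains an open subset
of the form X_t with t a regular element of A = Γ(X, O_X). -/
theorem result (X : Scheme.{u}) [IsAffine X]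
    (hX : IsNoetherian X ∨ (IsReduced X ∧ (irreducibleComponents ↥X).Finite)) (U : X.Opens) :
    CInt.IsSchematicallyDense U ↔ ∃ t : Γ(X, ⊤), t ∈ nonZeroDivisors Γ(X, ⊤) ∧ X.basicOpen t ≤ U := by
  constructor
  · intro hU
    rcases hX with hN | ⟨hR, hF⟩
    · haveI := hN
      exact Groth.Agent.SchDenseFlat.exists_basicOpen_le U hU (isAffineOpen_top X)
    · haveI := hR
      exact reduced_case X hF U hU
  · rintro ⟨t, ht, htU⟩
    exact dense_of_basicOpen X U t ht htU

end Groth.Agent.S3834
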