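import Groth.Statements.S3849
import Mathlib
import Groth.Agent.Lib.RatSec3_helper8

set_option autoImplicit false
universe u
open CategoryTheory CategoryTheory.Limits AlgebraicGeometry TopologicalSpace
open Rat20

namespace Groth.Agent.S3849

/-- In the case S = X (sections of q : Y → X): let X be a locally Noetherian scheme, q : Y → X
separated, locally of finite type and locally quasi-finite, U a dense open subset of X, h : U → Y a
section of q over U, and x a point of X outside U whose local ring is an integrally closed domain.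
Then h extends to a section of q over an open subset containing U and x if and only if there exist a
discrete valuation ring R, a morphism u : Spec R → X sending the closed point to x and the generic
point into U, and a morphism Spec R → Y over X agreeing with h at the generic point. -/
theorem result {X Y : Scheme.{u}} [IsLocallyNoetherian X] (q : Y ⟶ X)
    [LocallyOfFiniteType q] [IsSeparated q] [LocallyQuasiFinite q] (U : X.Opens) (hU : Dense (U : Set ↥X))
    (h : (U : Scheme.{u}) ⟶ Y) (hh : h ≫ q = U.ι) (x : ↥X) (hxU : x ∉ U) [IsDomain ↑(X.presheaf.stalk x)]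
    (hx : IsIntegrallyClosed ↑(X.presheaf.stalk x)) :
    (∃ (U' : X.Opens) (hUU' : U ≤ U') (h' : (U' : Scheme.{u}) ⟶ Y),
        x ∈ U' ∧ h' ≫ q = U'.ι ∧ X.homOfLE hUU' ≫ h' = h) ↔
      ∃ (R : Type u) (_ : CommRing R) (_ : IsDomain R) (_ : IsDiscreteValuationRing R)
        (u : Spec (CommRingCat.of R) ⟶ X) (ub : Spec (CommRingCat.of (FractionRing R)) ⟶ (U : Scheme.{u}))
        (h₁ : Spec (CommRingCat.of R) ⟶ Y),
        u (IsLocalRing.closedPoint R) = x ∧
          ub ≫ U.ι = Spec.map (CommRingCat.ofHom (algebraMap R (FractionRing R))) ≫ u ∧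
          h₁ ≫ q = u ∧ Spec.map (CommRingCat.ofHom (algebraMap R (FractionRing R))) ≫ h₁ = ub ≫ h := by
  haveI : X.IsGermInjectiveAt x := inferInstance
  obtain ⟨N, hxN, hNint⟩ := Groth.Agent.Lib.RatExtH7.exists_isIntegral_nhd x inferInstance
  haveI := hNint
  constructor
  · rintro ⟨U', hUU', h', hxU', h'q, h'res⟩
    have hbU := RatSecH8.generic_mem_of_dense U N hU
    have hbx := RatSecH8.generic_specializes N x hxN
    have hne : N.ι (genericPoint N.toScheme) ≠ x := fun e => hxU (e ▸ hbU)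
    obtain ⟨R, iR, iD, iV, u, ub, hucl, hub, -⟩ :=
      RatSecH8.exists_dvr_of_specializes_mem U _ x hbU hbx hne
    obtain ⟨uU', huU'⟩ := RatSecH8.exists_lift_of_closedPoint_mem R u U' (by rw [hucl]; exact hxU')
    refine ⟨R, iR, iD, iV, u, ub, uU' ≫ h', hucl, hub, ?_, ?_⟩
    · rw [Category.assoc, h'q, huU']
    · rw [← h'res, ← Category.assoc, ← Category.assoc]
      congr 1
      rw [← cancel_mono U'.ι, Category.assoc, Category.assoc, huU', Scheme.homOfLE_ι, hub]
  · rintro ⟨R, iR, iD, iV, u, ub, h₁, hucl, hub, h₁q, h₁b⟩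
    obtain ⟨z, hz1, -, hz3⟩ :=
      RatSecH8.exists_point_of_dvr q U h hh x N hxN R u hucl ub hub h₁ h₁q h₁b
    have hdisc := (pullback.fst N.ι q).isDiscrete_preimage_singleton ⟨x, hxN⟩
    obtain ⟨W, hWo, hW⟩ := (isDiscrete_iff_forall_mem_exists_isOpen.mp hdisc) z hz1
    have hiso : ∃ W : (pullback N.ι q).Opens, (W : Set ↥(pullback N.ι q)) ∩
        closure (Set.range (pullback.lift (N.ι ⁻¹ᵁ U).ι ((N.ι ∣_ U) ≫ h)
          (RatSecH8.resSec_comp q U N h hh))) ∩ (pullback.fst N.ι q) ⁻¹' {⟨x, hxN⟩} = {z} := by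
      refine ⟨⟨W, hWo⟩, ?_⟩
      apply Set.eq_singleton_iff_unique_mem.mpr
      have hzW : z ∈ W := by
        have : z ∈ W ∩ (pullback.fst N.ι q) ⁻¹' {⟨x, hxN⟩} := by rw [hW]; rfl
        exact this.1
      refine ⟨⟨⟨hzW, hz3⟩, hz1⟩, ?_⟩
      rintro w ⟨⟨hwW, -⟩, hwx⟩
      have : w ∈ W ∩ (pullback.fst N.ι q) ⁻¹' {⟨x, hxN⟩} := ⟨hwW, hwx⟩
      rw [hW] at this
      exact this
    obtain ⟨V, v, hxV, hvq, hag⟩ :=
      RatSecH8.section_extends_at q U h hh x N hxN hx z hz1 hz3 hiso
    obtain ⟨F, hFq, hF1, -⟩ := Groth.Agent.Lib.RatExtH7.exists_glue_two_over (𝟙 X) q U V h v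
      (by rw [hh, Category.comp_id]) (by rw [hvq, Category.comp_id]) hag.symm
    exact ⟨U ⊔ V, le_sup_left, F, Or.inr hxV, by rw [hFq, Category.comp_id], hF1⟩

end Groth.Agent.S3849
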