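import Groth.Statements.S3852
import Mathlib

set_option autoImplicit false
universe u
open FCompl

namespace Groth.Agent.S3852

open CategoryTheory CategoryTheory.Limits AlgebraicGeometry


open AlgebraicGeometry in
/-- Second assertion; stated for quasi-coherent ideal sheaves, with the condition on supports as an
inclusion, which is what the proof uses: Let X be a Noetherian scheme and I, J ideal sheaves such
that the zero locus of J is contained in the zero locus of I. Then I^n ≤ J for some n ≥ 1. -/
theorem result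
    (X : Scheme.{u}) [IsNoetherian X] (I J : X.IdealSheafData)
    (h : (J.support : Set X) ⊆ I.support) :
    ∃ n : ℕ, I ^ (n + 1) ≤ J := by
  classical
  have hloc : ∀ U : X.affineOpens, ∃ k : ℕ, (I.ideal U) ^ k ≤ J.ideal U := by
    intro U
    have : IsNoetherianRing Γ(X, U.1) := IsLocallyNoetherian.component_noetherian U
    apply Ideal.exists_pow_le_of_le_radical_of_fg _ (IsNoetherian.noetherian _)
    rw [← PrimeSpectrum.zeroLocus_subset_zeroLocus_iff]
    intro x hx
    rw [← U.2.fromSpec_preimage_zeroLocus] at hx ⊢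
    have hxU : U.2.fromSpec x ∈ U.1 := by
      have : U.2.fromSpec x ∈ Set.range U.2.fromSpec := ⟨x, rfl⟩
      rwa [U.2.range_fromSpec] at this
    have h1 : U.2.fromSpec x ∈ J.support :=
      (Scheme.IdealSheafData.mem_support_iff_of_mem hxU).mpr hx
    exact (Scheme.IdealSheafData.mem_support_iff_of_mem hxU).mp (h h1)
  choose k hk using hloc
  obtain ⟨t, ht⟩ := isCompact_univ.elim_finite_subcover
    (fun U : X.affineOpens => (U.1 : Set X)) (fun U => U.1.isOpen) (by
      intro x _
      obtain ⟨_, ⟨U, hU, rfl⟩, hxU, -⟩ :=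
        X.isBasis_affineOpens.exists_subset_of_mem_open (Set.mem_univ x) isOpen_univ
      exact Set.mem_iUnion.mpr ⟨⟨U, hU⟩, hxU⟩)
  refine ⟨t.sup k, ?_⟩
  apply Scheme.IdealSheafData.le_of_iSup_eq_top (fun i : t => i.1)
  · rw [eq_top_iff]
    intro x _
    have := ht (Set.mem_univ x)
    simp only [Set.mem_iUnion] at this
    obtain ⟨U, hUt, hxU⟩ := this
    exact TopologicalSpace.Opens.mem_iSup.mpr ⟨⟨U, hUt⟩, hxU⟩
  · rintro ⟨U, hUt⟩
    show (I.ideal U) ^ (t.sup k + 1) ≤ J.ideal U
    exact (Ideal.pow_le_pow_right ((Finset.le_sup hUt).trans (Nat.le_succ _))).trans (hk U)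

end Groth.Agent.S3852
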