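import Groth.Statements.S3861
import Mathlib
import Groth.Agent.Lib.ComapIdeal_helper4

set_option autoImplicit false
universe u
open FCompl

namespace Groth.Agent.S3861

open CategoryTheory CategoryTheory.Limits AlgebraicGeometry


open AlgebraicGeometry in
/-- For a morphism of schemes f : X -> Y and quasi-coherent ideal sheaves K₁, K₂ on Y, the inverse image
ideal sheaf of K₁K₂ is the product of the inverse image ideal sheaves of K₁ and K₂. -/
theorem result {X Y : Scheme.{u}} (f : X ⟶ Y) (K₁ K₂ : Y.IdealSheafData) :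
    (K₁ * K₂).comap f = K₁.comap f * K₂.comap f := by
  classical
  let ι := {V : X.affineOpens // ∃ U : Y.affineOpens, V.1 ≤ f ⁻¹ᵁ U.1}
  apply Scheme.IdealSheafData.ext_of_iSup_eq_top (fun i : ι => i.1)
  · rw [eq_top_iff]
    intro x _
    obtain ⟨_, ⟨U, hU, rfl⟩, hxU, -⟩ :=
      Y.isBasis_affineOpens.exists_subset_of_mem_open (Set.mem_univ (f x)) isOpen_univ
    obtain ⟨_, ⟨V, hV, rfl⟩, hxV, hVU⟩ :=
      X.isBasis_affineOpens.exists_subset_of_mem_open (show x ∈ (f ⁻¹ᵁ U : X.Opens) from hxU)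
        (f ⁻¹ᵁ U).isOpen
    exact TopologicalSpace.Opens.mem_iSup.mpr ⟨⟨⟨V, hV⟩, ⟨⟨U, hU⟩, hVU⟩⟩, hxV⟩
  · rintro ⟨V, U, e⟩
    show ((K₁ * K₂).comap f).ideal V = (K₁.comap f).ideal V * (K₂.comap f).ideal V
    rw [Lib.ComapIdeal_helper4.comap_ideal_eq f _ U V e,
      Lib.ComapIdeal_helper4.comap_ideal_eq f _ U V e,
      Lib.ComapIdeal_helper4.comap_ideal_eq f _ U V e, ← Ideal.map_mul]
    rfl

end Groth.Agent.S3861
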