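import Groth.Statements.S3854
import Mathlib
import Groth.Agent.S3861

set_option autoImplicit false
universe u
open FCompl

namespace Groth.Agent.S3854

open CategoryTheory CategoryTheory.Limits AlgebraicGeometry TopologicalSpace

section aux
variable {X : Scheme.{u}}

theorem locNoeth_subscheme [IsLocallyNoetherian X] (I : X.IdealSheafData) :
    IsLocallyNoetherian I.subscheme := by
  apply isLocallyNoetherian_of_affine_cover
    (S := fun U : X.affineOpens =>
      (⟨I.subschemeι ⁻¹ᵁ U.1, U.2.preimage I.subschemeι⟩ : I.subscheme.affineOpens))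
  · rw [eq_top_iff]
    intro z _
    obtain ⟨_, ⟨U, hU, rfl⟩, hxU, -⟩ :=
      X.isBasis_affineOpens.exists_subset_of_mem_open (Set.mem_univ (I.subschemeι z)) isOpen_univ
    exact Opens.mem_iSup.mpr ⟨⟨U, hU⟩, hxU⟩
  · intro U
    have : IsNoetherianRing Γ(X, U.1) := IsLocallyNoetherian.component_noetherian U
    have : IsNoetherianRing (Γ(X, U.1) ⧸ I.ideal U) := inferInstance
    exact isNoetherianRing_of_ringEquiv (Γ(X, U.1) ⧸ I.ideal U)
      (I.subschemeObjIso U).symm.commRingCatIsoToRingEquiv

theorem isClosedImmersion_inclusion {I' I'' : X.IdealSheafData} (h : I' ≤ I'') :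
    IsClosedImmersion (Scheme.IdealSheafData.inclusion h) := by
  have : IsClosedImmersion (Scheme.IdealSheafData.inclusion h ≫ I'.subschemeι) := by
    rw [Scheme.IdealSheafData.inclusion_subschemeι]; infer_instance
  exact IsClosedImmersion.of_comp _ I'.subschemeι

theorem isPullback_inclusion {I' I'' : X.IdealSheafData} (h : I' ≤ I'') :
    IsPullback (Scheme.IdealSheafData.inclusion h) (𝟙 _) I'.subschemeι I''.subschemeι := by
  refine ⟨⟨by rw [Scheme.IdealSheafData.inclusion_subschemeι, Category.id_comp]⟩,
    ⟨PullbackCone.IsLimit.mk _ (fun s => s.snd) (fun s => ?_) (fun s => Category.comp_id _)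
      (fun s m h1 h2 => by rw [← h2, Category.comp_id])⟩⟩
  rw [← cancel_mono I'.subschemeι, Category.assoc, Scheme.IdealSheafData.inclusion_subschemeι]
  exact s.condition.symm

theorem ker_inclusion {I' I'' : X.IdealSheafData} (h : I' ≤ I'') :
    (Scheme.IdealSheafData.inclusion h).ker = I''.comap I'.subschemeι := by
  have hpb := isPullback_inclusion h
  have h1 : Scheme.IdealSheafData.inclusion h = hpb.isoPullback.hom ≫ pullback.fst _ _ :=
    (hpb.isoPullback_hom_fst).symm
  rw [h1, Scheme.Hom.ker_comp_of_isIso, Scheme.IdealSheafData.ker_fst_of_isClosedImmersion,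
    Scheme.IdealSheafData.ker_subschemeι]

theorem comap_pow' {Y : Scheme.{u}} (f : X ⟶ Y) (𝓚 : Y.IdealSheafData) (m : ℕ) :
    (𝓚 ^ m).comap f = (𝓚.comap f) ^ m := by
  induction m with
  | zero => rw [pow_zero, pow_zero]; exact Scheme.IdealSheafData.comap_top f
  | succ m ih => rw [pow_succ, pow_succ, S3861.result, ih]

end aux


open AlgebraicGeometry in
/-- The completion along a closed subset, presented as the system of closed subschemes cut out by the
powers of an ideal sheaf: Let X be a locally Noetherian scheme and I an ideal sheaf on X. The closed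
subschemes defined by I, I^2, I^3, ... with their inclusions form a locally Noetherian adic formal
system: each inclusion is a surjective closed immersion, the kernel ideal of the n-th inclusion is
the (n+1)-st power of the kernel ideal of the composite inclusion from level 0, and every level is
locally Noetherian. -/
theorem result (X : Scheme.{u}) [IsLocallyNoetherian X]
    (𝓘 : X.IdealSheafData) : (FSch.completionAlong X 𝓘).IsLocNoethFormal := by
  classical
  have hι : ∀ n, (FSch.completionAlong X 𝓘).ι n =
      Scheme.IdealSheafData.inclusion (FSch.pow_succ_le X 𝓘 n) := fun n => rfl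
  have hformal : (FSch.completionAlong X 𝓘).IsFormal := by
    intro n
    rw [hι]
    refine ⟨isClosedImmersion_inclusion _, ?_⟩
    intro (y : (𝓘 ^ (n + 2)).subscheme)
    have hy : (𝓘 ^ (n + 2)).subschemeι y ∈ Set.range (𝓘 ^ (n + 1)).subschemeι := by
      have h0 : (𝓘 ^ (n + 2)).subschemeι y ∈ Set.range (𝓘 ^ (n + 2)).subschemeι := ⟨y, rfl⟩
      rw [Scheme.IdealSheafData.range_subschemeι] at h0 ⊢
      exact h0
    obtain ⟨x, hx⟩ := hy
    refine ⟨x, ?_⟩
    apply (𝓘 ^ (n + 2)).subschemeι.isClosedEmbedding.injective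
    have := Scheme.IdealSheafData.inclusion_subschemeι (FSch.pow_succ_le X 𝓘 n)
    have h2 := congrArg (fun g : (𝓘 ^ (n + 1)).subscheme ⟶ X => g x) this
    simp only [Scheme.Hom.comp_apply] at h2
    exact h2.trans hx
  have htoX : ∀ m : ℕ, ∃ h : 𝓘 ^ (m + 1) ≤ 𝓘 ^ (0 + 1),
      (FSch.completionAlong X 𝓘).toX m = Scheme.IdealSheafData.inclusion h := by
    intro m
    induction m with
    | zero =>
      refine ⟨le_refl _, ?_⟩
      show 𝟙 _ = _
      exact (Scheme.IdealSheafData.inclusion_id _).symm
    | succ m ih =>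
      obtain ⟨h, hm⟩ := ih
      refine ⟨(FSch.pow_succ_le X 𝓘 m).trans h, ?_⟩
      show (FSch.completionAlong X 𝓘).toX m ≫ (FSch.completionAlong X 𝓘).ι m = _
      rw [hm, hι]
      exact Scheme.IdealSheafData.inclusion_comp _ _
  have hadic : (FSch.completionAlong X 𝓘).IsAdic := by
    intro n
    obtain ⟨h, hm⟩ := htoX (n + 1)
    rw [hm, hι]
    show (Scheme.IdealSheafData.inclusion (FSch.pow_succ_le X 𝓘 n)).ker =
      (Scheme.IdealSheafData.inclusion h).ker ^ (n + 1)
    rw [ker_inclusion, ker_inclusion, ← comap_pow', ← pow_mul]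
    have h3 : (0 + 1) * (n + 1) = n + 1 := by omega
    rw [h3]
  refine ⟨hformal, hadic, fun n => ?_⟩
  exact locNoeth_subscheme (𝓘 ^ (n + 1))

end Groth.Agent.S3854
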