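import Groth.Statements.S3865
import Mathlib
import Groth.Agent.S3854

set_option autoImplicit false
universe u
open FCompl

namespace Groth.Agent.S3865

open CategoryTheory CategoryTheory.Limits AlgebraicGeometry TopologicalSpace

theorem ker_of_isPullback {P Y X' X : Scheme.{u}} {a : P ⟶ Y} {b : P ⟶ X'} {p : Y ⟶ X}
    {i : X' ⟶ X} [IsClosedImmersion i] (hpb : IsPullback a b p i) : a.ker = i.ker.comap p := by
  have h1 : a = hpb.isoPullback.hom ≫ pullback.fst p i := (hpb.isoPullback_hom_fst).symm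
  rw [h1, Scheme.Hom.ker_comp_of_isIso, Scheme.IdealSheafData.ker_fst_of_isClosedImmersion]

theorem formal_adic_of_isAdicHom {𝔜 𝔛 : FSch.Sys.{u}} (f : 𝔜 ⟶ 𝔛) (hf : FSch.IsAdicHom f)
    (hF : 𝔛.IsFormal) (hA : 𝔛.IsAdic) : 𝔜.IsFormal ∧ 𝔜.IsAdic := by
  have hform : 𝔜.IsFormal := by
    intro n
    have sq := (hf n).flip
    have hs : Surjective (𝔛.ι n) := ⟨(hF n).2⟩
    refine ⟨MorphismProperty.of_isPullback (P := @IsClosedImmersion) sq (hF n).1, ?_⟩
    exact (MorphismProperty.of_isPullback (P := @Surjective) sq hs).surj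
  have hcl : ∀ m, IsClosedImmersion (𝔛.toX m) := by
    intro m
    induction m with
    | zero => show IsClosedImmersion (𝟙 _); infer_instance
    | succ m ih =>
      have := (hF m).1
      show IsClosedImmersion (𝔛.toX m ≫ 𝔛.ι m); infer_instance
  have hT : ∀ m, IsPullback (𝔜.toX m) ((f : FSch.Hom _ _).app 0) ((f : FSch.Hom _ _).app m)
      (𝔛.toX m) := by
    intro m
    induction m with
    | zero => exact IsPullback.id_horiz _
    | succ m ih => exact ih.paste_horiz (hf m)
  refine ⟨hform, ?_⟩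
  intro n
  have := (hF n).1
  have := hcl (n + 1)
  rw [ker_of_isPullback (hf n), ker_of_isPullback (hT (n + 1)), hA n, S3854.comap_pow']


open AlgebraicGeometry in
/-- A formal scheme is presented as a system of thickenings (X_n)_n, and a coherent ideal of it as a
family of ideal sheaves A_n on the levels X_n, each A_n equal to the inverse image ideal of A_(n+1)
under X_n → X_(n+1). Let (X_n) be a locally Noetherian adic formal system and (A_n) such a family.
Then the closed subschemes Y_n cut out by the A_n, with the induced transition maps, form a locally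
Noetherian adic formal system, and its inclusion into (X_n) is adic: every square Y_n → Y_(n+1), X_n
→ X_(n+1) is cartesian. -/
theorem result (𝔛 : FSch.Sys.{u}) (h𝔛 : 𝔛.IsLocNoethFormal)
    (𝒜 : ∀ n, (𝔛.X n).IdealSheafData) (h : ∀ n, (𝒜 (n + 1)).comap (𝔛.ι n) = 𝒜 n) :
    (FSch.subSys 𝔛 𝒜 (fun n ↦ (h n).le)).IsLocNoethFormal ∧
      FSch.IsAdicHom (FSch.subSysι 𝔛 𝒜 (fun n ↦ (h n).le)) := by
  have hadicHom : FSch.IsAdicHom (FSch.subSysι 𝔛 𝒜 (fun n ↦ (h n).le)) := by
    intro n
    refine (isPullback_of_isClosedImmersion (𝒜 n).subschemeι (𝒜 (n + 1)).subschemeι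
      ((FSch.subSys 𝔛 𝒜 (fun n ↦ (h n).le)).ι n) (𝔛.ι n) ?_ ?_).flip
    · exact ((FSch.subSysι 𝔛 𝒜 (fun n ↦ (h n).le) : FSch.Hom _ _).comm n)
    · rw [Scheme.IdealSheafData.ker_subschemeι, Scheme.IdealSheafData.ker_subschemeι]
      exact h n
  obtain ⟨hF, hA⟩ := formal_adic_of_isAdicHom _ hadicHom h𝔛.1 h𝔛.2.1
  refine ⟨⟨hF, hA, fun n => ?_⟩, hadicHom⟩
  have := h𝔛.2.2 n
  exact S3854.locNoeth_subscheme (𝒜 n)

end Groth.Agent.S3865
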