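import Groth.Statements.S3873
import Mathlib
import Groth.Agent.Lib.ComapIdeal_helper4

set_option autoImplicit false
universe u
open FCompl

namespace Groth.Agent.S3873

open CategoryTheory CategoryTheory.Limits AlgebraicGeometry


open AlgebraicGeometry in
/-- Its content on the affine schemes underlying the formal spectra: the inverse image ideal of b^Δ is
(bA)^Δ, read on Spec: For a ring homomorphism φ : B -> A and an ideal b of B, the inverse image
along Spec(φ) of the ideal sheaf of b on Spec B is the ideal sheaf on Spec A of the ideal generated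
by φ(b). -/
theorem result (A B : Type u) [CommRing A] [CommRing B] (φ : B →+* A) (𝔟 : Ideal B) :
    (FSch.idealSpec B 𝔟).comap (Spec.map (CommRingCat.ofHom φ)) = FSch.idealSpec A (𝔟.map φ) := by
  classical
  have K : ∀ (R : Type u) [CommRing R] (J : Ideal R),
      (FSch.idealSpec R J).ideal ⟨⊤, isAffineOpen_top _⟩ =
        J.comap (Scheme.ΓSpecIso (CommRingCat.of R)).hom.hom := by
    intro R _ J
    unfold FSch.idealSpec
    rw [Scheme.Hom.ker_apply]
    ext x
    rw [RingHom.mem_ker, Ideal.mem_comap]
    have hnat := Scheme.ΓSpecIso_naturality (CommRingCat.ofHom (Ideal.Quotient.mk J))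
    have h1 := congrArg (fun t => t.hom x) hnat
    simp only [CommRingCat.hom_comp, RingHom.comp_apply, CommRingCat.hom_ofHom] at h1
    rw [← Ideal.Quotient.eq_zero_iff_mem, ← h1]
    have hinj : Function.Injective (Scheme.ΓSpecIso (CommRingCat.of (R ⧸ J))).hom.hom :=
      (ConcreteCategory.bijective_of_isIso (Scheme.ΓSpecIso (CommRingCat.of (R ⧸ J))).hom).injective
    constructor
    · intro h
      have h' : (Scheme.Hom.appTop (Spec.map (CommRingCat.ofHom (Ideal.Quotient.mk J)))).hom x = 0 := h
      rw [h']; exact map_zero _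
    · intro h
      apply hinj
      exact h.trans (map_zero _).symm
  apply Scheme.IdealSheafData.ext_of_isAffine
  have e : (⊤ : (Spec (CommRingCat.of A)).Opens) ≤
      (Spec.map (CommRingCat.ofHom φ)) ⁻¹ᵁ (⊤ : (Spec (CommRingCat.of B)).Opens) := le_refl _
  rw [Lib.ComapIdeal_helper4.comap_ideal_eq (Spec.map (CommRingCat.ofHom φ)) _
    ⟨⊤, isAffineOpen_top _⟩ ⟨⊤, isAffineOpen_top _⟩ e, K, K]
  have hψ : (Spec.map (CommRingCat.ofHom φ)).appLE ⊤ ⊤ e = (Spec.map (CommRingCat.ofHom φ)).appTop := by
    simp [Scheme.Hom.appLE]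
  rw [hψ]
  have hnat := Scheme.ΓSpecIso_naturality (CommRingCat.ofHom φ)
  have hnat' := Scheme.ΓSpecIso_inv_naturality (CommRingCat.ofHom φ)
  apply le_antisymm
  · rw [Ideal.map_le_iff_le_comap]
    intro x hx
    rw [Ideal.mem_comap] at hx
    rw [Ideal.mem_comap, Ideal.mem_comap]
    have h1 := congrArg (fun t => t.hom x) hnat
    simp only [CommRingCat.hom_comp, RingHom.comp_apply, CommRingCat.hom_ofHom] at h1
    rw [h1]
    exact Ideal.mem_map_of_mem _ hx
  · intro y hy
    rw [Ideal.mem_comap] at hy
    have hle : 𝔟.map φ ≤ Ideal.comap (Scheme.ΓSpecIso (CommRingCat.of A)).inv.hom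
        (Ideal.map (Spec.map (CommRingCat.ofHom φ)).appTop.hom
          (Ideal.comap (Scheme.ΓSpecIso (CommRingCat.of B)).hom.hom 𝔟)) := by
      rw [Ideal.map_le_iff_le_comap]
      intro b hb
      rw [Ideal.mem_comap, Ideal.mem_comap]
      have h1 := congrArg (fun t => t.hom b) hnat'
      simp only [CommRingCat.hom_comp, RingHom.comp_apply, CommRingCat.hom_ofHom] at h1
      rw [h1]
      apply Ideal.mem_map_of_mem
      rw [Ideal.mem_comap, ← RingHom.comp_apply, ← CommRingCat.hom_comp, Iso.inv_hom_id]
      exact hb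
    have := hle hy
    rw [Ideal.mem_comap, ← RingHom.comp_apply, ← CommRingCat.hom_comp, Iso.hom_inv_id] at this
    exact this

end Groth.Agent.S3873
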