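import Groth.Statements.S3857
import Mathlib
import Groth.Agent.S3873
import Groth.Agent.S3865

set_option autoImplicit false
universe u
open FCompl

namespace Groth.Agent.S3857

open CategoryTheory CategoryTheory.Limits AlgebraicGeometry TopologicalSpace

theorem noeth_of_nilpotent_fg {R : Type*} [CommRing R] (J : Ideal R) (hfg : J.FG) (n : ℕ)
    (hn : J ^ n = ⊥) [IsNoetherianRing (R ⧸ J)] : IsNoetherianRing R := by
  apply IsNoetherianRing.of_prime
  intro P hP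
  have hJP : J ≤ P := by
    intro x hx
    apply hP.mem_of_pow_mem n
    have h1 : x ^ n ∈ J ^ n := Ideal.pow_mem_pow hx n
    rw [hn, Ideal.mem_bot] at h1
    rw [h1]
    exact P.zero_mem
  refine Ideal.fg_of_fg_map_of_fg_inf_ker_of_surjective (f := Ideal.Quotient.mk J) ?_ ?_
    Ideal.Quotient.mk_surjective
  · exact IsNoetherian.noetherian _
  · rw [Ideal.mk_ker, inf_eq_right.mpr hJP]; exact hfg

theorem isClosedImmersion_toX (𝔛 : FSch.Sys.{u}) (hF : 𝔛.IsFormal) (m : ℕ) :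
    IsClosedImmersion (𝔛.toX m) := by
  induction m with
  | zero => show IsClosedImmersion (𝟙 _); infer_instance
  | succ m ih =>
    have := (hF m).1
    show IsClosedImmersion (𝔛.toX m ≫ 𝔛.ι m); infer_instance

theorem ker_toX_pow (𝔛 : FSch.Sys.{u}) (hF : 𝔛.IsFormal) (hA : 𝔛.IsAdic) (n : ℕ) :
    (𝔛.toX n).ker ^ (n + 1) = ⊥ := by
  have hcl := isClosedImmersion_toX 𝔛 hF
  have := (hF n).1
  have := hcl (n + 1)
  have hkp : IsPullback (𝟙 (𝔛.X n)) (𝟙 (𝔛.X n)) (𝔛.ι n) (𝔛.ι n) :=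
    IsKernelPair.id_of_mono (𝔛.ι n)
  have hleft : IsPullback (𝔛.toX n) (𝟙 (𝔛.X 0)) (𝟙 (𝔛.X n)) (𝔛.toX n) :=
    IsPullback.of_vert_isIso ⟨by simp⟩
  have hsq : IsPullback (𝔛.toX n) (𝟙 (𝔛.X 0)) (𝔛.ι n) (𝔛.toX (n + 1)) := by
    have h := hleft.paste_horiz hkp
    rw [Category.comp_id] at h
    exact h
  have h1 : (𝔛.toX n).ker = (𝔛.toX (n + 1)).ker.comap (𝔛.ι n) := S3865.ker_of_isPullback hsq
  have h2 : (𝟙 (𝔛.X n) : 𝔛.X n ⟶ 𝔛.X n).ker = (𝔛.ι n).ker.comap (𝔛.ι n) :=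
    S3865.ker_of_isPullback hkp
  rw [h1, ← S3854.comap_pow', ← hA n, ← h2]
  exact Scheme.Hom.ker_eq_bot_of_isIso _

theorem locNoeth_of_thickening {Z X : Scheme.{u}} (i : Z ⟶ X) [IsClosedImmersion i]
    [IsLocallyNoetherian Z] (n : ℕ) (hnil : i.ker ^ n = ⊥)
    {ι : Type*} (S : ι → X.affineOpens) (hS : (⨆ j, (S j : X.Opens)) = ⊤)
    (hfg : ∀ j, (i.ker.ideal (S j)).FG) : IsLocallyNoetherian X := by
  apply isLocallyNoetherian_of_affine_cover hS
  intro j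
  have hsub : IsLocallyNoetherian i.ker.subscheme :=
    isLocallyNoetherian_of_isOpenImmersion (inv i.toImage)
  have hq : IsNoetherianRing (Γ(X, (S j).1) ⧸ i.ker.ideal (S j)) := by
    have : IsNoetherianRing Γ(i.ker.subscheme, i.ker.subschemeι ⁻¹ᵁ (S j).1) :=
      IsLocallyNoetherian.component_noetherian ⟨_, (S j).2.preimage i.ker.subschemeι⟩
    exact isNoetherianRing_of_ringEquiv _ (i.ker.subschemeObjIso (S j)).commRingCatIsoToRingEquiv
  refine noeth_of_nilpotent_fg (i.ker.ideal (S j)) (hfg j) n ?_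
  have := congrArg (fun 𝓘 : X.IdealSheafData => 𝓘.ideal (S j)) hnil
  exact this

theorem locNoeth_of_adic {𝔛 𝔖 : FSch.Sys.{u}} (f : 𝔛 ⟶ 𝔖)
    (h𝔖 : 𝔖.IsLocNoethFormal) (hf : FSch.IsAdicHom f) [IsLocallyNoetherian (𝔛.X 0)] :
    𝔛.IsLocNoethFormal := by
  obtain ⟨hF, hA⟩ := S3865.formal_adic_of_isAdicHom f hf h𝔖.1 h𝔖.2.1
  refine ⟨hF, hA, fun n => ?_⟩
  have hclX := isClosedImmersion_toX 𝔛 hF n
  have hclS := isClosedImmersion_toX 𝔖 h𝔖.1 n
  have hT : ∀ m, IsPullback (𝔛.toX m) ((f : FSch.Hom _ _).app 0) ((f : FSch.Hom _ _).app m)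
      (𝔖.toX m) := by
    intro m
    induction m with
    | zero => exact IsPullback.id_horiz _
    | succ m ih => exact ih.paste_horiz (hf m)
  have hker : (𝔛.toX n).ker = (𝔖.toX n).ker.comap ((f : FSch.Hom _ _).app n) :=
    S3865.ker_of_isPullback (hT n)
  have hSn : IsLocallyNoetherian (𝔖.X n) := h𝔖.2.2 n
  refine locNoeth_of_thickening (𝔛.toX n) (n + 1) (ker_toX_pow 𝔛 hF hA n)
    (ι := {p : (𝔛.X n).affineOpens × (𝔖.X n).affineOpens //
      p.1.1 ≤ ((f : FSch.Hom _ _).app n) ⁻¹ᵁ p.2.1})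
    (S := fun p => p.1.1) ?_ ?_
  · rw [eq_top_iff]
    intro x _
    obtain ⟨_, ⟨U, hU, rfl⟩, hxU, -⟩ :=
      (𝔖.X n).isBasis_affineOpens.exists_subset_of_mem_open
        (Set.mem_univ (((f : FSch.Hom _ _).app n) x)) isOpen_univ
    obtain ⟨_, ⟨V, hV, rfl⟩, hxV, hVU⟩ :=
      (𝔛.X n).isBasis_affineOpens.exists_subset_of_mem_open
        (show x ∈ ((((f : FSch.Hom _ _).app n) ⁻¹ᵁ U : (𝔛.X n).Opens) : Set _) from hxU)
        (((f : FSch.Hom _ _).app n) ⁻¹ᵁ U).isOpen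
    exact Opens.mem_iSup.mpr ⟨⟨(⟨V, hV⟩, ⟨U, hU⟩), hVU⟩, hxV⟩
  · rintro ⟨⟨V, U⟩, e⟩
    show ((𝔛.toX n).ker.ideal V).FG
    rw [hker, Lib.ComapIdeal_helper4.comap_ideal_eq _ _ U V e]
    have : IsNoetherianRing Γ(𝔖.X n, U.1) := IsLocallyNoetherian.component_noetherian U
    exact Ideal.FG.map (IsNoetherian.noetherian _) _


open AlgebraicGeometry in
/-- Here formal schemes are presented as systems of thickenings, an adic morphism being one all of whose
squares are cartesian. Let S_0 -> S_1 -> ... be a locally Noetherian adic formal system and (X_n ->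
S_n) a compatible family of morphisms such that every square X_n -> X_(n+1), S_n -> S_(n+1) is
cartesian. If X_0 is locally Noetherian, then (X_n) is a locally Noetherian adic formal system. -/
theorem result {𝔛 𝔖 : FSch.Sys.{u}} (f : 𝔛 ⟶ 𝔖)
    (h𝔖 : 𝔖.IsLocNoethFormal) (hf : FSch.IsAdicHom f) [IsLocallyNoetherian (𝔛.X 0)] :
    𝔛.IsLocNoethFormal := by
  exact locNoeth_of_adic f h𝔖 hf

end Groth.Agent.S3857
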