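import Groth.Statements.S3853
import Mathlib
import Groth.Agent.S3857

set_option autoImplicit false
universe u
open FCompl

namespace Groth.Agent.S3853

open CategoryTheory CategoryTheory.Limits AlgebraicGeometry TopologicalSpace

theorem le_of_le_sup_sq_of_nilpotent {R : Type*} [CommRing R] (J N : Ideal R) (m : ℕ)
    (hm : J ^ m = ⊥) (h : J ≤ N ⊔ J ^ 2) : J ≤ N := by
  have key : ∀ k : ℕ, 1 ≤ k → J ≤ N ⊔ J ^ k := by
    intro k hk
    induction k, hk using Nat.le_induction with
    | base => rw [pow_one]; exact le_sup_right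
    | succ k hk ih =>
      have h2 : J ^ k ≤ N ⊔ J ^ (k + 1) := by
        obtain ⟨k', rfl⟩ : ∃ k', k = k' + 1 := ⟨k - 1, by omega⟩
        calc J ^ (k' + 1) = J ^ k' * J := pow_succ _ _
          _ ≤ J ^ k' * (N ⊔ J ^ 2) := Ideal.mul_mono_right h
          _ = J ^ k' * N ⊔ J ^ k' * J ^ 2 := Ideal.mul_sup _ _ _
          _ ≤ N ⊔ J ^ (k' + 1 + 1) := by
            apply sup_le_sup Ideal.mul_le_right
            rw [← pow_add]
      exact ih.trans (sup_le le_sup_left h2)
  rcases Nat.eq_zero_or_pos m with rfl | hpos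
  · rw [pow_zero] at hm
    intro x _
    have hx : x ∈ (⊤ : Ideal R) := trivial
    rw [← Ideal.one_eq_top, hm] at hx
    rw [Ideal.mem_bot.mp hx]; exact N.zero_mem
  · have := key m hpos
    rwa [hm, sup_bot_eq] at this

theorem fg_of_quot_noeth {R : Type*} [CommRing R] (J : Ideal R) (n : ℕ) (hn : 1 ≤ n) (m : ℕ)
    (hm : J ^ m = ⊥) (hq : IsNoetherianRing (R ⧸ J ^ (n + 1))) : J.FG := by
  classical
  have hfg : (J.map (Ideal.Quotient.mk (J ^ (n + 1)))).FG := IsNoetherian.noetherian _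
  obtain ⟨t, ht⟩ := hfg
  have hex : ∀ y ∈ t, ∃ x ∈ J, Ideal.Quotient.mk (J ^ (n + 1)) x = y := by
    intro y hy
    have hy' : y ∈ J.map (Ideal.Quotient.mk (J ^ (n + 1))) := by
      rw [← ht]; exact Submodule.subset_span hy
    exact (Ideal.mem_map_iff_of_surjective _ Ideal.Quotient.mk_surjective).mp hy'
  choose! x hxJ hxy using hex
  set N : Ideal R := Ideal.span ((t.image x : Finset R) : Set R) with hN
  have hNfg : N.FG := ⟨t.image x, rfl⟩
  have hNJ : N ≤ J := by
    rw [hN, Ideal.span_le]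
    intro z hz
    rw [Finset.coe_image] at hz
    obtain ⟨y, hy, rfl⟩ := hz
    exact hxJ y hy
  have hmap : N.map (Ideal.Quotient.mk (J ^ (n + 1))) = J.map (Ideal.Quotient.mk (J ^ (n + 1))) := by
    rw [hN, Ideal.map_span, ← ht, Finset.coe_image, Set.image_image]
    congr 1
    ext y
    constructor
    · rintro ⟨y', hy', rfl⟩
      show Ideal.Quotient.mk (J ^ (n + 1)) (x y') ∈ (t : Set _)
      rw [hxy y' hy']; exact hy'
    · intro hy
      exact ⟨y, hy, hxy y hy⟩
  have hle : J ≤ N ⊔ J ^ 2 := by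
    have h1 := congrArg (Ideal.comap (Ideal.Quotient.mk (J ^ (n + 1)))) hmap
    rw [Ideal.comap_map_of_surjective' _ Ideal.Quotient.mk_surjective,
      Ideal.comap_map_of_surjective' _ Ideal.Quotient.mk_surjective, Ideal.mk_ker] at h1
    calc J ≤ J ⊔ J ^ (n + 1) := le_sup_left
      _ = N ⊔ J ^ (n + 1) := h1.symm
      _ ≤ N ⊔ J ^ 2 := sup_le_sup le_rfl (Ideal.pow_le_pow_right (by omega))
  have : J = N := le_antisymm (le_of_le_sup_sq_of_nilpotent J N m hm hle) hNJ
  rw [this]; exact hNfg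


open AlgebraicGeometry in
/-- Levelwise part (formal schemes presented as systems of thickenings X_0 -> X_1 -> ...; the assertion
about the limit ring is in the affine recognition row). Let (X_n) be a system of schemes in which
every transition map is a surjective closed immersion and the kernel ideal of X_n -> X_(n+1) is the
(n+1)-st power of the kernel ideal of X_0 -> X_(n+1). If X_0 is locally Noetherian and the kernel
ideal of X_0 -> X_1 is of finite type, then every X_n is locally Noetherian. -/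
theorem result
    (𝔛 : FSch.Sys.{u}) (hF : 𝔛.IsFormal) (hA : 𝔛.IsAdic) [IsLocallyNoetherian (𝔛.X 0)]
    (hft : FSch.IdealFT (𝔛.ι 0).ker) (n : ℕ) : IsLocallyNoetherian (𝔛.X n) := by
  induction n with
  | zero => infer_instance
  | succ n ih =>
    have hcl := (hF n).1
    have h0 := S3857.ker_toX_pow 𝔛 hF hA (n + 1)
    have hJ : ∀ U : (𝔛.X (n + 1)).affineOpens, ((𝔛.toX (n + 1)).ker.ideal U) ^ (n + 2) = ⊥ :=
      fun U => congrArg (fun 𝓘 : (𝔛.X (n + 1)).IdealSheafData => 𝓘.ideal U) h0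
    have hK : ∀ U : (𝔛.X (n + 1)).affineOpens,
        (𝔛.ι n).ker.ideal U = ((𝔛.toX (n + 1)).ker.ideal U) ^ (n + 1) :=
      fun U => congrArg (fun 𝓘 : (𝔛.X (n + 1)).IdealSheafData => 𝓘.ideal U) (hA n)
    have hnil : (𝔛.ι n).ker ^ 2 = ⊥ := by
      apply le_bot_iff.mp
      intro U
      show ((𝔛.ι n).ker.ideal U) ^ 2 ≤ ⊥
      rw [hK U, ← pow_mul, ← hJ U]
      exact Ideal.pow_le_pow_right (by omega)
    refine S3857.locNoeth_of_thickening (𝔛.ι n) 2 hnil
      (S := fun U : (𝔛.X (n + 1)).affineOpens => U) (iSup_affineOpens_eq_top _) ?_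
    intro U
    rcases Nat.eq_zero_or_pos n with rfl | hpos
    · exact hft U
    · have hsub : IsLocallyNoetherian (𝔛.ι n).ker.subscheme :=
        isLocallyNoetherian_of_isOpenImmersion (inv (𝔛.ι n).toImage)
      have hq : IsNoetherianRing (Γ(𝔛.X (n + 1), U.1) ⧸ (𝔛.ι n).ker.ideal U) := by
        have : IsNoetherianRing Γ((𝔛.ι n).ker.subscheme, (𝔛.ι n).ker.subschemeι ⁻¹ᵁ U.1) :=
          IsLocallyNoetherian.component_noetherian ⟨_, U.2.preimage (𝔛.ι n).ker.subschemeι⟩
        exact isNoetherianRing_of_ringEquiv _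
          ((𝔛.ι n).ker.subschemeObjIso U).commRingCatIsoToRingEquiv
      show ((𝔛.ι n).ker.ideal U).FG
      rw [hK U] at hq ⊢
      exact (fg_of_quot_noeth _ n hpos (n + 2) (hJ U) hq).pow

end Groth.Agent.S3853
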