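import Groth.Statements.S3855
import Mathlib

set_option autoImplicit false
universe u
open FCompl

namespace Groth.Agent.S3855

open CategoryTheory CategoryTheory.Limits AlgebraicGeometry


open AlgebraicGeometry in
/-- Sufficiency (the formal spectrum presented as the system Spec(A/J) -> Spec(A/J^2) -> ...). For a
Noetherian ring A and an ideal J this system is a locally Noetherian adic formal system: the
transition maps are surjective closed immersions, the kernel ideal of Spec(A/J^(n+1)) ->
Spec(A/J^(n+2)) is the (n+1)-st power of that of Spec(A/J) -> Spec(A/J^(n+2)), and every level is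
locally Noetherian. -/
theorem result (A : Type u) [CommRing A] [IsNoetherianRing A] (J : Ideal A) :
    (FSch.spf A J).IsLocNoethFormal := by
  classical
  have K : ∀ (R S : Type u) [CommRing R] [CommRing S] (ψ : R →+* S),
      (Spec.map (CommRingCat.ofHom ψ)).ker.ideal ⟨⊤, isAffineOpen_top _⟩ =
        (RingHom.ker ψ).comap (Scheme.ΓSpecIso (CommRingCat.of R)).hom.hom := by
    intro R S _ _ ψ
    rw [Scheme.Hom.ker_apply]
    ext x
    rw [RingHom.mem_ker, Ideal.mem_comap, RingHom.mem_ker]
    have hnat := Scheme.ΓSpecIso_naturality (CommRingCat.ofHom ψ)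
    have h1 := congrArg (fun t => t.hom x) hnat
    simp only [CommRingCat.hom_comp, RingHom.comp_apply, CommRingCat.hom_ofHom] at h1
    rw [← h1]
    have hinj : Function.Injective (Scheme.ΓSpecIso (CommRingCat.of S)).hom.hom :=
      (ConcreteCategory.bijective_of_isIso (Scheme.ΓSpecIso (CommRingCat.of S)).hom).injective
    constructor
    · intro h
      have h' : (Scheme.Hom.appTop (Spec.map (CommRingCat.ofHom ψ))).hom x = 0 := h
      rw [h']; exact map_zero _
    · intro h
      apply hinj
      exact h.trans (map_zero _).symm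
  have hcomap : ∀ (R : Type u) [CommRing R] (I : Ideal R),
      I.comap (Scheme.ΓSpecIso (CommRingCat.of R)).hom.hom =
        I.map (Scheme.ΓSpecIso (CommRingCat.of R)).commRingCatIsoToRingEquiv.symm := by
    intro R _ I
    rw [Ideal.map_symm]
    rfl
  have hle : ∀ n : ℕ, J ^ (n + 2) ≤ J ^ (n + 1) :=
    fun n => Ideal.pow_le_pow_right (Nat.le_succ (n + 1))
  have hι : ∀ n, (FSch.spf A J).ι n =
      Spec.map (CommRingCat.ofHom (Ideal.Quotient.factor (hle n))) := fun n => rfl
  have hformal : (FSch.spf A J).IsFormal := by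
    intro n
    rw [hι]
    refine ⟨IsClosedImmersion.spec_of_surjective _ (Ideal.Quotient.factor_surjective (hle n)), ?_⟩
    intro (𝔮 : PrimeSpectrum (A ⧸ J ^ (n + 2)))
    have hker : RingHom.ker (Ideal.Quotient.factor (hle n)) ≤ 𝔮.asIdeal := by
      intro x hx
      obtain ⟨a, rfl⟩ := Ideal.Quotient.mk_surjective x
      rw [RingHom.mem_ker, Ideal.Quotient.factor_mk, Ideal.Quotient.eq_zero_iff_mem] at hx
      have h2 : a ^ 2 ∈ J ^ (n + 2) := by
        have : a ^ 2 ∈ (J ^ (n + 1)) ^ 2 := Ideal.pow_mem_pow hx 2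
        rw [← pow_mul] at this
        exact Ideal.pow_le_pow_right (by omega) this
      have h3 : (Ideal.Quotient.mk (J ^ (n + 2)) a) ^ 2 = 0 := by
        rw [← map_pow, Ideal.Quotient.eq_zero_iff_mem]; exact h2
      exact 𝔮.isPrime.mem_of_pow_mem 2 (h3 ▸ 𝔮.asIdeal.zero_mem)
    have hprime : (𝔮.asIdeal.map (Ideal.Quotient.factor (hle n))).IsPrime :=
      Ideal.map_isPrime_of_surjective (Ideal.Quotient.factor_surjective (hle n)) hker
    refine ⟨(⟨_, hprime⟩ : PrimeSpectrum (A ⧸ J ^ (n + 1))), ?_⟩
    apply PrimeSpectrum.ext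
    show (𝔮.asIdeal.map (Ideal.Quotient.factor (hle n))).comap (Ideal.Quotient.factor (hle n)) =
      𝔮.asIdeal
    rw [Ideal.comap_map_of_surjective' _ (Ideal.Quotient.factor_surjective (hle n)), sup_eq_left]
    exact hker
  have htoX : ∀ m : ℕ, ∃ h : J ^ (m + 1) ≤ J ^ (0 + 1),
      (FSch.spf A J).toX m = Spec.map (CommRingCat.ofHom (Ideal.Quotient.factor h)) := by
    intro m
    induction m with
    | zero =>
      refine ⟨le_refl _, ?_⟩
      show 𝟙 _ = _
      rw [Ideal.Quotient.factor_eq, CommRingCat.ofHom_id, Spec.map_id]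
      rfl
    | succ m ih =>
      obtain ⟨h, hm⟩ := ih
      refine ⟨(hle m).trans h, ?_⟩
      show (FSch.spf A J).toX m ≫ (FSch.spf A J).ι m = _
      rw [hm, hι]
      show Spec.map (CommRingCat.ofHom (Ideal.Quotient.factor h)) ≫
        Spec.map (CommRingCat.ofHom (Ideal.Quotient.factor (hle m))) = _
      rw [← Spec.map_comp, ← CommRingCat.ofHom_comp, Ideal.Quotient.factor_comp]
  have hadic : (FSch.spf A J).IsAdic := by
    intro n
    obtain ⟨h, hm⟩ := htoX (n + 1)
    rw [hm, hι]
    show ((Spec.map (CommRingCat.ofHom (Ideal.Quotient.factor (hle n)))).ker :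
        (Spec (CommRingCat.of (A ⧸ J ^ (n + 2)))).IdealSheafData) =
      (Spec.map (CommRingCat.ofHom (Ideal.Quotient.factor h))).ker ^ (n + 1)
    apply Scheme.IdealSheafData.ext_of_isAffine
    rw [K]
    show _ = ((Spec.map (CommRingCat.ofHom (Ideal.Quotient.factor h))).ker.ideal
      ⟨⊤, isAffineOpen_top _⟩) ^ (n + 1)
    rw [K, Ideal.Quotient.factor_ker, Ideal.Quotient.factor_ker, hcomap, hcomap, ← Ideal.map_pow,
      ← Ideal.map_pow, ← pow_mul]
    have h3 : (0 + 1) * (n + 1) = n + 1 := by omega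
    rw [h3]
  refine ⟨hformal, hadic, fun n => ?_⟩
  have : IsNoetherianRing (CommRingCat.of (A ⧸ J ^ (n + 1))) :=
    inferInstanceAs (IsNoetherianRing (A ⧸ J ^ (n + 1)))
  show IsLocallyNoetherian (Spec (CommRingCat.of (A ⧸ J ^ (n + 1))))
  infer_instance

end Groth.Agent.S3855
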