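import Groth.Statements.S3856
import Mathlib
import Groth.Agent.Lib.CompleteNoeth_lead

set_option autoImplicit false
universe u
open AdicRing

namespace Groth.Agent.S3856

/-- Let A be a ring that is complete and separated for the J-adic topology of an ideal J. If A/J² is
Noetherian (equivalently, A/J is Noetherian and J/J² is a finitely generated A/J-module), then A is
Noetherian. The published statement is phrased for a formal spectrum Spf(A) all of whose levels
Spec(A/J^(n+1)) are Noetherian; it is stated here with the weaker hypothesis that A/J² is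
Noetherian. -/
theorem result (A : Type u) [CommRing A]
    (J : Ideal A) [IsAdicComplete J A] [IsNoetherianRing (A ⧸ J ^ 2)] : IsNoetherianRing A := by
  haveI : IsNoetherianRing (A ⧸ J) :=
    isNoetherianRing_of_surjective (A ⧸ J ^ 2) (A ⧸ J)
      (Ideal.Quotient.factor (Ideal.pow_le_self two_ne_zero))
      (Ideal.Quotient.factor_surjective _)
  have hfg : (J.map (Ideal.Quotient.mk (J ^ 2))).FG := IsNoetherian.noetherian _
  obtain ⟨n, ybar, hy⟩ := Submodule.fg_iff_exists_fin_generating_family.1 hfg
  have hlift : ∀ i, ∃ y ∈ J, Ideal.Quotient.mk (J ^ 2) y = ybar i := fun i => by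
    have : ybar i ∈ J.map (Ideal.Quotient.mk (J ^ 2)) := hy ▸ Submodule.subset_span ⟨i, rfl⟩
    exact (Ideal.mem_map_iff_of_surjective _ Ideal.Quotient.mk_surjective).1 this
  choose y hyJ hyb using hlift
  refine Groth.Agent.Lib.CompleteNoethLead.isNoetherianRing_of_isAdicComplete J y hyJ ?_
  intro z hz
  have h1 : Ideal.Quotient.mk (J ^ 2) z ∈
      Ideal.map (Ideal.Quotient.mk (J ^ 2)) (Ideal.span (Set.range y)) := by
    rw [Ideal.map_span]
    have : (Ideal.Quotient.mk (J ^ 2)) '' Set.range y = Set.range ybar := by
      rw [← Set.range_comp]; congr 1; ext i; exact hyb i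
    rw [this]
    show _ ∈ Submodule.span _ _
    rw [hy]
    exact Ideal.mem_map_of_mem _ hz
  obtain ⟨w, hw, hwz⟩ := (Ideal.mem_map_iff_of_surjective _ Ideal.Quotient.mk_surjective).1 h1
  have h2 : z - w ∈ J ^ 2 := Ideal.Quotient.eq.1 hwz.symm
  have : z = w + (z - w) := by ring
  rw [this]
  exact Submodule.add_mem_sup hw h2

end Groth.Agent.S3856
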