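import Groth.Statements.S3859
import Mathlib

set_option autoImplicit false
universe u
open FCompl

namespace Groth.Agent.S3859

open CategoryTheory CategoryTheory.Limits AlgebraicGeometry


open AlgebraicGeometry in
open CategoryTheory in
/-- In the presentation by systems of thickenings: For morphisms of systems X -> S and Y -> S, the
levelwise fibre product with its two projections is a fibre product in the category of systems; it
presents the fibre product of formal schemes when one factor is adic over the base, and otherwise
only up to cofinality of the levels. -/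
theorem result {𝔛 𝔜 𝔖 : FSch.Sys.{u}} (f : 𝔛 ⟶ 𝔖) (g : 𝔜 ⟶ 𝔖) :
    IsPullback (FSch.pullbackFst f g) (FSch.pullbackSnd f g) f g := by
  have w : FSch.pullbackFst f g ≫ f = FSch.pullbackSnd f g ≫ g := by
    apply FSch.Hom.ext
    funext n
    exact pullback.condition
  have hcond : ∀ (s : PullbackCone f g) (n : ℕ),
      (s.fst : FSch.Hom _ _).app n ≫ (f : FSch.Hom _ _).app n =
        (s.snd : FSch.Hom _ _).app n ≫ (g : FSch.Hom _ _).app n :=
    fun s n => congrArg (fun t : FSch.Hom _ _ => t.app n) s.condition
  let L : ∀ s : PullbackCone f g, s.pt ⟶ FSch.pullbackSys f g := fun s =>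
    (⟨fun n => pullback.lift _ _ (hcond s n), fun n => by
      apply pullback.hom_ext
      · have := (s.fst : FSch.Hom _ _).comm n
        simp only [FSch.pullbackSys, Category.assoc]
        erw [pullback.lift_fst, pullback.lift_fst, pullback.lift_fst_assoc]
        exact this
      · have := (s.snd : FSch.Hom _ _).comm n
        simp only [FSch.pullbackSys, Category.assoc]
        erw [pullback.lift_snd, pullback.lift_snd, pullback.lift_snd_assoc]
        exact this⟩ : FSch.Hom _ _)
  refine ⟨⟨w⟩, ⟨PullbackCone.IsLimit.mk w L (fun s => ?_) (fun s => ?_) (fun s m h1 h2 => ?_)⟩⟩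
  · apply FSch.Hom.ext
    funext n
    exact pullback.lift_fst _ _ _
  · apply FSch.Hom.ext
    funext n
    exact pullback.lift_snd _ _ _
  · apply FSch.Hom.ext
    funext n
    apply pullback.hom_ext
    · have := congrArg (fun t : FSch.Hom _ _ => t.app n) h1
      exact this.trans (pullback.lift_fst _ _ _).symm
    · have := congrArg (fun t : FSch.Hom _ _ => t.app n) h2
      exact this.trans (pullback.lift_snd _ _ _).symm

end Groth.Agent.S3859
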