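import Groth.Statements.S3860
import Mathlib

set_option autoImplicit false
universe u
open FCompl

namespace Groth.Agent.S3860

open CategoryTheory CategoryTheory.Limits AlgebraicGeometry


open AlgebraicGeometry in
/-- (Affine adic case; the formal spectra presented as the systems Spec(A/I^(n+1)) and Spec(B/K^(n+1)).)
Let I be an ideal of a ring A which is complete and separated for the I-adic topology, and K an
ideal of a ring B. Then φ ↦ (Spec of the induced maps B/K^(n+1) -> A/I^(n+1)) is a bijection from
the ring homomorphisms φ : B -> A with φ(K) ⊆ I onto the morphisms of systems from Spf(A) to Spf(B),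
i.e. the compatible families of morphisms Spec(A/I^(n+1)) -> Spec(B/K^(n+1)). -/
theorem result (A B : Type u) [CommRing A] [CommRing B] (I : Ideal A) (K : Ideal B)
    [IsAdicComplete I A] :
    Function.Bijective (fun φ : {φ : B →+* A // K ≤ I.comap φ} ↦ FSch.spfMap I K φ.1 φ.2) := by
  have ha : StrictMono (fun n : ℕ => n + 1) := fun a b h => Nat.succ_lt_succ h
  constructor
  · rintro ⟨φ₁, h₁⟩ ⟨φ₂, h₂⟩ heq
    apply Subtype.ext
    show φ₁ = φ₂
    have happ : ∀ n, FSch.quotPowMap I K φ₁ h₁ n = FSch.quotPowMap I K φ₂ h₂ n := by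
      intro n
      have h1 : (FSch.spfMap I K φ₁ h₁ : FSch.Hom _ _).app n =
          (FSch.spfMap I K φ₂ h₂ : FSch.Hom _ _).app n :=
        congrArg (fun f : FSch.spf A I ⟶ FSch.spf B K => (f : FSch.Hom _ _).app n) heq
      rw [FSch.spfMap_app, FSch.spfMap_app] at h1
      have h2 := Spec.map_injective h1
      exact congrArg CommRingCat.Hom.hom h2
    apply DFunLike.coe_injective
    apply IsHausdorff.StrictMono.funext' I ha
    intro n b
    have := congrArg (fun g => g (Ideal.Quotient.mk (K ^ (n + 1)) b)) (happ n)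
    exact this
  · intro f
    -- preimages of the levels
    have hex : ∀ n, ∃ ψ : B ⧸ K ^ (n + 1) →+* A ⧸ I ^ (n + 1),
        (f : FSch.Hom _ _).app n = Spec.map (CommRingCat.ofHom ψ) := by
      intro n
      obtain ⟨ψ, hψ⟩ := Spec.map_surjective ((f : FSch.Hom _ _).app n)
      exact ⟨ψ.hom, hψ.symm⟩
    choose ψ hψ using hex
    have hcompat : ∀ n, (ψ n).comp (Ideal.Quotient.factor (Ideal.pow_le_pow_right (Nat.le_succ (n + 1)))) =
        (Ideal.Quotient.factor (Ideal.pow_le_pow_right (Nat.le_succ (n + 1)))).comp (ψ (n + 1)) := by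
      intro n
      have hc := (f : FSch.Hom _ _).comm n
      rw [hψ n, hψ (n + 1)] at hc
      change Spec.map _ ≫ Spec.map _ = Spec.map _ ≫ Spec.map _ at hc
      rw [← Spec.map_comp, ← Spec.map_comp, ← CommRingCat.ofHom_comp, ← CommRingCat.ofHom_comp] at hc
      exact congrArg CommRingCat.Hom.hom (Spec.map_injective hc)
    let g : (n : ℕ) → B →+* A ⧸ I ^ (n + 1) := fun n => (ψ n).comp (Ideal.Quotient.mk (K ^ (n + 1)))
    have hg : ∀ {m : ℕ}, (Ideal.Quotient.factorPow I (ha.monotone m.le_succ)).comp (g (m + 1)) = g m := by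
      intro m
      ext b
      have := congrArg (fun t => t (Ideal.Quotient.mk (K ^ (m + 2)) b)) (hcompat m)
      exact this.symm
    let φ : B →+* A := IsAdicComplete.StrictMono.liftRingHom I ha g hg
    have hφ : ∀ n b, Ideal.Quotient.mk (I ^ (n + 1)) (φ b) = g n b := fun n b =>
      IsAdicComplete.StrictMono.mk_liftRingHom I ha g hg b
    have hK : K ≤ I.comap φ := by
      intro b hb
      rw [Ideal.mem_comap]
      have h0 := hφ 0 b
      have hb0 : Ideal.Quotient.mk (K ^ (0 + 1)) b = 0 := by
        rw [Ideal.Quotient.eq_zero_iff_mem]; simpa using hb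
      have : g 0 b = 0 := by
        show (ψ 0) (Ideal.Quotient.mk (K ^ (0 + 1)) b) = 0
        rw [hb0, map_zero]
      rw [this, Ideal.Quotient.eq_zero_iff_mem] at h0
      simpa using h0
    refine ⟨⟨φ, hK⟩, ?_⟩
    apply FSch.Hom.ext
    funext n
    show (FSch.spfMap I K φ hK : FSch.Hom _ _).app n = (f : FSch.Hom _ _).app n
    rw [FSch.spfMap_app, hψ n]
    congr 2
    apply Ideal.Quotient.ringHom_ext
    ext b
    exact hφ n b

end Groth.Agent.S3860
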