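import Groth.Statements.S3864
import Mathlib
import Groth.Agent.Lib.FormalMod6_helper5

set_option autoImplicit false
universe u
open FCompl

namespace Groth.Agent.S3864

open AlgebraicGeometry in
open CategoryTheory in
/-- b) ⟺ c), in the strong form that keeps the transition isomorphisms (the formal spectrum of A
presented as the system of closed subschemes of Spec A cut out by the powers of J). Let A be
Noetherian, complete and separated for the J-adic topology. Every system of coherent modules F_n on
these subschemes, given with isomorphisms identifying the restriction of F_(n+1) with F_n, is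
isomorphic as a system to M^Δ for some finite A-module M. -/
theorem result (A : Type u) [CommRing A] [IsNoetherianRing A]
    (J : Ideal A) [IsAdicComplete J A]
    (𝔐 : FSch.ModSys (FSch.completionAlong (Spec (CommRingCat.of A)) (FSch.idealSpec A J)))
    (h𝔐 : 𝔐.IsCoh) :
    ∃ M : ModuleCat.{u} A, Module.Finite A M ∧
      Nonempty (𝔐 ≅ FSch.complMod (FSch.idealSpec A J) (tilde M)) := by
  classical
  obtain ⟨M₀, i1, i2, hfin, ψ, hψsm, hψsurj, hψker, hψtr⟩ :=
    Groth.Agent.FormalMod.exists_limit_module 𝔐 J (Groth.Agent.FormalMod.rhoC A J)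
      (Groth.Agent.FormalMod.isAffine_cSpec A J) (Groth.Agent.FormalMod.rhoC_compat A J)
      (Groth.Agent.FormalMod.rhoC_surjective A J) (Groth.Agent.FormalMod.ker_rhoC A J) h𝔐
  refine ⟨ModuleCat.of A M₀, hfin, ?_⟩
  refine Groth.Agent.FormalMod.nonempty_iso_complMod (R := CommRingCat.of A)
    (FSch.idealSpec A J) (ModuleCat.of A M₀) 𝔐 (Groth.Agent.FormalMod.isAffine_cSpec A J)
    (fun n => (h𝔐 n).1) (Groth.Agent.FormalMod.rhoC_surjective A J) ψ hψsm hψsurj
    (fun n m hm => ?_) hψtr
  have h2 : RingHom.ker (Groth.Agent.FormalMod.rhoOf (R := CommRingCat.of A)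
      (FSch.completionToX (Spec (CommRingCat.of A)) (FSch.idealSpec A J) n)) =
      J ^ (n + 1) := Groth.Agent.FormalMod.ker_rhoC A J n
  rw [h2]
  exact (hψker n m).mp hm

end Groth.Agent.S3864
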