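import Groth.Statements.S3867
import Mathlib
import Groth.Agent.S3873
import Groth.Agent.S3865

set_option autoImplicit false
universe u
open FCompl

namespace Groth.Agent.S3867

open CategoryTheory CategoryTheory.Limits AlgebraicGeometry TopologicalSpace

theorem kerTop (R S : Type u) [CommRing R] [CommRing S] (ψ : R →+* S) :
    (Spec.map (CommRingCat.ofHom ψ)).ker.ideal ⟨⊤, isAffineOpen_top _⟩ =
      (RingHom.ker ψ).comap (Scheme.ΓSpecIso (CommRingCat.of R)).hom.hom := by
  rw [Scheme.Hom.ker_apply]
  ext x
  rw [RingHom.mem_ker, Ideal.mem_comap, RingHom.mem_ker]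
  have hnat := Scheme.ΓSpecIso_naturality (CommRingCat.ofHom ψ)
  have h1 := congrArg (fun t => t.hom x) hnat
  simp only [CommRingCat.hom_comp, RingHom.comp_apply, CommRingCat.hom_ofHom] at h1
  rw [← h1]
  have hinj : Function.Injective (Scheme.ΓSpecIso (CommRingCat.of S)).hom.hom :=
    (ConcreteCategory.bijective_of_isIso (Scheme.ΓSpecIso (CommRingCat.of S)).hom).injective
  constructor
  · intro h
    have h' : (Scheme.Hom.appTop (Spec.map (CommRingCat.ofHom ψ))).hom x = 0 := h
    rw [h']; exact map_zero _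
  · intro h
    apply hinj
    exact h.trans (map_zero _).symm

theorem ker_specMap (R S : Type u) [CommRing R] [CommRing S] (ψ : R →+* S) :
    (Spec.map (CommRingCat.ofHom ψ)).ker = FSch.idealSpec R (RingHom.ker ψ) := by
  apply Scheme.IdealSheafData.ext_of_isAffine
  unfold FSch.idealSpec
  rw [kerTop, kerTop, Ideal.mk_ker]

theorem idealSpec_injective (R : Type u) [CommRing R] : Function.Injective (FSch.idealSpec R) := by
  intro J₁ J₂ h
  have h1 := congrArg (fun 𝓘 => 𝓘.ideal ⟨⊤, isAffineOpen_top _⟩) h
  simp only at h1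
  unfold FSch.idealSpec at h1
  rw [kerTop, kerTop, Ideal.mk_ker, Ideal.mk_ker] at h1
  exact Ideal.comap_injective_of_surjective _
    (ConcreteCategory.bijective_of_isIso (Scheme.ΓSpecIso (CommRingCat.of R)).hom).surjective h1


open AlgebraicGeometry in
/-- Formal spectra are presented as the systems Spec(A/I^(n+1)) and Spec(B/K^(n+1)), a morphism of
systems being adic when all its squares are cartesian. Let A be a Noetherian ring, complete and
separated for the I-adic topology of an ideal I, K an ideal of a ring B and φ : B → A a ring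
homomorphism with φ(K) ⊆ I. Then the induced morphism Spf(A) → Spf(B) is adic if and only if the
ideal of A generated by φ(K) is I. -/
theorem result (A B : Type u) [CommRing A] [CommRing B] [IsNoetherianRing A]
    (I : Ideal A) (K : Ideal B) [IsAdicComplete I A] (φ : B →+* A) (h : K ≤ I.comap φ) :
    FSch.IsAdicHom (FSch.spfMap I K φ h) ↔ K.map φ = I := by
  have hle : ∀ n : ℕ, I ^ (n + 2) ≤ I ^ (n + 1) :=
    fun n => Ideal.pow_le_pow_right (Nat.le_succ (n + 1))
  have hleK : ∀ n : ℕ, K ^ (n + 2) ≤ K ^ (n + 1) :=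
    fun n => Ideal.pow_le_pow_right (Nat.le_succ (n + 1))
  have hιA : ∀ n, (FSch.spf A I).ι n =
      Spec.map (CommRingCat.ofHom (Ideal.Quotient.factor (hle n))) := fun n => rfl
  have hιB : ∀ n, (FSch.spf B K).ι n =
      Spec.map (CommRingCat.ofHom (Ideal.Quotient.factor (hleK n))) := fun n => rfl
  have hclA : ∀ n, IsClosedImmersion ((FSch.spf A I).ι n) := by
    intro n
    rw [hιA]
    exact IsClosedImmersion.spec_of_surjective _ (Ideal.Quotient.factor_surjective (hle n))
  have hclB : ∀ n, IsClosedImmersion ((FSch.spf B K).ι n) := by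
    intro n
    rw [hιB]
    exact IsClosedImmersion.spec_of_surjective _ (Ideal.Quotient.factor_surjective (hleK n))
  have hkA : ∀ n, ((FSch.spf A I).ι n).ker = FSch.idealSpec (A ⧸ I ^ (n + 2))
      ((I ^ (n + 1)).map (Ideal.Quotient.mk (I ^ (n + 2)))) := by
    intro n
    show (Spec.map (CommRingCat.ofHom (Ideal.Quotient.factor (hle n)))).ker = _
    rw [ker_specMap, Ideal.Quotient.factor_ker]
  have hkB : ∀ n, (((FSch.spf B K).ι n).ker).comap ((FSch.spfMap I K φ h : FSch.Hom _ _).app (n + 1)) =
      FSch.idealSpec (A ⧸ I ^ (n + 2)) (((K.map φ) ^ (n + 1)).map (Ideal.Quotient.mk (I ^ (n + 2)))) := by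
    intro n
    show ((Spec.map (CommRingCat.ofHom (Ideal.Quotient.factor (hleK n)))).ker).comap
      (Spec.map (CommRingCat.ofHom (FSch.quotPowMap I K φ h (n + 1)))) = _
    rw [ker_specMap, Ideal.Quotient.factor_ker, S3873.result]
    congr 1
    rw [Ideal.map_map, ← Ideal.map_pow, Ideal.map_map]
    rfl
  constructor
  · intro hadic
    have := hclB 0
    have h0 := S3865.ker_of_isPullback (hadic 0)
    rw [hkA, hkB] at h0
    have h1 := idealSpec_injective _ h0
    have h2 := congrArg (Ideal.comap (Ideal.Quotient.mk (I ^ (0 + 2)))) h1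
    rw [Ideal.comap_map_of_surjective' _ Ideal.Quotient.mk_surjective,
      Ideal.comap_map_of_surjective' _ Ideal.Quotient.mk_surjective, Ideal.mk_ker] at h2
    simp only [zero_add, pow_one] at h2
    have hKI : K.map φ ≤ I := Ideal.map_le_iff_le_comap.mpr h
    apply le_antisymm hKI
    have hfg : I.FG := IsNoetherian.noetherian _
    refine Submodule.le_of_le_smul_of_le_jacobson_bot hfg (IsAdicComplete.le_jacobson_bot I) ?_
    rw [smul_eq_mul, ← pow_two, ← h2]
    exact le_sup_left
  · intro hKI n
    have := hclB n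
    have := hclA n
    refine isPullback_of_isClosedImmersion ((FSch.spf A I).ι n) ((FSch.spf B K).ι n)
      ((FSch.spfMap I K φ h : FSch.Hom _ _).app n) ((FSch.spfMap I K φ h : FSch.Hom _ _).app (n + 1)) ?_ ?_
    · exact ((FSch.spfMap I K φ h : FSch.Hom _ _).comm n).symm
    · rw [hkA, hkB, hKI]

end Groth.Agent.S3867
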