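import Groth.Statements.S3872
import Mathlib

set_option autoImplicit false
universe u
open FCompl

namespace Groth.Agent.S3872

set_option backward.isDefEq.respectTransparency false in
theorem complMap_of {S T : Type u} [CommRing S] [CommRing T] (I : Ideal S) (K : Ideal T)
    (g : S →+* T) (h : I.map g ≤ K) (x : S) :
    FSch.complMap I K g h (AdicCompletion.of I S x) = AdicCompletion.of K T (g x) := by
  apply AdicCompletion.ext_evalₐ
  intro m
  rw [FSch.complMap, AdicCompletion.evalₐ_liftRingHom]
  · simp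
  · intro m n hle
    apply RingHom.ext
    intro x
    obtain ⟨y, rfl⟩ := AdicCompletion.mk_surjective I S x
    simp only [RingHom.coe_comp, Function.comp_apply, AlgHom.toRingHom_eq_coe, AlgHom.coe_toRingHom,
      AdicCompletion.evalₐ_mk, Ideal.quotientMap_mk, Ideal.Quotient.factorPow, Ideal.Quotient.factor_mk]
    rw [Ideal.Quotient.eq]
    have hy := y.2 hle
    rw [SModEq.sub_mem] at hy
    simp only [smul_eq_mul, Ideal.mul_top] at hy
    rw [← map_sub]
    have hy' : (y : ℕ → S) n - (y : ℕ → S) m ∈ I ^ m := by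
      rw [← neg_sub]; exact (I ^ m).neg_mem hy
    exact FSch.pow_le_comap_pow_of_map_le I K g h m hy'


/-- For a ring A, an ideal J and a prime ideal 𝔭 with J ⊆ 𝔭, let A{S⁻¹}, S = A ∖ 𝔭, be the completion of
A_𝔭 for the topology defined by the extension of J, and A_{S} the subring of A{S⁻¹} generated by the
images of the completed localizations A_{f}, f ∉ 𝔭 (the stalk ring of Spf(A) at 𝔭). Given that A_{S}
and A{S⁻¹} are local rings and that the inclusion A_{S} → A{S⁻¹} and the canonical map A_𝔭 → A{S⁻¹}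
are local homomorphisms (all four are carried here as instance hypotheses; the two about A_{S} are
stated separately), both maps induce bijections on residue fields; so the residue field of A_{S} is
the residue field κ(𝔭) of A_𝔭. -/
theorem result (A : Type u) [CommRing A] (J : Ideal A) (𝔭 : Ideal A)
    [𝔭.IsPrime] (hJ : J ≤ 𝔭) [IsLocalRing (FSch.stalkSubring A J 𝔭)] [IsLocalRing (FSch.cAtPrime A J 𝔭)]
    [IsLocalHom (FSch.stalkSubring A J 𝔭).subtype]
    [IsLocalHom (algebraMap (Localization.AtPrime 𝔭) (FSch.cAtPrime A J 𝔭))] :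
    Function.Bijective (IsLocalRing.ResidueField.map (FSch.stalkSubring A J 𝔭).subtype) ∧
      Function.Bijective
        (IsLocalRing.ResidueField.map (algebraMap (Localization.AtPrime 𝔭) (FSch.cAtPrime A J 𝔭))) := by
  classical
  have hKle : J.map (algebraMap A (Localization.AtPrime 𝔭)) ≤
      IsLocalRing.maximalIdeal (Localization.AtPrime 𝔭) := by
    rw [Ideal.map_le_iff_le_comap]
    intro j hj
    rw [Ideal.mem_comap]
    exact (IsLocalization.AtPrime.to_map_mem_maximal_iff (Localization.AtPrime 𝔭) 𝔭 j).mpr (hJ hj)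
  have hmem : ∀ y : FSch.cAtPrime A J 𝔭,
      AdicCompletion.evalₐ (J.map (algebraMap A (Localization.AtPrime 𝔭))) 1 y = 0 →
        y ∈ IsLocalRing.maximalIdeal (FSch.cAtPrime A J 𝔭) := by
    intro y hy
    rw [IsLocalRing.mem_maximalIdeal, mem_nonunits_iff]
    intro hu
    have hu' := hu.map (AdicCompletion.evalₐ (J.map (algebraMap A (Localization.AtPrime 𝔭))) 1)
    rw [hy] at hu'
    have h1 : (J.map (algebraMap A (Localization.AtPrime 𝔭))) ^ 1 = ⊤ := by
      rw [← Ideal.Quotient.subsingleton_iff]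
      exact subsingleton_of_zero_eq_one (isUnit_zero_iff.mp hu')
    rw [pow_one] at h1
    exact (IsLocalRing.maximalIdeal.isMaximal _).ne_top (top_le_iff.mp (h1 ▸ hKle))
  have hdecomp : ∀ x : FSch.cAtPrime A J 𝔭, ∃ a : Localization.AtPrime 𝔭,
      x - AdicCompletion.of (J.map (algebraMap A (Localization.AtPrime 𝔭))) (Localization.AtPrime 𝔭) a ∈
        IsLocalRing.maximalIdeal (FSch.cAtPrime A J 𝔭) := by
    intro x
    obtain ⟨a, ha⟩ := Ideal.Quotient.mk_surjective
      (AdicCompletion.evalₐ (J.map (algebraMap A (Localization.AtPrime 𝔭))) 1 x)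
    refine ⟨a, hmem _ ?_⟩
    rw [map_sub, AdicCompletion.evalₐ_of, ha, sub_self]
  have hstalk : ∀ a : Localization.AtPrime 𝔭,
      AdicCompletion.of (J.map (algebraMap A (Localization.AtPrime 𝔭))) (Localization.AtPrime 𝔭) a ∈
        FSch.stalkSubring A J 𝔭 := by
    intro a
    obtain ⟨b, y, rfl⟩ := IsLocalization.exists_mk'_eq 𝔭.primeCompl a
    obtain ⟨s, hs⟩ := y
    have hs' : s ∉ 𝔭 := hs
    apply (le_iSup (fun f : {f : A // f ∉ 𝔭} => (FSch.cAwayToAtPrime A J 𝔭 f.1 f.2).range)
      (⟨s, hs'⟩ : {f : A // f ∉ 𝔭}))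
    have hcomp : ∀ a' : Localization.Away s, FSch.cAwayToAtPrime A J 𝔭 s hs'
        (AdicCompletion.of (J.map (algebraMap A (Localization.Away s))) (Localization.Away s) a') =
        AdicCompletion.of (J.map (algebraMap A (Localization.AtPrime 𝔭))) (Localization.AtPrime 𝔭)
          (FSch.awayToAtPrime A 𝔭 s hs' a') := by
      intro a'
      unfold FSch.cAwayToAtPrime
      exact complMap_of _ _ _ _ a'
    have hg : ∀ c : A, FSch.awayToAtPrime A 𝔭 s hs' (algebraMap A (Localization.Away s) c) =
        algebraMap A (Localization.AtPrime 𝔭) c := by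
      intro c
      unfold FSch.awayToAtPrime
      exact IsLocalization.Away.lift_eq _ _ _
    refine ⟨AdicCompletion.of _ _
      (IsLocalization.mk' (Localization.Away s) b (⟨s, Submonoid.mem_powers s⟩ : Submonoid.powers s)), ?_⟩
    rw [hcomp]
    congr 1
    have h1 : FSch.awayToAtPrime A 𝔭 s hs'
        (IsLocalization.mk' (Localization.Away s) b (⟨s, Submonoid.mem_powers s⟩ : Submonoid.powers s)) *
        algebraMap A (Localization.AtPrime 𝔭) s = algebraMap A (Localization.AtPrime 𝔭) b := by
      rw [← hg s, ← map_mul]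
      have := IsLocalization.mk'_spec (Localization.Away s) b (⟨s, Submonoid.mem_powers s⟩ : Submonoid.powers s)
      rw [this, hg]
    have h2 : IsLocalization.mk' (Localization.AtPrime 𝔭) b (⟨s, hs⟩ : 𝔭.primeCompl) *
        algebraMap A (Localization.AtPrime 𝔭) s = algebraMap A (Localization.AtPrime 𝔭) b :=
      IsLocalization.mk'_spec _ _ _
    have hunit : IsUnit (algebraMap A (Localization.AtPrime 𝔭) s) :=
      IsLocalization.map_units _ (⟨s, hs⟩ : 𝔭.primeCompl)
    exact hunit.mul_left_injective (h1.trans h2.symm)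
  constructor
  · refine ⟨(IsLocalRing.ResidueField.map (FSch.stalkSubring A J 𝔭).subtype).injective, ?_⟩
    intro z
    obtain ⟨x, rfl⟩ := IsLocalRing.residue_surjective z
    obtain ⟨a, ha⟩ := hdecomp x
    refine ⟨IsLocalRing.residue _ ⟨_, hstalk a⟩, ?_⟩
    rw [IsLocalRing.ResidueField.map_residue]
    symm
    exact Ideal.Quotient.eq.mpr ha
  · refine ⟨(IsLocalRing.ResidueField.map
      (algebraMap (Localization.AtPrime 𝔭) (FSch.cAtPrime A J 𝔭))).injective, ?_⟩
    intro z
    obtain ⟨x, rfl⟩ := IsLocalRing.residue_surjective z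
    obtain ⟨a, ha⟩ := hdecomp x
    refine ⟨IsLocalRing.residue _ a, ?_⟩
    rw [IsLocalRing.ResidueField.map_residue]
    symm
    exact Ideal.Quotient.eq.mpr ha

end Groth.Agent.S3872
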