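import Groth.Statements.S3874
import Mathlib

set_option autoImplicit false
universe u
open FCompl

namespace Groth.Agent.S3874

section aux
variable {R : Type u} [CommRing R] (K : Ideal R) (hKfg : K.FG) (m : ℕ)

include hKfg in
theorem ker_evalₐ_eq :
    RingHom.ker (AdicCompletion.evalₐ K m).toRingHom =
      (K ^ m).map (algebraMap R (AdicCompletion K R)) := by
  ext x
  rw [RingHom.mem_ker]
  have h2 := AdicCompletion.pow_smul_top_eq_ker_eval (I := K) (M := R) (n := m) hKfg
  have h3 : x ∈ (K ^ m • ⊤ : Submodule R (AdicCompletion K R)) ↔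
      x ∈ (K ^ m).map (algebraMap R (AdicCompletion K R)) := by
    rw [Ideal.smul_top_eq_map]; rfl
  rw [← h3, h2, LinearMap.mem_ker]
  constructor
  · intro h
    have := AdicCompletion.factor_evalₐ_eq_eval (I := K) x
      (le_of_eq (by simp) : K ^ m ≤ K ^ m • ⊤)
    rw [← this]
    show Ideal.Quotient.factor _ ((AdicCompletion.evalₐ K m) x) = 0
    have h' : (AdicCompletion.evalₐ K m) x = 0 := h
    rw [h', map_zero]
  · intro h
    have := AdicCompletion.factor_eval_eq_evalₐ (I := K) x
      (le_of_eq (by simp) : K ^ m • ⊤ ≤ K ^ m)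
    show AdicCompletion.evalₐ K m x = 0
    rw [← this, h, map_zero]

end aux


/-- Let A be a Noetherian ring, J an ideal, f ∈ A and n ≥ 0, and let A_{f} be the completion of the
localization A_f for the topology defined by the extension of J. There is a ring isomorphism from
the localization of A/J^(n+1) away from the class of f onto A_{f} modulo the (n+1)-st power of the
extension of J to A_{f}, compatible with the canonical maps from A (and hence unique). In terms of
formal spectra: the open D(f) of Spf(A) is Spf(A_{f}), and at level n its ring is the ring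
(A/J^(n+1))_f of the open D(f) of Spec(A/J^(n+1)). -/
theorem result (A : Type u) [CommRing A] [IsNoetherianRing A] (J : Ideal A)
    (f : A) (n : ℕ) :
    ∃ e : Localization.Away (Ideal.Quotient.mk (J ^ (n + 1)) f) ≃+*
        FSch.cAway A J f ⧸ (J.map (algebraMap A (FSch.cAway A J f))) ^ (n + 1),
      ∀ a : A, e (algebraMap (A ⧸ J ^ (n + 1)) _ (Ideal.Quotient.mk (J ^ (n + 1)) a)) =
        Ideal.Quotient.mk _ (algebraMap A (FSch.cAway A J f) a) := by
  classical
  have hloc : IsLocalization.Away (Ideal.Quotient.mk (J ^ (n + 1)) f)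
      (Localization.Away f ⧸ (J ^ (n + 1)).map (algebraMap A (Localization.Away f))) := by
    have h := (inferInstance : IsLocalization
      (Algebra.algebraMapSubmonoid (A ⧸ J ^ (n + 1)) (Submonoid.powers f))
      (Localization.Away f ⧸ (J ^ (n + 1)).map (algebraMap A (Localization.Away f))))
    have : Algebra.algebraMapSubmonoid (A ⧸ J ^ (n + 1)) (Submonoid.powers f) =
        Submonoid.powers (Ideal.Quotient.mk (J ^ (n + 1)) f) := by
      simp [Algebra.algebraMapSubmonoid, Submonoid.map_powers]
    rwa [this] at h
  obtain ⟨e₁, he₁⟩ : ∃ e₁ : Localization.Away (Ideal.Quotient.mk (J ^ (n + 1)) f) ≃+*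
      (Localization.Away f ⧸ (J ^ (n + 1)).map (algebraMap A (Localization.Away f))),
      ∀ a : A, e₁ (algebraMap (A ⧸ J ^ (n + 1)) _ (Ideal.Quotient.mk (J ^ (n + 1)) a)) =
        Ideal.Quotient.mk _ (algebraMap A (Localization.Away f) a) := by
    refine ⟨(IsLocalization.algEquiv (Submonoid.powers (Ideal.Quotient.mk (J ^ (n + 1)) f))
      (Localization.Away (Ideal.Quotient.mk (J ^ (n + 1)) f))
      (Localization.Away f ⧸ (J ^ (n + 1)).map (algebraMap A (Localization.Away f)))).toRingEquiv,
      fun a => ?_⟩
    have := (IsLocalization.algEquiv (Submonoid.powers (Ideal.Quotient.mk (J ^ (n + 1)) f))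
      (Localization.Away (Ideal.Quotient.mk (J ^ (n + 1)) f))
      (Localization.Away f ⧸ (J ^ (n + 1)).map (algebraMap A (Localization.Away f)))).commutes
        (Ideal.Quotient.mk (J ^ (n + 1)) a)
    exact this.trans rfl
  have hpow : (J ^ (n + 1)).map (algebraMap A (Localization.Away f)) =
      (J.map (algebraMap A (Localization.Away f))) ^ (n + 1) := Ideal.map_pow _ _ _
  have hKfg : (J.map (algebraMap A (Localization.Away f))).FG :=
    Ideal.FG.map (IsNoetherian.noetherian J) _
  have hsurj : Function.Surjective
      (AdicCompletion.evalₐ (J.map (algebraMap A (Localization.Away f))) (n + 1)).toRingHom :=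
    AdicCompletion.surjective_evalₐ _ (n + 1)
  have hker : RingHom.ker
      (AdicCompletion.evalₐ (J.map (algebraMap A (Localization.Away f))) (n + 1)).toRingHom =
      (J.map (algebraMap A (FSch.cAway A J f))) ^ (n + 1) := by
    have h1 : J.map (algebraMap A (FSch.cAway A J f)) =
        (J.map (algebraMap A (Localization.Away f))).map
          (algebraMap (Localization.Away f) (FSch.cAway A J f)) := by
      rw [Ideal.map_map]; rfl
    rw [h1]
    exact (ker_evalₐ_eq _ hKfg (n + 1)).trans (Ideal.map_pow _ _ _)
  refine ⟨(e₁.trans (Ideal.quotEquivOfEq hpow)).trans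
    ((RingHom.quotientKerEquivOfSurjective hsurj).symm.trans (Ideal.quotEquivOfEq hker)), ?_⟩
  intro a
  show Ideal.quotEquivOfEq hker ((RingHom.quotientKerEquivOfSurjective hsurj).symm
    (Ideal.quotEquivOfEq hpow (e₁ _))) = _
  rw [he₁, Ideal.quotEquivOfEq_mk]
  have s3 : (RingHom.quotientKerEquivOfSurjective hsurj).symm
      (Ideal.Quotient.mk _ (algebraMap A (Localization.Away f) a)) =
      Ideal.Quotient.mk _ (AdicCompletion.of _ _ (algebraMap A (Localization.Away f) a)) := by
    rw [RingEquiv.symm_apply_eq, RingHom.quotientKerEquivOfSurjective_apply_mk]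
    exact (AdicCompletion.evalₐ_of _ (n + 1) _).symm
  rw [s3, Ideal.quotEquivOfEq_mk]
  rfl

end Groth.Agent.S3874
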