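import Groth.Statements.S3875
import Mathlib
import Groth.Agent.S3862

set_option autoImplicit false
universe u
open FCompl

namespace Groth.Agent.S3875

open CategoryTheory CategoryTheory.Limits AlgebraicGeometry

theorem sys_isPullback_of_levelwise {𝔓 𝔛 𝔜 𝔖 : FSch.Sys.{u}} (a : 𝔓 ⟶ 𝔛) (b : 𝔓 ⟶ 𝔜)
    (c : 𝔛 ⟶ 𝔖) (d : 𝔜 ⟶ 𝔖)
    (H : ∀ n, IsPullback ((a : FSch.Hom _ _).app n) ((b : FSch.Hom _ _).app n)
      ((c : FSch.Hom _ _).app n) ((d : FSch.Hom _ _).app n)) :
    IsPullback a b c d := by
  have w : a ≫ c = b ≫ d := by
    apply FSch.Hom.ext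
    funext n
    exact (H n).w
  have hcond : ∀ (s : PullbackCone c d) (n : ℕ),
      (s.fst : FSch.Hom _ _).app n ≫ (c : FSch.Hom _ _).app n =
        (s.snd : FSch.Hom _ _).app n ≫ (d : FSch.Hom _ _).app n :=
    fun s n => congrArg (fun t : FSch.Hom _ _ => t.app n) s.condition
  let L : ∀ s : PullbackCone c d, s.pt ⟶ 𝔓 := fun s =>
    (⟨fun n => (H n).lift _ _ (hcond s n), fun n => by
      apply (H (n + 1)).hom_ext
      · rw [Category.assoc, Category.assoc, (H (n + 1)).lift_fst, ← (a : FSch.Hom _ _).comm n,
          ← Category.assoc, (H n).lift_fst]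
        exact (s.fst : FSch.Hom _ _).comm n
      · rw [Category.assoc, Category.assoc, (H (n + 1)).lift_snd, ← (b : FSch.Hom _ _).comm n,
          ← Category.assoc, (H n).lift_snd]
        exact (s.snd : FSch.Hom _ _).comm n⟩ : FSch.Hom _ _)
  refine ⟨⟨w⟩, ⟨PullbackCone.IsLimit.mk w L (fun s => ?_) (fun s => ?_) (fun s m h1 h2 => ?_)⟩⟩
  · apply FSch.Hom.ext
    funext n
    exact (H n).lift_fst _ _ _
  · apply FSch.Hom.ext
    funext n
    exact (H n).lift_snd _ _ _
  · apply FSch.Hom.ext
    funext n
    apply (H n).hom_ext
    · have := congrArg (fun t : FSch.Hom _ _ => t.app n) h1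
      exact this.trans ((H n).lift_fst _ _ _).symm
    · have := congrArg (fun t : FSch.Hom _ _ => t.app n) h2
      exact this.trans ((H n).lift_snd _ _ _).symm


open AlgebraicGeometry in
open CategoryTheory in
open CategoryTheory.Limits in
/-- Let g : X → S and h : Y → S be morphisms of schemes, R an ideal sheaf on X and J an ideal sheaf on
S, and consider the completions of S along J, of X along R, of Y along the inverse image of J under
h, and of X x_S Y along the inverse image of R under the first projection (completions presented by
the subschemes of the powers of these ideal sheaves); this is the case where the closed subset of Y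
is the full preimage of that of S. The four compatibility hypotheses between the powers of the ideal
sheaves (for g, for h, and for the two projections of X x_S Y): for each n, the inverse image of the
(n+1)-st power of the target ideal sheaf is contained in the (n+1)-st power of the source ideal
sheaf. These are hypotheses, carried as data for the completed morphisms; the published statement
assumes the schemes locally Noetherian, which this identity does not need. Then the square of
completed morphisms from the completion of X x_S Y along the preimage of the closed subset of X, to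
the completions of X and of Y, over the completion of S, is cartesian in the category of systems. -/
theorem result {X Y S : Scheme.{u}} (g : X ⟶ S) (h : Y ⟶ S)
    (𝓡 : X.IdealSheafData) (𝓙 : S.IdealSheafData)
    (hg : FSch.PowCompat g 𝓡 𝓙) (hh : FSch.PowCompat h (𝓙.comap h) 𝓙)
    (hp : FSch.PowCompat (pullback.fst g h) (𝓡.comap (pullback.fst g h)) 𝓡)
    (hq : FSch.PowCompat (pullback.snd g h) (𝓡.comap (pullback.fst g h)) (𝓙.comap h)) :
    IsPullback (FSch.completionMap (pullback.fst g h) (𝓡.comap (pullback.fst g h)) 𝓡 hp)
      (FSch.completionMap (pullback.snd g h) (𝓡.comap (pullback.fst g h)) (𝓙.comap h) hq)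
      (FSch.completionMap g 𝓡 𝓙 hg) (FSch.completionMap h (𝓙.comap h) 𝓙 hh) := by
  apply sys_isPullback_of_levelwise
  intro n
  have A := ((S3862.result (pullback.fst g h) 𝓡 hp).1 n).flip
  have B := ((S3862.result h 𝓙 hh).1 n).flip
  have P0 : IsPullback (pullback.fst g h) (pullback.snd g h) g h := IsPullback.of_hasPullback g h
  have big := A.paste_vert P0
  have e1 : FSch.completionToX (pullback g h) (𝓡.comap (pullback.fst g h)) n ≫ pullback.snd g h =
      (FSch.completionMap (pullback.snd g h) (𝓡.comap (pullback.fst g h)) (𝓙.comap h) hq :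
        FSch.Hom _ _).app n ≫ FSch.completionToX Y (𝓙.comap h) n := by
    rw [FSch.completionMap_app]
    exact (Scheme.IdealSheafData.subschemeMap_subschemeι _ _ _ _).symm
  have e2 : FSch.completionToX X 𝓡 n ≫ g =
      (FSch.completionMap g 𝓡 𝓙 hg : FSch.Hom _ _).app n ≫ FSch.completionToX S 𝓙 n := by
    rw [FSch.completionMap_app]
    exact (Scheme.IdealSheafData.subschemeMap_subschemeι _ _ _ _).symm
  rw [e1, e2] at big
  refine IsPullback.of_bot big ?_ B
  have : Mono (FSch.completionToX S 𝓙 n) := inferInstanceAs (Mono (𝓙 ^ (n + 1)).subschemeι)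
  rw [← cancel_mono (FSch.completionToX S 𝓙 n), Category.assoc, Category.assoc, ← e2, B.w,
    reassoc_of% A.w, ← reassoc_of% e1, pullback.condition]

end Groth.Agent.S3875
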