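import Groth.Statements.S3894
import Mathlib

set_option autoImplicit false
universe u
open CategoryTheory CategoryTheory.Limits Opposite
open Tors

namespace Groth.Agent.S3894

/-- A torsor P under an abelian sheaf G is trivial, i.e. equivariantly isomorphic to G acting on itself
by translations, if and only if P has a global section (a morphism from the final sheaf of sets). -/
theorem result {C : Type u} [SmallCategory C] {J : GrothendieckTopology C}
    {G : Sheaf J AddCommGrpCat.{u}} (T : Tors.Torsor G) : T.IsTrivial ↔ T.HasSection := by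
  classical
  have hterm : ∀ U : Cᵒᵖ, Nonempty (Unique ((⊤_ (Sheaf J (Type u))).obj.obj U)) := by
    intro U
    have h1 : IsTerminal ((sheafToPresheaf J (Type u)).obj (⊤_ (Sheaf J (Type u)))) :=
      terminalIsTerminal.isTerminalObj (sheafToPresheaf J (Type u)) _
    have h2 : IsTerminal (((evaluation Cᵒᵖ (Type u)).obj U).obj
        ((sheafToPresheaf J (Type u)).obj (⊤_ (Sheaf J (Type u))))) :=
      h1.isTerminalObj ((evaluation Cᵒᵖ (Type u)).obj U) _
    exact ⟨Types.isTerminalEquivUnique _ h2⟩
  constructor
  · rintro ⟨e, he⟩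
    refine ⟨⟨{ app := fun U => TypeCat.ofHom (fun _ => e.hom.hom.app U (0 : G.obj.obj U))
               naturality := ?_ }⟩⟩
    intro U V f
    apply ConcreteCategory.hom_ext
    intro x
    show e.hom.hom.app V (0 : G.obj.obj V) = T.P.obj.map f (e.hom.hom.app U (0 : G.obj.obj U))
    rw [← NatTrans.naturality_apply e.hom.hom f (0 : G.obj.obj U)]
    congr 1
    exact (map_zero (G.obj.map f).hom).symm
  · rintro ⟨σ⟩
    let star : ∀ U : Cᵒᵖ, (⊤_ (Sheaf J (Type u))).obj.obj U :=
      fun U => (Classical.choice (hterm U)).default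
    have hstar : ∀ (U : Cᵒᵖ) (x : (⊤_ (Sheaf J (Type u))).obj.obj U), x = star U :=
      fun U x => (Classical.choice (hterm U)).uniq x
    let p : ∀ U : Cᵒᵖ, T.P.obj.obj U := fun U => σ.hom.app U (star U)
    have hp : ∀ {U V : Cᵒᵖ} (f : U ⟶ V), T.P.obj.map f (p U) = p V := by
      intro U V f
      show T.P.obj.map f (σ.hom.app U (star U)) = σ.hom.app V (star V)
      rw [← NatTrans.naturality_apply σ.hom f (star U)]
      congr 1
      exact hstar V _
    have hbij : ∀ U : Cᵒᵖ, Function.Bijective (fun g : G.obj.obj U => T.vadd g (p U)) := by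
      intro U
      constructor
      · intro g g' hgg
        obtain ⟨g₀, -, hg₀⟩ := T.free_transitive (p U) (T.vadd g' (p U))
        rw [hg₀ g hgg, hg₀ g' rfl]
      · intro q
        obtain ⟨g₀, hg₀, -⟩ := T.free_transitive (p U) q
        exact ⟨g₀, hg₀⟩
    let η : ((sheafCompose J (forget AddCommGrpCat.{u})).obj G).obj ≅ T.P.obj :=
      NatIso.ofComponents (fun U => Equiv.toIso (Equiv.ofBijective _ (hbij U))) (by
        intro U V f
        apply ConcreteCategory.hom_ext
        intro g
        show T.vadd (G.obj.map f g) (p V) = T.P.obj.map f (T.vadd g (p U))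
        rw [T.map_vadd, hp])
    refine ⟨(fullyFaithfulSheafToPresheaf J (Type u)).preimageIso η, ?_⟩
    intro U g h
    show T.vadd (g + h) (p U) = T.vadd g (T.vadd h (p U))
    exact T.add_vadd g h (p U)

end Groth.Agent.S3894
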