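import Groth.Statements.S4104
import Groth.Agent.Lib.HopfFFGen_helper1

set_option autoImplicit false
universe u
open CategoryTheory MonoidalCategory CartesianMonoidalCategory MonObj GrpObj AlgebraicGeometry CategoryTheory.Limits
open SGA3

namespace Groth.Agent.S4104

/-- Let φ : A' → A be a bialgebra map between commutative Hopf algebras over a field k (a homomorphism
of affine k-groups Spec A → Spec A', not necessarily of finite type). If the corresponding morphism
of schemes is a monomorphism, i.e. φ is an epimorphism in the category of commutative rings, then φ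
is surjective (the homomorphism is a closed immersion). -/
theorem result (k : Type u) [Field k] (A' A : Type u) [CommRing A'] [HopfAlgebra k A']
    [CommRing A] [HopfAlgebra k A] (φ : A' →ₐc[k] A)
    (hepi : ∀ (R : Type u) [CommRing R] (f g : A →+* R), f.comp (φ : A' →+* A) = g.comp (φ : A' →+* A) → f = g) :
    Function.Surjective φ := by
  have hff := Groth.Agent.Lib.HopfFFH1.faithfullyFlat_of_injective
    (Groth.Agent.Lib.HopfFFH1.subVal (φ : A' →ₐ[k] A).range) Subtype.val_injective
  haveI : Module.FaithfullyFlat ↥(φ : A' →ₐ[k] A).range A := hff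
  have heq : (Algebra.TensorProduct.includeLeftRingHom :
      A →+* TensorProduct ↥(φ : A' →ₐ[k] A).range A A) =
      (Algebra.TensorProduct.includeRight :
        A →ₐ[↥(φ : A' →ₐ[k] A).range] TensorProduct ↥(φ : A' →ₐ[k] A).range A A).toRingHom := by
    apply hepi
    ext a'
    show (φ a') ⊗ₜ[↥(φ : A' →ₐ[k] A).range] (1 : A) =
      (1 : A) ⊗ₜ[↥(φ : A' →ₐ[k] A).range] (φ a')
    have e : φ a' = algebraMap ↥(φ : A' →ₐ[k] A).range A
        ⟨φ a', (AlgHom.mem_range _).mpr ⟨a', rfl⟩⟩ := rfl
    rw [e, Algebra.algebraMap_eq_smul_one, TensorProduct.smul_tmul]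
  intro a
  have hex := Algebra.IsEffective.of_faithfullyFlat (R := ↥(φ : A' →ₐ[k] A).range) (S := A)
  have h0 : Algebra.TensorProduct.includeLeftSubRight ↥(φ : A' →ₐ[k] A).range A a = 0 := by
    rw [Algebra.TensorProduct.includeLeftSubRight_apply, sub_eq_zero]
    exact RingHom.congr_fun heq a
  obtain ⟨s, hs⟩ := (hex a).mp h0
  obtain ⟨a', ha'⟩ := (AlgHom.mem_range _).mp s.2
  exact ⟨a', ha'.trans hs⟩

end Groth.Agent.S4104
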