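import Groth.Statements.S4135
import Mathlib
import Groth.Agent.S3312
import Groth.Agent.Lib.CartMM3_helper2
import Groth.Agent.Lib.CartMM4_helper2

set_option autoImplicit false
universe u
open TensorProduct
attribute [local instance] LieRing.ofAssociativeRing
open SGA3y

namespace Groth.Agent.S4135

/-- Let k be a field of characteristic zero and H a cocommutative bialgebra over k which is connected
(every nonzero subcoalgebra contains 1). Then the canonical algebra homomorphism from the universal
enveloping algebra of the Lie algebra of primitive elements of H to H is bijective. -/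
theorem result (k : Type u) [Field k] [CharZero k] (H : Type u) [Ring H]
    [Bialgebra k H] [Coalgebra.IsCocomm k H] (hconn : SGA3y.IsConnectedCoalg k H) :
    Function.Bijective (UniversalEnvelopingAlgebra.lift k (SGA3y.primLie k H).incl) := by
  classical
  have hc : Groth.Agent.Lib.CartMMH2.ConnHyp k H := hconn
  constructor
  · -- injectivity via PBW and linear independence of ordered monomials
    obtain ⟨inst, -⟩ := exists_wellFoundedLT (Module.Free.ChooseBasisIndex k ↥(primLie k H))
    letI : LinearOrder (Module.Free.ChooseBasisIndex k ↥(primLie k H)) := inst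
    obtain ⟨B, hB⟩ := Groth.Agent.S3312.result k ↥(primLie k H) _
      (Module.Free.chooseBasis k ↥(primLie k H))
    have hli : LinearIndependent k
        (fun i => ((Module.Free.chooseBasis k ↥(primLie k H) i : ↥(primLie k H)) : H)) := by
      have h1 := (Module.Free.chooseBasis k ↥(primLie k H)).linearIndependent
      exact h1.map' (primLie k H).toSubmodule.subtype (Submodule.ker_subtype _)
    have hprim : ∀ i, (Coalgebra.comul
        ((Module.Free.chooseBasis k ↥(primLie k H) i : ↥(primLie k H)) : H) : H ⊗[k] H) =
        ((Module.Free.chooseBasis k ↥(primLie k H) i : ↥(primLie k H)) : H) ⊗ₜ[k] 1 +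
          1 ⊗ₜ[k] ((Module.Free.chooseBasis k ↥(primLie k H) i : ↥(primLie k H)) : H) :=
      fun i => (Module.Free.chooseBasis k ↥(primLie k H) i).2
    have hmono := Groth.Agent.Lib.CartMMH2.linearIndependent_ordered_monomials
      (fun i => ((Module.Free.chooseBasis k ↥(primLie k H) i : ↥(primLie k H)) : H)) hprim hli
    have hφB : ∀ l, (UniversalEnvelopingAlgebra.lift k (SGA3y.primLie k H).incl) (B l) =
        (l.1.map (fun i =>
          ((Module.Free.chooseBasis k ↥(primLie k H) i : ↥(primLie k H)) : H))).prod := by
      intro l
      rw [hB, map_list_prod, List.map_map]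
      congr 1
      apply List.map_congr_left
      intro i _
      simp [UniversalEnvelopingAlgebra.lift_ι_apply]
    rw [injective_iff_map_eq_zero]
    intro u hu
    have hrepr := B.linearCombination_repr u
    have h1 : Finsupp.linearCombination k (fun l : {l : List _ // l.SortedLE} => (l.1.map (fun i =>
          ((Module.Free.chooseBasis k ↥(primLie k H) i : ↥(primLie k H)) : H))).prod)
        (B.repr u) = 0 := by
      have h2 := Finsupp.apply_linearCombination k
        (UniversalEnvelopingAlgebra.lift k (SGA3y.primLie k H).incl).toLinearMap (⇑B) (B.repr u)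
      rw [hrepr] at h2
      have h3 : ((UniversalEnvelopingAlgebra.lift k (SGA3y.primLie k H).incl).toLinearMap ∘ ⇑B) =
          (fun l : {l : List _ // l.SortedLE} => (l.1.map (fun i =>
          ((Module.Free.chooseBasis k ↥(primLie k H) i : ↥(primLie k H)) : H))).prod) := by
        funext l
        exact hφB l
      rw [h3] at h2
      rw [← h2]
      exact hu
    have h0 := linearIndependent_iff.mp hmono (B.repr u) h1
    rw [← hrepr, h0, map_zero]
  · -- surjectivity
    intro y
    have hy := Groth.Agent.Lib.CartMMH2.mem_subalgebra_of_conn hc
      (UniversalEnvelopingAlgebra.lift k (SGA3y.primLie k H).incl).range (fun x hx => ?_) y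
    · exact hy
    · exact ⟨UniversalEnvelopingAlgebra.ι k (⟨x, hx⟩ : ↥(primLie k H)),
        by simp [UniversalEnvelopingAlgebra.lift_ι_apply]⟩

end Groth.Agent.S4135
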