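import Groth.Statements.S4194
import Mathlib

set_option autoImplicit false
open CategoryTheory AlgebraicGeometry Topology TopologicalSpace
open An

namespace Groth.Agent.S4194

/-- A morphism f : X → Y of schemes locally of finite type over ℂ is injective (on underlying points) if
and only if the induced map X(ℂ) → Y(ℂ) is injective. -/
theorem result (X Y : Scheme.{0}) [X.Over An.SC] [LocallyOfFiniteType (X ↘ An.SC)]
    [Y.Over An.SC] [LocallyOfFiniteType (Y ↘ An.SC)] (f : X ⟶ Y) [f.IsOver An.SC] :
    Function.Injective f.base ↔ Function.Injective (An.Pts.map f) := by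
  have hJX : JacobsonSpace X := LocallyOfFiniteType.jacobsonSpace (X ↘ An.SC)
  have hft : LocallyOfFiniteType f := by
    have : LocallyOfFiniteType (f ≫ (Y ↘ An.SC)) := by rw [comp_over f]; infer_instance
    exact locallyOfFiniteType_of_comp f (Y ↘ An.SC)
  have hcpt : ∀ {Z : Scheme.{0}} (p : An.SC ⟶ Z), p (IsLocalRing.closedPoint ℂ) = p An.cpt := by
    intro Z p; rw [An.eq_cpt (IsLocalRing.closedPoint ℂ)]
  constructor
  · intro hinj px px' h
    apply Subtype.ext
    refine ext_of_apply_closedPoint_eq (X ↘ An.SC) px.2 px'.2 ?_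
    rw [hcpt, hcpt]
    apply hinj
    have h1 := An.Pts.pt_map f px
    have h2 := An.Pts.pt_map f px'
    rw [h] at h1
    exact h1.symm.trans h2
  · intro hinj x x' hxx'
    by_contra hne
    have hftP : LocallyOfFiniteType ((Limits.pullback f f) ↘ An.SC) := by
      have : LocallyOfFiniteType (Limits.pullback.fst f f ≫ (X ↘ An.SC)) := inferInstance
      exact this
    have hJP : JacobsonSpace ↥(Limits.pullback f f) :=
      LocallyOfFiniteType.jacobsonSpace ((Limits.pullback f f) ↘ An.SC)
    obtain ⟨w0, hw1, hw2⟩ := Scheme.Pullback.exists_preimage_pullback (f := f) (g := f) x x' hxx'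
    have hΔ : IsLocallyClosed (Set.range (Limits.pullback.diagonal f).base) :=
      (Limits.pullback.diagonal f).isLocallyClosed_range
    have hw0 : w0 ∉ Set.range (Limits.pullback.diagonal f).base := by
      rintro ⟨z, rfl⟩
      apply hne
      rw [← hw1, ← hw2]
      have e1 : (Limits.pullback.fst f f) ((Limits.pullback.diagonal f) z) = z := by
        rw [← Scheme.Hom.comp_apply, Limits.pullback.diagonal_fst]; rfl
      have e2 : (Limits.pullback.snd f f) ((Limits.pullback.diagonal f) z) = z := by
        rw [← Scheme.Hom.comp_apply, Limits.pullback.diagonal_snd]; rfl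
      exact e1.trans e2.symm
    obtain ⟨O, C, hO, hC, hOC⟩ := hΔ
    have hA : ∃ A : Set ↥(Limits.pullback f f), IsLocallyClosed A ∧ w0 ∈ A ∧
        A ⊆ (Set.range (Limits.pullback.diagonal f).base)ᶜ := by
      by_cases h : w0 ∈ O
      · refine ⟨Cᶜ, hC.isOpen_compl.isLocallyClosed, ?_, ?_⟩
        · intro hc
          apply hw0
          rw [hOC]; exact ⟨h, hc⟩
        · intro a ha har
          rw [hOC] at har
          exact ha har.2
      · refine ⟨Oᶜ, hO.isClosed_compl.isLocallyClosed, h, ?_⟩
        intro a ha har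
        rw [hOC] at har
        exact ha har.1
    obtain ⟨A, hAlc, hw0A, hAsub⟩ := hA
    obtain ⟨w, hwA, hwc⟩ := nonempty_inter_closedPoints (X := ↥(Limits.pullback f f))
      ⟨w0, hw0A⟩ hAlc
    apply hAsub hwA
    obtain ⟨pw, hpwdef⟩ : ∃ pw : An.Pts (Limits.pullback f f),
        pw = (pointEquivClosedPoint ((Limits.pullback f f) ↘ An.SC)).symm ⟨w, hwc⟩ := ⟨_, rfl⟩
    have hpw : pw.1 (IsLocalRing.closedPoint ℂ) = w := by
      rw [hpwdef]; exact pointOfClosedPoint_apply _ _ _ _
    have hcond := An.Pts.map_pullback_condition f f pw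
    have heq := hinj hcond
    have heq' : pw.1 ≫ Limits.pullback.fst f f = pw.1 ≫ Limits.pullback.snd f f :=
      congrArg Subtype.val heq
    have hfac : pw.1 = (pw.1 ≫ Limits.pullback.fst f f) ≫ Limits.pullback.diagonal f := by
      apply Limits.pullback.hom_ext
      · rw [Category.assoc, Limits.pullback.diagonal_fst, Category.comp_id]
      · rw [Category.assoc, Limits.pullback.diagonal_snd, Category.comp_id, heq']
    have h5 : pw.1 (IsLocalRing.closedPoint ℂ) = (Limits.pullback.diagonal f)
        ((pw.1 ≫ Limits.pullback.fst f f) (IsLocalRing.closedPoint ℂ)) := by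
      conv_lhs => rw [hfac]
      exact Scheme.Hom.comp_apply _ _ _
    exact ⟨_, (h5.symm.trans hpw)⟩

end Groth.Agent.S4194
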