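import Groth.Statements.S4243
import Mathlib.FieldTheory.Finite.Polynomial

set_option autoImplicit false
open SGA4h

namespace Groth.Agent.S4243

/-- Let k be a finite field with q elements and P a nonzero homogeneous polynomial of degree d in r+1
variables over k. If P vanishes at every point of k^{r+1} (that is, the hypersurface P = 0 in
projective r-space passes through every rational point), then d ≥ q + 1. -/
theorem result (k : Type) [Field k] [Fintype k] (r d : ℕ)
    (P : MvPolynomial (Fin (r + 1)) k) (hP : P.IsHomogeneous d) (hP0 : P ≠ 0)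
    (hvan : ∀ x : Fin (r + 1) → k, MvPolynomial.eval x P = 0) :
    Fintype.card k + 1 ≤ d := by
  classical
  by_contra hlt
  have hdq : d ≤ Fintype.card k := by omega
  have hq2 : 2 ≤ Fintype.card k := Fintype.one_lt_card
  generalize hqdef : Fintype.card k = q at hdq hq2
  obtain ⟨rr, rr_def⟩ : ∃ rr : ℕ → ℕ, ∀ a, rr a = if a = q then 1 else a := ⟨_, fun _ => rfl⟩
  have rr0 : rr 0 = 0 := by
    rw [rr_def, if_neg]; omega
  obtain ⟨red, red_apply⟩ : ∃ red : (Fin (r+1) →₀ ℕ) → (Fin (r+1) →₀ ℕ), ∀ m i, red m i = rr (m i) :=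
    ⟨fun m => Finsupp.mapRange rr rr0 m, fun m i => Finsupp.mapRange_apply⟩
  have hdeg : ∀ m ∈ P.support, ∑ i, m i = d := by
    intro m hm
    rw [← Finsupp.degree_eq_sum, Finsupp.degree_apply]
    exact (hP.degree_eq_sum_deg_support hm).symm
  have hle : ∀ m ∈ P.support, ∀ i, m i ≤ q := by
    intro m hm i
    have h1 : m i ≤ ∑ j, m j :=
      Finset.single_le_sum (f := fun j => m j) (fun _ _ => Nat.zero_le _) (Finset.mem_univ i)
    have := hdeg m hm
    omega
  obtain ⟨Pt, hPt⟩ : ∃ Pt : MvPolynomial (Fin (r+1)) k,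
      Pt = ∑ m ∈ P.support, MvPolynomial.monomial (red m) (MvPolynomial.coeff m P) := ⟨_, rfl⟩
  have hPt_mem : Pt ∈ MvPolynomial.restrictDegree (Fin (r+1)) k (Fintype.card k - 1) := by
    rw [hPt, hqdef]
    refine Submodule.sum_mem _ (fun m hm => ?_)
    rw [MvPolynomial.mem_restrictDegree]
    intro s hs i
    have hs' : s = red m := by
      have := MvPolynomial.support_monomial_subset hs
      simpa using this
    rw [hs', red_apply, rr_def]
    have := hle m hm i
    split_ifs <;> omega
  have hPt_eval : ∀ x, MvPolynomial.eval x Pt = 0 := by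
    intro x
    rw [← hvan x]
    conv_rhs => rw [MvPolynomial.eval_eq']
    rw [hPt, map_sum]
    refine Finset.sum_congr rfl (fun m hm => ?_)
    rw [MvPolynomial.eval_monomial]
    congr 1
    rw [Finsupp.prod_fintype _ _ (fun i => pow_zero _)]
    refine Finset.prod_congr rfl (fun i _ => ?_)
    rw [red_apply, rr_def]
    split_ifs with h
    · rw [h, ← hqdef, FiniteField.pow_card, pow_one]
    · rfl
  have hPt0 : Pt = 0 := MvPolynomial.eq_zero_of_eval_eq_zero _ _ Pt hPt_eval hPt_mem
  have key : ∀ (a b : Fin (r+1) →₀ ℕ), a ∈ P.support → b ∈ P.support →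
      (∀ i, rr (a i) = rr (b i)) → ∀ i, a i = q → ∀ j, a j = b j := by
    intro a b ha hb hab i hi
    have hz : ∀ j, j ≠ i → a j = 0 := by
      intro j hj
      have h1 : ∑ l ∈ {i, j}, a l ≤ ∑ l, a l :=
        Finset.sum_le_sum_of_subset (Finset.subset_univ _)
      rw [Finset.sum_pair hj.symm] at h1
      have := hdeg a ha
      omega
    have hzb : ∀ j, j ≠ i → b j = 0 := by
      intro j hj
      have h1 := hab j
      rw [hz j hj, rr0, rr_def] at h1
      split_ifs at h1 <;> omega
    have hbi : b i = q := by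
      have h1 : ∑ l, b l = b i :=
        Finset.sum_eq_single i (fun j _ hj => hzb j hj) (fun h => absurd (Finset.mem_univ i) h)
      have h2 : ∑ l, a l = a i :=
        Finset.sum_eq_single i (fun j _ hj => hz j hj) (fun h => absurd (Finset.mem_univ i) h)
      have := hdeg a ha
      have := hdeg b hb
      omega
    intro j
    by_cases hj : j = i
    · rw [hj, hi, hbi]
    · rw [hz j hj, hzb j hj]
  have hinj : ∀ m ∈ P.support, ∀ m' ∈ P.support, red m = red m' → m = m' := by
    intro m hm m' hm' h
    have hr : ∀ i, rr (m i) = rr (m' i) := fun i => by rw [← red_apply, ← red_apply, h]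
    ext j
    by_cases h1 : ∃ i, m i = q
    · obtain ⟨i, hi⟩ := h1
      exact key m m' hm hm' hr i hi j
    · by_cases h2 : ∃ i, m' i = q
      · obtain ⟨i, hi⟩ := h2
        exact (key m' m hm' hm (fun i => (hr i).symm) i hi j).symm
      · have h1' : m j ≠ q := fun e => h1 ⟨j, e⟩
        have h2' : m' j ≠ q := fun e => h2 ⟨j, e⟩
        have := hr j
        rw [rr_def, rr_def, if_neg h1', if_neg h2'] at this
        exact this
  obtain ⟨m₀, hm₀⟩ := MvPolynomial.ne_zero_iff.mp hP0
  have hm₀s : m₀ ∈ P.support := MvPolynomial.mem_support_iff.mpr hm₀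
  have hc : MvPolynomial.coeff (red m₀) Pt = MvPolynomial.coeff m₀ P := by
    rw [hPt, MvPolynomial.coeff_sum]
    rw [Finset.sum_eq_single m₀]
    · rw [MvPolynomial.coeff_monomial, if_pos rfl]
    · intro m hm hne
      rw [MvPolynomial.coeff_monomial, if_neg]
      intro h
      exact hne (hinj m hm m₀ hm₀s h)
    · intro h
      exact absurd hm₀s h
  rw [hPt0, MvPolynomial.coeff_zero] at hc
  exact hm₀ hc.symm

end Groth.Agent.S4243
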