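import Groth.Statements.S4256
import Mathlib.Tactic.Ring

set_option autoImplicit false
open scoped BigOperators
open SGA4h

namespace Groth.Agent.S4256

/-- Let k be a finite field, ψ a nontrivial additive character of k with values in a domain R, and n ≥
1. Then the generalised Kloosterman sum with parameter 0, Σ ψ(x_1 + ⋯ + x_n) over all (x_1, …, x_n)
∈ k^n with x_1 ⋯ x_n = 0, equals (-1)^{n-1}. -/
theorem result (k : Type) [Field k] [Fintype k] [DecidableEq k] (R : Type) [CommRing R] [IsDomain R]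
    (ψ : AddChar k R) (hψ : ψ ≠ 1) (n : ℕ) (hn : 1 ≤ n) :
    ∑ x ∈ (Finset.univ : Finset (Fin n → k)).filter (fun x => ∏ i, x i = 0), ψ (∑ i, x i) = (-1) ^ (n - 1) := by
  have hsum0 : ∑ a : k, ψ a = 0 := AddChar.sum_eq_zero_of_ne_one hψ
  have hmul' : ∀ (s : Finset (Fin n)) (x : Fin n → k), ψ (∑ i ∈ s, x i) = ∏ i ∈ s, ψ (x i) := by
    intro s x
    induction s using Finset.induction_on with
    | empty => simp
    | insert a s ha ih =>
      rw [Finset.sum_insert ha, Finset.prod_insert ha, AddChar.map_add_eq_mul, ih]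
  have hmul : ∀ x : Fin n → k, ψ (∑ i, x i) = ∏ i, ψ (x i) := fun x => hmul' _ x
  have hn0 : n ≠ 0 := by omega
  have hT : ∑ x : Fin n → k, ψ (∑ i, x i) = 0 := by
    simp only [hmul]
    rw [← Fintype.piFinset_univ, ← Finset.prod_univ_sum (fun _ => Finset.univ) (fun _ a => ψ a)]
    rw [hsum0, Finset.prod_const, Finset.card_univ, Fintype.card_fin, zero_pow hn0]
  have herase : ∑ a ∈ (Finset.univ : Finset k).erase 0, ψ a = -1 := by
    rw [Finset.sum_erase_eq_sub (Finset.mem_univ 0), hsum0, AddChar.map_zero_eq_one, zero_sub]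
  have hU : ∑ x ∈ (Finset.univ : Finset (Fin n → k)).filter (fun x => ¬ ∏ i, x i = 0),
      ψ (∑ i, x i) = (-1) ^ n := by
    have hfilt : (Finset.univ : Finset (Fin n → k)).filter (fun x => ¬ ∏ i, x i = 0) =
        Fintype.piFinset (fun _ : Fin n => (Finset.univ : Finset k).erase 0) := by
      ext x
      simp [Finset.prod_eq_zero_iff, Fintype.mem_piFinset]
    rw [hfilt]
    simp only [hmul]
    rw [← Finset.prod_univ_sum (fun _ => (Finset.univ : Finset k).erase 0) (fun _ a => ψ a)]
    rw [herase, Finset.prod_const, Finset.card_univ, Fintype.card_fin]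
  have hsplit := Finset.sum_filter_add_sum_filter_not (Finset.univ : Finset (Fin n → k))
    (fun x => ∏ i, x i = 0) (fun x => ψ (∑ i, x i))
  rw [hT, hU] at hsplit
  obtain ⟨m, rfl⟩ : ∃ m, n = m + 1 := ⟨n - 1, by omega⟩
  have : ∑ x ∈ (Finset.univ : Finset (Fin (m + 1) → k)).filter (fun x => ∏ i, x i = 0),
      ψ (∑ i, x i) = -(-1) ^ (m + 1) := eq_neg_of_add_eq_zero_left hsplit
  rw [this, Nat.add_sub_cancel, pow_succ]
  ring

end Groth.Agent.S4256
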