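import Groth.Statements.S4329
import Groth.Agent.Lib.RDerGE_helper7
import Groth.Agent.Lib.KInjAdj_helper7
import Groth.Agent.Lib.EtPullExact_helper9

set_option autoImplicit false
universe u
open CategoryTheory CategoryTheory.Limits AlgebraicGeometry Opposite
attribute [local instance] HasDerivedCategory.standard
open EtSix

namespace Groth.Agent.S4329

/-- Composition of derived direct images: for the small etale sites of schemes and abelian sheaves: let
f : X -> Y and g : Y -> Z be morphisms of schemes and assume the unbounded derived direct images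
Rf_*, Rg_* and R(g ∘ f)_* exist (they do; the existence is recorded as instance hypotheses). Then
the canonical morphism R(g ∘ f)_* -> Rg_* ∘ Rf_* of functors D(X_et) -> D(Z_et), induced by (g ∘
f)_* ≅ g_* ∘ f_* through the universal property of R(g ∘ f)_* as a right derived functor, is an
isomorphism. -/
theorem result {X Y Z : Scheme.{u}} (f : X ⟶ Y) (g : Y ⟶ Z)
    [DCoh.HasRpushEt X f] [DCoh.HasRpushEt Y g] [DCoh.HasRpushEt X (f ≫ g)] :
    IsIso (EtSix.compMap f g) := by
  haveI : ∀ K, IsIso ((EtSix.compMap f g).app K) := by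
    intro K
    obtain ⟨I, hI, _, ⟨e⟩⟩ := Groth.Agent.Lib.KInjGen8.exists_kInjective_rep K
    haveI := hI
    suffices h : IsIso ((EtSix.compMap f g).app (DerivedCategory.Q.obj I)) by
      have nat := (EtSix.compMap f g).naturality e.hom
      have h2 : (EtSix.compMap f g).app K =
          inv ((DCoh.RpushEt X (f ≫ g)).map e.hom) ≫ (EtSix.compMap f g).app (DerivedCategory.Q.obj I) ≫
            (DCoh.RpushEt X f ⋙ DCoh.RpushEt Y g).map e.hom := by
        rw [← nat, IsIso.inv_hom_id_assoc]
      rw [h2]
      infer_instance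
    have h3 : IsIso ((EtSix.compUnit f g).app ((HomotopyCategory.quotient _ _).obj I)) := by
      dsimp only [EtSix.compUnit]
      simp only [NatTrans.comp_app, Functor.whiskerRight_app, Functor.whiskerLeft_app,
        Functor.associator_hom_app, Functor.associator_inv_app, Category.id_comp, Category.comp_id]
      haveI h31 : IsIso (NatTrans.mapHomotopyCategory (EtCoh.pushComp g f).inv (ComplexShape.up ℤ)) := by
        refine ⟨NatTrans.mapHomotopyCategory (EtCoh.pushComp g f).hom (ComplexShape.up ℤ), ?_, ?_⟩
        · rw [← NatTrans.mapHomotopyCategory_comp, Iso.inv_hom_id, NatTrans.mapHomotopyCategory_id]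
        · rw [← NatTrans.mapHomotopyCategory_comp, Iso.hom_inv_id, NatTrans.mapHomotopyCategory_id]
      haveI h32 : CochainComplex.IsKInjective
          (((EtCoh.push f).mapHomologicalComplex (ComplexShape.up ℤ)).obj I) :=
        Groth.Agent.Lib.KInjAdj_helper7.isKInjective_map (EtCoh.pullPushAdj f) I
      haveI h33 : IsIso (((DCoh.pushEtKh Y g).totalRightDerivedUnit DerivedCategory.Qh
              (HomotopyCategory.quasiIso (EtCoh.Ab Y) (ComplexShape.up ℤ))).app
          (((EtCoh.push f).mapHomotopyCategory (ComplexShape.up ℤ)).obj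
            ((HomotopyCategory.quotient (EtCoh.Ab X) (ComplexShape.up ℤ)).obj I))) :=
        Groth.Agent.Lib.RDerGE.isIso_unit (EtCoh.push g)
          (((EtCoh.push f).mapHomologicalComplex (ComplexShape.up ℤ)).obj I)
      haveI h34 : IsIso (((DCoh.pushEtKh X f).totalRightDerivedUnit DerivedCategory.Qh
                (HomotopyCategory.quasiIso (EtCoh.Ab X) (ComplexShape.up ℤ))).app
            ((HomotopyCategory.quotient (EtCoh.Ab X) (ComplexShape.up ℤ)).obj I)) :=
        Groth.Agent.Lib.RDerGE.isIso_unit (EtCoh.push f) I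
      infer_instance
    haveI h4 : IsIso (((DCoh.pushEtKh X (f ≫ g)).totalRightDerivedUnit DerivedCategory.Qh
                (HomotopyCategory.quasiIso (EtCoh.Ab X) (ComplexShape.up ℤ))).app
            ((HomotopyCategory.quotient (EtCoh.Ab X) (ComplexShape.up ℤ)).obj I)) :=
      Groth.Agent.Lib.RDerGE.isIso_unit (EtCoh.push (f ≫ g)) I
    have hfac := Functor.rightDerived_fac_app (DCoh.RpushEt X (f ≫ g))
      ((DCoh.pushEtKh X (f ≫ g)).totalRightDerivedUnit DerivedCategory.Qh
        (HomotopyCategory.quasiIso (EtCoh.Ab X) (ComplexShape.up ℤ)))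
      (HomotopyCategory.quasiIso (EtCoh.Ab X) (ComplexShape.up ℤ))
      (DCoh.RpushEt X f ⋙ DCoh.RpushEt Y g) (EtSix.compUnit f g)
      ((HomotopyCategory.quotient _ _).obj I)
    have h5 : (EtSix.compMap f g).app (DerivedCategory.Q.obj I) =
        inv (((DCoh.pushEtKh X (f ≫ g)).totalRightDerivedUnit DerivedCategory.Qh
                (HomotopyCategory.quasiIso (EtCoh.Ab X) (ComplexShape.up ℤ))).app
            ((HomotopyCategory.quotient (EtCoh.Ab X) (ComplexShape.up ℤ)).obj I)) ≫
          (EtSix.compUnit f g).app ((HomotopyCategory.quotient _ _).obj I) := by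
      rw [← hfac, IsIso.inv_hom_id_assoc]
      rfl
    rw [h5]
    exact @IsIso.comp_isIso' _ _ _ _ _ _ _ (@IsIso.inv_isIso _ _ _ _ _ h4) h3
  exact NatIso.isIso_of_isIso_app _

end Groth.Agent.S4329
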