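import Groth.Statements.S4337
import Groth.Agent.S2276
import Mathlib.RingTheory.Nakayama
import Mathlib.LinearAlgebra.TensorProduct.Quotient
import Mathlib.LinearAlgebra.TensorProduct.RightExactness

set_option autoImplicit false
universe u
open LinTop

namespace Groth.Agent.S4337

/-- Let A be an admissible ring, J an ideal of definition, and u : M -> N a homomorphism of A-modules
with N of finite type. Then u is surjective if and only if u tensored with A/J is surjective. -/
theorem result
    (A : Type u) [CommRing A] [UniformSpace A] [IsUniformAddGroup A] [IsTopologicalRing A]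
    (hA : LinTop.IsAdmissible A) (J : Ideal A) (hJ : LinTop.IsIdealOfDefinition A J)
    (M N : Type u) [AddCommGroup M] [Module A M] [AddCommGroup N] [Module A N] [Module.Finite A N]
    (u : M →ₗ[A] N) :
    Function.Surjective u ↔ Function.Surjective (u.rTensor (A ⧸ J)) := by
  have hjac := (Groth.Agent.S2276.result A hA J hJ).2
  constructor
  · exact fun h => LinearMap.rTensor_surjective _ h
  · intro h
    apply LinearMap.surjective_of_surjective_comp_mkQ u J hjac
    have key : ∀ t : TensorProduct A M (A ⧸ J), ∃ m : M, t = m ⊗ₜ[A] (1 : A ⧸ J) := by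
      intro t
      induction t using TensorProduct.induction_on with
      | zero => exact ⟨0, by simp⟩
      | tmul m a =>
        obtain ⟨a, rfl⟩ := Ideal.Quotient.mk_surjective a
        refine ⟨a • m, ?_⟩
        rw [TensorProduct.smul_tmul]
        congr 1
        rw [Algebra.smul_def, mul_one]
        rfl
      | add x y hx hy =>
        obtain ⟨m1, rfl⟩ := hx
        obtain ⟨m2, rfl⟩ := hy
        exact ⟨m1 + m2, by rw [TensorProduct.add_tmul]⟩
    intro y
    obtain ⟨n, rfl⟩ := Submodule.mkQ_surjective _ y
    obtain ⟨t, ht⟩ := h (n ⊗ₜ 1)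
    obtain ⟨m, rfl⟩ := key t
    refine ⟨m, ?_⟩
    have := congrArg (TensorProduct.tensorQuotEquivQuotSMul N J) ht
    rw [LinearMap.rTensor_tmul, ← map_one (Ideal.Quotient.mk J),
      TensorProduct.tensorQuotEquivQuotSMul_tmul_mk,
      TensorProduct.tensorQuotEquivQuotSMul_tmul_mk, one_smul, one_smul] at this
    exact this

end Groth.Agent.S4337
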