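import Groth.Statements.S4338
import Groth.Agent.Lib.LinTop_lead
import Mathlib.RingTheory.AdicCompletion.Basic

set_option autoImplicit false
universe u
open LinTop

namespace Groth.Agent.S4338

/-- For a finitely generated ideal. Let A be an admissible ring and I a finitely generated ideal
contained in an ideal of definition of A. Then A is separated and complete for the I-adic topology.
(The published statement has no finiteness hypothesis on I and is then not correct: the completion
of a polynomial ring in countably many variables over a field along the ideal generated by the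
variables, with its inverse-limit topology, is admissible, the kernel of its projection onto the
field is an ideal of definition, and the ring is not adically complete for that kernel.) -/
theorem result
    (A : Type u) [CommRing A] [UniformSpace A] [IsUniformAddGroup A] [IsTopologicalRing A]
    (hA : LinTop.IsAdmissible A) (J : Ideal A) (hJ : LinTop.IsIdealOfDefinition A J)
    (I : Ideal A) (hI : I.FG) (hIJ : I ≤ J) :
    IsAdicComplete I A := by
  obtain ⟨⟨hlin, -⟩, hT2, hC⟩ := hA
  have hI0 : ∀ U ∈ nhds (0 : A), ∃ k : ℕ, ((I ^ k : Ideal A) : Set A) ⊆ U := fun U hU => by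
    obtain ⟨k, -, hk⟩ := hJ.2 U hU
    exact ⟨k, subset_trans (fun x hx => Ideal.pow_right_mono hIJ k hx) hk⟩
  have hsm : ∀ k : ℕ, (I ^ k • ⊤ : Submodule A A) = I ^ k := fun k => by
    rw [smul_eq_mul, Ideal.mul_top]
  refine { haus' := ?_, prec' := ?_ }
  · intro x hx
    by_contra hne
    have hU : ({x}ᶜ : Set A) ∈ nhds (0 : A) :=
      isOpen_compl_singleton.mem_nhds (by simpa using Ne.symm hne)
    obtain ⟨k, hk⟩ := hI0 _ hU
    have hxk : x ∈ I ^ k := by
      have := hx k
      rwa [SModEq.zero, hsm] at this
    exact hk hxk rfl
  · intro f hf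
    have hz : ∀ n k, f (n + k + 1) - f (n + k) ∈ I ^ (n + k) := by
      intro n k
      have := (hf (Nat.le_succ (n + k))).symm
      rwa [SModEq.sub_mem, hsm] at this
    have h0 := Groth.Agent.Lib.LinTop_lead.tsum_mem_pow_of_fg I hI hI0 0
      (fun k => f (0 + k + 1) - f (0 + k)) (hz 0)
    refine ⟨f 0 + ∑' k, (f (0 + k + 1) - f (0 + k)), fun n => ?_⟩
    have hn := Groth.Agent.Lib.LinTop_lead.tsum_mem_pow_of_fg I hI hI0 n
      (fun k => f (n + k + 1) - f (n + k)) (hz n)
    have hsplit := h0.1.sum_add_tsum_nat_add n
    have htel : ∑ i ∈ Finset.range n, (f (0 + i + 1) - f (0 + i)) = f n - f 0 := by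
      simp only [zero_add]
      exact Finset.sum_range_sub f n
    have hshift : (∑' i, (f (0 + (i + n) + 1) - f (0 + (i + n)))) =
        ∑' k, (f (n + k + 1) - f (n + k)) := by
      refine tsum_congr fun i => ?_
      rw [zero_add, Nat.add_comm i n]
    rw [SModEq.comm, SModEq.sub_mem, hsm]
    have : f 0 + ∑' k, (f (0 + k + 1) - f (0 + k)) - f n =
        ∑' k, (f (n + k + 1) - f (n + k)) := by
      rw [← hsplit, htel, hshift]; ring
    rw [this]
    exact hn.2

end Groth.Agent.S4338
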