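import Groth.Statements.S4344
import Mathlib

set_option autoImplicit false
universe u
open RatMapD

namespace Groth.Agent.S4344

open AlgebraicGeometry in
open CategoryTheory in
/-- Let X be a reduced S-scheme, Y an S-scheme separated over S and f an S-rational map from X to Y.
There is a representative g of f which is an S-morphism and of which every S-morphism representing f
is a restriction; in particular g is the unique S-morphism of the class of f defined on the largest
open where some S-representative is defined. (The published statement speaks of the domain of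
definition among all representatives; over a base that is not separated that domain can be larger
than the one on which an S-representative exists, and this row takes the latter.) -/
theorem result
    (S X Y : Scheme.{u}) [X.Over S] [Y.Over S] [IsReduced X] [IsSeparated (Y ↘ S)]
    (f : X ⤏ Y) [f.IsOver S] :
    ∃ g : X.PartialMap Y, g.IsOver S ∧ g.toRationalMap = f ∧
      ∀ h : X.PartialMap Y, h.IsOver S → h.toRationalMap = f →
        ∃ hle : h.domain ≤ g.domain, h = g.restrict h.domain h.dense_domain hle := by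
  classical
  let I := {h : X.PartialMap Y // h.IsOver S ∧ h.toRationalMap = f}
  obtain ⟨h₀, hh₀, hh₀'⟩ := f.exists_partialMap_over S
  let i₀ : I := ⟨h₀, hh₀, hh₀'⟩
  let Udom : I → X.Opens := fun h => h.1.domain
  let D : X.Opens := ⨆ i, Udom i
  have hD : Dense (D : Set X) :=
    h₀.dense_domain.mono (show (h₀.domain : Set X) ⊆ D from (le_iSup Udom i₀))
  let 𝒰 : D.toScheme.OpenCover := Scheme.Opens.iSupOpenCover Udom
  have hcompat : ∀ x y : I, Limits.pullback.fst (𝒰.f x) (𝒰.f y) ≫ x.1.hom =
      Limits.pullback.snd (𝒰.f x) (𝒰.f y) ≫ y.1.hom := by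
    intro x y
    haveI := x.2.1
    haveI := y.2.1
    refine (cancel_epi (isPullback_opens_inf_le (le_iSup Udom x)
      (le_iSup Udom y)).isoPullback.hom).mp ?_
    simp only [𝒰, Scheme.Opens.iSupOpenCover, IsPullback.isoPullback_hom_fst_assoc,
      IsPullback.isoPullback_hom_snd_assoc]
    exact (Scheme.PartialMap.equiv_iff_of_isSeparated (S := S) (f := x.1) (g := y.1)).mp
      (by rw [← Scheme.PartialMap.toRationalMap_eq_iff, x.2.2, y.2.2])
  let gl : D.toScheme ⟶ Y := 𝒰.glueMorphisms (fun x => x.1.hom) hcompat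
  have hgl : ∀ x : I, X.homOfLE (le_iSup Udom x) ≫ gl = x.1.hom :=
    fun x => 𝒰.ι_glueMorphisms _ _ x
  let g : X.PartialMap Y := ⟨D, hD, gl⟩
  have ext' : ∀ (p q : X.PartialMap Y) (hle : p.domain ≤ q.domain) (hge : q.domain ≤ p.domain),
      p.hom = X.homOfLE hle ≫ q.hom → p = q := by
    intro p q hle hge H
    obtain ⟨U, hU, p⟩ := p
    obtain ⟨V, hV, q⟩ := q
    obtain rfl : U = V := le_antisymm hle hge
    congr 1
    simpa using H
  refine ⟨g, ?_, ?_, ?_⟩
  · rw [Scheme.PartialMap.isOver_iff]
    apply 𝒰.hom_ext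
    intro x
    haveI := x.2.1
    have hx := (Scheme.PartialMap.isOver_iff (S := S) (f := x.1)).mp inferInstance
    simp only [Scheme.PartialMap.compHom_hom] at hx ⊢
    change X.homOfLE (le_iSup Udom x) ≫ gl ≫ (Y ↘ S) =
      X.homOfLE (le_iSup Udom x) ≫ D.ι ≫ (X ↘ S)
    rw [← Category.assoc, hgl, hx, Scheme.homOfLE_ι_assoc]
  · rw [← hh₀', ← g.restrict_toRationalMap h₀.domain h₀.dense_domain (le_iSup Udom i₀)]
    congr 1
    refine ext' _ _ (le_refl h₀.domain) (le_refl h₀.domain) ?_
    show X.homOfLE (le_iSup Udom i₀) ≫ gl = X.homOfLE (le_refl h₀.domain) ≫ h₀.hom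
    rw [Scheme.homOfLE_rfl, Category.id_comp]
    exact hgl i₀
  · intro h hh hh'
    refine ⟨le_iSup Udom ⟨h, hh, hh'⟩, ?_⟩
    refine ext' _ _ (le_refl h.domain) (le_refl h.domain) ?_
    show h.hom = X.homOfLE (le_refl h.domain) ≫ X.homOfLE (le_iSup Udom ⟨h, hh, hh'⟩) ≫ gl
    rw [Scheme.homOfLE_rfl, Category.id_comp]
    exact (hgl ⟨h, hh, hh'⟩).symm

end Groth.Agent.S4344
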