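import Groth.Statements.S4345
import Mathlib
import Groth.Agent.Lib.LocSub_lead

set_option autoImplicit false
universe u
open SchLoc

namespace Groth.Agent.S4345

/-- Let A and B be subrings of a field R, C the subring generated by A and B, and for a subring E let
L(E) be the set of local subrings E_p of R, p a prime ideal of E. The following are equivalent: (i)
for every local subring Q of R containing A and B, the localizations of A and of B at the traces of
the maximal ideal of Q coincide; (ii) for every prime ideal r of C the localizations of A and B at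
the traces of r coincide; (iii) two members of L(A) and L(B) dominated by a common local subring of
R are equal; (iv) the intersection of L(A) and L(B) is L(C). -/
theorem result
    (R : Type u) [Field R] (A B : Subring R) :
    [ ∀ (Q : LocalSubring R) (hA : A ≤ Q.toSubring) (hB : B ≤ Q.toSubring),
        LocalSubring.ofPrime A ((IsLocalRing.maximalIdeal Q.toSubring).comap (Subring.inclusion hA)) =
          LocalSubring.ofPrime B ((IsLocalRing.maximalIdeal Q.toSubring).comap (Subring.inclusion hB)),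
      ∀ r : PrimeSpectrum ↥(A ⊔ B),
        LocalSubring.ofPrime A (r.asIdeal.comap (Subring.inclusion (le_sup_left : A ≤ A ⊔ B))) =
          LocalSubring.ofPrime B (r.asIdeal.comap (Subring.inclusion (le_sup_right : B ≤ A ⊔ B))),
      ∀ (p : PrimeSpectrum A) (q : PrimeSpectrum B),
        (∃ Q : LocalSubring R, LocalSubring.ofPrime A p.asIdeal ≤ Q ∧ LocalSubring.ofPrime B q.asIdeal ≤ Q) →
          LocalSubring.ofPrime A p.asIdeal = LocalSubring.ofPrime B q.asIdeal,
      Set.range (fun p : PrimeSpectrum A ↦ LocalSubring.ofPrime A p.asIdeal) ∩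
          Set.range (fun q : PrimeSpectrum B ↦ LocalSubring.ofPrime B q.asIdeal) =
        Set.range (fun r : PrimeSpectrum ↥(A ⊔ B) ↦ LocalSubring.ofPrime (A ⊔ B) r.asIdeal) ].TFAE := by
  have hAC : A ≤ A ⊔ B := le_sup_left
  have hBC : B ≤ A ⊔ B := le_sup_right
  tfae_have 1 → 2 := by
    intro h r
    have hA : A ≤ (LocalSubring.ofPrime (A ⊔ B) r.asIdeal).toSubring :=
      hAC.trans (LocalSubring.le_ofPrime _ _)
    have hB : B ≤ (LocalSubring.ofPrime (A ⊔ B) r.asIdeal).toSubring :=
      hBC.trans (LocalSubring.le_ofPrime _ _)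
    have h1 := h (LocalSubring.ofPrime (A ⊔ B) r.asIdeal) hA hB
    exact (Groth.Agent.Lib.LocSub.ofPrime_congr A
      (Groth.Agent.Lib.LocSub.comap_maximalIdeal_ofPrime A (A ⊔ B) hAC r.asIdeal hA)).symm.trans
      (h1.trans (Groth.Agent.Lib.LocSub.ofPrime_congr B
        (Groth.Agent.Lib.LocSub.comap_maximalIdeal_ofPrime B (A ⊔ B) hBC r.asIdeal hB)))
  tfae_have 2 → 1 := by
    intro h Q hA hB
    have hC : A ⊔ B ≤ Q.toSubring := sup_le hA hB
    have h1 := h ⟨(IsLocalRing.maximalIdeal Q.toSubring).comap (Subring.inclusion hC),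
      inferInstance⟩
    have eA : ((IsLocalRing.maximalIdeal Q.toSubring).comap (Subring.inclusion hC)).comap
        (Subring.inclusion hAC) =
        (IsLocalRing.maximalIdeal Q.toSubring).comap (Subring.inclusion hA) := by
      ext a
      rfl
    have eB : ((IsLocalRing.maximalIdeal Q.toSubring).comap (Subring.inclusion hC)).comap
        (Subring.inclusion hBC) =
        (IsLocalRing.maximalIdeal Q.toSubring).comap (Subring.inclusion hB) := by
      ext a
      rfl
    exact (Groth.Agent.Lib.LocSub.ofPrime_congr A eA).symm.trans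
      (h1.trans (Groth.Agent.Lib.LocSub.ofPrime_congr B eB))
  tfae_have 1 → 3 := by
    intro h p q hQ
    obtain ⟨Q, hp, hq⟩ := hQ
    have hA : A ≤ Q.toSubring := (LocalSubring.le_ofPrime A p.asIdeal).trans hp.1
    have hB : B ≤ Q.toSubring := (LocalSubring.le_ofPrime B q.asIdeal).trans hq.1
    have h1 := h Q hA hB
    exact (Groth.Agent.Lib.LocSub.ofPrime_congr A
      (Groth.Agent.Lib.LocSub.comap_eq_of_ofPrime_le A p.asIdeal Q hp)).symm.trans
      (h1.trans (Groth.Agent.Lib.LocSub.ofPrime_congr B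
        (Groth.Agent.Lib.LocSub.comap_eq_of_ofPrime_le B q.asIdeal Q hq)))
  tfae_have 3 → 1 := by
    intro h Q hA hB
    exact h ⟨(IsLocalRing.maximalIdeal Q.toSubring).comap (Subring.inclusion hA), inferInstance⟩
      ⟨(IsLocalRing.maximalIdeal Q.toSubring).comap (Subring.inclusion hB), inferInstance⟩
      ⟨Q, Groth.Agent.Lib.LocSub.ofPrime_comap_le A Q hA,
        Groth.Agent.Lib.LocSub.ofPrime_comap_le B Q hB⟩
  tfae_have 2 → 4 := by
    intro h
    apply Set.Subset.antisymm
    · rintro D ⟨⟨p, hp⟩, ⟨q, hq⟩⟩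
      have hp' : LocalSubring.ofPrime A p.asIdeal = D := hp
      have hq' : LocalSubring.ofPrime B q.asIdeal = D := hq
      have hAD : A ≤ D.toSubring := hp' ▸ LocalSubring.le_ofPrime A p.asIdeal
      have hBD : B ≤ D.toSubring := hq' ▸ LocalSubring.le_ofPrime B q.asIdeal
      have hCD : A ⊔ B ≤ D.toSubring := sup_le hAD hBD
      subst hp'
      refine ⟨⟨(IsLocalRing.maximalIdeal _).comap (Subring.inclusion hCD), inferInstance⟩, ?_⟩
      exact Groth.Agent.Lib.LocSub.ofPrime_comap_eq_of_ofPrime A (A ⊔ B) hAC p.asIdeal hCD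
    · rintro D ⟨r, hr⟩
      have hr' : LocalSubring.ofPrime (A ⊔ B) r.asIdeal = D := hr
      have h1 : LocalSubring.ofPrime A (r.asIdeal.comap (Subring.inclusion hAC)) =
          LocalSubring.ofPrime B (r.asIdeal.comap (Subring.inclusion hBC)) := h r
      have hC : A ⊔ B ≤
          (LocalSubring.ofPrime A (r.asIdeal.comap (Subring.inclusion hAC))).toSubring := by
        apply sup_le (LocalSubring.le_ofPrime A _)
        rw [h1]
        exact LocalSubring.le_ofPrime B _
      have h2 := Groth.Agent.Lib.LocSub.ofPrime_eq_of_le A (A ⊔ B) hAC r.asIdeal hC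
      have hC' : A ⊔ B ≤
          (LocalSubring.ofPrime B (r.asIdeal.comap (Subring.inclusion hBC))).toSubring := by
        rw [← h1]
        exact hC
      have h3 := Groth.Agent.Lib.LocSub.ofPrime_eq_of_le B (A ⊔ B) hBC r.asIdeal hC'
      refine ⟨⟨⟨r.asIdeal.comap (Subring.inclusion hAC), inferInstance⟩, ?_⟩,
        ⟨⟨r.asIdeal.comap (Subring.inclusion hBC), inferInstance⟩, ?_⟩⟩
      · exact h2.trans hr'
      · exact h3.trans hr'
  tfae_have 4 → 2 := by
    intro h r
    have hmem : LocalSubring.ofPrime (A ⊔ B) r.asIdeal ∈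
        Set.range (fun r : PrimeSpectrum ↥(A ⊔ B) ↦ LocalSubring.ofPrime (A ⊔ B) r.asIdeal) :=
      ⟨r, rfl⟩
    rw [← h] at hmem
    obtain ⟨⟨p, hp⟩, ⟨q, hq⟩⟩ := hmem
    have hp' : LocalSubring.ofPrime A p.asIdeal = LocalSubring.ofPrime (A ⊔ B) r.asIdeal := hp
    have hq' : LocalSubring.ofPrime B q.asIdeal = LocalSubring.ofPrime (A ⊔ B) r.asIdeal := hq
    have hA : A ≤ (LocalSubring.ofPrime (A ⊔ B) r.asIdeal).toSubring :=
      hAC.trans (LocalSubring.le_ofPrime _ _)
    have hB : B ≤ (LocalSubring.ofPrime (A ⊔ B) r.asIdeal).toSubring :=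
      hBC.trans (LocalSubring.le_ofPrime _ _)
    have e1 : r.asIdeal.comap (Subring.inclusion hAC) = p.asIdeal := by
      rw [← Groth.Agent.Lib.LocSub.comap_maximalIdeal_ofPrime A (A ⊔ B) hAC r.asIdeal hA]
      exact Groth.Agent.Lib.LocSub.comap_eq_of_ofPrime_le A p.asIdeal _ (le_of_eq hp')
    have e2 : r.asIdeal.comap (Subring.inclusion hBC) = q.asIdeal := by
      rw [← Groth.Agent.Lib.LocSub.comap_maximalIdeal_ofPrime B (A ⊔ B) hBC r.asIdeal hB]
      exact Groth.Agent.Lib.LocSub.comap_eq_of_ofPrime_le B q.asIdeal _ (le_of_eq hq')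
    exact (Groth.Agent.Lib.LocSub.ofPrime_congr A e1).trans
      (hp'.trans (hq'.symm.trans (Groth.Agent.Lib.LocSub.ofPrime_congr B e2).symm))
  tfae_finish

end Groth.Agent.S4345
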