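import Groth.Statements.S4346
import Mathlib

set_option autoImplicit false
universe u
open SchLoc

namespace Groth.Agent.S4346

open CategoryTheory in
open AlgebraicGeometry in
/-- On an integral separated scheme distinct points have distinct local rings inside the function field. -/
theorem result (X : Scheme.{u}) [IsIntegral X] [X.IsSeparated] :
    Function.Injective (fun x : X ↦ (algebraMap (X.presheaf.stalk x) X.functionField).range) := by
  have key : ∀ x y : X, (algebraMap (X.presheaf.stalk y) X.functionField).range ≤
      (algebraMap (X.presheaf.stalk x) X.functionField).range → x ⤳ y := by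
    intro x y h
    have hinjx : Function.Injective (algebraMap (X.presheaf.stalk x) X.functionField) :=
      IsFractionRing.injective _ _
    let e := RingEquiv.ofBijective (algebraMap (X.presheaf.stalk x) X.functionField).rangeRestrict
      ⟨(by intro a b hab; exact hinjx (congrArg Subtype.val hab)),
        (algebraMap (X.presheaf.stalk x) X.functionField).rangeRestrict_surjective⟩
    let ψ : X.presheaf.stalk y →+* X.presheaf.stalk x := e.symm.toRingHom.comp
      ((Subring.inclusion h).comp (algebraMap (X.presheaf.stalk y) X.functionField).rangeRestrict)
    have hψ : (algebraMap (X.presheaf.stalk x) X.functionField).comp ψ =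
        algebraMap (X.presheaf.stalk y) X.functionField := by
      ext b
      have : algebraMap (X.presheaf.stalk x) X.functionField (e.symm (Subring.inclusion h
          ((algebraMap (X.presheaf.stalk y) X.functionField).rangeRestrict b))) =
          ((e (e.symm (Subring.inclusion h
          ((algebraMap (X.presheaf.stalk y) X.functionField).rangeRestrict b))) :
            (algebraMap (X.presheaf.stalk x) X.functionField).range) : X.functionField) := rfl
      refine this.trans ?_
      rw [e.apply_symm_apply]; rfl
    have hηx : genericPoint X ⤳ x := (genericPoint_spec X).specializes trivial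
    have hηy : genericPoint X ⤳ y := (genericPoint_spec X).specializes trivial
    have hix' : algebraMap (X.presheaf.stalk x) X.functionField =
        (X.presheaf.stalkSpecializes hηx).hom := rfl
    have hiy' : algebraMap (X.presheaf.stalk y) X.functionField =
        (X.presheaf.stalkSpecializes hηy).hom := rfl
    let ι : Spec X.functionField ⟶ Spec (X.presheaf.stalk x) :=
      Spec.map (X.presheaf.stalkSpecializes hηx)
    haveI : IsDominant ι := ⟨by
      show DenseRange (PrimeSpectrum.comap (X.presheaf.stalkSpecializes hηx).hom)
      rw [PrimeSpectrum.denseRange_comap_iff_ker_le_nilRadical, ← hix',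
        (RingHom.injective_iff_ker_eq_bot _).mp hinjx]
      exact bot_le⟩
    let ψ' : X.presheaf.stalk y ⟶ X.presheaf.stalk x := CommRingCat.ofHom ψ
    have hab : X.fromSpecStalk x = Spec.map ψ' ≫ X.fromSpecStalk y := by
      apply ext_of_isDominant (ι := ι)
      rw [Scheme.SpecMap_stalkSpecializes_fromSpecStalk, ← Category.assoc, ← Spec.map_comp]
      have : ψ' ≫ X.presheaf.stalkSpecializes hηx =
          X.presheaf.stalkSpecializes hηy := by
        ext1
        rw [CommRingCat.hom_comp, ← hix', ← hiy']
        exact hψ
      rw [this, Scheme.SpecMap_stalkSpecializes_fromSpecStalk]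
    have h1 : X.fromSpecStalk x (IsLocalRing.closedPoint (X.presheaf.stalk x)) = x :=
      Scheme.fromSpecStalk_closedPoint
    rw [hab, Scheme.Hom.comp_apply] at h1
    have hmem : x ∈ Set.range (X.fromSpecStalk y) := ⟨_, h1⟩
    rw [Scheme.range_fromSpecStalk] at hmem
    exact hmem
  intro x y hxy
  have hxy' : (algebraMap (X.presheaf.stalk x) X.functionField).range =
      (algebraMap (X.presheaf.stalk y) X.functionField).range := hxy
  exact ((key x y hxy'.ge).antisymm (key y x hxy'.le)).eq

end Groth.Agent.S4346
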