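import Groth.Statements.S4349
import Mathlib

set_option autoImplicit false
universe u
open RatFun

namespace Groth.Agent.S4349

open AlgebraicGeometry in
open CategoryTheory in
/-- Second assertion (in the form: sections over a dense open inject into the ring of rational
functions). Let X be a reduced scheme and V a dense open subset of X. The canonical map from the
sections of O_X over V to the ring R(X) of rational functions on X is injective. (The published
statement also assumes X locally integral or locally Noetherian; that hypothesis serves the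
quasi-coherence of the sheaf of rational functions and is not needed here.) -/
theorem result (X : Scheme.{u}) [IsReduced X]
    (V : X.Opens) (hV : Dense (V : Set X)) :
    Function.Injective (RatFun.toRing X V hV) := by
  classical
  haveI : IsCofilteredOrEmpty (IsDenseOpen X).FullSubcategory :=
    { cone_objs := fun U W => ⟨⟨U.1 ⊓ W.1, U.2.inter_of_isOpen_left W.2 U.1.2⟩,
        ObjectProperty.homMk (homOfLE inf_le_left), ObjectProperty.homMk (homOfLE inf_le_right),
        trivial⟩
      cone_maps := fun U W f g => ⟨U, 𝟙 U, by
        apply ObjectProperty.hom_ext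
        exact Subsingleton.elim _ _⟩ }
  haveI : Nonempty (IsDenseOpen X).FullSubcategory := ⟨⟨⊤, dense_univ⟩⟩
  haveI : IsCofiltered (IsDenseOpen X).FullSubcategory := {}
  intro s t hst
  obtain ⟨k, f, g, hfg⟩ := Limits.Concrete.colimit_exists_of_rep_eq (sectionsOnDense X)
    (i := Opposite.op ⟨V, hV⟩) (j := Opposite.op ⟨V, hV⟩) s t hst
  have hfg' : f = g := by
    apply Quiver.Hom.unop_inj
    apply ObjectProperty.hom_ext
    exact Subsingleton.elim _ _
  subst hfg'
  have hW : Dense (k.unop.obj : Set X) := k.unop.property
  have hWV : k.unop.obj ≤ V := f.unop.hom.le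
  have hres : X.presheaf.map (homOfLE hWV).op (s - t) = 0 := by
    rw [map_sub, sub_eq_zero]
    exact hfg
  rw [← sub_eq_zero]
  apply eq_zero_of_basicOpen_eq_bot
  have h1 : X.basicOpen (X.presheaf.map (homOfLE hWV).op (s - t)) =
      k.unop.obj ⊓ X.basicOpen (s - t) := Scheme.basicOpen_res _ _ _
  rw [hres, Scheme.basicOpen_zero] at h1
  by_contra hne
  obtain ⟨x, hx⟩ : (X.basicOpen (s - t) : Set X).Nonempty := by
    rw [Set.nonempty_iff_ne_empty]
    intro h
    exact hne (TopologicalSpace.Opens.ext h)
  obtain ⟨y, hy1, hy2⟩ := hW.inter_open_nonempty _ (X.basicOpen (s - t)).2 ⟨x, hx⟩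
  have : y ∈ (k.unop.obj ⊓ X.basicOpen (s - t)) := ⟨hy2, hy1⟩
  rw [← h1] at this
  exact this

end Groth.Agent.S4349
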