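import Groth.Statements.S4365
import Mathlib
import Groth.Agent.S2268

set_option autoImplicit false
universe u
open FinCond

namespace Groth.Agent.S4365

open AlgebraicGeometry in
open CategoryTheory in
/-- Let K be a field, X and Y schemes locally of finite type over K, f : X -> Y a K-morphism and Ω an
algebraically closed extension field of K of infinite transcendence degree over K (there is an
algebraically independent sequence in Ω). Then f is surjective if and only if the map it induces
from the K-points of X with values in Ω to those of Y is surjective, i.e. every K-morphism Spec Ω ->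
Y factors through f. (The published proposition assumes X and Y of finite type over K, and a later
remark of the same text extends it to X and Y locally of finite type over K, the form stated here.) -/
theorem result
    (K Ω : Type u) [Field K] [Field Ω] [IsAlgClosed Ω] [Algebra K Ω]
    (t : ℕ → Ω) (ht : AlgebraicIndependent K t)
    {X Y : Scheme.{u}} (pX : X ⟶ Spec (CommRingCat.of K)) (pY : Y ⟶ Spec (CommRingCat.of K))
    [LocallyOfFiniteType pX] [LocallyOfFiniteType pY] (f : X ⟶ Y) (hf : f ≫ pY = pX) :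
    Surjective f ↔ ∀ y : Spec (CommRingCat.of Ω) ⟶ Y,
      y ≫ pY = Spec.map (CommRingCat.ofHom (algebraMap K Ω)) →
        ∃ x : Spec (CommRingCat.of Ω) ⟶ X, x ≫ f = y := by
  have hflft : LocallyOfFiniteType f := by
    have : LocallyOfFiniteType (f ≫ pY) := hf ▸ inferInstance
    exact locallyOfFiniteType_of_comp f pY
  constructor
  · intro hs y _
    exact (Groth.Agent.S2268.result f).mp hs Ω y
  · intro H
    refine ⟨fun y => ?_⟩
    obtain ⟨U, hyU⟩ : ∃ U : Y.affineOpens, y ∈ U.1 := by
      have hy' : y ∈ (⨆ i : Y.affineOpens, (i : Y.Opens)) := by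
        rw [iSup_affineOpens_eq_top]; trivial
      exact TopologicalSpace.Opens.mem_iSup.mp hy'
    have hU := U.2
    let φ : CommRingCat.of K ⟶ Γ(Y, U.1) := Spec.preimage (hU.fromSpec ≫ pY)
    have hφ : Spec.map φ = hU.fromSpec ≫ pY := Spec.map_preimage _
    have hφft : RingHom.FiniteType φ.hom := by
      have : LocallyOfFiniteType (Spec.map φ) := by rw [hφ]; infer_instance
      exact (HasRingHomProperty.Spec_iff (P := @LocallyOfFiniteType)).mp this
    letI : Algebra K Γ(Y, U.1) := φ.hom.toAlgebra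
    haveI hAft : Algebra.FiniteType K Γ(Y, U.1) := hφft
    let p : PrimeSpectrum Γ(Y, U.1) := hU.primeIdealOf ⟨y, hyU⟩
    haveI : p.asIdeal.IsPrime := p.isPrime
    haveI : Algebra.FiniteType K (Γ(Y, U.1) ⧸ p.asIdeal) :=
      Algebra.FiniteType.of_surjective (Ideal.Quotient.mkₐ K p.asIdeal)
        (Ideal.Quotient.mkₐ_surjective K _)
    obtain ⟨s, g, hginj, hgfin⟩ := exists_finite_inj_algHom_of_fg K (Γ(Y, U.1) ⧸ p.asIdeal)
    letI : Algebra (MvPolynomial (Fin s) K) (Γ(Y, U.1) ⧸ p.asIdeal) := g.toRingHom.toAlgebra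
    let a : MvPolynomial (Fin s) K →ₐ[K] Ω := MvPolynomial.aeval (t ∘ (Fin.val : Fin s → ℕ))
    have hainj : Function.Injective a := ht.comp _ Fin.val_injective
    letI : Algebra (MvPolynomial (Fin s) K) Ω := a.toRingHom.toAlgebra
    haveI : Module.IsTorsionFree (MvPolynomial (Fin s) K) (Γ(Y, U.1) ⧸ p.asIdeal) :=
      Module.isTorsionFree_iff_algebraMap_injective.mpr hginj
    haveI : Module.IsTorsionFree (MvPolynomial (Fin s) K) Ω :=
      Module.isTorsionFree_iff_algebraMap_injective.mpr hainj
    haveI : Module.Finite (MvPolynomial (Fin s) K) (Γ(Y, U.1) ⧸ p.asIdeal) := hgfin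
    haveI : Algebra.IsIntegral (MvPolynomial (Fin s) K) (Γ(Y, U.1) ⧸ p.asIdeal) := inferInstance
    haveI : Algebra.IsAlgebraic (MvPolynomial (Fin s) K) (Γ(Y, U.1) ⧸ p.asIdeal) := inferInstance
    let ψ₀ : (Γ(Y, U.1) ⧸ p.asIdeal) →ₐ[MvPolynomial (Fin s) K] Ω := IsAlgClosed.lift
    have hψ₀inj : Function.Injective ψ₀ := by
      have hker : RingHom.ker ψ₀.toRingHom = ⊥ := by
        apply Ideal.eq_bot_of_comap_eq_bot (R := MvPolynomial (Fin s) K)
        rw [eq_bot_iff]
        intro r hr
        have h1 : ψ₀ (algebraMap (MvPolynomial (Fin s) K) (Γ(Y, U.1) ⧸ p.asIdeal) r) = 0 := hr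
        rw [ψ₀.commutes] at h1
        have : r = 0 := hainj (by rw [map_zero]; exact h1)
        simpa using this
      exact (RingHom.injective_iff_ker_eq_bot ψ₀.toRingHom).mpr hker
    let ψ : Γ(Y, U.1) →+* Ω := ψ₀.toRingHom.comp (Ideal.Quotient.mk p.asIdeal)
    have hψK : ∀ k : K, ψ (φ.hom k) = algebraMap K Ω k := by
      intro k
      show ψ₀ (Ideal.Quotient.mk p.asIdeal (algebraMap K Γ(Y, U.1) k)) = _
      have h1 : Ideal.Quotient.mk p.asIdeal (algebraMap K Γ(Y, U.1) k) =
          algebraMap K (Γ(Y, U.1) ⧸ p.asIdeal) k := rfl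
      have h2 : algebraMap K (Γ(Y, U.1) ⧸ p.asIdeal) k =
          algebraMap (MvPolynomial (Fin s) K) (Γ(Y, U.1) ⧸ p.asIdeal)
            (algebraMap K (MvPolynomial (Fin s) K) k) := by
        show _ = g (algebraMap K (MvPolynomial (Fin s) K) k)
        exact (g.commutes k).symm
      rw [h1, h2, ψ₀.commutes]
      show a (algebraMap K (MvPolynomial (Fin s) K) k) = _
      exact a.commutes k
    have hψker : ∀ x, ψ x = 0 ↔ x ∈ p.asIdeal := by
      intro x
      show ψ₀ (Ideal.Quotient.mk p.asIdeal x) = 0 ↔ _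
      rw [map_eq_zero_iff _ hψ₀inj, Ideal.Quotient.eq_zero_iff_mem]
    let y' : Spec (CommRingCat.of Ω) ⟶ Y := Spec.map (CommRingCat.ofHom ψ) ≫ hU.fromSpec
    have hy'K : y' ≫ pY = Spec.map (CommRingCat.ofHom (algebraMap K Ω)) := by
      rw [Category.assoc, ← hφ, ← Spec.map_comp]
      congr 1
      ext k
      exact hψK k
    obtain ⟨x, hx⟩ := H y' hy'K
    refine ⟨x (IsLocalRing.closedPoint Ω), ?_⟩
    rw [← Scheme.Hom.comp_apply, hx]
    have h1 : (Spec.map (CommRingCat.ofHom ψ)) (IsLocalRing.closedPoint Ω) = p := by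
      apply PrimeSpectrum.ext
      show Ideal.comap ψ (IsLocalRing.maximalIdeal Ω) = p.asIdeal
      ext x
      rw [Ideal.mem_comap, IsLocalRing.maximalIdeal_eq_bot, Ideal.mem_bot]
      exact hψker x
    show hU.fromSpec ((Spec.map (CommRingCat.ofHom ψ)) (IsLocalRing.closedPoint Ω)) = y
    rw [h1]
    exact hU.fromSpec_primeIdealOf ⟨y, hyU⟩

end Groth.Agent.S4365
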