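import Groth.Statements.S4366
import Mathlib

set_option autoImplicit false
universe u
open SchMor

namespace Groth.Agent.S4366

open AlgebraicGeometry in
open CategoryTheory in
open CategoryTheory.Limits in
/-- Let f : X -> Y be a morphism, y a point of Y and Z = Spec O_{Y,y} the local scheme of Y at y with
its canonical morphism to Y. Then the projection p : X x_Y Z -> X induces isomorphisms on all local
rings: for every point t of X x_Y Z the homomorphism O_{X, p t} -> O_{X x_Y Z, t} is bijective. (The
published statement also asserts that p is a homeomorphism onto the preimage of Z; that part is not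
stated here.) -/
theorem result
    {X Y : Scheme.{u}} (f : X ⟶ Y) (y : Y) (t : ↑(pullback f (Y.fromSpecStalk y))) :
    IsIso ((pullback.fst f (Y.fromSpecStalk y)).stalkMap t) := by
  have hflat : Flat (Y.fromSpecStalk y) := by
    obtain ⟨U, hU, hyU⟩ : ∃ U : Y.Opens, IsAffineOpen U ∧ y ∈ U := by
      obtain ⟨_, ⟨U, hU, rfl⟩, hyU, -⟩ := Y.isBasis_affineOpens.exists_subset_of_mem_open
        (Set.mem_univ y) isOpen_univ
      exact ⟨U, hU, hyU⟩
    rw [← hU.fromSpecStalk_eq_fromSpecStalk hyU]
    unfold IsAffineOpen.fromSpecStalk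
    have : Flat (Spec.map (Y.presheaf.germ U y hyU)) := by
      rw [HasRingHomProperty.Spec_iff (P := @Flat)]
      letI : Algebra Γ(Y, U) (Y.presheaf.stalk y) :=
        TopCat.Presheaf.algebra_section_stalk Y.presheaf (U := U) ⟨y, hyU⟩
      haveI := hU.isLocalization_stalk ⟨y, hyU⟩
      exact IsLocalization.flat (Y.presheaf.stalk y) (hU.primeIdealOf ⟨y, hyU⟩).asIdeal.primeCompl
    infer_instance
  have hp : Flat (pullback.fst f (Y.fromSpecStalk y)) := inferInstance
  have hp' : IsPreimmersion (pullback.fst f (Y.fromSpecStalk y)) := inferInstance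
  generalize pullback.fst f (Y.fromSpecStalk y) = p at hp hp' ⊢
  apply (ConcreteCategory.isIso_iff_bijective _).mpr
  constructor
  · algebraize [(p.stalkMap t).hom]
    have : Module.FaithfullyFlat (X.presheaf.stalk (p t)) ((pullback f (Y.fromSpecStalk y)).presheaf.stalk t) :=
      @Module.FaithfullyFlat.of_flat_of_isLocalHom _ _ _ _ _ _ _
        (Flat.stalkMap p t) (p.toLRSHom.prop t)
    exact ‹RingHom.FaithfullyFlat _›.injective
  · exact p.stalkMap_surjective t

end Groth.Agent.S4366
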