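import Groth.Statements.S4368

-- import your own Groth.Agent.* helpers here

set_option autoImplicit false
universe u
open RedSep

namespace Groth.Agent.S4368

open AlgebraicGeometry in
open CategoryTheory in
/-- Let X be a scheme and I a quasi-coherent sheaf of ideals of O_X whose support is all of X, so that
the closed subscheme it defines has underlying space X. Then that closed subscheme is reduced if and
only if I is the nilradical of O_X. In particular the closed subscheme defined by the nilradical is
the unique reduced closed subscheme of X with underlying space X (and, the support condition being
equivalent to I being contained in the nilradical, the smallest one). -/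
theorem result
    (X : Scheme.{u}) (I : X.IdealSheafData) (hI : I.support = ⊤) :
    IsReduced I.subscheme ↔ I = X.nilradical := by
  have hrad : I.radical = X.nilradical := by
    rw [← Scheme.IdealSheafData.vanishingIdeal_support, hI, Scheme.IdealSheafData.vanishingIdeal_top]
  rw [← hrad, IsReduced.iff_of_openCover (X := I.subscheme) I.subschemeCover.openCover]
  constructor
  · intro h
    ext U : 2
    have hU : IsReduced (Spec (.of (Γ(X, U) ⧸ I.ideal U))) := h U
    rw [affine_isReduced_iff] at hU
    have : (I.ideal U).IsRadical := (Ideal.isRadical_iff_quotient_reduced _).2 hU
    simp [this.radical]
  · intro h U'
    let U : X.affineOpens := U'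
    change IsReduced (Spec (.of (Γ(X, U) ⧸ I.ideal U)))
    rw [affine_isReduced_iff]
    apply (Ideal.isRadical_iff_quotient_reduced _).1
    have h2 : I.ideal U = (I.ideal U).radical := by
      conv_lhs => rw [h]
      simp
    rw [h2]; exact Ideal.radical_isRadical _

end Groth.Agent.S4368
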