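import Groth.Statements.S4369

-- import your own Groth.Agent.* helpers here

set_option autoImplicit false
universe u
open AffSch

namespace Groth.Agent.S4369

/-- Let φ : A' -> A be a ring homomorphism such that every f in A can be written f = h φ(f') with h
invertible in A (this holds in particular when φ is surjective). Then the associated continuous map
Spec A -> Spec A' is a homeomorphism onto its image. -/
theorem result
    {A' A : Type u} [CommRing A'] [CommRing A] (φ : A' →+* A)
    (h : ∀ f : A, ∃ (u : Aˣ) (f' : A'), f = (u : A) * φ f') :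
    Topology.IsEmbedding (PrimeSpectrum.comap φ) := by
  have hmem : ∀ (p : PrimeSpectrum A) (f : A) (u : Aˣ) (f' : A'), f = (u : A) * φ f' →
      (f ∈ p.asIdeal ↔ f' ∈ (PrimeSpectrum.comap φ p).asIdeal) := by
    intro p f u f' hf
    rw [PrimeSpectrum.comap_asIdeal, Ideal.mem_comap, hf]
    constructor
    · intro h1
      have := p.asIdeal.mul_mem_left ((u⁻¹ : Aˣ) : A) h1
      rwa [← mul_assoc, Units.inv_mul, one_mul] at this
    · intro h1
      exact p.asIdeal.mul_mem_left _ h1
  have hind : Topology.IsInducing (PrimeSpectrum.comap φ) := by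
    refine ⟨le_antisymm (continuous_iff_le_induced.1 (PrimeSpectrum.continuous_comap φ)) ?_⟩
    have hgen : (PrimeSpectrum.zariskiTopology : TopologicalSpace (PrimeSpectrum A)) =
        TopologicalSpace.generateFrom (Set.range fun r : A => (PrimeSpectrum.basicOpen r : Set (PrimeSpectrum A))) :=
      PrimeSpectrum.isTopologicalBasis_basic_opens.eq_generateFrom
    rw [hgen]
    apply le_generateFrom
    rintro _ ⟨f, rfl⟩
    obtain ⟨u, f', hf⟩ := h f
    rw [isOpen_induced_iff]
    refine ⟨PrimeSpectrum.basicOpen f', (PrimeSpectrum.basicOpen f').isOpen, ?_⟩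
    ext p
    simp only [Set.mem_preimage, SetLike.mem_coe, PrimeSpectrum.mem_basicOpen]
    rw [not_iff_not]
    exact (hmem p f u f' hf).symm
  exact hind.isEmbedding

end Groth.Agent.S4369
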