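import Groth.Statements.S4370
import Groth.Agent.S4368
import Mathlib.AlgebraicGeometry.Morphisms.ClosedImmersion
import Mathlib.AlgebraicGeometry.Morphisms.Separated
-- import your own Groth.Agent.* helpers here

set_option autoImplicit false
universe u
open RedSep

namespace Groth.Agent.S4370

open AlgebraicGeometry in
open CategoryTheory in
/-- Let f : X -> Y be an open immersion and let g : X_red -> Y_red be the morphism of reduced schemes
induced by f, i.e. the morphism between the closed subschemes defined by the nilradicals whose
composite with the inclusion of Y_red in Y is the inclusion of X_red in X followed by f. Then g is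
an open immersion. -/
theorem result
    {X Y : Scheme.{u}} (f : X ⟶ Y) [IsOpenImmersion f]
    (g : X.nilradical.subscheme ⟶ Y.nilradical.subscheme)
    (hg : g ≫ Y.nilradical.subschemeι = X.nilradical.subschemeι ≫ f) :
    IsOpenImmersion g := by
  let ιX := X.nilradical.subschemeι
  let ιY := Y.nilradical.subschemeι
  let l : X.nilradical.subscheme ⟶ Limits.pullback ιY f := Limits.pullback.lift g ιX hg
  have h1 : l ≫ Limits.pullback.fst ιY f = g := Limits.pullback.lift_fst _ _ _
  have h2 : l ≫ Limits.pullback.snd ιY f = ιX := Limits.pullback.lift_snd _ _ _
  haveI : IsReduced Y.nilradical.subscheme :=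
    (Groth.Agent.S4368.result Y Y.nilradical Y.support_nilradical).2 rfl
  haveI : IsReduced (Limits.pullback ιY f) := isReduced_of_isOpenImmersion (Limits.pullback.fst ιY f)
  haveI : IsClosedImmersion (l ≫ Limits.pullback.snd ιY f) := by rw [h2]; infer_instance
  haveI : IsClosedImmersion l :=
    IsClosedImmersion.of_comp_isClosedImmersion l (Limits.pullback.snd ιY f)
  have hsX : Function.Surjective ιX := by
    rw [← Set.range_eq_univ]
    change Set.range X.nilradical.subschemeι = _
    rw [Scheme.IdealSheafData.range_subschemeι, Scheme.support_nilradical]; rfl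
  haveI : Surjective l := by
    refine ⟨fun p => ?_⟩
    obtain ⟨x, hx⟩ := hsX (Limits.pullback.snd ιY f p)
    refine ⟨x, ?_⟩
    apply (Limits.pullback.snd ιY f).isEmbedding.injective
    rw [← Scheme.Hom.comp_apply, h2]; exact hx
  haveI : IsIso l := isIso_of_isClosedImmersion_of_surjective l
  rw [← h1]; infer_instance

end Groth.Agent.S4370
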