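import Groth.Statements.S4371
import Mathlib

set_option autoImplicit false
universe u
open RedSep

namespace Groth.Agent.S4371

open AlgebraicGeometry CategoryTheory Opposite in
/-- On an integral affine scheme, if `x` is prime and does not divide `y`, then every function on
`D(x) ∪ D(y)` extends uniquely to a global function. -/
theorem restrict_bijective {X : Scheme.{u}} [IsIntegral X] [IsAffine X] (x y : Γ(X, ⊤))
    (hx : Prime x) (hxy : ¬ x ∣ y) :
    Function.Bijective
      (X.presheaf.map (homOfLE (le_top : X.basicOpen x ⊔ X.basicOpen y ≤ ⊤)).op) := by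
  have hx0 : x ≠ 0 := hx.ne_zero
  have hy0 : y ≠ 0 := fun h => hxy (h ▸ dvd_zero x)
  have hinj : ∀ (V : X.Opens) (hV : genericPoint X ∈ V),
      Function.Injective (X.presheaf.germ V (genericPoint X) hV) :=
    fun V hV => germ_injective_of_isIntegral X (genericPoint X) hV
  have hgx : X.presheaf.germ ⊤ (genericPoint X) trivial x ≠ 0 :=
    fun h => hx0 (hinj _ _ (h.trans (map_zero _).symm))
  have hgy : X.presheaf.germ ⊤ (genericPoint X) trivial y ≠ 0 :=
    fun h => hy0 (hinj _ _ (h.trans (map_zero _).symm))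
  have hηx : genericPoint X ∈ X.basicOpen x := by
    rw [Scheme.mem_basicOpen_top]
    exact isUnit_iff_ne_zero.mpr hgx
  have hηy : genericPoint X ∈ X.basicOpen y := by
    rw [Scheme.mem_basicOpen_top]
    exact isUnit_iff_ne_zero.mpr hgy
  have hηU : genericPoint X ∈ X.basicOpen x ⊔ X.basicOpen y :=
    (le_sup_left : X.basicOpen x ≤ _) hηx
  constructor
  · intro a a' h
    apply hinj ⊤ trivial
    have := congrArg (X.presheaf.germ _ (genericPoint X) hηU) h
    rw [TopCat.Presheaf.germ_res_apply, TopCat.Presheaf.germ_res_apply] at this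
    exact this
  · intro b
    obtain ⟨n, a, ha⟩ := exists_eq_pow_mul_of_isAffineOpen X ⊤ (isAffineOpen_top X) x
      (X.presheaf.map (homOfLE (le_sup_left : X.basicOpen x ≤ X.basicOpen x ⊔ X.basicOpen y)).op b)
    obtain ⟨m, c, hc⟩ := exists_eq_pow_mul_of_isAffineOpen X ⊤ (isAffineOpen_top X) y
      (X.presheaf.map (homOfLE (le_sup_right : X.basicOpen y ≤ X.basicOpen x ⊔ X.basicOpen y)).op b)
    dsimp only [TopCat.Presheaf.restrictOpenCommRingCat_apply] at ha hc
    have ha' : X.presheaf.germ ⊤ (genericPoint X) trivial a =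
        (X.presheaf.germ ⊤ (genericPoint X) trivial x) ^ n *
          X.presheaf.germ _ (genericPoint X) hηU b := by
      have := congrArg (X.presheaf.germ _ (genericPoint X) hηx) ha
      rw [map_mul, map_pow, TopCat.Presheaf.germ_res_apply, TopCat.Presheaf.germ_res_apply,
        TopCat.Presheaf.germ_res_apply] at this
      exact this
    have hc' : X.presheaf.germ ⊤ (genericPoint X) trivial c =
        (X.presheaf.germ ⊤ (genericPoint X) trivial y) ^ m *
          X.presheaf.germ _ (genericPoint X) hηU b := by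
      have := congrArg (X.presheaf.germ _ (genericPoint X) hηy) hc
      rw [map_mul, map_pow, TopCat.Presheaf.germ_res_apply, TopCat.Presheaf.germ_res_apply,
        TopCat.Presheaf.germ_res_apply] at this
      exact this
    have key : a * y ^ m = c * x ^ n := by
      apply hinj ⊤ trivial
      rw [map_mul, map_mul, map_pow, map_pow, ha', hc']
      ring
    have hdvd : x ^ n ∣ a :=
      hx.pow_dvd_of_dvd_mul_right n (fun h => hxy (hx.dvd_of_dvd_pow h))
        ⟨c, by rw [key, mul_comm]⟩
    obtain ⟨a', rfl⟩ := hdvd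
    refine ⟨a', ?_⟩
    apply hinj _ hηU
    rw [TopCat.Presheaf.germ_res_apply]
    have h1 : (X.presheaf.germ ⊤ (genericPoint X) trivial x) ^ n *
        X.presheaf.germ ⊤ (genericPoint X) trivial a' =
        (X.presheaf.germ ⊤ (genericPoint X) trivial x) ^ n *
          X.presheaf.germ _ (genericPoint X) hηU b := by
      rw [← ha', map_mul, map_pow]
    exact mul_left_cancel₀ (pow_ne_zero n hgx) h1

open AlgebraicGeometry in
open CategoryTheory in
/-- Let K be a field and Y = Spec K[s, t] the affine plane over K. The open subset D(s) ∪ D(t) of Y, the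
complement of the closed point s = t = 0, is not affine. -/
theorem result
    (K : Type u) [Field K] :
    ¬ IsAffineOpen (X := Spec (CommRingCat.of (MvPolynomial (Fin 2) K)))
      (PrimeSpectrum.basicOpen (MvPolynomial.X 0 : MvPolynomial (Fin 2) K) ⊔
        PrimeSpectrum.basicOpen (MvPolynomial.X 1 : MvPolynomial (Fin 2) K)) := by
  intro hU
  let R := MvPolynomial (Fin 2) K
  let e : Γ(Spec (CommRingCat.of R), ⊤) ≃+* R :=
    (Scheme.ΓSpecIso (CommRingCat.of R)).commRingCatIsoToRingEquiv
  let x' : Γ(Spec (CommRingCat.of R), ⊤) := e.symm (MvPolynomial.X 0)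
  let y' : Γ(Spec (CommRingCat.of R), ⊤) := e.symm (MvPolynomial.X 1)
  have hbx : (Spec (CommRingCat.of R)).basicOpen x' =
      PrimeSpectrum.basicOpen (MvPolynomial.X 0 : R) :=
    basicOpen_eq_of_affine (R := CommRingCat.of R) (MvPolynomial.X 0)
  have hby : (Spec (CommRingCat.of R)).basicOpen y' =
      PrimeSpectrum.basicOpen (MvPolynomial.X 1 : R) :=
    basicOpen_eq_of_affine (R := CommRingCat.of R) (MvPolynomial.X 1)
  have hU' : IsAffineOpen ((Spec (CommRingCat.of R)).basicOpen x' ⊔
      (Spec (CommRingCat.of R)).basicOpen y') := by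
    rw [hbx, hby]; exact hU
  have hx' : Prime x' := (MulEquiv.prime_iff e.symm).mpr (MvPolynomial.X_prime (R := K) (i := (0 : Fin 2)))
  have hxy' : ¬ x' ∣ y' := by
    intro h
    have h1 : e x' ∣ e y' := map_dvd e h
    simp only [x', y', RingEquiv.apply_symm_apply] at h1
    obtain ⟨q, hq⟩ := h1
    have := congrArg (MvPolynomial.eval (fun i : Fin 2 => if i = 0 then (0 : K) else 1)) hq
    simp at this
  have hbij := restrict_bijective x' y' hx' hxy'
  have hiso : IsIso ((Spec (CommRingCat.of R)).presheaf.map (homOfLE (le_top :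
      (Spec (CommRingCat.of R)).basicOpen x' ⊔ (Spec (CommRingCat.of R)).basicOpen y' ≤ ⊤)).op) :=
    (ConcreteCategory.isIso_iff_bijective _).mpr hbij
  have hfs := (isAffineOpen_top (Spec (CommRingCat.of R))).map_fromSpec hU'
    (homOfLE (le_top : (Spec (CommRingCat.of R)).basicOpen x' ⊔
      (Spec (CommRingCat.of R)).basicOpen y' ≤ ⊤)).op
  have hrange : (((Spec (CommRingCat.of R)).basicOpen x' ⊔
      (Spec (CommRingCat.of R)).basicOpen y' : (Spec (CommRingCat.of R)).Opens) :
        Set (Spec (CommRingCat.of R))) = Set.univ := by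
    rw [← hU'.range_fromSpec, ← hfs, Scheme.Hom.comp_base, TopCat.coe_comp, Set.range_comp,
      Set.range_eq_univ.mpr (Scheme.Hom.surjective _), Set.image_univ,
      (isAffineOpen_top (Spec (CommRingCat.of R))).range_fromSpec]
    rfl
  let p0 : PrimeSpectrum R :=
    ⟨RingHom.ker (MvPolynomial.eval (0 : Fin 2 → K)), RingHom.ker_isPrime _⟩
  have hp0 : p0 ∈ (((Spec (CommRingCat.of R)).basicOpen x' ⊔
      (Spec (CommRingCat.of R)).basicOpen y' : (Spec (CommRingCat.of R)).Opens) :
        Set (Spec (CommRingCat.of R))) := by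
    rw [hrange]; trivial
  rw [hbx, hby] at hp0
  rcases hp0 with h | h
  · exact (PrimeSpectrum.mem_basicOpen _ _).mp h (by simp [p0, RingHom.mem_ker])
  · exact (PrimeSpectrum.mem_basicOpen _ _).mp h (by simp [p0, RingHom.mem_ker])

end Groth.Agent.S4371
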