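import Groth.Statements.S4372
import Mathlib
import Groth.Agent.S4367

set_option autoImplicit false
universe u
open RedSep

namespace Groth.Agent.S4372

open AlgebraicGeometry in
open CategoryTheory in
/-- Let h : Z -> X be an immersion with Z reduced (a reduced subscheme of X), and let W be the reduced
closed subscheme of X whose underlying space is the closure of h(Z). Then Z is an open subscheme of
W: h factors as an open immersion Z -> W followed by the closed immersion W -> X. Stated as the
existence of such a factorization through a reduced scheme W closed-immersed onto the closure of the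
image. -/
theorem result
    {Z X : Scheme.{u}} (h : Z ⟶ X) [IsImmersion h] [IsReduced Z] :
    ∃ (W : Scheme.{u}) (j : Z ⟶ W) (i : W ⟶ X), IsOpenImmersion j ∧ IsClosedImmersion i ∧
      IsReduced W ∧ Set.range i = closure (Set.range h) ∧ j ≫ i = h := by
  let C : TopologicalSpace.Closeds X := ⟨closure (Set.range h), isClosed_closure⟩
  let I := Scheme.IdealSheafData.vanishingIdeal C
  let W := I.subscheme
  let i : W ⟶ X := I.subschemeι
  have hW : IsReduced W := by
    rw [IsReduced.iff_of_openCover (X := I.subscheme) I.subschemeCover.openCover]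
    intro U'
    let U : X.affineOpens := U'
    change IsReduced (Spec (.of (Γ(X, U) ⧸ I.ideal U)))
    rw [affine_isReduced_iff]
    apply (Ideal.isRadical_iff_quotient_reduced _).1
    rw [Scheme.IdealSheafData.vanishingIdeal_ideal]
    exact PrimeSpectrum.isRadical_vanishingIdeal _
  have hri : Set.range i = closure (Set.range h) := by
    rw [Scheme.IdealSheafData.range_subschemeι]
    simp [I, C]
  obtain ⟨j, hj⟩ : ∃ j : Z ⟶ W, j ≫ i = h :=
    Groth.Agent.S4367.result h i (by rw [hri]; exact subset_closure)
  refine ⟨W, j, i, ?_, inferInstance, hW, hri, hj⟩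
  let U : X.Opens := h.coborderRange
  let WU : W.Opens := i ⁻¹ᵁ U
  have hjU : Set.range j ⊆ WU := by
    rintro _ ⟨z, rfl⟩
    show i (j z) ∈ U
    rw [← Scheme.Hom.comp_apply, hj]
    exact subset_coborder ⟨z, rfl⟩
  let j' : Z ⟶ WU.toScheme := IsOpenImmersion.lift WU.ι j (by simpa using hjU)
  have hj' : j' ≫ WU.ι = j := IsOpenImmersion.lift_fac _ _ _
  have e1 : j' ≫ (i ∣_ U) = h.liftCoborder := by
    rw [← cancel_mono U.ι, Category.assoc, morphismRestrict_ι, ← Category.assoc, hj', hj,
      Scheme.Hom.liftCoborder_ι]
  have hc1 : IsClosedImmersion (j' ≫ (i ∣_ U)) := e1 ▸ inferInstance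
  have hc2 : IsClosedImmersion j' := IsClosedImmersion.of_comp_isClosedImmersion j' (i ∣_ U)
  have hs : Surjective j' := by
    constructor
    intro w
    have hw1 : i (WU.ι w) ∈ (U : Set X) := w.2
    have hw2 : i (WU.ι w) ∈ closure (Set.range h) := hri ▸ ⟨_, rfl⟩
    have hw3 : i (WU.ι w) ∈ Set.range h := by
      rw [← coborder_inter_closure (s := Set.range h)]
      exact ⟨hw1, hw2⟩
    obtain ⟨z, hz⟩ := hw3
    refine ⟨z, ?_⟩
    apply WU.ι.isEmbedding.injective
    apply i.isEmbedding.injective
    rw [← Scheme.Hom.comp_apply, ← Scheme.Hom.comp_apply, ← Category.assoc, hj', hj, hz]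
  have : IsReduced WU.toScheme := inferInstance
  have : IsIso j' := isIso_of_isClosedImmersion_of_surjective j'
  rw [← hj']
  infer_instance

end Groth.Agent.S4372
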