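import Groth.Statements.S4378
import Mathlib
-- import your own Groth.Agent.* helpers here

set_option autoImplicit false
universe u
open CategoryTheory CategoryTheory.Limits AlgebraicGeometry

open EGA2

namespace Groth.Agent.S4378

/-- Let q : Y → S be separated and of finite type, and f : X → Y a morphism such that X is also
separated and of finite type over S through f ≫ q. Then f is proper if and only if for every scheme
S' over S the morphism X ×_S S' → Y ×_S S' induced by f is closed (as a map of topological spaces). -/
theorem result {X Y S : Scheme.{u}} (q : Y ⟶ S) (f : X ⟶ Y)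
    [IsSeparated q] [LocallyOfFiniteType q] [QuasiCompact q]
    [IsSeparated (f ≫ q)] [LocallyOfFiniteType (f ≫ q)] [QuasiCompact (f ≫ q)] :
    IsProper f ↔ ∀ (S' : Scheme.{u}) (g : S' ⟶ S),
      IsClosedMap (pullback.map (f ≫ q) g q g f (𝟙 S') (𝟙 S) (Category.comp_id (f ≫ q))
        ((Category.comp_id g).trans (Category.id_comp g).symm)).base := by
  have key : ∀ (S' : Scheme.{u}) (g : S' ⟶ S),
      IsPullback (pullback.map (f ≫ q) g q g f (𝟙 S') (𝟙 S) (Category.comp_id (f ≫ q))
          ((Category.comp_id g).trans (Category.id_comp g).symm))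
        (pullback.fst (f ≫ q) g) (pullback.fst q g) f := by
    intro S' g
    have h0 : pullback.map (f ≫ q) g q g f (𝟙 S') (𝟙 S) (Category.comp_id (f ≫ q))
        ((Category.comp_id g).trans (Category.id_comp g).symm) ≫ pullback.fst q g =
        pullback.fst (f ≫ q) g ≫ f := by
      simp only [pullback.map]
      exact pullback.lift_fst _ _ _
    have h1 : pullback.map (f ≫ q) g q g f (𝟙 S') (𝟙 S) (Category.comp_id (f ≫ q))
        ((Category.comp_id g).trans (Category.id_comp g).symm) ≫ pullback.snd q g =
        pullback.snd (f ≫ q) g := by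
      simp only [pullback.map]
      rw [pullback.lift_snd, Category.comp_id]
    refine IsPullback.of_right ?_ h0 (IsPullback.of_hasPullback q g).flip
    rw [h1]
    exact (IsPullback.of_hasPullback (f ≫ q) g).flip
  constructor
  · intro hf S' g
    have : IsProper (pullback.map (f ≫ q) g q g f (𝟙 S') (𝟙 S) (Category.comp_id (f ≫ q))
        ((Category.comp_id g).trans (Category.id_comp g).symm)) :=
      MorphismProperty.of_isPullback (P := @IsProper) (key S' g).flip hf
    exact Scheme.Hom.isClosedMap _
  · intro H
    have hsep : IsSeparated f := IsSeparated.of_comp f q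
    have hft : LocallyOfFiniteType f := locallyOfFiniteType_of_comp f q
    have huc : UniversallyClosed f := by
      rw [universallyClosed_eq]
      intro X' Y' i₁ i₂ f' hsq
      -- base change to `S' = Y'`
      have hm := H Y' (i₂ ≫ q)
      have hk := key Y' (i₂ ≫ q)
      set m := pullback.map (f ≫ q) (i₂ ≫ q) q (i₂ ≫ q) f (𝟙 Y') (𝟙 S) (Category.comp_id (f ≫ q))
        ((Category.comp_id (i₂ ≫ q)).trans (Category.id_comp (i₂ ≫ q)).symm) with hmdef
      let Γ : Y' ⟶ pullback q (i₂ ≫ q) := pullback.lift i₂ (𝟙 Y') (by simp)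
      let j : X' ⟶ pullback (f ≫ q) (i₂ ≫ q) := pullback.lift i₁ f'
        (by rw [← Category.assoc, ← hsq.w, Category.assoc])
      have hΓ1 : Γ ≫ pullback.fst q (i₂ ≫ q) = i₂ := pullback.lift_fst ..
      have hΓ2 : Γ ≫ pullback.snd q (i₂ ≫ q) = 𝟙 Y' := pullback.lift_snd ..
      have hj1 : j ≫ pullback.fst (f ≫ q) (i₂ ≫ q) = i₁ := pullback.lift_fst ..
      have hj2 : j ≫ pullback.snd (f ≫ q) (i₂ ≫ q) = f' := pullback.lift_snd ..
      have hm1 : m ≫ pullback.fst q (i₂ ≫ q) = pullback.fst (f ≫ q) (i₂ ≫ q) ≫ f := hk.w
      have hm2 : m ≫ pullback.snd q (i₂ ≫ q) = pullback.snd (f ≫ q) (i₂ ≫ q) := by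
        rw [hmdef]
        simp only [pullback.map]
        rw [pullback.lift_snd, Category.comp_id]
      have hcomm : j ≫ m = f' ≫ Γ := by
        apply pullback.hom_ext
        · rw [Category.assoc, Category.assoc, hΓ1, hm1, ← Category.assoc, hj1, hsq.w]
        · rw [Category.assoc, Category.assoc, hΓ2, hm2, hj2, Category.comp_id]
      have hpb : IsPullback j f' m Γ := by
        refine IsPullback.of_right ?_ hcomm hk.flip
        rw [hj1, hΓ1]
        exact hsq.flip
      have hsnd : IsSeparated (pullback.snd q (i₂ ≫ q)) :=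
        MorphismProperty.pullback_snd (P := @IsSeparated) _ _ inferInstance
      have hΓci : IsClosedImmersion Γ := by
        have : IsClosedImmersion (Γ ≫ pullback.snd q (i₂ ≫ q)) := by rw [hΓ2]; infer_instance
        exact IsClosedImmersion.of_comp Γ (pullback.snd q (i₂ ≫ q))
      have hjci : IsClosedImmersion j := MorphismProperty.of_isPullback (P := @IsClosedImmersion) hpb.flip hΓci
      -- closedness
      intro C hC
      have h1 : IsClosed (j.base '' C) := j.isClosedEmbedding.isClosedMap C hC
      have h2 : IsClosed (m.base '' (j.base '' C)) := hm _ h1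
      have h3 : f'.base '' C = Γ.base ⁻¹' (m.base '' (j.base '' C)) := by
        ext y
        constructor
        · rintro ⟨c, hc, rfl⟩
          refine ⟨j.base c, ⟨c, hc, rfl⟩, ?_⟩
          exact congrArg (fun g => g.base c) hcomm
        · rintro ⟨_, ⟨c, hc, rfl⟩, hy⟩
          refine ⟨c, hc, ?_⟩
          apply Γ.isClosedEmbedding.injective
          rw [← hy]
          exact (congrArg (fun g => g.base c) hcomm).symm
      rw [h3]
      exact h2.preimage Γ.continuous
    exact ⟨⟩

end Groth.Agent.S4378
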