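import Groth.Statements.S4380
import Groth.Agent.Lib.Tens13_helper8

set_option autoImplicit false
universe u
open CategoryTheory CategoryTheory.Limits AlgebraicGeometry
open EGA2

namespace Groth.Agent.S4380

/-- Let f : X → Y be a quasi-compact morphism, L an O_X-module and (U_i) a cover of Y by open subsets.
Then L is ample relative to f if and only if, for every i, the restriction of L to f⁻¹(U_i) is ample
relative to the restriction f⁻¹(U_i) → U_i of f. -/
theorem result {X Y : Scheme.{u}} (f : X ⟶ Y) [QuasiCompact f] (L : X.Modules)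
    {ι : Type u} (U : ι → Y.Opens) (hU : ⨆ i, U i = ⊤) :
    RelAmple.IsRelAmple f L ↔ ∀ i, RelAmple.IsRelAmple (f ∣_ (U i)) (L.restrict (f ⁻¹ᵁ (U i)).ι) := by
  constructor
  · intro h i
    have hL := TensH8.isInvertible_of_isRelAmple f h
    have hLi := TensH8.isInvertible_restrict (f ⁻¹ᵁ (U i)).ι hL
    rw [TensH8.isRelAmple_iff _ hLi]
    refine ⟨inferInstance, fun V' => ?_⟩
    rw [TensH8.isAmpleOn_restrict_iff (f ⁻¹ᵁ (U i)).ι hL, image_morphismRestrict_preimage]
    exact ((TensH8.isRelAmple_iff f hL).mp h).2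
      ⟨(U i).ι ''ᵁ V'.1, V'.2.image_of_isOpenImmersion (U i).ι⟩
  · intro h
    have hcov : ∀ y : Y, ∃ i, y ∈ U i := by
      intro y
      have : y ∈ (⨆ i, U i : Y.Opens) := hU ▸ trivial
      exact TopologicalSpace.Opens.mem_iSup.mp this
    have hL : PicF.IsInvertible L := by
      apply TensH8.isInvertible_of_restrict_cover
      intro x
      obtain ⟨i, hi⟩ := hcov (f x)
      exact ⟨f ⁻¹ᵁ (U i), hi, TensH8.isInvertible_of_isRelAmple _ (h i)⟩
    apply TensH8.isRelAmple_of_local f hL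
    intro y
    obtain ⟨i, hi⟩ := hcov y
    refine ⟨U i, hi, fun V hV => ?_⟩
    have hLi := TensH8.isInvertible_restrict (f ⁻¹ᵁ (U i)).ι hL
    have e : (U i).ι ''ᵁ ((U i).ι ⁻¹ᵁ V.1) = V.1 := by
      rw [Scheme.Hom.image_preimage_eq_opensRange_inf, Scheme.Opens.opensRange_ι]
      exact inf_eq_right.mpr hV
    have haff : IsAffineOpen ((U i).ι ⁻¹ᵁ V.1) := by
      rw [← (U i).ι.isAffineOpen_iff_of_isOpenImmersion, e]
      exact V.2
    have h1 := ((TensH8.isRelAmple_iff _ hLi).mp (h i)).2 ⟨(U i).ι ⁻¹ᵁ V.1, haff⟩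
    rw [TensH8.isAmpleOn_restrict_iff (f ⁻¹ᵁ (U i)).ι hL, image_morphismRestrict_preimage, e] at h1
    exact h1

end Groth.Agent.S4380
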