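import Groth.Statements.S4399
import Mathlib
import Groth.Agent.Lib.ProjTwGen_helper5
import Groth.Agent.Lib.WDivSh6_helper8

set_option autoImplicit false
universe u
open CategoryTheory CategoryTheory.Limits AlgebraicGeometry
open EGA2

namespace Groth.Agent.S4399

/-- Let S be a ring graded in nonnegative degrees, X = Proj S, d > 0, and U the union of the opens
D_+(f) for f running through S_d. Then for every integer n the restriction of the twisting sheaf
O_X(nd) to U is an invertible O_U-module. -/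
theorem result {R A : Type u} [CommRing R] [CommRing A] [Algebra R A] (𝒜 : ℕ → Submodule R A) [GradedAlgebra 𝒜]
    (d : ℕ) (hd : 0 < d) (n : ℤ) :
    PicF.IsInvertible ((Twist.twist 𝒜 (n * d)).restrict (⨆ f : 𝒜 d, Proj.basicOpen 𝒜 (f : A)).ι) := by
  apply TensH8.isInvertible_of_gens
  intro y
  obtain ⟨f, hyf⟩ := TopologicalSpace.Opens.mem_iSup.mp y.2
  have hle : Proj.basicOpen 𝒜 (f : A) ≤ ⨆ f : 𝒜 d, Proj.basicOpen 𝒜 (f : A) :=
    le_iSup (fun f : 𝒜 d => Proj.basicOpen 𝒜 (f : A)) f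
  refine ⟨(⨆ f : 𝒜 d, Proj.basicOpen 𝒜 (f : A)).ι ⁻¹ᵁ Proj.basicOpen 𝒜 (f : A),
    (Proj.isAffineOpen_basicOpen 𝒜 (f : A) f.2 hd).preimage_of_isOpenImmersion _
      (by rw [Scheme.Opens.opensRange_ι]; exact hle), hyf, _,
    WDivShH8.isGen_restrict _ _ (Groth.Agent.ProjTw.isGen_genSec 𝒜 hd f.2 n) _
      (Scheme.Hom.image_preimage_le _ _)⟩

end Groth.Agent.S4399
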