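import Groth.Statements.S4401
import Mathlib
import Groth.Agent.Lib.ProjTwGG_helper5

set_option autoImplicit false
universe u
open CategoryTheory CategoryTheory.Limits AlgebraicGeometry
open EGA2

namespace Groth.Agent.S4401

/-- Let S be a ring graded in nonnegative degrees whose irrelevant ideal S_+ is generated by finitely
many elements of degree one, and X = Proj S. Then for every integer n ≥ 0 there exist an integer k
and an epimorphism of O_X-modules O_X^k → O_X(n). -/
theorem result {R A : Type u} [CommRing R] [CommRing A] [Algebra R A] (𝒜 : ℕ → Submodule R A) [GradedAlgebra 𝒜]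
    (s : Finset A) (hs1 : ∀ f ∈ s, f ∈ 𝒜 1)
    (hs : (HomogeneousIdeal.irrelevant 𝒜).toIdeal = Ideal.span (s : Set A)) (n : ℕ) :
    ∃ (k : ℕ) (p : FlatMod.freeMod (Proj 𝒜) k ⟶ Twist.twist 𝒜 (n : ℤ)), Epi p := by
  refine ⟨s.card, Groth.Agent.ProjTw.powMap 𝒜 (fun i => (s.equivFin.symm i).1)
    (fun i => hs1 _ (s.equivFin.symm i).2) n, ?_⟩
  apply Groth.Agent.ProjTw.epi_powMap
  intro x
  by_contra hcon
  push Not at hcon
  have hx : ∀ f ∈ s, f ∈ (x : ProjectiveSpectrum 𝒜).asHomogeneousIdeal := by
    intro f hf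
    by_contra hfx
    have := hcon (s.equivFin ⟨f, hf⟩)
    rw [Equiv.symm_apply_apply] at this
    exact this hfx
  apply (x : ProjectiveSpectrum 𝒜).not_irrelevant_le
  intro a ha
  have ha' : a ∈ (HomogeneousIdeal.irrelevant 𝒜).toIdeal := ha
  rw [hs] at ha'
  exact (Ideal.span_le.mpr (fun f hf => hx f hf)) ha'

end Groth.Agent.S4401
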