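import Groth.Statements.S4404
import Groth.Agent.Lib.ProjNull_helper3
-- import your own Groth.Agent.* helpers here

set_option autoImplicit false
universe u
open EGA2
open HomogeneousLocalization

namespace Groth.Agent.S4404

/-- (a) ⇔ (b): let S be a ring graded in nonnegative degrees and E a subset of the irrelevant ideal S_+.
Then V_+(E) is the whole of Proj S if and only if every element of E is nilpotent. -/
theorem result {R A : Type u} [CommRing R] [CommRing A] [Algebra R A] (𝒜 : ℕ → Submodule R A) [GradedAlgebra 𝒜]
    (E : Set A) (hE : E ⊆ (HomogeneousIdeal.irrelevant 𝒜).toIdeal) :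
    ProjectiveSpectrum.zeroLocus 𝒜 E = Set.univ ↔ ∀ e ∈ E, IsNilpotent e := by
  constructor
  · intro h e he
    rw [Groth.Agent.Lib.ProjNull_helper3.isNilpotent_iff 𝒜 (hE he)]
    intro x
    have hx : x ∈ ProjectiveSpectrum.zeroLocus 𝒜 E := h ▸ Set.mem_univ x
    exact hx he
  · intro h
    ext x
    simp only [Set.mem_univ, iff_true, ProjectiveSpectrum.mem_zeroLocus]
    intro e he
    obtain ⟨k, hk⟩ := h e he
    exact x.isPrime.mem_of_pow_mem k (hk ▸ zero_mem _)

end Groth.Agent.S4404
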