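import Groth.Statements.S4405
import Groth.Agent.Lib.ProjNull_helper3
-- import your own Groth.Agent.* helpers here

set_option autoImplicit false
universe u
open EGA2
open HomogeneousLocalization

namespace Groth.Agent.S4405

/-- Let S be a ring graded in nonnegative degrees and E any subset of the irrelevant ideal S_+. Then the
intersection of S_+ with the vanishing ideal of the closed subset V_+(E) of Proj S equals the
intersection of S_+ with the radical of the graded ideal generated by E (the smallest homogeneous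
ideal containing E). -/
theorem result {R A : Type u} [CommRing R] [CommRing A] [Algebra R A] (𝒜 : ℕ → Submodule R A) [GradedAlgebra 𝒜]
    (E : Set A) (hE : E ⊆ (HomogeneousIdeal.irrelevant 𝒜).toIdeal) :
    (HomogeneousIdeal.irrelevant 𝒜).toIdeal ⊓
        (ProjectiveSpectrum.vanishingIdeal (ProjectiveSpectrum.zeroLocus 𝒜 E)).toIdeal =
      (HomogeneousIdeal.irrelevant 𝒜).toIdeal ⊓ (Ideal.homogeneousHull 𝒜 (Ideal.span E)).toIdeal.radical := by
  ext g
  simp only [Ideal.mem_inf]
  constructor
  · rintro ⟨hg, h⟩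
    refine ⟨hg, ?_⟩
    rw [Groth.Agent.Lib.ProjNull_helper3.mem_radical_iff 𝒜 (HomogeneousIdeal.isHomogeneous _) hg]
    intro x hx
    rw [HomogeneousIdeal.mem_iff, ProjectiveSpectrum.mem_vanishingIdeal] at h
    refine h x ?_
    rw [ProjectiveSpectrum.mem_zeroLocus]
    exact fun e he => hx (Ideal.le_toIdeal_homogeneousHull 𝒜 _ (Ideal.subset_span he))
  · rintro ⟨hg, h⟩
    refine ⟨hg, ?_⟩
    rw [HomogeneousIdeal.mem_iff, ProjectiveSpectrum.mem_vanishingIdeal]
    intro x hx
    rw [ProjectiveSpectrum.mem_zeroLocus] at hx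
    refine (Groth.Agent.Lib.ProjNull_helper3.mem_radical_iff 𝒜 (HomogeneousIdeal.isHomogeneous _) hg).mp h x ?_
    exact (Ideal.homogeneousHull.gc 𝒜 _ _).mpr (Ideal.span_le.mpr hx)

end Groth.Agent.S4405
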