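import Groth.Statements.S4411
import Mathlib
-- import your own Groth.Agent.* helpers here

set_option autoImplicit false
universe u
open EGA2


namespace Groth.Agent.S4411

/-- Let S be a ring graded in nonnegative degrees which is an S_0-algebra of finite type, d > 0, and
S^{(d)} the graded ring whose degree-n part is S_{nd} (given here as any graded ring S' with an
injective algebra homomorphism φ : S' → S carrying S'_n onto S_{nd} for every n). Then S^{(d)} is an
algebra of finite type over its degree-zero part S'_0 (which φ identifies with S_0). -/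
theorem result {R A : Type u} [CommRing R] [CommRing A] [Algebra R A] (𝒜 : ℕ → Submodule R A) [GradedAlgebra 𝒜] [Algebra.FiniteType (𝒜 0) A]
    {B : Type u} [CommRing B] [Algebra R B] (ℬ : ℕ → Submodule R B) [GradedAlgebra ℬ]
    (d : ℕ) (hd : 0 < d) (φ : B →ₐ[R] A) (hφ : Function.Injective φ)
    (hdeg : ∀ n : ℕ, Submodule.map φ.toLinearMap (ℬ n) = 𝒜 (n * d)) :
    Algebra.FiniteType (ℬ 0) B := by
  classical
  -- projection onto the degrees divisible by `d`
  let π : A →+ A :=
    (DirectSum.toAddMonoid (fun n => if d ∣ n then (𝒜 n).subtype.toAddMonoidHom else (0 : 𝒜 n →+ A))).comp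
      (DirectSum.decomposeAddEquiv 𝒜).toAddMonoidHom
  have hπ : ∀ {n : ℕ} {a : A}, a ∈ 𝒜 n → π a = if d ∣ n then a else 0 := by
    intro n a ha
    change DirectSum.toAddMonoid _ (DirectSum.decompose 𝒜 a) = _
    rw [DirectSum.decompose_of_mem 𝒜 ha, DirectSum.toAddMonoid_of]
    split_ifs <;> rfl
  have hφdeg : ∀ {m : ℕ} {b : B}, b ∈ ℬ m → φ b ∈ 𝒜 (m * d) := fun {m b} hb => (hdeg m).le ⟨b, hb, rfl⟩
  have hπrange : ∀ a, ∃ b, φ b = π a := by
    intro a
    refine DirectSum.Decomposition.inductionOn 𝒜 (motive := fun a => ∃ b, φ b = π a) ?_ ?_ ?_ a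
    · exact ⟨0, by rw [map_zero, map_zero]⟩
    · intro n a
      rw [hπ a.2]
      split_ifs with h
      · obtain ⟨k, hk⟩ := h
        have : (a : A) ∈ Submodule.map φ.toLinearMap (ℬ k) := by
          rw [hdeg k, mul_comm, ← hk]
          exact a.2
        obtain ⟨b, -, hb⟩ := this
        exact ⟨b, hb⟩
      · exact ⟨0, map_zero φ⟩
    · rintro a b ⟨x, hx⟩ ⟨y, hy⟩
      exact ⟨x + y, by rw [map_add, map_add, hx, hy]⟩
  have hπmul : ∀ b a, π (φ b * a) = φ b * π a := by
    intro b a
    refine DirectSum.Decomposition.inductionOn ℬ (motive := fun b => π (φ b * a) = φ b * π a) ?_ ?_ ?_ b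
    · rw [map_zero, zero_mul, map_zero, zero_mul]
    · intro m b
      refine DirectSum.Decomposition.inductionOn 𝒜 (motive := fun a => π (φ b * a) = φ b * π a) ?_ ?_ ?_ a
      · rw [mul_zero, map_zero, mul_zero]
      · intro n a
        have hmem : φ b * a ∈ 𝒜 (m * d + n) := SetLike.mul_mem_graded (hφdeg b.2) a.2
        rw [hπ hmem, hπ a.2]
        have hiff : d ∣ m * d + n ↔ d ∣ n := Nat.dvd_add_right (Dvd.intro_left m rfl)
        by_cases h : d ∣ n
        · rw [if_pos h, if_pos (hiff.mpr h)]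
        · rw [if_neg h, if_neg (fun h' => h (hiff.mp h')), mul_zero]
      · intro a a' h h'
        rw [mul_add, map_add, map_add, h, h', mul_add]
    · intro b b' h h'
      rw [map_add, add_mul, map_add, h, h', add_mul]
  have hπφ : ∀ b, π (φ b) = φ b := by
    have h1 : π 1 = 1 := by
      rw [hπ (SetLike.GradedOne.one_mem : (1 : A) ∈ 𝒜 0), if_pos (dvd_zero d)]
    intro b
    have := hπmul b 1
    rwa [mul_one, h1, mul_one] at this
  -- algebra structures
  let _instBA : Algebra B A := φ.toRingHom.toAlgebra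
  let _instB0A : Algebra (ℬ 0) A := (φ.toRingHom.comp (algebraMap (ℬ 0) B)).toAlgebra
  have htower : IsScalarTower (ℬ 0) B A := IsScalarTower.of_algebraMap_eq (fun x => rfl)
  have hAM : ∀ b : B, algebraMap B A b = φ b := fun b => rfl
  -- `A` is of finite type over `ℬ 0`
  have hft : Algebra.FiniteType (ℬ 0) A := by
    obtain ⟨s, hs⟩ := (inferInstance : Algebra.FiniteType (𝒜 0) A).out
    refine ⟨⟨s, ?_⟩⟩
    rw [eq_top_iff]
    intro a _
    have ha : a ∈ Algebra.adjoin (𝒜 0) (s : Set A) := by rw [hs]; trivial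
    refine Algebra.adjoin_induction (p := fun a _ => a ∈ Algebra.adjoin (ℬ 0) (s : Set A)) ?_ ?_ ?_ ?_ ha
    · intro x hx
      exact Algebra.subset_adjoin hx
    · intro r
      have hr : (r : A) ∈ Submodule.map φ.toLinearMap (ℬ 0) := by
        rw [hdeg 0, zero_mul]; exact r.2
      obtain ⟨b, hb, hbr⟩ := hr
      have : algebraMap (𝒜 0) A r = algebraMap (ℬ 0) A ⟨b, hb⟩ := hbr.symm
      rw [this]
      exact Subalgebra.algebraMap_mem _ _
    · intro x y _ _ hx hy
      exact add_mem hx hy
    · intro x y _ _ hx hy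
      exact mul_mem hx hy
  -- `A` is integral over `B`
  have hint : Algebra.IsIntegral B A := by
    refine ⟨fun a => ?_⟩
    refine DirectSum.Decomposition.inductionOn 𝒜 (motive := fun a => IsIntegral B a) ?_ ?_ ?_ a
    · exact isIntegral_zero
    · intro n a
      have h1 : (a : A) ^ d ∈ 𝒜 (d • n) := SetLike.pow_mem_graded d a.2
      have h2 : (a : A) ^ d ∈ Submodule.map φ.toLinearMap (ℬ n) := by
        rw [hdeg n, mul_comm]; exact h1
      obtain ⟨b, -, hb⟩ := h2
      refine IsIntegral.of_pow hd ?_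
      have : (a : A) ^ d = algebraMap B A b := hb.symm
      rw [this]
      exact isIntegral_algebraMap
    · intro a b ha hb
      exact ha.add hb
  have hftB : Algebra.FiniteType B A := Algebra.FiniteType.of_restrictScalars_finiteType (ℬ 0) B A
  have hfin : Module.Finite B A := Algebra.IsIntegral.finite
  obtain ⟨B₀, hB₀fg, hB₀fin⟩ := exists_subalgebra_of_fg (ℬ 0) B A hft.out hfin.fg_top
  -- the retraction
  choose ρ hρ using hπrange
  have hρadd : ∀ a a', ρ (a + a') = ρ a + ρ a' := fun a a' =>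
    hφ (by rw [map_add, hρ, hρ, hρ, map_add])
  have hρsmul : ∀ (b : B) a, ρ (φ b * a) = b * ρ a := fun b a =>
    hφ (by rw [map_mul, hρ, hρ, hπmul])
  have hρφ : ∀ b, ρ (φ b) = b := fun b => hφ (by rw [hρ, hπφ])
  let ρl : A →ₗ[B₀] B :=
    { toFun := ρ
      map_add' := hρadd
      map_smul' := fun c a => hρsmul (c : B) a }
  have hsurj : Function.Surjective ρl := fun b => ⟨φ b, hρφ b⟩
  have hfinA : Module.Finite B₀ A := ⟨hB₀fin⟩
  have hfinB : Module.Finite B₀ B := Module.Finite.of_surjective ρl hsurj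
  have h1 : Algebra.FiniteType (ℬ 0) B₀ := (Subalgebra.fg_iff_finiteType B₀).mp hB₀fg
  have h2 : Algebra.FiniteType B₀ B := inferInstance
  exact Algebra.FiniteType.trans h1 h2

end Groth.Agent.S4411
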