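import Groth.Statements.S4412
-- (no extra imports)

set_option autoImplicit false
universe u
open EGA2

namespace Groth.Agent.S4412

/-- Let S be a ring graded in nonnegative degrees which is Noetherian, d > 0, and S^{(d)} the graded
ring with degree-n part S_{nd} (given as a graded ring S' with an injective algebra homomorphism φ :
S' → S carrying S'_n onto S_{nd} for every n). Then S^{(d)} is Noetherian. -/
theorem result {R A : Type u} [CommRing R] [CommRing A] [Algebra R A] (𝒜 : ℕ → Submodule R A) [GradedAlgebra 𝒜] [IsNoetherianRing A]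
    {B : Type u} [CommRing B] [Algebra R B] (ℬ : ℕ → Submodule R B) [GradedAlgebra ℬ]
    (d : ℕ) (hd : 0 < d) (φ : B →ₐ[R] A) (hφ : Function.Injective φ)
    (hdeg : ∀ n : ℕ, Submodule.map φ.toLinearMap (ℬ n) = 𝒜 (n * d)) :
    IsNoetherianRing B := by
  classical
  let πk : ∀ k : ℕ, 𝒜 k →+ A := fun k => if d ∣ k then (𝒜 k).subtype.toAddMonoidHom else 0
  let π : A →+ A :=
    (DirectSum.toAddMonoid πk).comp (DirectSum.decomposeAddEquiv 𝒜).toAddMonoidHom
  have hπhom : ∀ (k : ℕ) (a : A), a ∈ 𝒜 k → π a = if d ∣ k then a else 0 := by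
    intro k a ha
    show DirectSum.toAddMonoid πk (DirectSum.decompose 𝒜 a) = _
    rw [DirectSum.decompose_of_mem 𝒜 ha, DirectSum.toAddMonoid_of]
    show (if d ∣ k then (𝒜 k).subtype.toAddMonoidHom else 0) ⟨a, ha⟩ = _
    split_ifs <;> rfl
  have hπmul_hom : ∀ (n : ℕ) (s : A), s ∈ 𝒜 (n * d) → ∀ a : A, π (s * a) = s * π a := by
    intro n s hs a
    refine DirectSum.Decomposition.inductionOn 𝒜 (motive := fun a => π (s * a) = s * π a) ?_ ?_ ?_ a
    · simp
    · intro k m
      have hm : (m : A) ∈ 𝒜 k := m.2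
      have hsm : s * (m : A) ∈ 𝒜 (n * d + k) := SetLike.mul_mem_graded hs hm
      rw [hπhom _ _ hsm, hπhom _ _ hm]
      have hiff : d ∣ n * d + k ↔ d ∣ k := Nat.dvd_add_right (dvd_mul_left d n)
      by_cases hk : d ∣ k
      · rw [if_pos hk, if_pos (hiff.mpr hk)]
      · rw [if_neg hk, if_neg (fun h => hk (hiff.mp h)), mul_zero]
    · intro a a' h h'
      rw [mul_add, map_add, map_add, h, h', mul_add]
  have hφdeg : ∀ (n : ℕ) (b : B), b ∈ ℬ n → φ b ∈ 𝒜 (n * d) := by
    intro n b hb
    rw [← hdeg n]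
    exact Submodule.mem_map_of_mem (f := φ.toLinearMap) hb
  have hπmul : ∀ (b : B) (a : A), π (φ b * a) = φ b * π a := by
    intro b a
    refine DirectSum.Decomposition.inductionOn ℬ (motive := fun b => π (φ b * a) = φ b * π a)
      ?_ ?_ ?_ b
    · simp
    · intro n m
      exact hπmul_hom n _ (hφdeg n _ m.2) a
    · intro b b' h h'
      rw [map_add, add_mul, map_add, h, h', add_mul]
  have hπrange : ∀ a : A, ∃ b : B, π a = φ b := by
    intro a
    refine DirectSum.Decomposition.inductionOn 𝒜 (motive := fun a => ∃ b : B, π a = φ b) ?_ ?_ ?_ a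
    · exact ⟨0, by simp⟩
    · intro k m
      rw [hπhom k _ m.2]
      by_cases hk : d ∣ k
      · rw [if_pos hk]
        obtain ⟨n, hn⟩ := hk
        have hmem : (m : A) ∈ Submodule.map φ.toLinearMap (ℬ n) := by
          rw [hdeg n, mul_comm, ← hn]
          exact m.2
        obtain ⟨b, _, hb⟩ := hmem
        exact ⟨b, hb.symm⟩
      · rw [if_neg hk]
        exact ⟨0, by simp⟩
    · rintro a a' ⟨b, hb⟩ ⟨b', hb'⟩
      exact ⟨b + b', by rw [map_add, hb, hb', map_add]⟩
  have hπφ : ∀ b : B, π (φ b) = φ b := by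
    intro b
    have h1 : π 1 = 1 := by
      rw [hπhom 0 1 (SetLike.one_mem_graded 𝒜), if_pos (dvd_zero d)]
    have h2 := hπmul b 1
    rwa [mul_one, h1, mul_one] at h2
  have hcontr : ∀ I : Ideal B, Ideal.comap φ (Ideal.map φ I) = I := by
    intro I
    refine le_antisymm ?_ Ideal.le_comap_map
    intro x hx
    have hx' : φ x ∈ Ideal.map φ I := hx
    have key : ∀ a ∈ Ideal.map φ I, ∃ y ∈ I, π a = φ y := by
      intro a ha
      refine Submodule.closure_induction (p := fun a _ => ∃ y ∈ I, π a = φ y) ?_ ?_ ?_ ha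
      · exact ⟨0, I.zero_mem, by simp⟩
      · rintro a a' _ _ ⟨y, hy, h⟩ ⟨y', hy', h'⟩
        exact ⟨y + y', I.add_mem hy hy', by rw [map_add, h, h', map_add]⟩
      · rintro c _ ⟨y, hy, rfl⟩
        obtain ⟨b, hb⟩ := hπrange c
        refine ⟨y * b, I.mul_mem_right b hy, ?_⟩
        rw [smul_eq_mul, mul_comm, hπmul, hb, map_mul]
    obtain ⟨y, hy, h⟩ := key _ hx'
    rw [hπφ] at h
    rw [hφ h]
    exact hy
  have hinj : Function.Injective (Ideal.map φ : Ideal B → Ideal A) := by
    intro I I' h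
    rw [← hcontr I, ← hcontr I', h]
  have hmono : StrictMono (Ideal.map φ : Ideal B → Ideal A) :=
    Monotone.strictMono_of_injective (fun _ _ h => Ideal.map_mono h) hinj
  haveI : WellFoundedGT (Ideal A) := isNoetherian_iff'.mp ‹IsNoetherianRing A›
  exact isNoetherian_iff'.mpr hmono.wellFoundedGT

end Groth.Agent.S4412
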