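import Groth.Statements.S4414
import Mathlib
import Groth.Agent.Lib.VAmpPn8_helper5

set_option autoImplicit false
universe u
open CategoryTheory CategoryTheory.Limits AlgebraicGeometry
open EGA2

namespace Groth.Agent.S4414

/-- Let Y be a quasi-compact separated scheme possessing an ample invertible O_Y-module, and f : X → Y a
morphism. Then f is quasi-projective (of finite type with some O_X-module ample relative to f) if
and only if f is of finite type and there are r ≥ 0 and an immersion i of X into projective r-space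
over Y with i followed by the projection equal to f. -/
theorem result {X Y : Scheme.{u}} [CompactSpace Y] [Y.IsSeparated]
    (hY : ∃ M : Y.Modules, CohB1.IsAmple M) (f : X ⟶ Y) :
    RelProj.IsQuasiProjective f ↔
      (LocallyOfFiniteType f ∧ QuasiCompact f ∧
        ∃ (r : ℕ) (i : X ⟶ CohB1.ProjSpaceOver r Y), IsImmersion i ∧ i ≫ CohB1.ProjSpaceOver.toBase r Y = f) := by
  constructor
  · rintro ⟨hlft, hqc, L, hL⟩
    refine ⟨hlft, hqc, ?_⟩
    obtain ⟨K, hK⟩ := hY
    haveI := hlft
    haveI := hqc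
    have hLi := TensH8.isInvertible_of_isRelAmple f hL
    haveI : IsSeparated f := TensH8.isSeparated_of_isRelAmple f hL
    haveI : CompactSpace X := QuasiCompact.compactSpace_of_compactSpace f
    haveI : QuasiSeparatedSpace X := quasiSeparatedSpace_of_quasiSeparated f
    have hLf : ∀ U : Y.Opens, IsAffineOpen U → TensH8.IsAmpleOn L (f ⁻¹ᵁ U) := fun U hU =>
      ((TensH8.isRelAmple_iff f hLi).mp hL).2 ⟨U, hU⟩
    obtain ⟨n₀, hn₀⟩ := TensH8.isAmple_comp_abs f hK hLi hLf
    have hM := hn₀ n₀ le_rfl _ (TensH8.Frame₂.tmul (TensH8.Frame.self L)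
      (TensH8.Frame.pow ((Scheme.Modules.pullback f).obj K) n₀))
    obtain ⟨d₀, hd₀⟩ := Groth.Agent.VAmpPn.isRelVeryAmplePn_tensorPow f hM
    obtain ⟨r, i, hi, hif, -⟩ := hd₀ d₀ le_rfl
    exact ⟨r, i, hi, hif⟩
  · rintro ⟨hlft, hqc, r, i, hi, hf⟩
    haveI := hqc
    refine ⟨hlft, hqc, (Scheme.Modules.pullback i).obj (Twist.twistOver r Y 1), ?_⟩
    subst hf
    exact Groth.Agent.VAmpPn.isRelAmple_pullback_of_isEmbedding i _ i.isEmbedding
      (Groth.Agent.VAmpPn.isRelAmple_twistOver r Y)

end Groth.Agent.S4414
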