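import Groth.Statements.S4417
import Mathlib
import Groth.Agent.Lib.CoprodQP2_helper5

set_option autoImplicit false
universe u
open CategoryTheory CategoryTheory.Limits AlgebraicGeometry
open EGA2

namespace Groth.Agent.S4417

/-- Let f : X → Y and f' : X' → Y be quasi-projective morphisms (of finite type, each admitting a
relatively ample module). Then the morphism X ⨿ X' → Y restricting to f and f' on the two summands
is quasi-projective. -/
theorem result {X X' Y : Scheme.{u}} (f : X ⟶ Y) (f' : X' ⟶ Y)
    (hf : RelProj.IsQuasiProjective f) (hf' : RelProj.IsQuasiProjective f') :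
    RelProj.IsQuasiProjective (coprod.desc f f') := by
  obtain ⟨hft, hqc, L, hL⟩ := hf
  obtain ⟨hft', hqc', L', hL'⟩ := hf'
  haveI := hft
  haveI := hqc
  haveI := hft'
  haveI := hqc'
  refine ⟨Groth.Agent.CoprodQP.locallyOfFiniteType_desc f f', Groth.Agent.CoprodQP.quasiCompact_desc f f',
    Groth.Agent.CoprodQP.glueMod L L', ?_⟩
  rw [TensH8.isRelAmple_coprod_iff f f' (Groth.Agent.CoprodQP.glueMod L L')]
  exact ⟨(TensH8.isRelAmple_congr f (Groth.Agent.CoprodQP.pullbackInlIso L L')).mpr hL,
    (TensH8.isRelAmple_congr f' (Groth.Agent.CoprodQP.pullbackInrIso L L')).mpr hL'⟩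

end Groth.Agent.S4417
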