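import Groth.Statements.S5729
import Mathlib
import Groth.Agent.Lib.PBProj2_helper5
import Groth.Agent.Lib.SymDeg2_helper5
import Groth.Agent.Lib.RelProjEx4_helper5
import Groth.Agent.Lib.ProjQBC1_helper5
import Groth.Agent.Lib.ClProj4_helper5
import Groth.Agent.S12165

set_option autoImplicit false
universe u
open CategoryTheory CategoryTheory.Limits AlgebraicGeometry TopologicalSpace Opposite
open scoped HomogeneousIdeal
open EGA2

namespace Groth.Agent.S5729

/-- For a morphism f : X → Y the following are equivalent: (a) there are a quasi-coherent O_Y-module E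
of finite type, its graded symmetric algebra 𝒯 with projective bundle p : P(E) = Proj(𝒯) → Y (given
with its charts over affine opens), and a closed immersion i : X → P(E) with i ≫ p = f; (b) f is
projective in the sense that X is isomorphic over Y to the relative homogeneous spectrum of some
quasi-coherent graded O_Y-algebra generated by its degree-one part, that part being of finite type. -/
theorem result {X Y : Scheme.{u}} (f : X ⟶ Y) :
    RelProj.IsProjective f ↔
      ∃ (E : Y.Modules) (𝒯 : RelProj.QCGrAlg Y) (j : E ⟶ 𝒯.toModule) (P : Scheme.{u}) (p : P ⟶ Y)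
        (chart : ∀ (U : Y.Opens) (hU : IsAffineOpen U), ((p ⁻¹ᵁ U : P.Opens) : Scheme.{u}) ≅ Proj (𝒯.deg U hU))
        (i : X ⟶ P),
        Coh.IsQCoh E ∧ CohB1.IsFT E ∧ RelProj.IsGrSymAlg E 𝒯 j ∧ RelProj.IsRelProj 𝒯 p chart ∧
          IsClosedImmersion i ∧ i ≫ p = f := by
  constructor
  · rintro ⟨𝒮, P, p, chart, e, hgen, hft, hP, hef⟩
    haveI hq := Groth.Agent.PBProj.isQuasicoherent_degMod 𝒮 1
    obtain ⟨𝒯, j, hj⟩ := Groth.Agent.SymDeg.exists_grSymAlg (Groth.Agent.PBProj.degMod 𝒮 1)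
    obtain ⟨P', p', chart', hP'⟩ := Groth.Agent.RelProjEx.exists_relProj 𝒯
    obtain ⟨v, hvgr, hTN⟩ := Groth.Agent.PBProj.exists_v 𝒮 hgen hft 𝒯 j hj
    obtain ⟨hdom, hcl⟩ := Groth.Agent.S12165.result 𝒯 𝒮 v hvgr ⟨1, hTN⟩ p' chart' hP' p chart hP
    obtain ⟨h, hh⟩ := Groth.Agent.ProjQBC.exists_isProjQMap (RelProj.QGrHom.ofHom v hvgr) hP' hP hdom
    haveI : IsClosedImmersion h := hcl h hh
    have hcomm := Groth.Agent.ProjQBC.isProjQMap_comm (RelProj.QGrHom.ofHom v hvgr) hP' hP h hh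
    refine ⟨Groth.Agent.PBProj.degMod 𝒮 1, 𝒯, j, P', p', chart', e.hom ≫ h, hq,
      Groth.Agent.PBProj.isFiniteType_degMod 𝒮 1 hft, hj, hP', inferInstance, ?_⟩
    rw [Category.assoc, hcomm, Category.comp_id, hef]
  · rintro ⟨E, 𝒯, j, P, p, chart, i, hq, hft, hj, hP, hcl, hcomm⟩
    haveI : E.IsQuasicoherent := hq
    haveI := hcl
    rw [← hcomm]
    exact Groth.Agent.ClProj.isProjective_comp_of_isClosedImmersion i p
      ⟨𝒯, P, p, chart, Iso.refl P, Groth.Agent.PBProj.isGenDegOne_of_isGrSymAlg E 𝒯 j hj,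
        Groth.Agent.PBProj.isFTDeg_one_of_isGrSymAlg E 𝒯 j hj hft, hP, Category.id_comp p⟩

end Groth.Agent.S5729
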