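import Groth.Statements.S4425
import Mathlib
import Groth.Agent.S12484
import Groth.Agent.S5729
import Groth.Agent.S5721
import Groth.Agent.Lib.PBProj2_helper5
import Groth.Agent.Lib.ClProj4_helper5
import Groth.Agent.Lib.RelProj_helper3
import Groth.Agent.Lib.RelTwEx5_helper5
import Groth.Agent.Lib.VAmpEpi1_helper5

set_option autoImplicit false
universe u
open CategoryTheory CategoryTheory.Limits AlgebraicGeometry
open EGA2

namespace Groth.Agent.S4425

/-- (a) ⇔ (c): let Y be a quasi-compact separated scheme and f : X → Y a morphism. Then f is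
quasi-projective if and only if f is of finite type and there are a quasi-coherent graded
O_Y-algebra 𝒮, generated by its degree-one part with that part of finite type, a relative
homogeneous spectrum p : P → Y of 𝒮 (given with its charts over affine opens), and an open immersion
j : X → P with dense image such that j ≫ p = f. (The published statement also allows Y whose
underlying space is Noetherian, and adds a third equivalent condition, an immersion into some P(E);
this row assumes Y quasi-compact and separated and states only the equivalence of the other two.) -/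
theorem result {X Y : Scheme.{u}} [CompactSpace Y] [Y.IsSeparated] (f : X ⟶ Y) :
    RelProj.IsQuasiProjective f ↔
      (LocallyOfFiniteType f ∧ QuasiCompact f ∧
        ∃ (𝒮 : RelProj.QCGrAlg Y) (P : Scheme.{u}) (p : P ⟶ Y)
          (chart : ∀ (U : Y.Opens) (hU : IsAffineOpen U), ((p ⁻¹ᵁ U : P.Opens) : Scheme.{u}) ≅ Proj (𝒮.deg U hU))
          (j : X ⟶ P), 𝒮.IsGenDegOne ∧ 𝒮.IsFTDeg 1 ∧ RelProj.IsRelProj 𝒮 p chart ∧
            IsOpenImmersion j ∧ Dense (Set.range j.base) ∧ j ≫ p = f) := by
  constructor
  · intro hq
    obtain ⟨hlft, hqc, L, hL⟩ := id hq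
    haveI := hlft
    haveI := hqc
    obtain ⟨E, 𝒯, jE, P, p, chart, i, hE, hFT, hj, hP, hi, hip⟩ :=
      Groth.Agent.S12484.result (Or.inl ⟨inferInstance, inferInstance⟩) f hq
    haveI : E.IsQuasicoherent := hE
    have hproj : RelProj.IsProjective p :=
      ⟨𝒯, P, p, chart, Iso.refl P, Groth.Agent.PBProj.isGenDegOne_of_isGrSymAlg E 𝒯 jE hj,
        Groth.Agent.PBProj.isFTDeg_one_of_isGrSymAlg E 𝒯 jE hj hFT, hP, Category.id_comp _⟩
    haveI : IsSeparated p :=
      Groth.Agent.Lib.RelProj_helper3.of_chart @IsSeparated hP fun U hU => inferInstance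
    haveI := hi
    haveI : QuasiCompact (i ≫ p) := by rw [hip]; infer_instance
    haveI : QuasiCompact i :=
      MorphismProperty.HasOfPostcompProperty.of_postcomp (W := @QuasiCompact)
        (W' := @QuasiSeparated) i p inferInstance inferInstance
    obtain ⟨𝒮, P', p', chart', e, hgen', hft', hP', he⟩ :=
      Groth.Agent.ClProj.isProjective_comp_of_isClosedImmersion i.imageι p hproj
    refine ⟨hlft, hqc, 𝒮, P', p', chart', i.toImage ≫ e.hom, hgen', hft', hP', inferInstance,
      ?_, ?_⟩
    · have h1 : DenseRange (i.toImage ≫ e.hom).base := by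
        have h2 : DenseRange i.toImage.base := (inferInstance : IsDominant i.toImage).denseRange
        have h3 : DenseRange e.hom.base := e.hom.surjective.denseRange
        have h4 := h3.comp h2 e.hom.continuous
        exact h4
      exact h1
    · rw [Category.assoc, he, ← Category.assoc, Scheme.Hom.toImage_imageι, hip]
  · rintro ⟨hlft, hqc, 𝒮, P, p, chart, j, hgen, hft, hP, hj, -, hjp⟩
    haveI := hlft
    haveI := hqc
    haveI := hj
    have hproj : RelProj.IsProjective p :=
      ⟨𝒮, P, p, chart, Iso.refl P, hgen, hft, hP, Category.id_comp _⟩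
    obtain ⟨E, 𝒯, jE, PE, pE, chartE, k, hE, hFT, hjE, hPE, hk, hkp⟩ :=
      (Groth.Agent.S5729.result p).mp hproj
    haveI : E.IsQuasicoherent := hE
    haveI := hk
    have hO1 := Groth.Agent.RelTwEx.isRelTwist_relTwist hPE 1
    have hinv : PicF.IsInvertible (Groth.Agent.RelTwEx.relTwist hPE 1) :=
      Groth.Agent.VAmpEpi.isInvertible_O1 𝒯 pE chartE E jE hjE 1 (by norm_num) _ _ hO1
    have hcomp : (j ≫ k) ≫ pE = f := by rw [Category.assoc, hkp, hjp]
    have hva : RelProj.IsRelVeryAmple f
        ((Scheme.Modules.pullback (j ≫ k)).obj (Groth.Agent.RelTwEx.relTwist hPE 1)) :=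
      ⟨E, hE, 𝒯, jE, hjE, PE, pE, chartE, hPE, _, _, hO1, j ≫ k, inferInstance, hcomp,
        ⟨Iso.refl _⟩⟩
    exact ⟨hlft, hqc, _, Groth.Agent.S5721.result f _
      (TensH8.isInvertible_pullback (j ≫ k) hinv) hva⟩

end Groth.Agent.S4425
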