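import Groth.Statements.S4429
import Mathlib

set_option autoImplicit false
universe u
open EGA2

namespace Groth.Agent.S4429

open Polynomial TensorProduct

theorem aeval_baseChange {R S M : Type*} [CommRing R] [CommRing S] [Algebra R S]
    [AddCommGroup M] [Module R M] (f : Module.End R M) (P : R[X]) :
    aeval (f.baseChange S : Module.End S (S ⊗[R] M)) (P.map (algebraMap R S)) =
      ((aeval f P : Module.End R M).baseChange S : Module.End S (S ⊗[R] M)) := by
  rw [Polynomial.aeval_map_algebraMap]
  exact Polynomial.aeval_algHom_apply (Module.End.baseChangeHom R S M) f P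

theorem charpoly_coeff_integral (A : Type u) [CommRing A] [IsDomain A] (K : Type u) [Field K]
    [Algebra A K] [IsFractionRing A K] (E : Type u) [AddCommGroup E] [Module A E]
    [Module.Finite A E] (u : E →ₗ[A] E) (i : ℕ) :
    IsIntegral A (((u.baseChange K).charpoly).coeff i) := by
  classical
  obtain ⟨p, hpm, hp⟩ := (Module.End.isIntegral (R := A) (M := E)).isIntegral u
  have hp' : aeval u p = 0 := hp
  set uK : Module.End K (K ⊗[A] E) := u.baseChange K with huK
  set w : Module.End (AlgebraicClosure K) (AlgebraicClosure K ⊗[K] (K ⊗[A] E)) :=
    uK.baseChange (AlgebraicClosure K) with hw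
  have hw0 : aeval w (p.map (algebraMap A (AlgebraicClosure K))) = 0 := by
    have e1 : p.map (algebraMap A (AlgebraicClosure K)) =
        (p.map (algebraMap A K)).map (algebraMap K (AlgebraicClosure K)) := by
      rw [Polynomial.map_map, ← IsScalarTower.algebraMap_eq]
    rw [e1, hw, aeval_baseChange, huK, aeval_baseChange, hp']
    simp
  have hchar : w.charpoly = uK.charpoly.map (algebraMap K (AlgebraicClosure K)) :=
    LinearMap.charpoly_baseChange (A := AlgebraicClosure K) uK
  have hroot : ∀ x : AlgebraicClosure K, w.charpoly.IsRoot x → IsIntegral A x := by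
    intro x hx
    have hev := (Module.End.hasEigenvalue_iff_isRoot_charpoly w x).mpr hx
    obtain ⟨v, hv⟩ := hev.exists_hasEigenvector
    have h1 := Module.End.aeval_apply_of_hasEigenvector
      (p := p.map (algebraMap A (AlgebraicClosure K))) hv
    rw [hw0, LinearMap.zero_apply] at h1
    have h2 : (p.map (algebraMap A (AlgebraicClosure K))).eval x = 0 := by
      rcases smul_eq_zero.mp h1.symm with h | h
      · exact h
      · exact absurd h hv.2
    refine ⟨p, hpm, ?_⟩
    rwa [Polynomial.eval_map] at h2
  have hint : IsIntegral A (w.charpoly.coeff i) := by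
    refine Polynomial.isIntegral_coeff_of_factors w.charpoly ?_ (IsAlgClosed.splits _) hroot i
    rw [(LinearMap.charpoly_monic w).leadingCoeff]
    exact isIntegral_one
  rw [hchar, Polynomial.coeff_map] at hint
  exact (isIntegral_algebraMap_iff
    (FaithfulSMul.algebraMap_injective K (AlgebraicClosure K))).mp hint

/-- For an integral domain A with fraction field K, a finitely generated A-module E and an endomorphism
u of E, the coefficients of the characteristic polynomial of u ⊗ 1 acting on the K-vector space K
⊗_A E (the elementary symmetric functions of u, among them its trace and determinant) are integral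
over A. -/
theorem result (A : Type u) [CommRing A] [IsDomain A] (K : Type u) [Field K]
    [Algebra A K] [IsFractionRing A K] (E : Type u) [AddCommGroup E] [Module A E] [Module.Finite A E]
    (u : E →ₗ[A] E) (i : ℕ) :
    IsIntegral A (((u.baseChange K).charpoly).coeff i) := by
  exact charpoly_coeff_integral A K E u i

end Groth.Agent.S4429
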