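import Groth.Statements.S4430
import Mathlib
import Groth.Agent.S4429

set_option autoImplicit false
universe u
open EGA2

namespace Groth.Agent.S4430

open Polynomial TensorProduct

theorem isUnit_of_inv_integral {A K : Type*} [CommRing A] [Field K] [Algebra A K]
    (hinj : Function.Injective (algebraMap A K)) (a : A) (b : K)
    (hab : algebraMap A K a * b = 1) (hb : IsIntegral A b) : IsUnit a := by
  obtain ⟨p, hpm, hp⟩ := hb
  letI : Invertible b := ⟨algebraMap A K a, hab, (mul_comm _ _).trans hab⟩
  have h1 := Polynomial.eval₂_reverse_mul_pow (algebraMap A K) b p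
  rw [hp] at h1
  have hb0 : b ≠ 0 := by
    rintro rfl
    rw [mul_zero] at hab
    exact zero_ne_one hab
  have h2 : Polynomial.eval₂ (algebraMap A K) (algebraMap A K a) p.reverse = 0 := by
    rcases mul_eq_zero.mp h1 with h | h
    · exact h
    · exact absurd h (pow_ne_zero _ hb0)
  rw [Polynomial.eval₂_at_apply] at h2
  have h3 : Polynomial.eval a p.reverse = 0 := hinj (h2.trans (map_zero _).symm)
  have h4 := Polynomial.divX_mul_X_add p.reverse
  have h5 : Polynomial.eval a (p.reverse.divX) * a + 1 = 0 := by
    have h6 := congrArg (Polynomial.eval a) h4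
    simp only [Polynomial.eval_add, Polynomial.eval_mul, Polynomial.eval_X, Polynomial.eval_C,
      Polynomial.coeff_zero_reverse, hpm.leadingCoeff] at h6
    rw [h6]
    exact h3
  exact IsUnit.of_mul_eq_one (-(Polynomial.eval a p.reverse.divX))
    (by linear_combination (-1 : A) * h5)

/-- Let A be an integral domain with fraction field K, E a finitely generated A-module and u an
endomorphism of E whose characteristic-polynomial coefficients (those of u ⊗ 1 on K ⊗_A E) all lie
in A. If u is an automorphism of E, then its determinant, as an element of A, is invertible in A. -/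
theorem result (A : Type u) [CommRing A] [IsDomain A] (K : Type u) [Field K]
    [Algebra A K] [IsFractionRing A K] (E : Type u) [AddCommGroup E] [Module A E] [Module.Finite A E]
    (u : E →ₗ[A] E) (hcoeff : ∀ i : ℕ, ((u.baseChange K).charpoly).coeff i ∈ (algebraMap A K).range)
    (a : A) (ha : algebraMap A K a = LinearMap.det (u.baseChange K)) (hu : Function.Bijective u) :
    IsUnit a := by
  classical
  set e : E ≃ₗ[A] E := LinearEquiv.ofBijective u hu with he
  set v : E →ₗ[A] E := e.symm.toLinearMap with hv
  have huv : u ∘ₗ v = LinearMap.id := by
    ext x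
    exact e.apply_symm_apply x
  have hdet : LinearMap.det (u.baseChange K) * LinearMap.det (v.baseChange K) = 1 := by
    rw [← LinearMap.det_comp, ← LinearMap.baseChange_comp, huv, LinearMap.baseChange_id,
      LinearMap.det_id]
  have hint : IsIntegral A (LinearMap.det (v.baseChange K)) := by
    rw [LinearMap.det_eq_sign_charpoly_coeff]
    exact IsIntegral.mul ((isIntegral_one.neg).pow _) (Groth.Agent.S4429.result A K E v 0)
  rw [← ha] at hdet
  exact isUnit_of_inv_integral (IsFractionRing.injective A K) a _ hdet hint

end Groth.Agent.S4430
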