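import Groth.Statements.S4431
import Mathlib

set_option autoImplicit false
universe u
open EGA2

namespace Groth.Agent.S4431

open Polynomial TensorProduct

theorem aeval_baseChange {R S M : Type*} [CommRing R] [CommRing S] [Algebra R S]
    [AddCommGroup M] [Module R M] (f : Module.End R M) (P : R[X]) :
    aeval (f.baseChange S : Module.End S (S ⊗[R] M)) (P.map (algebraMap R S)) =
      ((aeval f P : Module.End R M).baseChange S : Module.End S (S ⊗[R] M)) := by
  rw [Polynomial.aeval_map_algebraMap]
  exact Polynomial.aeval_algHom_apply (Module.End.baseChangeHom R S M) f P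

theorem mk_injective_of_torsionFree (A : Type u) [CommRing A] [IsDomain A] (K : Type u) [Field K]
    [Algebra A K] [IsFractionRing A K] (E : Type u) [AddCommGroup E] [Module A E]
    [Module.IsTorsionFree A E] (x : E) (hx : (1 : K) ⊗ₜ[A] x = 0) : x = 0 := by
  have h1 : (TensorProduct.mk A K E 1) x = 0 := hx
  obtain ⟨c, hc⟩ := (IsLocalizedModule.eq_zero_iff (nonZeroDivisors A)
    (TensorProduct.mk A K E 1)).mp h1
  have hc0 : (c : A) ≠ 0 := nonZeroDivisors.ne_zero c.2
  have hreg : IsSMulRegular E (c : A) :=
    Module.IsTorsionFree.isSMulRegular (IsRegular.of_ne_zero hc0)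
  have hc' : (c : A) • x = (c : A) • (0 : E) := by
    rw [smul_zero]
    exact hc
  exact hreg hc'

/-- Let A be an integral domain with fraction field K, E a finitely generated torsion-free A-module and
u an endomorphism of E whose characteristic-polynomial coefficients (those of u ⊗ 1 on K ⊗_A E) all
lie in A. If the determinant of u is the image of a unit of A, then u is an automorphism of E. -/
theorem result (A : Type u) [CommRing A] [IsDomain A] (K : Type u) [Field K]
    [Algebra A K] [IsFractionRing A K] (E : Type u) [AddCommGroup E] [Module A E] [Module.Finite A E]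
    [Module.IsTorsionFree A E]
    (u : E →ₗ[A] E) (hcoeff : ∀ i : ℕ, ((u.baseChange K).charpoly).coeff i ∈ (algebraMap A K).range)
    (a : A) (ha : algebraMap A K a = LinearMap.det (u.baseChange K)) (hunit : IsUnit a) :
    Function.Bijective u := by
  classical
  set uK : Module.End K (K ⊗[A] E) := u.baseChange K with huK
  have hlift : uK.charpoly ∈ Polynomial.lifts (algebraMap A K) :=
    (Polynomial.lifts_iff_coeff_lifts _).mpr fun i => hcoeff i
  obtain ⟨q, hq⟩ := (Polynomial.mem_lifts _).mp hlift
  have hCH : aeval uK uK.charpoly = 0 := LinearMap.aeval_self_charpoly uK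
  have h1 : ((aeval u q : Module.End A E).baseChange K : Module.End K (K ⊗[A] E)) = 0 := by
    rw [← aeval_baseChange, hq]
    exact hCH
  have h2 : aeval u q = 0 := by
    ext x
    apply mk_injective_of_torsionFree A K E
    have h3 := LinearMap.congr_fun h1 ((1 : K) ⊗ₜ[A] x)
    rw [LinearMap.baseChange_tmul] at h3
    exact h3
  -- constant coefficient
  have hq0 : algebraMap A K (q.coeff 0) = uK.charpoly.coeff 0 := by
    rw [← hq, Polynomial.coeff_map]
  have hdet : algebraMap A K a = (-1) ^ Module.finrank K (K ⊗[A] E) * algebraMap A K (q.coeff 0) := by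
    rw [ha, hq0]
    exact LinearMap.det_eq_sign_charpoly_coeff uK
  have ha' : a = (-1) ^ Module.finrank K (K ⊗[A] E) * q.coeff 0 := by
    apply IsFractionRing.injective A K
    rw [hdet, map_mul, map_pow, map_neg, map_one]
  have hq0unit : IsUnit (q.coeff 0) := by
    have hsq : ((-1 : A) ^ Module.finrank K (K ⊗[A] E)) * ((-1) ^ Module.finrank K (K ⊗[A] E)) = 1 := by
      rw [← mul_pow]; simp
    have : q.coeff 0 = (-1) ^ Module.finrank K (K ⊗[A] E) * a := by
      rw [ha', ← mul_assoc, hsq, one_mul]
    rw [this]
    exact (IsUnit.of_mul_eq_one _ hsq).mul hunit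
  -- u * w = - q₀
  set w : Module.End A E := aeval u q.divX with hw
  have hdecomp : q = X * q.divX + C (q.coeff 0) := by
    rw [mul_comm]
    exact (Polynomial.divX_mul_X_add q).symm
  have h4 : u * w + algebraMap A (Module.End A E) (q.coeff 0) = 0 := by
    have h5 := congrArg (aeval u) hdecomp
    rw [h2, map_add, map_mul, aeval_X, aeval_C] at h5
    exact h5.symm
  have h6 : u * w = algebraMap A (Module.End A E) (-(q.coeff 0)) := by
    rw [map_neg]
    exact eq_neg_of_add_eq_zero_left h4
  have hcomm : Commute u w := by
    have : Commute (aeval u (X : A[X])) (aeval u q.divX) := (Commute.all _ _).map (aeval u)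
    rwa [aeval_X] at this
  have hunit' : IsUnit (u * w) := by
    rw [h6]
    exact (hq0unit.neg).map (algebraMap A (Module.End A E))
  have huu : IsUnit u := (hcomm.isUnit_mul_iff.mp hunit').1
  exact (Module.End.isUnit_iff u).mp huu

end Groth.Agent.S4431
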