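import Groth.Statements.S4434
import Mathlib
import Groth.Agent.Lib.DomDimOne5_helper6
-- import your own Groth.Agent.* helpers here

set_option autoImplicit false
universe u
open EGA2

namespace Groth.Agent.S4434

/-- Let A be a Noetherian domain with field of fractions K and L a finitely generated field extension of
K. The integral closure of A in L is the intersection of the discrete valuation subrings of L (with
fraction field L) containing the image of A: an element of L is integral over A exactly when it
belongs to all of them. -/
theorem result (A : Type u) [CommRing A] [IsDomain A] [IsNoetherianRing A]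
    (K : Type u) [Field K] [Algebra A K] [IsFractionRing A K]
    (L : Type u) [Field L] [Algebra K L] [Algebra A L] [IsScalarTower A K L] (hfg : (⊤ : IntermediateField K L).FG) (x : L) :
    IsIntegral A x ↔ ∀ R : ValuationSubring L, IsDiscreteValuationRing R → (∀ a : A, algebraMap A L a ∈ R) → x ∈ R := by

  constructor
  · intro hx R hR hAR
    letI : Algebra A R := ((algebraMap A L).codRestrict R.toSubring hAR).toAlgebra
    haveI : IsScalarTower A R L := IsScalarTower.of_algebraMap_eq (fun _ => rfl)
    have hxR : IsIntegral R x := hx.tower_top
    obtain ⟨y, hy⟩ := IsIntegrallyClosed.isIntegral_iff.1 hxR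
    rw [← hy]
    exact y.2
  · intro h
    by_contra hx
    have hxR₀ : x ∉ (integralClosure A L).toSubring := hx
    haveI : IsIntegrallyClosedIn (integralClosure A L).toSubring L :=
      inferInstanceAs (IsIntegrallyClosedIn (integralClosure A L) L)
    obtain ⟨V, hV, hxV⟩ := Subring.exists_le_valuationSubring_of_isIntegrallyClosedIn hxR₀
    have hAV : ∀ a, algebraMap A L a ∈ V := fun a => hV ((integralClosure A L).algebraMap_mem a)
    have hvx : 1 < V.valuation x := by
      rw [← not_le, V.valuation_le_one_iff]
      exact hxV
    have hx0 : x ≠ 0 := by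
      intro h0
      rw [h0, map_zero] at hvx
      exact not_lt_of_ge zero_le hvx
    have hvy : V.valuation x⁻¹ < 1 := by
      rw [map_inv₀]
      exact inv_lt_one_of_one_lt₀ hvx
    obtain ⟨R, hR, hAR, hyR, -⟩ := Groth.Agent.Lib.DomDimOne.exists_dvr_of_valuationSubring A K L hfg
      V hAV x⁻¹ (inv_ne_zero hx0) hvy
    have hxR := h R hR hAR
    have h1 : R.valuation x ≤ 1 := (R.valuation_le_one_iff x).2 hxR
    have h2 : R.valuation x * R.valuation x⁻¹ = 1 := by
      rw [← map_mul, mul_inv_cancel₀ hx0, map_one]
    have h3 : R.valuation x * R.valuation x⁻¹ < 1 :=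
      mul_lt_one_of_nonneg_of_lt_one_right h1 zero_le hyR
    rw [h2] at h3
    exact lt_irrefl _ h3

end Groth.Agent.S4434
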