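import Groth.Statements.S4435
import Mathlib

set_option autoImplicit false
universe u
open CategoryTheory CategoryTheory.Limits AlgebraicGeometry
open EGA2

namespace Groth.Agent.S4435

/-- Let X, S be integral schemes and f : X ⟶ S a dominant morphism. If f is integral, the field of
rational functions of X is algebraic over that of S; if f is finite, it is a finite extension. Here
the extension is given by the stalk map of f at the generic point of X, whose source is the local
ring of S at the generic point of S (f being dominant), i.e. the function field of S. -/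
theorem result {X S : Scheme.{u}} [IsIntegral X] [IsIntegral S]
    (f : X ⟶ S) [IsDominant f] :
    (IsIntegralHom f → (f.stalkMap (genericPoint X)).hom.IsIntegral) ∧
      (IsFinite f → (f.stalkMap (genericPoint X)).hom.Finite) := by
  have hgen : f (genericPoint X) = genericPoint S := by
    have h1 : IsGenericPoint (f (genericPoint X)) (closure (f '' ⊤)) :=
      (genericPoint_spec X).image f.continuous
    simp only [Set.top_eq_univ, Set.image_univ] at h1
    rw [f.denseRange.closure_range] at h1
    exact h1.eq (genericPoint_spec S)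
  obtain ⟨V, hV, hηV⟩ : ∃ V : S.Opens, IsAffineOpen V ∧ genericPoint S ∈ V := by
    obtain ⟨_, ⟨V, hV, rfl⟩, hyV, -⟩ := S.isBasis_affineOpens.exists_subset_of_mem_open
      (Set.mem_univ (genericPoint S)) isOpen_univ
    exact ⟨V, hV, hyV⟩
  haveI : Nonempty V := ⟨⟨_, hηV⟩⟩
  have hη'V : genericPoint X ∈ f ⁻¹ᵁ V := by
    show f (genericPoint X) ∈ V
    rw [hgen]; exact hηV
  haveI : Nonempty (f ⁻¹ᵁ V) := ⟨⟨_, hη'V⟩⟩
  let sp : S.functionField ⟶ S.presheaf.stalk (f (genericPoint X)) :=
    S.presheaf.stalkSpecializes (specializes_of_eq hgen)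
  haveI : IsIso sp := (S.presheaf.stalkCongr (.of_eq hgen.symm)).isIso_hom
  let ψ : S.functionField ⟶ X.functionField := sp ≫ f.stalkMap (genericPoint X)
  have hfac : f.stalkMap (genericPoint X) = inv sp ≫ ψ := by simp [ψ]
  have hspi_surj : Function.Surjective (inv sp).hom :=
    ((ConcreteCategory.isIso_iff_bijective (inv sp)).mp inferInstance).2
  have hcomp : S.germToFunctionField V ≫ ψ = f.app V ≫ X.germToFunctionField (f ⁻¹ᵁ V) := by
    simp only [ψ, sp, Scheme.germToFunctionField]
    rw [← Category.assoc, TopCat.Presheaf.germ_stalkSpecializes, Scheme.Hom.germ_stalkMap]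
  have core : ∀ (hU : IsAffineOpen (f ⁻¹ᵁ V)),
      ((f.app V).hom.IsIntegral → ψ.hom.IsIntegral) ∧ ((f.app V).hom.Finite → ψ.hom.Finite) := by
    intro hU
    haveI : IsFractionRing Γ(S, V) S.functionField :=
      functionField_isFractionRing_of_isAffineOpen S V hV
    haveI : IsFractionRing Γ(X, f ⁻¹ᵁ V) X.functionField :=
      functionField_isFractionRing_of_isAffineOpen X _ hU
    letI algAB : Algebra Γ(S, V) Γ(X, f ⁻¹ᵁ V) := (f.app V).hom.toAlgebra
    letI algKL : Algebra S.functionField X.functionField := ψ.hom.toAlgebra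
    letI algAL : Algebra Γ(S, V) X.functionField :=
      ((algebraMap Γ(X, f ⁻¹ᵁ V) X.functionField).comp
        (algebraMap Γ(S, V) Γ(X, f ⁻¹ᵁ V))).toAlgebra
    haveI : IsScalarTower Γ(S, V) Γ(X, f ⁻¹ᵁ V) X.functionField :=
      IsScalarTower.of_algebraMap_eq' rfl
    haveI : IsScalarTower Γ(S, V) S.functionField X.functionField := by
      apply IsScalarTower.of_algebraMap_eq'
      have := congrArg CommRingCat.Hom.hom hcomp
      exact this.symm
    have hinjAL : Function.Injective (algebraMap Γ(S, V) X.functionField) := by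
      rw [IsScalarTower.algebraMap_eq Γ(S, V) S.functionField X.functionField, RingHom.coe_comp]
      exact (RingHom.injective (algebraMap S.functionField X.functionField)).comp
        (IsFractionRing.injective Γ(S, V) S.functionField)
    haveI : FaithfulSMul Γ(S, V) Γ(X, f ⁻¹ᵁ V) := by
      rw [faithfulSMul_iff_algebraMap_injective]
      intro a b hab
      apply hinjAL
      rw [IsScalarTower.algebraMap_apply Γ(S, V) Γ(X, f ⁻¹ᵁ V) X.functionField, hab,
        ← IsScalarTower.algebraMap_apply]
    haveI : Module.IsTorsionFree Γ(S, V) X.functionField :=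
      Module.isTorsionFree_iff_algebraMap_injective.mpr hinjAL
    constructor
    · intro hint
      haveI : Algebra.IsIntegral Γ(S, V) Γ(X, f ⁻¹ᵁ V) := ⟨hint⟩
      haveI : Algebra.IsAlgebraic Γ(S, V) X.functionField :=
        (IsFractionRing.isAlgebraic_iff' Γ(S, V) Γ(X, f ⁻¹ᵁ V) X.functionField).mp inferInstance
      haveI : Algebra.IsAlgebraic S.functionField X.functionField :=
        (IsFractionRing.comap_isAlgebraic_iff (A := Γ(S, V))).mp inferInstance
      haveI : Algebra.IsIntegral S.functionField X.functionField := inferInstance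
      exact fun x => Algebra.IsIntegral.isIntegral x
    · intro hfin
      haveI : Module.Finite Γ(S, V) Γ(X, f ⁻¹ᵁ V) := hfin
      haveI : Algebra.IsIntegral Γ(S, V) Γ(X, f ⁻¹ᵁ V) := inferInstance
      haveI : IsLocalization (Algebra.algebraMapSubmonoid Γ(X, f ⁻¹ᵁ V)
        (nonZeroDivisors Γ(S, V))) X.functionField := inferInstance
      exact Module.Finite.of_isLocalization Γ(S, V) Γ(X, f ⁻¹ᵁ V) (nonZeroDivisors Γ(S, V))
  constructor
  · intro hint
    haveI := hint
    have hU : IsAffineOpen (f ⁻¹ᵁ V) := hV.preimage f
    rw [hfac, CommRingCat.hom_comp]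
    exact RingHom.IsIntegral.trans _ _ (RingHom.isIntegral_of_surjective _ hspi_surj)
      ((core hU).1 (IsIntegralHom.isIntegral_app f V hV))
  · intro hfin
    haveI := hfin
    have hU : IsAffineOpen (f ⁻¹ᵁ V) := hV.preimage f
    rw [hfac, CommRingCat.hom_comp]
    exact RingHom.Finite.comp ((core hU).2 (IsFinite.finite_app f V hV))
      (RingHom.Finite.of_surjective _ hspi_surj)

end Groth.Agent.S4435
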