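import Groth.Statements.S4438
import Groth.Agent.Lib.NormBun2_helper6
import Groth.Agent.Lib.Tens18_helper8
import Groth.Agent.Lib.Tens13_helper8

set_option autoImplicit false
universe u
open CategoryTheory CategoryTheory.Limits AlgebraicGeometry
open EGA2

namespace Groth.Agent.S4438

/-- In existence form: let f : X ⟶ Y be a quasi-compact morphism and g : X' ⟶ X a finite surjective
morphism such that the direct image of O_{X'} is a finite locally free O_X-module. Then there is an
invertible O_X-module ample relative to f if and only if there is an invertible O_{X'}-module ample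
relative to f ∘ g. (For the descent direction the published statement names the module on X, the
norm of the given one; this row asserts existence only. The other direction is the inverse image
along the affine morphism g.) -/
theorem result {X X' Y : Scheme.{u}} (f : X ⟶ Y) [QuasiCompact f]
    (g : X' ⟶ X) [IsFinite g] [Surjective g]
    (hfree : FlatMod.IsFinLocFree ((Coh.push g).obj (Coh.structureModule X'))) :
    (∃ L : X.Modules, PicF.IsInvertible L ∧ RelAmple.IsRelAmple f L) ↔
      ∃ L' : X'.Modules, PicF.IsInvertible L' ∧ RelAmple.IsRelAmple (g ≫ f) L' := by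
  obtain ⟨h1, h2, h3⟩ := (FLFH8.isFinLocFree_iff g).mp ⟨inferInstance, hfree⟩
  haveI := h2
  haveI := h3
  constructor
  · rintro ⟨L, hL, -, h⟩
    have hL' := TensH8.isInvertible_pullback g hL
    refine ⟨(Scheme.Modules.pullback g).obj L, hL', inferInstance, fun V => ?_⟩
    have k1 := (TensH8.isAmple_restrict_ι_iff hL _).mp (h V)
    have hc : IsCompact (((g ≫ f) ⁻¹ᵁ V.1 : X'.Opens) : Set X') :=
      QuasiCompact.isCompact_preimage (f := g ≫ f) _ V.1.isOpen V.2.isCompact
    have k2 := TensH8.isAmpleOn_pullback_of_isAffineHom g hL k1 hc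
    exact (TensH8.isAmple_restrict_ι_iff hL' _).mpr k2
  · rintro ⟨L', hL', h⟩
    obtain ⟨N, hN, hamp⟩ := Groth.Agent.Lib.NormBunH6.exists_norm_bundle g
      (Scheme.Hom.surjective g) (Groth.Agent.Lib.FlatNormH4.weakNorm g) hL'
    refine ⟨N, hN, (TensH8.isRelAmple_iff f hN).mpr ⟨inferInstance, fun V => ?_⟩⟩
    exact hamp (f ⁻¹ᵁ V.1) (((TensH8.isRelAmple_iff (g ≫ f) hL').mp h).2 V)

end Groth.Agent.S4438
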