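import Groth.Statements.S4443
import Mathlib

set_option autoImplicit false
universe u
open CategoryTheory CategoryTheory.Limits AlgebraicGeometry
open EGA2

namespace Groth.Agent.S4443

/-- Let X be an irreducible algebraic curve over a field k (separated and of finite type over k,
nonempty, irreducible, local rings at closed points of dimension one). Then the generic point is the
only non-closed point of X, and the closed subsets of X distinct from X are exactly the finite sets
of closed points. (The published statement adds that these are also exactly the subsets of X that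
are not dense in X, an immediate consequence; this row does not state it.) -/
theorem result (k : Type u) [Field k] (X : Scheme.{u})
    [X.Over (Spec (CommRingCat.of k))] [LocallyOfFiniteType (X ↘ (Spec (CommRingCat.of k)))]
    [QuasiCompact (X ↘ (Spec (CommRingCat.of k)))] [IsSeparated (X ↘ (Spec (CommRingCat.of k)))]
    [Nonempty X] [IrreducibleSpace X] (hcurve : ∀ x : X, IsClosed ({x} : Set X) → ringKrullDim (X.presheaf.stalk x) = 1) :
    (∀ x : X, ¬ IsClosed ({x} : Set X) → x = genericPoint X) ∧
      ∀ F : Set X, IsClosed F → (F ≠ Set.univ ↔ (F.Finite ∧ ∀ x ∈ F, IsClosed ({x} : Set X))) := by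
  classical
  haveI : CompactSpace X :=
    QuasiCompact.compactSpace_of_compactSpace (X ↘ (Spec (CommRingCat.of k)))
  haveI : IsLocallyNoetherian X :=
    LocallyOfFiniteType.isLocallyNoetherian (X ↘ (Spec (CommRingCat.of k)))
  haveI : IsNoetherian X := {}
  have hle : ∀ a b : X, a ≤ b ↔ b ⤳ a := fun a b => Iff.rfl
  have hlt : ∀ a b : X, a < b ↔ (b ⤳ a ∧ a ≠ b) := by
    intro a b
    rw [lt_iff_le_not_ge]
    constructor
    · rintro ⟨h1, h2⟩
      exact ⟨h1, fun h => h2 (h ▸ le_rfl)⟩
    · rintro ⟨h1, h2⟩
      exact ⟨h1, fun h => h2 (((hle b a).mp h).antisymm h1).eq⟩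
  have hcoh : ∀ x : X, IsClosed ({x} : Set X) → Order.coheight x = 1 := by
    intro x hx
    have := hcurve x hx
    rw [AlgebraicGeometry.ringKrullDim_stalk_eq_coheight] at this
    exact_mod_cast this
  have part1 : ∀ x : X, ¬ IsClosed ({x} : Set X) → x = genericPoint X := by
    intro x hx
    by_contra hxξ
    obtain ⟨y, hyx, hyc⟩ := (isClosed_closure (s := ({x} : Set X))).exists_closed_singleton
      ⟨x, subset_closure rfl⟩
    have hxy : x ⤳ y := specializes_iff_mem_closure.mpr hyx
    have hne : y ≠ x := fun h => hx (h ▸ hyc)
    have h1 : y < x := (hlt y x).mpr ⟨hxy, hne⟩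
    have h2 : x < genericPoint X := (hlt x _).mpr ⟨genericPoint_specializes x, hxξ⟩
    have hc1 := Order.coheight_add_one_le h2
    have hc2 := Order.coheight_add_one_le h1
    have h3 : (2 : ℕ∞) ≤ Order.coheight y := by
      calc (2 : ℕ∞) = 0 + 1 + 1 := by norm_num
        _ ≤ Order.coheight (genericPoint X) + 1 + 1 := by gcongr; exact bot_le
        _ ≤ Order.coheight x + 1 := by gcongr
        _ ≤ Order.coheight y := hc2
    rw [hcoh y hyc] at h3
    exact absurd h3 (by norm_num)
  refine ⟨part1, ?_⟩
  intro F hF
  constructor
  · intro hFne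
    have hξ : genericPoint X ∉ F := by
      intro h
      apply hFne
      rw [Set.eq_univ_iff_forall]
      intro y
      have : y ∈ closure ({genericPoint X} : Set X) :=
        specializes_iff_mem_closure.mp (genericPoint_specializes y)
      exact (closure_minimal (Set.singleton_subset_iff.mpr h) hF) this
    have hclosed : ∀ x ∈ F, IsClosed ({x} : Set X) := by
      intro x hx
      by_contra hnc
      exact hξ (part1 x hnc ▸ hx)
    refine ⟨?_, hclosed⟩
    obtain ⟨S, hSf, hSc, hSi, hSU⟩ :=
      TopologicalSpace.NoetherianSpace.exists_finite_set_isClosed_irreducible hF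
    rw [hSU]
    refine Set.Finite.sUnion hSf ?_
    intro t ht
    obtain ⟨z, hz⟩ := QuasiSober.sober (hSi t ht) (hSc t ht)
    have hzF : z ∈ F := by
      rw [hSU]
      exact ⟨t, ht, hz.mem⟩
    have : t = {z} := by
      rw [← hz.def, closure_eq_iff_isClosed.mpr (hclosed z hzF)]
    rw [this]
    exact Set.finite_singleton z
  · rintro ⟨-, hclosed⟩ hFuniv
    have hξc : IsClosed ({genericPoint X} : Set X) := hclosed _ (hFuniv ▸ Set.mem_univ _)
    have h1 := hcoh _ hξc
    have hmax : IsMax (genericPoint X) := by
      intro y hy
      exact (hle _ _).mpr (genericPoint_specializes y)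
    rw [Order.coheight_eq_zero.mpr hmax] at h1
    exact zero_ne_one h1

end Groth.Agent.S4443
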