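import Groth.Statements.S4451
import Mathlib
import Groth.Agent.Lib.CurveVal_helper7

set_option autoImplicit false
universe u
open CategoryTheory CategoryTheory.Limits AlgebraicGeometry
attribute [local instance] Curv2.stalkAlgebra
open EGA2

namespace Groth.Agent.S4451

/-- Let X be a normal, complete, irreducible algebraic curve over a field k with field of rational
functions K. The set of local rings of X, as subrings of K, consists of K itself (at the generic
point) and of the valuation rings of K containing k (and distinct from K): every non-generic point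
has such a valuation ring as local ring, and every such valuation ring is the local ring of exactly
one point. -/
theorem result (k : Type u) [Field k] (X : Scheme.{u})
    [X.Over (Spec (CommRingCat.of k))] [IsProper (X ↘ (Spec (CommRingCat.of k)))] [IsIntegral X]
    (hX : ∀ x : X, IsClosed ({x} : Set X) → ringKrullDim (X.presheaf.stalk x) = 1) (hnorm : Pi1.IsNormalScheme X) :
    (∀ x : X, x ≠ genericPoint X → ∃ R : ValuationSubring X.functionField, R ≠ ⊤ ∧
        (R : Set X.functionField) = Set.range (algebraMap (X.presheaf.stalk x) X.functionField)) ∧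
      ∀ R : ValuationSubring X.functionField, R ≠ ⊤ → (∀ c : k, algebraMap k X.functionField c ∈ R) →
        ∃! x : X, (R : Set X.functionField) = Set.range (algebraMap (X.presheaf.stalk x) X.functionField) := by
  haveI : IsLocallyNoetherian X :=
    LocallyOfFiniteType.isLocallyNoetherian (X ↘ (Spec (CommRingCat.of k)))
  haveI : CompactSpace X :=
    QuasiCompact.compactSpace_of_compactSpace (X ↘ (Spec (CommRingCat.of k)))
  haveI : X.IsSeparated :=
    ⟨by rw [← terminal.comp_from (X ↘ (Spec (CommRingCat.of k)))]; infer_instance⟩
  have hclosed : ∀ x : X, x ≠ genericPoint X → IsClosed ({x} : Set X) :=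
    Groth.Agent.Lib.CurveValH7.isClosed_of_ne_genericPoint hX
  have hdim : ∀ x : X, ringKrullDim (X.presheaf.stalk x) ≤ 1 := by
    intro x
    by_cases hx : x = genericPoint X
    · rw [hx]
      have : ringKrullDim X.functionField = 0 := ringKrullDim_eq_zero_of_field _
      rw [this]; exact zero_le_one
    · exact (hX x (hclosed x hx)).le
  have hval : ∀ x : X, ValuationRing (X.presheaf.stalk x) := fun x => by
    haveI := (hnorm x).2
    exact Groth.Agent.Lib.ProperBirat2H7.valuationRing_of_ringKrullDim_le_one _ (hdim x)
  refine ⟨?_, ?_⟩
  · intro x hx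
    haveI := hval x
    obtain ⟨R, hR⟩ := Groth.Agent.Lib.CurveValH7.exists_valuationSubring x
    refine ⟨R, ?_, hR⟩
    intro htop
    have hsurj : Function.Surjective (algebraMap (X.presheaf.stalk x) X.functionField) := by
      intro a
      have h1 : a ∈ (R : Set X.functionField) := by
        rw [htop]; exact ValuationSubring.mem_top a
      rw [hR] at h1
      exact h1
    have hbij : Function.Bijective (algebraMap (X.presheaf.stalk x) X.functionField) :=
      ⟨IsFractionRing.injective _ _, hsurj⟩
    have h2 := ringKrullDim_eq_of_ringEquiv (RingEquiv.ofBijective _ hbij)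
    rw [hX x (hclosed x hx), ringKrullDim_eq_zero_of_field] at h2
    exact one_ne_zero h2
  · intro R hRtop hkR
    have hex : ValuativeCriterion.Existence (X ↘ (Spec (CommRingCat.of k))) := by
      have h1 : (ValuativeCriterion.Existence ⊓ @QuasiCompact) (X ↘ (Spec (CommRingCat.of k))) :=
        UniversallyClosed.eq_valuativeCriterion ▸
          (inferInstance : UniversallyClosed (X ↘ (Spec (CommRingCat.of k))))
      exact h1.1
    let ψk : k →+* R := (algebraMap k X.functionField).codRestrict R hkR
    have hsq : X.fromSpecStalk (genericPoint X) ≫ (X ↘ (Spec (CommRingCat.of k))) =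
        Spec.map (CommRingCat.ofHom (algebraMap R X.functionField)) ≫
          Spec.map (CommRingCat.ofHom ψk) := by
      rw [Groth.Agent.Lib.OverFieldH7.fromSpecStalk_over, ← Spec.map_comp]
      exact congrArg Spec.map (CommRingCat.hom_ext (RingHom.ext fun c => rfl))
    obtain ⟨⟨ℓ, hℓ₁, hℓ₂⟩⟩ := (hex (ValuativeCommSq.mk (R := R) (K := X.functionField)
      (X.fromSpecStalk (genericPoint X)) (Spec.map (CommRingCat.ofHom ψk))
      (CommSq.mk hsq))).exists_lift
    have hx := Groth.Agent.Lib.CurveValH7.range_eq_of_lift hval R ℓ hℓ₁
    refine ⟨ℓ (IsLocalRing.closedPoint R), hx, ?_⟩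
    intro y hy
    exact Groth.Agent.Lib.CurveValH7.eq_of_range_eq _ _ (hy.symm.trans hx)

end Groth.Agent.S4451
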