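import Groth.Statements.S4453
import Groth.Agent.Lib.NormBun3_helper6
import Groth.Agent.S4438
import Groth.Agent.S4418
import Groth.Agent.S4419
import Groth.Agent.Lib.Tens13_helper8

set_option autoImplicit false
universe u
open CategoryTheory CategoryTheory.Limits AlgebraicGeometry
open EGA2

namespace Groth.Agent.S4453

/-- Let Y be a quasi-compact separated scheme or a scheme whose underlying space is Noetherian, f : X ⟶
Y a morphism of finite type and g : X' ⟶ X a finite surjective morphism such that the direct image
of O_{X'} is a finite locally free O_X-module. Then f is projective if and only if f ∘ g is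
projective. (The companion assertion, on quasi-projectivity, is the
existence-of-a-relatively-ample-module equivalence stated separately.) -/
theorem result {X X' Y : Scheme.{u}} (f : X ⟶ Y) [LocallyOfFiniteType f]
    [QuasiCompact f] (g : X' ⟶ X) [IsFinite g] [Surjective g]
    (hfree : FlatMod.IsFinLocFree ((Coh.push g).obj (Coh.structureModule X')))
    (hY : (CompactSpace Y ∧ Y.IsSeparated) ∨ TopologicalSpace.NoetherianSpace Y) :
    RelProj.IsProjective f ↔ RelProj.IsProjective (g ≫ f) := by
  constructor
  · intro hf
    obtain ⟨⟨hlft, hqc, L, hLamp⟩, hprop⟩ := Groth.Agent.S4418.result f hf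
    haveI := hprop
    have hL := TensH8.isInvertible_of_isRelAmple f hLamp
    obtain ⟨L', hL', hL'amp⟩ := (Groth.Agent.S4438.result f g hfree).mp ⟨L, hL, hLamp⟩
    haveI : IsProper (g ≫ f) := inferInstance
    exact Groth.Agent.S4419.result hY (g ≫ f) ⟨inferInstance, inferInstance, L', hL'amp⟩
  · intro hgf
    obtain ⟨⟨hlft, hqc, L', hL'amp⟩, hprop⟩ := Groth.Agent.S4418.result (g ≫ f) hgf
    haveI := hprop
    have hL' := TensH8.isInvertible_of_isRelAmple (g ≫ f) hL'amp
    obtain ⟨L, hL, hLamp⟩ := (Groth.Agent.S4438.result f g hfree).mpr ⟨L', hL', hL'amp⟩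
    haveI : IsSeparated f := Groth.Agent.Lib.NormBunH6.isSeparated_of_comp_surjective g f
    haveI : UniversallyClosed f := UniversallyClosed.of_comp_surjective g f
    haveI : IsProper f := {}
    exact Groth.Agent.S4419.result hY f ⟨inferInstance, inferInstance, L, hLamp⟩

end Groth.Agent.S4453
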