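import Groth.Statements.S4459
-- (no extra imports)

set_option autoImplicit false
universe u
open Coherent

namespace Groth.Agent.S4459

open AlgebraicGeometry CategoryTheory in
/-- Let A be a Noetherian ring which is separated and complete for the J-adic topology, and let f : X →
Spec A be a morphism of schemes which is a closed map on underlying spaces. Then every open subset
of X containing the inverse image of V(J) is all of X. (The published statement also assumes X of
finite type over A; that hypothesis is not used.) -/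
theorem result (A : Type u) [CommRing A] [IsNoetherianRing A]
    (J : Ideal A) [IsAdicComplete J A] {X : Scheme.{u}} (f : X ⟶ Spec (CommRingCat.of A))
    (hf : IsClosedMap f.base) (U : X.Opens)
    (hU : f.base ⁻¹' (PrimeSpectrum.zeroLocus (J : Set A)) ⊆ (U : Set X)) : U = ⊤ := by
  by_contra hne
  have hex : ∃ z : X, z ∉ U := by
    by_contra hcon
    push_neg at hcon
    exact hne (top_le_iff.mp fun z _ => hcon z)
  obtain ⟨z, hz⟩ := hex
  have hcl : IsClosed (f.base '' ((U : Set X)ᶜ)) := hf _ U.isOpen.isClosed_compl
  obtain ⟨I, hI⟩ := (PrimeSpectrum.isClosed_iff_zeroLocus_ideal (R := A) _).mp hcl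
  have hdisj : PrimeSpectrum.zeroLocus ((I ⊔ J : Ideal A) : Set A) = ∅ := by
    rw [PrimeSpectrum.zeroLocus_sup, ← hI]
    ext y
    simp only [Set.mem_inter_iff, Set.mem_image, Set.mem_compl_iff, Set.mem_empty_iff_false,
      iff_false]
    rintro ⟨⟨w, hw, rfl⟩, hy⟩
    exact hw (hU hy)
  have htop : I ⊔ J = ⊤ := PrimeSpectrum.zeroLocus_empty_iff_eq_top.mp hdisj
  have hItop : I = ⊤ := by
    have h1 : (1 : A) ∈ I ⊔ J := htop ▸ Submodule.mem_top
    obtain ⟨i, hi, j, hj, hij⟩ := Submodule.mem_sup.mp h1
    have hjac : j ∈ (⊥ : Ideal A).jacobson := IsAdicComplete.le_jacobson_bot J hj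
    have hunit : IsUnit i := by
      have h2 := (Ideal.mem_jacobson_bot.mp hjac) (-1)
      have e : i = j * (-1) + 1 := by linear_combination hij
      rw [e]
      exact h2
    exact Ideal.eq_top_of_isUnit_mem _ hi hunit
  have hmem : f.base z ∈ PrimeSpectrum.zeroLocus (I : Set A) := hI ▸ ⟨z, hz, rfl⟩
  rw [hItop] at hmem
  simp at hmem
  exact hmem

end Groth.Agent.S4459
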