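import Groth.Statements.S4469
import Mathlib
import Groth.Agent.Lib.IsolatedPt_helper7

set_option autoImplicit false
universe u
open CAlg

namespace Groth.Agent.S4469

/-- Let A be an integrally closed Noetherian local domain with field of fractions K, B an A-algebra of
finite type which is a domain with the same field of fractions (A → B → K compatible with A → K),
and 𝔫 a maximal ideal of B lying over the maximal ideal 𝔪 of A and minimal among the prime ideals of
B lying over 𝔪. Then B = A: the structure map A → B is bijective. -/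
theorem result (A B K : Type u) [CommRing A]
    [IsDomain A] [IsNoetherianRing A] [IsLocalRing A] [IsIntegrallyClosed A] [CommRing B] [IsDomain B]
    [Field K] [Algebra A B] [Algebra B K] [Algebra A K] [IsScalarTower A B K] [IsFractionRing A K]
    [IsFractionRing B K] [Algebra.FiniteType A B] (n : Ideal B) [n.IsMaximal]
    (hn : n.comap (algebraMap A B) = IsLocalRing.maximalIdeal A)
    (hmin : ∀ q : Ideal B, q.IsPrime → q.comap (algebraMap A B) = IsLocalRing.maximalIdeal A → q ≤ n → q = n) :
    Function.Bijective (algebraMap A B) := by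
  have hinjBK : Function.Injective (algebraMap B K) := IsFractionRing.injective B K
  have hinjAK : Function.Injective (algebraMap A K) := IsFractionRing.injective A K
  have hinj : Function.Injective (algebraMap A B) := by
    intro a a' h
    apply hinjAK
    rw [IsScalarTower.algebraMap_apply A B K, IsScalarTower.algebraMap_apply A B K, h]
  have hint : ∀ b : B, IsIntegral A b → ∃ a : A, algebraMap A B a = b := by
    intro b hb
    have h1 : IsIntegral A (algebraMap B K b) := hb.map (IsScalarTower.toAlgHom A B K)
    obtain ⟨a, ha⟩ := (IsIntegrallyClosed.isIntegral_iff (R := A) (K := K)).mp h1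
    exact ⟨a, hinjBK (by rw [← IsScalarTower.algebraMap_apply, ha])⟩
  haveI hnp : n.IsPrime := inferInstance
  haveI : IsNoetherianRing B := Algebra.FiniteType.isNoetherianRing A B
  obtain ⟨q, hq⟩ : ∃ q : PrimeSpectrum B, q.asIdeal = n := ⟨⟨n, hnp⟩, rfl⟩
  subst hq
  have hopen : IsOpen (X := (PrimeSpectrum.comap (algebraMap A B)) ⁻¹'
      {q.comap (algebraMap A B)}) {⟨q, rfl⟩} := by
    have hFcl : IsClosed ((PrimeSpectrum.comap (algebraMap A B)) ⁻¹'
        {q.comap (algebraMap A B)}) := by
      apply IsClosed.preimage (PrimeSpectrum.continuous_comap (algebraMap A B))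
      rw [PrimeSpectrum.isClosed_singleton_iff_isMaximal]
      change (q.asIdeal.comap (algebraMap A B)).IsMaximal
      rw [hn]; infer_instance
    haveI : QuasiSober ↥((PrimeSpectrum.comap (algebraMap A B)) ⁻¹'
        {q.comap (algebraMap A B)}) := hFcl.isClosedEmbedding_subtypeVal.quasiSober
    apply Groth.Agent.Lib.IsolatedPtH7.isOpen_singleton_of_isClosed_of_maximal
    · have h1 : IsClosed ({q} : Set (PrimeSpectrum B)) :=
        (PrimeSpectrum.isClosed_singleton_iff_isMaximal q).mpr (by infer_instance)
      convert h1.preimage continuous_subtype_val using 1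
      ext z
      simp [Subtype.ext_iff]
    · intro z hz
      have h1 : z.1 ⤳ q := hz.map continuous_subtype_val
      have h2 : z.1.asIdeal ≤ q.asIdeal := by
        exact (PrimeSpectrum.le_iff_specializes z.1 q).mpr h1
      have h3 : z.1.asIdeal.comap (algebraMap A B) = IsLocalRing.maximalIdeal A := by
        have h4 := congrArg PrimeSpectrum.asIdeal z.2
        have h5 : z.1.asIdeal.comap (algebraMap A B) = q.asIdeal.comap (algebraMap A B) := h4
        rw [h5, hn]
      have h6 := hmin _ z.1.isPrime h3 h2
      exact Subtype.ext (PrimeSpectrum.ext h6)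
  haveI hqf : Algebra.QuasiFiniteAt A q.asIdeal :=
    Algebra.QuasiFiniteAt.of_isOpen_singleton_fiber q hopen
  obtain ⟨r, hrn, hrint, hr⟩ := Algebra.zariskisMainProperty_iff.mp
    (Algebra.ZariskisMainProperty.of_finiteType (R := A) q.asIdeal)
  obtain ⟨a, ha⟩ := hint r hrint
  have ham : a ∉ IsLocalRing.maximalIdeal A := by
    intro h
    apply hrn
    rw [← ha]
    have h1 : a ∈ q.asIdeal.comap (algebraMap A B) := by rw [hn]; exact h
    exact h1
  have hau : IsUnit a := by
    rwa [IsLocalRing.mem_maximalIdeal, mem_nonunits_iff, not_not] at ham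
  refine ⟨hinj, fun b => ?_⟩
  obtain ⟨m, hm⟩ := hr b
  obtain ⟨a', ha'⟩ := hint _ hm
  obtain ⟨u, rfl⟩ := hau
  refine ⟨((u⁻¹ ^ m : Aˣ) : A) * a', ?_⟩
  have h1 : ((u⁻¹ ^ m : Aˣ) : A) * (u : A) ^ m = 1 := by
    rw [← Units.val_pow_eq_pow_val, ← Units.val_mul, ← mul_pow, inv_mul_cancel, one_pow,
      Units.val_one]
  rw [map_mul, ha', ← ha, ← map_pow, ← mul_assoc, ← map_mul, h1, map_one, one_mul]

end Groth.Agent.S4469
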