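import Groth.Statements.S4482
import Groth.Agent.Lib.SerreGam6_helper2
import Groth.Agent.Lib.SerreGam5_helper2

set_option autoImplicit false
universe u
open Coherent

namespace Groth.Agent.S4482

open AlgebraicGeometry CategoryTheory in
/-- Let A be an Artinian local ring, S a graded A-algebra with S_0 the image of A, generated by r+1
elements of degree one spanning S_1, M a finitely generated graded S-module (graded in nonnegative
degrees) and X = Proj S. Then there is N such that for every n ≥ N the Euler characteristic of the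
module M(n)~, namely the alternating sum over 0 ≤ j ≤ r of the lengths of the A-modules H^j(X,
M(n)~), equals the length of the A-module M_n. -/
theorem result {A S : Type u} [CommRing A] [IsArtinianRing A]
    [IsLocalRing A] [CommRing S] [Algebra A S] (𝒜 : ℕ → Submodule A S) [GradedAlgebra 𝒜]
    (h0 : ∀ s ∈ 𝒜 0, s ∈ Set.range (algebraMap A S)) (r : ℕ) (g : Fin (r + 1) → S)
    (hg1 : ∀ i, g i ∈ 𝒜 1) (hspan : Submodule.span A (Set.range g) = 𝒜 1)
    (hgen : Algebra.adjoin A (Set.range g) = ⊤) {M : Type u} [AddCommGroup M] [Module A M] [Module S M]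
    [IsScalarTower A S M] [Module.Finite S M] (ℳ : ℕ → Submodule A M) [DirectSum.Decomposition ℳ]
    [SetLike.GradedSMul 𝒜 ℳ] :
    ∃ N : ℕ, ∀ n : ℕ, N ≤ n →
      ((Finset.range (r + 1)).sum fun j => (-1 : ℤ) ^ j *
          ((Module.length A (Coh.HH (Proj 𝒜) (GrTilde.tilde 𝒜 ℳ (n : ℤ)) j)).toNat : ℤ)) =
        ((Module.length A ↥(ℳ n)).toNat : ℤ) := by
  haveI : IsNoetherianRing A := inferInstance
  haveI : IsNoetherianRing S := Groth.Agent.Lib.SerreGamH2.isNoetherianRing_of_adjoin g hgen
  have hTF := Groth.Agent.Lib.SerreGamH2.tf_of_finite (A := S) ℳ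
  have hirr := Groth.Agent.Lib.SerreGamH2.irrelevant_eq_span_one_of_adjoin 𝒜 g hg1 hgen
  obtain ⟨N1, hN1⟩ := Groth.Agent.Lib.SerreGamH2.alpha_bijective_large 𝒜 ℳ hTF
  obtain ⟨N2, hN2⟩ := Groth.Agent.Lib.SerreGamH2.subsingleton_HH_large 𝒜 ℳ hirr hTF r
  refine ⟨max N1 N2, fun n hn => ?_⟩
  exact Groth.Agent.Lib.SerreGamH2.euler_eq_length 𝒜 ℳ r n
    (hN1 n (le_trans (le_max_left _ _) hn)) (hN2 n (le_trans (le_max_right _ _) hn))

end Groth.Agent.S4482
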