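import Groth.Statements.S4484
import Groth.Agent.Lib.GalMax2_helper8
import Groth.Agent.Lib.Unibr2_helper8

set_option autoImplicit false
universe u
open Coherent

namespace Groth.Agent.S4484

open AlgebraicGeometry CategoryTheory in
/-- Let X and Y be locally Noetherian integral schemes and f : X → Y a proper dominant morphism; regard
the function field R(X) as an extension of R(Y) through f. Suppose that the algebraic closure of
R(Y) in R(X) has finite separable degree n over R(Y). Then for every point y of Y whose local ring
is unibranch, the fibre X_y has finitely many, and at most n, connected components. -/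
theorem result {X Y : Scheme.{u}} [IsIntegral X]
    [IsIntegral Y] [IsLocallyNoetherian X] [IsLocallyNoetherian Y] (f : X ⟶ Y) [IsProper f]
    (hdom : f.base (genericPoint X) ⤳ genericPoint Y) [Algebra Y.functionField X.functionField]
    (halg : algebraMap Y.functionField X.functionField = CohIII.stalkToFunctionField f (genericPoint Y) hdom)
    (n : ℕ) (hn0 : 0 < n)
    (hn : Field.finSepDegree Y.functionField ↥(algebraicClosure Y.functionField X.functionField) = n)
    (y : Y) (hy : CAlg2.IsUnibranch (Y.presheaf.stalk y)) :
    Finite (_root_.ConnectedComponents ↥(f.fiber y)) ∧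
      Nat.card (_root_.ConnectedComponents ↥(f.fiber y)) ≤ n := by
  have hs : f (genericPoint X) ⤳ y := hdom.trans (genericPoint_specializes y)
  haveI : IsLocalRing (integralClosure (Y.presheaf.stalk y) Y.functionField) :=
    Groth.Agent.Lib.UnibrH8.isLocalRing_integralClosure_of_isUnibranch
      (Y.presheaf.stalk y) Y.functionField hy
  have h1 := Groth.Agent.Lib.FibPtsH8.card_connectedComponents_le f y hs
  have h2 := Groth.Agent.Lib.GalMaxH8.card_maximalSpectrum_le (A := Y.presheaf.stalk y)
    (K := Y.functionField) (L := X.functionField)
    (CohIII.stalkToFunctionField f y hs)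
    (by rw [halg]; exact Groth.Agent.Lib.UnibrH8.stalkToFunctionField_eq_comp f hdom y hs)
    (CohIII.integralClosureStalk f y hs) (fun x => Iff.rfl) n hn0 hn
  have h3 := h1.trans h2
  have hfin : Finite (_root_.ConnectedComponents ↥(f.fiber y)) :=
    Cardinal.lt_aleph0_iff_finite.mp (h3.trans_lt Cardinal.natCast_lt_aleph0)
  refine ⟨hfin, ?_⟩
  have h4 := Cardinal.toNat_le_toNat h3 Cardinal.natCast_lt_aleph0
  rw [Cardinal.toNat_natCast] at h4
  exact h4

end Groth.Agent.S4484
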