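import Groth.Statements.S4492
import Mathlib

set_option autoImplicit false
universe u
open FlatCx

namespace Groth.Agent.S4492

open CategoryTheory CategoryTheory.Limits

section LinAlg

variable {B : Type*} [Ring B] {M₁ M₂ M₃ : Type*} [AddCommGroup M₁] [Module B M₁]
  [AddCommGroup M₂] [Module B M₂] [AddCommGroup M₃] [Module B M₃]

theorem length_ker_range (a : M₁ →ₗ[B] M₂) :
    Module.length B M₁ =
      Module.length B (LinearMap.ker a) + Module.length B (LinearMap.range a) :=
  Module.length_eq_add_of_exact (LinearMap.ker a).subtype a.rangeRestrict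
    (Submodule.subtype_injective _) a.surjective_rangeRestrict
    (LinearMap.exact_iff.mpr (by rw [LinearMap.ker_rangeRestrict, Submodule.range_subtype]))

theorem length_mid (a : M₁ →ₗ[B] M₂) (b : M₂ →ₗ[B] M₃) (h : Function.Exact a b) :
    Module.length B M₂ =
      Module.length B (LinearMap.range a) + Module.length B (LinearMap.range b) := by
  have h1 := length_ker_range b
  rw [LinearMap.exact_iff.mp h] at h1
  exact h1

theorem length_le_add (a : M₁ →ₗ[B] M₂) (b : M₂ →ₗ[B] M₃) (h : Function.Exact a b) :
    Module.length B M₂ ≤ Module.length B M₁ + Module.length B M₃ := by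
  rw [length_mid a b h]
  exact add_le_add (Module.length_le_of_surjective a.rangeRestrict a.surjective_rangeRestrict)
    (Module.length_le_of_injective (LinearMap.range b).subtype (Submodule.subtype_injective _))

theorem length_eq_add_iff (a : M₁ →ₗ[B] M₂) (b : M₂ →ₗ[B] M₃) (h : Function.Exact a b)
    (h₁ : Module.length B M₁ ≠ ⊤) (h₃ : Module.length B M₃ ≠ ⊤) :
    Module.length B M₂ = Module.length B M₁ + Module.length B M₃ ↔
      Function.Injective a ∧ Function.Surjective b := by
  have e1 := length_ker_range a
  have e3 : Module.length B M₃ = Module.length B (LinearMap.range b) +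
      Module.length B (M₃ ⧸ LinearMap.range b) :=
    Module.length_eq_add_of_exact (LinearMap.range b).subtype (LinearMap.range b).mkQ
      (Submodule.subtype_injective _) (Submodule.mkQ_surjective _)
      (LinearMap.exact_subtype_mkQ _)
  have e2 := length_mid a b h
  have hk : Module.length B (LinearMap.ker a) ≠ ⊤ := fun h' => h₁ (by rw [e1, h', top_add])
  have hr : Module.length B (LinearMap.range a) ≠ ⊤ := fun h' => h₁ (by rw [e1, h', add_top])
  have hr' : Module.length B (LinearMap.range b) ≠ ⊤ := fun h' => h₃ (by rw [e3, h', top_add])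
  have hc : Module.length B (M₃ ⧸ LinearMap.range b) ≠ ⊤ :=
    fun h' => h₃ (by rw [e3, h', add_top])
  obtain ⟨k, hk'⟩ := ENat.ne_top_iff_exists.mp hk
  obtain ⟨r, hr1⟩ := ENat.ne_top_iff_exists.mp hr
  obtain ⟨r', hr2⟩ := ENat.ne_top_iff_exists.mp hr'
  obtain ⟨c, hc'⟩ := ENat.ne_top_iff_exists.mp hc
  have hk0 : k = 0 ↔ Function.Injective a := by
    rw [← LinearMap.ker_eq_bot, ← Submodule.subsingleton_iff_eq_bot,
      ← Module.length_eq_zero_iff (R := B), ← hk']
    exact Nat.cast_eq_zero.symm
  have hc0 : c = 0 ↔ Function.Surjective b := by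
    rw [← LinearMap.range_eq_top, ← Submodule.Quotient.subsingleton_iff,
      ← Module.length_eq_zero_iff (R := B), ← hc']
    exact Nat.cast_eq_zero.symm
  rw [e2, e1, e3, ← hk', ← hr1, ← hr2, ← hc', ← hk0, ← hc0]
  norm_cast
  omega

end LinAlg

section Cat

variable {A B : Type u} [Ring A] [Ring B] (F : ModuleCat.{u} A ⥤ ModuleCat.{u} B) [F.Additive]
  (hF : ∀ S : ShortComplex (ModuleCat.{u} A), S.ShortExact → (S.map F).Exact)
  (hS : ∀ M : ModuleCat.{u} A, IsSimpleModule A M → Module.length B (F.obj M) ≠ ⊤)

include hF in
theorem exact_of (S : ShortComplex (ModuleCat.{u} A)) (hSE : S.ShortExact) :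
    Function.Exact (F.map S.f).hom (F.map S.g).hom :=
  (ShortComplex.ShortExact.moduleCat_exact_iff_function_exact (S.map F)).mp (hF S hSE)

include hF hS in
theorem finite_aux : ∀ (n : ℕ) (E : ModuleCat.{u} A), Module.length A E = n →
    Module.length B (F.obj E) ≠ ⊤ := by
  intro n
  induction n using Nat.strong_induction_on with
  | _ n ih =>
  intro E hE
  by_cases hsub : Subsingleton E
  · have hz : IsZero E := ModuleCat.isZero_of_subsingleton E
    have hz' : IsZero (F.obj E) := F.map_isZero hz
    haveI : Subsingleton (F.obj E) := ModuleCat.subsingleton_of_isZero hz'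
    rw [Module.length_eq_zero]
    exact ENat.zero_ne_top
  · haveI : Nontrivial E := not_subsingleton_iff_nontrivial.mp hsub
    have hfl : IsFiniteLength A E :=
      Module.length_ne_top_iff.mp (by rw [hE]; exact ENat.natCast_ne_top n)
    obtain ⟨hnoeth, hart⟩ := isFiniteLength_iff_isNoetherian_isArtinian.mp hfl
    haveI : IsAtomic (Submodule A E) := isAtomic_of_orderBot_wellFounded_lt wellFounded_lt
    obtain ⟨N, hN⟩ := IsAtomic.exists_atom (Submodule A E)
    haveI hsimple : IsSimpleModule A N := isSimpleModule_iff_isAtom.mpr hN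
    let S : ShortComplex (ModuleCat.{u} A) :=
      ModuleCat.shortComplexOfCompEqZero N.subtype N.mkQ (by ext x; simp)
    have hSE : S.ShortExact := ModuleCat.shortComplex_shortExact S
      (LinearMap.exact_subtype_mkQ N) (Submodule.subtype_injective N)
      (Submodule.mkQ_surjective N)
    have hlen : Module.length A E = Module.length A N + Module.length A (E ⧸ N) :=
      Module.length_eq_add_of_exact N.subtype N.mkQ (Submodule.subtype_injective N)
        (Submodule.mkQ_surjective N) (LinearMap.exact_subtype_mkQ N)
    rw [Module.length_eq_one A N, hE] at hlen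
    have hq : Module.length A (E ⧸ N) ≠ ⊤ := fun h' => by
      rw [h', add_top] at hlen
      exact ENat.natCast_ne_top n hlen
    obtain ⟨m, hm⟩ := ENat.ne_top_iff_exists.mp hq
    rw [← hm] at hlen
    have hmn : m < n := by
      have : n = 1 + m := by exact_mod_cast hlen
      omega
    have h3 : Module.length B (F.obj (ModuleCat.of A (E ⧸ N))) ≠ ⊤ := ih m hmn _ hm.symm
    have h1 : Module.length B (F.obj (ModuleCat.of A N)) ≠ ⊤ := hS _ hsimple
    have hle := length_le_add (F.map S.f).hom (F.map S.g).hom (exact_of F hF S hSE)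
    exact ne_top_of_le_ne_top (WithTop.add_ne_top.mpr ⟨h1, h3⟩) hle

end Cat

open CategoryTheory CategoryTheory.Limits in
/-- (The published statement is for arbitrary abelian categories; this row is for functors between
module categories.) Let F be an additive functor from A-modules to B-modules which is half exact
(every short exact sequence 0 → E' → E → E'' → 0 goes to a sequence F(E') → F(E) → F(E'') exact at
the middle) and such that F(S) has finite length for every simple A-module S. Then F(E) has finite
length for every A-module E of finite length; and for every short exact sequence 0 → E' → E → E'' →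
0 of A-modules with E of finite length one has length F(E) ≤ length F(E') + length F(E''), with
equality if and only if 0 → F(E') → F(E) → F(E'') → 0 is (short) exact. Lengths are Mathlib's,
valued in ℕ∞. -/
theorem result {A B : Type u} [Ring A] [Ring B]
    (F : ModuleCat.{u} A ⥤ ModuleCat.{u} B) [F.Additive]
    (hF : ∀ S : ShortComplex (ModuleCat.{u} A), S.ShortExact → (S.map F).Exact)
    (hS : ∀ M : ModuleCat.{u} A, IsSimpleModule A M → Module.length B (F.obj M) ≠ ⊤) :
    (∀ E : ModuleCat.{u} A, Module.length A E ≠ ⊤ → Module.length B (F.obj E) ≠ ⊤) ∧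
      ∀ S : ShortComplex (ModuleCat.{u} A), S.ShortExact → Module.length A S.X₂ ≠ ⊤ →
        Module.length B (F.obj S.X₂) ≤ Module.length B (F.obj S.X₁) + Module.length B (F.obj S.X₃) ∧
          (Module.length B (F.obj S.X₂) = Module.length B (F.obj S.X₁) + Module.length B (F.obj S.X₃) ↔
            (S.map F).ShortExact) := by
  have part1 : ∀ E : ModuleCat.{u} A, Module.length A E ≠ ⊤ →
      Module.length B (F.obj E) ≠ ⊤ := by
    intro E hE
    obtain ⟨n, hn⟩ := ENat.ne_top_iff_exists.mp hE
    exact finite_aux F hF hS n E hn.symm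
  refine ⟨part1, fun S hSE hfin => ?_⟩
  have hinj := hSE.moduleCat_injective_f
  have hsurj := hSE.moduleCat_surjective_g
  have h1fin : Module.length A S.X₁ ≠ ⊤ :=
    ne_top_of_le_ne_top hfin (Module.length_le_of_injective S.f.hom hinj)
  have h3fin : Module.length A S.X₃ ≠ ⊤ :=
    ne_top_of_le_ne_top hfin (Module.length_le_of_surjective S.g.hom hsurj)
  have hF1 := part1 S.X₁ h1fin
  have hF3 := part1 S.X₃ h3fin
  have hex := exact_of F hF S hSE
  refine ⟨length_le_add _ _ hex, ?_⟩
  rw [length_eq_add_iff _ _ hex hF1 hF3]
  constructor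
  · rintro ⟨hi, hs⟩
    exact { exact := hF S hSE
            mono_f := (ModuleCat.mono_iff_injective _).mpr hi
            epi_g := (ModuleCat.epi_iff_surjective _).mpr hs }
  · intro h
    exact ⟨(ModuleCat.mono_iff_injective _).mp h.mono_f,
      (ModuleCat.epi_iff_surjective _).mp h.epi_g⟩

end Groth.Agent.S4492
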