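import Groth.Statements.S4495
import Mathlib

set_option autoImplicit false
universe u
open FlatCx

namespace Groth.Agent.S4495

open CategoryTheory AlgebraicGeometry Opposite TopologicalSpace

theorem subsingleton_of_forall_notMem (Z : LocallyRingedSpace.{u}) (O : Opens Z)
    (h : ∀ x : Z, x ∉ O) : Subsingleton (Z.presheaf.obj (op O)) := by
  have hu : IsUnit (0 : Z.presheaf.obj (op O)) :=
    RingedSpace.isUnit_of_isUnit_germ Z.toRingedSpace O 0 (fun x hx => (h x hx).elim)
  exact subsingleton_of_zero_eq_one (isUnit_zero_iff.mp hu)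

theorem notMem_of_zero_eq_one (Z : LocallyRingedSpace.{u}) (O : Opens Z)
    (h : (0 : Z.presheaf.obj (op O)) = 1) (x : Z) : x ∉ O := by
  intro hx
  haveI := Z.isLocalRing x
  have h1 := congrArg (fun t => Z.presheaf.germ O x hx t) h
  simp only [map_zero, map_one] at h1
  exact zero_ne_one h1

theorem eq_one_of_isUnit_of_idem {R : Type*} [CommRing R] {a : R} (hu : IsUnit a)
    (ha : IsIdempotentElem a) : a = 1 :=
  hu.mul_left_cancel (by rw [ha.eq, mul_one])

theorem forward (Z : LocallyRingedSpace.{u}) [PreconnectedSpace Z]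
    (e : Z.presheaf.obj (op ⊤)) (he : IsIdempotentElem e) : e = 0 ∨ e = 1 := by
  set U₁ : Opens Z := Z.toRingedSpace.basicOpen e with hU₁
  set U₂ : Opens Z := Z.toRingedSpace.basicOpen (1 - e) with hU₂
  have hcov : ∀ x : Z, x ∈ U₁ ∨ x ∈ U₂ := by
    intro x
    haveI := Z.isLocalRing x
    rw [hU₁, hU₂, RingedSpace.mem_basicOpen Z.toRingedSpace e x (Opens.mem_top x),
      RingedSpace.mem_basicOpen Z.toRingedSpace (1 - e) x (Opens.mem_top x)]
    have hsum : Z.presheaf.germ ⊤ x (Opens.mem_top x) e + Z.presheaf.germ ⊤ x (Opens.mem_top x) (1 - e) = 1 := by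
      rw [← map_add, add_sub_cancel, map_one]
    exact IsLocalRing.isUnit_or_isUnit_of_add_one hsum
  have hdisj : ∀ x : Z, x ∈ U₁ → x ∈ U₂ → False := by
    intro x h1 h2
    haveI := Z.isLocalRing x
    rw [hU₁, RingedSpace.mem_basicOpen Z.toRingedSpace e x (Opens.mem_top x)] at h1
    rw [hU₂, RingedSpace.mem_basicOpen Z.toRingedSpace (1 - e) x (Opens.mem_top x)] at h2
    have h0 : Z.presheaf.germ ⊤ x (Opens.mem_top x) e * Z.presheaf.germ ⊤ x (Opens.mem_top x) (1 - e) = 0 := by
      rw [← map_mul, mul_sub, mul_one, he.eq, sub_self, map_zero]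
    have h3 := h1.mul h2
    rw [h0] at h3
    exact not_isUnit_zero h3
  have hpc : ∀ x y : Z, x ∈ U₁ → y ∈ U₂ → False := by
    intro x y hx hy
    obtain ⟨z, -, hz1, hz2⟩ := (isPreconnected_univ (α := Z)) U₁ U₂ U₁.isOpen U₂.isOpen
      (fun w _ => hcov w) ⟨x, trivial, hx⟩ ⟨y, trivial, hy⟩
    exact hdisj z hz1 hz2
  by_cases hne : ∃ y, y ∈ U₂
  · left
    obtain ⟨y, hy⟩ := hne
    have hunit : IsUnit (1 - e) := by
      apply RingedSpace.isUnit_of_isUnit_germ Z.toRingedSpace ⊤
      intro x hx
      exact (RingedSpace.mem_basicOpen _ _ x hx).mp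
        ((hcov x).resolve_left (fun h => hpc x y h hy))
    have h1 : 1 - e = 1 := eq_one_of_isUnit_of_idem hunit he.one_sub
    linear_combination (-1 : Z.presheaf.obj (op ⊤)) * h1
  · right
    have hunit : IsUnit e := by
      apply RingedSpace.isUnit_of_isUnit_germ Z.toRingedSpace ⊤
      intro x hx
      exact (RingedSpace.mem_basicOpen _ _ x hx).mp
        ((hcov x).resolve_right (fun h => hne ⟨x, h⟩))
    exact eq_one_of_isUnit_of_idem hunit he

theorem backward (Z : LocallyRingedSpace.{u})
    (hid : ∀ e : Z.presheaf.obj (op ⊤), IsIdempotentElem e → e = 0 ∨ e = 1) :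
    PreconnectedSpace Z := by
  rw [preconnectedSpace_iff_clopen]
  intro s hs
  let U₁ : Opens Z := ⟨s, hs.isOpen⟩
  let U₂ : Opens Z := ⟨sᶜ, hs.compl.isOpen⟩
  let W : Bool → Opens Z := fun b => cond b U₁ U₂
  let sf : ∀ b : Bool, Z.presheaf.obj (op (W b)) := fun b => if b = true then 1 else 0
  have hsft : sf true = 1 := if_pos rfl
  have hsff : sf false = 0 := if_neg (by simp)
  have hinter : ∀ x : Z, x ∉ U₁ ⊓ U₂ := fun x hx => hx.2 hx.1
  have hinter' : ∀ x : Z, x ∉ U₂ ⊓ U₁ := fun x hx => hx.1 hx.2
  have hcompat : TopCat.Presheaf.IsCompatible Z.presheaf W sf := by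
    intro i j
    cases i <;> cases j
    · rw [hsff, map_zero, map_zero]
    · haveI := subsingleton_of_forall_notMem Z (W false ⊓ W true) hinter'
      exact Subsingleton.elim _ _
    · haveI := subsingleton_of_forall_notMem Z (W true ⊓ W false) hinter
      exact Subsingleton.elim _ _
    · rw [hsft, map_one, map_one]
  have hcover : (⊤ : Opens Z) ≤ iSup W := by
    intro x _
    rw [Opens.mem_iSup]
    by_cases hx : x ∈ s
    · exact ⟨true, hx⟩
    · exact ⟨false, hx⟩
  let ρ : ∀ b : Bool, Z.presheaf.obj (op ⊤) →+* Z.presheaf.obj (op (W b)) :=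
    fun b => (Z.presheaf.map (homOfLE (le_top : W b ≤ ⊤)).op).hom
  obtain ⟨e, he', -⟩ : ∃! e : Z.presheaf.obj (op ⊤), ∀ b, ρ b e = sf b :=
    Z.toSheafedSpace.sheaf.existsUnique_gluing' W ⊤ (fun b => homOfLE le_top) hcover sf hcompat
  have hidem : IsIdempotentElem e := by
    refine Z.toSheafedSpace.sheaf.eq_of_locally_eq' W ⊤ (fun b => homOfLE le_top) hcover _ _ ?_
    intro b
    show ρ b (e * e) = ρ b e
    rw [map_mul, he' b]
    cases b
    · rw [hsff, mul_zero]
    · rw [hsft, mul_one]
  rcases hid e hidem with h0 | h1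
  · left
    have h2 := he' true
    rw [h0, map_zero, hsft] at h2
    have hno := notMem_of_zero_eq_one Z (W true) h2
    ext x
    simp only [Set.mem_empty_iff_false, iff_false]
    exact fun hx => hno x hx
  · right
    have h2 := he' false
    rw [h1, map_one, hsff] at h2
    have hno := notMem_of_zero_eq_one Z (W false) h2.symm
    ext x
    simp only [Set.mem_univ, iff_true]
    by_contra hx
    exact hno x hx

open CategoryTheory AlgebraicGeometry Opposite in
/-- A locally ringed space Z is connected, in the sense that it is not the disjoint union of two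
nonempty open subsets (the empty space being allowed), if and only if every idempotent of the ring
of global sections Γ(Z, O_Z) is 0 or 1 (equivalently, Γ(Z, O_Z) is not isomorphic to a product of
two nonzero rings). -/
theorem result (Z : LocallyRingedSpace.{u}) :
    PreconnectedSpace Z ↔
      ∀ e : Z.presheaf.obj (op ⊤), IsIdempotentElem e → e = 0 ∨ e = 1 := by
  constructor
  · intro h e he
    exact forward Z e he
  · exact backward Z

end Groth.Agent.S4495
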