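import Groth.Statements.S4512
import Groth.Agent.Lib.GeomRegAdic_helper3
-- import your own Groth.Agent.* helpers here

set_option autoImplicit false
universe u
open EGA41
set_option maxSynthPendingDepth 3

namespace Groth.Agent.S4512

open IsLocalRing in
/-- Let k be a field and A a Noetherian local k-algebra with residue field K, and suppose A is formally
smooth over k for the adic topology of its maximal ideal (k discrete). Then A is geometrically
regular over k, i.e. A ⊗_k k' is a regular ring for every finite extension k' of k; and the adic
completion of A is isomorphic, as a ring, to a power series ring K[[T_1, …, T_n]] (existence of a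
ring isomorphism; no compatibility with k is asserted, and none holds in general when K is
inseparable over k). -/
theorem result {k A : Type u} [Field k] [CommRing A]
    [IsLocalRing A] [IsNoetherianRing A] [Algebra k A] (h : CAlgX.IsAdicFormallySmooth k A (maximalIdeal A)) :
    CAlg.IsGeometricallyRegular k A ∧
      ∃ n : ℕ, Nonempty (AdicCompletion (maximalIdeal A) A ≃+* MvPowerSeries (Fin n) (ResidueField A)) := by
  refine ⟨Groth.Agent.Lib.GeomRegAdicH3.isGeometricallyRegular_of_adic h, ?_⟩
  open Groth.Agent.Lib.AdicFSFieldH3 in
  letI : Algebra (PrimeField k) A :=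
    ((algebraMap k A).comp (algebraMap (PrimeField k) k)).toAlgebra
  haveI : IsScalarTower (PrimeField k) k A := IsScalarTower.of_algebraMap_eq (fun _ => rfl)
  have h2 := Groth.Agent.Lib.AdicFSFieldH3.isAdicFormallySmooth_of_tower
    (Groth.Agent.Lib.AdicFSFieldH3.PrimeField k) k A _ h
  haveI : Algebra.IsGeometricallyReduced (Groth.Agent.Lib.AdicFSFieldH3.PrimeField k)
      (ResidueField A) :=
    Groth.Agent.Lib.PerfectGRH3.isGeometricallyReduced_of_perfectField _ _
  exact ((Groth.Agent.S2453.result (k := Groth.Agent.Lib.AdicFSFieldH3.PrimeField k)
    (A := A)).out 0 2).1 h2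

end Groth.Agent.S4512
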