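import Groth.Statements.S4514
import Groth.Agent.Lib.FlatLift_helper3
-- import your own Groth.Agent.* helpers here

set_option autoImplicit false
universe u
open EGA41
set_option maxSynthPendingDepth 3

namespace Groth.Agent.S4514

open IsLocalRing TensorProduct in
/-- Let A be a Noetherian local ring with residue field k, and let B₀ be a k-algebra which is a complete
regular local ring. Then there exist a complete Noetherian local ring B and a local homomorphism A →
B making B a flat A-module, such that B₀ is k-isomorphic to k ⊗_A B = B/𝔪B. -/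
theorem result {A : Type u} [CommRing A] [IsLocalRing A] [IsNoetherianRing A]
    (B₀ : Type u) [CommRing B₀] [IsRegularLocalRing B₀] [IsAdicComplete (maximalIdeal B₀) B₀]
    [Algebra (ResidueField A) B₀] :
    ∃ (B : Type u) (_ : CommRing B) (_ : IsLocalRing B) (_ : IsNoetherianRing B) (_ : Algebra A B)
      (_ : IsLocalHom (algebraMap A B)),
      IsAdicComplete (maximalIdeal B) B ∧ Module.Flat A B ∧
        Nonempty (ResidueField A ⊗[A] B ≃ₐ[ResidueField A] B₀) := by
  classical
  haveI : IsNoetherianRing (AdicCompletion (maximalIdeal A) A) :=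
    Groth.Agent.RegularLib.isNoetherianRing_adicCompletion A (maximalIdeal A)
  -- the map `Â → k`
  have hres : ∀ a ∈ maximalIdeal A ^ 1, residue A a = 0 := fun a ha => by
    rw [pow_one] at ha
    exact (residue_eq_zero_iff a).2 ha
  let πk : AdicCompletion (maximalIdeal A) A →+* ResidueField A :=
    (Ideal.Quotient.lift (maximalIdeal A ^ 1) (residue A) hres).comp
      (AdicCompletion.evalₐ (maximalIdeal A) 1).toRingHom
  have hπk : ∀ a : A, πk (algebraMap A (AdicCompletion (maximalIdeal A) A) a) = residue A a := by
    intro a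
    show Ideal.Quotient.lift (maximalIdeal A ^ 1) (residue A) hres
      ((AdicCompletion.evalₐ (maximalIdeal A) 1) (algebraMap A _ a)) = _
    rw [AlgHom.commutes]
    rfl
  let θ : AdicCompletion (maximalIdeal A) A →+* B₀ := (algebraMap (ResidueField A) B₀).comp πk
  have hθalg : ∀ a : A, θ (algebraMap A (AdicCompletion (maximalIdeal A) A) a) =
      algebraMap (ResidueField A) B₀ (residue A a) := fun a => by
    show algebraMap (ResidueField A) B₀ (πk (algebraMap A _ a)) = _
    rw [hπk]
  have hθ : ∀ z ∈ maximalIdeal (AdicCompletion (maximalIdeal A) A), θ z = 0 := by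
    have h1 : maximalIdeal (AdicCompletion (maximalIdeal A) A) ≤ RingHom.ker θ := by
      rw [AdicCompletion.maximalIdeal_eq_map, Ideal.map_le_iff_le_comap]
      intro a ha
      rw [Ideal.mem_comap, RingHom.mem_ker, hθalg, (residue_eq_zero_iff a).2 ha, map_zero]
    exact fun z hz => RingHom.mem_ker.1 (h1 hz)
  obtain ⟨B, _, _, _, algÂB, hÂBloc, hcomp, hflat, Φ₀, hΦsurj, hΦalg, hΦker⟩ :=
    Groth.Agent.Lib.FlatLiftH3.exists_flat_lift θ hθ
  letI algAB : Algebra A B :=
    ((algebraMap (AdicCompletion (maximalIdeal A) A) B).comp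
      (algebraMap A (AdicCompletion (maximalIdeal A) A))).toAlgebra
  haveI : IsScalarTower A (AdicCompletion (maximalIdeal A) A) B :=
    IsScalarTower.of_algebraMap_eq (fun _ => rfl)
  have hABloc : IsLocalHom (algebraMap A B) := ⟨fun a ha => by
    have h1 : IsUnit (algebraMap A (AdicCompletion (maximalIdeal A) A) a) :=
      isUnit_of_map_unit (algebraMap (AdicCompletion (maximalIdeal A) A) B) _ ha
    exact isUnit_of_map_unit (algebraMap A (AdicCompletion (maximalIdeal A) A)) a h1⟩
  haveI : Module.Flat A B := Module.Flat.trans A (AdicCompletion (maximalIdeal A) A) B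
  refine ⟨B, inferInstance, inferInstance, inferInstance, algAB, hABloc, hcomp, inferInstance, ?_⟩
  letI algAB₀ : Algebra A B₀ :=
    ((algebraMap (ResidueField A) B₀).comp (algebraMap A (ResidueField A))).toAlgebra
  haveI : IsScalarTower A (ResidueField A) B₀ := IsScalarTower.of_algebraMap_eq (fun _ => rfl)
  let Φ₀A : B →ₐ[A] B₀ :=
    { Φ₀ with
      commutes' := fun a => by
        show Φ₀ (algebraMap (AdicCompletion (maximalIdeal A) A) B (algebraMap A _ a)) = _
        rw [hΦalg, hθalg]
        rfl }
  refine Groth.Agent.Lib.FlatLiftH3.fiber_equiv (A := A) (k := ResidueField A)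
    residue_surjective Φ₀A hΦsurj ?_
  show RingHom.ker Φ₀ = _
  rw [hΦker, AdicCompletion.maximalIdeal_eq_map, Ideal.map_map]
  have h2 : RingHom.ker (algebraMap A (ResidueField A)) = maximalIdeal A := ker_residue
  rw [h2]
  rfl

end Groth.Agent.S4514
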