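import Groth.Statements.S4516
import Mathlib

set_option autoImplicit false
universe u
open EGA41

namespace Groth.Agent.S4516

/-- Let p be a prime, B an A-algebra of characteristic p and A' an A-subalgebra of B contained in
A[B^p]. Then the canonical map between Ω_{B/A} and Ω_{B/A'} is bijective (every A-derivation of B
vanishes on A[B^p]). -/
theorem result (p : ℕ) [Fact p.Prime] {A B : Type u}
    [CommRing A] [CommRing B] [Algebra A B] [CharP B p] (A' : Subalgebra A B)
    (hA' : A' ≤ EGA41.pPowerSubalgebra p A B) :
    Function.Bijective (KaehlerDifferential.map A A' B B) := by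
  have hD : ∀ a' : A', KaehlerDifferential.D A B (a' : B) = 0 := by
    intro a'
    have hmem := hA' a'.2
    refine Algebra.adjoin_induction (p := fun z _ => KaehlerDifferential.D A B z = 0)
      ?_ ?_ ?_ ?_ hmem
    · rintro _ ⟨b, rfl⟩
      show KaehlerDifferential.D A B (b ^ p) = 0
      rw [Derivation.leibniz_pow, ← Nat.cast_smul_eq_nsmul B, CharP.cast_eq_zero, zero_smul]
    · intro r
      exact Derivation.map_algebraMap _ r
    · intro y z _ _ hy hz
      rw [map_add, hy, hz, add_zero]
    · intro y z _ _ hy hz
      rw [Derivation.leibniz, hy, hz, smul_zero, smul_zero, add_zero]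
  have hmap0 : KaehlerDifferential.map A A A' B = 0 := by
    apply LinearMap.ext_on (KaehlerDifferential.span_range_derivation A A')
    rintro _ ⟨a', rfl⟩
    rw [KaehlerDifferential.map_D, LinearMap.zero_apply]
    exact hD a'
  have hzero : KaehlerDifferential.mapBaseChange A A' B = 0 := by
    refine LinearMap.ext fun z => ?_
    induction z using TensorProduct.induction_on with
    | zero => simp
    | tmul b ω => rw [KaehlerDifferential.mapBaseChange_tmul, hmap0]; simp
    | add z₁ z₂ h₁ h₂ => rw [map_add, h₁, h₂]; simp
  refine ⟨?_, KaehlerDifferential.map_surjective A A' B⟩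
  rw [← LinearMap.ker_eq_bot, ← KaehlerDifferential.range_mapBaseChange, hzero, LinearMap.range_zero]

end Groth.Agent.S4516
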