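import Groth.Statements.S4517
import Mathlib

set_option autoImplicit false
universe u
open EGA41

namespace Groth.Agent.S4517

/-- Let p be a prime, B an A-algebra of characteristic p, and suppose there is s ≥ 0 such that b^(p^s)
lies in the image of A for every b ∈ B. Then the kernel of the multiplication map B ⊗_A B → B is a
nil ideal. -/
theorem result (p : ℕ) [Fact p.Prime] {A B : Type u}
    [CommRing A] [CommRing B] [Algebra A B] [CharP B p] (s : ℕ)
    (hpow : ∀ b : B, b ^ p ^ s ∈ Set.range (algebraMap A B)) :
    ∀ x ∈ KaehlerDifferential.ideal A B, IsNilpotent x := by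
  intro x hx
  rw [← KaehlerDifferential.span_range_eq_ideal] at hx
  have hle : Ideal.span (Set.range fun s : B => TensorProduct.tmul A (1 : B) s - TensorProduct.tmul A s (1 : B)) ≤
      nilradical (TensorProduct A B B) := by
    rw [Ideal.span_le]
    rintro _ ⟨b, rfl⟩
    show IsNilpotent _
    obtain ⟨a, ha⟩ := hpow b
    by_cases htriv : Subsingleton (TensorProduct A B B)
    · exact ⟨1, Subsingleton.elim _ _⟩
    · rw [not_subsingleton_iff_nontrivial] at htriv
      have hp0 : ((p : ℕ) : TensorProduct A B B) = 0 := by
        rw [← map_natCast (algebraMap B (TensorProduct A B B)) p, CharP.cast_eq_zero, map_zero]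
      have : CharP (TensorProduct A B B) p := (CharP.charP_iff_prime_eq_zero Fact.out).mpr hp0
      refine ⟨p ^ s, ?_⟩
      rw [sub_pow_char_pow, Algebra.TensorProduct.tmul_pow, Algebra.TensorProduct.tmul_pow,
        one_pow, ← ha, Algebra.algebraMap_eq_smul_one, TensorProduct.smul_tmul, sub_self]
  exact hle hx

end Groth.Agent.S4517
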