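import Groth.Statements.S4519
import Groth.Agent.Lib.PBasisSmooth_helper3
-- import your own Groth.Agent.* helpers here

set_option autoImplicit false
universe u
open EGA41
set_option maxSynthPendingDepth 3

namespace Groth.Agent.S4519

/-- Let p be a prime, B a ring of characteristic p and A a subring of B with B^p ⊆ A (here: A → B
injective with every p-th power in its image; R → A → B with the image of R in B equal to the set of
p-th powers, so that R stands for B^p). If B admits a p-basis over A, then B is a formally smooth
A-algebra relative to R for the discrete topologies (square-zero liftings, as in the prelude's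
relative notion). -/
theorem result (p : ℕ) [Fact p.Prime] {R A B : Type u} [CommRing R] [CommRing A]
    [CommRing B] [Algebra R A] [Algebra A B] [Algebra R B] [IsScalarTower R A B] [CharP B p]
    (hinj : Function.Injective (algebraMap A B)) (hpow : ∀ b : B, b ^ p ∈ Set.range (algebraMap A B))
    (hR : Set.range (algebraMap R B) = Set.range fun b : B => b ^ p)
    {ι : Type u} (x : ι → B) (hx : EGA41.IsPBasis p A x) :
    EGA41.IsFormallySmoothRel R A B := by
  classical
  obtain ⟨hli, hsp⟩ := Groth.Agent.Lib.PBasisH3.isPBasis_base p x hinj hpow hx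
  choose a ha using fun i => hpow (x i)
  intro C _ _ _ _ J hJ u₀ ⟨u, hu⟩
  have hmk : ∀ b, Ideal.Quotient.mk J (u b) = u₀ b := fun b => AlgHom.congr_fun hu b
  have hzp : ∀ i, u (x i) ^ p = algebraMap A C (a i) := by
    intro i
    have h1 : x i ^ p ∈ Set.range (algebraMap R B) := by
      rw [hR]
      exact ⟨x i, rfl⟩
    obtain ⟨r, hr⟩ := h1
    have h2 : a i = algebraMap R A r := by
      apply hinj
      rw [ha, ← IsScalarTower.algebraMap_apply, hr]
    rw [← map_pow, ← hr, AlgHom.commutes, h2, ← IsScalarTower.algebraMap_apply]
  obtain ⟨v, hv, -⟩ := Groth.Agent.Lib.PBasisH3.existsUnique_algHom p x a ha hli hsp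
    (fun i => u (x i)) hzp
  refine ⟨v, ?_⟩
  have huniq := Groth.Agent.Lib.PBasisH3.existsUnique_algHom p x a ha hli hsp
    (fun i => u₀ (x i)) (by
      intro i
      rw [← map_pow, ← ha, AlgHom.commutes])
  refine huniq.unique ?_ ?_
  · intro i
    show Ideal.Quotient.mk J (v (x i)) = u₀ (x i)
    rw [hv, hmk]
  · intro i
    rfl

end Groth.Agent.S4519
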