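import Groth.Statements.S4522
import Groth.Agent.Lib.ImperfField_helper3
import Groth.Agent.Lib.PBasis6_helper3
-- import your own Groth.Agent.* helpers here

set_option autoImplicit false
universe u
open EGA41
set_option maxSynthPendingDepth 3

namespace Groth.Agent.S4522

/-- Let L be a field of characteristic p > 0 and K a subfield with L^p ⊆ K ⊆ L (here R → K → L with the
image of R in L the set of p-th powers and every p-th power of L in the image of K). Then the
canonical L-linear map L ⊗_K Ω_{K/L^p} → Ω_{L/L^p} is injective, so that 0 → Ω_{K/L^p} ⊗_K L →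
Ω_{L/L^p} → Ω_{L/K} → 0 is exact: the imperfection module of L over K relative to L^p vanishes. -/
theorem result (p : ℕ) [Fact p.Prime] {R K L : Type u} [Field R] [Field K] [Field L]
    [Algebra R K] [Algebra K L] [Algebra R L] [IsScalarTower R K L] [CharP L p]
    (hR : Set.range (algebraMap R L) = Set.range fun y : L => y ^ p)
    (hK : ∀ y : L, y ^ p ∈ Set.range (algebraMap K L)) :
    Function.Injective (KaehlerDifferential.mapBaseChange R K L) := by
  classical
  open Groth.Agent.Lib.PBasisH3 in
  rw [Groth.Agent.Lib.ImperfFieldH3.injective_mapBaseChange_iff R]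
  intro D₀
  -- a p-basis of `L` over `K`
  have hS : Submodule.span K (Set.range (redMon p (Subtype.val : ↥(Set.univ : Set L) → L))) = ⊤ := by
    apply Groth.Agent.Lib.PBasisH3.span_red_eq_top p (Subtype.val : ↥(Set.univ : Set L) → L)
      (fun i => hK _)
    rw [Subtype.range_coe, Algebra.adjoin_univ]
  have hL0 : LinearIndependent K (redMon p (Subtype.val : ↥(∅ : Set L) → L)) := by
    apply (Groth.Agent.Lib.PBasisH3.pIon_range_iff (F := K) p
      (Subtype.val : ↥(∅ : Set L) → L) Subtype.val_injective).1
    rw [Subtype.range_coe]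
    exact Groth.Agent.Lib.PBasisH3.pIon_empty p
  obtain ⟨B, -, -, hli, hsp⟩ := Groth.Agent.Lib.PBasisH3.exists_pBasis_general (F := K) p hK
    Set.univ ∅ (Set.empty_subset _) hS hL0
  have ha : ∀ i : B, ∃ a : K, algebraMap K L a = (i : L) ^ p := fun i => hK i
  choose a ha using ha
  have hDa : ∀ i, (Groth.Agent.Lib.ImperfFieldH3.toIntDer D₀) (a i) = 0 := by
    intro i
    have h1 : (i : L) ^ p ∈ Set.range (algebraMap R L) := by
      rw [hR]
      exact ⟨i, rfl⟩
    obtain ⟨r, hr⟩ := h1
    have h2 : a i = algebraMap R K r := by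
      apply (algebraMap K L).injective
      rw [ha, ← hr, ← IsScalarTower.algebraMap_apply]
    show D₀ (a i) = 0
    rw [h2, Derivation.map_algebraMap]
  obtain ⟨D', ⟨hD'K, -⟩, -⟩ := Groth.Agent.Lib.PBasisH3.existsUnique_derivation p
    (Subtype.val : B → L) a ha hli hsp L (Groth.Agent.Lib.ImperfFieldH3.toIntDer D₀) hDa
    (fun _ => 0)
  have hD'R : ∀ r : R, D' (algebraMap R L r) = 0 := by
    intro r
    rw [IsScalarTower.algebraMap_apply R K L, hD'K]
    show D₀ (algebraMap R K r) = 0
    exact Derivation.map_algebraMap D₀ r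
  let Dlin : L →ₗ[R] L :=
    { toFun := D'
      map_add' := map_add D'
      map_smul' := fun r l => by
        show D' (r • l) = r • D' l
        rw [Algebra.smul_def, D'.leibniz, hD'R, smul_zero, add_zero, algebraMap_smul] }
  exact ⟨Derivation.mk' Dlin (fun a b => D'.leibniz a b), fun c => hD'K c⟩

end Groth.Agent.S4522
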