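import Groth.Statements.S4524
import Groth.Agent.Lib.Cartier_helper3
-- import your own Groth.Agent.* helpers here

set_option autoImplicit false
universe u
open EGA41
set_option maxSynthPendingDepth 3

namespace Groth.Agent.S4524

/-- Let k be a field of characteristic 0 and K an extension of k. Then Ω_{K/k} = 0 if and only if K is
an algebraic extension of k. -/
theorem result {k K : Type u} [Field k] [CharZero k] [Field K] [Algebra k K] :
    Subsingleton (Ω[K⁄k]) ↔ Algebra.IsAlgebraic k K := by
  classical
  constructor
  · intro hsub
    by_contra hna
    have hex : ∃ x : K, ¬ IsAlgebraic k x := by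
      by_contra h
      push Not at h
      exact hna ⟨h⟩
    obtain ⟨x, hx⟩ := hex
    -- the simple transcendental subextension
    obtain ⟨d, htr, hfred⟩ := Groth.Agent.Lib.CartierH3.cartierProp_simple (K := k) (L := K) x
    have hd : d ≠ 0 := by
      intro h0
      rw [h0, Nat.cast_zero, trdeg_eq_zero_iff] at htr
      apply hx
      have h1 : IsAlgebraic k (IntermediateField.AdjoinSimple.gen k x) := htr.isAlgebraic _
      have h2 := h1.algebraMap (A := K)
      exact h2
    obtain ⟨hf1, hf2, heq⟩ := Groth.Agent.Lib.CartierH3.cartier_of_isFred hfred
    haveI := hf1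
    have hpos : 0 < Module.finrank (IntermediateField.adjoin k {x}) (Ω[IntermediateField.adjoin k {x}⁄k]) := by
      have : (0 : ℤ) < d := by exact_mod_cast Nat.pos_of_ne_zero hd
      omega
    haveI : Nontrivial (Ω[IntermediateField.adjoin k {x}⁄k]) := Module.nontrivial_of_finrank_pos hpos
    haveI : Algebra.IsGeometricallyReduced (IntermediateField.adjoin k {x}) K :=
      Groth.Agent.Lib.PerfectGRH3.isGeometricallyReduced_of_perfectField _ K
    have hinj := (Groth.Agent.S2484.result (K := k) (E := IntermediateField.adjoin k {x}) (F := K)).1
      inferInstance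
    haveI : Nontrivial (TensorProduct (IntermediateField.adjoin k {x}) K
        (Ω[IntermediateField.adjoin k {x}⁄k])) := inferInstance
    haveI : Nontrivial (Ω[K⁄k]) := hinj.nontrivial
    exact not_subsingleton _ hsub
  · intro halg
    haveI : Algebra.IsSeparable k K := inferInstance
    haveI : Algebra.FormallyUnramified k K := Algebra.FormallyUnramified.of_isSeparable k K
    infer_instance

end Groth.Agent.S4524
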