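import Groth.Statements.S4530
import Groth.Agent.Lib.LeftInv_helper1

set_option autoImplicit false
universe u
open EGA41

namespace Groth.Agent.S4530

open TensorProduct in
/-- Let A be a ring, M an A-module of finite type, N a projective A-module, u : M → N a homomorphism.
For a prime ideal 𝔭 the following are equivalent: (a) u_𝔭 : M_𝔭 → N_𝔭 is left invertible; (b) u ⊗ 1
: M ⊗ k(𝔭) → N ⊗ k(𝔭) is injective; (d) there is f ∉ 𝔭 with u_f : M_f → N_f left invertible.
Moreover the set of such 𝔭 is open in Spec A. (The published statement also has a determinant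
criterion (c); this row omits it.) -/
theorem result {A : Type u} [CommRing A] {M N : Type u} [AddCommGroup M] [Module A M]
    [Module.Finite A M] [AddCommGroup N] [Module A N] [Module.Projective A N] (u : M →ₗ[A] N) :
    (∀ p : PrimeSpectrum A,
      [∃ w : LocalizedModule p.asIdeal.primeCompl N →ₗ[A] LocalizedModule p.asIdeal.primeCompl M,
          w ∘ₗ LocalizedModule.map p.asIdeal.primeCompl u = LinearMap.id,
       Function.Injective (u.lTensor p.asIdeal.ResidueField),
       ∃ f : A, f ∉ p.asIdeal ∧
          ∃ w : LocalizedModule (Submonoid.powers f) N →ₗ[A] LocalizedModule (Submonoid.powers f) M,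
            w ∘ₗ LocalizedModule.map (Submonoid.powers f) u = LinearMap.id].TFAE) ∧
    IsOpen {p : PrimeSpectrum A |
      ∃ w : LocalizedModule p.asIdeal.primeCompl N →ₗ[A] LocalizedModule p.asIdeal.primeCompl M,
        w ∘ₗ LocalizedModule.map p.asIdeal.primeCompl u = LinearMap.id} := by
  have hae : ∀ p : PrimeSpectrum A,
      (∃ w : LocalizedModule p.asIdeal.primeCompl N →ₗ[A] LocalizedModule p.asIdeal.primeCompl M,
          w ∘ₗ LocalizedModule.map p.asIdeal.primeCompl u = LinearMap.id) ↔
        ∃ a ∉ p.asIdeal, ∃ w : N →ₗ[A] M, w ∘ₗ u = a • LinearMap.id := by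
    intro p
    constructor
    · rintro ⟨w', hw'⟩
      obtain ⟨a, ha, w, hw⟩ :=
        Groth.Agent.Lib.LeftInvH1.exists_smul_of_leftInverse_localizedModule
          p.asIdeal.primeCompl u w' hw'
      exact ⟨a, ha, w, hw⟩
    · rintro ⟨a, ha, w, hw⟩
      exact Groth.Agent.Lib.LeftInvH1.exists_leftInverse_localizedModule
        p.asIdeal.primeCompl u a ha w hw
  refine ⟨fun p => ?_, ?_⟩
  · tfae_have 1 ↔ 2 := by
      rw [hae p]
      constructor
      · rintro ⟨a, ha, w, hw⟩
        exact Groth.Agent.Lib.LeftInvH1.lTensor_residueField_injective_of_smul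
          p.asIdeal u a ha w hw
      · intro h
        exact Groth.Agent.Lib.LeftInvH1.exists_smul_of_lTensor_residueField_injective
          p.asIdeal u h
    tfae_have 1 ↔ 3 := by
      rw [hae p]
      constructor
      · rintro ⟨a, ha, w, hw⟩
        exact ⟨a, ha, Groth.Agent.Lib.LeftInvH1.exists_leftInverse_localizedModule
          (Submonoid.powers a) u a (Submonoid.mem_powers a) w hw⟩
      · rintro ⟨f, hf, w', hw'⟩
        obtain ⟨a, ha, w, hw⟩ :=
          Groth.Agent.Lib.LeftInvH1.exists_smul_of_leftInverse_localizedModule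
            (Submonoid.powers f) u w' hw'
        obtain ⟨k, rfl⟩ := ha
        exact ⟨f ^ k, fun h => hf (p.isPrime.mem_of_pow_mem k h), w, hw⟩
    tfae_finish
  · convert Groth.Agent.Lib.LeftInvH1.isOpen_setOf_exists_smul u using 1
    ext p
    exact hae p

end Groth.Agent.S4530
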