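import Groth.Statements.S4531
import Groth.Agent.Lib.LeftInv_helper1

set_option autoImplicit false
universe u
open EGA41

namespace Groth.Agent.S4531

open TensorProduct in
/-- Let A be a ring, M an A-module of finite type, N a projective A-module and u : M → N a homomorphism.
(i) u is left invertible if and only if u_𝔪 : M_𝔪 → N_𝔪 is left invertible for every maximal ideal 𝔪
of A. (ii) If A' is an A-algebra which is a faithfully flat A-module, u is left invertible if and
only if u ⊗ 1 : M ⊗_A A' → N ⊗_A A' is left invertible (as an A'-linear map). -/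
theorem result {A : Type u} [CommRing A] {M N : Type u} [AddCommGroup M] [Module A M]
    [Module.Finite A M] [AddCommGroup N] [Module A N] [Module.Projective A N] (u : M →ₗ[A] N) :
    ((∃ w : N →ₗ[A] M, w ∘ₗ u = LinearMap.id) ↔
      ∀ (m : Ideal A) [m.IsMaximal],
        ∃ w : LocalizedModule m.primeCompl N →ₗ[A] LocalizedModule m.primeCompl M,
          w ∘ₗ LocalizedModule.map m.primeCompl u = LinearMap.id) ∧
    ∀ (A' : Type u) [CommRing A'] [Algebra A A'] [Module.FaithfullyFlat A A'],
      (∃ w : N →ₗ[A] M, w ∘ₗ u = LinearMap.id) ↔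
        ∃ w : A' ⊗[A] N →ₗ[A'] A' ⊗[A] M, w ∘ₗ u.baseChange A' = LinearMap.id := by
  refine ⟨⟨?_, ?_⟩, ?_⟩
  · rintro ⟨w, hw⟩ m hm
    exact Groth.Agent.Lib.LeftInvH1.exists_leftInverse_localizedModule m.primeCompl u 1
      (Submonoid.one_mem _) w (by rw [hw, one_smul])
  · intro h
    apply Groth.Agent.Lib.LeftInvH1.exists_leftInverse_of_forall_maximal u
    intro m hm
    obtain ⟨w', hw'⟩ := h m
    obtain ⟨a, ha, w, hw⟩ :=
      Groth.Agent.Lib.LeftInvH1.exists_smul_of_leftInverse_localizedModule m.primeCompl u w' hw'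
    exact ⟨a, ha, w, hw⟩
  · intro A' _ _ _
    constructor
    · rintro ⟨w, hw⟩
      refine ⟨w.baseChange A', ?_⟩
      rw [← LinearMap.baseChange_comp, hw, LinearMap.baseChange_id]
    · rintro ⟨w', hw'⟩
      exact Groth.Agent.Lib.LeftInvH1.exists_leftInverse_of_baseChange u A' w' hw'

end Groth.Agent.S4531
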