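import Groth.Statements.S4532
import Mathlib.RingTheory.Smooth.Basic
import Mathlib.LinearAlgebra.SymmetricAlgebra.Basic
import Mathlib.Algebra.Module.Projective

set_option autoImplicit false
universe u
open EGA41

namespace Groth.Agent.S4532

/-- Let A be a discrete ring and V a projective A-module. Then the symmetric algebra of V over A, with
the discrete topology, is a formally smooth A-algebra. -/
theorem result (A : Type u) [CommRing A] (V : Type u) [AddCommGroup V] [Module A V]
    [Module.Projective A V] : Algebra.FormallySmooth A (SymmetricAlgebra A V) := by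
  refine Algebra.FormallySmooth.of_comp_surjective fun B _ _ I _ f => ?_
  -- the linear map V → B ⧸ I
  let g : V →ₗ[A] B ⧸ I := f.toLinearMap ∘ₗ SymmetricAlgebra.ι A V
  obtain ⟨g', hg'⟩ := Module.projective_lifting_property
    ((Ideal.Quotient.mkₐ A I).toLinearMap) g (Ideal.Quotient.mkₐ_surjective A I)
  refine ⟨SymmetricAlgebra.lift g', ?_⟩
  apply SymmetricAlgebra.algHom_ext
  apply LinearMap.ext
  intro x
  show Ideal.Quotient.mk I (SymmetricAlgebra.lift g' (SymmetricAlgebra.ι A V x)) = f (SymmetricAlgebra.ι A V x)
  rw [SymmetricAlgebra.lift_ι_apply]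
  exact LinearMap.congr_fun hg' x

end Groth.Agent.S4532
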