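import Groth.Statements.S4555
import Mathlib

set_option autoImplicit false
universe u
open EGA41

namespace Groth.Agent.S4555

/-- The ideal of power series of order at least `m`. -/
def ordIdeal (A : Type*) [CommRing A] (n m : ℕ) : Ideal (MvPowerSeries (Fin n) A) where
  carrier := {F | (m : ℕ∞) ≤ F.order}
  add_mem' {a b} ha hb := le_trans (le_min ha hb) MvPowerSeries.min_order_le_add
  zero_mem' := by
    show (m : ℕ∞) ≤ (0 : MvPowerSeries (Fin n) A).order
    rw [MvPowerSeries.order_zero]
    exact le_top
  smul_mem' c x hx := by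
    show (m : ℕ∞) ≤ (c * x).order
    exact le_trans (le_trans hx le_add_self) MvPowerSeries.le_order_mul

theorem ker_le_ordIdeal (A : Type*) [CommRing A] (n : ℕ) :
    RingHom.ker (MvPowerSeries.constantCoeff : MvPowerSeries (Fin n) A →+* A) ≤ ordIdeal A n 1 := by
  intro F hF
  show ((1 : ℕ) : ℕ∞) ≤ F.order
  rw [Nat.cast_one, MvPowerSeries.one_le_order_iff_constCoeff_eq_zero]
  exact hF

theorem ordIdeal_mul_le (A : Type*) [CommRing A] (n a b : ℕ) :
    ordIdeal A n a * ordIdeal A n b ≤ ordIdeal A n (a + b) := by
  rw [Ideal.mul_le]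
  intro x hx y hy
  show ((a + b : ℕ) : ℕ∞) ≤ (x * y).order
  rw [Nat.cast_add]
  exact le_trans (add_le_add hx hy) MvPowerSeries.le_order_mul

theorem pow_ker_le_ordIdeal (A : Type*) [CommRing A] (n m : ℕ) :
    (RingHom.ker (MvPowerSeries.constantCoeff : MvPowerSeries (Fin n) A →+* A)) ^ m
      ≤ ordIdeal A n m := by
  induction m with
  | zero =>
    intro x _
    show ((0 : ℕ) : ℕ∞) ≤ x.order
    simp
  | succ m ih =>
    rw [pow_succ]
    exact le_trans (Ideal.mul_mono ih (ker_le_ordIdeal A n)) (ordIdeal_mul_le A n m 1)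

theorem coeff_eq_zero_of_mem_pow {A : Type*} [CommRing A] {n m : ℕ}
    {F : MvPowerSeries (Fin n) A}
    (hF : F ∈ (RingHom.ker
      (MvPowerSeries.constantCoeff : MvPowerSeries (Fin n) A →+* A)) ^ m)
    {α : Fin n →₀ ℕ} (hα : α.degree < m) : MvPowerSeries.coeff α F = 0 := by
  have h1 : (m : ℕ∞) ≤ F.order := pow_ker_le_ordIdeal A n m hF
  exact MvPowerSeries.coeff_of_lt_order (lt_of_lt_of_le (by exact_mod_cast hα) h1)

theorem mem_pow_ker_of_coeff_eq_zero (A : Type*) [CommRing A] (n : ℕ) :
    ∀ (m : ℕ) (F : MvPowerSeries (Fin n) A),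
      (∀ α : Fin n →₀ ℕ, α.degree < m → MvPowerSeries.coeff α F = 0) →
      F ∈ (RingHom.ker
        (MvPowerSeries.constantCoeff : MvPowerSeries (Fin n) A →+* A)) ^ m := by
  intro m
  induction m with
  | zero =>
    intro F _
    rw [pow_zero, Ideal.one_eq_top]
    exact Submodule.mem_top
  | succ m ih =>
    intro F hF
    classical
    let G : Fin n → MvPowerSeries (Fin n) A := fun i => fun β =>
      if (∀ j, j < i → β j = 0) then MvPowerSeries.coeff (β + Finsupp.single i 1) F else 0
    have hG : ∀ i (β : Fin n →₀ ℕ), MvPowerSeries.coeff β (G i) =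
        if (∀ j, j < i → β j = 0) then MvPowerSeries.coeff (β + Finsupp.single i 1) F
        else 0 := fun i β => rfl
    have hsum : F = ∑ i, MvPowerSeries.X i * G i := by
      ext α
      rw [map_sum]
      simp only [MvPowerSeries.X_def, MvPowerSeries.coeff_monomial_mul, one_mul, hG]
      by_cases hα : α = 0
      · subst hα
        rw [hF 0 (by simp)]
        symm
        apply Finset.sum_eq_zero
        intro i _
        rw [if_neg]
        intro h
        rw [Finsupp.single_le_iff] at h
        simp at h
      · have hne : α.support.Nonempty := Finsupp.support_nonempty_iff.mpr hα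
        have hi0mem : α (α.support.min' hne) ≠ 0 :=
          Finsupp.mem_support_iff.mp (Finset.min'_mem _ hne)
        have hmin : ∀ j, j < α.support.min' hne → α j = 0 := by
          intro j hj
          by_contra hne'
          have : α.support.min' hne ≤ j :=
            Finset.min'_le _ j (Finsupp.mem_support_iff.mpr hne')
          exact absurd hj (not_lt.mpr this)
        rw [Finset.sum_eq_single (α.support.min' hne)]
        · have hle : Finsupp.single (α.support.min' hne) 1 ≤ α := by
            rw [Finsupp.single_le_iff]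
            exact Nat.one_le_iff_ne_zero.mpr hi0mem
          rw [if_pos hle, if_pos, tsub_add_cancel_of_le hle]
          intro j hj
          rw [Finsupp.tsub_apply, hmin j hj, zero_tsub]
        · intro i _ hi
          by_cases hle : Finsupp.single i 1 ≤ α
          · rw [if_pos hle, if_neg]
            intro hcond
            have hi_supp : α i ≠ 0 := by
              rw [Finsupp.single_le_iff] at hle
              exact Nat.one_le_iff_ne_zero.mp hle
            have hlt : α.support.min' hne < i :=
              lt_of_le_of_ne (Finset.min'_le _ i (Finsupp.mem_support_iff.mpr hi_supp))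
                (Ne.symm hi)
            have h3 := hcond _ hlt
            rw [Finsupp.tsub_apply, Finsupp.single_apply, if_neg hi, tsub_zero] at h3
            exact hi0mem h3
          · rw [if_neg hle]
        · intro h
          exact absurd (Finset.mem_univ _) h
    rw [hsum]
    refine Ideal.sum_mem _ fun i _ => ?_
    rw [pow_succ']
    refine Ideal.mul_mem_mul ?_ (ih (G i) ?_)
    · rw [RingHom.mem_ker]
      exact MvPowerSeries.constantCoeff_X i
    · intro β hβ
      rw [hG]
      split_ifs
      · apply hF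
        rw [map_add, Finsupp.degree_single]
        omega
      · rfl

theorem algHom_ext_of_kill {A E : Type*} [CommRing A] [CommRing E] [Algebra A E] {n : ℕ}
    (g g' : MvPowerSeries (Fin n) A →ₐ[A] E) (m m' : ℕ)
    (hg : ∀ x ∈ (RingHom.ker
      (MvPowerSeries.constantCoeff : MvPowerSeries (Fin n) A →+* A)) ^ m, g x = 0)
    (hg' : ∀ x ∈ (RingHom.ker
      (MvPowerSeries.constantCoeff : MvPowerSeries (Fin n) A →+* A)) ^ m', g' x = 0)
    (hX : ∀ i, g (MvPowerSeries.X i) = g' (MvPowerSeries.X i)) : g = g' := by
  have hpoly : g.toRingHom.comp MvPolynomial.coeToMvPowerSeries.ringHom =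
      g'.toRingHom.comp MvPolynomial.coeToMvPowerSeries.ringHom := by
    refine MvPolynomial.ringHom_ext (fun r => ?_) (fun i => ?_)
    · show g ((MvPolynomial.C r : MvPolynomial (Fin n) A) : MvPowerSeries (Fin n) A) =
        g' ((MvPolynomial.C r : MvPolynomial (Fin n) A) : MvPowerSeries (Fin n) A)
      rw [MvPolynomial.coe_C]
      have : (MvPowerSeries.C r : MvPowerSeries (Fin n) A) = algebraMap A _ r := rfl
      rw [this, g.commutes, g'.commutes]
    · show g ((MvPolynomial.X i : MvPolynomial (Fin n) A) : MvPowerSeries (Fin n) A) =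
        g' ((MvPolynomial.X i : MvPolynomial (Fin n) A) : MvPowerSeries (Fin n) A)
      rw [MvPolynomial.coe_X]
      exact hX i
  ext F
  have hR : F - ((MvPowerSeries.truncTotal (max m m') F : MvPolynomial (Fin n) A) :
      MvPowerSeries (Fin n) A) ∈ (RingHom.ker
      (MvPowerSeries.constantCoeff : MvPowerSeries (Fin n) A →+* A)) ^ (max m m') := by
    apply mem_pow_ker_of_coeff_eq_zero
    intro α hα
    rw [map_sub, MvPolynomial.coeff_coe, MvPowerSeries.coeff_truncTotal _ hα, sub_self]
  have h1 : g (F - ((MvPowerSeries.truncTotal (max m m') F : MvPolynomial (Fin n) A) :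
      MvPowerSeries (Fin n) A)) = 0 :=
    hg _ (Ideal.pow_le_pow_right (le_max_left m m') hR)
  have h2 : g' (F - ((MvPowerSeries.truncTotal (max m m') F : MvPolynomial (Fin n) A) :
      MvPowerSeries (Fin n) A)) = 0 :=
    hg' _ (Ideal.pow_le_pow_right (le_max_right m m') hR)
  have h3 := DFunLike.congr_fun hpoly (MvPowerSeries.truncTotal (max m m') F)
  rw [map_sub, sub_eq_zero] at h1 h2
  rw [h1, h2]
  exact h3


/-- Let A carry the 𝔞-adic topology, B = A[[T_1, …, T_n]] the product topology (the adic topology of 𝔞B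
+ (T_1, …, T_n)), and let E be a discrete topological A-algebra (a power of 𝔞 kills E). (i) If f : B
→ E is a continuous A-algebra homomorphism then each f(T_i) is nilpotent. (ii) Conversely, for every
family (z_i) of nilpotent elements of E there is one and only one continuous A-algebra homomorphism
g : B → E with g(T_i) = z_i for all i. -/
theorem result (A : Type u) [CommRing A] (𝔞 : Ideal A) (n : ℕ) (E : Type u) [CommRing E]
    [Algebra A E] (hE : ∃ k : ℕ, (𝔞 ^ k).map (algebraMap A E) = ⊥) :
    (∀ f : MvPowerSeries (Fin n) A →ₐ[A] E,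
      (∃ m : ℕ, ∀ x ∈ (𝔞.map (MvPowerSeries.C : A →+* MvPowerSeries (Fin n) A) ⊔
        RingHom.ker (MvPowerSeries.constantCoeff : MvPowerSeries (Fin n) A →+* A)) ^ m, f x = 0) →
      ∀ i, IsNilpotent (f (MvPowerSeries.X i))) ∧
    ∀ z : Fin n → E, (∀ i, IsNilpotent (z i)) →
      ∃! g : MvPowerSeries (Fin n) A →ₐ[A] E,
        (∃ m : ℕ, ∀ x ∈ (𝔞.map (MvPowerSeries.C : A →+* MvPowerSeries (Fin n) A) ⊔
          RingHom.ker (MvPowerSeries.constantCoeff : MvPowerSeries (Fin n) A →+* A)) ^ m, g x = 0) ∧
        ∀ i, g (MvPowerSeries.X i) = z i := by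
  obtain ⟨k, hk⟩ := hE
  have hXmem : ∀ i, (MvPowerSeries.X i : MvPowerSeries (Fin n) A) ∈
      (𝔞.map (MvPowerSeries.C : A →+* MvPowerSeries (Fin n) A) ⊔
        RingHom.ker (MvPowerSeries.constantCoeff : MvPowerSeries (Fin n) A →+* A)) := fun i =>
    Ideal.mem_sup_right (by rw [RingHom.mem_ker]; exact MvPowerSeries.constantCoeff_X i)
  refine ⟨?_, ?_⟩
  · rintro f ⟨m, hm⟩ i
    refine ⟨m, ?_⟩
    rw [← map_pow]
    exact hm _ (Ideal.pow_mem_pow (hXmem i) m)
  · intro z hz
    have hN : ∃ N : ℕ, 0 < N ∧ ∀ i, z i ^ N = 0 := by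
      choose e he using hz
      refine ⟨(Finset.univ.sup e) + 1, Nat.succ_pos _, fun i => ?_⟩
      exact pow_eq_zero_of_le
        (le_trans (Finset.le_sup (Finset.mem_univ i)) (Nat.le_succ _)) (he i)
    obtain ⟨N, hN0, hN⟩ := hN
    have hkill𝔞 : ∀ (g : MvPowerSeries (Fin n) A →ₐ[A] E),
        ∀ y ∈ (𝔞.map (MvPowerSeries.C : A →+* MvPowerSeries (Fin n) A)) ^ k, g y = 0 := by
      intro g
      have : (𝔞.map (MvPowerSeries.C : A →+* MvPowerSeries (Fin n) A)) ^ k ≤
          RingHom.ker g.toRingHom := by
        rw [← Ideal.map_pow, Ideal.map_le_iff_le_comap]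
        intro a ha
        rw [Ideal.mem_comap, RingHom.mem_ker]
        show g (MvPowerSeries.C a) = 0
        have h1 : (MvPowerSeries.C a : MvPowerSeries (Fin n) A) = algebraMap A _ a := rfl
        rw [h1, g.commutes]
        have h2 := Ideal.mem_map_of_mem (algebraMap A E) ha
        rwa [hk] at h2
      exact fun y hy => this hy
    have hex : ∃ g : MvPowerSeries (Fin n) A →ₐ[A] E,
        (∀ i, g (MvPowerSeries.X i) = z i) ∧
        ∀ F : MvPowerSeries (Fin n) A,
          (∀ α : Fin n →₀ ℕ, α.degree < n * N + 1 → MvPowerSeries.coeff α F = 0) →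
          g F = 0 := by
      let _ : UniformSpace A := ⊥
      let _ : UniformSpace E := ⊥
      have : ContinuousSMul A E := ⟨continuous_of_discreteTopology⟩
      have ha : MvPowerSeries.HasEval z :=
        ⟨fun i => (hz i).isTopologicallyNilpotent, by simp [Filter.cofinite_eq_bot]⟩
      refine ⟨MvPowerSeries.aeval ha, fun i => ?_, fun F hF => ?_⟩
      · rw [MvPowerSeries.coe_aeval, MvPowerSeries.eval₂_X]
      · have hs := MvPowerSeries.hasSum_aeval ha F
        have hfun : (fun d : Fin n →₀ ℕ =>
            MvPowerSeries.coeff d F • d.prod fun s e => z s ^ e) = fun _ => 0 := by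
          funext d
          by_cases hd : d.degree < n * N + 1
          · rw [hF d hd, zero_smul]
          · have hex : ∃ i, N ≤ d i := by
              by_contra hcon
              push Not at hcon
              apply hd
              rw [Finsupp.degree_eq_sum]
              have : ∑ i, d i ≤ ∑ _i : Fin n, N :=
                Finset.sum_le_sum fun i _ => (hcon i).le
              simp at this
              omega
            obtain ⟨i, hi⟩ := hex
            have h0 : (d.prod fun s e => z s ^ e) = 0 := by
              rw [Finsupp.prod]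
              refine Finset.prod_eq_zero (i := i)
                (Finsupp.mem_support_iff.mpr (by omega)) ?_
              exact pow_eq_zero_of_le hi (hN i)
            rw [h0, smul_zero]
        rw [hfun] at hs
        exact hs.unique hasSum_zero
    obtain ⟨g, hgX, hg0⟩ := hex
    have hgkill : ∀ x ∈ (𝔞.map (MvPowerSeries.C : A →+* MvPowerSeries (Fin n) A) ⊔
        RingHom.ker (MvPowerSeries.constantCoeff : MvPowerSeries (Fin n) A →+* A)) ^
          (k + (n * N + 1)), g x = 0 := by
      intro x hx
      have h1 := Ideal.sup_pow_add_le_pow_sup_pow hx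
      obtain ⟨y, hy, w, hw, rfl⟩ := Submodule.mem_sup.mp h1
      rw [map_add, hkill𝔞 g y hy, zero_add]
      exact hg0 w (fun α hα => coeff_eq_zero_of_mem_pow hw hα)
    refine ⟨g, ⟨⟨k + (n * N + 1), hgkill⟩, hgX⟩, ?_⟩
    rintro g' ⟨⟨m', hm'⟩, hg'X⟩
    refine algHom_ext_of_kill g' g m' (k + (n * N + 1))
      (fun x hx => hm' x (Ideal.pow_right_mono le_sup_right m' hx))
      (fun x hx => hgkill x (Ideal.pow_right_mono le_sup_right _ hx))
      (fun i => by rw [hg'X i, hgX i])

end Groth.Agent.S4555
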