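import Groth.Statements.S4533
import Mathlib
import Groth.Agent.S4555

set_option autoImplicit false
universe u
open EGA41

namespace Groth.Agent.S4533

/-- Let A carry the 𝔞-adic topology and let B = A[[T_1, …, T_n]] carry the product topology, i.e. the
adic topology of the ideal 𝔞B + (T_1, …, T_n) (the kernel of the constant-coefficient map added to
the extension of 𝔞). Then B is a formally smooth A-algebra for these topologies. (The published
statement allows any linearly topologized base ring and any set of indeterminates with the product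
topology; this row takes an adic base and finitely many indeterminates, where the product topology
is adic.) -/
theorem result (A : Type u) [CommRing A] (𝔞 : Ideal A) (n : ℕ) :
    EGA41.IsFormallySmoothAdic A 𝔞 (MvPowerSeries (Fin n) A)
      (𝔞.map (MvPowerSeries.C : A →+* MvPowerSeries (Fin n) A) ⊔
        RingHom.ker (MvPowerSeries.constantCoeff : MvPowerSeries (Fin n) A →+* A)) := by
  intro C _ _ J hJ hk u hu
  obtain ⟨k, hk⟩ := hk
  have hkJ : ∃ k : ℕ, (𝔞 ^ k).map (algebraMap A (C ⧸ J)) = ⊥ := by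
    refine ⟨k, ?_⟩
    rw [Ideal.map_eq_bot_iff_le_ker]
    intro a ha
    rw [RingHom.mem_ker]
    show Ideal.Quotient.mk J (algebraMap A C a) = 0
    have h0 := Ideal.mem_map_of_mem (algebraMap A C) ha
    rw [hk] at h0
    rw [Ideal.mem_bot.mp h0, map_zero]
  obtain ⟨h1, h2⟩ := Groth.Agent.S4555.result A 𝔞 n (C ⧸ J) hkJ
  have hnil := h1 u hu
  choose z hz using fun i => Ideal.Quotient.mk_surjective (u (MvPowerSeries.X i))
  have hznil : ∀ i, IsNilpotent (z i) := by
    intro i
    obtain ⟨e, he⟩ := hnil i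
    obtain ⟨N, hN⟩ := hJ
    refine ⟨e * N, ?_⟩
    rw [pow_mul]
    have h3 : z i ^ e ∈ J := by
      rw [← Ideal.Quotient.eq_zero_iff_mem, map_pow, hz i, he]
    have h4 := Ideal.pow_mem_pow h3 N
    rw [hN] at h4
    exact h4
  obtain ⟨g, ⟨hgc, hgX⟩, -⟩ := (Groth.Agent.S4555.result A 𝔞 n C ⟨k, hk⟩).2 z hznil
  refine ⟨g, ?_⟩
  obtain ⟨g0, -, huniq⟩ := h2 (fun i => u (MvPowerSeries.X i)) hnil
  have e1 : (Ideal.Quotient.mkₐ A J).comp g = g0 := by
    refine huniq _ ⟨?_, fun i => ?_⟩
    · obtain ⟨m, hm⟩ := hgc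
      refine ⟨m, fun x hx => ?_⟩
      show Ideal.Quotient.mk J (g x) = 0
      rw [hm x hx, map_zero]
    · show Ideal.Quotient.mk J (g (MvPowerSeries.X i)) = u (MvPowerSeries.X i)
      rw [hgX i, hz i]
  have e2 : u = g0 := huniq _ ⟨hu, fun i => rfl⟩
  rw [e1, e2]

end Groth.Agent.S4533
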