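import Groth.Statements.S4534


set_option autoImplicit false
universe u
open EGA41

namespace Groth.Agent.S4534

/-- Let A → B → C be continuous homomorphisms of adic rings (A with the 𝔞-adic, B the 𝔟-adic, C the
𝔠-adic topology; continuity: a power of 𝔞 maps into 𝔟 and a power of 𝔟 into 𝔠). If B is formally
smooth over A and C formally smooth over B, then C is formally smooth over A. -/
theorem result {A B C : Type u} [CommRing A] [CommRing B] [CommRing C] [Algebra A B] [Algebra B C]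
    [Algebra A C] [IsScalarTower A B C] (𝔞 : Ideal A) (𝔟 : Ideal B) (𝔠 : Ideal C)
    (hAB : ∃ k : ℕ, (𝔞 ^ k).map (algebraMap A B) ≤ 𝔟) (hBC : ∃ k : ℕ, (𝔟 ^ k).map (algebraMap B C) ≤ 𝔠)
    (hB : EGA41.IsFormallySmoothAdic A 𝔞 B 𝔟) (hC : EGA41.IsFormallySmoothAdic B 𝔟 C 𝔠) :
    EGA41.IsFormallySmoothAdic A 𝔞 C 𝔠 := by
  intro E _ _ J hJ hAE u hu
  obtain ⟨kb, hkb⟩ := hBC
  obtain ⟨m, hm⟩ := hu
  -- restrict u to B
  let uB : B →ₐ[A] E ⧸ J := u.comp (IsScalarTower.toAlgHom A B C)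
  have huB : ∃ k : ℕ, ∀ x ∈ 𝔟 ^ k, uB x = 0 := by
    refine ⟨kb * m, fun x hx => ?_⟩
    apply hm
    rw [pow_mul] at hx
    have h1 : algebraMap B C x ∈ Ideal.map (algebraMap B C) ((𝔟 ^ kb) ^ m) :=
      Ideal.mem_map_of_mem _ hx
    rw [Ideal.map_pow] at h1
    exact Ideal.pow_right_mono hkb m h1
  obtain ⟨w, hw⟩ := hB E J hJ hAE uB huB
  obtain ⟨kw, hkw⟩ := huB
  obtain ⟨n, hn⟩ := hJ
  rw [Ideal.zero_eq_bot] at hn
  -- E as a B-algebra via w
  let _ : Algebra B E := w.toRingHom.toAlgebra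
  have : IsScalarTower A B E := IsScalarTower.of_algebraMap_eq fun a => (w.commutes a).symm
  have hwJ : Ideal.map (algebraMap B E) (𝔟 ^ kw) ≤ J := by
    rw [Ideal.map_le_iff_le_comap]
    intro x hx
    rw [Ideal.mem_comap, ← Ideal.Quotient.eq_zero_iff_mem]
    have h1 : Ideal.Quotient.mk J (w x) = uB x := AlgHom.congr_fun hw x
    show Ideal.Quotient.mk J (w x) = 0
    rw [h1, hkw x hx]
  have hBE : ∃ k : ℕ, (𝔟 ^ k).map (algebraMap B E) = ⊥ := by
    refine ⟨kw * n, ?_⟩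
    rw [pow_mul, Ideal.map_pow, ← le_bot_iff, ← hn]
    exact Ideal.pow_right_mono hwJ n
  let u' : C →ₐ[B] E ⧸ J :=
    { (u : C →+* E ⧸ J) with
      commutes' := fun b => by
        show u (algebraMap B C b) = Ideal.Quotient.mk J (w b)
        exact (AlgHom.congr_fun hw b).symm }
  obtain ⟨v, hv⟩ := hC E J ⟨n, hn⟩ hBE u' ⟨m, hm⟩
  refine ⟨v.restrictScalars A, ?_⟩
  apply AlgHom.ext
  intro c
  exact AlgHom.congr_fun hv c

end Groth.Agent.S4534
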