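import Groth.Statements.S4539
import Groth.Agent.Lib.CohenLift3_helper3
import Groth.Agent.Lib.CohenRing_helper3
import Groth.Agent.Lib.PerfectGR_helper3
-- import your own Groth.Agent.* helpers here

set_option autoImplicit false
universe u
open EGA41
set_option maxSynthPendingDepth 3

namespace Groth.Agent.S4539

open IsLocalRing in
/-- Let A be a local ring with residue characteristic p (p = 0 or a prime), P the prime local ring ℤ_(p)
(ℚ if p = 0) and P → A its unique local homomorphism. Then A is a Cohen ring, i.e. a Cohen P-algebra
— Noetherian and complete, flat over P, with pA its maximal ideal (and residue field separable over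
the prime field) — if and only if A is a field of characteristic 0 or a complete discrete valuation
ring of residue characteristic > 0 whose maximal ideal is generated by p·1. -/
theorem result (p : ℕ) [hp : (Ideal.span {(p : ℤ)}).IsPrime]
    {A : Type} [CommRing A] [IsLocalRing A] [CharP (ResidueField A) p]
    [Algebra (Localization.AtPrime (Ideal.span {(p : ℤ)})) A]
    [IsLocalHom (algebraMap (Localization.AtPrime (Ideal.span {(p : ℤ)})) A)] :
    EGA41.IsCohenAlgebra (Localization.AtPrime (Ideal.span {(p : ℤ)})) A ↔ EGA41.IsCohenRingEGA A := by
  classical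
  -- maximal ideal of `P`
  have hmP : maximalIdeal (Localization.AtPrime (Ideal.span {(p : ℤ)})) =
      Ideal.span {(p : Localization.AtPrime (Ideal.span {(p : ℤ)}))} := by
    rw [← Localization.AtPrime.map_eq_maximalIdeal (I := Ideal.span {(p : ℤ)}), Ideal.map_span,
      Set.image_singleton, map_natCast]
  have hmPA : (maximalIdeal (Localization.AtPrime (Ideal.span {(p : ℤ)}))).map
      (algebraMap (Localization.AtPrime (Ideal.span {(p : ℤ)})) A) = Ideal.span {(p : A)} := by
    rw [hmP, Ideal.map_span, Set.image_singleton, map_natCast]
  constructor
  · rintro ⟨hNP, hNA, hcomp, hflat, hmax, hsep⟩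
    haveI := hNA
    haveI := hflat
    have hmA : maximalIdeal A = Ideal.span {(p : A)} := by rw [← hmax, hmPA]
    by_cases hp0 : p = 0
    · subst hp0
      rw [Nat.cast_zero, Ideal.span_singleton_eq_bot.2 rfl] at hmA
      have hfield : IsField A := isField_iff_maximalIdeal_eq.2 hmA
      haveI : CharZero (ResidueField A) := CharP.charP_to_charZero _
      have hcz : CharZero A := ⟨fun m n h => by
        have := congrArg (residue A) h
        rw [map_natCast, map_natCast] at this
        exact Nat.cast_injective this⟩
      exact Or.inl ⟨hfield, hcz⟩
    · have hpZ : (p : ℤ) ≠ 0 := Int.natCast_ne_zero.2 hp0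
      have hprime : p.Prime :=
        Nat.prime_iff_prime_int.2 ((Ideal.span_singleton_prime hpZ).1 hp)
      have hinj : Function.Injective (algebraMap ℤ (Localization.AtPrime (Ideal.span {(p : ℤ)}))) :=
        IsLocalization.injective _ (Ideal.span {(p : ℤ)}).primeCompl_le_nonZeroDivisors
      have hpP : (p : Localization.AtPrime (Ideal.span {(p : ℤ)})) ≠ 0 := by
        intro h
        apply hpZ
        apply hinj
        rw [map_natCast, map_zero, h]
      have hregP : IsSMulRegular (Localization.AtPrime (Ideal.span {(p : ℤ)}))
          (p : Localization.AtPrime (Ideal.span {(p : ℤ)})) :=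
        (IsRegular.of_ne_zero hpP).left.isSMulRegular
      have hreg : IsSMulRegular A (p : A) := by
        have := IsSMulRegular.of_flat (S := A) hregP
        rwa [map_natCast] at this
      obtain ⟨hdom, hdvr⟩ := Groth.Agent.Lib.CohenRingH3.isDVR_of_principal A (p : A) hmA hreg
      exact Or.inr ⟨hdom, hdvr, hcomp, p, hprime, hmA⟩
  · intro hW
    obtain ⟨hNA, hcomp, hmA, -⟩ := Groth.Agent.Lib.CohenLiftH3.cohen_basic hW p
    -- domain and characteristic zero
    have hdc : IsDomain A ∧ CharZero A := by
      rcases hW with ⟨hfield, hchar⟩ | ⟨hdom, hdvr, -, q, hq, hmax⟩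
      · exact ⟨hfield.isDomain, hchar⟩
      · haveI := hdom
        haveI := hdvr
        exact ⟨hdom, (Groth.Agent.Lib.CohenLiftH3.cohen_facts q hq hmax p).2⟩
    obtain ⟨hdom, hcz⟩ := hdc
    haveI := hdom
    haveI := hcz
    have hflat : Module.Flat (Localization.AtPrime (Ideal.span {(p : ℤ)})) A := by
      haveI : Module.IsTorsionFree (Localization.AtPrime (Ideal.span {(p : ℤ)})) A :=
        Module.IsTorsionFree.of_smul_eq_zero (by
          intro r m h
          obtain ⟨a, s, rfl⟩ := IsLocalization.exists_mk'_eq (Ideal.span {(p : ℤ)}).primeCompl r
          by_cases hm : m = 0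
          · exact Or.inr hm
          left
          have h1 : algebraMap (Localization.AtPrime (Ideal.span {(p : ℤ)})) A
              (IsLocalization.mk' (Localization.AtPrime (Ideal.span {(p : ℤ)})) a s) * m = 0 := by
            rw [← Algebra.smul_def]
            exact h
          have h2 := (mul_eq_zero.1 h1).resolve_right hm
          have h3 : algebraMap (Localization.AtPrime (Ideal.span {(p : ℤ)})) A
              (algebraMap ℤ (Localization.AtPrime (Ideal.span {(p : ℤ)})) a) = 0 := by
            rw [← IsLocalization.mk'_spec (Localization.AtPrime (Ideal.span {(p : ℤ)})) a s,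
              map_mul, h2, zero_mul]
          rw [eq_intCast (algebraMap ℤ (Localization.AtPrime (Ideal.span {(p : ℤ)}))) a,
            map_intCast] at h3
          have ha : a = 0 := by exact_mod_cast h3
          rw [ha, IsLocalization.mk'_zero])
      infer_instance
    have hNP : IsNoetherianRing (Localization.AtPrime (Ideal.span {(p : ℤ)})) :=
      IsLocalization.isNoetherianRing (Ideal.span {(p : ℤ)}).primeCompl _ inferInstance
    -- the residue field of `P` is perfect
    haveI : CharP (ResidueField (Localization.AtPrime (Ideal.span {(p : ℤ)}))) p :=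
      RingHom.charP (algebraMap (ResidueField (Localization.AtPrime (Ideal.span {(p : ℤ)})))
        (ResidueField A)) (RingHom.injective _) p
    haveI : PerfectField (ResidueField (Localization.AtPrime (Ideal.span {(p : ℤ)}))) := by
      by_cases hp0 : p = 0
      · subst hp0
        haveI : CharZero (ResidueField (Localization.AtPrime (Ideal.span {((0 : ℕ) : ℤ)}))) :=
          CharP.charP_to_charZero _
        infer_instance
      · have hpZ : (p : ℤ) ≠ 0 := Int.natCast_ne_zero.2 hp0
        have hprime : p.Prime :=
          Nat.prime_iff_prime_int.2 ((Ideal.span_singleton_prime hpZ).1 hp)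
        haveI : Fact p.Prime := ⟨hprime⟩
        haveI : PerfectRing (ResidueField (Localization.AtPrime (Ideal.span {(p : ℤ)}))) p := by
          apply PerfectRing.ofSurjective
          intro x
          refine ⟨x, ?_⟩
          obtain ⟨y, rfl⟩ := residue_surjective x
          obtain ⟨a, s, rfl⟩ := IsLocalization.exists_mk'_eq (Ideal.span {(p : ℤ)}).primeCompl y
          have h1 : residue _ (IsLocalization.mk' (Localization.AtPrime (Ideal.span {(p : ℤ)})) a s) *
              (((s : ℤ) : ℤ) : ResidueField (Localization.AtPrime (Ideal.span {(p : ℤ)}))) =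
              ((a : ℤ) : ResidueField (Localization.AtPrime (Ideal.span {(p : ℤ)}))) := by
            have := congrArg (residue (Localization.AtPrime (Ideal.span {(p : ℤ)})))
              (IsLocalization.mk'_spec (Localization.AtPrime (Ideal.span {(p : ℤ)})) a s)
            rw [map_mul, eq_intCast (algebraMap ℤ (Localization.AtPrime (Ideal.span {(p : ℤ)}))) _,
              eq_intCast (algebraMap ℤ (Localization.AtPrime (Ideal.span {(p : ℤ)}))) _,
              map_intCast, map_intCast] at this
            exact this
          have hs0 : (((s : ℤ) : ℤ) :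
              ResidueField (Localization.AtPrime (Ideal.span {(p : ℤ)}))) ≠ 0 := by
            intro h
            rw [CharP.intCast_eq_zero_iff _ p] at h
            exact s.2 (Ideal.mem_span_singleton.2 h)
          have hx : residue _ (IsLocalization.mk' (Localization.AtPrime (Ideal.span {(p : ℤ)})) a s) =
              ((a : ℤ) : ResidueField (Localization.AtPrime (Ideal.span {(p : ℤ)}))) *
              (((s : ℤ) : ℤ) : ResidueField (Localization.AtPrime (Ideal.span {(p : ℤ)})))⁻¹ := by
            rw [← h1, mul_assoc, mul_inv_cancel₀ hs0, mul_one]
          rw [hx, map_mul, map_inv₀, map_intCast, map_intCast]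
        exact PerfectRing.toPerfectField _ p
    haveI := Groth.Agent.Lib.PerfectGRH3.isGeometricallyReduced_of_perfectField
      (ResidueField (Localization.AtPrime (Ideal.span {(p : ℤ)}))) (ResidueField A)
    exact ⟨hNP, hNA, hcomp, hflat, by rw [hmPA, hmA], inferInstance⟩

end Groth.Agent.S4539
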