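import Groth.Statements.S4544
import Groth.Agent.Lib.AdicSmooth_helper1

set_option autoImplicit false
universe u
open EGA41

namespace Groth.Agent.S4544

open TensorProduct in
/-- Let B (𝔟-adic) be a formally smooth topological A-algebra over A (𝔞-adic), the structure map being
continuous (a power of 𝔞 maps into 𝔟); squares of open ideals of B are then open. For every open
ideal 𝔄 of B (an ideal containing a power of 𝔟), Ω_{B/A} ⊗_B (B/𝔄) = Ω_{B/A}/𝔄Ω_{B/A} is a
projective (B/𝔄)-module. -/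
theorem result {A B : Type u} [CommRing A] [CommRing B] [Algebra A B]
    (𝔞 : Ideal A) (𝔟 : Ideal B) (hAB : ∃ k : ℕ, (𝔞 ^ k).map (algebraMap A B) ≤ 𝔟)
    (h : EGA41.IsFormallySmoothAdic A 𝔞 B 𝔟) (𝔄 : Ideal B) (h𝔄 : ∃ n : ℕ, 𝔟 ^ n ≤ 𝔄) :
    Module.Projective (B ⧸ 𝔄) ((B ⧸ 𝔄) ⊗[B] Ω[B⁄A]) := by
  classical
  refine Module.Projective.of_lifting_property'' fun f hf => ?_
  let D₀ : Derivation A B ((B ⧸ 𝔄) ⊗[B] Ω[B⁄A]) :=
    (TensorProduct.mk B (B ⧸ 𝔄) Ω[B⁄A] 1).compDer (KaehlerDifferential.D A B)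
  obtain ⟨D', hD'⟩ :=
    Groth.Agent.Lib.AdicSmoothH1.exists_derivation_lift 𝔞 𝔟 hAB h 𝔄 h𝔄 f hf D₀
  have key : ∀ ω : Ω[B⁄A], f (D'.liftKaehlerDifferential ω) = (1 : B ⧸ 𝔄) ⊗ₜ[B] ω := by
    have h1 : (f.restrictScalars B) ∘ₗ D'.liftKaehlerDifferential =
        TensorProduct.mk B (B ⧸ 𝔄) Ω[B⁄A] 1 := by
      apply LinearMap.ext_on (KaehlerDifferential.span_range_derivation A B)
      rintro _ ⟨b, rfl⟩
      simp only [LinearMap.comp_apply, LinearMap.restrictScalars_apply,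
        Derivation.liftKaehlerDifferential_comp_D]
      exact hD' b
    intro ω
    exact LinearMap.congr_fun h1 ω
  refine ⟨D'.liftKaehlerDifferential.liftBaseChange (B ⧸ 𝔄), ?_⟩
  refine LinearMap.ext fun z => ?_
  induction z using TensorProduct.induction_on with
  | zero => simp
  | tmul r ω =>
    rw [LinearMap.comp_apply, LinearMap.liftBaseChange_tmul, map_smul, key,
      TensorProduct.smul_tmul', smul_eq_mul, mul_one]
    rfl
  | add x y hx hy => rw [map_add, hx, hy, map_add]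

end Groth.Agent.S4544
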