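import Groth.Statements.S4545
import Groth.Agent.Lib.PAdmissible_helper3
import Groth.Agent.S4525
-- import your own Groth.Agent.* helpers here

set_option autoImplicit false
universe u
open EGA41
set_option maxSynthPendingDepth 3

namespace Groth.Agent.S4545

open TensorProduct in
/-- Let K be a field of characteristic p > 0, k₀ a subfield and (k_α) a decreasing filtered family of
subfields of K containing k₀. Then ⋂_α k_α(K^p) = k₀(K^p) if and only if for every extension L of K
such that Υ_{L/K/k₀} has finite rank over L there is an α with k_α admissible for L over K relative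
to k₀, i.e. with Υ_{L/K/k₀} → Υ_{L/K/k_α} injective. (The published statement has two further
equivalent conditions; this row states (a) ⇔ (b).) -/
theorem result (p : ℕ) [Fact p.Prime] {k₀ K : Type u}
    [Field k₀] [Field K] [Algebra k₀ K] [CharP K p]
    {ι : Type u} [Preorder ι] [IsDirected ι (· ≤ ·)] [Nonempty ι] (k : ι → IntermediateField k₀ K) (hk : Antitone k) :
    (⨅ i, k i ⊔ IntermediateField.adjoin k₀ (Set.range fun y : K => y ^ p)) =
        IntermediateField.adjoin k₀ (Set.range fun y : K => y ^ p) ↔
      ∀ (L : Type u) [Field L] [Algebra K L] [Algebra k₀ L] [IsScalarTower k₀ K L],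
        Module.Finite L (EGA41.imperfection k₀ K L) →
          ∃ i, ∀ ω ∈ EGA41.imperfection k₀ K L,
            ((KaehlerDifferential.map k₀ (k i) K K).restrictScalars K).baseChange L ω = 0 → ω = 0 := by
  classical
  have hdir : ∀ a b, ∃ c, k c ≤ k a ⊓ k b := by
    intro a b
    obtain ⟨c, hac, hbc⟩ := directed_of (· ≤ ·) a b
    exact ⟨c, le_inf (hk hac) (hk hbc)⟩
  constructor
  · intro hint L _ _ _ _ hfin
    obtain ⟨B, hB⟩ := Groth.Agent.Lib.SepSmoothH3.exists_pBasis_field p k₀ K
    obtain ⟨b, hb⟩ := Groth.Agent.Lib.PBasisH3.exists_basis_D p (Subtype.val : B → K) hB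
    obtain ⟨J, hJ⟩ := Groth.Agent.Lib.PBasisH3.exists_finset_support (b.baseChange L)
      (EGA41.imperfection k₀ K L) (Module.Finite.iff_fg.1 hfin)
    have hxJ : EGA41.IsPIndependent p k₀ ((Subtype.val : B → K) ∘ (Subtype.val : J → B)) :=
      Groth.Agent.Lib.PBasisH3.isPIndependent_comp p (Subtype.val : B → K) hB.1
        (Subtype.val : J → B) Subtype.val_injective
    obtain ⟨i, hi⟩ := Groth.Agent.Lib.PBasisH3.exists_isPIndependent_of_iInf p k hdir hint
      ((Subtype.val : B → K) ∘ (Subtype.val : J → B)) hxJ
    refine ⟨i, fun ω hω h0 => ?_⟩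
    exact Groth.Agent.Lib.PBasisH3.eq_zero_of_support_subset p B b hb (k i) J hi ω (hJ ω hω) h0
  · intro hb
    apply le_antisymm
    · intro y hy
      by_contra hyP
      have hne := Groth.Agent.Lib.PBasisH3.D_ne_zero_of_notMem p (k₀ := k₀) y hyP
      -- the extension `K(y^{1/p})`
      obtain ⟨z, hz⟩ := IsAlgClosed.exists_pow_nat_eq (algebraMap K (AlgebraicClosure K) y)
        (Fact.out : p.Prime).pos
      let L : IntermediateField K (AlgebraicClosure K) := IntermediateField.adjoin K {z}
      have hzint : IsIntegral K z := Algebra.IsIntegral.isIntegral z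
      haveI : FiniteDimensional K L := IntermediateField.adjoin.finiteDimensional hzint
      haveI : CharP L p := charP_of_injective_algebraMap (algebraMap K L).injective p
      haveI hfin : Module.Finite L (EGA41.imperfection k₀ K L) :=
        (Groth.Agent.S4525.result (k := k₀) (K := K) (L := L)).2.1
      obtain ⟨i, hi⟩ := hb L hfin
      -- the element `1 ⊗ dy`
      have hzL : z ∈ L := IntermediateField.subset_adjoin K {z} rfl
      have hyL : algebraMap K L y = (⟨z, hzL⟩ : L) ^ p := by
        apply Subtype.ext
        show algebraMap K (AlgebraicClosure K) y = z ^ p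
        exact hz.symm
      have hmem : (1 : L) ⊗ₜ[K] KaehlerDifferential.D k₀ K y ∈ EGA41.imperfection k₀ K L := by
        show KaehlerDifferential.mapBaseChange k₀ K L
          ((1 : L) ⊗ₜ[K] KaehlerDifferential.D k₀ K y) = 0
        rw [KaehlerDifferential.mapBaseChange_tmul, one_smul, KaehlerDifferential.map_D, hyL,
          Derivation.leibniz_pow, ← Nat.cast_smul_eq_nsmul L, CharP.cast_eq_zero, zero_smul]
      have hyi : y ∈ k i ⊔ IntermediateField.adjoin k₀ (Set.range fun z : K => z ^ p) := by
        have := (SetLike.mem_coe.2 hy)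
        rw [IntermediateField.coe_iInf, Set.mem_iInter] at this
        exact this i
      have h0 : ((KaehlerDifferential.map k₀ (k i) K K).restrictScalars K).baseChange L
          ((1 : L) ⊗ₜ[K] KaehlerDifferential.D k₀ K y) = 0 := by
        rw [LinearMap.baseChange_tmul, LinearMap.restrictScalars_apply,
          KaehlerDifferential.map_D]
        have : KaehlerDifferential.D (k i) K ((algebraMap K K) y) = 0 :=
          Groth.Agent.Lib.PBasisH3.D_eq_zero_of_mem_sup p (k i) y hyi
        rw [this, TensorProduct.tmul_zero]
      have h1 := hi _ hmem h0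
      apply hne
      have hinj := Module.Flat.tensorProduct_mk_injective (R := K) (S := L) (M := Ω[K⁄k₀])
      apply hinj
      rw [map_zero]
      exact h1
    · exact le_iInf fun i => le_sup_right

end Groth.Agent.S4545
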