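import Groth.Statements.S4547
import Groth.Agent.Lib.LeftInv_helper1

set_option autoImplicit false
universe u
open EGA41

namespace Groth.Agent.S4547

open IsLocalRing TensorProduct in
/-- Let A be a local ring with residue field k, M an A-module of finite type, N a projective A-module
and u : M → N a homomorphism. Then u is left invertible if and only if there is a finite system of
generators (x_i) of M such that the elements 1 ⊗ u(x_i) of k ⊗_A N are linearly independent over k;
and such a system (x_i) is then a basis of M. -/
theorem result {A : Type u} [CommRing A] [IsLocalRing A] {M N : Type u}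
    [AddCommGroup M] [Module A M] [Module.Finite A M] [AddCommGroup N] [Module A N] [Module.Projective A N]
    (u : M →ₗ[A] N) :
    ((∃ w : N →ₗ[A] M, w ∘ₗ u = LinearMap.id) ↔
      ∃ (m : ℕ) (x : Fin m → M), Submodule.span A (Set.range x) = ⊤ ∧
        LinearIndependent (ResidueField A) (fun i => (1 : ResidueField A) ⊗ₜ[A] u (x i))) ∧
    ∀ (m : ℕ) (x : Fin m → M), Submodule.span A (Set.range x) = ⊤ →
      LinearIndependent (ResidueField A) (fun i => (1 : ResidueField A) ⊗ₜ[A] u (x i)) →
        ∃ b : Module.Basis (Fin m) A M, ∀ i, b i = x i := by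
  classical
  have key : ∀ (m : ℕ) (x : Fin m → M), Submodule.span A (Set.range x) = ⊤ →
      LinearIndependent (ResidueField A) (fun i => (1 : ResidueField A) ⊗ₜ[A] u (x i)) →
      Function.Injective (u.lTensor (ResidueField A)) := by
    intro m x hspan hli
    rw [← LinearMap.ker_eq_bot, LinearMap.ker_eq_bot']
    intro z hz
    obtain ⟨y, rfl⟩ :=
      TensorProduct.mk_surjective A M (ResidueField A) IsLocalRing.residue_surjective z
    have hy : y ∈ Submodule.span A (Set.range x) := by rw [hspan]; trivial
    obtain ⟨a, rfl⟩ := (Submodule.mem_span_range_iff_exists_fun A).mp hy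
    have h0 : ∑ i, (algebraMap A (ResidueField A) (a i)) •
        ((1 : ResidueField A) ⊗ₜ[A] u (x i)) = 0 := by
      rw [← hz]
      simp only [TensorProduct.mk_apply, LinearMap.lTensor_tmul, map_sum, map_smul,
        TensorProduct.tmul_sum, TensorProduct.tmul_smul, algebraMap_smul]
    have ha := Fintype.linearIndependent_iff.mp hli _ h0
    simp only [TensorProduct.mk_apply, TensorProduct.tmul_sum, TensorProduct.tmul_smul]
    apply Finset.sum_eq_zero
    intro i _
    rw [← algebraMap_smul (ResidueField A) (a i), ha i, zero_smul]
  refine ⟨⟨?_, ?_⟩, ?_⟩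
  · rintro ⟨w, hw⟩
    have hinj : Function.Injective (u.lTensor (ResidueField A)) :=
      (Groth.Agent.Lib.LeftInvH1.exists_leftInverse_iff_lTensor_injective u).mp ⟨w, hw⟩
    let b := Module.finBasis (ResidueField A) (ResidueField A ⊗[A] M)
    have hsurj := TensorProduct.mk_surjective A M (ResidueField A) IsLocalRing.residue_surjective
    choose x hx using fun i => hsurj (b i)
    refine ⟨_, x, IsLocalRing.span_eq_top_of_tmul_eq_basis x b hx, ?_⟩
    have hli := b.linearIndependent.map' (u.baseChange (ResidueField A))
      (LinearMap.ker_eq_bot.mpr (by rw [LinearMap.baseChange_eq_ltensor]; exact hinj))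
    have hfun : (fun i => (1 : ResidueField A) ⊗ₜ[A] u (x i)) =
        (u.baseChange (ResidueField A)) ∘ b := by
      funext i
      rw [Function.comp_apply, ← hx i]
      simp
    rw [hfun]
    exact hli
  · rintro ⟨m, x, hspan, hli⟩
    exact (Groth.Agent.Lib.LeftInvH1.exists_leftInverse_iff_lTensor_injective u).mpr
      (key m x hspan hli)
  · intro m x hspan hli
    obtain ⟨w, hw⟩ := (Groth.Agent.Lib.LeftInvH1.exists_leftInverse_iff_lTensor_injective u).mpr
      (key m x hspan hli)
    have : Module.Projective A M := Module.Projective.of_split u w hw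
    have hli' : LinearIndependent (ResidueField A)
        (TensorProduct.mk A (ResidueField A) M 1 ∘ x) := by
      have hfun : (u.baseChange (ResidueField A)) ∘
          (TensorProduct.mk A (ResidueField A) M 1 ∘ x) =
          (fun i => (1 : ResidueField A) ⊗ₜ[A] u (x i)) := by
        funext i
        simp
      apply LinearIndependent.of_comp (u.baseChange (ResidueField A))
      rw [hfun]
      exact hli
    have hlin : LinearIndependent A x := Module.IsLocalRing.linearIndependent_of_flat x hli'
    exact ⟨Module.Basis.mk hlin (by rw [hspan]), fun i => Module.Basis.mk_apply _ _ i⟩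

end Groth.Agent.S4547
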