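import Groth.Statements.S4552
import Mathlib

set_option autoImplicit false
universe u
open EGA41

namespace Groth.Agent.S4552

/-- For the 𝔞-adic topology on A and the deduced topology on M: the topological A-module M is formally
projective (for every open ideal 𝔞ⁿ, every pair of (A/𝔞ⁿ)-modules P, Q, every surjection P → Q and
every continuous A-linear map M → Q — here automatically continuous — there is a continuous A-linear
lift M → P) if and only if it is strictly formally projective, i.e. M/𝔞ⁿM is a projective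
(A/𝔞ⁿ)-module for every n. -/
theorem result {A : Type u} [CommRing A] (𝔞 : Ideal A) (M : Type u)
    [AddCommGroup M] [Module A M] :
    (∀ (n : ℕ) (P Q : Type u) [AddCommGroup P] [Module A P] [AddCommGroup Q] [Module A Q],
      (∀ a ∈ 𝔞 ^ n, ∀ y : P, a • y = 0) → (∀ a ∈ 𝔞 ^ n, ∀ y : Q, a • y = 0) →
      ∀ f : P →ₗ[A] Q, Function.Surjective f → ∀ v : M →ₗ[A] Q, ∃ w : M →ₗ[A] P, f ∘ₗ w = v) ↔
    ∀ n : ℕ, Module.Projective (A ⧸ 𝔞 ^ n) (M ⧸ (𝔞 ^ n • ⊤ : Submodule A M)) := by
  constructor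
  · intro H n
    refine Module.Projective.of_lifting_property'' fun f hf => ?_
    have hP : ∀ a ∈ 𝔞 ^ n, ∀ y : (M ⧸ (𝔞 ^ n • ⊤ : Submodule A M)) →₀ (A ⧸ 𝔞 ^ n),
        a • y = 0 := by
      intro a ha y
      rw [← algebraMap_smul (A ⧸ 𝔞 ^ n) a y, Ideal.Quotient.algebraMap_eq,
        Ideal.Quotient.eq_zero_iff_mem.mpr ha, zero_smul]
    have hQ : ∀ a ∈ 𝔞 ^ n, ∀ y : M ⧸ (𝔞 ^ n • ⊤ : Submodule A M), a • y = 0 := by
      intro a ha y
      obtain ⟨m, rfl⟩ := Submodule.Quotient.mk_surjective _ y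
      rw [← Submodule.Quotient.mk_smul, Submodule.Quotient.mk_eq_zero]
      exact Submodule.smul_mem_smul ha Submodule.mem_top
    obtain ⟨w, hw⟩ := H n _ _ hP hQ (f.restrictScalars A) hf (𝔞 ^ n • ⊤ : Submodule A M).mkQ
    have hker : (𝔞 ^ n • ⊤ : Submodule A M) ≤ LinearMap.ker w := by
      rw [Submodule.smul_le]
      intro a ha m _
      rw [LinearMap.mem_ker, map_smul]
      exact hP a ha (w m)
    refine ⟨((𝔞 ^ n • ⊤ : Submodule A M).liftQ w hker).extendScalarsOfSurjective
      Ideal.Quotient.mk_surjective, ?_⟩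
    refine LinearMap.ext fun y => ?_
    obtain ⟨m, rfl⟩ := Submodule.Quotient.mk_surjective _ y
    have := LinearMap.congr_fun hw m
    simpa using this
  · intro H n P Q _ _ _ _ hP hQ f hf v
    have hP' : Module.IsTorsionBySet A P (𝔞 ^ n : Ideal A) := fun x a => hP a a.2 x
    have hQ' : Module.IsTorsionBySet A Q (𝔞 ^ n : Ideal A) := fun x a => hQ a a.2 x
    let _ : Module (A ⧸ 𝔞 ^ n) P := hP'.module
    let _ : Module (A ⧸ 𝔞 ^ n) Q := hQ'.module
    have : IsScalarTower A (A ⧸ 𝔞 ^ n) P := hP'.isScalarTower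
    have : IsScalarTower A (A ⧸ 𝔞 ^ n) Q := hQ'.isScalarTower
    have := H n
    have hker : (𝔞 ^ n • ⊤ : Submodule A M) ≤ LinearMap.ker v := by
      rw [Submodule.smul_le]
      intro a ha m _
      rw [LinearMap.mem_ker, map_smul]
      exact hQ a ha (v m)
    have hsurj : Function.Surjective (algebraMap A (A ⧸ 𝔞 ^ n)) := Ideal.Quotient.mk_surjective
    obtain ⟨h, hh⟩ := Module.projective_lifting_property (f.extendScalarsOfSurjective hsurj)
      (((𝔞 ^ n • ⊤ : Submodule A M).liftQ v hker).extendScalarsOfSurjective hsurj) hf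
    refine ⟨h.restrictScalars A ∘ₗ (𝔞 ^ n • ⊤ : Submodule A M).mkQ, ?_⟩
    ext m
    have := LinearMap.congr_fun hh (Submodule.Quotient.mk m)
    simpa using this

end Groth.Agent.S4552
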