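import Groth.Statements.S4556
import Mathlib.RingTheory.Smooth.Basic
import Mathlib.RingTheory.LocalRing.Pullback

set_option autoImplicit false
universe u
open EGA41

namespace Groth.Agent.S4556

/-- Let B be a formally smooth A-algebra, E and E' two A-algebras, R (resp. R') a nilpotent ideal of E
(resp. E'), f : E → E' a surjective A-algebra homomorphism with f(R) = R', and f' : E/R → E'/R' the
induced homomorphism. Let u : B → E/R be an A-algebra homomorphism and v' : B → E' an A-algebra
homomorphism through which f' ∘ u factors (v' followed by E' → E'/R' equals f' ∘ u). Then there is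
an A-algebra homomorphism v : B → E with f ∘ v = v'. (The published statement assumes only f(R) ⊆
R'; in that form it fails for B = ℚ[x, x⁻¹], E = ℚ[t], E' = ℚ[t]/(t²), R = 0, R' = (t), u : x ↦ 1
and v' : x ↦ 1 + t, since any v sends x to a unit of ℚ[t], a constant; the argument identifies R'
with the image of R, and that equality is assumed here.) -/
theorem result {A B E E' : Type u} [CommRing A] [CommRing B] [Algebra A B]
    [Algebra.FormallySmooth A B] [CommRing E] [CommRing E'] [Algebra A E] [Algebra A E']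
    (R : Ideal E) (R' : Ideal E') (hR : IsNilpotent R) (hR' : IsNilpotent R')
    (f : E →ₐ[A] E') (hf : Function.Surjective f) (hfR : R.map f.toRingHom = R')
    (u : B →ₐ[A] E ⧸ R) (v' : B →ₐ[A] E')
    (huv : (Ideal.Quotient.mkₐ A R').comp v' =
      (Ideal.quotientMapₐ R' f (fun x hx => hfR.le (Ideal.mem_map_of_mem f.toRingHom hx))).comp u) :
    ∃ v : B →ₐ[A] E, f.comp v = v' := by
  have hle : R ≤ R'.comap f := fun x hx => hfR.le (Ideal.mem_map_of_mem f.toRingHom hx)
  set f' : (E ⧸ R) →ₐ[A] (E' ⧸ R') := Ideal.quotientMapₐ R' f hle with hf'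
  have hf'mk : ∀ e : E, f' (Ideal.Quotient.mk R e) = Ideal.Quotient.mk R' (f e) := fun e => rfl
  let P := AlgHom.pullback f' (Ideal.Quotient.mkₐ A R')
  have hmem : ∀ x : (E ⧸ R) × E', x ∈ P ↔ f' x.1 = Ideal.Quotient.mk R' x.2 := fun x => Iff.rfl
  let π : E →ₐ[A] P := AlgHom.codRestrict ((Ideal.Quotient.mkₐ A R).prod f) P (fun e => by
    rw [hmem]
    rfl)
  let w : B →ₐ[A] P := AlgHom.codRestrict (u.prod v') P (fun b => by
    rw [hmem]
    exact (AlgHom.congr_fun huv b).symm)
  have hπs : Function.Surjective π := by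
    rintro ⟨⟨ebar, e'⟩, hp⟩
    rw [hmem] at hp
    obtain ⟨e, rfl⟩ := Ideal.Quotient.mk_surjective ebar
    have h1 : Ideal.Quotient.mk R' (f e) = Ideal.Quotient.mk R' e' := hp
    rw [Ideal.Quotient.eq, ← hfR] at h1
    obtain ⟨r, hr, hfr⟩ := (Ideal.mem_map_iff_of_surjective f.toRingHom hf).1 h1
    refine ⟨e - r, ?_⟩
    apply Subtype.ext
    apply Prod.ext
    · show Ideal.Quotient.mk R (e - r) = Ideal.Quotient.mk R e
      rw [Ideal.Quotient.eq]
      have : e - r - e = -r := by ring
      rw [this]
      exact R.neg_mem hr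
    · show f (e - r) = e'
      have h2 : f r = f e - e' := hfr
      rw [map_sub, h2]
      ring
  have hπk : IsNilpotent (RingHom.ker (π : E →+* P)) := by
    obtain ⟨n, hn⟩ := hR
    refine ⟨n, ?_⟩
    rw [Ideal.zero_eq_bot] at hn ⊢
    rw [← le_bot_iff, ← hn]
    apply Ideal.pow_right_mono
    intro x hx
    rw [RingHom.mem_ker] at hx
    have h1 : (π x : (E ⧸ R) × E').1 = 0 := by
      have := congrArg (fun p : P => (p : (E ⧸ R) × E').1) hx
      exact this
    exact Ideal.Quotient.eq_zero_iff_mem.1 h1
  refine ⟨Algebra.FormallySmooth.liftOfSurjective w π hπs hπk, ?_⟩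
  apply AlgHom.ext
  intro b
  have h1 := Algebra.FormallySmooth.liftOfSurjective_apply w π hπs hπk b
  exact congrArg (fun p : P => (p : (E ⧸ R) × E').2) h1

end Groth.Agent.S4556
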