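import Groth.Statements.S4559
import Mathlib

set_option autoImplicit false
universe u
open EGA41

namespace Groth.Agent.S4559

theorem pow_smul_top_eq_top {R M : Type*} [CommRing R] [AddCommGroup M] [Module R M]
    (I : Ideal R) (h : I • (⊤ : Submodule R M) = ⊤) (k : ℕ) :
    (I ^ k) • (⊤ : Submodule R M) = ⊤ := by
  induction k with
  | zero => rw [pow_zero, Ideal.one_eq_top, Submodule.top_smul]
  | succ k ih => rw [pow_succ, Submodule.mul_smul, h, ih]

theorem subsingleton_adicCompletion_iff {R M : Type*} [CommRing R] [AddCommGroup M] [Module R M]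
    (I : Ideal R) :
    Subsingleton (AdicCompletion I M) ↔ I • (⊤ : Submodule R M) = ⊤ := by
  constructor
  · intro h
    have hs := AdicCompletion.eval_surjective I M 1
    have h1 : Subsingleton (M ⧸ (I ^ 1 • ⊤ : Submodule R M)) := hs.subsingleton
    rw [Submodule.Quotient.subsingleton_iff, pow_one] at h1
    exact h1
  · intro h
    refine ⟨fun x y => AdicCompletion.ext fun n => ?_⟩
    have h1 : Subsingleton (M ⧸ (I ^ n • ⊤ : Submodule R M)) := by
      rw [Submodule.Quotient.subsingleton_iff]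
      exact pow_smul_top_eq_top I h n
    exact Subsingleton.elim _ _

theorem smul_top_eq_top_of_unique {A B : Type u} [CommRing A] [CommRing B] [Algebra A B]
    (𝔞 : Ideal A) (𝔟 : Ideal B) (hAB : ∃ k : ℕ, (𝔞 ^ k).map (algebraMap A B) ≤ 𝔟)
    (H : ∀ (E : Type u) [CommRing E] [Algebra A E],
      (∃ k : ℕ, (𝔞 ^ k).map (algebraMap A E) = ⊥) →
      ∀ J : Ideal E, IsNilpotent J → ∀ v₁ v₂ : B →ₐ[A] E,
        (∃ m : ℕ, ∀ x ∈ 𝔟 ^ m, v₁ x = 0) → (∃ m : ℕ, ∀ x ∈ 𝔟 ^ m, v₂ x = 0) →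
        (∀ b : B, Ideal.Quotient.mk J (v₁ b) = Ideal.Quotient.mk J (v₂ b)) → v₁ = v₂) :
    𝔟 • (⊤ : Submodule B Ω[B⁄A]) = ⊤ := by
  classical
  let iΩ : Module Bᵐᵒᵖ Ω[B⁄A] :=
    Module.compHom Ω[B⁄A] ((RingHom.id B).fromOpposite fun _ _ => Commute.all _ _)
  have cΩ : IsCentralScalar B Ω[B⁄A] := ⟨fun r m => rfl⟩
  let K : Ideal (TrivSqZeroExt B Ω[B⁄A]) :=
    { carrier := {t | t.fst ∈ 𝔟 ∧ t.snd ∈ 𝔟 • (⊤ : Submodule B Ω[B⁄A])}
      add_mem' := fun {a b} ha hb =>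
        ⟨by simpa using 𝔟.add_mem ha.1 hb.1, by simpa using Submodule.add_mem _ ha.2 hb.2⟩
      zero_mem' := ⟨by simp, by simp⟩
      smul_mem' := fun c x hx => by
        refine ⟨?_, ?_⟩
        · show (c * x).fst ∈ 𝔟
          rw [TrivSqZeroExt.fst_mul]
          exact 𝔟.mul_mem_left _ hx.1
        · show (c * x).snd ∈ 𝔟 • (⊤ : Submodule B Ω[B⁄A])
          rw [TrivSqZeroExt.snd_mul, op_smul_eq_smul]
          exact Submodule.add_mem _ (Submodule.smul_mem _ _ hx.2)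
            (Submodule.smul_mem_smul hx.1 Submodule.mem_top) }
  have hK : ∀ t : TrivSqZeroExt B Ω[B⁄A],
      t ∈ K ↔ t.fst ∈ 𝔟 ∧ t.snd ∈ 𝔟 • (⊤ : Submodule B Ω[B⁄A]) := fun t => Iff.rfl
  let u₀ : B →ₐ[A] TrivSqZeroExt B Ω[B⁄A] := TrivSqZeroExt.inlAlgHom A B Ω[B⁄A]
  let u₁ : B →ₐ[A] TrivSqZeroExt B Ω[B⁄A] :=
    { toFun := fun b => TrivSqZeroExt.inl b + TrivSqZeroExt.inr (KaehlerDifferential.D A B b)
      map_one' := by ext <;> simp
      map_mul' := fun a b => by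
        ext
        · simp
        · simp [add_comm]
      map_zero' := by ext <;> simp
      map_add' := fun a b => by ext <;> simp [add_add_add_comm]
      commutes' := fun a => by
        ext
        · simp [TrivSqZeroExt.algebraMap_eq_inl']
        · simp [TrivSqZeroExt.algebraMap_eq_inl'] }
  have hu₀ : ∀ b, u₀ b = TrivSqZeroExt.inl b := fun b => rfl
  have hu₁ : ∀ b, u₁ b =
      TrivSqZeroExt.inl b + TrivSqZeroExt.inr (KaehlerDifferential.D A B b) := fun b => rfl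
  have hdisc : ∃ k : ℕ,
      (𝔞 ^ k).map (algebraMap A (TrivSqZeroExt B Ω[B⁄A] ⧸ K)) = ⊥ := by
    obtain ⟨k, hk⟩ := hAB
    refine ⟨k, ?_⟩
    rw [Ideal.map_eq_bot_iff_le_ker]
    intro a ha
    rw [RingHom.mem_ker]
    show Ideal.Quotient.mk K (algebraMap A (TrivSqZeroExt B Ω[B⁄A]) a) = 0
    rw [Ideal.Quotient.eq_zero_iff_mem, hK, TrivSqZeroExt.algebraMap_eq_inl']
    refine ⟨?_, ?_⟩
    · rw [TrivSqZeroExt.fst_inl]
      exact hk (Ideal.mem_map_of_mem _ ha)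
    · rw [TrivSqZeroExt.snd_inl]
      exact Submodule.zero_mem _
  have hJ : IsNilpotent ((TrivSqZeroExt.kerIdeal B Ω[B⁄A]).map (Ideal.Quotient.mk K)) := by
    refine ⟨2, ?_⟩
    rw [← Ideal.map_pow, TrivSqZeroExt.kerIdeal_sq, Ideal.map_bot]
    rfl
  have h0 : ∃ m : ℕ, ∀ x ∈ 𝔟 ^ m, ((Ideal.Quotient.mkₐ A K).comp u₀) x = 0 := by
    refine ⟨1, fun x hx => ?_⟩
    rw [pow_one] at hx
    show Ideal.Quotient.mk K (u₀ x) = 0
    rw [Ideal.Quotient.eq_zero_iff_mem, hK, hu₀, TrivSqZeroExt.fst_inl, TrivSqZeroExt.snd_inl]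
    exact ⟨hx, Submodule.zero_mem _⟩
  have h1 : ∃ m : ℕ, ∀ x ∈ 𝔟 ^ m, ((Ideal.Quotient.mkₐ A K).comp u₁) x = 0 := by
    refine ⟨2, fun x hx => ?_⟩
    show Ideal.Quotient.mk K (u₁ x) = 0
    rw [Ideal.Quotient.eq_zero_iff_mem]
    have hle : 𝔟 ^ 2 ≤ K.comap u₁.toRingHom := by
      rw [pow_two, Ideal.mul_le]
      intro a ha a' ha'
      rw [Ideal.mem_comap]
      show u₁ (a * a') ∈ K
      rw [hK, hu₁]
      refine ⟨?_, ?_⟩
      · simp only [TrivSqZeroExt.fst_add, TrivSqZeroExt.fst_inl, TrivSqZeroExt.fst_inr, add_zero]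
        exact 𝔟.mul_mem_left _ ha'
      · simp only [TrivSqZeroExt.snd_add, TrivSqZeroExt.snd_inl, TrivSqZeroExt.snd_inr, zero_add,
          Derivation.leibniz]
        exact Submodule.add_mem _ (Submodule.smul_mem_smul ha Submodule.mem_top)
          (Submodule.smul_mem_smul ha' Submodule.mem_top)
    exact hle hx
  have hagree : ∀ b : B,
      Ideal.Quotient.mk ((TrivSqZeroExt.kerIdeal B Ω[B⁄A]).map (Ideal.Quotient.mk K))
        (((Ideal.Quotient.mkₐ A K).comp u₀) b) =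
      Ideal.Quotient.mk ((TrivSqZeroExt.kerIdeal B Ω[B⁄A]).map (Ideal.Quotient.mk K))
        (((Ideal.Quotient.mkₐ A K).comp u₁) b) := by
    intro b
    rw [Ideal.Quotient.eq]
    show Ideal.Quotient.mk K (u₀ b) - Ideal.Quotient.mk K (u₁ b) ∈ _
    rw [← map_sub]
    apply Ideal.mem_map_of_mem
    rw [TrivSqZeroExt.kerIdeal, RingHom.mem_ker, hu₀, hu₁]
    simp
  have heq := H (TrivSqZeroExt B Ω[B⁄A] ⧸ K) hdisc _ hJ _ _ h0 h1 hagree
  have hD : ∀ b : B, KaehlerDifferential.D A B b ∈ 𝔟 • (⊤ : Submodule B Ω[B⁄A]) := by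
    intro b
    have h2 : Ideal.Quotient.mk K (u₀ b) = Ideal.Quotient.mk K (u₁ b) :=
      DFunLike.congr_fun heq b
    rw [Ideal.Quotient.eq, hK, hu₀, hu₁] at h2
    have h3 := h2.2
    simp only [TrivSqZeroExt.snd_sub, TrivSqZeroExt.snd_add, TrivSqZeroExt.snd_inl,
      TrivSqZeroExt.snd_inr, zero_add, zero_sub] at h3
    exact neg_mem_iff.mp h3
  rw [eq_top_iff]
  have hle : Submodule.span B (Set.range (KaehlerDifferential.D A B)) ≤
      𝔟 • (⊤ : Submodule B Ω[B⁄A]) := by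
    rw [Submodule.span_le]
    rintro _ ⟨b, rfl⟩
    exact hD b
  rwa [KaehlerDifferential.span_range_derivation] at hle


/-- Let A be 𝔞-adic and B a topological A-algebra for the 𝔟-adic topology (a power of 𝔞 maps into 𝔟).
Then B is a formally unramified A-algebra (for every homomorphism E → C of discrete A-algebras with
nilpotent kernel and every continuous u : B → C there is at most one continuous lift B → E; here E
discrete means killed by a power of 𝔞, and one may take C = E/J) if and only if the separated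
completion of Ω_{B/A}, i.e. its 𝔟-adic completion, is zero. -/
theorem result {A B : Type u} [CommRing A] [CommRing B] [Algebra A B]
    (𝔞 : Ideal A) (𝔟 : Ideal B) (hAB : ∃ k : ℕ, (𝔞 ^ k).map (algebraMap A B) ≤ 𝔟) :
    (∀ (E : Type u) [CommRing E] [Algebra A E], (∃ k : ℕ, (𝔞 ^ k).map (algebraMap A E) = ⊥) →
      ∀ J : Ideal E, IsNilpotent J → ∀ v₁ v₂ : B →ₐ[A] E,
        (∃ m : ℕ, ∀ x ∈ 𝔟 ^ m, v₁ x = 0) → (∃ m : ℕ, ∀ x ∈ 𝔟 ^ m, v₂ x = 0) →
        (∀ b : B, Ideal.Quotient.mk J (v₁ b) = Ideal.Quotient.mk J (v₂ b)) → v₁ = v₂) ↔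
    Subsingleton (AdicCompletion 𝔟 (Ω[B⁄A])) := by
  rw [subsingleton_adicCompletion_iff]
  constructor
  · intro H
    exact smul_top_eq_top_of_unique 𝔞 𝔟 hAB H
  · intro hΩ E _ _ _ J hJ v₁ v₂ hv₁ hv₂ hv
    obtain ⟨m₁, h₁⟩ := hv₁
    obtain ⟨m₂, h₂⟩ := hv₂
    have hm := pow_smul_top_eq_top 𝔟 hΩ (max m₁ m₂)
    have hFU : Algebra.FormallyUnramified A (B ⧸ 𝔟 ^ (max m₁ m₂)) := by
      constructor
      have hs := KaehlerDifferential.mapBaseChange_surjective A B (B ⧸ 𝔟 ^ (max m₁ m₂))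
        Ideal.Quotient.mk_surjective
      have h3 : Subsingleton (TensorProduct B (B ⧸ 𝔟 ^ (max m₁ m₂)) Ω[B⁄A]) := by
        rw [(TensorProduct.quotTensorEquivQuotSMul Ω[B⁄A]
          (𝔟 ^ (max m₁ m₂))).toEquiv.subsingleton_congr, Submodule.Quotient.subsingleton_iff]
        exact hm
      exact hs.subsingleton
    have hw : Ideal.Quotient.liftₐ (𝔟 ^ (max m₁ m₂)) v₁
          (fun b hb => h₁ b (Ideal.pow_le_pow_right (le_max_left _ _) hb)) =
        Ideal.Quotient.liftₐ (𝔟 ^ (max m₁ m₂)) v₂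
          (fun b hb => h₂ b (Ideal.pow_le_pow_right (le_max_right _ _) hb)) := by
      refine Algebra.FormallyUnramified.ext J hJ (fun x => ?_)
      obtain ⟨b, rfl⟩ := Ideal.Quotient.mk_surjective x
      exact hv b
    ext b
    exact DFunLike.congr_fun hw (Ideal.Quotient.mk _ b)

end Groth.Agent.S4559
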