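import Groth.Statements.S4560
import Mathlib

set_option autoImplicit false
universe u
open EGA41

namespace Groth.Agent.S4560

open TensorProduct in
theorem tensor_D_eq_zero {A B : Type u} [CommRing A] [CommRing B] [Algebra A B] (𝔫 : Ideal A)
    (x : B) (hx : x ∈ 𝔫.map (algebraMap A B)) :
    (1 : B ⧸ 𝔫.map (algebraMap A B)) ⊗ₜ[B] KaehlerDifferential.D A B x = 0 := by
  unfold Ideal.map at hx
  induction hx using Submodule.span_induction with
  | mem x hx =>
    obtain ⟨a, ha, rfl⟩ := hx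
    rw [Derivation.map_algebraMap, tmul_zero]
  | zero => rw [map_zero, tmul_zero]
  | add x y hx hy ihx ihy => rw [map_add, tmul_add, ihx, ihy, add_zero]
  | smul b x hx ih =>
    rw [smul_eq_mul, Derivation.leibniz, tmul_add, tmul_smul, ih, smul_zero, zero_add,
      ← smul_tmul]
    have h0 : x • (1 : B ⧸ 𝔫.map (algebraMap A B)) = 0 := by
      rw [Algebra.smul_def, mul_one]
      exact Ideal.Quotient.eq_zero_iff_mem.mpr hx
    rw [h0, zero_tmul]

theorem mapBaseChange_bijective {A B : Type u} [CommRing A] [CommRing B] [Algebra A B]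
    (𝔫 : Ideal A) :
    Function.Bijective
      (KaehlerDifferential.mapBaseChange A B (B ⧸ 𝔫.map (algebraMap A B))) := by
  have hsurj : Function.Surjective (algebraMap B (B ⧸ 𝔫.map (algebraMap A B))) :=
    Ideal.Quotient.mk_surjective
  refine ⟨?_, KaehlerDifferential.mapBaseChange_surjective A B _ hsurj⟩
  have hex := KaehlerDifferential.exact_kerCotangentToTensor_mapBaseChange A B
    (B ⧸ 𝔫.map (algebraMap A B)) hsurj
  rw [injective_iff_map_eq_zero]
  intro y hy
  obtain ⟨c, rfl⟩ := (hex y).mp hy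
  obtain ⟨⟨x, hx⟩, rfl⟩ := Ideal.toCotangent_surjective _ c
  rw [KaehlerDifferential.kerCotangentToTensor_toCotangent]
  apply tensor_D_eq_zero 𝔫 x
  rw [RingHom.mem_ker] at hx
  exact Ideal.Quotient.eq_zero_iff_mem.mp hx

theorem subsingleton_kaehler_quotient_iff {A B : Type u} [CommRing A] [CommRing B] [Algebra A B]
    (𝔫 : Ideal A) :
    Subsingleton (Ω[B ⧸ 𝔫.map (algebraMap A B)⁄A]) ↔
      (𝔫.map (algebraMap A B)) • (⊤ : Submodule B Ω[B⁄A]) = ⊤ := by
  have e1 := (Equiv.ofBijective _ (mapBaseChange_bijective (B := B) 𝔫)).subsingleton_congr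
  have e2 := (TensorProduct.quotTensorEquivQuotSMul Ω[B⁄A]
    (𝔫.map (algebraMap A B))).toEquiv.subsingleton_congr
  rw [← e1, e2, Submodule.Quotient.subsingleton_iff]

theorem pow_smul_top_eq_top {R M : Type*} [CommRing R] [AddCommGroup M] [Module R M]
    (I : Ideal R) (h : I • (⊤ : Submodule R M) = ⊤) (k : ℕ) :
    (I ^ k) • (⊤ : Submodule R M) = ⊤ := by
  induction k with
  | zero => rw [pow_zero, Ideal.one_eq_top, Submodule.top_smul]
  | succ k ih => rw [pow_succ, Submodule.mul_smul, h, ih]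


/-- Let A be a ring, 𝔪 an ideal of A, B an A-algebra; give A the 𝔪-adic topology and B the topology
deduced from it (the 𝔪B-adic topology), and put A₀ = A/𝔪, B₀ = B/𝔪B. Then B is a formally unramified
A-algebra (for these topologies: E discrete means killed by a power of 𝔪, and continuity of maps B →
E is then automatic) if and only if Ω_{B₀/A₀} = 0, i.e. B₀ is a formally unramified A₀-algebra. -/
theorem result {A B : Type u} [CommRing A] [CommRing B] [Algebra A B] (𝔪 : Ideal A) :
    (∀ (E : Type u) [CommRing E] [Algebra A E], (∃ k : ℕ, (𝔪 ^ k).map (algebraMap A E) = ⊥) →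
      ∀ J : Ideal E, IsNilpotent J → ∀ v₁ v₂ : B →ₐ[A] E,
        (∀ b : B, Ideal.Quotient.mk J (v₁ b) = Ideal.Quotient.mk J (v₂ b)) → v₁ = v₂) ↔
    Subsingleton (Ω[B ⧸ 𝔪.map (algebraMap A B)⁄A ⧸ 𝔪]) := by
  constructor
  · intro H
    have hA : Algebra.FormallyUnramified A (B ⧸ 𝔪.map (algebraMap A B)) := by
      rw [Algebra.FormallyUnramified.iff_comp_injective]
      intro T _ _ I hI f₁ f₂ e
      have hT : (𝔪 ^ 1).map (algebraMap A T) = ⊥ := by
        rw [pow_one, Ideal.map_eq_bot_iff_le_ker]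
        intro a ha
        rw [RingHom.mem_ker, ← f₁.commutes]
        have h0 : algebraMap A (B ⧸ 𝔪.map (algebraMap A B)) a = 0 := by
          rw [IsScalarTower.algebraMap_apply A B (B ⧸ 𝔪.map (algebraMap A B))]
          exact Ideal.Quotient.eq_zero_iff_mem.mpr (Ideal.mem_map_of_mem _ ha)
        rw [h0, map_zero]
      have h1 := H T ⟨1, hT⟩ I ⟨2, hI⟩
        (f₁.comp (Ideal.Quotient.mkₐ A (𝔪.map (algebraMap A B))))
        (f₂.comp (Ideal.Quotient.mkₐ A (𝔪.map (algebraMap A B))))
        (fun b => DFunLike.congr_fun e (Ideal.Quotient.mk _ b))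
      ext x
      obtain ⟨b, rfl⟩ := Ideal.Quotient.mk_surjective x
      exact DFunLike.congr_fun h1 b
    have hA0 : Algebra.FormallyUnramified (A ⧸ 𝔪) (B ⧸ 𝔪.map (algebraMap A B)) :=
      Algebra.FormallyUnramified.of_restrictScalars A (A ⧸ 𝔪) _
    exact hA0.1
  · intro hΩ E _ _ hk J hJ v₁ v₂ hv
    obtain ⟨k, hk⟩ := hk
    have hA0 : Algebra.FormallyUnramified (A ⧸ 𝔪) (B ⧸ 𝔪.map (algebraMap A B)) := ⟨hΩ⟩
    have hA : Algebra.FormallyUnramified A (B ⧸ 𝔪.map (algebraMap A B)) :=
      Algebra.FormallyUnramified.comp A (A ⧸ 𝔪) _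
    have h1 := (subsingleton_kaehler_quotient_iff 𝔪).mp hA.1
    have h2 := pow_smul_top_eq_top _ h1 k
    rw [← Ideal.map_pow] at h2
    have hk' : Algebra.FormallyUnramified A (B ⧸ (𝔪 ^ k).map (algebraMap A B)) :=
      ⟨(subsingleton_kaehler_quotient_iff (𝔪 ^ k)).mpr h2⟩
    have hker : ∀ (v : B →ₐ[A] E), ∀ b ∈ (𝔪 ^ k).map (algebraMap A B), v b = 0 := by
      intro v
      have : (𝔪 ^ k).map (algebraMap A B) ≤ RingHom.ker v.toRingHom := by
        rw [Ideal.map_le_iff_le_comap]
        intro a ha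
        rw [Ideal.mem_comap, RingHom.mem_ker]
        show v (algebraMap A B a) = 0
        rw [v.commutes]
        have h3 := Ideal.mem_map_of_mem (algebraMap A E) ha
        rwa [hk] at h3
      exact fun b hb => this hb
    have hw : Ideal.Quotient.liftₐ ((𝔪 ^ k).map (algebraMap A B)) v₁ (hker v₁) =
        Ideal.Quotient.liftₐ ((𝔪 ^ k).map (algebraMap A B)) v₂ (hker v₂) := by
      refine Algebra.FormallyUnramified.ext J hJ (fun x => ?_)
      obtain ⟨b, rfl⟩ := Ideal.Quotient.mk_surjective x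
      exact hv b
    ext b
    exact DFunLike.congr_fun hw (Ideal.Quotient.mk _ b)

end Groth.Agent.S4560
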