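import Groth.Statements.S4567
import Mathlib
import Groth.Agent.Lib.GeomUnibranch2_helper6
import Groth.Agent.Lib.UnivHomeo3_helper6
-- import your own Groth.Agent.* helpers here

set_option autoImplicit false
universe u
open AlgebraicGeometry
open CAlg2

namespace Groth.Agent.S4567

/-- Let A be a domain with integral closure A' (in its fraction field) and f : Spec A' → Spec A the
canonical morphism. Then f is radicial (universally injective) if and only if every local ring A_p
is geometrically unibranch; when this holds f is a homeomorphism. -/
theorem result {A : Type u} [CommRing A] [IsDomain A] :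
    (UniversallyInjective (Spec.map (CommRingCat.ofHom (algebraMap A (integralClosure A (FractionRing A))))) ↔
      ∀ (p : Ideal A) [p.IsPrime], CAlg2.IsGeomUnibranch (Localization.AtPrime p)) ∧
    ((∀ (p : Ideal A) [p.IsPrime], CAlg2.IsGeomUnibranch (Localization.AtPrime p)) →
      IsHomeomorph (PrimeSpectrum.comap (algebraMap A (integralClosure A (FractionRing A))))) := by

  have hback : (∀ (p : Ideal A) [p.IsPrime], CAlg2.IsGeomUnibranch (Localization.AtPrime p)) →
      Groth.Agent.Lib.UnivHomeo.PU A (integralClosure A (FractionRing A)) := by
    intro h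
    refine Groth.Agent.Lib.UnivHomeo.PU_integralClosure_of_geomUnibranch (R := FractionRing A)
      (Field.toIsField _) (IsFractionRing.injective A _) 1 (Or.inl rfl) ?_
      (fun 𝔭 _ => ⟨Localization.AtPrime 𝔭, inferInstance, inferInstance, inferInstance,
        inferInstance, h 𝔭⟩)
    intro x
    obtain ⟨⟨a, s⟩, has⟩ := IsLocalization.surj (nonZeroDivisors A) x
    exact ⟨0, a, s, nonZeroDivisors.ne_zero s.2, by simpa using has⟩
  refine ⟨⟨fun hUI p _ => ?_, fun h => ?_⟩, fun h => ?_⟩
  · exact Groth.Agent.Lib.UnivHomeo.isGeomUnibranch_of_PU p
      ((Groth.Agent.Lib.UnivHomeo.universallyInjective_SpecMap_iff _).mp hUI)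
  · exact (Groth.Agent.Lib.UnivHomeo.universallyInjective_SpecMap_iff _).mpr (hback h)
  · have hPU := hback h
    have hinj := Groth.Agent.Lib.UnivHomeo.comap_injective_of_PU hPU
    have hint : (algebraMap A (integralClosure A (FractionRing A))).IsIntegral :=
      algebraMap_isIntegral_iff.mpr inferInstance
    have hclosed := PrimeSpectrum.isClosedMap_comap_of_isIntegral _ hint
    have hsurj : Function.Surjective
        (PrimeSpectrum.comap (algebraMap A (integralClosure A (FractionRing A)))) :=
      hint.comap_surjective (FaithfulSMul.algebraMap_injective _ _)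
    have hcont : Continuous
        (PrimeSpectrum.comap (algebraMap A (integralClosure A (FractionRing A)))) :=
      PrimeSpectrum.continuous_comap _
    exact isHomeomorph_iff_isEmbedding_surjective.mpr
      ⟨(Topology.IsClosedEmbedding.of_continuous_injective_isClosedMap hcont hinj
        hclosed).isEmbedding, hsurj⟩

end Groth.Agent.S4567
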