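import Groth.Statements.S4569
import Mathlib

set_option autoImplicit false
universe u
open CAlg

namespace Groth.Agent.S4569

/-- Let A be a ring, x a non-zero-divisor of A with p = xA prime. For every n > 0 the inverse image in A
of x^n A_p is x^n A. -/
theorem result {A : Type u} [CommRing A] (x : A)
    (hx : x ∈ nonZeroDivisors A) [(Ideal.span ({x} : Set A)).IsPrime] (n : ℕ) (hn : 0 < n) :
    Ideal.comap (algebraMap A (Localization.AtPrime (Ideal.span ({x} : Set A))))
      (Ideal.map (algebraMap A (Localization.AtPrime (Ideal.span ({x} : Set A)))) (Ideal.span ({x ^ n} : Set A))) =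
      Ideal.span ({x ^ n} : Set A) := by
  have key : ∀ (n : ℕ) (a : A),
      (∃ s, s ∉ Ideal.span ({x} : Set A) ∧ ∃ c, s * a = x ^ n * c) → x ^ n ∣ a := by
    intro n
    induction n with
    | zero => intro a _; simp
    | succ n ih =>
      rintro a ⟨s, hs, c, hc⟩
      have hxa : x ∣ a := by
        have h1 : s * a ∈ Ideal.span ({x} : Set A) := by
          rw [hc, Ideal.mem_span_singleton]
          exact Dvd.intro (x ^ n * c) (by ring)
        rcases (inferInstance : (Ideal.span ({x} : Set A)).IsPrime).mem_or_mem h1 with h | h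
        · exact absurd h hs
        · exact Ideal.mem_span_singleton.mp h
      obtain ⟨a', rfl⟩ := hxa
      have h2 : s * a' = x ^ n * c := by
        have h3 : x * (s * a') = x * (x ^ n * c) := by
          calc x * (s * a') = s * (x * a') := by ring
            _ = x ^ (n + 1) * c := hc
            _ = x * (x ^ n * c) := by ring
        exact (mul_cancel_left_mem_nonZeroDivisors hx).mp h3
      obtain ⟨d, hd⟩ := ih a' ⟨s, hs, c, h2⟩
      exact ⟨d, by rw [hd]; ring⟩
  apply le_antisymm
  · intro a ha
    rw [Ideal.mem_comap,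
      IsLocalization.mem_map_algebraMap_iff (Ideal.span ({x} : Set A)).primeCompl] at ha
    obtain ⟨⟨⟨i, hi⟩, s⟩, h⟩ := ha
    simp only at h
    rw [← map_mul, IsLocalization.eq_iff_exists (Ideal.span ({x} : Set A)).primeCompl] at h
    obtain ⟨t, ht⟩ := h
    obtain ⟨c, hc⟩ := Ideal.mem_span_singleton.mp hi
    rw [Ideal.mem_span_singleton]
    apply key n a
    refine ⟨(t : A) * (s : A), (Ideal.span ({x} : Set A)).primeCompl.mul_mem t.2 s.2, t * c, ?_⟩
    calc (t : A) * (s : A) * a = t * (a * s) := by ring
      _ = t * i := ht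
      _ = t * (x ^ n * c) := by rw [hc]
      _ = x ^ n * (t * c) := by ring
  · exact Ideal.le_comap_map

end Groth.Agent.S4569
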