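import Groth.Statements.S4574
import Groth.Agent.Lib.RegLoc_helper3
import Groth.Agent.S4573
-- import your own Groth.Agent.* helpers here

set_option autoImplicit false
universe u
open IsLocalRing
set_option maxSynthPendingDepth 3
open TensorProduct
open EGA41

namespace Groth.Agent.S4574

/-- Let k be a field and A a Noetherian local k-algebra, formally smooth over k for its adic topology.
Then every localization A_p at a prime p is formally smooth over k for the pA_p-adic topology. -/
theorem result {k A : Type u} [Field k] [CommRing A]
    [IsLocalRing A] [IsNoetherianRing A] [Algebra k A] (h : CAlgX.IsAdicFormallySmooth k A (maximalIdeal A))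
    (p : Ideal A) [p.IsPrime] :
    CAlgX.IsAdicFormallySmooth k (Localization.AtPrime p) (maximalIdeal (Localization.AtPrime p)) := by
  classical
  obtain ⟨p', hp'⟩ := ExpChar.exists k
  haveI := hp'
  rw [Groth.Agent.S4573.result p'] at h ⊢
  intro k' _ _ hfin hpow
  haveI := h k' hfin hpow
  letI alg : Algebra (k' ⊗[k] A) (k' ⊗[k] Localization.AtPrime p) :=
    (Algebra.TensorProduct.map (AlgHom.id k k')
      (IsScalarTower.toAlgHom k A (Localization.AtPrime p))).toRingHom.toAlgebra
  have halg : ∀ z, algebraMap (k' ⊗[k] A) (k' ⊗[k] Localization.AtPrime p) z =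
      Algebra.TensorProduct.map (AlgHom.id k k')
        (IsScalarTower.toAlgHom k A (Localization.AtPrime p)) z := fun z => rfl
  haveI : IsScalarTower k' (k' ⊗[k] A) (k' ⊗[k] Localization.AtPrime p) :=
    IsScalarTower.of_algebraMap_eq (fun x => by
      rw [halg, Algebra.TensorProduct.algebraMap_apply, Algebra.TensorProduct.algebraMap_apply,
        Algebra.TensorProduct.map_tmul, map_one]
      rfl)
  haveI hloc := IsLocalization.tensorProduct_tensorProduct_right k k' p.primeCompl
    (Localization.AtPrime p) (by
      ext a
      show algebraMap (k' ⊗[k] A) (k' ⊗[k] Localization.AtPrime p) ((1 : k') ⊗ₜ[k] a) =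
        (1 : k') ⊗ₜ[k] algebraMap A (Localization.AtPrime p) a
      rw [halg, Algebra.TensorProduct.map_tmul, map_one]
      rfl)
  exact Groth.Agent.Lib.RegLocH3.isRegularRing_of_isLocalization
    (p.primeCompl.map (Algebra.TensorProduct.includeRight (R := k) (A := k')))
    (k' ⊗[k] Localization.AtPrime p)

end Groth.Agent.S4574
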