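import Groth.Statements.S4576
import Mathlib
import Groth.Agent.S4530

set_option autoImplicit false
universe u
open EGA41

namespace Groth.Agent.S4576

theorem localizedMap_injective_iff {R M N : Type*} [CommRing R] [AddCommGroup M] [Module R M]
    [AddCommGroup N] [Module R N] (S : Submonoid R) (u : M →ₗ[R] N) :
    Function.Injective (LocalizedModule.map S u) ↔
      ∀ m ∈ LinearMap.ker u, ∃ r ∈ S, r • m = 0 := by
  constructor
  · intro h m hm
    have h1 : LocalizedModule.map S u (LocalizedModule.mk m 1) = LocalizedModule.map S u 0 := by
      rw [LocalizedModule.map_mk, map_zero, LinearMap.mem_ker.mp hm, LocalizedModule.zero_mk]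
    have h2 := h h1
    rw [← LocalizedModule.zero_mk (1 : S), LocalizedModule.mk_eq] at h2
    obtain ⟨t, ht⟩ := h2
    refine ⟨t, t.2, ?_⟩
    simpa [Submonoid.smul_def] using ht
  · intro h
    rw [injective_iff_map_eq_zero]
    intro x hx
    induction x using LocalizedModule.induction_on with
    | h m s =>
      rw [LocalizedModule.map_mk, ← LocalizedModule.zero_mk (1 : S), LocalizedModule.mk_eq] at hx
      obtain ⟨t, ht⟩ := hx
      have ht' : (t : R) • u m = 0 := by simpa [Submonoid.smul_def] using ht
      have hmem : (t : R) • m ∈ LinearMap.ker u := by
        rw [LinearMap.mem_ker, map_smul, ht']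
      obtain ⟨r, hr, hr0⟩ := h _ hmem
      rw [← LocalizedModule.zero_mk (1 : S), LocalizedModule.mk_eq]
      refine ⟨⟨r, hr⟩ * t, ?_⟩
      simp only [Submonoid.smul_def, smul_zero, one_smul, mul_smul]
      exact hr0

theorem formallySmooth_localization_iff {A C : Type u} [CommRing A] [CommRing C] [Algebra A C]
    (P : Algebra.Extension.{u} A C) [Algebra.FormallySmooth A P.Ring] (p : Ideal C) [p.IsPrime] :
    Algebra.FormallySmooth A (Localization.AtPrime p) ↔
      ∃ w : LocalizedModule p.primeCompl P.CotangentSpace →ₗ[C]
          LocalizedModule p.primeCompl P.Cotangent,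
        w ∘ₗ (LocalizedModule.map p.primeCompl P.cotangentComplex).restrictScalars C
          = LinearMap.id := by
  have hex : Function.Exact (LocalizedModule.map p.primeCompl P.cotangentComplex)
      (LocalizedModule.map p.primeCompl P.toKaehler) :=
    LocalizedModule.map_exact p.primeCompl _ _ P.exact_cotangentComplex_toKaehler
  have hgs : Function.Surjective (LocalizedModule.map p.primeCompl P.toKaehler) :=
    LocalizedModule.map_surjective p.primeCompl _ P.toKaehler_surjective
  have hN : Module.Projective C P.CotangentSpace := inferInstance
  have hNp : Module.Projective (Localization.AtPrime p)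
      (LocalizedModule p.primeCompl P.CotangentSpace) := inferInstance
  have h1 : (∃ w : LocalizedModule p.primeCompl P.CotangentSpace →ₗ[C]
          LocalizedModule p.primeCompl P.Cotangent,
        w ∘ₗ (LocalizedModule.map p.primeCompl P.cotangentComplex).restrictScalars C
          = LinearMap.id) ↔
      (Function.Surjective (LocalizedModule.map p.primeCompl P.toKaehler) ∧
        ∃ l, l ∘ₗ (LocalizedModule.map p.primeCompl P.cotangentComplex) = LinearMap.id) := by
    rw [and_iff_right hgs]
    constructor
    · rintro ⟨w, hw⟩
      refine ⟨w.extendScalarsOfIsLocalization p.primeCompl (Localization.AtPrime p), ?_⟩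
      ext x
      exact DFunLike.congr_fun hw x
    · rintro ⟨l, hl⟩
      refine ⟨l.restrictScalars C, ?_⟩
      ext x
      exact DFunLike.congr_fun hl x
  have h2 := (Function.Exact.split_tfae' (R := Localization p.primeCompl)
    (M := LocalizedModule p.primeCompl P.Cotangent)
    (N := LocalizedModule p.primeCompl P.CotangentSpace)
    (P := LocalizedModule p.primeCompl Ω[C⁄A])
    (f := LocalizedModule.map p.primeCompl P.cotangentComplex)
    (g := LocalizedModule.map p.primeCompl P.toKaehler) hex).out 1 0
  rw [h1, h2, Algebra.formallySmooth_iff, and_comm]
  refine and_congr ?_ ?_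
  · rw [localizedMap_injective_iff]
    have e1 := IsLocalizedModule.iso p.primeCompl
      (Algebra.H1Cotangent.map A A C (Localization.AtPrime p))
    rw [← e1.subsingleton_congr, LocalizedModule.subsingleton_iff]
    have e2 := P.equivH1CotangentOfFormallySmooth
    constructor
    · intro h m hm
      obtain ⟨r, hr, h0⟩ := h (e2 ⟨m, hm⟩)
      refine ⟨r, hr, ?_⟩
      rw [← map_smul] at h0
      have h3 := e2.injective (h0.trans (map_zero e2).symm)
      exact congrArg Subtype.val h3
    · intro h m
      obtain ⟨m0, rfl⟩ := e2.surjective m
      obtain ⟨r, hr, h0⟩ := h m0.1 m0.2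
      refine ⟨r, hr, ?_⟩
      rw [← map_smul]
      have h3 : r • m0 = 0 := Algebra.Extension.h1Cotangentι_ext _ _ h0
      rw [h3, map_zero]
  · rw [← Module.Projective.iff_split_of_projective _ hgs]
    have e := (IsLocalizedModule.iso p.primeCompl
      (KaehlerDifferential.map A A C (Localization.AtPrime p))).extendScalarsOfIsLocalization
        p.primeCompl (Localization.AtPrime p)
    exact ⟨fun H => Module.Projective.of_equiv e.symm, fun H => Module.Projective.of_equiv e⟩


/-- Let B be a formally smooth A-algebra (discrete topologies), C = B/J a quotient with J/J² finitely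
generated. Then the set of primes p of C with C_p formally smooth over A is open in Spec C. (The
equivalent variant with C_p formally smooth over A_q, q the contraction of p to A, is not stated.) -/
theorem result {A B C : Type u} [CommRing A] [CommRing B] [CommRing C]
    [Algebra A B] [Algebra B C] [Algebra A C] [IsScalarTower A B C] [Algebra.FormallySmooth A B]
    (hsurj : Function.Surjective (algebraMap B C)) [Module.Finite B (RingHom.ker (algebraMap B C)).Cotangent] :
    IsOpen {p : PrimeSpectrum C | Algebra.FormallySmooth A (Localization.AtPrime p.asIdeal)} := by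
  let P : Algebra.Extension A C := ⟨B, _, Function.surjInv_eq hsurj⟩
  have hP : Algebra.FormallySmooth A P.Ring := ‹_›
  have hfin : Module.Finite C P.Cotangent := by
    have : Module.Finite B P.Cotangent := Module.Finite.equiv P.cotangentEquivCotangentKer.symm
    exact Module.Finite.of_restrictScalars_finite B C P.Cotangent
  have hproj : Module.Projective C P.CotangentSpace := inferInstance
  have key := (Groth.Agent.S4530.result P.cotangentComplex).2
  convert key using 2
  ext p
  exact formallySmooth_localization_iff P p.asIdeal

end Groth.Agent.S4576
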