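import Groth.Statements.S4579
import Groth.Agent.Lib.JacLoc3_helper3
import Groth.Agent.Lib.GeomRegFS_helper3
import Groth.Agent.S4578
-- import your own Groth.Agent.* helpers here

set_option autoImplicit false
universe u
open EGA41


namespace Groth.Agent.S4579

/-- Let k₀ be a field, k a separable (formally smooth) extension field of k₀ and C a k-algebra of finite
type. The following are equivalent: C is formally smooth over k₀ (discrete topologies); every C_p, p
prime, is formally smooth over k₀; every C_m, m maximal, is; C is geometrically regular over k₀.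
(Geometric regularity is tested on finite extensions of k₀. The published statement quantifies the
last condition over all extensions k' of k₀; for infinite ones the base change need not be
Noetherian, so it need not be regular in the Noetherian sense, and the printed proof passes through
the local rings as here.) -/
theorem result {k₀ k C : Type u} [Field k₀] [Field k] [Algebra k₀ k]
    [Algebra.FormallySmooth k₀ k] [CommRing C] [Algebra k C] [Algebra k₀ C] [IsScalarTower k₀ k C]
    [Algebra.FiniteType k C] :
    [Algebra.FormallySmooth k₀ C,
     ∀ (p : Ideal C) [p.IsPrime], Algebra.FormallySmooth k₀ (Localization.AtPrime p),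
     ∀ (m : Ideal C) [m.IsMaximal], Algebra.FormallySmooth k₀ (Localization.AtPrime m),
     CAlg.IsGeometricallyRegular k₀ C].TFAE := by
  classical
  haveI : IsNoetherianRing C := Algebra.FiniteType.isNoetherianRing k C
  have hadic : ∀ (p : Ideal C) [p.IsPrime], Algebra.FormallySmooth k₀ (Localization.AtPrime p) →
      CAlgX.IsAdicFormallySmooth k₀ (Localization.AtPrime p)
        (IsLocalRing.maximalIdeal (Localization.AtPrime p)) := by
    intro p _ h D _ _ N hN ψ _
    obtain ⟨χ, hχ⟩ := Algebra.FormallySmooth.comp_surjective k₀ (Localization.AtPrime p) N hN ψ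
    exact ⟨χ, hχ⟩
  tfae_have 1 → 2 := by
    intro h p _
    haveI : Algebra.FormallySmooth C (Localization.AtPrime p) :=
      Algebra.FormallySmooth.of_isLocalization p.primeCompl
    exact Algebra.FormallySmooth.comp k₀ C _
  tfae_have 2 → 3 := fun h m _ => h m
  tfae_have 3 → 1 := by
    intro h
    obtain ⟨n, f, hf⟩ := Algebra.FiniteType.iff_quotient_mvPolynomial''.1 ‹Algebra.FiniteType k C›
    letI : Algebra (MvPolynomial (Fin n) k) C := f.toRingHom.toAlgebra
    haveI : IsScalarTower k (MvPolynomial (Fin n) k) C :=
      IsScalarTower.of_algebraMap_eq' f.comp_algebraMap.symm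
    haveI : IsScalarTower k₀ (MvPolynomial (Fin n) k) C := IsScalarTower.of_algebraMap_eq' (by
      rw [IsScalarTower.algebraMap_eq k₀ k C,
        IsScalarTower.algebraMap_eq k₀ k (MvPolynomial (Fin n) k),
        ← RingHom.comp_assoc, ← IsScalarTower.algebraMap_eq k (MvPolynomial (Fin n) k) C])
    haveI : Algebra.FormallySmooth k₀ (MvPolynomial (Fin n) k) :=
      Algebra.FormallySmooth.comp k₀ k _
    have hsurj : Function.Surjective (algebraMap (MvPolynomial (Fin n) k) C) := hf
    haveI : Module.Finite (MvPolynomial (Fin n) k)
        (RingHom.ker (algebraMap (MvPolynomial (Fin n) k) C)).Cotangent :=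
      Module.Finite.of_surjective _
        (RingHom.ker (algebraMap (MvPolynomial (Fin n) k) C)).toCotangent_surjective
    exact Groth.Agent.Lib.JacLoc3H3.formallySmooth_of_forall_maximal (A := k₀) hsurj
      (fun m _ => h m)
  tfae_have 2 → 4 := by
    intro h
    rw [Groth.Agent.Lib.GeomRegFSH3.isGeometricallyRegular_iff_forall_adic]
    intro p _
    exact hadic p (h p)
  tfae_have 4 → 2 := by
    intro h p _
    rw [Groth.Agent.Lib.GeomRegFSH3.isGeometricallyRegular_iff_forall_adic] at h
    exact ((Groth.Agent.S4578.result (k₀ := k₀) (k := k) p).out 1 0).1 (h p)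
  tfae_finish

end Groth.Agent.S4579
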