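import Groth.Statements.S4580
import Groth.Agent.Lib.Jacobian_helper3
-- import your own Groth.Agent.* helpers here

set_option autoImplicit false
universe u
open EGA41
set_option maxSynthPendingDepth 3

namespace Groth.Agent.S4580

/-- Let k₀ be a field, k a separable (formally smooth) extension field of k₀, B = k[T_1, ..., T_r], J an
ideal of B and q a prime of B containing J, with image p in C = B/J. Then C_p is formally smooth
over k₀ for the discrete topologies if and only if there exist f_1, ..., f_m ∈ J whose images
generate J B_q and k₀-derivations D_1, ..., D_m of B with det(D_j f_i) ∉ q. -/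
theorem result {k₀ k : Type u} [Field k₀] [Field k] [Algebra k₀ k]
    [Algebra.FormallySmooth k₀ k] (r : ℕ) (J q : Ideal (MvPolynomial (Fin r) k)) [q.IsPrime] (hJq : J ≤ q)
    [(q.map (Ideal.Quotient.mk J)).IsPrime] :
    Algebra.FormallySmooth k₀ (Localization.AtPrime (q.map (Ideal.Quotient.mk J))) ↔
      ∃ (m : ℕ) (f : Fin m → MvPolynomial (Fin r) k) (D : Fin m → Derivation k₀ (MvPolynomial (Fin r) k) (MvPolynomial (Fin r) k)),
        (∀ i, f i ∈ J) ∧
        J.map (algebraMap (MvPolynomial (Fin r) k) (Localization.AtPrime q)) =
          Ideal.span (Set.range fun i => algebraMap (MvPolynomial (Fin r) k) (Localization.AtPrime q) (f i)) ∧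
        Matrix.det (Matrix.of fun i j => D j (f i)) ∉ q := by
  classical
  haveI : Algebra.FormallySmooth k₀ (MvPolynomial (Fin r) k) :=
    Algebra.FormallySmooth.comp k₀ k (MvPolynomial (Fin r) k)
  obtain ⟨e⟩ := Groth.Agent.Lib.JacobianH3.nonempty_algEquiv_quotient_localization k₀ J q hJq
  constructor
  · intro h
    haveI : Algebra.FormallySmooth k₀ (Localization.AtPrime q ⧸
        J.map (algebraMap (MvPolynomial (Fin r) k) (Localization.AtPrime q))) :=
      Algebra.FormallySmooth.of_equiv e.symm
    obtain ⟨m, f, φ, hfJ, hspan, hdet⟩ :=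
      Groth.Agent.Lib.JacobianH3.exists_jacobian_of_formallySmooth_quotient (R := k₀) J q hJq
        inferInstance
    exact ⟨m, f, fun j => (φ j).compDer (KaehlerDifferential.D k₀ (MvPolynomial (Fin r) k)),
      hfJ, hspan, hdet⟩
  · rintro ⟨m, f, D, hfJ, hspan, hdet⟩
    haveI : Algebra.FormallyEtale (MvPolynomial (Fin r) k) (Localization.AtPrime q) :=
      Algebra.FormallyEtale.of_isLocalization q.primeCompl
    have hext : ∀ j, ∃ D' : Derivation k₀ (Localization.AtPrime q) (Localization.AtPrime q),
        ∀ s, D' (algebraMap (MvPolynomial (Fin r) k) (Localization.AtPrime q) s) =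
          algebraMap (MvPolynomial (Fin r) k) (Localization.AtPrime q) (D j s) :=
      fun j => Groth.Agent.Lib.JacobianH3.exists_derivation_extension k₀ (D j)
    choose D' hD' using hext
    have hmat : (Matrix.of fun i j => D' j (algebraMap (MvPolynomial (Fin r) k)
        (Localization.AtPrime q) (f i))) =
        (algebraMap (MvPolynomial (Fin r) k) (Localization.AtPrime q)).mapMatrix
          (Matrix.of fun i j => D j (f i)) := by
      ext i j
      rw [RingHom.mapMatrix_apply, Matrix.map_apply, Matrix.of_apply, Matrix.of_apply, hD']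
    have hunit : IsUnit (Matrix.det (Matrix.of fun i j => D' j (algebraMap (MvPolynomial (Fin r) k)
        (Localization.AtPrime q) (f i)))) := by
      rw [hmat, ← RingHom.map_det]
      exact IsLocalization.map_units (Localization.AtPrime q)
        (⟨_, hdet⟩ : q.primeCompl)
    have h1 := Groth.Agent.Lib.JacobianH3.formallySmooth_quotient_of_jacobian (R := k₀) m
      (fun i => algebraMap (MvPolynomial (Fin r) k) (Localization.AtPrime q) (f i)) D' hunit
    rw [← hspan] at h1
    exact Algebra.FormallySmooth.of_equiv e

end Groth.Agent.S4580
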