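import Groth.Statements.S4583
import Groth.Agent.Lib.GRingFS_helper3
-- import your own Groth.Agent.* helpers here

set_option autoImplicit false
universe u
open IsLocalRing

open EGA41

namespace Groth.Agent.S4583

/-- Let A be a complete Noetherian local domain with fraction field K, p a prime of A, B = A_p, q a
prime of the completion B̂ of B with q ∩ B = 0. Then B̂_q is a K-algebra formally smooth over K for
the adic topology of its maximal ideal (the published statement adds that it is then geometrically
regular over K; that consequence is not stated). -/
theorem result {A : Type u} [CommRing A]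
    [IsDomain A] [IsLocalRing A] [IsNoetherianRing A] [IsAdicComplete (maximalIdeal A) A] (p : Ideal A) [p.IsPrime]
    (q : Ideal (AdicCompletion (maximalIdeal (Localization.AtPrime p)) (Localization.AtPrime p))) [q.IsPrime]
    (hq : q.comap (algebraMap (Localization.AtPrime p)
      (AdicCompletion (maximalIdeal (Localization.AtPrime p)) (Localization.AtPrime p))) = ⊥)
    [Algebra A (Localization.AtPrime q)]
    [IsScalarTower A (AdicCompletion (maximalIdeal (Localization.AtPrime p)) (Localization.AtPrime p))
      (Localization.AtPrime q)]
    [Algebra (FractionRing A) (Localization.AtPrime q)] [IsScalarTower A (FractionRing A) (Localization.AtPrime q)] :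
    CAlgX.IsAdicFormallySmooth (FractionRing A) (Localization.AtPrime q) (maximalIdeal (Localization.AtPrime q)) := by
  letI canon : Algebra A (Localization.AtPrime q) := OreLocalization.instAlgebra
  obtain ⟨hloc, hnoeth, hcompl, hff, hlh, hmap⟩ :=
    Groth.Agent.Lib.AnUnramH3.completion_facts (Localization.AtPrime p)
  haveI := hnoeth
  haveI : IsNoetherianRing (Localization.AtPrime q) :=
    IsLocalization.isNoetherianRing q.primeCompl _ inferInstance
  have hB := Groth.Agent.Lib.GRingCompleteH3.isRegularHom_localization_cpl A p
  have h1 : CAlg.IsRegularHom (Localization.AtPrime p) (Localization.AtPrime q) :=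
    Groth.Agent.Lib.RegHomBCH3.isRegularHom_localization_target (Localization.AtPrime p)
      (EGA4.Cpl (Localization.AtPrime p)) hB q.primeCompl (Localization.AtPrime q)
  haveI towABBh : IsScalarTower A (Localization.AtPrime p)
      (AdicCompletion (maximalIdeal (Localization.AtPrime p)) (Localization.AtPrime p)) :=
    IsScalarTower.of_algebraMap_eq (fun _ => rfl)
  haveI : IsScalarTower (Localization.AtPrime p) (FractionRing A) (Localization.AtPrime q) := by
    refine IsScalarTower.of_algebraMap_eq' ?_
    apply IsLocalization.ringHom_ext p.primeCompl
    ext a
    simp only [RingHom.comp_apply]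
    rw [← IsScalarTower.algebraMap_apply A (Localization.AtPrime p) (FractionRing A),
      ← IsScalarTower.algebraMap_apply A (FractionRing A) (Localization.AtPrime q),
      IsScalarTower.algebraMap_apply (Localization.AtPrime p)
        (AdicCompletion (maximalIdeal (Localization.AtPrime p)) (Localization.AtPrime p))
        (Localization.AtPrime q),
      ← IsScalarTower.algebraMap_apply A (Localization.AtPrime p)
        (AdicCompletion (maximalIdeal (Localization.AtPrime p)) (Localization.AtPrime p)),
      ← IsScalarTower.algebraMap_apply A
        (AdicCompletion (maximalIdeal (Localization.AtPrime p)) (Localization.AtPrime p))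
        (Localization.AtPrime q)]
  have h2 : CAlg.IsRegularHom (FractionRing A) (Localization.AtPrime q) :=
    Groth.Agent.Lib.GRingMaximalH3.isRegularHom_localization_source (Localization.AtPrime p)
      (Localization.AtPrime q) h1 (nonZeroDivisors (Localization.AtPrime p)) (FractionRing A)
  have hgeom : CAlg.IsGeometricallyRegular (FractionRing A) (Localization.AtPrime q) := by
    intro k' _ _ hfin
    haveI := hfin
    haveI : IsNoetherianRing (TensorProduct (FractionRing A) k' (Localization.AtPrime q)) :=
      Groth.Agent.Lib.GeomRegFSH3.isNoetherianRing_tensor_of_finite k'
    exact Groth.Agent.Lib.RegFlatH3.isRegularRing_tensor_of_isRegularHom (FractionRing A)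
      (Localization.AtPrime q) h2 k'
  exact Groth.Agent.Lib.GRingFSH3.adic_of_isGeometricallyRegular_local (FractionRing A)
    (Localization.AtPrime q) hgeom

end Groth.Agent.S4583
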