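import Groth.Statements.S4587
import Mathlib

set_option autoImplicit false
universe u
open AlgebraicGeometry CategoryTheory
open EGA41

namespace Groth.Agent.S4587

/-- A morphism of schemes f : X → Y is generizing if and only if, for every irreducible closed subset Y'
of Y, each irreducible component of f⁻¹(Y') has dense image in Y'. -/
theorem result {X Y : Scheme.{u}} (f : X ⟶ Y) :
    GeneralizingMap f.base ↔
      ∀ Y' : Set Y, IsClosed Y' → IsIrreducible Y' →
        ∀ Z ∈ irreducibleComponents ↥(f.base ⁻¹' Y'), closure (f.base '' (Subtype.val '' Z)) = Y' := by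
  have hcont : Continuous f.base := f.continuous
  constructor
  · intro hgen Y' hY'c hY'i Z hZ
    have hWc : IsClosed (f.base ⁻¹' Y') := hY'c.preimage hcont
    have : QuasiSober ↥(f.base ⁻¹' Y') := (hWc.isClosedEmbedding_subtypeVal).quasiSober
    have hZc : IsClosed Z := isClosed_of_mem_irreducibleComponents Z hZ
    have hZi : IsIrreducible Z := hZ.1
    have hζ : IsGenericPoint hZi.genericPoint Z := by
      have := hZi.isGenericPoint_genericPoint_closure
      rwa [hZc.closure_eq] at this
    have hη : IsGenericPoint hY'i.genericPoint Y' := by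
      have := hY'i.isGenericPoint_genericPoint_closure
      rwa [hY'c.closure_eq] at this
    have h1 : hY'i.genericPoint ⤳ f.base (hZi.genericPoint : ↥(f.base ⁻¹' Y')).1 :=
      hη.specializes (hZi.genericPoint : ↥(f.base ⁻¹' Y')).2
    obtain ⟨z', hz', hfz'⟩ := hgen h1
    have hz'W : z' ∈ f.base ⁻¹' Y' := by
      show f.base z' ∈ Y'
      rw [hfz']; exact hη.mem
    have hspec : (⟨z', hz'W⟩ : ↥(f.base ⁻¹' Y')) ⤳ hZi.genericPoint :=
      (Topology.IsInducing.subtypeVal.specializes_iff).mp hz'
    have hirr : IsIrreducible (closure ({⟨z', hz'W⟩} : Set ↥(f.base ⁻¹' Y'))) :=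
      isIrreducible_singleton.closure
    have hsub : Z ⊆ closure ({⟨z', hz'W⟩} : Set ↥(f.base ⁻¹' Y')) := by
      rw [← hζ.def]
      exact closure_minimal (Set.singleton_subset_iff.mpr (specializes_iff_mem_closure.mp hspec))
        isClosed_closure
    have hle : closure ({⟨z', hz'W⟩} : Set ↥(f.base ⁻¹' Y')) ⊆ Z := hZ.2 hirr hsub
    have hζ'Z : (⟨z', hz'W⟩ : ↥(f.base ⁻¹' Y')) ∈ Z := hle (subset_closure rfl)
    apply subset_antisymm
    · apply closure_minimal _ hY'c
      rintro _ ⟨_, ⟨s, hs, rfl⟩, rfl⟩
      exact s.2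
    · exact hη.def.symm.subset.trans (closure_mono (Set.singleton_subset_iff.mpr
        ⟨z', ⟨⟨z', hz'W⟩, hζ'Z, rfl⟩, hfz'⟩))
  · intro H x y hy
    have hY'c : IsClosed (closure ({y} : Set Y)) := isClosed_closure
    have hY'i : IsIrreducible (closure ({y} : Set Y)) := isIrreducible_singleton.closure
    have hWc : IsClosed (f.base ⁻¹' closure ({y} : Set Y)) := hY'c.preimage hcont
    have : QuasiSober ↥(f.base ⁻¹' closure ({y} : Set Y)) :=
      (hWc.isClosedEmbedding_subtypeVal).quasiSober
    have hxW : x ∈ f.base ⁻¹' closure ({y} : Set Y) := specializes_iff_mem_closure.mp hy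
    have hZ := irreducibleComponent_mem_irreducibleComponents
      (⟨x, hxW⟩ : ↥(f.base ⁻¹' closure ({y} : Set Y)))
    have hZc : IsClosed (irreducibleComponent (⟨x, hxW⟩ : ↥(f.base ⁻¹' closure ({y} : Set Y)))) :=
      isClosed_irreducibleComponent
    have hZi : IsIrreducible
        (irreducibleComponent (⟨x, hxW⟩ : ↥(f.base ⁻¹' closure ({y} : Set Y)))) :=
      isIrreducible_irreducibleComponent
    have hζ : IsGenericPoint hZi.genericPoint
        (irreducibleComponent (⟨x, hxW⟩ : ↥(f.base ⁻¹' closure ({y} : Set Y)))) := by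
      have := hZi.isGenericPoint_genericPoint_closure
      rwa [hZc.closure_eq] at this
    have hdense := H _ hY'c hY'i _ hZ
    refine ⟨(hZi.genericPoint : ↥(f.base ⁻¹' closure ({y} : Set Y))).1, ?_, ?_⟩
    · have h1 : hZi.genericPoint ⤳ (⟨x, hxW⟩ : ↥(f.base ⁻¹' closure ({y} : Set Y))) :=
        hζ.specializes mem_irreducibleComponent
      exact h1.map continuous_subtype_val
    · have h1 : f.base '' (Subtype.val ''
          (irreducibleComponent (⟨x, hxW⟩ : ↥(f.base ⁻¹' closure ({y} : Set Y))))) ⊆
          closure {f.base (hZi.genericPoint : ↥(f.base ⁻¹' closure ({y} : Set Y))).1} := by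
        rintro _ ⟨_, ⟨s, hs, rfl⟩, rfl⟩
        have h2 : hZi.genericPoint ⤳ s := hζ.specializes hs
        have h3 := h2.map continuous_subtype_val
        exact specializes_iff_mem_closure.mp (h3.map hcont)
      have h2 : closure ({y} : Set Y) ⊆
          closure {f.base (hZi.genericPoint : ↥(f.base ⁻¹' closure ({y} : Set Y))).1} := by
        exact hdense.symm.subset.trans (closure_minimal h1 isClosed_closure)
      have h3 : closure {f.base (hZi.genericPoint : ↥(f.base ⁻¹' closure ({y} : Set Y))).1} ⊆
          closure ({y} : Set Y) :=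
        closure_minimal (Set.singleton_subset_iff.mpr
          (hZi.genericPoint : ↥(f.base ⁻¹' closure ({y} : Set Y))).2) hY'c
      have hg1 : IsGenericPoint (f.base (hZi.genericPoint : ↥(f.base ⁻¹' closure ({y} : Set Y))).1)
          (closure ({y} : Set Y)) := subset_antisymm h3 h2
      have hg2 : IsGenericPoint y (closure ({y} : Set Y)) := rfl
      exact hg1.eq hg2

end Groth.Agent.S4587
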