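import Groth.Statements.S4593
import Mathlib

set_option autoImplicit false
universe u
open CategoryTheory CategoryTheory.Limits AlgebraicGeometry
open EGA41

namespace Groth.Agent.S4593

/-- Let B be a ring, (A_i) a filtered system of B-algebras with colimit A. The image of Spec A in Spec B
is the intersection of the images of the Spec A_i. -/
theorem result {I : Type u} [SmallCategory I] [IsFiltered I]
    (B : CommRingCat.{u}) (D : I ⥤ CommRingCat.{u}) (s : (Functor.const I).obj B ⟶ D) (c : Cocone D)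
    (hc : IsColimit c) (i₀ : I) :
    Set.range (Spec.map (s.app i₀ ≫ c.ι.app i₀)).base = ⋂ i : I, Set.range (Spec.map (s.app i)).base := by
  classical
  have hnat : ∀ {i j : I} (f : i ⟶ j), s.app i ≫ D.map f = s.app j := by
    intro i j f
    have := s.naturality f
    simp only [Functor.const_obj_obj, Functor.const_obj_map, Category.id_comp] at this
    exact this.symm
  have hindep : ∀ i : I, s.app i ≫ c.ι.app i = s.app i₀ ≫ c.ι.app i₀ := by
    intro i
    have h1 : s.app i ≫ c.ι.app i =
        s.app (IsFiltered.max i i₀) ≫ c.ι.app (IsFiltered.max i i₀) := by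
      rw [← c.w (IsFiltered.leftToMax i i₀), ← Category.assoc, hnat]
    have h2 : s.app i₀ ≫ c.ι.app i₀ =
        s.app (IsFiltered.max i i₀) ≫ c.ι.app (IsFiltered.max i i₀) := by
      rw [← c.w (IsFiltered.rightToMax i i₀), ← Category.assoc, hnat]
    rw [h1, h2]
  have hrange : ∀ {R : CommRingCat.{u}} (g : B ⟶ R) (p : PrimeSpectrum B),
      (p ∈ Set.range (Spec.map g).base) ↔
        (p.asIdeal.map g.hom).comap g.hom = p.asIdeal := by
    intro R g p
    exact PrimeSpectrum.mem_range_comap_iff (f := g.hom)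
  have hφ : ∀ {i j : I} (f : i ⟶ j), (D.map f).hom.comp (s.app i).hom = (s.app j).hom := by
    intro i j f
    rw [← CommRingCat.hom_comp, hnat]
  have hmap : ∀ {i j : I} (f : i ⟶ j) (p : Ideal B) (y : D.obj i),
      y ∈ p.map (s.app i).hom → (D.map f).hom y ∈ p.map (s.app j).hom := by
    intro i j f p y hy
    have := Ideal.mem_map_of_mem (D.map f).hom hy
    rwa [Ideal.map_map, hφ] at this
  have hιw : ∀ {i j : I} (f : i ⟶ j) (y : D.obj i),
      (c.ι.app j).hom ((D.map f).hom y) = (c.ι.app i).hom y := by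
    intro i j f y
    have := c.w f
    rw [← this]
    rfl
  apply Set.Subset.antisymm
  · rintro _ ⟨q, rfl⟩
    rw [Set.mem_iInter]
    intro i
    refine ⟨(Spec.map (c.ι.app i)).base q, ?_⟩
    rw [← hindep i, Spec.map_comp]
    rfl
  · intro p hp
    rw [Set.mem_iInter] at hp
    refine (hrange _ p).mpr ?_
    apply le_antisymm _ Ideal.le_comap_map
    intro b hb
    rw [Ideal.mem_comap] at hb
    have hT : ∀ a ∈ Ideal.map (s.app i₀ ≫ c.ι.app i₀).hom p.asIdeal,
        ∃ (j : I) (y : D.obj j), y ∈ p.asIdeal.map (s.app j).hom ∧ (c.ι.app j).hom y = a := by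
      intro a ha
      refine Submodule.span_induction (p := fun a _ => ∃ (j : I) (y : D.obj j),
        y ∈ p.asIdeal.map (s.app j).hom ∧ (c.ι.app j).hom y = a) ?_ ?_ ?_ ?_ ha
      · rintro _ ⟨x, hx, rfl⟩
        exact ⟨i₀, (s.app i₀).hom x, Ideal.mem_map_of_mem _ hx, rfl⟩
      · exact ⟨i₀, 0, zero_mem _, map_zero _⟩
      · rintro a₁ a₂ _ _ ⟨j₁, y₁, hy₁, rfl⟩ ⟨j₂, y₂, hy₂, rfl⟩
        refine ⟨IsFiltered.max j₁ j₂, (D.map (IsFiltered.leftToMax j₁ j₂)).hom y₁ +
          (D.map (IsFiltered.rightToMax j₁ j₂)).hom y₂,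
          add_mem (hmap _ _ _ hy₁) (hmap _ _ _ hy₂), ?_⟩
        rw [map_add, hιw, hιw]
      · rintro a' a _ ⟨j, y, hy, rfl⟩
        obtain ⟨j', y', rfl⟩ := Concrete.isColimit_exists_rep D hc a'
        refine ⟨IsFiltered.max j' j, (D.map (IsFiltered.leftToMax j' j)).hom y' *
          (D.map (IsFiltered.rightToMax j' j)).hom y,
          Ideal.mul_mem_left _ _ (hmap _ _ _ hy), ?_⟩
        rw [map_mul, hιw, hιw]
        rfl
    obtain ⟨j, y, hy, hya⟩ := hT _ hb
    have h1 : (c.ι.app j).hom y = (c.ι.app j).hom ((s.app j).hom b) := by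
      rw [hya, ← hindep j]
      rfl
    obtain ⟨k, f, g, hfg⟩ := Concrete.isColimit_exists_of_rep_eq D hc y ((s.app j).hom b) h1
    have h2 : (D.map g).hom ((s.app j).hom b) = (s.app k).hom b := RingHom.congr_fun (hφ g) b
    have h3 : (s.app k).hom b ∈ p.asIdeal.map (s.app k).hom := by
      rw [← h2]
      have h4 : (D.map f).hom y = (D.map g).hom ((s.app j).hom b) := hfg
      rw [← h4]
      exact hmap f _ y hy
    have h5 := (hrange (s.app k) p).mp (hp k)
    rw [← h5]
    exact h3

end Groth.Agent.S4593
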