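import Groth.Statements.S4594
import Mathlib
-- import your own Groth.Agent.* helpers here

set_option autoImplicit false
universe u
open TensorProduct KaehlerDifferential
set_option maxSynthPendingDepth 3
open EGA41

namespace Groth.Agent.S4594

/-- Let Λ be a ring, A → C a surjection of Λ-algebras with kernel J, C of characteristic p > 0, and π
the class of p·1 in J/J². If C is formally smooth over Λ/pΛ for the discrete topologies, then 0 →
(J/J²)/Cπ → Ω_{A/Λ} ⊗_A C → Ω_{C/Λ} → 0 is exact: the kernel of the conormal map J/J² → Ω_{A/Λ} ⊗_A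
C is the span of π, and the base-change map to Ω_{C/Λ} is surjective with kernel the image of J/J². -/
theorem result {Λ A C : Type u} [CommRing Λ] [CommRing A]
    [CommRing C] [Algebra Λ A] [Algebra A C] [Algebra Λ C] [IsScalarTower Λ A C]
    (hsurj : Function.Surjective (algebraMap A C)) (p : ℕ) [Fact p.Prime] [CharP C p]
    [Algebra (Λ ⧸ Ideal.span {(p : Λ)}) C] [IsScalarTower Λ (Λ ⧸ Ideal.span {(p : Λ)}) C]
    [Algebra.FormallySmooth (Λ ⧸ Ideal.span {(p : Λ)}) C]
    (hp : (p : A) ∈ RingHom.ker (algebraMap A C)) :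
    LinearMap.ker (kerCotangentToTensor Λ A C) =
        Submodule.span A {(RingHom.ker (algebraMap A C)).toCotangent ⟨(p : A), hp⟩} ∧
      LinearMap.range (kerCotangentToTensor Λ A C) = (LinearMap.ker (mapBaseChange Λ A C)).restrictScalars A ∧
      Function.Surjective (mapBaseChange Λ A C) := by
  classical
  refine ⟨?_, KaehlerDifferential.range_kerCotangentToTensor Λ A C hsurj,
    KaehlerDifferential.mapBaseChange_surjective Λ A C hsurj⟩
  set J : Ideal A := RingHom.ker (algebraMap A C) with hJ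
  -- the ideal `J² + pA`
  let I : Ideal A := J ^ 2 ⊔ Ideal.span {(p : A)}
  have hIJ : I ≤ J := sup_le (Ideal.pow_le_self two_ne_zero)
    ((Ideal.span_singleton_le_iff_mem _).2 hp)
  have hpI : (p : A) ∈ I := Ideal.mem_sup_right (Ideal.mem_span_singleton_self _)
  letI algAbarC : Algebra (A ⧸ I) C :=
    (Ideal.Quotient.lift I (algebraMap A C) (fun a ha => hIJ ha)).toAlgebra
  have halgAbarC : ∀ a : A, algebraMap (A ⧸ I) C (Ideal.Quotient.mk I a) = algebraMap A C a :=
    fun a => rfl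
  haveI : IsScalarTower A (A ⧸ I) C := IsScalarTower.of_algebraMap_eq (fun a => rfl)
  haveI : IsScalarTower Λ (A ⧸ I) C := IsScalarTower.of_algebraMap_eq (fun x => by
    rw [IsScalarTower.algebraMap_apply Λ A (A ⧸ I), Ideal.Quotient.algebraMap_eq, halgAbarC,
      ← IsScalarTower.algebraMap_apply])
  -- `Λ/p`-structure
  have hpΛ : ∀ x ∈ Ideal.span {(p : Λ)}, algebraMap Λ (A ⧸ I) x = 0 := by
    intro x hx
    obtain ⟨y, rfl⟩ := Ideal.mem_span_singleton'.1 hx
    rw [map_mul, map_natCast, IsScalarTower.algebraMap_apply Λ A (A ⧸ I)]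
    have : ((p : ℕ) : A ⧸ I) = 0 := by
      rw [← map_natCast (Ideal.Quotient.mk I)]
      exact Ideal.Quotient.eq_zero_iff_mem.2 hpI
    rw [this, mul_zero]
  letI algΛ' : Algebra (Λ ⧸ Ideal.span {(p : Λ)}) (A ⧸ I) :=
    (Ideal.Quotient.lift (Ideal.span {(p : Λ)}) (algebraMap Λ (A ⧸ I)) hpΛ).toAlgebra
  haveI : IsScalarTower Λ (Λ ⧸ Ideal.span {(p : Λ)}) (A ⧸ I) :=
    IsScalarTower.of_algebraMap_eq (fun x => rfl)
  haveI : IsScalarTower (Λ ⧸ Ideal.span {(p : Λ)}) (A ⧸ I) C :=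
    IsScalarTower.of_algebraMap_eq (fun x => by
      obtain ⟨x, rfl⟩ := Ideal.Quotient.mk_surjective x
      have h1 : algebraMap (Λ ⧸ Ideal.span {(p : Λ)}) (A ⧸ I) (Ideal.Quotient.mk _ x) =
        algebraMap Λ (A ⧸ I) x := rfl
      rw [h1, ← Ideal.Quotient.algebraMap_eq, ← IsScalarTower.algebraMap_apply,
        ← IsScalarTower.algebraMap_apply])
  -- surjectivity and square zero kernel
  have hsurj' : Function.Surjective (algebraMap (A ⧸ I) C) := fun c => by
    obtain ⟨a, rfl⟩ := hsurj c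
    exact ⟨Ideal.Quotient.mk I a, rfl⟩
  have hsq : RingHom.ker (algebraMap (A ⧸ I) C) ^ 2 = ⊥ := by
    rw [eq_bot_iff, pow_two, Ideal.mul_le]
    intro x hx y hy
    obtain ⟨a, rfl⟩ := Ideal.Quotient.mk_surjective x
    obtain ⟨b, rfl⟩ := Ideal.Quotient.mk_surjective y
    rw [RingHom.mem_ker, halgAbarC] at hx hy
    rw [Ideal.mem_bot, ← map_mul, Ideal.Quotient.eq_zero_iff_mem]
    refine Ideal.mem_sup_left ?_
    rw [pow_two]
    exact Ideal.mul_mem_mul hx hy
  -- the section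
  let f := IsScalarTower.toAlgHom (Λ ⧸ Ideal.span {(p : Λ)}) (A ⧸ I) C
  have hnil : IsNilpotent (RingHom.ker (f : (A ⧸ I) →+* C)) := ⟨2, hsq⟩
  let g₀ := Algebra.FormallySmooth.liftOfSurjective (AlgHom.id _ C) f hsurj' hnil
  let g : C →ₐ[Λ] (A ⧸ I) := g₀.restrictScalars Λ
  have hg : (IsScalarTower.toAlgHom Λ (A ⧸ I) C).comp g = AlgHom.id Λ C := by
    ext c
    exact Algebra.FormallySmooth.liftOfSurjective_apply (AlgHom.id _ C) f hsurj' hnil c
  obtain ⟨l, hl⟩ := (retractionKerToTensorEquivSection (R := Λ) hsq hsurj').symm ⟨g, hg⟩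
  have hinj : Function.Injective (KaehlerDifferential.kerToTensor Λ (A ⧸ I) C) :=
    Function.LeftInverse.injective (fun y => LinearMap.congr_fun hl y)
  -- the comparison map
  let τ : C ⊗[A] Ω[A⁄Λ] →ₗ[C] C ⊗[A ⧸ I] Ω[(A ⧸ I)⁄Λ] :=
    ((KaehlerDifferential.mapBaseChange Λ A (A ⧸ I)).baseChange C) ∘ₗ
      (TensorProduct.AlgebraTensorModule.cancelBaseChange A (A ⧸ I) C C Ω[A⁄Λ]).symm.toLinearMap
  have hτ : ∀ a : A, τ ((1 : C) ⊗ₜ[A] KaehlerDifferential.D Λ A a) =
      (1 : C) ⊗ₜ[A ⧸ I] KaehlerDifferential.D Λ (A ⧸ I) (Ideal.Quotient.mk I a) := by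
    intro a
    show ((KaehlerDifferential.mapBaseChange Λ A (A ⧸ I)).baseChange C)
      ((TensorProduct.AlgebraTensorModule.cancelBaseChange A (A ⧸ I) C C Ω[A⁄Λ]).symm
        ((1 : C) ⊗ₜ[A] KaehlerDifferential.D Λ A a)) = _
    rw [TensorProduct.AlgebraTensorModule.cancelBaseChange_symm_tmul, LinearMap.baseChange_tmul,
      KaehlerDifferential.mapBaseChange_tmul, one_smul, KaehlerDifferential.map_D]
    rfl
  apply le_antisymm
  · intro z hz
    obtain ⟨⟨x, hxJ⟩, rfl⟩ := Ideal.toCotangent_surjective _ z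
    rw [LinearMap.mem_ker, KaehlerDifferential.kerCotangentToTensor_toCotangent] at hz
    have h1 := congrArg τ hz
    rw [hτ, map_zero] at h1
    have hxker : Ideal.Quotient.mk I x ∈ RingHom.ker (algebraMap (A ⧸ I) C) := by
      rw [RingHom.mem_ker, halgAbarC]; exact hxJ
    have h2 : KaehlerDifferential.kerToTensor Λ (A ⧸ I) C ⟨Ideal.Quotient.mk I x, hxker⟩ = 0 := h1
    have h3 : (⟨Ideal.Quotient.mk I x, hxker⟩ : RingHom.ker (algebraMap (A ⧸ I) C)) = 0 :=
      hinj (h2.trans (map_zero _).symm)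
    have h4 : x ∈ I := Ideal.Quotient.eq_zero_iff_mem.1 (congrArg Subtype.val h3)
    obtain ⟨y, hy, w, hw, hyw⟩ := Submodule.mem_sup.1 h4
    obtain ⟨a, rfl⟩ := Ideal.mem_span_singleton'.1 hw
    have hyJ : y ∈ J := Ideal.pow_le_self two_ne_zero hy
    have hapJ : a * (p : A) ∈ J := J.mul_mem_left a hp
    have hdecomp : (⟨x, hxJ⟩ : J) = ⟨y, hyJ⟩ + a • ⟨(p : A), hp⟩ := by
      apply Subtype.ext
      show x = y + a * (p : A)
      exact hyw.symm
    rw [hdecomp, map_add, map_smul]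
    have hy0 : J.toCotangent ⟨y, hyJ⟩ = 0 := (Ideal.toCotangent_eq_zero _ _).2 hy
    rw [hy0, zero_add]
    exact Submodule.smul_mem _ _ (Submodule.subset_span rfl)
  · rw [Submodule.span_le]
    rintro _ rfl
    rw [SetLike.mem_coe, LinearMap.mem_ker, KaehlerDifferential.kerCotangentToTensor_toCotangent]
    show (1 : C) ⊗ₜ[A] KaehlerDifferential.D Λ A (p : A) = 0
    rw [← map_natCast (algebraMap Λ A), Derivation.map_algebraMap, TensorProduct.tmul_zero]

end Groth.Agent.S4594
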