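import Groth.Statements.S4595
import Groth.Agent.Lib.PRootCot3_helper3
-- import your own Groth.Agent.* helpers here

set_option autoImplicit false
universe u
open TensorProduct IsLocalRing
set_option maxSynthPendingDepth 3
open Groth.Agent.Lib.PRootCotH3 MvPolynomial
open EGA41

namespace Groth.Agent.S4595

/-- Let A be an Artinian local ring of characteristic p > 0 with maximal ideal m of square zero and
residue field K, f_1, …, f_r ∈ A, and B = A[T_1, …, T_r]/(T_1^p − f_1, …, T_r^p − f_r). Then B is
local, and dim_K m = dim_{K'}(m'/m'²) (m', K' the maximal ideal and residue field of B) if and only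
if the d f_i ⊗ 1 are linearly independent in Ω_A ⊗_A K. -/
theorem result {A : Type u} [CommRing A]
    [IsArtinianRing A] [IsLocalRing A] (hm : maximalIdeal A ^ 2 = ⊥) (p : ℕ) [Fact p.Prime] [CharP A p]
    {r : ℕ} (f : Fin r → A) :
    let B := MvPolynomial (Fin r) A ⧸ Ideal.span (Set.range fun i => MvPolynomial.X i ^ p - MvPolynomial.C (f i))
    ∃ _ : IsLocalRing B,
      (Module.finrank (ResidueField A) (CotangentSpace A) = Module.finrank (ResidueField B) (CotangentSpace B) ↔
        LinearIndependent (ResidueField A) (fun i => (1 : ResidueField A) ⊗ₜ[A] KaehlerDifferential.D ℤ A (f i))) := by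
  intro B
  classical
  haveI hpp : Fact p.Prime := inferInstance
  haveI : IsNoetherianRing A := inferInstance
  have hF : ∀ i, (fun i => (X i ^ p - C (f i) : MvPolynomial (Fin r) A)) i =
      X i ^ p + ((p : ℕ) : MvPolynomial (Fin r) A) * (fun _ => (0 : MvPolynomial (Fin r) A)) i -
        C (f i) := by
    intro i
    simp
  have hp0 : ((p : ℕ) : A) = 0 := CharP.cast_eq_zero A p
  have hp : ((p : ℕ) : A) ∈ maximalIdeal A ^ 2 := by
    rw [hp0]
    exact zero_mem _
  have hint : ∀ i, IsIntegral A (Ideal.Quotient.mk (Ideal.span (Set.range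
      fun i => (X i ^ p - C (f i) : MvPolynomial (Fin r) A))) (X i)) := by
    intro i
    refine ⟨Polynomial.X ^ p - Polynomial.C (f i),
      Polynomial.monic_X_pow_sub_C _ hpp.out.ne_zero, ?_⟩
    rw [Polynomial.eval₂_sub, Polynomial.eval₂_pow, Polynomial.eval₂_X, Polynomial.eval₂_C]
    have h0 : Ideal.Quotient.mk (Ideal.span (Set.range
        fun i => (X i ^ p - C (f i) : MvPolynomial (Fin r) A))) (X i ^ p - C (f i)) = 0 :=
      Ideal.Quotient.eq_zero_iff_mem.2 (Ideal.subset_span ⟨i, rfl⟩)
    rw [map_sub, map_pow] at h0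
    exact h0
  haveI := isIntegral_quotient _ hint
  obtain ⟨hloc, hlh⟩ := isLocalRing_quotient p (Ideal.pow_le_self two_ne_zero hp) f
    (fun _ => 0) (fun i => (X i ^ p - C (f i) : MvPolynomial (Fin r) A)) hF
  haveI : Algebra.FiniteType A B :=
    Algebra.FiniteType.of_surjective (Ideal.Quotient.mkₐ A _) (Ideal.Quotient.mkₐ_surjective A _)
  haveI : Module.Finite A B := Algebra.IsIntegral.finite
  refine ⟨hloc, ?_⟩
  exact finrank_cotangentSpace_eq_iff_aux p hp f (fun _ => 0) _ hF
    Ideal.Quotient.mk_surjective (by rw [Ideal.Quotient.algebraMap_eq]; exact Ideal.mk_ker)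

end Groth.Agent.S4595
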