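import Groth.Statements.S4598
import Groth.Agent.S4596
import Mathlib.AlgebraicGeometry.PullbackCarrier
import Mathlib.AlgebraicGeometry.Morphisms.QuasiSeparated
import Mathlib.CategoryTheory.MorphismProperty.Descent

set_option autoImplicit false
universe u
open AlgebraicGeometry CategoryTheory CategoryTheory.Limits
open EGA41

namespace Groth.Agent.S4598

instance descendsAlong_quasiCompact :
    MorphismProperty.DescendsAlong @QuasiCompact (@Surjective ⊓ @QuasiCompact) where
  of_isPullback {A X Y Z fst snd f g} h hf hfst := by
    have hsurj : Surjective snd := MorphismProperty.of_isPullback (P := @Surjective) h hf.1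
    have hqc : QuasiCompact (snd ≫ g) := by
      rw [← h.w]
      have := hf.2
      infer_instance
    exact Groth.Agent.S4596.result snd g


/-- If g : Y' → Y is quasi-compact and surjective and the base change X ×_Y Y' → Y' of f : X → Y is
quasi-separated, then f is quasi-separated. -/
theorem result {X Y Y' : Scheme.{u}} (f : X ⟶ Y)
    (g : Y' ⟶ Y) [QuasiCompact g] [Surjective g] [QuasiSeparated (pullback.snd f g)] :
    QuasiSeparated f := by
  have hq : MorphismProperty.diagonal @QuasiCompact (pullback.snd f g) := by
    rw [← quasiSeparated_eq_diagonal_is_quasiCompact]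
    infer_instance
  have := MorphismProperty.of_pullback_snd_of_descendsAlong
    (P := MorphismProperty.diagonal @QuasiCompact) (Q := @Surjective ⊓ @QuasiCompact)
    (f := f) (g := g) ⟨inferInstance, inferInstance⟩ hq
  rw [← quasiSeparated_eq_diagonal_is_quasiCompact] at this
  exact this

end Groth.Agent.S4598
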