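import Groth.Statements.S4601
import Mathlib
-- import your own Groth.Agent.* helpers here

set_option autoImplicit false
universe u
open TensorProduct

open CAlg

namespace Groth.Agent.S4601

/-- Let A be a domain with fraction field K, B a Noetherian A-algebra which is flat over A, K' an
extension field of K, B₁ = B_red and R its total ring of fractions. For every sub-A-algebra A' of
K', the map (A' ⊗_A B)_red → (K' ⊗_A R)_red is injective, i.e. an element of A' ⊗_A B with nilpotent
image in K' ⊗_A R is nilpotent. -/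
theorem result {A B K' R : Type u} [CommRing A]
    [IsDomain A] [CommRing B] [Algebra A B] [IsNoetherianRing B] [Module.Flat A B]
    [Field K'] [Algebra A K'] [Algebra (FractionRing A) K'] [IsScalarTower A (FractionRing A) K']
    [CommRing R] [Algebra (B ⧸ nilradical B) R] [IsFractionRing (B ⧸ nilradical B) R]
    [Algebra B R] [IsScalarTower B (B ⧸ nilradical B) R] [Algebra A R] [IsScalarTower A B R]
    (A' : Subalgebra A K') (x : ↥A' ⊗[A] B)
    (hx : IsNilpotent (Algebra.TensorProduct.map A'.val (IsScalarTower.toAlgHom A B R) x)) :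
    IsNilpotent x := by
  haveI : Module.Flat A K' := Module.Flat.trans A (FractionRing A) K'
  let q : B →ₐ[A] B ⧸ nilradical B := Ideal.Quotient.mkₐ A (nilradical B)
  have hq : Function.Surjective q := Ideal.Quotient.mkₐ_surjective A _
  have hι0 : ∀ b ∈ nilradical B, (IsScalarTower.toAlgHom A B R) b = 0 := by
    intro b hb
    show algebraMap B R b = 0
    rw [IsScalarTower.algebraMap_apply B (B ⧸ nilradical B) R, Ideal.Quotient.algebraMap_eq,
      Ideal.Quotient.eq_zero_iff_mem.2 hb, map_zero]
  let ι : B ⧸ nilradical B →ₐ[A] R :=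
    Ideal.Quotient.liftₐ (nilradical B) (IsScalarTower.toAlgHom A B R) hι0
  have hιq : ∀ b, ι (q b) = algebraMap B R b := fun b => rfl
  have hι : Function.Injective ι := by
    have h1 : (ι : B ⧸ nilradical B → R) = algebraMap (B ⧸ nilradical B) R := by
      funext y
      obtain ⟨b, rfl⟩ := Ideal.Quotient.mk_surjective y
      show ι (q b) = _
      rw [hιq, IsScalarTower.algebraMap_apply B (B ⧸ nilradical B) R]
      rfl
    rw [h1]
    exact IsFractionRing.injective _ _
  let φ₁ : ↥A' ⊗[A] B →ₐ[A] K' ⊗[A] B := Algebra.TensorProduct.map A'.val (AlgHom.id A B)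
  let φ₂ : K' ⊗[A] B →ₐ[A] K' ⊗[A] (B ⧸ nilradical B) :=
    Algebra.TensorProduct.map (AlgHom.id A K') q
  let φ₃ : K' ⊗[A] (B ⧸ nilradical B) →ₐ[A] K' ⊗[A] R :=
    Algebra.TensorProduct.map (AlgHom.id A K') ι
  have hφ : ∀ y, Algebra.TensorProduct.map A'.val (IsScalarTower.toAlgHom A B R) y =
      φ₃ (φ₂ (φ₁ y)) := by
    intro y
    induction y using TensorProduct.induction_on with
    | zero => simp
    | tmul a b =>
      simp only [φ₁, φ₂, φ₃, Algebra.TensorProduct.map_tmul, AlgHom.coe_id, id_eq, hιq]
      rfl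
    | add y z hy hz => simp only [map_add, hy, hz]
  have h₁ : Function.Injective φ₁ := by
    have h1 : (φ₁ : _ → _) = (A'.val.toLinearMap.rTensor B) := rfl
    rw [h1]
    exact Module.Flat.rTensor_preserves_injective_linearMap _ Subtype.val_injective
  have h₃ : Function.Injective φ₃ := by
    have h1 : (φ₃ : _ → _) = (ι.toLinearMap.lTensor K') := rfl
    rw [h1]
    exact Module.Flat.lTensor_preserves_injective_linearMap _ hι
  have h₂ : ∀ y, φ₂ y = 0 → IsNilpotent y := by
    intro y hy
    have hmem : y ∈ RingHom.ker φ₂ := hy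
    rw [Algebra.TensorProduct.lTensor_ker q hq] at hmem
    have hle : (RingHom.ker q).map (Algebra.TensorProduct.includeRight : B →ₐ[A] K' ⊗[A] B) ≤
        nilradical (K' ⊗[A] B) := by
      rw [Ideal.map_le_iff_le_comap]
      intro b hb
      have hb' : b ∈ nilradical B := by
        have h1 : q b = 0 := hb
        exact Ideal.Quotient.eq_zero_iff_mem.1 h1
      rw [Ideal.mem_comap, mem_nilradical]
      exact (mem_nilradical.1 hb').map _
    exact mem_nilradical.1 (hle hmem)
  obtain ⟨n, hn⟩ := hx
  rw [← map_pow, hφ] at hn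
  have h4 : φ₂ (φ₁ (x ^ n)) = 0 := h₃ (by rw [hn, map_zero])
  obtain ⟨m, hm⟩ := h₂ _ h4
  rw [← map_pow] at hm
  have h5 : (x ^ n) ^ m = 0 := h₁ (by rw [hm, map_zero])
  exact ⟨n * m, by rw [pow_mul]; exact h5⟩

end Groth.Agent.S4601
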