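import Groth.Statements.S4602
import Groth.Agent.Lib.GRingFinFS_helper3
-- import your own Groth.Agent.* helpers here

set_option autoImplicit false
universe u
open IsLocalRing

open EGA41

namespace Groth.Agent.S4602

/-- Let A be a regular local ring with fraction field of characteristic zero, B a domain containing A
and module-finite over it, with fraction field L, n a prime of B, C = B_n, q a prime of the
completion Ĉ with q ∩ C = 0. Then Ĉ_q is formally smooth over L for the adic topology of its maximal
ideal. (Case (ii) of the published statement, in characteristic p with a suitable filtered family of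
subrings, is not stated.) -/
theorem result
    {A B : Type u} [CommRing A] [IsRegularLocalRing A] [CharZero A] [CommRing B] [IsDomain B] [Algebra A B]
    [Module.Finite A B] (hinj : Function.Injective (algebraMap A B)) (n : Ideal B) [n.IsPrime]
    (q : Ideal (AdicCompletion (maximalIdeal (Localization.AtPrime n)) (Localization.AtPrime n))) [q.IsPrime]
    (hq : q.comap (algebraMap (Localization.AtPrime n)
      (AdicCompletion (maximalIdeal (Localization.AtPrime n)) (Localization.AtPrime n))) = ⊥)
    [Algebra B (Localization.AtPrime q)]
    [IsScalarTower B (AdicCompletion (maximalIdeal (Localization.AtPrime n)) (Localization.AtPrime n))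
      (Localization.AtPrime q)]
    [Algebra (FractionRing B) (Localization.AtPrime q)] [IsScalarTower B (FractionRing B) (Localization.AtPrime q)] :
    CAlgX.IsAdicFormallySmooth (FractionRing B) (Localization.AtPrime q) (maximalIdeal (Localization.AtPrime q)) := by
  letI canon : Algebra B (Localization.AtPrime q) := OreLocalization.instAlgebra
  haveI := Groth.Agent.RegularLib.isDomain A
  haveI : IsRegularRing A := Groth.Agent.Lib.FlatPSH3.isRegularRing_of_isRegularLocalRing A
  haveI : IsNoetherianRing A := inferInstance
  refine Groth.Agent.Lib.GRingFinFSH3.adic_localization_cpl_of_finite A B hinj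
    (fun P _ => Groth.Agent.Lib.GRingBaseH3.isGeometricallyRegular_formalFibre_charZero A P) n q ?_
  intro b
  rw [← IsScalarTower.algebraMap_apply B (FractionRing B) (Localization.AtPrime q),
    ← IsScalarTower.algebraMap_apply B
      (AdicCompletion (maximalIdeal (Localization.AtPrime n)) (Localization.AtPrime n))
      (Localization.AtPrime q)]

end Groth.Agent.S4602
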