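import Groth.Statements.S4603
import Groth.Agent.S2255
import Groth.Agent.Lib.CodimZero_helper8
import Groth.Agent.Lib.SchFT_helper8

set_option autoImplicit false
universe u
open AlgebraicGeometry CategoryTheory
open EGA41

namespace Groth.Agent.S4603

/-- Let f : X → Y be quasi-compact. The following are equivalent: f is dominant; the fibre of f over
every maximal point of Y (a point with no proper generization, i.e. the generic point of an
irreducible component) is nonempty; every maximal point of Y is the image of a maximal point of X. -/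
theorem result {X Y : Scheme.{u}} (f : X ⟶ Y) [QuasiCompact f] :
    [IsDominant f,
     ∀ y : Y, (∀ y' : Y, y' ⤳ y → y' = y) → y ∈ Set.range f.base,
     ∀ y : Y, (∀ y' : Y, y' ⤳ y → y' = y) → ∃ x : X, (∀ x' : X, x' ⤳ x → x' = x) ∧ f.base x = y].TFAE := by
  have hiff : ∀ {Z : Scheme.{u}} (z : Z), closure ({z} : Set Z) ∈ irreducibleComponents (Z : Type u) ↔
      ∀ z' : Z, z' ⤳ z → z' = z := fun z =>
    Groth.Agent.SchFTH8.closure_mem_irreducibleComponents_iff z
  tfae_have 1 → 3 := by
    intro h y hy
    obtain ⟨x, hx, hxy⟩ := (Groth.Agent.S2255.result f).mp h y ((hiff y).mpr hy)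
    exact ⟨x, (hiff x).mp hx, hxy⟩
  tfae_have 3 → 2 := by
    intro h y hy
    obtain ⟨x, -, hxy⟩ := h y hy
    exact ⟨x, hxy⟩
  tfae_have 2 → 1 := by
    intro h
    refine ⟨?_⟩
    intro y
    obtain ⟨y0, hsp, hy0⟩ := CodimZeroH8.exists_isMax_ge y
    have hmax : IsMax y0 := Order.coheight_eq_zero.mp hy0
    have hy0' : ∀ y' : Y, y' ⤳ y0 → y' = y0 := by
      intro y' hy'
      have h1 : y0 ≤ y' := hy'
      have h2 : y0 ⤳ y' := hmax h1
      exact (hy'.antisymm h2).eq
    obtain ⟨x, hx⟩ := h y0 hy0'
    have : y0 ∈ closure (Set.range f) := subset_closure ⟨x, hx⟩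
    exact hsp.mem_closed isClosed_closure this
  tfae_finish

end Groth.Agent.S4603
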