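import Groth.Statements.S4608
import Mathlib

set_option autoImplicit false
universe u
open AlgebraicGeometry CategoryTheory CategoryTheory.Limits
open EGA41

namespace Groth.Agent.S4608

theorem isClosedEmbedding_inl (X' X'' : Scheme.{u}) :
    Topology.IsClosedEmbedding (coprod.inl : X' ⟶ X' ⨿ X'') := by
  refine ⟨(coprod.inl : X' ⟶ X' ⨿ X'').isOpenEmbedding.isEmbedding, ?_⟩
  rw [← (isCompl_range_inl_inr X' X'').symm.compl_eq]
  exact isClosed_compl_iff.mpr (coprod.inr : X'' ⟶ X' ⨿ X'').isOpenEmbedding.isOpen_range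

theorem isClosedEmbedding_inr (X' X'' : Scheme.{u}) :
    Topology.IsClosedEmbedding (coprod.inr : X'' ⟶ X' ⨿ X'') := by
  refine ⟨(coprod.inr : X'' ⟶ X' ⨿ X'').isOpenEmbedding.isEmbedding, ?_⟩
  rw [← (isCompl_range_inl_inr X' X'').compl_eq]
  exact isClosed_compl_iff.mpr (coprod.inl : X' ⟶ X' ⨿ X'').isOpenEmbedding.isOpen_range

theorem preimage_desc {X' X'' Y : Scheme.{u}} (f' : X' ⟶ Y) (f'' : X'' ⟶ Y) (U : Set Y) :
    (coprod.desc f' f'') ⁻¹' U =
      (coprod.inl : X' ⟶ X' ⨿ X'') '' (f' ⁻¹' U) ∪ (coprod.inr : X'' ⟶ X' ⨿ X'') '' (f'' ⁻¹' U) := by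
  ext x
  obtain ⟨(x | x), rfl⟩ := (coprodMk X' X'').surjective x
  · simp only [coprodMk_inl, Set.mem_preimage, Set.mem_union, Set.mem_image]
    rw [← Scheme.Hom.comp_apply, coprod.inl_desc]
    constructor
    · intro h; exact Or.inl ⟨x, h, rfl⟩
    · rintro (⟨y, hy, e⟩ | ⟨y, hy, e⟩)
      · rwa [← (coprod.inl : X' ⟶ X' ⨿ X'').isOpenEmbedding.injective e]
      · exact absurd e (inr_ne_inl _ _ _ _)
  · simp only [coprodMk_inr, Set.mem_preimage, Set.mem_union, Set.mem_image]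
    rw [← Scheme.Hom.comp_apply, coprod.inr_desc]
    constructor
    · intro h; exact Or.inr ⟨x, h, rfl⟩
    · rintro (⟨y, hy, e⟩ | ⟨y, hy, e⟩)
      · exact absurd e (inl_ne_inr _ _ _ _)
      · rwa [← (coprod.inr : X'' ⟶ X' ⨿ X'').isOpenEmbedding.injective e]

/-- A morphism from a disjoint union X' ⨿ X'' → Y is quasi-compact if and only if its two components
are. -/
theorem result {X' X'' Y : Scheme.{u}} (f' : X' ⟶ Y) (f'' : X'' ⟶ Y) :
    QuasiCompact (coprod.desc f' f'') ↔ QuasiCompact f' ∧ QuasiCompact f'' := by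
  have hl : QuasiCompact (coprod.inl : X' ⟶ X' ⨿ X'') :=
    ⟨fun U _ hU' => (isClosedEmbedding_inl X' X'').isCompact_preimage hU'⟩
  have hr : QuasiCompact (coprod.inr : X'' ⟶ X' ⨿ X'') :=
    ⟨fun U _ hU' => (isClosedEmbedding_inr X' X'').isCompact_preimage hU'⟩
  constructor
  · intro h
    constructor
    · rw [← coprod.inl_desc f' f'']; infer_instance
    · rw [← coprod.inr_desc f' f'']; infer_instance
  · rintro ⟨h1, h2⟩
    constructor
    intro U hU hU'
    rw [preimage_desc]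
    exact ((h1.1 U hU hU').image (coprod.inl : X' ⟶ X' ⨿ X'').continuous).union
      ((h2.1 U hU hU').image (coprod.inr : X'' ⟶ X' ⨿ X'').continuous)

end Groth.Agent.S4608
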