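import Groth.Statements.S4609
import Mathlib
import Groth.Agent.S4608

set_option autoImplicit false
universe u
open AlgebraicGeometry CategoryTheory CategoryTheory.Limits
open EGA41

namespace Groth.Agent.S4609

theorem isQuasiSeparated_union_of_clopen {Z : Type*} [TopologicalSpace Z] {S T C : Set Z}
    (hC : IsClopen C) (hS : IsQuasiSeparated S) (hT : IsQuasiSeparated T)
    (hSC : S ⊆ C) (hTC : T ⊆ Cᶜ) : IsQuasiSeparated (S ∪ T) := by
  intro K L hK hKo hKc hL hLo hLc
  have h1 : IsCompact ((K ∩ C) ∩ (L ∩ C)) := by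
    apply hS
    · rintro x ⟨hx, hxC⟩
      rcases hK hx with h | h
      · exact h
      · exact absurd hxC (hTC h)
    · exact hKo.inter hC.isOpen
    · exact hKc.inter_right hC.isClosed
    · rintro x ⟨hx, hxC⟩
      rcases hL hx with h | h
      · exact h
      · exact absurd hxC (hTC h)
    · exact hLo.inter hC.isOpen
    · exact hLc.inter_right hC.isClosed
  have h2 : IsCompact ((K ∩ Cᶜ) ∩ (L ∩ Cᶜ)) := by
    apply hT
    · rintro x ⟨hx, hxC⟩
      rcases hK hx with h | h
      · exact absurd (hSC h) hxC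
      · exact h
    · exact hKo.inter hC.compl.isOpen
    · exact hKc.inter_right hC.compl.isClosed
    · rintro x ⟨hx, hxC⟩
      rcases hL hx with h | h
      · exact absurd (hSC h) hxC
      · exact h
    · exact hLo.inter hC.compl.isOpen
    · exact hLc.inter_right hC.compl.isClosed
  have : K ∩ L = ((K ∩ C) ∩ (L ∩ C)) ∪ ((K ∩ Cᶜ) ∩ (L ∩ Cᶜ)) := by
    ext x
    by_cases hx : x ∈ C <;> simp [hx]
  rw [this]
  exact h1.union h2

theorem qs_iff {X Y : Scheme.{u}} (f : X ⟶ Y) :
    QuasiSeparated f ↔ ∀ U : Y.affineOpens, IsQuasiSeparated (f ⁻¹ᵁ U.1 : Set X) := by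
  have h := HasAffineProperty.eq_targetAffineLocally (P := @QuasiSeparated)
  have : QuasiSeparated f ↔ targetAffineLocally (fun X _ _ _ ↦ QuasiSeparatedSpace X) f := by
    rw [← h]
  rw [this]
  refine forall_congr' fun U => ?_
  exact (isQuasiSeparated_iff_quasiSeparatedSpace _ (f ⁻¹ᵁ U.1).2).symm

/-- A morphism from a disjoint union X' ⨿ X'' → Y is quasi-separated if and only if its two components
are. -/
theorem result {X' X'' Y : Scheme.{u}} (f' : X' ⟶ Y) (f'' : X'' ⟶ Y) :
    QuasiSeparated (coprod.desc f' f'') ↔ QuasiSeparated f' ∧ QuasiSeparated f'' := by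
  constructor
  · intro h
    constructor
    · rw [← coprod.inl_desc f' f'']; infer_instance
    · rw [← coprod.inr_desc f' f'']; infer_instance
  · rintro ⟨h1, h2⟩
    rw [qs_iff] at h1 h2 ⊢
    intro U
    have e : ((coprod.desc f' f'') ⁻¹ᵁ U.1 : Set ↥(X' ⨿ X'')) =
        (coprod.inl : X' ⟶ X' ⨿ X'') '' (f' ⁻¹' U.1) ∪
          (coprod.inr : X'' ⟶ X' ⨿ X'') '' (f'' ⁻¹' U.1) :=
      Groth.Agent.S4608.preimage_desc f' f'' U.1
    rw [e]
    have hC : IsClopen (Set.range (coprod.inl : X' ⟶ X' ⨿ X'')) :=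
      ⟨(Groth.Agent.S4608.isClosedEmbedding_inl X' X'').isClosed_range,
        (coprod.inl : X' ⟶ X' ⨿ X'').isOpenEmbedding.isOpen_range⟩
    refine isQuasiSeparated_union_of_clopen hC ?_ ?_ (Set.image_subset_range _ _) ?_
    · exact (h1 U).image_of_isEmbedding (coprod.inl : X' ⟶ X' ⨿ X'').isOpenEmbedding.isEmbedding
    · exact (h2 U).image_of_isEmbedding (coprod.inr : X'' ⟶ X' ⨿ X'').isOpenEmbedding.isEmbedding
    · rw [(isCompl_range_inl_inr X' X'').compl_eq]
      exact Set.image_subset_range _ _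

end Groth.Agent.S4609
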