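import Groth.Statements.S4611
import Mathlib

set_option autoImplicit false
universe u
open EGA41

namespace Groth.Agent.S4611

/-- A local algebra essentially of finite type over a ring A is A-isomorphic to a quotient of a
localization A[T_1, …, T_n]_q of a polynomial algebra at a prime ideal q; stated as the existence of
a surjective A-algebra map from such a localization. -/
theorem result {A B : Type u} [CommRing A]
    [CommRing B] [IsLocalRing B] [Algebra A B] [Algebra.EssFiniteType A B] :
    ∃ (n : ℕ) (q : Ideal (MvPolynomial (Fin n) A)) (_ : q.IsPrime)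
      (φ : Localization.AtPrime q →ₐ[A] B), Function.Surjective φ := by
  classical
  obtain ⟨σ, hσ⟩ := (Algebra.essFiniteType_iff (R := A) (S := B)).mp inferInstance
  let n := σ.card
  let g : Fin n → B := fun i => ((σ.equivFin).symm i : B)
  have hg : Set.range g = (σ : Set B) := by
    ext b
    constructor
    · rintro ⟨i, rfl⟩
      exact ((σ.equivFin).symm i).2
    · intro hb
      exact ⟨σ.equivFin ⟨b, hb⟩, by simp [g]⟩
  let π : MvPolynomial (Fin n) A →ₐ[A] B := MvPolynomial.aeval g
  have hπ : Algebra.adjoin A (σ : Set B) = π.range := by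
    rw [← hg]
    exact Algebra.adjoin_range_eq_range_aeval A g
  let q : Ideal (MvPolynomial (Fin n) A) := (IsLocalRing.maximalIdeal B).comap π
  have hq : q.IsPrime := Ideal.comap_isPrime _ _
  have hunit : ∀ y : q.primeCompl, IsUnit (π y) := by
    rintro ⟨y, hy⟩
    have : π y ∉ IsLocalRing.maximalIdeal B := fun h => hy (Ideal.mem_comap.mpr h)
    exact IsLocalRing.notMem_maximalIdeal.mp this
  refine ⟨n, q, hq, IsLocalization.liftAlgHom (M := q.primeCompl) (f := π) hunit, ?_⟩
  intro b
  obtain ⟨t, ht, htu, hbt⟩ := hσ b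
  rw [hπ] at ht hbt
  obtain ⟨y, rfl⟩ := ht
  obtain ⟨x, hx⟩ := hbt
  have hy : y ∈ q.primeCompl := by
    intro h
    have : π y ∈ IsLocalRing.maximalIdeal B := h
    exact (IsLocalRing.mem_maximalIdeal _).mp this htu
  refine ⟨IsLocalization.mk' (Localization.AtPrime q) x ⟨y, hy⟩, ?_⟩
  rw [IsLocalization.liftAlgHom_apply, IsLocalization.lift_mk'_spec]
  change π x = π y * b
  rw [mul_comm]
  exact hx

end Groth.Agent.S4611
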