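import Groth.Statements.S4613
import Mathlib

set_option autoImplicit false
universe u
open AlgebraicGeometry CategoryTheory
open EGA41

namespace Groth.Agent.S4613

theorem ker_fg_of_fp {A B : Type*} [CommRing A] [CommRing B] (f : A →+* B)
    (hs : Function.Surjective f) (hf : f.FinitePresentation) : (RingHom.ker f).FG := by
  algebraize [f]
  have := Algebra.FinitePresentation.ker_fG_of_surjective (Algebra.ofId A B) hs
  have e : f = (Algebra.ofId A B).toRingHom := by
    ext x; rfl
  rw [e]; exact this

/-- For a closed immersion j : X → Y: j is locally of finite presentation if and only if its ideal sheaf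
is of finite type, i.e. for every affine open U of Y the kernel of Γ(U, O_Y) → Γ(j⁻¹U, O_X) is
finitely generated. (An immersion with image closed in an open U reduces to this case.) -/
theorem result {X Y : Scheme.{u}} (j : X ⟶ Y)
    [IsClosedImmersion j] :
    LocallyOfFinitePresentation j ↔ ∀ U : Y.affineOpens, (RingHom.ker (j.app U).hom).FG := by
  constructor
  · intro h U
    have hV : IsAffineOpen (j ⁻¹ᵁ U.1) := U.2.preimage j
    have h1 : RingHom.FinitePresentation (j.app U.1).hom := by
      rw [Scheme.Hom.app_eq_appLE]
      exact HasRingHomProperty.appLE @LocallyOfFinitePresentation j h U ⟨_, hV⟩ le_rfl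
    have h2 : Function.Surjective (j.app U.1).hom := j.app_surjective U.1 U.2
    exact ker_fg_of_fp _ h2 h1
  · intro h
    rw [HasRingHomProperty.iff_appLE (P := @LocallyOfFinitePresentation)]
    intro U V e
    have hW : IsAffineOpen (j ⁻¹ᵁ U.1) := U.2.preimage j
    have h1 : RingHom.FinitePresentation (j.app U.1).hom :=
      RingHom.FinitePresentation.of_surjective _ (j.app_surjective U.1 U.2) (h U)
    have hid : LocallyOfFinitePresentation (𝟙 X) := inferInstance
    have h2 := HasRingHomProperty.appLE @LocallyOfFinitePresentation (𝟙 X) hid ⟨_, hW⟩ V e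
    have : j.appLE U.1 V.1 e = j.app U.1 ≫ Scheme.Hom.appLE (𝟙 X) (j ⁻¹ᵁ U.1) V.1 e := by
      simp only [Scheme.Hom.appLE, Scheme.Hom.id_app]
      erw [Category.id_comp]
      rfl
    rw [this, CommRingCat.hom_comp]
    exact h2.comp h1

end Groth.Agent.S4613
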