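import Groth.Statements.S4622
import Mathlib

set_option autoImplicit false
open CategoryTheory AlgebraicGeometry
universe u
open FBase

namespace Groth.Agent.S4622

theorem isUnivHomeo_of {X Y : Scheme.{u}} (g : X ⟶ Y) [IsIntegralHom g] [UniversallyInjective g]
    [Surjective g] : FlatMor.IsUnivHomeo g := by
  intro X' Y' i₁ i₂ g' h
  have h1 : IsIntegralHom g' := MorphismProperty.of_isPullback h.flip inferInstance
  have h2 : UniversallyInjective g' := MorphismProperty.of_isPullback h.flip inferInstance
  have h3 : Surjective g' := MorphismProperty.of_isPullback h.flip inferInstance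
  change IsHomeomorph g'
  rw [isHomeomorph_iff_continuous_isClosedMap_bijective]
  exact ⟨g'.continuous, g'.isClosedMap, g'.injective, g'.surjective⟩

theorem isUnivHomeo_SpecMap_of_isPurelyInseparable (k K : Type u) [Field k] [Field K] [Algebra k K]
    [IsPurelyInseparable k K] :
    FlatMor.IsUnivHomeo (Spec.map (CommRingCat.ofHom (algebraMap k K))) := by
  have : Algebra.IsAlgebraic k K := inferInstance
  have h1 : IsIntegralHom (Spec.map (CommRingCat.ofHom (algebraMap k K))) := by
    rw [IsIntegralHom.SpecMap_iff]
    exact algebraMap_isIntegral_iff.mpr inferInstance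
  have h3 : Surjective (Spec.map (CommRingCat.ofHom (algebraMap k K))) := by
    rw [surjective_iff]
    intro x
    have : Subsingleton (Spec (CommRingCat.of k)) := inferInstanceAs (Subsingleton (PrimeSpectrum k))
    have : Nonempty (Spec (CommRingCat.of K)) := inferInstanceAs (Nonempty (PrimeSpectrum K))
    exact ⟨Classical.arbitrary _, Subsingleton.elim _ _⟩
  have h2 : UniversallyInjective (Spec.map (CommRingCat.ofHom (algebraMap k K))) := by
    refine ((tfae_universallyInjective _).out 0 1).mpr ?_
    intro L _ g₁ g₂ hg
    simp only at hg
    obtain ⟨ψ₁, rfl⟩ := Spec.map_surjective g₁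
    obtain ⟨ψ₂, rfl⟩ := Spec.map_surjective g₂
    rw [← Spec.map_comp, ← Spec.map_comp] at hg
    have := Spec.map_injective hg
    congr 1
    ext1
    apply IsPurelyInseparable.injective_comp_algebraMap k K L
    exact congrArg CommRingCat.Hom.hom this
  exact isUnivHomeo_of _

/-- Let k be a separably closed field, k' an algebraic closure of k and X a scheme over k. Then the
projection X ⊗_k k' → X is a universal homeomorphism. -/
theorem result {k k' : Type u} [Field k] [IsSepClosed k] [Field k'] [Algebra k k']
    [IsAlgClosure k k'] {X : Scheme.{u}} (f : X ⟶ Spec (CommRingCat.of k)) :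
    FlatMor.IsUnivHomeo (FBase.bcπ f k') := by
  have : IsPurelyInseparable k k' := inferInstance
  have h := isUnivHomeo_SpecMap_of_isPurelyInseparable k k'
  have hs : (FlatMor.IsUnivHomeo : MorphismProperty Scheme.{u}).IsStableUnderBaseChange := by
    unfold FlatMor.IsUnivHomeo
    infer_instance
  exact MorphismProperty.pullback_fst (P := FlatMor.IsUnivHomeo) f _ h

end Groth.Agent.S4622
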