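import Groth.Statements.S4627
import Groth.Agent.Lib.GeomBC_helper4

set_option autoImplicit false
open CategoryTheory AlgebraicGeometry
universe u
open FBase

namespace Groth.Agent.S4627

/-- Let X be a scheme over a field k and K an extension field of k. Then X is geometrically integral
over k if and only if X ⊗_k K, with its structure of K-scheme, is geometrically integral over K. -/
theorem result {k K : Type u} [Field k] [Field K] [Algebra k K]
    {X : Scheme.{u}} (f : X ⟶ Spec (CommRingCat.of k)) :
    GeometricallyIntegral f ↔ GeometricallyIntegral (FBase.bcStr f K) := by
  rw [GeometricallyIntegral.eq_geometricallyReduced_inf_geometricallyIrreducible,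
    GeometricallyReduced.eq_geometrically, GeometricallyIrreducible.eq_geometrically,
    ← geometrically_inf]
  exact Groth.Agent.Lib.GeomBC_helper4.geometrically_iff_bcStr
    (Groth.Agent.Lib.GeomBC_helper4.descendsFlatSurj_inf
      Groth.Agent.Lib.GeomBC_helper4.descendsFlatSurj_reduced
      Groth.Agent.Lib.GeomBC_helper4.descendsFlatSurj_irreducible) f K

end Groth.Agent.S4627
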