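import Groth.Statements.S4629
import Mathlib
import Groth.Agent.Lib.GeomRedBC_helper9

set_option autoImplicit false
open CategoryTheory AlgebraicGeometry
universe u
open FBase

namespace Groth.Agent.S4629

open CategoryTheory.Limits in
/-- If X and Y are schemes over a field k which are both geometrically reduced over k, then X ×_k Y is
geometrically reduced over k. -/
theorem result {k : Type u} [Field k] {X Y : Scheme.{u}}
    (f : X ⟶ Spec (CommRingCat.of k)) (g : Y ⟶ Spec (CommRingCat.of k)) [GeometricallyReduced f]
    [GeometricallyReduced g] : GeometricallyReduced (pullback.fst f g ≫ f) := by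
  rw [geometricallyReduced_iff, geometrically_iff_of_isClosedUnderIsomorphisms]
  intro K _ y
  have hYK : IsReduced (Limits.pullback g y) :=
    pullback_of_geometrically (GeometricallyReduced.geometrically_isReduced (f := g)) K y
  have h1 : IsReduced (Limits.pullback f (Limits.pullback.fst g y ≫ g)) :=
    Groth.Agent.Lib.GeomRedBC.isReduced_pullback f (Limits.pullback.fst g y ≫ g)
  have h2 : IsReduced (Limits.pullback (Limits.pullback.snd f g ≫ g) y) :=
    isReduced_of_isOpenImmersion (Limits.pullbackAssoc f g g y).hom
  exact isReduced_of_isOpenImmersion
    (Limits.pullback.congrHom (Limits.pullback.condition (f := f) (g := g)) rfl).hom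

end Groth.Agent.S4629
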