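import Groth.Statements.S4636
import Mathlib
import Groth.Agent.Lib.AssPts_helper5

set_option autoImplicit false
open CategoryTheory AlgebraicGeometry
universe u
open AssSch

namespace Groth.Agent.S4636

/-- Let X be a locally Noetherian scheme, F a coherent O_X-module and x a point of X. Then x is a
maximal associated point of F (an associated point such that every associated point specialising to
x equals x) if and only if x is the generic point of an irreducible component of Supp F, i.e. F_x ≠
0 and every point y with F_y ≠ 0 that specialises to x equals x. -/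
theorem result {X : Scheme.{u}} [IsLocallyNoetherian X] (F : X.Modules)
    (hF : Coh.IsCoh F) (x : X) :
    (x ∈ AssSch.Ass F ∧ ∀ y ∈ AssSch.Ass F, y ⤳ x → y = x) ↔
      (Nontrivial ↑(F.presheaf.stalk x) ∧ ∀ y : X, Nontrivial ↑(F.presheaf.stalk y) → y ⤳ x → y = x) := by
  obtain ⟨hq, hft⟩ := hF
  haveI : F.IsQuasicoherent := hq
  haveI : SheafOfModules.IsFiniteType (R := X.ringCatSheaf) F := hft
  haveI : Module.Finite (X.presheaf.stalk x) (F.presheaf.stalk x) := FLFH8.finite_stalk F x
  have h1 := Groth.Agent.EmbS1.pointwise F x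
  have h2 := Groth.Agent.AssPts.pointwise_support F x
  have h3 := Groth.Agent.AssPts.ass_iff_support (X.presheaf.stalk x) (F.presheaf.stalk x)
  constructor
  · rintro ⟨hx, hall⟩
    have hx' : IsLocalRing.maximalIdeal (X.presheaf.stalk x) ∈
        associatedPrimes (X.presheaf.stalk x) (F.presheaf.stalk x) := hx
    have h4 := h1.mp (fun _ y hy hyx => hall y hy hyx) hx'
    obtain ⟨hnt, hs⟩ := h3.mp ⟨hx', h4⟩
    exact ⟨hnt, h2.mpr hs⟩
  · rintro ⟨hnt, hall⟩
    obtain ⟨hm, hq'⟩ := h3.mpr ⟨hnt, h2.mp hall⟩
    refine ⟨hm, fun y hy hyx => ?_⟩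
    exact h1.mpr (fun _ => hq') hm y hy hyx

end Groth.Agent.S4636
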