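import Groth.Statements.S4639
import Mathlib
import Groth.Agent.Lib.EmbDescent_helper9
import Groth.Agent.Lib.SchDescent_helper6

set_option autoImplicit false
open CategoryTheory AlgebraicGeometry
universe u
open FDesc

namespace Groth.Agent.S4639

/-- The property of being quasi-compact and universally bicontinuous (every base change is a
homeomorphism onto its image) descends along a surjective, flat and quasi-compact base change. -/
theorem result :
    MorphismProperty.DescendsAlong
      (MorphismProperty.universally (topologically (fun f => Topology.IsEmbedding f)) ⊓ @QuasiCompact : MorphismProperty Scheme.{u})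
      (@Surjective ⊓ @Flat ⊓ @QuasiCompact : MorphismProperty Scheme.{u}) := by
  refine ⟨fun {A X Y Z fst snd f g} sq hf hfst => ?_⟩
  obtain ⟨⟨hs, hfl⟩, hq⟩ := hf
  have hs' : Surjective f := hs
  have hfl' : Flat f := hfl
  have hq' : QuasiCompact f := hq
  have := Groth.Agent.Lib.SchDescent_helper6.descendsAlong_quasiCompact.{u}
  have hgq : QuasiCompact g :=
    MorphismProperty.of_isPullback_of_descendsAlong (P := @QuasiCompact)
      (Q := (@Surjective ⊓ @Flat ⊓ @QuasiCompact : MorphismProperty Scheme.{u})) sq
      ⟨⟨hs, hfl⟩, hq⟩ hfst.2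
  refine ⟨?_, hgq⟩
  intro YT T i₁ i₂ g' sqT
  -- g' : YT ⟶ T is the base change of g along i₂ : T ⟶ Z
  have hg'q : QuasiCompact g' := MorphismProperty.of_isPullback (P := @QuasiCompact) sqT.flip hgq
  let fT := Limits.pullback.fst i₂ f
  let prX := Limits.pullback.snd i₂ f
  have hfT1 : Flat fT := inferInstance
  have hfT2 : Surjective fT := inferInstance
  let fstP := Limits.pullback.fst g' fT
  let sndP := Limits.pullback.snd g' fT
  have hw : (sndP ≫ prX) ≫ f = (fstP ≫ i₁) ≫ g := by
    simp only [Category.assoc, sndP, prX, fstP, fT]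
    rw [← Limits.pullback.condition, ← Category.assoc, ← Limits.pullback.condition,
      Category.assoc, sqT.w]
  let q : Limits.pullback g' fT ⟶ A := sq.lift (sndP ≫ prX) (fstP ≫ i₁) hw
  have hq1 : q ≫ fst = sndP ≫ prX := sq.lift_fst _ _ _
  have hq2 : q ≫ snd = fstP ≫ i₁ := sq.lift_snd _ _ _
  have big : IsPullback (fstP ≫ i₁) sndP g (fT ≫ i₂) :=
    (IsPullback.of_hasPullback g' fT).paste_horiz sqT.flip
  have big' : IsPullback (q ≫ snd) sndP g (prX ≫ f) := by
    rw [hq2]
    have : prX ≫ f = fT ≫ i₂ := (Limits.pullback.condition (f := i₂) (g := f)).symm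
    rw [this]; exact big
  have left : IsPullback q sndP fst prX := IsPullback.of_right big' hq1 sq.flip
  have hemb : Topology.IsEmbedding sndP.base := hfst.1 q prX sndP left.flip
  exact Groth.Agent.Lib.EmbDescent.isEmbedding_of_flat_surjective g' fT hemb

end Groth.Agent.S4639
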