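import Groth.Statements.S4643
import Groth.Agent.Lib.ProdDim_helper8
import Groth.Agent.Lib.TopDimLoc_helper8
import Groth.Agent.Lib.DimGenFib_helper8

set_option autoImplicit false
open CategoryTheory AlgebraicGeometry
universe u
open FBase

namespace Groth.Agent.S4643

open CategoryTheory.Limits in
/-- Let X and Y be schemes locally of finite type over a field k. Then the dimension of X ×_k Y is the
sum of the dimensions of X and Y (Krull dimensions of the underlying spaces, valued in WithBot ℕ∞,
the empty scheme having dimension ⊥). -/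
theorem result {k : Type u} [Field k] {X Y : Scheme.{u}}
    (f : X ⟶ Spec (CommRingCat.of k)) (g : Y ⟶ Spec (CommRingCat.of k)) [LocallyOfFiniteType f] [LocallyOfFiniteType g] :
    topologicalKrullDim ↥(pullback f g) = topologicalKrullDim ↥X + topologicalKrullDim ↥Y := by
  apply le_antisymm
  · rw [ProdDimH8.topDim_le_iff]
    intro z hz
    rw [ProdDimH8.height_eq_add f g z hz, WithBot.coe_add]
    exact add_le_add (ProdDimH8.height_le_topDim _) (ProdDimH8.height_le_topDim _)
  · by_cases hX : Nonempty X; swap
    · haveI : IsEmpty X := not_nonempty_iff.mp hX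
      rw [TopDimLocH8.topDim_eq_bot_of_isEmpty X, WithBot.bot_add]; exact bot_le
    by_cases hY : Nonempty Y; swap
    · haveI : IsEmpty Y := not_nonempty_iff.mp hY
      rw [TopDimLocH8.topDim_eq_bot_of_isEmpty Y, WithBot.add_bot]; exact bot_le
    have key : ∀ (x : X) (y : Y), ∃ z : ↥(pullback f g),
        Order.height x + Order.height y ≤ Order.height z := by
      intro x y
      obtain ⟨x₀, hx₀, hx₀max⟩ := ProdDimH8.exists_max_ge x
      obtain ⟨y₀, hy₀, hy₀max⟩ := ProdDimH8.exists_max_ge y
      obtain ⟨z, hzmax, hz1, hz2⟩ := ProdDimH8.exists_max_over f g x₀ y₀ hx₀max hy₀max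
      refine ⟨z, ?_⟩
      rw [ProdDimH8.height_eq_add f g z hzmax, hz1, hz2]
      have h1 : x ≤ x₀ := hx₀
      have h2 : y ≤ y₀ := hy₀
      exact add_le_add (Order.height_mono h1) (Order.height_mono h2)
    haveI : Nonempty ↥(pullback f g) := by
      obtain ⟨x⟩ := hX
      obtain ⟨y⟩ := hY
      exact ⟨(key x y).choose⟩
    rw [Groth.Agent.DimGenFibH8.topDim_eq_krullDim X, Groth.Agent.DimGenFibH8.topDim_eq_krullDim Y,
      Groth.Agent.DimGenFibH8.topDim_eq_krullDim (pullback f g),
      Order.krullDim_eq_iSup_height_of_nonempty, Order.krullDim_eq_iSup_height_of_nonempty,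
      Order.krullDim_eq_iSup_height_of_nonempty, ← WithBot.coe_add, WithBot.coe_le_coe]
    apply ENat.iSup_add_iSup_le
    intro x y
    obtain ⟨z, hz⟩ := key x y
    exact le_trans hz (le_iSup (fun a : ↥(pullback f g) => Order.height a) z)

end Groth.Agent.S4643
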