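import Groth.Statements.S4644
import Groth.Agent.Lib.NwDense_helper8
import Groth.Agent.Lib.FlatFibDim_helper8
import Groth.Agent.Lib.HtTrdeg_helper8
import Groth.Agent.Lib.IrrDim2_helper8
import Groth.Agent.Lib.LocDimSch_helper8

set_option autoImplicit false
open CategoryTheory AlgebraicGeometry
universe u
open FBase

namespace Groth.Agent.S4644

/-- Let Y be a nonempty scheme locally of finite type over a field k whose irreducible components all
have the same dimension, and let Z be a locally closed subset of Y (the underlying set of a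
subscheme). Then Z is nowhere dense in Y if and only if dim Z < dim Y. (For Y empty the left side
holds and the right side fails, so Y is taken nonempty; dimensions are Krull dimensions of the
underlying spaces.) -/
theorem result {k : Type u} [Field k] {Y : Scheme.{u}} [Nonempty ↥Y]
    (g : Y ⟶ Spec (CommRingCat.of k)) [LocallyOfFiniteType g]
    (heq : ∀ T ∈ irreducibleComponents ↥Y, topologicalKrullDim ↥T = topologicalKrullDim ↥Y)
    (Z : Set ↥Y) (hZ : IsLocallyClosed Z) :
    IsNowhereDense Z ↔ topologicalKrullDim ↥Z < topologicalKrullDim ↥Y := by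
  letI ovY : Y.Over (Spec (CommRingCat.of k)) := ⟨g⟩
  haveI : LocallyOfFiniteType (Y ↘ Spec (CommRingCat.of k)) := ‹LocallyOfFiniteType g›
  haveI : IsLocallyNoetherian Y := LocallyOfFiniteType.isLocallyNoetherian g
  obtain ⟨y₀⟩ := ‹Nonempty ↥Y›
  obtain ⟨ξ₀, hT₀, -, hdim₀⟩ :=
    Groth.Agent.FlatFibDimH8.exists_generic_of_mem_irreducibleComponents Y
      (irreducibleComponent y₀) (irreducibleComponent_mem_irreducibleComponents y₀)
  obtain ⟨N, -, hN⟩ := Groth.Agent.HtTrdegH8.height_eq_trdeg k Y ξ₀
  have hdimY : topologicalKrullDim ↥Y = ((N : ℕ) : WithBot ℕ∞) := by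
    rw [← heq _ (irreducibleComponent_mem_irreducibleComponents y₀), hdim₀, hN]; rfl
  rw [hdimY]
  constructor
  · intro hnd
    apply NwDenseH8.dim_lt_of_forall_exists_gt Z N hdimY.le
    intro S hS
    obtain ⟨T, hTpre, hST, hTmax⟩ := exists_preirreducible (S : Set Y) S.isIrreducible.isPreirreducible
    have hTirr : IsIrreducible T := ⟨S.isIrreducible.nonempty.mono hST, hTpre⟩
    have hTcomp : T ∈ irreducibleComponents ↥Y := by
      refine ⟨hTirr, ?_⟩
      intro T' hT' hTT'
      exact (hTmax T' hT'.isPreirreducible hTT').le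
    let T' : TopologicalSpace.IrreducibleCloseds Y :=
      ⟨T, hTirr, isClosed_of_mem_irreducibleComponents T hTcomp⟩
    refine ⟨T', lt_of_le_of_ne hST ?_⟩
    intro hSeq
    obtain ⟨o, ho, hone, hoT⟩ := NwDenseH8.exists_open_subset_component Y T hTcomp
    have h1 : o ⊆ interior (closure Z) := by
      apply interior_maximal _ ho
      intro a ha
      apply hS
      rw [hSeq]
      exact hoT ha
    have h2 : interior (closure Z) = ∅ := hnd
    rw [h2] at h1
    obtain ⟨a, ha⟩ := hone
    exact h1 ha
  · intro hlt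
    by_contra hnd
    have hne : (interior (closure Z)).Nonempty := Set.nonempty_iff_ne_empty.mpr hnd
    obtain ⟨O, C, hO, hC, hZeq⟩ := hZ
    obtain ⟨u, hu⟩ := hne
    have hucl : u ∈ closure Z := interior_subset hu
    obtain ⟨v, hvU, hvZ⟩ := mem_closure_iff.mp hucl _ isOpen_interior hu
    have hclC : closure Z ⊆ C := closure_minimal (hZeq ▸ Set.inter_subset_right) hC
    let V : TopologicalSpace.Opens Y := ⟨interior (closure Z) ∩ O, isOpen_interior.inter hO⟩
    have hvV : v ∈ V := ⟨hvU, (hZeq ▸ hvZ : v ∈ O ∩ C).1⟩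
    have hVZ : (V : Set Y) ⊆ Z := by
      rintro x ⟨hx1, hx2⟩
      rw [hZeq]
      exact ⟨hx2, hclC (interior_subset hx1)⟩
    have h1 : FlatMor.localDim ↥Y v ≤ topologicalKrullDim ↥(V : Set Y) :=
      iInf_le (fun U : {U : TopologicalSpace.Opens Y // v ∈ U} =>
        topologicalKrullDim ↥(U.1 : Set Y)) ⟨V, hvV⟩
    have h2 : topologicalKrullDim ↥(V : Set Y) ≤ topologicalKrullDim ↥Z :=
      (Topology.IsEmbedding.inclusion hVZ).isInducing.topologicalKrullDim_le
    obtain ⟨ξ, a, r, hcomp, -, ha, hr, hdim⟩ := Groth.Agent.IrrDim2H8.irr_dim2 k Y v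
    have h3 := Groth.Agent.LocDimSchH8.localDim_scheme k Y v r a hr ha
    rw [heq _ hcomp, hdimY] at hdim
    have h4 : N = a + r := by exact_mod_cast hdim
    rw [h3] at h1
    have h5 := lt_of_le_of_lt (le_trans h1 h2) hlt
    have h6 : r + a < N := by exact_mod_cast h5
    omega

end Groth.Agent.S4644
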