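import Groth.Statements.S4650
import Mathlib.Topology.Sober
import Mathlib.AlgebraicGeometry.Properties

set_option autoImplicit false
open CategoryTheory AlgebraicGeometry
universe u
open FDesc

namespace Groth.Agent.S4650

/-- Let f : X → Y be a morphism of schemes along which generizations lift (this holds for flat,
quasi-flat or open morphisms). Then every irreducible component of X dominates an irreducible
component of Y: the closure of its image is an irreducible component of Y. -/
theorem result {X Y : Scheme.{u}} (f : X ⟶ Y)
    (hf : GeneralizingMap ⇑f) (T : Set ↥X) (hT : T ∈ irreducibleComponents ↥X) :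
    closure (⇑f '' T) ∈ irreducibleComponents ↥Y := by
  have hTirr : IsIrreducible T := hT.1
  have hTcl : IsClosed T := isClosed_of_mem_irreducibleComponents T hT
  have hξ : IsGenericPoint hTirr.genericPoint T := hTirr.isGenericPoint_genericPoint hTcl
  set ξ := hTirr.genericPoint with hξdef
  have hη : IsGenericPoint (f ξ) (closure (⇑f '' T)) := hξ.image f.continuous
  refine ⟨hη.isIrreducible, ?_⟩
  intro Z' hZ' hle
  -- generic point of closure Z'
  have hη' : IsGenericPoint hZ'.genericPoint (closure Z') := hZ'.isGenericPoint_genericPoint_closure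
  set η' := hZ'.genericPoint with hη'def
  have hspec : η' ⤳ f ξ := by
    rw [hη'.specializes_iff_mem]
    exact subset_closure (hle hη.mem)
  obtain ⟨ξ', hξ'ξ, hfξ'⟩ := hf hspec
  -- closure {ξ'} is irreducible and contains T
  have hirr' : IsIrreducible (closure ({ξ'} : Set ↥X)) := isIrreducible_singleton.closure
  have hTsub : T ⊆ closure ({ξ'} : Set ↥X) := by
    rw [← hξ.def]
    exact closure_minimal (Set.singleton_subset_iff.2 (specializes_iff_mem_closure.1 hξ'ξ))
      isClosed_closure
  have hsub' : closure ({ξ'} : Set ↥X) ⊆ T := hT.2 hirr' hTsub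
  have hξξ' : ξ ⤳ ξ' := by
    rw [hξ.specializes_iff_mem]
    exact hsub' (subset_closure (Set.mem_singleton ξ'))
  have hηη' : f ξ ⤳ η' := by
    rw [← hfξ']
    exact hξξ'.map f.continuous
  intro z hz
  have hz' : z ∈ closure Z' := subset_closure hz
  rw [← hη'.specializes_iff_mem] at hz'
  rw [← hη.specializes_iff_mem]
  exact hηη'.trans hz'

end Groth.Agent.S4650
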