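import Groth.Statements.S4651
import Groth.Agent.Lib.SubComp_helper8

set_option autoImplicit false
open CategoryTheory AlgebraicGeometry
universe u
open FDesc

namespace Groth.Agent.S4651

/-- Let Y be a scheme whose family of irreducible components is locally finite (every point has an open
neighbourhood meeting only finitely many irreducible components), and let f : X → Y be a morphism
along which generizations lift (e.g. flat, quasi-flat or open) such that every fibre f⁻¹(y) is a
finite set (e.g. f quasi-finite or radicial). Then the family of irreducible components of X is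
locally finite. -/
theorem result {X Y : Scheme.{u}} (f : X ⟶ Y)
    (hY : ∀ y : Y, ∃ U : Set ↥Y, IsOpen U ∧ y ∈ U ∧ {Z ∈ irreducibleComponents ↥Y | (Z ∩ U).Nonempty}.Finite)
    (hf : GeneralizingMap ⇑f) (hfin : ∀ y : Y, (⇑f ⁻¹' {y}).Finite) (x : X) :
    ∃ U : Set ↥X, IsOpen U ∧ x ∈ U ∧ {T ∈ irreducibleComponents ↥X | (T ∩ U).Nonempty}.Finite := by
  classical
  obtain ⟨U, hUo, hyU, hfin'⟩ := hY (f x)
  refine ⟨⇑f ⁻¹' U, hUo.preimage f.continuous, hyU, ?_⟩
  -- generic points
  have hgen : ∀ {T : Scheme.{u}} (S : Set T), S ∈ irreducibleComponents ↥T →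
      ∃ s : T, S = closure {s} ∧ ∀ s' : T, s' ⤳ s → s' = s := by
    intro T S hS
    obtain ⟨s, hs⟩ := QuasiSober.sober hS.1 (isClosed_of_mem_irreducibleComponents S hS)
    refine ⟨s, hs.def.symm, ?_⟩
    intro s' hs'
    have hsub : closure ({s} : Set T) ⊆ closure {s'} :=
      closure_minimal (Set.singleton_subset_iff.mpr (specializes_iff_mem_closure.mp hs'))
        isClosed_closure
    have h2 := hS.2 isIrreducible_singleton.closure (hs.def ▸ hsub)
    have h3 : s' ∈ S := h2 (subset_closure rfl)
    rw [← hs.def] at h3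
    exact ((specializes_iff_mem_closure.mpr h3).antisymm hs').eq.symm
  -- the finite set of generic points of components of Y meeting U
  let G : Set ↥Y := {η | closure {η} ∈ irreducibleComponents ↥Y ∧ η ∈ U}
  have hGfin : G.Finite := by
    have hinj : Set.InjOn (fun η : Y => closure ({η} : Set Y)) G := by
      intro a _ b _ hab
      have h1 : a ⤳ b := by
        rw [specializes_iff_mem_closure]
        have : closure ({a} : Set Y) = closure {b} := hab
        rw [this]; exact subset_closure rfl
      have h2 : b ⤳ a := by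
        rw [specializes_iff_mem_closure]
        have : closure ({a} : Set Y) = closure {b} := hab
        rw [← this]; exact subset_closure rfl
      exact (h1.antisymm h2).eq
    apply Set.Finite.of_finite_image _ hinj
    apply hfin'.subset
    rintro _ ⟨η, ⟨hη1, hη2⟩, rfl⟩
    exact ⟨hη1, ⟨η, subset_closure rfl, hη2⟩⟩
  have hPfin : (⇑f ⁻¹' G).Finite := by
    have : ⇑f ⁻¹' G = ⋃ η ∈ G, ⇑f ⁻¹' {η} := by
      ext t; simp
    rw [this]
    exact hGfin.biUnion (fun η _ => hfin η)
  have hfinal : ((fun t : X => closure ({t} : Set X)) '' (⇑f ⁻¹' G)).Finite := hPfin.image _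
  apply hfinal.subset
  rintro T ⟨hT, hTU⟩
  obtain ⟨t, hTt, htmax⟩ := hgen T hT
  refine ⟨t, ?_, hTt.symm⟩
  have htU : f t ∈ U := by
    obtain ⟨a, haT, haU⟩ := hTU
    rw [hTt] at haT
    have hsp : t ⤳ a := specializes_iff_mem_closure.mpr haT
    exact (hsp.map f.continuous).mem_open hUo haU
  refine ⟨?_, htU⟩
  rw [SubCompH8.closure_mem_irreducibleComponents_iff]
  intro y' hy'
  obtain ⟨t', ht', hft'⟩ := hf hy'
  rw [← hft', htmax t' ht']

end Groth.Agent.S4651
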