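import Groth.Statements.S4652
import Groth.Agent.Lib.FLF7_helper8

set_option autoImplicit false
open CategoryTheory AlgebraicGeometry
universe u
open FDesc

namespace Groth.Agent.S4652

/-- Let X be a scheme, F a finitely presented O_X-module and x a point of X. Then F_x is a flat module
over the local ring O_{X,x} if and only if x has an open neighbourhood U such that the restriction
of F to U is finite locally free. -/
theorem result {X : Scheme.{u}} (F : X.Modules) (hF : CohB1.IsFP F) (x : X) :
    FlatMod.IsFlatAt F x ↔ ∃ U : X.Opens, x ∈ U ∧ FlatMod.IsFinLocFree ((Scheme.Modules.pullback U.ι).obj F) := by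
  haveI : SheafOfModules.IsFinitePresentation (R := X.ringCatSheaf) F := hF
  haveI : F.IsQuasicoherent := inferInstance
  constructor
  · intro hflat
    haveI : Module.Flat (X.presheaf.stalk x) (F.presheaf.stalk x) := hflat
    haveI : Module.Finite (X.presheaf.stalk x) (F.presheaf.stalk x) := FLFH8.finite_stalk F x
    obtain ⟨U, n, hxU, ⟨α⟩⟩ := FLFH8.exists_free_nhd F x Module.free_of_flat_of_isLocalRing
    refine ⟨U, hxU, ?_⟩
    exact FLFH8.IsFinLocFree.of_iso ((Scheme.Modules.restrictFunctorIsoPullback U.ι).app F)
      (FLFH8.isFinLocFree_of_iso_free α)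
  · rintro ⟨U, hxU, h⟩
    have h' : FlatMod.IsFinLocFree (F.restrict U.ι) :=
      FLFH8.IsFinLocFree.of_iso ((Scheme.Modules.restrictFunctorIsoPullback U.ι).app F).symm h
    haveI := FLFH8.free_stalk_of_restrict_finLocFree F hxU h'
    exact (inferInstance : Module.Flat (X.presheaf.stalk x) (F.presheaf.stalk x))

end Groth.Agent.S4652
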