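import Groth.Statements.S4653
import Groth.Agent.Lib.QFlat5_helper8

set_option autoImplicit false
open CategoryTheory AlgebraicGeometry
universe u
open FDesc

namespace Groth.Agent.S4653

/-- Let f : X → Y be a morphism of schemes, F a quasi-coherent O_X-module of finite type which is flat
over Y, E a quasi-coherent O_Y-module of finite type, and x a point of X with image y. Then x is a
maximal point of the support of f^*E ⊗ F (a point of the support admitting no proper generization in
it) if and only if y is a maximal point of Supp E and x, viewed in the fibre f⁻¹(y), is a maximal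
point of the support of the restriction of F to that fibre. -/
theorem result {X Y : Scheme.{u}} (f : X ⟶ Y) (F : X.Modules) (hF : Coh.IsCoh F)
    (hfl : FlatMod.IsFlatOver f F) (E : Y.Modules) (hE : Coh.IsCoh E) (x : X) :
    (x ∈ CohB1.support (CohB1.tensorMod ((Scheme.Modules.pullback f).obj E) F) ∧
        ∀ z ∈ CohB1.support (CohB1.tensorMod ((Scheme.Modules.pullback f).obj E) F), z ⤳ x → z = x) ↔
      ((f x ∈ CohB1.support E ∧ ∀ w ∈ CohB1.support E, w ⤳ f x → w = f x) ∧
        (f.asFiber x ∈ CohB1.support ((Scheme.Modules.pullback (f.fiberι (f x))).obj F) ∧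
          ∀ z ∈ CohB1.support ((Scheme.Modules.pullback (f.fiberι (f x))).obj F), z ⤳ f.asFiber x → z = f.asFiber x)) := by
  obtain ⟨hFq, hFt⟩ := hF
  obtain ⟨hEq, hEt⟩ := hE
  haveI : F.IsQuasicoherent := hFq
  haveI : SheafOfModules.IsFiniteType (R := X.ringCatSheaf) F := hFt
  haveI : E.IsQuasicoherent := hEq
  haveI : SheafOfModules.IsFiniteType (R := Y.ringCatSheaf) E := hEt
  have hS : CohB1.support (CohB1.tensorMod ((Scheme.Modules.pullback f).obj E) F) =
      f ⁻¹' CohB1.support E ∩ CohB1.support F := by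
    rw [SuppTensH8.support_tensorMod _ _ (FpqcH8.isFiniteType_pullback f E) hFt,
      SuppTensH8.support_pullback f E]
  have hfib : CohB1.support ((Scheme.Modules.pullback (f.fiberι (f x))).obj F) =
      (f.fiberι (f x)) ⁻¹' CohB1.support F := SuppTensH8.support_pullback _ F
  rw [hS, hfib]
  have hemb := (f.fiberι (f x)).isEmbedding
  have hax : f.fiberι (f x) (f.asFiber x) = x := f.fiberι_asFiber x
  constructor
  · rintro ⟨⟨hxE, hxF⟩, hmax⟩
    refine ⟨⟨hxE, ?_⟩, ⟨?_, ?_⟩⟩
    · intro w hw hwx
      obtain ⟨x', hx'x, hx'F, rfl⟩ :=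
        QFlatH8.exists_generization_mem_support f F x (hfl x) hxF w hwx
      have := hmax x' ⟨hw, hx'F⟩ hx'x
      rw [this]
    · show f.fiberι (f x) (f.asFiber x) ∈ CohB1.support F
      rw [hax]; exact hxF
    · intro z hz hzx
      apply hemb.injective
      rw [hax]
      apply hmax
      · refine ⟨?_, hz⟩
        have h1 : f.fiberι (f x) z ∈ f ⁻¹' {f x} := by
          rw [← Scheme.Hom.range_fiberι]; exact ⟨z, rfl⟩
        have h2 : f (f.fiberι (f x) z) = f x := h1
        show f (f.fiberι (f x) z) ∈ CohB1.support E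
        rw [h2]
        exact hxE
      · have := hzx.map (f.fiberι (f x)).continuous
        rwa [hax] at this
  · rintro ⟨⟨hyE, hymax⟩, ⟨hxF, hxmax⟩⟩
    have hxF' : x ∈ CohB1.support F := by
      have : f.fiberι (f x) (f.asFiber x) ∈ CohB1.support F := hxF
      rwa [hax] at this
    refine ⟨⟨hyE, hxF'⟩, ?_⟩
    rintro z ⟨hzE, hzF⟩ hzx
    have hfz : f z = f x := hymax (f z) hzE (hzx.map f.continuous)
    have hzr : z ∈ Set.range (f.fiberι (f x)) := by
      rw [Scheme.Hom.range_fiberι]; exact hfz
    obtain ⟨z', rfl⟩ := hzr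
    have h1 : z' ⤳ f.asFiber x := by
      rw [← hemb.isInducing.specializes_iff, hax]; exact hzx
    rw [hxmax z' hzF h1, hax]

end Groth.Agent.S4653
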