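import Groth.Statements.S4654
import Groth.Agent.Lib.Flat23_helper8
import Groth.Agent.Lib.CycLen1_helper8

set_option autoImplicit false
open CategoryTheory AlgebraicGeometry
universe u
open FDesc

namespace Groth.Agent.S4654

/-- Let f : X → Y be a morphism of schemes and 0 → F' → F → F'' → 0 a short exact sequence of
quasi-coherent O_X-modules such that F'' is flat over Y. Then F is flat over Y if and only if F' is
flat over Y. -/
theorem result {X Y : Scheme.{u}} (f : X ⟶ Y) (S : ShortComplex X.Modules)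
    (hS : S.ShortExact) (h₁ : Coh.IsQCoh S.X₁) (h₂ : Coh.IsQCoh S.X₂) (h₃ : Coh.IsQCoh S.X₃)
    (hflat : FlatMod.IsFlatOver f S.X₃) :
    FlatMod.IsFlatOver f S.X₂ ↔ FlatMod.IsFlatOver f S.X₁ := by
  have key : ∀ x : X, FlatMod.IsFlatOverAt f S.X₂ x ↔ FlatMod.IsFlatOverAt f S.X₁ x := by
    intro x
    letI m1 := FlatMod.moduleStalkOver f S.X₁ x
    letI m2 := FlatMod.moduleStalkOver f S.X₂ x
    letI m3 := FlatMod.moduleStalkOver f S.X₃ x
    let iA : S.X₁.presheaf.stalk x →ₗ[Y.presheaf.stalk (f x)] S.X₂.presheaf.stalk x :=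
      { toFun := Algz.stalkMapₗ S.f x
        map_add' := fun a b => map_add _ a b
        map_smul' := fun a m => (Algz.stalkMapₗ S.f x).map_smul ((f.stalkMap x).hom a) m }
    let pA : S.X₂.presheaf.stalk x →ₗ[Y.presheaf.stalk (f x)] S.X₃.presheaf.stalk x :=
      { toFun := Algz.stalkMapₗ S.g x
        map_add' := fun a b => map_add _ a b
        map_smul' := fun a m => (Algz.stalkMapₗ S.g x).map_smul ((f.stalkMap x).hom a) m }
    haveI : Module.Flat (Y.presheaf.stalk (f x)) (S.X₃.presheaf.stalk x) := hflat x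
    exact Flat23H8.flat_iff_of_exact_of_flat iA pA (CycLenH8.stalk_injective S hS x)
      (CycLenH8.stalk_surjective S hS x) (CycLenH8.stalk_exact S hS x)
  exact ⟨fun h x => (key x).mp (h x), fun h x => (key x).mpr (h x)⟩

end Groth.Agent.S4654
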