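import Groth.Statements.S9350
import Groth.Agent.Lib.PB10_helper8
import Groth.Agent.Lib.FlatBC_helper8

set_option autoImplicit false
universe u
open FlatMod

namespace Groth.Agent.S9350

open AlgebraicGeometry CategoryTheory in
/-- Let h : X → Y be a morphism of S-schemes, q : Y → S, G a quasi-coherent O_Y-module and x ∈ X with h
flat at x. Flatness of G over S at h x is equivalent to flatness of h^*G over S at x. -/
theorem result {X Y S : Scheme.{u}} (h : X ⟶ Y) (q : Y ⟶ S)
    (G : Y.Modules) (hG : Coh.IsQCoh G) (x : X) (hflat : (h.stalkMap x).hom.Flat) :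
    FlatMod.IsFlatOverAt q G (h.base x) ↔ FlatMod.IsFlatOverAt (h ≫ q) ((Scheme.Modules.pullback h).obj G) x := by
  haveI : G.IsQuasicoherent := hG
  -- notation
  letI algRA : Algebra (S.presheaf.stalk ((h ≫ q).base x)) (Y.presheaf.stalk (h x)) :=
    (q.stalkMap (h x)).hom.toAlgebra
  letI algAB : Algebra (Y.presheaf.stalk (h x)) (X.presheaf.stalk x) :=
    (h.stalkMap x).hom.toAlgebra
  letI algRB : Algebra (S.presheaf.stalk ((h ≫ q).base x)) (X.presheaf.stalk x) :=
    ((h ≫ q).stalkMap x).hom.toAlgebra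
  haveI towRAB : IsScalarTower (S.presheaf.stalk ((h ≫ q).base x)) (Y.presheaf.stalk (h x))
      (X.presheaf.stalk x) := by
    refine IsScalarTower.of_algebraMap_eq fun r => ?_
    change ((h ≫ q).stalkMap x).hom r = (h.stalkMap x).hom ((q.stalkMap (h x)).hom r)
    rw [Scheme.Hom.stalkMap_comp]
    rfl
  letI mRM : Module (S.presheaf.stalk ((h ≫ q).base x)) (G.presheaf.stalk (h x)) :=
    FlatMod.moduleStalkOver q G (h x)
  haveI : IsScalarTower (S.presheaf.stalk ((h ≫ q).base x)) (Y.presheaf.stalk (h x))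
      (G.presheaf.stalk (h x)) := IsScalarTower.of_algebraMap_smul fun _ _ => rfl
  letI mAP : Module (Y.presheaf.stalk (h x))
      (((Scheme.Modules.pullback h).obj G).presheaf.stalk x) :=
    Module.compHom _ (h.stalkMap x).hom
  haveI : IsScalarTower (Y.presheaf.stalk (h x)) (X.presheaf.stalk x)
      (((Scheme.Modules.pullback h).obj G).presheaf.stalk x) :=
    IsScalarTower.of_algebraMap_smul fun _ _ => rfl
  letI mRP : Module (S.presheaf.stalk ((h ≫ q).base x))
      (((Scheme.Modules.pullback h).obj G).presheaf.stalk x) :=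
    FlatMod.moduleStalkOver (h ≫ q) ((Scheme.Modules.pullback h).obj G) x
  haveI : IsScalarTower (S.presheaf.stalk ((h ≫ q).base x)) (X.presheaf.stalk x)
      (((Scheme.Modules.pullback h).obj G).presheaf.stalk x) :=
    IsScalarTower.of_algebraMap_smul fun _ _ => rfl
  haveI : Module.Flat (Y.presheaf.stalk (h x)) (X.presheaf.stalk x) := hflat
  haveI : IsLocalHom (algebraMap (Y.presheaf.stalk (h x)) (X.presheaf.stalk x)) :=
    inferInstanceAs (IsLocalHom (h.stalkMap x).hom)
  haveI : Module.FaithfullyFlat (Y.presheaf.stalk (h x)) (X.presheaf.stalk x) :=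
    Module.FaithfullyFlat.of_flat_of_isLocalHom
  have hbc := PBH8.isBaseChange_cStalk h G x
  have hiff : Module.Flat (S.presheaf.stalk ((h ≫ q).base x))
      (((Scheme.Modules.pullback h).obj G).presheaf.stalk x) ↔
      Module.Flat (S.presheaf.stalk ((h ≫ q).base x))
        (TensorProduct (Y.presheaf.stalk (h x)) (X.presheaf.stalk x) (G.presheaf.stalk (h x))) :=
    (Module.Flat.equiv_iff (hbc.equiv.restrictScalars (S.presheaf.stalk ((h ≫ q).base x)))).symm
  change Module.Flat (S.presheaf.stalk ((h ≫ q).base x)) (G.presheaf.stalk (h x)) ↔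
    Module.Flat (S.presheaf.stalk ((h ≫ q).base x))
      (((Scheme.Modules.pullback h).obj G).presheaf.stalk x)
  rw [hiff]
  constructor
  · intro hfl
    exact PBH8.flat_tensor_of_flat
  · intro hfl
    exact PBH8.flat_of_flat_tensor hfl

end Groth.Agent.S9350
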