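import Groth.Statements.S4662
import Groth.Agent.Lib.ProdDim_helper8
import Groth.Agent.Lib.FlatFibDim_helper8
import Groth.Agent.Lib.IrrDim_helper8

set_option autoImplicit false
open CategoryTheory AlgebraicGeometry
universe u
open FBase

namespace Groth.Agent.S4662

open CategoryTheory.Limits in
/-- Let X and Y be integral schemes locally of finite type over a field k. Then every irreducible
component of X ×_k Y has dimension dim X + dim Y (Krull dimensions of the underlying spaces, valued
in WithBot ℕ∞). -/
theorem result {k : Type u} [Field k] {X Y : Scheme.{u}}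
    (f : X ⟶ Spec (CommRingCat.of k)) (g : Y ⟶ Spec (CommRingCat.of k)) [IsIntegral X] [IsIntegral Y]
    [LocallyOfFiniteType f] [LocallyOfFiniteType g] (Z : Set ↥(pullback f g))
    (hZ : Z ∈ irreducibleComponents ↥(pullback f g)) :
    topologicalKrullDim ↥Z = topologicalKrullDim ↥X + topologicalKrullDim ↥Y := by
  obtain ⟨z, hZz, hzmax, hdim⟩ :=
    Groth.Agent.FlatFibDimH8.exists_generic_of_mem_irreducibleComponents _ Z hZ
  have hmaxeq : ∀ z' : ↥(pullback f g), z' ⤳ z → z' = z := by
    intro t' h
    have h1 : z ≤ t' := h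
    have h2 : t' ≤ z := hzmax h1
    have h3 : z ⤳ t' := h2
    exact (h.antisymm h3).eq
  have hadd := ProdDimH8.height_eq_add f g z hmaxeq
  haveI := ProdDimH8.flat_fst f g
  haveI := ProdDimH8.flat_snd f g
  have hξ := ProdDimH8.isMax_map_of_generalizing _ (Flat.generalizingMap (pullback.fst f g)) z hmaxeq
  have hη := ProdDimH8.isMax_map_of_generalizing _ (Flat.generalizingMap (pullback.snd f g)) z hmaxeq
  have hgen : ∀ {T : Scheme.{u}} [IsIntegral T] (t : T), (∀ t' : T, t' ⤳ t → t' = t) →
      ∀ x' : T, t ⤳ x' := by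
    intro T _ t ht x'
    have h1 : genericPoint T ⤳ t := genericPoint_specializes t
    rw [← ht _ h1]
    exact genericPoint_specializes x'
  rw [hdim, hadd, Groth.Agent.IrrDimH8.topDim_eq_height_generic X _ (hgen _ hξ),
    Groth.Agent.IrrDimH8.topDim_eq_height_generic Y _ (hgen _ hη)]
  rfl

end Groth.Agent.S4662
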