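import Groth.Statements.S4663
import Groth.Agent.Lib.FieldGen_helper8
import Groth.Agent.Lib.SubComp_helper8

set_option autoImplicit false
open CategoryTheory AlgebraicGeometry
universe u
open FBase

namespace Groth.Agent.S4663

/-- Let X be a scheme locally of finite type over a field k, K an extension field of k, and Z an
irreducible closed subset of X. Then every irreducible component of the inverse image of Z in X ⊗_k
K has the same dimension as Z (Krull dimensions of the underlying topological spaces, valued in
WithBot ℕ∞). (In the published statement Z is a cycle associated to a quasi-coherent O_X-module,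
with its reduced subscheme structure, and the components are those of Z ⊗_k K; such cycles are
exactly the irreducible closed subsets of X, and Z ⊗_k K has the inverse image of Z as underlying
space.) -/
theorem result {k K : Type u} [Field k] [Field K] [Algebra k K]
    {X : Scheme.{u}} (f : X ⟶ Spec (CommRingCat.of k)) [LocallyOfFiniteType f]
    (Z : Set ↥X) (hZc : IsClosed Z) (hZi : IsIrreducible Z)
    (W : Set ↥(⇑(FBase.bcπ f K) ⁻¹' Z)) (hW : W ∈ irreducibleComponents ↥(⇑(FBase.bcπ f K) ⁻¹' Z)) :
    topologicalKrullDim ↥W = topologicalKrullDim ↥Z := by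
  have hP : IsClosed (⇑(FBase.bcπ f K) ⁻¹' Z) := hZc.preimage (FBase.bcπ f K).continuous
  obtain ⟨w, hwP, hWw, hmax⟩ := SubCompH8.exists_generic_of_component_closed _ hP W hW
  have sq : IsPullback (FBase.bcπ f K) (FBase.bcStr f K) f
      (Spec.map (CommRingCat.ofHom (algebraMap k K))) := IsPullback.of_hasPullback _ _
  obtain ⟨-, hdim⟩ := FieldGenH8.dim_closure_eq_of_isMax_preimage k K _ _ f _ sq Z hZc hZi w hwP
    (fun w₁ h1 h2 => hmax w₁ h1 h2)
  rw [← SubCompH8.dim_image_val, hWw, hdim]

end Groth.Agent.S4663
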