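import Groth.Statements.S4666
import Mathlib

set_option autoImplicit false
open CategoryTheory AlgebraicGeometry
universe u
open FDesc

namespace Groth.Agent.S4666

theorem stalkMap_injective_of_flat {X Y : Scheme.{u}} (f : X ⟶ Y) [Flat f] (x : X) :
    Function.Injective (f.stalkMap x).hom := by
  algebraize [(f.stalkMap x).hom]
  have : Module.FaithfullyFlat (Y.presheaf.stalk (f x)) (X.presheaf.stalk x) :=
    @Module.FaithfullyFlat.of_flat_of_isLocalHom _ _ _ _ _ _ _
      (Flat.stalkMap f x) (f.toLRSHom.prop x)
  exact ‹RingHom.FaithfullyFlat _›.injective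

theorem app_injective_of_flat_of_surjective {X Y : Scheme.{u}} (f : X ⟶ Y) [Flat f] [Surjective f]
    (U : Y.Opens) : Function.Injective (f.app U).hom := by
  rw [injective_iff_map_eq_zero]
  intro s hs
  refine TopCat.Presheaf.section_ext Y.sheaf U s 0 fun y hy => ?_
  obtain ⟨x, rfl⟩ := f.surjective y
  apply stalkMap_injective_of_flat f x
  have h1 := Scheme.Hom.germ_stalkMap_apply f U x hy s
  have h2 := Scheme.Hom.germ_stalkMap_apply f U x hy 0
  refine h1.trans (Eq.trans ?_ h2.symm)
  change (X.presheaf.germ (f ⁻¹ᵁ U) x hy) ((f.app U).hom s) = _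
  rw [hs, map_zero, map_zero]
  exact (map_zero _).symm

theorem ker_eq_bot_of_flat_of_surjective {X Y : Scheme.{u}} (f : X ⟶ Y) [Flat f] [Surjective f] :
    f.ker = ⊥ := by
  rw [eq_bot_iff, Scheme.IdealSheafData.le_def]
  intro U
  refine (f.ideal_ker_le U).trans ?_
  rw [(RingHom.injective_iff_ker_eq_bot _).mp (app_injective_of_flat_of_surjective f U.1)]
  exact bot_le

theorem map_comap_eq {X Y : Scheme.{u}} (f : X ⟶ Y) [Flat f] [Surjective f]
    (J : Y.IdealSheafData) : (J.comap f).map f = J := by
  have h1 : (J.comap f).map f = (Limits.pullback.fst f J.subschemeι ≫ f).ker :=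
    Scheme.IdealSheafData.map_ker _ _
  rw [h1, Limits.pullback.condition, ← Scheme.IdealSheafData.map_ker,
    ker_eq_bot_of_flat_of_surjective (Limits.pullback.snd f J.subschemeι),
    Scheme.IdealSheafData.map_bot, Scheme.IdealSheafData.ker_subschemeι]

/-- Let f : X → Y be a flat and surjective morphism of schemes. Then the map sending a quasi-coherent
sheaf of ideals of O_Y (a closed subscheme of Y) to its inverse image in X is injective. -/
theorem result {X Y : Scheme.{u}} (f : X ⟶ Y) [Flat f] [Surjective f] :
    Function.Injective fun J : Y.IdealSheafData => J.comap f := by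
  intro J₁ J₂ h
  simp only at h
  rw [← map_comap_eq f J₁, ← map_comap_eq f J₂, h]

end Groth.Agent.S4666
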