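import Groth.Statements.S4672
import Groth.Agent.Lib.ProdGen_helper8
import Groth.Agent.Lib.ProdDim_helper8
import Groth.Agent.Lib.SubComp_helper8

set_option autoImplicit false
open CategoryTheory AlgebraicGeometry
universe u
open FBase

namespace Groth.Agent.S4672

open CategoryTheory.Limits in
/-- Let X and Y be locally Noetherian schemes over a field k such that X ×_k Y is locally Noetherian,
with projections p and q. Then a subset W of X ×_k Y is an irreducible component of X ×_k Y if and
only if there exist an irreducible component X' of X and an irreducible component Y' of Y such that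
W is a maximal irreducible subset of p⁻¹(X') ∩ q⁻¹(Y') (that is, an irreducible component of the
space underlying X' ×_k Y' for the reduced structures on X' and Y'). -/
theorem result {k : Type u} [Field k] {X Y : Scheme.{u}}
    (f : X ⟶ Spec (CommRingCat.of k)) (g : Y ⟶ Spec (CommRingCat.of k)) [IsLocallyNoetherian X]
    [IsLocallyNoetherian Y] [IsLocallyNoetherian (pullback f g)] (W : Set ↥(pullback f g)) :
    W ∈ irreducibleComponents ↥(pullback f g) ↔
      ∃ X' ∈ irreducibleComponents ↥X, ∃ Y' ∈ irreducibleComponents ↥Y,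
        Maximal (fun V : Set ↥(pullback f g) => IsIrreducible V ∧ V ⊆ ⇑(pullback.fst f g) ⁻¹' X' ∩ ⇑(pullback.snd f g) ⁻¹' Y') W := by
  have sq : IsPullback (pullback.fst f g) (pullback.snd f g) f g := IsPullback.of_hasPullback f g
  haveI := ProdDimH8.flat_fst f g
  haveI := ProdDimH8.flat_snd f g
  -- generic points with maximality
  have hgen : ∀ {T : Scheme.{u}} (S : Set T), S ∈ irreducibleComponents ↥T →
      ∃ s : T, S = closure {s} ∧ ∀ s' : T, s' ⤳ s → s' = s := by
    intro T S hS
    obtain ⟨s, hs⟩ := QuasiSober.sober hS.1 (isClosed_of_mem_irreducibleComponents S hS)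
    exact ⟨s, hs.def.symm,
      (SubCompH8.closure_mem_irreducibleComponents_iff s).mp (hs.def.symm ▸ hS)⟩
  constructor
  · intro hW
    obtain ⟨w, hWw, hwmax⟩ := hgen W hW
    have hξ := ProdDimH8.isMax_map_of_generalizing _
      (Flat.generalizingMap (pullback.fst f g)) w hwmax
    have hη := ProdDimH8.isMax_map_of_generalizing _
      (Flat.generalizingMap (pullback.snd f g)) w hwmax
    refine ⟨closure {(pullback.fst f g) w},
      (SubCompH8.closure_mem_irreducibleComponents_iff _).mpr hξ,
      closure {(pullback.snd f g) w},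
      (SubCompH8.closure_mem_irreducibleComponents_iff _).mpr hη, ⟨hW.1, ?_⟩, ?_⟩
    · rw [hWw]
      apply closure_minimal
      · rw [Set.singleton_subset_iff]
        exact ⟨subset_closure rfl, subset_closure rfl⟩
      · exact (isClosed_closure.preimage (pullback.fst f g).continuous).inter
          (isClosed_closure.preimage (pullback.snd f g).continuous)
    · intro V hV hWV
      exact hW.2 hV.1 hWV
  · rintro ⟨X', hX', Y', hY', ⟨hWirr, hWQ⟩, hWmax⟩
    obtain ⟨ξ, hX'ξ, hξmax⟩ := hgen X' hX'
    obtain ⟨η, hY'η, hηmax⟩ := hgen Y' hY'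
    have hX'c : IsClosed X' := isClosed_of_mem_irreducibleComponents X' hX'
    have hY'c : IsClosed Y' := isClosed_of_mem_irreducibleComponents Y' hY'
    have hQc : IsClosed (⇑(pullback.fst f g) ⁻¹' X' ∩ ⇑(pullback.snd f g) ⁻¹' Y') :=
      (hX'c.preimage (pullback.fst f g).continuous).inter
        (hY'c.preimage (pullback.snd f g).continuous)
    -- W is closed
    have hWc : IsClosed W := by
      have h1 : closure W ≤ W := hWmax ⟨hWirr.closure, closure_minimal hWQ hQc⟩ subset_closure
      exact closure_subset_iff_isClosed.mp h1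
    obtain ⟨w, hw⟩ := QuasiSober.sober hWirr hWc
    have hwW : w ∈ W := hw.def ▸ subset_closure rfl
    have hwQ := hWQ hwW
    -- points of Q generalizing w are equal to w
    have hmaxQ : ∀ w₁ : ↥(pullback f g),
        w₁ ∈ ⇑(pullback.fst f g) ⁻¹' X' ∩ ⇑(pullback.snd f g) ⁻¹' Y' → w₁ ⤳ w → w₁ = w := by
      intro w₁ hw₁Q hw₁
      have hsub : W ⊆ closure {w₁} := by
        rw [← hw.def]
        exact closure_minimal (Set.singleton_subset_iff.mpr
          (specializes_iff_mem_closure.mp hw₁)) isClosed_closure
      have h2 : closure {w₁} ≤ W := hWmax ⟨isIrreducible_singleton.closure,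
        closure_minimal (Set.singleton_subset_iff.mpr hw₁Q) hQc⟩ hsub
      have h3 : w₁ ∈ W := h2 (subset_closure rfl)
      rw [← hw.def] at h3
      exact ((specializes_iff_mem_closure.mpr h3).antisymm hw₁).eq.symm
    have hpw : (pullback.fst f g) w = ξ := by
      have h1 : ξ ⤳ (pullback.fst f g) w := by
        rw [specializes_iff_mem_closure, ← hX'ξ]; exact hwQ.1
      obtain ⟨w₁, hw₁, hpw₁, hqw₁⟩ :=
        ProdGenH8.exists_generalization sq Y' hY'c w hwQ.2 ξ h1
      have hξX' : ξ ∈ X' := hX'ξ ▸ subset_closure rfl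
      have := hmaxQ w₁ ⟨by rw [Set.mem_preimage, hpw₁]; exact hξX', hqw₁⟩ hw₁
      rw [← this, hpw₁]
    have hqw : (pullback.snd f g) w = η := by
      have h1 : η ⤳ (pullback.snd f g) w := by
        rw [specializes_iff_mem_closure, ← hY'η]; exact hwQ.2
      obtain ⟨w₁, hw₁, hqw₁, hpw₁⟩ :=
        ProdGenH8.exists_generalization sq.flip X' hX'c w hwQ.1 η h1
      have hηY' : η ∈ Y' := hY'η ▸ subset_closure rfl
      have := hmaxQ w₁ ⟨hpw₁, by rw [Set.mem_preimage, hqw₁]; exact hηY'⟩ hw₁
      rw [← this, hqw₁]
    rw [← hw.def, SubCompH8.closure_mem_irreducibleComponents_iff]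
    intro v hv
    apply hmaxQ v _ hv
    constructor
    · have h1 : (pullback.fst f g) v ⤳ ξ := hpw ▸ hv.map (pullback.fst f g).continuous
      rw [Set.mem_preimage, hξmax _ h1, hX'ξ]
      exact subset_closure rfl
    · have h1 : (pullback.snd f g) v ⤳ η := hqw ▸ hv.map (pullback.snd f g).continuous
      rw [Set.mem_preimage, hηmax _ h1, hY'η]
      exact subset_closure rfl

end Groth.Agent.S4672
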