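import Groth.Statements.S4673
import Groth.Agent.Lib.FieldGen_helper8
import Groth.Agent.Lib.SubComp_helper8
import Groth.Agent.Lib.CodimZero_helper8
import Groth.Agent.Lib.Chev2_helper8

set_option autoImplicit false
open CategoryTheory AlgebraicGeometry
universe u
open FBase

namespace Groth.Agent.S4673

/-- Let X be a scheme locally of finite type over a field k and K an extension field of k. Then the set
of dimensions of the irreducible components of X ⊗_k K is equal to the set of dimensions of the
irreducible components of X (Krull dimensions of the underlying spaces, valued in WithBot ℕ∞). -/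
theorem result {k K : Type u} [Field k] [Field K] [Algebra k K]
    {X : Scheme.{u}} (f : X ⟶ Spec (CommRingCat.of k)) [LocallyOfFiniteType f] :
    (fun Z : Set ↥(FBase.bc f K) => topologicalKrullDim ↥Z) '' irreducibleComponents ↥(FBase.bc f K) =
      (fun Z : Set ↥X => topologicalKrullDim ↥Z) '' irreducibleComponents ↥X := by
  have sq : IsPullback (FBase.bcπ f K) (FBase.bcStr f K) f
      (Spec.map (CommRingCat.ofHom (algebraMap k K))) := IsPullback.of_hasPullback _ _
  have hmaxeq : ∀ {T : Scheme.{u}} (t : T), IsMax t → ∀ t' : T, t' ⤳ t → t' = t := by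
    intro T t ht t' h
    have h1 : t ≤ t' := h
    have h2 : t' ≤ t := ht h1
    have h3 : t ⤳ t' := h2
    exact (h.antisymm h3).eq
  ext d
  constructor
  · rintro ⟨W, hW, rfl⟩
    obtain ⟨w, hWw, hwmax, -⟩ :=
      Groth.Agent.FlatFibDimH8.exists_generic_of_mem_irreducibleComponents _ W hW
    refine ⟨irreducibleComponent ((FBase.bcπ f K) w),
      irreducibleComponent_mem_irreducibleComponents _, ?_⟩
    obtain ⟨-, hdim⟩ := FieldGenH8.dim_closure_eq_of_isMax_preimage k K _ _ f _ sq
      (irreducibleComponent ((FBase.bcπ f K) w)) isClosed_irreducibleComponent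
      isIrreducible_irreducibleComponent w mem_irreducibleComponent
      (fun w₁ _ h2 => hmaxeq w hwmax w₁ h2)
    show topologicalKrullDim _ = topologicalKrullDim _
    rw [hWw, hdim]
  · rintro ⟨C, hC, rfl⟩
    obtain ⟨ζ, hCζ, hζmax, -⟩ :=
      Groth.Agent.FlatFibDimH8.exists_generic_of_mem_irreducibleComponents _ C hC
    obtain ⟨w₀, hw₀, -⟩ := ChevH8.exists_preimage_of_isPullback sq ζ
      (IsLocalRing.closedPoint K) (Subsingleton.elim _ _)
    obtain ⟨w, hww₀, hwco⟩ := CodimZeroH8.exists_isMax_ge w₀
    have hwmax : IsMax w := Order.coheight_eq_zero.mp hwco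
    have h1 : (FBase.bcπ f K) w = ζ := by
      apply hmaxeq ζ hζmax
      rw [← hw₀]
      exact hww₀.map (FBase.bcπ f K).continuous
    have hζC : ζ ∈ C := hCζ ▸ subset_closure rfl
    obtain ⟨-, hdim⟩ := FieldGenH8.dim_closure_eq_of_isMax_preimage k K _ _ f _ sq
      C (isClosed_of_mem_irreducibleComponents C hC) hC.1 w (h1 ▸ hζC)
      (fun w₁ _ h2 => hmaxeq w hwmax w₁ h2)
    refine ⟨closure {w}, ?_, hdim⟩
    rw [SubCompH8.closure_mem_irreducibleComponents_iff]
    exact hmaxeq w hwmax

end Groth.Agent.S4673
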