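import Groth.Statements.S4675
import Mathlib.Tactic

set_option autoImplicit false
universe u v
open FDesc

namespace Groth.Agent.S4675

/-- Let B be a ring, not necessarily commutative, and V, W two left B-modules which are isomorphic. For
a B-linear map u : V → W the following are equivalent: every B-linear map V → W can be written
uniquely as u ∘ c with c a B-linear endomorphism of V (that is, u is a basis of Hom_B(V, W) for its
right module structure over End_B(V)); u is bijective. -/
theorem result {B : Type u} [Ring B] {V W : Type v} [AddCommGroup V] [AddCommGroup W]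
    [Module B V] [Module B W] (e : V ≃ₗ[B] W) (u : V →ₗ[B] W) :
    (∀ v : V →ₗ[B] W, ∃! c : V →ₗ[B] V, v = u ∘ₗ c) ↔ Function.Bijective u := by
  constructor
  · intro h
    obtain ⟨c₀, hc₀, -⟩ := h e.toLinearMap
    have hc₀' : ∀ x, e x = u (c₀ x) := fun x => by
      have := congrArg (fun g => g x) hc₀
      simpa using this
    have hsurj : Function.Surjective u := by
      intro w
      refine ⟨c₀ (e.symm w), ?_⟩
      rw [← hc₀', e.apply_symm_apply]
    refine ⟨?_, hsurj⟩
    -- π = id - c₀ ∘ e⁻¹ ∘ u satisfies u ∘ π = 0
    let π : V →ₗ[B] V := LinearMap.id - c₀ ∘ₗ e.symm.toLinearMap ∘ₗ u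
    have hπ : (0 : V →ₗ[B] W) = u ∘ₗ π := by
      ext x
      simp only [LinearMap.zero_apply, LinearMap.comp_apply, π, LinearMap.sub_apply,
        LinearMap.id_apply, map_sub, LinearEquiv.coe_coe]
      rw [← hc₀', e.apply_symm_apply, sub_self]
    have h0 : (0 : V →ₗ[B] W) = u ∘ₗ (0 : V →ₗ[B] V) := by simp
    obtain ⟨c, -, hcu⟩ := h 0
    have hπ0 : π = 0 := (hcu π hπ).trans (hcu 0 h0).symm
    rw [injective_iff_map_eq_zero]
    intro x hx
    have := congrArg (fun g => g x) hπ0
    simp only [π, LinearMap.sub_apply, LinearMap.id_apply, LinearMap.comp_apply, hx, map_zero,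
      sub_zero, LinearMap.zero_apply] at this
    exact this
  · intro hu v
    let eu : V ≃ₗ[B] W := LinearEquiv.ofBijective u hu
    refine ⟨eu.symm.toLinearMap ∘ₗ v, ?_, ?_⟩
    · ext x
      simp only [LinearMap.comp_apply, LinearEquiv.coe_coe]
      exact (eu.apply_symm_apply (v x)).symm
    · intro c hc
      ext x
      simp only [LinearMap.comp_apply, LinearEquiv.coe_coe, hc]
      exact (eu.symm_apply_apply (c x)).symm

end Groth.Agent.S4675
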