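import Groth.Statements.S4676
import Mathlib.RingTheory.Noetherian.Orzech
import Mathlib.Tactic

set_option autoImplicit false
universe u v
open FDesc

namespace Groth.Agent.S4676

/-- Let B be a ring, not necessarily commutative, and V, W two Noetherian left B-modules which are
isomorphic. For a B-linear map u : V → W the following are equivalent: every B-linear map V → W can
be written as u ∘ c for some B-linear endomorphism c of V (that is, u generates Hom_B(V, W) as a
right module over End_B(V)); u is bijective. -/
theorem result {B : Type u} [Ring B] {V W : Type v} [AddCommGroup V]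
    [AddCommGroup W] [Module B V] [Module B W] [IsNoetherian B V] [IsNoetherian B W] (e : V ≃ₗ[B] W) (u : V →ₗ[B] W) :
    (∀ v : V →ₗ[B] W, ∃ c : V →ₗ[B] V, v = u ∘ₗ c) ↔ Function.Bijective u := by
  constructor
  · intro h
    obtain ⟨c₀, hc₀⟩ := h e.toLinearMap
    have hc₀' : ∀ x, e x = u (c₀ x) := fun x => by
      have := congrArg (fun g => g x) hc₀
      simpa using this
    have hsurj : Function.Surjective u := by
      intro w
      refine ⟨c₀ (e.symm w), ?_⟩
      rw [← hc₀', e.apply_symm_apply]
    refine ⟨?_, hsurj⟩
    -- e⁻¹ ∘ u is a surjective endomorphism of the noetherian module V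
    have hs : Function.Surjective (e.symm.toLinearMap ∘ₗ u) := by
      intro x
      obtain ⟨y, hy⟩ := hsurj (e x)
      exact ⟨y, by simp [hy]⟩
    have hinj := IsNoetherian.injective_of_surjective_endomorphism (e.symm.toLinearMap ∘ₗ u) hs
    intro x y hxy
    apply hinj
    simp [hxy]
  · intro hu v
    let eu : V ≃ₗ[B] W := LinearEquiv.ofBijective u hu
    refine ⟨eu.symm.toLinearMap ∘ₗ v, ?_⟩
    ext x
    simp only [LinearMap.comp_apply, LinearEquiv.coe_coe]
    exact (eu.apply_symm_apply (v x)).symm

end Groth.Agent.S4676
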