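import Groth.Statements.S4689
import Groth.Agent.Lib.DimEq_helper8

set_option autoImplicit false
universe u
open EGA4

namespace Groth.Agent.S4689

/-- Let A be a universally catenary Noetherian local domain and B a domain containing A which is a
finite A-algebra. Then for every maximal ideal n of B the local ring B_n has the same Krull
dimension as A. -/
theorem result (A B : Type u) [CommRing A] [IsDomain A]
    [IsNoetherianRing A] [IsLocalRing A] (hA : CAlg.IsUniversallyCatenary A) [CommRing B] [IsDomain B]
    [Algebra A B] [FaithfulSMul A B] [Module.Finite A B] (n : Ideal B) [n.IsMaximal] :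
    ringKrullDim (Localization.AtPrime n) = ringKrullDim A := by
  classical
  haveI : Algebra.IsIntegral A B := Algebra.IsIntegral.of_finite A B
  set m : Ideal A := n.under A with hm
  haveI hmmax : m.IsMaximal := Ideal.isMaximal_comap_of_isIntegral_of_isMaximal n
  haveI : n.LiesOver m := ⟨rfl⟩
  haveI : Algebra.FiniteType A B := inferInstance
  obtain ⟨a, b, rq, rS, ha, hb, h1, h2, h3⟩ :=
    Groth.Agent.DimEqH8.height_add_trdeg_eq A hA B m n
  have hz1 : Algebra.trdeg A B = 0 := trdeg_eq_zero
  have hz2 : Algebra.trdeg (A ⧸ m) (B ⧸ n) = 0 := trdeg_eq_zero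
  rw [hz1] at h2
  rw [hz2] at h1
  have hrS : rS = 0 := by exact_mod_cast h2.symm
  have hrq : rq = 0 := by exact_mod_cast h1.symm
  have hab : a = b := by omega
  have hmeq : m = IsLocalRing.maximalIdeal A := IsLocalRing.eq_maximalIdeal hmmax
  rw [IsLocalization.AtPrime.ringKrullDim_eq_height n (Localization.AtPrime n), ha, hab, ← hb,
    hmeq, IsLocalRing.maximalIdeal_height_eq_ringKrullDim]

end Groth.Agent.S4689
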