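import Groth.Statements.S4690
import Groth.Agent.Lib.DimGenFib_helper8
import Groth.Agent.Lib.FibRes2_helper8

set_option autoImplicit false
universe u
open EGA4

namespace Groth.Agent.S4690

open AlgebraicGeometry CategoryTheory in
/-- Let Y be an irreducible locally Noetherian scheme, X an irreducible scheme and f : X → Y a dominant
morphism locally of finite type; let e be the dimension of the generic fibre of f. Then dim X ≤ dim
Y + e. If moreover every local ring of Y is universally catenary, the two sides are equal if and
only if dim Y equals the supremum of the dimensions of the local rings of Y at the points of f(X). -/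
theorem result {X Y : Scheme.{u}} (f : X ⟶ Y) [IsLocallyNoetherian Y]
    [LocallyOfFiniteType f] [IrreducibleSpace X] [IrreducibleSpace Y] (hf : DenseRange f.base) :
    topologicalKrullDim X ≤ topologicalKrullDim Y + topologicalKrullDim (f.fiber (genericPoint Y)) ∧
      ((∀ y : Y, CAlg.IsUniversallyCatenary (Y.presheaf.stalk y)) →
        (topologicalKrullDim X = topologicalKrullDim Y + topologicalKrullDim (f.fiber (genericPoint Y)) ↔
          topologicalKrullDim Y = ⨆ y ∈ Set.range f.base, ringKrullDim (Y.presheaf.stalk y))) := by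
  classical
  set ξ : X := genericPoint X with hξdef
  have hξ : ∀ x' : X, ξ ⤳ x' := fun x' => genericPoint_specializes x'
  have hgen : f.base ξ = genericPoint Y := by
    have h1 : IsGenericPoint (f.base ξ) (closure (f.base '' (Set.univ : Set X))) :=
      (genericPoint_spec X).image f.base.hom.continuous
    rw [Set.image_univ, hf.closure_range] at h1
    exact h1.eq (genericPoint_spec Y)
  have hη : ∀ y' : Y, f.base ξ ⤳ y' := fun y' => by
    rw [hgen]; exact genericPoint_specializes y'
  obtain ⟨E, hE⟩ := Groth.Agent.ResQuot2H8.exists_trdeg_nat f ξ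
  have hfib : topologicalKrullDim (f.fiber (f.base ξ)) = E :=
    Groth.Agent.FibRes2H8.dim_fiber_of_generic f ξ (fun x' _ => hξ x') E hE
  rw [← hgen, hfib]
  have hs : (⨆ y ∈ Set.range f.base, ringKrullDim (Y.presheaf.stalk y)) =
      ⨆ x : X, ringKrullDim (Y.presheaf.stalk (f.base x)) := iSup_range
  have hle := Groth.Agent.DimGenFibH8.dim_le_iSup_add f ξ hξ E hE
  have hsY : (⨆ x : X, ringKrullDim (Y.presheaf.stalk (f.base x))) ≤ topologicalKrullDim Y :=
    iSup_le fun x => Groth.Agent.DimGenFibH8.stalk_dim_le_topDim Y _
  refine ⟨hle.trans (by gcongr), ?_⟩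
  intro hcat
  rw [hs]
  have hge : (⨆ x : X, ringKrullDim (Y.presheaf.stalk (f.base x))) + (E : WithBot ℕ∞) ≤
      topologicalKrullDim X :=
    Groth.Agent.WBEH8.iSup_add_nat_le _ E _
      (fun x₀ => Groth.Agent.DimGenFibH8.add_le_dim f ξ hξ hη E hE hcat x₀)
  have heq : topologicalKrullDim X =
      (⨆ x : X, ringKrullDim (Y.presheaf.stalk (f.base x))) + (E : WithBot ℕ∞) :=
    le_antisymm hle hge
  constructor
  · intro h
    rw [heq] at h
    exact (Groth.Agent.WBEH8.add_nat_cancel _ _ E h).symm
  · intro h
    rw [heq, ← h]

end Groth.Agent.S4690
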