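import Groth.Statements.S4691
import Groth.Agent.Lib.FibStalkDim_helper8

set_option autoImplicit false
universe u
open EGA4

namespace Groth.Agent.S4691

open AlgebraicGeometry CategoryTheory in
/-- Let Y be a locally Noetherian scheme, f : X → Y a morphism locally of finite type and n a natural
number such that every fibre of f has dimension at most n. Then dim X ≤ dim Y + n. -/
theorem result {X Y : Scheme.{u}} (f : X ⟶ Y) [IsLocallyNoetherian Y]
    [LocallyOfFiniteType f] (n : ℕ) (h : ∀ y : Y, topologicalKrullDim (f.fiber y) ≤ n) :
    topologicalKrullDim X ≤ topologicalKrullDim Y + n := by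
  classical
  have hdim : ∀ (Z : Scheme.{u}), topologicalKrullDim Z = Order.krullDim Z := by
    intro Z
    unfold topologicalKrullDim
    exact Order.krullDim_eq_of_orderIso (irreducibleSetEquivPoints (α := Z))
  have hst : ∀ (Z : Scheme.{u}) (z : Z), ringKrullDim (Z.presheaf.stalk z) ≤ topologicalKrullDim Z := by
    intro Z z
    rw [AlgebraicGeometry.ringKrullDim_stalk_eq_coheight, hdim Z]
    exact Order.coheight_le_krullDim z
  rw [hdim X, Order.krullDim_eq_iSup_coheight]
  refine iSup_le fun x => ?_
  have h1 := Groth.Agent.FibStalkDimH8.main f x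
  rw [AlgebraicGeometry.ringKrullDim_stalk_eq_coheight] at h1
  refine h1.trans ?_
  refine add_le_add ?_ ?_
  · exact hst Y (f x)
  · exact (hst _ _).trans (h (f x))

end Groth.Agent.S4691
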