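import Groth.Statements.S4692
import Groth.Agent.Lib.DimGenFib_helper8
import Groth.Agent.Lib.FibRes2_helper8

set_option autoImplicit false
universe u
open EGA4

namespace Groth.Agent.S4692

open AlgebraicGeometry CategoryTheory in
/-- Let Y be a locally Noetherian scheme all of whose local rings are universally catenary, X an
irreducible scheme, f : X → Y a morphism locally of finite type and n a natural number. If every
fibre of f has dimension at least n then dim X ≥ dim Y + n; if every fibre has dimension exactly n
then dim X = dim Y + n. (The empty scheme has dimension ⊥, so either hypothesis forces f to be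
surjective.) -/
theorem result {X Y : Scheme.{u}} (f : X ⟶ Y) [IsLocallyNoetherian Y]
    [LocallyOfFiniteType f] [IrreducibleSpace X] (hY : ∀ y : Y, CAlg.IsUniversallyCatenary (Y.presheaf.stalk y))
    (n : ℕ) :
    ((∀ y : Y, (n : WithBot ℕ∞) ≤ topologicalKrullDim (f.fiber y)) →
        topologicalKrullDim Y + n ≤ topologicalKrullDim X) ∧
      ((∀ y : Y, topologicalKrullDim (f.fiber y) = n) →
        topologicalKrullDim X = topologicalKrullDim Y + n) := by
  classical
  set ξ : X := genericPoint X with hξdef
  have hξ : ∀ x' : X, ξ ⤳ x' := fun x' => genericPoint_specializes x'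
  obtain ⟨E, hE⟩ := Groth.Agent.ResQuot2H8.exists_trdeg_nat f ξ
  have hfib : topologicalKrullDim (f.fiber (f.base ξ)) = E :=
    Groth.Agent.FibRes2H8.dim_fiber_of_generic f ξ (fun x' _ => hξ x') E hE
  have key : (∀ y : Y, (n : WithBot ℕ∞) ≤ topologicalKrullDim (f.fiber y)) →
      topologicalKrullDim Y + n ≤ topologicalKrullDim X := by
    intro h
    have hsurj : ∀ y : Y, ∃ x : X, f.base x = y := by
      intro y
      by_contra hne
      haveI : IsEmpty (f.fiber y) := by
        constructor
        intro z
        exact hne ⟨_, Groth.Agent.FibRes2H8.fiberι_mem f y z⟩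
      have h1 := h y
      have h2 : topologicalKrullDim (f.fiber y) = ⊥ := by
        unfold topologicalKrullDim
        haveI : IsEmpty (TopologicalSpace.IrreducibleCloseds (f.fiber y)) := by
          constructor
          intro Z
          obtain ⟨z, _⟩ := Z.isIrreducible'.nonempty
          exact IsEmpty.false z
        exact Order.krullDim_eq_bot
      rw [h2, le_bot_iff] at h1
      exact absurd h1 (by simp)
    have hη : ∀ y' : Y, f.base ξ ⤳ y' := by
      intro y'
      obtain ⟨x', rfl⟩ := hsurj y'
      exact (hξ x').map f.base.hom.continuous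
    have hnE : n ≤ E := by
      have h1 := h (f.base ξ)
      rw [hfib] at h1
      exact_mod_cast h1
    rw [Groth.Agent.DimGenFibH8.topDim_eq_iSup_stalk Y]
    apply Groth.Agent.WBEH8.iSup_add_nat_le
    intro y
    obtain ⟨x₀, rfl⟩ := hsurj y
    refine le_trans ?_ (Groth.Agent.DimGenFibH8.add_le_dim f ξ hξ hη E hE hY x₀)
    gcongr
  refine ⟨key, ?_⟩
  intro h
  have hEn : E = n := by
    have h1 := h (f.base ξ)
    rw [hfib] at h1
    exact_mod_cast h1
  apply le_antisymm
  · have hle := Groth.Agent.DimGenFibH8.dim_le_iSup_add f ξ hξ E hE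
    refine hle.trans ?_
    rw [hEn]
    gcongr
    exact iSup_le fun x => Groth.Agent.DimGenFibH8.stalk_dim_le_topDim Y _
  · exact key (fun y => le_of_eq (h y).symm)

end Groth.Agent.S4692
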