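import Groth.Statements.S4695
import Groth.Agent.Lib.RegHomBC_helper3
import Groth.Agent.Lib.Serre2_helper5
-- import your own Groth.Agent.* helpers here

set_option autoImplicit false
universe u
open EGA4
set_option maxSynthPendingDepth 3

namespace Groth.Agent.S4695

open TensorProduct in
/-- Case of regular morphisms, affine form: let A → B be a homomorphism of Noetherian rings and A' a
Noetherian A-algebra, and assume that B or A' is of finite type over A. If A → B is regular then the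
base change A' → A' ⊗_A B is regular; the converse holds when A' is faithfully flat over A. -/
theorem result (A B A' : Type u) [CommRing A] [CommRing B] [CommRing A']
    [IsNoetherianRing A] [IsNoetherianRing B] [IsNoetherianRing A'] [Algebra A B] [Algebra A A']
    (hft : Algebra.FiniteType A B ∨ Algebra.FiniteType A A') :
    (CAlg.IsRegularHom A B → CAlg.IsRegularHom A' (A' ⊗[A] B)) ∧
      (Module.FaithfullyFlat A A' → CAlg.IsRegularHom A' (A' ⊗[A] B) → CAlg.IsRegularHom A B) := by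
  haveI hNoeth : IsNoetherianRing (A' ⊗[A] B) := by
    rcases hft with h | h
    · haveI := h
      exact Algebra.FiniteType.isNoetherianRing A' (A' ⊗[A] B)
    · haveI := h
      haveI : IsNoetherianRing (B ⊗[A] A') := Algebra.FiniteType.isNoetherianRing B (B ⊗[A] A')
      exact isNoetherianRing_of_ringEquiv _ (Algebra.TensorProduct.comm A B A').toRingEquiv
  refine ⟨fun h => ?_, fun hff h' => ?_⟩
  · letI : Algebra B (A' ⊗[A] B) := Algebra.TensorProduct.rightAlgebra
    haveI : Algebra.IsPushout A B A' (A' ⊗[A] B) := TensorProduct.isPushout'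
    exact Groth.Agent.Lib.RegHomBCH3.isRegularHom_of_isPushout A B A' (A' ⊗[A] B) h
      (fun p' _ => Groth.Agent.Lib.RegFlatH3.isNoetherianRing_fiber A' _ p')
  · haveI := hff
    haveI : Module.Flat A' (A' ⊗[A] B) := h'.1
    haveI : Module.Flat A (A' ⊗[A] B) := Module.Flat.trans A A' _
    haveI : Module.Flat A (B ⊗[A] A') :=
      Module.Flat.of_linearEquiv (Algebra.TensorProduct.comm A B A').toLinearEquiv
    have hflat : Module.Flat A B :=
      Groth.Agent.Lib.RegHomBCH3.flat_of_faithfullyFlat_comp A B (B ⊗[A] A')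
    apply Groth.Agent.Lib.RegFlatH3.isRegularHom_of_forall_finite A B hflat
      (fun p _ => Groth.Agent.Lib.RegFlatH3.isNoetherianRing_fiber A B p)
    intro p hp K _ _ _ _ hfin
    haveI := hfin
    haveI : IsNoetherianRing (p.Fiber B) := Groth.Agent.Lib.RegFlatH3.isNoetherianRing_fiber A B p
    haveI : IsNoetherianRing (K ⊗[A] B) :=
      Groth.Agent.Lib.RegFlatH3.isNoetherianRing_tensor_of_finite_residueField A B p K
    haveI : Nontrivial (A' ⊗[A] K) :=
      (Module.FaithfullyFlat.nontrivial_tensorProduct_iff_right A A').mpr inferInstance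
    obtain ⟨𝔐, h𝔐⟩ := Ideal.exists_maximal (A' ⊗[A] K)
    haveI := h𝔐
    letI : Field ((A' ⊗[A] K) ⧸ 𝔐) := Ideal.Quotient.field 𝔐
    letI algK : Algebra K (A' ⊗[A] K) := Algebra.TensorProduct.rightAlgebra
    haveI : IsScalarTower A K (A' ⊗[A] K) := Algebra.TensorProduct.right_isScalarTower
    haveI : IsScalarTower A K ((A' ⊗[A] K) ⧸ 𝔐) := IsScalarTower.of_algebraMap_eq (fun a => by
      rw [IsScalarTower.algebraMap_apply A (A' ⊗[A] K) ((A' ⊗[A] K) ⧸ 𝔐),
        IsScalarTower.algebraMap_apply K (A' ⊗[A] K) ((A' ⊗[A] K) ⧸ 𝔐),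
        ← IsScalarTower.algebraMap_apply A K (A' ⊗[A] K)])
    haveI : IsScalarTower A A' ((A' ⊗[A] K) ⧸ 𝔐) := IsScalarTower.of_algebraMap_eq (fun a => by
      rw [IsScalarTower.algebraMap_apply A (A' ⊗[A] K) ((A' ⊗[A] K) ⧸ 𝔐),
        IsScalarTower.algebraMap_apply A' (A' ⊗[A] K) ((A' ⊗[A] K) ⧸ 𝔐),
        ← IsScalarTower.algebraMap_apply A A' (A' ⊗[A] K)])
    -- essential finiteness
    haveI : Algebra.EssFiniteType A K := Algebra.EssFiniteType.comp A p.ResidueField K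
    haveI : Algebra.EssFiniteType A' (A' ⊗[A] K) := inferInstance
    haveI : Algebra.FiniteType (A' ⊗[A] K) ((A' ⊗[A] K) ⧸ 𝔐) :=
      Algebra.FiniteType.of_surjective (Ideal.Quotient.mkₐ (A' ⊗[A] K) 𝔐)
        Ideal.Quotient.mk_surjective
    haveI : Algebra.EssFiniteType A' ((A' ⊗[A] K) ⧸ 𝔐) :=
      Algebra.EssFiniteType.comp A' (A' ⊗[A] K) _
    haveI : IsNoetherianRing (((A' ⊗[A] K) ⧸ 𝔐) ⊗[A'] (A' ⊗[A] B)) :=
      Groth.Agent.Lib.RegHomBCH3.isNoetherianRing_tensor_of_essFiniteType_field A' (A' ⊗[A] B)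
        (fun p' _ => (h'.2 p').1) ((A' ⊗[A] K) ⧸ 𝔐)
    haveI : IsRegularRing (((A' ⊗[A] K) ⧸ 𝔐) ⊗[A'] (A' ⊗[A] B)) :=
      Groth.Agent.Lib.RegFlatH3.isRegularRing_tensor_of_isRegularHom A' (A' ⊗[A] B) h'
        ((A' ⊗[A] K) ⧸ 𝔐)
    let e1 := Algebra.TensorProduct.cancelBaseChange A A' ((A' ⊗[A] K) ⧸ 𝔐)
      ((A' ⊗[A] K) ⧸ 𝔐) B
    let e2 := Algebra.TensorProduct.cancelBaseChange A K ((A' ⊗[A] K) ⧸ 𝔐)
      ((A' ⊗[A] K) ⧸ 𝔐) B
    let e3 := Algebra.TensorProduct.comm K ((A' ⊗[A] K) ⧸ 𝔐) (K ⊗[A] B)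
    haveI : IsRegularRing ((K ⊗[A] B) ⊗[K] ((A' ⊗[A] K) ⧸ 𝔐)) :=
      IsRegularRing.of_ringEquiv
        (e1.toRingEquiv.trans (e2.symm.toRingEquiv.trans e3.toRingEquiv))
    exact Groth.Agent.Serre.regularRing_of_faithfullyFlat (K ⊗[A] B)
      ((K ⊗[A] B) ⊗[K] ((A' ⊗[A] K) ⧸ 𝔐))

end Groth.Agent.S4695
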