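import Groth.Statements.S4702
import Groth.Agent.Lib.GenFibDim_helper8
import Groth.Agent.Lib.FibGen2_helper8
import Groth.Agent.Lib.DimGenFib_helper8
import Groth.Agent.Lib.FlatFibDim_helper8
import Groth.Agent.Lib.LocDimSch_helper8
import Groth.Agent.Lib.FibRes2_helper8

set_option autoImplicit false
universe u
open EGA4

namespace Groth.Agent.S4702

open AlgebraicGeometry CategoryTheory in
/-- Let Y be an irreducible locally Noetherian scheme of dimension 1, X an irreducible scheme and f : X
→ Y a dominant morphism of finite type. Then for every point y in the image of f, every irreducible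
component of the fibre of f at y has dimension equal to the dimension of the generic fibre. -/
theorem result {X Y : Scheme.{u}} (f : X ⟶ Y) [IsLocallyNoetherian Y]
    [IrreducibleSpace Y] [IrreducibleSpace X] (hY : topologicalKrullDim Y = 1) [LocallyOfFiniteType f]
    [QuasiCompact f] (hf : DenseRange f.base) (y : Y) (hy : y ∈ Set.range f.base)
    (Z : Set ↥(f.fiber y)) (hZ : Z ∈ irreducibleComponents ↥(f.fiber y)) :
    topologicalKrullDim Z = topologicalKrullDim ↥(f.fiber (genericPoint Y)) := by
  haveI : IsDominant f := ⟨hf⟩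
  obtain ⟨n0, h1, h2, -⟩ := GenFibDimH8.exists_nat f
  have hall : ∀ z : X, FlatMor.fibreDimAt f z = n0 := by
    intro z
    apply le_antisymm
    · apply FibGenH8.fibreDimAt_le_of_codim_le_one f z n0
      · have h3 : ((Order.coheight (f z) : ℕ∞) : WithBot ℕ∞) ≤ Order.krullDim Y :=
          Order.coheight_le_krullDim _
        rw [← Groth.Agent.DimGenFibH8.topDim_eq_krullDim, hY] at h3
        exact_mod_cast h3
      · intro ξ hξ _
        have h4 : ξ = genericPoint X := (hξ _ (genericPoint_specializes ξ)).symm
        rw [h4, h2]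
    · rw [← h2]
      exact FibGenH8.fibreDimAt_le_of_specializes f (genericPoint_specializes z)
  obtain ⟨z', hZz', hz'max, hdim⟩ :=
    Groth.Agent.FlatFibDimH8.exists_generic_of_mem_irreducibleComponents (f.fiber y) Z hZ
  rw [h1, hdim]
  letI ov : (f.fiber y).Over (Spec (CommRingCat.of (Y.residueField y))) :=
    ⟨f.fiberToSpecResidueField y⟩
  haveI : LocallyOfFiniteType ((f.fiber y) ↘ Spec (CommRingCat.of (Y.residueField y))) :=
    Groth.Agent.FibRes2H8.lft_fiber f y
  obtain ⟨N, hN, hhN⟩ := Groth.Agent.HtTrdegH8.height_eq_trdeg (Y.residueField y) (f.fiber y) z'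
  have hb : ringKrullDim ((f.fiber y).presheaf.stalk z') = ((0 : ℕ) : WithBot ℕ∞) := by
    rw [AlgebraicGeometry.ringKrullDim_stalk_eq_coheight, Order.coheight_eq_zero.mpr hz'max]
    rfl
  have h3 := Groth.Agent.LocDimSchH8.localDim_scheme (Y.residueField y) (f.fiber y) z' N 0 hN hb
  rw [FieldExtH8.localDim_fiber_eq_fibreDimAt f y z' _ rfl, hall] at h3
  rw [hhN]
  have h4 : n0 = N + 0 := by exact_mod_cast h3
  rw [h4]
  rfl

end Groth.Agent.S4702
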