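import Groth.Statements.S4713
import Groth.Agent.S4712

set_option autoImplicit false
universe u
open EGA4

namespace Groth.Agent.S4713

open AlgebraicGeometry in
/-- In a locally Noetherian scheme X, every nonempty closed subset contains a closed point of X. -/
theorem result (X : Scheme.{u}) [IsLocallyNoetherian X]
    (Z : Set X) (hZ : IsClosed Z) (hne : Z.Nonempty) : ∃ x ∈ Z, IsClosed ({x} : Set X) := by
  classical
  obtain ⟨z, hz⟩ := hne
  obtain ⟨_, ⟨U, hU, rfl⟩, hzU, -⟩ :=
    X.isBasis_affineOpens.exists_subset_of_mem_open (Set.mem_univ z) isOpen_univ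
  haveI : CompactSpace ↥U := isCompact_iff_compactSpace.mp hU.isCompact
  have hZ' : IsClosed (Subtype.val ⁻¹' Z : Set ↥U) := hZ.preimage continuous_subtype_val
  obtain ⟨x', hx'Z, hx'cl⟩ := hZ'.exists_closed_singleton ⟨⟨z, hzU⟩, hz⟩
  set x : X := x'.1 with hxdef
  have hxZ : x ∈ Z := hx'Z
  have hxU : x ∈ U := x'.2
  have hUx : ∀ w ∈ (U : Set X), w ∈ closure ({x} : Set X) → w = x := by
    intro w hwU hw
    have h1 : (⟨w, hwU⟩ : ↥U) ∈ closure ({x'} : Set ↥U) := by
      rw [closure_subtype, Set.image_singleton]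
      exact hw
    rw [hx'cl.closure_eq, Set.mem_singleton_iff] at h1
    exact congrArg Subtype.val h1
  have hloc : IsLocallyClosed ({x} : Set X) := by
    refine ⟨U, closure {x}, U.2, isClosed_closure, ?_⟩
    ext w
    constructor
    · intro hw
      rw [Set.mem_singleton_iff] at hw
      subst hw
      exact ⟨hxU, subset_closure rfl⟩
    · rintro ⟨hwU, hw⟩
      exact hUx w hwU hw
  by_cases hcl : IsClosed ({x} : Set X)
  · exact ⟨x, hxZ, hcl⟩
  · have : ∃ y ∈ closure ({x} : Set X), y ≠ x := by
      by_contra hno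
      push Not at hno
      apply hcl
      rw [← closure_subset_iff_isClosed]
      intro y hy
      exact hno y hy
    obtain ⟨y, hy, hyx⟩ := this
    refine ⟨y, ?_, (Groth.Agent.S4712.result X x hloc).2 y hy hyx⟩
    exact (closure_minimal (Set.singleton_subset_iff.mpr hxZ) hZ) hy

end Groth.Agent.S4713
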