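import Groth.Statements.S4720
import Groth.Agent.Lib.ZClosed2_helper3
-- import your own Groth.Agent.* helpers here

set_option autoImplicit false
universe u
open EGA4


namespace Groth.Agent.S4720

/-- Let A be a Noetherian ring, Z a subset of Spec A stable under specialization, M an A-module and N a
submodule of M. If M is Z-pure, so is N; conversely, if N and M/N are Z-pure, so is M. -/
theorem result (A : Type u) [CommRing A] [IsNoetherianRing A]
    (Z : Set (PrimeSpectrum A)) (hZ : StableUnderSpecialization Z) (M : Type u) [AddCommGroup M] [Module A M]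
    (N : Submodule A M) :
    (EGA4.IsPureAlong Z M → EGA4.IsPureAlong Z ↥N) ∧
      (EGA4.IsPureAlong Z ↥N → EGA4.IsPureAlong Z (M ⧸ N) → EGA4.IsPureAlong Z M) := by
  rw [Groth.Agent.Lib.ZClosed2H3.isPureAlong_iff_torsion, Groth.Agent.Lib.ZClosed2H3.isPureAlong_iff_torsion,
    Groth.Agent.Lib.ZClosed2H3.isPureAlong_iff_torsion]
  constructor
  · intro h J hJ x hx
    apply Subtype.ext
    apply h J hJ (x : M)
    intro r hr
    have := congrArg Subtype.val (hx r hr)
    simpa using this
  · intro hN hQ J hJ x hx
    have h1 : (Submodule.Quotient.mk x : M ⧸ N) = 0 := by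
      apply hQ J hJ
      intro r hr
      rw [← Submodule.Quotient.mk_smul, hx r hr, Submodule.Quotient.mk_zero]
    rw [Submodule.Quotient.mk_eq_zero] at h1
    have h2 : (⟨x, h1⟩ : ↥N) = 0 := by
      apply hN J hJ
      intro r hr
      apply Subtype.ext
      simpa using hx r hr
    exact congrArg Subtype.val h2

end Groth.Agent.S4720
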