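import Groth.Statements.S4728
import Groth.Agent.Lib.GeomNormal2_helper3
-- import your own Groth.Agent.* helpers here

set_option autoImplicit false
universe u
open EGA4
open TensorProduct

namespace Groth.Agent.S4728

/-- Let A be a Noetherian local domain of dimension 1 with maximal ideal m, A' a Noetherian local ring
and A → A' a local homomorphism which is normal (flat, with geometrically normal fibres). Then the
ideal m A' of A' is prime and the local ring of A' at m A' has dimension 1. (The remaining clauses
of the published item, describing A' inside its total ring of fractions, are not restated.) -/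
theorem result (A A' : Type u) [CommRing A] [CommRing A']
    [IsNoetherianRing A] [IsNoetherianRing A'] [IsLocalRing A] [IsLocalRing A'] [IsDomain A]
    (hA : ringKrullDim A = 1) [Algebra A A'] [IsLocalHom (algebraMap A A')] (h : EGA4.IsNormalHom A A') :
    ((IsLocalRing.maximalIdeal A).map (algebraMap A A')).IsPrime ∧
      ((IsLocalRing.maximalIdeal A).map (algebraMap A A')).height = 1 := by
  classical
  set m := IsLocalRing.maximalIdeal A with hm
  haveI : Module.Flat A A' := h.1
  have hfib : EGA4.IsNormalRing (m.Fiber A') :=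
    Groth.Agent.Lib.NorComplTH3.isNormalRing_of_isGeomNormal _ _ (h.2 m)
  let e0 : (A ⧸ m) ≃ₐ[A] m.ResidueField :=
    AlgEquiv.ofBijective (IsScalarTower.toAlgHom A (A ⧸ m) m.ResidueField)
      m.bijective_algebraMap_quotient_residueField
  let e1 : (A' ⧸ m.map (algebraMap A A')) ≃ₐ[A'] A' ⊗[A] (A ⧸ m) :=
    Algebra.TensorProduct.quotIdealMapEquivTensorQuot A' m
  let e2 : A' ⊗[A] (A ⧸ m) ≃ₐ[A] A' ⊗[A] m.ResidueField :=
    Algebra.TensorProduct.congr AlgEquiv.refl e0
  let e3 : A' ⊗[A] m.ResidueField ≃ₐ[A] m.ResidueField ⊗[A] A' :=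
    Algebra.TensorProduct.comm A A' m.ResidueField
  let e : (A' ⧸ m.map (algebraMap A A')) ≃+* m.Fiber A' :=
    e1.toRingEquiv.trans (e2.toRingEquiv.trans e3.toRingEquiv)
  have hquot : EGA4.IsNormalRing (A' ⧸ m.map (algebraMap A A')) :=
    Groth.Agent.Lib.GeomNormalH3.isNormalRing_of_ringEquiv e.symm hfib
  have hle : m.map (algebraMap A A') ≤ IsLocalRing.maximalIdeal A' :=
    ((IsLocalRing.local_hom_TFAE (algebraMap A A')).out 0 2 rfl rfl).mp inferInstance
  haveI : Nontrivial (A' ⧸ m.map (algebraMap A A')) :=
    Ideal.Quotient.nontrivial_iff.mpr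
      (ne_top_of_le_ne_top (Ideal.IsMaximal.ne_top (IsLocalRing.maximalIdeal.isMaximal A')) hle)
  haveI : IsLocalRing (A' ⧸ m.map (algebraMap A A')) :=
    IsLocalRing.of_surjective' (Ideal.Quotient.mk _) Ideal.Quotient.mk_surjective
  have hdom : IsDomain (A' ⧸ m.map (algebraMap A A')) := by
    obtain ⟨hd, -⟩ := hquot (IsLocalRing.maximalIdeal _)
    haveI := hd
    have hinj : Function.Injective (algebraMap (A' ⧸ m.map (algebraMap A A'))
        (Localization.AtPrime (IsLocalRing.maximalIdeal (A' ⧸ m.map (algebraMap A A'))))) := by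
      apply IsLocalization.injective _ (M := (IsLocalRing.maximalIdeal _).primeCompl)
      intro s hs
      exact IsUnit.mem_nonZeroDivisors (IsLocalRing.notMem_maximalIdeal.mp hs)
    exact hinj.isDomain _
  haveI hprime : (m.map (algebraMap A A')).IsPrime := (Ideal.Quotient.isDomain_iff_prime _).mp hdom
  refine ⟨hprime, ?_⟩
  haveI : (m.map (algebraMap A A')).LiesOver m := by
    refine ⟨?_⟩
    have h1 : m ≤ (m.map (algebraMap A A')).under A := Ideal.le_comap_map
    exact (IsLocalRing.maximalIdeal.isMaximal A).eq_of_le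
      (Ideal.IsPrime.ne_top inferInstance) h1
  have h2 := Ideal.height_eq_height_add_of_liesOver_of_hasGoingDown m (m.map (algebraMap A A'))
  rw [Ideal.map_quotient_self, Ideal.height_bot, add_zero] at h2
  rw [h2]
  have h3 : (m.height : WithBot ℕ∞) = 1 := by
    rw [hm, IsLocalRing.maximalIdeal_height_eq_ringKrullDim, hA]
  exact_mod_cast h3

end Groth.Agent.S4728
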