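import Groth.Statements.S4729
import Mathlib

set_option autoImplicit false
universe u
open EGA4

namespace Groth.Agent.S4729

section aux

variable {A : Type u} [CommRing A] {M : Type u} [AddCommGroup M] [Module A M]

theorem mk_eq_zero_imp {S : Submonoid A} {m : M} {s : S}
    (h : LocalizedModule.mk m s = (0 : LocalizedModule S M)) : ∃ u : S, u • m = 0 := by
  rw [← LocalizedModule.zero_mk (1 : S), LocalizedModule.mk_eq] at h
  obtain ⟨u, hu⟩ := h
  refine ⟨u, ?_⟩
  rw [one_smul, smul_zero, smul_zero] at hu
  exact hu

/-- The comparison map on primes. -/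
noncomputable def gmap (p q : Ideal A) [p.IsPrime] [q.IsPrime] (hpq : p ≤ q)
    (P' : PrimeSpectrum (Localization.AtPrime p)) : PrimeSpectrum (Localization.AtPrime q) :=
  ⟨(P'.asIdeal.comap (algebraMap A (Localization.AtPrime p))).map
      (algebraMap A (Localization.AtPrime q)),
    IsLocalization.isPrime_of_isPrime_disjoint q.primeCompl _ _ (Ideal.comap_isPrime _ _) (by
      rw [Set.disjoint_left]
      intro a ha ha'
      have h1 : Disjoint (p.primeCompl : Set A)
          (P'.asIdeal.comap (algebraMap A (Localization.AtPrime p)) : Set A) :=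
        ((IsLocalization.isPrime_iff_isPrime_disjoint p.primeCompl (Localization.AtPrime p)
          P'.asIdeal).mp P'.2).2
      have h2 : a ∉ p := fun hap => ha (hpq hap)
      exact Set.disjoint_left.mp h1 h2 ha')⟩

theorem comap_gmap (p q : Ideal A) [p.IsPrime] [q.IsPrime] (hpq : p ≤ q)
    (P' : PrimeSpectrum (Localization.AtPrime p)) :
    (gmap p q hpq P').asIdeal.comap (algebraMap A (Localization.AtPrime q)) =
      P'.asIdeal.comap (algebraMap A (Localization.AtPrime p)) := by
  refine IsLocalization.under_map_of_isPrime_disjoint q.primeCompl _ (Ideal.comap_isPrime _ _) ?_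
  rw [Set.disjoint_left]
  intro a ha ha'
  have h1 : Disjoint (p.primeCompl : Set A)
      (P'.asIdeal.comap (algebraMap A (Localization.AtPrime p)) : Set A) :=
    ((IsLocalization.isPrime_iff_isPrime_disjoint p.primeCompl (Localization.AtPrime p)
      P'.asIdeal).mp P'.2).2
  have h2 : a ∉ p := fun hap => ha (hpq hap)
  exact Set.disjoint_left.mp h1 h2 ha'

theorem gmap_strictMono (p q : Ideal A) [p.IsPrime] [q.IsPrime] (hpq : p ≤ q) :
    StrictMono (gmap p q hpq) := by
  intro P₁ P₂ h
  have h1 : P₁.asIdeal.comap (algebraMap A (Localization.AtPrime p)) <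
      P₂.asIdeal.comap (algebraMap A (Localization.AtPrime p)) := by
    refine lt_of_le_of_ne (Ideal.comap_mono h.le) ?_
    intro heq
    have := congrArg (Ideal.map (algebraMap A (Localization.AtPrime p))) heq
    rw [IsLocalization.map_under p.primeCompl, IsLocalization.map_under p.primeCompl] at this
    exact h.ne (PrimeSpectrum.ext this)
  refine lt_of_le_of_ne (Ideal.map_mono h1.le) ?_
  intro heq
  have h2 := congrArg (fun I : PrimeSpectrum (Localization.AtPrime q) =>
    Ideal.comap (algebraMap A (Localization.AtPrime q)) I.asIdeal) heq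
  have e1 := comap_gmap p q hpq P₁
  have e2 := comap_gmap p q hpq P₂
  simp only [gmap] at e1 e2 h2
  rw [e1, e2] at h2
  exact h1.ne h2

theorem gmap_mem_support (p q : Ideal A) [p.IsPrime] [q.IsPrime] (hpq : p ≤ q)
    (P' : PrimeSpectrum (Localization.AtPrime p))
    (hP' : P' ∈ Module.support (Localization.AtPrime p) (LocalizedModule p.primeCompl M)) :
    gmap p q hpq P' ∈ Module.support (Localization.AtPrime q) (LocalizedModule q.primeCompl M) := by
  rw [Module.mem_support_iff'] at hP' ⊢
  obtain ⟨x, hx⟩ := hP'
  induction x using LocalizedModule.induction_on with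
  | h m s =>
  refine ⟨LocalizedModule.mk m 1, ?_⟩
  intro r hr hzero
  obtain ⟨⟨a, t⟩, rfl⟩ := IsLocalization.mk'_surjective q.primeCompl r
  simp only at hr hzero
  rw [← Localization.mk_eq_mk', LocalizedModule.mk_smul_mk] at hzero
  obtain ⟨u, hu⟩ := mk_eq_zero_imp hzero
  have hua : algebraMap A (Localization.AtPrime p) ((u : A) * a) ∉ P'.asIdeal := by
    intro hmem
    have hmem' : (u : A) * a ∈ P'.asIdeal.comap (algebraMap A (Localization.AtPrime p)) := hmem
    have hprime : (P'.asIdeal.comap (algebraMap A (Localization.AtPrime p))).IsPrime :=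
      Ideal.comap_isPrime _ _
    rcases hprime.mem_or_mem hmem' with h | h
    · have h1 : Disjoint (p.primeCompl : Set A)
          (P'.asIdeal.comap (algebraMap A (Localization.AtPrime p)) : Set A) :=
        ((IsLocalization.isPrime_iff_isPrime_disjoint p.primeCompl (Localization.AtPrime p)
          P'.asIdeal).mp P'.2).2
      have h2 : (u : A) ∉ p := fun hap => u.2 (hpq hap)
      exact Set.disjoint_left.mp h1 h2 h
    · apply hr
      change IsLocalization.mk' (Localization.AtPrime q) a t ∈
        (P'.asIdeal.comap (algebraMap A (Localization.AtPrime p))).map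
          (algebraMap A (Localization.AtPrime q))
      rw [IsLocalization.mk'_eq_mul_mk'_one]
      exact Ideal.mul_mem_right _ _ (Ideal.mem_map_of_mem _ h)
  apply hx _ hua
  rw [← Localization.mk_one_eq_algebraMap, LocalizedModule.mk_smul_mk, one_mul, mul_smul]
  have : (u : A) • a • m = 0 := hu
  rw [this, LocalizedModule.zero_mk]

end aux

/-- Let A be a commutative ring, M a finite A-module and p ⊆ q prime ideals of A (so that p is a
generization of q). Then the dimension of the A_p-module M_p is at most the dimension of the
A_q-module M_q. -/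
theorem result (A : Type u) [CommRing A] (M : Type u) [AddCommGroup M] [Module A M]
    [Module.Finite A M] (p q : Ideal A) [p.IsPrime] [q.IsPrime] (hpq : p ≤ q) :
    Module.supportDim (Localization.AtPrime p) (LocalizedModule p.primeCompl M) ≤
      Module.supportDim (Localization.AtPrime q) (LocalizedModule q.primeCompl M) := by
  unfold Module.supportDim
  let g : ↥(Module.support (Localization.AtPrime p) (LocalizedModule p.primeCompl M)) →
      ↥(Module.support (Localization.AtPrime q) (LocalizedModule q.primeCompl M)) :=
    fun P' => ⟨gmap p q hpq P'.1, gmap_mem_support p q hpq P'.1 P'.2⟩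
  refine Order.krullDim_le_of_strictMono g ?_
  intro P₁ P₂ h
  exact gmap_strictMono p q hpq h

end Groth.Agent.S4729
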