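import Groth.Statements.S4730
import Mathlib
import Groth.Agent.S4688

set_option autoImplicit false
universe u
open EGA4

namespace Groth.Agent.S4730

section aux

open Polynomial

variable {A : Type u} [CommRing A] (p : Ideal A) [p.IsPrime] (q : Ideal A[X]) [q.IsPrime]
  [q.LiesOver p]

/-- evaluation at the class of `X`. -/
noncomputable def φ : (A ⧸ p)[X] →ₐ[A ⧸ p] (A[X] ⧸ q) :=
  Polynomial.aeval (Ideal.Quotient.mk q (X : A[X]))

theorem φ_map (f : A[X]) : φ p q (f.map (Ideal.Quotient.mk p)) = Ideal.Quotient.mk q f := by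
  induction f using Polynomial.induction_on' with
  | add f g hf hg => rw [Polynomial.map_add, map_add, hf, hg, map_add]
  | monomial n a =>
    rw [Polynomial.map_monomial, φ, Polynomial.aeval_monomial,
      Ideal.Quotient.algebraMap_mk_of_liesOver, ← map_pow, ← map_mul, Polynomial.algebraMap_eq,
      Polynomial.C_mul_X_pow_eq_monomial]

theorem φ_surjective : Function.Surjective (φ p q) := by
  intro y
  obtain ⟨f, rfl⟩ := Ideal.Quotient.mk_surjective y
  exact ⟨_, φ_map p q f⟩

theorem isAlgebraic_of_ne (hne : q ≠ p.map (C : A →+* A[X])) :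
    Algebra.IsAlgebraic (A ⧸ p) (A[X] ⧸ q) := by
  have hle : p.map (C : A →+* A[X]) ≤ q := by
    rw [Ideal.LiesOver.over (P := q) (p := p)]
    exact Ideal.map_comap_le
  obtain ⟨f, hfq, hfp⟩ : ∃ f ∈ q, f ∉ p.map (C : A →+* A[X]) := by
    by_contra h
    push Not at h
    exact hne (le_antisymm h hle)
  have hX : IsAlgebraic (A ⧸ p) (Ideal.Quotient.mk q (X : A[X])) := by
    refine ⟨f.map (Ideal.Quotient.mk p), ?_, ?_⟩
    · intro h0
      apply hfp
      rw [Ideal.mem_map_C_iff]
      intro n
      have := congrArg (fun g => Polynomial.coeff g n) h0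
      simp only [Polynomial.coeff_map, Polynomial.coeff_zero] at this
      exact Ideal.Quotient.eq_zero_iff_mem.mp this
    · have := φ_map p q f
      rw [φ] at this
      rw [this]
      exact Ideal.Quotient.eq_zero_iff_mem.mpr hfq
  have htop : Algebra.adjoin (A ⧸ p) {Ideal.Quotient.mk q (X : A[X])} = ⊤ := by
    rw [Algebra.adjoin_singleton_eq_range_aeval, AlgHom.range_eq_top]
    exact φ_surjective p q
  refine ⟨fun y => ?_⟩
  have hy : y ∈ Algebra.adjoin (A ⧸ p) {Ideal.Quotient.mk q (X : A[X])} := by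
    rw [htop]; exact Algebra.mem_top
  exact (Algebra.isAlgebraic_adjoin_singleton_iff.mpr hX) y hy

theorem φ_injective_of_eq (heq : q = p.map (C : A →+* A[X])) : Function.Injective (φ p q) := by
  rw [injective_iff_map_eq_zero]
  intro g hg
  obtain ⟨f, rfl⟩ := Polynomial.map_surjective (Ideal.Quotient.mk p) Ideal.Quotient.mk_surjective g
  rw [φ_map, Ideal.Quotient.eq_zero_iff_mem, heq, Ideal.mem_map_C_iff] at hg
  ext n
  rw [Polynomial.coeff_map, Polynomial.coeff_zero]
  exact Ideal.Quotient.eq_zero_iff_mem.mpr (hg n)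

end aux

open Polynomial in
/-- Let A be a Noetherian ring, p a prime ideal of A and q a prime ideal of the polynomial ring A[T]
lying over p. Then ht(p) + 1 = ht(q) + deg.tr_{κ(p)} κ(q), the transcendence degree being that of
the domain A[T]/q over the domain A/p. -/
theorem result (A : Type u) [CommRing A] [IsNoetherianRing A]
    (p : Ideal A) [p.IsPrime] (q : Ideal A[X]) [q.IsPrime] [q.LiesOver p] :
    (p.height : Cardinal.{u}) + 1 = (q.height : Cardinal.{u}) + Algebra.trdeg (A ⧸ p) (A[X] ⧸ q) := by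
  have h88 := Groth.Agent.S4688.result A p q
  by_cases hq : q = p.map (Polynomial.C : A →+* A[X])
  · have e : (A ⧸ p)[X] ≃ₐ[A ⧸ p] (A[X] ⧸ q) :=
      AlgEquiv.ofBijective (φ p q) ⟨φ_injective_of_eq p q hq, φ_surjective p q⟩
    have ht : Algebra.trdeg (A ⧸ p) (A[X] ⧸ q) = 1 := by
      rw [← e.trdeg_eq]
      exact Polynomial.trdeg_of_isDomain
    rw [ht]
    have hh : q.height = p.height := by rw [hq]; exact h88.1
    rw [hh]
  · have := isAlgebraic_of_ne p q hq
    rw [_root_.trdeg_eq_zero, add_zero, h88.2 hq]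
    simp

end Groth.Agent.S4730
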