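import Groth.Statements.S4733
import Groth.Agent.Lib.RegFlat2_helper3
import Groth.Agent.Lib.FSGeomRed_helper3
import Groth.Agent.Lib.Serre2_helper5
-- import your own Groth.Agent.* helpers here

set_option autoImplicit false
universe u
open EGA4
set_option maxSynthPendingDepth 3

namespace Groth.Agent.S4733

open TensorProduct in
/-- For the property 'regular' (affine form): let k be a field, S a Noetherian k-algebra and k' an
extension field of k such that S is of finite type over k or k' is essentially of finite type over
k; let q' be a prime of S ⊗_k k' and q its contraction to S. If (S ⊗_k k')_{q'} is a regular local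
ring then so is S_q; conversely, if k' is separable over k (geometrically reduced) and S_q is
regular, then (S ⊗_k k')_{q'} is regular. -/
theorem result (k S k' : Type u) [Field k] [CommRing S] [Algebra k S]
    [IsNoetherianRing S] [Field k'] [Algebra k k'] (hft : Algebra.FiniteType k S ∨ Algebra.EssFiniteType k k')
    [IsNoetherianRing (S ⊗[k] k')] (q' : Ideal (S ⊗[k] k')) [q'.IsPrime] :
    (IsRegularLocalRing (Localization.AtPrime q') →
        IsRegularLocalRing (Localization.AtPrime (q'.comap (algebraMap S (S ⊗[k] k'))))) ∧
      (Algebra.IsGeometricallyReduced k k' →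
        IsRegularLocalRing (Localization.AtPrime (q'.comap (algebraMap S (S ⊗[k] k')))) →
          IsRegularLocalRing (Localization.AtPrime q')) := by
  set q : Ideal S := q'.under S with hq
  haveI : q'.LiesOver q := ⟨rfl⟩
  haveI : IsNoetherianRing (Localization.AtPrime q) :=
    IsLocalization.isNoetherianRing q.primeCompl _ inferInstance
  haveI : IsNoetherianRing (Localization.AtPrime q') :=
    IsLocalization.isNoetherianRing q'.primeCompl _ inferInstance
  refine ⟨fun hreg => ?_, fun hsep hreg => ?_⟩
  · letI := Localization.AtPrime.algebraOfLiesOver q q'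
    haveI := hreg
    exact Groth.Agent.Serre.regular_of_flat_local (Localization.AtPrime q) (Localization.AtPrime q')
  · haveI : Algebra.FormallySmooth k k' :=
      (Groth.Agent.Lib.FSGRH3.formallySmooth_iff_isGeometricallyReduced k k').mpr hsep
    haveI : IsRegularLocalRing (Localization.AtPrime (q'.under S)) := hreg
    haveI : IsNoetherianRing (q.Fiber (S ⊗[k] k')) :=
      Groth.Agent.Lib.RegFlatH3.isNoetherianRing_fiber S (S ⊗[k] k') q
    haveI : Algebra.FormallySmooth q.ResidueField (q.Fiber (S ⊗[k] k')) :=
      inferInstanceAs (Algebra.FormallySmooth q.ResidueField (q.ResidueField ⊗[S] (S ⊗[k] k')))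
    haveI : IsRegularRing ((q'.under S).Fiber (S ⊗[k] k')) :=
      Groth.Agent.Lib.SmoothRegHomH3.isRegularRing_of_formallySmooth_field q.ResidueField _
    exact Groth.Agent.Lib.RegFlat2H3.isRegularLocalRing_of_flat_of_fiber_at S (S ⊗[k] k') q'

end Groth.Agent.S4733
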