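import Groth.Statements.S4737
import Groth.Agent.Lib.GRingCore_helper3
-- import your own Groth.Agent.* helpers here

set_option autoImplicit false
universe u
open EGA4


namespace Groth.Agent.S4737

/-- The property 'geometrically regular', case of a local ring: let A be a Noetherian local ring whose
completion map A → Â is regular (the formal fibres of A are geometrically regular). Then for every
proper ideal I of A, the completion map of the local ring A/I is regular. -/
theorem result (A : Type u) [CommRing A] [IsNoetherianRing A] [IsLocalRing A]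
    (hA : CAlg.IsRegularHom A (EGA4.Cpl A)) (I : Ideal A) [Nontrivial (A ⧸ I)] :
    CAlg.IsRegularHom (A ⧸ I) (EGA4.Cpl (A ⧸ I)) := by
  obtain ⟨hloc, hnoeth, hcompl, hff, hlh, hmap⟩ :=
    Groth.Agent.Lib.AnUnramH3.completion_facts (A ⧸ I)
  obtain ⟨-, hnoethA, -, -, -, -⟩ := Groth.Agent.Lib.AnUnramH3.completion_facts A
  haveI := hnoeth
  haveI := hnoethA
  haveI := hff
  refine Groth.Agent.Lib.RegFlatH3.isRegularHom_of_forall_finite (A ⧸ I) (EGA4.Cpl (A ⧸ I))
    inferInstance (fun p _ => Groth.Agent.Lib.RegFlatH3.isNoetherianRing_fiber _ _ p) ?_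
  intro p hp K _ _ _ _ hfin
  haveI := hfin
  letI : Algebra A K := Algebra.compHom K (algebraMap A (A ⧸ I))
  haveI : IsScalarTower A (A ⧸ I) K := IsScalarTower.of_algebraMap_eq (fun _ => rfl)
  obtain ⟨e⟩ := Groth.Agent.Lib.GRingCoreH3.exists_ringEquiv_tensor_cpl_of_surjective A (A ⧸ I)
    Ideal.Quotient.mk_surjective K
  haveI : Algebra.EssFiniteType p.ResidueField K := inferInstance
  haveI : Algebra.EssFiniteType (A ⧸ I) K := Algebra.EssFiniteType.comp (A ⧸ I) p.ResidueField K
  haveI : Algebra.EssFiniteType A K := Algebra.EssFiniteType.comp A (A ⧸ I) K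
  haveI : IsNoetherianRing (TensorProduct A K (EGA4.Cpl A)) :=
    Groth.Agent.Lib.RegFlatH3.isNoetherianRing_tensor_of_essFiniteType' A (EGA4.Cpl A) K
  haveI := Groth.Agent.Lib.RegFlatH3.isRegularRing_tensor_of_isRegularHom A (EGA4.Cpl A) hA K
  exact IsRegularRing.of_ringEquiv e

end Groth.Agent.S4737
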