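import Groth.Statements.S4741
import Groth.Agent.Lib.FibStalkDim_helper8
import Groth.Agent.Lib.FibFlat_helper8

set_option autoImplicit false
universe u
open EGA4

namespace Groth.Agent.S4741

open AlgebraicGeometry CategoryTheory in
/-- Suppose X and Y are locally Noetherian schemes, f : X → Y is a morphism that is surjective, and Z is
a closed subset of Y. Then codim(f⁻¹(Z), X) ≤ codim(Z, Y), where the codimension of a closed subset
means the infimum over its points of the dimensions of the local rings there; when f is in addition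
flat, these two codimensions coincide. (In the published version the equality part assumes f
quasi-flat; here f is taken to be flat.) -/
theorem result {X Y : Scheme.{u}} (f : X ⟶ Y) [IsLocallyNoetherian X]
    [IsLocallyNoetherian Y] (hf : Function.Surjective f.base) (Z : Set Y) (hZ : IsClosed Z) :
    (⨅ x ∈ f.base ⁻¹' Z, ringKrullDim (X.presheaf.stalk x)) ≤ ⨅ y ∈ Z, ringKrullDim (Y.presheaf.stalk y) ∧
      (Flat f → (⨅ x ∈ f.base ⁻¹' Z, ringKrullDim (X.presheaf.stalk x)) = ⨅ y ∈ Z, ringKrullDim (Y.presheaf.stalk y)) := by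
  classical
  have hmax : ∀ (F : Scheme.{u}), Nonempty F → ∃ η : F, Order.coheight η = 0 := by
    intro F hF
    obtain ⟨p⟩ := hF
    have hirr : IsIrreducible (irreducibleComponent p) := isIrreducible_irreducibleComponent
    have hcl : IsClosed (irreducibleComponent p) := isClosed_irreducibleComponent
    obtain ⟨η, hη⟩ := QuasiSober.sober hirr hcl
    refine ⟨η, ?_⟩
    rw [Order.coheight_eq_zero]
    intro b hb
    have hb' : b ⤳ η := hb
    change η ⤳ b
    have hsub : irreducibleComponent p ⊆ closure {b} := by
      rw [← hη.def]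
      exact closure_mono (Set.singleton_subset_iff.mpr (specializes_iff_mem_closure.mp hb')) |>.trans_eq closure_closure
    have heq : closure {b} = irreducibleComponent p :=
      eq_irreducibleComponent isIrreducible_singleton.closure.isPreirreducible hsub
    rw [specializes_iff_mem_closure, hη.def, ← heq]
    exact subset_closure rfl
  have aux : ∀ (x : X) (y : Y) (h : f x = y) (η : f.fiber y), f.fiberι y η = x →
      Order.coheight η = 0 →
      ringKrullDim (X.presheaf.stalk x) ≤ ringKrullDim (Y.presheaf.stalk y) := by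
    intro x y h η hηx hη0
    subst h
    have hη' : η = f.asFiber x :=
      (f.fiberι _).isEmbedding.injective (by rw [hηx, f.fiberι_asFiber])
    subst hη'
    letI : Algebra (Y.presheaf.stalk (f x)) (X.presheaf.stalk x) := (f.stalkMap x).hom.toAlgebra
    haveI : IsLocalHom (algebraMap (Y.presheaf.stalk (f x)) (X.presheaf.stalk x)) :=
      inferInstanceAs (IsLocalHom (f.stalkMap x).hom)
    have h1 := Groth.Agent.FibDim.dim_le (A := Y.presheaf.stalk (f x)) (B := X.presheaf.stalk x)
    have h2 := Groth.Agent.FibStalkDimH8.dim_quot_le f x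
    rw [AlgebraicGeometry.ringKrullDim_stalk_eq_coheight, hη0] at h2
    refine h1.trans ?_
    calc ringKrullDim (Y.presheaf.stalk (f x)) + ringKrullDim (X.presheaf.stalk x ⧸
          (IsLocalRing.maximalIdeal (Y.presheaf.stalk (f x))).map
            (algebraMap (Y.presheaf.stalk (f x)) (X.presheaf.stalk x)))
        ≤ ringKrullDim (Y.presheaf.stalk (f x)) + ((0 : ℕ∞) : WithBot ℕ∞) := by
          gcongr
          exact h2
      _ = ringKrullDim (Y.presheaf.stalk (f x)) := by simp
  have key : ∀ y : Y, ∃ x : X, f x = y ∧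
      ringKrullDim (X.presheaf.stalk x) ≤ ringKrullDim (Y.presheaf.stalk y) := by
    intro y
    have hne : Nonempty (f.fiber y) := by
      obtain ⟨x, hx⟩ := hf y
      exact ⟨(f.fiberHomeo y).symm ⟨x, hx⟩⟩
    obtain ⟨η, hη⟩ := hmax (f.fiber y) hne
    have hfx : f (f.fiberι y η) = y := by
      have : f.fiberι y η ∈ f ⁻¹' {y} := by
        rw [← f.range_fiberι y]; exact ⟨η, rfl⟩
      exact this
    exact ⟨f.fiberι y η, hfx, aux _ _ hfx η rfl hη⟩
  have first : (⨅ x ∈ f.base ⁻¹' Z, ringKrullDim (X.presheaf.stalk x)) ≤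
      ⨅ y ∈ Z, ringKrullDim (Y.presheaf.stalk y) := by
    refine le_iInf₂ fun y hy => ?_
    obtain ⟨x, hx, hle⟩ := key y
    have hxZ : x ∈ f.base ⁻¹' Z := by
      change f x ∈ Z
      rw [hx]; exact hy
    exact (iInf₂_le x hxZ).trans hle
  refine ⟨first, fun hflat => le_antisymm first ?_⟩
  refine le_iInf₂ fun x hx => ?_
  refine (iInf₂_le (f x) hx).trans ?_
  letI : Algebra (Y.presheaf.stalk (f x)) (X.presheaf.stalk x) := (f.stalkMap x).hom.toAlgebra
  haveI : IsLocalHom (algebraMap (Y.presheaf.stalk (f x)) (X.presheaf.stalk x)) :=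
    inferInstanceAs (IsLocalHom (f.stalkMap x).hom)
  haveI : Module.Flat (Y.presheaf.stalk (f x)) (X.presheaf.stalk x) :=
    AlgebraicGeometry.Flat.stalkMap f x
  have hs : Module.support (X.presheaf.stalk x) (X.presheaf.stalk x) = Set.univ := by
    ext p
    simp only [Set.mem_univ, iff_true]
    rw [Module.mem_support_iff_exists_annihilator]
    refine ⟨1, fun a ha => ?_⟩
    rw [Submodule.mem_annihilator_span_singleton] at ha
    simp only [smul_eq_mul, mul_one] at ha
    rw [ha]; exact zero_mem _
  have hyp := Groth.Agent.FibDim.hyp_of_flat_module (Y.presheaf.stalk (f x)) (X.presheaf.stalk x)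
    (X.presheaf.stalk x) hs
  have heq := Groth.Agent.FibDim.dim_eq (Y.presheaf.stalk (f x)) (X.presheaf.stalk x) hyp
  rw [heq]
  haveI : Nontrivial (X.presheaf.stalk x ⧸ (IsLocalRing.maximalIdeal (Y.presheaf.stalk (f x))).map
      (algebraMap (Y.presheaf.stalk (f x)) (X.presheaf.stalk x))) :=
    Groth.Agent.FibDim.nontrivial_quot (Groth.Agent.FibDim.map_le_maximalIdeal le_rfl)
  exact le_add_of_nonneg_right ringKrullDim_nonneg_of_nontrivial

end Groth.Agent.S4741
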