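import Groth.Statements.S4748
import Groth.Agent.Lib.GeomNormal_helper3
-- import your own Groth.Agent.* helpers here

set_option autoImplicit false
universe u
open EGA4
open TensorProduct

namespace Groth.Agent.S4748

open TensorProduct in
/-- For the property 'normal' (affine form): let k be a field, S a Noetherian k-algebra and k' an
extension field of k such that S is of finite type over k or k' is essentially of finite type over
k; let q' be a prime of S ⊗_k k' and q its contraction to S. If (S ⊗_k k')_{q'} is an integrally
closed domain then so is S_q; conversely, if k' is separable over k (geometrically reduced) and S_q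
is an integrally closed domain, then so is (S ⊗_k k')_{q'}. -/
theorem result (k S k' : Type u) [Field k] [CommRing S] [Algebra k S]
    [IsNoetherianRing S] [Field k'] [Algebra k k'] (hft : Algebra.FiniteType k S ∨ Algebra.EssFiniteType k k')
    [IsNoetherianRing (S ⊗[k] k')] (q' : Ideal (S ⊗[k] k')) [q'.IsPrime] :
    ((IsDomain (Localization.AtPrime q') ∧ IsIntegrallyClosed (Localization.AtPrime q')) →
        (IsDomain (Localization.AtPrime (q'.comap (algebraMap S (S ⊗[k] k')))) ∧
          IsIntegrallyClosed (Localization.AtPrime (q'.comap (algebraMap S (S ⊗[k] k')))))) ∧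
      (Algebra.IsGeometricallyReduced k k' →
        (IsDomain (Localization.AtPrime (q'.comap (algebraMap S (S ⊗[k] k')))) ∧
          IsIntegrallyClosed (Localization.AtPrime (q'.comap (algebraMap S (S ⊗[k] k'))))) →
          (IsDomain (Localization.AtPrime q') ∧ IsIntegrallyClosed (Localization.AtPrime q'))) := by
  haveI : Module.Flat S (S ⊗[k] k') := inferInstance
  constructor
  · rintro ⟨hd, hic⟩
    haveI := hd
    haveI := hic
    exact Groth.Agent.S2610.result S (S ⊗[k] k') q'
  · intro hsep h
    haveI := hsep
    haveI : Algebra.FormallySmooth k k' :=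
      Groth.Agent.Lib.SepSmoothH3.formallySmooth_of_isGeometricallyReduced k k'
    have h1 : ∀ (q : Ideal (S ⊗[k] k')) [q.IsPrime],
        IsDomain (EGA4.FibLocRing S (S ⊗[k] k') q) ∧
          IsIntegrallyClosed (EGA4.FibLocRing S (S ⊗[k] k') q) := by
      intro q hq
      haveI : IsNoetherianRing ((q.under S).Fiber (S ⊗[k] k')) :=
        Groth.Agent.Lib.RegFlatH3.isNoetherianRing_fiber S (S ⊗[k] k') (q.under S)
      haveI : IsRegularRing ((q.under S).Fiber (S ⊗[k] k')) :=
        Groth.Agent.Lib.SmoothRegHomH3.isRegularRing_of_formallySmooth_field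
          (q.under S).ResidueField _
      haveI := Groth.Agent.Lib.GeomNormalH3.isRegularLocalRing_fibLocRing S (S ⊗[k] k') q
      exact ⟨Groth.Agent.RegularLib.isDomain _,
        Groth.Agent.Lib.NormalLiftH4.isIntegrallyClosed_of_isRegularLocalRing _⟩
    exact Groth.Agent.Lib.NormalFlatH3.mem_norLocus_of_flat S (S ⊗[k] k') h1 ⟨q', inferInstance⟩ h

end Groth.Agent.S4748
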