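import Groth.Statements.S4749
import Groth.Agent.Lib.GeomNormal2_helper3
-- import your own Groth.Agent.* helpers here

set_option autoImplicit false
universe u
open EGA4


namespace Groth.Agent.S4749

open TensorProduct in
/-- Case of normal morphisms, affine form: let A → B be a homomorphism of Noetherian rings and A' a
Noetherian A-algebra, and assume that B or A' is of finite type over A. If A → B is normal then the
base change A' → A' ⊗_A B is normal; the converse holds when A' is faithfully flat over A. -/
theorem result (A B A' : Type u) [CommRing A] [CommRing B] [CommRing A']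
    [IsNoetherianRing A] [IsNoetherianRing B] [IsNoetherianRing A'] [Algebra A B] [Algebra A A']
    (hft : Algebra.FiniteType A B ∨ Algebra.FiniteType A A') :
    (EGA4.IsNormalHom A B → EGA4.IsNormalHom A' (A' ⊗[A] B)) ∧
      (Module.FaithfullyFlat A A' → EGA4.IsNormalHom A' (A' ⊗[A] B) → EGA4.IsNormalHom A B) := by
  have hNoeth : IsNoetherianRing (A' ⊗[A] B) := by
    rcases hft with h | h
    · haveI := h
      exact Algebra.FiniteType.isNoetherianRing A' (A' ⊗[A] B)
    · haveI := h
      exact Groth.Agent.Lib.RegFlatH3.isNoetherianRing_tensor_of_essFiniteType' A B A'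
  haveI := hNoeth
  exact ⟨fun h => Groth.Agent.Lib.GeomNormal2H3.isNormalHom_baseChange A B A' h,
    fun hff h => by
      haveI := hff
      exact Groth.Agent.Lib.GeomNormal2H3.isNormalHom_of_baseChange A B A' h⟩

end Groth.Agent.S4749
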