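import Groth.Statements.S4757
import Groth.Agent.Lib.GeomNormal2_helper3
-- import your own Groth.Agent.* helpers here

set_option autoImplicit false
universe u
open EGA4
open TensorProduct

namespace Groth.Agent.S4757

/-- Let A → B be a flat homomorphism of Noetherian rings with geometrically reduced fibres and S a
multiplicative subset of A. Then the induced homomorphism S⁻¹A → S⁻¹B (arbitrary localizations at S
and at its image) is flat with geometrically reduced fibres. -/
theorem result (A B : Type u) [CommRing A] [CommRing B] [IsNoetherianRing A]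
    [IsNoetherianRing B] [Algebra A B] [Module.Flat A B]
    (h : ∀ (p : Ideal A) [p.IsPrime], Algebra.IsGeometricallyReduced p.ResidueField (p.Fiber B)) (S : Submonoid A)
    (A' B' : Type u) [CommRing A'] [CommRing B'] [Algebra A A'] [Algebra B B'] [Algebra A' B'] [Algebra A B']
    [IsScalarTower A A' B'] [IsScalarTower A B B'] [IsLocalization S A']
    [IsLocalization (Algebra.algebraMapSubmonoid B S) B'] :
    Module.Flat A' B' ∧ ∀ (p' : Ideal A') [p'.IsPrime], Algebra.IsGeometricallyReduced p'.ResidueField (p'.Fiber B') := by
  haveI : Algebra.IsPushout A B A' B' := Algebra.isPushout_of_isLocalization S A' B B'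
  haveI hpo' : Algebra.IsPushout A A' B B' := Algebra.IsPushout.symm inferInstance
  haveI hflat : Module.Flat A' B' :=
    Module.Flat.of_linearEquiv (Algebra.IsPushout.equiv A A' B B').symm.toLinearEquiv
  refine ⟨hflat, ?_⟩
  intro p' hp'
  rw [Algebra.isGeometricallyReduced_field_iff]
  let p : Ideal A := p'.comap (algebraMap A A')
  haveI : p.IsPrime := Ideal.comap_isPrime _ _
  let f : p.ResidueField →+* p'.ResidueField :=
    Ideal.ResidueField.map p p' (algebraMap A A') rfl
  have hf : Function.Bijective f :=
    (RingHom.surjectiveOnStalks_of_isLocalization (M := S) A').residueFieldMap_bijective p p' rfl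
  letI : Algebra p.ResidueField (AlgebraicClosure p'.ResidueField) :=
    ((algebraMap p'.ResidueField (AlgebraicClosure p'.ResidueField)).comp f).toAlgebra
  haveI : IsScalarTower A p.ResidueField (AlgebraicClosure p'.ResidueField) :=
    IsScalarTower.of_algebraMap_eq fun a => by
      show algebraMap A (AlgebraicClosure p'.ResidueField) a =
        algebraMap p'.ResidueField (AlgebraicClosure p'.ResidueField)
          (f (algebraMap A p.ResidueField a))
      rw [Ideal.ResidueField.map_algebraMap,
        IsScalarTower.algebraMap_apply A A' (AlgebraicClosure p'.ResidueField),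
        IsScalarTower.algebraMap_apply A' p'.ResidueField (AlgebraicClosure p'.ResidueField)]
  haveI : Algebra.IsAlgebraic p.ResidueField (AlgebraicClosure p'.ResidueField) :=
    Algebra.IsAlgebraic.of_ringHom_of_comp_eq (S := p'.ResidueField)
      (B := AlgebraicClosure p'.ResidueField) f
      (RingHom.id (AlgebraicClosure p'.ResidueField)) hf.2 Function.injective_id rfl
  haveI := h p
  have hred : IsReduced (AlgebraicClosure p'.ResidueField ⊗[p.ResidueField] (p.Fiber B)) :=
    inferInstance
  let e0 : AlgebraicClosure p'.ResidueField ⊗[p'.ResidueField] (p'.Fiber B') ≃ₐ[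
      AlgebraicClosure p'.ResidueField] AlgebraicClosure p'.ResidueField ⊗[A'] B' :=
    Algebra.TensorProduct.cancelBaseChange A' p'.ResidueField (AlgebraicClosure p'.ResidueField)
      (AlgebraicClosure p'.ResidueField) B'
  let e1 : B' ⊗[A'] (AlgebraicClosure p'.ResidueField) ≃ₐ[B]
      B ⊗[A] (AlgebraicClosure p'.ResidueField) :=
    Algebra.IsPushout.cancelBaseChangeAlg A B A' B' (AlgebraicClosure p'.ResidueField)
  let e2 : AlgebraicClosure p'.ResidueField ⊗[p.ResidueField] (p.Fiber B) ≃ₐ[
      AlgebraicClosure p'.ResidueField] AlgebraicClosure p'.ResidueField ⊗[A] B :=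
    Algebra.TensorProduct.cancelBaseChange A p.ResidueField (AlgebraicClosure p'.ResidueField)
      (AlgebraicClosure p'.ResidueField) B
  let e : AlgebraicClosure p'.ResidueField ⊗[p'.ResidueField] (p'.Fiber B') ≃+*
      AlgebraicClosure p'.ResidueField ⊗[p.ResidueField] (p.Fiber B) :=
    e0.toRingEquiv.trans ((Algebra.TensorProduct.comm A' _ B').toRingEquiv.trans
      (e1.toRingEquiv.trans ((Algebra.TensorProduct.comm A B _).toRingEquiv.trans
        e2.symm.toRingEquiv)))
  exact isReduced_of_injective e e.injective

end Groth.Agent.S4757
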