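import Groth.Statements.S4781
import Groth.Agent.Lib.GenFibDim_helper8
import Groth.Agent.Lib.FibComp_helper8
import Groth.Agent.Lib.ProdGen_helper8
import Groth.Agent.Lib.SubComp_helper8
import Groth.Agent.Lib.Chev4_helper8
import Groth.Agent.S2255

set_option autoImplicit false
universe u
open CategoryTheory AlgebraicGeometry
open Cons9

namespace Groth.Agent.S4781

/-- Let S be a Noetherian irreducible scheme with generic point η, let X be an irreducible scheme and f
: X ⟶ S a dominant morphism of finite type. Then there is an open neighbourhood U of η in S such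
that, for every s ∈ U, all irreducible components of the fibre f⁻¹(s) have dimension equal to dim
f⁻¹(η). Fibres are taken as subspaces of X and dimensions are topological Krull dimensions. -/
theorem result {X S : Scheme.{u}} (f : X ⟶ S)
    [IsNoetherian S] [IrreducibleSpace S] [IrreducibleSpace X] [IsDominant f]
    [LocallyOfFiniteType f] [QuasiCompact f] :
    ∃ U : S.Opens, genericPoint S ∈ U ∧ ∀ s ∈ U, ∀ T ∈ irreducibleComponents ↥(⇑f ⁻¹' {s}),
      topologicalKrullDim ↥T = topologicalKrullDim ↥(⇑f ⁻¹' {genericPoint S}) := by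
  obtain ⟨n0, h1, h2, -⟩ := GenFibDimH8.exists_nat f
  set η := genericPoint S with hη
  -- points of the generic fibre
  have hgenfib : ∀ z : X, f z = η → FlatMor.fibreDimAt f z ≤ (n0 : WithBot ℕ∞) := by
    intro z hz
    have h3 : topologicalKrullDim ↥(f.fiber (f z)) = n0 := by rw [hz]; exact h1
    rw [← h3]
    exact TopDimLocH8.localDim_le_topDim (f.fiber (f z)) (f.asFiber z)
  set C : Set X := {z : X | FlatMor.fibreDimAt f z ≤ (n0 : WithBot ℕ∞)}ᶜ with hC
  have hCc : IsClosed C := (ChevH8.isOpen_fibreDimAt_le f n0).isClosed_compl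
  have hηC : η ∉ closure (⇑f '' C) := by
    intro hcon
    obtain ⟨C'', i, hi, hrange⟩ := ProdGenH8.exists_closedImmersion_range X C hCc
    have hrg : Set.range ⇑(i ≫ f) = ⇑f '' C := by
      rw [Scheme.Hom.comp_base, TopCat.coe_comp, Set.range_comp, hrange]
    haveI : IsDominant (i ≫ f) := by
      constructor
      rw [DenseRange, dense_iff_closure_eq, hrg]
      apply Set.eq_univ_of_univ_subset
      intro s _
      have hs : η ⤳ s := genericPoint_specializes s
      exact hs.mem_closed isClosed_closure hcon
    have hcompη : closure ({η} : Set S) ∈ irreducibleComponents ↥S := by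
      rw [SubCompH8.closure_mem_irreducibleComponents_iff]
      intro z hz
      exact ((genericPoint_specializes z).antisymm hz).eq.symm
    obtain ⟨x, -, hx⟩ := (Groth.Agent.S2255.result (i ≫ f)).mp inferInstance η hcompη
    have hixC : i x ∈ C := hrange ▸ Set.mem_range_self x
    exact hixC (hgenfib (i x) hx)
  refine ⟨⟨(closure (⇑f '' C))ᶜ, isClosed_closure.isOpen_compl⟩, hηC, ?_⟩
  intro s hs T hT
  obtain ⟨z, hz, hdim⟩ := FibCompH8.dim_component_preimage f s T hT
  rw [hdim, FibCompH8.dim_preimage_eq, h1]
  apply le_antisymm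
  · by_contra hcon
    apply hs
    apply subset_closure
    exact ⟨z, hcon, hz⟩
  · rw [← h1]
    exact GenFibDimH8.generic_le f z

end Groth.Agent.S4781
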