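import Groth.Statements.S9821
import Mathlib

set_option autoImplicit false
universe u
open CategoryTheory CategoryTheory.Limits AlgebraicGeometry TopologicalSpace Opposite
open Props

namespace Groth.Agent.S9821

/-- An integral scheme is normal if and only if the coordinate ring of every nonempty affine open is an
integrally closed domain. -/
theorem result (X : Scheme.{u}) [IsIntegral X] :
    Pi1.IsNormalScheme X ↔ ∀ (U : X.Opens) [Nonempty U], IsAffineOpen U → IsIntegrallyClosed Γ(X, U) := by
  constructor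
  · intro hN U _ hU
    haveI : IsDomain Γ(X, U) := inferInstance
    apply IsIntegrallyClosed.of_localization_maximal
    intro p _ hp
    let y : PrimeSpectrum Γ(X, U) := ⟨p, hp.isPrime⟩
    have hx : hU.fromSpec y ∈ (U : Set X) := by
      rw [← hU.range_fromSpec]; exact ⟨y, rfl⟩
    letI : Algebra Γ(X, U) (X.presheaf.stalk (hU.fromSpec y)) :=
      TopCat.Presheaf.algebra_section_stalk X.presheaf ⟨hU.fromSpec y, hx⟩
    haveI : IsLocalization.AtPrime (X.presheaf.stalk (hU.fromSpec y)) p :=
      hU.isLocalization_stalk' y hx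
    haveI := (hN (hU.fromSpec y)).2
    exact IsIntegrallyClosed.of_equiv (IsLocalization.algEquiv p.primeCompl
      (X.presheaf.stalk (hU.fromSpec y)) (Localization.AtPrime p)).toRingEquiv
  · intro h x
    refine ⟨inferInstance, ?_⟩
    obtain ⟨U, hU, hxU⟩ : ∃ U : X.Opens, IsAffineOpen U ∧ x ∈ U := by
      obtain ⟨_, ⟨U, hU, rfl⟩, hxU, -⟩ := X.isBasis_affineOpens.exists_subset_of_mem_open
        (Set.mem_univ x) isOpen_univ
      exact ⟨U, hU, hxU⟩
    haveI : Nonempty U := ⟨⟨x, hxU⟩⟩
    haveI := h U hU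
    letI : Algebra Γ(X, U) (X.presheaf.stalk x) :=
      TopCat.Presheaf.algebra_section_stalk X.presheaf (U := U) ⟨x, hxU⟩
    haveI : IsLocalization.AtPrime (X.presheaf.stalk x) (hU.primeIdealOf ⟨x, hxU⟩).asIdeal :=
      hU.isLocalization_stalk ⟨x, hxU⟩
    exact isIntegrallyClosed_of_isLocalization (X.presheaf.stalk x)
      (hU.primeIdealOf ⟨x, hxU⟩).asIdeal.primeCompl (Ideal.primeCompl_le_nonZeroDivisors _)

end Groth.Agent.S9821
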