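import Groth.Statements.S4808
import Mathlib
import Groth.Agent.S9821

set_option autoImplicit false
universe u
open CategoryTheory AlgebraicGeometry
open Lim8

namespace Groth.Agent.S4808

/-- Let Y' and Y be integral schemes, Y normal (every local ring of Y is integrally closed), and u : Y'
⟶ Y a finite morphism which is birational: u maps the generic point of Y' to the generic point of Y
and the stalk map of u at the generic point of Y', which is the induced homomorphism of function
fields, is an isomorphism. Then u is an isomorphism. -/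
theorem result {Y' Y : Scheme.{u}} [IsIntegral Y'] [IsIntegral Y]
    (hN : ∀ y : Y, IsIntegrallyClosed (Y.presheaf.stalk y)) (u : Y' ⟶ Y) [IsFinite u]
    (hgen : u (genericPoint Y') = genericPoint Y)
    (hbir : IsIso (u.stalkMap (genericPoint Y'))) : IsIso u := by
  have hnormal : Pi1.IsNormalScheme Y := fun y => ⟨inferInstance, hN y⟩
  have hIC := (Groth.Agent.S9821.result Y).mp hnormal
  let ι := {V : Y.affineOpens // Nonempty V.1}
  have hcov : ⨆ i : ι, (i.1.1 : Y.Opens) = ⊤ := by
    rw [eq_top_iff]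
    intro y _
    obtain ⟨_, ⟨V, hV, rfl⟩, hyV, -⟩ := Y.isBasis_affineOpens.exists_subset_of_mem_open
      (Set.mem_univ y) isOpen_univ
    exact TopologicalSpace.Opens.mem_iSup.mpr ⟨⟨⟨V, hV⟩, ⟨⟨y, hyV⟩⟩⟩, hyV⟩
  change (MorphismProperty.isomorphisms Scheme) u
  rw [HasAffineProperty.iff_of_iSup_eq_top (P := MorphismProperty.isomorphisms Scheme)
    (fun i : ι => i.1) hcov]
  rintro ⟨⟨V, hV⟩, hne⟩
  have hV' : IsAffineOpen (u ⁻¹ᵁ V) := hV.preimage u
  refine ⟨hV', ?_⟩
  have hres : u ∣_ V = u.resLE V (u ⁻¹ᵁ V) le_rfl := by simp [Scheme.Hom.resLE]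
  show IsIso (u ∣_ V).appTop
  rw [hres]
  have harrow := (MorphismProperty.isomorphisms CommRingCat).arrow_mk_iso_iff
    (arrowResLEAppIso u V (u ⁻¹ᵁ V) le_rfl)
  refine harrow.mpr ?_
  show IsIso (u.appLE V (u ⁻¹ᵁ V) le_rfl)
  rw [Scheme.Hom.appLE_eq_app, ConcreteCategory.isIso_iff_bijective]
  haveI : Nonempty V := hne
  have hηV : genericPoint Y ∈ V :=
    ((genericPoint_spec Y).mem_open_set_iff V.2).mpr (by simpa using hne)
  have hη'V : genericPoint Y' ∈ u ⁻¹ᵁ V := by
    show u (genericPoint Y') ∈ V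
    rw [hgen]; exact hηV
  haveI : Nonempty (u ⁻¹ᵁ V) := ⟨⟨_, hη'V⟩⟩
  haveI := hIC V hV
  haveI : IsFractionRing Γ(Y, V) Y.functionField :=
    functionField_isFractionRing_of_isAffineOpen Y V hV
  haveI : IsFractionRing Γ(Y', u ⁻¹ᵁ V) Y'.functionField :=
    functionField_isFractionRing_of_isAffineOpen Y' _ hV'
  let sp : Y.functionField ⟶ Y.presheaf.stalk (u (genericPoint Y')) :=
    Y.presheaf.stalkSpecializes (specializes_of_eq hgen)
  haveI : IsIso sp := (Y.presheaf.stalkCongr (.of_eq hgen.symm)).isIso_hom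
  let ψ : Y.functionField ⟶ Y'.functionField := sp ≫ u.stalkMap (genericPoint Y')
  haveI : IsIso ψ := inferInstance
  have hψ : Function.Bijective ψ.hom := (ConcreteCategory.isIso_iff_bijective ψ).mp inferInstance
  have hcomp : Y.germToFunctionField V ≫ ψ = u.app V ≫ Y'.germToFunctionField (u ⁻¹ᵁ V) := by
    simp only [ψ, sp, Scheme.germToFunctionField]
    rw [← Category.assoc, TopCat.Presheaf.germ_stalkSpecializes, Scheme.Hom.germ_stalkMap]
  have hcomp' : ∀ a : Γ(Y, V), ψ.hom (algebraMap Γ(Y, V) Y.functionField a) =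
      algebraMap Γ(Y', u ⁻¹ᵁ V) Y'.functionField ((u.app V).hom a) := fun a => by
    have := congrArg (fun g : Γ(Y, V) ⟶ Y'.functionField => g.hom a) hcomp
    exact this
  have hinjA : Function.Injective (algebraMap Γ(Y, V) Y.functionField) :=
    IsFractionRing.injective _ _
  have hinjB : Function.Injective (algebraMap Γ(Y', u ⁻¹ᵁ V) Y'.functionField) :=
    IsFractionRing.injective _ _
  constructor
  · intro a₁ a₂ h
    apply hinjA
    apply hψ.1
    rw [hcomp', hcomp']
    exact congrArg _ h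
  · intro b
    have hfin : (u.app V).hom.Finite := IsFinite.finite_app u V hV
    obtain ⟨p, hp, hpb⟩ := hfin.to_isIntegral b
    obtain ⟨k, hk⟩ := hψ.2 (algebraMap Γ(Y', u ⁻¹ᵁ V) Y'.functionField b)
    have hkint : IsIntegral Γ(Y, V) k := by
      refine ⟨p, hp, ?_⟩
      apply hψ.1
      rw [map_zero, Polynomial.hom_eval₂, hk]
      have : (ψ.hom.comp (algebraMap Γ(Y, V) Y.functionField)) =
          (algebraMap Γ(Y', u ⁻¹ᵁ V) Y'.functionField).comp (u.app V).hom := RingHom.ext hcomp'
      rw [this, ← Polynomial.hom_eval₂, hpb, map_zero]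
    obtain ⟨a, ha⟩ := IsIntegrallyClosed.algebraMap_eq_of_integral hkint
    refine ⟨a, ?_⟩
    apply hinjB
    refine (hcomp' a).symm.trans ?_
    rw [ha, hk]

end Groth.Agent.S4808
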