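import Groth.Statements.S4816
import Mathlib
import Groth.Agent.Lib.LimDiag_helper7

set_option autoImplicit false
universe u
open CategoryTheory AlgebraicGeometry
open Lim8

namespace Groth.Agent.S4816

open CategoryTheory.Limits in
/-- Let S = lim S_i be a cofiltered limit of schemes with affine transition maps and S_{i₀} a
quasi-compact stage; let ι₁ : Z₁ ⟶ S_{i₀} and ι₂ : Z₂ ⟶ S_{i₀} be two subschemes of finite
presentation of S_{i₀} (immersions which are locally of finite presentation and quasi-compact), with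
base changes Z₁ ×_{S_{i₀}} T ⟶ T to T = S and to T = S_j. Then Z₁ ×_{S_{i₀}} S is a subscheme of Z₂
×_{S_{i₀}} S (its immersion into S factors through that of Z₂ ×_{S_{i₀}} S) if and only if, for some
index j over i₀, Z₁ ×_{S_{i₀}} S_j is a subscheme of Z₂ ×_{S_{i₀}} S_j. -/
theorem result {I : Type u} [SmallCategory I] [IsCofiltered I]
    (D : I ⥤ Scheme.{u}) (c : Limits.Cone D) (hc : Limits.IsLimit c)
    [∀ (i j : I) (f : i ⟶ j), IsAffineHom (D.map f)] (i₀ : I) [CompactSpace (D.obj i₀)]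
    {Z₁ Z₂ : Scheme.{u}} (ι₁ : Z₁ ⟶ D.obj i₀) (ι₂ : Z₂ ⟶ D.obj i₀)
    [IsImmersion ι₁] [LocallyOfFinitePresentation ι₁] [QuasiCompact ι₁]
    [IsImmersion ι₂] [LocallyOfFinitePresentation ι₂] [QuasiCompact ι₂] :
    (∃ k : pullback ι₁ (c.π.app i₀) ⟶ pullback ι₂ (c.π.app i₀),
        k ≫ pullback.snd ι₂ (c.π.app i₀) = pullback.snd ι₁ (c.π.app i₀)) ↔
      ∃ (j : I) (φ : j ⟶ i₀) (k : pullback ι₁ (D.map φ) ⟶ pullback ι₂ (D.map φ)),
        k ≫ pullback.snd ι₂ (D.map φ) = pullback.snd ι₁ (D.map φ) := by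
  constructor
  · rintro ⟨k, hk⟩
    -- the inclusion `Z₁ ∩ Z₂ → Z₁`
    let f₀ : pullback ι₁ ι₂ ⟶ Z₁ := pullback.fst ι₁ ι₂
    haveI : CompactSpace Z₁ := QuasiCompact.compactSpace_of_compactSpace ι₁
    haveI : LocallyOfFinitePresentation f₀ := inferInstanceAs
      (LocallyOfFinitePresentation (pullback.fst ι₁ ι₂))
    haveI : QuasiCompact f₀ := inferInstanceAs (QuasiCompact (pullback.fst ι₁ ι₂))
    haveI : IsImmersion f₀ := inferInstanceAs (IsImmersion (pullback.fst ι₁ ι₂))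
    haveI : Mono f₀ := inferInstance
    haveI : QuasiSeparated f₀ := inferInstance
    -- base change to the limit is an isomorphism
    let qY := pullback.fst ι₁ (c.π.app i₀)
    have hY := IsPullback.of_hasPullback ι₁ (c.π.app i₀)
    have hX := IsPullback.of_hasPullback f₀ qY
    have cond₁ : pullback.fst ι₁ (c.π.app i₀) ≫ ι₁ =
        (k ≫ pullback.fst ι₂ (c.π.app i₀)) ≫ ι₂ :=
      calc pullback.fst ι₁ (c.π.app i₀) ≫ ι₁
          = pullback.snd ι₁ (c.π.app i₀) ≫ c.π.app i₀ := pullback.condition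
        _ = (k ≫ pullback.snd ι₂ (c.π.app i₀)) ≫ c.π.app i₀ := by rw [hk]
        _ = k ≫ pullback.fst ι₂ (c.π.app i₀) ≫ ι₂ := by
            rw [Category.assoc, ← pullback.condition]
        _ = (k ≫ pullback.fst ι₂ (c.π.app i₀)) ≫ ι₂ := (Category.assoc _ _ _).symm
    let σ : pullback ι₁ (c.π.app i₀) ⟶ pullback f₀ qY :=
      pullback.lift (pullback.lift (pullback.fst ι₁ (c.π.app i₀))
        (k ≫ pullback.fst ι₂ (c.π.app i₀)) cond₁) (𝟙 _) (by
          simp only [f₀, qY, pullback.lift_fst, Category.id_comp])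
    have hσ : σ ≫ pullback.snd f₀ qY = 𝟙 _ := pullback.lift_snd _ _ _
    haveI : Mono (pullback.snd f₀ qY) := inferInstance
    haveI : IsSplitEpi (pullback.snd f₀ qY) := ⟨⟨σ, hσ⟩⟩
    have hiso : IsIso (pullback.snd f₀ qY) := isIso_of_mono_of_isSplitEpi _
    obtain ⟨i, φ, hi⟩ := Groth.Agent.Lib.LimDiagH7.exists_descend_can
      (P := MorphismProperty.isomorphisms Scheme.{u})
      (H := fun f => LocallyOfFinitePresentation f ∧ QuasiCompact f ∧ QuasiSeparated f)
      Groth.Agent.Lib.LimDiagH7.affineStage_isIso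
      (fun f g h => Groth.Agent.Lib.LimDiagH7.hH_lfp f g h)
      D c hc i₀ f₀ ι₁ ⟨inferInstance, inferInstance, inferInstance⟩
      (pullback.snd f₀ qY) (pullback.snd ι₁ (c.π.app i₀)) qY (pullback.fst f₀ qY) hY hX hiso
    haveI : IsIso (pullback.snd f₀ (pullback.fst ι₁ (D.map φ))) := hi
    refine ⟨i, φ, pullback.lift
      (inv (pullback.snd f₀ (pullback.fst ι₁ (D.map φ))) ≫
        pullback.fst f₀ (pullback.fst ι₁ (D.map φ)) ≫ pullback.snd ι₁ ι₂)
      (pullback.snd ι₁ (D.map φ)) ?_, pullback.lift_snd _ _ _⟩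
    have h1 : pullback.fst f₀ (pullback.fst ι₁ (D.map φ)) ≫ pullback.snd ι₁ ι₂ ≫ ι₂ =
        pullback.snd f₀ (pullback.fst ι₁ (D.map φ)) ≫ pullback.fst ι₁ (D.map φ) ≫ ι₁ := by
      rw [← pullback.condition (f := ι₁) (g := ι₂), ← Category.assoc, ← Category.assoc]
      congr 1
      exact pullback.condition
    simp only [Category.assoc]
    rw [h1, IsIso.inv_hom_id_assoc, pullback.condition]
  · rintro ⟨j, φ, k, hk⟩
    let m : pullback ι₁ (c.π.app i₀) ⟶ pullback ι₁ (D.map φ) :=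
      pullback.lift (pullback.fst ι₁ (c.π.app i₀)) (pullback.snd ι₁ (c.π.app i₀) ≫ c.π.app j)
        (by rw [pullback.condition, Category.assoc, c.w])
    refine ⟨pullback.lift (m ≫ k ≫ pullback.fst ι₂ (D.map φ)) (pullback.snd ι₁ (c.π.app i₀)) ?_,
      pullback.lift_snd _ _ _⟩
    simp only [Category.assoc]
    rw [pullback.condition, ← Category.assoc k, hk]
    simp only [m, pullback.lift_snd_assoc, Category.assoc, c.w]

end Groth.Agent.S4816
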