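import Groth.Statements.S4821
import Mathlib

set_option autoImplicit false
universe u
open Cons9

namespace Groth.Agent.S4821

/-- Let A be an integral domain with fraction field K, and (P_i) a finite family of polynomials in
A[T_1, …, T_m], generating an ideal 𝔞; for a point s of Spec A write 𝔞_s for the ideal of κ(s)[T_1,
…, T_m] generated by the images of the P_i. If the zero locus of 𝔞_η in affine m-space over K = κ(η)
is empty, that is if 𝔞_η is the unit ideal, then there is an open neighbourhood D(f) (f ≠ 0) of the
generic point such that 𝔞_s is the unit ideal (its zero locus is empty) for every s in D(f). -/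
theorem result {A : Type u} [CommRing A] [IsDomain A] {m : ℕ}
    (P : Finset (MvPolynomial (Fin m) A))
    (hη : Ideal.span ((MvPolynomial.map (algebraMap A (FractionRing A))) '' (P : Set (MvPolynomial (Fin m) A))) = ⊤) :
    ∃ f : A, f ≠ 0 ∧ ∀ p : PrimeSpectrum A, f ∉ p.asIdeal →
      Ideal.span ((MvPolynomial.map (algebraMap A p.asIdeal.ResidueField)) '' (P : Set (MvPolynomial (Fin m) A))) = ⊤ := by
  classical
  letI : Algebra (MvPolynomial (Fin m) A) (MvPolynomial (Fin m) (FractionRing A)) :=
    MvPolynomial.algebraMvPolynomial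
  have hloc : IsLocalization ((nonZeroDivisors A).map (MvPolynomial.C (σ := Fin m)))
      (MvPolynomial (Fin m) (FractionRing A)) := MvPolynomial.isLocalization _ _
  have hmap : Ideal.span ((MvPolynomial.map (algebraMap A (FractionRing A))) ''
      (P : Set (MvPolynomial (Fin m) A))) =
      (Ideal.span (P : Set (MvPolynomial (Fin m) A))).map
        (algebraMap (MvPolynomial (Fin m) A) (MvPolynomial (Fin m) (FractionRing A))) := by
    rw [Ideal.map_span]
    rfl
  have h1 : (1 : MvPolynomial (Fin m) (FractionRing A)) ∈
      (Ideal.span (P : Set (MvPolynomial (Fin m) A))).map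
        (algebraMap (MvPolynomial (Fin m) A) (MvPolynomial (Fin m) (FractionRing A))) := by
    rw [← hmap, hη]
    exact Submodule.mem_top
  rw [IsLocalization.mem_map_algebraMap_iff
    ((nonZeroDivisors A).map (MvPolynomial.C (σ := Fin m)))] at h1
  obtain ⟨⟨⟨a, ha⟩, ⟨b, hb⟩⟩, hab⟩ := h1
  obtain ⟨d, hd, rfl⟩ := hb
  simp only [one_mul] at hab
  have hinj : Function.Injective
      (algebraMap (MvPolynomial (Fin m) A) (MvPolynomial (Fin m) (FractionRing A))) :=
    MvPolynomial.map_injective _ (IsFractionRing.injective A (FractionRing A))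
  have hCd : MvPolynomial.C d ∈ Ideal.span (P : Set (MvPolynomial (Fin m) A)) := by
    have : (MvPolynomial.C d : MvPolynomial (Fin m) A) = a := hinj hab
    rw [this]
    exact ha
  refine ⟨d, nonZeroDivisors.ne_zero hd, fun p hp => ?_⟩
  have hmap' : Ideal.span ((MvPolynomial.map (algebraMap A p.asIdeal.ResidueField)) ''
      (P : Set (MvPolynomial (Fin m) A))) =
      (Ideal.span (P : Set (MvPolynomial (Fin m) A))).map
        (MvPolynomial.map (algebraMap A p.asIdeal.ResidueField)) := by
    rw [Ideal.map_span]
  rw [hmap']
  have hmem : MvPolynomial.map (algebraMap A p.asIdeal.ResidueField) (MvPolynomial.C d) ∈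
      (Ideal.span (P : Set (MvPolynomial (Fin m) A))).map
        (MvPolynomial.map (algebraMap A p.asIdeal.ResidueField)) :=
    Ideal.mem_map_of_mem _ hCd
  rw [MvPolynomial.map_C] at hmem
  refine Ideal.eq_top_of_isUnit_mem _ hmem ?_
  apply IsUnit.map
  rw [isUnit_iff_ne_zero, Ne, Ideal.algebraMap_residueField_eq_zero]
  exact hp

end Groth.Agent.S4821
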