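import Groth.Statements.S4847
import Groth.Agent.S0392
import Groth.Agent.Lib.SuppStalk2_helper8

set_option autoImplicit false
universe u
open EGA43

namespace Groth.Agent.S4847

open AlgebraicGeometry CategoryTheory Limits in
/-- Case 1° (fibrewise flatness criterion for locally Noetherian schemes): let S, X and Y be locally
Noetherian schemes, f : X ⟶ Y and h : Y ⟶ S arbitrary morphisms, F a coherent O_X-module and x a
point of X with images y in Y and s in S, such that the stalk F_x is nonzero. Then F is flat over S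
at x and F_x / m_s F_x is flat over O_{Y,y} / m_s O_{Y,y} (that is, the fibre module F_s is flat
over the fibre Y_s at x) if and only if h is flat at y and F is flat over Y at x. No finiteness
hypothesis on f or h is required in this case. -/
theorem result {X Y S : Scheme.{u}}
    [IsLocallyNoetherian X] [IsLocallyNoetherian Y] [IsLocallyNoetherian S]
    (f : X ⟶ Y) (h : Y ⟶ S) (F : X.Modules) (hF : Coh.IsCoh F) (x : X)
    (hx : Nontrivial ↑(F.presheaf.stalk x)) :
    letI := FlatMod.moduleStalkOver f F x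
    (FlatMod.IsFlatOverAt (f ≫ h) F x ∧
      Module.Flat (↑(Y.presheaf.stalk (f x)) ⧸ Ideal.map (h.stalkMap (f x)).hom (IsLocalRing.maximalIdeal ↑(S.presheaf.stalk (h (f x)))))
        (↑(F.presheaf.stalk x) ⧸ (Ideal.map (h.stalkMap (f x)).hom (IsLocalRing.maximalIdeal ↑(S.presheaf.stalk (h (f x)))) •
          (⊤ : Submodule ↑(Y.presheaf.stalk (f x)) ↑(F.presheaf.stalk x))))) ↔
    ((h.stalkMap (f x)).hom.Flat ∧ FlatMod.IsFlatOverAt f F x) := by
  letI inst := FlatMod.moduleStalkOver f F x
  obtain ⟨hqc, hft⟩ := hF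
  haveI : F.IsQuasicoherent := hqc
  haveI : SheafOfModules.IsFiniteType (R := X.ringCatSheaf) F := hft
  haveI := hx
  letI algRB : Algebra (S.presheaf.stalk (h (f x))) (Y.presheaf.stalk (f x)) :=
    (h.stalkMap (f x)).hom.toAlgebra
  letI algBC : Algebra (Y.presheaf.stalk (f x)) (X.presheaf.stalk x) :=
    (f.stalkMap x).hom.toAlgebra
  letI algRC : Algebra (S.presheaf.stalk (h (f x))) (X.presheaf.stalk x) :=
    ((f.stalkMap x).hom.comp (h.stalkMap (f x)).hom).toAlgebra
  haveI : IsScalarTower (S.presheaf.stalk (h (f x))) (Y.presheaf.stalk (f x))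
      (X.presheaf.stalk x) := IsScalarTower.of_algebraMap_eq' rfl
  letI modRM : Module (S.presheaf.stalk (h (f x))) (F.presheaf.stalk x) :=
    Module.compHom _ ((f.stalkMap x).hom.comp (h.stalkMap (f x)).hom)
  haveI : IsScalarTower (Y.presheaf.stalk (f x)) (X.presheaf.stalk x) (F.presheaf.stalk x) :=
    IsScalarTower.of_algebraMap_smul fun _ _ => rfl
  haveI : IsScalarTower (S.presheaf.stalk (h (f x))) (Y.presheaf.stalk (f x))
      (F.presheaf.stalk x) := IsScalarTower.of_algebraMap_smul fun _ _ => rfl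
  haveI : IsLocalHom (algebraMap (S.presheaf.stalk (h (f x))) (Y.presheaf.stalk (f x))) :=
    inferInstanceAs (IsLocalHom (h.stalkMap (f x)).hom)
  haveI : IsLocalHom (algebraMap (Y.presheaf.stalk (f x)) (X.presheaf.stalk x)) :=
    inferInstanceAs (IsLocalHom (f.stalkMap x).hom)
  haveI : Module.Finite (X.presheaf.stalk x) (F.presheaf.stalk x) :=
    SuppStalkH8.finite_stalk F x
  have e1 : FlatMod.IsFlatOverAt (f ≫ h) F x ↔
      Module.Flat (S.presheaf.stalk (h (f x))) (F.presheaf.stalk x) := by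
    have e : ((f ≫ h).stalkMap x).hom = (f.stalkMap x).hom.comp (h.stalkMap (f x)).hom := by
      rw [Scheme.Hom.stalkMap_comp]; rfl
    show @Module.Flat (S.presheaf.stalk (h (f x))) (F.presheaf.stalk x) _ _
      (Module.compHom _ ((f ≫ h).stalkMap x).hom) ↔ _
    rw [e]
  have e2 : FlatMod.IsFlatOverAt f F x ↔
      Module.Flat (Y.presheaf.stalk (f x)) (F.presheaf.stalk x) := Iff.rfl
  have e3 : (h.stalkMap (f x)).hom.Flat ↔
      Module.Flat (S.presheaf.stalk (h (f x))) (Y.presheaf.stalk (f x)) := Iff.rfl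
  obtain ⟨I, hI⟩ : ∃ I : Ideal (Y.presheaf.stalk (f x)), I = Ideal.map (h.stalkMap (f x)).hom
    (IsLocalRing.maximalIdeal ↑(S.presheaf.stalk (h (f x)))) := ⟨_, rfl⟩
  rw [← hI, e1, e2, e3]
  let eq : TensorProduct (Y.presheaf.stalk (f x)) ((Y.presheaf.stalk (f x)) ⧸ I) (F.presheaf.stalk x)
      ≃ₗ[(Y.presheaf.stalk (f x)) ⧸ I]
      ((F.presheaf.stalk x) ⧸ (I • (⊤ : Submodule (Y.presheaf.stalk (f x)) (F.presheaf.stalk x)))) :=
    (TensorProduct.quotTensorEquivQuotSMul (F.presheaf.stalk x) I).extendScalarsOfSurjective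
      Ideal.Quotient.mk_surjective
  constructor
  · rintro ⟨h1, h2⟩
    haveI := h1
    have h3 : Module.Flat ((Y.presheaf.stalk (f x)) ⧸ I)
        (TensorProduct (Y.presheaf.stalk (f x)) ((Y.presheaf.stalk (f x)) ⧸ I) (F.presheaf.stalk x)) :=
      Module.Flat.of_linearEquiv eq
    exact Groth.Agent.S0392.result (R := S.presheaf.stalk (h (f x)))
      (S := Y.presheaf.stalk (f x)) (S' := X.presheaf.stalk x) (M := F.presheaf.stalk x)
      (hI ▸ h3)
  · rintro ⟨h1, h2⟩
    haveI := h1
    haveI := h2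
    refine ⟨Module.Flat.trans _ (Y.presheaf.stalk (f x)) _, ?_⟩
    exact Module.Flat.of_linearEquiv eq.symm

end Groth.Agent.S4847
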