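import Groth.Statements.S4858
import Mathlib.Tactic.TFAE

set_option autoImplicit false
universe u
open EGA43

namespace Groth.Agent.S4858

/-- Conditions a), a′), c), c′) (very dense subsets): for a subset X₀ of a topological space X the
following are equivalent: every nonempty locally closed subset of X meets X₀; every closed subset Z
of X equals the closure of Z ∩ X₀; the map U ↦ U ∩ X₀ is injective on open subsets of X; the map F ↦
F ∩ X₀ is injective on closed subsets of X. -/
theorem result {X : Type u} [TopologicalSpace X] (X₀ : Set X) :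
    [∀ Z : Set X, IsLocallyClosed Z → Z.Nonempty → (Z ∩ X₀).Nonempty,
      ∀ Z : Set X, IsClosed Z → closure (Z ∩ X₀) = Z,
      ∀ U V : Set X, IsOpen U → IsOpen V → U ∩ X₀ = V ∩ X₀ → U = V,
      ∀ F F' : Set X, IsClosed F → IsClosed F' → F ∩ X₀ = F' ∩ X₀ → F = F'].TFAE := by
  tfae_have 1 → 2 := by
    intro h Z hZ
    apply Set.Subset.antisymm
    · exact closure_minimal Set.inter_subset_left hZ
    · intro z hz
      by_contra hzc
      have hlc : IsLocallyClosed (Z ∩ (closure (Z ∩ X₀))ᶜ) :=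
        hZ.isLocallyClosed.inter isClosed_closure.isOpen_compl.isLocallyClosed
      obtain ⟨w, ⟨hwZ, hwc⟩, hw0⟩ := h _ hlc ⟨z, hz, hzc⟩
      exact hwc (subset_closure ⟨hwZ, hw0⟩)
  tfae_have 2 → 4 := by
    intro h F F' hF hF' hFF
    rw [← h F hF, ← h F' hF', hFF]
  tfae_have 4 → 3 := by
    intro h U V hU hV hUV
    have hc : Uᶜ ∩ X₀ = Vᶜ ∩ X₀ := by
      ext x
      simp only [Set.mem_inter_iff, Set.mem_compl_iff]
      constructor
      · rintro ⟨hxU, hx0⟩
        refine ⟨fun hxV => hxU ?_, hx0⟩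
        have hm : x ∈ V ∩ X₀ := ⟨hxV, hx0⟩
        rw [← hUV] at hm
        exact hm.1
      · rintro ⟨hxV, hx0⟩
        refine ⟨fun hxU => hxV ?_, hx0⟩
        have hm : x ∈ U ∩ X₀ := ⟨hxU, hx0⟩
        rw [hUV] at hm
        exact hm.1
    exact compl_injective (h Uᶜ Vᶜ hU.isClosed_compl hV.isClosed_compl hc)
  tfae_have 3 → 1 := by
    intro h Z hZ hne
    obtain ⟨U, F, hU, hF, rfl⟩ := hZ
    by_contra hcon
    rw [Set.not_nonempty_iff_eq_empty] at hcon
    have hUF : U = U ∩ Fᶜ := by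
      refine h U (U ∩ Fᶜ) hU (hU.inter hF.isOpen_compl) ?_
      ext x
      simp only [Set.mem_inter_iff, Set.mem_compl_iff]
      constructor
      · rintro ⟨hxU, hx0⟩
        refine ⟨⟨hxU, fun hxF => ?_⟩, hx0⟩
        have hm : x ∈ U ∩ F ∩ X₀ := ⟨⟨hxU, hxF⟩, hx0⟩
        rw [hcon] at hm
        exact hm
      · rintro ⟨⟨hxU, -⟩, hx0⟩
        exact ⟨hxU, hx0⟩
    obtain ⟨z, hzU, hzF⟩ := hne
    rw [hUF] at hzU
    exact hzU.2 hzF
  tfae_finish

end Groth.Agent.S4858
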