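import Groth.Statements.S4859
import Groth.Agent.Lib.QuasiHomeo_helper6
-- import your own Groth.Agent.* helpers here

set_option autoImplicit false
universe u
open EGA43

namespace Groth.Agent.S4859

/-- Conditions a), a′), b) (quasi-homeomorphisms): for a continuous map f : X₀ → X the following are
equivalent: taking preimages is a bijection from the open subsets of X onto the open subsets of X₀;
taking preimages is a bijection from the closed subsets of X onto the closed subsets of X₀; the
topology of X₀ is induced from X through f and the image f(X₀) is very dense in X, in the sense that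
two open subsets of X with the same trace on f(X₀) coincide. -/
theorem result {X₀ X : Type u} [TopologicalSpace X₀] [TopologicalSpace X]
    (f : X₀ → X) (hf : Continuous f) :
    [Function.Bijective (fun U : TopologicalSpace.Opens X =>
        (⟨f ⁻¹' (U : Set X), U.isOpen.preimage hf⟩ : TopologicalSpace.Opens X₀)),
      Function.Bijective (fun F : TopologicalSpace.Closeds X =>
        (⟨f ⁻¹' (F : Set X), F.isClosed.preimage hf⟩ : TopologicalSpace.Closeds X₀)),
      Topology.IsInducing f ∧
        ∀ U V : Set X, IsOpen U → IsOpen V → U ∩ Set.range f = V ∩ Set.range f → U = V].TFAE := by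
  have hq := Groth.Agent.Lib.QuasiHomeo_helper6.qh_iff_bijective hf
  tfae_have 1 ↔ 3 := by
    rw [← hq]
    constructor
    · intro h
      refine ⟨⟨le_antisymm (continuous_iff_le_induced.1 hf) ?_⟩, ?_⟩
      · intro V hV
        obtain ⟨U, hU, rfl⟩ := h.2 V hV
        exact isOpen_induced_iff.2 ⟨U, hU, rfl⟩
      · intro U V hU hV hUV
        apply h.1 U V hU hV
        ext x
        have := Set.ext_iff.1 hUV (f x)
        simp only [Set.mem_inter_iff, Set.mem_range_self, and_true] at this
        exact this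
    · rintro ⟨hind, hd⟩
      refine ⟨fun U V hU hV hUV => hd U V hU hV ?_, fun V hV => hind.isOpen_iff.1 hV⟩
      ext y
      simp only [Set.mem_inter_iff, Set.mem_range]
      constructor
      · rintro ⟨hyU, x, rfl⟩
        exact ⟨Set.ext_iff.1 hUV x |>.1 hyU, x, rfl⟩
      · rintro ⟨hyV, x, rfl⟩
        exact ⟨Set.ext_iff.1 hUV x |>.2 hyV, x, rfl⟩
  tfae_have 1 ↔ 2 := by
    constructor
    · rintro ⟨hinj, hsurj⟩
      refine ⟨fun F₁ F₂ h => ?_, fun C => ?_⟩
      · have h' : f ⁻¹' (F₁ : Set X) = f ⁻¹' (F₂ : Set X) :=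
          congrArg (fun W : TopologicalSpace.Closeds X₀ => (W : Set X₀)) h
        have := @hinj ⟨(F₁ : Set X)ᶜ, F₁.isClosed.isOpen_compl⟩ ⟨(F₂ : Set X)ᶜ, F₂.isClosed.isOpen_compl⟩
          (TopologicalSpace.Opens.ext (by simp only [TopologicalSpace.Opens.coe_mk, Set.preimage_compl, h']))
        have h2 : (F₁ : Set X)ᶜ = (F₂ : Set X)ᶜ :=
          congrArg (fun W : TopologicalSpace.Opens X => (W : Set X)) this
        exact TopologicalSpace.Closeds.ext (compl_injective h2)
      · obtain ⟨U, hU⟩ := hsurj ⟨(C : Set X₀)ᶜ, C.isClosed.isOpen_compl⟩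
        have hU' : f ⁻¹' (U : Set X) = (C : Set X₀)ᶜ :=
          congrArg (fun W : TopologicalSpace.Opens X₀ => (W : Set X₀)) hU
        refine ⟨⟨(U : Set X)ᶜ, U.isOpen.isClosed_compl⟩, TopologicalSpace.Closeds.ext ?_⟩
        simp only [TopologicalSpace.Closeds.coe_mk, Set.preimage_compl, hU', compl_compl]
    · rintro ⟨hinj, hsurj⟩
      refine ⟨fun U₁ U₂ h => ?_, fun V => ?_⟩
      · have h' : f ⁻¹' (U₁ : Set X) = f ⁻¹' (U₂ : Set X) :=
          congrArg (fun W : TopologicalSpace.Opens X₀ => (W : Set X₀)) h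
        have := @hinj ⟨(U₁ : Set X)ᶜ, U₁.isOpen.isClosed_compl⟩ ⟨(U₂ : Set X)ᶜ, U₂.isOpen.isClosed_compl⟩
          (TopologicalSpace.Closeds.ext (by simp only [TopologicalSpace.Closeds.coe_mk, Set.preimage_compl, h']))
        have h2 : (U₁ : Set X)ᶜ = (U₂ : Set X)ᶜ :=
          congrArg (fun W : TopologicalSpace.Closeds X => (W : Set X)) this
        exact TopologicalSpace.Opens.ext (compl_injective h2)
      · obtain ⟨F, hF⟩ := hsurj ⟨(V : Set X₀)ᶜ, V.isOpen.isClosed_compl⟩
        have hF' : f ⁻¹' (F : Set X) = (V : Set X₀)ᶜ :=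
          congrArg (fun W : TopologicalSpace.Closeds X₀ => (W : Set X₀)) hF
        refine ⟨⟨(F : Set X)ᶜ, F.isClosed.isOpen_compl⟩, TopologicalSpace.Opens.ext ?_⟩
        simp only [TopologicalSpace.Opens.coe_mk, Set.preimage_compl, hF', compl_compl]
  tfae_finish

end Groth.Agent.S4859
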