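import Groth.Statements.S4860
import Groth.Agent.Lib.GDomain_helper6
-- import your own Groth.Agent.* helpers here

set_option autoImplicit false
universe u
open EGA43

namespace Groth.Agent.S4860

open Groth.Agent.Lib.GDomain

/-- For an integral domain B the following are equivalent: a) the localization B_f is a field for some
nonzero f; b) the fraction field of B is a finitely generated B-algebra; c) there is a field
containing B (an injective algebra map from B) which is a finitely generated B-algebra; d) the
generic point of Spec B is open. -/
theorem result (B : Type u) [CommRing B] [IsDomain B] :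
    [∃ f : B, f ≠ 0 ∧ IsField (Localization.Away f),
      Algebra.FiniteType B (FractionRing B),
      ∃ (K : Type u) (_ : Field K) (_ : Algebra B K), Function.Injective (algebraMap B K) ∧ Algebra.FiniteType B K,
      IsOpen ({⟨⊥, Ideal.bot_prime⟩} : Set (PrimeSpectrum B))].TFAE := by
  tfae_have 1 → 2 := fun ⟨f, hf, hF⟩ => finiteType_fractionRing_of_isField_away hf hF
  tfae_have 2 → 3 := fun h =>
    ⟨FractionRing B, inferInstance, inferInstance, IsFractionRing.injective B _, h⟩
  tfae_have 3 → 1 := fun ⟨K, _, _, hinj, hft⟩ => exists_away_isField_of_finiteType_field K hinj
  tfae_have 1 ↔ 4 := exists_away_isField_iff.trans isOpen_bot_iff.symm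
  tfae_finish

end Groth.Agent.S4860
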