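import Groth.Statements.S4861
import Groth.Agent.Lib.GDomain_helper6
-- import your own Groth.Agent.* helpers here

set_option autoImplicit false
universe u
open EGA43

namespace Groth.Agent.S4861

open Groth.Agent.Lib.GDomain

/-- For a Noetherian integral domain B the following are equivalent (and hence equivalent to: the
fraction field of B is a finitely generated B-algebra; the generic point of Spec B is open): a) the
localization B_f is a field for some nonzero f; e) Spec B is finite; f) B is semi-local (finitely
many maximal ideals) of Krull dimension at most 1. -/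
theorem result (B : Type u) [CommRing B] [IsDomain B]
    [IsNoetherianRing B] :
    [∃ f : B, f ≠ 0 ∧ IsField (Localization.Away f),
      Finite (PrimeSpectrum B),
      Finite (MaximalSpectrum B) ∧ ringKrullDim B ≤ 1].TFAE := by
  tfae_have 1 → 2 := fun h => by
    obtain ⟨f, hf, h'⟩ := exists_away_isField_iff.1 h
    exact finite_primeSpectrum_of_forall_mem hf h'
  tfae_have 2 → 3 := fun h => by
    have hfin : {p : Ideal B | p.IsPrime ∧ p ≠ ⊥}.Finite := by
      have hsub : {p : Ideal B | p.IsPrime ∧ p ≠ ⊥} ⊆
          Set.range (PrimeSpectrum.asIdeal (R := B)) := by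
        rintro p ⟨hp, _⟩
        exact ⟨⟨p, hp⟩, rfl⟩
      exact (Set.finite_range _).subset hsub
    obtain ⟨f, hf, h'⟩ := exists_of_finite_primes hfin
    refine ⟨?_, ringKrullDim_le_one_of_forall_mem hf h'⟩
    exact Finite.of_injective MaximalSpectrum.toPrimeSpectrum
      MaximalSpectrum.toPrimeSpectrum_injective
  tfae_have 3 → 1 := fun ⟨hfin, hdim⟩ => by
    have hdim' : Ring.KrullDimLE 1 B := Ring.krullDimLE_iff.2 (by exact_mod_cast hdim)
    have hfin' : {p : Ideal B | p.IsPrime ∧ p ≠ ⊥}.Finite := by
      have hsub : {p : Ideal B | p.IsPrime ∧ p ≠ ⊥} ⊆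
          Set.range (MaximalSpectrum.asIdeal (R := B)) := by
        rintro p ⟨hp, hp0⟩
        exact ⟨⟨p, hp.isMaximal_of_ne_bot hp0⟩, rfl⟩
      exact (Set.finite_range _).subset hsub
    exact exists_away_isField_iff.2 (exists_of_finite_primes hfin')
  tfae_finish

end Groth.Agent.S4861
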