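import Groth.Statements.S4862
import Groth.Agent.Lib.GDomain_helper6
-- import your own Groth.Agent.* helpers here

set_option autoImplicit false
universe u
open EGA43

namespace Groth.Agent.S4862

open Groth.Agent.Lib.GDomain

/-- For a commutative ring A the following are equivalent: a) A is a Jacobson ring; b) for every prime
ideal p of A which is not maximal and every nonzero f of B = A/p, the localization B_f is not a
field; b′) every finitely generated A-algebra which is a field is a finite A-module. -/
theorem result (A : Type u) [CommRing A] :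
    [IsJacobsonRing A,
      ∀ (p : Ideal A) [p.IsPrime], ¬ p.IsMaximal → ∀ f : A ⧸ p, f ≠ 0 → ¬ IsField (Localization.Away f),
      ∀ (K : Type u) [Field K] [Algebra A K], Algebra.FiniteType A K → Module.Finite A K].TFAE := by
  tfae_have 1 → 3 := fun h K _ _ hft => finite_of_finite_type_of_isJacobsonRing A K
  tfae_have 3 → 2 := by
    intro h p hp hpmax f hf hF
    haveI : Algebra.FiniteType (A ⧸ p) (FractionRing (A ⧸ p)) :=
      finiteType_fractionRing_of_isField_away hf hF
    haveI : Algebra.FiniteType A (A ⧸ p) :=
      Algebra.FiniteType.of_surjective (Algebra.ofId A (A ⧸ p)) Ideal.Quotient.mk_surjective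
    haveI : Algebra.FiniteType A (FractionRing (A ⧸ p)) :=
      Algebra.FiniteType.trans ‹Algebra.FiniteType A (A ⧸ p)› ‹_›
    haveI : Module.Finite A (FractionRing (A ⧸ p)) := h (FractionRing (A ⧸ p)) ‹_›
    haveI : Module.Finite (A ⧸ p) (FractionRing (A ⧸ p)) :=
      Module.Finite.of_restrictScalars_finite A (A ⧸ p) (FractionRing (A ⧸ p))
    have hfld : IsField (A ⧸ p) :=
      isField_of_isIntegral_of_isField (IsFractionRing.injective (A ⧸ p) (FractionRing (A ⧸ p)))
        (Field.toIsField _)
    exact hpmax (Ideal.Quotient.maximal_of_isField p hfld)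
  tfae_have 2 → 1 := by
    intro h
    rw [isJacobsonRing_iff_prime_eq]
    intro P hP
    refine le_antisymm ?_ Ideal.le_jacobson
    intro x hx
    by_contra hxP
    have hdisj : Disjoint (Submonoid.powers x : Set A) (P : Set A) :=
      (Ideal.disjoint_powers_iff_notMem_of_isPrime x).2 hxP
    have hPS : (P.map (algebraMap A (Localization.Away x))) ≠ ⊤ :=
      (IsLocalization.isPrime_of_isPrime_disjoint (Submonoid.powers x) (Localization.Away x)
        P hP hdisj).ne_top
    obtain ⟨M, hM, hPM⟩ := Ideal.exists_le_maximal _ hPS
    obtain ⟨q, hqdef⟩ : ∃ q : Ideal A, q = M.under A := ⟨_, rfl⟩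
    have hmapq : q.map (algebraMap A (Localization.Away x)) = M := by
      rw [hqdef]
      exact IsLocalization.map_under (Submonoid.powers x) (Localization.Away x) M
    have hq : q.IsPrime := by
      rw [hqdef]
      exact Ideal.comap_isPrime _ _
    have hPq : P ≤ q := by
      rw [hqdef]
      exact Ideal.map_le_iff_le_comap.1 hPM
    have hxq : x ∉ q := by
      rw [hqdef]
      intro hx'
      exact hM.ne_top (Ideal.eq_top_of_isUnit_mem _ hx' (IsLocalization.Away.algebraMap_isUnit x))
    by_cases hqmax : q.IsMaximal
    · have hxq' : x ∈ q := by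
        rw [Ideal.jacobson, Ideal.mem_sInf] at hx
        exact hx ⟨hPq, hqmax⟩
      exact hxq hxq'
    · have hx0 : (Ideal.Quotient.mk q x) ≠ 0 := by
        rwa [Ne, Ideal.Quotient.eq_zero_iff_mem]
      apply @h q hq hqmax (Ideal.Quotient.mk q x) hx0
      rw [isField_away_iff hx0]
      intro 𝔭 h𝔭 h𝔭0
      haveI : (𝔭.comap (Ideal.Quotient.mk q)).IsPrime := Ideal.comap_isPrime _ _
      have hqq'' : q ≤ 𝔭.comap (Ideal.Quotient.mk q) := by
        intro a ha
        show Ideal.Quotient.mk q a ∈ 𝔭
        rw [Ideal.Quotient.eq_zero_iff_mem.2 ha]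
        exact Ideal.zero_mem _
      by_contra hx𝔭
      have hxq'' : x ∉ 𝔭.comap (Ideal.Quotient.mk q) := hx𝔭
      have hdisj'' : Disjoint (Submonoid.powers x : Set A)
          (𝔭.comap (Ideal.Quotient.mk q) : Set A) :=
        (Ideal.disjoint_powers_iff_notMem_of_isPrime x).2 hxq''
      have hprime'' := IsLocalization.isPrime_of_isPrime_disjoint (Submonoid.powers x)
        (Localization.Away x) (𝔭.comap (Ideal.Quotient.mk q)) inferInstance hdisj''
      have hMle : M ≤ (𝔭.comap (Ideal.Quotient.mk q)).map
          (algebraMap A (Localization.Away x)) := by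
        rw [← hmapq]
        exact Ideal.map_mono hqq''
      have hMeq : M = (𝔭.comap (Ideal.Quotient.mk q)).map
          (algebraMap A (Localization.Away x)) := hM.eq_of_le hprime''.ne_top hMle
      have hqeq : 𝔭.comap (Ideal.Quotient.mk q) = q := by
        calc 𝔭.comap (Ideal.Quotient.mk q)
            = ((𝔭.comap (Ideal.Quotient.mk q)).map
                (algebraMap A (Localization.Away x))).under A :=
              (IsLocalization.under_map_of_isPrime_disjoint (Submonoid.powers x)
                (Localization.Away x) ‹(𝔭.comap (Ideal.Quotient.mk q)).IsPrime› hdisj'').symm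
          _ = M.under A := by rw [← hMeq]
          _ = q := hqdef.symm
      apply h𝔭0
      rw [← Ideal.map_comap_of_surjective (Ideal.Quotient.mk q)
        Ideal.Quotient.mk_surjective 𝔭, hqeq, Ideal.map_quotient_self]
  tfae_finish

end Groth.Agent.S4862
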