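import Groth.Statements.S4869
import Mathlib
import Groth.Agent.Lib.GrUnif11_helper8

set_option autoImplicit false
universe u
open TensorProduct
open EGA43

namespace Groth.Agent.S4869

/-- Let A₀ be a commutative ring, (A_i) a directed system of A₀-algebras with colimit A, B₀ a finitely
presented A₀-algebra, J₀ a finitely generated ideal of B₀ and M₀ a finitely presented B₀-module; put
M = A ⊗_{A₀} M₀ and J = J₀B, and likewise M_i, J_i over each A_i. Then the associated graded module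
gr_J(M) = ⊕_k J^k M / J^{k+1} M is flat over A if and only if, for some index i, gr_{J_i}(M_i) is
flat over A_i. Flatness of the graded module is expressed through the equivalent condition that
every truncation M / J^k M (k ≥ 0) is flat (the pieces J^k M / J^{k+1} M are the kernels of the
surjections M / J^{k+1} M → M / J^k M), and J^k M is realised as the image of A ⊗_{A₀} J₀^k M₀ in A
⊗_{A₀} M₀. (The published statement also asserts that the canonical maps from gr_{J_i}(M_i) ⊗_{A_i}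
A to gr_J(M) are then bijective; this row states only the equivalence.) -/
theorem result {A₀ : Type u} [CommRing A₀]
    {ι : Type u} [Preorder ι] (G : ι → Type u) [∀ i, CommRing (G i)] [∀ i, Algebra A₀ (G i)]
    (g : ∀ i j, i ≤ j → G i →ₐ[A₀] G j)
    (A : Type u) [CommRing A] [Algebra A₀ A] [∀ i, Algebra (G i) A] [∀ i, IsScalarTower A₀ (G i) A]
    (hcolim : FlatCA.IsDirectedColimitRing G (fun i j h => (g i j h).toRingHom) A)
    {B₀ : Type u} [CommRing B₀] [Algebra A₀ B₀] [Algebra.FinitePresentation A₀ B₀]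
    (J₀ : Ideal B₀) (hJ₀ : J₀.FG)
    (M₀ : Type u) [AddCommGroup M₀] [Module B₀ M₀] [Module A₀ M₀] [IsScalarTower A₀ B₀ M₀]
    [Module.FinitePresentation B₀ M₀] :
    (∀ k : ℕ, Module.Flat A ((A ⊗[A₀] M₀) ⧸
        LinearMap.range (((J₀ ^ k • (⊤ : Submodule B₀ M₀)).restrictScalars A₀).subtype.baseChange A))) ↔
      ∃ i : ι, ∀ k : ℕ, Module.Flat (G i) ((G i ⊗[A₀] M₀) ⧸
        LinearMap.range (((J₀ ^ k • (⊤ : Submodule B₀ M₀)).restrictScalars A₀).subtype.baseChange (G i))) := by
  obtain ⟨hdir, hne, -, hcomp, hcompat, hsurj, hker⟩ := hcolim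
  haveI := hdir
  haveI := hne
  constructor
  · intro h
    have h' : ∀ k, Module.Flat A (A ⊗[A₀] Groth.Agent.Lib.GrUnifH8.Qk J₀ M₀ k) := fun k =>
      (Groth.Agent.Lib.GrUnifH8.flat_Pk_iff J₀ M₀ A k).mp (h k)
    obtain ⟨i, hi⟩ := Groth.Agent.Lib.GrUnifH8.exists_stage_flat_Qk J₀ M₀ hJ₀ G g A hcomp hcompat
      hsurj hker h'
    exact ⟨i, fun k => (Groth.Agent.Lib.GrUnifH8.flat_Pk_iff J₀ M₀ (G i) k).mpr (hi k)⟩
  · rintro ⟨i, hi⟩ k
    rw [Groth.Agent.Lib.GrUnifH8.flat_Pk_iff J₀ M₀ A k]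
    haveI := (Groth.Agent.Lib.GrUnifH8.flat_Pk_iff J₀ M₀ (G i) k).mp (hi k)
    exact Groth.Agent.Lib.LocalCrit8.flat_baseChange_of_algebra A₀ (G i) A
      (Groth.Agent.Lib.GrUnifH8.Qk J₀ M₀ k)

end Groth.Agent.S4869
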