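import Groth.Statements.S4878

-- import your own Groth.Agent.* helpers here

set_option autoImplicit false
universe u
open TensorProduct
open EGA43

namespace Groth.Agent.S4878

/-- Let A be a commutative ring, (u_i : M → M_i) a family of A-linear maps whose kernels have zero
intersection, and N a projective A-module. Then the kernels of the maps u_i ⊗ 1 : M ⊗_A N → M_i ⊗_A
N have zero intersection. -/
theorem result {A : Type u} [CommRing A]
    {M : Type u} [AddCommGroup M] [Module A M] {ι : Type u} (M' : ι → Type u)
    [∀ i, AddCommGroup (M' i)] [∀ i, Module A (M' i)] (u : ∀ i, M →ₗ[A] M' i)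
    (hu : ⨅ i, LinearMap.ker (u i) = ⊥)
    (N : Type u) [AddCommGroup N] [Module A N] [Module.Projective A N] :
    ⨅ i, LinearMap.ker ((u i).rTensor N) = ⊥ := by
  classical
  obtain ⟨s, hs⟩ := (Module.projective_def' (R := A) (P := N)).1 inferInstance
  rw [eq_bot_iff]
  intro x hx
  rw [Submodule.mem_iInf] at hx
  rw [Submodule.mem_bot]
  have nat : ∀ (i : ι) (y : M ⊗[A] (N →₀ A)) (k : N),
      TensorProduct.finsuppScalarRight A A (M' i) N ((u i).rTensor (N →₀ A) y) k =
        u i (TensorProduct.finsuppScalarRight A A M N y k) := by
    intro i y k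
    induction y using TensorProduct.induction_on with
    | zero => simp
    | add a b ha hb => simp only [map_add, Finsupp.add_apply, ha, hb]
    | tmul m p =>
      rw [LinearMap.rTensor_tmul, TensorProduct.finsuppScalarRight_apply_tmul_apply,
        TensorProduct.finsuppScalarRight_apply_tmul_apply, map_smul]
  have hy0 : ∀ i, (u i).rTensor (N →₀ A) ((LinearMap.lTensor M s) x) = 0 := by
    intro i
    have hxi := hx i
    rw [LinearMap.mem_ker] at hxi
    rw [← LinearMap.comp_apply, LinearMap.rTensor_comp_lTensor, ← LinearMap.lTensor_comp_rTensor,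
      LinearMap.comp_apply, hxi, map_zero]
  have hey : TensorProduct.finsuppScalarRight A A M N ((LinearMap.lTensor M s) x) = 0 := by
    ext k
    have hk : TensorProduct.finsuppScalarRight A A M N ((LinearMap.lTensor M s) x) k ∈
        ⨅ i, LinearMap.ker (u i) := by
      rw [Submodule.mem_iInf]
      intro i
      rw [LinearMap.mem_ker, ← nat i, hy0 i, map_zero]
      rfl
    rw [hu] at hk
    simpa using hk
  have hy0' : (LinearMap.lTensor M s) x = 0 :=
    (TensorProduct.finsuppScalarRight A A M N).injective (by rw [hey, map_zero])
  have hx' : x = (LinearMap.lTensor M (Finsupp.linearCombination A id)) ((LinearMap.lTensor M s) x) := by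
    rw [← LinearMap.comp_apply, ← LinearMap.lTensor_comp, hs, LinearMap.lTensor_id,
      LinearMap.id_apply]
  rw [hx', hy0', map_zero]

end Groth.Agent.S4878
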