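import Groth.Statements.S4880
import Groth.Agent.Lib.GDomainSch_helper6
-- import your own Groth.Agent.* helpers here

set_option autoImplicit false
universe u
open CategoryTheory AlgebraicGeometry
open EGA43

namespace Groth.Agent.S4880

open Groth.Agent.Lib.GDomain

/-- For a Noetherian irreducible scheme X the following are equivalent: a) the generic point of X is an
isolated point; b) the underlying set of X is finite; c) X has dimension at most 1 and finitely many
closed points. -/
theorem result (X : Scheme.{u}) [IsNoetherian X]
    [IrreducibleSpace X] :
    [IsOpen ({genericPoint X} : Set X),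
      Finite X,
      topologicalKrullDim X ≤ 1 ∧ {x : X | IsClosed ({x} : Set X)}.Finite].TFAE := by
  have hgen : IsGenericPoint (genericPoint X) ⊤ := genericPoint_spec X
  have hη : ∀ y : X, genericPoint X ⤳ y := fun y => hgen.specializes (Set.mem_univ y)
  have h21 : Finite X → IsOpen ({genericPoint X} : Set X) := by
    intro hfin
    have heq : ({genericPoint X} : Set X)ᶜ =
        ⋃ y ∈ ({genericPoint X} : Set X)ᶜ, closure {y} := by
      ext z
      simp only [Set.mem_compl_iff, Set.mem_singleton_iff, Set.mem_iUnion, exists_prop]
      constructor
      · intro hz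
        exact ⟨z, hz, subset_closure rfl⟩
      · rintro ⟨y, hy, hzy⟩ hzη
        subst hzη
        exact hy ((specializes_iff_mem_closure.2 hzy).antisymm (hη y)).eq
    rw [← isClosed_compl_iff, heq]
    exact (Set.toFinite _).isClosed_biUnion (fun _ _ => isClosed_closure)
  tfae_have 1 → 2 := by
    intro h
    have hfin := finite_closure_of_isCompact h (Set.mem_singleton _) Set.inter_subset_right
    rw [show closure ({genericPoint X} : Set X) = Set.univ from hgen] at hfin
    exact Set.finite_univ_iff.1 hfin
  tfae_have 2 → 1 := h21
  tfae_have 2 → 3 := by
    intro hfin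
    have hopen := h21 hfin
    refine ⟨?_, Set.toFinite _⟩
    rw [topologicalKrullDim, Order.krullDim_le_one_iff]
    intro Z
    by_cases hZ : (Z : Set X) = Set.univ
    · right
      intro Z' _ a _
      show a ∈ (Z : Set X)
      rw [hZ]
      trivial
    · left
      intro Z' hZ'Z
      obtain ⟨z, hz⟩ := QuasiSober.sober Z.isIrreducible Z.isClosed
      obtain ⟨z', hz'⟩ := QuasiSober.sober Z'.isIrreducible Z'.isClosed
      have hzz' : z ⤳ z' := hz.specializes (hZ'Z (hz'.mem))
      have hne : genericPoint X ≠ z := by
        intro h
        apply hZ
        rw [← hz.def, ← h]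
        exact hgen
      have hzeq : z = z' := eq_of_specializes hopen (Set.mem_singleton _) Set.inter_subset_right
        (hη z) hne hzz'
      intro a ha
      have ha' : a ∈ (Z : Set X) := ha
      rw [← hz.def, hzeq, hz'.def] at ha'
      exact ha'
  tfae_have 3 → 1 := by
    rintro ⟨hdim, hfin⟩
    rw [topologicalKrullDim, Order.krullDim_le_one_iff] at hdim
    have key : ∀ y : X, y ≠ genericPoint X → IsClosed ({y} : Set X) := by
      intro y hy
      rcases hdim ⟨closure {y}, isIrreducible_singleton.closure, isClosed_closure⟩ with hmin | hmax
      · obtain ⟨c, hc, hcc⟩ := IsClosed.exists_closed_singleton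
          (isClosed_closure (s := ({y} : Set X))) ⟨y, subset_closure rfl⟩
        have hle : (⟨{c}, isIrreducible_singleton, hcc⟩ : TopologicalSpace.IrreducibleCloseds X) ≤
            ⟨closure {y}, isIrreducible_singleton.closure, isClosed_closure⟩ := by
          intro a ha
          have hac : a = c := ha
          rw [hac]
          exact hc
        have hyc : y ∈ ({c} : Set X) := hmin hle (show y ∈ closure ({y} : Set X) from subset_closure rfl)
        rw [show y = c from hyc]
        exact hcc
      · exfalso
        apply hy
        have htop : (⟨closure {y}, isIrreducible_singleton.closure, isClosed_closure⟩ :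
            TopologicalSpace.IrreducibleCloseds X) ≤
            ⟨Set.univ, IrreducibleSpace.isIrreducible_univ X, isClosed_univ⟩ :=
          fun a _ => Set.mem_univ a
        have hle := hmax htop
        have hy' : IsGenericPoint y ⊤ :=
          Set.eq_univ_of_univ_subset (fun a ha => hle ha)
        exact hy'.eq hgen
    have heq : ({genericPoint X} : Set X)ᶜ =
        ⋃ y ∈ {x : X | IsClosed ({x} : Set X)} \ {genericPoint X}, {y} := by
      ext z
      simp only [Set.mem_compl_iff, Set.mem_singleton_iff, Set.mem_iUnion, exists_prop,
        Set.mem_diff, Set.mem_setOf_eq]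
      constructor
      · intro hz
        exact ⟨z, ⟨key z hz, hz⟩, rfl⟩
      · rintro ⟨y, ⟨_, hy⟩, rfl⟩
        exact hy
    rw [← isClosed_compl_iff, heq]
    exact (hfin.diff).isClosed_biUnion (fun y hy => hy.1)
  tfae_finish

end Groth.Agent.S4880
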