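import Groth.Statements.S4881
import Groth.Agent.Lib.ClosHt_helper8
import Groth.Agent.Lib.GenDense_helper8

set_option autoImplicit false
universe u
open CategoryTheory AlgebraicGeometry
open EGA43

namespace Groth.Agent.S4881

/-- Let X be a locally Noetherian scheme which is Jacobson, whose local rings are universally catenary,
and whose irreducible components X' are equidimensional in the sense that for every closed point x
of X' the dimension of X' equals the dimension of the set of generizations of x in X'. Then for
every dense open subset U of X, dim U = dim X. -/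
theorem result (X : Scheme.{u}) [IsLocallyNoetherian X] [JacobsonSpace X]
    (h2 : ∀ x : X, CAlg.IsUniversallyCatenary (X.presheaf.stalk x))
    (h3 : ∀ X' ∈ irreducibleComponents (X : Type u), ∀ x ∈ X', IsClosed ({x} : Set X) →
      topologicalKrullDim (↥X' : Type u) = topologicalKrullDim ↥{t : X | t ∈ X' ∧ t ⤳ x})
    (U : Set X) (hU : IsOpen U) (hd : Dense U) :
    topologicalKrullDim ↥U = topologicalKrullDim X := by
  classical
  apply le_antisymm (topologicalKrullDim_subspace_le X U)
  rw [Groth.Agent.ClosHtH8.topologicalKrullDim_eq_iSup_height X]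
  refine iSup_le fun a => ?_
  obtain ⟨X', hX', haX'⟩ := exists_mem_irreducibleComponents_subset_of_isIrreducible
    (closure ({a} : Set X)) isIrreducible_singleton.closure
  have hX'closed := isClosed_of_mem_irreducibleComponents X' hX'
  obtain ⟨η, hη⟩ := QuasiSober.sober hX'.1 hX'closed
  have haη : a ≤ η := by
    change η ⤳ a
    rw [specializes_iff_mem_closure, hη.def]
    exact haX' (subset_closure (Set.mem_singleton a))
  have hηmax : ∀ z : X, z ⤳ η → z = η :=
    (Groth.Agent.SchFTH8.closure_mem_irreducibleComponents_iff η).mp (hη.def ▸ hX')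
  have hηU : η ∈ U := Groth.Agent.GenDenseH8.mem_of_dense_of_isMax X U hU hd η hηmax
  have hne : (U ∩ (X' ∩ closedPoints X)).Nonempty := by
    have hJ := closure_inter_closedPoints hX'closed
    have hηcl : η ∈ closure (X' ∩ closedPoints X) := by
      rw [hJ, ← hη.def]
      exact subset_closure (Set.mem_singleton η)
    exact mem_closure_iff.mp hηcl U hU hηU
  obtain ⟨x, hxU, hxX', hxcl⟩ := hne
  have h3' := h3 X' hX' x hxX' (mem_closedPoints_iff.mp hxcl)
  have hC : topologicalKrullDim ↥X' = ((Order.height η : ℕ∞) : WithBot ℕ∞) := by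
    rw [← Groth.Agent.ClosHtH8.topologicalKrullDim_closure_singleton X η, hη.def]
  have hsub : {t : X | t ∈ X' ∧ t ⤳ x} ⊆ U := fun t ht => ht.2.mem_open hU hxU
  have hT : topologicalKrullDim ↥{t : X | t ∈ X' ∧ t ⤳ x} ≤ topologicalKrullDim ↥U :=
    (Topology.IsEmbedding.inclusion hsub).isInducing.topologicalKrullDim_le
  calc ((Order.height a : ℕ∞) : WithBot ℕ∞) ≤ ((Order.height η : ℕ∞) : WithBot ℕ∞) := by
        exact_mod_cast Order.height_mono haη
    _ = topologicalKrullDim ↥X' := hC.symm
    _ = topologicalKrullDim ↥{t : X | t ∈ X' ∧ t ⤳ x} := h3'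
    _ ≤ topologicalKrullDim ↥U := hT

end Groth.Agent.S4881
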