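import Groth.Statements.S4882

-- import your own Groth.Agent.* helpers here

set_option autoImplicit false
universe u
open EGA43

namespace Groth.Agent.S4882

/-- Let X be a Jacobson space and Z a locally quasi-constructible subset of X, i.e. every point of X has
an open neighbourhood U such that U ∩ Z is a finite union of locally closed subsets of X. Then the
subspace Z is a Jacobson space, and a point of Z is closed in Z if and only if it is closed in X. -/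
theorem result {X : Type u} [TopologicalSpace X] [JacobsonSpace X]
    (Z : Set X)
    (hZ : ∀ x : X, ∃ U : Set X, IsOpen U ∧ x ∈ U ∧
      ∃ T : Set (Set X), T.Finite ∧ (∀ t ∈ T, IsLocallyClosed t) ∧ U ∩ Z = ⋃₀ T) :
    JacobsonSpace ↥Z ∧ ∀ z : ↥Z, IsClosed ({z} : Set ↥Z) ↔ IsClosed ({(z : X)} : Set X) := by
  have key1 : ∀ z : ↥Z, IsClosed ({(z : X)} : Set X) → IsClosed ({z} : Set ↥Z) := by
    intro z hz
    have : ({z} : Set ↥Z) = Subtype.val ⁻¹' {(z : X)} := by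
      ext w; simp [Subtype.ext_iff]
    rw [this]; exact hz.preimage continuous_subtype_val
  have key2 : ∀ z : ↥Z, IsClosed ({z} : Set ↥Z) → IsClosed ({(z : X)} : Set X) := by
    intro z hz
    obtain ⟨U, hU, hzU, T, hT, hTl, hUT⟩ := hZ z
    have hzT : (z : X) ∈ ⋃₀ T := hUT ▸ ⟨hzU, z.2⟩
    obtain ⟨t, htT, hzt⟩ := hzT
    obtain ⟨V, C, hV, hC, rfl⟩ := hTl t htT
    apply isClosed_singleton_of_isLocallyClosed_singleton
    have hcl : closure ({(z:X)} : Set X) ∩ Z ⊆ {(z : X)} := by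
      rintro x ⟨hx, hxZ⟩
      have h1 : (⟨x, hxZ⟩ : ↥Z) ∈ closure ({z} : Set ↥Z) := by
        rw [closure_subtype]
        simpa using hx
      rw [hz.closure_eq] at h1
      exact congrArg Subtype.val (Set.mem_singleton_iff.1 h1)
    have h2 : ({(z:X)} : Set X) = (U ∩ V) ∩ closure {(z:X)} := by
      apply Set.Subset.antisymm
      · rintro _ rfl; exact ⟨⟨hzU, hzt.1⟩, subset_closure rfl⟩
      · rintro x ⟨⟨hxU, hxV⟩, hxc⟩
        apply hcl
        refine ⟨hxc, ?_⟩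
        have hxC : x ∈ C := (closure_minimal (Set.singleton_subset_iff.2 hzt.2) hC) hxc
        have h3 : x ∈ U ∩ Z := by rw [hUT]; exact ⟨_, htT, hxV, hxC⟩
        exact h3.2
    rw [h2]
    exact ⟨U ∩ V, closure _, hU.inter hV, isClosed_closure, rfl⟩
  refine ⟨?_, fun z => ⟨key2 z, key1 z⟩⟩
  rw [jacobsonSpace_iff_locallyClosed]
  rintro W ⟨w, hw⟩ ⟨A, B, hA, hB, rfl⟩
  obtain ⟨A', hA', rfl⟩ := isOpen_induced_iff.1 hA
  obtain ⟨B', hB', rfl⟩ := isClosed_induced_iff.1 hB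
  obtain ⟨U, hU, hwU, T, hT, hTl, hUT⟩ := hZ w
  have hwT : (w : X) ∈ ⋃₀ T := hUT ▸ ⟨hwU, w.2⟩
  obtain ⟨t, htT, hwt⟩ := hwT
  have hlc : IsLocallyClosed (t ∩ (A' ∩ B')) :=
    (hTl t htT).inter (hA'.isLocallyClosed.inter hB'.isLocallyClosed)
  obtain ⟨x, ⟨hxt, hxA, hxB⟩, hxc⟩ := nonempty_inter_closedPoints (Z := t ∩ (A' ∩ B')) ⟨(w : X), hwt, hw.1, hw.2⟩ hlc
  have hxZ : x ∈ Z := by
    have h3 : x ∈ U ∩ Z := by rw [hUT]; exact ⟨_, htT, hxt⟩
    exact h3.2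
  exact ⟨⟨x, hxZ⟩, ⟨hxA, hxB⟩, key1 ⟨x, hxZ⟩ hxc⟩

end Groth.Agent.S4882
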