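import Groth.Statements.S4883
import Groth.Agent.Lib.GDomainSch_helper6
-- import your own Groth.Agent.* helpers here

set_option autoImplicit false
universe u
open CategoryTheory AlgebraicGeometry
open EGA43

namespace Groth.Agent.S4883

open Groth.Agent.Lib.GDomain

/-- Let X be a Noetherian scheme. Then the set of points x of X whose closure is finite is very dense in
X: every nonempty locally closed subset of X contains a point with finite closure. -/
theorem result (X : Scheme.{u}) [IsNoetherian X]
    (Z : Set X) (hZ : IsLocallyClosed Z) (hne : Z.Nonempty) :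
    ∃ x ∈ Z, (closure ({x} : Set X)).Finite := by
  obtain ⟨V, C, hV, hC, rfl⟩ := hZ
  haveI : Nonempty ↥(V ∩ C) := hne.to_subtype
  obtain ⟨z, -, hz⟩ := IsClosed.exists_closed_singleton (X := ↥(V ∩ C)) isClosed_univ
    Set.univ_nonempty
  refine ⟨z.1, z.2, ?_⟩
  apply finite_closure_of_isCompact hV z.2.1
  rintro y ⟨hy, hyV⟩
  have hyC : y ∈ C := closure_minimal (Set.singleton_subset_iff.2 z.2.2) hC hy
  have h1 : (⟨y, hyV, hyC⟩ : ↥(V ∩ C)) ∈ closure ({z} : Set ↥(V ∩ C)) := by
    rw [closure_subtype]
    simpa using hy
  rw [hz.closure_eq] at h1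
  exact congrArg Subtype.val (Set.mem_singleton_iff.1 h1)

end Groth.Agent.S4883
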