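import Groth.Statements.S4885
import Groth.Agent.Lib.FiniteFPColim_helper3
-- import your own Groth.Agent.* helpers here

set_option autoImplicit false
universe u
open EGA43
set_option maxSynthPendingDepth 3

namespace Groth.Agent.S4885

/-- Every finite algebra A' over a commutative ring A is a directed colimit (filtered inductive limit)
of A-algebras which are finite and of finite presentation over A. -/
theorem result (A A' : Type u) [CommRing A] [CommRing A']
    [Algebra A A'] [Module.Finite A A'] :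
    ∃ (ι : Type u) (_ : Preorder ι) (G : ι → Type u) (_ : ∀ i, CommRing (G i)) (_ : ∀ i, Algebra A (G i))
      (g : ∀ i j, i ≤ j → G i →ₐ[A] G j) (_ : ∀ i, Algebra (G i) A') (_ : ∀ i, IsScalarTower A (G i) A'),
      FlatCA.IsDirectedColimitRing G (fun i j h => (g i j h).toRingHom) A' ∧
        ∀ i, Module.Finite A (G i) ∧ Algebra.FinitePresentation A (G i) := by
  classical
  obtain ⟨C, _, _, f, hfin, hfp, hsurj⟩ :=
    Groth.Agent.Lib.FiniteFPColimH3.exists_finite_fp_surjective A A'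
  let ι : Type u := {𝔟 : Ideal C // 𝔟.FG ∧ 𝔟 ≤ RingHom.ker (f : C →+* A')}
  let G : ι → Type u := fun 𝔟 => C ⧸ 𝔟.1
  letI instCR : ∀ i, CommRing (G i) := fun i => inferInstanceAs (CommRing (C ⧸ i.1))
  letI instAlg : ∀ i, Algebra A (G i) := fun i => inferInstanceAs (Algebra A (C ⧸ i.1))
  let g : ∀ i j : ι, i ≤ j → G i →ₐ[A] G j := fun i j h => Ideal.Quotient.factorₐ A h
  let φ : ∀ i : ι, G i →ₐ[A] A' := fun i => Ideal.Quotient.liftₐ i.1 f (fun a ha => i.2.2 ha)
  letI instAlg' : ∀ i, Algebra (G i) A' := fun i => (φ i).toRingHom.toAlgebra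
  haveI instST : ∀ i, IsScalarTower A (G i) A' := fun i =>
    IsScalarTower.of_algebraMap_eq fun a => ((φ i).commutes a).symm
  have hφmk : ∀ (i : ι) (c : C), algebraMap (G i) A' (Ideal.Quotient.mk i.1 c) = f c :=
    fun i c => rfl
  refine ⟨ι, inferInstance, G, instCR, instAlg, g, instAlg', instST,
    ⟨?_, ?_, ?_, ?_, ?_, ?_, ?_⟩, fun i => ⟨?_, ?_⟩⟩
  · exact ⟨fun i j => ⟨⟨i.1 ⊔ j.1, Submodule.FG.sup i.2.1 j.2.1, sup_le i.2.2 j.2.2⟩,
      (le_sup_left : i.1 ≤ i.1 ⊔ j.1), (le_sup_right : j.1 ≤ i.1 ⊔ j.1)⟩⟩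
  · exact ⟨⟨⊥, Submodule.fg_bot, bot_le⟩⟩
  · intro i
    apply Ideal.Quotient.ringHom_ext
    rfl
  · intro i j k hij hjk
    apply Ideal.Quotient.ringHom_ext
    rfl
  · intro i j h
    apply Ideal.Quotient.ringHom_ext
    rfl
  · intro a
    obtain ⟨c, rfl⟩ := hsurj a
    exact ⟨⟨⊥, Submodule.fg_bot, bot_le⟩, Ideal.Quotient.mk _ c, rfl⟩
  · intro i x hx
    obtain ⟨c, rfl⟩ := Ideal.Quotient.mk_surjective x
    rw [hφmk] at hx
    have hc : c ∈ RingHom.ker (f : C →+* A') := hx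
    let j : ι := ⟨i.1 ⊔ Ideal.span {c}, Submodule.FG.sup i.2.1 ⟨{c}, by simp⟩,
      sup_le i.2.2 ((Ideal.span_singleton_le_iff_mem _).mpr hc)⟩
    refine ⟨j, (le_sup_left : i.1 ≤ i.1 ⊔ Ideal.span {c}), ?_⟩
    show Ideal.Quotient.mk j.1 c = 0
    exact Ideal.Quotient.eq_zero_iff_mem.mpr
      (Ideal.mem_sup_right (Ideal.subset_span rfl))
  · exact inferInstanceAs (Module.Finite A (C ⧸ i.1))
  · exact Algebra.FinitePresentation.quotient i.2.1

end Groth.Agent.S4885
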