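import Groth.Statements.S4886
import Groth.Agent.Lib.FTInt_helper8

set_option autoImplicit false
universe u
open CategoryTheory AlgebraicGeometry
open EGA43

namespace Groth.Agent.S4886

/-- Let Y be a scheme of finite type over ℤ. (i) A point y of Y is closed if and only if the residue
field k(y) is finite. (ii) For every prime number p and every integer d ≥ 1, the set of points y of
Y such that k(y) is an extension of 𝔽_p of degree dividing d, i.e. admits a ring homomorphism into
the field with p^d elements, is finite. -/
theorem result (Y : Scheme.{u}) [CompactSpace Y]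
    [LocallyOfFiniteType (Limits.IsTerminal.from specULiftZIsTerminal Y)] :
    (∀ y : Y, IsClosed ({y} : Set Y) ↔ Finite ↑(Y.residueField y)) ∧
    ∀ (p d : ℕ) [Fact p.Prime], 0 < d →
      {y : Y | Nonempty (↑(Y.residueField y) →+* GaloisField p d)}.Finite := by
  refine ⟨fun y => Groth.Agent.FTIntH8.isClosed_iff_finite
    (Limits.IsTerminal.from specULiftZIsTerminal Y) y, ?_⟩
  intro p d _ hd
  exact Groth.Agent.FTIntH8.finite_setOf_hom
    (Limits.IsTerminal.from specULiftZIsTerminal Y) (GaloisField p d)

end Groth.Agent.S4886
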