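import Groth.Statements.S4887
import Groth.Agent.Lib.KerFP_helper6
import Groth.Agent.Lib.CohKer_helper8
import Groth.Agent.Lib.FlatSec_helper8
import Groth.Agent.Lib.QCohFP2_helper9
import Groth.Agent.Lib.SubExt_helper9

set_option autoImplicit false
universe u
open EGA43

namespace Groth.Agent.S4887

open AlgebraicGeometry CategoryTheory Limits in
/-- Let f : X ⟶ Y be locally of finite presentation, G and H quasi-coherent O_X-modules of finite
presentation with H f-flat, and p : G ⟶ H an epimorphism. Then Ker p is an O_X-module of finite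
presentation. -/
theorem result {X Y : Scheme.{u}} (f : X ⟶ Y) [LocallyOfFinitePresentation f]
    (G H : X.Modules) [Coh.IsQCoh G] [Coh.IsQCoh H] (hG : CohB1.IsFP G) (hH : CohB1.IsFP H)
    (hflat : FlatMod.IsFlatOver f H) (p : G ⟶ H) [Epi p] :
    CohB1.IsFP (kernel p) := by
  haveI : G.IsQuasicoherent := ‹Coh.IsQCoh G›
  haveI : H.IsQuasicoherent := ‹Coh.IsQCoh H›
  haveI : SheafOfModules.IsFinitePresentation (R := X.ringCatSheaf) G := hG
  haveI : SheafOfModules.IsFinitePresentation (R := X.ringCatSheaf) H := hH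
  haveI hq : (CategoryTheory.Limits.kernel p).IsQuasicoherent := SubExt.isQuasicoherent_kernel p
  refine QCohFP2.isFinitePresentation_of_sections_cover (CategoryTheory.Limits.kernel p)
    (ι := {U : X.affineOpens // ∃ V : Y.affineOpens, (U : X.Opens) ≤ f ⁻¹ᵁ (V : Y.Opens)})
    (fun U => (U.1 : X.Opens)) (fun U => U.1.2) ?_ ?_
  · rw [eq_top_iff]
    intro x _
    obtain ⟨V, hV, hfxV, -⟩ := TopologicalSpace.Opens.isBasis_iff_nbhd.mp Y.isBasis_affineOpens
      (show f x ∈ (⊤ : Y.Opens) from trivial)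
    obtain ⟨U, hU, hxU, hUV⟩ := TopologicalSpace.Opens.isBasis_iff_nbhd.mp X.isBasis_affineOpens
      (show x ∈ f ⁻¹ᵁ V from hfxV)
    exact TopologicalSpace.Opens.mem_iSup.mpr ⟨⟨⟨U, hU⟩, ⟨⟨V, hV⟩, hUV⟩⟩, hxU⟩
  · rintro ⟨⟨U, hU⟩, ⟨⟨V, hV⟩, e⟩⟩
    show Module.FinitePresentation Γ(X, U) Γ(CategoryTheory.Limits.kernel p, U)
    have e' : U ≤ f ⁻¹ᵁ V := e
    letI algAB : Algebra Γ(Y, V) Γ(X, U) := (f.appLE V U e').hom.toAlgebra
    haveI : Algebra.FinitePresentation Γ(Y, V) Γ(X, U) :=
      HasRingHomProperty.appLE @LocallyOfFinitePresentation f inferInstance ⟨V, hV⟩ ⟨U, hU⟩ e'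
    haveI : Module.FinitePresentation Γ(X, U) Γ(G, U) :=
      QCohFP2.finitePresentation_of_isFinitePresentation G hU
    haveI : Module.FinitePresentation Γ(X, U) Γ(H, U) :=
      QCohFP2.finitePresentation_of_isFinitePresentation H hU
    letI mAN : Module Γ(Y, V) Γ(H, U) := Module.compHom Γ(H, U) (f.appLE V U e').hom
    haveI : IsScalarTower Γ(Y, V) Γ(X, U) Γ(H, U) :=
      IsScalarTower.of_algebraMap_smul (fun _ _ => rfl)
    haveI : Module.Flat Γ(Y, V) Γ(H, U) :=
      FlatSecH8.flat_sections_of_flat_stalks f H hU e' (fun x hxU =>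
        (FlatSecH8.isFlatOverAt_iff_flat_stalk f H hV e' hxU).mp (hflat x))
    let pU : Γ(G, U) →ₗ[Γ(X, U)] Γ(H, U) :=
      { toFun := QCohExtn.ap p U
        map_add' := map_add _
        map_smul' := fun r m => QCohExtn.ap_smul p r m }
    have hpU : Function.Surjective pU := QCohExact.app_surjective_of_epi p hU
    haveI := Groth.Agent.Lib.KerFPH6.finitePresentation_ker_of_flat (A := Γ(Y, V))
      (B := Γ(X, U)) pU hpU
    let ψ : Γ(CategoryTheory.Limits.kernel p, U) →ₗ[Γ(X, U)] Γ(G, U) :=
      { toFun := QCohExtn.ap (CategoryTheory.Limits.kernel.ι p) U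
        map_add' := map_add _
        map_smul' := fun r m => QCohExtn.ap_smul (CategoryTheory.Limits.kernel.ι p) r m }
    have hi : Function.Injective ψ :=
      QCohExact.app_injective_of_mono (CategoryTheory.Limits.kernel.ι p) U
    have hrange : LinearMap.range ψ = LinearMap.ker pU := by
      ext x
      constructor
      · rintro ⟨y, rfl⟩
        rw [LinearMap.mem_ker]
        have h0 : (CategoryTheory.Limits.kernel.ι p ≫ p).app U = 0 := by
          rw [CategoryTheory.Limits.kernel.condition]
          rfl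
        rw [Scheme.Modules.Hom.comp_app] at h0
        have := congrArg (fun φ => φ y) h0
        exact this
      · intro hx
        have hE : (ShortComplex.mk (CategoryTheory.Limits.kernel.ι p) p
            (CategoryTheory.Limits.kernel.condition p)).Exact := ShortComplex.exact_kernel p
        obtain ⟨y, hy⟩ := QCohExact.app_exact _ hE U x hx
        exact ⟨y, hy⟩
    exact Module.FinitePresentation.of_equiv (R := Γ(X, U)) (M := LinearMap.ker pU)
      (N := Γ(CategoryTheory.Limits.kernel p, U))
      ((LinearEquiv.ofInjective ψ hi).trans (LinearEquiv.ofEq _ _ hrange)).symm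

end Groth.Agent.S4887
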