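import Groth.Statements.S4914

-- import your own Groth.Agent.* helpers here

set_option autoImplicit false
open CategoryTheory AlgebraicGeometry
universe u v w
open EGA43

namespace Groth.Agent.S4914

/-- Let ψ : X → Y be a continuous map, x a point of X, and (Y_i) a locally finite covering of Y by
closed subsets. If for every index i with ψ x ∈ Y_i the restriction ψ⁻¹(Y_i) → Y_i of ψ is open at
x, then ψ is open at x. -/
theorem result {α : Type u} {β : Type v} {ι : Type w} [TopologicalSpace α]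
    [TopologicalSpace β] (ψ : α → β) (hψ : Continuous ψ) (x : α) (Y : ι → Set β) (hY : LocallyFinite Y)
    (hcl : ∀ i, IsClosed (Y i)) (hcov : ⋃ i, Y i = Set.univ)
    (h : ∀ i, ∀ hi : ψ x ∈ Y i, EGA43.IsOpenAt ((Y i).restrictPreimage ψ) ⟨x, hi⟩) :
    EGA43.IsOpenAt ψ x := by
  intro U hU
  set y := ψ x with hy
  have hW : (⋂ (i) (_ : y ∉ Y i), (Y i)ᶜ) ∈ nhds y := hY.iInter_compl_mem_nhds hcl y
  have hfin : {i | y ∈ Y i}.Finite := hY.point_finite y
  have hN : ∀ i ∈ {i | y ∈ Y i}, {z : β | z ∈ Y i → z ∈ ψ '' U} ∈ nhds y := by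
    intro i hi
    have hi' : ψ x ∈ Y i := hi
    have h1 : (Subtype.val : ↥(ψ ⁻¹' Y i) → α) ⁻¹' U ∈ nhds (⟨x, hi'⟩ : ↥(ψ ⁻¹' Y i)) :=
      continuous_subtype_val.continuousAt hU
    have h2 := h i hi' _ h1
    rw [mem_nhds_subtype] at h2
    obtain ⟨N, hN, hNsub⟩ := h2
    refine Filter.mem_of_superset hN ?_
    intro z hzN hzY
    have : (⟨z, hzY⟩ : ↥(Y i)) ∈ (Y i).restrictPreimage ψ ''
        ((Subtype.val : ↥(ψ ⁻¹' Y i) → α) ⁻¹' U) := hNsub (a := ⟨z, hzY⟩) hzN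
    obtain ⟨⟨u, hu⟩, huU, hz⟩ := this
    exact ⟨u, huU, congrArg Subtype.val hz⟩
  have hN' : (⋂ i ∈ {i | y ∈ Y i}, {z : β | z ∈ Y i → z ∈ ψ '' U}) ∈ nhds y :=
    (Filter.biInter_mem hfin).2 hN
  refine Filter.mem_of_superset (Filter.inter_mem hW hN') ?_
  rintro z ⟨hz1, hz2⟩
  have hzc : z ∈ ⋃ i, Y i := by rw [hcov]; trivial
  obtain ⟨i, hzi⟩ := Set.mem_iUnion.1 hzc
  have hyi : y ∈ Y i := by
    by_contra hne
    have := Set.mem_iInter₂.1 hz1 i hne
    exact this hzi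
  exact Set.mem_iInter₂.1 hz2 i hyi hzi

end Groth.Agent.S4914
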