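import Groth.Statements.S4916

-- import your own Groth.Agent.* helpers here

set_option autoImplicit false
open CategoryTheory AlgebraicGeometry
universe u v w
open EGA43

namespace Groth.Agent.S4916

/-- Let ψ : X → Y be a continuous map of topological spaces and y a point of Y. The set of points x of
the fibre ψ⁻¹(y) at which ψ is open is a closed subset of ψ⁻¹(y). -/
theorem result {α : Type u} {β : Type v} [TopologicalSpace α] [TopologicalSpace β]
    (ψ : α → β) (hψ : Continuous ψ) (y : β) :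
    IsClosed {x : ↥(ψ ⁻¹' {y}) | EGA43.IsOpenAt ψ x.1} := by
  rw [← isOpen_compl_iff, isOpen_iff_mem_nhds]
  rintro ⟨x, hx⟩ hnot
  have hxy : ψ x = y := hx
  simp only [Set.mem_compl_iff, Set.mem_setOf_eq, EGA43.IsOpenAt, not_forall] at hnot
  obtain ⟨U, hU, hUn⟩ := hnot
  obtain ⟨U', hU'U, hU'o, hxU'⟩ := mem_nhds_iff.1 hU
  have hUn' : ψ '' U' ∉ nhds y := by
    intro hc
    apply hUn
    rw [hxy]
    exact Filter.mem_of_superset hc (Set.image_mono hU'U)
  have h1 : (Subtype.val : ↥(ψ ⁻¹' {y}) → α) ⁻¹' U' ∈ nhds (⟨x, hx⟩ : ↥(ψ ⁻¹' {y})) :=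
    continuous_subtype_val.continuousAt (hU'o.mem_nhds hxU')
  refine Filter.mem_of_superset h1 ?_
  rintro ⟨x', hx'⟩ hx'U
  have hx'y : ψ x' = y := hx'
  simp only [Set.mem_compl_iff, Set.mem_setOf_eq, EGA43.IsOpenAt, not_forall]
  refine ⟨U', hU'o.mem_nhds hx'U, ?_⟩
  rw [hx'y]; exact hUn'

end Groth.Agent.S4916
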