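import Groth.Statements.S4917
import Groth.Agent.Lib.OpenAtEq_helper8
import Groth.Agent.Lib.GenFibDim_helper8
import Groth.Agent.Lib.Chev4_helper8

set_option autoImplicit false
open CategoryTheory AlgebraicGeometry
universe u v w
open EGA43

namespace Groth.Agent.S4917

/-- Assume Y is a locally Noetherian scheme and X is an irreducible scheme, and consider a dominant
morphism f : X ⟶ Y that is locally of finite type. Fix a point x of X and write y = f x. If, for
every irreducible component of the fibre X_y that contains x, the morphism f is open at the generic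
point of that component, then f is equidimensional at x. -/
theorem result {X Y : Scheme.{u}} [IsLocallyNoetherian Y]
    [IrreducibleSpace X] (f : X ⟶ Y) [LocallyOfFiniteType f] [IsDominant f] (x : X)
    (h : ∀ z : ↥(f.fiber (f.base x)), f.asFiber x ∈ closure {z} →
      (∀ z' : ↥(f.fiber (f.base x)), z ∈ closure {z'} → z' = z) →
      EGA43.IsOpenAt f.base ((f.fiberι (f.base x)).base z)) :
    EGA43.IsEquidimAt f x := by
  -- Y is irreducible
  haveI : IrreducibleSpace ↥Y := by
    rw [irreducibleSpace_def]
    have h1 : IsIrreducible (Set.range f.base) := by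
      rw [← Set.image_univ]
      exact (IrreducibleSpace.isIrreducible_univ X).image f.base f.continuous.continuousOn
    have h2 := h1.closure
    rwa [f.denseRange.closure_range] at h2
  obtain ⟨n0, h1, h2, h3⟩ := GenFibDimH8.exists_nat f
  have hopen := OpenAtEqH8.hopen_of_fiber f x h
  have hx : FlatMor.fibreDimAt f x ≤ ((n0 : ℕ∞) : WithBot ℕ∞) := by
    apply OpenAtEqH8.fibreDimAt_le_of_isOpenAt f x hopen n0
    intro ξ hξ _
    have hξ' : ξ = genericPoint X := by
      have := hξ (genericPoint X) (genericPoint_specializes ξ)
      exact this.symm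
    rw [hξ', h3]
  set U : X.Opens := ⟨{x' : X | FlatMor.fibreDimAt f x' ≤ (n0 : WithBot ℕ∞)},
    ChevH8.isOpen_fibreDimAt_le f n0⟩ with hU
  have hxU : x ∈ U := hx
  have hUirr : IsIrreducible (U : Set X) :=
    ⟨⟨x, hxU⟩, (IrreducibleSpace.isIrreducible_univ X).2.open_subset U.2 (Set.subset_univ _)⟩
  haveI : IrreducibleSpace ↥U := Subtype.irreducibleSpace hUirr
  apply OpenAtEqH8.isEquidimAt_of_fibreDimAt_const f x n0 U hxU
  · intro Z hZ
    rw [irreducibleComponents_eq_singleton, Set.mem_singleton_iff] at hZ
    refine ⟨Set.univ, by rw [irreducibleComponents_eq_singleton]; rfl, Set.mem_univ _, ?_⟩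
    rw [hZ]
    -- density of the image of U
    apply Set.eq_univ_of_univ_subset
    intro y _
    have hUd : Dense (U : Set X) := U.2.dense ⟨x, hxU⟩
    have hy : y ∈ closure (Set.range f.base) := by rw [f.denseRange.closure_range]; trivial
    have h4 : Set.range f.base ⊆ closure ((U.ι ≫ f).base '' Set.univ) := by
      rintro _ ⟨a, rfl⟩
      have ha : a ∈ closure (U : Set X) := hUd a
      have h5 : f.base a ∈ closure (f.base '' (U : Set X)) :=
        image_closure_subset_closure_image f.continuous ⟨a, ha, rfl⟩
      have h6 : f.base '' (U : Set X) ⊆ (U.ι ≫ f).base '' Set.univ := by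
        rintro _ ⟨b, hb, rfl⟩
        exact ⟨⟨b, hb⟩, Set.mem_univ _, rfl⟩
      exact closure_mono h6 h5
    exact closure_minimal h4 isClosed_closure hy
  · intro u hu
    apply le_antisymm hu
    rw [← h1]
    exact GenFibDimH8.generic_le f u

end Groth.Agent.S4917
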