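import Groth.Statements.S4919
import Groth.Agent.Lib.FibClos_helper8
import Groth.Agent.Lib.OpenAtComp_helper8
import Groth.Agent.Lib.SubComp_helper8

set_option autoImplicit false
open CategoryTheory AlgebraicGeometry
universe u v w
open EGA43

namespace Groth.Agent.S4919

/-- Let Y be an irreducible locally Noetherian scheme with generic point η, f : X ⟶ Y a morphism locally
of finite type, y a point of Y and Z an irreducible component of the fibre f⁻¹(y) (a maximal
irreducible subset of f⁻¹(y), with the topology induced from X) such that f is open at the generic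
point ζ of Z. Then there is an irreducible component X' of X containing Z and dominating Y such that
the local dimension of X' ∩ f⁻¹(y) at ζ equals dim Z, and dim Z = dim (X' ∩ f⁻¹(η)). (The published
statement writes the middle term as the dimension of the whole of X' ∩ f⁻¹(y); its proof yields only
the local dimension at the generic point of Z, and the global equality can fail: for the
endomorphism (a, b) ↦ (ab, b² − b) of the affine plane over a field, the fibre over the origin is
the line b = 0 together with the isolated point (0, 1), at which the map is étale, hence open; with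
Z that point, X' is the whole plane, X' ∩ f⁻¹(y) has dimension 1 and dim Z = 0. So the local form is
stated here.) -/
theorem result {X Y : Scheme.{u}} [IrreducibleSpace Y]
    [IsLocallyNoetherian Y] (f : X ⟶ Y) [LocallyOfFiniteType f] (y : Y) (Z : Set X)
    (hZy : Z ⊆ f.base ⁻¹' {y}) (hZ : IsIrreducible Z)
    (hZmax : ∀ Z' : Set X, IsIrreducible Z' → Z' ⊆ f.base ⁻¹' {y} → Z ⊆ Z' → Z' = Z)
    (hopen : ∀ ζ ∈ Z, Z ⊆ closure {ζ} → EGA43.IsOpenAt f.base ζ) :
    ∃ X' ∈ irreducibleComponents (X : Type u), Z ⊆ X' ∧ Dense (f.base '' X') ∧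
      (∀ ζ ∈ Z, Z ⊆ closure {ζ} → ∀ hζ : ζ ∈ X' ∩ f.base ⁻¹' {y},
        FlatMor.localDim ↥(X' ∩ f.base ⁻¹' {y}) ⟨ζ, hζ⟩ = topologicalKrullDim ↥Z) ∧
      topologicalKrullDim ↥Z = topologicalKrullDim ↥(X' ∩ f.base ⁻¹' {genericPoint Y}) := by
  obtain ⟨ζ₀, hζ₀Z, hZeq⟩ := FibClosH8.exists_generic f y Z hZy hZ hZmax
  have hfζ₀ : f.base ζ₀ = y := hZy hζ₀Z
  subst hfζ₀
  have hmax : ∀ x'' : X, f.base x'' = f.base ζ₀ → x'' ⤳ ζ₀ → x'' = ζ₀ := by
    intro x'' h1 h2
    have hsub0 : ({x''} : Set X) ⊆ closure {x''} ∩ f.base ⁻¹' {f.base ζ₀} := by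
      rintro _ rfl
      exact ⟨subset_closure rfl, h1⟩
    have hirr : IsIrreducible (closure {x''} ∩ f.base ⁻¹' {f.base ζ₀}) :=
      SubLocDimH8.isIrreducible_of_subset_closure isIrreducible_singleton hsub0
        Set.inter_subset_left
    have hsub : Z ⊆ closure {x''} ∩ f.base ⁻¹' {f.base ζ₀} := by
      rw [hZeq]
      exact Set.inter_subset_inter_left _ (closure_minimal
        (Set.singleton_subset_iff.mpr (specializes_iff_mem_closure.mp h2)) isClosed_closure)
    have h3 := hZmax _ hirr Set.inter_subset_right hsub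
    have hx''Z : x'' ∈ Z := h3 ▸ hsub0 rfl
    have h4 : ζ₀ ⤳ x'' := by
      rw [hZeq] at hx''Z
      exact specializes_iff_mem_closure.mpr hx''Z.1
    exact (h2.antisymm h4).eq
  have hZcl : Z ⊆ closure {ζ₀} := by rw [hZeq]; exact Set.inter_subset_left
  have hopenζ : EGA43.IsOpenAt f.base ζ₀ := hopen ζ₀ hζ₀Z hZcl
  obtain ⟨ξ, hξmax, hξζ, hfξ, htr⟩ := OpenAtCompH8.core f ζ₀ hopenζ hmax
  have hclsub : closure ({ζ₀} : Set X) ⊆ closure {ξ} :=
    closure_minimal (Set.singleton_subset_iff.mpr (specializes_iff_mem_closure.mp hξζ))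
      isClosed_closure
  refine ⟨closure {ξ}, (SubCompH8.closure_mem_irreducibleComponents_iff ξ).mpr hξmax,
    hZcl.trans hclsub, ?_, ?_, ?_⟩
  · -- density
    have h1 : genericPoint Y ∈ f.base '' closure {ξ} := ⟨ξ, subset_closure rfl, hfξ⟩
    have h2 : closure ({genericPoint Y} : Set Y) = Set.univ := (genericPoint_spec Y).def
    rw [Dense]
    intro a
    have : a ∈ closure ({genericPoint Y} : Set Y) := by rw [h2]; trivial
    exact closure_mono (Set.singleton_subset_iff.mpr h1) this
  · intro ζ hζZ hZζ hζmem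
    have hζeq : ζ = ζ₀ := by
      have a1 : ζ₀ ⤳ ζ := specializes_iff_mem_closure.mpr (hZcl hζZ)
      have a2 : ζ ⤳ ζ₀ := specializes_iff_mem_closure.mpr (hZζ hζ₀Z)
      exact (a2.antisymm a1).eq
    subst hζeq
    rw [FibClosH8.localDim_inter_fiber f ζ hmax (closure {ξ}) hclsub hζmem]
    conv_rhs => rw [hZeq]
    rw [FibClosH8.dim_closure_inter_fiber f ζ]
  · conv_lhs => rw [hZeq]
    rw [FibClosH8.dim_closure_inter_fiber f ζ₀, ← htr, ← hfξ,
      ← FibClosH8.dim_closure_inter_fiber f ξ]

end Groth.Agent.S4919
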