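import Groth.Statements.S4920
import Groth.Agent.Lib.OpenAtComp_helper8
import Groth.Agent.Lib.FlatFibDim_helper8
import Groth.Agent.Lib.SubComp_helper8
import Groth.Agent.Lib.ClosHt_helper8
import Groth.Agent.Lib.CodimZero_helper8

set_option autoImplicit false
open CategoryTheory AlgebraicGeometry
universe u v w
open EGA43

namespace Groth.Agent.S4920

/-- Let Y be an irreducible locally Noetherian scheme with generic point η, f : X ⟶ Y a morphism locally
of finite type and y a point of Y such that f is open at every point of the fibre over y. For z in Y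
write E(z) for the set of dimensions of the irreducible components of the fibre X_z. Then E(y) ⊆
E(η), and consequently dim X_y ≤ dim X_η. -/
theorem result {X Y : Scheme.{u}} [IrreducibleSpace Y] [IsLocallyNoetherian Y]
    (f : X ⟶ Y) [LocallyOfFiniteType f] (y : Y) (h : ∀ x : X, f.base x = y → EGA43.IsOpenAt f.base x) :
    letI E : Y → Set (WithBot ℕ∞) := fun z =>
      (fun Z : Set ↥(f.fiber z) => topologicalKrullDim ↥Z) '' irreducibleComponents ↥(f.fiber z)
    E y ⊆ E (genericPoint Y) ∧
      topologicalKrullDim ↥(f.fiber y) ≤ topologicalKrullDim ↥(f.fiber (genericPoint Y)) := by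
  -- Part 1 in a convenient form
  have part1 : ∀ Z ∈ irreducibleComponents ↥(f.fiber y),
      ∃ Z' ∈ irreducibleComponents ↥(f.fiber (genericPoint Y)),
        topologicalKrullDim ↥Z' = topologicalKrullDim ↥Z := by
    intro Z hZ
    obtain ⟨z₀, hZeq, hz₀max, hdim⟩ :=
      Groth.Agent.FlatFibDimH8.exists_generic_of_mem_irreducibleComponents (f.fiber y) Z hZ
    set ζ := (f.fiberι y).base z₀ with hζ
    have hfζ : f.base ζ = y := Groth.Agent.FibRes2H8.fiberι_mem f y z₀
    have hind := (f.fiberι y).isEmbedding.isInducing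
    have hmax : ∀ x'' : X, f.base x'' = f.base ζ → x'' ⤳ ζ → x'' = ζ := by
      intro x'' h1 h2
      set z'' : ↥(f.fiber y) := (f.fiberHomeo y).symm ⟨x'', h1.trans hfζ⟩ with hz''
      have hιz'' : (f.fiberι y).base z'' = x'' := f.fiberι_fiberHomeo_symm _ _
      have h3 : z'' ⤳ z₀ := by
        rw [← hind.specializes_iff, hιz'']; exact h2
      have h4 : z₀ ⤳ z'' := hz₀max (show z₀ ≤ z'' from h3)
      rw [← hιz'', (h3.antisymm h4).eq]
    obtain ⟨ξ, hξmax, -, hfξ, htr⟩ := OpenAtCompH8.core f ζ (h ζ hfζ) hmax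
    obtain ⟨n, hn⟩ := Groth.Agent.ResQuot2H8.exists_trdeg_nat f ζ
    have hhz₀ : Order.height z₀ = n :=
      Groth.Agent.FlatFibDimH8.height_fiber_eq f ζ y hfζ z₀ rfl n hn
    have hn' : Dual3.resTrdeg f ξ = n := htr.trans hn
    set w : ↥(f.fiber (genericPoint Y)) := (f.fiberHomeo (genericPoint Y)).symm ⟨ξ, hfξ⟩ with hw
    have hιw : (f.fiberι (genericPoint Y)).base w = ξ := f.fiberι_fiberHomeo_symm _ _
    have hhw : Order.height w = n :=
      Groth.Agent.FlatFibDimH8.height_fiber_eq f ξ (genericPoint Y) hfξ w hιw n hn'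
    refine ⟨closure {w}, ?_, ?_⟩
    · rw [SubCompH8.closure_mem_irreducibleComponents_iff]
      intro w' hw'
      apply (f.fiberι (genericPoint Y)).isEmbedding.injective
      rw [hιw]
      apply hξmax
      rw [← hιw]
      exact hw'.map (f.fiberι (genericPoint Y)).continuous
    · rw [Groth.Agent.ClosHtH8.topologicalKrullDim_closure_singleton, hhw, hdim, hhz₀]
  refine ⟨?_, ?_⟩
  · rintro c ⟨Z, hZ, rfl⟩
    obtain ⟨Z', hZ', hdim⟩ := part1 Z hZ
    exact ⟨Z', hZ', hdim⟩
  · rw [Groth.Agent.ClosHtH8.topologicalKrullDim_eq_iSup_height]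
    refine iSup_le fun u => ?_
    obtain ⟨m, hmu, hm0⟩ := CodimZeroH8.exists_isMax_ge u
    have hmmax : ∀ z : ↥(f.fiber y), z ⤳ m → z = m := by
      intro z hz
      have hmax : IsMax m := Order.coheight_eq_zero.mp hm0
      have h2 : m ⤳ z := hmax (show m ≤ z from hz)
      exact (hz.antisymm h2).eq
    have hcomp : closure ({m} : Set ↥(f.fiber y)) ∈ irreducibleComponents ↥(f.fiber y) := by
      rw [SubCompH8.closure_mem_irreducibleComponents_iff]
      exact hmmax
    obtain ⟨Z', hZ', hdim⟩ := part1 _ hcomp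
    rw [Groth.Agent.ClosHtH8.topologicalKrullDim_closure_singleton] at hdim
    have h1 : ((Order.height u : ℕ∞) : WithBot ℕ∞) ≤ ((Order.height m : ℕ∞) : WithBot ℕ∞) := by
      exact_mod_cast Order.height_mono (show u ≤ m from hmu)
    refine h1.trans ?_
    rw [← hdim]
    exact topologicalKrullDim_subspace_le _ _

end Groth.Agent.S4920
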