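import Groth.Statements.S4921
import Groth.Agent.Lib.OpenGen_helper8
import Groth.Agent.Lib.ConsNhds_helper8
import Groth.Agent.Lib.FibDimCons_helper8
import Groth.Agent.Lib.ClosedFibDim_helper8

set_option autoImplicit false
open CategoryTheory AlgebraicGeometry
universe u v w
open EGA43

namespace Groth.Agent.S4921

/-- Let Y be a locally Noetherian scheme, f : X ⟶ Y a proper morphism and y a point of Y such that f is
open at every point of the fibre over y. Then the function z ↦ dim X_z is constant on a
neighbourhood of y. -/
theorem result {X Y : Scheme.{u}} [IsLocallyNoetherian Y] (f : X ⟶ Y)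
    [IsProper f] (y : Y) (h : ∀ x : X, f.base x = y → EGA43.IsOpenAt f.base x) :
    ∃ V ∈ nhds y, ∀ z ∈ V, topologicalKrullDim ↥(f.fiber z) = topologicalKrullDim ↥(f.fiber y) := by
  haveI : LocallyOfFinitePresentation f :=
    AlgebraicGeometry.LocallyOfFinitePresentation.iff_locallyOfFiniteType.mpr inferInstance
  have hcons := FibDimConsH8.isLocallyConstructible_dim_eq f (topologicalKrullDim ↥(f.fiber y))
  refine ⟨{z | topologicalKrullDim ↥(f.fiber z) = topologicalKrullDim ↥(f.fiber y)}, ?_,
    fun z hz => hz⟩
  apply ConsNhdsH8.mem_nhds_of_isLocallyConstructible hcons y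
  intro z hz
  apply le_antisymm
  · have ho := ClosedFibDimH8.isOpen_fibre_dim_le_of_isClosedMap f
      (AlgebraicGeometry.Scheme.Hom.isClosedMap f) (topologicalKrullDim ↥(f.fiber y))
    exact hz.mem_open ho (show topologicalKrullDim ↥(f.fiber y) ≤ topologicalKrullDim ↥(f.fiber y) from le_refl _)
  · exact OpenGenH8.dim_fiber_le_of_specializes f y z hz h

end Groth.Agent.S4921
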