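import Groth.Statements.S4922
import Groth.Agent.Lib.OpenGen_helper8
import Groth.Agent.Lib.ConsNhds_helper8
import Groth.Agent.Lib.FibDimCons_helper8
import Groth.Agent.Lib.UnivOpenAt_helper8

set_option autoImplicit false
open CategoryTheory AlgebraicGeometry
universe u v w
open EGA43

namespace Groth.Agent.S4922

/-- Let Y be a locally Noetherian scheme, f : X ⟶ Y an open morphism of finite type and y a point of Y.
If dim X_y = dim X_{η} for the generic point η of every irreducible component of Y containing y,
then z ↦ dim X_z is constant on a neighbourhood of y. -/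
theorem result {X Y : Scheme.{u}} [IsLocallyNoetherian Y]
    (f : X ⟶ Y) [LocallyOfFiniteType f] [QuasiCompact f] (hf : IsOpenMap f.base) (y : Y)
    (h : ∀ η : Y, y ∈ closure {η} → closure {η} ∈ irreducibleComponents (Y : Type u) →
      topologicalKrullDim ↥(f.fiber y) = topologicalKrullDim ↥(f.fiber η)) :
    ∃ V ∈ nhds y, ∀ z ∈ V, topologicalKrullDim ↥(f.fiber z) = topologicalKrullDim ↥(f.fiber y) := by
  haveI : LocallyOfFinitePresentation f :=
    AlgebraicGeometry.LocallyOfFinitePresentation.iff_locallyOfFiniteType.mpr inferInstance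
  have hcons := FibDimConsH8.isLocallyConstructible_dim_eq f (topologicalKrullDim ↥(f.fiber y))
  refine ⟨{z | topologicalKrullDim ↥(f.fiber z) = topologicalKrullDim ↥(f.fiber y)}, ?_,
    fun z hz => hz⟩
  apply ConsNhdsH8.mem_nhds_of_isLocallyConstructible hcons y
  intro z hz
  have hopen : ∀ w : Y, ∀ x : X, f.base x = w → EGA43.IsOpenAt f.base x :=
    fun w x _ => UnivOpenAtH8.isOpenAt_of_isOpenMap hf x
  apply le_antisymm
  · obtain ⟨η, hηcomp, hηz⟩ : ∃ η : Y, closure {η} ∈ irreducibleComponents (Y : Type u) ∧ η ⤳ z := by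
      obtain ⟨η, hη, -, -⟩ := Groth.Agent.FlatFibDimH8.exists_generic_of_mem_irreducibleComponents Y
        (irreducibleComponent z) (irreducibleComponent_mem_irreducibleComponents z)
      refine ⟨η, hη ▸ irreducibleComponent_mem_irreducibleComponents z, ?_⟩
      rw [specializes_iff_mem_closure, ← hη]; exact mem_irreducibleComponent
    have h1 := OpenGenH8.dim_fiber_le_of_specializes f z η hηz (hopen z)
    change topologicalKrullDim ↥(f.fiber z) ≤ topologicalKrullDim ↥(f.fiber y)
    rw [h η (hηz.trans hz).mem_closure hηcomp]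
    exact h1
  · exact OpenGenH8.dim_fiber_le_of_specializes f y z hz (hopen y)

end Groth.Agent.S4922
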