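import Groth.Statements.S4925
import Groth.Agent.Lib.UnivOpenAt_helper8

set_option autoImplicit false
open CategoryTheory AlgebraicGeometry
universe u v w
open EGA43

namespace Groth.Agent.S4925

/-- Let f : X ⟶ Y and g : Y ⟶ Z be morphisms of schemes and x a point of X. If f is universally open at
x and g is universally open at f x, then f ≫ g is universally open at x. -/
theorem result {X Y Z : Scheme.{u}} (f : X ⟶ Y) (g : Y ⟶ Z) (x : X)
    (hf : EGA43.IsUnivOpenAt f x) (hg : EGA43.IsUnivOpenAt g (f.base x)) :
    EGA43.IsUnivOpenAt (f ≫ g) x := by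
  intro Z' k p hp
  have sqW := IsPullback.of_hasPullback g k
  have sqP' := IsPullback.of_hasPullback f (Limits.pullback.fst g k)
  have big : IsPullback (Limits.pullback.fst f (Limits.pullback.fst g k))
      (Limits.pullback.snd f (Limits.pullback.fst g k) ≫ Limits.pullback.snd g k) (f ≫ g) k :=
    sqP'.paste_vert sqW
  have e1 : big.isoPullback.hom ≫ Limits.pullback.fst (f ≫ g) k =
      Limits.pullback.fst f (Limits.pullback.fst g k) := big.isoPullback_hom_fst
  have e2 : big.isoPullback.hom ≫ Limits.pullback.snd (f ≫ g) k =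
      Limits.pullback.snd f (Limits.pullback.fst g k) ≫ Limits.pullback.snd g k :=
    big.isoPullback_hom_snd
  have e3 : Limits.pullback.snd (f ≫ g) k = big.isoPullback.inv ≫
      Limits.pullback.snd f (Limits.pullback.fst g k) ≫ Limits.pullback.snd g k :=
    (Iso.eq_inv_comp _).mpr e2
  have e4 : big.isoPullback.inv ≫ Limits.pullback.fst f (Limits.pullback.fst g k) =
      Limits.pullback.fst (f ≫ g) k :=
    (Iso.inv_comp_eq _).mpr e1.symm
  rw [e3]
  have hp' : (Limits.pullback.fst f (Limits.pullback.fst g k)).base (big.isoPullback.inv.base p) = x := by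
    rw [← hp]
    exact congrArg (fun φ => φ.base p) e4
  refine UnivOpenAtH8.isOpenAt_comp_hom _ _ p (UnivOpenAtH8.isOpenAt_of_isIso _ p) ?_
  refine UnivOpenAtH8.isOpenAt_comp_hom _ _ _ (hf _ _ _ hp') ?_
  refine hg _ _ _ ?_
  rw [← hp']
  exact (congrArg (fun φ => φ.base (big.isoPullback.inv.base p))
    (Limits.pullback.condition (f := f) (g := Limits.pullback.fst g k))).symm

end Groth.Agent.S4925
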