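import Groth.Statements.S4926
import Groth.Agent.Lib.UnivOpenAt_helper8

set_option autoImplicit false
open CategoryTheory AlgebraicGeometry
universe u v w
open EGA43

namespace Groth.Agent.S4926

/-- Let f : X ⟶ Y and g : Y ⟶ Z be morphisms of schemes and x a point of X. If f ≫ g is universally open
at x, then g is universally open at the point f x. -/
theorem result {X Y Z : Scheme.{u}} (f : X ⟶ Y) (g : Y ⟶ Z) (x : X)
    (h : EGA43.IsUnivOpenAt (f ≫ g) x) : EGA43.IsUnivOpenAt g (f.base x) := by
  intro Z' k w hw
  have sqW := IsPullback.of_hasPullback g k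
  have sqP' := IsPullback.of_hasPullback f (Limits.pullback.fst g k)
  have big : IsPullback (Limits.pullback.fst f (Limits.pullback.fst g k))
      (Limits.pullback.snd f (Limits.pullback.fst g k) ≫ Limits.pullback.snd g k) (f ≫ g) k :=
    sqP'.paste_vert sqW
  have e1 : big.isoPullback.hom ≫ Limits.pullback.fst (f ≫ g) k =
      Limits.pullback.fst f (Limits.pullback.fst g k) := big.isoPullback_hom_fst
  have e2 : big.isoPullback.hom ≫ Limits.pullback.snd (f ≫ g) k =
      Limits.pullback.snd f (Limits.pullback.fst g k) ≫ Limits.pullback.snd g k :=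
    big.isoPullback_hom_snd
  obtain ⟨p', hp'1, hp'2⟩ := AlgebraicGeometry.Scheme.Pullback.exists_preimage_pullback
    (f := f) (g := Limits.pullback.fst g k) x w hw.symm
  have hp : (Limits.pullback.fst (f ≫ g) k).base (big.isoPullback.hom.base p') = x := by
    rw [← hp'1]
    exact congrArg (fun φ => φ.base p') e1
  have h1 := h Z' k _ hp
  have h2 : EGA43.IsOpenAt (big.isoPullback.hom ≫ Limits.pullback.snd (f ≫ g) k).base p' :=
    UnivOpenAtH8.isOpenAt_comp_hom _ _ p' (UnivOpenAtH8.isOpenAt_of_isIso _ p') h1
  have h3 : EGA43.IsOpenAt ((Limits.pullback.snd g k).base ∘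
      (Limits.pullback.snd f (Limits.pullback.fst g k)).base) p' := by
    have e : ((Limits.pullback.snd g k).base ∘
        (Limits.pullback.snd f (Limits.pullback.fst g k)).base : _ → _) =
        (big.isoPullback.hom ≫ Limits.pullback.snd (f ≫ g) k).base := by
      funext q
      exact (congrArg (fun φ => φ.base q) e2).symm
    rw [e]
    exact h2
  have h4 := UnivOpenAtH8.isOpenAt_of_comp
    ((Limits.pullback.snd f (Limits.pullback.fst g k)).base.hom.continuous.continuousAt) h3
  rw [hp'2] at h4
  exact h4

end Groth.Agent.S4926
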