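import Groth.Statements.S4929
import Groth.Agent.Lib.UnivOpenAt_helper8

set_option autoImplicit false
open CategoryTheory AlgebraicGeometry
universe u v w
open EGA43

namespace Groth.Agent.S4929

open CategoryTheory.Limits in
/-- Let f : X ⟶ Y be a morphism of schemes, x a point of X, and (Y_i ⟶ Y) a finite family of closed
immersions whose images cover Y. If for every i the base change X ×_Y Y_i ⟶ Y_i is universally open
at every point lying over x, then f is universally open at x. -/
theorem result {X Y : Scheme.{u}} (f : X ⟶ Y) (x : X) {ι : Type w}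
    [Finite ι] (T : ι → Scheme.{u}) (g : ∀ i, T i ⟶ Y) [∀ i, IsClosedImmersion (g i)]
    (hcov : ⋃ i, Set.range (g i).base = Set.univ)
    (h : ∀ i, ∀ x' : ↥(pullback f (g i)), (pullback.fst f (g i)).base x' = x →
      EGA43.IsUnivOpenAt (pullback.snd f (g i)) x') :
    EGA43.IsUnivOpenAt f x := by
  classical
  intro Y' k p hp
  intro U hU
  obtain ⟨U₀, hU₀U, hU₀o, hpU₀⟩ := mem_nhds_iff.mp hU
  set y' := (pullback.snd f k).base p with hy'
  -- the closed cover of Y'
  have hrange : ∀ i, Set.range (pullback.fst k (g i)).base = k.base ⁻¹' Set.range (g i).base :=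
    fun i => AlgebraicGeometry.Scheme.Pullback.range_fst k (g i)
  have hcov' : ⋃ i, Set.range (pullback.fst k (g i)).base = Set.univ := by
    simp_rw [hrange]
    rw [← Set.preimage_iUnion, hcov, Set.preimage_univ]
  have hclosed : ∀ i, IsClosed (Set.range (pullback.fst k (g i)).base) := by
    intro i
    rw [hrange]
    exact (g i).isClosedEmbedding.isClosed_range.preimage k.base.hom.continuous
  have hn : nhds y' = ⨆ i, nhdsWithin y' (Set.range (pullback.fst k (g i)).base) := by
    rw [← nhdsWithin_iUnion, hcov', nhdsWithin_univ]
  rw [hn, Filter.mem_iSup]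
  intro i
  by_cases hyi : y' ∈ Set.range (pullback.fst k (g i)).base
  · obtain ⟨t', ht'⟩ := hyi
    -- the scheme Q
    obtain ⟨q, hq1, hq2⟩ := AlgebraicGeometry.Scheme.Pullback.exists_preimage_pullback
      (f := pullback.snd f k) (g := pullback.fst k (g i)) p t' ht'.symm
    have S1 := IsPullback.of_hasPullback f k
    have S3 := IsPullback.of_hasPullback (pullback.snd f k) (pullback.fst k (g i))
    have S4 := IsPullback.of_hasPullback f (g i)
    have e_ab : pullback.fst k (g i) ≫ k = pullback.snd k (g i) ≫ g i := pullback.condition
    have w : (pullback.fst (pullback.snd f k) (pullback.fst k (g i)) ≫ pullback.fst f k) ≫ f =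
        (pullback.snd (pullback.snd f k) (pullback.fst k (g i)) ≫ pullback.snd k (g i)) ≫ g i := by
      rw [Category.assoc, pullback.condition, ← Category.assoc, pullback.condition, Category.assoc,
        e_ab, Category.assoc]
    let top : pullback (pullback.snd f k) (pullback.fst k (g i)) ⟶ pullback f (g i) :=
      pullback.lift (pullback.fst (pullback.snd f k) (pullback.fst k (g i)) ≫ pullback.fst f k)
        (pullback.snd (pullback.snd f k) (pullback.fst k (g i)) ≫ pullback.snd k (g i)) w
    have e_top_fst : top ≫ pullback.fst f (g i) =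
        pullback.fst (pullback.snd f k) (pullback.fst k (g i)) ≫ pullback.fst f k :=
      pullback.lift_fst _ _ _
    have e_top_snd : top ≫ pullback.snd f (g i) =
        pullback.snd (pullback.snd f k) (pullback.fst k (g i)) ≫ pullback.snd k (g i) :=
      pullback.lift_snd _ _ _
    have outer : IsPullback
        (pullback.fst (pullback.snd f k) (pullback.fst k (g i)) ≫ pullback.fst f k)
        (pullback.snd (pullback.snd f k) (pullback.fst k (g i))) f
        (pullback.fst k (g i) ≫ k) := S3.paste_horiz S1
    have outer' : IsPullback (top ≫ pullback.fst f (g i))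
        (pullback.snd (pullback.snd f k) (pullback.fst k (g i))) f
        (pullback.snd k (g i) ≫ g i) := by
      rw [e_top_fst, ← e_ab]; exact outer
    have S5 : IsPullback top (pullback.snd (pullback.snd f k) (pullback.fst k (g i)))
        (pullback.snd f (g i)) (pullback.snd k (g i)) :=
      IsPullback.of_right outer' e_top_snd S4
    have hx' : (pullback.fst f (g i)).base (top.base q) = x := by
      have := congrArg (fun φ => φ.base q) e_top_fst
      simp only [Scheme.Hom.comp_base, TopCat.hom_comp, ContinuousMap.comp_apply] at this
      rw [this, hq1, hp]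
    have hopen := UnivOpenAtH8.isOpenAt_of_isPullback S5 (h i _ hx') q rfl
    have hN := hopen ((pullback.fst (pullback.snd f k) (pullback.fst k (g i))).base ⁻¹' U₀)
      ((hU₀o.preimage (pullback.fst (pullback.snd f k)
        (pullback.fst k (g i))).base.hom.continuous).mem_nhds (by
          show (pullback.fst (pullback.snd f k) (pullback.fst k (g i))).base q ∈ U₀
          rw [hq1]; exact hpU₀))
    rw [hq2] at hN
    have hemb : Topology.IsInducing (pullback.fst k (g i)).base :=
      (pullback.fst k (g i)).isEmbedding.isInducing
    have hmap := hemb.map_nhds_eq t'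
    rw [ht'] at hmap
    rw [← hmap]
    refine Filter.mem_of_superset (Filter.image_mem_map hN) ?_
    rintro _ ⟨_, ⟨r, hr, rfl⟩, rfl⟩
    refine ⟨(pullback.fst (pullback.snd f k) (pullback.fst k (g i))).base r, hU₀U hr, ?_⟩
    exact congrArg (fun φ => φ.base r)
      (pullback.condition (f := pullback.snd f k) (g := pullback.fst k (g i)))
  · rw [mem_nhdsWithin_iff_exists_mem_nhds_inter]
    refine ⟨(Set.range (pullback.fst k (g i)).base)ᶜ, (hclosed i).isOpen_compl.mem_nhds hyi, ?_⟩
    rw [Set.compl_inter_self]
    exact Set.empty_subset _

end Groth.Agent.S4929
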