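import Groth.Statements.S4937
import Mathlib
import Groth.Agent.Lib.UniOpen4_helper8

set_option autoImplicit false
open CategoryTheory AlgebraicGeometry
universe u v w
open EGA43

namespace Groth.Agent.S4937

/-- Let X and Y be irreducible schemes and f : X ⟶ Y a dominant morphism which is locally of finite
presentation and locally quasi-finite. If x is a point of X whose image y = f x has unibranch local
ring O_{Y,y}, then f is open at x. (Stated for f locally of finite presentation, the class to which
the openness criterion by lifting of generizations used in the published argument applies; the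
published hypothesis is 'locally quasi-finite', which includes locally of finite type.) -/
theorem result {X Y : Scheme.{u}} [IrreducibleSpace X]
    [IrreducibleSpace Y] (f : X ⟶ Y) [LocallyOfFinitePresentation f] [LocallyQuasiFinite f] [IsDominant f]
    (x : X) (hy : CAlg2.IsUnibranch (Y.presheaf.stalk (f.base x))) : EGA43.IsOpenAt f.base x := by
  apply Groth.Agent.Lib.UniOpenH8.isOpenAt_of_generizations f x
  intro y' hy'
  apply Groth.Agent.Lib.UniOpenH8.exists_generization_of_isUnibranch f x hy _ y' hy'
  intro ξ hξmax _ b hb
  have h1 : genericPoint X = ξ := hξmax _ (genericPoint_specializes ξ)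
  have h2 : closure ({f.base ξ} : Set Y) = Set.univ := by
    have h3 : closure ({ξ} : Set X) = Set.univ := by
      rw [← h1]; exact (genericPoint_spec X).def
    have h4 : Set.range f.base ⊆ closure ({f.base ξ} : Set Y) := by
      rintro _ ⟨a, rfl⟩
      have : a ∈ closure ({ξ} : Set X) := by rw [h3]; trivial
      exact (specializes_iff_mem_closure.mpr this).map f.continuous |>.mem_closure
    have h5 : Dense (Set.range f.base) := f.denseRange
    exact Set.eq_univ_of_univ_subset (h5.closure_eq ▸ closure_minimal h4 isClosed_closure)
  have h6 : f.base ξ ⤳ b := by
    rw [specializes_iff_mem_closure, h2]; trivial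
  exact (hb.antisymm h6).eq

end Groth.Agent.S4937
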