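import Groth.Statements.S4941


set_option autoImplicit false
open CategoryTheory AlgebraicGeometry
universe u v w
open EGA43

namespace Groth.Agent.S4941

open CategoryTheory.Limits in
/-- Let v : Y₁ ⟶ Y be a surjective morphism of schemes whose underlying map is closed, f : X ⟶ Y a
morphism and x a point of X. If the base change f₁ : X ×_Y Y₁ ⟶ Y₁ is open at every point of X ×_Y
Y₁ lying over x, then f is open at x. -/
theorem result {X Y Y₁ : Scheme.{u}} (v : Y₁ ⟶ Y)
    (hv : IsClosedMap v.base) [Surjective v] (f : X ⟶ Y) (x : X)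
    (h : ∀ x₁ : ↥(pullback f v), (pullback.fst f v).base x₁ = x → EGA43.IsOpenAt (pullback.snd f v).base x₁) :
    EGA43.IsOpenAt f.base x := by
  intro U hU
  obtain ⟨U₀, hU₀U, hU₀o, hxU₀⟩ := mem_nhds_iff.mp hU
  -- key: the preimage of f '' U₀ under v is a nhd of every point of v ⁻¹ {f x}
  have key : ∀ y₁ : Y₁, v.base y₁ = f.base x → v.base ⁻¹' (f.base '' U₀) ∈ nhds y₁ := by
    intro y₁ hy₁
    obtain ⟨z, hz1, hz2⟩ := AlgebraicGeometry.Scheme.Pullback.exists_preimage_pullback (f := f) (g := v) x y₁ hy₁.symm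
    have h1 := h z hz1 ((pullback.fst f v).base ⁻¹' U₀)
      ((hU₀o.preimage (pullback.fst f v).base.hom.continuous).mem_nhds (by
        show (pullback.fst f v).base z ∈ U₀
        rw [hz1]; exact hxU₀))
    rw [hz2] at h1
    refine Filter.mem_of_superset h1 ?_
    rintro _ ⟨w, hw, rfl⟩
    refine ⟨(pullback.fst f v).base w, hw, ?_⟩
    have := congrArg (fun g => g.base w) (pullback.condition (f := f) (g := v))
    simpa using this
  -- W := interior of v⁻¹(f U₀)
  set W := interior (v.base ⁻¹' (f.base '' U₀)) with hW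
  have hWo : IsOpen W := isOpen_interior
  have hV : IsOpen (v.base '' Wᶜ)ᶜ := (hv _ hWo.isClosed_compl).isOpen_compl
  refine Filter.mem_of_superset (hV.mem_nhds ?_) ?_
  · rintro ⟨y₁, hy₁, hy₁'⟩
    exact hy₁ (mem_interior_iff_mem_nhds.mpr (key y₁ hy₁'))
  · intro y hy
    obtain ⟨y₁, rfl⟩ := v.surjective y
    have : y₁ ∈ W := by
      by_contra hc
      exact hy ⟨y₁, hc, rfl⟩
    obtain ⟨a, ha, hav⟩ := interior_subset this
    exact ⟨a, hU₀U ha, hav⟩

end Groth.Agent.S4941
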