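import Groth.Statements.S4942
import Groth.Agent.Lib.UnivOpenAt2_helper8
import Groth.Agent.S4941

set_option autoImplicit false
open CategoryTheory AlgebraicGeometry
universe u v w
open EGA43

namespace Groth.Agent.S4942

open CategoryTheory.Limits in
/-- Let v : Y₁ ⟶ Y be a universally closed surjective morphism of schemes, f : X ⟶ Y a morphism and x a
point of X. If the base change f₁ : X ×_Y Y₁ ⟶ Y₁ is universally open at every point of X ×_Y Y₁
lying over x, then f is universally open at x. -/
theorem result {X Y Y₁ : Scheme.{u}} (v : Y₁ ⟶ Y)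
    [UniversallyClosed v] [Surjective v] (f : X ⟶ Y) (x : X)
    (h : ∀ x₁ : ↥(pullback f v), (pullback.fst f v).base x₁ = x → EGA43.IsUnivOpenAt (pullback.snd f v) x₁) :
    EGA43.IsUnivOpenAt f x := by
  intro Y' k p hp
  haveI : UniversallyClosed (pullback.fst k v) := inferInstance
  haveI : Surjective (pullback.fst k v) := inferInstance
  have hcl : IsClosedMap (pullback.fst k v).base := (pullback.fst k v).isClosedMap
  refine Groth.Agent.S4941.result (pullback.fst k v) hcl (pullback.snd f k) p ?_
  intro x₁ hx₁
  obtain ⟨top, sq, etop⟩ := UnivOpenAtH8.exists_top f k v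
  have hx : (pullback.fst f v).base (top.base x₁) = x := by
    have := congrArg (fun φ => φ.base x₁) etop
    simp only [Scheme.Hom.comp_base, TopCat.hom_comp, ContinuousMap.comp_apply] at this
    rw [this, hx₁, hp]
  exact UnivOpenAtH8.isOpenAt_of_isPullback sq (h _ hx) x₁ rfl

end Groth.Agent.S4942
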