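import Groth.Statements.S4943
import Groth.Agent.Lib.EquidimSub2_helper8

set_option autoImplicit false
open CategoryTheory AlgebraicGeometry
universe u v w
open EGA43

namespace Groth.Agent.S4943

/-- Let Y be an irreducible locally Noetherian scheme, f : X ⟶ Y a morphism locally of finite type which
is equidimensional at the point x, y = f x and e = dim_x(X_y). Let X' be an irreducible closed
subset of X containing x, with generic point x', and n a natural number such that codim(X', X) ≤ n
(the codimension being dim O_{X,x'}) and dim_x(X' ∩ X_y) ≤ e − n. Then codim(X', X) = n, dim_x(X' ∩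
X_y) = e − n, and the restriction of f to X' with its reduced subscheme structure is equidimensional
at x. -/
theorem result {X Y : Scheme.{u}} [IrreducibleSpace Y]
    [IsLocallyNoetherian Y] (f : X ⟶ Y) [LocallyOfFiniteType f] (x : X) (hf : EGA43.IsEquidimAt f x)
    (X' : TopologicalSpace.Closeds X) (x' : X) (hx' : closure ({x'} : Set X) = (X' : Set X)) (hx : x ∈ X') (n : ℕ)
    (hcodim : ringKrullDim (X.presheaf.stalk x') ≤ n)
    (hdim : FlatMor.localDim ↥((X' : Set X) ∩ f.base ⁻¹' {f.base x}) ⟨x, ⟨hx, rfl⟩⟩ + n ≤ FlatMor.fibreDimAt f x) :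
    ringKrullDim (X.presheaf.stalk x') = n ∧
      FlatMor.localDim ↥((X' : Set X) ∩ f.base ⁻¹' {f.base x}) ⟨x, ⟨hx, rfl⟩⟩ + n = FlatMor.fibreDimAt f x ∧
      ∀ w : ↥(Scheme.IdealSheafData.vanishingIdeal X').subscheme,
        (Scheme.IdealSheafData.vanishingIdeal X').subschemeι.base w = x →
        EGA43.IsEquidimAt ((Scheme.IdealSheafData.vanishingIdeal X').subschemeι ≫ f) w := by
  set i := (AlgebraicGeometry.Scheme.IdealSheafData.vanishingIdeal X').subschemeι with hi
  have hrange : Set.range i.base = (X' : Set X) :=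
    EquidimSubH8.range_vanishingIdeal_subschemeι X'
  have hemb : Topology.IsEmbedding i.base := i.isEmbedding
  have hind := hemb.isInducing
  -- the generic point upstairs
  have hx'X' : x' ∈ (X' : Set X) := hx' ▸ subset_closure rfl
  obtain ⟨x₁, hx₁⟩ : x' ∈ Set.range i.base := hrange ▸ hx'X'
  obtain ⟨w₀, hw₀⟩ : x ∈ Set.range i.base := hrange ▸ hx
  have hgen : ∀ a : ↥(AlgebraicGeometry.Scheme.IdealSheafData.vanishingIdeal X').subscheme, x₁ ⤳ a := by
    intro a
    rw [← hind.specializes_iff, hx₁, specializes_iff_mem_closure, hx']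
    rw [← hrange]
    exact ⟨a, rfl⟩
  have hx₁max : ∀ a : ↥(AlgebraicGeometry.Scheme.IdealSheafData.vanishingIdeal X').subscheme,
      a ⤳ x₁ → a = x₁ := fun a ha => (ha.antisymm (hgen a)).eq
  have hmaxeq : ∀ x'' : ↥(AlgebraicGeometry.Scheme.IdealSheafData.vanishingIdeal X').subscheme,
      (∀ a : ↥(AlgebraicGeometry.Scheme.IdealSheafData.vanishingIdeal X').subscheme, a ⤳ x'' → a = x'') →
      x'' = x₁ := fun x'' h => (h x₁ (hgen x'')).symm
  have hA : ∀ w : ↥(AlgebraicGeometry.Scheme.IdealSheafData.vanishingIdeal X').subscheme,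
      ∀ x'' : ↥(AlgebraicGeometry.Scheme.IdealSheafData.vanishingIdeal X').subscheme,
      (∀ a : ↥(AlgebraicGeometry.Scheme.IdealSheafData.vanishingIdeal X').subscheme, a ⤳ x'' → a = x'') →
      x'' ⤳ w → ringKrullDim (X.presheaf.stalk (i.base x'')) ≤ n := by
    intro w x'' h _
    rw [hmaxeq x'' h, hx₁]
    exact hcodim
  have hB : ∀ w : ↥(AlgebraicGeometry.Scheme.IdealSheafData.vanishingIdeal X').subscheme,
      i.base w = x → FlatMor.fibreDimAt (i ≫ f) w + n ≤ FlatMor.fibreDimAt f x := by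
    intro w hw
    rw [EquidimSubH8.bridge f i hemb w x hw (X' : Set X) hrange ⟨hx, rfl⟩]
    exact hdim
  obtain ⟨m1, m2, -⟩ := EquidimSubH8.main f x hf i w₀ hw₀ n (hA w₀) (hB w₀ hw₀)
  refine ⟨?_, ?_, ?_⟩
  · have := m1 x₁ hx₁max (hgen w₀)
    rw [hx₁] at this
    exact this
  · rw [EquidimSubH8.bridge f i hemb w₀ x hw₀ (X' : Set X) hrange ⟨hx, rfl⟩] at m2
    exact m2
  · intro w hw
    exact (EquidimSubH8.main f x hf i w hw n (hA w) (hB w hw)).2.2

end Groth.Agent.S4943
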