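import Groth.Statements.S4945
import Mathlib
import Groth.Agent.Lib.UOQ8_helper8

set_option autoImplicit false
open CategoryTheory AlgebraicGeometry
universe u v w
open EGA43

namespace Groth.Agent.S4945

/-- Let Y be an irreducible locally Noetherian scheme with generic point η, f : X ⟶ Y a morphism locally
of finite type and y a geometrically unibranch point of Y. The following are equivalent: a) f is
universally open at every point of X_y; b) f is open at every point of X_y; c) for every maximal
point z of X_y there is an irreducible component Z of X containing z and dominating Y with dim_z(Z ∩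
X_y) = dim(Z ∩ X_η); d) for every point x closed in X_y there are an irreducible reduced scheme T
and an immersion T ⟶ X with image containing x such that T ⟶ Y is quasi-finite and dominant. -/
theorem result {X Y : Scheme.{u}} [IrreducibleSpace Y]
    [IsLocallyNoetherian Y] (f : X ⟶ Y) [LocallyOfFiniteType f] (y : Y) (hy : CAlg2.IsGeomUnibranch (Y.presheaf.stalk y)) :
    List.TFAE [∀ x : X, f.base x = y → EGA43.IsUnivOpenAt f x,
      ∀ x : X, f.base x = y → EGA43.IsOpenAt f.base x,
      ∀ z : X, ∀ hzy : f.base z = y, (∀ z' : X, f.base z' = y → z ∈ closure {z'} → z' = z) →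
        ∃ Z ∈ irreducibleComponents (X : Type u), ∃ hz : z ∈ Z, Dense (f.base '' Z) ∧
          FlatMor.localDim ↥(Z ∩ f.base ⁻¹' {y}) ⟨z, ⟨hz, hzy⟩⟩ = topologicalKrullDim ↥(Z ∩ f.base ⁻¹' {genericPoint Y}),
      ∀ x : X, f.base x = y → (∀ x' : X, f.base x' = y → x ⤳ x' → x' = x) →
        ∃ (T : Scheme.{u}) (i : T ⟶ X), IsImmersion i ∧ IrreducibleSpace ↥T ∧ IsReduced T ∧ x ∈ Set.range i.base ∧
        LocallyOfFiniteType (i ≫ f) ∧ LocallyQuasiFinite (i ≫ f) ∧ QuasiCompact (i ≫ f) ∧ IsDominant (i ≫ f)] := by
  have hηuniv : closure ({genericPoint Y} : Set Y) = Set.univ := (genericPoint_spec Y)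
  have huniv : (Set.univ : Set Y) ∈ irreducibleComponents (Y : Type u) := by
    rw [irreducibleComponents_eq_singleton]; rfl
  have hηmax : ∀ b : Y, b ⤳ genericPoint Y → b = genericPoint Y :=
    fun b hb => (hb.antisymm (genericPoint_specializes b)).eq
  have hηeq : ∀ η : Y, closure ({η} : Set Y) = Set.univ → η = genericPoint Y := by
    intro η hη
    have h1 : IsGenericPoint η (Set.univ : Set Y) := hη
    exact h1.eq (genericPoint_spec Y)
  tfae_have 1 → 2 := fun ha x hx => Groth.Agent.Lib.UOQH8.isOpenAt_of_isUnivOpenAt f x (ha x hx)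
  tfae_have 2 → 3 := by
    intro hb z hzy hzmax
    subst hzy
    have hmax' : ∀ x'' : X, f.base x'' = f.base z → x'' ⤳ z → x'' = z :=
      fun x'' h1 h2 => hzmax x'' h1 (specializes_iff_mem_closure.mp h2)
    obtain ⟨Z, hZ, hz, hcl, h⟩ := Groth.Agent.Lib.UOMaxH8.bprime_imp_b f z hzmax
      (fun U hzU y' hy' => Groth.Agent.Lib.UOQH8.c_imp_bprime f z hmax' (hb z rfl) U hzU y' hy')
      Set.univ huniv trivial
    exact ⟨Z, hZ, hz, dense_iff_closure_eq.mpr hcl, (h (genericPoint Y) hηuniv).2⟩
  tfae_have 3 → 1 := by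
    intro hc
    have hamax : ∀ z : X, f.base z = y → (∀ z' : X, f.base z' = y → z' ⤳ z → z' = z) →
        EGA43.IsUnivOpenAt f z := by
      intro z hzy hzmax
      obtain ⟨Z, hZ, hz, hdense, hdim⟩ := hc z hzy
        (fun z' h1 h2 => hzmax z' h1 (specializes_iff_mem_closure.mpr h2))
      subst hzy
      apply Groth.Agent.Lib.UOQH8.b_imp_a f z hy Z hZ hz
      · rw [hdense.closure_eq]; exact huniv
      · intro η hη
        rw [hdense.closure_eq] at hη
        rw [hηeq η hη]
        exact hdim
    intro x hx
    subst hx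
    obtain ⟨Z, hZ, hxZ, hcl, hdim⟩ := Groth.Agent.Lib.UOQH8.bsecond_imp_b f x (genericPoint Y)
      (genericPoint_specializes _) hηmax
      (fun U => Groth.Agent.Lib.UOQH8.bsecond_of_fibreMax f (f.base x) (genericPoint Y)
        (genericPoint_specializes _) hamax U)
    apply Groth.Agent.Lib.UOQH8.b_imp_a f x hy Z hZ hxZ
    · rw [hcl, hηuniv]; exact huniv
    · intro η hη
      rw [hcl, hηuniv] at hη
      rw [hηeq η hη]
      exact hdim
  tfae_have 1 → 4 := by
    intro ha x hx hxcl
    subst hx
    have hc : ∀ x' : X, f.base x' = f.base x → EGA43.IsOpenAt f.base x' :=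
      fun x' hx' => Groth.Agent.Lib.UOQH8.isOpenAt_of_isUnivOpenAt f x' (ha x' hx')
    obtain ⟨Z, hZ, hxZ, hcl, hdim⟩ := Groth.Agent.Lib.UOQH8.bsecond_imp_b f x (genericPoint Y)
      (genericPoint_specializes _) hηmax
      (fun U => Groth.Agent.Lib.UOQH8.c_imp_bsecond f (f.base x) hc U (genericPoint Y)
        (genericPoint_specializes _))
    obtain ⟨W, w, hw, hE⟩ := Groth.Agent.Lib.UOQH8.isEquidimAt_of_b f x Z hZ hxZ
      (by rw [hcl, hηuniv]; exact huniv)
      (by
        intro η hη
        rw [hcl, hηuniv] at hη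
        rw [hηeq η hη]
        exact hdim)
    have hgoal := QSecH8.main ((Scheme.IdealSheafData.vanishingIdeal W).subschemeι ≫ f) w hE (by
      intro w' h1 h2
      apply (Scheme.IdealSheafData.vanishingIdeal W).subschemeι.isEmbedding.injective
      rw [hw]
      apply hxcl
      · have : f.base ((Scheme.IdealSheafData.vanishingIdeal W).subschemeι.base w') =
            f.base ((Scheme.IdealSheafData.vanishingIdeal W).subschemeι.base w) := h1
        rw [this, hw]
      · have := h2.map (Scheme.IdealSheafData.vanishingIdeal W).subschemeι.continuous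
        rwa [hw] at this)
    have := QSecH8.goal_of_comp (Scheme.IdealSheafData.vanishingIdeal W).subschemeι f w hgoal
    rw [hw] at this
    exact this
  tfae_have 4 → 2 := fun hd x' hx' =>
    Groth.Agent.Lib.UOQH8.isOpenAt_of_quasiSections f y hy hd x' hx'
  tfae_finish

end Groth.Agent.S4945
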