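import Groth.Statements.S4948
import Groth.Agent.Lib.DvrFlat_helper8
import Groth.Agent.Lib.FibRed_helper8
import Groth.Agent.Lib.OpenAtDim_helper8

set_option autoImplicit false
open CategoryTheory AlgebraicGeometry
universe u v w
open EGA43

namespace Groth.Agent.S4948

/-- Consider a discrete valuation ring A and set Y = Spec A, whose closed point is y. Given a morphism f
: X ⟶ Y that is locally of finite type, and a point x lying in the fibre X_y, assume two things:
first, f is open at each generic point of an irreducible component of X_y passing through x; second,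
X_y is reduced at x (that is, the local ring of the fibre at x is reduced). Under these assumptions
f is flat at x. -/
theorem result {A : Type u} [CommRing A] [IsDomain A]
    [IsDiscreteValuationRing A] {X : Scheme.{u}} (f : X ⟶ Spec (CommRingCat.of A)) [LocallyOfFiniteType f] (x : X)
    (hx : f.base x = IsLocalRing.closedPoint A)
    (h : ∀ z : ↥(f.fiber (f.base x)), f.asFiber x ∈ closure {z} →
      (∀ z' : ↥(f.fiber (f.base x)), z ∈ closure {z'} → z' = z) → EGA43.IsOpenAt f.base ((f.fiberι (f.base x)).base z))
    (hred : _root_.IsReduced ((f.fiber (f.base x)).presheaf.stalk (f.asFiber x))) :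
    (f.stalkMap x).hom.Flat := by
  classical
  haveI : IsLocallyNoetherian (Spec (CommRingCat.of A)) := inferInstance
  haveI : IsLocallyNoetherian X := LocallyOfFiniteType.isLocallyNoetherian f
  haveI : IsNoetherianRing (X.presheaf.stalk x) := inferInstance
  -- the map A → O_y
  let α : A →+* (Spec (CommRingCat.of A)).presheaf.stalk (f.base x) :=
    (StructureSheaf.toStalk A (f.base x)).hom
  have hyI : (f.base x : PrimeSpectrum A).asIdeal = IsLocalRing.maximalIdeal A :=
    congrArg PrimeSpectrum.asIdeal hx
  have hα : Function.Bijective α := by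
    have e := IsLocalization.atUnits A ((f.base x : PrimeSpectrum A).asIdeal.primeCompl)
      (S := (AlgebraicGeometry.Spec.structureSheaf A).presheaf.stalk (f.base x)) (by
        intro a ha
        have : a ∉ IsLocalRing.maximalIdeal A := by rw [← hyI]; exact ha
        have h2 : IsUnit a := by simpa using this
        exact h2)
    have hfun : ∀ a, α a = e a := fun a => (e.commutes a).symm
    have hfe : (α : A → _) = (e : A → _) := funext hfun
    rw [hfe]
    exact e.bijective
  have hmapα : (IsLocalRing.maximalIdeal A).map α =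
      IsLocalRing.maximalIdeal ((Spec (CommRingCat.of A)).presheaf.stalk (f.base x)) := by
    rw [← hyI]
    haveI : IsLocalRing ((AlgebraicGeometry.Spec.structureSheaf A).presheaf.stalk (f.base x)) :=
      inferInstanceAs (IsLocalRing ((Spec (CommRingCat.of A)).presheaf.stalk (f.base x)))
    exact IsLocalization.AtPrime.map_eq_maximalIdeal (f.base x : PrimeSpectrum A).asIdeal
      ((AlgebraicGeometry.Spec.structureSheaf A).presheaf.stalk (f.base x))
  letI : Algebra A (X.presheaf.stalk x) := ((f.stalkMap x).hom.comp α).toAlgebra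
  have halg : algebraMap A (X.presheaf.stalk x) = (f.stalkMap x).hom.comp α := rfl
  have hIeq : (IsLocalRing.maximalIdeal A).map (algebraMap A (X.presheaf.stalk x)) =
      Groth.Agent.FibStalkDimH8.fibIdeal f x := by
    rw [halg, ← Ideal.map_map, hmapα]
  have hIle : Groth.Agent.FibStalkDimH8.fibIdeal f x ≤ IsLocalRing.maximalIdeal (X.presheaf.stalk x) :=
    ((IsLocalRing.local_hom_TFAE (f.stalkMap x).hom).out 0 2).mp
      (inferInstance : IsLocalHom (f.stalkMap x).hom)
  haveI : IsLocalHom (algebraMap A (X.presheaf.stalk x)) :=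
    ((IsLocalRing.local_hom_TFAE (algebraMap A (X.presheaf.stalk x))).out 0 2).mpr (hIeq ▸ hIle)
  have hrad : ((IsLocalRing.maximalIdeal A).map (algebraMap A (X.presheaf.stalk x))).IsRadical := by
    rw [hIeq]
    exact FibRedH8.fibIdeal_isRadical f x
  have hgen : ∀ q ∈ ((IsLocalRing.maximalIdeal A).map (algebraMap A (X.presheaf.stalk x))).minimalPrimes,
      ∃ q' : Ideal (X.presheaf.stalk x), q'.IsPrime ∧ q' ≤ q ∧
        q'.comap (algebraMap A (X.presheaf.stalk x)) = ⊥ := by
    rw [hIeq]
    intro q hq
    haveI hqp : q.IsPrime := hq.1.1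
    have hIq : Groth.Agent.FibStalkDimH8.fibIdeal f x ≤ q := hq.1.2
    -- the prime P of B/I
    have hmem : (⟨q, hqp⟩ : PrimeSpectrum (X.presheaf.stalk x)) ∈
        Set.range (PrimeSpectrum.comap (Ideal.Quotient.mk (Groth.Agent.FibStalkDimH8.fibIdeal f x))) := by
      rw [_root_.range_comap_of_surjective _ _ Ideal.Quotient.mk_surjective, Ideal.mk_ker]
      exact hIq
    obtain ⟨P, hP⟩ := hmem
    have hPq : P.asIdeal.comap (Ideal.Quotient.mk (Groth.Agent.FibStalkDimH8.fibIdeal f x)) = q :=
      congrArg PrimeSpectrum.asIdeal hP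
    -- P is minimal
    have hPmin : ∀ P' : PrimeSpectrum (X.presheaf.stalk x ⧸ Groth.Agent.FibStalkDimH8.fibIdeal f x),
        P' ≤ P → P' = P := by
      intro P' hP'
      have h1 : P'.asIdeal.comap (Ideal.Quotient.mk (Groth.Agent.FibStalkDimH8.fibIdeal f x)) ≤ q := by
        rw [← hPq]; exact Ideal.comap_mono hP'
      have h2 : Groth.Agent.FibStalkDimH8.fibIdeal f x ≤
          P'.asIdeal.comap (Ideal.Quotient.mk (Groth.Agent.FibStalkDimH8.fibIdeal f x)) := by
        intro a ha
        show Ideal.Quotient.mk _ a ∈ P'.asIdeal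
        rw [Ideal.Quotient.eq_zero_iff_mem.mpr ha]; exact zero_mem _
      have h3 := hq.2 ⟨Ideal.comap_isPrime _ _, h2⟩ h1
      have h4 : P'.asIdeal.comap (Ideal.Quotient.mk (Groth.Agent.FibStalkDimH8.fibIdeal f x)) =
          P.asIdeal.comap (Ideal.Quotient.mk (Groth.Agent.FibStalkDimH8.fibIdeal f x)) := by
        rw [hPq]; exact le_antisymm h1 h3
      exact PrimeSpectrum.comap_injective_of_surjective _ Ideal.Quotient.mk_surjective
        (PrimeSpectrum.ext h4)
    -- apply h
    have hz1 : f.asFiber x ∈ closure {Groth.Agent.FibStalkDimH8.fpt f x P} :=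
      (specializes_iff_mem_closure).mp (Groth.Agent.FibStalkDimH8.fpt_specializes f x P)
    have hz2 : ∀ z' : ↥(f.fiber (f.base x)), Groth.Agent.FibStalkDimH8.fpt f x P ∈ closure {z'} →
        z' = Groth.Agent.FibStalkDimH8.fpt f x P := by
      intro z' hz'
      have hs : z' ⤳ Groth.Agent.FibStalkDimH8.fpt f x P := specializes_iff_mem_closure.mpr hz'
      obtain ⟨P', rfl⟩ := OpenAtDimH8.fpt_surj f x z'
        (hs.trans (Groth.Agent.FibStalkDimH8.fpt_specializes f x P))
      rw [Groth.Agent.FibStalkDimH8.fpt_specializes_iff] at hs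
      rw [hPmin P' hs]
    have hopen := h _ hz1 hz2
    rw [Groth.Agent.FibStalkDimH8.fiberι_fpt] at hopen
    -- generic point of Spec A
    let η : Spec (CommRingCat.of A) := (⟨⊥, Ideal.isPrime_bot⟩ : PrimeSpectrum A)
    have hη : η ⤳ f.base (Groth.Agent.FibStalkDimH8.pt f x P) := by
      refine (PrimeSpectrum.le_iff_specializes (R := A) _ _).mp ?_
      exact bot_le
    obtain ⟨x'', hx''s, hx''η⟩ := OpenAtGenH8.exists_generalization_of_isOpenAt f _ hopen η hη
    obtain ⟨Q'', rfl⟩ := OpenAtDimH8.exists_fromSpecStalk_eq x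
      (hx''s.trans (Groth.Agent.FibStalkDimH8.pt_specializes f x P))
    refine ⟨Q''.asIdeal, Q''.isPrime, ?_, ?_⟩
    · unfold Groth.Agent.FibStalkDimH8.pt at hx''s
      rw [OpenAtDimH8.fromSpecStalk_specializes_iff, hP] at hx''s
      exact hx''s
    · rw [OpenAtDimH8.map_fromSpecStalk, Spec.fromSpecStalk_eq'] at hx''η
      have := congrArg PrimeSpectrum.asIdeal hx''η
      exact this
  have hflat : Module.Flat A (X.presheaf.stalk x) := DvrFlatH8.flat_of_radical hrad hgen
  have hflat' : (algebraMap A (X.presheaf.stalk x)).Flat := RingHom.flat_algebraMap_iff.mpr hflat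
  let e := RingEquiv.ofBijective α hα
  have hdecomp : (f.stalkMap x).hom = (algebraMap A (X.presheaf.stalk x)).comp e.symm.toRingHom := by
    ext a
    obtain ⟨a', rfl⟩ := hα.2 a
    show _ = (f.stalkMap x).hom (α (e.symm (α a')))
    have : e.symm (α a') = a' := e.symm_apply_apply a'
    rw [this]
  rw [hdecomp]
  exact RingHom.Flat.comp (RingHom.Flat.of_bijective e.symm.bijective) hflat'

end Groth.Agent.S4948
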