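import Groth.Statements.S4959
import Mathlib
-- import your own Groth.Agent.* helpers here

set_option autoImplicit false
open CategoryTheory AlgebraicGeometry
universe u v w
open EGA43

namespace Groth.Agent.S4959

open CategoryTheory.Limits in
/-- Let f : X ⟶ Y be a morphism of schemes and g : Y' ⟶ Y a surjective morphism which is either proper,
or flat and quasi-compact. If the base change f' : X ×_Y Y' ⟶ Y' is universally submersive (all of
its base changes are topological quotient maps), then f is universally submersive. -/
theorem result {X Y Y' : Scheme.{u}} (f : X ⟶ Y) (g : Y' ⟶ Y) [Surjective g]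
    (hg : IsProper g ∨ (Flat g ∧ QuasiCompact g))
    (h : MorphismProperty.universally (topologically @Topology.IsQuotientMap) (pullback.snd f g)) :
    MorphismProperty.universally (topologically @Topology.IsQuotientMap) f := by

  intro XT T i₁ i₂ fT hsq
  have hab : pullback.fst i₂ g ≫ i₂ = pullback.snd i₂ g ≫ g := pullback.condition
  have ha_q : Topology.IsQuotientMap (pullback.fst i₂ g) := by
    haveI : Surjective (pullback.fst i₂ g) :=
      MorphismProperty.pullback_fst (P := @Surjective) i₂ g inferInstance
    rcases hg with hprop | ⟨hfl, hqc⟩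
    · haveI : IsProper (pullback.fst i₂ g) :=
        MorphismProperty.pullback_fst (P := @IsProper) i₂ g hprop
      exact ((pullback.fst i₂ g).isClosedMap).isQuotientMap (pullback.fst i₂ g).continuous
        (pullback.fst i₂ g).surjective
    · haveI : Flat (pullback.fst i₂ g) := MorphismProperty.pullback_fst (P := @Flat) i₂ g hfl
      haveI : QuasiCompact (pullback.fst i₂ g) :=
        MorphismProperty.pullback_fst (P := @QuasiCompact) i₂ g hqc
      exact Flat.isQuotientMap_of_surjective _
  have hcd : pullback.fst fT (pullback.fst i₂ g) ≫ fT =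
      pullback.snd fT (pullback.fst i₂ g) ≫ pullback.fst i₂ g := pullback.condition
  have hl : (pullback.fst fT (pullback.fst i₂ g) ≫ i₁) ≫ f =
      (pullback.snd fT (pullback.fst i₂ g) ≫ pullback.snd i₂ g) ≫ g := by
    rw [Category.assoc, ← hsq.w, ← Category.assoc, hcd, Category.assoc, hab, Category.assoc]
  have hbig : IsPullback (pullback.snd fT (pullback.fst i₂ g))
      (pullback.fst fT (pullback.fst i₂ g) ≫ i₁) (pullback.fst i₂ g ≫ i₂) f :=
    (IsPullback.of_hasPullback fT (pullback.fst i₂ g)).flip.paste_vert hsq
  have hbig' : IsPullback (pullback.snd fT (pullback.fst i₂ g))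
      (pullback.lift (pullback.fst fT (pullback.fst i₂ g) ≫ i₁)
        (pullback.snd fT (pullback.fst i₂ g) ≫ pullback.snd i₂ g) hl ≫ pullback.fst f g)
      (pullback.snd i₂ g ≫ g) f := by
    rw [pullback.lift_fst, ← hab]
    exact hbig
  have hpb : IsPullback (pullback.snd fT (pullback.fst i₂ g))
      (pullback.lift (pullback.fst fT (pullback.fst i₂ g) ≫ i₁)
        (pullback.snd fT (pullback.fst i₂ g) ≫ pullback.snd i₂ g) hl)
      (pullback.snd i₂ g) (pullback.snd f g) :=
    IsPullback.of_bot hbig' (pullback.lift_snd _ _ _).symm (IsPullback.of_hasPullback f g).flip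
  have hd : Topology.IsQuotientMap (pullback.snd fT (pullback.fst i₂ g)) := h _ _ _ hpb
  have hcomp : (fT ∘ pullback.fst fT (pullback.fst i₂ g) : _ → _) =
      (pullback.fst i₂ g ∘ pullback.snd fT (pullback.fst i₂ g) : _ → _) := by
    funext x
    show fT (pullback.fst fT (pullback.fst i₂ g) x) =
      pullback.fst i₂ g (pullback.snd fT (pullback.fst i₂ g) x)
    rw [← Scheme.Hom.comp_apply, ← Scheme.Hom.comp_apply, hcd]
  have hq : Topology.IsQuotientMap (fT ∘ pullback.fst fT (pullback.fst i₂ g) : _ → _) := by
    rw [hcomp]
    exact ha_q.comp hd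
  exact Topology.IsQuotientMap.of_comp (pullback.fst fT (pullback.fst i₂ g)).continuous
    fT.continuous hq

end Groth.Agent.S4959
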