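import Groth.Statements.S4990
import Groth.Agent.Lib.FibDim_helper8
import Groth.Agent.Lib.FibFlat_helper8

set_option autoImplicit false
universe u
open CategoryTheory CategoryTheory.Limits AlgebraicGeometry TopologicalSpace
open Unram17

namespace Groth.Agent.S4990

/-- Let Y be locally Noetherian and f : X ⟶ Y locally of finite type, smooth on an open neighbourhood of
a point x with image y. Then the Krull dimension of the local ring of X at x is the sum of the Krull
dimension of the local ring of Y at y and of the Krull dimension of the local ring of the fibre, the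
quotient of the local ring at x by the extension of the maximal ideal at y. -/
theorem result {X Y : Scheme.{u}} (f : X ⟶ Y)
    [IsLocallyNoetherian Y] [LocallyOfFiniteType f] (x : ↥X)
    (hx : ∃ U : X.Opens, x ∈ U ∧ Smooth (U.ι ≫ f)) :
    ringKrullDim ↑(X.presheaf.stalk x) =
      ringKrullDim ↑(Y.presheaf.stalk (f.base x)) +
        ringKrullDim (↑(X.presheaf.stalk x) ⧸
          (IsLocalRing.maximalIdeal ↑(Y.presheaf.stalk (f.base x))).map (f.stalkMap x).hom) := by
  obtain ⟨U, hxU, hsm⟩ := hx
  haveI := hsm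
  haveI : IsLocallyNoetherian X := LocallyOfFiniteType.isLocallyNoetherian f
  -- flatness of the stalk map at `x`
  have hflat : (f.stalkMap x).hom.Flat := by
    have h1 : ((U.ι ≫ f).stalkMap ⟨x, hxU⟩).hom.Flat := Flat.stalkMap (U.ι ≫ f) ⟨x, hxU⟩
    rw [Scheme.Hom.stalkMap_comp] at h1
    have h2 : (f.stalkMap (U.ι ⟨x, hxU⟩)) =
        (f.stalkMap (U.ι ⟨x, hxU⟩) ≫ U.ι.stalkMap ⟨x, hxU⟩) ≫ inv (U.ι.stalkMap ⟨x, hxU⟩) := by
      simp
    have h3 : (f.stalkMap (U.ι ⟨x, hxU⟩)).hom.Flat := by
      rw [h2, CommRingCat.hom_comp]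
      refine RingHom.Flat.comp h1 ?_
      exact RingHom.Flat.of_bijective
        (ConcreteCategory.bijective_of_isIso (inv (U.ι.stalkMap ⟨x, hxU⟩)))
    exact h3
  letI : Algebra (Y.presheaf.stalk (f.base x)) (X.presheaf.stalk x) := (f.stalkMap x).hom.toAlgebra
  haveI : IsLocalHom (algebraMap (Y.presheaf.stalk (f.base x)) (X.presheaf.stalk x)) :=
    inferInstanceAs (IsLocalHom (f.stalkMap x).hom)
  haveI : Module.Flat (Y.presheaf.stalk (f.base x)) (X.presheaf.stalk x) := hflat
  have hyp : Groth.Agent.FibDim.Hyp (Y.presheaf.stalk (f.base x)) (X.presheaf.stalk x) := by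
    apply Groth.Agent.FibDim.hyp_of_flat_module (Y.presheaf.stalk (f.base x))
      (X.presheaf.stalk x) (X.presheaf.stalk x)
    rw [Module.support_eq_zeroLocus, Module.annihilator_eq_bot.mpr inferInstance]
    simp
  exact Groth.Agent.FibDim.dim_eq (Y.presheaf.stalk (f.base x)) (X.presheaf.stalk x) hyp

end Groth.Agent.S4990
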