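import Groth.Statements.S4998
import Mathlib
-- import your own Groth.Agent.* helpers here

set_option autoImplicit false
universe u
open Unram17
set_option maxSynthPendingDepth 3

namespace Groth.Agent.S4998

/-- Let A be an algebra of finite type over a field k. Then A is formally unramified over k if and only
if A is finite over k and every element of A has separable minimal polynomial over k (equivalently,
A is a finite product of finite separable extensions of k). -/
theorem result (k A : Type u) [Field k] [CommRing A]
    [Algebra k A] [Algebra.FiniteType k A] :
    Algebra.FormallyUnramified k A ↔ Module.Finite k A ∧ Algebra.IsSeparable k A := by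
  classical
  constructor
  · intro h
    have hfin : Module.Finite k A := Algebra.FormallyUnramified.finite_of_free k A
    refine ⟨hfin, ?_⟩
    have het : Algebra.FormallyEtale k A :=
      Algebra.FormallyEtale.of_formallyUnramified_of_field k A
    obtain ⟨I, hI, Ai, hF, hAlg, e, hsep⟩ :=
      (Algebra.FormallyEtale.iff_exists_algEquiv_prod k A).mp het
    haveI := Fintype.ofFinite I
    constructor
    intro x
    change (minpoly k x).Separable
    rw [← minpoly.algEquiv_eq e x]
    set y := e x with hy
    set q : Polynomial k := ∏ p ∈ (Finset.univ.image (fun i => minpoly k (y i))), p with hq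
    have hint : ∀ i, IsIntegral k (y i) := fun i => Algebra.IsSeparable.isIntegral k (y i)
    have hq0 : Polynomial.aeval y q = 0 := by
      funext i
      have h1 : (Polynomial.aeval y q) i = Polynomial.aeval (y i) q :=
        (Polynomial.aeval_algHom_apply (Pi.evalAlgHom k Ai i) y q).symm
      rw [h1]
      have h2 : minpoly k (y i) ∣ q :=
        Finset.dvd_prod_of_mem _ (Finset.mem_image_of_mem _ (Finset.mem_univ i))
      obtain ⟨r, hr⟩ := h2
      rw [hr, map_mul, minpoly.aeval, zero_mul]
      rfl
    have hqsep : q.Separable := by
      refine Polynomial.separable_prod' ?_ ?_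
      · intro p₁ hp₁ p₂ hp₂ hne
        obtain ⟨i, -, rfl⟩ := Finset.mem_image.mp hp₁
        obtain ⟨j, -, rfl⟩ := Finset.mem_image.mp hp₂
        rw [(minpoly.irreducible (hint i)).coprime_iff_not_dvd]
        intro hdvd
        apply hne
        exact Polynomial.eq_of_monic_of_associated (minpoly.monic (hint i)) (minpoly.monic (hint j))
          ((minpoly.irreducible (hint i)).associated_of_dvd (minpoly.irreducible (hint j)) hdvd)
      · intro p hp
        obtain ⟨i, -, rfl⟩ := Finset.mem_image.mp hp
        exact Algebra.IsSeparable.isSeparable k (y i)
    exact hqsep.of_dvd (minpoly.dvd k y hq0)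
  · rintro ⟨hfin, hsep⟩
    have hArt : IsArtinianRing A := .of_finite k A
    have hred : IsReduced A := by
      constructor
      intro x hx
      obtain ⟨n, hn⟩ := hx
      have hs : (minpoly k x).Separable := Algebra.IsSeparable.isSeparable k x
      have h1 : minpoly k x ∣ (Polynomial.X : Polynomial k) ^ n := by
        apply minpoly.dvd
        simp [hn]
      have h2 : minpoly k x ∣ (Polynomial.X : Polynomial k) := hs.squarefree.isRadical n _ h1
      obtain ⟨r, hr⟩ := h2
      have h3 := congrArg (Polynomial.aeval x) hr
      simpa [minpoly.aeval] using h3
    have hq : ∀ (m : MaximalSpectrum A), Algebra.FormallyUnramified k (A ⧸ m.asIdeal) := by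
      intro m
      letI := Ideal.Quotient.field m.asIdeal
      have : Algebra.IsSeparable k (A ⧸ m.asIdeal) := by
        constructor
        intro z
        obtain ⟨a, rfl⟩ := Ideal.Quotient.mk_surjective z
        have hs : (minpoly k a).Separable := Algebra.IsSeparable.isSeparable k a
        refine hs.of_dvd (minpoly.dvd k _ ?_)
        have h4 := Polynomial.aeval_algHom_apply (Ideal.Quotient.mkₐ k m.asIdeal) a (minpoly k a)
        rw [minpoly.aeval, map_zero] at h4
        exact h4
      exact Algebra.FormallyUnramified.of_isSeparable k _
    have hpi : Algebra.FormallyUnramified k (∀ m : MaximalSpectrum A, A ⧸ m.asIdeal) :=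
      (Algebra.FormallyUnramified.pi_iff _).mpr hq
    exact .of_equiv ((IsArtinianRing.equivPi A).restrictScalars k).symm

end Groth.Agent.S4998
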