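import Groth.Statements.S5000
import Groth.Agent.Lib.FreeKaehlerReg_helper3
-- import your own Groth.Agent.* helpers here

set_option autoImplicit false
universe u
open Unram17


namespace Groth.Agent.S5000

/-- Let k be a field of characteristic zero, A a k-algebra of finite type and q a prime of A. Then A is
smooth over k at q if and only if the module of differentials of the local ring A_q over k is free. -/
theorem result (k A : Type u) [Field k] [CharZero k] [CommRing A]
    [Algebra k A] [Algebra.FiniteType k A] (q : Ideal A) [q.IsPrime] :
    Algebra.IsSmoothAt k q ↔
      Module.Free (Localization.AtPrime q) (KaehlerDifferential k (Localization.AtPrime q)) := by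
  exact Groth.Agent.Lib.FreeKaehlerRegH3.main5000 k A q

end Groth.Agent.S5000
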