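import Groth.Statements.S5001
import Groth.Agent.Lib.EtaleDiffCrit3_helper3
-- import your own Groth.Agent.* helpers here

set_option autoImplicit false
universe u
open Unram17
open KaehlerDifferential

namespace Groth.Agent.S5001

/-- Let k be a field, A a k-algebra of finite type equipped with a k-algebra map from the polynomial
ring in n variables, with images g_i of the variables, and p a prime of A such that Spec A has local
dimension n at p, the residue field of p is a finite separable extension of k, and every g_i lies in
p. Then A is etale over the polynomial ring at p if and only if the images of the g_i generate the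
maximal ideal of the local ring A_p. -/
theorem result (k A : Type u) [Field k] [CommRing A] [Algebra k A]
    [Algebra.FiniteType k A] (n : ℕ) [Algebra (MvPolynomial (Fin n) k) A]
    [IsScalarTower k (MvPolynomial (Fin n) k) A] (p : Ideal A) [p.IsPrime]
    (hn : FlatMor.localDim (PrimeSpectrum A) ⟨p, inferInstance⟩ = (n : WithBot ℕ∞))
    [Module.Finite k p.ResidueField] [Algebra.IsSeparable k p.ResidueField]
    (hg : ∀ i : Fin n, algebraMap (MvPolynomial (Fin n) k) A (MvPolynomial.X i) ∈ p) :
    Algebra.IsEtaleAt (MvPolynomial (Fin n) k) p ↔
      Ideal.span (Set.range fun i : Fin n =>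
        algebraMap A (Localization.AtPrime p) (algebraMap (MvPolynomial (Fin n) k) A (MvPolynomial.X i))) =
        IsLocalRing.maximalIdeal (Localization.AtPrime p) := by
  have hq := Groth.Agent.Lib.EtaleDiffCritH3.under_eq_span_X k n A p hg
  haveI : Algebra.FiniteType (MvPolynomial (Fin n) k) A :=
    Algebra.FiniteType.of_restrictScalars_finiteType k (MvPolynomial (Fin n) k) A
  letI := Localization.AtPrime.algebraOfLiesOver (p.under (MvPolynomial (Fin n) k)) p
  have hmapspan : (p.under (MvPolynomial (Fin n) k)).map
      (algebraMap (MvPolynomial (Fin n) k) (Localization.AtPrime p))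
      = Ideal.span (Set.range fun i : Fin n =>
        algebraMap A (Localization.AtPrime p)
          (algebraMap (MvPolynomial (Fin n) k) A (MvPolynomial.X i))) := by
    rw [hq, Ideal.map_span]
    congr 1
    ext y
    constructor
    · rintro ⟨_, ⟨i, rfl⟩, rfl⟩
      exact ⟨i, (IsScalarTower.algebraMap_apply _ _ _ _).symm⟩
    · rintro ⟨i, rfl⟩
      exact ⟨_, ⟨i, rfl⟩, IsScalarTower.algebraMap_apply _ _ _ _⟩
  constructor
  · intro h
    haveI : Algebra.FormallyEtale (MvPolynomial (Fin n) k) (Localization.AtPrime p) := h
    haveI : Algebra.IsUnramifiedAt (MvPolynomial (Fin n) k) p :=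
      (inferInstance : Algebra.FormallyUnramified (MvPolynomial (Fin n) k) (Localization.AtPrime p))
    have := ((Algebra.isUnramifiedAt_iff_map_eq (MvPolynomial (Fin n) k)
      (p.under (MvPolynomial (Fin n) k)) p).mp inferInstance).2
    rw [← hmapspan]
    exact this
  · intro hspan
    have hmap : (p.under (MvPolynomial (Fin n) k)).map
        (algebraMap (MvPolynomial (Fin n) k) (Localization.AtPrime p))
        = IsLocalRing.maximalIdeal (Localization.AtPrime p) := by rw [hmapspan, hspan]
    haveI : Algebra.IsSeparable (p.under (MvPolynomial (Fin n) k)).ResidueField p.ResidueField :=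
      Algebra.isSeparable_tower_top_of_isSeparable k _ _
    haveI : Algebra.IsUnramifiedAt (MvPolynomial (Fin n) k) p :=
      (Algebra.isUnramifiedAt_iff_map_eq (MvPolynomial (Fin n) k)
        (p.under (MvPolynomial (Fin n) k)) p).mpr ⟨inferInstance, hmap⟩
    have hheight := Groth.Agent.Lib.EtaleDiffCritH3.height_under_eq k n A p hn
    refine Groth.Agent.Lib.EtaleDiffCritH3.isEtaleAt_of_isUnramifiedAt_of_dim_eq
      (MvPolynomial (Fin n) k) A p ?_
    rw [IsLocalization.AtPrime.ringKrullDim_eq_height (p.under (MvPolynomial (Fin n) k))
      (Localization.AtPrime (p.under (MvPolynomial (Fin n) k))),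
      IsLocalization.AtPrime.ringKrullDim_eq_height p (Localization.AtPrime p), hheight]

end Groth.Agent.S5001
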