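import Groth.Statements.S5006
import Mathlib.Tactic
import Mathlib.RingTheory.Nakayama
import Mathlib.RingTheory.Noetherian.Nilpotent
import Mathlib.RingTheory.Localization.AtPrime.Basic

set_option autoImplicit false
universe u
open Nrm16

namespace Groth.Agent.S5006

/-- Let A be a commutative ring, I a finitely generated ideal and p a prime ideal containing I. Then
some basic open neighbourhood of p in Spec A is contained in the closed set V(I) (so that V(I) ⟶
Spec A is a local homeomorphism onto an open set near p) if and only if there is an integer n > 0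
with I^n A_p = I^(n+1) A_p in the local ring at p. Affine form. -/
theorem result (A : Type u) [CommRing A] (I : Ideal A) (hI : I.FG)
    (p : Ideal A) [p.IsPrime] (hp : I ≤ p) :
    (∃ f : A, f ∉ p ∧ ∀ q : Ideal A, q.IsPrime → f ∉ q → I ≤ q) ↔
      ∃ n : ℕ, 0 < n ∧
        (I ^ n).map (algebraMap A (Localization.AtPrime p)) =
          (I ^ (n + 1)).map (algebraMap A (Localization.AtPrime p)) := by
  classical
  constructor
  · rintro ⟨f, hfp, hf⟩
    -- (f) * I is f.g. and contained in the nilradical, hence nilpotent
    have hFG : (Ideal.span {f} * I).FG := (Submodule.fg_span_singleton f).mul hI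
    have hle : Ideal.span {f} * I ≤ nilradical A := by
      rw [nilradical_eq_sInf]
      refine le_sInf (fun q hq => ?_)
      have hq' : q.IsPrime := hq
      by_cases hfq : f ∈ q
      · exact le_trans Ideal.mul_le_left
          ((Ideal.span_singleton_le_iff_mem q).mpr hfq)
      · exact le_trans Ideal.mul_le_right (hf q hq' hfq)
    obtain ⟨n, hn⟩ := hFG.isNilpotent_iff_le_nilradical.mpr hle
    have hzero : ∀ m : ℕ, n ≤ m → (I ^ m).map (algebraMap A (Localization.AtPrime p)) = ⊥ := by
      intro m hm
      rw [Ideal.map_eq_bot_iff_le_ker]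
      intro x hx
      rw [RingHom.mem_ker, IsLocalization.map_eq_zero_iff p.primeCompl]
      refine ⟨⟨f ^ m, p.primeCompl.pow_mem hfp m⟩, ?_⟩
      have h1 : f ^ m * x ∈ (Ideal.span {f} * I) ^ m := by
        rw [mul_pow]
        exact Ideal.mul_mem_mul (Ideal.pow_mem_pow (Ideal.mem_span_singleton_self f) m) hx
      have h2 : (Ideal.span {f} * I) ^ m = ⊥ := by
        have : (Ideal.span {f} * I) ^ m ≤ (Ideal.span {f} * I) ^ n := Ideal.pow_le_pow_right hm
        rw [hn] at this
        exact le_bot_iff.mp this
      rw [h2] at h1
      exact h1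
    exact ⟨n + 1, by omega, by rw [hzero (n + 1) (by omega), hzero (n + 1 + 1) (by omega)]⟩
  · rintro ⟨n, hn0, hn⟩
    set S := Localization.AtPrime p
    set J : Ideal S := (I ^ n).map (algebraMap A S) with hJ
    have hJFG : J.FG := (hI.pow (n := n)).map _
    have hIle : I.map (algebraMap A S) ≤ Ideal.jacobson ⊥ := by
      rw [IsLocalRing.jacobson_eq_maximalIdeal ⊥ bot_ne_top]
      rw [← Localization.AtPrime.map_eq_maximalIdeal]
      exact Ideal.map_mono hp
    have hJle : J ≤ (I.map (algebraMap A S)) • J := by
      rw [smul_eq_mul, hJ, ← Ideal.map_mul, ← pow_succ', ← hn]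
    have hJbot : J = ⊥ :=
      Submodule.eq_bot_of_le_smul_of_le_jacobson_bot (I.map (algebraMap A S)) J hJFG hJle hIle
    -- generators of I ^ n are killed by elements outside p
    obtain ⟨T, hT⟩ := (hI.pow (n := n))
    have hker : ∀ b ∈ T, ∃ m : A, m ∉ p ∧ m * b = 0 := by
      intro b hb
      have hbI : b ∈ I ^ n := by rw [← hT]; exact Ideal.subset_span hb
      have : algebraMap A S b = 0 := by
        have : algebraMap A S b ∈ J := Ideal.mem_map_of_mem _ hbI
        rw [hJbot] at this
        exact this
      obtain ⟨m, hm⟩ := (IsLocalization.map_eq_zero_iff p.primeCompl S b).mp this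
      exact ⟨m.1, m.2, hm⟩
    choose! m hmp hm0 using hker
    refine ⟨∏ b ∈ T, m b, ?_, ?_⟩
    · intro hprod
      obtain ⟨b, hb, hbp⟩ := (Ideal.IsPrime.prod_mem_iff (p := p)).mp hprod
      exact hmp b hb hbp
    · intro q hq hfq
      have hIn : I ^ n ≤ q := by
        intro x hx
        rw [← hT] at hx
        have hx0 : (∏ b ∈ T, m b) * x = 0 := by
          induction hx using Submodule.span_induction with
          | mem y hy =>
            rw [← Finset.mul_prod_erase T m hy, mul_comm (m y), mul_assoc, hm0 y hy, mul_zero]
          | zero => simp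
          | add y y' _ _ ihy ihy' => rw [mul_add, ihy, ihy', add_zero]
          | smul r y _ ihy =>
            rw [smul_eq_mul, mul_left_comm, ihy, mul_zero]
        have : (∏ b ∈ T, m b) * x ∈ q := by rw [hx0]; exact q.zero_mem
        exact (hq.mem_or_mem this).resolve_left hfq
      exact hq.le_of_pow_le hIn

end Groth.Agent.S5006
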