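import Groth.Statements.S5012
import Mathlib
import Groth.Agent.Lib.SmoothPerf2_helper6
-- import your own Groth.Agent.* helpers here

set_option autoImplicit false
universe u
open Unram17

namespace Groth.Agent.S5012

/-- Let A be an algebra of finite type over a field k. Then Spec A has a dense open subset consisting of
points at which A is smooth over k if and only if, for every minimal prime p of A, the local ring
A_p is geometrically reduced over k (that is, A_p is a field and a separable extension of k). -/
theorem result (k A : Type u) [Field k] [CommRing A] [Algebra k A]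
    [Algebra.FiniteType k A] :
    (∃ U : TopologicalSpace.Opens (PrimeSpectrum A), Dense (U : Set (PrimeSpectrum A)) ∧
        ∀ p ∈ U, Algebra.IsSmoothAt k p.asIdeal) ↔
      ∀ (p : Ideal A) [p.IsPrime], p ∈ minimalPrimes A →
        Algebra.IsGeometricallyReduced k (Localization.AtPrime p) := by

  haveI : IsNoetherianRing A := Algebra.FiniteType.isNoetherianRing k A
  haveI : Algebra.FinitePresentation k A :=
    Algebra.FinitePresentation.of_finiteType.mp inferInstance
  constructor
  · rintro ⟨U, hUd, hUs⟩ p hp hpmin
    have hcomp : PrimeSpectrum.zeroLocus (p : Set A) ∈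
        irreducibleComponents (PrimeSpectrum A) := by
      rw [← PrimeSpectrum.zeroLocus_minimalPrimes]
      exact ⟨p, hpmin, rfl⟩
    obtain ⟨o, ho, hone, hoZ⟩ :=
      TopologicalSpace.NoetherianSpace.exists_isOpen_nonempty_subset_irreducibleComponent _ hcomp
    obtain ⟨x, hxU, hxo⟩ := hUd.exists_mem_open ho hone
    have hpx : p ≤ x.asIdeal := by
      have := hoZ hxo
      rwa [PrimeSpectrum.mem_zeroLocus, SetLike.coe_subset_coe] at this
    have hspec : (⟨p, hp⟩ : PrimeSpectrum A) ⤳ x :=
      (PrimeSpectrum.le_iff_specializes _ _).1 hpx
    have hpU : (⟨p, hp⟩ : PrimeSpectrum A) ∈ U := hspec.mem_open U.2 hxU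
    haveI hsm : Algebra.FormallySmooth k (Localization.AtPrime p) := hUs ⟨p, hp⟩ hpU
    haveI hreg : IsRegularLocalRing (Localization.AtPrime p) :=
      Groth.Agent.Lib.SmoothRegFieldH3.regular_of_formallySmooth_field (k := k)
    haveI : IsDomain (Localization.AtPrime p) := Groth.Agent.RegularLib.isDomain _
    have hbij :=
      Groth.Agent.Lib.SmoothPerf2_helper6.bijective_algebraMap_residueField_of_minimal p hpmin
    haveI : Algebra.FormallyEtale (Localization.AtPrime p) p.ResidueField :=
      Algebra.FormallyEtale.of_equiv (AlgEquiv.ofBijective (Algebra.ofId _ _) hbij)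
    haveI : Algebra.FormallySmooth (Localization.AtPrime p) p.ResidueField := inferInstance
    haveI : Algebra.FormallySmooth k p.ResidueField :=
      Algebra.FormallySmooth.comp k (Localization.AtPrime p) p.ResidueField
    haveI : Algebra.IsGeometricallyReduced k p.ResidueField :=
      (Groth.Agent.Lib.FSGRH3.formallySmooth_iff_isGeometricallyReduced k p.ResidueField).1
        inferInstance
    exact Algebra.IsGeometricallyReduced.of_injective
      (IsScalarTower.toAlgHom k (Localization.AtPrime p) p.ResidueField) hbij.1
  · intro hgr
    refine ⟨⟨Algebra.smoothLocus k A, Algebra.isOpen_smoothLocus⟩, ?_, fun p hp => hp⟩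
    have hmin : ∀ (p : Ideal A) [p.IsPrime], p ∈ minimalPrimes A →
        Algebra.FormallySmooth k (Localization.AtPrime p) := by
      intro p hp hpmin
      haveI := hgr p hpmin
      haveI : IsReduced (Localization.AtPrime p) :=
        Algebra.isReduced_of_isGeometricallyReduced (k := k)
      have hbij :=
        Groth.Agent.Lib.SmoothPerf2_helper6.bijective_algebraMap_residueField_of_minimal p hpmin
      let e : Localization.AtPrime p ≃ₐ[k] p.ResidueField :=
        AlgEquiv.ofBijective (IsScalarTower.toAlgHom k (Localization.AtPrime p) p.ResidueField)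
          hbij
      haveI : Algebra.IsGeometricallyReduced k p.ResidueField :=
        Algebra.IsGeometricallyReduced.of_injective e.symm.toAlgHom e.symm.injective
      haveI : Algebra.FormallySmooth k p.ResidueField :=
        (Groth.Agent.Lib.FSGRH3.formallySmooth_iff_isGeometricallyReduced k p.ResidueField).2
          inferInstance
      exact Algebra.FormallySmooth.of_equiv e.symm
    intro x
    obtain ⟨p, hpmin, hpx⟩ := Ideal.exists_minimalPrimes_le (bot_le : ⊥ ≤ x.asIdeal)
    haveI := hpmin.1.1
    have hspec : (⟨p, hpmin.1.1⟩ : PrimeSpectrum A) ⤳ x :=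
      (PrimeSpectrum.le_iff_specializes _ _).1 hpx
    have hmem : (⟨p, hpmin.1.1⟩ : PrimeSpectrum A) ∈ Algebra.smoothLocus k A := hmin p hpmin
    exact closure_mono (Set.singleton_subset_iff.2 hmem) hspec.mem_closure

end Groth.Agent.S5012
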