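import Groth.Statements.S5026
import Groth.Agent.Lib.EtaleDiffCrit4_helper3
-- import your own Groth.Agent.* helpers here

set_option autoImplicit false
universe u
open Unram17
open KaehlerDifferential

namespace Groth.Agent.S5026

/-- Let k be a field, A a k-algebra of finite type equipped with a k-algebra map from the polynomial
ring in n variables (images g_i of the variables), p a prime of A such that Spec A has local
dimension n at p, r the Krull dimension of the local ring A_p, and suppose g_i ∈ p for the indices i
< r. Then A is etale at p over the polynomial ring if and only if the images of the g_i with i < r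
generate the maximal ideal of A_p and the differentials of the residue classes of the g_i with i ≥ r
generate the module of differentials of the residue field κ(p) over k. (The published statement adds
that these conditions imply that A is smooth at p over k and that κ(p) is separable over k; this row
does not state that consequence.) -/
theorem result (k A : Type u) [Field k]
    [CommRing A] [Algebra k A] [Algebra.FiniteType k A] (n r : ℕ) [Algebra (MvPolynomial (Fin n) k) A]
    [IsScalarTower k (MvPolynomial (Fin n) k) A] (p : Ideal A) [p.IsPrime]
    (hn : FlatMor.localDim (PrimeSpectrum A) ⟨p, inferInstance⟩ = (n : WithBot ℕ∞))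
    (hr : ringKrullDim (Localization.AtPrime p) = (r : WithBot ℕ∞))
    (hg : ∀ i : Fin n, (i : ℕ) < r → algebraMap (MvPolynomial (Fin n) k) A (MvPolynomial.X i) ∈ p) :
    Algebra.IsEtaleAt (MvPolynomial (Fin n) k) p ↔
      Ideal.span ((fun i : Fin n =>
          algebraMap A (Localization.AtPrime p) (algebraMap (MvPolynomial (Fin n) k) A (MvPolynomial.X i))) ''
            {i : Fin n | (i : ℕ) < r}) = IsLocalRing.maximalIdeal (Localization.AtPrime p) ∧
        Submodule.span p.ResidueField ((fun i : Fin n =>
          KaehlerDifferential.D k p.ResidueField
            (IsLocalRing.residue (Localization.AtPrime p)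
              (algebraMap A (Localization.AtPrime p) (algebraMap (MvPolynomial (Fin n) k) A (MvPolynomial.X i))))) ''
            {i : Fin n | r ≤ (i : ℕ)}) = ⊤ := by
  haveI : Algebra.FiniteType (MvPolynomial (Fin n) k) A :=
    Algebra.FiniteType.of_restrictScalars_finiteType k (MvPolynomial (Fin n) k) A
  letI := Localization.AtPrime.algebraOfLiesOver (p.under (MvPolynomial (Fin n) k)) p
  have hgq : ∀ i : Fin n, (i : ℕ) < r →
      (MvPolynomial.X i : MvPolynomial (Fin n) k) ∈ p.under (MvPolynomial (Fin n) k) :=
    fun i hi => hg i hi
  have hle_max : (p.under (MvPolynomial (Fin n) k)).map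
      (algebraMap (MvPolynomial (Fin n) k) (Localization.AtPrime p))
      ≤ IsLocalRing.maximalIdeal (Localization.AtPrime p) := by
    rw [Ideal.map_le_iff_le_comap]
    intro f hf
    rw [Ideal.mem_comap, IsScalarTower.algebraMap_apply (MvPolynomial (Fin n) k) A
      (Localization.AtPrime p)]
    exact (IsLocalization.AtPrime.to_map_mem_maximal_iff (Localization.AtPrime p) p _).2 hf
  have hspan_le : Ideal.span ((fun i : Fin n =>
      algebraMap A (Localization.AtPrime p)
        (algebraMap (MvPolynomial (Fin n) k) A (MvPolynomial.X i))) '' {i : Fin n | (i : ℕ) < r})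
      ≤ (p.under (MvPolynomial (Fin n) k)).map
        (algebraMap (MvPolynomial (Fin n) k) (Localization.AtPrime p)) := by
    rw [Ideal.span_le]
    rintro _ ⟨i, hi, rfl⟩
    change algebraMap A (Localization.AtPrime p)
        (algebraMap (MvPolynomial (Fin n) k) A (MvPolynomial.X i)) ∈ _
    rw [← IsScalarTower.algebraMap_apply]
    exact Ideal.mem_map_of_mem _ (hgq i hi)
  have hfinish : Algebra.IsUnramifiedAt (MvPolynomial (Fin n) k) p →
      Algebra.IsEtaleAt (MvPolynomial (Fin n) k) p := by
    intro hu
    have hheight := Groth.Agent.Lib.EtaleDiffCritH3.height_under_eq k n A p hn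
    refine Groth.Agent.Lib.EtaleDiffCritH3.isEtaleAt_of_isUnramifiedAt_of_dim_eq
      (MvPolynomial (Fin n) k) A p ?_
    rw [IsLocalization.AtPrime.ringKrullDim_eq_height (p.under (MvPolynomial (Fin n) k))
      (Localization.AtPrime (p.under (MvPolynomial (Fin n) k))),
      IsLocalization.AtPrime.ringKrullDim_eq_height p (Localization.AtPrime p), hheight]
  constructor
  · intro h
    haveI : Algebra.FormallyEtale (MvPolynomial (Fin n) k) (Localization.AtPrime p) := h
    haveI : Algebra.IsUnramifiedAt (MvPolynomial (Fin n) k) p :=
      (inferInstance : Algebra.FormallyUnramified (MvPolynomial (Fin n) k) (Localization.AtPrime p))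
    have hmax := ((Algebra.isUnramifiedAt_iff_map_eq (MvPolynomial (Fin n) k)
      (p.under (MvPolynomial (Fin n) k)) p).mp inferInstance).2
    have hheight := Groth.Agent.Lib.EtaleDiffCritH3.height_under_eq k n A p hn
    have hpr : p.height = r := by
      have := IsLocalization.AtPrime.ringKrullDim_eq_height p (Localization.AtPrime p)
      rw [hr] at this
      exact_mod_cast this.symm
    have hq := Groth.Agent.Lib.EtaleDiffCritH3.eq_span_X_image_of_height k n r
      (p.under (MvPolynomial (Fin n) k)) hgq (hheight.trans hpr)
    refine ⟨?_, ?_⟩
    · rw [← hmax]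
      conv_rhs => rw [hq, Ideal.map_span]
      congr 1
      ext y
      constructor
      · rintro ⟨i, hi, rfl⟩
        exact ⟨_, ⟨i, hi, rfl⟩, IsScalarTower.algebraMap_apply _ _ _ _⟩
      · rintro ⟨_, ⟨i, hi, rfl⟩, rfl⟩
        exact ⟨i, hi, (IsScalarTower.algebraMap_apply _ _ _ _).symm⟩
    · have hΩB := Groth.Agent.Lib.EtaleDiffCritH3.span_eq_top_of_subsingleton k n
        (Localization.AtPrime p)
      rw [eq_top_iff]
      intro w hw
      clear hw
      obtain ⟨v, rfl⟩ := KaehlerDifferential.map_surjective_of_surjective k k
        (Localization.AtPrime p) p.ResidueField IsLocalRing.residue_surjective w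
      have hv : v ∈ Submodule.span (Localization.AtPrime p) (Set.range fun i : Fin n =>
          KaehlerDifferential.D k (Localization.AtPrime p)
            (algebraMap (MvPolynomial (Fin n) k) (Localization.AtPrime p)
              (MvPolynomial.X i))) := by
        rw [hΩB]; trivial
      induction hv using Submodule.span_induction with
      | mem y hy =>
        obtain ⟨i, rfl⟩ := hy
        rw [KaehlerDifferential.map_D]
        by_cases hi : (i : ℕ) < r
        · have h0 : algebraMap (Localization.AtPrime p) p.ResidueField
              (algebraMap (MvPolynomial (Fin n) k) (Localization.AtPrime p)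
                (MvPolynomial.X i)) = 0 := by
            rw [IsLocalRing.ResidueField.algebraMap_eq, IsLocalRing.residue_eq_zero_iff]
            exact hle_max (Ideal.mem_map_of_mem _ (hgq i hi))
          rw [h0, map_zero]
          exact Submodule.zero_mem _
        · refine Submodule.subset_span ⟨i, not_lt.1 hi, ?_⟩
          change KaehlerDifferential.D k p.ResidueField
            (IsLocalRing.residue (Localization.AtPrime p)
              (algebraMap A (Localization.AtPrime p)
                (algebraMap (MvPolynomial (Fin n) k) A (MvPolynomial.X i)))) = _
          rw [← IsScalarTower.algebraMap_apply, IsLocalRing.ResidueField.algebraMap_eq]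
      | zero => rw [map_zero]; exact Submodule.zero_mem _
      | add x y _ _ hx hy => rw [map_add]; exact Submodule.add_mem _ hx hy
      | smul b y _ hy =>
        rw [map_smul, ← algebraMap_smul p.ResidueField b]
        exact Submodule.smul_mem _ _ hy
  · rintro ⟨hspan, hΩ⟩
    have hmap : (p.under (MvPolynomial (Fin n) k)).map
        (algebraMap (MvPolynomial (Fin n) k) (Localization.AtPrime p))
        = IsLocalRing.maximalIdeal (Localization.AtPrime p) :=
      le_antisymm hle_max (hspan ▸ hspan_le)
    haveI : Algebra.IsSeparable (p.under (MvPolynomial (Fin n) k)).ResidueField p.ResidueField :=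
      Groth.Agent.Lib.EtaleDiffCritH3.isSeparable_residueField_of_span k n A p _ hΩ
    exact hfinish ((Algebra.isUnramifiedAt_iff_map_eq (MvPolynomial (Fin n) k)
        (p.under (MvPolynomial (Fin n) k)) p).mpr ⟨inferInstance, hmap⟩)

end Groth.Agent.S5026
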