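import Groth.Statements.S5034
import Mathlib
import Groth.Agent.Lib.HenselProd_lead

set_option autoImplicit false
universe u
open Hensel

namespace Groth.Agent.S5034

/-- a') implies a): let R be a local ring such that for every monic polynomial F over R the quotient
ring R[T]/(F) is isomorphic, as a ring, to a finite product of local rings. Then R is henselian. -/
theorem result (R : Type u) [CommRing R] [IsLocalRing R]
    (h : ∀ F : Polynomial R, F.Monic →
      ∃ (ι : Type u) (_ : Fintype ι) (A : ι → Type u) (_ : ∀ i, CommRing (A i)),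
        (∀ i, IsLocalRing (A i)) ∧ Nonempty (AdjoinRoot F ≃+* (∀ i, A i))) :
    HenselianLocalRing R := by
  classical
  refine ((HenselianLocalRing.TFAE R).out 1 0).mp ?_
  intro f hf a₀ h₁ h₂
  have e1 : ∀ P : Polynomial R, Polynomial.aeval a₀ P =
      (P.map (IsLocalRing.residue R)).eval a₀ := by
    intro P
    rw [Polynomial.eval_map, Polynomial.aeval_def, IsLocalRing.ResidueField.algebraMap_eq]
  rw [e1] at h₁ h₂
  rw [← Polynomial.derivative_map] at h₂
  obtain ⟨ι, hι, A, hA, hloc, ⟨E⟩⟩ := h f hf
  letI := hι
  letI := hA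
  haveI := hloc
  exact Groth.Agent.Lib.HenselProd.exists_root_of_pi_local f hf a₀ h₁ h₂ A E

end Groth.Agent.S5034
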