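import Groth.Statements.S5043
import Groth.Agent.Lib.Henselization13_helper3
import Groth.Agent.Lib.Henselization12_helper3
import Groth.Agent.Lib.IndEtaleLoc3_helper3
-- import your own Groth.Agent.* helpers here

set_option autoImplicit false
universe u
open Hensel
set_option maxSynthPendingDepth 3

namespace Groth.Agent.S5043

/-- Let R be a Noetherian local ring with henselization S. A prime ideal P of S is an associated prime
of S if and only if its inverse image in R is an associated prime of R. -/
theorem result (R S : Type u) [CommRing R] [IsLocalRing R] [IsNoetherianRing R]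
    [CommRing S] [IsLocalRing S] [Algebra R S] [IsLocalHom (algebraMap R S)] [Hensel.IsHenselization R S]
    (P : Ideal S) [P.IsPrime] :
    P ∈ associatedPrimes S S ↔ P.comap (algebraMap R S) ∈ associatedPrimes R R := by
  haveI hN : IsNoetherianRing S := by
    obtain ⟨e, -⟩ := Groth.Agent.Lib.HenselizationH3.exists_ringEquiv_hens (R := R) S
    exact isNoetherianRing_of_ringEquiv _ e.symm
  have hie : EtPBC.IsIndEtale R S := by
    obtain ⟨e, he⟩ := Groth.Agent.Lib.HenselizationH3.exists_ringEquiv_hens (R := R) S
    exact Groth.Agent.Lib.IndEtaleH3.isIndEtale_of_ringEquiv e.symm (fun r => by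
      rw [← he r, RingEquiv.symm_apply_apply]) Groth.Agent.Lib.HenselizationH3.isIndEtale_hens
  exact Groth.Agent.Lib.IndEtaleH3.mem_associatedPrimes_iff_of_isIndEtale hie P

end Groth.Agent.S5043
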