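import Groth.Statements.S5048
import Mathlib

set_option autoImplicit false
open CategoryTheory AlgebraicGeometry
universe u
open Unram

namespace Groth.Agent.S5048

/-- Let Y be an irreducible scheme with generic point η and f : X ⟶ Y flat, locally of finite type and
locally quasi-finite. Then a point x of X maps to η if and only if its closure is an irreducible
component of X; thus the irreducible components of X are in canonical bijection with the fibre over
η. -/
theorem result {X Y : Scheme.{u}} [IrreducibleSpace ↥Y] (f : X ⟶ Y)
    [Flat f] [LocallyOfFiniteType f] [LocallyQuasiFinite f] (x : X) :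
    f.base x = genericPoint Y ↔ closure ({x} : Set ↥X) ∈ irreducibleComponents ↥X := by
  constructor
  · intro hx
    -- no proper generizations of x
    have hgen : ∀ x' : X, x' ⤳ x → x' = x := by
      intro x' hx'
      have h1 : f.base x' ⤳ f.base x := hx'.map f.continuous
      have h2 : f.base x' = genericPoint Y := by
        rw [hx] at h1
        exact (h1.antisymm (genericPoint_specializes _)).eq
      have hd := (Scheme.Hom.isDiscrete_preimage_singleton f (genericPoint Y)).to_subtype
      let a : f.base ⁻¹' {genericPoint Y} := ⟨x, hx⟩
      let a' : f.base ⁻¹' {genericPoint Y} := ⟨x', h2⟩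
      have h3 : a' ⤳ a := (subtype_specializes_iff a' a).mpr hx'
      have h4 : a' = a := h3.eq
      exact congrArg Subtype.val h4
    have hT : irreducibleComponent x ∈ irreducibleComponents ↥X :=
      irreducibleComponent_mem_irreducibleComponents x
    have hirr : IsIrreducible (irreducibleComponent x) := isIrreducible_irreducibleComponent
    have hcl : IsClosed (irreducibleComponent x) := isClosed_irreducibleComponent
    have hgp := hirr.isGenericPoint_genericPoint hcl
    have h5 : hirr.genericPoint ⤳ x := hgp.specializes mem_irreducibleComponent
    have h6 := hgen _ h5
    rw [← h6, hgp.def]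
    exact hT
  · intro hx
    obtain ⟨x', hx'1, hx'2⟩ := Flat.generalizingMap (f := f) (genericPoint_specializes (f.base x))
    have h1 : closure {x} ≤ closure {x'} := by
      apply isClosed_closure.closure_subset_iff.mpr
      exact Set.singleton_subset_iff.mpr hx'1.mem_closure
    have h2 : closure {x'} ≤ closure {x} := hx.2 isIrreducible_singleton.closure h1
    have h3 : x ⤳ x' := specializes_iff_mem_closure.mpr (h2 (subset_closure rfl))
    have h4 : x' = x := (hx'1.antisymm h3).eq
    rw [← h4]; exact hx'2

end Groth.Agent.S5048
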