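import Groth.Statements.S5049
import Groth.Agent.S4651

set_option autoImplicit false
open CategoryTheory AlgebraicGeometry
universe u
open Unram

namespace Groth.Agent.S5049

/-- Let f : X ⟶ Y be flat, locally of finite type and locally quasi-finite. If the irreducible
components of Y form a locally finite family of subsets, then so do the irreducible components of X. -/
theorem result {X Y : Scheme.{u}} (f : X ⟶ Y)
    [Flat f] [LocallyOfFiniteType f] [LocallyQuasiFinite f]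
    (hY : LocallyFinite (fun Z : ↥(irreducibleComponents ↥Y) => (Z : Set ↥Y))) :
    LocallyFinite (fun Z : ↥(irreducibleComponents ↥X) => (Z : Set ↥X)) := by
  intro x
  obtain ⟨U, hU, hfxU⟩ : ∃ U : Y.Opens, IsAffineOpen U ∧ f x ∈ U := by
    obtain ⟨_, ⟨U, hU', rfl⟩, hfxU, -⟩ :=
      Y.isBasis_affineOpens.exists_subset_of_mem_open (Set.mem_univ (f x)) isOpen_univ
    exact ⟨U, hU', hfxU⟩
  obtain ⟨V, hV, hxV, hVU⟩ : ∃ V : X.Opens, IsAffineOpen V ∧ x ∈ V ∧ V ≤ f ⁻¹ᵁ U := by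
    obtain ⟨_, ⟨V, hV', rfl⟩, hxV, hVU⟩ :=
      X.isBasis_affineOpens.exists_subset_of_mem_open
        (show x ∈ ((f ⁻¹ᵁ U : X.Opens) : Set X) from hfxU) (f ⁻¹ᵁ U).2
    exact ⟨V, hV', hxV, hVU⟩
  have e : V ≤ f ⁻¹ᵁ U := hVU
  let h : V.toScheme ⟶ Y := V.ι ≫ f
  have hY' : ∀ y : Y, ∃ O : Set ↥Y, IsOpen O ∧ y ∈ O ∧
      {Z ∈ irreducibleComponents ↥Y | (Z ∩ O).Nonempty}.Finite := by
    intro y
    obtain ⟨t, ht, hfin⟩ := hY y
    obtain ⟨O, hOt, hO, hyO⟩ := mem_nhds_iff.mp ht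
    refine ⟨O, hO, hyO, ?_⟩
    have hsub : {Z ∈ irreducibleComponents ↥Y | (Z ∩ O).Nonempty} ⊆
        Subtype.val '' {i : ↥(irreducibleComponents ↥Y) | ((i : Set ↥Y) ∩ t).Nonempty} := by
      rintro Z ⟨hZ, hne⟩
      exact ⟨⟨Z, hZ⟩, hne.mono (Set.inter_subset_inter_right _ hOt), rfl⟩
    exact (hfin.image _).subset hsub
  have hgen : GeneralizingMap ⇑h := Flat.generalizingMap h
  haveI : IsAffine U.toScheme := hU
  haveI : IsAffine V.toScheme := hV
  haveI : QuasiCompact (f.resLE U V e) := inferInstance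
  have hres : ∀ v : ↥V, (((f.resLE U V e) v).1 : Y) = h v := by
    intro v
    have := congrArg (fun φ : V.toScheme ⟶ Y => φ v) (Scheme.Hom.resLE_comp_ι f e)
    exact this
  have hfinfib : ∀ y : Y, (⇑h ⁻¹' {y}).Finite := by
    intro y
    by_cases hy : y ∈ U
    · apply (Scheme.Hom.finite_preimage_singleton (f.resLE U V e) ⟨y, hy⟩).subset
      intro v hv
      apply Subtype.ext
      rw [hres v]
      exact hv
    · convert Set.finite_empty
      ext v
      simp only [Set.mem_preimage, Set.mem_singleton_iff, Set.mem_empty_iff_false, iff_false]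
      intro hv
      apply hy
      rw [← hv, ← hres v]
      exact ((f.resLE U V e) v).2
  obtain ⟨O, hO, hxO, hfinO⟩ := Groth.Agent.S4651.result h hY' hgen hfinfib ⟨x, hxV⟩
  have hemb : Topology.IsOpenEmbedding (Subtype.val : ↥V → X) := V.2.isOpenEmbedding_subtypeVal
  refine ⟨Subtype.val '' O, (hemb.isOpenMap O hO).mem_nhds ⟨⟨x, hxV⟩, hxO, rfl⟩, ?_⟩
  apply Set.Finite.of_finite_image
    (f := fun i : ↥(irreducibleComponents ↥X) => (Subtype.val ⁻¹' (i : Set ↥X) : Set ↥V))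
  · apply hfinO.subset
    rintro _ ⟨i, hi, rfl⟩
    obtain ⟨_, hiT, ⟨o, ho, rfl⟩⟩ := hi
    exact ⟨preimage_mem_irreducibleComponents i.2 hemb ⟨o.1, hiT, ⟨o, rfl⟩⟩, ⟨o, hiT, ho⟩⟩
  · intro i hi j hj hij
    have key : ∀ T : ↥(irreducibleComponents ↥X), ((T : Set ↥X) ∩ Subtype.val '' O).Nonempty →
        (T : Set ↥X) = closure ((T : Set ↥X) ∩ (V : Set X)) := by
      intro T hT
      have hne : ((T : Set ↥X) ∩ (V : Set X)).Nonempty := by
        obtain ⟨_, hT1, ⟨o, -, rfl⟩⟩ := hT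
        exact ⟨o.1, hT1, o.2⟩
      apply Set.Subset.antisymm
      · exact subset_closure_inter_of_isPreirreducible_of_isOpen T.2.1.2 V.2 hne
      · exact closure_minimal Set.inter_subset_left
          (isClosed_of_mem_irreducibleComponents _ T.2)
    have h1 : (i : Set ↥X) ∩ (V : Set X) = (j : Set ↥X) ∩ (V : Set X) := by
      ext a
      constructor
      · rintro ⟨ha1, ha2⟩
        have : (⟨a, ha2⟩ : ↥V) ∈ (Subtype.val ⁻¹' (j : Set ↥X) : Set ↥V) := by
          have h3 : (⟨a, ha2⟩ : ↥V) ∈ (Subtype.val ⁻¹' (i : Set ↥X) : Set ↥V) := ha1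
          have hij' : (Subtype.val ⁻¹' (i : Set ↥X) : Set ↥V) = Subtype.val ⁻¹' (j : Set ↥X) := hij
          rw [hij'] at h3
          exact h3
        exact ⟨this, ha2⟩
      · rintro ⟨ha1, ha2⟩
        have : (⟨a, ha2⟩ : ↥V) ∈ (Subtype.val ⁻¹' (i : Set ↥X) : Set ↥V) := by
          have h3 : (⟨a, ha2⟩ : ↥V) ∈ (Subtype.val ⁻¹' (j : Set ↥X) : Set ↥V) := ha1
          have hij' : (Subtype.val ⁻¹' (i : Set ↥X) : Set ↥V) = Subtype.val ⁻¹' (j : Set ↥X) := hij
          rw [← hij'] at h3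
          exact h3
        exact ⟨this, ha2⟩
    apply Subtype.ext
    rw [key i hi, key j hj, h1]

end Groth.Agent.S5049
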