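import Groth.Statements.S5056
import Groth.Agent.Lib.GeomIntegralFF_helper3
import Groth.Agent.Lib.FracBridge_helper3
import Groth.Agent.Lib.GeomNormal2_helper3
-- import your own Groth.Agent.* helpers here

set_option autoImplicit false
universe u
open Hensel
open scoped TensorProduct

namespace Groth.Agent.S5056

/-- Let A be a Noetherian henselian local domain whose formal fibres are geometrically normal, Â its
completion (an integral domain), K and L fraction fields of A and Â with L a K-algebra compatibly.
Then L is geometrically reduced over K (a separable extension) and every element of L algebraic over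
K lies in K. -/
theorem result (A : Type u) [CommRing A] [IsNoetherianRing A]
    [HenselianLocalRing A] [IsDomain A] (h : EGA4.HasGeomNormalFormalFibres A) [IsDomain (EGA4.Cpl A)]
    (K L : Type u) [Field K] [Field L] [Algebra A K] [IsFractionRing A K]
    [Algebra (EGA4.Cpl A) L] [IsFractionRing (EGA4.Cpl A) L] [Algebra K L] [Algebra A L]
    [IsScalarTower A K L] [IsScalarTower A (EGA4.Cpl A) L] :
    Algebra.IsGeometricallyReduced K L ∧ ∀ x : L, IsAlgebraic K x → x ∈ Set.range (algebraMap K L) := by
  obtain ⟨hloc, hnoeth, hcompl, hff, hlh, hmap⟩ := Groth.Agent.Lib.AnUnramH3.completion_facts A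
  haveI := hnoeth
  haveI := hff
  haveI hflat : Module.Flat A (EGA4.Cpl A) := inferInstance
  constructor
  · have hn : EGA4.IsNormalRing (TensorProduct A (AlgebraicClosure K) (EGA4.Cpl A)) :=
      Groth.Agent.Lib.GeomNormal2H3.isNormalRing_tensor_of_isNormalHom' A (EGA4.Cpl A) ⟨hflat, h⟩
        (AlgebraicClosure K)
    have hr : IsReduced (TensorProduct A (AlgebraicClosure K) (EGA4.Cpl A)) :=
      Groth.Agent.Lib.NormalComplDomainH3.isReduced_of_isNormalRing _ hn
    exact (Algebra.isGeometricallyReduced_field_iff K L).mpr
      (Groth.Agent.Lib.FracBridgeH3.isReduced_tensor A K (EGA4.Cpl A) L (AlgebraicClosure K) hr)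
  · intro x hx
    have hxi : IsIntegral K x := hx.isIntegral
    haveI : FiniteDimensional K (IntermediateField.adjoin K {x}) :=
      IntermediateField.adjoin.finiteDimensional hxi
    have hdomE : IsDomain (TensorProduct A (IntermediateField.adjoin K {x}) (EGA4.Cpl A)) :=
      Groth.Agent.Lib.GeomIntegralFFH3.isDomain_tensor_of_finite A h K
        (IntermediateField.adjoin K {x})
    have hdom2 : IsDomain (TensorProduct K (IntermediateField.adjoin K {x}) L) :=
      Groth.Agent.Lib.FracBridgeH3.isDomain_tensor A K (EGA4.Cpl A) L
        (IntermediateField.adjoin K {x}) hdomE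
    exact Groth.Agent.Lib.FracBridgeH3.mem_range_of_isDomain_tensor K L x hxi hdom2

end Groth.Agent.S5056
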