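import Groth.Statements.S5066
import Mathlib
import Groth.Agent.Lib.HensFinLift_lead
import Groth.Agent.S0502

set_option autoImplicit false
universe u
open Hensel

namespace Groth.Agent.S5066

/-- Case of a local ring, affine étale schemes: a local ring A with maximal ideal m is henselian if and
only if, for every finite A-algebra C and every étale A-algebra E, composing with the projection C →
C/mC is a bijection from the set of A-algebra homomorphisms E → C onto the set of A-algebra
homomorphisms E → C/mC. -/
theorem result (A : Type u) [CommRing A] [IsLocalRing A] :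
    HenselianLocalRing A ↔
      ∀ (C : Type u) [CommRing C] [Algebra A C] [Module.Finite A C] (E : Type u) [CommRing E] [Algebra A E] [Algebra.Etale A E],
        Function.Bijective (fun φ : E →ₐ[A] C =>
          (Ideal.Quotient.mkₐ A (Ideal.map (algebraMap A C) (IsLocalRing.maximalIdeal A))).comp φ) := by
  constructor
  · intro hA C _ _ _ E _ _ _
    haveI := hA
    refine ⟨fun φ φ' h => ?_, fun σ => ?_⟩
    · exact Groth.Agent.Lib.HensFinLift.comp_mk_injective C E φ φ' h
    · exact Groth.Agent.Lib.HensFinLift.exists_lift_finite C E σ
  · intro h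
    apply Groth.Agent.S0502.result A
    intro S _ _ _ q _ hq hsurj
    haveI := hq
    have hmap : Ideal.map (algebraMap A A) (IsLocalRing.maximalIdeal A) =
        IsLocalRing.maximalIdeal A := Ideal.map_id _
    have hkill : ∀ r ∈ Ideal.map (algebraMap A A) (IsLocalRing.maximalIdeal A),
        algebraMap A q.ResidueField r = 0 := by
      intro r hr
      rw [hmap] at hr
      rw [IsScalarTower.algebraMap_apply A S q.ResidueField,
        Ideal.algebraMap_residueField_eq_zero]
      have : r ∈ q.under A := by rw [← hq.over]; exact hr
      exact this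
    let ε₀ : (A ⧸ Ideal.map (algebraMap A A) (IsLocalRing.maximalIdeal A)) →+* q.ResidueField :=
      Ideal.Quotient.lift _ (algebraMap A q.ResidueField) hkill
    have hε₀surj : Function.Surjective ε₀ := by
      intro y
      obtain ⟨r, rfl⟩ := hsurj y
      exact ⟨Ideal.Quotient.mk _ r, rfl⟩
    have hε₀inj : Function.Injective ε₀ := by
      rw [injective_iff_map_eq_zero]
      intro x hx
      obtain ⟨r, rfl⟩ := Ideal.Quotient.mk_surjective x
      have hr0 : algebraMap A q.ResidueField r = 0 := hx
      rw [Ideal.Quotient.eq_zero_iff_mem, hmap]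
      refine (IsLocalRing.mem_maximalIdeal _).mpr (fun hu => ?_)
      have := hu.map (algebraMap A q.ResidueField)
      rw [hr0] at this
      exact not_isUnit_zero this
    let ε : (A ⧸ Ideal.map (algebraMap A A) (IsLocalRing.maximalIdeal A)) ≃+* q.ResidueField :=
      RingEquiv.ofBijective ε₀ ⟨hε₀inj, hε₀surj⟩
    let σ : S →ₐ[A] A ⧸ Ideal.map (algebraMap A A) (IsLocalRing.maximalIdeal A) :=
      { toRingHom := ε.symm.toRingHom.comp (algebraMap S q.ResidueField)
        commutes' := fun r => by
          show ε.symm (algebraMap S q.ResidueField (algebraMap A S r)) = _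
          rw [RingEquiv.symm_apply_eq, ← IsScalarTower.algebraMap_apply]
          rfl }
    obtain ⟨φ, -⟩ := (h A S).2 σ
    exact ⟨φ⟩

end Groth.Agent.S5066
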