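import Groth.Statements.S5067
import Mathlib
import Groth.Agent.Lib.FlatBirat_helper7
import Groth.Agent.Lib.NormalizationBirat2_helper7

set_option autoImplicit false
open CategoryTheory AlgebraicGeometry
universe u
open Unram

namespace Groth.Agent.S5067

/-- Let f : X ⟶ Y be an étale separated morphism of integral schemes which maps the generic point of X
to the generic point of Y and induces a bijection between the residue fields of the generic points
(f is birational). Then f is an open immersion. -/
theorem result {X Y : Scheme.{u}} [IsIntegral X] [IsIntegral Y]
    (f : X ⟶ Y) [Etale f] [IsSeparated f] (hgen : f.base (genericPoint X) = genericPoint Y)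
    (hbir : Function.Bijective (f.residueFieldMap (genericPoint X)).hom) : IsOpenImmersion f := by
  have hF : ∀ z : Y, z = genericPoint Y → IsField (Y.presheaf.stalk z) := by
    rintro z rfl; exact Field.toIsField Y.functionField
  have hiso : IsIso (f.stalkMap (genericPoint X)) :=
    Groth.Agent.Lib.NormalizationBirat2H7.isIso_stalkMap_of_residueFieldMap_bijective f _
      (Field.toIsField X.functionField) (hF _ hgen) hbir
  haveI : Flat f := inferInstance
  haveI : LocallyOfFiniteType f := inferInstance
  exact Groth.Agent.Lib.FlatBiratH7.isOpenImmersion_of_flat_of_birational f hgen hiso

end Groth.Agent.S5067
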