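import Groth.Statements.S5069
import Mathlib.Tactic
import Mathlib.RingTheory.HopkinsLevitzki
import Mathlib.RingTheory.KrullDimension.Zero

set_option autoImplicit false
universe u v
open Hensel

namespace Groth.Agent.S5069

/-- First assertion, phrased for the images of the inductive system: let B be a Noetherian commutative
ring and (C_i) a family of Artinian subrings of B, directed under inclusion, whose union is B. Then
B is an Artinian ring. -/
theorem result (B : Type u) [CommRing B] [IsNoetherianRing B]
    {ι : Type v} [Nonempty ι] (C : ι → Subring B) (hdir : Directed (fun a b => a ≤ b) C)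
    (hart : ∀ i, IsArtinianRing ↥(C i)) (hcov : ∀ b : B, ∃ i, b ∈ C i) : IsArtinianRing B := by
  rw [isArtinianRing_iff_krullDimLE_zero, Ring.krullDimLE_zero_iff]
  intro p hp
  rw [Ideal.isMaximal_iff]
  refine ⟨fun h1 => hp.ne_top ((Ideal.eq_top_iff_one p).mpr h1), ?_⟩
  intro J x hpJ hxp hxJ
  obtain ⟨i, hi⟩ := hcov x
  haveI := hart i
  -- the contraction of p to C i is prime hence maximal
  let pi : Ideal ↥(C i) := Ideal.comap (C i).subtype p
  haveI : pi.IsPrime := Ideal.comap_isPrime _ _
  haveI : pi.IsMaximal := IsArtinianRing.isMaximal_of_isPrime pi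
  have hx' : (⟨x, hi⟩ : ↥(C i)) ∉ pi := fun h => hxp h
  obtain ⟨y, hy⟩ := Ideal.IsMaximal.exists_inv (I := pi) inferInstance hx'
  obtain ⟨z, hz, hyz⟩ := hy
  -- y * x + z = 1 with z ∈ pi
  have h1 : (1 : B) = (y : B) * x + (z : B) := by
    have := congrArg (C i).subtype hyz
    simpa using this.symm
  rw [h1]
  exact J.add_mem (J.mul_mem_left _ hxJ) (hpJ hz)

end Groth.Agent.S5069
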