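import Groth.Statements.S5078
import Mathlib
import Groth.Agent.Lib.AdicRetract_helper9

set_option autoImplicit false
universe u v
open Hensel

namespace Groth.Agent.S5078

/-- Let A be a ring, I an ideal such that A is I-adically separated and complete, and M a finitely
generated projective A-module. Then M is I-adically separated and complete. -/
theorem result {A : Type u} [CommRing A] (I : Ideal A) [IsAdicComplete I A]
    (M : Type v) [AddCommGroup M] [Module A M] [Module.Finite A M] [Module.Projective A M] :
    IsAdicComplete I M := by
  exact Groth.Agent.Lib.AdicRetract.isAdicComplete_of_finite_projective I M

end Groth.Agent.S5078
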