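import Groth.Statements.S5081
import Mathlib

set_option autoImplicit false
universe u
open Unram

namespace Groth.Agent.S5081

/-- Let B be a finite A-algebra generated by a single element u and F a polynomial with coefficients in
A such that F(u) = 0. Then the ideal generated by F'(u) is contained in the annihilator of the
module of differentials of B over A, and equals it when the kernel of the surjection A[T] → B
sending T to u is generated by F. -/
theorem result (A B : Type u) [CommRing A] [CommRing B] [Algebra A B]
    [Module.Finite A B] (u : B) (hu : Algebra.adjoin A ({u} : Set B) = ⊤) (F : Polynomial A) (hF : Polynomial.aeval u F = 0) :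
    Ideal.span {Polynomial.aeval u (Polynomial.derivative F)} ≤ Module.annihilator B (KaehlerDifferential A B) ∧
      (RingHom.ker (Polynomial.aeval u : Polynomial A →ₐ[A] B) = Ideal.span {F} →
        Module.annihilator B (KaehlerDifferential A B) = Ideal.span {Polynomial.aeval u (Polynomial.derivative F)}) := by
  classical
  have hsurj : Function.Surjective (Polynomial.aeval u : Polynomial A →ₐ[A] B) := by
    intro b
    have hb : b ∈ Algebra.adjoin A ({u} : Set B) := by rw [hu]; trivial
    rw [Algebra.adjoin_singleton_eq_range_aeval] at hb
    exact hb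
  have h1 : Ideal.span {Polynomial.aeval u (Polynomial.derivative F)} ≤
      Module.annihilator B (KaehlerDifferential A B) := by
    rw [Ideal.span_le, Set.singleton_subset_iff, SetLike.mem_coe, Module.mem_annihilator]
    intro ω
    have hω : ω ∈ Submodule.span B (Set.range (KaehlerDifferential.D A B)) := by
      rw [KaehlerDifferential.span_range_derivation]; trivial
    induction hω using Submodule.span_induction with
    | mem x hx =>
      obtain ⟨b, rfl⟩ := hx
      obtain ⟨G, rfl⟩ := hsurj b
      rw [Derivation.map_aeval, smul_smul, mul_comm, ← smul_smul, ← Derivation.map_aeval, hF,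
        map_zero, smul_zero]
    | zero => simp
    | add x y _ _ hx hy => rw [smul_add, hx, hy, add_zero]
    | smul a x _ hx => rw [smul_comm, hx, smul_zero]
  refine ⟨h1, fun hker => le_antisymm ?_ h1⟩
  intro b hb
  set J : Ideal B := Ideal.span {Polynomial.aeval u (Polynomial.derivative F)} with hJ
  -- the linear map A[X] → B ⧸ J
  let L : Polynomial A →ₗ[A] (B ⧸ J) :=
    ((Submodule.mkQ J).restrictScalars A).comp
      ((Polynomial.aeval u : Polynomial A →ₐ[A] B).toLinearMap.comp Polynomial.derivative)
  have hL : ∀ G, L G = Ideal.Quotient.mk J (Polynomial.aeval u (Polynomial.derivative G)) :=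
    fun G => rfl
  have hLker : LinearMap.ker (Polynomial.aeval u : Polynomial A →ₐ[A] B).toLinearMap ≤
      LinearMap.ker L := by
    intro G hG
    have hG' : G ∈ RingHom.ker (Polynomial.aeval u : Polynomial A →ₐ[A] B) := by
      simpa using hG
    rw [hker, Ideal.mem_span_singleton] at hG'
    obtain ⟨H, rfl⟩ := hG'
    rw [LinearMap.mem_ker, hL, Polynomial.derivative_mul, map_add, map_mul, map_mul, hF,
      zero_mul, add_zero, Ideal.Quotient.eq_zero_iff_mem, hJ, Ideal.mem_span_singleton]
    exact ⟨_, rfl⟩
  let e := LinearMap.quotKerEquivOfSurjective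
    (Polynomial.aeval u : Polynomial A →ₐ[A] B).toLinearMap hsurj
  let l : B →ₗ[A] (B ⧸ J) := (Submodule.liftQ _ L hLker).comp e.symm.toLinearMap
  have hl : ∀ G, l (Polynomial.aeval u G) = L G := by
    intro G
    have : e.symm (Polynomial.aeval u G) = Submodule.Quotient.mk G :=
      LinearMap.quotKerEquivOfSurjective_symm_apply
        (f := (Polynomial.aeval u : Polynomial A →ₐ[A] B).toLinearMap) hsurj G
    simp only [l, LinearMap.comp_apply, LinearEquiv.coe_coe]
    rw [this]
    rfl
  let d : Derivation A B (B ⧸ J) := Derivation.mk' l (by
    intro x y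
    obtain ⟨G, rfl⟩ := hsurj x
    obtain ⟨H, rfl⟩ := hsurj y
    rw [← map_mul, hl, hl, hl, hL, hL, hL, Polynomial.derivative_mul, map_add, map_mul, map_mul,
      map_add, map_mul, map_mul]
    simp only [Algebra.smul_def, Ideal.Quotient.algebraMap_eq]
    ring)
  have hdu : d u = Ideal.Quotient.mk J 1 := by
    have : d u = l (Polynomial.aeval u (Polynomial.X : Polynomial A)) := by
      rw [Polynomial.aeval_X]; rfl
    rw [this, hl, hL, Polynomial.derivative_X, map_one]
  have h0 : b • KaehlerDifferential.D A B u = 0 := Module.mem_annihilator.mp hb _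
  have := congrArg d.liftKaehlerDifferential h0
  rw [map_smul, Derivation.liftKaehlerDifferential_comp_D, hdu, map_zero, Algebra.smul_def,
    Ideal.Quotient.algebraMap_eq, ← map_mul, mul_one, Ideal.Quotient.eq_zero_iff_mem] at this
  exact this

end Groth.Agent.S5081
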