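import Groth.Statements.S5085
import Groth.Agent.Lib.Mero_helper4

set_option autoImplicit false
universe u
open CategoryTheory CategoryTheory.Limits AlgebraicGeometry TopologicalSpace
open Mero

namespace Groth.Agent.S5085

/-- Let X be a scheme, U an open subset and V an open subset of U which is schematically dense in U (for
every open W ⊆ U, restriction of functions from W to W ∩ V is injective). Then restriction of
sections of the sheaf of meromorphic functions K_X from U to V is injective: the canonical map from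
meromorphic functions to pseudo-functions is injective. -/
theorem result (X : Scheme.{u}) (U V : X.Opens) (hVU : V ≤ U)
    (hV : ∀ W : X.Opens, W ≤ U →
      Function.Injective ⇑(X.presheaf.map (homOfLE (inf_le_left : W ⊓ V ≤ W)).op)) :
    Function.Injective ⇑((Mero.kmod X).presheaf.map (homOfLE hVU).op) := by
  intro s t hst
  apply Subtype.ext
  funext x
  obtain ⟨x, hxU⟩ := x
  obtain ⟨V1, hx1, i1, a1, b1, h1⟩ := s.2 ⟨x, hxU⟩
  obtain ⟨V2, hx2, i2, a2, b2, h2⟩ := t.2 ⟨x, hxU⟩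
  have hWU : V1 ⊓ V2 ≤ U := inf_le_left.trans i1.le
  have hc : X.presheaf.map (homOfLE (inf_le_left : V1 ⊓ V2 ≤ V1)).op a1 *
        X.presheaf.map (homOfLE (inf_le_right : V1 ⊓ V2 ≤ V2)).op b2.1 =
      X.presheaf.map (homOfLE (inf_le_right : V1 ⊓ V2 ≤ V2)).op a2 *
        X.presheaf.map (homOfLE (inf_le_left : V1 ⊓ V2 ≤ V1)).op b1.1 := by
    apply hV (V1 ⊓ V2) hWU
    apply TopCat.Presheaf.section_ext X.sheaf ((V1 ⊓ V2) ⊓ V)
    intro y hy
    have hyW : y ∈ V1 ⊓ V2 := (Opens.mem_inf.mp hy).1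
    have hyV : y ∈ V := (Opens.mem_inf.mp hy).2
    have hy1 : y ∈ V1 := (Opens.mem_inf.mp hyW).1
    have hy2 : y ∈ V2 := (Opens.mem_inf.mp hyW).2
    have hs1 : s.1 ⟨y, hVU hyV⟩ = LocalizedModule.mk (X.presheaf.germ V1 y hy1 a1)
        (Mero.regGerm ⟨y, hy1⟩ b1) := h1 ⟨y, hy1⟩
    have ht1 : t.1 ⟨y, hVU hyV⟩ = LocalizedModule.mk (X.presheaf.germ V2 y hy2 a2)
        (Mero.regGerm ⟨y, hy2⟩ b2) := h2 ⟨y, hy2⟩
    have hst1 : s.1 ⟨y, hVU hyV⟩ = t.1 ⟨y, hVU hyV⟩ :=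
      congrArg (fun g : Γ(Mero.kmod X, V) => g.1 ⟨y, hyV⟩) hst
    rw [hs1, ht1, Groth.Agent.Lib.Mero_helper4.mk_eq_mk_iff] at hst1
    refine (TopCat.Presheaf.germ_res_apply X.presheaf (homOfLE inf_le_left) y hy _).trans ?_
    refine Eq.trans ?_ (TopCat.Presheaf.germ_res_apply X.presheaf (homOfLE inf_le_left) y hy _).symm
    rw [map_mul, map_mul, TopCat.Presheaf.germ_res_apply, TopCat.Presheaf.germ_res_apply,
      TopCat.Presheaf.germ_res_apply, TopCat.Presheaf.germ_res_apply]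
    exact hst1
  have hs1 : s.1 ⟨x, hxU⟩ = LocalizedModule.mk (X.presheaf.germ V1 x hx1 a1)
      (Mero.regGerm ⟨x, hx1⟩ b1) := h1 ⟨x, hx1⟩
  have ht1 : t.1 ⟨x, hxU⟩ = LocalizedModule.mk (X.presheaf.germ V2 x hx2 a2)
      (Mero.regGerm ⟨x, hx2⟩ b2) := h2 ⟨x, hx2⟩
  show s.1 ⟨x, hxU⟩ = t.1 ⟨x, hxU⟩
  rw [hs1, ht1, Groth.Agent.Lib.Mero_helper4.mk_eq_mk_iff]
  have hxW : x ∈ V1 ⊓ V2 := Opens.mem_inf.mpr ⟨hx1, hx2⟩
  have hfin : X.presheaf.germ (V1 ⊓ V2) x hxW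
      (X.presheaf.map (homOfLE (inf_le_left : V1 ⊓ V2 ≤ V1)).op a1 *
        X.presheaf.map (homOfLE (inf_le_right : V1 ⊓ V2 ≤ V2)).op b2.1) =
      X.presheaf.germ (V1 ⊓ V2) x hxW
      (X.presheaf.map (homOfLE (inf_le_right : V1 ⊓ V2 ≤ V2)).op a2 *
        X.presheaf.map (homOfLE (inf_le_left : V1 ⊓ V2 ≤ V1)).op b1.1) := by rw [hc]
  rw [map_mul, map_mul, TopCat.Presheaf.germ_res_apply, TopCat.Presheaf.germ_res_apply,
    TopCat.Presheaf.germ_res_apply, TopCat.Presheaf.germ_res_apply] at hfin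
  exact hfin

end Groth.Agent.S5085
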