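import Groth.Statements.S5092
import Mathlib
import Groth.Agent.Lib.SchDense_helper5
import Groth.Agent.Lib.Hartogs_helper5

set_option autoImplicit false
universe u
open CategoryTheory CategoryTheory.Limits AlgebraicGeometry TopologicalSpace
open Mero

namespace Groth.Agent.S5092

theorem exists_ass_of_not_nzd (A : Type u) [CommRing A] [IsNoetherianRing A] (p : Ideal A)
    [p.IsPrime] (B : Type u) [CommRing B] [Algebra A B] [IsLocalization.AtPrime B p] (a : A)
    (h : algebraMap A B a ∉ nonZeroDivisors B) :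
    ∃ Q ∈ associatedPrimes A A, Q ≤ p ∧ a ∈ Q := by
  rw [mem_nonZeroDivisors_iff_left] at h
  push Not at h
  obtain ⟨c, hc0, hcne⟩ := h
  obtain ⟨b, t, rfl⟩ := IsLocalization.exists_mk'_eq p.primeCompl c
  rw [IsLocalization.mul_mk'_eq_mk'_of_mul, IsLocalization.mk'_eq_zero_iff] at hc0
  obtain ⟨u, hu⟩ := hc0
  have hann : (Submodule.span A {(u : A) * b}).annihilator ≤ p := by
    intro r hr
    rw [Submodule.annihilator_span_singleton, LinearMap.mem_ker,
      LinearMap.toSpanSingleton_apply] at hr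
    by_contra hrp
    apply hcne
    rw [IsLocalization.mk'_eq_zero_iff]
    refine ⟨⟨r * u, p.primeCompl.mul_mem hrp u.2⟩, ?_⟩
    show r * u * b = 0
    rw [mul_assoc]
    exact hr
  obtain ⟨Q, hQmin, hQp⟩ := Ideal.exists_minimalPrimes_le hann
  have hQass : Q ∈ associatedPrimes A ↥(Submodule.span A {(u : A) * b}) :=
    Module.associatedPrimes.minimalPrimes_annihilator_subset_associatedPrimes A _ hQmin
  refine ⟨Q, associatedPrimes.subset_of_injective
    (f := (Submodule.span A {(u : A) * b}).subtype) Subtype.val_injective hQass, hQp, ?_⟩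
  apply hQmin.1.2
  rw [Submodule.annihilator_span_singleton, LinearMap.mem_ker, LinearMap.toSpanSingleton_apply]
  show a * (u * b) = 0
  rw [← hu]
  ring

/-- Suppose X and Y are schemes, both locally Noetherian, and f : X → Y is a morphism carrying each
associated point of O_X (that is, a point whose local ring has its maximal ideal among its
associated primes) to an associated point of O_Y. Then, given any open subset U of Y and any regular
function s on U (one whose germ at each point of U is a non-zero-divisor), the function on f⁻¹(U)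
obtained by pulling s back along f is again regular; as a result, every meromorphic function and
every divisor on Y admits a well-defined pullback along f. -/
theorem result {X Y : Scheme.{u}} [IsLocallyNoetherian X] [IsLocallyNoetherian Y]
    (f : X ⟶ Y)
    (hf : ∀ x : ↥X, IsAssociatedPrime (IsLocalRing.maximalIdeal ↑(X.presheaf.stalk x)) ↑(X.presheaf.stalk x) →
      IsAssociatedPrime (IsLocalRing.maximalIdeal ↑(Y.presheaf.stalk (f x))) ↑(Y.presheaf.stalk (f x))) :
    ∀ (U : Y.Opens) (s : Γ(Y, U)), s ∈ Mero.regSub Y U → f.app U s ∈ Mero.regSub X (f ⁻¹ᵁ U) := by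
  intro U s hs x
  obtain ⟨_, ⟨W, hW : IsAffineOpen W, rfl⟩, hxW, hWsub⟩ :=
    (X.isBasis_affineOpens).exists_subset_of_mem_open x.2 (f ⁻¹ᵁ U).2
  have hWU : W ≤ f ⁻¹ᵁ U := hWsub
  have hxW' : x.1 ∈ W := hxW
  have hgerm : X.presheaf.germ (f ⁻¹ᵁ U) x.1 x.2 (f.app U s) =
      X.presheaf.germ W x.1 hxW' (X.presheaf.map (homOfLE hWU).op (f.app U s)) :=
    (TopCat.Presheaf.germ_res_apply X.presheaf (homOfLE hWU) x.1 hxW' _).symm
  show X.presheaf.germ (f ⁻¹ᵁ U) x.1 x.2 (f.app U s) ∈ nonZeroDivisors (X.presheaf.stalk x.1)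
  rw [hgerm]
  letI := TopCat.Presheaf.algebra_section_stalk X.presheaf (⟨x.1, hxW'⟩ : W)
  haveI : IsLocalization.AtPrime (X.presheaf.stalk x.1) (hW.primeIdealOf ⟨x.1, hxW'⟩).asIdeal :=
    hW.isLocalization_stalk ⟨x.1, hxW'⟩
  haveI : IsNoetherianRing Γ(X, W) := IsLocallyNoetherian.component_noetherian ⟨W, hW⟩
  by_contra hnot
  obtain ⟨Q, hQass, hQp, haQ⟩ := exists_ass_of_not_nzd Γ(X, W)
    (hW.primeIdealOf ⟨x.1, hxW'⟩).asIdeal (X.presheaf.stalk x.1)
    (X.presheaf.map (homOfLE hWU).op (f.app U s)) hnot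
  haveI : Q.IsPrime := hQass.isPrime
  obtain ⟨x', hx'W, rfl⟩ := Groth.Agent.Hartogs.exists_point hW Q
  have hass := (Groth.Agent.SchDense.isAss_stalk_iff hW hx'W).mpr hQass
  have hassY := hf x' hass
  have hx'U : f x' ∈ U := hWU hx'W
  -- the germ of the pulled back function at x' is in the maximal ideal
  have h1 : X.presheaf.germ (f ⁻¹ᵁ U) x' hx'U (f.app U s) ∈
      IsLocalRing.maximalIdeal (X.presheaf.stalk x') := by
    rw [hW.primeIdealOf_eq_map_closedPoint] at haQ
    have h2 : X.presheaf.germ W x' hx'W (X.presheaf.map (homOfLE hWU).op (f.app U s)) ∈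
        IsLocalRing.maximalIdeal (X.presheaf.stalk x') := haQ
    rwa [TopCat.Presheaf.germ_res_apply] at h2
  have h3 : Y.presheaf.germ U (f x') hx'U s ∈
      IsLocalRing.maximalIdeal (Y.presheaf.stalk (f x')) := by
    rw [IsLocalRing.mem_maximalIdeal, mem_nonunits_iff]
    intro hu
    have h4 := hu.map (f.stalkMap x').hom
    have h5 : (f.stalkMap x').hom (Y.presheaf.germ U (f x') hx'U s) =
        X.presheaf.germ (f ⁻¹ᵁ U) x' hx'U (f.app U s) :=
      Scheme.Hom.germ_stalkMap_apply f U x' hx'U s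
    rw [h5] at h4
    exact ((IsLocalRing.mem_maximalIdeal _).mp h1) h4
  obtain ⟨-, e, he⟩ := isAssociatedPrime_iff.1 hassY
  have hene : e ≠ 0 := by
    rintro rfl
    apply (IsLocalRing.maximalIdeal.isMaximal (Y.presheaf.stalk (f x'))).ne_top
    rw [he]
    ext r
    simp [Submodule.mem_colon_singleton]
  rw [he, Submodule.mem_colon_singleton, Submodule.mem_bot, smul_eq_mul] at h3
  exact hene ((mem_nonZeroDivisors_iff_left.mp (hs ⟨f x', hx'U⟩)) e h3)

end Groth.Agent.S5092
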