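import Groth.Statements.S5093
import Mathlib
import Groth.Agent.Lib.Hartogs_helper5
import Groth.Agent.Lib.FLF1_helper8
import Groth.Agent.Lib.StalkLoc_helper8

set_option autoImplicit false
universe u
open CategoryTheory CategoryTheory.Limits AlgebraicGeometry TopologicalSpace
open Mero

namespace Groth.Agent.S5093

theorem exists_minimal_of_not_nzd (A : Type u) [CommRing A] (p : Ideal A) [p.IsPrime]
    (B : Type u) [CommRing B] [Algebra A B] [IsLocalization.AtPrime B p] [IsReduced B] (a : A)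
    (h : algebraMap A B a ∉ nonZeroDivisors B) :
    ∃ Q ∈ (⊥ : Ideal A).minimalPrimes, Q ≤ p ∧ a ∈ Q := by
  rw [mem_nonZeroDivisors_iff_left] at h
  push Not at h
  obtain ⟨c, hc0, hcne⟩ := h
  have hrad : sInf (⊥ : Ideal B).minimalPrimes = ⊥ := by
    rw [Ideal.sInf_minimalPrimes]
    exact nilradical_eq_zero B
  have hex : ∃ Q' ∈ (⊥ : Ideal B).minimalPrimes, c ∉ Q' := by
    by_contra hall
    push Not at hall
    apply hcne
    have h1 : c ∈ sInf (⊥ : Ideal B).minimalPrimes := Submodule.mem_sInf.mpr hall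
    rwa [hrad, Ideal.mem_bot] at h1
  obtain ⟨Q', hQ'min, hcQ'⟩ := hex
  have hQ'prime : Q'.IsPrime := hQ'min.isPrime
  have haQ' : algebraMap A B a ∈ Q' :=
    (hQ'prime.mem_or_mem (by rw [hc0]; exact Q'.zero_mem)).resolve_right hcQ'
  refine ⟨Q'.under A, ?_, ?_, haQ'⟩
  · have h1 := IsLocalization.minimalPrimes_map p.primeCompl B (⊥ : Ideal A)
    rw [Ideal.map_bot] at h1
    rw [h1] at hQ'min
    exact hQ'min
  · intro r hr
    by_contra hrp
    have hu : IsUnit (algebraMap A B r) := IsLocalization.map_units B (⟨r, hrp⟩ : p.primeCompl)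
    exact hQ'prime.ne_top (Ideal.eq_top_of_isUnit_mem _ hr hu)

/-- Let f : X → Y be a morphism of schemes such that the set of irreducible components of Y is locally
finite, X is reduced, and every irreducible component of X dominates an irreducible component of Y
(f sends every maximal point of X, i.e. every point with no proper generization, to a maximal point
of Y). Then for every open subset U of Y and every regular function s on U (germ a non-zero-divisor
at every point of U), the pulled-back function on f⁻¹(U) is regular; consequently the pullback along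
f of every meromorphic function and of every divisor on Y is defined. -/
theorem result {X Y : Scheme.{u}} [IsReduced X] (f : X ⟶ Y)
    (hY : ∀ y : ↥Y, ∃ W : Y.Opens, y ∈ W ∧
      {Z : Set ↥Y | Z ∈ irreducibleComponents ↥Y ∧ (Z ∩ (W : Set ↥Y)).Nonempty}.Finite)
    (hf : ∀ ξ : ↥X, (∀ z : ↥X, z ⤳ ξ → z = ξ) → ∀ z : ↥Y, z ⤳ f ξ → z = f ξ) :
    ∀ (U : Y.Opens) (s : Γ(Y, U)), s ∈ Mero.regSub Y U → f.app U s ∈ Mero.regSub X (f ⁻¹ᵁ U) := by
  intro U s hs x
  obtain ⟨_, ⟨W, hW : IsAffineOpen W, rfl⟩, hxW, hWsub⟩ :=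
    (X.isBasis_affineOpens).exists_subset_of_mem_open x.2 (f ⁻¹ᵁ U).2
  have hWU : W ≤ f ⁻¹ᵁ U := hWsub
  have hxW' : x.1 ∈ W := hxW
  have hgerm : X.presheaf.germ (f ⁻¹ᵁ U) x.1 x.2 (f.app U s) =
      X.presheaf.germ W x.1 hxW' (X.presheaf.map (homOfLE hWU).op (f.app U s)) :=
    (TopCat.Presheaf.germ_res_apply X.presheaf (homOfLE hWU) x.1 hxW' _).symm
  show X.presheaf.germ (f ⁻¹ᵁ U) x.1 x.2 (f.app U s) ∈ nonZeroDivisors (X.presheaf.stalk x.1)
  rw [hgerm]
  letI := TopCat.Presheaf.algebra_section_stalk X.presheaf (⟨x.1, hxW'⟩ : W)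
  haveI : IsLocalization.AtPrime (X.presheaf.stalk x.1) (hW.primeIdealOf ⟨x.1, hxW'⟩).asIdeal :=
    hW.isLocalization_stalk ⟨x.1, hxW'⟩
  by_contra hnot
  obtain ⟨Q, hQmin, hQp, haQ⟩ := exists_minimal_of_not_nzd Γ(X, W)
    (hW.primeIdealOf ⟨x.1, hxW'⟩).asIdeal (X.presheaf.stalk x.1)
    (X.presheaf.map (homOfLE hWU).op (f.app U s)) hnot
  haveI : Q.IsPrime := hQmin.isPrime
  obtain ⟨ξ, hξW, rfl⟩ := Groth.Agent.Hartogs.exists_point hW Q
  have hmax : ∀ z : X, z ⤳ ξ → z = ξ := by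
    intro z hz
    have hzW : z ∈ W := hz.mem_open W.2 hξW
    have hle : (hW.primeIdealOf ⟨z, hzW⟩).asIdeal ≤ (hW.primeIdealOf ⟨ξ, hξW⟩).asIdeal := by
      intro r hr
      by_contra hrξ
      have h1 : ξ ∈ X.basicOpen r := FLFH8.mem_basicOpen_of_notMem_prime hW hξW hrξ
      have h2 : z ∈ X.basicOpen r := hz.mem_open (X.basicOpen r).2 h1
      exact (StalkLocH8.notMem_prime_of_mem_basicOpen hW hzW h2) hr
    have hge := hQmin.2 ⟨(hW.primeIdealOf ⟨z, hzW⟩).isPrime, bot_le⟩ hle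
    have heq : hW.primeIdealOf ⟨z, hzW⟩ = hW.primeIdealOf ⟨ξ, hξW⟩ :=
      PrimeSpectrum.ext (le_antisymm hle hge)
    have h3 := congrArg (fun P => hW.fromSpec P) heq
    simp only [hW.fromSpec_primeIdealOf] at h3
    exact h3
  have hmaxY := hf ξ hmax
  have hξU : f ξ ∈ U := hWU hξW
  have h1 : X.presheaf.germ (f ⁻¹ᵁ U) ξ hξU (f.app U s) ∈
      IsLocalRing.maximalIdeal (X.presheaf.stalk ξ) := by
    rw [hW.primeIdealOf_eq_map_closedPoint] at haQ
    have h2 : X.presheaf.germ W ξ hξW (X.presheaf.map (homOfLE hWU).op (f.app U s)) ∈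
        IsLocalRing.maximalIdeal (X.presheaf.stalk ξ) := haQ
    rwa [TopCat.Presheaf.germ_res_apply] at h2
  have h3 : Y.presheaf.germ U (f ξ) hξU s ∈
      IsLocalRing.maximalIdeal (Y.presheaf.stalk (f ξ)) := by
    rw [IsLocalRing.mem_maximalIdeal, mem_nonunits_iff]
    intro hu
    have h4 := hu.map (f.stalkMap ξ).hom
    have h5 : (f.stalkMap ξ).hom (Y.presheaf.germ U (f ξ) hξU s) =
        X.presheaf.germ (f ⁻¹ᵁ U) ξ hξU (f.app U s) :=
      Scheme.Hom.germ_stalkMap_apply f U ξ hξU s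
    rw [h5] at h4
    exact ((IsLocalRing.mem_maximalIdeal _).mp h1) h4
  -- the local ring of `Y` at the maximal point `f ξ` has nilpotent maximal ideal
  obtain ⟨_, ⟨V, hV : IsAffineOpen V, rfl⟩, hηV, -⟩ :=
    (Y.isBasis_affineOpens).exists_subset_of_mem_open (Set.mem_univ (f ξ)) isOpen_univ
  have hηV' : f ξ ∈ V := hηV
  letI := TopCat.Presheaf.algebra_section_stalk Y.presheaf (⟨f ξ, hηV'⟩ : V)
  haveI : IsLocalization.AtPrime (Y.presheaf.stalk (f ξ)) (hV.primeIdealOf ⟨f ξ, hηV'⟩).asIdeal :=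
    hV.isLocalization_stalk ⟨f ξ, hηV'⟩
  have hminY : (hV.primeIdealOf ⟨f ξ, hηV'⟩).asIdeal ∈ (⊥ : Ideal Γ(Y, V)).minimalPrimes := by
    refine ⟨⟨(hV.primeIdealOf ⟨f ξ, hηV'⟩).isPrime, bot_le⟩, ?_⟩
    rintro P1 ⟨hP1, -⟩ hle
    haveI : P1.IsPrime := hP1
    obtain ⟨z, hzV, rfl⟩ := Groth.Agent.Hartogs.exists_point hV P1
    have hle' : hV.primeIdealOf ⟨z, hzV⟩ ≤ hV.primeIdealOf ⟨f ξ, hηV'⟩ := hle
    have hsp := ((PrimeSpectrum.le_iff_specializes _ _).mp hle').map hV.fromSpec.continuous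
    rw [hV.fromSpec_primeIdealOf, hV.fromSpec_primeIdealOf] at hsp
    have hzη : z = f ξ := hmaxY z hsp
    subst hzη
    exact le_refl _
  have hradY := IsLocalization.AtPrime.radical_map_of_mem_minimalPrimes
    (A := Y.presheaf.stalk (f ξ)) (hV.primeIdealOf ⟨f ξ, hηV'⟩).asIdeal ⊥ hminY
  rw [Ideal.map_bot, IsLocalization.AtPrime.map_eq_maximalIdeal
    (hV.primeIdealOf ⟨f ξ, hηV'⟩).asIdeal (Y.presheaf.stalk (f ξ))] at hradY
  rw [← hradY] at h3
  obtain ⟨n, hn⟩ := h3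
  rw [Ideal.mem_bot] at hn
  have hpow : (Y.presheaf.germ U (f ξ) hξU s) ^ n ∈ nonZeroDivisors (Y.presheaf.stalk (f ξ)) :=
    pow_mem (hs ⟨f ξ, hξU⟩) n
  rw [hn] at hpow
  exact zero_notMem_nonZeroDivisors hpow

end Groth.Agent.S5093
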