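import Groth.Statements.S5097
import Mathlib

set_option autoImplicit false
universe u
open CategoryTheory CategoryTheory.Limits AlgebraicGeometry TopologicalSpace
open Mero

namespace Groth.Agent.S5097

theorem one_dir (X : Scheme.{u}) (D D' : Mero.Divisor X)
    (h : ∀ (U : X.Opens) (t : Γ(Mero.kmod X, U)),
      (∀ x : ↥U, Mero.DivCond D x.1 (t.1 x)) → (∀ x : ↥U, Mero.DivCond D' x.1 (t.1 x)))
    (x : X) (g g' : (Mero.KStalk X x)ˣ) (hg : D.1 x = QuotientGroup.mk g)
    (hg' : D'.1 x = QuotientGroup.mk g') :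
    ∃ a : X.presheaf.stalk x, algebraMap (X.presheaf.stalk x) (Mero.KStalk X x) a =
      ((g⁻¹ * g' : (Mero.KStalk X x)ˣ) : Mero.KStalk X x) := by
  obtain ⟨U, hxU, f, hf⟩ := D.2 x
  have hinv : ∀ y : ↥U, ((f⁻¹ : (Γ(Mero.kmod X, U))ˣ) : Γ(Mero.kmod X, U)).1 y =
      (((Units.map (Mero.evalK X U y).toMonoidHom f)⁻¹ : (Mero.KStalk X y.1)ˣ) : Mero.KStalk X y.1) := by
    intro y
    rw [Units.coe_map_inv]
    rfl
  have key : ∀ y : ↥U, Mero.DivCond D y.1
      (((f⁻¹ : (Γ(Mero.kmod X, U))ˣ) : Γ(Mero.kmod X, U)).1 y) := by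
    intro y γ hγ
    have h1 : (QuotientGroup.mk (Units.map (Mero.evalK X U y).toMonoidHom f) : Mero.Germ X y.1) =
        QuotientGroup.mk γ := by
      rw [← hγ]
      exact (hf y).symm
    rw [QuotientGroup.eq] at h1
    obtain ⟨v, hv⟩ := h1
    refine ⟨(v : X.presheaf.stalk y.1), ?_⟩
    have h2 := congrArg Units.val hv
    rw [Units.coe_map, Units.val_mul] at h2
    rw [hinv y]
    exact h2
  obtain ⟨a, ha⟩ := h U _ key ⟨x, hxU⟩ g' hg'
  rw [hinv ⟨x, hxU⟩] at ha
  have h3 : (QuotientGroup.mk (Units.map (Mero.evalK X U ⟨x, hxU⟩).toMonoidHom f) : Mero.Germ X x) =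
      QuotientGroup.mk g := by
    rw [← hg]
    exact (hf ⟨x, hxU⟩).symm
  rw [QuotientGroup.eq] at h3
  obtain ⟨v, hv⟩ := h3
  have hg2 : g = Units.map (Mero.evalK X U ⟨x, hxU⟩).toMonoidHom f *
      Units.map (algebraMap (X.presheaf.stalk x) (Mero.KStalk X x)).toMonoidHom v := by
    rw [hv, mul_inv_cancel_left]
  refine ⟨((v⁻¹ : (X.presheaf.stalk x)ˣ) : X.presheaf.stalk x) * a, ?_⟩
  have h4 : algebraMap (X.presheaf.stalk x) (Mero.KStalk X x)
      ((v⁻¹ : (X.presheaf.stalk x)ˣ) : X.presheaf.stalk x) =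
      (((Units.map (algebraMap (X.presheaf.stalk x) (Mero.KStalk X x)).toMonoidHom v)⁻¹ :
        (Mero.KStalk X x)ˣ) : Mero.KStalk X x) := by
    rw [Units.coe_map_inv]
    rfl
  rw [map_mul, ha, h4, hg2, mul_inv_rev, Units.val_mul, Units.val_mul, mul_assoc]

/-- Injectivity of the canonical homomorphism from divisors to invertible fractional ideals: let X be a
scheme and D, D' two divisors on X such that, over every open subset U, a section t of the sheaf of
meromorphic functions lies in O_X(D) (t_x · g ∈ O_{X,x} for a representative g of the germ of D at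
x, for all x in U) if and only if it lies in O_X(D'). Then D = D'. -/
theorem result (X : Scheme.{u}) (D D' : Mero.Divisor X)
    (h : ∀ (U : X.Opens) (t : Γ(Mero.kmod X, U)),
      (∀ x : ↥U, Mero.DivCond D x.1 (t.1 x)) ↔ (∀ x : ↥U, Mero.DivCond D' x.1 (t.1 x))) :
    D = D' := by
  apply Subtype.ext
  funext x
  obtain ⟨g, hg⟩ := QuotientGroup.mk_surjective (D.1 x)
  obtain ⟨g', hg'⟩ := QuotientGroup.mk_surjective (D'.1 x)
  obtain ⟨a, ha⟩ := one_dir X D D' (fun U t => (h U t).mp) x g g' hg.symm hg'.symm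
  obtain ⟨b, hb⟩ := one_dir X D' D (fun U t => (h U t).mpr) x g' g hg'.symm hg.symm
  have hab : a * b = 1 := by
    apply Mero.algebraMap_KStalk_injective x
    rw [map_mul, ha, hb, map_one, ← Units.val_mul]
    simp
  rw [← hg, ← hg', QuotientGroup.eq]
  refine ⟨⟨a, b, hab, by rw [mul_comm]; exact hab⟩, Units.ext ?_⟩
  rw [Units.coe_map]
  exact ha

end Groth.Agent.S5097
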