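import Groth.Statements.S5112
import Mathlib
import Groth.Agent.Lib.PrincCyc3_helper5

set_option autoImplicit false
universe u
open CategoryTheory CategoryTheory.Limits AlgebraicGeometry TopologicalSpace
open Div21

namespace Groth.Agent.S5112

/-- The implication from (b) to (a), for an integral scheme (a normal locally Noetherian scheme is the
disjoint union of its integral components): let X be a normal locally Noetherian integral scheme and
S a subset of X. A codimension-1 cycle Z (an integer-valued function on points, zero off the points
of codimension 1, i.e. of coheight 1, with locally finite support) is principal at a point x when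
there is a nonzero rational function whose order at every codimension-1 point generizing x is the
value of Z there (the trace of Z on Spec O_{X,x} is a principal divisor). Suppose (b): for every
point x of X which is not a generization of a point of S (the closure of x does not meet S) and
whose local ring has dimension at least 2, the local ring O_{X,x} is parafactorial. Then (a): every
codimension-1 cycle which is principal at all points of S is principal at every point of X (it is
locally principal). (The published statement asserts that (a) and (b) are equivalent. The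
implication from (a) to (b) fails: on the quotient of the real 2-sphere x² + y² + z² = 1 by (x, y,
z) ↦ (−x, −y, z), a normal Noetherian integral surface with exactly two singular points and divisor
class group of order 2, take S to be one singular point; every cycle principal there is principal
everywhere, while the local ring at the other singular point has dimension 2 and is not
parafactorial. This row states the implication from (b) to (a), which the published argument does
prove.) -/
theorem result (X : Scheme.{u}) [IsIntegral X]
    [IsLocallyNoetherian X] (hX : Pi1.IsNormalScheme X) (S : Set ↥X)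
    (hpar : ∀ x : ↥X, closure {x} ∩ S = ∅ → (2 : WithBot ℕ∞) ≤ ringKrullDim ↑(X.presheaf.stalk x) →
        ParaF.IsParafactorialLocalRing ↑(X.presheaf.stalk x))
    (Z : ↥X → ℤ) (hZ : ∀ x : ↥X, Order.coheight x ≠ 1 → Z x = 0)
    (hZfin : ∀ x : ↥X, ∃ W : X.Opens, x ∈ W ∧ {z : ↥X | z ∈ W ∧ Z z ≠ 0}.Finite)
    (hS : ∀ s : ↥X, s ∈ S →
        ∃ f : ↑X.functionField, f ≠ 0 ∧ ∀ x' : ↥X, Order.coheight x' = 1 → x' ⤳ s → Z x' = Scheme.ord f x')
    (x : ↥X) :
    ∃ f : ↑X.functionField, f ≠ 0 ∧ ∀ x' : ↥X, Order.coheight x' = 1 → x' ⤳ x → Z x' = Scheme.ord f x' := by
  classical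
  -- local finiteness of `Z` at the generizations of a point
  have hZfin' : ∀ x : ↥X, {z : ↥X | z ⤳ x ∧ Z z ≠ 0}.Finite := by
    intro x
    obtain ⟨W, hxW, hfin⟩ := hZfin x
    apply hfin.subset
    rintro z ⟨hz, hne⟩
    exact ⟨hz.mem_open W.isOpen hxW, hne⟩
  have key : ∀ n : ℕ, ∀ x : ↥X, Order.coheight x = (n : ℕ∞) →
      ∃ f : ↑X.functionField, f ≠ 0 ∧
        ∀ x' : ↥X, Order.coheight x' = 1 → x' ⤳ x → Z x' = Scheme.ord f x' := by
    intro n
    induction n using Nat.strong_induction_on with
    | _ n ih =>
      intro x hxn
      by_cases hS' : (closure {x} ∩ S).Nonempty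
      · obtain ⟨s, hs1, hs2⟩ := hS'
        obtain ⟨f, hf0, hf⟩ := hS s hs2
        exact ⟨f, hf0, fun x' hco hsp =>
          hf x' hco (hsp.trans (specializes_iff_mem_closure.mpr hs1))⟩
      · rw [Set.not_nonempty_iff_eq_empty] at hS'
        by_cases hdim : (2 : WithBot ℕ∞) ≤ ringKrullDim ↑(X.presheaf.stalk x)
        · apply Groth.Agent.PrincCyc.step hX Z x (hZfin' x) hdim (hpar x hS' hdim)
          intro x₀ hsp hne
          have hlt := Groth.Agent.PrincCyc.coheight_lt_of_specializes hsp hne
          obtain ⟨m, hm⟩ := ENat.ne_top_iff_exists.mp (Groth.Agent.PrincCyc.coheight_ne_top x₀)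
          rw [hxn, ← hm] at hlt
          exact ih m (by exact_mod_cast hlt) x₀ hm.symm
        · exact Groth.Agent.PrincCyc.principal_of_dim_lt_two hX Z x hdim
  obtain ⟨n, hn⟩ := ENat.ne_top_iff_exists.mp (Groth.Agent.PrincCyc.coheight_ne_top x)
  exact key n x hn.symm

end Groth.Agent.S5112
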