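import Groth.Statements.S5113
-- import your own Groth.Agent.* helpers here

set_option autoImplicit false
universe u
open SGA1

namespace Groth.Agent.S5113

open AlgebraicGeometry CategoryTheory CategoryTheory.Limits in
/-- Let g : S' ⟶ S be submersive, i.e. surjective and making S a topological quotient of S'. Then the
sequence of sets of open subsets Ouv(S) → Ouv(S') ⇉ Ouv(S' ×_S S') (inverse images along g and along
the two projections) is exact: an open subset U' of S' whose inverse images under the two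
projections of S' ×_S S' agree is the inverse image of one and only one open subset of S. -/
theorem result {S' S : Scheme.{u}} (g : S' ⟶ S)
    (hg : Topology.IsQuotientMap g.base) (U' : S'.Opens)
    (h : (pullback.fst g g) ⁻¹ᵁ U' = (pullback.snd g g) ⁻¹ᵁ U') :
    ∃! U : S.Opens, g ⁻¹ᵁ U = U' := by
  have hsat : ∀ x y : S', g x = g y → (x ∈ U' ↔ y ∈ U') := by
    intro x y hxy
    obtain ⟨z, hz1, hz2⟩ := AlgebraicGeometry.Scheme.Pullback.exists_preimage_pullback (f := g) (g := g) x y hxy
    have h1 : z ∈ (pullback.fst g g) ⁻¹ᵁ U' ↔ z ∈ (pullback.snd g g) ⁻¹ᵁ U' := by rw [h]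
    rw [← hz1, ← hz2]
    exact h1
  have hpre : g ⁻¹' (g '' (U' : Set S')) = (U' : Set S') := by
    ext x
    constructor
    · rintro ⟨y, hy, hyx⟩
      exact (hsat y x hyx).mp hy
    · intro hx
      exact ⟨x, hx, rfl⟩
  have hopen : IsOpen (g '' (U' : Set S')) := by
    rw [← hg.isOpen_preimage, hpre]
    exact U'.isOpen
  refine ⟨⟨g '' (U' : Set S'), hopen⟩, ?_, ?_⟩
  · ext x
    change x ∈ g ⁻¹' (g '' (U' : Set S')) ↔ x ∈ (U' : Set S')
    rw [hpre]
  · intro V hV
    ext s
    obtain ⟨x, rfl⟩ := hg.surjective s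
    have hV' : ∀ y : S', y ∈ g ⁻¹ᵁ V ↔ y ∈ U' := fun y => by rw [hV]
    constructor
    · intro hs
      exact ⟨x, (hV' x).mp hs, rfl⟩
    · rintro ⟨y, hy, hyx⟩
      have : y ∈ g ⁻¹ᵁ V := (hV' y).mpr hy
      change g y ∈ V at this
      rw [hyx] at this
      exact this

end Groth.Agent.S5113
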