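import Groth.Statements.S5119
import Mathlib
-- import your own Groth.Agent.* helpers here

set_option autoImplicit false
universe u
open scoped LaurentPolynomial
open SGA1t

namespace Groth.Agent.S5119

/-- The computation behind the exactness of the Kummer sequence 0 → μ_n → G_m → G_m → 0, i.e. faithful
flatness of the n-th power map u_n of G_m: Let A be a commutative ring and n ≥ 1, and let u_n be the
ring endomorphism of A[t, t⁻¹] with u_n(t) = t^n (on monomials, t^k ↦ t^{nk}). Then A[t, t⁻¹] is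
free of rank n over itself via u_n, with basis 1, t, …, t^{n−1}: every Laurent polynomial q can be
written in exactly one way as Σ_{i<n} u_n(c_i) t^i. -/
theorem result (A : Type u) [CommRing A] (n : ℕ) (hn : 1 ≤ n) (q : A[T;T⁻¹]) :
    ∃! c : Fin n → A[T;T⁻¹],
      q = ∑ i : Fin n, (AddMonoidAlgebra.mapDomainRingHom A (AddMonoidHom.mulLeft (n : ℤ)) : A[T;T⁻¹] →+* A[T;T⁻¹]) (c i) *
        LaurentPolynomial.T (i : ℤ) := by

  classical
  have hn0 : (0 : ℤ) < n := by exact_mod_cast hn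
  have hnz : (n : ℤ) ≠ 0 := ne_of_gt hn0
  have hinj : Function.Injective (AddMonoidHom.mulLeft (n : ℤ)) := by
    intro a b hab
    have hab' : (n : ℤ) * a = (n : ℤ) * b := hab
    exact mul_left_cancel₀ hnz hab'
  -- coefficient formula
  have L : ∀ (c : Fin n → A[T;T⁻¹]) (k : ℤ) (j : Fin n),
      (∑ i : Fin n, (AddMonoidAlgebra.mapDomainRingHom A (AddMonoidHom.mulLeft (n : ℤ)) :
        A[T;T⁻¹] →+* A[T;T⁻¹]) (c i) * LaurentPolynomial.T (i : ℤ)).coeff ((n : ℤ) * k + (j : ℕ)) =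
      (c j).coeff k := by
    intro c k j
    rw [AddMonoidAlgebra.coeff_sum, Finsupp.finset_sum_apply, Finset.sum_eq_single j]
    · change ((AddMonoidAlgebra.mapDomain (AddMonoidHom.mulLeft (n : ℤ)) (c j)) *
        AddMonoidAlgebra.single ((j : ℕ) : ℤ) (1 : A)).coeff _ = _
      rw [AddMonoidAlgebra.coeff_mul_single_apply, mul_one, AddMonoidAlgebra.coeff_mapDomain]
      have e1 : (n : ℤ) * k + ((j : ℕ) : ℤ) + -((j : ℕ) : ℤ) = AddMonoidHom.mulLeft (n : ℤ) k := by
        simp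
      rw [e1, Finsupp.mapDomain_apply hinj]
    · intro i _ hij
      change ((AddMonoidAlgebra.mapDomain (AddMonoidHom.mulLeft (n : ℤ)) (c i)) *
        AddMonoidAlgebra.single ((i : ℕ) : ℤ) (1 : A)).coeff _ = _
      rw [AddMonoidAlgebra.coeff_mul_single_apply, mul_one, AddMonoidAlgebra.coeff_mapDomain]
      apply Finsupp.mapDomain_notin_range
      rintro ⟨k', hk'⟩
      apply hij
      have hk2 : (n : ℤ) * k' = (n : ℤ) * k + ((j : ℕ) : ℤ) + -((i : ℕ) : ℤ) := hk'
      have hi := i.2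
      have hj := j.2
      apply Fin.ext
      have h3 : (n : ℤ) * (k' - k) = ((j : ℕ) : ℤ) - ((i : ℕ) : ℤ) := by linarith
      have h4 : (n : ℤ) ∣ ((j : ℕ) : ℤ) - ((i : ℕ) : ℤ) := ⟨_, h3.symm⟩
      have h5 : ((j : ℕ) : ℤ) - ((i : ℕ) : ℤ) = 0 := by
        apply Int.eq_zero_of_abs_lt_dvd h4
        rw [abs_lt]
        constructor <;> omega
      omega
    · intro h; exact absurd (Finset.mem_univ j) h
  have hfn : ∀ j : Fin n, Function.Injective (fun k : ℤ => (n : ℤ) * k + ((j : ℕ) : ℤ)) := by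
    intro j a b hab
    have hab' : (n : ℤ) * a + ((j : ℕ) : ℤ) = (n : ℤ) * b + ((j : ℕ) : ℤ) := hab
    exact mul_left_cancel₀ hnz (add_right_cancel hab')
  refine ⟨fun j => AddMonoidAlgebra.ofCoeff
    (Finsupp.comapDomain (fun k : ℤ => (n : ℤ) * k + ((j : ℕ) : ℤ)) q.coeff
      ((hfn j).injOn)), ?_, ?_⟩
  · dsimp only
    apply AddMonoidAlgebra.coeff_injective
    refine Finsupp.ext fun m => ?_
    have hm1 : 0 ≤ m % (n : ℤ) := Int.emod_nonneg m hnz
    have hm2 : m % (n : ℤ) < n := Int.emod_lt_of_pos m hn0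
    have hm3 : ((m % (n : ℤ)).toNat : ℤ) = m % (n : ℤ) := Int.toNat_of_nonneg hm1
    have hlt : (m % (n : ℤ)).toNat < n := by omega
    have hm : m = (n : ℤ) * (m / (n : ℤ)) + (((⟨(m % (n : ℤ)).toNat, hlt⟩ : Fin n) : ℕ) : ℤ) := by
      simp only
      rw [hm3]
      exact (Int.mul_ediv_add_emod m n).symm
    conv_rhs => rw [hm]
    rw [L]
    rw [AddMonoidAlgebra.coeff_ofCoeff, Finsupp.comapDomain_apply]
    simp only
    rw [hm3, Int.mul_ediv_add_emod]
  · intro c' hc'
    funext j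
    apply AddMonoidAlgebra.coeff_injective
    refine Finsupp.ext fun k => ?_
    rw [AddMonoidAlgebra.coeff_ofCoeff, Finsupp.comapDomain_apply]
    rw [← L c' k j, ← hc']

end Groth.Agent.S5119
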