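import Groth.Statements.S5120
import Mathlib
-- import your own Groth.Agent.* helpers here

set_option autoImplicit false
universe u
open SGA1t

namespace Groth.Agent.S5120

open Polynomial in
/-- The computation behind the exactness of the Artin-Schreier sequence 0 → Z/p → G_a → G_a → 0 in
characteristic p, i.e. faithful flatness of ℘ = id − F: Let p be a prime and A a ring of
characteristic p. Then A[t] is free of rank p over itself via the endomorphism t ↦ t − t^p, with
basis 1, t, …, t^{p−1}: every polynomial q can be written in exactly one way as Σ_{i<p} c_i(t − t^p)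
t^i. -/
theorem result (p : ℕ) [Fact p.Prime] (A : Type u) [CommRing A] [CharP A p]
    (q : A[X]) :
    ∃! c : Fin p → A[X], q = ∑ i : Fin p, aeval (X - X ^ p : A[X]) (c i) * X ^ (i : ℕ) := by

  classical
  have hp : p.Prime := Fact.out
  have hp1 : 1 ≤ p := hp.one_lt.le
  haveI : Nontrivial A := CharP.nontrivial_of_char_ne_one (R := A) hp.ne_one
  -- general statement for a monic polynomial of degree p
  have gen : ∀ (m : A[X]), m.Monic → m.natDegree = p → ∀ q : A[X],
      ∃! c : Fin p → A[X], q = ∑ i : Fin p, aeval m (c i) * X ^ (i : ℕ) := by
    intro m hm hdeg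
    -- coefficient of a "remainder"
    have hcoeff : ∀ (e : Fin p → A) (j : ℕ),
        (∑ i : Fin p, C (e i) * X ^ (i : ℕ)).coeff j = if h : j < p then e ⟨j, h⟩ else 0 := by
      intro e j
      rw [Polynomial.finset_sum_coeff]
      simp only [Polynomial.coeff_C_mul_X_pow]
      split_ifs with h
      · rw [Finset.sum_eq_single ⟨j, h⟩]
        · rw [if_pos rfl]
        · intro i _ hi
          rw [if_neg]
          intro hji
          apply hi
          exact Fin.ext hji.symm
        · intro h'; exact absurd (Finset.mem_univ _) h'
      · apply Finset.sum_eq_zero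
        intro i _
        rw [if_neg]
        intro hji
        exact h (hji ▸ i.2)
    have hdegr : ∀ (e : Fin p → A), (∑ i : Fin p, C (e i) * X ^ (i : ℕ)).degree < m.degree := by
      intro e
      rw [Polynomial.degree_eq_natDegree hm.ne_zero, hdeg, Polynomial.degree_lt_iff_coeff_zero]
      intro j hj
      rw [hcoeff, dif_neg (by omega)]
    -- decomposition identity
    have hdecomp : ∀ (d : Fin p → A[X]) (e : Fin p → A),
        ∑ i : Fin p, aeval m (X * d i + C (e i)) * X ^ (i : ℕ) =
          ∑ i : Fin p, C (e i) * X ^ (i : ℕ) + m * ∑ i : Fin p, aeval m (d i) * X ^ (i : ℕ) := by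
      intro d e
      rw [Finset.mul_sum, ← Finset.sum_add_distrib]
      refine Finset.sum_congr rfl fun i _ => ?_
      rw [map_add, map_mul, aeval_X, aeval_C]
      simp only [Polynomial.algebraMap_eq]
      ring
    -- existence
    have hex : ∀ N : ℕ, ∀ q : A[X], q.natDegree ≤ N →
        ∃ c : Fin p → A[X], q = ∑ i : Fin p, aeval m (c i) * X ^ (i : ℕ) := by
      intro N
      induction N using Nat.strong_induction_on with
      | _ N ih =>
        intro q hq
        by_cases hlt : q.natDegree < p
        · refine ⟨fun i => C (q.coeff i), ?_⟩
          simp only [aeval_C, Polynomial.algebraMap_eq]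
          ext j
          rw [hcoeff]
          split_ifs with h
          · rfl
          · exact Polynomial.coeff_eq_zero_of_natDegree_lt (by omega)
        · have hq1 : (q /ₘ m).natDegree < N := by
            rw [Polynomial.natDegree_divByMonic q hm, hdeg]
            omega
          obtain ⟨c1, hc1⟩ := ih _ hq1 (q /ₘ m) le_rfl
          refine ⟨fun i => X * c1 i + C ((q %ₘ m).coeff i), ?_⟩
          rw [hdecomp, ← hc1]
          have hr : q %ₘ m = ∑ i : Fin p, C ((q %ₘ m).coeff i) * X ^ (i : ℕ) := by
            ext j
            rw [hcoeff]
            split_ifs with h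
            · rfl
            · apply Polynomial.coeff_eq_zero_of_natDegree_lt
              have := Polynomial.natDegree_modByMonic_lt q hm (by
                intro h1
                rw [h1, Polynomial.natDegree_one] at hdeg
                omega)
              omega
          rw [← hr]
          exact (Polynomial.modByMonic_add_div q m).symm
    -- uniqueness: a zero combination has zero coefficients
    have huniq : ∀ N : ℕ, ∀ c : Fin p → A[X], (∀ i, (c i).natDegree ≤ N) →
        ∑ i : Fin p, aeval m (c i) * X ^ (i : ℕ) = 0 → ∀ i, c i = 0 := by
      intro N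
      induction N with
      | zero =>
        intro c hc hS i
        have hci : ∀ i, c i = C ((c i).coeff 0) := fun i =>
          Polynomial.eq_C_of_natDegree_le_zero (hc i)
        have hS' : ∑ i : Fin p, C ((c i).coeff 0) * X ^ (i : ℕ) = 0 := by
          rw [← hS]
          refine Finset.sum_congr rfl fun i _ => ?_
          conv_rhs => rw [hci i]
          rw [aeval_C, Polynomial.algebraMap_eq]
        have := congrArg (fun f => f.coeff (i : ℕ)) hS'
        simp only [hcoeff, Polynomial.coeff_zero] at this
        rw [dif_pos i.2] at this
        rw [hci i]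
        simp only [Fin.eta] at this
        rw [this, map_zero]
      | succ N ih =>
        intro c hc hS
        have hS' : ∑ i : Fin p, C ((c i).coeff 0) * X ^ (i : ℕ) +
            m * ∑ i : Fin p, aeval m ((c i).divX) * X ^ (i : ℕ) = 0 := by
          rw [← hdecomp, ← hS]
          refine Finset.sum_congr rfl fun i _ => ?_
          rw [mul_comm X, Polynomial.divX_mul_X_add]
        have hdm := Polynomial.div_modByMonic_unique _ _ hm ⟨hS', hdegr _⟩
        rw [Polynomial.zero_divByMonic, Polynomial.zero_modByMonic] at hdm
        have hd : ∀ i, (c i).divX = 0 := by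
          apply ih _ _ hdm.1.symm
          intro i
          rw [Polynomial.natDegree_divX_eq_natDegree_tsub_one]
          have := hc i
          omega
        intro i
        have := congrArg (fun f => f.coeff (i : ℕ)) hdm.2.symm
        simp only [hcoeff, Polynomial.coeff_zero] at this
        rw [dif_pos i.2] at this
        simp only [Fin.eta] at this
        rw [← Polynomial.divX_mul_X_add (c i), hd i, this, zero_mul, map_zero, add_zero]
    intro q
    obtain ⟨c, hc⟩ := hex _ q le_rfl
    refine ⟨c, hc, ?_⟩
    intro c' hc'
    funext i
    have hsub : ∑ i : Fin p, aeval m ((c' - c) i) * X ^ (i : ℕ) = 0 := by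
      simp only [Pi.sub_apply, map_sub, sub_mul, Finset.sum_sub_distrib]
      rw [← hc, ← hc', sub_self]
    have := huniq (Finset.univ.sup fun i => ((c' - c) i).natDegree) (c' - c)
      (fun i => Finset.le_sup (f := fun i => ((c' - c) i).natDegree) (Finset.mem_univ i)) hsub i
    rw [Pi.sub_apply, sub_eq_zero] at this
    exact this
  have hm : (X ^ p - X : A[X]).Monic :=
    Polynomial.monic_X_pow_sub (by rw [degree_X]; exact_mod_cast hp.one_lt)
  have hdeg : (X ^ p - X : A[X]).natDegree = p := by
    rw [Polynomial.natDegree_sub_eq_left_of_natDegree_lt, natDegree_X_pow]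
    rw [natDegree_X_pow, natDegree_X]
    exact hp.one_lt
  have hkey : ∀ c : A[X], aeval (X - X ^ p : A[X]) c = aeval (X ^ p - X : A[X]) (c.comp (-X)) := by
    intro c
    rw [Polynomial.aeval_comp, map_neg, aeval_X, neg_sub]
  have hinv : ∀ c : A[X], (c.comp (-X)).comp (-X) = c := by
    intro c
    rw [Polynomial.comp_assoc, Polynomial.neg_comp, Polynomial.X_comp, neg_neg, Polynomial.comp_X]
  obtain ⟨c, hc, hcu⟩ := gen _ hm hdeg q
  refine ⟨fun i => (c i).comp (-X), ?_, ?_⟩
  · simp only [hkey, hinv]; exact hc
  · intro c' hc'
    have := hcu (fun i => (c' i).comp (-X)) (by simp only [← hkey]; exact hc')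
    funext i
    rw [← this]; exact (hinv _).symm

end Groth.Agent.S5120
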