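import Groth.Statements.S5132
-- import your own Groth.Agent.* helpers here

set_option autoImplicit false
open CategoryTheory AlgebraicGeometry
universe u
open SGA1

namespace Groth.Agent.S5132

/-- Quasi-compactness of a morphism descends along a surjective and quasi-compact base change; flatness
of the base change is not needed for this property. -/
theorem result :
    MorphismProperty.DescendsAlong @QuasiCompact (@Surjective ⊓ @QuasiCompact : MorphismProperty Scheme.{u}) := by
  refine ⟨fun {A X Y Z fst snd f g} h hf hfst => ?_⟩
  obtain ⟨hf1, hf2⟩ := hf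
  have hf1' : Surjective f := hf1
  have hf2' : QuasiCompact f := hf2
  have hfst' : QuasiCompact fst := hfst
  have hsnd : Surjective snd := MorphismProperty.of_isPullback (P := @Surjective) h hf1
  refine ⟨fun U hU hUc => ?_⟩
  have h1 : IsCompact (f ⁻¹' U) := QuasiCompact.isCompact_preimage U hU hUc
  have h1o : IsOpen (f ⁻¹' U) := hU.preimage f.continuous
  have h2 : IsCompact (fst ⁻¹' (f ⁻¹' U)) := QuasiCompact.isCompact_preimage _ h1o h1
  have h3 : snd '' (fst ⁻¹' (f ⁻¹' U)) = g ⁻¹' U := by
    have hw : ∀ a : A, f (fst a) = g (snd a) := by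
      intro a
      have := congrArg (fun φ => φ.base a) h.w
      simpa using this
    ext y
    constructor
    · rintro ⟨a, ha, rfl⟩
      simp only [Set.mem_preimage] at ha ⊢
      rwa [← hw]
    · intro hy
      obtain ⟨a, rfl⟩ := hsnd.surj y
      refine ⟨a, ?_, rfl⟩
      simp only [Set.mem_preimage] at hy ⊢
      rwa [hw]
  rw [← h3]
  exact h2.image snd.continuous

end Groth.Agent.S5132
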