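import Groth.Statements.S5140
import Groth.Agent.Lib.FibCat3_helper6
-- import your own Groth.Agent.* helpers here

set_option autoImplicit false
open CategoryTheory
universe u v u₂ v₂
open FibCat

namespace Groth.Agent.S5140

/-- If the structure functor of 𝒳 is transportable (isomorphisms of C lift to isomorphisms of 𝒳 with any
prescribed source over their source), then a functor 𝒳 ⟶ 𝒴 over C whose underlying functor is an
equivalence of categories is an equivalence over C. -/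
theorem result {C : Type u} [Category.{v} C]
    {𝒳 𝒴 : BasedCategory.{v₂, u₂} C}
    (h𝒳 : ∀ ⦃T S : C⦄ (α : T ≅ S) (ξ : 𝒳.obj), 𝒳.p.obj ξ = T →
      ∃ (ξ' : 𝒳.obj) (e : ξ ≅ ξ'), 𝒳.p.IsHomLift α.hom e.hom)
    (F : 𝒳 ⥤ᵇ 𝒴) [F.toFunctor.IsEquivalence] : FibCat.IsEquivOver F := by
  apply Lib.FibCat3_helper6.isEquivOver_of_fullyFaithful
  intro y
  let x₀ := F.toFunctor.objPreimage y
  let φ₀ : F.obj x₀ ≅ y := F.toFunctor.objObjPreimageIso y
  have e0 : 𝒴.p.obj (F.obj x₀) = 𝒳.p.obj x₀ := F.w_obj x₀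
  let f : 𝒳.p.obj x₀ ≅ 𝒴.p.obj y := eqToIso e0.symm ≪≫ 𝒴.p.mapIso φ₀
  have hf : 𝒴.p.IsHomLift f.hom φ₀.hom :=
    IsHomLift.of_fac _ _ _ e0 rfl (by simp [f])
  obtain ⟨ξ', e, he⟩ := h𝒳 f x₀ rfl
  have he' : 𝒳.p.IsHomLift f.inv e.inv := inferInstance
  refine ⟨ξ', F.toFunctor.mapIso e.symm ≪≫ φ₀, ?_⟩
  have h1 : 𝒴.p.IsHomLift f.inv (F.map e.inv) := inferInstance
  have h2 : 𝒴.p.IsHomLift (f.inv ≫ f.hom) (F.map e.inv ≫ φ₀.hom) := inferInstance
  rw [Iso.inv_hom_id] at h2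
  exact h2

end Groth.Agent.S5140
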