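import Groth.Statements.S5154
import Mathlib
import Groth.Agent.Lib.Catenary_helper5

set_option autoImplicit false
universe u
open LocCoh

namespace Groth.Agent.S5154

/-- Let A be a Noetherian local ring which is catenary and such that depth A_p ≥ 2 for every prime p
with dim A_p ≥ 2. Then all irreducible components of Spec A have dimension dim A: for every minimal
prime p, dim A/p = dim A. -/
theorem result (A : Type u) [CommRing A] [IsLocalRing A] [IsNoetherianRing A] (hc : CAlg.IsCatenary A) (h : ∀ p : PrimeSpectrum A, (2 : ℕ∞) ≤ p.asIdeal.height → (2 : ℕ∞) ≤ LocCoh.depth (Localization.AtPrime p.asIdeal) (Localization.AtPrime p.asIdeal)) (p : Ideal A) (hp : p ∈ minimalPrimes A) : ringKrullDim (A ⧸ p) = ringKrullDim A := by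
  haveI hpre : PreconnectedSpace (PrimeSpectrum A) := by
    refine ⟨?_⟩
    rw [isPreconnected_closed_iff]
    intro t t' ht ht' _ hne1 hne2
    obtain ⟨x, _, hxt⟩ := hne1
    obtain ⟨y, _, hyt'⟩ := hne2
    have hx : x ⤳ IsLocalRing.closedPoint A :=
      (PrimeSpectrum.le_iff_specializes _ _).1 (IsLocalRing.le_maximalIdeal x.2.ne_top)
    have hy : y ⤳ IsLocalRing.closedPoint A :=
      (PrimeSpectrum.le_iff_specializes _ _).1 (IsLocalRing.le_maximalIdeal y.2.ne_top)
    exact ⟨IsLocalRing.closedPoint A, Set.mem_univ _, hx.mem_closed ht hxt,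
      hy.mem_closed ht' hyt'⟩
  exact Groth.Agent.Hartshorne.ringKrullDim_quotient_minimalPrimes hc
    (fun P hP hht => h ⟨P, hP⟩ hht) p hp

end Groth.Agent.S5154
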