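import Groth.Statements.S5163
import Mathlib
-- import your own Groth.Agent.* helpers here

set_option autoImplicit false
universe u
open LocCoh

namespace Groth.Agent.S5163

open TensorProduct


/-- For modules over a Noetherian ring. Let P be a finite A-module and H any A-module with Supp H ⊆ Supp
P. If Hom_A(P, H) = 0 then H = 0. (The published lemma is stated over an arbitrary prescheme; its
proof uses that a nonzero module has an associated prime, so the ring is taken Noetherian here.) -/
theorem result (A : Type u) [CommRing A] [IsNoetherianRing A] (P H : Type u) [AddCommGroup P] [Module A P] [Module.Finite A P] [AddCommGroup H] [Module A H] (hsupp : Module.support A H ⊆ Module.support A P) (hhom : Subsingleton (P →ₗ[A] H)) : Subsingleton H := by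

  classical
  by_contra hH
  rw [not_subsingleton_iff_nontrivial] at hH
  obtain ⟨p, hp⟩ := associatedPrimes.nonempty A H
  obtain ⟨hpp, h, hh⟩ := (isAssociatedPrime_iff).mp hp
  have hmem : ∀ a : A, a ∈ p ↔ a • h = 0 := by
    intro a; rw [hh, Submodule.mem_colon_singleton, Submodule.mem_bot]
  have hpH : (⟨p, hpp⟩ : PrimeSpectrum A) ∈ Module.support A H := by
    rw [Module.mem_support_iff']
    exact ⟨h, fun r hr hrh => hr ((hmem r).mpr hrh)⟩
  have hpP := hsupp hpH
  rw [Module.mem_support_iff_nontrivial_residueField_tensorProduct] at hpP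
  obtain ⟨φ, hφ0, -⟩ := Submodule.exists_le_ker_of_lt_top
    (⊥ : Submodule p.ResidueField (p.ResidueField ⊗[A] P)) bot_lt_top
  obtain ⟨ψ, hψ⟩ : ∃ ψ : P →ₗ[A] p.ResidueField, ∀ x, ψ x = φ ((1 : p.ResidueField) ⊗ₜ[A] x) :=
    ⟨(φ.restrictScalars A).comp (TensorProduct.mk A p.ResidueField P 1), fun x => rfl⟩
  -- ψ is nonzero
  have hψne : ∃ x, ψ x ≠ 0 := by
    by_contra hall
    push_neg at hall
    apply hφ0
    apply LinearMap.ext
    intro z
    induction z using TensorProduct.induction_on with
    | zero => simp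
    | tmul c x =>
      have : c ⊗ₜ[A] x = c • ((1 : p.ResidueField) ⊗ₜ[A] x) := by
        rw [TensorProduct.smul_tmul', smul_eq_mul, mul_one]
      rw [this, map_smul, ← hψ, hall x, smul_zero]; rfl
    | add z w hz hw => rw [map_add, hz, hw]; simp
  obtain ⟨x0, hx0⟩ := hψne
  -- common denominator on generators
  obtain ⟨G, hG⟩ := (Module.Finite.fg_top : (⊤ : Submodule A P).FG)
  obtain ⟨b, hb⟩ := IsLocalization.exist_integer_multiples_of_finset
    (nonZeroDivisors (A ⧸ p)) (G.image ψ)
  obtain ⟨b0, hb0⟩ := Ideal.Quotient.mk_surjective (b : A ⧸ p)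
  have hb0p : b0 ∉ p := by
    intro hmemb
    have : (b : A ⧸ p) = 0 := by rw [← hb0]; exact Ideal.Quotient.eq_zero_iff_mem.mpr hmemb
    exact nonZeroDivisors.coe_ne_zero b this
  obtain ⟨j, hj⟩ : ∃ j : A →ₗ[A] p.ResidueField, j = Algebra.linearMap A p.ResidueField := ⟨_, rfl⟩
  have hja : ∀ a, j a = algebraMap A p.ResidueField a := by intro a; rw [hj]; rfl
  have hrange : ∀ x : P, b0 • ψ x ∈ LinearMap.range j := by
    intro x
    have hx : x ∈ Submodule.span A (G : Set P) := by rw [hG]; trivial
    induction hx using Submodule.span_induction with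
    | mem g hg =>
      obtain ⟨c, hc⟩ := hb (ψ g) (Finset.mem_image_of_mem ψ hg)
      obtain ⟨c0, rfl⟩ := Ideal.Quotient.mk_surjective c
      refine ⟨c0, ?_⟩
      rw [hja, ← Ideal.algebraMap_quotient_residueField_mk, hc, ← hb0, Algebra.smul_def,
        Algebra.smul_def, Ideal.algebraMap_quotient_residueField_mk]
    | zero => rw [map_zero, smul_zero]; exact Submodule.zero_mem _
    | add y z _ _ hy hz => rw [map_add, smul_add]; exact Submodule.add_mem _ hy hz
    | smul a y _ hy => rw [map_smul, smul_comm]; exact Submodule.smul_mem _ _ hy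
  have hkerj : ∀ a, j a = 0 ↔ a ∈ p := by
    intro a; rw [hja]; exact Ideal.algebraMap_residueField_eq_zero
  -- the map to H
  have hchoose : ∀ x : P, ∃ a : A, j a = b0 • ψ x := fun x => hrange x
  choose α hα using hchoose
  obtain ⟨θ, hθ⟩ : ∃ θ : P →ₗ[A] H, ∀ x, θ x = α x • h := by
    refine ⟨{ toFun := fun x => α x • h, map_add' := ?_, map_smul' := ?_ }, fun x => rfl⟩
    · intro x y
      rw [← add_smul, ← sub_eq_zero, ← sub_smul, ← hmem, ← hkerj, map_sub, map_add, hα, hα, hα,
        map_add, smul_add, sub_self]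
    · intro a x
      rw [RingHom.id_apply, smul_smul, ← sub_eq_zero, ← sub_smul, ← hmem, ← hkerj, map_sub, hα,
        map_smul, smul_comm, ← smul_eq_mul, map_smul, hα, sub_self]
  have hθ0 : θ = 0 := Subsingleton.elim _ _
  have h1 : α x0 • h = 0 := by rw [← hθ, hθ0]; rfl
  have h2 : j (α x0) = 0 := (hkerj _).mpr ((hmem _).mpr h1)
  rw [hα, Algebra.smul_def, mul_eq_zero] at h2
  rcases h2 with h2 | h2
  · exact hb0p (Ideal.algebraMap_residueField_eq_zero.mp h2)
  · exact hx0 h2

end Groth.Agent.S5163
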