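import Groth.Statements.S5166
import Mathlib
import Groth.Agent.Lib.NoethPrimes_helper6
-- import your own Groth.Agent.* helpers here

set_option autoImplicit false
universe u
open LocCoh

namespace Groth.Agent.S5166

/-- In its local form at a point y ∈ Y (A = O_{X,y}). Let A be a Noetherian local ring and I ≠ A an
ideal contained in no minimal prime of A. Then some prime p ⊉ I has dim A/p = 1. -/
theorem result (A : Type u) [CommRing A] [IsLocalRing A] [IsNoetherianRing A] (I : Ideal A) (hI : I ≠ ⊤) (hdense : ∀ q ∈ minimalPrimes A, ¬ I ≤ q) : ∃ p : PrimeSpectrum A, ¬ I ≤ p.asIdeal ∧ ringKrullDim (A ⧸ p.asIdeal) = 1 := by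

  classical
  have hfin := minimalPrimes.finite_of_isNoetherianRing A
  have hIm : I ≤ IsLocalRing.maximalIdeal A := IsLocalRing.le_maximalIdeal hI
  -- an element of I outside all minimal primes
  have hnot : ¬ ((I : Set A) ⊆ ⋃ q ∈ (hfin.toFinset : Set (Ideal A)), (q : Set A)) := by
    intro hsub
    have := (Ideal.subset_union_prime (s := hfin.toFinset) (f := fun q => q) ⊥ ⊥
      (fun q hq _ _ => ((Set.Finite.mem_toFinset hfin).1 hq).isPrime) (I := I)).1 hsub
    obtain ⟨q, hq, hIq⟩ := this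
    exact hdense q ((Set.Finite.mem_toFinset hfin).1 hq) hIq
  rw [Set.not_subset] at hnot
  obtain ⟨x, hxI, hx⟩ := hnot
  have hx' : ∀ q ∈ minimalPrimes A, x ∉ q := by
    intro q hq hxq
    apply hx
    simp only [Set.mem_iUnion, Finset.mem_coe, SetLike.mem_coe]
    exact ⟨q, (Set.Finite.mem_toFinset hfin).2 hq, hxq⟩
  -- a maximal prime not containing x
  obtain ⟨q₀, hq₀⟩ := Ideal.nonempty_minimalPrimes (R := A) (I := ⊥) top_ne_bot.symm
  have hne : ({p : Submodule A A | Ideal.IsPrime p ∧ x ∉ p} : Set (Submodule A A)).Nonempty :=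
    ⟨q₀, hq₀.isPrime, hx' q₀ hq₀⟩
  obtain ⟨p, ⟨hp, hxp⟩, hpmax⟩ := (set_has_maximal_iff_noetherian.2 inferInstance) _ hne
  change Ideal A at p
  haveI : p.IsPrime := hp
  refine ⟨⟨p, hp⟩, fun hIp => hxp (hIp hxI), ?_⟩
  change ringKrullDim (A ⧸ p) = 1
  let mk := Ideal.Quotient.mk p
  have hsurj : Function.Surjective mk := Ideal.Quotient.mk_surjective
  haveI : IsLocalRing (A ⧸ p) := IsLocalRing.of_surjective' mk hsurj
  have hx0 : mk x ≠ 0 := fun h0 => hxp (Ideal.Quotient.eq_zero_iff_mem.1 h0)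
  have hall : ∀ q : Ideal (A ⧸ p), q.IsPrime → q ≠ ⊥ → mk x ∈ q := by
    intro q hq hq0
    haveI := hq
    have h1 : p ≤ q.comap mk := by
      intro a ha
      rw [Ideal.mem_comap, Ideal.Quotient.eq_zero_iff_mem.2 ha]
      exact q.zero_mem
    have h2 : p ≠ q.comap mk := by
      intro heq
      apply hq0
      rw [eq_bot_iff]
      intro b hb
      obtain ⟨a, rfl⟩ := hsurj b
      have : a ∈ q.comap mk := hb
      rw [← heq] at this
      rw [Ideal.mem_bot]
      exact Ideal.Quotient.eq_zero_iff_mem.2 this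
    by_contra hcon
    exact hpmax (q.comap mk) ⟨Ideal.comap_isPrime mk q, hcon⟩ (lt_of_le_of_ne h1 h2)
  have hnu : mk x ∈ IsLocalRing.maximalIdeal (A ⧸ p) := by
    rw [IsLocalRing.mem_maximalIdeal, mem_nonunits_iff]
    intro hu
    obtain ⟨b, hb⟩ := hu.exists_right_inv
    obtain ⟨y, rfl⟩ := hsurj b
    rw [← map_mul, ← map_one mk, Ideal.Quotient.eq] at hb
    have h1 : x * y - 1 ∈ IsLocalRing.maximalIdeal A := IsLocalRing.le_maximalIdeal hp.ne_top hb
    have h2 : x * y ∈ IsLocalRing.maximalIdeal A := Ideal.mul_mem_right _ _ (hIm hxI)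
    have h3 : (1 : A) ∈ IsLocalRing.maximalIdeal A := by
      have := Ideal.sub_mem _ h2 h1
      rwa [sub_sub_cancel] at this
    exact (Ideal.ne_top_iff_one _).1 (IsLocalRing.maximalIdeal.isMaximal A).ne_top h3
  have hle : (IsLocalRing.maximalIdeal (A ⧸ p)).height ≤ 1 :=
    Groth.Agent.Lib.NoethPrimes.height_le_one_of_forall_mem (mk x) hx0 hall _
  have hge : 1 ≤ (IsLocalRing.maximalIdeal (A ⧸ p)).height := by
    rw [Order.one_le_iff_pos, pos_iff_ne_zero, Ne, Ideal.height_eq_zero_iff_eq_bot]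
    intro hbot
    rw [hbot, Ideal.mem_bot] at hnu
    exact hx0 hnu
  rw [← IsLocalRing.maximalIdeal_height_eq_ringKrullDim, le_antisymm hle hge]
  rfl

end Groth.Agent.S5166
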