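import Groth.Statements.S5168
import Mathlib

set_option autoImplicit false
universe u
open InjHull

namespace Groth.Agent.S5168

/-- Let A be a Noetherian ring, J an ideal and H a J-power torsion A-module. Then H is injective if and
only if Hom_A(−, H) is exact on finite A-modules killed by a power of J, i.e. every linear map to H
from a submodule of such a module M extends to M. -/
theorem result (A : Type u) [CommRing A] [IsNoetherianRing A] (J : Ideal A) (H : Type u) [AddCommGroup H] [Module A H] (hH : LocCoh.IsPowerTorsion J H) : Module.Injective A H ↔ ∀ (M : Type u) [AddCommGroup M] [Module A M], Module.Finite A M → (∃ k : ℕ, (J ^ k) • (⊤ : Submodule A M) = ⊥) → ∀ (N : Submodule A M) (g : N →ₗ[A] H), ∃ g' : M →ₗ[A] H, g'.comp N.subtype = g := by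
  constructor
  · intro hinj M _ _ _ _ N g
    obtain ⟨h, hh⟩ := hinj.out N.subtype N.injective_subtype g
    exact ⟨h, LinearMap.ext hh⟩
  · intro hext
    apply Module.Baer.injective
    intro 𝔞 g
    -- uniform exponent killing g(𝔞)
    have hfg : (𝔞 : Submodule A A).FG := IsNoetherian.noetherian 𝔞
    have hk : ∃ k : ℕ, ∀ a : 𝔞, ∀ j ∈ J ^ k, j • g a = 0 := by
      obtain ⟨S, hS⟩ := hfg
      have hS' : Submodule.span A (S : Set A) = (𝔞 : Submodule A A) := hS
      have hSmem : ∀ s ∈ S, s ∈ 𝔞 := fun s hs => by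
        have : s ∈ Submodule.span A (S : Set A) := Submodule.subset_span hs
        rw [hS'] at this
        exact this
      choose! e he using fun (s : A) (hs : s ∈ S) => hH (g ⟨s, hSmem s hs⟩)
      refine ⟨S.sup e, ?_⟩
      rintro ⟨a, ha⟩ j hj
      have hle : (𝔞 : Submodule A A) ≤ (LinearMap.ker (j • g)).map 𝔞.subtype := by
        refine hS'.symm.le.trans ?_
        apply Submodule.span_le.mpr
        intro s hs
        refine ⟨⟨s, hSmem s hs⟩, ?_, rfl⟩
        rw [SetLike.mem_coe, LinearMap.mem_ker, LinearMap.smul_apply]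
        exact he s hs j (Ideal.pow_le_pow_right (Finset.le_sup hs) hj)
      obtain ⟨⟨y, hy⟩, hyk, hyx⟩ := hle ha
      have hyx' : y = a := hyx
      subst hyx'
      exact hyk
    obtain ⟨k, hk⟩ := hk
    -- Artin-Rees
    obtain ⟨c, hc⟩ := Ideal.exists_pow_inf_eq_pow_smul J (𝔞 : Submodule A A)
    set n := c + k with hn
    have hAR : ∀ x : A, x ∈ J ^ n → ∀ hx : x ∈ 𝔞, g ⟨x, hx⟩ = 0 := by
      intro x hxJ hx
      have h1 : x ∈ (J ^ n • (⊤ : Submodule A A) ⊓ (𝔞 : Submodule A A)) := by
        refine ⟨?_, hx⟩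
        simpa using hxJ
      rw [hc n (by omega)] at h1
      have h2 : n - c = k := by omega
      rw [h2] at h1
      have h3 : J ^ k • (J ^ c • (⊤ : Submodule A A) ⊓ (𝔞 : Submodule A A)) ≤ J ^ k • (𝔞 : Submodule A A) :=
        Submodule.smul_mono le_rfl inf_le_right
      have h4 := h3 h1
      have hle : J ^ k • (𝔞 : Submodule A A) ≤ (LinearMap.ker g).map 𝔞.subtype := by
        apply Submodule.smul_le.mpr
        intro j hj a ha
        refine ⟨j • ⟨a, ha⟩, ?_, rfl⟩
        rw [SetLike.mem_coe, LinearMap.mem_ker, map_smul]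
        exact hk ⟨a, ha⟩ j hj
      obtain ⟨⟨y, hy⟩, hyk, hyx⟩ := hle h4
      have hyx' : y = x := hyx
      subst hyx'
      exact hyk
    -- the module M = A ⧸ J^n and the submodule N = image of 𝔞
    let M := A ⧸ (J ^ n)
    let q : A →ₗ[A] M := (J ^ n).mkQ
    let N : Submodule A M := Submodule.map q 𝔞
    let ψ : 𝔞 →ₗ[A] N := q.submoduleMap 𝔞
    have hψ : Function.Surjective ψ := q.submoduleMap_surjective 𝔞
    have hker : LinearMap.ker ψ ≤ LinearMap.ker g := by
      rintro ⟨x, hx⟩ hxk
      rw [LinearMap.mem_ker] at hxk ⊢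
      have h1 : q x = 0 := by
        have := congrArg Subtype.val hxk
        exact this
      have h2 : x ∈ J ^ n := by
        have : (Ideal.Quotient.mk (J ^ n)) x = 0 := h1
        exact Ideal.Quotient.eq_zero_iff_mem.mp this
      exact hAR x h2 hx
    let gbar : N →ₗ[A] H :=
      ((LinearMap.ker ψ).liftQ g hker).comp (ψ.quotKerEquivOfSurjective hψ).symm.toLinearMap
    have hgbar : ∀ a : 𝔞, gbar (ψ a) = g a := by
      intro a
      have : (ψ.quotKerEquivOfSurjective hψ).symm (ψ a) = (LinearMap.ker ψ).mkQ a := by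
        rw [LinearEquiv.symm_apply_eq]
        rfl
      simp only [gbar, LinearMap.comp_apply, LinearEquiv.coe_coe, this]
      rfl
    have hMk : ∃ k : ℕ, (J ^ k) • (⊤ : Submodule A M) = ⊥ := by
      refine ⟨n, ?_⟩
      rw [eq_bot_iff]
      apply Submodule.smul_le.mpr
      intro j hj m _
      obtain ⟨a, rfl⟩ := Ideal.Quotient.mk_surjective m
      rw [Submodule.mem_bot]
      have : j • (Ideal.Quotient.mk (J ^ n)) a = (Ideal.Quotient.mk (J ^ n)) (j * a) := rfl
      rw [this]
      exact Ideal.Quotient.eq_zero_iff_mem.mpr (Ideal.mul_mem_right _ _ hj)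
    obtain ⟨g', hg'⟩ := hext M inferInstance hMk N gbar
    refine ⟨g'.comp q, fun x hx => ?_⟩
    have := congrArg (fun φ => φ (ψ ⟨x, hx⟩)) hg'
    simp only [LinearMap.comp_apply] at this
    rw [hgbar] at this
    rw [← this]
    rfl

end Groth.Agent.S5168
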