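import Groth.Statements.S5172
import Mathlib
import Groth.Agent.Lib.SpecDepth_helper6
import Groth.Agent.Lib.RelCodim_helper6
-- import your own Groth.Agent.* helpers here

set_option autoImplicit false
universe u
open LocCoh

namespace Groth.Agent.S5172

/-- Let A be a Noetherian ring which is a quotient of a regular ring, I an ideal, M a finite A-module
and n ≥ 0; c(p) = codim(V(p) ∩ V(I), V(p)). Then depth M_p > n − c(p) for all primes p ⊉ I if and
only if depth M_p ≥ n for all primes p ⊉ I with c(p) = 1. -/
theorem result (R : Type u) [CommRing R] [IsRegularRing R] (A : Type u) [CommRing A] [IsNoetherianRing A] (π : R →+* A) (hπ : Function.Surjective π) (I : Ideal A) (M : Type u) [AddCommGroup M] [Module A M] [Module.Finite A M] (n : ℕ) : (∀ p : PrimeSpectrum A, ¬ I ≤ p.asIdeal → (n : ℕ∞) < LocCoh.depth (Localization.AtPrime p.asIdeal) (LocalizedModule p.asIdeal.primeCompl M) + SGA2.relCodim I p) ↔ (∀ p : PrimeSpectrum A, ¬ I ≤ p.asIdeal → SGA2.relCodim I p = 1 → (n : ℕ∞) ≤ LocCoh.depth (Localization.AtPrime p.asIdeal) (LocalizedModule p.asIdeal.primeCompl M))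 := by

  letI : Algebra R A := π.toAlgebra
  have hs : Function.Surjective (algebraMap R A) := hπ
  constructor
  · intro h p hIp hc
    have h1 := h p hIp
    rw [hc] at h1
    exact (ENat.lt_add_one_iff' (ENat.coe_ne_top n)).1 h1
  · intro h
    have claim : ∀ c : ℕ, ∀ p : PrimeSpectrum A, ¬ I ≤ p.asIdeal → SGA2.relCodim I p = c →
        (n : ℕ∞) < LocCoh.depth (Localization.AtPrime p.asIdeal)
          (LocalizedModule p.asIdeal.primeCompl M) + c := by
      intro c
      induction c using Nat.strong_induction_on with
      | _ c ih =>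
        intro p hIp hc
        have hc1 : 1 ≤ c := by
          have h0 := Groth.Agent.Lib.RelCodim_helper6.one_le_relCodim I p hIp
          rw [hc] at h0
          exact_mod_cast h0
        rcases Nat.eq_or_lt_of_le hc1 with hceq | hc2
        · subst hceq
          have h1 := h p hIp (by rw [hc, Nat.cast_one])
          rw [Nat.cast_one]
          exact (ENat.lt_add_one_iff' (ENat.coe_ne_top n)).2 h1
        · obtain ⟨q, hpq, hIq, hH⟩ := Groth.Agent.Lib.RelCodim_helper6.exists_height_eq_relCodim I p
            (by rw [hc]; exact ENat.coe_ne_top c)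
          rw [hc] at hH
          have hgap : ∃ p'' : PrimeSpectrum A, p < p'' ∧ p'' < q := by
            obtain ⟨s, hlast, hlen⟩ := Order.exists_series_of_le_height
              (⟨q, hpq⟩ : Set.Ici p) (n := 2) (by rw [hH]; exact_mod_cast hc2)
            have h12 : s ⟨1, by omega⟩ < s ⟨2, by omega⟩ :=
              s.strictMono (Fin.mk_lt_mk.2 (by norm_num))
            have h01 : s ⟨0, by omega⟩ < s ⟨1, by omega⟩ :=
              s.strictMono (Fin.mk_lt_mk.2 (by norm_num))
            have h2 : s ⟨2, by omega⟩ = ⟨q, hpq⟩ := by
              rw [← hlast]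
              exact congrArg s (Fin.ext hlen.symm)
            rw [h2] at h12
            have h0 : p ≤ (s ⟨0, by omega⟩).1 := (s ⟨0, by omega⟩).2
            have h01' : (s ⟨0, by omega⟩).1 < (s ⟨1, by omega⟩).1 := h01
            exact ⟨(s ⟨1, by omega⟩).1, lt_of_le_of_lt h0 h01', h12⟩
          obtain ⟨p'', hp''1, hp''2⟩ := hgap
          obtain ⟨a, haI, hap⟩ := SetLike.not_le_iff_exists.1 hIp
          haveI := p.2
          haveI := q.2
          haveI := p''.2
          obtain ⟨P, hPprime, hpP, hPq, haP, hcov⟩ :=
            Groth.Agent.Lib.CoverPrime_helper6.exists_cover_avoiding p.asIdeal q.asIdeal hpq a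
              (hIq haI) hap p''.asIdeal
              ((PrimeSpectrum.asIdeal_lt_asIdeal _ _).2 hp''1)
              ((PrimeSpectrum.asIdeal_lt_asIdeal _ _).2 hp''2)
          obtain ⟨p', hp'⟩ : ∃ p' : PrimeSpectrum A, p'.asIdeal = P := ⟨⟨P, hPprime⟩, rfl⟩
          subst hp'
          have hIp' : ¬ I ≤ p'.asIdeal := fun hle => haP (hle haI)
          have hpp' : p < p' := (PrimeSpectrum.asIdeal_lt_asIdeal p p').1 hpP
          have hp'q : p' ≤ q := (PrimeSpectrum.asIdeal_le_asIdeal p' q).1 hPq
          have h4 := Groth.Agent.Lib.RelCodim_helper6.height_Ici_succ_le p p' q hpp' hp'q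
          have hH' : Order.height (⟨q, le_trans hpp'.le hp'q⟩ : Set.Ici p) = c := hH
          rw [hH'] at h4
          have h5 := le_trans (add_le_add
            (Groth.Agent.Lib.RelCodim_helper6.relCodim_le I p' q hp'q hIq) le_rfl) h4
          have hne : SGA2.relCodim I p' ≠ ⊤ := by
            intro htop
            rw [htop, top_add] at h5
            exact ENat.coe_ne_top c (top_le_iff.1 h5)
          obtain ⟨c', hc'⟩ := ENat.ne_top_iff_exists.1 hne
          rw [← hc'] at h5
          have hc'lt : c' + 1 ≤ c := by exact_mod_cast h5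
          have hih := ih c' (by omega) p' hIp' hc'.symm
          have hA := Groth.Agent.Lib.DMod_helper6.depth_le_succ_of_cover R A hs M p p' hpp'.le hcov
          calc (n : ℕ∞) < LocCoh.depth (Localization.AtPrime p'.asIdeal)
                (LocalizedModule p'.asIdeal.primeCompl M) + c' := hih
            _ ≤ (LocCoh.depth (Localization.AtPrime p.asIdeal)
                (LocalizedModule p.asIdeal.primeCompl M) + 1) + c' := add_le_add hA le_rfl
            _ = LocCoh.depth (Localization.AtPrime p.asIdeal)
                (LocalizedModule p.asIdeal.primeCompl M) + ((c' + 1 : ℕ) : ℕ∞) := by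
                  push_cast
                  ring
            _ ≤ LocCoh.depth (Localization.AtPrime p.asIdeal)
                (LocalizedModule p.asIdeal.primeCompl M) + c :=
                  add_le_add le_rfl (by exact_mod_cast hc'lt)
    intro p hIp
    by_cases htop : SGA2.relCodim I p = ⊤
    · rw [htop, add_top]
      exact ENat.coe_lt_top n
    · obtain ⟨c, hc⟩ := ENat.ne_top_iff_exists.1 htop
      rw [← hc]
      exact claim c p hIp hc.symm

end Groth.Agent.S5172
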