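import Groth.Statements.S5209
import Mathlib
import Groth.Agent.Lib.EffEpi_helper8

set_option autoImplicit false
open CategoryTheory CategoryTheory.Limits
universe w v₁ u₁
open DescCat

namespace Groth.Agent.S5209

/-- In a category with pullbacks, let `f : S' ⟶ S` be a universal effective epimorphism, that is, a
morphism all of whose base changes are effective epimorphisms. Then a morphism `g` over `S` is an
isomorphism (resp. a monomorphism) if and only if its base change along `f` is. -/
theorem result {C : Type u₁} [Category.{v₁} C] [HasPullbacks C]
    {S' S : C} (f : S' ⟶ S) (hf : (MorphismProperty.universally (fun (A B : C) (p : A ⟶ B) => EffectiveEpi p)) f) {X Y : Over S} (g : X ⟶ Y) :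
    (IsIso g ↔ IsIso ((Over.pullback f).map g)) ∧ (Mono g ↔ Mono ((Over.pullback f).map g)) := by
  classical
  have hq : Groth.Agent.Lib.EffEpiH8.UEE (pullback.fst Y.hom f) :=
    Groth.Agent.Lib.EffEpiH8.uee_baseChange (IsPullback.of_hasPullback Y.hom f) hf
  have hsq : IsPullback ((Over.pullback f).map g).left (pullback.fst X.hom f)
      (pullback.fst Y.hom f) g.left := by
    have t : IsPullback (pullback.snd Y.hom f) (pullback.fst Y.hom f) f Y.hom :=
      (IsPullback.of_hasPullback Y.hom f).flip
    have s : IsPullback (((Over.pullback f).map g).left ≫ pullback.snd Y.hom f)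
        (pullback.fst X.hom f) f (g.left ≫ Y.hom) := by
      have h1 : ((Over.pullback f).map g).left ≫ pullback.snd Y.hom f = pullback.snd X.hom f := by
        have h' : Over.Hom.left ((Over.pullback f).map g) = _ :=
          Over.pullback_map_left f X (k := g)
        rw [h']
        exact pullback.lift_snd _ _ _
      rw [h1, Over.w g]
      exact (IsPullback.of_hasPullback X.hom f).flip
    refine s.of_right ?_ t
    have h' : Over.Hom.left ((Over.pullback f).map g) = _ :=
      Over.pullback_map_left f X (k := g)
    rw [h']
    exact pullback.lift_fst _ _ _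
  refine ⟨⟨fun h => inferInstance, fun h => ?_⟩, ⟨fun h => ?_, fun h => ?_⟩⟩
  · haveI : IsIso ((Over.pullback f).map g).left :=
      (Over.forget S').map_isIso ((Over.pullback f).map g)
    haveI : IsIso g.left := Groth.Agent.Lib.EffEpiH8.isIso_of_isPullback hsq hq
    haveI : IsIso ((Over.forget S).map g) := (inferInstance : IsIso g.left)
    exact isIso_of_reflects_iso g (Over.forget S)
  · haveI := (Over.mapPullbackAdj f).rightAdjoint_preservesLimits
    infer_instance
  · haveI : Mono ((Over.pullback f).map g).left := inferInstance
    haveI : Mono g.left := Groth.Agent.Lib.EffEpiH8.mono_of_isPullback hsq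
      (Groth.Agent.Lib.EffEpiH8.uee_universally_epi hq)
    exact Over.mono_of_mono_left g

end Groth.Agent.S5209
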