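import Groth.Statements.S5210
import Mathlib
import Groth.Agent.Lib.EffEpi_helper8

set_option autoImplicit false
open CategoryTheory CategoryTheory.Limits
universe w v₁ u₁
open DescCat

namespace Groth.Agent.S5210

/-- In a category with pullbacks, let `f : S' ⟶ S` be a universal effective epimorphism (all of its base
changes are effective epimorphisms) and `Y ⟶ S` a monomorphism. Then an object `X` over `S` admits a
morphism to `Y` over `S` if and only if it does so after base change along `f`. -/
theorem result {C : Type u₁} [Category.{v₁} C] [HasPullbacks C]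
    {S' S : C} (f : S' ⟶ S) (hf : (MorphismProperty.universally (fun (A B : C) (p : A ⟶ B) => EffectiveEpi p)) f) (X Y : Over S) [Mono Y.hom] :
    Nonempty (X ⟶ Y) ↔ Nonempty ((Over.pullback f).obj X ⟶ (Over.pullback f).obj Y) := by
  classical
  constructor
  · rintro ⟨h⟩; exact ⟨(Over.pullback f).map h⟩
  · rintro ⟨h'⟩
    have hp : Groth.Agent.Lib.EffEpiH8.UEE (pullback.fst X.hom f) :=
      Groth.Agent.Lib.EffEpiH8.uee_baseChange (IsPullback.of_hasPullback X.hom f) hf
    haveI := Groth.Agent.Lib.EffEpiH8.uee_effectiveEpi hp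
    have hw : h'.left ≫ pullback.snd Y.hom f = pullback.snd X.hom f := by
      simpa using Over.w h'
    have hkey : (h'.left ≫ pullback.fst Y.hom f) ≫ Y.hom = pullback.fst X.hom f ≫ X.hom := by
      rw [Category.assoc, pullback.condition, ← Category.assoc, hw, ← pullback.condition]
    have he : ∀ {Z : C} (a₁ a₂ : Z ⟶ pullback X.hom f),
        a₁ ≫ pullback.fst X.hom f = a₂ ≫ pullback.fst X.hom f →
        a₁ ≫ (h'.left ≫ pullback.fst Y.hom f) = a₂ ≫ (h'.left ≫ pullback.fst Y.hom f) := by
      intro Z a₁ a₂ h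
      rw [← cancel_mono Y.hom]
      calc (a₁ ≫ h'.left ≫ pullback.fst Y.hom f) ≫ Y.hom
          = a₁ ≫ (h'.left ≫ pullback.fst Y.hom f) ≫ Y.hom := by simp only [Category.assoc]
        _ = (a₁ ≫ pullback.fst X.hom f) ≫ X.hom := by rw [hkey, Category.assoc]
        _ = (a₂ ≫ pullback.fst X.hom f) ≫ X.hom := by rw [h]
        _ = a₂ ≫ (h'.left ≫ pullback.fst Y.hom f) ≫ Y.hom := by rw [hkey, Category.assoc]
        _ = (a₂ ≫ h'.left ≫ pullback.fst Y.hom f) ≫ Y.hom := by simp only [Category.assoc]
    refine ⟨Over.homMk (EffectiveEpi.desc (pullback.fst X.hom f)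
      (h'.left ≫ pullback.fst Y.hom f) he) ?_⟩
    rw [← cancel_epi (pullback.fst X.hom f), EffectiveEpi.fac_assoc]
    exact hkey

end Groth.Agent.S5210
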