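import Groth.Statements.S5211
import Mathlib
import Groth.Agent.Lib.EffEpi_helper8

set_option autoImplicit false
open CategoryTheory CategoryTheory.Limits
universe w v₁ u₁
open DescCat

namespace Groth.Agent.S5211

/-- In a category with pullbacks: if `f : S' ⟶ S` is a universal effective epimorphism and the canonical
map `S' ×_S S' ⟶ S' ×_T S'` induced by `g : S ⟶ T` is an isomorphism, then `g` is a monomorphism. -/
theorem result {C : Type u₁} [Category.{v₁} C] [HasPullbacks C]
    {S' S T : C} (f : S' ⟶ S) (hf : (MorphismProperty.universally (fun (A B : C) (p : A ⟶ B) => EffectiveEpi p)) f) (g : S ⟶ T)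
    [IsIso (pullback.mapDesc f f g)] : Mono g := by
  classical
  have hfepi := Groth.Agent.Lib.EffEpiH8.uee_universally_epi hf
  constructor
  intro Z x₁ x₂ hx
  have hr₁ : Epi (pullback.fst x₁ f) := hfepi _ _ _ (IsPullback.of_hasPullback x₁ f)
  have hr₂ : Epi (pullback.fst (pullback.fst x₁ f ≫ x₂) f) :=
    hfepi _ _ _ (IsPullback.of_hasPullback _ f)
  have hc₁ : pullback.fst x₁ f ≫ x₁ = pullback.snd x₁ f ≫ f := pullback.condition
  have hc₂ : pullback.fst (pullback.fst x₁ f ≫ x₂) f ≫ pullback.fst x₁ f ≫ x₂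
      = pullback.snd (pullback.fst x₁ f ≫ x₂) f ≫ f := pullback.condition
  have hyy : (pullback.fst (pullback.fst x₁ f ≫ x₂) f ≫ pullback.snd x₁ f) ≫ f ≫ g
      = pullback.snd (pullback.fst x₁ f ≫ x₂) f ≫ f ≫ g := by
    calc (pullback.fst (pullback.fst x₁ f ≫ x₂) f ≫ pullback.snd x₁ f) ≫ f ≫ g
        = pullback.fst (pullback.fst x₁ f ≫ x₂) f ≫ (pullback.snd x₁ f ≫ f) ≫ g := by
          simp only [Category.assoc]
      _ = pullback.fst (pullback.fst x₁ f ≫ x₂) f ≫ (pullback.fst x₁ f ≫ x₁) ≫ g := by rw [hc₁]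
      _ = (pullback.fst (pullback.fst x₁ f ≫ x₂) f ≫ pullback.fst x₁ f ≫ x₂) ≫ g := by
          simp only [Category.assoc, hx]
      _ = pullback.snd (pullback.fst x₁ f ≫ x₂) f ≫ f ≫ g := by rw [hc₂, Category.assoc]
  have hm1 : pullback.mapDesc f f g ≫ pullback.fst (f ≫ g) (f ≫ g) = pullback.fst f f := by
    unfold pullback.mapDesc pullback.map
    rw [pullback.lift_fst, Category.comp_id]
  have hm2 : pullback.mapDesc f f g ≫ pullback.snd (f ≫ g) (f ≫ g) = pullback.snd f f := by
    unfold pullback.mapDesc pullback.map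
    rw [pullback.lift_snd, Category.comp_id]
  have hi1 : inv (pullback.mapDesc f f g) ≫ pullback.fst f f = pullback.fst (f ≫ g) (f ≫ g) := by
    rw [IsIso.inv_comp_eq, hm1]
  have hi2 : inv (pullback.mapDesc f f g) ≫ pullback.snd f f = pullback.snd (f ≫ g) (f ≫ g) := by
    rw [IsIso.inv_comp_eq, hm2]
  have hfin : (pullback.fst (pullback.fst x₁ f ≫ x₂) f ≫ pullback.snd x₁ f) ≫ f
      = pullback.snd (pullback.fst x₁ f ≫ x₂) f ≫ f := by
    have h1 : (pullback.lift _ _ hyy ≫ inv (pullback.mapDesc f f g)) ≫ pullback.fst f f ≫ f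
        = (pullback.lift _ _ hyy ≫ inv (pullback.mapDesc f f g)) ≫ pullback.snd f f ≫ f := by
      rw [pullback.condition]
    rw [Category.assoc, Category.assoc, ← Category.assoc (inv _), ← Category.assoc (inv _), hi1,
      hi2, ← Category.assoc, ← Category.assoc, pullback.lift_fst, pullback.lift_snd] at h1
    exact h1
  rw [← cancel_epi (pullback.fst x₁ f), ← cancel_epi (pullback.fst (pullback.fst x₁ f ≫ x₂) f)]
  calc pullback.fst (pullback.fst x₁ f ≫ x₂) f ≫ pullback.fst x₁ f ≫ x₁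
      = pullback.fst (pullback.fst x₁ f ≫ x₂) f ≫ pullback.snd x₁ f ≫ f := by rw [hc₁]
    _ = pullback.snd (pullback.fst x₁ f ≫ x₂) f ≫ f := by rw [← Category.assoc, hfin]
    _ = pullback.fst (pullback.fst x₁ f ≫ x₂) f ≫ pullback.fst x₁ f ≫ x₂ := hc₂.symm

end Groth.Agent.S5211
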