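import Groth.Statements.S5212
import Mathlib

set_option autoImplicit false
universe u
open GrpQ

namespace Groth.Agent.S5212

/-- For `A'` finite and free as an `A`-module, a prime `p` of `A` and `a ∈ A'`, the element `a` belongs
to some prime of `A'` lying over `p` if and only if its norm belongs to `p`. (The published
statement allows `A'` projective of constant rank over `A`; this row takes `A'` free, where the norm
is the determinant of multiplication.) -/
theorem result {A A' : Type u} [CommRing A] [CommRing A'] [Algebra A A']
    [Module.Free A A'] [Module.Finite A A'] (p : Ideal A) [p.IsPrime] (a : A') :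
    (∃ q : Ideal A', q.IsPrime ∧ q.LiesOver p ∧ a ∈ q) ↔ Algebra.norm A a ∈ p := by
  classical
  constructor
  · rintro ⟨q, hq, hqp, haq⟩
    have h1 : algebraMap A A' (Algebra.norm A a) ∈ q := by
      have hch := LinearMap.aeval_self_charpoly (Algebra.lmul A A' a)
      have h2 : Polynomial.aeval a (Algebra.lmul A A' a).charpoly = 0 := by
        have h := Polynomial.aeval_algHom_apply (Algebra.lmul A A') a (Algebra.lmul A A' a).charpoly
        rw [hch] at h
        have h' := congrArg (fun g => g 1) h
        simpa using h'.symm
      have h3 : (Algebra.lmul A A' a).charpoly = (Algebra.lmul A A' a).charpoly.divX * Polynomial.X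
          + Polynomial.C ((Algebra.lmul A A' a).charpoly.coeff 0) :=
        (Polynomial.divX_mul_X_add _).symm
      rw [h3] at h2
      simp only [map_add, map_mul, Polynomial.aeval_X, Polynomial.aeval_C] at h2
      have h4 : algebraMap A A' ((Algebra.lmul A A' a).charpoly.coeff 0) ∈ q := by
        have h5 : algebraMap A A' ((Algebra.lmul A A' a).charpoly.coeff 0)
            = -(Polynomial.aeval a (Algebra.lmul A A' a).charpoly.divX * a) :=
          eq_neg_of_add_eq_zero_right h2
        rw [h5]
        exact q.neg_mem (q.mul_mem_left _ haq)
      rw [Algebra.norm_apply, LinearMap.det_eq_sign_charpoly_coeff, map_mul]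
      exact q.mul_mem_left _ h4
    rw [hqp.over]
    exact h1
  · intro hN
    let b := Module.Free.chooseBasis A A'
    let K : Ideal A' :=
      { carrier := {t | ∀ i j, Algebra.leftMulMatrix b t i j ∈ p}
        add_mem' := by
          intro x y hx hy i j
          rw [map_add, Matrix.add_apply]
          exact p.add_mem (hx i j) (hy i j)
        zero_mem' := by
          intro i j
          rw [map_zero, Matrix.zero_apply]
          exact p.zero_mem
        smul_mem' := by
          intro c t ht i j
          rw [smul_eq_mul, map_mul, Matrix.mul_apply]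
          exact p.sum_mem (fun k _ => p.mul_mem_left _ (ht k j)) }
    have hK : p.map (algebraMap A A') ≤ K := by
      rw [Ideal.map_le_iff_le_comap]
      intro x hx i j
      rw [AlgHom.commutes, Matrix.algebraMap_matrix_apply]
      split_ifs
      · exact hx
      · exact p.zero_mem
    have hdisj : Disjoint ((Ideal.span {a} ⊔ p.map (algebraMap A A') : Ideal A') : Set A')
        (Submonoid.map (algebraMap A A') p.primeCompl : Set A') := by
      rw [Set.disjoint_left]
      rintro _ hI ⟨s, hs, rfl⟩
      obtain ⟨y, hy, t, ht, hst⟩ := Submodule.mem_sup.mp hI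
      obtain ⟨c, rfl⟩ := Ideal.mem_span_singleton'.mp hy
      have hM : Algebra.leftMulMatrix b (algebraMap A A' s)
          = Algebra.leftMulMatrix b c * Algebra.leftMulMatrix b a + Algebra.leftMulMatrix b t := by
        rw [← map_mul, ← map_add, hst]
      have ht0 : (Ideal.Quotient.mk p).mapMatrix (Algebra.leftMulMatrix b t) = 0 := by
        ext i j
        rw [RingHom.mapMatrix_apply, Matrix.map_apply, Matrix.zero_apply,
          Ideal.Quotient.eq_zero_iff_mem]
        exact hK ht i j
      have hdet := congrArg (fun X => Ideal.Quotient.mk p X.det) hM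
      beta_reduce at hdet
      rw [AlgHom.commutes, Algebra.algebraMap_eq_smul_one, Matrix.det_smul, Matrix.det_one,
        mul_one, RingHom.map_det, map_add, map_mul, ht0, add_zero, Matrix.det_mul,
        ← RingHom.map_det _ (Algebra.leftMulMatrix b a), ← Algebra.norm_eq_matrix_det b a,
        Ideal.Quotient.eq_zero_iff_mem.mpr hN, mul_zero, Ideal.Quotient.eq_zero_iff_mem] at hdet
      exact hs (Ideal.IsPrime.mem_of_pow_mem inferInstance _ hdet)
    obtain ⟨q, hq, hIq, hqS⟩ := Ideal.exists_le_prime_disjoint _ _ hdisj
    refine ⟨q, hq, ⟨?_⟩, hIq (Ideal.mem_sup_left (Ideal.mem_span_singleton_self a))⟩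
    ext x
    constructor
    · intro hx
      exact hIq (Ideal.mem_sup_right (Ideal.mem_map_of_mem _ hx))
    · intro hx
      by_contra hxp
      exact Set.disjoint_left.mp hqS hx ⟨x, hxp, rfl⟩

end Groth.Agent.S5212
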