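import Groth.Statements.S5214
import Mathlib
import Groth.Agent.Lib.EffEpi_helper8

set_option autoImplicit false
open CategoryTheory CategoryTheory.Limits
universe w v₁ u₁
open DescCat

namespace Groth.Agent.S5214

/-- In a category with pullbacks and binary products: the product `u × u'` of two universal effective
epimorphisms (morphisms all of whose base changes are effective epimorphisms) is a universal
effective epimorphism. -/
theorem result {C : Type u₁} [Category.{v₁} C] [HasPullbacks C] [HasBinaryProducts C]
    {X Y X' Y' : C} (u : X ⟶ Y) (u' : X' ⟶ Y')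
    (hu : (MorphismProperty.universally (fun (A B : C) (p : A ⟶ B) => EffectiveEpi p)) u) (hu' : (MorphismProperty.universally (fun (A B : C) (p : A ⟶ B) => EffectiveEpi p)) u') :
    (MorphismProperty.universally (fun (A B : C) (p : A ⟶ B) => EffectiveEpi p)) (prod.map u u') := by
  classical
  have hA : IsPullback (prod.map u (𝟙 X')) prod.fst prod.fst u :=
    ⟨⟨by rw [prod.map_fst]⟩, ⟨PullbackCone.IsLimit.mk _
      (fun s => prod.lift s.snd (s.fst ≫ prod.snd))
      (fun s => by
        apply Limits.prod.hom_ext
        · rw [Category.assoc, prod.map_fst, prod.lift_fst_assoc, s.condition]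
        · rw [Category.assoc, prod.map_snd, prod.lift_snd_assoc, Category.comp_id])
      (fun s => by rw [prod.lift_fst])
      (fun s m h1 h2 => by
        apply Limits.prod.hom_ext
        · rw [prod.lift_fst]; exact h2
        · rw [prod.lift_snd, ← h1, Category.assoc, prod.map_snd, Category.comp_id])⟩⟩
  have hB : IsPullback (prod.map (𝟙 Y) u') prod.snd prod.snd u' :=
    ⟨⟨by rw [prod.map_snd]⟩, ⟨PullbackCone.IsLimit.mk _
      (fun s => prod.lift (s.fst ≫ prod.fst) s.snd)
      (fun s => by
        apply Limits.prod.hom_ext
        · rw [Category.assoc, prod.map_fst, prod.lift_fst_assoc, Category.comp_id]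
        · rw [Category.assoc, prod.map_snd, prod.lift_snd_assoc, s.condition])
      (fun s => by rw [prod.lift_snd])
      (fun s m h1 h2 => by
        apply Limits.prod.hom_ext
        · rw [prod.lift_fst, ← h1, Category.assoc, prod.map_fst, Category.comp_id]
        · rw [prod.lift_snd]; exact h2)⟩⟩
  have h1 := Groth.Agent.Lib.EffEpiH8.uee_baseChange hA hu
  have h2 := Groth.Agent.Lib.EffEpiH8.uee_baseChange hB hu'
  have h3 := Groth.Agent.Lib.EffEpiH8.uee_comp _ _ h2 h1
  have h4 : prod.map u (𝟙 X') ≫ prod.map (𝟙 Y) u' = prod.map u u' := by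
    rw [prod.map_map, Category.comp_id, Category.id_comp]
  rw [h4] at h3
  exact h3

end Groth.Agent.S5214
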