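import Groth.Statements.S5215
import Mathlib
import Groth.Agent.Lib.EffEpi_helper8

set_option autoImplicit false
open CategoryTheory CategoryTheory.Limits
universe w v₁ u₁
open DescCat

namespace Groth.Agent.S5215

/-- In a category with pullbacks: for a universally effective equivalence relation `p₁, p₂ : R ⇉ X` with
quotient map `π : X ⟶ X/R` and a morphism `g` out of the quotient, `g` is a monomorphism if and only
if `R` is the kernel pair of `π ≫ g`. -/
theorem result {C : Type u₁} [Category.{v₁} C] [HasPullbacks C]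
    {R X Z : C} {p₁ p₂ : R ⟶ X} (e : UniversallyEffectiveEquivalenceRelation p₁ p₂)
    (f : X ⟶ Z) (g : e.B ⟶ Z) (hg : e.π ≫ g = f) :
    Mono g ↔ IsKernelPair f p₁ p₂ := by
  have hπ : Groth.Agent.Lib.EffEpiH8.UEE e.π := e.universally_effectiveEpi_π
  constructor
  · intro hm
    subst hg
    exact e.isKernelPair.comp_of_mono
  · intro hk
    constructor
    intro T a b hab
    -- T₁ = pullback a π ; T₂ = pullback (fst ≫ b) π
    have h1 : Groth.Agent.Lib.EffEpiH8.UEE (pullback.fst a e.π) :=
      Groth.Agent.Lib.EffEpiH8.uee_baseChange (IsPullback.of_hasPullback a e.π) hπ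
    have h2 : Groth.Agent.Lib.EffEpiH8.UEE (pullback.fst (pullback.fst a e.π ≫ b) e.π) :=
      Groth.Agent.Lib.EffEpiH8.uee_baseChange
        (IsPullback.of_hasPullback (pullback.fst a e.π ≫ b) e.π) hπ
    have := Groth.Agent.Lib.EffEpiH8.uee_epi h1
    have := Groth.Agent.Lib.EffEpiH8.uee_epi h2
    have c1 : pullback.fst a e.π ≫ a = pullback.snd a e.π ≫ e.π := pullback.condition
    have c2 : pullback.fst (pullback.fst a e.π ≫ b) e.π ≫ pullback.fst a e.π ≫ b
        = pullback.snd (pullback.fst a e.π ≫ b) e.π ≫ e.π := pullback.condition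
    have hf : (pullback.fst (pullback.fst a e.π ≫ b) e.π ≫ pullback.snd a e.π) ≫ f
        = pullback.snd (pullback.fst a e.π ≫ b) e.π ≫ f := by
      rw [← hg, Category.assoc, ← reassoc_of% c1, hab, ← reassoc_of% c2]
    have key : pullback.fst (pullback.fst a e.π ≫ b) e.π ≫ pullback.fst a e.π ≫ a
        = pullback.fst (pullback.fst a e.π ≫ b) e.π ≫ pullback.fst a e.π ≫ b := by
      rw [c2, c1]
      have l1 := hk.lift_fst _ _ hf
      have l2 := hk.lift_snd _ _ hf
      rw [← l2, ← reassoc_of% l1, e.isKernelPair.w, Category.assoc]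
    exact (cancel_epi _).mp ((cancel_epi _).mp key)

end Groth.Agent.S5215
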