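import Groth.Statements.S5220
import Mathlib

set_option autoImplicit false
open CategoryTheory CategoryTheory.Limits
universe w v₁ u₁
open GrpQ

namespace Groth.Agent.S5220

/-- In a category with pullbacks: let `d₀ d₁ : X₁ ⇉ X₀` admit a common section and let `f₀ : Y₀ ⟶ X₀` be
an effective epimorphism which is also a universal epimorphism. For the inverse-image pair `Y₁ :=
(Y₀ ×_{X₀,d₁} X₁) ×_{d₀,X₀} Y₀ ⇉ Y₀`, every morphism out of `Y₀` equalized by the two projections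
descends uniquely to a morphism out of `X₀` equalized by `d₀, d₁`. (Only the common section of the
groupoid structure is used.) -/
theorem result {C : Type u₁} [Category.{v₁} C] [HasPullbacks C]
    {X₁ X₀ Y₀ : C} (d₀ d₁ : X₁ ⟶ X₀) (s : X₀ ⟶ X₁) (hs₀ : s ≫ d₀ = 𝟙 X₀) (hs₁ : s ≫ d₁ = 𝟙 X₀)
    (f₀ : Y₀ ⟶ X₀) [EffectiveEpi f₀]
    (hf : MorphismProperty.universally (MorphismProperty.epimorphisms C) f₀)
    {T : C} (g : Y₀ ⟶ T)
    (hg : (pullback.fst (pullback.snd f₀ d₁ ≫ d₀) f₀ ≫ pullback.fst f₀ d₁) ≫ g =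
      pullback.snd (pullback.snd f₀ d₁ ≫ d₀) f₀ ≫ g) :
    ∃! h : X₀ ⟶ T, d₁ ≫ h = d₀ ≫ h ∧ f₀ ≫ h = g := by
  have hP : Epi (pullback.snd f₀ d₁) := hf _ _ _ (IsPullback.of_hasPullback f₀ d₁).flip
  have hQ : Epi (pullback.fst (pullback.snd f₀ d₁ ≫ d₀) f₀) :=
    hf _ _ _ (IsPullback.of_hasPullback (pullback.snd f₀ d₁ ≫ d₀) f₀)
  have c1 : pullback.fst f₀ d₁ ≫ f₀ = pullback.snd f₀ d₁ ≫ d₁ := pullback.condition
  have c2 : pullback.fst (pullback.snd f₀ d₁ ≫ d₀) f₀ ≫ pullback.snd f₀ d₁ ≫ d₀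
      = pullback.snd (pullback.snd f₀ d₁ ≫ d₀) f₀ ≫ f₀ := pullback.condition
  have hdesc : ∀ {Z : C} (a b : Z ⟶ Y₀), a ≫ f₀ = b ≫ f₀ → a ≫ g = b ≫ g := by
    intro Z a b hab
    have e1 : a ≫ f₀ = (a ≫ f₀ ≫ s) ≫ d₁ := by
      rw [Category.assoc, Category.assoc, hs₁, Category.comp_id]
    have e2 : pullback.lift a (a ≫ f₀ ≫ s) e1 ≫ pullback.snd f₀ d₁ ≫ d₀ = b ≫ f₀ := by
      rw [pullback.lift_snd_assoc, Category.assoc, Category.assoc, hs₀, Category.comp_id, hab]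
    have h1 : pullback.lift (pullback.lift a (a ≫ f₀ ≫ s) e1) b e2 ≫
        (pullback.fst (pullback.snd f₀ d₁ ≫ d₀) f₀ ≫ pullback.fst f₀ d₁) = a := by
      rw [pullback.lift_fst_assoc, pullback.lift_fst]
    have h2 : pullback.lift (pullback.lift a (a ≫ f₀ ≫ s) e1) b e2 ≫
        pullback.snd (pullback.snd f₀ d₁ ≫ d₀) f₀ = b := by
      rw [pullback.lift_snd]
    rw [← h1, Category.assoc, hg, ← Category.assoc, h2]
  have hepi : Epi f₀ := inferInstance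
  refine ⟨EffectiveEpi.desc f₀ g hdesc, ⟨?_, EffectiveEpi.fac f₀ g hdesc⟩, ?_⟩
  · rw [← cancel_epi (pullback.snd f₀ d₁), ← cancel_epi (pullback.fst (pullback.snd f₀ d₁ ≫ d₀) f₀)]
    rw [← reassoc_of% c1, EffectiveEpi.fac, reassoc_of% c2, EffectiveEpi.fac]
    simpa only [Category.assoc] using hg
  · rintro h' ⟨_, h2⟩
    rw [← cancel_epi f₀, h2, EffectiveEpi.fac]

end Groth.Agent.S5220
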