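import Groth.Statements.S5221
import Mathlib
import Groth.Agent.S5220

set_option autoImplicit false
open CategoryTheory CategoryTheory.Limits
universe w v₁ u₁
open GrpQ

namespace Groth.Agent.S5221

/-- Existence part: in a category with pullbacks: with `d₀ d₁ : X₁ ⇉ X₀` admitting a common section and
`f₀ : Y₀ ⟶ X₀` an effective and universal epimorphism, the pair `(d₀, d₁)` has a coequalizer if and
only if its inverse-image pair on `Y₀` has one. -/
theorem result {C : Type u₁} [Category.{v₁} C] [HasPullbacks C]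
    {X₁ X₀ Y₀ : C} (d₀ d₁ : X₁ ⟶ X₀) (s : X₀ ⟶ X₁) (hs₀ : s ≫ d₀ = 𝟙 X₀) (hs₁ : s ≫ d₁ = 𝟙 X₀)
    (f₀ : Y₀ ⟶ X₀) [EffectiveEpi f₀]
    (hf : MorphismProperty.universally (MorphismProperty.epimorphisms C) f₀) :
    HasCoequalizer d₁ d₀ ↔
      HasCoequalizer (pullback.fst (pullback.snd f₀ d₁ ≫ d₀) f₀ ≫ pullback.fst f₀ d₁)
        (pullback.snd (pullback.snd f₀ d₁ ≫ d₀) f₀) := by
  have hP : Epi (pullback.snd f₀ d₁) := hf _ _ _ (IsPullback.of_hasPullback f₀ d₁).flip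
  have hQ : Epi (pullback.fst (pullback.snd f₀ d₁ ≫ d₀) f₀) :=
    hf _ _ _ (IsPullback.of_hasPullback (pullback.snd f₀ d₁ ≫ d₀) f₀)
  have c1 : pullback.fst f₀ d₁ ≫ f₀ = pullback.snd f₀ d₁ ≫ d₁ := pullback.condition
  have c2 : pullback.fst (pullback.snd f₀ d₁ ≫ d₀) f₀ ≫ pullback.snd f₀ d₁ ≫ d₀
      = pullback.snd (pullback.snd f₀ d₁ ≫ d₀) f₀ ≫ f₀ := pullback.condition
  have hepi : Epi f₀ := inferInstance
  -- a morphism out of X₀ coequalizing d₁,d₀ gives one out of Y₀ coequalizing the pair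
  have hco : ∀ {T : C} (t : X₀ ⟶ T), d₁ ≫ t = d₀ ≫ t →
      (pullback.fst (pullback.snd f₀ d₁ ≫ d₀) f₀ ≫ pullback.fst f₀ d₁) ≫ f₀ ≫ t =
      pullback.snd (pullback.snd f₀ d₁ ≫ d₀) f₀ ≫ f₀ ≫ t := by
    intro T t ht
    rw [Category.assoc, reassoc_of% c1, ht, reassoc_of% c2]
  constructor
  · intro hc
    have H : ∀ k : Cofork (pullback.fst (pullback.snd f₀ d₁ ≫ d₀) f₀ ≫ pullback.fst f₀ d₁)
        (pullback.snd (pullback.snd f₀ d₁ ≫ d₀) f₀),
        ∃! h : X₀ ⟶ k.pt, d₁ ≫ h = d₀ ≫ h ∧ f₀ ≫ h = k.π :=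
      fun k => Groth.Agent.S5220.result d₀ d₁ s hs₀ hs₁ f₀ hf k.π k.condition
    choose h hh using H
    refine ⟨⟨⟨Cofork.ofπ (f₀ ≫ coequalizer.π d₁ d₀) (hco _ (coequalizer.condition d₁ d₀)),
      Cofork.IsColimit.mk _ (fun k => coequalizer.desc (h k) (hh k).1.1) ?_ ?_⟩⟩⟩
    · intro k
      change (f₀ ≫ coequalizer.π d₁ d₀) ≫ coequalizer.desc (h k) (hh k).1.1 = k.π
      rw [Category.assoc, coequalizer.π_desc, (hh k).1.2]
    · intro k m hm
      change (f₀ ≫ coequalizer.π d₁ d₀) ≫ m = k.π at hm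
      have key : ∀ m' : coequalizer d₁ d₀ ⟶ k.pt, (f₀ ≫ coequalizer.π d₁ d₀) ≫ m' = k.π →
          m' = coequalizer.desc (h k) (hh k).1.1 := by
        intro m' hm'
        apply coequalizer.hom_ext
        rw [coequalizer.π_desc]
        apply (hh k).2
        refine ⟨?_, ?_⟩
        · rw [← Category.assoc, coequalizer.condition d₁ d₀, Category.assoc]
        · rw [← hm', Category.assoc]
      exact key m hm
  · intro hc
    obtain ⟨h, ⟨hh1, hh2⟩, hh3⟩ := Groth.Agent.S5220.result d₀ d₁ s hs₀ hs₁ f₀ hf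
      (coequalizer.π (pullback.fst (pullback.snd f₀ d₁ ≫ d₀) f₀ ≫ pullback.fst f₀ d₁)
        (pullback.snd (pullback.snd f₀ d₁ ≫ d₀) f₀)) (coequalizer.condition _ _)
    refine ⟨⟨⟨Cofork.ofπ h hh1, Cofork.IsColimit.mk _
      (fun k => coequalizer.desc (f₀ ≫ k.π) (hco k.π k.condition)) ?_ ?_⟩⟩⟩
    · intro k
      change h ≫ coequalizer.desc (f₀ ≫ k.π) (hco k.π k.condition) = k.π
      rw [← cancel_epi f₀, ← Category.assoc, hh2, coequalizer.π_desc]
    · intro k m hm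
      change h ≫ m = k.π at hm
      have key : ∀ m' : coequalizer (pullback.fst (pullback.snd f₀ d₁ ≫ d₀) f₀ ≫ pullback.fst f₀ d₁)
          (pullback.snd (pullback.snd f₀ d₁ ≫ d₀) f₀) ⟶ k.pt, h ≫ m' = k.π →
          m' = coequalizer.desc (f₀ ≫ k.π) (hco k.π k.condition) := by
        intro m' hm'
        apply coequalizer.hom_ext
        rw [coequalizer.π_desc, ← hm', ← Category.assoc, hh2]
      exact key m hm

end Groth.Agent.S5221
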