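import Groth.Statements.S5222
import Mathlib

set_option autoImplicit false
open CategoryTheory CategoryTheory.Limits MonoidalCategory
universe v₁ u₁
open DescCat

namespace Groth.Agent.S5222

open MonObj CartesianMonoidalCategory SemiCartesianMonoidalCategory in
/-- In a cartesian monoidal category with pullbacks: for a homomorphism `f : G ⟶ G'` of group objects
with kernel `K = G ×_{G'} e`, the pair `G × K ⇉ G` given by the projection and by multiplication is
the kernel pair of `f`. -/
theorem result {C : Type u₁} [Category.{v₁} C]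
    [CartesianMonoidalCategory C] [HasPullbacks C]
    {G G' : C} [GrpObj G] [GrpObj G'] (f : G ⟶ G') [IsMonHom f] :
    IsKernelPair f (fst G (pullback f η[G']))
      ((G ◁ pullback.fst f η[G']) ≫ μ[G]) := by
  have hk : pullback.fst f η[G'] ≫ f = 1 := by
    rw [pullback.condition, Hom.one_def]
    congr 1
    exact toUnit_unique _ _
  have hmul : ∀ {T : C} (m : T ⟶ G ⊗ pullback f η[G']),
      m ≫ (G ◁ pullback.fst f η[G']) ≫ μ[G]
        = (m ≫ fst G (pullback f η[G'])) * (m ≫ snd G (pullback f η[G']) ≫ pullback.fst f η[G']) := by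
    intro T m
    rw [Hom.mul_def, ← Category.assoc]
    congr 1
    apply CartesianMonoidalCategory.hom_ext
    · rw [Category.assoc, whiskerLeft_fst, lift_fst]
    · rw [Category.assoc, whiskerLeft_snd, lift_snd]
  have hcond : ∀ s : PullbackCone f f, (s.fst⁻¹ * s.snd) ≫ f = toUnit s.pt ≫ η[G'] := by
    intro s
    rw [MonObj.mul_comp, GrpObj.inv_comp, s.condition, _root_.inv_mul_cancel, Hom.one_def]
  refine IsPullback.mk ⟨?_⟩ ⟨PullbackCone.IsLimit.mk _
    (fun s => lift s.fst (pullback.lift (s.fst⁻¹ * s.snd) (toUnit s.pt) (hcond s))) ?_ ?_ ?_⟩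
  · have h1 := hmul (𝟙 (G ⊗ pullback f η[G']))
    rw [Category.id_comp, Category.id_comp, Category.id_comp] at h1
    rw [h1, MonObj.mul_comp, Category.assoc, hk, MonObj.comp_one, _root_.mul_one]
  · intro s
    rw [lift_fst]
  · intro s
    rw [hmul, lift_fst, lift_snd_assoc, pullback.lift_fst, mul_inv_cancel_left]
  · intro s m h1 h2
    apply CartesianMonoidalCategory.hom_ext
    · rw [lift_fst, h1]
    · rw [lift_snd]
      apply pullback.hom_ext
      · rw [pullback.lift_fst, Category.assoc]
        have h3 := hmul m
        rw [h2, h1] at h3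
        rw [h3, inv_mul_cancel_left]
      · exact toUnit_unique _ _

end Groth.Agent.S5222
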