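import Groth.Statements.S5226
import Mathlib
import Groth.Agent.Lib.SheafEpi_helper8
import Groth.Agent.Lib.EffEpi2_helper8

set_option autoImplicit false
open CategoryTheory CategoryTheory.Limits
universe w v₁ u₁
open ShfCat

namespace Groth.Agent.S5226

/-- For sheaves of sets on a site with sheafification: if `R ⇉ X` is an equivalence relation with
(universally effective) quotient `X/R` and `Y ⊆ X` is a subsheaf with induced relation `R_Y`, then
the canonical map `Y/R_Y ⟶ X/R` is a monomorphism. Here `R_Y` is built as the iterated pullback of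
`R` along `Y ⟶ X` on both sides. -/
theorem result {C : Type u₁} [Category.{v₁} C]
    (J : GrothendieckTopology C) [HasSheafify J (Type w)]
    {R X Y : Sheaf J (Type w)} {p₁ p₂ : R ⟶ X} (e : UniversallyEffectiveEquivalenceRelation p₁ p₂)
    (ι : Y ⟶ X) [Mono ι]
    [HasCoequalizer (pullback.fst (pullback.fst p₁ ι ≫ p₂) ι ≫ pullback.snd p₁ ι)
      (pullback.snd (pullback.fst p₁ ι ≫ p₂) ι)]
    (g : coequalizer (pullback.fst (pullback.fst p₁ ι ≫ p₂) ι ≫ pullback.snd p₁ ι)
      (pullback.snd (pullback.fst p₁ ι ≫ p₂) ι) ⟶ e.B)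
    (hg : coequalizer.π _ _ ≫ g = ι ≫ e.π) :
    Mono g := by
  have hepi : Epi (coequalizer.π (pullback.fst (pullback.fst p₁ ι ≫ p₂) ι ≫ pullback.snd p₁ ι)
      (pullback.snd (pullback.fst p₁ ι ≫ p₂) ι)) := inferInstance
  have hπ := Groth.Agent.Lib.EffEpiH8.uee_universally_epi
    (Groth.Agent.Lib.SheafEpiH8.epi_uee J
      (coequalizer.π (pullback.fst (pullback.fst p₁ ι ≫ p₂) ι ≫ pullback.snd p₁ ι)
      (pullback.snd (pullback.fst p₁ ι ≫ p₂) ι)))
  apply Groth.Agent.Lib.EffEpiH8.mono_of_isKernelPair_comp _ hπ (coequalizer.condition _ _) g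
  rw [hg]
  have c1 : pullback.fst p₁ ι ≫ p₁ = pullback.snd p₁ ι ≫ ι := pullback.condition
  have c2 : pullback.fst (pullback.fst p₁ ι ≫ p₂) ι ≫ pullback.fst p₁ ι ≫ p₂
      = pullback.snd (pullback.fst p₁ ι ≫ p₂) ι ≫ ι := pullback.condition
  have hw : p₁ ≫ e.π = p₂ ≫ e.π := e.isKernelPair.w
  have hcond : ∀ s : PullbackCone (ι ≫ e.π) (ι ≫ e.π),
      (s.fst ≫ ι) ≫ e.π = (s.snd ≫ ι) ≫ e.π := by
    intro s
    simpa only [Category.assoc] using s.condition
  have hl1 : ∀ s : PullbackCone (ι ≫ e.π) (ι ≫ e.π),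
      e.isKernelPair.lift (s.fst ≫ ι) (s.snd ≫ ι) (hcond s) ≫ p₁ = s.fst ≫ ι :=
    fun s => e.isKernelPair.lift_fst _ _ _
  have hl2 : ∀ s : PullbackCone (ι ≫ e.π) (ι ≫ e.π),
      pullback.lift (e.isKernelPair.lift (s.fst ≫ ι) (s.snd ≫ ι) (hcond s)) s.fst (hl1 s)
        ≫ pullback.fst p₁ ι ≫ p₂ = s.snd ≫ ι := by
    intro s
    rw [pullback.lift_fst_assoc]
    exact e.isKernelPair.lift_snd _ _ _
  refine IsPullback.mk ⟨?_⟩ ⟨PullbackCone.IsLimit.mk _
    (fun s => pullback.lift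
      (pullback.lift (e.isKernelPair.lift (s.fst ≫ ι) (s.snd ≫ ι) (hcond s)) s.fst (hl1 s))
      s.snd (hl2 s)) ?_ ?_ ?_⟩
  · rw [Category.assoc, ← reassoc_of% c1, hw, reassoc_of% c2]
  · intro s
    rw [pullback.lift_fst_assoc, pullback.lift_snd]
  · intro s
    rw [pullback.lift_snd]
  · intro s m h1 h2
    apply pullback.hom_ext
    · rw [pullback.lift_fst]
      apply pullback.hom_ext
      · rw [pullback.lift_fst]
        apply e.isKernelPair.hom_ext
        · rw [hl1 s, Category.assoc, Category.assoc, c1, ← h1, Category.assoc, Category.assoc]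
        · rw [e.isKernelPair.lift_snd, Category.assoc, Category.assoc, c2, ← h2, Category.assoc]
      · rw [pullback.lift_snd, ← h1, Category.assoc]
    · rw [pullback.lift_snd, ← h2]

end Groth.Agent.S5226
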