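import Groth.Statements.S5227
import Mathlib
import Groth.Agent.Lib.GrpRel_helper8

set_option autoImplicit false
open CategoryTheory CategoryTheory.Limits
universe w v₁ u₁
open ShfCat

namespace Groth.Agent.S5227


section Gen
open Groth.Agent.Lib.GrpRelH8
universe v u
variable {D : Type u} [Category.{v} D] [HasPullbacks D]

theorem le_of_pullback_le (hT : ToposLike D) {X B : D} (π : X ⟶ B) [Epi π] (Y₁ Y₂ : Subobject B)
    (h : (Subobject.pullback π).obj Y₁ ≤ (Subobject.pullback π).obj Y₂) : Y₁ ≤ Y₂ := by
  have H1 := Subobject.isPullback π Y₁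
  have H2 := Subobject.isPullback π Y₂
  have hq : Epi (Subobject.pullbackπ π Y₁) := hT.epi_bc H1 inferInstance
  have hEff : EffectiveEpi (Subobject.pullbackπ π Y₁) := hT.eff _ hq
  have hf : (Subobject.ofLE _ _ h ≫ Subobject.pullbackπ π Y₂) ≫ Y₂.arrow
      = Subobject.pullbackπ π Y₁ ≫ Y₁.arrow := by
    rw [Category.assoc, H2.w, ← Category.assoc, Subobject.ofLE_arrow, ← H1.w]
  have hd : ∀ {Z : D} (a b : Z ⟶ ((Subobject.pullback π).obj Y₁ : D)),
      a ≫ Subobject.pullbackπ π Y₁ = b ≫ Subobject.pullbackπ π Y₁ →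
      a ≫ (Subobject.ofLE _ _ h ≫ Subobject.pullbackπ π Y₂)
        = b ≫ (Subobject.ofLE _ _ h ≫ Subobject.pullbackπ π Y₂) := by
    intro Z a b hab
    rw [← cancel_mono Y₂.arrow, Category.assoc a, Category.assoc b, hf, ← Category.assoc, hab,
      Category.assoc]
  refine Subobject.le_of_comm (EffectiveEpi.desc (Subobject.pullbackπ π Y₁)
    (Subobject.ofLE _ _ h ≫ Subobject.pullbackπ π Y₂) hd) ?_
  rw [← cancel_epi (Subobject.pullbackπ π Y₁), ← Category.assoc, EffectiveEpi.fac, hf]

theorem exists_pullback_eq (hT : ToposLike D)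
    (himg : ∀ {A B : D} (f : A ⟶ B), ∃ (I : D) (e : A ⟶ I) (m : I ⟶ B), Epi e ∧ Mono m ∧ e ≫ m = f)
    {R X B : D} {p₁ p₂ : R ⟶ X} (π : X ⟶ B) (hk : IsKernelPair π p₁ p₂)
    (Y : Subobject X) (hY : (Subobject.pullback p₁).obj Y = (Subobject.pullback p₂).obj Y) :
    ∃ Y' : Subobject B, (Subobject.pullback π).obj Y' = Y := by
  obtain ⟨I, e, m, he, hm, hem⟩ := himg (Y.arrow ≫ π)
  refine ⟨Subobject.mk m, le_antisymm ?_ ?_⟩
  · -- P ≤ Y
    have HP := Subobject.isPullback π (Subobject.mk m)
    have hq : (Subobject.pullbackπ π (Subobject.mk m) ≫ (Subobject.underlyingIso m).hom) ≫ m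
        = ((Subobject.pullback π).obj (Subobject.mk m)).arrow ≫ π := by
      rw [Category.assoc, Subobject.underlyingIso_hom_comp_eq_mk, HP.w]
    have c0 : pullback.fst e (Subobject.pullbackπ π (Subobject.mk m) ≫
        (Subobject.underlyingIso m).hom) ≫ e
        = pullback.snd e (Subobject.pullbackπ π (Subobject.mk m) ≫
        (Subobject.underlyingIso m).hom) ≫ (Subobject.pullbackπ π (Subobject.mk m) ≫
        (Subobject.underlyingIso m).hom) := pullback.condition
    have hw2 : Epi (pullback.snd e (Subobject.pullbackπ π (Subobject.mk m) ≫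
        (Subobject.underlyingIso m).hom)) :=
      hT.epi_bc (IsPullback.of_hasPullback e _).flip he
    have hEff := hT.eff _ hw2
    have hr : (pullback.fst e (Subobject.pullbackπ π (Subobject.mk m) ≫
        (Subobject.underlyingIso m).hom) ≫ Y.arrow) ≫ π
        = (pullback.snd e (Subobject.pullbackπ π (Subobject.mk m) ≫
        (Subobject.underlyingIso m).hom) ≫
          ((Subobject.pullback π).obj (Subobject.mk m)).arrow) ≫ π := by
      rw [Category.assoc, ← hem, reassoc_of% c0, Category.assoc, ← hq]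
      simp only [Category.assoc]
    have H₁ := Subobject.isPullback p₁ Y
    have H₂ := Subobject.isPullback p₂ Y
    have hl1 : pullback.fst e (Subobject.pullbackπ π (Subobject.mk m) ≫
        (Subobject.underlyingIso m).hom) ≫ Y.arrow = hk.lift _ _ hr ≫ p₁ := (hk.lift_fst _ _ hr).symm
    have ht : (H₁.lift _ _ hl1 ≫ Subobject.ofLE _ _ (le_of_eq hY) ≫ Subobject.pullbackπ p₂ Y)
        ≫ Y.arrow = pullback.snd e (Subobject.pullbackπ π (Subobject.mk m) ≫
        (Subobject.underlyingIso m).hom) ≫
          ((Subobject.pullback π).obj (Subobject.mk m)).arrow := by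
      rw [Category.assoc, Category.assoc, H₂.w, ← Category.assoc (Subobject.ofLE _ _ _),
        Subobject.ofLE_arrow, ← Category.assoc, H₁.lift_snd, hk.lift_snd]
    have hd : ∀ {Z : D} (a b : Z ⟶ pullback e (Subobject.pullbackπ π (Subobject.mk m) ≫
        (Subobject.underlyingIso m).hom)),
        a ≫ pullback.snd e (Subobject.pullbackπ π (Subobject.mk m) ≫
          (Subobject.underlyingIso m).hom)
        = b ≫ pullback.snd e (Subobject.pullbackπ π (Subobject.mk m) ≫
          (Subobject.underlyingIso m).hom) →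
        a ≫ (H₁.lift _ _ hl1 ≫ Subobject.ofLE _ _ (le_of_eq hY) ≫ Subobject.pullbackπ p₂ Y)
        = b ≫ (H₁.lift _ _ hl1 ≫ Subobject.ofLE _ _ (le_of_eq hY) ≫ Subobject.pullbackπ p₂ Y) := by
      intro Z a b hab
      rw [← cancel_mono Y.arrow, Category.assoc a, Category.assoc b, ht, ← Category.assoc, hab,
        Category.assoc]
    refine Subobject.le_of_comm (EffectiveEpi.desc (pullback.snd e
      (Subobject.pullbackπ π (Subobject.mk m) ≫ (Subobject.underlyingIso m).hom))
      (H₁.lift _ _ hl1 ≫ Subobject.ofLE _ _ (le_of_eq hY) ≫ Subobject.pullbackπ p₂ Y) hd) ?_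
    rw [← cancel_epi (pullback.snd e (Subobject.pullbackπ π (Subobject.mk m) ≫
        (Subobject.underlyingIso m).hom)), ← Category.assoc, EffectiveEpi.fac, ht]
  · -- Y ≤ P
    have HP := Subobject.isPullback π (Subobject.mk m)
    have h1 : (e ≫ (Subobject.underlyingIso m).inv) ≫ (Subobject.mk m).arrow = Y.arrow ≫ π := by
      rw [Category.assoc, Subobject.underlyingIso_arrow, hem]
    exact Subobject.le_of_comm (HP.lift _ _ h1) (HP.lift_snd _ _ h1)

theorem subobject_bij (hT : ToposLike D)
    (himg : ∀ {A B : D} (f : A ⟶ B), ∃ (I : D) (e : A ⟶ I) (m : I ⟶ B), Epi e ∧ Mono m ∧ e ≫ m = f)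
    {R X B : D} {p₁ p₂ : R ⟶ X} (π : X ⟶ B) [Epi π] (hk : IsKernelPair π p₁ p₂) :
    Function.Injective (Subobject.pullback π).obj ∧
      Set.range (Subobject.pullback π).obj =
        {Y : Subobject X | (Subobject.pullback p₁).obj Y = (Subobject.pullback p₂).obj Y} := by
  constructor
  · intro Y₁ Y₂ h
    exact le_antisymm (le_of_pullback_le hT π Y₁ Y₂ (le_of_eq h))
      (le_of_pullback_le hT π Y₂ Y₁ (le_of_eq h.symm))
  · ext Y
    constructor
    · rintro ⟨Y', rfl⟩
      change (Subobject.pullback p₁).obj ((Subobject.pullback π).obj Y')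
        = (Subobject.pullback p₂).obj ((Subobject.pullback π).obj Y')
      rw [← Subobject.pullback_comp, ← Subobject.pullback_comp, hk.w]
    · intro hY
      exact exists_pullback_eq hT himg π hk Y hY

end Gen

/-- For sheaves of sets on a site with sheafification: for an equivalence relation `R ⇉ X` with
(universally effective) quotient `π : X ⟶ X/R`, inverse image along `π` is a bijection from the
subsheaves of `X/R` onto the subsheaves of `X` stable under `R` (those whose two inverse images in
`R` agree). -/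
theorem result {C : Type u₁} [Category.{v₁} C]
    (J : GrothendieckTopology C) [HasSheafify J (Type w)]
    {R X : Sheaf J (Type w)} {p₁ p₂ : R ⟶ X} (e : UniversallyEffectiveEquivalenceRelation p₁ p₂) :
    Function.Injective (Subobject.pullback e.π).obj ∧
      Set.range (Subobject.pullback e.π).obj =
        {Y : Subobject X | (Subobject.pullback p₁).obj Y = (Subobject.pullback p₂).obj Y} := by
  have hre : IsRegularEpi e.π := inferInstance
  have hepi : Epi e.π := inferInstance
  refine subobject_bij (Groth.Agent.Lib.GrpRelH8.sheaf_toposLike J) ?_ e.π e.isKernelPair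
  intro A B f
  exact ⟨Sheaf.image f, Sheaf.toImage f, Sheaf.imageι f, inferInstance, inferInstance,
    Sheaf.toImage_ι f⟩

end Groth.Agent.S5227
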