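import Groth.Statements.S5234
import Mathlib
import Groth.Agent.Lib.GrpSchIso_helper7
import Groth.Agent.Lib.SchSrcLocal_helper7

set_option autoImplicit false
open CategoryTheory CategoryTheory.Limits AlgebraicGeometry MonoidalCategory
universe u
open RedSub

namespace Groth.Agent.S5234
open MonObj CartesianMonoidalCategory

open CartesianMonoidalCategory SemiCartesianMonoidalCategory in
/-- (ii) ⇔ (iii), for schemes with the fppf topology: let `G` be an `S`-group scheme which is faithfully
flat and locally of finite presentation over `S`, acting on `X` so that `X` is formally principal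
homogeneous. Then `X` is a torsor (its structure map is faithfully flat and locally of finite
presentation) if and only if `X` has a point over some faithfully flat, locally finitely presented
`S' ⟶ S`. -/
theorem result {S : Scheme.{u}} {G X : Over S} [GrpObj G]
    (a : AlgGrp.Action G X)
    [Flat G.hom] [Surjective G.hom] [LocallyOfFinitePresentation G.hom]
    (hX : IsIso (lift a.act (snd G X))) :
    RedSub.IsTorsor a ↔
      ∃ S' : Over S, Surjective S'.hom ∧ Flat S'.hom ∧ LocallyOfFinitePresentation S'.hom ∧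
        Nonempty (S' ⟶ X) := by
  constructor
  · rintro ⟨h1, h2, h3, _⟩
    exact ⟨X, h1, h2, h3, ⟨𝟙 X⟩⟩
  rintro ⟨S', hs, hf, hl, ⟨x⟩⟩
  haveI := hs; haveI := hf; haveI := hl
  let φ' := lift a.act (snd G X)
  haveI : IsIso φ' := hX
  let ψ : G ⊗ S' ⟶ X ⊗ S' := lift ((G ◁ x) ≫ a.act) (snd G S')
  let ψinv : X ⊗ S' ⟶ G ⊗ S' := lift ((X ◁ x) ≫ inv φ' ≫ fst G X) (snd X S')
  have h1 : inv φ' ≫ snd G X = snd X X := by rw [IsIso.inv_comp_eq]; simp [φ']
  have h2 : inv φ' ≫ a.act = fst X X := by rw [IsIso.inv_comp_eq]; simp [φ']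
  have h3 : ψ ≫ (X ◁ x) = (G ◁ x) ≫ φ' := by
    apply CartesianMonoidalCategory.hom_ext <;> simp [ψ, φ']
  have h4 : ψinv ≫ (G ◁ x) = (X ◁ x) ≫ inv φ' := by
    apply CartesianMonoidalCategory.hom_ext
    · simp [ψinv]
    · simp [ψinv, h1]
  have hψ1 : ψ ≫ ψinv = 𝟙 _ := by
    apply CartesianMonoidalCategory.hom_ext
    · simp only [ψinv, comp_lift, lift_fst, Category.id_comp]
      rw [← Category.assoc, h3]; simp
    · simp [ψinv, ψ]
  have hψ2 : ψinv ≫ ψ = 𝟙 _ := by
    apply CartesianMonoidalCategory.hom_ext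
    · simp only [ψ, comp_lift, lift_fst, Category.id_comp]
      rw [← Category.assoc, h4, Category.assoc, h2]; simp
    · simp [ψ, ψinv]
  haveI : IsIso ψ := ⟨ψinv, hψ1, hψ2⟩
  have hsnd : snd X S' = inv ψ ≫ snd G S' := by rw [IsIso.eq_inv_comp]; simp [ψ]
  haveI : IsIso (inv ψ).left := GrpSchIsoH7.isIso_left_of_isIso _
  have hsnd' : Limits.pullback.snd X.hom S'.hom = (inv ψ).left ≫ Limits.pullback.snd G.hom S'.hom :=
    congrArg (fun k => k.left) hsnd
  haveI hP1 : Surjective (Limits.pullback.snd X.hom S'.hom) := by rw [hsnd']; infer_instance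
  haveI hP2 : Flat (Limits.pullback.snd X.hom S'.hom) := by rw [hsnd']; infer_instance
  haveI hP3 : LocallyOfFinitePresentation (Limits.pullback.snd X.hom S'.hom) := by
    rw [hsnd']; infer_instance
  have hpb := (IsPullback.of_hasPullback X.hom S'.hom).flip
  have hQ : (@Surjective ⊓ @Flat ⊓ @LocallyOfFinitePresentation : MorphismProperty Scheme) S'.hom :=
    ⟨⟨hs, hf⟩, hl⟩
  refine ⟨?_, ?_, ?_, hX⟩
  · haveI : Surjective (Limits.pullback.fst X.hom S'.hom ≫ X.hom) := by
      rw [Limits.pullback.condition]; infer_instance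
    exact Surjective.of_comp (Limits.pullback.fst X.hom S'.hom) X.hom
  · haveI : Flat (Limits.pullback.fst X.hom S'.hom ≫ X.hom) := by
      rw [Limits.pullback.condition]; infer_instance
    exact Groth.Agent.Lib.SchSrcLocal_helper7.flat_of_comp_surjective
      (Limits.pullback.fst X.hom S'.hom) X.hom
  · exact MorphismProperty.of_isPullback_of_descendsAlong (P := @LocallyOfFinitePresentation)
      (Q := @Surjective ⊓ @Flat ⊓ @LocallyOfFinitePresentation) hpb hQ hP3

end Groth.Agent.S5234
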