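import Groth.Statements.S5236
import Mathlib
import Groth.Agent.Lib.GrpSchFppf2_helper7
import Groth.Agent.Lib.GrpObjQuot_helper7

set_option autoImplicit false
open CategoryTheory CategoryTheory.Limits AlgebraicGeometry MonoidalCategory
universe u
open RedSub

namespace Groth.Agent.S5236
open MonObj CartesianMonoidalCategory

/-- For group schemes and the fppf topology: if `i : H ⟶ G` is a normal monomorphism of `S`-group
schemes and `q : G ⟶ Q` exhibits `Q` as the fppf quotient `G/H`, then there is exactly one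
group-scheme structure on `Q` over `S` making `q` a homomorphism. -/
theorem result {S : Scheme.{u}} {H G Q : Over S} [GrpObj H] [hG : GrpObj G]
    (i : H ⟶ G) [IsMonHom i] [Mono i] (hn : AlgGrp.IsNormalHom i)
    (q : G ⟶ Q) (hq : RedSub.IsQuotient i q) :
    ∃! s : GrpObj Q, @IsMonHom (Over S) _ _ G Q hG.toMonObj s.toMonObj q := by
  obtain ⟨hs, hfl, hlfp, hpb⟩ := hq
  haveI := hs; haveI := hfl; haveI := hlfp
  haveI : Epi q := GrpSchFppfH7.epi_of_fppf q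
  obtain ⟨f1, f2, f3⟩ := GrpSchFppfH7.fppf_tensorHom q q
  haveI := f1; haveI := f2; haveI := f3
  haveI : Epi (q ⊗ₘ q) := GrpSchFppfH7.epi_of_fppf _
  have h3 : Epi ((q ⊗ₘ q) ⊗ₘ q) := GrpSchFppfH7.epi_tensorHom (q ⊗ₘ q) q
  have hdag : ∀ {T : Over S} (z : T ⟶ G) (k : T ⟶ H), (z * (k ≫ i)) ≫ q = z ≫ q := by
    intro T z k
    have h1 := congrArg (fun e => lift z k ≫ e) hpb.w
    simp only [lift_fst_assoc] at h1
    rw [h1]
    have e3 : lift z k ≫ (G ◁ i) = lift z (k ≫ i) := by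
      apply CartesianMonoidalCategory.hom_ext <;> simp
    rw [Category.assoc, ← Category.assoc (lift z k), e3, ← Category.assoc, ← Hom.mul_def]
  have hfib : ∀ {T : Over S} (t₁ t₂ : T ⟶ G), t₁ ≫ q = t₂ ≫ q →
      ∃ k : T ⟶ H, t₂ = t₁ * (k ≫ i) := by
    intro T t₁ t₂ h
    have e1 := IsPullback.lift_fst hpb _ _ h
    have e2 := IsPullback.lift_snd hpb _ _ h
    generalize IsPullback.lift hpb t₁ t₂ h = w at e1 e2
    have e3 : w ≫ (G ◁ i) = lift (w ≫ fst G H) ((w ≫ snd G H) ≫ i) := by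
      apply CartesianMonoidalCategory.hom_ext <;> simp
    rw [← Category.assoc, e3, ← Hom.mul_def, e1] at e2
    exact ⟨w ≫ snd G H, e2.symm⟩
  have hcoeq_m : ∀ (T : Over S) (a₁ a₂ : T ⟶ G ⊗ G), a₁ ≫ (q ⊗ₘ q) = a₂ ≫ (q ⊗ₘ q) →
      a₁ ≫ μ[G] ≫ q = a₂ ≫ μ[G] ≫ q := by
    intro T a₁ a₂ h
    have hx : (a₁ ≫ fst G G) ≫ q = (a₂ ≫ fst G G) ≫ q := by
      have := congrArg (fun e => e ≫ fst Q Q) h
      simpa using this
    have hy : (a₁ ≫ snd G G) ≫ q = (a₂ ≫ snd G G) ≫ q := by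
      have := congrArg (fun e => e ≫ snd Q Q) h
      simpa using this
    obtain ⟨k, hk⟩ := hfib _ _ hx
    obtain ⟨k', hk'⟩ := hfib _ _ hy
    obtain ⟨n', hn'⟩ := hn T (a₁ ≫ snd G G)⁻¹ k
    have e : ∀ a : T ⟶ G ⊗ G, a ≫ μ[G] = (a ≫ fst G G) * (a ≫ snd G G) := by
      intro a; rw [MonObj.mul_eq_mul, MonObj.comp_mul]
    rw [← Category.assoc, ← Category.assoc, e, e, hk, hk']
    have e4 : (a₁ ≫ fst G G * k ≫ i) * (a₁ ≫ snd G G * k' ≫ i) =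
        (a₁ ≫ fst G G * a₁ ≫ snd G G) * ((n' * k') ≫ i) := by
      rw [MonObj.mul_comp, ← hn']; group
    rw [e4, hdag]
  obtain ⟨m, hm⟩ := GrpSchFppfH7.desc_of_fppf (q ⊗ₘ q) (μ[G] ≫ q) hcoeq_m
  have hcoeq_i : ∀ (T : Over S) (t₁ t₂ : T ⟶ G), t₁ ≫ q = t₂ ≫ q →
      t₁ ≫ ι[G] ≫ q = t₂ ≫ ι[G] ≫ q := by
    intro T t₁ t₂ h
    obtain ⟨k, hk⟩ := hfib _ _ h
    obtain ⟨n', hn'⟩ := hn T t₁ k⁻¹
    rw [← Category.assoc, ← Category.assoc, ← Hom.inv_def, ← Hom.inv_def, hk]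
    have e4 : (t₁ * (k ≫ i))⁻¹ = t₁⁻¹ * (n' ≫ i) := by
      rw [← hn', GrpObj.inv_comp]; group
    rw [e4, hdag]
  obtain ⟨ι', hι⟩ := GrpSchFppfH7.desc_of_fppf q (ι[G] ≫ q) hcoeq_i
  refine ⟨GrpObjQuotH7.grpObjOfEpi q m hm h3 ι' hι, ?_, ?_⟩
  · exact @IsMonHom.mk _ _ _ G Q hG.toMonObj
      (GrpObjQuotH7.grpObjOfEpi q m hm h3 ι' hι).toMonObj q rfl hm.symm
  · intro s' hs'
    have hmul : @MonObj.mul _ _ _ Q s'.toMonObj = m := by
      rw [← cancel_epi (q ⊗ₘ q), hm]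
      exact (@IsMonHom.mul_hom _ _ _ G Q hG.toMonObj s'.toMonObj q hs').symm
    have hinv : @GrpObj.inv _ _ _ Q s' = ι' := by
      rw [← cancel_epi q, hι]
      exact (@GrpObj.inv_hom _ _ _ G Q hG s' q hs').symm
    exact GrpObjQuotH7.grpObj_ext s' _ (MonObj.ext _ _ hmul) hinv

end Groth.Agent.S5236
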