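import Groth.Statements.S5237
import Mathlib
import Groth.Agent.Lib.GrpSchFppf2_helper7

set_option autoImplicit false
open CategoryTheory CategoryTheory.Limits AlgebraicGeometry MonoidalCategory
universe u
open RedSub

namespace Groth.Agent.S5237

open MonObj GrpObj CartesianMonoidalCategory in
/-- For group schemes and the fppf topology: if `q : G ⟶ Q = G/H` is the fppf quotient of `G` by a
normal subgroup `H`, with its group structure, then a homomorphism `G ⟶ K` that kills `H` factors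
uniquely through `q`, and the factorisation is a homomorphism. -/
theorem result {S : Scheme.{u}} {H G Q K : Over S}
    [GrpObj H] [GrpObj G] [GrpObj Q] [GrpObj K]
    (i : H ⟶ G) [IsMonHom i] [Mono i] (hn : AlgGrp.IsNormalHom i)
    (q : G ⟶ Q) [IsMonHom q] (hq : RedSub.IsQuotient i q)
    (f : G ⟶ K) [IsMonHom f] (hf : i ≫ f = 1) :
    ∃! g : Q ⟶ K, q ≫ g = f ∧ IsMonHom g := by
  obtain ⟨hs, hfl, hlfp, hpb⟩ := hq
  haveI := hs; haveI := hfl; haveI := hlfp
  haveI : Epi q := GrpSchFppfH7.epi_of_fppf q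
  haveI : Epi (q ⊗ₘ q) := GrpSchFppfH7.epi_tensorHom q q
  have hcoeq : ∀ (T : Over S) (t₁ t₂ : T ⟶ G), t₁ ≫ q = t₂ ≫ q → t₁ ≫ f = t₂ ≫ f := by
    intro T t₁ t₂ h
    have e1 : IsPullback.lift hpb t₁ t₂ h ≫ fst G H = t₁ := IsPullback.lift_fst hpb _ _ h
    have e2 : IsPullback.lift hpb t₁ t₂ h ≫ (G ◁ i) ≫ μ[G] = t₂ := IsPullback.lift_snd hpb _ _ h
    generalize IsPullback.lift hpb t₁ t₂ h = w at e1 e2
    have e3 : w ≫ (G ◁ i) = lift (w ≫ fst G H) (w ≫ snd G H ≫ i) := by
      apply CartesianMonoidalCategory.hom_ext <;> simp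
    rw [← Category.assoc, e3, ← Hom.mul_def, e1] at e2
    rw [← e2, MonObj.mul_comp, Category.assoc, Category.assoc, hf, MonObj.comp_one, MonObj.comp_one,
      _root_.mul_one]
  obtain ⟨g, hg⟩ := GrpSchFppfH7.desc_of_fppf q f hcoeq
  have hmon : IsMonHom g := by
    refine ⟨?_, ?_⟩
    · rw [← IsMonHom.one_hom q, Category.assoc, hg, IsMonHom.one_hom]
    · rw [← cancel_epi (q ⊗ₘ q), ← Category.assoc, ← IsMonHom.mul_hom q, Category.assoc, hg,
        IsMonHom.mul_hom, ← Category.assoc, MonoidalCategory.tensorHom_comp_tensorHom, hg]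
  refine ⟨g, ⟨hg, hmon⟩, ?_⟩
  rintro g' ⟨hg', _⟩
  rw [← cancel_epi q, hg, hg']

end Groth.Agent.S5237
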