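import Groth.Statements.S5338
import Mathlib

set_option autoImplicit false
universe u
open CategoryTheory CategoryTheory.Limits MonoidalCategory CartesianMonoidalCategory MonObj GrpObj AlgebraicGeometry
open SGA3

namespace Groth.Agent.S5338

section
open TensorProduct

theorem nak' {B M : Type*} [CommRing B] [AddCommGroup M] [Module B M] (J : Ideal B) (k : ℕ)
    (hk : J ^ k = ⊥) (N T : Submodule B M) (h : T ≤ N ⊔ J • T) : T ≤ N := by
  have key : ∀ m : ℕ, T ≤ N ⊔ J ^ m • T := by
    intro m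
    induction m with
    | zero => rw [pow_zero, Ideal.one_eq_top, Submodule.top_smul]; exact le_sup_right
    | succ m ih =>
      refine h.trans (sup_le le_sup_left ?_)
      calc J • T ≤ J • (N ⊔ J ^ m • T) := Submodule.smul_mono le_rfl ih
        _ = J • N ⊔ J • (J ^ m • T) := Submodule.smul_sup _ _ _
        _ ≤ N ⊔ J ^ (m+1) • T := by
          refine sup_le_sup Submodule.smul_le_right ?_
          rw [← Submodule.mul_smul, ← pow_succ']
  have := key k
  rwa [hk, Submodule.bot_smul, sup_bot_eq] at this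

theorem flat_inf {A P C : Type*} [CommRing A] [AddCommGroup P] [Module A P] [AddCommGroup C]
    [Module A C] [Module.Flat A C] (g : P →ₗ[A] C) (hg : Function.Surjective g) (n : Ideal A)
    (x : P) (hx : g x = 0) (hxn : x ∈ n • (⊤ : Submodule A P)) :
    x ∈ n • LinearMap.ker g := by
  have hinj : Function.Injective ((LinearMap.ker g).subtype.lTensor (A ⧸ n)) :=
    LinearMap.lTensor_injective_of_exact_of_flat g hg _ (LinearMap.ker g).subtype_injective
      (LinearMap.exact_subtype_ker_map g) (A ⧸ n)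
  obtain ⟨x', hx'⟩ : ∃ x' : LinearMap.ker g, (x' : P) = x := ⟨⟨x, hx⟩, rfl⟩
  have h0 : ((1 : A ⧸ n) ⊗ₜ[A] x' : (A ⧸ n) ⊗[A] LinearMap.ker g) = 0 := by
    apply hinj
    rw [LinearMap.lTensor_tmul, map_zero, Submodule.subtype_apply, hx']
    apply (TensorProduct.quotTensorEquivQuotSMul P n).injective
    rw [TensorProduct.quotTensorEquivQuotSMul_mk_one_tmul, map_zero, Submodule.Quotient.mk_eq_zero]
    exact hxn
  have h1 : x' ∈ n • (⊤ : Submodule A (LinearMap.ker g)) := by
    have := congrArg (TensorProduct.quotTensorEquivQuotSMul (LinearMap.ker g) n) h0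
    rwa [TensorProduct.quotTensorEquivQuotSMul_mk_one_tmul, map_zero,
      Submodule.Quotient.mk_eq_zero] at this
  have h2 : (LinearMap.ker g).subtype x' ∈
      (n • (⊤ : Submodule A (LinearMap.ker g))).map (LinearMap.ker g).subtype :=
    Submodule.mem_map_of_mem h1
  rw [Submodule.map_smul'', Submodule.map_top, Submodule.range_subtype, Submodule.subtype_apply,
    hx'] at h2
  exact h2

variable {A B C : Type*} [CommRing A] [CommRing B] [CommRing C]
    [Algebra A B] [Algebra B C] [Algebra A C] [IsScalarTower A B C]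

theorem exists_lift (J : Ideal B) (k : ℕ) (hk : J ^ k = ⊥) (m : ℕ)
    (f : MvPolynomial (Fin m) (B ⧸ J) →ₐ[B ⧸ J] (C ⧸ J.map (algebraMap B C)))
    (hf : Function.Surjective f) :
    ∃ g : MvPolynomial (Fin m) B →ₐ[B] C, Function.Surjective g ∧
      ∀ p, Ideal.Quotient.mk (J.map (algebraMap B C)) (g p) =
        f (MvPolynomial.map (Ideal.Quotient.mk J) p) := by
  choose c hc using fun i : Fin m => Ideal.Quotient.mk_surjective (f (MvPolynomial.X i))
  obtain ⟨g, hgdef⟩ : ∃ g : MvPolynomial (Fin m) B →ₐ[B] C, g = MvPolynomial.aeval c := ⟨_, rfl⟩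
  have hcomm : ∀ p, Ideal.Quotient.mk (J.map (algebraMap B C)) (g p) =
        f (MvPolynomial.map (Ideal.Quotient.mk J) p) := by
    intro p
    have : (Ideal.Quotient.mk (J.map (algebraMap B C))).comp (g : MvPolynomial (Fin m) B →+* C) =
        (f : MvPolynomial (Fin m) (B ⧸ J) →+* _).comp
          (MvPolynomial.map (Ideal.Quotient.mk J)) := by
      apply MvPolynomial.ringHom_ext
      · intro b
        show Ideal.Quotient.mk (J.map (algebraMap B C)) (g (MvPolynomial.C b)) =
          f (MvPolynomial.map (Ideal.Quotient.mk J) (MvPolynomial.C b))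
        rw [hgdef, MvPolynomial.aeval_C, MvPolynomial.map_C, ← MvPolynomial.algebraMap_eq,
          AlgHom.commutes]
        rfl
      · intro i
        show Ideal.Quotient.mk (J.map (algebraMap B C)) (g (MvPolynomial.X i)) =
          f (MvPolynomial.map (Ideal.Quotient.mk J) (MvPolynomial.X i))
        rw [hgdef, MvPolynomial.aeval_X, MvPolynomial.map_X, hc]
    exact RingHom.congr_fun this p
  refine ⟨g, ?_, hcomm⟩
  have htop : (⊤ : Submodule B C) ≤ LinearMap.range g.toLinearMap ⊔ J • ⊤ := by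
    intro x _
    obtain ⟨q, hq⟩ := hf (Ideal.Quotient.mk _ x)
    obtain ⟨p, rfl⟩ := MvPolynomial.map_surjective (Ideal.Quotient.mk J)
      Ideal.Quotient.mk_surjective q
    rw [← hcomm] at hq
    have hmem : x - g p ∈ J.map (algebraMap B C) := by
      rw [← Ideal.Quotient.eq_zero_iff_mem, map_sub, hq, sub_self]
    have hmem' : x - g p ∈ J • (⊤ : Submodule B C) := by
      rw [Ideal.smul_top_eq_map]; exact hmem
    have : x = g p + (x - g p) := by ring
    rw [this]
    exact Submodule.add_mem_sup ⟨p, rfl⟩ hmem'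
  have hle := nak' J k hk _ _ htop
  intro x
  exact hle (Submodule.mem_top)

theorem part1 (J : Ideal B) (k : ℕ) (hk : J ^ k = ⊥)
    (h : Algebra.FiniteType (B ⧸ J) (C ⧸ J.map (algebraMap B C))) : Algebra.FiniteType B C := by
  obtain ⟨m, f, hf⟩ := Algebra.FiniteType.iff_quotient_mvPolynomial''.mp h
  obtain ⟨g, hg, -⟩ := exists_lift J k hk m f hf
  exact Algebra.FiniteType.iff_quotient_mvPolynomial''.mpr ⟨m, g, hg⟩

theorem part2 (n : Ideal A) (k : ℕ) (hk : n ^ k = ⊥) (J : Ideal B)
    (hJ : J = n.map (algebraMap A B)) [Module.Flat A C]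
    (h : Algebra.FinitePresentation (B ⧸ J) (C ⧸ J.map (algebraMap B C))) :
    Algebra.FinitePresentation B C := by
  classical
  have hJk : J ^ k = ⊥ := by rw [hJ, ← Ideal.map_pow, hk, Ideal.map_bot]
  have hft : Algebra.FiniteType (B ⧸ J) (C ⧸ J.map (algebraMap B C)) := inferInstance
  obtain ⟨m, f, hf⟩ := Algebra.FiniteType.iff_quotient_mvPolynomial''.mp hft
  obtain ⟨g, hg, hcomm⟩ := exists_lift J k hJk m f hf
  have hkerf : (RingHom.ker f.toRingHom).FG :=
    Algebra.FinitePresentation.ker_fG_of_surjective f hf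
  refine Algebra.FinitePresentation.of_surjective (f := g) hg ?_
  obtain ⟨φ, hφdef⟩ : ∃ φ : MvPolynomial (Fin m) B →+* MvPolynomial (Fin m) (B ⧸ J),
    φ = MvPolynomial.map (Ideal.Quotient.mk J) := ⟨_, rfl⟩
  have hφ : Function.Surjective φ := by
    rw [hφdef]; exact MvPolynomial.map_surjective _ Ideal.Quotient.mk_surjective
  have hcomm' : ∀ p, Ideal.Quotient.mk (J.map (algebraMap B C)) (g p) = f (φ p) := by
    intro p; rw [hφdef]; exact hcomm p
  have hkerφ : ∀ w, φ w = 0 → w ∈ n.map (algebraMap A (MvPolynomial (Fin m) B)) := by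
    intro w hw
    have h1 : w ∈ RingHom.ker
        (MvPolynomial.map (Ideal.Quotient.mk J) : MvPolynomial (Fin m) B →+* _) := by
      rw [RingHom.mem_ker, ← hφdef]; exact hw
    rw [MvPolynomial.ker_map, Ideal.mk_ker, hJ, Ideal.map_map] at h1
    rwa [IsScalarTower.algebraMap_eq A B (MvPolynomial (Fin m) B), MvPolynomial.algebraMap_eq]
  have hφJ : ∀ b ∈ J, ∀ p, φ (MvPolynomial.C b * p) = 0 := by
    intro b hb p
    rw [map_mul, hφdef, MvPolynomial.map_C, Ideal.Quotient.eq_zero_iff_mem.mpr hb, map_zero,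
      zero_mul]
  obtain ⟨I, hIdef⟩ : ∃ I : Ideal (MvPolynomial (Fin m) B), I = RingHom.ker g.toRingHom :=
    ⟨_, rfl⟩
  have hmemI : ∀ p, p ∈ I ↔ g p = 0 := by
    intro p; rw [hIdef, RingHom.mem_ker]; rfl
  have hJC : ∀ y ∈ J • (⊤ : Submodule B C), ∃ q, φ q = 0 ∧ g q = y := by
    intro y hy
    refine Submodule.smul_induction_on hy ?_ ?_
    · intro b hb c _
      obtain ⟨p₁, rfl⟩ := hg c
      refine ⟨MvPolynomial.C b * p₁, hφJ b hb p₁, ?_⟩
      rw [map_mul, ← MvPolynomial.algebraMap_eq, AlgHom.commutes, Algebra.smul_def]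
    · rintro y₁ y₂ ⟨q₁, h1, h1'⟩ ⟨q₂, h2, h2'⟩
      exact ⟨q₁ + q₂, by rw [map_add, h1, h2, add_zero], by rw [map_add, h1', h2']⟩
  have step2 : ∀ s, s ∈ RingHom.ker f.toRingHom → ∃ p, p ∈ I ∧ φ p = s := by
    intro s hs
    obtain ⟨p₀, rfl⟩ := hφ s
    have h0 : Ideal.Quotient.mk (J.map (algebraMap B C)) (g p₀) = 0 := by
      rw [hcomm']; exact hs
    have h1 : g p₀ ∈ J • (⊤ : Submodule B C) := by
      rw [Ideal.smul_top_eq_map]; exact Ideal.Quotient.eq_zero_iff_mem.mp h0
    obtain ⟨q, hq0, hq⟩ := hJC _ h1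
    refine ⟨p₀ - q, ?_, ?_⟩
    · rw [hmemI, map_sub, hq, sub_self]
    · rw [map_sub, hq0, sub_zero]
  choose! lift hlift using step2
  obtain ⟨S, hS⟩ := hkerf
  refine ⟨S.image lift, ?_⟩
  rw [← hIdef]
  obtain ⟨I₀, hI₀⟩ : ∃ I₀ : Ideal (MvPolynomial (Fin m) B),
    I₀ = Ideal.span (↑(S.image lift) : Set (MvPolynomial (Fin m) B)) := ⟨_, rfl⟩
  rw [← hI₀]
  have hSker : ∀ s ∈ S, s ∈ RingHom.ker f.toRingHom := by
    intro s hs; rw [← hS]; exact Ideal.subset_span hs
  have hsub : ∀ s ∈ S, lift s ∈ I₀ := by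
    intro s hs
    rw [hI₀]
    refine Ideal.subset_span ?_
    rw [Finset.coe_image]
    exact ⟨s, hs, rfl⟩
  have hle : I₀ ≤ I := by
    rw [hI₀, Ideal.span_le]
    intro p hp
    rw [Finset.coe_image] at hp
    obtain ⟨s, hs, rfl⟩ := hp
    exact (hlift s (hSker s hs)).1
  refine le_antisymm hle ?_
  have hmapI₀ : ∀ y ∈ RingHom.ker f.toRingHom, ∃ z ∈ I₀, φ z = y := by
    intro y hy
    rw [← hS] at hy
    refine Submodule.span_induction (p := fun y _ => ∃ z ∈ I₀, φ z = y) ?_ ?_ ?_ ?_ hy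
    · intro s hs
      exact ⟨lift s, hsub s hs, (hlift s (hSker s hs)).2⟩
    · exact ⟨0, I₀.zero_mem, map_zero _⟩
    · rintro y₁ y₂ _ _ ⟨z₁, hz₁, h1⟩ ⟨z₂, hz₂, h2⟩
      exact ⟨z₁ + z₂, I₀.add_mem hz₁ hz₂, by rw [map_add, h1, h2]⟩
    · rintro a y _ ⟨z, hz, h1⟩
      obtain ⟨a', rfl⟩ := hφ a
      exact ⟨a' * z, I₀.mul_mem_left a' hz, by rw [map_mul, h1, smul_eq_mul]⟩
  have hnak : I.restrictScalars B ≤ I₀.restrictScalars B ⊔ J • I.restrictScalars B := by
    intro x hx
    have hxI : x ∈ I := hx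
    have hgx : g x = 0 := (hmemI x).mp hxI
    have hφx : φ x ∈ RingHom.ker f.toRingHom := by
      rw [RingHom.mem_ker]
      show f (φ x) = 0
      rw [← hcomm', hgx, map_zero]
    obtain ⟨z, hz, hzx⟩ := hmapI₀ _ hφx
    have hw0 : φ (x - z) = 0 := by rw [map_sub, hzx, sub_self]
    have hwI : x - z ∈ I := I.sub_mem hxI (hle hz)
    have hw1 := hkerφ _ hw0
    have hw2 : x - z ∈ n • (⊤ : Submodule A (MvPolynomial (Fin m) B)) := by
      rw [Ideal.smul_top_eq_map]; exact hw1
    have hw3 := flat_inf (g.toLinearMap.restrictScalars A) hg n (x - z) ((hmemI _).mp hwI) hw2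
    have hw4 : x - z ∈ J • I.restrictScalars B := by
      refine Submodule.smul_induction_on hw3 ?_ ?_
      · intro a ha y hy
        have hyI : y ∈ I.restrictScalars B := (hmemI y).mpr (LinearMap.mem_ker.mp hy)
        rw [← algebraMap_smul B a y]
        exact Submodule.smul_mem_smul (by rw [hJ]; exact Ideal.mem_map_of_mem _ ha) hyI
      · intro y₁ y₂ h1 h2
        exact Submodule.add_mem _ h1 h2
    have : x = z + (x - z) := by ring
    rw [this]
    exact Submodule.add_mem_sup hz hw4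
  intro x hx
  exact nak' J k hJk _ _ hnak hx
end

/-- Let A → B → C be homomorphisms of commutative rings and n a nilpotent ideal of A; write nB and nC
for the extended ideals. (i) If C/nC is a (B/nB)-algebra of finite type, then C is a B-algebra of
finite type. (ii) If moreover C is flat over A and C/nC is a (B/nB)-algebra of finite presentation,
then C is a B-algebra of finite presentation. -/
theorem result (A B C : Type u) [CommRing A] [CommRing B] [CommRing C]
    [Algebra A B] [Algebra B C] [Algebra A C] [IsScalarTower A B C] (n : Ideal A) (hn : IsNilpotent n) :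
    (Algebra.FiniteType (B ⧸ n.map (algebraMap A B)) (C ⧸ (n.map (algebraMap A B)).map (algebraMap B C)) →
      Algebra.FiniteType B C) ∧
    (Module.Flat A C →
      Algebra.FinitePresentation (B ⧸ n.map (algebraMap A B)) (C ⧸ (n.map (algebraMap A B)).map (algebraMap B C)) →
      Algebra.FinitePresentation B C) := by
  obtain ⟨k, hk⟩ := hn
  have hk' : n ^ k = ⊥ := hk.trans Ideal.zero_eq_bot
  refine ⟨fun h => part1 _ k ?_ h, fun hflat h => ?_⟩
  · rw [← Ideal.map_pow, hk', Ideal.map_bot]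
  · haveI := hflat
    exact part2 n k hk' _ rfl h

end Groth.Agent.S5338
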