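import Groth.Statements.S5343
import Mathlib

set_option autoImplicit false
universe u
open CategoryTheory CategoryTheory.Limits MonoidalCategory CartesianMonoidalCategory MonObj GrpObj AlgebraicGeometry
open SGA3

namespace Groth.Agent.S5343

section
variable {R B : Type u} [CommRing R] [CommRing B] [Algebra R B]

theorem coord_mem (s : B →ₗ[R] (B →₀ R)) (𝔞 : Ideal R) (x : B)
    (hx : x ∈ 𝔞.map (algebraMap R B)) (i : B) : s x i ∈ 𝔞 := by
  have hx' : x ∈ 𝔞 • (⊤ : Submodule R B) := by
    rw [Ideal.smul_top_eq_map]; exact hx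
  refine Submodule.smul_induction_on hx' ?_ ?_
  · intro r hr n _
    rw [map_smul, Finsupp.smul_apply, smul_eq_mul]
    exact 𝔞.mul_mem_right _ hr
  · intro a b ha hb
    rw [map_add, Finsupp.add_apply]
    exact 𝔞.add_mem ha hb

theorem eq_sum (s : B →ₗ[R] (B →₀ R))
    (hs : Finsupp.linearCombination R id ∘ₗ s = LinearMap.id) (x : B) :
    x = ∑ j ∈ (s x).support, (s x j) • j := by
  have h : Finsupp.linearCombination R id (s x) = x := LinearMap.congr_fun hs x
  conv_lhs => rw [← h]
  rw [Finsupp.linearCombination_apply]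
  rfl

theorem one_mem_of_coord (s : B →ₗ[R] (B →₀ R))
    (hs : Finsupp.linearCombination R id ∘ₗ s = LinearMap.id) (𝔞 : Ideal R)
    (hc : ∀ i, s 1 i ∈ 𝔞) : (1 : B) ∈ 𝔞.map (algebraMap R B) := by
  have : ∑ j ∈ (s 1).support, (s 1 j) • j ∈ 𝔞.map (algebraMap R B) := by
    refine Ideal.sum_mem _ fun j _ => ?_
    rw [Algebra.smul_def]
    exact Ideal.mul_mem_right _ _ (Ideal.mem_map_of_mem _ (hc j))
  rwa [← eq_sum s hs 1] at this

theorem bass (s : B →ₗ[R] (B →₀ R))
    (hs : Finsupp.linearCombination R id ∘ₗ s = LinearMap.id) (𝔞 : Ideal R)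
    (h1 : (1 : B) ∈ 𝔞.map (algebraMap R B)) :
    ∃ t ∈ 𝔞, algebraMap R B (1 - t) = 0 := by
  classical
  have hall : ∀ j i : B, s j i ∈ 𝔞 := by
    intro j i
    refine coord_mem s 𝔞 j ?_ i
    have := (𝔞.map (algebraMap R B)).mul_mem_left j h1
    rwa [_root_.mul_one] at this
  obtain ⟨c, hc⟩ : ∃ c : B →₀ R, c = s 1 := ⟨_, rfl⟩
  have h1sum : (1 : B) = ∑ j ∈ c.support, (c j) • j := by
    rw [hc]; exact eq_sum s hs 1
  have h2 : s 1 = ∑ j ∈ c.support, (c j) • s j := by
    conv_lhs => rw [h1sum]
    rw [map_sum]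
    refine Finset.sum_congr rfl fun j _ => ?_
    rw [map_smul]
  have h2' : c = ∑ j ∈ c.support, (c j) • s j := hc.trans h2
  let A : Matrix c.support c.support R := fun i j => s (j : B) (i : B)
  let v : c.support → R := fun i => c (i : B)
  have hAv : A.mulVec v = v := by
    funext i
    have h3 : c (i : B) = ∑ j ∈ c.support, c j * s j (i : B) := by
      have := DFunLike.congr_fun h2' (i : B)
      rw [Finsupp.finsetSum_apply] at this
      refine this.trans (Finset.sum_congr rfl fun j _ => ?_)
      rw [Finsupp.smul_apply, smul_eq_mul]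
    show ∑ j : c.support, A i j * v j = v i
    rw [show v i = c (i : B) from rfl, h3]
    rw [← Finset.sum_coe_sort c.support (fun j => c j * s j (i : B))]
    refine Finset.sum_congr rfl fun j _ => ?_
    show s (j : B) (i : B) * c (j : B) = c (j : B) * s (j : B) (i : B)
    exact mul_comm _ _
  have hzero : (1 - A).mulVec v = 0 := by
    rw [Matrix.sub_mulVec, Matrix.one_mulVec, hAv, sub_self]
  have hdet : (1 - A).det • v = 0 := by
    have h := congrArg (fun w => (Matrix.adjugate (1 - A)).mulVec w) hzero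
    simp only [Matrix.mulVec_mulVec, Matrix.adjugate_mul, Matrix.mulVec_zero,
      Matrix.smul_mulVec, Matrix.one_mulVec] at h
    exact h
  have hmod : Ideal.Quotient.mk 𝔞 ((1 - A).det) = 1 := by
    rw [RingHom.map_det]
    have hm : (Ideal.Quotient.mk 𝔞).mapMatrix (1 - A) = 1 := by
      ext i j
      have hA0 : Ideal.Quotient.mk 𝔞 (A i j) = 0 :=
        Ideal.Quotient.eq_zero_iff_mem.mpr (hall (j : B) (i : B))
      rw [RingHom.mapMatrix_apply, Matrix.map_apply, Matrix.sub_apply, map_sub, hA0, sub_zero,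
        Matrix.one_apply, Matrix.one_apply]
      split_ifs <;> simp
    rw [hm, Matrix.det_one]
  refine ⟨1 - (1 - A).det, ?_, ?_⟩
  · rw [← Ideal.Quotient.eq_zero_iff_mem, map_sub, hmod, map_one, sub_self]
  · rw [sub_sub_cancel, Algebra.algebraMap_eq_smul_one]
    have : (1 - A).det • ∑ j ∈ c.support, (c j) • j = 0 := by
      rw [Finset.smul_sum]
      refine Finset.sum_eq_zero fun j hj => ?_
      rw [smul_smul]
      have h := congrFun hdet ⟨j, hj⟩
      simp only [Pi.smul_apply, Pi.zero_apply, smul_eq_mul] at h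
      rw [show (1 - A).det * c j = 0 from h, zero_smul]
    rwa [← h1sum] at this

theorem main (R B : Type u) [CommRing R] [CommRing B] [Algebra R B] [Module.Projective R B] :
    IsClopen (Set.range (PrimeSpectrum.comap (algebraMap R B))) := by
  classical
  obtain ⟨s, hs⟩ := Module.projective_def'.mp (inferInstance : Module.Projective R B)
  obtain ⟨I, hI⟩ : ∃ I : Ideal R, I = RingHom.ker (algebraMap R B) := ⟨_, rfl⟩
  have hmemI : ∀ r, r ∈ I ↔ algebraMap R B r = 0 := by
    intro r; rw [hI, RingHom.mem_ker]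
  have hsI : ∀ r ∈ I, ∀ b i : B, r * s b i = 0 := by
    intro r hr b i
    have : r • b = 0 := by
      rw [Algebra.smul_def, (hmemI r).mp hr, zero_mul]
    rw [← smul_eq_mul, ← Finsupp.smul_apply, ← map_smul, this, map_zero, Finsupp.zero_apply]
  have hrange : Set.range (PrimeSpectrum.comap (algebraMap R B)) =
      PrimeSpectrum.zeroLocus (I : Set R) := by
    ext p
    constructor
    · rintro ⟨q, rfl⟩ r hr
      show algebraMap R B r ∈ q.asIdeal
      rw [(hmemI r).mp hr]; exact zero_mem _
    · intro hp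
      have hIp : I ≤ p.asIdeal := hp
      rw [PrimeSpectrum.mem_range_comap_iff]
      refine le_antisymm ?_ Ideal.le_comap_map
      intro r hr
      rw [Ideal.mem_comap] at hr
      by_contra hrp
      have hc : ∀ i, s 1 i ∈ p.asIdeal := by
        intro i
        have h := coord_mem s p.asIdeal _ hr i
        rw [Algebra.algebraMap_eq_smul_one, map_smul, Finsupp.smul_apply, smul_eq_mul] at h
        exact (p.isPrime.mem_or_mem h).resolve_left hrp
      have h1 : (1 : B) ∈ p.asIdeal.map (algebraMap R B) := one_mem_of_coord s hs _ hc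
      obtain ⟨t, ht, ht0⟩ := bass s hs p.asIdeal h1
      have h1t : (1 - t) ∈ p.asIdeal := hIp ((hmemI _).mpr ht0)
      have : (1 : R) ∈ p.asIdeal := by
        have := p.asIdeal.add_mem h1t ht
        rwa [sub_add_cancel] at this
      exact p.isPrime.ne_top ((Ideal.eq_top_iff_one _).mpr this)
  rw [hrange]
  obtain ⟨𝔞, h𝔞⟩ : ∃ 𝔞 : Ideal R, 𝔞 = Submodule.annihilator (I : Submodule R R) := ⟨_, rfl⟩
  have hmem𝔞 : ∀ t, t ∈ 𝔞 ↔ ∀ r ∈ I, t * r = 0 := by
    intro t; rw [h𝔞, Submodule.mem_annihilator]; rfl
  have hca : ∀ i, s 1 i ∈ 𝔞 := by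
    intro i
    rw [hmem𝔞]
    intro r hr
    rw [mul_comm]; exact hsI r hr 1 i
  have h1 : (1 : B) ∈ 𝔞.map (algebraMap R B) := one_mem_of_coord s hs _ hca
  obtain ⟨t, ht, ht0⟩ := bass s hs 𝔞 h1
  have hset : PrimeSpectrum.zeroLocus (I : Set R) =
      (PrimeSpectrum.basicOpen t : Set (PrimeSpectrum R)) := by
    ext p
    rw [PrimeSpectrum.mem_zeroLocus, SetLike.mem_coe, PrimeSpectrum.mem_basicOpen]
    constructor
    · intro hp htp
      have h1t : (1 - t) ∈ p.asIdeal := hp ((hmemI _).mpr ht0)
      have : (1 : R) ∈ p.asIdeal := by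
        have := p.asIdeal.add_mem h1t htp
        rwa [sub_add_cancel] at this
      exact p.isPrime.ne_top ((Ideal.eq_top_iff_one _).mpr this)
    · intro htp r hr
      have h0 : t * r = 0 := (hmem𝔞 t).mp ht r hr
      have : t * r ∈ p.asIdeal := by rw [h0]; exact zero_mem _
      exact (p.isPrime.mem_or_mem this).resolve_left htp
  refine ⟨PrimeSpectrum.isClosed_zeroLocus _, ?_⟩
  rw [hset]
  exact (PrimeSpectrum.basicOpen t).isOpen
end

/-- Let R be a commutative ring and B a commutative R-algebra which is projective as an R-module. Then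
the image of Spec B → Spec R is an open and closed subset of Spec R. (The published statement
concerns a quasi-coherent algebra on any scheme which is a direct summand of a free module; this row
is the affine case.) -/
theorem result (R B : Type u) [CommRing R] [CommRing B] [Algebra R B] [Module.Projective R B] :
    IsClopen (Set.range (PrimeSpectrum.comap (algebraMap R B))) := by
  exact main R B

end Groth.Agent.S5343
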