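import Groth.Statements.S5372
import Mathlib
import Groth.Agent.Lib.SchFpqcCov_helper7
import Groth.Agent.Lib.GrpObjQuot_helper7

set_option autoImplicit false
universe u
open CategoryTheory CategoryTheory.Limits MonoidalCategory CartesianMonoidalCategory MonObj GrpObj AlgebraicGeometry
open SGA3

namespace Groth.Agent.S5372

/-- Let u : G' → G be a monomorphism of S-group schemes which is normal, and p : G → G'' a morphism of
S-schemes which is covering for the fpqc topology (some Z → G'' which is flat, surjective, with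
every affine open of G'' the image of a quasi-compact open of Z, factors through p) and such that
the square (g, h) ↦ g·u(h), first projection G ×_S G' → G, p, p is cartesian, so that G'' represents
the fpqc quotient sheaf G/G'. Then there is a structure of S-group scheme on G'' for which p is a
homomorphism, and it is unique: any morphism m : G'' ×_S G'' → G'' with (p × p) followed by m equal
to the multiplication of G followed by p is its multiplication. -/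
theorem result (S : Scheme.{u}) (G G' G'' : Over S) [GrpObj G] [GrpObj G']
    (u : G' ⟶ G) [IsMonHom u] [Mono u] (p : G ⟶ G'')
    (hcov : (∃ (Z : Scheme.{u}) (q : Z ⟶ G''.left) (r : Z ⟶ G.left), r ≫ p.left = q ∧ Surjective q ∧ Flat q ∧
        ∀ V : G''.left.Opens, IsAffineOpen V → ∃ W : Z.Opens, IsCompact (W : Set Z) ∧ q.base '' (W : Set Z) = (V : Set G''.left)))
    (hsq : IsPullback ((G ◁ u) ≫ μ[G]) (fst G G') p p) (hN : AlgGrp.IsNormalHom u) :
    ∃ _ : GrpObj G'', IsMonHom p ∧ ∀ m : G'' ⊗ G'' ⟶ G'', (p ⊗ₘ p) ≫ m = μ[G] ≫ p → m = μ[G''] := by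
  obtain ⟨Z, q, r, hrq, hqs, hqf, hqc⟩ := hcov
  have hp : SchFpqcCovH7.IsCov p.left :=
    SchFpqcCovH7.IsCov.of_factor q r p.left hrq (SchFpqcCovH7.isCov_of_data q hqf hqs hqc)
  have hpp : SchFpqcCovH7.IsCov (p ⊗ₘ p).left := SchFpqcCovH7.isCov_tensorHom p p hp hp
  have hppp : SchFpqcCovH7.IsCov ((p ⊗ₘ p) ⊗ₘ p).left :=
    SchFpqcCovH7.isCov_tensorHom (p ⊗ₘ p) p hpp hp
  haveI : Epi p := SchFpqcCovH7.epi_of_isCov p hp
  haveI : Epi (p ⊗ₘ p) := SchFpqcCovH7.epi_of_isCov _ hpp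
  have h3 : Epi ((p ⊗ₘ p) ⊗ₘ p) := SchFpqcCovH7.epi_of_isCov _ hppp
  have hpb := hsq.flip
  have hdag : ∀ {T : Over S} (z : T ⟶ G) (k : T ⟶ G'), (z * (k ≫ u)) ≫ p = z ≫ p := by
    intro T z k
    have h1 := congrArg (fun e => lift z k ≫ e) hpb.w
    simp only [lift_fst_assoc] at h1
    rw [h1]
    have e3 : lift z k ≫ (G ◁ u) = lift z (k ≫ u) := by
      apply CartesianMonoidalCategory.hom_ext <;> simp
    rw [Category.assoc, ← Category.assoc (lift z k), e3, ← Category.assoc, ← Hom.mul_def]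
  have hfib : ∀ {T : Over S} (t₁ t₂ : T ⟶ G), t₁ ≫ p = t₂ ≫ p →
      ∃ k : T ⟶ G', t₂ = t₁ * (k ≫ u) := by
    intro T t₁ t₂ h
    have e1 := IsPullback.lift_fst hpb _ _ h
    have e2 := IsPullback.lift_snd hpb _ _ h
    generalize IsPullback.lift hpb t₁ t₂ h = w at e1 e2
    have e3 : w ≫ (G ◁ u) = lift (w ≫ fst G G') ((w ≫ snd G G') ≫ u) := by
      apply CartesianMonoidalCategory.hom_ext <;> simp
    rw [← Category.assoc, e3, ← Hom.mul_def, e1] at e2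
    exact ⟨w ≫ snd G G', e2.symm⟩
  have hcoeq_m : ∀ (T : Over S) (a₁ a₂ : T ⟶ G ⊗ G), a₁ ≫ (p ⊗ₘ p) = a₂ ≫ (p ⊗ₘ p) →
      a₁ ≫ μ[G] ≫ p = a₂ ≫ μ[G] ≫ p := by
    intro T a₁ a₂ h
    have hx : (a₁ ≫ fst G G) ≫ p = (a₂ ≫ fst G G) ≫ p := by
      have := congrArg (fun e => e ≫ fst G'' G'') h
      simpa using this
    have hy : (a₁ ≫ snd G G) ≫ p = (a₂ ≫ snd G G) ≫ p := by
      have := congrArg (fun e => e ≫ snd G'' G'') h
      simpa using this
    obtain ⟨k, hk⟩ := hfib _ _ hx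
    obtain ⟨k', hk'⟩ := hfib _ _ hy
    obtain ⟨n', hn'⟩ := hN T (a₁ ≫ snd G G)⁻¹ k
    have e : ∀ a : T ⟶ G ⊗ G, a ≫ μ[G] = (a ≫ fst G G) * (a ≫ snd G G) := by
      intro a; rw [MonObj.mul_eq_mul, MonObj.comp_mul]
    rw [← Category.assoc, ← Category.assoc, e, e, hk, hk']
    have e4 : (a₁ ≫ fst G G * k ≫ u) * (a₁ ≫ snd G G * k' ≫ u) =
        (a₁ ≫ fst G G * a₁ ≫ snd G G) * ((n' * k') ≫ u) := by
      rw [MonObj.mul_comp, ← hn']; group
    rw [e4, hdag]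
  obtain ⟨m, hm⟩ := SchFpqcCovH7.desc_of_isCov (p ⊗ₘ p) hpp (μ[G] ≫ p) hcoeq_m
  have hcoeq_i : ∀ (T : Over S) (t₁ t₂ : T ⟶ G), t₁ ≫ p = t₂ ≫ p →
      t₁ ≫ ι[G] ≫ p = t₂ ≫ ι[G] ≫ p := by
    intro T t₁ t₂ h
    obtain ⟨k, hk⟩ := hfib _ _ h
    obtain ⟨n', hn'⟩ := hN T t₁ k⁻¹
    rw [← Category.assoc, ← Category.assoc, ← Hom.inv_def, ← Hom.inv_def, hk]
    have e4 : (t₁ * (k ≫ u))⁻¹ = t₁⁻¹ * (n' ≫ u) := by
      rw [← hn', GrpObj.inv_comp]; group
    rw [e4, hdag]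
  obtain ⟨ι', hι⟩ := SchFpqcCovH7.desc_of_isCov p hp (ι[G] ≫ p) hcoeq_i
  refine ⟨GrpObjQuotH7.grpObjOfEpi p m hm h3 ι' hι, ?_, ?_⟩
  · exact @IsMonHom.mk _ _ _ G G'' _
      (GrpObjQuotH7.grpObjOfEpi p m hm h3 ι' hι).toMonObj p rfl hm.symm
  · intro m' hm'
    show m' = m
    rw [← cancel_epi (p ⊗ₘ p), hm', hm]

end Groth.Agent.S5372
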