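import Groth.Statements.S5377
import Mathlib

set_option autoImplicit false
universe u
open CategoryTheory CategoryTheory.Limits MonoidalCategory CartesianMonoidalCategory MonObj GrpObj AlgebraicGeometry
open SGA3

namespace Groth.Agent.S5377

section helpers

open CategoryTheory CategoryTheory.Limits

variable {J : Type u} [SmallCategory J] [IsFiltered J]

theorem ι_map (F : J ⥤ CommRingCat.{u}) {i j : J} (g : i ⟶ j) (x : F.obj i) :
    colimit.ι F j (F.map g x) = colimit.ι F i x := by
  rw [← CommRingCat.comp_apply, colimit.w]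

theorem rep_fin (F : J ⥤ CommRingCat.{u}) (l : ℕ)
    (x : Fin l → (colimit F : CommRingCat.{u})) (j0 : J) :
    ∃ (j : J) (_ : j0 ⟶ j) (x' : Fin l → F.obj j), ∀ i, colimit.ι F j (x' i) = x i := by
  classical
  have h1 : ∀ i, ∃ (j : J) (y : F.obj j), colimit.ι F j y = x i :=
    fun i => Concrete.colimit_exists_rep F (x i)
  choose jj y hy using h1
  obtain ⟨S, hS⟩ := IsFiltered.sup_objs_exists (insert j0 (Finset.univ.image jj))
  have hg : ∀ i, Nonempty (jj i ⟶ S) := fun i =>
    hS (Finset.mem_insert_of_mem (Finset.mem_image_of_mem jj (Finset.mem_univ i)))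
  have hg0 : Nonempty (j0 ⟶ S) := hS (Finset.mem_insert_self _ _)
  exact ⟨S, hg0.some, fun i => F.map (hg i).some (y i), fun i => by rw [ι_map, hy]⟩

theorem exists_map_eq_zero (F : J ⥤ CommRingCat.{u}) {j : J} (w : F.obj j)
    (hw : colimit.ι F j w = 0) : ∃ (k : J) (g : j ⟶ k), F.map g w = 0 := by
  have h0 : colimit.ι F j w = colimit.ι F j (0 : F.obj j) := by rw [hw, map_zero]
  obtain ⟨k, f, g, hfg⟩ := Concrete.colimit_exists_of_rep_eq F w (0 : F.obj j) h0
  exact ⟨k, f, by rw [hfg, map_zero]⟩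

theorem aux (J : Type u) [SmallCategory J] [IsFiltered J]
    (C A : J ⥤ CommRingCat.{u}) (φ : C ⟶ A) (h : ∀ j : J, (φ.app j).hom.FaithfullyFlat) :
    (colimMap φ).hom.FaithfullyFlat := by
  classical
  have hΦ : ∀ (j : J) (x : C.obj j),
      (colimMap φ) (colimit.ι C j x) = colimit.ι A j (φ.app j x) := fun j x => by
    rw [← CommRingCat.comp_apply, ι_colimMap, CommRingCat.comp_apply]
  have hnat : ∀ {j k : J} (g : j ⟶ k) (x : C.obj j),
      φ.app k (C.map g x) = A.map g (φ.app j x) := fun g x => by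
    rw [← CommRingCat.comp_apply, ← CommRingCat.comp_apply, φ.naturality]
  unfold RingHom.FaithfullyFlat
  letI algΦ : Algebra (colimit C : CommRingCat.{u}) (colimit A : CommRingCat.{u}) :=
    (colimMap φ).hom.toAlgebra
  have hsmul : ∀ (r : (colimit C : CommRingCat.{u})) (a : (colimit A : CommRingCat.{u})),
      r • a = (colimMap φ) r * a := fun r a => rfl
  refine @Module.FaithfullyFlat.mk _ _ _ _ _ ?_ ?_
  · rw [Module.Flat.iff_forall_isTrivialRelation]
    intro l f x hfx
    obtain ⟨j0⟩ := IsFiltered.nonempty (C := J)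
    obtain ⟨j1, _, f', hf'⟩ := rep_fin C l f j0
    obtain ⟨j, g1, x', hx'⟩ := rep_fin A l x j1
    obtain ⟨f1, hf1def⟩ : ∃ f1 : Fin l → C.obj j, ∀ i, f1 i = C.map g1 (f' i) := ⟨_, fun _ => rfl⟩
    have hf1 : ∀ i, colimit.ι C j (f1 i) = f i := fun i => by rw [hf1def, ι_map, hf']
    have hu : colimit.ι A j (∑ i, φ.app j (f1 i) * x' i) = 0 := by
      rw [map_sum, ← hfx]
      refine Finset.sum_congr rfl fun i _ => ?_
      rw [map_mul, ← hΦ, hf1, hx', hsmul]
    obtain ⟨k, g, hg⟩ := exists_map_eq_zero A _ hu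
    letI algk : Algebra (C.obj k) (A.obj k) := (φ.app k).hom.toAlgebra
    haveI hffk : Module.FaithfullyFlat (C.obj k) (A.obj k) := h k
    have hsmulk : ∀ (r : C.obj k) (a : A.obj k), r • a = φ.app k r * a := fun r a => rfl
    have hrel : ∑ i, (C.map g (f1 i)) • (A.map g (x' i)) = 0 := by
      rw [← hg, map_sum]
      refine Finset.sum_congr rfl fun i _ => ?_
      rw [map_mul, ← hnat, hsmulk]
    obtain ⟨K, a, y, hxy, hfa⟩ := Module.Flat.isTrivialRelation_of_sum_smul_eq_zero (R := C.obj k) (M := A.obj k)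
      (f := fun i => C.map g (f1 i)) (x := fun i => A.map g (x' i)) hrel
    have hxy' : ∀ i, A.map g (x' i) = ∑ m, a i m • y m := hxy
    have hfa' : ∀ m, ∑ i, C.map g (f1 i) * a i m = 0 := hfa
    refine ⟨K, fun i m => colimit.ι C k (a i m), fun m => colimit.ι A k (y m),
      fun i => ?_, fun m => ?_⟩
    · beta_reduce
      rw [← hx' i, ← ι_map A g (x' i), hxy' i, map_sum]
      refine Finset.sum_congr rfl fun m _ => ?_
      rw [hsmul, hΦ, ← map_mul, hsmulk]
    · beta_reduce
      have hfk : ∀ i, f i = colimit.ι C k (C.map g (f1 i)) := fun i => by rw [ι_map, hf1]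
      have h5 : ∑ i, f i * colimit.ι C k (a i m)
          = colimit.ι C k (∑ i, C.map g (f1 i) * a i m) := by
        rw [map_sum]
        refine Finset.sum_congr rfl fun i _ => ?_
        rw [map_mul, hfk]
      rw [h5, hfa' m, map_zero]
  · intro m hm htop
    have hone : (1 : (colimit A : CommRingCat.{u})) ∈
        Ideal.map (algebraMap (colimit C : CommRingCat.{u}) (colimit A : CommRingCat.{u})) m := by
      have h6 : (1 : (colimit A : CommRingCat.{u})) ∈
          (m • ⊤ : Submodule (colimit C : CommRingCat.{u}) (colimit A : CommRingCat.{u})) := by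
        rw [htop]; trivial
      rw [Ideal.smul_top_eq_map] at h6
      exact h6
    obtain ⟨𝔭, h𝔭⟩ : ∃ 𝔭 : (j : J) → Ideal (C.obj j),
        ∀ j (r : C.obj j), r ∈ 𝔭 j ↔ colimit.ι C j r ∈ m :=
      ⟨fun j => Ideal.comap (colimit.ι C j).hom m, fun j r => Iff.rfl⟩
    have htrans : ∀ {j k : J} (g : j ⟶ k) (a' : A.obj j),
        a' ∈ Ideal.map (φ.app j).hom (𝔭 j) → A.map g a' ∈ Ideal.map (φ.app k).hom (𝔭 k) := by
      intro j k g a' ha'
      have h1 : Ideal.map (A.map g).hom (Ideal.map (φ.app j).hom (𝔭 j))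
          ≤ Ideal.map (φ.app k).hom (𝔭 k) := by
        rw [Ideal.map_map, Ideal.map_le_iff_le_comap]
        intro r hr
        rw [Ideal.mem_comap]
        show A.map g (φ.app j r) ∈ _
        rw [← hnat]
        apply Ideal.mem_map_of_mem
        rw [h𝔭, ι_map]
        exact (h𝔭 j r).1 hr
      exact h1 (Ideal.mem_map_of_mem _ ha')
    have hP : ∀ a ∈ Ideal.map
        (algebraMap (colimit C : CommRingCat.{u}) (colimit A : CommRingCat.{u})) m,
        ∃ (j : J) (a' : A.obj j), colimit.ι A j a' = a ∧ a' ∈ Ideal.map (φ.app j).hom (𝔭 j) := by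
      intro a ha
      refine Submodule.span_induction
        (p := fun a _ => ∃ (j : J) (a' : A.obj j), colimit.ι A j a' = a ∧
          a' ∈ Ideal.map (φ.app j).hom (𝔭 j)) ?_ ?_ ?_ ?_ ha
      · rintro _ ⟨r, hr, rfl⟩
        obtain ⟨j, r', hr'⟩ := Concrete.colimit_exists_rep C r
        refine ⟨j, φ.app j r', ?_, Ideal.mem_map_of_mem _ ?_⟩
        · rw [← hΦ, hr']; rfl
        · rw [h𝔭, hr']; exact hr
      · obtain ⟨j0⟩ := IsFiltered.nonempty (C := J)
        exact ⟨j0, 0, map_zero _, zero_mem _⟩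
      · rintro a b _ _ ⟨j1, a', rfl, ha'⟩ ⟨j2, b', rfl, hb'⟩
        refine ⟨IsFiltered.max j1 j2, A.map (IsFiltered.leftToMax j1 j2) a'
          + A.map (IsFiltered.rightToMax j1 j2) b', ?_,
          add_mem (htrans _ _ ha') (htrans _ _ hb')⟩
        rw [map_add, ι_map, ι_map]
      · rintro s a _ ⟨j1, a', rfl, ha'⟩
        obtain ⟨j2, s', rfl⟩ := Concrete.colimit_exists_rep A s
        refine ⟨IsFiltered.max j1 j2, A.map (IsFiltered.rightToMax j1 j2) s'
          * A.map (IsFiltered.leftToMax j1 j2) a', ?_,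
          Ideal.mul_mem_left _ _ (htrans _ _ ha')⟩
        rw [map_mul, ι_map, ι_map, smul_eq_mul]
    obtain ⟨j, a', ha1, ha'⟩ := hP 1 hone
    have hz : colimit.ι A j (a' - 1) = 0 := by rw [map_sub, ha1, map_one, sub_self]
    obtain ⟨k, g, hg⟩ := exists_map_eq_zero A _ hz
    have h1k : (1 : A.obj k) ∈ Ideal.map (φ.app k).hom (𝔭 k) := by
      have h7 := htrans g a' ha'
      rw [map_sub, map_one, sub_eq_zero] at hg
      rwa [hg] at h7
    letI algk : Algebra (C.obj k) (A.obj k) := (φ.app k).hom.toAlgebra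
    haveI hffk : Module.FaithfullyFlat (C.obj k) (A.obj k) := h k
    have h2 := Ideal.comap_map_eq_self_of_faithfullyFlat (B := A.obj k) (𝔭 k)
    have h3 : Ideal.map (algebraMap (C.obj k) (A.obj k)) (𝔭 k) = ⊤ :=
      (Ideal.eq_top_iff_one _).2 h1k
    rw [h3, Ideal.comap_top] at h2
    have h8 : (1 : C.obj k) ∈ 𝔭 k := by rw [← h2]; trivial
    have h4 : colimit.ι C k (1 : C.obj k) ∈ m := (h𝔭 k 1).1 h8
    rw [map_one] at h4
    exact hm.ne_top ((Ideal.eq_top_iff_one _).2 h4)

end helpers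

/-- Let (C_i → A_i)_i be a filtered direct system of homomorphisms of commutative rings, each of which
is faithfully flat. Then the induced homomorphism colim C_i → colim A_i is faithfully flat. -/
theorem result (J : Type u) [SmallCategory J] [IsFiltered J]
    (C A : J ⥤ CommRingCat.{u}) (φ : C ⟶ A) (h : ∀ j : J, (φ.app j).hom.FaithfullyFlat) :
    (colimMap φ).hom.FaithfullyFlat := by
  exact aux J C A φ h

end Groth.Agent.S5377
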