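import Groth.Statements.S5381
import Mathlib

set_option autoImplicit false
universe u
open CategoryTheory CategoryTheory.Limits MonoidalCategory CartesianMonoidalCategory MonObj GrpObj AlgebraicGeometry
open SGA3

namespace Groth.Agent.S5381

/-- For S the spectrum of a Dedekind domain R: let X be a scheme which is flat, quasi-compact and
quasi-separated over R. Then the ring of global sections Γ(X, O_X) is a flat R-module. (The
published remark takes S locally noetherian and regular of dimension 1 and also observes, when S is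
local with closed point s and uniformizer π, that Γ(X, O_X)/πΓ(X, O_X) → Γ(X_s, O_{X_s}) is
injective; this row takes S the spectrum of a Dedekind domain and omits the injectivity.) -/
theorem result (R : Type u) [CommRing R] [IsDedekindDomain R]
    (X : Scheme.{u}) (f : X ⟶ Spec (CommRingCat.of R)) [Flat f] [QuasiCompact f] [QuasiSeparated f] :
    letI := ((Scheme.ΓSpecIso (CommRingCat.of R)).inv ≫ f.appTop).hom.toAlgebra
    Module.Flat R Γ(X, ⊤) := by
  letI := ((Scheme.ΓSpecIso (CommRingCat.of R)).inv ≫ f.appTop).hom.toAlgebra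
  let φ : CommRingCat.of R ⟶ Γ(X, ⊤) := (Scheme.ΓSpecIso (CommRingCat.of R)).inv ≫ f.appTop
  have Hiso := RingHom.Flat.respectsIso
  have : Module.IsTorsionFree R Γ(X, ⊤) := by
    refine ⟨fun r hr a a' h => ?_⟩
    have h' : φ.hom r * a = φ.hom r * a' := h
    refine TopCat.Presheaf.section_ext X.sheaf _ _ _ ?_
    intro x hx
    obtain ⟨_, ⟨W, hW, rfl⟩, hxW, -⟩ :=
      X.isBasis_affineOpens.exists_subset_of_mem_open (Set.mem_univ x) isOpen_univ
    have hψ : (f.appLE ⊤ W le_top).hom.Flat :=
      HasRingHomProperty.appLE @Flat f inferInstance ⟨⊤, isAffineOpen_top _⟩ ⟨W, hW⟩ le_top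
    let ψ : CommRingCat.of R ⟶ Γ(X, W) :=
      (Scheme.ΓSpecIso (CommRingCat.of R)).inv ≫ f.appLE ⊤ W le_top
    have hψ' : ψ.hom.Flat := (Hiso.cancel_left_isIso _ _).mpr hψ
    have hcomp : ψ = φ ≫ X.presheaf.map (homOfLE (le_top : W ≤ ⊤)).op := by
      simp only [ψ, φ, Category.assoc, Scheme.Hom.appLE, Scheme.Hom.appTop]
      rfl
    have key : X.presheaf.map (homOfLE (le_top : W ≤ ⊤)).op a =
        X.presheaf.map (homOfLE (le_top : W ≤ ⊤)).op a' := by
      algebraize [ψ.hom]
      have tf : Module.IsTorsionFree R Γ(X, W) := inferInstance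
      apply tf.isSMulRegular hr
      show ψ.hom r * _ = ψ.hom r * _
      rw [hcomp]
      simp only [CommRingCat.hom_comp, RingHom.coe_comp, Function.comp_apply]
      rw [← map_mul, ← map_mul, h']
    have e1 : ∀ b : Γ(X, ⊤), X.presheaf.germ ⊤ x hx b =
        X.presheaf.germ W x hxW (X.presheaf.map (homOfLE (le_top : W ≤ ⊤)).op b) := by
      intro b
      exact (X.presheaf.germ_res_apply (homOfLE le_top) x hxW _).symm
    show X.presheaf.germ ⊤ x hx a = X.presheaf.germ ⊤ x hx a'
    rw [e1, e1, key]
  infer_instance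

end Groth.Agent.S5381
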