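import Groth.Statements.S5387
import Mathlib
-- import your own Groth.Agent.* helpers here

set_option autoImplicit false
universe u
open CategoryTheory CategoryTheory.Limits MonoidalCategory CartesianMonoidalCategory MonObj GrpObj AlgebraicGeometry
open SGA3

namespace Groth.Agent.S5387

/-- Let k be an algebraically closed field, G a group scheme locally of finite type over k and x a
closed point of G. Then the local ring of G at x is isomorphic to the local ring of G at the unit
point (an isomorphism is induced by a translation; this row asserts the existence of an isomorphism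
of rings). -/
theorem result (k : Type u) [Field k] [IsAlgClosed k] (G : Over (Spec (CommRingCat.of k))) [GrpObj G]
    [LocallyOfFiniteType G.hom] (pt : ↥(𝟙_ (Over (Spec (CommRingCat.of k)))).left) (x : G.left) (hx : IsClosed ({x} : Set G.left)) :
    Nonempty (G.left.presheaf.stalk (η[G].left.base pt) ≅ G.left.presheaf.stalk x) := by

  classical
  let y' : 𝟙_ (Over (Spec (CommRingCat.of k))) ⟶ G :=
    Over.homMk (pointOfClosedPoint G.hom x hx) (pointOfClosedPoint_comp G.hom x hx)
  let α : G ≅ G := GrpObj.mulRight y'
  have hα : η[G] ≫ α.hom = y' := by
    simp only [α, GrpObj.mulRight_hom, comp_lift_assoc, Category.comp_id]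
    have := MonObj.lift_comp_one_left (𝟙 (𝟙_ (Over (Spec (CommRingCat.of k))))) y'
    simpa using this
  have h1 : η[G].left ≫ α.hom.left = y'.left := by
    rw [← Over.comp_left, hα]
  have hα' : α.hom.left (η[G].left pt) = x := by
    have h2 := congrArg (fun φ : (𝟙_ (Over (Spec (CommRingCat.of k)))).left ⟶ G.left => φ pt) h1
    simp only [Scheme.Hom.comp_apply] at h2
    rw [h2]
    exact pointOfClosedPoint_apply G.hom x hx pt
  haveI : IsIso α.hom.left := inferInstance
  exact ⟨(asIso (α.hom.left.stalkMap (η[G].left pt))).symm ≪≫
    G.left.presheaf.stalkCongr (.of_eq hα')⟩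

end Groth.Agent.S5387
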