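import Groth.Statements.S5390
import Mathlib

set_option autoImplicit false
universe u
open CategoryTheory CategoryTheory.Limits MonoidalCategory CartesianMonoidalCategory MonObj GrpObj AlgebraicGeometry
open SGA3

namespace Groth.Agent.S5390

/-- Restricting a pullback square to opens. -/
theorem restrict_isPullback {X Y X' Y' : Scheme.{u}} {p : X' ⟶ X} {f' : X' ⟶ Y'} {f : X ⟶ Y}
    {g : Y' ⟶ Y} (H : IsPullback p f' f g) (U : Y.Opens) (U' : Y'.Opens)
    (gm : (U' : Scheme.{u}) ⟶ (U : Scheme.{u})) (hgm : gm ≫ U.ι = U'.ι ≫ g) :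
    ∃ top : ((f' ⁻¹ᵁ U' : X'.Opens) : Scheme.{u}) ⟶ ((f ⁻¹ᵁ U : X.Opens) : Scheme.{u}),
      IsPullback (f' ∣_ U') top gm (f ∣_ U) := by
  have h1 := (isPullback_morphismRestrict f' U').flip
  have h12 := h1.paste_horiz H
  rw [← hgm] at h12
  have h2 := (isPullback_morphismRestrict f U).flip
  let top := h2.lift ((f' ⁻¹ᵁ U').ι ≫ p) (f' ∣_ U' ≫ gm) (by
    rw [Category.assoc, Category.assoc, hgm, H.w, ← Category.assoc, ← Category.assoc,
      morphismRestrict_ι])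
  have ht1 : top ≫ (f ⁻¹ᵁ U).ι = (f' ⁻¹ᵁ U').ι ≫ p := h2.lift_fst _ _ _
  have ht2 : top ≫ f ∣_ U = f' ∣_ U' ≫ gm := h2.lift_snd _ _ _
  refine ⟨top, IsPullback.flip ?_⟩
  refine IsPullback.of_right ?_ ht2 h2
  rw [ht1]
  exact h12

/-- Let P be a property of morphisms of schemes which is local on the target for the fpqc topology
(stable under base change, Zariski-local on the target, descending along flat surjective
quasi-compact morphisms). Let f : X → Y be a morphism, g : Y' → Y a flat morphism whose underlying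
map is open, and f' : X ×_Y Y' → Y' the base change. If W is the largest open of Y over which f has
P and W₁' the largest open of Y' over which f' has P, then W₁' = g⁻¹(W). -/
theorem result (P : MorphismProperty Scheme.{u}) [P.IsStableUnderBaseChange] [IsZariskiLocalAtTarget P]
    [P.DescendsAlong (@Flat ⊓ @Surjective ⊓ @QuasiCompact)]
    (X Y Y' : Scheme.{u}) (f : X ⟶ Y) (g : Y' ⟶ Y) [Flat g] (hg : IsOpenMap g.base)
    (W : Y.Opens) (hW : P (f ∣_ W)) (hmax : ∀ W₀ : Y.Opens, P (f ∣_ W₀) → W₀ ≤ W)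
    (W₁ : Y'.Opens) (hW₁ : P (pullback.snd f g ∣_ W₁)) (hmax₁ : ∀ W₀ : Y'.Opens, P (pullback.snd f g ∣_ W₀) → W₀ ≤ W₁) :
    W₁ = g ⁻¹ᵁ W := by
  have H : IsPullback (pullback.fst f g) (pullback.snd f g) f g := .of_hasPullback f g
  apply le_antisymm
  · intro y' hy'
    show g y' ∈ W
    obtain ⟨_, ⟨V, hV : IsAffineOpen V, rfl⟩, hyV, -⟩ :=
      Y.isBasis_affineOpens.exists_subset_of_mem_open (Set.mem_univ (g y')) isOpen_univ
    obtain ⟨_, ⟨V'', hV₂ : IsAffineOpen V'', rfl⟩, hy'V₂, hV₂sub⟩ :=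
      Y'.isBasis_affineOpens.exists_subset_of_mem_open
        (show y' ∈ (W₁ ⊓ g ⁻¹ᵁ V : Y'.Opens) from ⟨hy', hyV⟩) (W₁ ⊓ g ⁻¹ᵁ V).2
    obtain ⟨V₂, rfl⟩ : ∃ V₂ : Y'.Opens, V₂ = V'' := ⟨V'', rfl⟩
    let W₀ : Y.Opens := ⟨g '' (V₂ : Set Y'), hg _ V₂.2⟩
    have hW₀V : W₀ ≤ V := by
      rintro _ ⟨z, hz, rfl⟩
      exact (hV₂sub hz).2
    have hrange : Set.range (V₂.ι ≫ g) ⊆ Set.range W₀.ι := by
      rw [Scheme.Opens.range_ι]
      rintro _ ⟨z, rfl⟩
      exact ⟨z.1, z.2, rfl⟩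
    let gm := IsOpenImmersion.lift W₀.ι (V₂.ι ≫ g) hrange
    have hgm : gm ≫ W₀.ι = V₂.ι ≫ g := IsOpenImmersion.lift_fac _ _ _
    haveI : Flat (gm ≫ W₀.ι) := by rw [hgm]; infer_instance
    haveI : Flat gm := MorphismProperty.of_postcomp (W := @Flat) (W' := @IsOpenImmersion) gm W₀.ι
      inferInstance inferInstance
    haveI : Surjective gm := by
      constructor
      rintro ⟨w, z, hz, rfl⟩
      refine ⟨⟨z, hz⟩, ?_⟩
      apply Subtype.ext
      show W₀.ι (gm ⟨z, hz⟩) = g z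
      rw [← Scheme.Hom.comp_apply, hgm]
      rfl
    haveI : CompactSpace ↥V₂ := isCompact_iff_compactSpace.mp hV₂.isCompact
    haveI : QuasiSeparatedSpace ↥W₀ :=
      (isQuasiSeparated_iff_quasiSeparatedSpace _ W₀.2).mp (hV.isQuasiSeparated.of_subset hW₀V)
    haveI : CompactSpace ((V₂ : Y'.Opens) : Scheme.{u}) := ‹CompactSpace ↥V₂›
    haveI : QuasiSeparatedSpace ((W₀ : Y.Opens) : Scheme.{u}) := ‹QuasiSeparatedSpace ↥W₀›
    haveI : QuasiCompact gm := quasiCompact_of_compactSpace gm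
    have hV₂W₁ : V₂ ≤ W₁ := fun z hz => (hV₂sub hz).1
    obtain ⟨t1, ht1⟩ := restrict_isPullback (IsPullback.id_horiz (pullback.snd f g)) W₁ V₂
      (Y'.homOfLE hV₂W₁) (by simp)
    have hP1 : P (pullback.snd f g ∣_ V₂) := P.of_isPullback ht1.flip hW₁
    obtain ⟨t2, ht2⟩ := restrict_isPullback H W₀ V₂ gm hgm
    have hP0 : P (f ∣_ W₀) := MorphismProperty.of_isPullback_of_descendsAlong
      (Q := @Flat ⊓ @Surjective ⊓ @QuasiCompact) ht2 ⟨⟨‹Flat gm›, ‹Surjective gm›⟩, ‹QuasiCompact gm›⟩ hP1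
    exact hmax W₀ hP0 ⟨y', hy'V₂, rfl⟩
  · apply hmax₁
    obtain ⟨t, ht⟩ := restrict_isPullback H W (g ⁻¹ᵁ W) (g ∣_ W) (morphismRestrict_ι g W)
    exact P.of_isPullback ht.flip hW

end Groth.Agent.S5390
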