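import Groth.Statements.S5423
import Groth.Agent.Lib.Kolchin_helper9
import Groth.Agent.Lib.UnipFlag_helper9
import Groth.Agent.Lib.InvRey2_helper9

set_option autoImplicit false
universe u
open TensorProduct
open SGA3t2b

open Groth.Agent.Lib.UnipFlag_helper9 Groth.Agent.Lib.ComodDual_helper9 Groth.Agent.Lib.InvRey2_helper9
namespace Groth.Agent.S5423

/-- Let k be an algebraically closed field and A a reduced finitely generated commutative Hopf algebra
over k (a smooth affine algebraic k-group G). Then G is unipotent (every non-zero finite-dimensional
representation has a non-zero fixed vector) if and only if every element of G(k) is unipotent, i.e.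
every k-point g : A → k acts on every finite-dimensional comodule V by an endomorphism g_V with g_V
− 1 nilpotent. -/
theorem result (k : Type u) [Field k] [IsAlgClosed k] (A : Type u) [CommRing A] [HopfAlgebra k A] [Algebra.FiniteType k A]
    [IsReduced A] :
    HopfRep.IsUnipotent k A ↔
      ∀ (g : A →ₐ[k] k) (V : Type u) [AddCommGroup V] [Module k V] [HopfRep.Comod k A V],
        Module.Finite k V → IsNilpotent (HopfRep.Comod.act k A V g - LinearMap.id) := by
  constructor
  · intro hU g V _ _ _ hfin
    obtain ⟨m, F, _, h0, hm, _, hgr⟩ := hasTrivFlag_of_isUnipotent k A hU _ V hfin rfl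
    exact ⟨m, act_sub_one_pow_eq_zero k A g m F h0 hm hgr⟩
  · intro h V _ _ cV hfin hnt
    haveI := hfin
    haveI := hnt
    let ρ : Representation k (WithConv (A →ₐ[k] k)) V :=
      { toFun := fun g => HopfRep.Comod.act k A V g.ofConv
        map_one' := by
          apply LinearMap.ext; intro v
          show act (1 : WithConv (A →ₗ[k] k)).ofConv v = v
          exact act_one v
        map_mul' := by
          intro g g'
          apply LinearMap.ext; intro v
          show act ((WithConv.toConv g.ofConv.toLinearMap) *
              (WithConv.toConv g'.ofConv.toLinearMap)).ofConv v =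
            act (WithConv.toConv g.ofConv.toLinearMap).ofConv
              (act (WithConv.toConv g'.ofConv.toLinearMap).ofConv v)
          exact act_mul _ _ v }
    have hρ : ∀ g, IsNilpotent (ρ g - 1) := fun g => h g.ofConv V hfin
    obtain ⟨v, hv0, hvfix⟩ := Kolchin9.kolchin_monoid ρ hρ
    intro hbot
    have hvfp : v ∈ HopfRep.fixedPts k A V := by
      show HopfRep.Comod.coact (k := k) (A := A) v = v ⊗ₜ[k] (1 : A)
      rw [← sub_eq_zero]
      set x : V ⊗[k] A := HopfRep.Comod.coact (k := k) (A := A) v - v ⊗ₜ[k] (1 : A) with hx
      have hev : ∀ g : A →ₐ[k] k, ev V g.toLinearMap x = 0 := by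
        intro g
        rw [hx, map_sub, ev_tmul]
        have h1 : g.toLinearMap (1 : A) = 1 := map_one g
        rw [h1, one_smul, sub_eq_zero]
        exact hvfix (WithConv.toConv g)
      classical
      let b := Module.finBasis k V
      let E := TensorProduct.equivFinsuppOfBasisLeft (N := A) b
      have hcoord : ∀ (g : A →ₐ[k] k) (y : V ⊗[k] A) i,
          g (E y i) = b.repr (ev V g.toLinearMap y) i := by
        intro g y i
        induction y using TensorProduct.induction_on with
        | zero => simp
        | add y z hy hz =>
          rw [map_add, Finsupp.add_apply, map_add, hy, hz, map_add, map_add, Finsupp.add_apply]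
        | tmul w a =>
          rw [TensorProduct.equivFinsuppOfBasisLeft_apply_tmul_apply, ev_tmul]
          have h1 : g (b.repr w i • a) = b.repr w i * g a := by rw [map_smul, smul_eq_mul]
          have h2 : b.repr (g.toLinearMap a • w) i = g a * b.repr w i := by
            rw [map_smul, Finsupp.smul_apply, smul_eq_mul]; rfl
          rw [h1, h2, mul_comm]
      apply E.injective
      rw [map_zero]
      ext i
      rw [Finsupp.zero_apply]
      have hnil : IsNilpotent (E x i) := by
        apply isNilpotent_of_forall_point k A
        intro g
        rw [hcoord, hev g, map_zero, Finsupp.zero_apply]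
      exact hnil.eq_zero
    rw [hbot, Submodule.mem_bot] at hvfp
    exact hv0 hvfp

end Groth.Agent.S5423
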