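import Groth.Statements.S5444
import Mathlib
import Groth.Agent.Lib.GenDim7_helper8

set_option autoImplicit false
universe u
open CategoryTheory AlgebraicGeometry Topology
open SGA3x

namespace Groth.Agent.S5444

/-- Let f : Y → S be a morphism of finite presentation, (a_i)_{i ∈ I} a family of sections of f, and s₀,
s₁ two points of S with s₀ a specialization of s₁. For j = 0, 1 let C_j be the closure in the fibre
Y_{s_j} (with its subspace topology) of the set of points a_i(s_j). Then dim C₁ ≥ dim C₀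
(topological Krull dimensions). -/
theorem result (S Y : Scheme.{u}) (f : Y ⟶ S) [QuasiCompact f] [QuasiSeparated f] [LocallyOfFinitePresentation f]
    (ι : Type u) (a : ι → (S ⟶ Y)) (ha : ∀ i, a i ≫ f = 𝟙 S) (s₀ s₁ : S) (h : s₁ ⤳ s₀) :
    topologicalKrullDim ↥(f.base ⁻¹' {s₀} ∩ closure (Set.range fun i => (a i).base s₀)) ≤
      topologicalKrullDim ↥(f.base ⁻¹' {s₁} ∩ closure (Set.range fun i => (a i).base s₁)) := by
  have key : ∀ t : S, (⋃ i, Set.range (a i)) ∩ f ⁻¹' {t} = Set.range fun i => (a i) t := by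
    intro t
    ext x
    constructor
    · rintro ⟨hx, hxt⟩
      rw [Set.mem_iUnion] at hx
      obtain ⟨i, t', rfl⟩ := hx
      have h1 : f ((a i) t') = t' := by
        rw [← Scheme.Hom.comp_apply, ha i]
        rfl
      have h2 : f ((a i) t') = t := hxt
      rw [h1] at h2
      exact ⟨i, by rw [h2]⟩
    · rintro ⟨i, rfl⟩
      refine ⟨Set.mem_iUnion.mpr ⟨i, t, rfl⟩, ?_⟩
      show f ((a i) t) = t
      rw [← Scheme.Hom.comp_apply, ha i]
      rfl
  haveI : ∀ i : ι, UniversallyOpen ((fun _ : ι => 𝟙 S) i) := fun _ => inferInstance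
  have := Groth.Agent.Lib.GenDimH8.main4972 f (fun _ : ι => S) (fun _ => 𝟙 S) a ha s₀ s₁ h
  rw [key s₀, key s₁] at this
  exact this

end Groth.Agent.S5444
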