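import Groth.Statements.S5445
import Groth.Agent.Lib.RootDWeyl_helper8

set_option autoImplicit false
open RootD

namespace Groth.Agent.S5445

open Groth.Agent.Lib.RootD_helper8 Groth.Agent.Lib.RootDWeyl_helper8 in
/-- A system of positive roots of a root datum contains exactly one system of simple roots (simple
systems in the sense of conditions on roots only: linearly independent, every root a non-negative or
non-positive integer combination). -/
theorem result {ι M N : Type*} [AddCommGroup M] [AddCommGroup N]
    (P : RootPairing ι ℤ M N) [Finite ι] (S : Set ι) (hS : RootD.IsPosSys P S) :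
    ∃! Δ : Set ι, RootD.IsSimpleSys P Δ ∧ Δ ⊆ S := by
  obtain ⟨Δ, hΔ, hsub, hSΔ⟩ := exists_isSimpleSys_of_isPosSys hS
  refine ⟨Δ, ⟨hΔ, hsub⟩, ?_⟩
  rintro Δ' ⟨hΔ', hsub'⟩
  have h1 := eq_posOf_of_subset hΔ' hS hsub'
  exact eq_of_posOf_eq hΔ' hΔ (h1.symm.trans hSΔ)

end Groth.Agent.S5445
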