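import Groth.Statements.S5447
import Groth.Agent.Lib.RootDCone_helper8

set_option autoImplicit false
open RootD

namespace Groth.Agent.S5447

open Groth.Agent.Lib.RootD_helper8 Groth.Agent.Lib.RootDCone_helper8

/-- If every root can be written in exactly one way as an integer combination of the roots indexed by Δ
with coefficients all of the same sign, then these roots are linearly independent (so Δ is a system
of simple roots) and indivisible. -/
theorem result {ι M N : Type*} [AddCommGroup M] [AddCommGroup N]
    (P : RootPairing ι ℤ M N) [Finite ι] (Δ : Set ι)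
    (h : ∀ k : ι, ∃! c : ι →₀ ℤ, (↑c.support ⊆ Δ ∧ ((∀ j, 0 ≤ c j) ∨ (∀ j, c j ≤ 0)) ∧
      Finsupp.linearCombination ℤ P.root c = P.root k)) :
    RootD.IsSimpleSys P Δ ∧ ∀ i ∈ Δ, RootD.IsIndiv P i := by
  classical
  -- uniqueness, in usable form
  have huniq : ∀ (k : ι) (c d : ι →₀ ℤ), (↑c.support ⊆ Δ) → ((∀ j, 0 ≤ c j) ∨ (∀ j, c j ≤ 0)) →
      Finsupp.linearCombination ℤ P.root c = P.root k → (↑d.support ⊆ Δ) →
      ((∀ j, 0 ≤ d j) ∨ (∀ j, d j ≤ 0)) → Finsupp.linearCombination ℤ P.root d = P.root k →
      c = d := by
    intro k c d hc1 hc2 hc3 hd1 hd2 hd3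
    exact (h k).unique ⟨hc1, hc2, hc3⟩ ⟨hd1, hd2, hd3⟩
  have hsingle : ∀ i ∈ Δ, ∀ a : ℤ, (↑(Finsupp.single i a).support : Set ι) ⊆ Δ := by
    intro i hi a j hj
    have := Finsupp.support_single_subset hj
    have : j = i := by simpa using this
    exact this ▸ hi
  -- indivisibility
  have hind : ∀ i ∈ Δ, IsIndiv P i := by
    intro i hi j hj
    obtain ⟨c, ⟨hc1, hc2, hc3⟩, -⟩ := h j
    have h1 : (2 : ℤ) • c = Finsupp.single i 1 := by
      apply huniq i
      · intro l hl
        apply hc1
        simp only [Finset.mem_coe, Finsupp.mem_support_iff, Finsupp.coe_smul, Pi.smul_apply,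
          smul_eq_mul, ne_eq, mul_eq_zero, OfNat.ofNat_ne_zero, false_or] at hl ⊢
        exact hl
      · rcases hc2 with h0 | h0
        · left; intro l
          have := h0 l
          simp only [Finsupp.coe_smul, Pi.smul_apply, smul_eq_mul]; omega
        · right; intro l
          have := h0 l
          simp only [Finsupp.coe_smul, Pi.smul_apply, smul_eq_mul]; omega
      · rw [map_smul, hc3, hj]
      · exact hsingle i hi 1
      · left; intro l
        rw [Finsupp.single_apply]; split_ifs <;> norm_num
      · rw [Finsupp.linearCombination_single, one_smul]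
    have h2 := DFunLike.congr_fun h1 i
    simp only [Finsupp.coe_smul, Pi.smul_apply, smul_eq_mul, Finsupp.single_eq_same] at h2
    omega
  -- strictness of the cone
  have hzero : ∀ x : M, x ∈ natSpan P Δ → -x ∈ natSpan P Δ → x = 0 := by
    intro x hx hx'
    obtain ⟨c, hc, hc0, rfl⟩ := (mem_natSpan_iff P Δ _).mp hx
    obtain ⟨d, hd, hd0, hdx⟩ := (mem_natSpan_iff P Δ _).mp hx'
    have hcd : Finsupp.linearCombination ℤ P.root (c + d) = 0 := by
      rw [map_add, hdx, add_neg_cancel]
    have hcd0 : c + d = 0 := by
      by_contra hne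
      obtain ⟨i₀, hi₀⟩ : ∃ i₀, (c + d) i₀ ≠ 0 := by
        by_contra hall
        push Not at hall
        exact hne (Finsupp.ext hall)
      have hi₀Δ : i₀ ∈ Δ := by
        have : i₀ ∈ (c + d).support := by simpa using hi₀
        rcases Finset.mem_union.mp (Finsupp.support_add this) with h1 | h1
        · exact hc h1
        · exact hd h1
      have hpos : 1 ≤ (c + d) i₀ := by
        have := hc0 i₀
        have := hd0 i₀
        simp only [Finsupp.coe_add, Pi.add_apply] at hi₀ ⊢
        omega
      have h1 : c + d - Finsupp.single i₀ 1 = -Finsupp.single i₀ 1 := by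
        apply huniq (P.reflectionPerm i₀ i₀)
        · intro l hl
          have hl' := Finsupp.support_sub hl
          rcases Finset.mem_union.mp hl' with h1 | h1
          · rcases Finset.mem_union.mp (Finsupp.support_add h1) with h2 | h2
            · exact hc h2
            · exact hd h2
          · exact hsingle i₀ hi₀Δ 1 h1
        · left; intro l
          simp only [Finsupp.coe_sub, Finsupp.coe_add, Pi.sub_apply, Pi.add_apply]
          by_cases hl : l = i₀
          · subst hl
            simp only [Finsupp.coe_add, Pi.add_apply] at hpos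
            rw [Finsupp.single_eq_same]; omega
          · rw [Finsupp.single_eq_of_ne hl]
            have := hc0 l
            have := hd0 l
            omega
        · rw [map_sub, hcd, Finsupp.linearCombination_single, one_smul, zero_sub, root_neg]
        · intro l hl
          apply hsingle i₀ hi₀Δ 1
          simpa using hl
        · right; intro l
          simp only [Finsupp.coe_neg, Pi.neg_apply]
          rw [Finsupp.single_apply]; split_ifs <;> norm_num
        · rw [map_neg, Finsupp.linearCombination_single, one_smul, root_neg]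
      exact hne (by simpa using h1)
    have hc00 : c = 0 := by
      ext j
      have h3 := DFunLike.congr_fun hcd0 j
      simp only [Finsupp.coe_add, Pi.add_apply, Finsupp.coe_zero, Pi.zero_apply] at h3
      have := hc0 j
      have := hd0 j
      simp only [Finsupp.coe_zero, Pi.zero_apply]
      omega
    rw [hc00, map_zero]
  -- the cone condition
  have hmem : ∀ k : ι, P.root k ∈ natSpan P Δ ∨ -P.root k ∈ natSpan P Δ := by
    intro k
    obtain ⟨c, ⟨hc1, hc2, hc3⟩, -⟩ := h k
    rcases hc2 with h0 | h0
    · exact Or.inl ((mem_natSpan_iff P Δ _).mpr ⟨c, hc1, h0, hc3⟩)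
    · refine Or.inr ((mem_natSpan_iff P Δ _).mpr ⟨-c, ?_, ?_, ?_⟩)
      · rwa [Finsupp.support_neg]
      · intro j
        have := h0 j
        simp only [Finsupp.coe_neg, Pi.neg_apply]; omega
      · rw [map_neg, hc3]
  have hcone : ∀ k : ι, ∃ n : ℕ, 0 < n ∧
      (n • P.root k ∈ natSpan P Δ ∨ n • (-P.root k) ∈ natSpan P Δ) := by
    intro k
    refine ⟨1, one_pos, ?_⟩
    rw [one_smul, one_smul]
    exact hmem k
  obtain ⟨Δ₁, hΔ₁, hsub⟩ := exists_isSimpleSys_subset_of_cone Δ hind hzero hcone
  have hsub' : Δ ⊆ Δ₁ := by
    intro δ hδ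
    -- δ is positive for Δ₁
    have hδpos : δ ∈ posOf P Δ₁ := by
      rcases mem_posOf_or_neg_mem hΔ₁ δ with h1 | h1
      · exact h1
      · exfalso
        have h2 : -P.root δ ∈ natSpan P Δ := by
          have := natSpan_mono hsub h1
          rwa [root_neg] at this
        have h3 : P.root δ ∈ natSpan P Δ :=
          AddSubmonoid.subset_closure (Set.mem_image_of_mem _ hδ)
        exact P.ne_zero δ (hzero _ h3 h2)
    have h1 : coeff hΔ₁ δ = Finsupp.single δ 1 := by
      apply huniq δ
      · exact (support_coeff hΔ₁ δ).trans hsub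
      · exact Or.inl ((mem_posOf_iff hΔ₁ δ).mp hδpos)
      · exact linearCombination_coeff hΔ₁ δ
      · exact hsingle δ hδ 1
      · left; intro l
        rw [Finsupp.single_apply]; split_ifs <;> norm_num
      · rw [Finsupp.linearCombination_single, one_smul]
    apply support_coeff hΔ₁ δ
    rw [h1]
    simp
  have heq : Δ = Δ₁ := Set.Subset.antisymm hsub' hsub
  exact ⟨heq ▸ hΔ₁, hind⟩

end Groth.Agent.S5447
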