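import Groth.Statements.S5448
import Groth.Agent.Lib.RootD_helper8

set_option autoImplicit false
open RootD

namespace Groth.Agent.S5448

open Groth.Agent.Lib.RootD_helper8 in
/-- The elements of a system of simple roots (root-only sense) are indivisible, i.e. none of them is
twice a root. -/
theorem result {ι M N : Type*} [AddCommGroup M] [AddCommGroup N]
    (P : RootPairing ι ℤ M N) [Finite ι] (Δ : Set ι) (hΔ : RootD.IsSimpleSys P Δ)
    (i : ι) (hi : i ∈ Δ) : RootD.IsIndiv P i := by
  intro j hj
  have h1 : coeff hΔ i = (2 : ℤ) • coeff hΔ j := by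
    apply coeff_eq hΔ
    · intro l hl
      apply support_coeff hΔ j
      simp only [Finset.mem_coe, Finsupp.mem_support_iff, Finsupp.coe_smul, Pi.smul_apply,
        smul_eq_mul, ne_eq, mul_eq_zero, OfNat.ofNat_ne_zero, false_or] at hl ⊢
      exact hl
    · rw [map_smul, linearCombination_coeff, hj]
  have h2 := congrArg (fun c => c i) h1
  simp only [coeff_self hΔ hi, Finsupp.single_eq_same, Finsupp.coe_smul, Pi.smul_apply,
    smul_eq_mul] at h2
  omega

end Groth.Agent.S5448
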