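import Groth.Statements.S5450
import Groth.Agent.Lib.RootD_helper8

set_option autoImplicit false
open RootD

namespace Groth.Agent.S5450

open Groth.Agent.Lib.RootD_helper8 in
/-- A positive root (relative to a system of simple roots Δ) is simple if and only if it is not the sum
of two positive roots. -/
theorem result {ι M N : Type*} [AddCommGroup M] [AddCommGroup N]
    (P : RootPairing ι ℤ M N) [Finite ι] (Δ : Set ι) (hΔ : RootD.IsSimpleSys P Δ)
    (k : ι) (hk : k ∈ RootD.posOf P Δ) :
    k ∈ Δ ↔ ¬ ∃ i j : ι, i ∈ RootD.posOf P Δ ∧ j ∈ RootD.posOf P Δ ∧ P.root k = P.root i + P.root j := by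
  refine ⟨fun h => not_exists_add_of_mem hΔ h, fun h => ?_⟩
  by_contra hkΔ
  obtain ⟨j, hj, l, hl, hkl, -⟩ := exists_sub_simple hΔ hk hkΔ
  exact h ⟨l, j, hl, subset_posOf hj, hkl⟩

end Groth.Agent.S5450
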