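import Groth.Statements.S5451
import Groth.Agent.Lib.RootD_helper8

set_option autoImplicit false
open RootD

namespace Groth.Agent.S5451

open Groth.Agent.Lib.RootD_helper8 in
/-- If a root is a positive integer combination of roots α_i, then it can be reached from 0 by
successively adding roots taken among the α_i in such a way that every partial sum is a root. -/
theorem result {ι M N : Type*} [AddCommGroup M] [AddCommGroup N]
    (P : RootPairing ι ℤ M N) [Finite ι] {n : ℕ} (a : Fin n → ι) (m : Fin n → ℕ)
    (hm : ∀ i, 0 < m i) (k : ι) (hk : P.root k = ∑ i, m i • P.root (a i)) :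
    ∃ (l : ℕ) (b : Fin l → Fin n), 0 < l ∧
      (∀ p : Fin l, ∃ j : ι, P.root j = ∑ q ∈ Finset.univ.filter (fun q : Fin l => q.val ≤ p.val), P.root (a (b q))) ∧
      P.root k = ∑ q, P.root (a (b q)) := by
  obtain ⟨l, b, hl, -, hpart, htot⟩ := exists_chain (P := P) Finset.univ a _ m k rfl hk
  refine ⟨l, fun q => b q.val, hl, fun p => ?_, ?_⟩
  · obtain ⟨j, hj⟩ := hpart p.val p.isLt
    refine ⟨j, hj.trans ?_⟩
    rw [Finset.sum_filter]
    rw [Fin.sum_univ_eq_sum_range (fun q => if q ≤ p.val then P.root (a (b q)) else 0) l,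
      ← Finset.sum_filter]
    congr 1
    ext q
    simp only [Finset.mem_range, Finset.mem_filter]
    have := p.isLt
    omega
  · rw [htot]
    exact (Fin.sum_univ_eq_sum_range (fun q => P.root (a (b q))) l).symm

end Groth.Agent.S5451
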