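import Groth.Statements.S5457
import Mathlib.Algebra.Order.Monoid.Unbundled.Pow

set_option autoImplicit false
open RootD

namespace Groth.Agent.S5457

/-- Given a translation-invariant partial order (pulled back along an additive map to an ordered abelian
group) for which every root is > 0 or < 0, the roots > 0 form a system of positive roots. -/
theorem result {ι M N : Type*} [AddCommGroup M] [AddCommGroup N]
    (P : RootPairing ι ℤ M N) [Finite ι] {G : Type*} [AddCommGroup G] [PartialOrder G]
    [IsOrderedAddMonoid G] (φ : M →+ G) (hφ : ∀ i : ι, 0 < φ (P.root i) ∨ φ (P.root i) < 0) :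
    RootD.IsPosSys P {i : ι | 0 < φ (P.root i)} := by
  have hneg : ∀ l, P.root (P.reflectionPerm l l) = - P.root l := fun l => by simp
  refine ⟨?_, ?_, ?_⟩
  · intro i hi hi'
    simp only [Set.mem_ofPred_eq, hneg, map_neg, Left.neg_pos_iff] at hi hi'
    exact lt_asymm hi hi'
  · intro i
    rcases hφ i with h | h
    · exact Or.inl h
    · right
      simp only [Set.mem_ofPred_eq, hneg, map_neg, Left.neg_pos_iff]
      exact h
  · intro k n hn hk
    have key : ∀ x ∈ RootD.natSpan P {i : ι | 0 < φ (P.root i)}, 0 ≤ φ x := by
      intro x hx
      induction hx using AddSubmonoid.closure_induction with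
      | mem x hx =>
        obtain ⟨i, hi, rfl⟩ := hx
        exact le_of_lt hi
      | zero => simp
      | add x y _ _ hx hy =>
        rw [map_add]
        exact add_nonneg hx hy
    have h1 := key _ hk
    rw [map_nsmul] at h1
    rcases hφ k with h | h
    · exact h
    · exact absurd h1 (not_le_of_gt (nsmul_neg h hn.ne'))

end Groth.Agent.S5457
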