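import Groth.Statements.S5458
import Groth.Agent.Lib.RootDPar_helper8

set_option autoImplicit false
open RootD

namespace Groth.Agent.S5458

open Groth.Agent.Lib.RootD_helper8 Groth.Agent.Lib.RootDPar_helper8 in
/-- Let S be a system of positive roots with simple system Δ ⊆ S and let P' ⊇ S be a closed set of
roots; with Δ' the set of simple roots whose opposite lies in P', the set P' is the union of S and
of the roots that are non-positive integer combinations of Δ'. -/
theorem result {ι M N : Type*} [AddCommGroup M] [AddCommGroup N]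
    (P : RootPairing ι ℤ M N) [Finite ι] (S : Set ι) (hS : RootD.IsPosSys P S) (Δ : Set ι)
    (hΔ : RootD.IsSimpleSys P Δ) (hΔS : Δ ⊆ S) (P' : Set ι) (hcl : RootD.IsClosedSub P P')
    (hSP : S ⊆ P') :
    P' = S ∪ {k : ι | -P.root k ∈ RootD.natSpan P {i : ι | i ∈ Δ ∧ P.reflectionPerm i i ∈ P'}} := by
  have h1 := eq_posOf_of_subset hΔ hS hΔS
  subst h1
  exact closed_superset_eq hΔ hcl hSP

end Groth.Agent.S5458
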