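import Groth.Statements.S5460
import Groth.Agent.Lib.RootDSat_helper8

set_option autoImplicit false
open RootD

namespace Groth.Agent.S5460

open Groth.Agent.Lib.RootDSat_helper8 Groth.Agent.Lib.RootD_helper8
  Groth.Agent.Lib.RootDWeyl_helper8 Groth.Agent.Lib.RootDPar_helper8

/-- A set of roots R' is the trace on R of a vector subspace (every root with a positive multiple in the
span of R' lies in R') if and only if R' is the set of roots in the span of a subset Δ' of some
system of simple roots Δ. -/
theorem result {ι M N : Type*} [AddCommGroup M] [AddCommGroup N]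
    (P : RootPairing ι ℤ M N) [Finite ι] (R' : Set ι) :
    (∀ k : ι, (∃ n : ℕ, 0 < n ∧ n • P.root k ∈ Submodule.span ℤ (P.root '' R')) → k ∈ R') ↔
      ∃ Δ Δ' : Set ι, RootD.IsSimpleSys P Δ ∧ Δ' ⊆ Δ ∧ R' = RootD.inSpan P Δ' := by
  classical
  cases nonempty_fintype ι
  constructor
  · intro hsat
    obtain ⟨n₀, hn1, hn2⟩ := exists_coweight_of_sat R' hsat
    obtain ⟨n₁, hn₁⟩ := exists_coweight_ne_zero P
    set a : ι → ℤ := fun k => P.toLinearMap (P.root k) n₀ with ha
    set b : ι → ℤ := fun k => P.toLinearMap (P.root k) n₁ with hb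
    set B : ℤ := 1 + ∑ k, |b k| with hB
    have hBk : ∀ k, |b k| < B := by
      intro k
      have : |b k| ≤ ∑ k, |b k| :=
        Finset.single_le_sum (f := fun k => |b k|) (fun _ _ => abs_nonneg _) (Finset.mem_univ k)
      omega
    have hval : ∀ k, P.toLinearMap (P.root k) (B • n₀ + n₁) = B * a k + b k := by
      intro k
      simp [a, b]
    have hB0 : 0 < B := by
      have : 0 ≤ ∑ k, |b k| := Finset.sum_nonneg fun _ _ => abs_nonneg _
      omega
    have hreg : ∀ k, P.toLinearMap (P.root k) (B • n₀ + n₁) ≠ 0 := by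
      intro k
      rw [hval]
      have h1 := hBk k
      rcases lt_trichotomy (a k) 0 with h | h | h
      · have : B * a k ≤ -B := by nlinarith
        have := abs_lt.mp h1
        omega
      · rw [h, mul_zero, zero_add]
        exact hn₁ k
      · have : B ≤ B * a k := by nlinarith
        have := abs_lt.mp h1
        omega
    have hpos := isPosSys_of_coweight P (B • n₀ + n₁) hreg
    obtain ⟨Δ, hΔ, hΔS, hSΔ⟩ := exists_isSimpleSys_of_isPosSys hpos
    have haΔ : ∀ δ ∈ Δ, 0 ≤ a δ := by
      intro δ hδ
      have h1 : 0 < P.toLinearMap (P.root δ) (B • n₀ + n₁) := hΔS hδ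
      rw [hval] at h1
      by_contra hneg
      have : B * a δ ≤ -B := by nlinarith
      have := abs_lt.mp (hBk δ)
      omega
    refine ⟨Δ, Δ ∩ R', hΔ, Set.inter_subset_left, ?_⟩
    ext k
    constructor
    · intro hk
      rw [mem_inSpan_iff hΔ Set.inter_subset_left]
      intro j hj
      by_contra hcj
      have hjΔ : j ∈ Δ := by
        by_contra hjΔ
        exact hcj (coeff_eq_zero_of_notMem hΔ k hjΔ)
      have hjR : j ∉ R' := fun h => hj ⟨hjΔ, h⟩
      have haj : a j ≠ 0 := hn2 j hjR
      have hajpos : 0 < a j := lt_of_le_of_ne (haΔ j hjΔ) (Ne.symm haj)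
      -- pair the expansion of the root with n₀
      have h0 : a k = 0 := hn1 k hk
      have h1 : a k = (coeff hΔ k).sum fun δ c => c * a δ := by
        simp only [a]
        conv_lhs => rw [← linearCombination_coeff hΔ k]
        rw [Finsupp.linearCombination_apply, Finsupp.sum, map_sum, LinearMap.sum_apply,
          Finsupp.sum]
        refine Finset.sum_congr rfl fun δ _ => ?_
        rw [map_smul, LinearMap.smul_apply, smul_eq_mul]
      rw [h0, Finsupp.sum] at h1
      have hjs : j ∈ (coeff hΔ k).support := by simpa using hcj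
      rcases coeff_nonneg_or_nonpos hΔ k with hc | hc
      · have h2 : ∀ δ ∈ (coeff hΔ k).support, 0 ≤ coeff hΔ k δ * a δ := by
          intro δ hδ
          exact mul_nonneg (hc δ) (haΔ δ (support_coeff hΔ k hδ))
        have h3 := (Finset.sum_eq_zero_iff_of_nonneg h2).mp h1.symm j hjs
        rcases mul_eq_zero.mp h3 with h | h
        · exact hcj h
        · exact haj h
      · have h2 : ∀ δ ∈ (coeff hΔ k).support, coeff hΔ k δ * a δ ≤ 0 := by
          intro δ hδ
          exact mul_nonpos_of_nonpos_of_nonneg (hc δ) (haΔ δ (support_coeff hΔ k hδ))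
        have h3 := (Finset.sum_eq_zero_iff_of_nonpos h2).mp h1.symm j hjs
        rcases mul_eq_zero.mp h3 with h | h
        · exact hcj h
        · exact haj h
    · intro hk
      apply hsat
      refine ⟨1, one_pos, ?_⟩
      rw [one_smul]
      exact Submodule.span_mono (Set.image_mono Set.inter_subset_right) hk
  · rintro ⟨Δ, Δ', hΔ, hsub, rfl⟩
    rintro k ⟨n, hn, hnk⟩
    have hle : Submodule.span ℤ (P.root '' inSpan P Δ') ≤ Submodule.span ℤ (P.root '' Δ') := by
      rw [Submodule.span_le]
      rintro - ⟨r, hr, rfl⟩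
      exact hr
    have h1 := hle hnk
    obtain ⟨d, hd, hdk⟩ := (Finsupp.mem_span_image_iff_linearCombination ℤ).mp h1
    rw [Finsupp.mem_supported] at hd
    have h2 : (n : ℤ) • coeff hΔ k = d := by
      apply eq_of_linearCombination_eq hΔ.linInd
      · intro j hj
        apply support_coeff hΔ k
        simp only [Finset.mem_coe, Finsupp.mem_support_iff, Finsupp.coe_smul, Pi.smul_apply,
          smul_eq_mul, ne_eq, mul_eq_zero, not_or] at hj ⊢
        exact hj.2
      · exact hd.trans hsub
      · rw [map_smul, linearCombination_coeff, hdk, natCast_zsmul]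
    rw [mem_inSpan_iff hΔ hsub]
    intro j hj
    have h3 := DFunLike.congr_fun h2 j
    have hdj : d j = 0 := by
      by_contra h
      exact hj (hd (by simpa using h))
    rw [Finsupp.smul_apply, smul_eq_mul, hdj] at h3
    rcases mul_eq_zero.mp h3 with h | h
    · omega
    · exact h

end Groth.Agent.S5460
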