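import Groth.Statements.S5463
import Groth.Agent.Lib.RootDSub_helper8

set_option autoImplicit false
open RootPairing
open scoped Pointwise
open RootD

namespace Groth.Agent.S5463

open Groth.Agent.Lib.RootD_helper8 Groth.Agent.Lib.RootDPos_helper8
  Groth.Agent.Lib.RootDWeyl_helper8 Groth.Agent.Lib.RootDPar_helper8
  Groth.Agent.Lib.RootDGen_helper8 Groth.Agent.Lib.RootDWord_helper8
  Groth.Agent.Lib.RootDSub_helper8 in
/-- An element w of the Weyl group belongs to the subgroup generated by the reflections in Δ' ⊆ Δ (Δ a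
system of simple roots) if and only if w(α) - α lies in the rational span of Δ' for every root α. -/
theorem result {ι M N : Type*} [AddCommGroup M] [AddCommGroup N]
    (P : RootPairing ι ℤ M N) [Finite ι] (Δ Δ' : Set ι) (hΔ : RootD.IsSimpleSys P Δ)
    (hsub : Δ' ⊆ Δ) (g : P.Aut) (hg : g ∈ P.weylGroup) :
    g ∈ Subgroup.closure ((fun i : ι => Equiv.reflection P i) '' Δ') ↔
      ∀ k : ι, ∃ n : ℕ, 0 < n ∧ n • (P.root (g • k) - P.root k) ∈ Submodule.span ℤ (P.root '' Δ') := by
  constructor
  · intro h k
    refine ⟨1, one_pos, ?_⟩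
    rw [one_smul, root_smul]
    exact reflGroup_smul_sub_mem_span h _
  · intro h
    -- the coefficients of `g • k` and `k` outside `Δ'` agree
    have hcoeff : ∀ k j, j ∉ Δ' → coeff hΔ (g • k) j = coeff hΔ k j := by
      intro k j hj
      obtain ⟨n, hn, hmem⟩ := h k
      obtain ⟨c, hc, hck⟩ := (Finsupp.mem_span_image_iff_linearCombination ℤ).mp hmem
      rw [Finsupp.mem_supported] at hc
      have h1 : (n : ℤ) • (coeff hΔ (g • k) - coeff hΔ k) = c := by
        apply eq_of_linearCombination_eq hΔ.linInd _ (hc.trans hsub)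
        · rw [hck, map_smul, map_sub, linearCombination_coeff, linearCombination_coeff,
            natCast_zsmul]
        · intro l hl
          classical
          simp only [Finset.mem_coe, Finsupp.mem_support_iff, Finsupp.coe_smul, Finsupp.coe_sub,
            Pi.smul_apply, Pi.sub_apply, smul_eq_mul, ne_eq, mul_eq_zero, not_or] at hl
          by_contra hlΔ
          apply hl.2
          rw [coeff_eq_zero_of_notMem hΔ _ hlΔ, coeff_eq_zero_of_notMem hΔ _ hlΔ, sub_zero]
      have h2 := DFunLike.congr_fun h1 j
      have h3 : c j = 0 := by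
        by_contra h0
        exact hj (hc (by simpa using h0))
      rw [h3] at h2
      simp only [Finsupp.coe_smul, Finsupp.coe_sub, Pi.smul_apply, Pi.sub_apply, smul_eq_mul,
        mul_eq_zero] at h2
      have hn' : (n : ℤ) ≠ 0 := by exact_mod_cast hn.ne'
      have := h2.resolve_left hn'
      omega
    set P' : Set ι := (fun i : ι => g • i) '' posOf P Δ with hP'
    have hpos : IsPosSys P P' := by
      rw [hP', ← posOf_smul]
      exact isPosSys_posOf (isSimpleSys_smul hΔ g)
    have hout : ∀ k ∈ posOf P Δ, k ∉ inSpan P Δ' → k ∈ P' := by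
      intro k hk hk'
      refine ⟨g⁻¹ • k, ?_, smul_inv_smul g k⟩
      rw [mem_inSpan_iff hΔ hsub] at hk'
      push Not at hk'
      obtain ⟨j, hj, hkj⟩ := hk'
      apply mem_posOf_of_coeff_pos hΔ (j := j)
      have := hcoeff (g⁻¹ • k) j hj
      rw [smul_inv_smul] at this
      rw [← this]
      exact lt_of_le_of_ne ((mem_posOf_iff hΔ k).mp hk j) hkj.symm
    obtain ⟨w, hw, hwsub⟩ := exists_reflGroup_smul_posOf_subset hΔ hsub hpos.cover
      (isClosedSub_of_isPosSys hpos) hout
    have h1 : g⁻¹ * w = 1 := by
      apply eq_one_of_smul_mem_posOf hΔ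
      · rw [reflGroup_simple_eq_weylGroup hΔ]
        exact mul_mem (inv_mem hg) (reflGroup_le_weylGroup Δ' hw)
      · intro i hi
        obtain ⟨k, hk, hk'⟩ := hwsub ⟨i, subset_posOf hi, rfl⟩
        rw [mul_smul]
        simp only at hk'
        rw [← hk', inv_smul_smul]
        exact hk
    have h2 : g = w := by
      calc g = g * (g⁻¹ * w) := by rw [h1, mul_one]
        _ = w := by group
    rw [h2]
    exact hw

end Groth.Agent.S5463
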