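import Groth.Statements.S5468
import Groth.Agent.Lib.RootDProp_helper8

set_option autoImplicit false
open RootD

namespace Groth.Agent.S5468

open Groth.Agent.Lib.RootD_helper8 Groth.Agent.Lib.RootDProp_helper8 in
/-- Two roots whose reflections are distinct and commute are orthogonal. -/
theorem result {ι M N : Type*} [AddCommGroup M] [AddCommGroup N]
    (P : RootPairing ι ℤ M N) [Finite ι] (i j : ι)
    (hne : P.reflection i ≠ P.reflection j) (hc : Commute (P.reflection i) (P.reflection j)) :
    P.IsOrthogonal i j := by
  have := isTorsionFree P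
  set p := P.pairing i j with hp
  set q := P.pairing j i with hq
  have h1 := congrArg (fun f : M ≃ₗ[ℤ] M => f (P.root i)) hc.eq
  simp only [LinearEquiv.mul_apply] at h1
  rw [P.reflection_apply_self, map_neg, P.reflection_apply_root, map_sub, map_smul,
    P.reflection_apply_self, P.reflection_apply_root] at h1
  -- h1 : -α_i - p • (α_j - q • α_i) = -(α_i - p • α_j)
  have h2 : (p * q) • P.root i = (2 * p) • P.root j := by
    have : (p * q) • P.root i - (2 * p) • P.root j = 0 := by
      have h3 := sub_eq_zero.mpr h1
      rw [← h3, ← hp, ← hq]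
      simp only [mul_smul, smul_sub, two_smul]
      abel
    exact sub_eq_zero.mp this
  by_cases hp0 : p = 0
  · exact ⟨hp0, P.pairing_eq_zero_iff'.mp hp0⟩
  exfalso
  have h3 : q • P.root i = (2 : ℤ) • P.root j := by
    apply smul_right_cancel P hp0
    rw [smul_smul, smul_smul, h2]
    congr 1
    ring
  have h4 := congrArg (P.coroot' j) h3
  simp only [map_smul, RootPairing.root_coroot'_eq_pairing, RootPairing.pairing_same,
    smul_eq_mul] at h4
  -- q * p = 4
  have hdvd : q ∣ 4 := ⟨p, by rw [← hp] at h4; omega⟩
  have hle := Int.le_of_dvd (by norm_num) hdvd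
  have hge : -4 ≤ q := by
    have := Int.le_of_dvd (by norm_num) ((Int.neg_dvd).mpr hdvd)
    omega
  apply hne
  have two_ne : (2 : ℤ) ≠ 0 := by norm_num
  interval_cases q
  · -- q = -4 : α_j = -2 α_i
    refine (reflection_eq_of_root_eq_smul (t := -2) (smul_right_cancel P two_ne ?_)).symm
    rw [← h3, smul_smul]; norm_num
  · omega
  · -- q = -2 : α_j = - α_i
    refine (reflection_eq_of_root_eq_smul (t := -1) (smul_right_cancel P two_ne ?_)).symm
    rw [← h3, smul_smul]; norm_num
  · -- q = -1 : α_i = -2 α_j
    refine reflection_eq_of_root_eq_smul (t := -2) ?_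
    have : P.root i = -((2 : ℤ) • P.root j) := by rw [← h3]; simp
    rw [this, neg_smul]
  · omega
  · -- q = 1
    refine reflection_eq_of_root_eq_smul (t := 2) ?_
    rw [← h3, one_smul]
  · -- q = 2
    refine reflection_eq_of_root_eq_smul (t := 1) ?_
    rw [one_smul]
    exact smul_right_cancel P two_ne h3
  · omega
  · -- q = 4 : α_j = 2 α_i
    refine (reflection_eq_of_root_eq_smul (t := 2) (smul_right_cancel P two_ne ?_)).symm
    rw [← h3, smul_smul]; norm_num

end Groth.Agent.S5468
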