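import Groth.Statements.S5469
import Groth.Agent.Lib.RootDProp_helper8
import Groth.Agent.Lib.RootDWeyl_helper8
import Mathlib.LinearAlgebra.RootSystem.Finite.Nondegenerate

set_option autoImplicit false
open RootPairing
open scoped Pointwise
open RootD

namespace Groth.Agent.S5469

open Groth.Agent.Lib.RootD_helper8 Groth.Agent.Lib.RootDProp_helper8
  Groth.Agent.Lib.RootDWeyl_helper8 in
/-- Two non-orthogonal roots of equal length (for the canonical form ℓ(x) = Σ_{u ∈ R^v} (u, x)²) are
conjugate under the Weyl group. -/
theorem result {ι M N : Type*} [AddCommGroup M] [AddCommGroup N]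
    (P : RootPairing ι ℤ M N) [Finite ι] [Fintype ι] (i j : ι) (hno : ¬ P.IsOrthogonal i j)
    (hl : P.RootForm (P.root i) (P.root i) = P.RootForm (P.root j) (P.root j)) :
    ∃ g : P.Aut, g ∈ P.weylGroup ∧ g • i = j := by
  set p := P.pairing i j with hp
  set q := P.pairing j i with hq
  have h1 := P.toInvariantForm.pairing_mul_eq_pairing_mul_swap i j
  simp only [RootPairing.toInvariantForm_form] at h1
  rw [hl] at h1
  have hlne : P.RootForm (P.root j) (P.root j) ≠ 0 :=
    RootPairing.IsAnisotropic.rootForm_root_ne_zero j
  have hpq : q = p := mul_right_cancel₀ hlne h1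
  have hp0 : p ≠ 0 := by
    intro h0
    exact hno ⟨h0, by rw [← hq, hpq, h0]⟩
  have hmem := pairing_mul_pairing_mem P i j
  rw [← hp, ← hq, hpq] at hmem
  simp only [Set.mem_insert_iff, Set.mem_singleton_iff] at hmem
  have hp2 : p = 1 ∨ p = -1 ∨ p = 2 ∨ p = -2 := by
    have h5 : p * p ≤ 4 := by rcases hmem with h | h | h | h | h <;> omega
    have h6 : -2 ≤ p := by nlinarith
    have h7 : p ≤ 2 := by nlinarith
    interval_cases p <;> simp_all
  have hsi := P.reflection_mem_weylGroup i
  have hsj := P.reflection_mem_weylGroup j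
  rcases hp2 with h | h | h | h
  · -- p = q = 1 : s_j s_i s_j
    refine ⟨Equiv.reflection P j * Equiv.reflection P i * Equiv.reflection P j,
      mul_mem (mul_mem hsj hsi) hsj, ?_⟩
    apply P.root.injective
    rw [root_smul, mul_smul, mul_smul]
    simp only [Equiv.reflection_smul]
    have e1 : P.reflection j (P.root i) = P.root i - P.root j := by
      rw [P.reflection_apply_root, ← hp, h, one_smul]
    have e2 : P.reflection i (P.root j) = P.root j - P.root i := by
      rw [P.reflection_apply_root, ← hq, hpq, h, one_smul]
    have e3 : -P.root i - (P.root j - P.root i) = -P.root j := by abel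
    rw [e1, map_sub, P.reflection_apply_self, e2, e3, map_neg, P.reflection_apply_self, neg_neg]
  · -- p = q = -1 : s_i s_j
    refine ⟨Equiv.reflection P i * Equiv.reflection P j, mul_mem hsi hsj, ?_⟩
    apply P.root.injective
    rw [root_smul, mul_smul]
    simp only [Equiv.reflection_smul]
    have e1 : P.reflection j (P.root i) = P.root i + P.root j := by
      rw [P.reflection_apply_root, ← hp, h, neg_smul, one_smul, sub_neg_eq_add]
    have e2 : P.reflection i (P.root j) = P.root j + P.root i := by
      rw [P.reflection_apply_root, ← hq, hpq, h, neg_smul, one_smul, sub_neg_eq_add]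
    rw [e1, map_add, P.reflection_apply_self, e2]
    abel
  · -- p = q = 2
    refine ⟨1, one_mem _, ?_⟩
    rw [one_smul]
    exact (pairing_two_two_iff P i j).mp ⟨h, by rw [← hq, hpq, h]⟩
  · -- p = q = -2
    refine ⟨Equiv.reflection P i, hsi, ?_⟩
    have := (pairing_neg_two_neg_two_iff P i j).mp ⟨h, by rw [← hq, hpq, h]⟩
    apply P.root.injective
    rw [reflection_smul_idx, root_neg, this, neg_neg]

end Groth.Agent.S5469
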