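import Groth.Statements.S5471
import Groth.Agent.Lib.RootDIrr2_helper8

set_option autoImplicit false
open RootPairing
open scoped Pointwise
open RootD

namespace Groth.Agent.S5471

open Groth.Agent.Lib.RootD_helper8 Groth.Agent.Lib.RootDIrr2_helper8
  Groth.Agent.Lib.RootDWeyl_helper8 Groth.Agent.Lib.RootDProp_helper8 in
/-- In a reduced irreducible root datum the ratios of squared root lengths to the minimal one form one
of the sets {1}, {1, 2}, {1, 3}. -/
theorem result {ι M N : Type*} [AddCommGroup M] [AddCommGroup N]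
    (P : RootPairing ι ℤ M N) [Finite ι] [Fintype ι] [Nonempty ι] [P.IsReduced]
    (hirr : ∀ R' : Set ι, RootD.IsClosedSub P R' → RootD.IsSymmSub P R' → RootD.IsClosedSub P R'ᶜ →
      RootD.IsSymmSub P R'ᶜ → R' = ∅ ∨ R' = Set.univ)
    (i₀ : ι) (hmin : ∀ i : ι, P.RootForm (P.root i₀) (P.root i₀) ≤ P.RootForm (P.root i) (P.root i)) :
    (∀ i : ι, P.RootForm (P.root i) (P.root i) = P.RootForm (P.root i₀) (P.root i₀) ∨
        P.RootForm (P.root i) (P.root i) = 2 * P.RootForm (P.root i₀) (P.root i₀) ∨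
        P.RootForm (P.root i) (P.root i) = 3 * P.RootForm (P.root i₀) (P.root i₀)) ∧
      ¬ ((∃ i : ι, P.RootForm (P.root i) (P.root i) = 2 * P.RootForm (P.root i₀) (P.root i₀)) ∧
          ∃ j : ι, P.RootForm (P.root j) (P.root j) = 3 * P.RootForm (P.root i₀) (P.root i₀)) := by
  have h : IsIrr P := hirr
  set ℓ : ι → ℤ := fun i => P.RootForm (P.root i) (P.root i) with hℓ
  have hpos : ∀ i, 0 < ℓ i := by
    intro i
    simp only [hℓ, P.rootForm_root_self]
    have h1 : P.pairing i i * P.pairing i i ≤ ∑ j, P.pairing i j * P.pairing i j :=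
      Finset.single_le_sum (f := fun j => P.pairing i j * P.pairing i j)
        (fun j _ => mul_self_nonneg _) (Finset.mem_univ i)
    rw [P.pairing_same] at h1
    omega
  -- the key relation for two roots, the second one a conjugate
  have key : ∀ i j : ι, ∃ p q : ℤ, q * ℓ j = p * ℓ i ∧ p ≠ 0 ∧
      (p, q) ∈ ({(0, 0), (1, 1), (-1, -1), (1, 2), (2, 1), (-1, -2), (-2, -1), (1, 3), (3, 1),
        (-1, -3), (-3, -1), (2, 2), (-2, -2)} : Set (ℤ × ℤ)) := by
    intro i j
    obtain ⟨g, hg, hno⟩ := h.exists_weyl_not_isOrthogonal i j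
    have hl' : ℓ (g • i) = ℓ i := by
      simp only [hℓ]
      rw [root_smul, rootForm_weyl_smul hg]
    have h1 := P.toInvariantForm.pairing_mul_eq_pairing_mul_swap j (g • i)
    simp only [RootPairing.toInvariantForm_form] at h1
    refine ⟨P.pairing j (g • i), P.pairing (g • i) j, ?_, ?_, ?_⟩
    · rw [← hl']; exact h1
    · exact fun h0 => hno ((isOrthogonal_iff _ _).mpr h0)
    · have h2 := P.pairingIn_pairingIn_mem_set_of_isCrystal_of_isRed j (g • i)
      rwa [pairingIn_eq, pairingIn_eq] at h2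
  have hl0 := hpos i₀
  refine ⟨fun i => ?_, ?_⟩
  · obtain ⟨p, q, hpq, hp0, hmem⟩ := key i₀ i
    have hmi := hmin i
    simp only [Set.mem_insert_iff, Set.mem_singleton_iff, Prod.mk.injEq] at hmem
    change ℓ i = ℓ i₀ ∨ ℓ i = 2 * ℓ i₀ ∨ ℓ i = 3 * ℓ i₀
    change ℓ i₀ ≤ ℓ i at hmi
    rcases hmem with h | h | h | h | h | h | h | h | h | h | h | h | h <;>
      obtain ⟨rfl, rfl⟩ := h <;> omega
  · rintro ⟨⟨i, hi⟩, ⟨j, hj⟩⟩
    obtain ⟨p, q, hpq, hp0, hmem⟩ := key i j
    change ℓ i = 2 * ℓ i₀ at hi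
    change ℓ j = 3 * ℓ i₀ at hj
    simp only [Set.mem_insert_iff, Set.mem_singleton_iff, Prod.mk.injEq] at hmem
    rcases hmem with h | h | h | h | h | h | h | h | h | h | h | h | h <;>
      obtain ⟨rfl, rfl⟩ := h <;> omega

end Groth.Agent.S5471
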