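import Groth.Statements.S5473
import Groth.Agent.Lib.RootDLen_helper8

set_option autoImplicit false
open RootD

namespace Groth.Agent.S5473

open Groth.Agent.Lib.RootD_helper8
  Groth.Agent.Lib.RootDLen_helper8 RootPairing

/-- If a linear map f and its transpose g induce bijections from the roots of R' onto the roots of R and
from the coroots of R onto the coroots of R' respectively (a morphism of root data in the
two-bijection sense), then the two bijections correspond: the coroot of α' is g applied to the
coroot of f(α'). -/
theorem result {ι M N ι' M' N' : Type*} [AddCommGroup M] [AddCommGroup N] [AddCommGroup M'] [AddCommGroup N']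
    (P : RootPairing ι ℤ M N) (P' : RootPairing ι' ℤ M' N') [Finite ι] [Finite ι']
    (f : M' →ₗ[ℤ] M) (g : N →ₗ[ℤ] N') (hfg : ∀ (m' : M') (n : N), P.toLinearMap (f m') n = P'.toLinearMap m' (g n))
    (e : ι' ≃ ι) (he : ∀ i' : ι', f (P'.root i') = P.root (e i'))
    (e' : ι ≃ ι') (he' : ∀ i : ι, g (P.coroot i) = P'.coroot (e' i)) :
    ∀ i' : ι', g (P.coroot (e i')) = P'.coroot i' := by
  intro i'
  cases nonempty_fintype ι
  cases nonempty_fintype ι'
  -- coroot' compatibility
  have hc : ∀ (x' : M') (i : ι), P'.coroot' (e' i) x' = P.coroot' i (f x') := by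
    intro x' i
    change P'.toLinearMap x' (P'.coroot (e' i)) = P.toLinearMap (f x') (P.coroot i)
    rw [hfg, he']
  have hform : ∀ x' : M', P'.RootForm x' x' = P.RootForm (f x') (f x') := by
    intro x'
    rw [rootForm_apply_apply, rootForm_apply_apply]
    rw [← Equiv.sum_comp e']
    exact Finset.sum_congr rfl fun i _ => by rw [hc]
  have hpol : ∀ x' : M', P'.Polarization x' = g (P.Polarization (f x')) := by
    intro x'
    rw [Polarization_apply, Polarization_apply, map_sum, ← Equiv.sum_comp e']
    exact Finset.sum_congr rfl fun i _ => by rw [hc, map_smul, he']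
  have h1 := P'.rootForm_self_smul_coroot i'
  have h2 := P.rootForm_self_smul_coroot (e i')
  rw [hpol, he, hform, he] at h1
  have h3 := congrArg g h2
  rw [map_smul, map_nsmul] at h3
  rw [← h1] at h3
  have hpos := rootForm_root_self_pos P (e i')
  have := isTorsionFree' P'
  exact smul_right_injective N' hpos.ne' h3

end Groth.Agent.S5473
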