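import Groth.Statements.S5474
import Groth.Agent.Lib.RootDRank_helper8

set_option autoImplicit false
open RootD

namespace Groth.Agent.S5474

open Groth.Agent.Lib.RootDRank_helper8 Groth.Agent.Lib.RootD_helper8

/-- Every morphism between semisimple root data is an isogeny (injective on weight lattices with finite
cokernel). -/
theorem result {ι M N ι' M' N' : Type*} [AddCommGroup M] [AddCommGroup N] [AddCommGroup M'] [AddCommGroup N']
    (P : RootPairing ι ℤ M N) (P' : RootPairing ι' ℤ M' N') [Finite ι] [Finite ι']
    [Module.Finite ℤ M] [Module.Finite ℤ N] [Module.Finite ℤ M'] [Module.Finite ℤ N']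
    (hss : Module.finrank ℤ (Submodule.span ℤ (Set.range P.root)) = Module.finrank ℤ M)
    (hss' : Module.finrank ℤ (Submodule.span ℤ (Set.range P'.root)) = Module.finrank ℤ M')
    (f : RootPairing.Hom P' P) :
    Function.Injective f.weightMap ∧ Finite (M ⧸ LinearMap.range f.weightMap) := by
  cases nonempty_fintype ι
  cases nonempty_fintype ι'
  have := isTorsionFree P
  have := isTorsionFree P'
  have hfree : Module.Free ℤ M := Module.free_of_finite_type_torsion_free'
  -- the range contains the root lattice
  have hle : Submodule.span ℤ (Set.range P.root) ≤ LinearMap.range f.weightMap := by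
    rw [Submodule.span_le]
    rintro - ⟨i, rfl⟩
    refine ⟨P'.root (f.indexEquiv.symm i), ?_⟩
    rw [RootPairing.Hom.root_weightMap_apply, Equiv.apply_symm_apply]
  have h1 : Module.finrank ℤ (LinearMap.range f.weightMap) = Module.finrank ℤ M :=
    le_antisymm (Submodule.finrank_le _) (hss ▸ Submodule.finrank_mono hle)
  -- the coroot lattices
  have hco : Submodule.span ℤ (Set.range P'.coroot) =
      (Submodule.span ℤ (Set.range P.coroot)).map f.coweightMap := by
    rw [Submodule.map_span]
    congr 1
    ext x
    simp only [Set.mem_range, Set.mem_image, exists_exists_eq_and]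
    constructor
    · rintro ⟨i', rfl⟩
      exact ⟨f.indexEquiv i', by
        rw [RootPairing.Hom.coroot_coweightMap_apply, Equiv.symm_apply_apply]⟩
    · rintro ⟨i, rfl⟩
      exact ⟨f.indexEquiv.symm i, by rw [RootPairing.Hom.coroot_coweightMap_apply]⟩
  have h2 : Module.finrank ℤ M' ≤ Module.finrank ℤ M := by
    rw [← hss', ← finrank_span_coroot_eq, hco, ← hss, ← finrank_span_coroot_eq (P := P)]
    exact Submodule.finrank_map_le _ _
  have h3 := Submodule.finrank_quotient_add_finrank (LinearMap.ker f.weightMap)
  rw [(LinearMap.quotKerEquivRange f.weightMap).finrank_eq, h1] at h3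
  have h4 : Module.finrank ℤ (LinearMap.ker f.weightMap) = 0 := by omega
  refine ⟨?_, ?_⟩
  · rw [← LinearMap.ker_eq_bot]
    exact (finrank_eq_zero_iff _).mp h4
  · exact Submodule.finiteQuotientOfFreeOfRankEq _ h1

end Groth.Agent.S5474
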