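import Groth.Statements.S5475
import Groth.Agent.Lib.RootDLen_helper8
import Groth.Agent.Lib.RootDGen_helper8

set_option autoImplicit false
open RootD

namespace Groth.Agent.S5475

open Groth.Agent.Lib.RootD_helper8 Groth.Agent.Lib.RootDWeyl_helper8
  Groth.Agent.Lib.RootDHom_helper8 Groth.Agent.Lib.RootDGen_helper8 RootPairing

/-- In an adjoint root datum every indivisible root is an indivisible element of the weight lattice. -/
theorem result {ι M N : Type*} [AddCommGroup M] [AddCommGroup N]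
    (P : RootPairing ι ℤ M N) [Finite ι] (had : Submodule.span ℤ (Set.range P.root) = ⊤)
    (i : ι) (hind : RootD.IsIndiv P i) (m : M) (n : ℤ) (h : n • m = P.root i) : n = 1 ∨ n = -1 := by
  obtain ⟨Δ₀, hΔ₀⟩ := exists_isSimpleSys P
  obtain ⟨g, -, j, hj, hgj⟩ := exists_reflGroup_smul_eq hΔ₀ hind
  have hΔ := isSimpleSys_smul hΔ₀ g
  have hi : i ∈ (fun i : ι => g • i) '' Δ₀ := ⟨j, hj, hgj⟩
  set Δ := (fun i : ι => g • i) '' Δ₀ with hΔdef
  have hm : m ∈ Submodule.span ℤ (Set.range fun k : Δ => P.root (k : ι)) :=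
    span_range_root_le hΔ (had ▸ Submodule.mem_top)
  have hli : LinearIndependent ℤ (fun k : Δ => P.root (k : ι)) := hΔ.linInd
  set x : Submodule.span ℤ (Set.range fun k : Δ => P.root (k : ι)) := ⟨m, hm⟩ with hx
  have hroot : P.root i ∈ Submodule.span ℤ (Set.range fun k : Δ => P.root (k : ι)) :=
    Submodule.subset_span ⟨⟨i, hi⟩, rfl⟩
  have h1 : n • x = ⟨P.root i, hroot⟩ := Subtype.ext h
  have h2 := congrArg hli.repr h1
  rw [map_smul, LinearIndependent.repr_eq_single (R := ℤ) hli ⟨i, hi⟩ ⟨P.root i, hroot⟩ rfl] at h2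
  have h3 := DFunLike.congr_fun h2 ⟨i, hi⟩
  rw [Finsupp.smul_apply, Finsupp.single_eq_same, smul_eq_mul] at h3
  exact Int.eq_one_or_neg_one_of_mul_eq_one h3

end Groth.Agent.S5475
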