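import Groth.Statements.S5478
import Groth.Agent.Lib.RootDForm_helper8

set_option autoImplicit false
open RootPairing
open scoped Pointwise
open RootD

namespace Groth.Agent.S5478

open Groth.Agent.Lib.RootDForm_helper8 in
/-- The group of automorphisms of a root datum that act trivially on the radical is finite. -/
theorem result {ι M N : Type*} [AddCommGroup M] [AddCommGroup N]
    (P : RootPairing ι ℤ M N) [Finite ι] :
    Set.Finite {u : P.Aut | ∀ m : M, ∃ n : ℕ, 0 < n ∧ n • (u • m - m) ∈ Submodule.span ℤ (Set.range P.root)} := by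
  have hfin : (Set.univ : Set (ι ≃ ι)).Finite := Set.finite_univ
  refine Set.Finite.of_injOn (f := fun u : P.Aut => Equiv.indexHom P u) (fun _ _ => Set.mem_univ _) ?_ hfin
  intro u hu v hv huv
  simp only at huv
  -- `v⁻¹ * u` fixes every root and acts trivially on the radical
  have h1 : v⁻¹ * u = 1 := by
    apply aut_eq_one_of_fix
    · intro m
      obtain ⟨n1, hn1, h1⟩ := hu m
      obtain ⟨n2, hn2, h2⟩ := hv m
      refine ⟨n1 * n2, Nat.mul_pos hn1 hn2, ?_⟩
      have e0 : (v⁻¹ * u) • m - m = v⁻¹ • ((u • m - m) - (v • m - m)) := by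
        rw [mul_smul, smul_sub, smul_sub, smul_sub, inv_smul_smul]
        abel
      rw [e0, smul_comm, smul_sub]
      apply smul_mem_span_root
      refine sub_mem ?_ ?_
      · rw [mul_comm, mul_smul]
        exact Submodule.smul_of_tower_mem _ n2 h1
      · rw [mul_smul]
        exact Submodule.smul_of_tower_mem _ n1 h2
    · intro i
      have : u • i = v • i := DFunLike.congr_fun huv i
      rw [mul_smul, this, inv_smul_smul]
  calc u = v * (v⁻¹ * u) := by group
    _ = v := by rw [h1, mul_one]

end Groth.Agent.S5478
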