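import Groth.Statements.S5479
import Groth.Agent.Lib.RootDWord_helper8

set_option autoImplicit false
open RootPairing
open scoped Pointwise
open RootD

namespace Groth.Agent.S5479

open Groth.Agent.Lib.RootD_helper8 Groth.Agent.Lib.RootDWeyl_helper8
  Groth.Agent.Lib.RootDGen_helper8 Groth.Agent.Lib.RootDWord_helper8 in
/-- Aut(R) is the semidirect product of the Weyl group by the stabiliser E_Δ of a system of simple
roots: every automorphism is uniquely w · e with w ∈ W and e(Δ) = Δ. -/
theorem result {ι M N : Type*} [AddCommGroup M] [AddCommGroup N]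
    (P : RootPairing ι ℤ M N) [Finite ι] (Δ : Set ι) (hΔ : RootD.IsSimpleSys P Δ) (u : P.Aut) :
    ∃! w : P.weylGroup, (fun i : ι => ((w : P.Aut)⁻¹ * u) • i) '' Δ = Δ := by
  have himg : ∀ (a b : P.Aut) (S : Set ι),
      (fun i : ι => (a * b) • i) '' S = (fun i : ι => a • i) '' ((fun i : ι => b • i) '' S) := by
    intro a b S
    rw [Set.image_image]
    simp only [mul_smul]
  obtain ⟨g, hg, hgΔ⟩ := exists_weyl_smul_simpleSys_eq hΔ (isSimpleSys_smul hΔ u)
  refine ⟨⟨g, hg⟩, ?_, ?_⟩
  · change (fun i : ι => (g⁻¹ * u) • i) '' Δ = Δ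
    rw [himg, ← hgΔ, image_inv_smul_image]
  · rintro ⟨g', hg'⟩ h
    change (fun i : ι => (g'⁻¹ * u) • i) '' Δ = Δ at h
    rw [himg] at h
    have h1 : (fun i : ι => u • i) '' Δ = (fun i : ι => g' • i) '' Δ := by
      conv_rhs => rw [← h]
      have := image_inv_smul_image (g'⁻¹) ((fun i : ι => u • i) '' Δ)
      rw [inv_inv] at this
      exact this.symm
    have h2 : (fun i : ι => (g⁻¹ * g') • i) '' Δ = Δ := by
      rw [himg, ← h1, ← hgΔ, image_inv_smul_image]
    have h3 : g⁻¹ * g' = 1 := by
      apply eq_one_of_smul_mem_posOf hΔ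
      · rw [reflGroup_simple_eq_weylGroup hΔ]
        exact mul_mem (inv_mem hg) hg'
      · intro i hi
        apply subset_posOf
        rw [← h2]
        exact ⟨i, hi, rfl⟩
    apply Subtype.ext
    change g' = g
    calc g' = g * (g⁻¹ * g') := by group
      _ = g := by rw [h3, mul_one]

end Groth.Agent.S5479
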