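import Groth.Statements.S5481
import Groth.Agent.Lib.RootDPMor2_helper8

set_option autoImplicit false
open RootD

namespace Groth.Agent.S5481

open Groth.Agent.Lib.RootDPMor_helper8

/-- The root bijection u of a p-morphism of reduced root data carries systems of simple roots onto
systems of simple roots and systems of positive roots onto systems of positive roots, bijectively. -/
theorem result {ι M N ι' M' N' : Type*} [AddCommGroup M] [AddCommGroup N] [AddCommGroup M'] [AddCommGroup N']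
    (P : RootPairing ι ℤ M N) (P' : RootPairing ι' ℤ M' N') [Finite ι] [Finite ι'] [P.IsReduced] [P'.IsReduced]
    (p : ℕ) (hp : 0 < p) (f : M' →ₗ[ℤ] M) (g : N →ₗ[ℤ] N')
    (hfg : ∀ (m' : M') (n : N), P.toLinearMap (f m') n = P'.toLinearMap m' (g n))
    (u : ι ≃ ι') (q : ι → ℕ) (hq : ∀ i, ∃ e : ℕ, q i = p ^ e)
    (hroot : ∀ i : ι, f (P'.root (u i)) = (q i : ℤ) • P.root i)
    (hcoroot : ∀ i : ι, g (P.coroot i) = (q i : ℤ) • P'.coroot (u i)) (Δ : Set ι) :
    (RootD.IsSimpleSys P Δ ↔ RootD.IsSimpleSys P' (u '' Δ)) ∧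
      (RootD.IsPosSys P Δ ↔ RootD.IsPosSys P' (u '' Δ)) := by
  have hpm : IsPMor P P' f g u q := by
    refine ⟨hfg, fun i => ?_, hroot, hcoroot⟩
    obtain ⟨e, he⟩ := hq i
    rw [he]
    exact Nat.pow_pos hp
  exact ⟨⟨hpm.isSimpleSys_image, hpm.isSimpleSys_of_image⟩, hpm.isPosSys_image_iff Δ⟩

end Groth.Agent.S5481
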