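import Groth.Statements.S5482
import Groth.Agent.Lib.RootDIrr_helper8

set_option autoImplicit false
open RootD

namespace Groth.Agent.S5482

open Groth.Agent.Lib.RootDIrr_helper8 in
/-- If the roots are partitioned into two closed symmetric subsets R', R'', then with Δ' = Δ ∩ R', Δ'' =
Δ ∩ R'' for a system of simple roots Δ one has R' = R_{Δ'}, R'' = R_{Δ''}, and Δ' is orthogonal to
Δ''. -/
theorem result {ι M N : Type*} [AddCommGroup M] [AddCommGroup N]
    (P : RootPairing ι ℤ M N) [Finite ι] (Δ : Set ι) (hΔ : RootD.IsSimpleSys P Δ) (R' : Set ι)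
    (hc : RootD.IsClosedSub P R') (hs : RootD.IsSymmSub P R') (hc' : RootD.IsClosedSub P R'ᶜ)
    (hs' : RootD.IsSymmSub P R'ᶜ) :
    R' = RootD.inSpan P (Δ ∩ R') ∧ R'ᶜ = RootD.inSpan P (Δ \ R') ∧
      ∀ i ∈ Δ ∩ R', ∀ j ∈ Δ \ R', P.IsOrthogonal i j := by
  have hR : IsPart P R' := ⟨hc, hs, hc', hs'⟩
  refine ⟨hR.eq_inSpan hΔ, hR.compl.eq_inSpan hΔ, ?_⟩
  intro i hi j hj
  by_contra hij
  exact hj.2 (hR.mem_of_not_isOrthogonal hi.2 hij)

end Groth.Agent.S5482
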