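import Groth.Statements.S5489
import Mathlib.LinearAlgebra.RootSystem.Finite.Lemmas

set_option autoImplicit false
open RootD

namespace Groth.Agent.S5489

/-- If a root α, distinct from roots α_1, ..., α_n, is a non-negative rational combination of them, then
some α_l with non-zero coefficient has (α^v, α_l) > 0 and α - α_l a root. -/
theorem result {ι M N : Type*} [AddCommGroup M] [AddCommGroup N]
    (P : RootPairing ι ℤ M N) [Finite ι] {n : ℕ} (a : Fin n → ι) (m : Fin n → ℕ)
    (k : ι) (hne : ∀ l, a l ≠ k) (c : ℕ) (hc : 0 < c) (hk : c • P.root k = ∑ l, m l • P.root (a l)) :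
    ∃ l : Fin n, m l ≠ 0 ∧ 0 < P.pairing (a l) k ∧ P.root k - P.root (a l) ∈ Set.range P.root := by
  have h1 := congrArg (P.coroot' k) hk
  simp only [map_nsmul, map_sum, RootPairing.root_coroot'_eq_pairing, RootPairing.pairing_same,
    nsmul_eq_mul] at h1
  have hpos : (0 : ℤ) < ∑ l, (m l : ℤ) * P.pairing (a l) k := by
    rw [← h1]
    have : (0 : ℤ) < c := by exact_mod_cast hc
    positivity
  obtain ⟨l, -, hl⟩ : ∃ l ∈ Finset.univ, 0 < (m l : ℤ) * P.pairing (a l) k := by
    by_contra hcon
    push Not at hcon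
    exact absurd (Finset.sum_nonpos hcon) (not_le.mpr hpos)
  have hml : m l ≠ 0 := by
    rintro h0
    simp [h0] at hl
  have hpl : 0 < P.pairing (a l) k := by
    have : (0 : ℤ) ≤ m l := by positivity
    by_contra hcon
    push Not at hcon
    exact absurd (mul_nonpos_of_nonneg_of_nonpos this hcon) (not_le.mpr hl)
  refine ⟨l, hml, hpl, ?_⟩
  have h2 : 0 < P.pairingIn ℤ (a l) k := by
    have := P.algebraMap_pairingIn ℤ (a l) k
    simp only [Algebra.algebraMap_self, RingHom.id_apply] at this
    rw [this]; exact hpl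
  have h3 := P.root_sub_root_mem_of_pairingIn_pos h2 (hne l)
  rw [← RootPairing.neg_mem_range_root_iff, neg_sub]
  exact h3

end Groth.Agent.S5489
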