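import Groth.Statements.S5491
import Mathlib.LinearAlgebra.RootSystem.Base
import Groth.Agent.Lib.RootD_helper8

set_option autoImplicit false
open RootD

namespace Groth.Agent.S5491

open Classical in
/-- With ρ^v the half-sum of the positive coroots, the order (height) of any root α relative to the
simple system equals (ρ^v, α); equivalently 2·height(α) = Σ_{β > 0} (β^v, α). -/
theorem result {ι M N : Type*} [AddCommGroup M] [AddCommGroup N]
    (P : RootPairing ι ℤ M N) [Finite ι] [Fintype ι] [P.IsReduced] (b : P.Base) (i : ι) :
    2 * b.height i = ∑ j, if b.IsPos j then P.pairing i j else 0 := by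
  have htf := Groth.Agent.Lib.RootD_helper8.isTorsionFree P
  -- the functional `2ρ^v`
  set Φ : M →ₗ[ℤ] ℤ := ∑ j, if b.IsPos j then P.coroot' j else 0 with hΦ
  have hΦapp : ∀ k, Φ (P.root k) = ∑ j, if b.IsPos j then P.pairing k j else 0 := by
    intro k
    rw [hΦ, LinearMap.sum_apply]
    refine Finset.sum_congr rfl fun j _ => ?_
    split_ifs
    · rfl
    · rfl
  have hsimple : ∀ s ∈ b.support, Φ (P.root s) = 2 := by
    intro s hs
    rw [hΦapp, ← Finset.sum_filter]
    have hsmem : s ∈ Finset.univ.filter (fun j => b.IsPos j) := by
      simp only [Finset.mem_filter, Finset.mem_univ, true_and]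
      exact RootPairing.Base.isPos_of_mem_support hs
    rw [← Finset.add_sum_erase _ _ hsmem, P.pairing_same]
    have h0 : ∑ j ∈ (Finset.univ.filter (fun j => b.IsPos j)).erase s, P.pairing s j = 0 := by
      apply Finset.sum_involution (fun j _ => P.reflectionPerm s j)
      · intro j _
        rw [P.pairing_reflectionPerm, P.pairing_reflectionPerm_self_left]
        ring
      · intro j _ hj hfix
        apply hj
        have h1 := (P.reflectionPerm_eq_iff_smul_root (i := s) (j := j)).mp hfix
        rcases smul_eq_zero.mp h1 with h2 | h2
        · exact P.pairing_eq_zero_iff'.mp h2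
        · exact absurd h2 (P.ne_zero s)
      · intro j hj
        simp only [Finset.mem_erase, Finset.mem_filter, Finset.mem_univ, true_and] at hj ⊢
        refine ⟨?_, ?_⟩
        · intro h
          -- reflection of j is s means j = -s, not positive
          have h1 : j = P.reflectionPerm s s := by
            calc j = P.reflectionPerm s (P.reflectionPerm s j) := (P.reflectionPerm_self s j).symm
              _ = P.reflectionPerm s s := by rw [h]
          have h2 := RootPairing.Base.height_reflectionPerm_self b s
          have h3 := RootPairing.Base.height_one_of_mem_support hs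
          have h4 : b.height j = -1 := by
            rw [h1]
            rw [← h3]
            exact h2
          have := hj.2
          rw [RootPairing.Base.isPos_iff] at this
          omega
        · exact RootPairing.Base.IsPos.add_zsmul hj.1 hj.2 hs
            (z := -P.pairing j s) (by
              rw [P.root_reflectionPerm, P.reflection_apply, neg_smul, sub_eq_add_neg]
              rfl)
      · intro j _
        exact P.reflectionPerm_self s j
    rw [h0, add_zero]
  obtain ⟨f, -, -, hf⟩ := b.exists_root_eq_sum_int i
  rw [← hΦapp, RootPairing.Base.height_eq_sum hf, hf, map_sum, Finset.mul_sum]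
  refine Finset.sum_congr rfl fun s hs => ?_
  rw [map_smul, hsimple s hs, smul_eq_mul, mul_comm]

end Groth.Agent.S5491
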