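import Groth.Statements.S5497

set_option autoImplicit false
open RootD

namespace Groth.Agent.S5497

/-- For a partition of the roots into two closed symmetric subsets, whenever α, β, α + β are roots they
lie in the same part. -/
theorem result {ι M N : Type*} [AddCommGroup M] [AddCommGroup N]
    (P : RootPairing ι ℤ M N) [Finite ι] (R' : Set ι) (hc : RootD.IsClosedSub P R')
    (hs : RootD.IsSymmSub P R') (hc' : RootD.IsClosedSub P R'ᶜ) (hs' : RootD.IsSymmSub P R'ᶜ)
    (i j k : ι) (h : P.root k = P.root i + P.root j) :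
    (i ∈ R' ∧ j ∈ R' ∧ k ∈ R') ∨ (i ∉ R' ∧ j ∉ R' ∧ k ∉ R') := by
  have hneg : ∀ l, P.root (P.reflectionPerm l l) = - P.root l := fun l => by simp
  -- general principle: in a closed symmetric set, if two of the three lie in it so does the third
  have key : ∀ (T : Set ι), RootD.IsClosedSub P T → RootD.IsSymmSub P T →
      (i ∈ T → j ∈ T → k ∈ T) ∧ (i ∈ T → k ∈ T → j ∈ T) ∧ (j ∈ T → k ∈ T → i ∈ T) := by
    intro T hT hT'
    refine ⟨fun hi hj => hT hi hj h, fun hi hk => ?_, fun hj hk => ?_⟩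
    · refine hT hk (hT' hi) ?_
      rw [hneg, h]; abel
    · refine hT hk (hT' hj) ?_
      rw [hneg, h]; abel
  obtain ⟨a1, a2, a3⟩ := key R' hc hs
  obtain ⟨b1, b2, b3⟩ := key R'ᶜ hc' hs'
  simp only [Set.mem_compl_iff] at b1 b2 b3
  clear key hneg h hc hs hc' hs'
  by_cases hi : i ∈ R'
  · by_cases hj : j ∈ R'
    · exact Or.inl ⟨hi, hj, a1 hi hj⟩
    · by_cases hk : k ∈ R'
      · exact absurd (a2 hi hk) hj
      · exact absurd hi (b3 hj hk)
  · by_cases hj : j ∈ R'
    · by_cases hk : k ∈ R'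
      · exact absurd (a3 hj hk) hi
      · exact absurd hj (b2 hi hk)
    · exact Or.inr ⟨hi, hj, b1 hi hj⟩

end Groth.Agent.S5497
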