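import Groth.Statements.S5501
import Groth.Agent.Lib.RootDAdj_helper8

set_option autoImplicit false
open RootD

universe u v w

namespace Groth.Agent.S5501

open Groth.Agent.Lib.RootDRank_helper8 Groth.Agent.Lib.RootD_helper8
  Groth.Agent.Lib.RootDAdj_helper8

/-- Adjoint case; the simply connected case is dual: a semisimple root datum R is adjoint if and only if
every isogeny R' → R is an isomorphism. -/
theorem result {ι : Type u} {M : Type v} {N : Type w} [AddCommGroup M] [AddCommGroup N]
    (P : RootPairing ι ℤ M N) [Finite ι] [Module.Finite ℤ M] [Module.Finite ℤ N]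
    (hss : Module.finrank ℤ (Submodule.span ℤ (Set.range P.root)) = Module.finrank ℤ M) :
    Submodule.span ℤ (Set.range P.root) = ⊤ ↔
      ∀ (ι' : Type u) (M' N' : Type v) [AddCommGroup M'] [AddCommGroup N'] [Finite ι']
        [Module.Finite ℤ M'] [Module.Finite ℤ N'] (P' : RootPairing ι' ℤ M' N') (f : RootPairing.Hom P' P),
        Function.Injective f.weightMap → Finite (M ⧸ LinearMap.range f.weightMap) →
          Function.Bijective f.weightMap := by
  constructor
  · intro had ι' M' N' _ _ _ _ _ P' f hinj _
    refine ⟨hinj, ?_⟩
    rw [← LinearMap.range_eq_top, eq_top_iff, ← had, Submodule.span_le]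
    rintro - ⟨i, rfl⟩
    refine ⟨P'.root (f.indexEquiv.symm i), ?_⟩
    rw [RootPairing.Hom.root_weightMap_apply, Equiv.apply_symm_apply]
  · intro h
    have := isTorsionFree P
    have hfree : Module.Free ℤ M := Module.free_of_finite_type_torsion_free'
    have hrefl := rootSpan_isReflexive P
    have hfin : Finite (M ⧸ LinearMap.range (adjHom P).weightMap) := by
      apply Submodule.finiteQuotientOfFreeOfRankEq
      have : LinearMap.range (adjHom P).weightMap = Submodule.span ℤ (Set.range P.root) :=
        Submodule.range_subtype _
      rw [this, hss]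
    have hbij := h ι (Submodule.span ℤ (Set.range P.root))
      (Module.Dual ℤ (Submodule.span ℤ (Set.range P.root))) (adj P) (adjHom P)
      (Submodule.subtype_injective _) hfin
    have hsurj := hbij.2
    rw [← LinearMap.range_eq_top] at hsurj
    rw [← hsurj]
    exact (Submodule.range_subtype _).symm

end Groth.Agent.S5501
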