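import Groth.Statements.S5504
import Groth.Agent.Lib.RootDWord_helper8

set_option autoImplicit false
open RootPairing
open scoped Pointwise
open RootD

namespace Groth.Agent.S5504

open Groth.Agent.Lib.RootD_helper8 Groth.Agent.Lib.RootDWeyl_helper8
  Groth.Agent.Lib.RootDWord_helper8 in
/-- Stated for the group generated by the simple reflections (rather than for the abstractly presented
group): if w = s_{α_1} ⋯ s_{α_m} is a word of minimal length in the simple reflections, then w(α_m)
is a negative root. -/
theorem result {ι M N : Type*} [AddCommGroup M] [AddCommGroup N]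
    (P : RootPairing ι ℤ M N) [Finite ι] (Δ : Set ι) (hΔ : RootD.IsSimpleSys P Δ)
    (l : List ι) (hl : ∀ a ∈ l, a ∈ Δ) (hne : l ≠ [])
    (hmin : ∀ l' : List ι, (∀ a ∈ l', a ∈ Δ) →
      (l'.map fun a => Equiv.reflection P a).prod = (l.map fun a => Equiv.reflection P a).prod → l.length ≤ l'.length) :
    -P.root ((l.map fun a => Equiv.reflection P a).prod • l.getLast hne) ∈ RootD.natSpan P Δ := by
  set a := l.getLast hne with ha
  set l₀ := l.dropLast with hl₀
  have hsplit : l = l₀ ++ [a] := (List.dropLast_append_getLast hne).symm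
  have haΔ : a ∈ Δ := hl a (List.getLast_mem hne)
  have hl₀Δ : ∀ x ∈ l₀, x ∈ Δ := fun x hx => hl x (List.dropLast_subset l hx)
  have h1 : wprod P l₀ • a ∈ posOf P Δ := by
    apply wprod_smul_mem_posOf_of_minimal hΔ hl₀Δ haΔ
    intro l' hl' hl'g
    rw [← hsplit]
    exact hmin l' hl' (by rw [hsplit]; exact hl'g)
  have h2 : (l.map fun a => Equiv.reflection P a).prod = wprod P l₀ * Equiv.reflection P a := by
    change wprod P l = _
    rw [hsplit, wprod_append, wprod_singleton]
  rw [h2, mul_smul, reflection_smul_idx, smul_neg_idx, root_neg, neg_neg]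
  exact h1

end Groth.Agent.S5504
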