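import Groth.Statements.S5505
import Groth.Agent.Lib.RootDIrr_helper8

set_option autoImplicit false
open RootD

namespace Groth.Agent.S5505

open Groth.Agent.Lib.RootDIrr_helper8 in
/-- A subset of roots which, together with its complement, is closed and symmetric contains with any
root every root not orthogonal to it; so it is a union of irreducible components. -/
theorem result {ι M N : Type*} [AddCommGroup M] [AddCommGroup N]
    (P : RootPairing ι ℤ M N) [Finite ι] (R' : Set ι) (hc : RootD.IsClosedSub P R')
    (hs : RootD.IsSymmSub P R') (hc' : RootD.IsClosedSub P R'ᶜ) (hs' : RootD.IsSymmSub P R'ᶜ)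
    (i j : ι) (hi : i ∈ R') (hij : ¬ P.IsOrthogonal i j) : j ∈ R' :=
  IsPart.mem_of_not_isOrthogonal ⟨hc, hs, hc', hs'⟩ hi hij

end Groth.Agent.S5505
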