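import Groth.Statements.S5578
import Mathlib
import Groth.Agent.Lib.ToposFin2_helper8

set_option autoImplicit false
open CategoryTheory CategoryTheory.Limits Opposite
universe u
open ToposFin

namespace Groth.Agent.S5578

attribute [-instance] CategoryTheory.hasColimitsEssentiallySmallSite

/-- For the topos of sheaves of sets on a small site: every monomorphism is quasi-separated, i.e. its
diagonal is a quasi-compact morphism. -/
theorem result {C : Type u} [SmallCategory C] {J : GrothendieckTopology C}
    {X Y : ToposFin.Sh J} (u : X ⟶ Y) [Mono u] : ToposFin.IsQSHom u := by
  exact Groth.Agent.Lib.ToposFinH8.isQSHom_of_mono u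

end Groth.Agent.S5578
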