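import Groth.Statements.S5593
import Groth.Agent.Lib.StrictArrows2_helper3
-- import your own Groth.Agent.* helpers here

set_option autoImplicit false
open CategoryTheory CategoryTheory.Limits AlgebraicGeometry Opposite
open Groth.Agent.Lib.StrictArrowsH3
universe u
open EtDesc

namespace Groth.Agent.S5593

/-- Let X be a scheme, x, x' points of X with strict localisations Spec R -> X and Spec R' -> X (R, R'
strict henselisations of the local rings at x and x'). There is an X-morphism Spec R' -> Spec R,
i.e. the geometric point over x is a specialization of the one over x', if and only if x lies in the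
closure of x'. -/
theorem result (X : Scheme.{u}) (x x' : X)
    (R : Type u) [CommRing R] [IsLocalRing R] [Algebra (X.presheaf.stalk x) R]
    [IsLocalHom (algebraMap (X.presheaf.stalk x) R)] [Hensel.IsStrictHenselization (X.presheaf.stalk x) R]
    (R' : Type u) [CommRing R'] [IsLocalRing R'] [Algebra (X.presheaf.stalk x') R']
    [IsLocalHom (algebraMap (X.presheaf.stalk x') R')] [Hensel.IsStrictHenselization (X.presheaf.stalk x') R'] :
    (∃ g : Spec (CommRingCat.of R') ⟶ Spec (CommRingCat.of R), g ≫ Hens2.specOf X x R = Hens2.specOf X x' R') ↔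
      x' ⤳ x := by
  constructor
  · rintro ⟨g, hg⟩
    have h1 := comp_specOf_apply_specializes x R g (IsLocalRing.closedPoint R')
    rw [hg, specOf_closedPoint] at h1
    exact h1
  · intro h
    obtain ⟨u₀, hu₀⟩ := exists_compatible_residue h R R'
    obtain ⟨φ, ⟨hφ, -⟩, -⟩ := existsUnique_lift h R R' u₀ hu₀
    refine ⟨Spec.map (CommRingCat.ofHom φ), ?_⟩
    exact (specMap_comp_specOf_eq_iff h R R' φ (algebraMap (X.presheaf.stalk x') R')).mpr hφ

end Groth.Agent.S5593
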