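import Groth.Statements.S5594
import Groth.Agent.Lib.StrictArrows2_helper3
-- import your own Groth.Agent.* helpers here

set_option autoImplicit false
open CategoryTheory CategoryTheory.Limits AlgebraicGeometry Opposite
open Groth.Agent.Lib.StrictArrowsH3
universe u
open EtDesc

namespace Groth.Agent.S5594

/-- Let X be a scheme, x, x' points of X with strict localisations Spec R -> X and Spec R' -> X, and ξ'
: Spec κ(R') -> Spec R' the closed point, a geometric point of X over x'. Then restricting along ξ'
is a bijection from the X-morphisms Spec R' -> Spec R (specialization arrows) onto the X-morphisms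
from the geometric point Spec κ(R') to Spec R: injectivity and surjectivity are stated separately. -/
theorem result (X : Scheme.{u}) (x x' : X)
    (R : Type u) [CommRing R] [IsLocalRing R] [Algebra (X.presheaf.stalk x) R]
    [IsLocalHom (algebraMap (X.presheaf.stalk x) R)] [Hensel.IsStrictHenselization (X.presheaf.stalk x) R]
    (R' : Type u) [CommRing R'] [IsLocalRing R'] [Algebra (X.presheaf.stalk x') R']
    [IsLocalHom (algebraMap (X.presheaf.stalk x') R')] [Hensel.IsStrictHenselization (X.presheaf.stalk x') R'] :
    (∀ g₁ g₂ : Spec (CommRingCat.of R') ⟶ Spec (CommRingCat.of R),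
      g₁ ≫ Hens2.specOf X x R = Hens2.specOf X x' R' → g₂ ≫ Hens2.specOf X x R = Hens2.specOf X x' R' →
      Spec.map (CommRingCat.ofHom (IsLocalRing.residue R')) ≫ g₁ =
        Spec.map (CommRingCat.ofHom (IsLocalRing.residue R')) ≫ g₂ → g₁ = g₂) ∧
    (∀ h : Spec (CommRingCat.of (IsLocalRing.ResidueField R')) ⟶ Spec (CommRingCat.of R),
      h ≫ Hens2.specOf X x R = Hens2.geomPt X x' R' →
      ∃ g : Spec (CommRingCat.of R') ⟶ Spec (CommRingCat.of R),
        g ≫ Hens2.specOf X x R = Hens2.specOf X x' R' ∧
        Spec.map (CommRingCat.ofHom (IsLocalRing.residue R')) ≫ g = h) := by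
  constructor
  · intro g₁ g₂ hg₁ hg₂ hres
    have h : x' ⤳ x := by
      have h1 := comp_specOf_apply_specializes x R g₁ (IsLocalRing.closedPoint R')
      rw [hg₁, specOf_closedPoint] at h1
      exact h1
    have e₁ : Spec.map (CommRingCat.ofHom (Spec.preimage g₁).hom) = g₁ := by
      rw [CommRingCat.ofHom_hom, Spec.map_preimage]
    have e₂ : Spec.map (CommRingCat.ofHom (Spec.preimage g₂).hom) = g₂ := by
      rw [CommRingCat.ofHom_hom, Spec.map_preimage]
    have hφ₁ := (specMap_comp_specOf_eq_iff h R R' (Spec.preimage g₁).hom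
      (algebraMap (X.presheaf.stalk x') R')).mp (by rw [e₁]; exact hg₁)
    have hφ₂ := (specMap_comp_specOf_eq_iff h R R' (Spec.preimage g₂).hom
      (algebraMap (X.presheaf.stalk x') R')).mp (by rw [e₂]; exact hg₂)
    have hres' : (IsLocalRing.residue R').comp (Spec.preimage g₁).hom =
        (IsLocalRing.residue R').comp (Spec.preimage g₂).hom := by
      have h2 : Spec.map (CommRingCat.ofHom ((IsLocalRing.residue R').comp
          (Spec.preimage g₁).hom)) = Spec.map (CommRingCat.ofHom ((IsLocalRing.residue R').comp
          (Spec.preimage g₂).hom)) := by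
        rw [CommRingCat.ofHom_comp, CommRingCat.ofHom_comp, Spec.map_comp, Spec.map_comp, e₁, e₂]
        exact hres
      have h3 := Spec.map_injective h2
      exact congrArg CommRingCat.Hom.hom h3
    have hu₀ : ((IsLocalRing.residue R').comp (Spec.preimage g₁).hom).comp
        (algebraMap (X.presheaf.stalk x) R) =
        ((IsLocalRing.residue R').comp (algebraMap (X.presheaf.stalk x') R')).comp
          (X.presheaf.stalkSpecializes h).hom := by
      rw [RingHom.comp_assoc, hφ₁, RingHom.comp_assoc]
    obtain ⟨φ, -, huniq⟩ := existsUnique_lift h R R' _ hu₀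
    have k₁ := huniq (Spec.preimage g₁).hom ⟨hφ₁, rfl⟩
    have k₂ := huniq (Spec.preimage g₂).hom ⟨hφ₂, hres'.symm⟩
    rw [← e₁, ← e₂, k₁, k₂]
  · intro hh hhh
    have h : x' ⤳ x := by
      have h1 := comp_specOf_apply_specializes x R hh
        (⊥ : PrimeSpectrum (IsLocalRing.ResidueField R'))
      rw [hhh] at h1
      have h2 : (Hens2.geomPt X x' R') (⊥ : PrimeSpectrum (IsLocalRing.ResidueField R')) = x' := by
        have h3 : (Spec.map (CommRingCat.ofHom (IsLocalRing.residue R')))
            (⊥ : PrimeSpectrum (IsLocalRing.ResidueField R')) = IsLocalRing.closedPoint R' :=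
          IsLocalRing.PrimeSpectrum.comap_residue R' _
        simp only [Hens2.geomPt, Scheme.Hom.comp_apply]
        rw [h3]
        have := specOf_closedPoint x' R'
        simpa only [Hens2.specOf, Scheme.Hom.comp_apply] using this
      rw [h2] at h1
      exact h1
    have e₀ : Spec.map (CommRingCat.ofHom (Spec.preimage hh).hom) = hh := by
      rw [CommRingCat.ofHom_hom, Spec.map_preimage]
    have hgeom : Hens2.geomPt X x' R' = Spec.map (CommRingCat.ofHom ((IsLocalRing.residue R').comp
        (algebraMap (X.presheaf.stalk x') R'))) ≫ X.fromSpecStalk x' := by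
      simp only [Hens2.geomPt, Hens2.specOf]
      rw [CommRingCat.ofHom_comp, Spec.map_comp, Category.assoc]
    have hu₀ := (specMap_comp_specOf_eq_iff h R (IsLocalRing.ResidueField R')
      (Spec.preimage hh).hom ((IsLocalRing.residue R').comp
        (algebraMap (X.presheaf.stalk x') R'))).mp (by rw [e₀, hhh, hgeom])
    obtain ⟨φ, ⟨hφ, hφres⟩, -⟩ := existsUnique_lift h R R' _ hu₀
    refine ⟨Spec.map (CommRingCat.ofHom φ), ?_, ?_⟩
    · exact (specMap_comp_specOf_eq_iff h R R' φ (algebraMap (X.presheaf.stalk x') R')).mpr hφ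
    · rw [← Spec.map_comp, ← CommRingCat.ofHom_comp, hφres, e₀]

end Groth.Agent.S5594
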