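import Groth.Statements.S5610
import Mathlib.Algebra.Homology.Embedding.CochainComplex
import Mathlib.Algebra.Homology.DerivedCategory.Basic
-- import your own Groth.Agent.* helpers here

set_option autoImplicit false
universe w v u
open CategoryTheory CategoryTheory.Limits
open PCoh

namespace Groth.Agent.S5610

/-- Let C be an abelian category and C₀ a strictly full additive subcategory, liftable and stable under
kernels of epimorphisms. Let a ≤ b, a ≤ c, and let F be a strictly perfect complex (terms in C₀)
vanishing outside [a, c] with H^i(F) = 0 for i > b. Then F has perfect amplitude in [a, min b c]: it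
is isomorphic in D(C) to a strictly perfect complex vanishing outside that interval. -/
theorem result {C : Type u} [Category.{v} C] [Abelian C] [HasDerivedCategory.{w} C]
    (P : ObjectProperty C) [P.IsClosedUnderIsomorphisms] [P.ContainsZero] (hsum : ∀ X Y : C, P X → P Y → P (X ⨯ Y))
    (hlift : ∀ (E F : C) (u : E ⟶ F), Epi u → P F → IsSplitEpi u)
    (hst : ∀ (E F : C) (u : E ⟶ F), Epi u → P E → P F → P (kernel u))
    (a b c : ℤ) (hab : a ≤ b) (hac : a ≤ c) (F : CochainComplex C ℤ)
    (hP : ∀ i : ℤ, P (F.X i)) (hvan : ∀ i : ℤ, i < a ∨ c < i → IsZero (F.X i))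
    (hcoh : ∀ i : ℤ, b < i → IsZero (F.homology i)) :
    ∃ F' : CochainComplex C ℤ, (∀ i : ℤ, P (F'.X i)) ∧ (∀ i : ℤ, i < a ∨ min b c < i → IsZero (F'.X i)) ∧
      Nonempty (DerivedCategory.Q.obj F' ≅ DerivedCategory.Q.obj F) := by
  suffices H : ∀ (k : ℕ) (c : ℤ), c - b ≤ k → a ≤ c → ∀ (F : CochainComplex C ℤ),
      (∀ i : ℤ, P (F.X i)) → (∀ i : ℤ, i < a ∨ c < i → IsZero (F.X i)) →
      (∀ i : ℤ, b < i → IsZero (F.homology i)) →
      ∃ F' : CochainComplex C ℤ, (∀ i : ℤ, P (F'.X i)) ∧
        (∀ i : ℤ, i < a ∨ min b c < i → IsZero (F'.X i)) ∧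
        Nonempty (DerivedCategory.Q.obj F' ≅ DerivedCategory.Q.obj F) from
    H (c - b).toNat c (by omega) hac F hP hvan hcoh
  have base : ∀ (c : ℤ), c ≤ b → ∀ (F : CochainComplex C ℤ),
      (∀ i : ℤ, P (F.X i)) → (∀ i : ℤ, i < a ∨ c < i → IsZero (F.X i)) →
      ∃ F' : CochainComplex C ℤ, (∀ i : ℤ, P (F'.X i)) ∧
        (∀ i : ℤ, i < a ∨ min b c < i → IsZero (F'.X i)) ∧
        Nonempty (DerivedCategory.Q.obj F' ≅ DerivedCategory.Q.obj F) := by
    intro c hc F hP hvan
    refine ⟨F, hP, fun i hi => hvan i ?_, ⟨Iso.refl _⟩⟩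
    rw [min_eq_right hc] at hi
    exact hi
  intro k
  induction k with
  | zero =>
    intro c hc hac F hP hvan hcoh
    exact base c (by omega) F hP hvan
  | succ k ih =>
    intro c hc hac F hP hvan hcoh
    by_cases hcb : c ≤ b
    · exact base c hcb F hP hvan
    · have hbc : b < c := not_le.1 hcb
      have hLE : F.IsLE (c - 1) := by
        rw [CochainComplex.isLE_iff]
        intro i hi
        rw [HomologicalComplex.exactAt_iff_isZero_homology]
        exact hcoh i (by omega)
      have hq : QuasiIso (F.ιTruncLE (c - 1)) := inferInstance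
      -- the differential `F^{c-1} → F^c` is an epimorphism
      have hepi : Epi (F.d (c - 1) c) := by
        have hex : F.ExactAt c := by
          rw [HomologicalComplex.exactAt_iff_isZero_homology]
          exact hcoh c hbc
        rw [F.exactAt_iff' (c - 1) c (c + 1) (by simp) (by simp)] at hex
        have hz : (F.sc' (c - 1) c (c + 1)).g = 0 :=
          (hvan (c + 1) (Or.inr (by omega))).eq_of_tgt _ _
        exact (ShortComplex.exact_iff_epi _ hz).1 hex
      have hcyc : P (F.cycles (c - 1)) := by
        have hk : P (kernel (F.d (c - 1) c)) := hst _ _ _ hepi (hP _) (hP _)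
        have e : F.cycles (c - 1) ≅ kernel (F.d (c - 1) c) :=
          IsLimit.conePointUniqueUpToIso (F.cyclesIsKernel (c - 1) c (by simp))
            (limit.isLimit _)
        exact P.prop_of_iso e.symm hk
      have hP' : ∀ i : ℤ, P ((F.truncLE (c - 1)).X i) := by
        intro i
        rcases lt_trichotomy i (c - 1) with h | h | h
        · exact P.prop_of_iso (F.truncLEXIso (c - 1) i h).symm (hP i)
        · rw [h]
          exact P.prop_of_iso (F.truncLEXIsoCycles (c - 1)).symm hcyc
        · exact P.prop_of_isZero ((F.truncLE (c - 1)).isZero_of_isStrictlyLE (c - 1) i h)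
      have hvan' : ∀ i : ℤ, i < a ∨ c - 1 < i → IsZero ((F.truncLE (c - 1)).X i) := by
        intro i hi
        rcases hi with h | h
        · exact (hvan i (Or.inl h)).of_iso (F.truncLEXIso (c - 1) i (by omega))
        · exact (F.truncLE (c - 1)).isZero_of_isStrictlyLE (c - 1) i h
      have hcoh' : ∀ i : ℤ, b < i → IsZero ((F.truncLE (c - 1)).homology i) := by
        intro i hi
        have := hq.quasiIsoAt i
        exact (hcoh i hi).of_iso (asIso (HomologicalComplex.homologyMap (F.ιTruncLE (c - 1)) i))
      obtain ⟨F', h1, h2, ⟨e⟩⟩ := ih (c - 1) (by omega) (by omega) (F.truncLE (c - 1)) hP' hvan' hcoh'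
      have : IsIso (DerivedCategory.Q.map (F.ιTruncLE (c - 1))) := by
        rw [DerivedCategory.isIso_Q_map_iff_quasiIso]
        exact hq
      refine ⟨F', h1, fun i hi => h2 i ?_, ⟨e ≪≫ asIso (DerivedCategory.Q.map (F.ιTruncLE (c - 1)))⟩⟩
      rw [min_eq_left (by omega : b ≤ c)] at hi
      rw [min_eq_left (by omega : b ≤ c - 1)]
      exact hi

end Groth.Agent.S5610
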