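import Groth.Statements.S5614
-- import your own Groth.Agent.* helpers here

set_option autoImplicit false
universe v u
open CategoryTheory CategoryTheory.Limits CategoryTheory.Pretriangulated
open KZero

namespace Groth.Agent.S5614

/-- Let C be a pretriangulated category and S a dense set of objects, meaning that every set of objects
which contains S and which contains the third vertex of a distinguished triangle as soon as it
contains the other two is all of C. Then K₀(C) is generated by the classes of the objects of S. -/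
theorem result {C : Type u} [Category.{v} C] [Preadditive C] [HasZeroObject C]
    [HasShift C ℤ] [∀ n : ℤ, (shiftFunctor C n).Additive] [Pretriangulated C]
    (S : Set C)
    (hdense : ∀ T : Set C, S ⊆ T →
      (∀ tr : Triangle C, tr ∈ distinguishedTriangles →
        (tr.obj₁ ∈ T → tr.obj₂ ∈ T → tr.obj₃ ∈ T) ∧ (tr.obj₁ ∈ T → tr.obj₃ ∈ T → tr.obj₂ ∈ T) ∧
          (tr.obj₂ ∈ T → tr.obj₃ ∈ T → tr.obj₁ ∈ T)) → T = Set.univ) :
    AddSubgroup.closure (KZero.clTri '' S) = (⊤ : AddSubgroup (KZero.K0tri C)) := by
  set H : AddSubgroup (KZero.K0tri C) := AddSubgroup.closure (KZero.clTri '' S) with hH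
  -- the relation in K₀
  have hrel : ∀ X : Triangle C, X ∈ distinguishedTriangles →
      KZero.clTri X.obj₂ = KZero.clTri X.obj₁ + KZero.clTri X.obj₃ := by
    intro X hX
    have hmem : FreeAbelianGroup.of (⟨X.obj₂, trivial⟩ : Subtype (⊤ : ObjectProperty C)) -
        FreeAbelianGroup.of ⟨X.obj₁, trivial⟩ - FreeAbelianGroup.of ⟨X.obj₃, trivial⟩ ∈
        KZero.relTr (⊤ : ObjectProperty C) :=
      AddSubgroup.subset_closure ⟨X, trivial, trivial, trivial, hX, rfl⟩
    have h0 := (QuotientAddGroup.eq_zero_iff _).2 hmem
    rw [QuotientAddGroup.mk_sub, QuotientAddGroup.mk_sub] at h0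
    have h1 : KZero.clTri X.obj₂ - KZero.clTri X.obj₁ - KZero.clTri X.obj₃ = 0 := h0
    rw [sub_sub, sub_eq_zero] at h1
    exact h1
  let T : Set C := {X | KZero.clTri X ∈ H}
  have hT : T = Set.univ := by
    apply hdense T
    · intro X hX
      exact AddSubgroup.subset_closure ⟨X, hX, rfl⟩
    · intro X hX
      have h := hrel X hX
      refine ⟨fun h₁ h₂ => ?_, fun h₁ h₃ => ?_, fun h₂ h₃ => ?_⟩
      · show KZero.clTri X.obj₃ ∈ H
        have : KZero.clTri X.obj₃ = KZero.clTri X.obj₂ - KZero.clTri X.obj₁ := by rw [h]; abel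
        rw [this]
        exact H.sub_mem h₂ h₁
      · show KZero.clTri X.obj₂ ∈ H
        rw [h]
        exact H.add_mem h₁ h₃
      · show KZero.clTri X.obj₁ ∈ H
        have : KZero.clTri X.obj₁ = KZero.clTri X.obj₂ - KZero.clTri X.obj₃ := by rw [h]; abel
        rw [this]
        exact H.sub_mem h₂ h₃
  rw [eq_top_iff]
  intro z hz
  clear hz
  induction z using QuotientAddGroup.induction_on with
  | H z =>
    induction z using FreeAbelianGroup.induction_on with
    | zero => exact H.zero_mem
    | of X =>
      have : X.1 ∈ T := by rw [hT]; trivial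
      exact this
    | neg X h =>
      rw [QuotientAddGroup.mk_neg]
      exact H.neg_mem h
    | add x y hx hy =>
      rw [QuotientAddGroup.mk_add]
      exact H.add_mem hx hy

end Groth.Agent.S5614
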