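import Groth.Statements.S5624
import Mathlib.CategoryTheory.Abelian.Refinements
import Mathlib.Algebra.Homology.ShortComplex.ExactFunctor
-- import your own Groth.Agent.* helpers here

set_option autoImplicit false
universe w v u
open CategoryTheory CategoryTheory.Limits
open PCoh

namespace Groth.Agent.S5624

/-- Punctual site: let C be an abelian category and C₀ a strictly full additive subcategory,
quasi-liftable in C, and let 0 → F → G → H → 0 be a short exact sequence. If F and H are precoherent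
relative to C₀ then G is precoherent; if F and H are of C₀-finite type then G is of C₀-finite type. -/
theorem result {C : Type u} [Category.{v} C] [Abelian C]
    (P : ObjectProperty C) [P.IsClosedUnderIsomorphisms] [P.ContainsZero] (hsum : ∀ X Y : C, P X → P Y → P (X ⨯ Y))
    (hql : PCoh.IsQuasiLiftable P)
    (S : ShortComplex C) (hS : S.ShortExact) :
    ((∀ (E : C) (u : E ⟶ S.X₁), P E → PCoh.IsOfFiniteType P (kernel u)) → (∀ (E : C) (u : E ⟶ S.X₃), P E → PCoh.IsOfFiniteType P (kernel u)) →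
        (∀ (E : C) (u : E ⟶ S.X₂), P E → PCoh.IsOfFiniteType P (kernel u))) ∧
      (PCoh.IsOfFiniteType P S.X₁ → PCoh.IsOfFiniteType P S.X₃ → PCoh.IsOfFiniteType P S.X₂) := by
  have hmono : Mono S.f := hS.mono_f
  have hepi : Epi S.g := hS.epi_g
  have hex : S.Exact := hS.exact
  constructor
  · intro hF hH E u hE
    obtain ⟨E₁, π₁, hE₁, hπ₁⟩ := hH E (u ≫ S.g) hE
    have hz : (kernel.ι (u ≫ S.g) ≫ u) ≫ S.g = 0 := by
      rw [Category.assoc, kernel.condition]
    let w : kernel (u ≫ S.g) ⟶ S.X₁ := hex.lift _ hz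
    have hw : w ≫ S.f = kernel.ι (u ≫ S.g) ≫ u := hex.lift_f _ hz
    obtain ⟨E₂, π₂, hE₂, hπ₂⟩ := hF E₁ (π₁ ≫ w) hE₁
    have hψz : (kernel.ι (π₁ ≫ w) ≫ π₁ ≫ kernel.ι (u ≫ S.g)) ≫ u = 0 := by
      rw [Category.assoc, Category.assoc, ← hw, ← Category.assoc π₁, ← Category.assoc,
        kernel.condition, zero_comp]
    let ψ : kernel (π₁ ≫ w) ⟶ kernel u := kernel.lift u _ hψz
    have hψ : ψ ≫ kernel.ι u = kernel.ι (π₁ ≫ w) ≫ π₁ ≫ kernel.ι (u ≫ S.g) := kernel.lift_ι _ _ _
    have hψepi : Epi ψ := by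
      rw [epi_iff_surjective_up_to_refinements]
      intro A a
      have haz : (a ≫ kernel.ι u) ≫ u ≫ S.g = 0 := by
        rw [Category.assoc, kernel.condition_assoc, zero_comp, comp_zero]
      let b : A ⟶ kernel (u ≫ S.g) := kernel.lift _ _ haz
      have hb : b ≫ kernel.ι (u ≫ S.g) = a ≫ kernel.ι u := kernel.lift_ι _ _ _
      obtain ⟨A', p, hp, c, hc⟩ := surjective_up_to_refinements_of_epi π₁ b
      have hbw : b ≫ w = 0 := by
        rw [← cancel_mono S.f, Category.assoc, hw, ← Category.assoc, hb, Category.assoc,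
          kernel.condition, comp_zero, zero_comp]
      have hcz : c ≫ π₁ ≫ w = 0 := by
        rw [← Category.assoc, ← hc, Category.assoc, hbw, comp_zero]
      refine ⟨A', p, hp, kernel.lift _ c hcz, ?_⟩
      rw [← cancel_mono (kernel.ι u), Category.assoc, Category.assoc, hψ, kernel.lift_ι_assoc,
        ← Category.assoc c, ← hc, Category.assoc, hb]
    exact ⟨E₂, π₂ ≫ ψ, hE₂, epi_comp _ _⟩
  · rintro ⟨E₁, π₁, hE₁, hπ₁⟩ ⟨E₃, π₃, hE₃, hπ₃⟩
    -- lift `E₃ → H` through `G → H` up to a cover from `C₀`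
    have hepi' : Epi (pullback.snd S.g π₃) := inferInstance
    obtain ⟨F', v, hF', hv⟩ := hql _ _ (pullback.snd S.g π₃) hepi' hE₃
    let β : F' ⟶ S.X₂ := v ≫ pullback.fst S.g π₃
    have hβ : β ≫ S.g = (v ≫ pullback.snd S.g π₃) ≫ π₃ := by
      rw [Category.assoc, Category.assoc, pullback.condition]
    have hβepi : Epi (β ≫ S.g) := by
      rw [hβ]
      exact epi_comp _ _
    refine ⟨E₁ ⨯ F', prod.fst ≫ π₁ ≫ S.f + prod.snd ≫ β, hsum _ _ hE₁ hF', ?_⟩
    rw [epi_iff_surjective_up_to_refinements]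
    intro A a
    obtain ⟨A₁, p₁, hp₁, x₁, hx₁⟩ := surjective_up_to_refinements_of_epi (β ≫ S.g) (a ≫ S.g)
    have hz : (p₁ ≫ a - x₁ ≫ β) ≫ S.g = 0 := by
      rw [Preadditive.sub_comp, Category.assoc, Category.assoc, hx₁, sub_self]
    let y : A₁ ⟶ S.X₁ := hex.lift _ hz
    have hy : y ≫ S.f = p₁ ≫ a - x₁ ≫ β := hex.lift_f _ hz
    obtain ⟨A₂, p₂, hp₂, x₂, hx₂⟩ := surjective_up_to_refinements_of_epi π₁ y
    refine ⟨A₂, p₂ ≫ p₁, epi_comp _ _, prod.lift x₂ (p₂ ≫ x₁), ?_⟩
    rw [Preadditive.comp_add, prod.lift_fst_assoc, prod.lift_snd_assoc, ← Category.assoc x₂,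
      ← hx₂, Category.assoc, Category.assoc, Category.assoc, hy, Preadditive.comp_sub]
    abel

end Groth.Agent.S5624
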