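import Groth.Statements.S5663
import Mathlib
import Groth.Agent.Lib.LocalChain_helper6
import Groth.Agent.Lib.FiniteEpiLocal_helper6
-- import your own Groth.Agent.* helpers here

set_option autoImplicit false
universe u
open TensorProduct
open CAlg

namespace Groth.Agent.S5663

/-- Let A be a Noetherian ring and B a finite A-algebra with A → B injective (a finite schematically
dominant morphism Spec B → Spec A). Define subalgebras B_0 = B and B_{i+1} = the equalizer of the
two maps B_i ⇉ B_i ⊗_A B_i, b ↦ b ⊗ 1, 1 ⊗ b. Then B_m = A (the image of A) for some m; equivalently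
Spec B → Spec A factors as a finite chain of finite morphisms Spec B_i → Spec B_{i+1} each of which
is an effective epimorphism (B_{i+1} is the equalizer of B_i ⇉ B_i ⊗_{B_{i+1}} B_i). The sequence is
given here as any family C of subalgebras satisfying the recursion. (The published statement is for
a finite morphism X → Y of schemes with Y Noetherian and O_Y → f_*O_X injective; this row is the
affine case.) -/
theorem result (A B : Type u) [CommRing A] [CommRing B] [Algebra A B]
    [IsNoetherianRing A] [Module.Finite A B] (hinj : Function.Injective (algebraMap A B))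
    (C : ℕ → Subalgebra A B) (h0 : C 0 = ⊤)
    (hstep : ∀ (i : ℕ) (b : B), b ∈ C (i + 1) ↔ ∃ hb : b ∈ C i,
      ((⟨b, hb⟩ : C i) ⊗ₜ[A] (1 : C i) : C i ⊗[A] C i) = (1 : C i) ⊗ₜ[A] (⟨b, hb⟩ : C i)) :
    ∃ m : ℕ, C m = ⊥ := by

  classical
  haveI : IsNoetherian A B := isNoetherian_of_isNoetherianRing_of_finite A B
  have hanti1 : ∀ i, C (i + 1) ≤ C i := fun i b hb => ((hstep i b).1 hb).1
  have hanti : Antitone C := antitone_nat_of_succ_le hanti1
  let R₀ : Submodule A B := LinearMap.range (Algebra.linearMap A B)
  have hR₀ : ∀ i, R₀ ≤ Subalgebra.toSubmodule (C i) := by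
    rintro i _ ⟨a, rfl⟩
    exact (C i).algebraMap_mem a
  -- the conductor-like ideals
  let J : ℕ → Ideal A := fun i => R₀.colon (Subalgebra.toSubmodule (C i) : Set B)
  have hJmem : ∀ i (a : A), a ∈ J i ↔ ∀ b ∈ C i, a • b ∈ R₀ := fun i a => Submodule.mem_colon
  have hJmono : Monotone J := by
    intro i j hij a ha
    rw [hJmem] at ha ⊢
    exact fun b hb => ha b (hanti hij hb)
  obtain ⟨n, hn⟩ := monotone_stabilizes_iff_noetherian.2 inferInstance ⟨J, hJmono⟩
  by_cases htop : J n = ⊤
  · refine ⟨n, ?_⟩
    rw [eq_bot_iff]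
    intro b hb
    have h1 : (1 : A) ∈ J n := by rw [htop]; trivial
    have h2 := (hJmem n 1).1 h1 b hb
    rw [one_smul] at h2
    obtain ⟨a, ha⟩ := h2
    exact Algebra.mem_bot.2 ⟨a, ha⟩
  · exfalso
    obtain ⟨⟨p, hpmin⟩⟩ := Ideal.nonempty_minimalPrimes htop
    haveI : p.IsPrime := hpmin.1.1
    have hJp : J n ≤ p := hpmin.1.2
    -- Key claim
    have key : ∀ m, n ≤ m → (∀ x ∈ C m, ∃ s : A, s ∉ p ∧ s • x ∈ C (m + 1)) → False := by
      intro m hm hx
      haveI : Module.Finite A (C m) :=
        Module.Finite.of_injective (C m).val.toLinearMap Subtype.val_injective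
      have hE := Groth.Agent.Lib.FiniteEpiLocal.exists_smul_eq_algebraMap (A := A) (S := C m) p
        (fun b => by
          obtain ⟨s, hs, hsb⟩ := hx b b.2
          refine ⟨s, hs, ?_⟩
          obtain ⟨hb', heq⟩ := (hstep m (s • (b : B))).1 hsb
          have e1 : (⟨s • (b : B), hb'⟩ : C m) = s • b := rfl
          rw [e1] at heq
          rw [smul_sub, TensorProduct.smul_tmul', heq, TensorProduct.smul_tmul',
            TensorProduct.smul_tmul, sub_self])
      choose t ht a hta using hE
      obtain ⟨T, hT⟩ := (Module.Finite.fg_top : (⊤ : Submodule A (C m)).FG)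
      let t0 : A := ∏ b ∈ T, t b
      have ht0 : t0 ∉ p := by
        intro hmem
        obtain ⟨b, -, hb⟩ := (Ideal.IsPrime.prod_mem_iff).1 hmem
        exact ht b hb
      have hall : ∀ x : C m, t0 • x ∈ LinearMap.range (Algebra.linearMap A (C m)) := by
        intro x
        have hxT : x ∈ Submodule.span A (T : Set (C m)) := by rw [hT]; trivial
        induction hxT using Submodule.span_induction with
        | mem b hb =>
          have e : t0 = (∏ c ∈ T.erase b, t c) * t b := (Finset.prod_erase_mul T t hb).symm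
          rw [e, mul_smul, hta b]
          exact Submodule.smul_mem _ _ ⟨a b, rfl⟩
        | zero => rw [smul_zero]; exact Submodule.zero_mem _
        | add x y _ _ hx hy => rw [smul_add]; exact Submodule.add_mem _ hx hy
        | smul c x _ hx => rw [smul_comm]; exact Submodule.smul_mem _ _ hx
      have ht0J : t0 ∈ J m := by
        rw [hJmem]
        intro b hb
        obtain ⟨a0, ha0⟩ := hall ⟨b, hb⟩
        refine ⟨a0, ?_⟩
        have := congrArg (fun z : C m => (z : B)) ha0
        simpa using this
      have hnm : J n = J m := hn m hm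
      rw [← hnm] at ht0J
      exact ht0 (hJp ht0J)
    -- the Artinian argument
    let π : B →ₗ[A] B ⧸ R₀ := R₀.mkQ
    let N : ℕ → Submodule A (B ⧸ R₀) := fun k => (Subalgebra.toSubmodule (C (n + k))).map π
    have hNanti : Antitone N := fun i j hij => Submodule.map_mono (hanti (Nat.add_le_add_left hij n))
    have hfin : (N 0).FG := IsNoetherian.noetherian _
    have hJN : ∀ a ∈ J n, ∀ x ∈ N 0, a • x = 0 := by
      rintro a ha _ ⟨b, hb, rfl⟩
      rw [← map_smul]
      exact (Submodule.Quotient.mk_eq_zero R₀).2 ((hJmem n a).1 ha b hb)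
    obtain ⟨k, hk⟩ := Groth.Agent.Lib.LocalChain.exists_stable_localized N hNanti hfin (J n) hJN p hpmin
    apply key (n + k) (Nat.le_add_right n k)
    intro x hx
    obtain ⟨s, hs, hsx⟩ := hk (π x) ⟨x, hx, rfl⟩
    refine ⟨s, hs, ?_⟩
    obtain ⟨c, hc, hcx⟩ := hsx
    rw [← map_smul] at hcx
    have h1 : c - s • x ∈ R₀ := by
      rw [← Submodule.Quotient.mk_eq_zero R₀]
      change π (c - s • x) = 0
      rw [map_sub, hcx, sub_self]
    have h2 : c - s • x ∈ C (n + k + 1) := hR₀ _ h1
    have h3 : s • x = c - (c - s • x) := by ring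
    rw [h3]
    exact (C (n + k + 1)).sub_mem hc h2

end Groth.Agent.S5663
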