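import Groth.Statements.S5712
import Groth.Agent.Lib.H90Et3_helper8
import Groth.Agent.Lib.EtLeray1_helper7
import Groth.Agent.Lib.HofPushTheta_helper8
import Groth.Agent.Lib.EtFieldSurj_helper8

set_option autoImplicit false
universe u
open CategoryTheory AlgebraicGeometry
open Dix

namespace Groth.Agent.S5712

open CategoryTheory.Limits

/-- Let X be a quasi-compact quasi-separated scheme and x a point of X, with i_x : Spec κ(x) → X. Then
H¹(X_et, i_{x*} G_m) = 0, and the canonical map H²(X_et, i_{x*} G_m) → H²(Spec κ(x)_et, G_m) is
injective. (The published statement is about the sheaf of invertible rational functions, which for X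
reduced with finitely many irreducible components is the finite product of the sheaves i_{x*} G_m
over the maximal points x; the argument is the present one at each point.) The second map is
EtLim.HofPush, whose exactness hypothesis on the inverse image is carried as an instance binder. -/
theorem result (X : Scheme.{u}) [CompactSpace X] [QuasiSeparatedSpace X] (x : X) [Limits.PreservesFiniteLimits (EtCoh.pull (X.fromSpecResidueField x))] : Subsingleton (EtCoh.H X ((Dix.skyPush X x).obj (EtCoh.Gm (Spec (X.residueField x)))) 1) ∧ Function.Injective (EtLim.HofPush (X.fromSpecResidueField x) (EtCoh.Gm (Spec (X.residueField x))) 2) := by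
  classical
  have hloc : ∀ φ : Γ(Spec (X.residueField x), ⊤),
      (default : Spec (X.residueField x)) ∈ (Spec (X.residueField x)).basicOpen φ → IsUnit φ := by
    intro φ hφ
    have h0 : φ ≠ 0 := by
      rintro rfl
      rw [Scheme.basicOpen_zero] at hφ
      exact hφ
    have h5 : (Scheme.ΓSpecIso (X.residueField x)).inv.hom
        ((Scheme.ΓSpecIso (X.residueField x)).hom.hom φ) = φ :=
      congrArg (fun ψ : Γ(Spec (X.residueField x), ⊤) ⟶ Γ(Spec (X.residueField x), ⊤) => ψ.hom φ)
        (Scheme.ΓSpecIso (X.residueField x)).hom_inv_id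
    have h1 : (Scheme.ΓSpecIso (X.residueField x)).hom.hom φ ≠ 0 := by
      intro h
      apply h0
      rw [← h5, h, map_zero]
    have h3 : IsUnit ((Scheme.ΓSpecIso (X.residueField x)).hom.hom φ) :=
      (isUnit_iff_ne_zero (G₀ := X.residueField x)).2 h1
    have h4 := h3.map (Scheme.ΓSpecIso (X.residueField x)).inv.hom
    rw [h5] at h4
    exact h4
  have h90 := Groth.Agent.Lib.H90EtH8.h1_gm_eq_zero_of_local (Spec (X.residueField x)) default hloc
  refine ⟨?_, ?_⟩
  · exact Groth.Agent.Lib.EtLeray1H7.subsingleton_H1_push (X.fromSpecResidueField x)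
      (EtCoh.Gm (Spec (X.residueField x))) ⟨fun a b => (h90 a).trans (h90 b).symm⟩
  · apply Groth.Agent.Lib.HofPushThetaH8.hofPush_injective_of_θ
    intro y hy
    let Sx : ShortComplex (EtCoh.Ab (Spec (X.residueField x))) :=
      ShortComplex.mk (Injective.ι (EtCoh.Gm (Spec (X.residueField x))))
        (cokernel.π (Injective.ι (EtCoh.Gm (Spec (X.residueField x)))))
        (cokernel.condition _)
    have hSx : Sx.ShortExact :=
      { exact := ShortComplex.exact_cokernel (Injective.ι (EtCoh.Gm (Spec (X.residueField x)))) }
    haveI : Injective Sx.X₂ :=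
      inferInstanceAs (Injective (Injective.under (EtCoh.Gm (Spec (X.residueField x)))))
    have hpush : (Sx.map (EtCoh.push (X.fromSpecResidueField x))).ShortExact :=
      Groth.Agent.Lib.EtFieldSurjH8.shortExact_push_of_discrete (X.fromSpecResidueField x)
        (fun Z => Groth.Agent.Lib.EtFieldSurjH8.discreteTopology_of_subsingleton _ Z)
        Sx.f Sx.g Sx.zero hSx
    exact Groth.Agent.Lib.AdjExtH8.θ_two_injective
      (EtCoh.pullPushAdj (X.fromSpecResidueField x)) Sx hSx hpush y hy

end Groth.Agent.S5712
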