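import Groth.Statements.S5713
import Groth.Agent.Lib.RegElt1_helper6
import Groth.Agent.Lib.RegElt2_helper6
import Groth.Agent.Lib.RegElt3_helper6
import Groth.Agent.Lib.AzumayaBaseChange_helper6

set_option autoImplicit false
universe u v
open TensorProduct
open Dix

namespace Groth.Agent.S5713

/-- Over a local base. Let R be a local ring with residue field k, A an Azumaya algebra over R of rank
r², and ξ ∈ A an element whose image ξ̄ = 1 ⊗ ξ in k ⊗_R A is regular, i.e. generates a commutative
subalgebra k[ξ̄] which is étale over k (all elements separable) of dimension r. Then the powers 1,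
ξ, …, ξ^{r-1} are linearly independent over R and ξ^r lies in their R-linear span; thus R[ξ] is a
free R-module of rank r closed under multiplication, and ξ is a regular section over all of Spec R. -/
theorem result (R : Type u) [CommRing R] [IsLocalRing R] (A : Type u) [Ring A] [Algebra R A] [IsAzumaya R A] (r : ℕ) (hA : Module.finrank R A = r ^ 2) (ξ : A) (hsep : Algebra.IsSeparable (IsLocalRing.ResidueField R) (Algebra.adjoin (IsLocalRing.ResidueField R) ({(1 : IsLocalRing.ResidueField R) ⊗ₜ[R] ξ} : Set (IsLocalRing.ResidueField R ⊗[R] A)))) (hrk : Module.finrank (IsLocalRing.ResidueField R) (Algebra.adjoin (IsLocalRing.ResidueField R) ({(1 : IsLocalRing.ResidueField R) ⊗ₜ[R] ξ} : Set (IsLocalRing.ResidueField R ⊗[R] A))) = r) : LinearIndependent R (fun i : Fin r => ξ ^ (i : ℕ)) ∧ ξ ^ r ∈ Submodule.span R (Set.range (fun i : Fin r => ξ ^ (i : ℕ))) := by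
  classical
  haveI : Module.Finite R A := IsAzumaya.toFinite
  haveI : Module.Projective R A := IsAzumaya.toProjective
  haveI : Module.Free R A := Module.free_of_flat_of_isLocalRing
  haveI : IsAzumaya (IsLocalRing.ResidueField R) (IsLocalRing.ResidueField R ⊗[R] A) :=
    Groth.Agent.Lib.AzumayaBaseChange.isAzumaya_baseChange R (IsLocalRing.ResidueField R) A
  haveI : Module.Finite (IsLocalRing.ResidueField R) (IsLocalRing.ResidueField R ⊗[R] A) :=
    Module.Finite.base_change R (IsLocalRing.ResidueField R) A
  have hD : Module.finrank (IsLocalRing.ResidueField R) (IsLocalRing.ResidueField R ⊗[R] A) = r ^ 2 := by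
    rw [Module.finrank_baseChange, hA]
  have hxint : IsIntegral (IsLocalRing.ResidueField R)
      ((1 : IsLocalRing.ResidueField R) ⊗ₜ[R] ξ : IsLocalRing.ResidueField R ⊗[R] A) :=
    Algebra.IsIntegral.isIntegral _
  have hdeg : (minpoly (IsLocalRing.ResidueField R)
      ((1 : IsLocalRing.ResidueField R) ⊗ₜ[R] ξ : IsLocalRing.ResidueField R ⊗[R] A)).natDegree = r := by
    rw [← Groth.Agent.Lib.RegEltH6.finrank_adjoin_singleton (IsLocalRing.ResidueField R) _ hxint, hrk]
  have hs := Groth.Agent.Lib.RegEltH6.minpoly_separable_of_adjoin (IsLocalRing.ResidueField R) _ hsep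
  apply Groth.Agent.Lib.RegEltH6.nakayama_regular R A ξ r
  · have h1 := linearIndependent_pow (K := IsLocalRing.ResidueField R)
      ((1 : IsLocalRing.ResidueField R) ⊗ₜ[R] ξ : IsLocalRing.ResidueField R ⊗[R] A)
    rw [hdeg] at h1
    exact h1
  · intro t ht
    exact Groth.Agent.Lib.RegEltH6.centralizer_csa (IsLocalRing.ResidueField R)
      (IsLocalRing.ResidueField R ⊗[R] A) r hD _ hs hdeg t ht

end Groth.Agent.S5713
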