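import Groth.Statements.S5726
import Mathlib
import Groth.Agent.S12486
import Groth.Agent.Lib.ClProj6_helper5
import Groth.Agent.Lib.PBProj2_helper5
import Groth.Agent.Lib.RelProj_helper3
import Groth.Agent.Lib.RelTwEx5_helper5

set_option autoImplicit false
universe u
open CategoryTheory CategoryTheory.Limits AlgebraicGeometry TopologicalSpace Opposite
open scoped HomogeneousIdeal
open EGA2

namespace Groth.Agent.S5726

/-- Let Y be a scheme which is either quasi-compact and separated or Noetherian, q : X → Y a morphism of
finite type and L an invertible O_X-module which is very ample relative to q. Then there are a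
quasi-coherent graded O_Y-algebra 𝒮 generated by its degree-one part, that part being of finite
type, a relative homogeneous spectrum p : P → Y of 𝒮 (given with its charts over affine opens)
together with its twisting sheaf O_P(1) (given with its chart identifications), and an open
immersion i : X → P with dense image such that i ≫ p = q and L is isomorphic to i^*O_P(1). (The
published statement keeps the notation of the proposition it follows, in which q is of finite type;
without that hypothesis the conclusion fails, for instance for the affine space of countably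
infinite dimension over a field with the structure sheaf, which is an open subscheme of a projective
bundle over the field but is not of finite type.) -/
theorem result {X Y : Scheme.{u}}
    (hY : (CompactSpace Y ∧ Y.IsSeparated) ∨ AlgebraicGeometry.IsNoetherian Y) (q : X ⟶ Y) [QuasiCompact q] [LocallyOfFiniteType q]
    (L : X.Modules) (hL : PicF.IsInvertible L) (h : RelProj.IsRelVeryAmple q L) :
    ∃ (𝒮 : RelProj.QCGrAlg Y) (P : Scheme.{u}) (p : P ⟶ Y)
      (chart : ∀ (U : Y.Opens) (hU : IsAffineOpen U), ((p ⁻¹ᵁ U : P.Opens) : Scheme.{u}) ≅ Proj (𝒮.deg U hU))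
      (O1 : P.Modules)
      (lam : ∀ (U : Y.Opens) (hU : IsAffineOpen U),
        O1 ⟶ (Scheme.Modules.pushforward (RelProj.emb p chart U hU)).obj (GrTwist.twist (𝒮.deg U hU) 1))
      (i : X ⟶ P),
      𝒮.IsGenDegOne ∧ 𝒮.IsFTDeg 1 ∧ RelProj.IsRelProj 𝒮 p chart ∧ RelProj.IsRelTwist 𝒮 p chart 1 O1 lam ∧
        IsOpenImmersion i ∧ Dense (Set.range i.base) ∧ i ≫ p = q ∧
        Nonempty (L ≅ (Scheme.Modules.pullback i).obj O1) := by
  have hY' : (CompactSpace Y ∧ Y.IsSeparated) ∨ TopologicalSpace.NoetherianSpace Y := by
    rcases hY with h | h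
    · exact Or.inl h
    · haveI := h
      exact Or.inr inferInstance
  obtain ⟨E, 𝒯, jE, P, p, chart, O1, lam, i, hE, hFT, hj, hP, hO1, hi, hip, ⟨α⟩⟩ :=
    Groth.Agent.S12486.result hY' q L hL h
  haveI : E.IsQuasicoherent := hE
  have hgen := Groth.Agent.PBProj.isGenDegOne_of_isGrSymAlg E 𝒯 jE hj
  have hft := Groth.Agent.PBProj.isFTDeg_one_of_isGrSymAlg E 𝒯 jE hj hFT
  haveI : IsSeparated p :=
    Groth.Agent.Lib.RelProj_helper3.of_chart @IsSeparated hP fun U hU => inferInstance
  haveI := hi
  haveI : QuasiCompact (i ≫ p) := by rw [hip]; infer_instance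
  haveI : QuasiCompact i :=
    MorphismProperty.HasOfPostcompProperty.of_postcomp (W := @QuasiCompact)
      (W' := @QuasiSeparated) i p inferInstance inferInstance
  have hPZ := Groth.Agent.ClProj.isRelProj_algQ i.imageι hP hft hgen
  have hOZ := Groth.Agent.RelTwEx.isRelTwist_relTwist hPZ 1
  obtain ⟨β⟩ := Groth.Agent.ClProj.nonempty_iso_pullback_twist i.imageι hP hft hgen hO1 hOZ
  have hfac : i.toImage ≫ i.imageι = i := Scheme.Hom.toImage_imageι i
  refine ⟨Groth.Agent.ClProj.algQ i.imageι hP hft, i.image, Groth.Agent.ClProj.fmap p i.imageι,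
    Groth.Agent.ClProj.chartA i.imageι hP hft hgen, Groth.Agent.RelTwEx.relTwist hPZ 1,
    Groth.Agent.RelTwEx.relLam hPZ 1, i.toImage,
    Groth.Agent.ClProj.algQ_gen i.imageι hP hft hgen, Groth.Agent.ClProj.algQ_ft i.imageι hP hft,
    hPZ, hOZ, inferInstance, ?_, ?_, ⟨?_⟩⟩
  · exact (inferInstance : IsDominant i.toImage).denseRange
  · show i.toImage ≫ i.imageι ≫ p = q
    rw [← Category.assoc, hfac, hip]
  · exact α ≪≫ ((Scheme.Modules.pullbackCongr hfac).symm.app O1) ≪≫
      ((Scheme.Modules.pullbackComp i.toImage i.imageι).symm.app O1) ≪≫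
      (Scheme.Modules.pullback i.toImage).mapIso β

end Groth.Agent.S5726
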