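import Groth.Statements.S5728
import Mathlib
import Groth.Agent.Lib.VA44b_helper5
import Groth.Agent.S4426
import Groth.Agent.S5729

set_option autoImplicit false
universe u
open CategoryTheory CategoryTheory.Limits AlgebraicGeometry TopologicalSpace Opposite
open scoped HomogeneousIdeal
open EGA2

namespace Groth.Agent.S5728

/-- Let f : X → Y be a proper morphism and L an invertible O_X-module which is very ample relative to f
and whose direct image f_*L (a quasi-coherent O_Y-module) is of finite type. Then f is projective: X
is isomorphic over Y to the relative homogeneous spectrum of a quasi-coherent graded O_Y-algebra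
generated by its degree-one part, with that part of finite type. -/
theorem result {X Y : Scheme.{u}} (f : X ⟶ Y) [IsProper f]
    (L : X.Modules) (hL : PicF.IsInvertible L) (hva : RelProj.IsRelVeryAmple f L)
    (hft : CohB1.IsFT ((Scheme.Modules.pushforward f).obj L)) : RelProj.IsProjective f := by
  haveI hq : L.IsQuasicoherent := TensH8.isQuasicoherent_of_isInvertible hL
  haveI hF : ((Scheme.Modules.pushforward f).obj L).IsQuasicoherent :=
    QcqsLoc.isQuasicoherent_pushforward_qcqs f L
  obtain ⟨𝒜, jE, h𝒜, P, p, chart, hP, -, -, -, -, -, -, -⟩ :=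
    Groth.Agent.PBundle.exists_projBundle ((Scheme.Modules.pushforward f).obj L)
  obtain ⟨iF, himm, hcomm⟩ := Groth.Agent.VA44.exists_immersion_pushforward f L hL hva 𝒜 jE h𝒜 p
    chart hP
  haveI := himm
  haveI : IsProper iF := Groth.Agent.S4426.result f 𝒜 p chart hP iF hcomm
  haveI : IsClosedImmersion iF :=
    IsClosedImmersion.of_isPreimmersion iF iF.isClosedMap.isClosed_range
  exact (Groth.Agent.S5729.result f).mpr
    ⟨_, 𝒜, jE, P, p, chart, iF, hF, hft, h𝒜, hP, inferInstance, hcomm⟩

end Groth.Agent.S5728
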