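import Groth.Statements.S5734
import Mathlib
import Groth.Agent.Lib.ProjSum1_helper5
import Groth.Agent.Lib.CohOpen2_helper8

set_option autoImplicit false
universe u
open CategoryTheory CategoryTheory.Limits AlgebraicGeometry TopologicalSpace Opposite
open scoped HomogeneousIdeal
open EGA2

namespace Groth.Agent.S5734

/-- Let E and F be quasi-coherent O_Y-modules with graded symmetric algebras 𝒮E, 𝒮F and let 𝒮 be the
graded symmetric algebra of E ⊕ F; let πE : 𝒮 → 𝒮E and πF : 𝒮 → 𝒮F be the graded algebra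
homomorphisms induced by the two projections of E ⊕ F (compatible with the structure maps from E ⊕
F, E and F), the irrelevant ideal of the target being generated by the image of that of the source
over every affine open (so that the induced morphisms of homogeneous spectra are everywhere
defined). Let P(E ⊕ F), P(E), P(F) be the projective bundles with their charts and hE : P(E) → P(E ⊕
F), hF : P(F) → P(E ⊕ F) the morphisms chartwise induced by πE and πF. Then the morphism P(E) ⨿ P(F)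
→ P(E ⊕ F) which restricts to hE and hF is a closed immersion: the disjoint union of P(E) and P(F)
is a closed subscheme of P(E ⊕ F). -/
theorem result {Y PE PF P : Scheme.{u}} (E F : Y.Modules)
    (hE : Coh.IsQCoh E) (hF : Coh.IsQCoh F) (𝒮E 𝒮F 𝒮 : RelProj.QCGrAlg Y)
    (jE : E ⟶ 𝒮E.toModule) (hjE : RelProj.IsGrSymAlg E 𝒮E jE)
    (jF : F ⟶ 𝒮F.toModule) (hjF : RelProj.IsGrSymAlg F 𝒮F jF)
    (j : E ⊞ F ⟶ 𝒮.toModule) (hj : RelProj.IsGrSymAlg (E ⊞ F) 𝒮 j)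
    (πE : 𝒮.toQCAlg ⟶ 𝒮E.toQCAlg) (hπE : RelProj.IsGradedHom πE)
    (hjπE : j ≫ RelSpec.QCAlg.Hom.toModuleMap πE = biprod.fst ≫ jE)
    (πF : 𝒮.toQCAlg ⟶ 𝒮F.toQCAlg) (hπF : RelProj.IsGradedHom πF)
    (hjπF : j ≫ RelSpec.QCAlg.Hom.toModuleMap πF = biprod.snd ≫ jF)
    (hirrE : ∀ (U : Y.Opens) (hU : IsAffineOpen U),
      (𝒮E.deg U hU)₊ ≤ ((𝒮.deg U hU)₊).map (RelProj.gradedHomAt πE hπE U hU))
    (hirrF : ∀ (U : Y.Opens) (hU : IsAffineOpen U),
      (𝒮F.deg U hU)₊ ≤ ((𝒮.deg U hU)₊).map (RelProj.gradedHomAt πF hπF U hU))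
    (p : P ⟶ Y) (pE : PE ⟶ Y) (pF : PF ⟶ Y)
    (chart : ∀ (U : Y.Opens) (hU : IsAffineOpen U), ((p ⁻¹ᵁ U : P.Opens) : Scheme.{u}) ≅ Proj (𝒮.deg U hU))
    (chartE : ∀ (U : Y.Opens) (hU : IsAffineOpen U), ((pE ⁻¹ᵁ U : PE.Opens) : Scheme.{u}) ≅ Proj (𝒮E.deg U hU))
    (chartF : ∀ (U : Y.Opens) (hU : IsAffineOpen U), ((pF ⁻¹ᵁ U : PF.Opens) : Scheme.{u}) ≅ Proj (𝒮F.deg U hU))
    (hP : RelProj.IsRelProj 𝒮 p chart) (hPE : RelProj.IsRelProj 𝒮E pE chartE) (hPF : RelProj.IsRelProj 𝒮F pF chartF)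
    (hE' : PE ⟶ P) (hhE : RelProj.IsRelProjMap πE hπE hirrE chart chartE hE')
    (hF' : PF ⟶ P) (hhF : RelProj.IsRelProjMap πF hπF hirrF chart chartF hF') :
    IsClosedImmersion (coprod.desc hE' hF') := by
  haveI : E.IsQuasicoherent := hE
  haveI : F.IsQuasicoherent := hF
  haveI : (E ⊞ F).IsQuasicoherent := CohOpenH8.isQuasicoherent_biprod E F
  haveI := Groth.Agent.ProjSum.isClosedImmersion_hE' E (E ⊞ F) 𝒮E 𝒮 jE hjE j πE hπE biprod.fst
    biprod.inl biprod.inl_fst hjπE hirrE p pE chart chartE hP hPE hE' hhE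
  haveI := Groth.Agent.ProjSum.isClosedImmersion_hE' F (E ⊞ F) 𝒮F 𝒮 jF hjF j πF hπF biprod.snd
    biprod.inr biprod.inr_snd hjπF hirrF p pF chart chartF hP hPF hF' hhF
  apply Groth.Agent.CoprodImm.isClosedImmersion_coprodDesc
  intro z' z'' heq
  obtain ⟨U, hU, hwU, -⟩ := Opens.isBasis_iff_nbhd.mp Y.isBasis_affineOpens
    (Opens.mem_top (p.base (hE'.base z')))
  have hz : hE'.base z' ∈ p ⁻¹ᵁ U := hwU
  have hz2 : hF'.base z'' ∈ p ⁻¹ᵁ U := heq ▸ hz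
  have hzz : ∀ (x y : P) (h : x = y) (hx : x ∈ p ⁻¹ᵁ U) (hy : y ∈ p ⁻¹ᵁ U),
      Groth.Agent.RelProjTN.zpt p chart U hU x hx = Groth.Agent.RelProjTN.zpt p chart U hU y hy := by
    intro x y h hx hy; subst h; rfl
  have h𝔭 := hzz _ _ heq hz hz2
  apply (Groth.Agent.RelProjTN.zpt p chart U hU (hE'.base z') hz).not_irrelevant_le
  show ((𝒮.deg U hU)₊).toIdeal ≤ _
  refine le_trans (Groth.Agent.SymGr.irrelevant_le_span (E ⊞ F) 𝒮 j hj U hU) ?_
  rw [Ideal.span_le]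
  rintro _ ⟨w, rfl⟩
  have htot := Groth.Agent.SymSum.total E F U w
  rw [← htot, map_add]
  refine add_mem ?_ ?_
  · have h1 := Groth.Agent.ProjSum.mem_of_hE' F (E ⊞ F) 𝒮F 𝒮 jF j πF hπF biprod.snd hjπF hirrF p pF
      chart chartF hP hPF hF' hhF z'' U hU hz2
      ((biprod.inl : E ⟶ E ⊞ F).app U ((biprod.fst : E ⊞ F ⟶ E).app U w))
      (Groth.Agent.SymSum.snd_inl E F U _)
    rw [← h𝔭] at h1
    exact h1
  · exact Groth.Agent.ProjSum.mem_of_hE' E (E ⊞ F) 𝒮E 𝒮 jE j πE hπE biprod.fst hjπE hirrE p pE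
      chart chartE hP hPE hE' hhE z' U hU hz
      ((biprod.inr : F ⟶ E ⊞ F).app U ((biprod.snd : E ⊞ F ⟶ F).app U w))
      (Groth.Agent.SymSum.fst_inr E F U _)

end Groth.Agent.S5734
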