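import Groth.Statements.S5744
import Mathlib
import Groth.Agent.Lib.CechShQC_helper9

set_option autoImplicit false
universe u
open Coherent

namespace Groth.Agent.S5744

open AlgebraicGeometry CategoryTheory in
/-- For the Čech complex of sheaves indexed by all ordered tuples with products as terms; over a finite
index type these terms are finite direct sums. Let X be a separated scheme, (U_i)_{i ∈ ι} a finite
family of affine opens covering X, and F a quasi-coherent O_X-module. Then for every p the degree-p
term of the Čech complex of sheaves 𝔠(𝒰, F), the product over ordered (p+1)-tuples of the direct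
images (j_{i_0…i_p})_*(F|_{U_{i_0…i_p}}), is a quasi-coherent O_X-module. -/
theorem result {X : Scheme.{u}} [X.IsSeparated] {ι : Type u}
    [Finite ι] (𝒰 : ι → X.Opens) (h𝒰 : ∀ i, IsAffineOpen (𝒰 i)) (hcov : ⨆ i, 𝒰 i = ⊤)
    (F : X.Modules) [Coh.IsQCoh F] (p : ℕ) :
    Coh.IsQCoh (((CechOX.cechSh 𝒰).obj F).X p) := by
  have hd : ∀ V W : X.Opens, IsAffineOpen V → IsAffineOpen W → IsAffineOpen (V ⊓ W) :=
    fun V W hV hW => hV.inf hW
  haveI : F.IsQuasicoherent := ‹Coh.IsQCoh F›
  have key : ∀ i : Fin (p + 1) → ι,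
      ((CechOX.pushRestr (Limits.piObj (𝒰 ∘ i))).obj F).IsQuasicoherent := fun i =>
    AcycEmb.isQuasicoherent_NN hd F (CechShQC.isAffineOpen_pi _ (fun k => h𝒰 (i k)))
  exact CechShQC.isQuasicoherent_pi
    (fun i : Fin (p + 1) → ι => (CechOX.pushRestr (Limits.piObj (𝒰 ∘ i))).obj F) key

end Groth.Agent.S5744
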