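import Groth.Statements.S5752
import Groth.Agent.Lib.DepthZero_helper9
import Mathlib.RingTheory.Regular.RegularSequence

set_option autoImplicit false
universe u
open EGA41

namespace Groth.Agent.S5752

/-- Let A be a Noetherian local ring with maximal ideal m and M a finitely generated A-module. Then M
has depth 0 if and only if m is an associated prime of M, i.e. if and only if M contains a copy of
the residue field. (For M = 0 the depth is ⊤ and there are no associated primes.) -/
theorem result (A : Type u) [CommRing A] [IsLocalRing A]
    [IsNoetherianRing A] (M : Type u) [AddCommGroup M] [Module A M] [Module.Finite A M] :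
    LocCoh.depth A M = 0 ↔ IsLocalRing.maximalIdeal A ∈ associatedPrimes A M := by
  rw [← Groth.Agent.Lib.DepthZero_helper9.forall_not_isSMulRegular_iff_mem_associatedPrimes A M]
  unfold LocCoh.depth LocCoh.idealDepth
  constructor
  · intro h x hx hreg
    by_cases htop : IsLocalRing.maximalIdeal A • (⊤ : Submodule A M) = ⊤
    · rw [if_pos htop] at h
      exact ENat.top_ne_zero h
    · rw [if_neg htop] at h
      have h1 : ((([x] : List A).length : ℕ) : ℕ∞) ≤ 0 := by
        rw [← h]
        refine le_iSup₂_of_le [x] ⟨?_, ?_⟩ le_rfl
        · exact (RingTheory.Sequence.isWeaklyRegular_singleton_iff M x).mpr hreg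
        · intro r hr
          rw [List.mem_singleton] at hr
          rw [hr]; exact hx
      simp at h1
  · intro h
    have hM : Nontrivial M := by
      by_contra hnt
      rw [not_nontrivial_iff_subsingleton] at hnt
      exact h 0 (Ideal.zero_mem _) (fun a b _ => Subsingleton.elim a b)
    have htop : ¬ IsLocalRing.maximalIdeal A • (⊤ : Submodule A M) = ⊤ := by
      intro htop
      have hbot : (⊤ : Submodule A M) = ⊥ := by
        refine Submodule.eq_bot_of_le_smul_of_le_jacobson_bot (IsLocalRing.maximalIdeal A) ⊤
          Module.Finite.fg_top (le_of_eq htop.symm) ?_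
        rw [IsLocalRing.jacobson_eq_maximalIdeal _ bot_ne_top]
      exact top_ne_bot hbot
    rw [if_neg htop]
    apply le_antisymm
    · refine iSup₂_le ?_
      rintro rs ⟨hreg, hmem⟩
      cases rs with
      | nil => simp
      | cons r rs =>
        exfalso
        exact h r (hmem r (List.mem_cons_self)) ((RingTheory.Sequence.isWeaklyRegular_cons_iff M r rs).mp hreg).1
    · exact zero_le

end Groth.Agent.S5752
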