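import Groth.Statements.S5753
import Groth.Agent.Lib.DepthZero_helper9

set_option autoImplicit false
universe u
open EGA41

namespace Groth.Agent.S5753

/-- Let A be a Noetherian local ring with maximal ideal m and residue field k, and N a finitely
generated A-module. Then no element of m is N-regular (multiplication by it injective) if and only
if Hom_A(k, N) is nonzero. Applied to N = M/(x_1 M + ... + x_n M) for an M-regular sequence (x_i) in
m, this says that the sequence cannot be extended by an element of m if and only if Hom_A(k, M/(x_1
M + ... + x_n M)) ≠ 0. (The published statement allows an arbitrary module; for the direct sum N of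
the quotients of a two-dimensional regular local ring by all its height-one primes no element of m
is N-regular while Hom_A(k, N) = 0, and the published proof uses finiteness of the set of associated
primes, so N is taken finitely generated here.) -/
theorem result (A : Type u) [CommRing A]
    [IsLocalRing A] [IsNoetherianRing A] (N : Type u) [AddCommGroup N] [Module A N] [Module.Finite A N] :
    (∀ x ∈ IsLocalRing.maximalIdeal A, ¬ IsSMulRegular N x) ↔
      Nontrivial (IsLocalRing.ResidueField A →ₗ[A] N) := by
  constructor
  · intro h
    have hass := (Groth.Agent.Lib.DepthZero_helper9.forall_not_isSMulRegular_iff_mem_associatedPrimes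
      A N).mp h
    obtain ⟨_, f, hf⟩ := (isAssociatedPrime_iff_exists_injective_linearMap _ N).mp hass
    let f' : IsLocalRing.ResidueField A →ₗ[A] N := f
    refine ⟨⟨f', 0, ?_⟩⟩
    intro h0
    have h1 : f' 1 = 0 := by rw [h0]; rfl
    have h2 : (1 : A ⧸ IsLocalRing.maximalIdeal A) = 0 := hf (h1.trans (map_zero f).symm)
    exact (one_ne_zero (α := IsLocalRing.ResidueField A)) h2
  · intro hnt x hx hreg
    obtain ⟨g, hg⟩ := exists_ne (0 : IsLocalRing.ResidueField A →ₗ[A] N)
    have hn : g 1 ≠ 0 := by
      intro h0
      apply hg
      ext c
      obtain ⟨a, rfl⟩ := IsLocalRing.residue_surjective c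
      have : IsLocalRing.residue A a = a • (1 : IsLocalRing.ResidueField A) := by
        rw [Algebra.smul_def, mul_one]
        rfl
      rw [this, map_smul, h0, smul_zero]
      rfl
    have hx1 : x • g 1 = 0 := by
      rw [← map_smul]
      have : x • (1 : IsLocalRing.ResidueField A) = 0 := by
        rw [Algebra.smul_def, mul_one]
        exact (IsLocalRing.residue_eq_zero_iff x).mpr hx
      rw [this, map_zero]
    exact hn (hreg (by change x • g 1 = x • 0; rw [hx1, smul_zero]))

end Groth.Agent.S5753
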