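import Groth.Statements.S5754
import Mathlib.RingTheory.Ideal.AssociatedPrime.Localization
import Mathlib.RingTheory.Support
import Mathlib.Algebra.Module.Torsion.Basic
import Mathlib.RingTheory.Ideal.Colon

set_option autoImplicit false
universe u
open EGA41
open Pointwise

namespace Groth.Agent.S5754

/-- Let A be a Noetherian ring, M a finitely generated A-module and t an element of A which is
M-regular. For every associated prime p of M, every prime ideal minimal among those containing p +
tA is an associated prime of M/tM. -/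
theorem result (A : Type u) [CommRing A]
    [IsNoetherianRing A] (M : Type u) [AddCommGroup M] [Module A M] [Module.Finite A M] (t : A)
    (ht : IsSMulRegular M t) (p : Ideal A) (hp : p ∈ associatedPrimes A M) (q : Ideal A)
    (hq : q ∈ (p ⊔ Ideal.span {t}).minimalPrimes) : q ∈ associatedPrimes A (QuotSMulTop t M) := by
  classical
  haveI : IsNoetherian A M := isNoetherian_of_isNoetherianRing_of_finite A M
  obtain ⟨hpprime, x, hx⟩ := (isAssociatedPrime_iff (I := p) (M := M)).mp hp
  -- the submodule killed by p
  let N : Submodule A M := Submodule.torsionBySet A M (p : Set A)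
  have hxN : x ∈ N := by
    rw [Submodule.mem_torsionBySet_iff]
    rintro ⟨r, hr⟩
    have : r ∈ Submodule.colon (⊥ : Submodule A M) {x} := hx ▸ hr
    rw [Submodule.mem_colon_singleton] at this
    simpa using this
  have hN : ∀ n ∈ N, ∀ r ∈ p, r • n = 0 := fun n hn r hr =>
    (Submodule.mem_torsionBySet_iff _ _).mp hn ⟨r, hr⟩
  have hannN : Module.annihilator A N = p := by
    apply le_antisymm
    · intro r hr
      have h1 : r • (⟨x, hxN⟩ : N) = 0 := Module.mem_annihilator.mp hr _
      have h2 : r • x = 0 := by simpa using congrArg Subtype.val h1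
      rw [hx, Submodule.mem_colon_singleton]
      simpa using h2
    · intro r hr
      rw [Module.mem_annihilator]
      rintro ⟨n, hn⟩
      exact Subtype.ext (hN n hn r hr)
  have hdiv : ∀ m : M, t • m ∈ N → m ∈ N := by
    intro m hm
    rw [Submodule.mem_torsionBySet_iff]
    rintro ⟨r, hr⟩
    apply ht
    show t • (r • m) = t • 0
    rw [smul_zero, smul_comm]
    exact hN _ hm r hr
  have hle : (t • (⊤ : Submodule A N)) ≤ (t • (⊤ : Submodule A M)).comap N.subtype := by
    intro n hn
    obtain ⟨y, -, rfl⟩ := (Submodule.mem_smul_pointwise_iff_exists _ _ _).mp hn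
    show ((t • y : N) : M) ∈ (t • (⊤ : Submodule A M))
    rw [Submodule.coe_smul]
    exact Submodule.smul_mem_pointwise_smul _ _ _ Submodule.mem_top
  let f : QuotSMulTop t N →ₗ[A] QuotSMulTop t M := Submodule.mapQ _ _ N.subtype hle
  have hf : Function.Injective f := by
    rw [injective_iff_map_eq_zero]
    intro y hy
    induction y using Submodule.Quotient.induction_on with
    | H n =>
      have h1 : (Submodule.Quotient.mk (n : M) : QuotSMulTop t M) = 0 := hy
      rw [Submodule.Quotient.mk_eq_zero] at h1
      obtain ⟨m, -, hm⟩ := (Submodule.mem_smul_pointwise_iff_exists _ _ _).mp h1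
      have hmN : m ∈ N := hdiv m (hm ▸ n.2)
      rw [Submodule.Quotient.mk_eq_zero]
      have : n = t • (⟨m, hmN⟩ : N) := Subtype.ext hm.symm
      rw [this]
      exact Submodule.smul_mem_pointwise_smul _ _ _ Submodule.mem_top
  have hsupp : Module.support A (QuotSMulTop t N) =
      PrimeSpectrum.zeroLocus (p : Set A) ∩ PrimeSpectrum.zeroLocus {t} := by
    rw [Module.support_quotSMulTop, Module.support_eq_zeroLocus, hannN]
  have hsupp' : ∀ q' : PrimeSpectrum A, Module.annihilator A (QuotSMulTop t N) ≤ q'.asIdeal ↔
      (p ≤ q'.asIdeal ∧ t ∈ q'.asIdeal) := by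
    intro q'
    have h1 : q' ∈ Module.support A (QuotSMulTop t N) ↔
        Module.annihilator A (QuotSMulTop t N) ≤ q'.asIdeal := by
      rw [Module.support_eq_zeroLocus, PrimeSpectrum.mem_zeroLocus]; rfl
    rw [← h1, hsupp, Set.mem_inter_iff, PrimeSpectrum.mem_zeroLocus, PrimeSpectrum.mem_zeroLocus,
      Set.singleton_subset_iff]
    rfl
  have hqprime : q.IsPrime := hq.1.1
  have hmin : q ∈ (Module.annihilator A (QuotSMulTop t N)).minimalPrimes := by
    refine ⟨⟨hqprime, ?_⟩, ?_⟩
    · refine ((hsupp' ⟨q, hqprime⟩).mpr ⟨le_sup_left.trans hq.1.2, ?_⟩)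
      exact hq.1.2 (Ideal.mem_sup_right (Ideal.mem_span_singleton_self t))
    · rintro q' ⟨hq'prime, hq'le⟩ hq'q
      obtain ⟨h1, h2⟩ := (hsupp' ⟨q', hq'prime⟩).mp hq'le
      refine hq.2 ⟨hq'prime, sup_le h1 ?_⟩ hq'q
      rw [Ideal.span_le, Set.singleton_subset_iff]; exact h2
  exact associatedPrimes.subset_of_injective hf
    (Module.associatedPrimes.minimalPrimes_annihilator_subset_associatedPrimes A (QuotSMulTop t N) hmin)

end Groth.Agent.S5754
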