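import Groth.Statements.S5755
import Groth.Agent.S5752

set_option autoImplicit false
universe u
open EGA41

namespace Groth.Agent.S5755

/-- A reduced Noetherian local ring A has depth 0 if and only if A is a field. -/
theorem result (A : Type u) [CommRing A] [IsLocalRing A]
    [IsNoetherianRing A] [IsReduced A] : LocCoh.depth A A = 0 ↔ IsField A := by
  rw [Groth.Agent.S5752.result A A, IsLocalRing.isField_iff_maximalIdeal_eq]
  constructor
  · intro h
    obtain ⟨_, c, hc⟩ := isAssociatedPrime_iff.mp h
    have hc0 : c ≠ 0 := by
      rintro rfl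
      have : (1 : A) ∈ IsLocalRing.maximalIdeal A := by
        rw [hc, Submodule.mem_colon_singleton]
        simp
      exact (Ideal.ne_top_iff_one _).mp (IsLocalRing.maximalIdeal.isMaximal A).ne_top this
    have hkill : ∀ x ∈ IsLocalRing.maximalIdeal A, x * c = 0 := by
      intro x hx
      have : x ∈ (⊥ : Submodule A A).colon {c} := hc ▸ hx
      rw [Submodule.mem_colon_singleton] at this
      exact this
    by_cases hcm : c ∈ IsLocalRing.maximalIdeal A
    · exfalso
      have hsq : c ^ 2 = 0 := by rw [pow_two]; exact hkill c hcm
      exact hc0 (pow_eq_zero_iff (two_ne_zero) |>.mp hsq)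
    · have hunit : IsUnit c := by
        by_contra hnu
        exact hcm ((IsLocalRing.mem_maximalIdeal c).mpr hnu)
      rw [eq_bot_iff]
      intro x hx
      have := hkill x hx
      exact (Submodule.mem_bot A).mpr (hunit.mul_left_eq_zero.mp this)
  · intro hbot
    rw [hbot, AssociatedPrimes.mem_iff, isAssociatedPrime_iff]
    refine ⟨hbot ▸ (IsLocalRing.maximalIdeal.isMaximal A).isPrime, 1, ?_⟩
    ext r
    rw [Submodule.mem_colon_singleton]
    simp

end Groth.Agent.S5755
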