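import Groth.Statements.S5757
import Mathlib
import Groth.Agent.Lib.DepthAss_helper5

set_option autoImplicit false
universe u
open EGA41

namespace Groth.Agent.S5757

/-- Let A be a Noetherian local ring and M a nonzero finitely generated Cohen-Macaulay A-module. Then
dim(A/p) = dim(M) for every associated prime p of M (so M has no embedded associated primes). -/
theorem result (A : Type u) [CommRing A]
    [IsLocalRing A] [IsNoetherianRing A] (M : Type u) [AddCommGroup M] [Module A M] [Module.Finite A M]
    (hM : LocCoh.IsCohenMacaulayModule A M) (p : Ideal A) (hp : p ∈ associatedPrimes A M) :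
    ringKrullDim (A ⧸ p) = Module.supportDim A M := by
  have h1 := Groth.Agent.DepthLib.depth_le_ringKrullDim_quotient A M p hp
  unfold LocCoh.IsCohenMacaulayModule at hM
  rw [← hM] at h1
  apply le_antisymm _ h1
  rw [Module.supportDim_eq_ringKrullDim_quotient_annihilator]
  have hle : Module.annihilator A M ≤ p := by
    obtain ⟨_, m₀, hm₀⟩ := isAssociatedPrime_iff.1 hp
    intro a ha
    rw [hm₀, Submodule.mem_colon_singleton, Submodule.mem_bot]
    exact Module.mem_annihilator.1 ha m₀
  exact ringKrullDim_le_of_surjective (Ideal.Quotient.factor hle)
    (Ideal.Quotient.factor_surjective hle)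

end Groth.Agent.S5757
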