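import Groth.Statements.S5759
import Mathlib
import Groth.Agent.Lib.CM_helper5

set_option autoImplicit false
universe u
open EGA41

namespace Groth.Agent.S5759

open RingTheory.Sequence in
theorem aux (A : Type u) [CommRing A] [IsLocalRing A] [IsNoetherianRing A] (d : ℕ) :
    ∀ (M : Type u) [AddCommGroup M] [Module A M] [Module.Finite A M] [Nontrivial M],
    Module.supportDim A M = (d : WithBot ℕ∞) →
    (∀ xs : List A, (∀ x ∈ xs, x ∈ IsLocalRing.maximalIdeal A) →
      Module.supportDim A (M ⧸ (Ideal.ofList xs • (⊤ : Submodule A M))) + xs.length =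
        Module.supportDim A M →
        ∀ p ∈ associatedPrimes A (M ⧸ (Ideal.ofList xs • (⊤ : Submodule A M))),
          ringKrullDim (A ⧸ p) = Module.supportDim A (M ⧸ (Ideal.ofList xs • (⊤ : Submodule A M)))) →
    LocCoh.IsCohenMacaulayModule A M := by
  induction d with
  | zero =>
    intro M _ _ _ _ hd _
    unfold LocCoh.IsCohenMacaulayModule
    have h1 := Groth.Agent.DepthLib.depth_le_supportDim A M
    rw [hd] at h1 ⊢
    have h2 : LocCoh.depth A M ≤ 0 := by exact_mod_cast h1
    have h3 : LocCoh.depth A M = 0 := le_antisymm h2 zero_le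
    rw [h3]
    rfl
  | succ d ih =>
    intro M _ _ _ _ hd h
    -- associated primes of M have dimension d + 1
    have e0 : M ≃ₗ[A] (M ⧸ (Ideal.ofList ([] : List A) • (⊤ : Submodule A M))) :=
      (Submodule.quotEquivOfEqBot _ (by rw [Ideal.ofList_nil, Submodule.bot_smul])).symm
    have h0 := h [] (by simp) (by
      rw [List.length_nil, Nat.cast_zero, add_zero]
      exact (Module.supportDim_eq_of_equiv e0).symm)
    rw [← LinearEquiv.AssociatedPrimes.eq e0, ← Module.supportDim_eq_of_equiv e0] at h0
    have h1 : 1 ≤ LocCoh.depth A M := by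
      by_contra hnot
      unfold LocCoh.depth at hnot
      obtain ⟨q, hq, hmq⟩ := Groth.Agent.DepthLib.exists_associatedPrime_of_not_one_le _ _ hnot
      haveI := hq.isPrime
      have hqm : q = IsLocalRing.maximalIdeal A :=
        ((IsLocalRing.maximalIdeal.isMaximal A).eq_of_le hq.isPrime.ne_top hmq).symm
      have h2 := h0 q hq
      rw [hd, hqm] at h2
      have h3 : ringKrullDim (A ⧸ IsLocalRing.maximalIdeal A) ≤ 0 :=
        le_of_eq (ringKrullDim_eq_zero_of_isField
          ((Ideal.Quotient.maximal_ideal_iff_isField_quotient _).1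
            (IsLocalRing.maximalIdeal.isMaximal A)))
      rw [h2] at h3
      have h4 : ((d + 1 : ℕ) : ℕ∞) ≤ 0 := by exact_mod_cast h3
      have h5 := Nat.cast_le.1 (le_trans h4 (by simp : (0 : ℕ∞) ≤ ((0 : ℕ) : ℕ∞)))
      omega
    unfold LocCoh.depth at h1
    rcases (Groth.Agent.DepthLib.one_le_idealDepth_iff _ _).1 h1 with htop | ⟨x, hx, hreg⟩
    · exfalso
      have hbot : (⊤ : Submodule A M) = ⊥ :=
        Submodule.eq_bot_of_le_smul_of_le_jacobson_bot _ ⊤ Module.Finite.fg_top (by rw [htop])
          (IsLocalRing.maximalIdeal_le_jacobson _)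
      exact top_ne_bot hbot
    · have hdim := Module.supportDim_quotSMulTop_succ_eq_supportDim hreg hx
      have hdep := Groth.Agent.DepthLib.idealDepth_quotSMulTop_add_one
        (IsLocalRing.maximalIdeal A) M hx hreg
      have hd' : Module.supportDim A (QuotSMulTop x M) = (d : WithBot ℕ∞) := by
        rw [hd] at hdim
        apply Groth.Agent.DepthLib.add_one_cancel
        rw [hdim]
        push_cast
        rfl
      haveI : Nontrivial (QuotSMulTop x M) := by
        rw [← Module.supportDim_ne_bot_iff_nontrivial A, hd']
        exact WithBot.coe_ne_bot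
      have hM' := ih (QuotSMulTop x M) hd' (by
        intro xs hxs hxsdim p hp
        have e := Submodule.quotOfListConsSMulTopEquivQuotSMulTopInner M x xs
        have h6 := h (x :: xs) (by
          intro y hy
          rcases List.mem_cons.1 hy with rfl | hy
          · exact hx
          · exact hxs y hy) (by
          rw [Module.supportDim_eq_of_equiv e, List.length_cons]
          push_cast
          rw [← add_assoc, hxsdim, hdim]) p (by
          rw [LinearEquiv.AssociatedPrimes.eq e]
          exact hp)
        rw [Module.supportDim_eq_of_equiv e] at h6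
        exact h6)
      unfold LocCoh.IsCohenMacaulayModule LocCoh.depth at hM' ⊢
      rw [← hdim, ← hdep, hM']
      push_cast
      rfl

/-- Let A be a Noetherian local ring and M a nonzero finitely generated A-module. Suppose that for every
sequence x_1, ..., x_r of elements of the maximal ideal which is part of a system of parameters for
M (i.e. dim(M/(x_1 M + ... + x_r M)) = dim(M) - r), every associated prime p of N = M/(x_1 M + ... +
x_r M) satisfies dim(A/p) = dim(N). Then M is a Cohen-Macaulay module. (The published convention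
also counts the zero module as Cohen-Macaulay; this row assumes M nonzero.) -/
theorem result (A : Type u) [CommRing A]
    [IsLocalRing A] [IsNoetherianRing A] (M : Type u) [AddCommGroup M] [Module A M] [Module.Finite A M]
    [Nontrivial M]
    (h : ∀ xs : List A, (∀ x ∈ xs, x ∈ IsLocalRing.maximalIdeal A) →
      Module.supportDim A (M ⧸ (Ideal.ofList xs • (⊤ : Submodule A M))) + xs.length = Module.supportDim A M →
        ∀ p ∈ associatedPrimes A (M ⧸ (Ideal.ofList xs • (⊤ : Submodule A M))),
          ringKrullDim (A ⧸ p) = Module.supportDim A (M ⧸ (Ideal.ofList xs • (⊤ : Submodule A M)))) :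
    LocCoh.IsCohenMacaulayModule A M := by
  haveI hfin := Groth.Agent.DepthLib.supportDim_lt_top (R := A) M
  have hne : Module.supportDim A M ≠ ⊥ := Module.supportDim_ne_bot_of_nontrivial A M
  obtain ⟨t, ht⟩ := WithBot.ne_bot_iff_exists.1 hne
  have htne : t ≠ ⊤ := by
    rintro rfl
    rw [← ht] at hfin
    exact absurd hfin (by simp)
  obtain ⟨d, rfl⟩ := ENat.ne_top_iff_exists.1 htne
  exact aux A d M ht.symm h

end Groth.Agent.S5759
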