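import Groth.Statements.S5760
import Mathlib
import Groth.Agent.Lib.CM_helper5

set_option autoImplicit false
universe u
open EGA41

namespace Groth.Agent.S5760

/-- Let A be a Noetherian local ring, M a nonzero finitely generated Cohen-Macaulay A-module, p a prime
ideal in the support of M and r the integer dim(M) - dim(M/pM). Then there exists an M-regular
sequence x_1, ..., x_r of elements of p; for every such sequence, dim(M/(x_1 M + ... + x_r M)) =
dim(M/pM) = dim(A/p), and p is a minimal element of the set of associated primes of M/(x_1 M + ... +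
x_r M). -/
theorem result (A : Type u) [CommRing A]
    [IsLocalRing A] [IsNoetherianRing A] (M : Type u) [AddCommGroup M] [Module A M] [Module.Finite A M]
    (hM : LocCoh.IsCohenMacaulayModule A M) (p : PrimeSpectrum A) (hp : p ∈ Module.support A M) (r : ℕ)
    (hr : Module.supportDim A (M ⧸ (p.asIdeal • (⊤ : Submodule A M))) + r = Module.supportDim A M) :
    (∃ xs : List A, xs.length = r ∧ (∀ x ∈ xs, x ∈ p.asIdeal) ∧ RingTheory.Sequence.IsWeaklyRegular M xs) ∧
      ∀ xs : List A, xs.length = r → (∀ x ∈ xs, x ∈ p.asIdeal) → RingTheory.Sequence.IsWeaklyRegular M xs →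
        Module.supportDim A (M ⧸ (Ideal.ofList xs • (⊤ : Submodule A M))) =
            Module.supportDim A (M ⧸ (p.asIdeal • (⊤ : Submodule A M))) ∧
          Module.supportDim A (M ⧸ (p.asIdeal • (⊤ : Submodule A M))) = ringKrullDim (A ⧸ p.asIdeal) ∧
          p.asIdeal ∈ associatedPrimes A (M ⧸ (Ideal.ofList xs • (⊤ : Submodule A M))) ∧
          ∀ q ∈ associatedPrimes A (M ⧸ (Ideal.ofList xs • (⊤ : Submodule A M))), q ≤ p.asIdeal → q = p.asIdeal := by
  classical
  haveI hpprime := p.isPrime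
  haveI := Groth.Agent.DepthLib.nontrivial_of_isCM M hM
  have hpne : p.asIdeal ≠ ⊤ := hpprime.ne_top
  have hple : p.asIdeal ≤ IsLocalRing.maximalIdeal A := IsLocalRing.le_maximalIdeal hpne
  have hIM : p.asIdeal • (⊤ : Submodule A M) ≠ ⊤ := by
    intro htop
    have hbot : (⊤ : Submodule A M) = ⊥ :=
      Submodule.eq_bot_of_le_smul_of_le_jacobson_bot p.asIdeal ⊤ Module.Finite.fg_top (by rw [htop])
        (le_trans hple (IsLocalRing.maximalIdeal_le_jacobson _))
    exact top_ne_bot hbot
  obtain ⟨n, hn⟩ := ENat.ne_top_iff_exists.1 (Groth.Agent.DepthLib.idealDepth_ne_top p.asIdeal M hIM)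
  have hdimM := Groth.Agent.DepthLib.supportDim_eq_add_idealDepth_of_isCM p.asIdeal hpne n M hM hn.symm
  have hc := Groth.Agent.DepthLib.supportDim_quotient_smul_top_eq M p.asIdeal hp
  have hc1 : Module.supportDim A (M ⧸ (p.asIdeal • (⊤ : Submodule A M))) ≠ ⊥ := by
    rw [hc]
    intro h
    have := ringKrullDim_nonneg_of_nontrivial (R := A ⧸ p.asIdeal)
    rw [h] at this
    exact absurd this (by simp)
  have hc2 := Groth.Agent.DepthLib.supportDim_lt_top (R := A) (M ⧸ (p.asIdeal • (⊤ : Submodule A M)))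
  -- r = n
  have hrn : r = n := by
    rw [hdimM] at hr
    have h1 : ((r : ℕ∞) : WithBot ℕ∞) ≤ ((n : ℕ∞) : WithBot ℕ∞) := by
      apply Groth.Agent.DepthLib.le_of_add_le_add_left' hc1 hc2
      rw [add_comm]
      exact le_of_eq hr
    have h2 : ((n : ℕ∞) : WithBot ℕ∞) ≤ ((r : ℕ∞) : WithBot ℕ∞) := by
      apply Groth.Agent.DepthLib.le_of_add_le_add_left' hc1 hc2
      rw [add_comm]
      exact le_of_eq hr.symm
    have h3 := Nat.cast_le.1 (WithBot.coe_le_coe.1 h1)
    have h4 := Nat.cast_le.1 (WithBot.coe_le_coe.1 h2)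
    omega
  subst hrn
  refine ⟨?_, ?_⟩
  · have h1 : ((r : ℕ) : ℕ∞) ≤ LocCoh.idealDepth p.asIdeal M := le_of_eq hn
    rw [Groth.Agent.DepthLib.le_idealDepth_iff] at h1
    rcases h1 with htop | ⟨rs, h1, h2, h3⟩
    · exact absurd htop hIM
    · exact ⟨rs, h3, h2, h1⟩
  · intro xs hlen hmem hreg
    have hmem' : ∀ x ∈ xs, x ∈ IsLocalRing.maximalIdeal A := fun x hx => hple (hmem x hx)
    obtain ⟨hl1, hl2⟩ := Groth.Agent.DepthLib.isCM_list xs M hM hmem'
    have hN := hl2 hreg
    have hdimN := hl1.1 hreg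
    rw [hlen, ← hr] at hdimN
    have ha := Groth.Agent.DepthLib.add_nat_cancel r hdimN
    have hfin : ringKrullDim (A ⧸ p.asIdeal) < ⊤ := by rw [← hc]; exact hc2
    refine ⟨ha, hc, ?_, ?_⟩
    · have hdep := Groth.Agent.DepthLib.idealDepth_quot_ofList_add_length p.asIdeal xs M hreg hmem
      rw [hlen, ← hn] at hdep
      have h0 : ¬ 1 ≤ LocCoh.idealDepth p.asIdeal (M ⧸ (Ideal.ofList xs • ⊤ : Submodule A M)) := by
        intro h1
        have h5 : (1 : ℕ∞) + (r : ℕ∞) ≤ (r : ℕ∞) := by
          calc (1 : ℕ∞) + (r : ℕ∞)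
              ≤ LocCoh.idealDepth p.asIdeal (M ⧸ (Ideal.ofList xs • ⊤ : Submodule A M)) + r :=
                add_le_add_left h1 _
            _ = (r : ℕ∞) := hdep
        have h6 : ((1 + r : ℕ) : ℕ∞) ≤ ((r : ℕ) : ℕ∞) := by
          push_cast
          exact h5
        have := Nat.cast_le.1 h6
        omega
      obtain ⟨q, hq, hpq⟩ := Groth.Agent.DepthLib.exists_associatedPrime_of_not_one_le _ _ h0
      haveI := hq.isPrime
      have hqdim := Groth.Agent.DepthLib.ringKrullDim_quotient_eq_of_isCM _ hN q hq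
      rw [ha, hc] at hqdim
      have hfinq : ringKrullDim (A ⧸ q) < ⊤ := by rw [hqdim]; exact hfin
      have := Groth.Agent.DepthLib.eq_of_le_of_ringKrullDim_quotient_eq p.asIdeal q hpq hqdim.symm hfinq
      rw [this]
      exact hq
    · intro q hq hqp
      haveI := hq.isPrime
      have hqdim := Groth.Agent.DepthLib.ringKrullDim_quotient_eq_of_isCM _ hN q hq
      rw [ha, hc] at hqdim
      exact Groth.Agent.DepthLib.eq_of_le_of_ringKrullDim_quotient_eq q p.asIdeal hqp hqdim hfin

end Groth.Agent.S5760
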