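import Groth.Statements.S5764
import Mathlib.RingTheory.IntegralClosure.GoingDown
import Mathlib.RingTheory.Ideal.Height
import Mathlib.RingTheory.Ideal.GoingUp

set_option autoImplicit false
universe u
open EGA41

namespace Groth.Agent.S5764

/-- Let B be an integral domain, A a local subring of B which is integrally closed (in its field of
fractions), and suppose B is integral over A. Then dim(B_n) = dim(A) for every maximal ideal n of B. -/
theorem result (A B : Type u) [CommRing A]
    [CommRing B] [IsDomain B] [Algebra A B] (hinj : Function.Injective (algebraMap A B)) [IsDomain A]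
    [IsLocalRing A] [IsIntegrallyClosed A] [Algebra.IsIntegral A B] (n : Ideal B) [n.IsMaximal] :
    ringKrullDim (Localization.AtPrime n) = ringKrullDim A := by
  haveI : FaithfulSMul A B := (faithfulSMul_iff_algebraMap_injective A B).mpr hinj
  have hmax : (n.comap (algebraMap A B)).IsMaximal :=
    Ideal.isMaximal_comap_of_isIntegral_of_isMaximal (R := A) n
  have hcomap : n.comap (algebraMap A B) = IsLocalRing.maximalIdeal A :=
    IsLocalRing.eq_maximalIdeal hmax
  rw [IsLocalization.AtPrime.ringKrullDim_eq_height n (Localization.AtPrime n)]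
  have hn : n.height = Order.height (⟨n, inferInstance⟩ : PrimeSpectrum B) :=
    PrimeSpectrum.height_eq_orderHeight ⟨n, inferInstance⟩
  have hmono : StrictMono (PrimeSpectrum.comap (algebraMap A B)) := by
    intro p q hpq
    have h1 : p.asIdeal < q.asIdeal := hpq
    exact Ideal.IsIntegral.comap_lt_comap (R := A) h1
  apply le_antisymm
  · rw [hn]
    exact le_trans (Order.height_le_krullDim _) (Order.krullDim_le_of_strictMono _ hmono)
  · unfold ringKrullDim Order.krullDim
    refine iSup_le fun l => ?_
    have hle : l.last.asIdeal ≤ IsLocalRing.maximalIdeal A :=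
      IsLocalRing.le_maximalIdeal l.last.2.ne_top
    haveI : n.LiesOver (IsLocalRing.maximalIdeal A) := ⟨hcomap.symm⟩
    obtain ⟨P, hPn, hP, hPl⟩ := Ideal.exists_ideal_le_liesOver_of_le (p := l.last.asIdeal)
      (q := IsLocalRing.maximalIdeal A) n hle
    haveI := hP
    haveI := hPl
    obtain ⟨L, hL, hlast, -⟩ := Ideal.exists_ltSeries_of_hasGoingDown l P
    rw [← hL, hn]
    have h3 : L.last ≤ (⟨n, inferInstance⟩ : PrimeSpectrum B) := by rw [hlast]; exact hPn
    exact_mod_cast WithBot.coe_le_coe.mpr (Order.length_le_height h3)

end Groth.Agent.S5764
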