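import Groth.Statements.S5765
import Mathlib.RingTheory.KrullDimension.Module
import Mathlib.RingTheory.Support
import Mathlib.RingTheory.Spectrum.Prime.Topology
import Mathlib.RingTheory.Localization.AtPrime.Basic

set_option autoImplicit false
universe u
open EGA41

namespace Groth.Agent.S5765

/-- Let A be a ring, M a finitely generated A-module and p a prime ideal of A. Then dim_{A_p}(M_p) +
dim_A(M/pM) ≤ dim_A(M). -/
theorem result (A : Type u) [CommRing A] (M : Type u)
    [AddCommGroup M] [Module A M] [Module.Finite A M] (p : Ideal A) [p.IsPrime] :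
    Module.supportDim (Localization.AtPrime p) (LocalizedModule p.primeCompl M) +
        Module.supportDim A (M ⧸ (p • (⊤ : Submodule A M))) ≤ Module.supportDim A M := by
  classical
  by_cases hp : (⟨p, inferInstance⟩ : PrimeSpectrum A) ∈ Module.support A M
  swap
  · haveI : Subsingleton (LocalizedModule p.primeCompl M) := Module.notMem_support_iff.mp hp
    rw [Module.supportDim_eq_bot_of_subsingleton, WithBot.bot_add]
    exact bot_le
  let P : Module.support A M := ⟨⟨p, inferInstance⟩, hp⟩
  haveI : Nonempty (Module.support A M) := ⟨P⟩
  have hmem : ∀ q' : PrimeSpectrum (Localization.AtPrime p),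
      q' ∈ Module.support (Localization.AtPrime p) (LocalizedModule p.primeCompl M) →
      PrimeSpectrum.comap (algebraMap A (Localization.AtPrime p)) q' ∈ Module.support A M := by
    intro q' hq'
    rw [Module.mem_support_iff_exists_annihilator] at hq' ⊢
    obtain ⟨x, hx⟩ := hq'
    induction x using LocalizedModule.induction_on with
    | h m s =>
      refine ⟨m, fun r hr => ?_⟩
      rw [Submodule.mem_annihilator_span_singleton] at hr
      show algebraMap A (Localization.AtPrime p) r ∈ q'.asIdeal
      apply hx
      rw [Submodule.mem_annihilator_span_singleton, algebraMap_smul, LocalizedModule.smul'_mk, hr,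
        LocalizedModule.zero_mk]
  have hlep : ∀ q' : PrimeSpectrum (Localization.AtPrime p),
      (PrimeSpectrum.comap (algebraMap A (Localization.AtPrime p)) q').asIdeal ≤ p := by
    intro q'
    have h1 : q'.asIdeal ≤ IsLocalRing.maximalIdeal (Localization.AtPrime p) :=
      IsLocalRing.le_maximalIdeal q'.2.ne_top
    have h2 := Ideal.comap_mono (f := algebraMap A (Localization.AtPrime p)) h1
    have h3 : Ideal.comap (algebraMap A (Localization.AtPrime p))
        (IsLocalRing.maximalIdeal (Localization.AtPrime p)) = p :=
      Localization.AtPrime.under_maximalIdeal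
    rw [h3] at h2
    exact h2
  have hinj := PrimeSpectrum.localization_comap_injective (Localization.AtPrime p) p.primeCompl
  have h1 : Module.supportDim (Localization.AtPrime p) (LocalizedModule p.primeCompl M) ≤
      ((Order.height P : ℕ∞) : WithBot ℕ∞) := by
    rw [Order.height_eq_krullDim_Iic]
    unfold Module.supportDim
    let f : Module.support (Localization.AtPrime p) (LocalizedModule p.primeCompl M) → Set.Iic P :=
      fun q' => ⟨⟨PrimeSpectrum.comap (algebraMap A (Localization.AtPrime p)) q'.1, hmem q'.1 q'.2⟩,
        hlep q'.1⟩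
    refine Order.krullDim_le_of_strictMono f ?_
    intro a b hab
    have hab' : a.1 < b.1 := hab
    have hle : PrimeSpectrum.comap (algebraMap A (Localization.AtPrime p)) a.1 ≤
        PrimeSpectrum.comap (algebraMap A (Localization.AtPrime p)) b.1 :=
      Ideal.comap_mono (le_of_lt hab')
    have hne : PrimeSpectrum.comap (algebraMap A (Localization.AtPrime p)) a.1 ≠
        PrimeSpectrum.comap (algebraMap A (Localization.AtPrime p)) b.1 :=
      fun h => (ne_of_lt hab') (hinj h)
    show PrimeSpectrum.comap (algebraMap A (Localization.AtPrime p)) a.1 <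
      PrimeSpectrum.comap (algebraMap A (Localization.AtPrime p)) b.1
    exact lt_of_le_of_ne hle hne
  have hsupp := Module.support_quotient (M := M) p
  have h2 : Module.supportDim A (M ⧸ (p • (⊤ : Submodule A M))) ≤
      ((Order.coheight P : ℕ∞) : WithBot ℕ∞) := by
    rw [Order.coheight_eq_krullDim_Ici]
    unfold Module.supportDim
    have hq : ∀ q ∈ Module.support A (M ⧸ (p • (⊤ : Submodule A M))),
        q ∈ Module.support A M ∧ p ≤ q.asIdeal := by
      intro q hq
      rw [hsupp] at hq
      exact ⟨hq.1, fun a ha => (PrimeSpectrum.mem_zeroLocus _ _).mp hq.2 ha⟩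
    let g : Module.support A (M ⧸ (p • (⊤ : Submodule A M))) → Set.Ici P := fun q =>
      ⟨⟨q.1, (hq q.1 q.2).1⟩, (hq q.1 q.2).2⟩
    exact Order.krullDim_le_of_strictMono g (fun a b hab => hab)
  have h3 : ((Order.height P + Order.coheight P : ℕ∞) : WithBot ℕ∞) ≤ Module.supportDim A M := by
    unfold Module.supportDim
    rw [Order.krullDim_eq_iSup_height_add_coheight_of_nonempty]
    exact WithBot.coe_le_coe.mpr
      (le_iSup (fun a : Module.support A M => Order.height a + Order.coheight a) P)
  calc _ ≤ ((Order.height P : ℕ∞) : WithBot ℕ∞) + ((Order.coheight P : ℕ∞) : WithBot ℕ∞) :=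
        add_le_add h1 h2
    _ = ((Order.height P + Order.coheight P : ℕ∞) : WithBot ℕ∞) := (WithBot.coe_add _ _).symm
    _ ≤ _ := h3

end Groth.Agent.S5765
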