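import Groth.Statements.S5766
import Groth.Agent.S5763
import Mathlib.RingTheory.KrullDimension.Module
import Mathlib.RingTheory.IntegralClosure.Algebra.Basic
import Mathlib.Algebra.Algebra.Tower

set_option autoImplicit false
universe u
open EGA41

namespace Groth.Agent.S5766

theorem aux {R S : Type u} [CommRing R] [CommRing S] (f : R →+* S) (hf : f.IsIntegral)
    (hinj : Function.Injective f) : ringKrullDim S = ringKrullDim R := by
  letI := f.toAlgebra
  haveI : Algebra.IsIntegral R S := ⟨hf⟩
  exact (Groth.Agent.S5763.result R S).2 hinj

/-- Let A be a Noetherian ring, ρ : A → B a ring homomorphism and M a B-module which is finitely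
generated as an A-module via ρ. Then the dimension of M as an A-module equals its dimension as a
B-module. -/
theorem result (A B : Type u) [CommRing A] [CommRing B] [IsNoetherianRing A]
    [Algebra A B] (M : Type u) [AddCommGroup M] [Module B M] [Module A M] [IsScalarTower A B M]
    [Module.Finite A M] : Module.supportDim A M = Module.supportDim B M := by
  haveI : Module.Finite B M := Module.Finite.of_restrictScalars_finite A B M
  rw [Module.supportDim_eq_ringKrullDim_quotient_annihilator,
    Module.supportDim_eq_ringKrullDim_quotient_annihilator]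
  have hI : Module.annihilator A M = (Module.annihilator B M).comap (algebraMap A B) := by
    ext a
    rw [Ideal.mem_comap, Module.mem_annihilator, Module.mem_annihilator]
    exact forall_congr' fun m => by rw [algebraMap_smul]
  rw [hI]
  symm
  refine aux (Ideal.quotientMap (Module.annihilator B M) (algebraMap A B) le_rfl) ?_
    Ideal.quotientMap_injective
  let ψ : B →ₐ[A] Module.End A M := Algebra.lsmul A A M
  have hψ : ∀ b ∈ Module.annihilator B M, ψ b = 0 := fun b hb =>
    LinearMap.ext fun m => Module.mem_annihilator.mp hb m
  let ψ' : B ⧸ Module.annihilator B M →ₐ[A] Module.End A M :=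
    Ideal.Quotient.liftₐ (Module.annihilator B M) ψ hψ
  have hψ' : Function.Injective ψ' := by
    rw [injective_iff_map_eq_zero]
    intro y hy
    obtain ⟨b, rfl⟩ := Ideal.Quotient.mk_surjective y
    rw [Ideal.Quotient.eq_zero_iff_mem, Module.mem_annihilator]
    intro m
    have h2 : ψ' (Ideal.Quotient.mk (Module.annihilator B M) b) = ψ b := rfl
    have h3 : ψ b m = 0 := by rw [← h2, hy]; rfl
    exact h3
  haveI : Algebra.IsIntegral A (B ⧸ Module.annihilator B M) :=
    Algebra.IsIntegral.of_injective ψ' hψ'
  intro y
  obtain ⟨b, rfl⟩ := Ideal.Quotient.mk_surjective y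
  obtain ⟨p, hp, hpe⟩ := Algebra.IsIntegral.isIntegral (R := A)
    (Ideal.Quotient.mk (Module.annihilator B M) b)
  refine ⟨p.map (Ideal.Quotient.mk ((Module.annihilator B M).comap (algebraMap A B))),
    hp.map _, ?_⟩
  rw [Polynomial.eval₂_map]
  have h4 : (Ideal.quotientMap (Module.annihilator B M) (algebraMap A B) le_rfl).comp
      (Ideal.Quotient.mk ((Module.annihilator B M).comap (algebraMap A B))) =
      algebraMap A (B ⧸ Module.annihilator B M) := by
    rw [Ideal.quotientMap_comp_mk]; rfl
  rw [h4]
  exact hpe

end Groth.Agent.S5766
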