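import Groth.Statements.S5770
import Mathlib
import Groth.Agent.S5769

set_option autoImplicit false
universe u
open EGA41

namespace Groth.Agent.S5770

open TensorProduct in
/-- Let φ : A → B be a local homomorphism of Noetherian local rings, m the maximal ideal of A, k = A/m,
M a finitely generated A-module and N a finitely generated B-module. Then dim_B(M ⊗_A N) ≤ dim_A(M)
+ dim(N ⊗_A k), the last dimension being that of N/mN (over B ⊗_A k or, equivalently by finiteness,
over B). -/
theorem result (A B : Type u) [CommRing A] [CommRing B] [IsLocalRing A]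
    [IsLocalRing B] [IsNoetherianRing A] [IsNoetherianRing B] [Algebra A B] [IsLocalHom (algebraMap A B)]
    (M : Type u) [AddCommGroup M] [Module A M] [Module.Finite A M] (N : Type u) [AddCommGroup N] [Module B N]
    [Module A N] [IsScalarTower A B N] [Module.Finite B N] :
    Module.supportDim B (N ⊗[A] M) ≤ Module.supportDim A M +
      Module.supportDim B (N ⧸ ((IsLocalRing.maximalIdeal A).map (algebraMap A B) • (⊤ : Submodule B N))) := by

  classical
  by_cases hsub : Subsingleton (N ⊗[A] M)
  · rw [Module.supportDim_eq_bot_of_subsingleton]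
    exact bot_le
  rw [not_subsingleton_iff_nontrivial] at hsub
  set I := Module.annihilator A M with hI
  set K := Module.annihilator B N with hK
  set L := (IsLocalRing.maximalIdeal A).map (algebraMap A B) with hL
  set J := K ⊔ I.map (algebraMap A B) with hJ
  -- `J` kills `N ⊗ M`
  have hJann : J ≤ Module.annihilator B (N ⊗[A] M) := by
    refine sup_le ?_ (Ideal.map_le_iff_le_comap.mpr ?_)
    · intro b hb
      rw [Module.mem_annihilator]
      intro z
      induction z using TensorProduct.induction_on with
      | zero => simp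
      | tmul n m => rw [TensorProduct.smul_tmul', (Module.mem_annihilator.mp hb) n,
          TensorProduct.zero_tmul]
      | add x y hx hy => rw [smul_add, hx, hy, add_zero]
    · intro a ha
      rw [Ideal.mem_comap, Module.mem_annihilator]
      intro z
      induction z using TensorProduct.induction_on with
      | zero => simp
      | tmul n m => rw [TensorProduct.smul_tmul', algebraMap_smul, TensorProduct.smul_tmul,
          (Module.mem_annihilator.mp ha) m, TensorProduct.tmul_zero]
      | add x y hx hy => rw [smul_add, hx, hy, add_zero]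
  have hJtop : J ≠ ⊤ := fun h => by
    have h1 : Module.annihilator B (N ⊗[A] M) = ⊤ := top_le_iff.mp (h ▸ hJann)
    rw [Module.annihilator_eq_top_iff] at h1
    exact not_subsingleton _ h1
  have hM : Nontrivial M := by
    by_contra h
    rw [not_nontrivial_iff_subsingleton] at h
    have : Subsingleton (N ⊗[A] M) := inferInstance
    exact not_subsingleton _ this
  have hItop : I ≠ ⊤ := by
    rw [Ne, Module.annihilator_eq_top_iff]
    exact not_subsingleton M
  haveI : Nontrivial (A ⧸ I) := Ideal.Quotient.nontrivial_iff.mpr hItop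
  haveI : Nontrivial (B ⧸ J) := Ideal.Quotient.nontrivial_iff.mpr hJtop
  haveI : IsLocalRing (A ⧸ I) :=
    IsLocalRing.of_surjective' (Ideal.Quotient.mk _) Ideal.Quotient.mk_surjective
  haveI : IsLocalRing (B ⧸ J) :=
    IsLocalRing.of_surjective' (Ideal.Quotient.mk _) Ideal.Quotient.mk_surjective
  have hIJ : I ≤ J.comap (algebraMap A B) := Ideal.map_le_iff_le_comap.mp le_sup_right
  let φ : A ⧸ I →+* B ⧸ J := Ideal.quotientMap J (algebraMap A B) hIJ
  have hφmk : φ.comp (Ideal.Quotient.mk I) = (Ideal.Quotient.mk J).comp (algebraMap A B) := by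
    ext a
    simp [φ]
  have hmaxA : IsLocalRing.maximalIdeal (A ⧸ I) =
      (IsLocalRing.maximalIdeal A).map (Ideal.Quotient.mk I) :=
    (IsLocalRing.map_maximalIdeal_of_surjective (Ideal.Quotient.mk I)
      Ideal.Quotient.mk_surjective).symm
  have hmaxB : IsLocalRing.maximalIdeal (B ⧸ J) =
      (IsLocalRing.maximalIdeal B).map (Ideal.Quotient.mk J) :=
    (IsLocalRing.map_maximalIdeal_of_surjective (Ideal.Quotient.mk J)
      Ideal.Quotient.mk_surjective).symm
  have hLle : L ≤ IsLocalRing.maximalIdeal B :=
    ((IsLocalRing.local_hom_TFAE (algebraMap A B)).out 0 2).mp ‹IsLocalHom (algebraMap A B)›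
  have hmapφ : (IsLocalRing.maximalIdeal (A ⧸ I)).map φ = L.map (Ideal.Quotient.mk J) := by
    rw [hmaxA, Ideal.map_map, hφmk, ← Ideal.map_map]
  have hloc : IsLocalHom φ := by
    refine ((IsLocalRing.local_hom_TFAE φ).out 0 2).mpr ?_
    rw [hmapφ, hmaxB]
    exact Ideal.map_mono hLle
  letI : Algebra (A ⧸ I) (B ⧸ J) := φ.toAlgebra
  haveI : IsLocalHom (algebraMap (A ⧸ I) (B ⧸ J)) := hloc
  have h5769 := Groth.Agent.S5769.result (A ⧸ I) (B ⧸ J)
  have hmapφ' : (IsLocalRing.maximalIdeal (A ⧸ I)).map (algebraMap (A ⧸ I) (B ⧸ J)) =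
      L.map (Ideal.Quotient.mk J) := hmapφ
  rw [hmapφ'] at h5769
  -- (1)
  have h1 : Module.supportDim B (N ⊗[A] M) ≤ ringKrullDim (B ⧸ J) := by
    rw [ringKrullDim_quotient, Module.supportDim]
    have hsubset : Module.support B (N ⊗[A] M) ⊆ PrimeSpectrum.zeroLocus (J : Set B) := by
      intro p hp
      rw [PrimeSpectrum.mem_zeroLocus]
      exact hJann.trans (Module.annihilator_le_of_mem_support hp)
    exact Order.krullDim_le_of_strictMono (Set.inclusion hsubset) (fun a b hab => hab)
  -- (2)
  have h2 : ringKrullDim (A ⧸ I) = Module.supportDim A M :=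
    (Module.supportDim_eq_ringKrullDim_quotient_annihilator A M).symm
  -- (3)
  have h3 : ringKrullDim ((B ⧸ J) ⧸ L.map (Ideal.Quotient.mk J)) ≤
      Module.supportDim B (N ⧸ (L • (⊤ : Submodule B N))) := by
    rw [ringKrullDim_eq_of_ringEquiv (DoubleQuot.quotQuotEquivQuotSup J L), ringKrullDim_quotient,
      Module.supportDim, Module.support_quotient, Module.support_eq_zeroLocus]
    have hsubset : PrimeSpectrum.zeroLocus ((J ⊔ L : Ideal B) : Set B) ⊆
        PrimeSpectrum.zeroLocus (Module.annihilator B N : Set B) ∩
          PrimeSpectrum.zeroLocus (L : Set B) := by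
      intro p hp
      rw [PrimeSpectrum.mem_zeroLocus] at hp
      have hp' : (J ⊔ L : Ideal B) ≤ p.asIdeal := fun x hx => hp hx
      have hK' : K ≤ p.asIdeal := (le_sup_left.trans le_sup_left).trans hp'
      have hL' : L ≤ p.asIdeal := le_sup_right.trans hp'
      constructor
      · rw [PrimeSpectrum.mem_zeroLocus]
        exact fun x hx => hK' hx
      · rw [PrimeSpectrum.mem_zeroLocus]
        exact fun x hx => hL' hx
    exact Order.krullDim_le_of_strictMono (Set.inclusion hsubset) (fun a b hab => hab)
  calc Module.supportDim B (N ⊗[A] M) ≤ ringKrullDim (B ⧸ J) := h1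
    _ ≤ ringKrullDim (A ⧸ I) + ringKrullDim ((B ⧸ J) ⧸ L.map (Ideal.Quotient.mk J)) := h5769
    _ ≤ Module.supportDim A M + Module.supportDim B (N ⧸ (L • (⊤ : Submodule B N))) := by
      rw [h2]
      exact add_le_add le_rfl h3

end Groth.Agent.S5770
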