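import Groth.Statements.S5771
import Groth.Agent.S5769
import Mathlib.RingTheory.KrullDimension.NonZeroDivisors

set_option autoImplicit false
universe u
open EGA41

namespace Groth.Agent.S5771

theorem aux {A B : Type u} [CommRing A] [CommRing B] [IsLocalRing A] [IsLocalRing B]
    [IsNoetherianRing A] [IsNoetherianRing B] (φ : A →+* B) [hφ : IsLocalHom φ]
    (hdef : ringKrullDim (B ⧸ (IsLocalRing.maximalIdeal A).map φ) = 0) :
    ringKrullDim B ≤ ringKrullDim A := by
  letI := φ.toAlgebra
  haveI : IsLocalHom (algebraMap A B) := hφ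
  have h := Groth.Agent.S5769.result A B
  have h0 : ringKrullDim (B ⧸ (IsLocalRing.maximalIdeal A).map (algebraMap A B)) = 0 := hdef
  rw [h0, add_zero] at h
  exact h

/-- Let φ : A → B be a local homomorphism of Noetherian local rings, m the maximal ideal of A, and
suppose mB is an ideal of definition of B (equivalently dim(B/mB) = 0). Then dim(B) ≤ dim(A); if
moreover A is an integral domain and dim(A) = dim(B), then φ is injective. -/
theorem result (A B : Type u) [CommRing A] [CommRing B]
    [IsLocalRing A] [IsLocalRing B] [IsNoetherianRing A] [IsNoetherianRing B] [Algebra A B]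
    [IsLocalHom (algebraMap A B)]
    (hdef : ringKrullDim (B ⧸ (IsLocalRing.maximalIdeal A).map (algebraMap A B)) = 0) :
    ringKrullDim B ≤ ringKrullDim A ∧
      (IsDomain A → ringKrullDim A = ringKrullDim B → Function.Injective (algebraMap A B)) := by
  have h1 : ringKrullDim B ≤ ringKrullDim A := aux (algebraMap A B) hdef
  refine ⟨h1, fun hdom hdim => ?_⟩
  rw [injective_iff_map_eq_zero]
  intro x hx
  by_contra hx0
  have hxm : x ∈ IsLocalRing.maximalIdeal A := by
    rw [IsLocalRing.mem_maximalIdeal, mem_nonunits_iff]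
    intro hu
    have := hu.map (algebraMap A B)
    rw [hx] at this
    exact not_isUnit_zero this
  have hnzd : x ∈ nonZeroDivisors A := mem_nonZeroDivisors_of_ne_zero hx0
  have hd1 := ringKrullDim_quotient_succ_le_of_nonZeroDivisor hnzd
  have hne : Ideal.span {x} ≠ ⊤ := by
    intro h
    rw [Ideal.span_singleton_eq_top] at h
    exact (IsLocalRing.mem_maximalIdeal x).mp hxm h
  haveI : Nontrivial (A ⧸ Ideal.span {x}) := Ideal.Quotient.nontrivial_iff.mpr hne
  haveI : IsLocalRing (A ⧸ Ideal.span {x}) :=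
    IsLocalRing.of_surjective' (Ideal.Quotient.mk _) Ideal.Quotient.mk_surjective
  let φ' : A ⧸ Ideal.span {x} →+* B := Ideal.Quotient.lift (Ideal.span {x}) (algebraMap A B) (by
    intro a ha
    obtain ⟨c, rfl⟩ := Ideal.mem_span_singleton'.mp ha
    rw [map_mul, hx, mul_zero])
  haveI : IsLocalHom φ' := by
    constructor
    intro y hy
    obtain ⟨a, rfl⟩ := Ideal.Quotient.mk_surjective y
    have h2 : IsUnit (algebraMap A B a) := hy
    exact (isUnit_of_map_unit (algebraMap A B) a h2).map _
  have hmap : (IsLocalRing.maximalIdeal (A ⧸ Ideal.span {x})).map φ' =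
      (IsLocalRing.maximalIdeal A).map (algebraMap A B) := by
    rw [← IsLocalRing.map_maximalIdeal_of_surjective (Ideal.Quotient.mk (Ideal.span {x}))
      Ideal.Quotient.mk_surjective, Ideal.map_map]
    congr 1
  have hdef' : ringKrullDim (B ⧸ (IsLocalRing.maximalIdeal (A ⧸ Ideal.span {x})).map φ') = 0 := by
    rw [hmap]; exact hdef
  have h2 : ringKrullDim B ≤ ringKrullDim (A ⧸ Ideal.span {x}) := aux φ' hdef'
  have h3 : ringKrullDim A + 1 ≤ ringKrullDim A := by
    calc ringKrullDim A + 1 = ringKrullDim B + 1 := by rw [hdim]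
      _ ≤ ringKrullDim (A ⧸ Ideal.span {x}) + 1 := add_le_add h2 le_rfl
      _ ≤ ringKrullDim A := hd1
  have hne_top := ringKrullDim_ne_top (R := A)
  have hne_bot := ringKrullDim_ne_bot (R := A)
  obtain ⟨n, hn⟩ : ∃ n : ℕ, ringKrullDim A = (n : WithBot ℕ∞) := by
    obtain ⟨e, he⟩ := WithBot.ne_bot_iff_exists.mp hne_bot
    have : e ≠ ⊤ := by rintro rfl; exact hne_top he.symm
    obtain ⟨n, rfl⟩ := ENat.ne_top_iff_exists.mp this
    exact ⟨n, he.symm⟩
  rw [hn] at h3
  have : n + 1 ≤ n := by exact_mod_cast h3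
  omega

end Groth.Agent.S5771
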