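import Groth.Statements.S5772
import Mathlib.RingTheory.Filtration
import Mathlib.RingTheory.Ideal.Operations

set_option autoImplicit false
universe u
open scoped Pointwise
open EGA41

namespace Groth.Agent.S5772

/-- Let A be a Noetherian ring, M a finitely generated A-module and f an element of A. Then f is
M-regular (multiplication by f on M is injective) if and only if f is M-quasi-regular, i.e. the
canonical surjection (M/fM)[T] → gr(M) for the (f)-adic filtration is bijective, which amounts to:
for every k ≥ 0 and x ∈ M, f^k x ∈ f^(k+1) M implies x ∈ fM. -/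
theorem result (A : Type u) [CommRing A] [IsNoetherianRing A] (M : Type u)
    [AddCommGroup M] [Module A M] [Module.Finite A M] (f : A) :
    IsSMulRegular M f ↔
      ∀ (k : ℕ) (x : M), f ^ k • x ∈ f ^ (k + 1) • (⊤ : Submodule A M) → x ∈ f • (⊤ : Submodule A M) := by
  constructor
  · intro hreg k x hx
    rw [Submodule.mem_smul_pointwise_iff_exists] at hx
    obtain ⟨y, _, hy⟩ := hx
    rw [Submodule.mem_smul_pointwise_iff_exists]
    refine ⟨y, trivial, ?_⟩
    have h1 : f ^ k • (f • y) = f ^ k • x := by
      rw [← hy, smul_smul, ← pow_succ]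
    exact (hreg.pow k) h1
  · intro h
    rw [isSMulRegular_iff_right_eq_zero_of_smul]
    intro x hx
    -- `x` is infinitely divisible by `f`
    have hdiv : ∀ n : ℕ, ∃ y : M, x = f ^ n • y ∧ f ^ (n + 1) • y = 0 := by
      intro n
      induction n with
      | zero => exact ⟨x, by simp, by simpa using hx⟩
      | succ n ih =>
        obtain ⟨y, hy, hy0⟩ := ih
        have hmem : f ^ (n + 1) • y ∈ f ^ (n + 1 + 1) • (⊤ : Submodule A M) := by
          rw [hy0]; exact Submodule.zero_mem _
        have := h (n + 1) y hmem
        rw [Submodule.mem_smul_pointwise_iff_exists] at this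
        obtain ⟨y', _, hy'⟩ := this
        refine ⟨y', ?_, ?_⟩
        · rw [hy, ← hy', smul_smul, ← pow_succ]
        · rw [pow_succ, mul_smul, hy', hy0]
    have hx_mem : x ∈ (⨅ i : ℕ, (Ideal.span {f}) ^ i • ⊤ : Submodule A M) := by
      rw [Submodule.mem_iInf]
      intro i
      obtain ⟨y, hy, _⟩ := hdiv i
      rw [Ideal.span_singleton_pow, Submodule.ideal_span_singleton_smul, hy]
      exact Submodule.smul_mem_pointwise_smul y (f ^ i) ⊤ trivial
    obtain ⟨⟨r, hr⟩, hrx⟩ := (Ideal.mem_iInf_smul_pow_eq_bot_iff (Ideal.span {f}) x).mp hx_mem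
    obtain ⟨a, rfl⟩ := Ideal.mem_span_singleton'.mp hr
    rw [← hrx]
    change (a * f) • x = 0
    rw [mul_smul, hx, smul_zero]

end Groth.Agent.S5772
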