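import Groth.Statements.S5776
import Mathlib.RingTheory.Regular.RegularSequence
import Mathlib.Algebra.Exact.Basic
import Mathlib.Tactic.Abel

set_option autoImplicit false
universe u
open EGA41
open RingTheory.Sequence Pointwise

namespace Groth.Agent.S5776

theorem ext_lemma {A : Type u} [CommRing A] (rs : List A) :
    ∀ (M' M M'' : Type u) [AddCommGroup M'] [AddCommGroup M] [AddCommGroup M''] [Module A M']
      [Module A M] [Module A M''] (f : M' →ₗ[A] M) (g : M →ₗ[A] M''), Function.Injective f →
      Function.Surjective g → Function.Exact f g →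
      IsWeaklyRegular M' rs → IsWeaklyRegular M'' rs → IsWeaklyRegular M rs := by
  induction rs with
  | nil => intros; exact IsWeaklyRegular.nil A _
  | cons r rs ih =>
    intro M' M M'' _ _ _ _ _ _ f g hf hg hfg h1 h2
    rw [isWeaklyRegular_cons_iff] at h1 h2 ⊢
    refine ⟨isSMulRegular_of_range_eq_ker hf hfg.linearMap_ker_eq.symm h1.1 h2.1, ?_⟩
    have hinj : Function.Injective (QuotSMulTop.map r f) := by
      have h0 : Function.Exact (0 : M' →ₗ[A] M') f :=
        (LinearMap.exact_zero_iff_injective M' f).mpr hf
      have := QuotSMulTop.map_first_exact_on_four_term_exact_of_isSMulRegular_last h0 hfg h2.1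
      rw [map_zero] at this
      exact (LinearMap.exact_zero_iff_injective _ _).mp this
    exact ih _ _ _ (QuotSMulTop.map r f) (QuotSMulTop.map r g) hinj
      (QuotSMulTop.map_surjective r hg) (QuotSMulTop.map_exact r hfg hg) h1.2 h2.2

theorem pow_lemma {A : Type u} [CommRing A] (M : Type u) [AddCommGroup M] [Module A M] (a : A)
    (ha : IsSMulRegular M a) (rs : List A) (h : IsWeaklyRegular (QuotSMulTop a M) rs) :
    ∀ v : ℕ, IsWeaklyRegular (QuotSMulTop (a ^ (v + 1)) M) rs := by
  intro v
  induction v with
  | zero => rw [zero_add, pow_one]; exact h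
  | succ v ih =>
    have hle1 : (a ^ (v + 1) • (⊤ : Submodule A M)) ≤
        (a ^ (v + 1 + 1) • (⊤ : Submodule A M)).comap (LinearMap.lsmul A M a) := by
      intro x hx
      obtain ⟨y, -, rfl⟩ := (Submodule.mem_smul_pointwise_iff_exists _ _ _).mp hx
      rw [Submodule.mem_comap]
      show a • (a ^ (v + 1) • y) ∈ _
      rw [smul_smul, ← pow_succ']
      exact Submodule.smul_mem_pointwise_smul _ _ _ Submodule.mem_top
    have hle2 : (a ^ (v + 1 + 1) • (⊤ : Submodule A M)) ≤
        (a • (⊤ : Submodule A M)).comap LinearMap.id := by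
      intro x hx
      obtain ⟨y, -, rfl⟩ := (Submodule.mem_smul_pointwise_iff_exists _ _ _).mp hx
      rw [Submodule.mem_comap, LinearMap.id_apply, pow_succ', mul_smul]
      exact Submodule.smul_mem_pointwise_smul _ _ _ Submodule.mem_top
    let f : QuotSMulTop (a ^ (v + 1)) M →ₗ[A] QuotSMulTop (a ^ (v + 1 + 1)) M :=
      Submodule.mapQ _ _ (LinearMap.lsmul A M a) hle1
    let g : QuotSMulTop (a ^ (v + 1 + 1)) M →ₗ[A] QuotSMulTop a M :=
      Submodule.mapQ _ _ LinearMap.id hle2
    have hf : Function.Injective f := by
      rw [injective_iff_map_eq_zero]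
      intro y hy
      induction y using Submodule.Quotient.induction_on with
      | H m =>
        have h1 : (Submodule.Quotient.mk (a • m) : QuotSMulTop (a ^ (v + 1 + 1)) M) = 0 := hy
        rw [Submodule.Quotient.mk_eq_zero] at h1 ⊢
        obtain ⟨m', -, hm'⟩ := (Submodule.mem_smul_pointwise_iff_exists _ _ _).mp h1
        have h2 : m = a ^ (v + 1) • m' := by
          apply ha
          show a • m = a • (a ^ (v + 1) • m')
          rw [smul_smul, ← pow_succ', hm']
        rw [h2]
        exact Submodule.smul_mem_pointwise_smul _ _ _ Submodule.mem_top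
    have hg : Function.Surjective g := by
      intro y
      induction y using Submodule.Quotient.induction_on with
      | H m => exact ⟨Submodule.Quotient.mk m, rfl⟩
    have hfg : Function.Exact f g := by
      intro y
      induction y using Submodule.Quotient.induction_on with
      | H m =>
        constructor
        · intro h1
          have h2 : (Submodule.Quotient.mk m : QuotSMulTop a M) = 0 := h1
          rw [Submodule.Quotient.mk_eq_zero] at h2
          obtain ⟨m', -, hm'⟩ := (Submodule.mem_smul_pointwise_iff_exists _ _ _).mp h2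
          exact ⟨Submodule.Quotient.mk m', by rw [← hm']; rfl⟩
        · rintro ⟨z, hz⟩
          induction z using Submodule.Quotient.induction_on with
          | H m' =>
            have h3 : (Submodule.Quotient.mk (a • m') : QuotSMulTop (a ^ (v + 1 + 1)) M) =
                Submodule.Quotient.mk m := hz
            rw [Submodule.Quotient.eq] at h3
            obtain ⟨w, -, hw⟩ := (Submodule.mem_smul_pointwise_iff_exists _ _ _).mp h3
            show (Submodule.Quotient.mk m : QuotSMulTop a M) = 0
            rw [Submodule.Quotient.mk_eq_zero]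
            have h4 : m = a • (m' - a ^ (v + 1) • w) := by
              rw [smul_sub, smul_smul, ← pow_succ', hw]; abel
            rw [h4]
            exact Submodule.smul_mem_pointwise_smul _ _ _ Submodule.mem_top
    exact ext_lemma rs _ _ _ f g hf hg hfg ih h

theorem list_lemma {A : Type u} [CommRing A] (l : List (A × ℕ)) :
    ∀ (M : Type u) [AddCommGroup M] [Module A M], (∀ x ∈ l, 1 ≤ x.2) →
      IsWeaklyRegular M (l.map Prod.fst) → IsWeaklyRegular M (l.map fun x => x.1 ^ x.2) := by
  induction l with
  | nil => intro M _ _ _ _; exact IsWeaklyRegular.nil A M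
  | cons x l ih =>
    intro M _ _ hl h
    rw [List.map_cons, isWeaklyRegular_cons_iff] at h ⊢
    obtain ⟨v, hv⟩ : ∃ v, x.2 = v + 1 :=
      ⟨x.2 - 1, by have := hl x List.mem_cons_self; omega⟩
    refine ⟨h.1.pow _, ?_⟩
    rw [hv]
    exact ih _ (fun y hy => hl y (List.mem_cons_of_mem _ hy)) (pow_lemma M x.1 h.1 _ h.2 v)

/-- Let A be a ring, M an A-module and (f_i)_{1 ≤ i ≤ n} an M-regular sequence of elements of A. Then
for any exponents v_i ≥ 1 the sequence (f_i ^ v_i) is again M-regular. -/
theorem result (A : Type u) [CommRing A] (M : Type u) [AddCommGroup M]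
    [Module A M] (n : ℕ) (f : Fin n → A) (v : Fin n → ℕ) (hv : ∀ i, 1 ≤ v i)
    (hf : RingTheory.Sequence.IsWeaklyRegular M (List.ofFn f)) :
    RingTheory.Sequence.IsWeaklyRegular M (List.ofFn fun i => f i ^ v i) := by
  have h1 : List.ofFn f = (List.ofFn fun i => (f i, v i)).map Prod.fst := by
    rw [List.map_ofFn]; rfl
  have h2 : (List.ofFn fun i => f i ^ v i) =
      (List.ofFn fun i => (f i, v i)).map (fun x => x.1 ^ x.2) := by
    rw [List.map_ofFn]; rfl
  rw [h2]
  apply list_lemma _ M
  · intro x hx
    rw [List.mem_ofFn] at hx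
    obtain ⟨i, rfl⟩ := hx
    exact hv i
  · rw [← h1]; exact hf

end Groth.Agent.S5776
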