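import Groth.Statements.S5780
import Mathlib.RingTheory.Ideal.AssociatedPrime.Finiteness
import Mathlib.RingTheory.Regular.IsSMulRegular
import Mathlib.RingTheory.Nakayama
import Mathlib.RingTheory.Jacobson.Ideal

set_option autoImplicit false
universe u
open EGA41

namespace Groth.Agent.S5780

/-- Let A be a Noetherian local ring with maximal ideal m. If every element of m which is not in m² is a
zero divisor in A, then there is a nonzero c in A with c m = 0, i.e. m is an associated prime of A. -/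
theorem result (A : Type u) [CommRing A]
    [IsLocalRing A] [IsNoetherianRing A]
    (h : ∀ a ∈ IsLocalRing.maximalIdeal A, a ∉ IsLocalRing.maximalIdeal A ^ 2 → ¬ IsSMulRegular A a) :
    IsLocalRing.maximalIdeal A ∈ associatedPrimes A A := by
  classical
  set 𝔪 := IsLocalRing.maximalIdeal A with h𝔪
  have hfin : (associatedPrimes A A).Finite := associatedPrimes.finite A A
  have hprime : ∀ i ∈ hfin.toFinset, Ideal.IsPrime (id i : Ideal A) := by
    intro i hi
    rw [Set.Finite.mem_toFinset] at hi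
    exact hi.isPrime
  have hsub : ((𝔪 : Ideal A) : Set A) ⊆ (id (𝔪 ^ 2) : Ideal A) ∪ (id (𝔪 ^ 2) : Ideal A) ∪
      ⋃ i ∈ (↑hfin.toFinset : Set (Ideal A)), ((id i : Ideal A) : Set A) := by
    intro x hx
    by_cases hx2 : x ∈ 𝔪 ^ 2
    · exact Or.inl (Or.inl hx2)
    · right
      have hnr := h x hx hx2
      have : x ∈ ⋃ p ∈ associatedPrimes A A, (p : Set A) := by
        rw [biUnion_associatedPrimes_eq_compl_regular A A]
        exact hnr
      simp only [Set.mem_iUnion] at this ⊢
      obtain ⟨p, hp, hxp⟩ := this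
      exact ⟨p, by simpa using hp, hxp⟩
  rcases (Ideal.subset_union_prime' (f := id) (a := 𝔪 ^ 2) (b := 𝔪 ^ 2) hprime).mp hsub with
    h1 | h1 | ⟨p, hp, h1⟩
  · -- `𝔪 ≤ 𝔪 ^ 2` forces `𝔪 = ⊥`
    have hbot : 𝔪 = ⊥ := by
      have hfg : (𝔪 : Ideal A).FG := (isNoetherianRing_iff_ideal_fg A).mp inferInstance 𝔪
      have hjac : 𝔪 ≤ Ideal.jacobson (⊥ : Ideal A) := by
        rw [IsLocalRing.jacobson_eq_maximalIdeal _ bot_ne_top]
      refine Submodule.eq_bot_of_le_smul_of_le_jacobson_bot 𝔪 𝔪 hfg ?_ hjac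
      rw [smul_eq_mul, ← pow_two]
      exact h1
    rw [hbot]
    rw [AssociatedPrimes.mem_iff, isAssociatedPrime_iff]
    refine ⟨hbot ▸ (IsLocalRing.maximalIdeal.isMaximal A).isPrime, 1, ?_⟩
    ext r
    rw [Submodule.mem_colon_singleton]
    simp
  · have hbot : 𝔪 = ⊥ := by
      have hfg : (𝔪 : Ideal A).FG := (isNoetherianRing_iff_ideal_fg A).mp inferInstance 𝔪
      have hjac : 𝔪 ≤ Ideal.jacobson (⊥ : Ideal A) := by
        rw [IsLocalRing.jacobson_eq_maximalIdeal _ bot_ne_top]
      refine Submodule.eq_bot_of_le_smul_of_le_jacobson_bot 𝔪 𝔪 hfg ?_ hjac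
      rw [smul_eq_mul, ← pow_two]
      exact h1
    rw [hbot]
    rw [AssociatedPrimes.mem_iff, isAssociatedPrime_iff]
    refine ⟨hbot ▸ (IsLocalRing.maximalIdeal.isMaximal A).isPrime, 1, ?_⟩
    ext r
    rw [Submodule.mem_colon_singleton]
    simp
  · rw [Set.Finite.mem_toFinset] at hp
    have hple : p ≤ 𝔪 := IsLocalRing.le_maximalIdeal hp.isPrime.ne_top
    have : p = 𝔪 := le_antisymm hple h1
    rw [← this]
    exact hp

end Groth.Agent.S5780
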