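import Groth.Statements.S5781
import Mathlib.LinearAlgebra.Dual.Lemmas
import Mathlib.RingTheory.Ideal.Cotangent
import Mathlib.Tactic.Abel

set_option autoImplicit false
universe u
open EGA41
open Pointwise

namespace Groth.Agent.S5781

/-- Suppose A is a Noetherian local ring whose maximal ideal is m, and take a ∈ m with a ∉ m². Then the
quotient m/am contains a direct summand isomorphic to m/Aa: concretely, one can find A-linear maps f
: m/Aa → m/am and g : m/am → m/Aa such that g ∘ f is the identity. -/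
theorem result (A : Type u) [CommRing A] [IsLocalRing A]
    [IsNoetherianRing A] (a : A) (ha : a ∈ IsLocalRing.maximalIdeal A) (ha2 : a ∉ IsLocalRing.maximalIdeal A ^ 2) :
    ∃ (f : (↥(IsLocalRing.maximalIdeal A) ⧸ Submodule.span A {(⟨a, ha⟩ : ↥(IsLocalRing.maximalIdeal A))}) →ₗ[A]
          QuotSMulTop a ↥(IsLocalRing.maximalIdeal A))
      (g : QuotSMulTop a ↥(IsLocalRing.maximalIdeal A) →ₗ[A]
          (↥(IsLocalRing.maximalIdeal A) ⧸ Submodule.span A {(⟨a, ha⟩ : ↥(IsLocalRing.maximalIdeal A))})),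
      g.comp f = LinearMap.id := by
  classical
  have hne : (IsLocalRing.maximalIdeal A).toCotangent ⟨a, ha⟩ ≠ 0 := by
    rw [Ne, Ideal.toCotangent_eq_zero]; exact ha2
  obtain ⟨φ, hφ⟩ := Module.Projective.exists_dual_eq_one (IsLocalRing.ResidueField A) hne
  let π : ↥(IsLocalRing.maximalIdeal A) →ₗ[A] IsLocalRing.ResidueField A :=
    (φ.restrictScalars A).comp (IsLocalRing.maximalIdeal A).toCotangent
  have hπ : π ⟨a, ha⟩ = 1 := hφ
  let e : IsLocalRing.ResidueField A →ₗ[A] (A ⧸ IsLocalRing.maximalIdeal A) :=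
    { toFun := fun x => x, map_add' := fun _ _ => rfl, map_smul' := fun _ _ => rfl }
  let χ : A →ₗ[A] QuotSMulTop a ↥(IsLocalRing.maximalIdeal A) :=
    LinearMap.toSpanSingleton A _ (Submodule.Quotient.mk ⟨a, ha⟩)
  have hχ : IsLocalRing.maximalIdeal A ≤ LinearMap.ker χ := by
    intro r hr
    rw [LinearMap.mem_ker]
    show r • (Submodule.Quotient.mk (⟨a, ha⟩ : ↥(IsLocalRing.maximalIdeal A)) :
      QuotSMulTop a ↥(IsLocalRing.maximalIdeal A)) = 0
    rw [← Submodule.Quotient.mk_smul, Submodule.Quotient.mk_eq_zero]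
    have h1 : r • (⟨a, ha⟩ : ↥(IsLocalRing.maximalIdeal A)) =
        a • (⟨r, hr⟩ : ↥(IsLocalRing.maximalIdeal A)) := by
      ext; simp [mul_comm]
    rw [h1]
    exact Submodule.smul_mem_pointwise_smul _ _ _ Submodule.mem_top
  let ψ₀ : (A ⧸ IsLocalRing.maximalIdeal A) →ₗ[A] QuotSMulTop a ↥(IsLocalRing.maximalIdeal A) :=
    Submodule.liftQ (IsLocalRing.maximalIdeal A) χ hχ
  let F : ↥(IsLocalRing.maximalIdeal A) →ₗ[A] QuotSMulTop a ↥(IsLocalRing.maximalIdeal A) :=
    Submodule.mkQ _ - ψ₀.comp (e.comp π)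
  have hF : F ⟨a, ha⟩ = 0 := by
    show Submodule.Quotient.mk _ - ψ₀ (e (π ⟨a, ha⟩)) = 0
    rw [hπ]
    have : e 1 = Submodule.Quotient.mk (1 : A) := rfl
    rw [this]
    have h2 : ψ₀ (Submodule.Quotient.mk (1 : A)) = χ 1 := rfl
    rw [h2]
    have h3 : χ 1 = (1 : A) • (Submodule.Quotient.mk ⟨a, ha⟩ :
      QuotSMulTop a ↥(IsLocalRing.maximalIdeal A)) := rfl
    rw [h3, one_smul]
    exact sub_self _
  let f : (↥(IsLocalRing.maximalIdeal A) ⧸
      Submodule.span A {(⟨a, ha⟩ : ↥(IsLocalRing.maximalIdeal A))}) →ₗ[A]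
        QuotSMulTop a ↥(IsLocalRing.maximalIdeal A) :=
    Submodule.liftQ _ F (by
      rw [Submodule.span_le, Set.singleton_subset_iff]
      exact LinearMap.mem_ker.mpr hF)
  have hle : (a • (⊤ : Submodule A ↥(IsLocalRing.maximalIdeal A))) ≤
      (Submodule.span A {(⟨a, ha⟩ : ↥(IsLocalRing.maximalIdeal A))}).comap LinearMap.id := by
    intro x hx
    obtain ⟨y, -, rfl⟩ := (Submodule.mem_smul_pointwise_iff_exists _ _ _).mp hx
    have h1 : a • y = (y : A) • (⟨a, ha⟩ : ↥(IsLocalRing.maximalIdeal A)) := by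
      ext; simp [mul_comm]
    show a • y ∈ _
    rw [h1]
    exact Submodule.smul_mem _ _ (Submodule.mem_span_singleton_self _)
  let g : QuotSMulTop a ↥(IsLocalRing.maximalIdeal A) →ₗ[A]
      (↥(IsLocalRing.maximalIdeal A) ⧸
        Submodule.span A {(⟨a, ha⟩ : ↥(IsLocalRing.maximalIdeal A))}) :=
    Submodule.mapQ _ _ LinearMap.id hle
  have hgψ : ∀ z, g (ψ₀ z) = 0 := by
    intro z
    induction z using Submodule.Quotient.induction_on with
    | H r =>
      show g (χ r) = 0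
      show g (r • Submodule.Quotient.mk _) = 0
      rw [map_smul]
      show r • (Submodule.Quotient.mk ((LinearMap.id : _ →ₗ[A] _) (⟨a, ha⟩ : ↥(IsLocalRing.maximalIdeal A))) :
        ↥(IsLocalRing.maximalIdeal A) ⧸ Submodule.span A {(⟨a, ha⟩ : ↥(IsLocalRing.maximalIdeal A))}) = 0
      rw [LinearMap.id_apply, (Submodule.Quotient.mk_eq_zero _).mpr (Submodule.mem_span_singleton_self _),
        smul_zero]
  refine ⟨f, g, ?_⟩
  apply Submodule.linearMap_qext
  ext x
  show g (F x) = Submodule.Quotient.mk x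
  show g (Submodule.Quotient.mk x - ψ₀ (e (π x))) = Submodule.Quotient.mk x
  rw [map_sub, hgψ, sub_zero]
  rfl

end Groth.Agent.S5781
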