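import Groth.Statements.S5785
import Groth.Agent.Lib.ComplReg_helper3
-- import your own Groth.Agent.* helpers here

set_option autoImplicit false
universe u
open EGA41


namespace Groth.Agent.S5785

/-- Let A be a regular ring and J an ideal of A. Then the separated completion of A for the J-adic
topology is a regular ring. -/
theorem result (A : Type u) [CommRing A] [IsRegularRing A] (J : Ideal A) :
    IsRegularRing (AdicCompletion J A) := by
  haveI : IsNoetherianRing A := inferInstance
  exact Groth.Agent.Lib.ComplRegH3.isRegularRing_adicCompletion A J

end Groth.Agent.S5785
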