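import Groth.Statements.S5792
import Groth.Agent.Lib.TopDim_lead

set_option autoImplicit false
universe u
open TopDim

namespace Groth.Agent.S5792

/-- For every topological space X one has dim(X) = sup_{x ∈ X} dim_x(X), the supremum of the local
combinatorial dimensions. -/
theorem result (X : Type u) [TopologicalSpace X] :
    topologicalKrullDim X = ⨆ x : X, FlatMor.localDim X x := by
  apply le_antisymm
  · apply Groth.Agent.TopDimLead.dim_le_of_forall
    intro l
    obtain ⟨x, hx⟩ := Groth.Agent.TopDimLead.head_nonempty l
    exact le_iSup_of_le x (Groth.Agent.TopDimLead.length_le_localDim l hx)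
  · refine iSup_le fun x => ?_
    exact (iInf_le _ (⟨⊤, trivial⟩ : {U : TopologicalSpace.Opens X // x ∈ U})).trans
      (topologicalKrullDim_subspace_le X _)

end Groth.Agent.S5792
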