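import Groth.Statements.S5793
import Groth.Agent.Lib.TopDim_lead

set_option autoImplicit false
universe u
open TopDim

namespace Groth.Agent.S5793

/-- Let X be a Noetherian Kolmogoroff space. Then dim(X) = sup dim_x(X), the supremum being over the
closed points x of X only. -/
theorem result (X : Type u) [TopologicalSpace X]
    [TopologicalSpace.NoetherianSpace X] [T0Space X] :
    topologicalKrullDim X = ⨆ x ∈ {x : X | IsClosed ({x} : Set X)}, FlatMor.localDim X x := by
  apply le_antisymm
  · apply Groth.Agent.TopDimLead.dim_le_of_forall
    intro l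
    obtain ⟨x, hx, hxc⟩ := l.head.isClosed.exists_closed_singleton
      (Groth.Agent.TopDimLead.head_nonempty l)
    exact le_iSup₂_of_le x hxc (Groth.Agent.TopDimLead.length_le_localDim l hx)
  · refine iSup₂_le fun x _ => ?_
    exact (iInf_le _ (⟨⊤, trivial⟩ : {U : TopologicalSpace.Opens X // x ∈ U})).trans
      (topologicalKrullDim_subspace_le X _)

end Groth.Agent.S5793
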