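import Groth.Statements.S5795
import Groth.Agent.Lib.TopDim_lead

set_option autoImplicit false
universe u
open TopDim

namespace Groth.Agent.S5795

/-- Let X be a Noetherian Kolmogoroff space and x a point of X. Then x is isolated in X if and only if
dim_x(X) = 0. -/
theorem result (X : Type u) [TopologicalSpace X]
    [TopologicalSpace.NoetherianSpace X] [T0Space X] (x : X) :
    IsOpen ({x} : Set X) ↔ FlatMor.localDim X x = 0 := by
  constructor
  · intro h
    apply le_antisymm
    · refine (iInf_le _ (⟨⟨{x}, h⟩, rfl⟩ : {U : TopologicalSpace.Opens X // x ∈ U})).trans ?_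
      have hd : topologicalKrullDim (({x} : Set X)) ≤ 0 := by
        haveI : Subsingleton (({x} : Set X)) :=
          (Set.subsingleton_coe _).mpr Set.subsingleton_singleton
        exact topologicalKrullDim_zero_of_discreteTopology _
      exact hd
    · refine le_iInf fun U => ?_
      haveI : Nonempty ((U.1 : Set X)) := ⟨⟨x, U.2⟩⟩
      exact Groth.Agent.TopDimLead.dim_nonneg_of_nonempty
  · intro h
    have hlt : FlatMor.localDim X x < 1 := by rw [h]; exact zero_lt_one
    obtain ⟨U, hU⟩ := iInf_lt_iff.mp hlt
    obtain ⟨_, hd⟩ := Groth.Agent.TopDimLead.finite_discrete_of_dim_lt_one hU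
    have hop : IsOpen ({⟨x, U.2⟩} : Set (U.1 : Set X)) := isOpen_discrete _
    have := U.1.isOpen.isOpenEmbedding_subtypeVal.isOpenMap _ hop
    simpa using this

end Groth.Agent.S5795
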