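import Groth.Statements.S5800
import Groth.Agent.Lib.TopDim_lead

set_option autoImplicit false
universe u
open TopDim

namespace Groth.Agent.S5800

/-- Let X be a topological space, x a point of X and (Y_i) a finite family of closed subsets each
containing x whose union is X. Then dim_x(X) = sup_i dim_x(Y_i). (The published statement lets the
Y_i be closed subsets of a neighbourhood U of x covering U; this row is the case U = X.) -/
theorem result (X : Type u) [TopologicalSpace X] (x : X)
    (ι : Type u) [Finite ι] (Y : ι → Set X) (hY : ∀ i, IsClosed (Y i)) (hx : ∀ i, x ∈ Y i)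
    (hcov : ⋃ i, Y i = Set.univ) :
    FlatMor.localDim X x = ⨆ i, FlatMor.localDim (Y i) ⟨x, hx i⟩ := by
  classical
  apply le_antisymm
  · -- choose optimal neighbourhoods in each Y i
    have hex : ∀ i, ∃ V : {V : TopologicalSpace.Opens (Y i) // (⟨x, hx i⟩ : Y i) ∈ V},
        topologicalKrullDim (V.1 : Set (Y i)) = FlatMor.localDim (Y i) ⟨x, hx i⟩ := by
      intro i
      haveI : Nonempty {V : TopologicalSpace.Opens (Y i) // (⟨x, hx i⟩ : Y i) ∈ V} :=
        ⟨⟨⊤, trivial⟩⟩
      obtain ⟨V, hV⟩ := ciInf_mem
        (fun V : {V : TopologicalSpace.Opens (Y i) // (⟨x, hx i⟩ : Y i) ∈ V} =>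
          topologicalKrullDim (V.1 : Set (Y i)))
      exact ⟨V, hV⟩
    choose V hV using hex
    have hU' : ∀ i, ∃ W : Set X, IsOpen W ∧ (Subtype.val ⁻¹' W : Set (Y i)) = ((V i).1 : Set (Y i)) :=
      fun i => isOpen_induced_iff.mp (V i).1.isOpen
    choose W hWo hWV using hU'
    have hxW : ∀ i, x ∈ W i := by
      intro i
      have : (⟨x, hx i⟩ : Y i) ∈ ((V i).1 : Set (Y i)) := (V i).2
      rw [← hWV i] at this
      exact this
    let U : TopologicalSpace.Opens X := ⟨⋂ i, W i, isOpen_iInter_of_finite hWo⟩
    have hxU : x ∈ U := Set.mem_iInter.mpr hxW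
    refine (iInf_le _ (⟨U, hxU⟩ : {U : TopologicalSpace.Opens X // x ∈ U})).trans ?_
    -- closed cover of U
    have hcovU : ⋃ i, (Subtype.val ⁻¹' (Y i) : Set (U : Set X)) = Set.univ := by
      apply Set.eq_univ_of_forall
      intro u
      have : (u : X) ∈ ⋃ i, Y i := by rw [hcov]; trivial
      obtain ⟨i, hi⟩ := Set.mem_iUnion.mp this
      exact Set.mem_iUnion.mpr ⟨i, hi⟩
    rw [Groth.Agent.TopDimLead.dim_eq_iSup_of_finite_closed_cover
      (fun i => (Subtype.val ⁻¹' (Y i) : Set (U : Set X)))
      (fun i => (hY i).preimage continuous_subtype_val) hcovU]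
    refine iSup_le fun i => le_iSup_of_le i ?_
    rw [← hV i]
    -- map into V i
    let f : (Subtype.val ⁻¹' (Y i) : Set (U : Set X)) → ((V i).1 : Set (Y i)) := fun w =>
      ⟨⟨w.1.1, w.2⟩, by
        have h1 : (w.1.1 : X) ∈ W i := Set.mem_iInter.mp w.1.2 i
        have : (⟨w.1.1, w.2⟩ : Y i) ∈ (Subtype.val ⁻¹' (W i) : Set (Y i)) := h1
        rw [hWV i] at this
        exact this⟩
    have hfc : Continuous f := by
      apply Continuous.subtype_mk
      apply Continuous.subtype_mk
      exact continuous_subtype_val.comp continuous_subtype_val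
    have hf : Topology.IsInducing f := by
      have h1 : Topology.IsInducing
          (fun w : (Subtype.val ⁻¹' (Y i) : Set (U : Set X)) => (w.1.1 : X)) :=
        Topology.IsInducing.subtypeVal.comp Topology.IsInducing.subtypeVal
      exact Topology.IsInducing.of_comp hfc
        (continuous_subtype_val.comp continuous_subtype_val) h1
    exact hf.topologicalKrullDim_le
  · refine iSup_le fun i => ?_
    refine le_iInf fun U => ?_
    let V : {V : TopologicalSpace.Opens (Y i) // (⟨x, hx i⟩ : Y i) ∈ V} :=
      ⟨⟨Subtype.val ⁻¹' (U.1 : Set X), U.1.isOpen.preimage continuous_subtype_val⟩, U.2⟩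
    refine (iInf_le _ V).trans ?_
    let f : ((V.1 : Set (Y i))) → ((U.1 : Set X)) := fun v => ⟨v.1.1, v.2⟩
    have hfc : Continuous f := by
      apply Continuous.subtype_mk
      exact continuous_subtype_val.comp continuous_subtype_val
    have hf : Topology.IsInducing f := by
      have h1 : Topology.IsInducing (fun v : ((V.1 : Set (Y i))) => (v.1.1 : X)) :=
        Topology.IsInducing.subtypeVal.comp Topology.IsInducing.subtypeVal
      exact Topology.IsInducing.of_comp hfc continuous_subtype_val h1
    exact hf.topologicalKrullDim_le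

end Groth.Agent.S5800
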