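import Groth.Statements.S5801
import Mathlib.Algebra.Regular.SMul

set_option autoImplicit false
universe u
open scoped Pointwise
open EGA41
open Pointwise

namespace Groth.Agent.S5801

/-- Let A be a ring, M an A-module and f ∈ A, and consider the canonical surjection (M/fM)[T] → gr(M)
for the (f)-adic filtration, whose injectivity says: for all k ≥ 0 and x ∈ M, f^k x ∈ f^(k+1) M
implies x ∈ fM. If f is M-regular this map is bijective; conversely, if it is bijective and M is
separated for the (f)-adic topology (the intersection of the f^k M is zero), then f is M-regular. -/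
theorem result (A : Type u) [CommRing A] (M : Type u)
    [AddCommGroup M] [Module A M] (f : A) :
    (IsSMulRegular M f →
        ∀ (k : ℕ) (x : M), f ^ k • x ∈ f ^ (k + 1) • (⊤ : Submodule A M) → x ∈ f • (⊤ : Submodule A M)) ∧
      ((⨅ k : ℕ, f ^ k • (⊤ : Submodule A M)) = ⊥ →
        (∀ (k : ℕ) (x : M), f ^ k • x ∈ f ^ (k + 1) • (⊤ : Submodule A M) → x ∈ f • (⊤ : Submodule A M)) →
          IsSMulRegular M f) := by
  constructor
  · intro hreg k x hx
    obtain ⟨y, -, hy⟩ := (Submodule.mem_smul_pointwise_iff_exists _ _ _).mp hx
    have h1 : x = f • y := by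
      apply hreg.pow k
      show f ^ k • x = f ^ k • (f • y)
      rw [smul_smul, ← pow_succ, hy]
    rw [h1]
    exact Submodule.smul_mem_pointwise_smul _ _ _ Submodule.mem_top
  · intro hsep hcond
    have key : ∀ x : M, f • x = 0 → x = 0 := by
      intro x hx
      have hmem : ∀ k : ℕ, x ∈ f ^ k • (⊤ : Submodule A M) := by
        intro k
        induction k with
        | zero => rw [pow_zero, one_smul]; exact Submodule.mem_top
        | succ k ih =>
          obtain ⟨y, -, hy⟩ := (Submodule.mem_smul_pointwise_iff_exists _ _ _).mp ih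
          have h1 : f ^ (k + 1) • y ∈ f ^ (k + 1 + 1) • (⊤ : Submodule A M) := by
            have h0 : f ^ (k + 1) • y = 0 := by rw [pow_succ', mul_smul, hy, hx]
            rw [h0]
            exact Submodule.zero_mem _
          have h2 := hcond (k + 1) y h1
          obtain ⟨z, -, hz⟩ := (Submodule.mem_smul_pointwise_iff_exists _ _ _).mp h2
          rw [← hy, ← hz, smul_smul, ← pow_succ]
          exact Submodule.smul_mem_pointwise_smul _ _ _ Submodule.mem_top
      have h3 : x ∈ (⨅ k : ℕ, f ^ k • (⊤ : Submodule A M)) := (Submodule.mem_iInf _).mpr hmem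
      rw [hsep] at h3
      exact (Submodule.mem_bot A).mp h3
    intro x y hxy
    have hxy' : f • x = f • y := hxy
    have h4 : f • (x - y) = 0 := by rw [smul_sub]; exact sub_eq_zero.mpr hxy'
    exact sub_eq_zero.mp (key _ h4)

end Groth.Agent.S5801
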