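import Groth.Statements.S5806
import Mathlib.RingTheory.Flat.Stability
import Mathlib.LinearAlgebra.TensorProduct.RightExactness
import Mathlib.RingTheory.Regular.RegularSequence
import Mathlib.Algebra.Exact.Basic

set_option autoImplicit false
universe u
open EGA41

namespace Groth.Agent.S5806

open TensorProduct in
theorem lTensor_injective_core {A : Type u} [CommRing A] {N' N N'' : Type u}
    [AddCommGroup N'] [AddCommGroup N] [AddCommGroup N''] [Module A N'] [Module A N]
    [Module A N''] (f : N' →ₗ[A] N) (g : N →ₗ[A] N'') (hf : Function.Injective f)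
    (hfg : Function.Exact f g) (hg : Function.Surjective g) [Module.Flat A N'']
    (Q : Type u) [AddCommGroup Q] [Module A Q]
    (F : Type u) [AddCommGroup F] [Module A F] [Module.Flat A F] (π : F →ₗ[A] Q)
    (hπ : Function.Surjective π) : Function.Injective (f.lTensor Q) := by
  classical
  have hιπ : Function.Exact (LinearMap.ker π).subtype π := LinearMap.exact_subtype_ker_map _
  rw [injective_iff_map_eq_zero]
  intro x hx
  obtain ⟨y, rfl⟩ := LinearMap.rTensor_surjective N' hπ x
  have h2 : (π.rTensor N) ((f.lTensor F) y) = 0 := by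
    have e : (π.rTensor N) ((f.lTensor F) y) = (f.lTensor Q) ((π.rTensor N') y) := by
      rw [← LinearMap.comp_apply, ← LinearMap.comp_apply, LinearMap.rTensor_comp_lTensor,
        LinearMap.lTensor_comp_rTensor]
    rw [e, hx]
  obtain ⟨r, hr⟩ := (rTensor_exact N hιπ hπ _).1 h2
  have h3 : ((LinearMap.ker π).subtype.rTensor N'') ((g.lTensor _) r) = 0 := by
    have e : ((LinearMap.ker π).subtype.rTensor N'') ((g.lTensor _) r) =
        (g.lTensor F) (((LinearMap.ker π).subtype.rTensor N) r) := by
      rw [← LinearMap.comp_apply, ← LinearMap.comp_apply, LinearMap.rTensor_comp_lTensor,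
        LinearMap.lTensor_comp_rTensor]
    rw [e, hr, ← LinearMap.comp_apply, ← LinearMap.lTensor_comp, hfg.linearMap_comp_eq_zero,
      LinearMap.lTensor_zero, LinearMap.zero_apply]
  have h3' : (g.lTensor (LinearMap.ker π)) r = 0 := by
    have hinj := Module.Flat.rTensor_preserves_injective_linearMap (M := N'')
      (LinearMap.ker π).subtype (Submodule.subtype_injective _)
    exact hinj (by rw [h3, map_zero])
  obtain ⟨r', hr'⟩ := (lTensor_exact _ hfg hg _).1 h3'
  have h4 : (f.lTensor F) (((LinearMap.ker π).subtype.rTensor N') r') = (f.lTensor F) y := by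
    have e : (f.lTensor F) (((LinearMap.ker π).subtype.rTensor N') r') =
        ((LinearMap.ker π).subtype.rTensor N) ((f.lTensor _) r') := by
      rw [← LinearMap.comp_apply, ← LinearMap.comp_apply, LinearMap.rTensor_comp_lTensor,
        LinearMap.lTensor_comp_rTensor]
    rw [e, hr', hr]
  have hFinj := Module.Flat.lTensor_preserves_injective_linearMap (M := F) f hf
  have h5 := hFinj h4
  rw [← h5, ← LinearMap.comp_apply, ← LinearMap.rTensor_comp, hιπ.linearMap_comp_eq_zero,
    LinearMap.rTensor_zero, LinearMap.zero_apply]

open TensorProduct in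
theorem lTensor_injective_of_flat_cokernel {A : Type u} [CommRing A] {N' N N'' : Type u}
    [AddCommGroup N'] [AddCommGroup N] [AddCommGroup N''] [Module A N'] [Module A N]
    [Module A N''] (f : N' →ₗ[A] N) (g : N →ₗ[A] N'') (hf : Function.Injective f)
    (hfg : Function.Exact f g) (hg : Function.Surjective g) [Module.Flat A N'']
    (Q : Type u) [AddCommGroup Q] [Module A Q] : Function.Injective (f.lTensor Q) := by
  classical
  have hπ : Function.Surjective (Finsupp.linearCombination A (id : Q → Q)) := fun q =>
    ⟨Finsupp.single q 1, by rw [Finsupp.linearCombination_single, one_smul]; rfl⟩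
  exact lTensor_injective_core f g hf hfg hg Q (Q →₀ A) (Finsupp.linearCombination A (id : Q → Q)) hπ

open TensorProduct in
/-- Let A be a ring, B a commutative A-algebra, (f_i)_{1 ≤ i ≤ n} elements of B and M a B-module.
Suppose (f_i) is M-regular and each of the A-modules M/(f_1 M + ... + f_i M), 0 ≤ i ≤ n, is flat.
Then for every ring homomorphism A → A', writing M' = M ⊗_A A' and f'_i = f_i ⊗ 1, the sequence
(f'_i) is M'-regular and the A'-modules M'/(f'_1 M' + ... + f'_{i-1} M') are flat: concretely,
identifying M'/(f'_1 M' + ... + f'_{i-1} M') with A' ⊗_A (M/(f_1 M + ... + f_{i-1} M)),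
multiplication by f_i on the latter is injective and the latter is A'-flat, for 1 ≤ i ≤ n. (The
published hypothesis lists only the flatness of M/(f_1 M + ... + f_{i-1} M) for 1 ≤ i ≤ n, omitting
M/(f_1 M + ... + f_n M); with that omission the case n = 1, A = B = k[t], M = k[t], f_1 = t, A' =
k[t]/(t) fails, since t acts as zero on k ⊗_A M = k, and the published proof uses the flatness of
M/(f_1 M + ... + f_i M) for every i ≤ n; so flatness of all these quotients is assumed here.) -/
theorem result (A B : Type u) [CommRing A]
    [CommRing B] [Algebra A B] (M : Type u) [AddCommGroup M] [Module B M] [Module A M] [IsScalarTower A B M]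
    (fs : List B) (hreg : RingTheory.Sequence.IsWeaklyRegular M fs)
    (hflat : ∀ i : ℕ, i ≤ fs.length → Module.Flat A (M ⧸ (Ideal.ofList (fs.take i) • (⊤ : Submodule B M))))
    (A' : Type u) [CommRing A'] [Algebra A A'] (i : Fin fs.length) :
    Function.Injective (LinearMap.lTensor A'
        (((LinearMap.lsmul B (M ⧸ (Ideal.ofList (fs.take i) • (⊤ : Submodule B M)))) (fs.get i)).restrictScalars A)) ∧
      Module.Flat A' (A' ⊗[A] (M ⧸ (Ideal.ofList (fs.take i) • (⊤ : Submodule B M)))) := by
  classical
  have hi : (i : ℕ) < fs.length := i.2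
  have hle : (Ideal.ofList (fs.take i) • (⊤ : Submodule B M)) ≤
      (Ideal.ofList (fs.take (i + 1)) • (⊤ : Submodule B M)) := by
    rw [List.take_succ_eq_append_getElem hi, Ideal.ofList_append, Submodule.sup_smul]
    exact le_sup_left
  haveI := hflat i (le_of_lt hi)
  haveI := hflat (i + 1) hi
  refine ⟨?_, inferInstance⟩
  refine lTensor_injective_of_flat_cokernel
    (((LinearMap.lsmul B (M ⧸ (Ideal.ofList (fs.take i) • (⊤ : Submodule B M))))
      (fs.get i)).restrictScalars A)
    ((Submodule.factor hle).restrictScalars A) ?_ ?_ ?_ A'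
  · have hr := hreg.regular_mod_prev i hi
    intro x y hxy
    exact hr hxy
  · intro x
    obtain ⟨m, rfl⟩ := Submodule.Quotient.mk_surjective _ x
    constructor
    · intro h0
      have hm : m ∈ Ideal.ofList (fs.take (i + 1)) • (⊤ : Submodule B M) :=
        (Submodule.Quotient.mk_eq_zero _).1 h0
      rw [List.take_succ_eq_append_getElem hi, Ideal.ofList_append, Submodule.sup_smul,
        Ideal.ofList_singleton, Submodule.ideal_span_singleton_smul] at hm
      obtain ⟨y, hy, z, hz, rfl⟩ := Submodule.mem_sup.1 hm
      obtain ⟨m', -, rfl⟩ := (Submodule.mem_smul_pointwise_iff_exists _ _ _).1 hz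
      refine ⟨Submodule.Quotient.mk m', ?_⟩
      show fs.get i • (Submodule.Quotient.mk m' :
          M ⧸ (Ideal.ofList (fs.take i) • (⊤ : Submodule B M))) =
        (Submodule.Quotient.mk (y + fs[(i : ℕ)] • m') :
          M ⧸ (Ideal.ofList (fs.take i) • (⊤ : Submodule B M)))
      rw [Submodule.Quotient.mk_add, (Submodule.Quotient.mk_eq_zero _).2 hy, zero_add,
        Submodule.Quotient.mk_smul]
      rfl
    · rintro ⟨x', hx'⟩
      obtain ⟨m', rfl⟩ := Submodule.Quotient.mk_surjective _ x'
      rw [← hx']
      show (Submodule.Quotient.mk (fs.get i • m') :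
          M ⧸ (Ideal.ofList (fs.take (i + 1)) • (⊤ : Submodule B M))) = 0
      rw [Submodule.Quotient.mk_eq_zero, List.take_succ_eq_append_getElem hi, Ideal.ofList_append,
        Submodule.sup_smul]
      apply Submodule.mem_sup_right
      exact Submodule.smul_mem_smul (Ideal.subset_span (by simp)) Submodule.mem_top
  · exact Submodule.factor_surjective hle

end Groth.Agent.S5806
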