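import Groth.Statements.S5807
import Mathlib
-- import your own Groth.Agent.* helpers here

set_option autoImplicit false
universe u
open EGA41
set_option maxSynthPendingDepth 3

namespace Groth.Agent.S5807

/-- Let A be a Noetherian ring which is a quotient of a regular ring B, and C an A-algebra of finite
type. Then every ring of fractions of C is a quotient of a regular ring. -/
theorem result (B A C : Type u) [CommRing B]
    [IsRegularRing B] [CommRing A] (π : B →+* A) (hπ : Function.Surjective π) [CommRing C] [Algebra A C]
    [Algebra.FiniteType A C] (S : Submonoid C) :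
    ∃ (R : Type u) (_ : CommRing R) (_ : IsRegularRing R) (f : R →+* Localization S),
      Function.Surjective f := by
  classical
  obtain ⟨n, f, hf⟩ := Algebra.FiniteType.iff_quotient_mvPolynomial''.1
    (inferInstance : Algebra.FiniteType A C)
  obtain ⟨g, hgdef⟩ : ∃ g : MvPolynomial (Fin n) B →+* C,
      g = f.toRingHom.comp (MvPolynomial.map π) := ⟨_, rfl⟩
  have hg : Function.Surjective g := by
    rw [hgdef]
    exact hf.comp (MvPolynomial.map_surjective π hπ)
  have hreg : IsRegularRing (Localization (S.comap g)) := by
    haveI : IsNoetherianRing (Localization (S.comap g)) :=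
      IsLocalization.isNoetherianRing (S.comap g) _ inferInstance
    rw [isRegularRing_iff]
    intro p hp
    exact IsRegularLocalRing.of_ringEquiv
      (IsLocalization.localizationLocalizationAtPrimeIsoLocalization (S.comap g) p).toRingEquiv
  refine ⟨Localization (S.comap g), inferInstance, hreg,
    IsLocalization.map (M := S.comap g) (T := S) (Localization S) g (le_refl _), ?_⟩
  intro z
  obtain ⟨c, s, rfl⟩ := IsLocalization.exists_mk'_eq S z
  obtain ⟨x, rfl⟩ := hg c
  obtain ⟨y, hy⟩ := hg s.1
  have hyM : y ∈ S.comap g := by
    show g y ∈ S
    rw [hy]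
    exact s.2
  refine ⟨IsLocalization.mk' _ x ⟨y, hyM⟩, ?_⟩
  rw [IsLocalization.map_mk']
  congr 1
  exact Subtype.ext hy

end Groth.Agent.S5807
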