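import Groth.Statements.S5810
import Mathlib
import Groth.Agent.Lib.CompletionRegular_helper5
import Groth.Agent.Lib.DepthFlat_helper5

set_option autoImplicit false
universe u
open EGA41

namespace Groth.Agent.S5810

/-- Let A be a Noetherian local ring with maximal ideal m and M a finitely generated A-module; write Â
and M̂ for the m-adic completions. Then prof_A(M) = prof_Â(M̂). -/
theorem result (A : Type u) [CommRing A] [IsLocalRing A] [IsNoetherianRing A] (M : Type u)
    [AddCommGroup M] [Module A M] [Module.Finite A M] :
    LocCoh.depth (AdicCompletion (IsLocalRing.maximalIdeal A) A) (AdicCompletion (IsLocalRing.maximalIdeal A) M) =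
      LocCoh.depth A M := by
  have hne : IsLocalRing.maximalIdeal A ≠ ⊤ := (IsLocalRing.maximalIdeal.isMaximal A).ne_top
  haveI := Groth.Agent.RegularLib.isNoetherianRing_adicCompletion A (IsLocalRing.maximalIdeal A)
  haveI : Module.FaithfullyFlat A (AdicCompletion (IsLocalRing.maximalIdeal A) A) :=
    Module.FaithfullyFlat.of_flat_of_isLocalHom
  unfold LocCoh.depth
  rw [← Groth.Agent.DepthLib.idealDepth_congr _ _
    (AdicCompletion.ofTensorProductEquivOfFiniteNoetherian (IsLocalRing.maximalIdeal A) M),
    AdicCompletion.maximalIdeal_eq_map]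
  exact Groth.Agent.DepthLib.idealDepth_baseChange_eq A _ _ M

end Groth.Agent.S5810
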