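import Groth.Statements.S5813
import Groth.Agent.Lib.Exal_helper9
import Mathlib.Tactic.Ring

set_option autoImplicit false
universe u
open EGA41

namespace Groth.Agent.S5813

/-- Injectivity, commutative form. Let J be an ideal of the commutative ring B, C = B ⧸ J, M a C-module.
Two B-extensions of C by M whose induced linear maps J/J² → M (obtained from the restriction to J of
the structure map B → E) coincide are equivalent. -/
theorem result {B : Type u} [CommRing B] (J : Ideal B)
    {M : Type u} [AddCommGroup M] [Module (B ⧸ J) M] [Module B M] [IsScalarTower B (B ⧸ J) M]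
    (X Y : Exal.Ext B (B ⧸ J) M) (h : X.conormalMap J = Y.conormalMap J) :
    Nonempty (X.Equiv Y) := by
  classical
  have hw : ∀ z : J, X.idealToKer J z = Y.idealToKer J z := by
    intro z
    have h1 : X.conormalMap J (J.toCotangent z) = X.idealToKer J z := rfl
    have h2 : Y.conormalMap J (J.toCotangent z) = Y.idealToKer J z := rfl
    rw [← h1, ← h2, h]
  have hwX : ∀ z : J, X.incl (X.idealToKer J z) = algebraMap B X.E z :=
    fun z => X.incl_kerLift (algebraMap B X.E z) (X.proj_algebraMap_eq_zero J z)
  have hwY : ∀ z : J, Y.incl (Y.idealToKer J z) = algebraMap B Y.E z :=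
    fun z => Y.incl_kerLift (algebraMap B Y.E z) (Y.proj_algebraMap_eq_zero J z)
  have hpX : ∀ b : B, X.proj (algebraMap B X.E b) = Ideal.Quotient.mk J b := fun b =>
    X.proj.commutes b
  have hpY : ∀ b : B, Y.proj (algebraMap B Y.E b) = Ideal.Quotient.mk J b := fun b =>
    Y.proj.commutes b
  let bb : X.E → B := fun x => Function.surjInv Ideal.Quotient.mk_surjective (X.proj x)
  have hbb : ∀ x, Ideal.Quotient.mk J (bb x) = X.proj x := fun x =>
    Function.surjInv_eq Ideal.Quotient.mk_surjective (X.proj x)
  have hker : ∀ x, X.proj (x - algebraMap B X.E (bb x)) = 0 := by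
    intro x
    rw [map_sub, hpX, hbb, sub_self]
  let zz : X.E → M := fun x => X.kerLift _ (hker x)
  have hzz : ∀ x, X.incl (zz x) = x - algebraMap B X.E (bb x) := fun x => X.incl_kerLift _ (hker x)
  let φ₀ : X.E → Y.E := fun x => algebraMap B Y.E (bb x) + Y.incl (zz x)
  have hrep : ∀ x : X.E, x = algebraMap B X.E (bb x) + X.incl (zz x) := by
    intro x
    rw [hzz]
    ring
  have key : ∀ (b : B) (z : M), φ₀ (algebraMap B X.E b + X.incl z) =
      algebraMap B Y.E b + Y.incl z := by
    intro b z
    set x := algebraMap B X.E b + X.incl z with hx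
    have hpx : X.proj x = Ideal.Quotient.mk J b := by
      rw [hx, map_add, hpX, Groth.Agent.Lib.Exal_helper9.proj_incl, add_zero]
    have hj : b - bb x ∈ J := by
      rw [← Ideal.Quotient.eq, hbb, hpx]
    have h1 : X.incl (zz x) = X.incl (X.idealToKer J ⟨b - bb x, hj⟩ + z) := by
      rw [hzz, map_add, hwX]
      show x - algebraMap B X.E (bb x) = algebraMap B X.E (b - bb x) + X.incl z
      rw [hx, map_sub]
      ring
    have h2 : zz x = X.idealToKer J ⟨b - bb x, hj⟩ + z := X.isExtension.incl_injective h1
    show algebraMap B Y.E (bb x) + Y.incl (zz x) = algebraMap B Y.E b + Y.incl z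
    rw [h2, hw, map_add, hwY]
    show algebraMap B Y.E (bb x) + (algebraMap B Y.E (b - bb x) + Y.incl z) = _
    rw [map_sub]
    ring
  have hmulX : ∀ (b b' : B) (z z' : M),
      (algebraMap B X.E b + X.incl z) * (algebraMap B X.E b' + X.incl z') =
        algebraMap B X.E (b * b') + X.incl (Ideal.Quotient.mk J b • z' + Ideal.Quotient.mk J b' • z) := by
    intro b b' z z'
    have e1 : algebraMap B X.E b * X.incl z' = X.incl (Ideal.Quotient.mk J b • z') := by
      rw [X.isExtension.mul_incl, hpX]
    have e2 : X.incl z * algebraMap B X.E b' = X.incl (Ideal.Quotient.mk J b' • z) := by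
      rw [mul_comm, X.isExtension.mul_incl, hpX]
    have e3 : X.incl z * X.incl z' = 0 := Groth.Agent.Lib.Exal_helper9.incl_mul_incl X _ _
    rw [add_mul, mul_add, mul_add, e1, e2, e3, map_mul, map_add]
    ring
  have hmulY : ∀ (b b' : B) (z z' : M),
      (algebraMap B Y.E b + Y.incl z) * (algebraMap B Y.E b' + Y.incl z') =
        algebraMap B Y.E (b * b') + Y.incl (Ideal.Quotient.mk J b • z' + Ideal.Quotient.mk J b' • z) := by
    intro b b' z z'
    have e1 : algebraMap B Y.E b * Y.incl z' = Y.incl (Ideal.Quotient.mk J b • z') := by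
      rw [Y.isExtension.mul_incl, hpY]
    have e2 : Y.incl z * algebraMap B Y.E b' = Y.incl (Ideal.Quotient.mk J b' • z) := by
      rw [mul_comm, Y.isExtension.mul_incl, hpY]
    have e3 : Y.incl z * Y.incl z' = 0 := Groth.Agent.Lib.Exal_helper9.incl_mul_incl Y _ _
    rw [add_mul, mul_add, mul_add, e1, e2, e3, map_mul, map_add]
    ring
  let φ : X.E →ₐ[B] Y.E :=
    { toFun := φ₀
      map_one' := by
        have h1 : (1 : X.E) = algebraMap B X.E 1 + X.incl 0 := by rw [map_one, map_zero, add_zero]
        show φ₀ 1 = 1
        rw [h1, key, map_one, map_zero, add_zero]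
      map_mul' := fun x y => by
        show φ₀ (x * y) = φ₀ x * φ₀ y
        rw [hrep x, hrep y, hmulX, key, key, key, hmulY]
      map_zero' := by
        have h1 : (0 : X.E) = algebraMap B X.E 0 + X.incl 0 := by rw [map_zero, map_zero, add_zero]
        show φ₀ 0 = 0
        rw [h1, key, map_zero, map_zero, add_zero]
      map_add' := fun x y => by
        show φ₀ (x + y) = φ₀ x + φ₀ y
        have h1 : algebraMap B X.E (bb x) + X.incl (zz x) + (algebraMap B X.E (bb y) + X.incl (zz y)) =
            algebraMap B X.E (bb x + bb y) + X.incl (zz x + zz y) := by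
          rw [map_add, map_add]; ring
        rw [hrep x, hrep y, h1, key, key, key, map_add, map_add]
        ring
      commutes' := fun b => by
        have h1 : algebraMap B X.E b = algebraMap B X.E b + X.incl 0 := by rw [map_zero, add_zero]
        show φ₀ (algebraMap B X.E b) = algebraMap B Y.E b
        rw [h1, key, map_zero, add_zero] }
  refine ⟨Groth.Agent.Lib.Exal_helper9.equivOfHom X Y φ (fun x => ?_) (fun z => ?_)⟩
  · show Y.proj (φ₀ x) = X.proj x
    conv_rhs => rw [hrep x]
    show Y.proj (algebraMap B Y.E (bb x) + Y.incl (zz x)) = _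
    rw [map_add, map_add, hpY, hpX, Groth.Agent.Lib.Exal_helper9.proj_incl,
      Groth.Agent.Lib.Exal_helper9.proj_incl]
  · show φ₀ (X.incl z) = Y.incl z
    have h1 : X.incl z = algebraMap B X.E 0 + X.incl z := by rw [map_zero, zero_add]
    rw [h1, key, map_zero, zero_add]

end Groth.Agent.S5813
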