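import Groth.Statements.S5814
import Mathlib.Tactic.Abel
import Mathlib.Algebra.TrivSqZeroExt.Basic
import Mathlib.RingTheory.Ideal.Quotient.Operations

set_option autoImplicit false
universe u
open EGA41

namespace Groth.Agent.S5814

attribute [local instance] Exal.opModule Exal.isCentralScalar_opModule

/-- Surjectivity, commutative form. Let J be an ideal of the commutative ring B, C = B ⧸ J, M a
C-module. Every linear map w : J/J² → M arises from a B-extension of C by M: there is an extension
whose induced map J/J² → M is w. Together with the injectivity statement this is the canonical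
bijection between Hom_C(J/J², M) and the classes of B-extensions of C by M. -/
theorem result {B : Type u} [CommRing B] (J : Ideal B)
    {M : Type u} [AddCommGroup M] [Module (B ⧸ J) M] [Module B M] [IsScalarTower B (B ⧸ J) M]
    (w : J.Cotangent →ₗ[B] M) :
    ∃ X : Exal.Ext B (B ⧸ J) M, X.conormalMap J = w := by
  classical
  have hJM : ∀ z : B, z ∈ J → ∀ m : M, z • m = 0 := by
    intro z hz m
    rw [← IsScalarTower.algebraMap_smul (B ⧸ J) z m, Ideal.Quotient.algebraMap_eq,
      Ideal.Quotient.eq_zero_iff_mem.2 hz, zero_smul]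
  let N : Ideal (TrivSqZeroExt B M) :=
    { carrier := {x | ∃ z : J, x = TrivSqZeroExt.inl (z : B) -
        TrivSqZeroExt.inr (w (J.toCotangent z))}
      zero_mem' := ⟨0, by
        rw [Submodule.coe_zero, map_zero, map_zero, TrivSqZeroExt.inl_zero,
          TrivSqZeroExt.inr_zero, sub_zero]⟩
      add_mem' := by
        rintro _ _ ⟨z, rfl⟩ ⟨z', rfl⟩
        refine ⟨z + z', ?_⟩
        rw [Submodule.coe_add, map_add, map_add, TrivSqZeroExt.inl_add, TrivSqZeroExt.inr_add]
        abel
      smul_mem' := by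
        rintro c _ ⟨z, rfl⟩
        refine ⟨TrivSqZeroExt.fst c • z, ?_⟩
        rw [smul_eq_mul]
        have h1 : w (J.toCotangent (TrivSqZeroExt.fst c • z)) =
            TrivSqZeroExt.fst c • w (J.toCotangent z) := by rw [map_smul, map_smul]
        have h2 : MulOpposite.op (z : B) • TrivSqZeroExt.snd c = 0 := by
          rw [op_smul_eq_smul]
          exact hJM _ z.2 _
        refine TrivSqZeroExt.ext ?_ ?_
        · simp only [TrivSqZeroExt.fst_mul, TrivSqZeroExt.fst_sub, TrivSqZeroExt.fst_inl,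
            TrivSqZeroExt.fst_inr, sub_zero]
          rfl
        · simp only [TrivSqZeroExt.snd_mul, TrivSqZeroExt.snd_sub, TrivSqZeroExt.fst_sub,
            TrivSqZeroExt.snd_inl, TrivSqZeroExt.snd_inr, TrivSqZeroExt.fst_inl,
            TrivSqZeroExt.fst_inr, zero_sub, sub_zero, h1, h2, smul_neg, add_zero] }
  have hmemN : ∀ t : TrivSqZeroExt B M, t ∈ N ↔ ∃ z : J, t = TrivSqZeroExt.inl (z : B) -
        TrivSqZeroExt.inr (w (J.toCotangent z)) := fun t => Iff.rfl
  let g : TrivSqZeroExt B M →ₐ[B] B ⧸ J :=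
    (Ideal.Quotient.mkₐ B J).comp (TrivSqZeroExt.fstHom B B M)
  have hg : ∀ a : TrivSqZeroExt B M, a ∈ N → g a = 0 := by
    intro a ha
    obtain ⟨z, rfl⟩ := (hmemN a).1 ha
    show Ideal.Quotient.mk J (TrivSqZeroExt.fst (TrivSqZeroExt.inl (z : B) -
        TrivSqZeroExt.inr (w (J.toCotangent z)))) = 0
    rw [TrivSqZeroExt.fst_sub, TrivSqZeroExt.fst_inl, TrivSqZeroExt.fst_inr, sub_zero,
      Ideal.Quotient.eq_zero_iff_mem]
    exact z.2
  let pr : (TrivSqZeroExt B M ⧸ N) →ₐ[B] B ⧸ J := Ideal.Quotient.liftₐ N g hg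
  let ic : M →+ (TrivSqZeroExt B M ⧸ N) :=
    ((Ideal.Quotient.mk N : TrivSqZeroExt B M →+* _) : TrivSqZeroExt B M →+ _).comp
      (TrivSqZeroExt.inrHom B M).toAddMonoidHom
  have hpr : ∀ t : TrivSqZeroExt B M, pr (Ideal.Quotient.mk N t) =
      Ideal.Quotient.mk J (TrivSqZeroExt.fst t) := fun t => rfl
  have hic : ∀ m : M, ic m = Ideal.Quotient.mk N (TrivSqZeroExt.inr m) := fun m => rfl
  have hext : Exal.IsExtension pr ic :=
    { proj_surjective := fun c => by
        obtain ⟨b, rfl⟩ := Ideal.Quotient.mk_surjective c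
        exact ⟨Ideal.Quotient.mk N (TrivSqZeroExt.inl b), by rw [hpr, TrivSqZeroExt.fst_inl]⟩
      incl_injective := by
        rw [injective_iff_map_eq_zero]
        intro m hm
        rw [hic, Ideal.Quotient.eq_zero_iff_mem] at hm
        obtain ⟨z, hz⟩ := (hmemN _).1 hm
        have h1 := congrArg TrivSqZeroExt.fst hz
        have h2 := congrArg TrivSqZeroExt.snd hz
        simp only [TrivSqZeroExt.fst_inr, TrivSqZeroExt.fst_sub, TrivSqZeroExt.fst_inl,
          sub_zero] at h1
        simp only [TrivSqZeroExt.snd_inr, TrivSqZeroExt.snd_sub, TrivSqZeroExt.snd_inl,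
          zero_sub] at h2
        have hz0 : z = 0 := Subtype.ext h1.symm
        rw [h2, hz0, map_zero, map_zero, neg_zero]
      exact := fun x => by
        obtain ⟨t, rfl⟩ := Ideal.Quotient.mk_surjective x
        constructor
        · intro h
          rw [hpr, Ideal.Quotient.eq_zero_iff_mem] at h
          refine ⟨TrivSqZeroExt.snd t + w (J.toCotangent ⟨TrivSqZeroExt.fst t, h⟩), ?_⟩
          rw [hic]
          refine (Ideal.Quotient.eq.2 ((hmemN _).2 ⟨⟨TrivSqZeroExt.fst t, h⟩, ?_⟩)).symm
          refine TrivSqZeroExt.ext ?_ ?_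
          · simp only [TrivSqZeroExt.fst_sub, TrivSqZeroExt.fst_inl, TrivSqZeroExt.fst_inr]
          · simp only [TrivSqZeroExt.snd_sub, TrivSqZeroExt.snd_inl, TrivSqZeroExt.snd_inr]
            abel
        · rintro ⟨m, hm⟩
          rw [← hm, hic, hpr, TrivSqZeroExt.fst_inr, map_zero]
      mul_incl := fun x z => by
        obtain ⟨t, rfl⟩ := Ideal.Quotient.mk_surjective x
        rw [hic, hpr, hic, ← map_mul]
        congr 1
        refine TrivSqZeroExt.ext ?_ ?_
        · rw [TrivSqZeroExt.fst_mul, TrivSqZeroExt.fst_inr, TrivSqZeroExt.fst_inr, mul_zero]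
        · rw [TrivSqZeroExt.snd_mul, TrivSqZeroExt.fst_inr, TrivSqZeroExt.snd_inr,
            TrivSqZeroExt.snd_inr, MulOpposite.op_zero, zero_smul, add_zero,
            ← Ideal.Quotient.algebraMap_eq, algebraMap_smul] }
  let X : Exal.Ext B (B ⧸ J) M :=
    { E := TrivSqZeroExt B M ⧸ N
      proj := pr
      incl := ic
      isExtension := hext }
  refine ⟨X, ?_⟩
  apply LinearMap.ext
  intro y
  obtain ⟨z, rfl⟩ := J.toCotangent_surjective y
  have h1 : X.conormalMap J (J.toCotangent z) = X.idealToKer J z := rfl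
  rw [h1]
  apply X.isExtension.incl_injective
  have h2 : X.incl (X.idealToKer J z) = algebraMap B X.E z :=
    X.incl_kerLift _ (X.proj_algebraMap_eq_zero J z)
  rw [h2]
  have h3 : algebraMap B X.E (z : B) = Ideal.Quotient.mk N (TrivSqZeroExt.inl (z : B)) := rfl
  rw [h3]
  show _ = Ideal.Quotient.mk N (TrivSqZeroExt.inr (w (J.toCotangent z)))
  rw [Ideal.Quotient.eq]
  exact (hmemN _).2 ⟨z, rfl⟩

end Groth.Agent.S5814
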