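import Groth.Statements.S5815
import Groth.Agent.Lib.Exal_helper9

set_option autoImplicit false
universe u
open EGA41

namespace Groth.Agent.S5815

/-- Discrete case. A commutative A-algebra B is formally smooth if and only if every A-extension of B by
a B-module L is trivial (has an A-algebra section). A and B are taken in one universe and L ranges
over that universe. (The published statement is for topological rings, with direct-limit classes of
extensions; this row is its discrete case.) -/
theorem result (A B : Type u) [CommRing A] [CommRing B] [Algebra A B] :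
    Algebra.FormallySmooth A B ↔
      ∀ (L : Type u) [AddCommGroup L] [Module B L] (X : Exal.Ext A B L), X.IsTrivial := by
  constructor
  · intro h L _ _ X
    exact Groth.Agent.Lib.Exal_helper9.isTrivial_of_formallySmooth X
  · intro h
    apply Algebra.FormallySmooth.of_comp_surjective
    intro B' _ _ I hI f
    letI : Algebra B (B' ⧸ I) := f.toRingHom.toAlgebra
    haveI : IsScalarTower A B (B' ⧸ I) :=
      IsScalarTower.of_algebraMap_eq (fun a => (f.commutes a).symm)
    letI : Module B I.Cotangent := Module.compHom I.Cotangent f.toRingHom
    haveI : IsScalarTower B (B' ⧸ I) I.Cotangent := ⟨fun b c z => by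
      show (f b * c) • z = f b • (c • z)
      rw [mul_smul]⟩
    obtain ⟨s, hs⟩ := h I.Cotangent (((Exal.Ext.infinitesimal I).restrictBase A).pullback B)
    -- the ring hom B' ⧸ I^2 → B'
    let r : B' ⧸ I ^ 2 →+* B' := Ideal.Quotient.lift (I ^ 2) (RingHom.id B') (by
      intro a ha
      rw [hI] at ha
      exact (Submodule.mem_bot B').mp ha)
    have hr : ∀ y : B' ⧸ I ^ 2, Ideal.Quotient.mk I (r y) =
        Ideal.Quotient.factor (Exal.Ext.sq_le I) y := by
      intro y
      obtain ⟨y', rfl⟩ := Ideal.Quotient.mk_surjective y
      rfl
    let g₀ : B → B' := fun b => r ((s b).1.1)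
    have hg₀ : ∀ b, Ideal.Quotient.mk I (g₀ b) = f b := by
      intro b
      have hmem := (s b).2
      have h1 : Ideal.Quotient.factor (Exal.Ext.sq_le I) ((s b).1.1) = f ((s b).1.2) := hmem
      have h2 : (s b).1.2 = b := hs b
      show Ideal.Quotient.mk I (r ((s b).1.1)) = f b
      rw [hr, h1, h2]
    let g : B →ₐ[A] B' :=
      { toFun := g₀
        map_one' := by show r ((s 1).1.1) = 1; rw [map_one]; exact map_one r
        map_mul' := fun x y => by
          show r ((s (x * y)).1.1) = r ((s x).1.1) * r ((s y).1.1)
          rw [map_mul s]
          show r ((s x).1.1 * (s y).1.1) = r ((s x).1.1) * r ((s y).1.1)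
          exact map_mul r _ _
        map_zero' := by show r ((s 0).1.1) = 0; rw [map_zero]; exact map_zero r
        map_add' := fun x y => by
          show r ((s (x + y)).1.1) = r ((s x).1.1) + r ((s y).1.1)
          rw [map_add s]
          show r ((s x).1.1 + (s y).1.1) = r ((s x).1.1) + r ((s y).1.1)
          exact map_add r _ _
        commutes' := fun a => by
          show r ((s (algebraMap A B a)).1.1) = algebraMap A B' a
          rw [s.commutes]
          rfl }
    exact ⟨g, AlgHom.ext fun b => hg₀ b⟩

end Groth.Agent.S5815
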