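import Groth.Statements.S5816
import Groth.Agent.Lib.Exal_helper9

set_option autoImplicit false
universe u
open EGA41

namespace Groth.Agent.S5816

/-- Discrete case. For ring maps Λ → A → B, B is formally smooth over A relative to Λ (square-zero test
ideals) if and only if every A-extension of B by a B-module L which is Λ-trivial is A-trivial. Λ, A,
B are taken in one universe and L ranges over it. (The published statement is for topological rings;
this row is its discrete case.) -/
theorem result (Λ A B : Type u) [CommRing Λ]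
    [CommRing A] [CommRing B] [Algebra Λ A] [Algebra Λ B] [Algebra A B] [IsScalarTower Λ A B] :
    EGA41.IsFormallySmoothRel Λ A B ↔
      ∀ (L : Type u) [AddCommGroup L] [Module B L] (X : Exal.Ext A B L),
        X.IsTrivialOver Λ → X.IsTrivial := by
  constructor
  · intro h L _ _ X hX
    obtain ⟨s₀, hs₀⟩ := hX
    letI : Algebra Λ X.E := ((algebraMap A X.E).comp (algebraMap Λ A)).toAlgebra
    haveI : IsScalarTower Λ A X.E := IsScalarTower.of_algebraMap_eq (fun _ => rfl)
    have hsurj : Function.Surjective X.proj := X.isExtension.proj_surjective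
    have hsq : (RingHom.ker X.proj) ^ 2 = ⊥ := by
      rw [eq_bot_iff, pow_two, Ideal.mul_le]
      intro x hx y hy
      rw [RingHom.mem_ker] at hx hy
      obtain ⟨z, rfl⟩ := (X.isExtension.exact x).1 hx
      obtain ⟨z', rfl⟩ := (X.isExtension.exact y).1 hy
      rw [Groth.Agent.Lib.Exal_helper9.incl_mul_incl]
      exact Ideal.zero_mem _
    let e := Ideal.quotientKerAlgEquivOfSurjective hsurj
    have he : ∀ x : X.E, e (Ideal.Quotient.mk _ x) = X.proj x := fun x => rfl
    let u : B →ₐ[Λ] X.E :=
      { toFun := fun b => s₀ b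
        map_one' := map_one s₀
        map_mul' := map_mul s₀
        map_zero' := map_zero s₀
        map_add' := map_add s₀
        commutes' := fun l => s₀.commutes l }
    have hu : (Ideal.Quotient.mkₐ Λ (RingHom.ker X.proj)).comp u =
        (e.symm : B →ₐ[A] X.E ⧸ RingHom.ker X.proj).restrictScalars Λ := by
      apply AlgHom.ext
      intro b
      apply e.injective
      show e (Ideal.Quotient.mk _ (s₀ b)) = e (e.symm b)
      rw [he, AlgEquiv.apply_symm_apply]
      exact hs₀ b
    obtain ⟨v, hv⟩ := h X.E (RingHom.ker X.proj) hsq (e.symm : B →ₐ[A] X.E ⧸ RingHom.ker X.proj)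
      ⟨u, hu⟩
    refine ⟨v, fun b => ?_⟩
    have h1 : Ideal.Quotient.mk (RingHom.ker X.proj) (v b) = e.symm b := AlgHom.congr_fun hv b
    rw [← he, h1, AlgEquiv.apply_symm_apply]
  · intro h C _ _ _ _ J hJ u₀ hu
    obtain ⟨u, hu⟩ := hu
    letI : Algebra B (C ⧸ J) := u₀.toRingHom.toAlgebra
    haveI : IsScalarTower A B (C ⧸ J) :=
      IsScalarTower.of_algebraMap_eq (fun a => (u₀.commutes a).symm)
    letI : Module B J.Cotangent := Module.compHom J.Cotangent u₀.toRingHom
    haveI : IsScalarTower B (C ⧸ J) J.Cotangent := ⟨fun b c z => by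
      show (u₀ b * c) • z = u₀ b • (c • z)
      rw [mul_smul]⟩
    have hu' : ∀ b, Ideal.Quotient.mk J (u b) = u₀ b := fun b => AlgHom.congr_fun hu b
    have htriv : (((Exal.Ext.infinitesimal J).restrictBase A).pullback B).IsTrivialOver Λ := by
      let f₀ : B →+* (C ⧸ J ^ 2) × B :=
        RingHom.prod ((Ideal.Quotient.mk (J ^ 2)).comp (u : B →+* C)) (RingHom.id B)
      have hmem : ∀ b, f₀ b ∈ ((Exal.Ext.infinitesimal J).restrictBase A).fiberProd B := by
        intro b
        show Ideal.Quotient.factor (Exal.Ext.sq_le J) (Ideal.Quotient.mk (J ^ 2) (u b)) = u₀ b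
        rw [Ideal.Quotient.factor_mk]
        exact hu' b
      let σ₀ : B →+* ↥(((Exal.Ext.infinitesimal J).restrictBase A).fiberProd B) :=
        RingHom.codRestrict f₀ _ hmem
      refine ⟨{ toRingHom := σ₀, commutes' := fun l => ?_ }, fun b => rfl⟩
      apply Subtype.ext
      apply Prod.ext
      · show Ideal.Quotient.mk (J ^ 2) (u (algebraMap Λ B l)) =
          Ideal.Quotient.mk (J ^ 2) (algebraMap A C (algebraMap Λ A l))
        rw [u.commutes, ← IsScalarTower.algebraMap_apply Λ A C]
      · show algebraMap Λ B l = algebraMap A B (algebraMap Λ A l)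
        rw [← IsScalarTower.algebraMap_apply Λ A B]
    obtain ⟨s, hs⟩ := h J.Cotangent (((Exal.Ext.infinitesimal J).restrictBase A).pullback B) htriv
    let r : C ⧸ J ^ 2 →+* C := Ideal.Quotient.lift (J ^ 2) (RingHom.id C) (by
      intro a ha
      rw [hJ] at ha
      exact (Submodule.mem_bot C).mp ha)
    have hr : ∀ y : C ⧸ J ^ 2, Ideal.Quotient.mk J (r y) =
        Ideal.Quotient.factor (Exal.Ext.sq_le J) y := by
      intro y
      obtain ⟨y', rfl⟩ := Ideal.Quotient.mk_surjective y
      rfl
    let g₀ : B → C := fun b => r ((s b).1.1)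
    have hg₀ : ∀ b, Ideal.Quotient.mk J (g₀ b) = u₀ b := by
      intro b
      have hmem := (s b).2
      have h1 : Ideal.Quotient.factor (Exal.Ext.sq_le J) ((s b).1.1) = u₀ ((s b).1.2) := hmem
      have h2 : (s b).1.2 = b := hs b
      show Ideal.Quotient.mk J (r ((s b).1.1)) = u₀ b
      rw [hr, h1, h2]
    let g : B →ₐ[A] C :=
      { toFun := g₀
        map_one' := by show r ((s 1).1.1) = 1; rw [map_one]; exact map_one r
        map_mul' := fun x y => by
          show r ((s (x * y)).1.1) = r ((s x).1.1) * r ((s y).1.1)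
          rw [map_mul s]
          show r ((s x).1.1 * (s y).1.1) = r ((s x).1.1) * r ((s y).1.1)
          exact map_mul r _ _
        map_zero' := by show r ((s 0).1.1) = 0; rw [map_zero]; exact map_zero r
        map_add' := fun x y => by
          show r ((s (x + y)).1.1) = r ((s x).1.1) + r ((s y).1.1)
          rw [map_add s]
          show r ((s x).1.1 + (s y).1.1) = r ((s x).1.1) + r ((s y).1.1)
          exact map_add r _ _
        commutes' := fun a => by
          show r ((s (algebraMap A B a)).1.1) = algebraMap A C a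
          rw [s.commutes]
          rfl }
    exact ⟨g, AlgHom.ext fun b => hg₀ b⟩

end Groth.Agent.S5816
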