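import Groth.Statements.S5817
import Groth.Agent.Lib.Exal_helper9

set_option autoImplicit false
universe u v
open EGA41

namespace Groth.Agent.S5817

attribute [local instance] Exal.opModule Exal.isCentralScalar_opModule

/-- Commutative rings, exactness at Der_A(B, L). For ring maps A → B → C and a C-module L, the
B-extension of C by L attached to an A-derivation D : B → L (middle ring C ⊕ L, made a B-algebra
through x ↦ (x, D x)) is trivial if and only if D is the composite of B → C with an A-derivation C →
L. -/
theorem result {A : Type u} {B C L : Type v} [CommRing A] [CommRing B] [CommRing C]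
    [Algebra A B] [Algebra B C] [Algebra A C] [IsScalarTower A B C]
    [AddCommGroup L] [Module C L] [Module B L] [IsScalarTower B C L] [Module A L] [IsScalarTower A B L]
    [IsScalarTower A C L]
    (D : Derivation A B L) :
    (Exal.Ext.ofDerivation (C := C) D).IsTrivial ↔
      ∃ D' : Derivation A C L, D'.compAlgebraMap B = D := by
  constructor
  · rintro ⟨s, hs⟩
    have hfst : ∀ c, TrivSqZeroExt.fst (show TrivSqZeroExt C L from s c) = c := hs
    let dl : C →ₗ[A] L :=
      { toFun := fun c => TrivSqZeroExt.snd (show TrivSqZeroExt C L from s c)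
        map_add' := fun c c' => by rw [map_add]; rfl
        map_smul' := fun a c => by
          have h1 : a • c = algebraMap A B a • c := (algebraMap_smul B a c).symm
          rw [h1, map_smul, RingHom.id_apply, Algebra.smul_def]
          show TrivSqZeroExt.snd ((TrivSqZeroExt.inl (algebraMap B C (algebraMap A B a)) +
            TrivSqZeroExt.inr (D (algebraMap A B a))) * (show TrivSqZeroExt C L from s c)) =
              a • TrivSqZeroExt.snd (show TrivSqZeroExt C L from s c)
          rw [D.map_algebraMap, TrivSqZeroExt.inr_zero, add_zero, TrivSqZeroExt.snd_mul,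
            TrivSqZeroExt.fst_inl, TrivSqZeroExt.snd_inl, smul_zero, add_zero,
            ← IsScalarTower.algebraMap_apply A B C, algebraMap_smul] }
    let D' : Derivation A C L :=
      { toLinearMap := dl
        map_one_eq_zero' := by
          show TrivSqZeroExt.snd (show TrivSqZeroExt C L from s 1) = 0
          rw [map_one]; rfl
        leibniz' := fun c c' => by
          show TrivSqZeroExt.snd (show TrivSqZeroExt C L from s (c * c')) =
            c • TrivSqZeroExt.snd (show TrivSqZeroExt C L from s c') +
              c' • TrivSqZeroExt.snd (show TrivSqZeroExt C L from s c)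
          rw [map_mul]
          show TrivSqZeroExt.snd ((show TrivSqZeroExt C L from s c) *
            (show TrivSqZeroExt C L from s c')) = _
          rw [TrivSqZeroExt.snd_mul, hfst, hfst, op_smul_eq_smul] }
    refine ⟨D', Derivation.ext fun b => ?_⟩
    show TrivSqZeroExt.snd (show TrivSqZeroExt C L from s (algebraMap B C b)) = D b
    rw [s.commutes]
    show TrivSqZeroExt.snd (TrivSqZeroExt.inl (algebraMap B C b) + TrivSqZeroExt.inr (D b)) = D b
    rw [TrivSqZeroExt.snd_add, TrivSqZeroExt.snd_inl, TrivSqZeroExt.snd_inr, zero_add]
  · rintro ⟨D', hD'⟩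
    have hD : ∀ b, D' (algebraMap B C b) = D b := fun b => by rw [← hD']; rfl
    let s₀ : C →+* (Exal.Ext.ofDerivation (C := C) D).E := Exal.Ext.derivationHom (C := C) D'
    refine ⟨{ toRingHom := s₀, commutes' := fun b => ?_ }, fun c => ?_⟩
    · show TrivSqZeroExt.inl (algebraMap C C (algebraMap B C b)) +
        TrivSqZeroExt.inr (D' (algebraMap B C b)) =
          TrivSqZeroExt.inl (algebraMap B C b) + TrivSqZeroExt.inr (D b)
      rw [hD]; rfl
    · show TrivSqZeroExt.fst (TrivSqZeroExt.inl (algebraMap C C c) + TrivSqZeroExt.inr (D' c)) = c
      rw [TrivSqZeroExt.fst_add, TrivSqZeroExt.fst_inl, TrivSqZeroExt.fst_inr, add_zero]; rfl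

end Groth.Agent.S5817
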