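import Groth.Statements.S5818
import Groth.Agent.Lib.Exal_helper9
import Mathlib.Tactic.Ring

set_option autoImplicit false
universe u v
open EGA41

namespace Groth.Agent.S5818

attribute [local instance] Exal.opModule Exal.isCentralScalar_opModule

/-- Commutative rings, exactness at Exalcom_B(C, L) on underlying pointed sets. For ring maps A → B → C
and a C-module L, a B-extension of C by L is A-trivial if and only if it is equivalent to the
extension attached to some A-derivation B → L. -/
theorem result {A : Type u} {B C L : Type v} [CommRing A] [CommRing B] [CommRing C]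
    [Algebra A B] [Algebra B C] [Algebra A C] [IsScalarTower A B C]
    [AddCommGroup L] [Module C L] [Module B L] [IsScalarTower B C L] [Module A L] [IsScalarTower A B L]
    [IsScalarTower A C L]
    (X : Exal.Ext B C L) :
    X.IsTrivialOver A ↔
      ∃ D : Derivation A B L, Nonempty (X.Equiv (Exal.Ext.ofDerivation (C := C) D)) := by
  constructor
  · rintro ⟨s, hs⟩
    let s₀ : C →+* X.E := (s : C →+* (X.restrictBase A).E)
    have hs₀ : ∀ c, X.proj (s₀ c) = c := hs
    have hsa : ∀ a : A, s₀ (algebraMap A C a) = algebraMap B X.E (algebraMap A B a) :=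
      fun a => s.commutes a
    have hker : ∀ b : B, X.proj (algebraMap B X.E b - s₀ (algebraMap B C b)) = 0 := by
      intro b
      rw [map_sub, X.proj.commutes, hs₀, sub_self]
    let D₀ : B → L := fun b => X.kerLift _ (hker b)
    have hD₀ : ∀ b, X.incl (D₀ b) = algebraMap B X.E b - s₀ (algebraMap B C b) :=
      fun b => X.incl_kerLift _ (hker b)
    have hinj := X.isExtension.incl_injective
    let dl : B →ₗ[A] L :=
      { toFun := D₀
        map_add' := fun b b' => by
          apply hinj
          rw [map_add X.incl, hD₀, hD₀, hD₀, map_add (algebraMap B X.E), map_add (algebraMap B C),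
            map_add s₀]
          abel
        map_smul' := fun a b => by
          apply hinj
          rw [RingHom.id_apply]
          have h1 : a • b = algebraMap A B a * b := Algebra.smul_def a b
          calc X.incl (D₀ (a • b))
              = algebraMap B X.E (a • b) - s₀ (algebraMap B C (a • b)) := hD₀ _
            _ = algebraMap B X.E (algebraMap A B a) * algebraMap B X.E b -
                  algebraMap B X.E (algebraMap A B a) * s₀ (algebraMap B C b) := by
                rw [h1, map_mul, map_mul, map_mul, ← IsScalarTower.algebraMap_apply A B C, hsa]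
            _ = algebraMap B X.E (algebraMap A B a) * X.incl (D₀ b) := by rw [hD₀]; ring
            _ = X.incl (X.proj (algebraMap B X.E (algebraMap A B a)) • D₀ b) :=
                X.isExtension.mul_incl _ _
            _ = X.incl (a • D₀ b) := by
                rw [X.proj.commutes, algebraMap_smul, algebraMap_smul] }
    let D : Derivation A B L :=
      { toLinearMap := dl
        map_one_eq_zero' := by
          apply hinj
          show X.incl (D₀ 1) = X.incl 0
          rw [hD₀, map_one, map_one, map_one, sub_self, map_zero]
        leibniz' := fun b b' => by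
          apply hinj
          show X.incl (D₀ (b * b')) = X.incl (b • D₀ b' + b' • D₀ b)
          calc X.incl (D₀ (b * b'))
              = algebraMap B X.E (b * b') - s₀ (algebraMap B C (b * b')) := hD₀ _
            _ = algebraMap B X.E b * X.incl (D₀ b') + s₀ (algebraMap B C b') * X.incl (D₀ b) := by
                rw [hD₀, hD₀, map_mul, map_mul, map_mul]; ring
            _ = X.incl (X.proj (algebraMap B X.E b) • D₀ b') +
                  X.incl (X.proj (s₀ (algebraMap B C b')) • D₀ b) := by
                rw [X.isExtension.mul_incl, X.isExtension.mul_incl]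
            _ = X.incl (b • D₀ b' + b' • D₀ b) := by
                rw [X.proj.commutes, hs₀, algebraMap_smul, algebraMap_smul, map_add] }
    refine ⟨D, ⟨?_⟩⟩
    -- the comparison map from the derivation extension to X
    let F : (Exal.Ext.ofDerivation (C := C) D).E → C :=
      fun x => TrivSqZeroExt.fst (show TrivSqZeroExt C L from x)
    let S : (Exal.Ext.ofDerivation (C := C) D).E → L :=
      fun x => TrivSqZeroExt.snd (show TrivSqZeroExt C L from x)
    have hFmul : ∀ x y, F (x * y) = F x * F y := fun _ _ => rfl
    have hSmul : ∀ x y, S (x * y) = F x • S y + F y • S x := by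
      intro x y
      show TrivSqZeroExt.snd ((show TrivSqZeroExt C L from x) * (show TrivSqZeroExt C L from y)) = _
      rw [TrivSqZeroExt.snd_mul, op_smul_eq_smul]
    have hFadd : ∀ x y, F (x + y) = F x + F y := fun _ _ => rfl
    have hSadd : ∀ x y, S (x + y) = S x + S y := fun _ _ => rfl
    have hFalg : ∀ b : B, F (algebraMap B _ b) = algebraMap B C b := by
      intro b
      show TrivSqZeroExt.fst (TrivSqZeroExt.inl (algebraMap B C b) + TrivSqZeroExt.inr (D b)) = _
      rw [TrivSqZeroExt.fst_add, TrivSqZeroExt.fst_inl, TrivSqZeroExt.fst_inr, add_zero]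
    have hSalg : ∀ b : B, S (algebraMap B _ b) = D₀ b := by
      intro b
      show TrivSqZeroExt.snd (TrivSqZeroExt.inl (algebraMap B C b) + TrivSqZeroExt.inr (D b)) = _
      rw [TrivSqZeroExt.snd_add, TrivSqZeroExt.snd_inl, TrivSqZeroExt.snd_inr, zero_add]
      rfl
    let ψ : (Exal.Ext.ofDerivation (C := C) D).E →ₐ[B] X.E :=
      { toFun := fun x => s₀ (F x) + X.incl (S x)
        map_one' := by
          show s₀ (TrivSqZeroExt.fst (1 : TrivSqZeroExt C L)) +
            X.incl (TrivSqZeroExt.snd (1 : TrivSqZeroExt C L)) = 1
          rw [TrivSqZeroExt.fst_one, TrivSqZeroExt.snd_one, map_one, map_zero, add_zero]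
        map_mul' := fun x y => by
          show s₀ (F (x * y)) + X.incl (S (x * y)) =
            (s₀ (F x) + X.incl (S x)) * (s₀ (F y) + X.incl (S y))
          have e1 : s₀ (F x) * X.incl (S y) = X.incl (F x • S y) := by
            rw [X.isExtension.mul_incl, hs₀]
          have e2 : X.incl (S x) * s₀ (F y) = X.incl (F y • S x) := by
            rw [mul_comm, X.isExtension.mul_incl, hs₀]
          have e3 : X.incl (S x) * X.incl (S y) = 0 :=
            Groth.Agent.Lib.Exal_helper9.incl_mul_incl X _ _
          rw [hFmul, hSmul, map_mul, map_add, add_mul, mul_add, mul_add, e1, e2, e3]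
          abel
        map_zero' := by
          show s₀ (TrivSqZeroExt.fst (0 : TrivSqZeroExt C L)) +
            X.incl (TrivSqZeroExt.snd (0 : TrivSqZeroExt C L)) = 0
          rw [TrivSqZeroExt.fst_zero, TrivSqZeroExt.snd_zero, map_zero, map_zero, add_zero]
        map_add' := fun x y => by
          show s₀ (F (x + y)) + X.incl (S (x + y)) =
            (s₀ (F x) + X.incl (S x)) + (s₀ (F y) + X.incl (S y))
          rw [hFadd, hSadd, map_add, map_add]
          abel
        commutes' := fun b => by
          show s₀ (F (algebraMap B _ b)) + X.incl (S (algebraMap B _ b)) = algebraMap B X.E b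
          rw [hFalg, hSalg, hD₀]
          abel }
    refine (Groth.Agent.Lib.Exal_helper9.equivOfHom _ X ψ (fun x => ?_) (fun z => ?_)).symm
    · show X.proj (s₀ (F x) + X.incl (S x)) = F x
      rw [map_add, hs₀, Groth.Agent.Lib.Exal_helper9.proj_incl, add_zero]
    · show s₀ (TrivSqZeroExt.fst (TrivSqZeroExt.inr z : TrivSqZeroExt C L)) +
        X.incl (TrivSqZeroExt.snd (TrivSqZeroExt.inr z : TrivSqZeroExt C L)) = X.incl z
      rw [TrivSqZeroExt.fst_inr, TrivSqZeroExt.snd_inr, map_zero, zero_add]
  · rintro ⟨D, ⟨e⟩⟩
    let σ₀ : C →+* (Exal.Ext.ofDerivation (C := C) D).E := TrivSqZeroExt.inlHom C L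
    let s₀ : C →+* X.E := (e.symm.toAlgEquiv.toAlgHom : _ →+* X.E).comp σ₀
    refine ⟨{ toRingHom := s₀, commutes' := fun a => ?_ }, fun c => ?_⟩
    · show e.symm.toAlgEquiv (σ₀ (algebraMap A C a)) = algebraMap B X.E (algebraMap A B a)
      have h1 : σ₀ (algebraMap A C a) =
          algebraMap B (Exal.Ext.ofDerivation (C := C) D).E (algebraMap A B a) := by
        show TrivSqZeroExt.inl (algebraMap A C a) =
          TrivSqZeroExt.inl (algebraMap B C (algebraMap A B a)) +
            TrivSqZeroExt.inr (D (algebraMap A B a))
        rw [D.map_algebraMap, TrivSqZeroExt.inr_zero, add_zero,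
          ← IsScalarTower.algebraMap_apply A B C]
      rw [h1, AlgEquiv.commutes]
    · show X.proj (e.symm.toAlgEquiv (σ₀ c)) = c
      rw [e.symm.proj_apply]
      rfl

end Groth.Agent.S5818
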