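import Groth.Statements.S5819
import Groth.Agent.Lib.Exal_helper9

set_option autoImplicit false
universe u v
open EGA41

namespace Groth.Agent.S5819

/-- Commutative rings, exactness at Exalcom_A(C, L) on underlying pointed sets. For ring maps A → B → C
and a C-module L, an A-extension Y of C by L pulls back to a trivial A-extension of B if and only if
Y is equivalent to some B-extension of C by L viewed as an A-extension. -/
theorem result {A : Type u} {B C L : Type v} [CommRing A]
    [CommRing B] [CommRing C] [Algebra A B] [Algebra B C] [Algebra A C] [IsScalarTower A B C]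
    [AddCommGroup L] [Module C L] [Module B L] [IsScalarTower B C L]
    (Y : Exal.Ext A C L) :
    (Y.pullback B).IsTrivial ↔
      ∃ X : Exal.Ext B C L, Nonempty ((X.restrictBase A).Equiv Y) := by
  constructor
  · rintro ⟨s, hs⟩
    have hs' : ∀ b, (s b).1.2 = b := hs
    let u : B →ₐ[A] Y.E := (AlgHom.fst A Y.E B).comp ((Y.fiberProd B).val.comp s)
    have hu : ∀ b, Y.proj (u b) = algebraMap B C b := by
      intro b
      have hmem := (s b).2
      have h1 : Y.proj (s b).1.1 = algebraMap B C (s b).1.2 := hmem
      rw [hs'] at h1
      exact h1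
    letI : Algebra B Y.E := u.toRingHom.toAlgebra
    let X : Exal.Ext B C L :=
      { E := Y.E
        proj :=
          { toFun := Y.proj
            map_one' := map_one Y.proj
            map_mul' := map_mul Y.proj
            map_zero' := map_zero Y.proj
            map_add' := map_add Y.proj
            commutes' := hu }
        incl := Y.incl
        isExtension := ⟨Y.isExtension.proj_surjective, Y.isExtension.incl_injective,
          Y.isExtension.exact, Y.isExtension.mul_incl⟩ }
    let f₁ : (X.restrictBase A).E ≃+* Y.E := RingEquiv.refl Y.E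
    let ee : (X.restrictBase A).E ≃ₐ[A] Y.E :=
      AlgEquiv.ofRingEquiv (f := f₁) (fun a => u.commutes a)
    exact ⟨X, ⟨{ toAlgEquiv := ee, proj_apply := fun x => rfl, apply_incl := fun z => rfl }⟩⟩
  · rintro ⟨X, ⟨e⟩⟩
    let β' : B →+* (X.restrictBase A).E := algebraMap B X.E
    let f₀ : B →+* Y.E × B :=
      RingHom.prod ((e.toAlgEquiv.toAlgHom : (X.restrictBase A).E →+* Y.E).comp β') (RingHom.id B)
    have hmem : ∀ b, f₀ b ∈ Y.fiberProd B := by
      intro b
      show Y.proj (e.toAlgEquiv (β' b)) = algebraMap B C b
      rw [e.proj_apply]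
      exact X.proj.commutes b
    let σ₀ : B →+* ↥(Y.fiberProd B) := RingHom.codRestrict f₀ _ hmem
    refine ⟨{ toRingHom := σ₀, commutes' := fun a => ?_ }, fun b => rfl⟩
    apply Subtype.ext
    apply Prod.ext
    · show e.toAlgEquiv (algebraMap A (X.restrictBase A).E a) = algebraMap A Y.E a
      exact e.toAlgEquiv.commutes a
    · rfl

end Groth.Agent.S5819
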