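import Groth.Statements.S5821
import Groth.Agent.Lib.CharHom_helper9

set_option autoImplicit false
universe u v
open EGA41
open Groth.Agent.Lib.CharHom_helper9 TensorProduct

namespace Groth.Agent.S5821

/-- For a ring map A → B, an ideal K of B, C = B ⧸ K and the B-extension E = B ⧸ K² of C by K/K², if E
is A-trivial then its characteristic homomorphism Υ_{C/B/A} → K/K² is bijective (stated for every
C-linear χ satisfying the defining square, of which there is exactly one). -/
theorem result {A : Type u} {B : Type v} [CommRing A] [CommRing B] [Algebra A B]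
    (K : Ideal B) (hK : (Exal.Ext.infinitesimal K).IsTrivialOver A)
    (χ : ↥(EGA41.imperfection A B (B ⧸ K)) →ₗ[B ⧸ K] K.Cotangent)
    (hχ : (Exal.Ext.infinitesimal K).IsCharHom A χ) :
    Function.Bijective χ := by
  classical
  haveI : IsScalarTower A (B ⧸ K) K.Cotangent := ⟨fun a c l => by
    obtain ⟨b, rfl⟩ := Ideal.Quotient.mk_surjective c
    have e1 : a • (Ideal.Quotient.mk K b) = Ideal.Quotient.mk K (a • b) :=
      (map_smul (Ideal.Quotient.mkₐ A K) a b).symm
    rw [e1, ← Ideal.Quotient.algebraMap_eq, algebraMap_smul, algebraMap_smul, smul_assoc]⟩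
  obtain ⟨σ⟩ := exists_sec A (Exal.Ext.infinitesimal K) hK
  have hχ' := eq_charLift_of_isCharHom σ hχ
  have key : ∀ x : K, charLift σ ((1 : B ⧸ K) ⊗ₜ[B] KaehlerDifferential.D A B (x : B)) =
      K.toCotangent x := by
    intro x
    rw [charLift_tmul_D, one_smul]
    have h1 : algebraMap B (Exal.Ext.infinitesimal K).E (x : B) =
        (Exal.Ext.infinitesimal K).incl (K.toCotangent x) :=
      (Ideal.toCotangent_to_quotient_square K x).symm
    rw [h1, delta_incl]
  have hker : RingHom.ker (algebraMap B (B ⧸ K)) = K := by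
    rw [Ideal.Quotient.algebraMap_eq, Ideal.mk_ker]
  have hmem : ∀ x : K, (1 : B ⧸ K) ⊗ₜ[B] KaehlerDifferential.D A B (x : B) ∈
      EGA41.imperfection A B (B ⧸ K) := by
    intro x
    show _ ∈ LinearMap.ker (KaehlerDifferential.mapBaseChange A B (B ⧸ K))
    rw [LinearMap.mem_ker, KaehlerDifferential.mapBaseChange_tmul, one_smul,
      KaehlerDifferential.map_D, Ideal.Quotient.algebraMap_eq,
      Ideal.Quotient.eq_zero_iff_mem.2 x.2, map_zero]
  constructor
  · rw [injective_iff_map_eq_zero]
    intro z hz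
    have hz2 : (z : (B ⧸ K) ⊗[B] Ω[B⁄A]) ∈
        LinearMap.ker (KaehlerDifferential.mapBaseChange A B (B ⧸ K)) := z.2
    obtain ⟨y, hy⟩ := (KaehlerDifferential.exact_kerCotangentToTensor_mapBaseChange A B (B ⧸ K)
      Ideal.Quotient.mk_surjective _).1 (LinearMap.mem_ker.1 hz2)
    obtain ⟨x, rfl⟩ := Ideal.toCotangent_surjective _ y
    rw [KaehlerDifferential.kerCotangentToTensor_toCotangent] at hy
    have hxK : (x : B) ∈ K := (congrArg (fun I : Ideal B => (x : B) ∈ I) hker).mp x.2
    have h1 : χ z = K.toCotangent ⟨(x : B), hxK⟩ := by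
      rw [hχ', ← hy]
      exact key ⟨(x : B), hxK⟩
    rw [hz] at h1
    have h2 : (x : B) ∈ K ^ 2 := (Ideal.toCotangent_eq_zero K ⟨(x : B), hxK⟩).1 h1.symm
    have h3 : (RingHom.ker (algebraMap B (B ⧸ K))).toCotangent x = 0 := by
      rw [Ideal.toCotangent_eq_zero]
      exact (congrArg (fun I : Ideal B => (x : B) ∈ I ^ 2) hker).mpr h2
    have h4 : KaehlerDifferential.kerCotangentToTensor A B (B ⧸ K)
        ((RingHom.ker (algebraMap B (B ⧸ K))).toCotangent x) = 0 := by
      rw [h3, map_zero]
    rw [KaehlerDifferential.kerCotangentToTensor_toCotangent] at h4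
    exact Subtype.ext (hy.symm.trans h4)
  · intro y
    obtain ⟨x, rfl⟩ := K.toCotangent_surjective y
    exact ⟨⟨_, hmem x⟩, by rw [hχ']; exact key x⟩

end Groth.Agent.S5821
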