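import Groth.Statements.S5822
import Groth.Agent.Lib.CharHom_helper9
import Mathlib.Algebra.Module.Injective

set_option autoImplicit false
universe u v
open scoped TensorProduct
open EGA41
open Groth.Agent.Lib.CharHom_helper9

namespace Groth.Agent.S5822

/-- Injectivity. For ring maps A → B → C and a C-module L, assume (i) L is an injective C-module, or
(ii) Υ_{C/B/A} is a direct summand of C ⊗_B Ω_{B/A} and Ω_{C/A} → Ω_{C/B} has a right inverse. Then
two A-trivial B-extensions of C by L with a common characteristic homomorphism are equivalent: the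
map from classes of A-trivial extensions to Hom_C(Υ_{C/B/A}, L) is injective. -/
theorem result {A : Type u} {B C L : Type v} [CommRing A] [CommRing B] [CommRing C]
    [Algebra A B] [Algebra B C] [Algebra A C] [IsScalarTower A B C] [AddCommGroup L] [Module C L]
    (h : Module.Injective C L ∨
      ((∃ r : C ⊗[B] Ω[B⁄A] →ₗ[C] ↥(EGA41.imperfection A B C), ∀ z : ↥(EGA41.imperfection A B C), r z = z) ∧
        ∃ s : Ω[C⁄B] →ₗ[C] Ω[C⁄A], ∀ ω : Ω[C⁄B], KaehlerDifferential.map A B C C (s ω) = ω))
    (X Y : Exal.Ext B C L) (hX : X.IsTrivialOver A) (hY : Y.IsTrivialOver A)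
    (χ : ↥(EGA41.imperfection A B C) →ₗ[C] L) (hXχ : X.IsCharHom A χ) (hYχ : Y.IsCharHom A χ) :
    Nonempty (X.Equiv Y) := by
  classical
  letI : Module A L := Module.compHom L (algebraMap A C)
  haveI : IsScalarTower A C L := IsScalarTower.of_algebraMap_smul (fun _ _ => rfl)
  obtain ⟨σ⟩ := exists_sec A X hX
  obtain ⟨τ⟩ := exists_sec A Y hY
  let u : C ⊗[B] Ω[B⁄A] →ₗ[C] L := charLift τ - charLift σ
  have hu : ∀ z, z ∈ LinearMap.ker (KaehlerDifferential.mapBaseChange A B C) → u z = 0 := by
    intro z hz
    have hz' : z ∈ EGA41.imperfection A B C := hz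
    have h1 := eq_charLift_of_isCharHom σ hXχ ⟨z, hz'⟩
    have h2 := eq_charLift_of_isCharHom τ hYχ ⟨z, hz'⟩
    show charLift τ z - charLift σ z = 0
    rw [← h1, ← h2, sub_self]
  have hθ : ∃ θ' : Ω[C⁄A] →ₗ[C] L, ∀ z, θ' (KaehlerDifferential.mapBaseChange A B C z) = u z := by
    let ubar : LinearMap.range (KaehlerDifferential.mapBaseChange A B C) →ₗ[C] L :=
      ((LinearMap.ker (KaehlerDifferential.mapBaseChange A B C)).liftQ u
          (fun z hz => hu z hz)).comp
        ((KaehlerDifferential.mapBaseChange A B C).quotKerEquivRange.symm : _ →ₗ[C] _)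
    have hubar : ∀ z (hz : KaehlerDifferential.mapBaseChange A B C z ∈
        LinearMap.range (KaehlerDifferential.mapBaseChange A B C)),
        ubar ⟨KaehlerDifferential.mapBaseChange A B C z, hz⟩ = u z := by
      intro z hz
      show (LinearMap.ker (KaehlerDifferential.mapBaseChange A B C)).liftQ u
          (fun z hz => hu z hz)
        ((KaehlerDifferential.mapBaseChange A B C).quotKerEquivRange.symm
          ⟨KaehlerDifferential.mapBaseChange A B C z, hz⟩) = u z
      rw [LinearMap.quotKerEquivRange_symm_apply_image]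
      rfl
    rcases h with hinj | ⟨_, ⟨s, hs⟩⟩
    · obtain ⟨θ', hθ'⟩ := hinj.out
        (X := ↥(LinearMap.range (KaehlerDifferential.mapBaseChange A B C))) (Y := Ω[C⁄A])
        (LinearMap.range (KaehlerDifferential.mapBaseChange A B C)).subtype
        (Submodule.subtype_injective _) ubar
      refine ⟨θ', fun z => ?_⟩
      rw [← hubar z ⟨z, rfl⟩, ← hθ']
      rfl
    · have hπ : ∀ ω : Ω[C⁄A], ω - s (KaehlerDifferential.map A B C C ω) ∈
          LinearMap.range (KaehlerDifferential.mapBaseChange A B C) := by
        intro ω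
        rw [KaehlerDifferential.range_mapBaseChange, LinearMap.mem_ker, map_sub, hs, sub_self]
      let π : Ω[C⁄A] →ₗ[C] LinearMap.range (KaehlerDifferential.mapBaseChange A B C) :=
        LinearMap.codRestrict (LinearMap.range (KaehlerDifferential.mapBaseChange A B C))
          (LinearMap.id - s.comp (KaehlerDifferential.map A B C C)) (fun ω => hπ ω)
      refine ⟨ubar.comp π, fun z => ?_⟩
      have h0 : KaehlerDifferential.map A B C C (KaehlerDifferential.mapBaseChange A B C z) = 0 :=
        (KaehlerDifferential.exact_mapBaseChange_map A B C _).2 ⟨z, rfl⟩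
      have h1 : π (KaehlerDifferential.mapBaseChange A B C z) =
          ⟨KaehlerDifferential.mapBaseChange A B C z, ⟨z, rfl⟩⟩ := by
        apply Subtype.ext
        show KaehlerDifferential.mapBaseChange A B C z -
          s (KaehlerDifferential.map A B C C (KaehlerDifferential.mapBaseChange A B C z)) = _
        rw [h0, map_zero, sub_zero]
      show ubar (π (KaehlerDifferential.mapBaseChange A B C z)) = u z
      rw [h1, hubar]
  obtain ⟨θ', hθ'⟩ := hθ
  refine nonempty_equiv_of_theta σ τ (fun c => θ' (KaehlerDifferential.D A C c))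
    (fun c c' => ?_) (fun c c' => ?_) (fun b => ?_)
  · show θ' (KaehlerDifferential.D A C (c + c')) = _
    rw [map_add, map_add]
  · show θ' (KaehlerDifferential.D A C (c * c')) = _
    rw [Derivation.leibniz, map_add, map_smul, map_smul]
  · show θ' (KaehlerDifferential.D A C (algebraMap B C b)) = _
    have h1 : KaehlerDifferential.mapBaseChange A B C
        ((1 : C) ⊗ₜ[B] KaehlerDifferential.D A B b) =
        KaehlerDifferential.D A C (algebraMap B C b) := by
      rw [KaehlerDifferential.mapBaseChange_tmul, one_smul, KaehlerDifferential.map_D]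
    rw [← h1, hθ']
    show charLift τ _ - charLift σ _ = _
    rw [charLift_tmul_D, charLift_tmul_D, one_smul, one_smul]

end Groth.Agent.S5822
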