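import Groth.Statements.S5823
import Groth.Agent.Lib.CharHom_helper9
import Mathlib.Algebra.Module.Injective

set_option autoImplicit false
universe u v
open scoped TensorProduct
open EGA41
open Groth.Agent.Lib.CharHom_helper9

namespace Groth.Agent.S5823

attribute [local instance] Exal.opModule Exal.isCentralScalar_opModule

/-- Surjectivity. For ring maps A → B → C and a C-module L, assume (i) L is an injective C-module, or
(ii) Υ_{C/B/A} is a direct summand of C ⊗_B Ω_{B/A} and Ω_{C/A} → Ω_{C/B} has a right inverse. Then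
every C-linear map Υ_{C/B/A} → L is the characteristic homomorphism of an A-trivial B-extension of C
by L. -/
theorem result {A : Type u} {B C L : Type v} [CommRing A] [CommRing B] [CommRing C]
    [Algebra A B] [Algebra B C] [Algebra A C] [IsScalarTower A B C] [AddCommGroup L] [Module C L]
    (h : Module.Injective C L ∨
      ((∃ r : C ⊗[B] Ω[B⁄A] →ₗ[C] ↥(EGA41.imperfection A B C), ∀ z : ↥(EGA41.imperfection A B C), r z = z) ∧
        ∃ s : Ω[C⁄B] →ₗ[C] Ω[C⁄A], ∀ ω : Ω[C⁄B], KaehlerDifferential.map A B C C (s ω) = ω))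
    (χ : ↥(EGA41.imperfection A B C) →ₗ[C] L) :
    ∃ X : Exal.Ext B C L, X.IsTrivialOver A ∧ X.IsCharHom A χ := by
  classical
  letI : Module A L := Module.compHom L (algebraMap A C)
  haveI : IsScalarTower A C L := IsScalarTower.of_algebraMap_smul (fun _ _ => rfl)
  letI : Module B L := Module.compHom L (algebraMap B C)
  haveI : IsScalarTower B C L := IsScalarTower.of_algebraMap_smul (fun _ _ => rfl)
  haveI : IsScalarTower A B L := IsScalarTower.of_algebraMap_smul (fun a l => by
    show algebraMap B C (algebraMap A B a) • l = algebraMap A C a • l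
    rw [← IsScalarTower.algebraMap_apply A B C])
  have hu : ∃ u : C ⊗[B] Ω[B⁄A] →ₗ[C] L, ∀ z : ↥(EGA41.imperfection A B C),
      u (z : C ⊗[B] Ω[B⁄A]) = χ z := by
    rcases h with hinj | ⟨⟨r, hr⟩, _⟩
    · obtain ⟨u, hu⟩ := hinj.out (X := ↥(EGA41.imperfection A B C)) (Y := C ⊗[B] Ω[B⁄A])
        (EGA41.imperfection A B C).subtype
        (Submodule.subtype_injective _) χ
      exact ⟨u, hu⟩
    · exact ⟨χ.comp r, fun z => by
        show χ (r z) = χ z
        rw [hr]⟩
  obtain ⟨u, hu⟩ := hu
  let g : Ω[B⁄A] →ₗ[B] L := (u.restrictScalars B).comp (TensorProduct.mk B C Ω[B⁄A] 1)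
  let D : Derivation A B L := g.compDer (KaehlerDifferential.D A B)
  have hD : ∀ b, D b = u ((1 : C) ⊗ₜ[B] KaehlerDifferential.D A B b) := fun b => rfl
  let X : Exal.Ext B C L := Exal.Ext.ofDerivation (C := C) D
  let σ : Sec A X :=
    { s := (TrivSqZeroExt.inlHom C L : C →+* TrivSqZeroExt C L)
      proj_s := fun c => rfl
      s_algebraMap := fun a => by
        show TrivSqZeroExt.inl (algebraMap A C a) =
          TrivSqZeroExt.inl (algebraMap B C (algebraMap A B a)) +
            TrivSqZeroExt.inr (D (algebraMap A B a))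
        rw [Derivation.map_algebraMap, TrivSqZeroExt.inr_zero, add_zero,
          ← IsScalarTower.algebraMap_apply A B C] }
  have hXtriv : X.IsTrivialOver A := by
    let σ₀ : C →+* (X.restrictBase A).E := σ.s
    exact ⟨{ toRingHom := σ₀, commutes' := fun a => σ.s_algebraMap a }, fun c => rfl⟩
  have hδ : ∀ b : B, delta σ (algebraMap B X.E b) = D b := by
    intro b
    have h := incl_delta σ (algebraMap B X.E b)
    rw [X.proj.commutes] at h
    have e1 : X.incl (delta σ (algebraMap B X.E b)) =
        (TrivSqZeroExt.inr (delta σ (algebraMap B X.E b)) : TrivSqZeroExt C L) := rfl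
    have e2 : algebraMap B X.E b - σ.s (algebraMap B C b) =
        ((TrivSqZeroExt.inl (algebraMap B C b) + TrivSqZeroExt.inr (D b)) -
          TrivSqZeroExt.inl (algebraMap B C b) : TrivSqZeroExt C L) := rfl
    rw [e1, e2, add_sub_cancel_left] at h
    exact TrivSqZeroExt.inr_injective h
  have hcu : charLift σ = u := by
    apply ext_tmul_D
    intro c b
    rw [charLift_tmul_D, hδ, hD, ← map_smul, TensorProduct.smul_tmul', smul_eq_mul, mul_one]
  refine ⟨X, hXtriv, ?_⟩
  rw [isCharHom_iff σ]
  intro z
  rw [hcu, hu]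

end Groth.Agent.S5823
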