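import Groth.Statements.S5824
import Groth.Agent.S5822
import Groth.Agent.S5823
import Mathlib.Algebra.Module.Projective
import Mathlib.RingTheory.Smooth.Basic

set_option autoImplicit false
universe u v
open EGA41
open scoped TensorProduct

namespace Groth.Agent.S5824

/-- For ring maps A → B → C with C formally smooth over A (discrete topologies) and Ω_{C/B} a projective
C-module, and a C-module L, the characteristic homomorphism is a bijection from the classes of all
B-extensions of C by L (each of which is A-trivial) onto Hom_C(Υ_{C/B/A}, L): injectivity on classes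
and surjectivity. -/
theorem result {A : Type u} {B C L : Type v} [CommRing A] [CommRing B] [CommRing C]
    [Algebra A B] [Algebra B C] [Algebra A C] [IsScalarTower A B C] [AddCommGroup L] [Module C L]
    [Algebra.FormallySmooth A C] [Module.Projective C Ω[C⁄B]] :
    (∀ (X Y : Exal.Ext B C L) (χ : ↥(EGA41.imperfection A B C) →ₗ[C] L),
        X.IsCharHom A χ → Y.IsCharHom A χ → Nonempty (X.Equiv Y)) ∧
      ∀ χ : ↥(EGA41.imperfection A B C) →ₗ[C] L, ∃ X : Exal.Ext B C L, X.IsCharHom A χ := by
  classical
  have htriv : ∀ X : Exal.Ext B C L, X.IsTrivialOver A := fun X =>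
    Groth.Agent.Lib.Exal_helper9.isTrivial_of_formallySmooth (X.restrictBase A)
  -- a section of `Ω[C⁄A] → Ω[C⁄B]`
  obtain ⟨s, hs0⟩ := Module.projective_lifting_property (KaehlerDifferential.map A B C C)
    (LinearMap.id : Ω[C⁄B] →ₗ[C] Ω[C⁄B]) (KaehlerDifferential.map_surjective A B C)
  have hs : ∀ ω : Ω[C⁄B], KaehlerDifferential.map A B C C (s ω) = ω := fun ω =>
    LinearMap.congr_fun hs0 ω
  -- the range of `C ⊗ Ω[B⁄A] → Ω[C⁄A]` is a direct summand, hence projective
  have hπ : ∀ ω : Ω[C⁄A], ω - s (KaehlerDifferential.map A B C C ω) ∈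
      LinearMap.range (KaehlerDifferential.mapBaseChange A B C) := by
    intro ω
    rw [KaehlerDifferential.range_mapBaseChange, LinearMap.mem_ker, map_sub, hs, sub_self]
  let π : Ω[C⁄A] →ₗ[C] LinearMap.range (KaehlerDifferential.mapBaseChange A B C) :=
    LinearMap.codRestrict (LinearMap.range (KaehlerDifferential.mapBaseChange A B C))
      (LinearMap.id - s.comp (KaehlerDifferential.map A B C C)) (fun ω => hπ ω)
  have hπi : π.comp (LinearMap.range (KaehlerDifferential.mapBaseChange A B C)).subtype =
      LinearMap.id := by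
    apply LinearMap.ext
    intro k
    apply Subtype.ext
    show (k : Ω[C⁄A]) - s (KaehlerDifferential.map A B C C (k : Ω[C⁄A])) = k
    have h0 : KaehlerDifferential.map A B C C (k : Ω[C⁄A]) = 0 :=
      (KaehlerDifferential.exact_mapBaseChange_map A B C _).2 k.2
    rw [h0, map_zero, sub_zero]
  haveI : Module.Projective C (LinearMap.range (KaehlerDifferential.mapBaseChange A B C)) :=
    Module.Projective.of_split _ π hπi
  obtain ⟨j, hj0⟩ := Module.projective_lifting_property
    (KaehlerDifferential.mapBaseChange A B C).rangeRestrict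
    (LinearMap.id : LinearMap.range (KaehlerDifferential.mapBaseChange A B C) →ₗ[C] _)
    (KaehlerDifferential.mapBaseChange A B C).surjective_rangeRestrict
  have hj : ∀ k, (KaehlerDifferential.mapBaseChange A B C).rangeRestrict (j k) = k := fun k =>
    LinearMap.congr_fun hj0 k
  have hr0 : ∀ z : C ⊗[B] Ω[B⁄A],
      z - j ((KaehlerDifferential.mapBaseChange A B C).rangeRestrict z) ∈
        EGA41.imperfection A B C := by
    intro z
    show _ ∈ LinearMap.ker (KaehlerDifferential.mapBaseChange A B C)
    rw [LinearMap.mem_ker, map_sub, sub_eq_zero]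
    have := congrArg Subtype.val (hj ((KaehlerDifferential.mapBaseChange A B C).rangeRestrict z))
    exact this.symm
  let r : C ⊗[B] Ω[B⁄A] →ₗ[C] ↥(EGA41.imperfection A B C) :=
    LinearMap.codRestrict (EGA41.imperfection A B C)
      (LinearMap.id - j.comp (KaehlerDifferential.mapBaseChange A B C).rangeRestrict)
      (fun z => hr0 z)
  have hr : ∀ z : ↥(EGA41.imperfection A B C), r z = z := by
    intro z
    apply Subtype.ext
    show (z : C ⊗[B] Ω[B⁄A]) -
      j ((KaehlerDifferential.mapBaseChange A B C).rangeRestrict (z : C ⊗[B] Ω[B⁄A])) = z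
    have h0 : (KaehlerDifferential.mapBaseChange A B C).rangeRestrict (z : C ⊗[B] Ω[B⁄A]) = 0 := by
      apply Subtype.ext
      exact z.2
    rw [h0, map_zero, sub_zero]
  have h : Module.Injective C L ∨
      ((∃ r : C ⊗[B] Ω[B⁄A] →ₗ[C] ↥(EGA41.imperfection A B C),
          ∀ z : ↥(EGA41.imperfection A B C), r z = z) ∧
        ∃ s : Ω[C⁄B] →ₗ[C] Ω[C⁄A], ∀ ω : Ω[C⁄B], KaehlerDifferential.map A B C C (s ω) = ω) :=
    Or.inr ⟨⟨r, hr⟩, ⟨s, hs⟩⟩
  refine ⟨fun X Y χ hX hY =>
    Groth.Agent.S5822.result h X Y (htriv X) (htriv Y) χ hX hY, fun χ => ?_⟩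
  obtain ⟨X, _, hX⟩ := Groth.Agent.S5823.result h χ
  exact ⟨X, hX⟩

end Groth.Agent.S5824
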