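import Groth.Statements.S5825
import Mathlib.Topology.Algebra.Group.Basic
import Mathlib.Tactic.Abel

set_option autoImplicit false
universe u v w
open EGA41

namespace Groth.Agent.S5825

/-- Let A be a topological ring, M, N topological A-modules with the topologies deduced from that of A,
and u : M → N a continuous linear map with dense image (a formal epimorphism). Then u is a formal
bimorphism (dense image and inducing) if and only if, for every open ideal J of A, the induced map
M/JM → N/JN is bijective (injectivity and surjectivity are written out elementwise). -/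
theorem result {A : Type u} {M : Type v} {N : Type w} [CommRing A]
    [TopologicalSpace A] [AddCommGroup M] [Module A M] [TopologicalSpace M] [AddCommGroup N] [Module A N]
    [TopologicalSpace N] (hM : TopMod.IsDeduced A M) (hN : TopMod.IsDeduced A N) (u : M →L[A] N)
    (hu : DenseRange u) :
    IsDenseInducing u ↔
      ∀ J : Ideal A, IsOpen (J : Set A) →
        (∀ x : M, u x ∈ (J • ⊤ : Submodule A N) → x ∈ (J • ⊤ : Submodule A M)) ∧
          ∀ y : N, ∃ x : M, y - u x ∈ (J • ⊤ : Submodule A N) := by
  haveI := hM.1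
  haveI := hN.1
  have hdense : ∀ J : Ideal A, IsOpen (J : Set A) → ∀ y : N, ∃ x : M,
      y - u x ∈ (J • ⊤ : Submodule A N) := by
    intro J hJ y
    have hnh : {z : N | y - z ∈ (J • ⊤ : Submodule A N)} ∈ nhds y := by
      have hc : ContinuousAt (fun z : N => y - z) y :=
        (continuous_const.sub continuous_id).continuousAt
      have h0 : ((J • ⊤ : Submodule A N) : Set N) ∈ nhds (y - y) := by
        rw [sub_self]
        exact hN.2.mem_of_mem hJ
      exact hc.preimage_mem_nhds h0
    obtain ⟨z, hz, ⟨x, rfl⟩⟩ := mem_closure_iff_nhds.1 (hu y) _ hnh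
    exact ⟨x, hz⟩
  have hind : Topology.IsInducing u ↔ nhds (0 : M) = (nhds (0 : N)).comap u :=
    IsTopologicalAddGroup.isInducing_iff_nhds_zero
  constructor
  · intro h J hJ
    refine ⟨?_, hdense J hJ⟩
    have h0 := hind.1 h.toIsInducing
    have h1 : ((J • ⊤ : Submodule A M) : Set M) ∈ (nhds (0 : N)).comap u := by
      rw [← h0]
      exact hM.2.mem_of_mem hJ
    obtain ⟨t, ht, htJ⟩ := Filter.mem_comap.1 h1
    obtain ⟨J', hJ', hJ't⟩ := hN.2.mem_iff.1 ht
    have hsub : ∀ x : M, u x ∈ (J' • ⊤ : Submodule A N) → x ∈ (J • ⊤ : Submodule A M) :=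
      fun x hx => htJ (hJ't hx)
    intro x hx
    have claim : ∀ y ∈ (J • ⊤ : Submodule A N), ∃ m ∈ (J • ⊤ : Submodule A M),
        y - u m ∈ (J' • ⊤ : Submodule A N) := by
      intro y hy
      refine Submodule.smul_induction_on hy ?_ ?_
      · intro j hj n _
        obtain ⟨m₀, hm₀⟩ := hdense J' hJ' n
        refine ⟨j • m₀, Submodule.smul_mem_smul hj Submodule.mem_top, ?_⟩
        rw [map_smul, ← smul_sub]
        exact Submodule.smul_mem _ j hm₀
      · rintro a b ⟨ma, hma, ha⟩ ⟨mb, hmb, hb⟩
        refine ⟨ma + mb, Submodule.add_mem _ hma hmb, ?_⟩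
        have e : a + b - u (ma + mb) = (a - u ma) + (b - u mb) := by
          rw [map_add]; abel
        rw [e]
        exact Submodule.add_mem _ ha hb
    obtain ⟨m, hm, hxm⟩ := claim (u x) hx
    have h2 : x - m ∈ (J • ⊤ : Submodule A M) := hsub (x - m) (by rw [map_sub]; exact hxm)
    have e : x = (x - m) + m := by abel
    rw [e]
    exact Submodule.add_mem _ h2 hm
  · intro h
    refine ⟨hind.2 ?_, hu⟩
    apply le_antisymm
    · have h0 := u.continuous.tendsto 0
      rw [map_zero] at h0
      exact h0.le_comap
    · intro s hs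
      obtain ⟨J, hJ, hJs⟩ := hM.2.mem_iff.1 hs
      exact Filter.mem_comap.2 ⟨((J • ⊤ : Submodule A N) : Set N), hN.2.mem_of_mem hJ,
        fun x hx => hJs ((h J hJ).1 x hx)⟩

end Groth.Agent.S5825
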