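import Groth.Statements.S5826
import Mathlib.Topology.Algebra.Group.Basic
import Mathlib.Topology.Algebra.Module.Basic

set_option autoImplicit false
universe u v w
open EGA41

namespace Groth.Agent.S5826

theorem continuous_of_ker_nhds {A : Type*} {P : Type*} {E : Type*} [Semiring A] [AddCommGroup P]
    [Module A P] [TopologicalSpace P] [IsTopologicalAddGroup P] [AddCommGroup E] [Module A E]
    [TopologicalSpace E] [DiscreteTopology E] (w : P →ₗ[A] E) (S : Set P)
    (hS : S ∈ nhds (0 : P)) (h : ∀ x ∈ S, w x = 0) : Continuous w := by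
  apply continuous_of_continuousAt_zero w.toAddMonoidHom
  show Filter.Tendsto w (nhds 0) (nhds (w 0))
  rw [nhds_discrete E, Filter.tendsto_pure]
  exact Filter.mem_of_superset hS (fun x hx => by rw [Set.mem_ofPred_eq, h x hx, map_zero])


/-- Let A be a topological ring, M, N topological A-modules with the topologies deduced from that of A,
u : M → N a continuous linear map. Then u is formally left invertible if and only if, for every open
ideal J of A, the induced map M/JM → N/JN is left invertible, i.e. some linear map N → M/JM composes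
with u to the projection M → M/JM. -/
theorem result {A : Type u} {M : Type v} {N : Type w}
    [CommRing A] [TopologicalSpace A] [AddCommGroup M] [Module A M] [TopologicalSpace M] [AddCommGroup N]
    [Module A N] [TopologicalSpace N] (hM : TopMod.IsDeduced A M) (hN : TopMod.IsDeduced A N)
    (u : M →L[A] N) :
    TopMod.IsFormallyLeftInvertible u ↔
      ∀ J : Ideal A, IsOpen (J : Set A) →
        ∃ w : N →ₗ[A] M ⧸ (J • ⊤ : Submodule A M), ∀ x : M, w (u x) = Submodule.Quotient.mk x := by
  haveI := hM.1
  haveI := hN.1
  constructor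
  · intro hu J hJ
    letI : TopologicalSpace (M ⧸ (J • ⊤ : Submodule A M)) := ⊥
    haveI : DiscreteTopology (M ⧸ (J • ⊤ : Submodule A M)) := ⟨rfl⟩
    have hcv : Continuous (Submodule.mkQ (J • ⊤ : Submodule A M)) :=
      continuous_of_ker_nhds _ _ (hM.2.mem_of_mem hJ)
        (fun x hx => (Submodule.Quotient.mk_eq_zero _).2 hx)
    obtain ⟨w, hw⟩ := hu (M ⧸ (J • ⊤ : Submodule A M)) ⟨Submodule.mkQ _, hcv⟩
    exact ⟨w.toLinearMap, fun x => hw x⟩
  · intro h E _ _ _ _ v
    have hker : {x : M | v x = 0} ∈ nhds (0 : M) := by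
      have h0 : ({0} : Set E) ∈ nhds (v 0) := by
        rw [map_zero]
        exact (isOpen_discrete _).mem_nhds rfl
      exact v.continuous.continuousAt.preimage_mem_nhds h0
    obtain ⟨J, hJ, hJv⟩ := hM.2.mem_iff.1 hker
    obtain ⟨w, hw⟩ := h J hJ
    let vbar : M ⧸ (J • ⊤ : Submodule A M) →ₗ[A] E :=
      (J • ⊤ : Submodule A M).liftQ v.toLinearMap (fun x hx => LinearMap.mem_ker.2 (hJv hx))
    let w' : N →ₗ[A] E := vbar.comp w
    have hw'J : ∀ y ∈ ((J • ⊤ : Submodule A N) : Set N), w' y = 0 := by
      intro y hy
      refine Submodule.smul_induction_on hy ?_ ?_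
      · intro j hj n _
        show vbar (w (j • n)) = 0
        rw [map_smul]
        have h0 : j • w n = 0 := by
          obtain ⟨m, hm⟩ := Submodule.Quotient.mk_surjective _ (w n)
          rw [← hm, ← Submodule.Quotient.mk_smul, Submodule.Quotient.mk_eq_zero]
          exact Submodule.smul_mem_smul hj Submodule.mem_top
        rw [h0, map_zero]
      · intro a b ha hb
        rw [map_add, ha, hb, add_zero]
    have hcw : Continuous w' := continuous_of_ker_nhds w' _ (hN.2.mem_of_mem hJ) hw'J
    refine ⟨⟨w', hcw⟩, fun x => ?_⟩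
    show vbar (w (u x)) = v x
    rw [hw]
    rfl

end Groth.Agent.S5826
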