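import Groth.Statements.S5828
import Groth.Agent.Lib.Exal_helper9
import Mathlib.Tactic.Ring

set_option autoImplicit false
universe u v
open EGA41

namespace Groth.Agent.S5828

/-- Commutative case. For an A-extension X of C by a C-module L, with middle ring E, projection p and
inclusion i, the A-derivations D : C → L and the self-equivalences of X correspond under D ↦ (x ↦ x
+ i (D (p x))): every derivation defines a self-equivalence with this formula, and every
self-equivalence is of this form for exactly one derivation. (Bijection of sets; the published
statement also records compatibility with the group laws.) -/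
theorem result {A : Type u} {C L : Type v} [CommRing A] [CommRing C] [Algebra A C]
    [AddCommGroup L] [Module C L] [Module A L] [IsScalarTower A C L] (X : Exal.Ext A C L) :
    (∀ D : Derivation A C L, ∃ e : X.Equiv X, ∀ x : X.E, e.toAlgEquiv x = x + X.incl (D (X.proj x))) ∧
      ∀ e : X.Equiv X, ∃! D : Derivation A C L, ∀ x : X.E, e.toAlgEquiv x = x + X.incl (D (X.proj x)) := by
  classical
  have hinj := X.isExtension.incl_injective
  have hsurj := X.isExtension.proj_surjective
  constructor
  · intro D
    let φ : X.E →ₐ[A] X.E :=
      { toFun := fun x => x + X.incl (D (X.proj x))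
        map_one' := by
          rw [map_one, D.map_one_eq_zero, map_zero, add_zero]
        map_mul' := fun x y => by
          have e1 : x * X.incl (D (X.proj y)) = X.incl (X.proj x • D (X.proj y)) :=
            X.isExtension.mul_incl _ _
          have e2 : X.incl (D (X.proj x)) * y = X.incl (X.proj y • D (X.proj x)) := by
            rw [mul_comm, X.isExtension.mul_incl]
          have e3 : X.incl (D (X.proj x)) * X.incl (D (X.proj y)) = 0 :=
            Groth.Agent.Lib.Exal_helper9.incl_mul_incl X _ _
          rw [map_mul, D.leibniz, map_add, add_mul, mul_add, mul_add, e1, e2, e3]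
          ring
        map_zero' := by
          rw [map_zero, map_zero, map_zero, add_zero]
        map_add' := fun x y => by
          rw [map_add, map_add, map_add]
          ring
        commutes' := fun a => by
          rw [X.proj.commutes, D.map_algebraMap, map_zero, add_zero] }
    refine ⟨Groth.Agent.Lib.Exal_helper9.equivOfHom X X φ (fun x => ?_) (fun z => ?_),
      fun x => rfl⟩
    · show X.proj (x + X.incl (D (X.proj x))) = X.proj x
      rw [map_add, Groth.Agent.Lib.Exal_helper9.proj_incl, add_zero]
    · show X.incl z + X.incl (D (X.proj (X.incl z))) = X.incl z
      rw [Groth.Agent.Lib.Exal_helper9.proj_incl, map_zero, map_zero, add_zero]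
  · intro e
    let lift : C → X.E := fun c => Function.surjInv hsurj c
    have hlift : ∀ c, X.proj (lift c) = c := fun c => Function.surjInv_eq hsurj c
    have hker : ∀ x : X.E, X.proj (e.toAlgEquiv x - x) = 0 := by
      intro x
      rw [map_sub, e.proj_apply, sub_self]
    let D₀ : C → L := fun c => X.kerLift _ (hker (lift c))
    have hD₀ : ∀ c, X.incl (D₀ c) = e.toAlgEquiv (lift c) - lift c :=
      fun c => X.incl_kerLift _ (hker (lift c))
    have key : ∀ x : X.E, e.toAlgEquiv x - x = X.incl (D₀ (X.proj x)) := by
      intro x
      obtain ⟨z, hz⟩ := Groth.Agent.Lib.Exal_helper9.exists_incl_eq_sub X (x := x)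
        (y := lift (X.proj x)) (by rw [hlift])
      have hx : x = lift (X.proj x) + X.incl z := by rw [hz]; ring
      rw [hD₀]
      conv_lhs => rw [hx]
      rw [map_add, e.apply_incl]
      ring
    let dl : C →ₗ[A] L :=
      { toFun := D₀
        map_add' := fun c c' => by
          apply hinj
          have h1 := key (lift c + lift c')
          rw [map_add X.proj, hlift, hlift] at h1
          rw [← h1, map_add, map_add, hD₀, hD₀]
          ring
        map_smul' := fun a c => by
          apply hinj
          have h1 := key (a • lift c)
          rw [map_smul X.proj, hlift, map_smul e.toAlgEquiv] at h1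
          rw [RingHom.id_apply, ← h1, ← smul_sub, ← hD₀, Algebra.smul_def,
            X.isExtension.mul_incl, X.proj.commutes, algebraMap_smul] }
    let D : Derivation A C L :=
      { toLinearMap := dl
        map_one_eq_zero' := by
          apply hinj
          show X.incl (D₀ 1) = X.incl 0
          have h1 := key 1
          rw [map_one, map_one, sub_self] at h1
          rw [← h1, map_zero]
        leibniz' := fun c c' => by
          apply hinj
          show X.incl (D₀ (c * c')) = X.incl (c • D₀ c' + c' • D₀ c)
          have h1 := key (lift c * lift c')
          rw [map_mul X.proj, hlift, hlift] at h1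
          have h2 : e.toAlgEquiv (lift c) = lift c + X.incl (D₀ c) := by rw [hD₀]; ring
          have h3 : e.toAlgEquiv (lift c') = lift c' + X.incl (D₀ c') := by rw [hD₀]; ring
          have e1 : lift c * X.incl (D₀ c') = X.incl (c • D₀ c') := by
            rw [X.isExtension.mul_incl, hlift]
          have e2 : X.incl (D₀ c) * lift c' = X.incl (c' • D₀ c) := by
            rw [mul_comm, X.isExtension.mul_incl, hlift]
          have e3 : X.incl (D₀ c) * X.incl (D₀ c') = 0 :=
            Groth.Agent.Lib.Exal_helper9.incl_mul_incl X _ _
          rw [← h1, map_mul, h2, h3, add_mul, mul_add, mul_add, e1, e2, e3, map_add]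
          ring }
    refine ⟨D, fun x => ?_, fun D' hD' => ?_⟩
    · show e.toAlgEquiv x = x + X.incl (D₀ (X.proj x))
      rw [← key]
      ring
    · apply Derivation.ext
      intro c
      apply hinj
      show X.incl (D' c) = X.incl (D₀ c)
      have h1 := hD' (lift c)
      rw [hlift] at h1
      have h2 := key (lift c)
      rw [hlift] at h2
      rw [← h2, h1]
      ring

end Groth.Agent.S5828
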