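import Groth.Statements.S5829
import Mathlib.Topology.Algebra.Ring.Basic
import Mathlib.RingTheory.Ideal.Operations

set_option autoImplicit false
universe u v w
open EGA41

namespace Groth.Agent.S5829

/-- Commutative case. Let B be a topological A-algebra in which the square of every open ideal is open,
and L a discrete B-module killed by an open ideal of B. Then every A-derivation B → L is continuous:
the submodule of continuous derivations is everything. (The topology of A is irrelevant and is not
assumed.) -/
theorem result {A : Type u} {B : Type v} {L : Type w} [CommRing A] [CommRing B]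
    [Algebra A B] [AddCommGroup L] [Module A L] [Module B L] [IsScalarTower A B L] [TopologicalSpace B]
    [IsTopologicalRing B] [TopologicalSpace L] [DiscreteTopology L] [ContinuousAdd L] [ContinuousConstSMul B L]
    (hsq : ∀ I : Ideal B, IsOpen (I : Set B) → IsOpen ((I ^ 2 : Ideal B) : Set B))
    (K : Ideal B) (hK : IsOpen (K : Set B)) (hKL : ∀ x ∈ K, ∀ z : L, x • z = 0) :
    TopMod.DerCont A B L = ⊤ := by
  rw [eq_top_iff]
  intro D _
  show Continuous D
  have hK2 : ∀ z ∈ (K ^ 2 : Ideal B), D z = 0 := by
    intro z hz
    rw [pow_two] at hz
    refine Submodule.mul_induction_on hz (fun m hm n hn => ?_) (fun x y hx hy => ?_)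
    · rw [Derivation.leibniz, hKL m hm, hKL n hn, add_zero]
    · rw [map_add, hx, hy, add_zero]
  have hopen := hsq K hK
  rw [continuous_discrete_rng]
  intro y
  rw [isOpen_iff_forall_mem_open]
  intro b hb
  refine ⟨(fun x => x - b) ⁻¹' ((K ^ 2 : Ideal B) : Set B), ?_,
    hopen.preimage (continuous_id.sub continuous_const), ?_⟩
  · intro x hx
    have h1 : D (x - b) = 0 := hK2 _ hx
    rw [map_sub, sub_eq_zero] at h1
    show D x = y
    rw [h1]
    exact hb
  · show b - b ∈ (K ^ 2 : Ideal B)
    rw [sub_self]
    exact Ideal.zero_mem _

end Groth.Agent.S5829
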