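import Groth.Statements.S5830
import Mathlib.Tactic.Module
import Mathlib.Tactic.Abel
import Mathlib.RingTheory.Smooth.Basic

set_option autoImplicit false
universe u v
open EGA41

namespace Groth.Agent.S5830

/-- A symmetric Hochschild 2-cocycle, bundled. -/
structure Cocycle (A : Type u) (B : Type v) (L : Type v) [CommRing A] [CommRing B] [Algebra A B]
    [AddCommGroup L] [Module B L] [Module A L] where
  f : B →ₗ[A] B →ₗ[A] L
  symm : ∀ x y : B, f x y = f y x
  coc : ∀ x y z : B, f (x * y) z + z • f x y = x • f y z + f x (y * z)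

section aux

variable {A : Type u} {B : Type v} {L : Type v} [CommRing A] [CommRing B] [Algebra A B]
    [AddCommGroup L] [Module B L] [Module A L]

theorem Cocycle.f_one (c : Cocycle A B L) (b : B) : c.f 1 b = b • c.f 1 1 := by
  have h := c.coc 1 1 b
  simp only [one_mul, one_smul] at h
  exact (add_left_cancel h).symm

/-- The Hochschild extension of `B` by `L` attached to a cocycle. -/
def HE (_c : Cocycle A B L) : Type v := B × L

namespace HE

variable {c : Cocycle A B L}

instance : AddCommGroup (HE c) := inferInstanceAs (AddCommGroup (B × L))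
instance : Module A (HE c) := inferInstanceAs (Module A (B × L))

def fst (p : HE c) : B := p.1
def snd (p : HE c) : L := p.2

theorem ext {p q : HE c} (h1 : fst p = fst q) (h2 : snd p = snd q) : p = q := Prod.ext h1 h2

instance : Mul (HE c) :=
  ⟨fun p q => ((p.1 * q.1, p.1 • q.2 + q.1 • p.2 + c.f p.1 q.1) : B × L)⟩
instance : One (HE c) := ⟨((1, - c.f 1 1) : B × L)⟩

theorem fst_mul (p q : HE c) : fst (p * q) = fst p * fst q := rfl
theorem snd_mul (p q : HE c) :
    snd (p * q) = fst p • snd q + fst q • snd p + c.f (fst p) (fst q) := rfl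
theorem fst_one : fst (1 : HE c) = 1 := rfl
theorem snd_one : snd (1 : HE c) = - c.f 1 1 := rfl
theorem fst_add (p q : HE c) : fst (p + q) = fst p + fst q := rfl
theorem snd_add (p q : HE c) : snd (p + q) = snd p + snd q := rfl
theorem fst_zero : fst (0 : HE c) = 0 := rfl
theorem snd_zero : snd (0 : HE c) = 0 := rfl
theorem fst_smul (a : A) (p : HE c) : fst (a • p) = a • fst p := rfl
theorem snd_smul (a : A) (p : HE c) : snd (a • p) = a • snd p := rfl

theorem mul_comm' (p q : HE c) : p * q = q * p := by
  refine ext ?_ ?_
  · rw [fst_mul, fst_mul, mul_comm]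
  · rw [snd_mul, snd_mul, c.symm (fst p) (fst q)]
    abel

theorem one_mul' (p : HE c) : 1 * p = p := by
  refine ext ?_ ?_
  · rw [fst_mul, fst_one, one_mul]
  · rw [snd_mul, fst_one, snd_one, c.f_one (fst p)]
    module

theorem mul_assoc' (p q r : HE c) : p * q * r = p * (q * r) := by
  refine ext ?_ ?_
  · simp only [fst_mul, mul_assoc]
  · simp only [fst_mul, snd_mul]
    have h := c.coc (fst p) (fst q) (fst r)
    have key : (fst p * fst q) • snd r +
        fst r • (fst p • snd q + fst q • snd p + c.f (fst p) (fst q)) +
        c.f (fst p * fst q) (fst r) +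
        (fst p • c.f (fst q) (fst r) + c.f (fst p) (fst q * fst r)) =
        fst p • (fst q • snd r + fst r • snd q + c.f (fst q) (fst r)) +
        (fst q * fst r) • snd p + c.f (fst p) (fst q * fst r) +
        (c.f (fst p * fst q) (fst r) + fst r • c.f (fst p) (fst q)) := by
      module
    rw [h] at key
    exact add_right_cancel key

theorem left_distrib' (p q r : HE c) : p * (q + r) = p * q + p * r := by
  refine ext ?_ ?_
  · simp only [fst_mul, fst_add, mul_add]
  · simp only [snd_mul, fst_add, snd_add, map_add]
    module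

theorem zero_mul' (p : HE c) : 0 * p = 0 := by
  refine ext ?_ ?_
  · rw [fst_mul, fst_zero, zero_mul]
  · rw [snd_mul, fst_zero, snd_zero, map_zero, LinearMap.zero_apply, zero_smul, smul_zero,
      add_zero, add_zero]

instance : CommRing (HE c) :=
  { (inferInstance : AddCommGroup (HE c)), (inferInstance : Mul (HE c)),
    (inferInstance : One (HE c)) with
    mul_assoc := mul_assoc'
    one_mul := one_mul'
    mul_one := fun p => by rw [mul_comm', one_mul']
    left_distrib := left_distrib'
    right_distrib := fun p q r => by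
      rw [mul_comm', left_distrib', mul_comm' r p, mul_comm' r q]
    zero_mul := zero_mul'
    mul_zero := fun p => by rw [mul_comm', zero_mul']
    mul_comm := mul_comm' }

variable [IsScalarTower A B L]

theorem smul_mul' (a : A) (p q : HE c) : a • p * q = a • (p * q) := by
  refine ext ?_ ?_
  · rw [fst_mul, fst_smul, fst_smul, fst_mul, smul_mul_assoc]
  · rw [snd_mul, fst_smul, snd_smul, snd_smul, snd_mul, map_smul, LinearMap.smul_apply,
      smul_add, smul_add, smul_assoc, smul_comm (fst q) a (snd p)]

instance : Algebra A (HE c) :=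
  Algebra.ofModule smul_mul' (fun a p q => by
    rw [mul_comm, smul_mul', mul_comm])

/-- The projection to `B`. -/
def proj : HE c →ₐ[A] B :=
  AlgHom.ofLinearMap
    { toFun := fst
      map_add' := fun _ _ => rfl
      map_smul' := fun _ _ => rfl } rfl (fun _ _ => rfl)

theorem proj_apply (p : HE c) : proj p = fst p := rfl

theorem proj_surjective : Function.Surjective (proj : HE c →ₐ[A] B) :=
  fun b => ⟨((b, 0) : B × L), rfl⟩

theorem isNilpotent_ker : IsNilpotent (RingHom.ker ((proj : HE c →ₐ[A] B) : HE c →+* B)) := by
  refine ⟨2, ?_⟩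
  rw [Ideal.zero_eq_bot, eq_bot_iff, pow_two, Ideal.mul_le]
  intro x hx y hy
  rw [RingHom.mem_ker] at hx hy
  have hx' : fst x = 0 := hx
  have hy' : fst y = 0 := hy
  rw [Ideal.mem_bot]
  refine ext ?_ ?_
  · rw [fst_mul, hx', zero_mul, fst_zero]
  · rw [snd_mul, hx', hy', map_zero, zero_smul, zero_smul, add_zero,
      add_zero, snd_zero]

end HE

end aux


/-- Discrete case. If B is a formally smooth A-algebra then, for every B-module L, every A-bilinear
symmetric Hochschild 2-cocycle f : B × B → L (f(xy, z) + z f(x, y) = x f(y, z) + f(x, yz)) is a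
Hochschild 2-coboundary: f(x, y) = x g(y) − g(xy) + y g(x) for some A-linear g : B → L. (The
published statement is for topological algebras and open ideals; this row is its discrete case.) -/
theorem result {A : Type u} {B : Type v} [CommRing A] [CommRing B]
    [Algebra A B] [Algebra.FormallySmooth A B] {L : Type v} [AddCommGroup L] [Module B L] [Module A L]
    [IsScalarTower A B L] (f : B →ₗ[A] B →ₗ[A] L) (hsymm : ∀ x y : B, f x y = f y x)
    (hcoc : ∀ x y z : B, f (x * y) z + z • f x y = x • f y z + f x (y * z)) :
    ∃ g : B →ₗ[A] L, ∀ x y : B, f x y = x • g y - g (x * y) + y • g x := by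
  let c : Cocycle A B L := ⟨f, hsymm, hcoc⟩
  let s : B →ₐ[A] HE c :=
    Algebra.FormallySmooth.liftOfSurjective (AlgHom.id A B) (HE.proj : HE c →ₐ[A] B)
      HE.proj_surjective HE.isNilpotent_ker
  have hs : ∀ b, HE.fst (s b) = b := fun b =>
    Algebra.FormallySmooth.liftOfSurjective_apply (AlgHom.id A B) (HE.proj : HE c →ₐ[A] B)
      HE.proj_surjective HE.isNilpotent_ker b
  let g : B →ₗ[A] L :=
    { toFun := fun b => - HE.snd (s b)
      map_add' := fun b b' => by
        rw [map_add, HE.snd_add, neg_add]
      map_smul' := fun a b => by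
        rw [map_smul, HE.snd_smul, RingHom.id_apply, smul_neg] }
  refine ⟨g, fun x y => ?_⟩
  have h := congrArg HE.snd (map_mul s x y)
  rw [HE.snd_mul, hs, hs] at h
  show f x y = x • (- HE.snd (s y)) - (- HE.snd (s (x * y))) + y • (- HE.snd (s x))
  rw [h]
  show c.f x y = _
  module

end Groth.Agent.S5830
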