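import Groth.Statements.S5831
import Groth.Agent.S5815
import Groth.Agent.Lib.Exal_helper9
import Mathlib.Algebra.Module.Projective
import Mathlib.Tactic.Ring
import Mathlib.Tactic.LinearCombination

set_option autoImplicit false
universe u
open EGA41

namespace Groth.Agent.S5831

/-- Discrete case. Let B be an A-algebra which is a projective A-module (A and B in one universe). If
for every B-module L in that universe every A-bilinear symmetric Hochschild 2-cocycle B × B → L is a
coboundary, then B is formally smooth over A. (The published statement assumes B formally projective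
as a topological A-module; for discrete rings this is projectivity.) -/
theorem result {A B : Type u} [CommRing A]
    [CommRing B] [Algebra A B] [Module.Projective A B]
    (h : ∀ (L : Type u) [AddCommGroup L] [Module B L] [Module A L] [IsScalarTower A B L]
      (f : B →ₗ[A] B →ₗ[A] L), (∀ x y : B, f x y = f y x) →
        (∀ x y z : B, f (x * y) z + z • f x y = x • f y z + f x (y * z)) →
          ∃ g : B →ₗ[A] L, ∀ x y : B, f x y = x • g y - g (x * y) + y • g x) :
    Algebra.FormallySmooth A B := by
  rw [Groth.Agent.S5815.result A B]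
  intro L _ _ X
  letI : Module A L := Module.compHom L (algebraMap A B)
  haveI : IsScalarTower A B L := IsScalarTower.of_algebraMap_smul (fun _ _ => rfl)
  have hinj := X.isExtension.incl_injective
  obtain ⟨σ, hσ⟩ := Module.projective_lifting_property (X.proj : X.E →ₐ[A] B).toLinearMap
    (LinearMap.id : B →ₗ[A] B) X.isExtension.proj_surjective
  have hσ' : ∀ x, X.proj (σ x) = x := fun x => LinearMap.congr_fun hσ x
  have hincl_smul : ∀ (a : A) (z : L), X.incl (a • z) = a • X.incl z := by
    intro a z
    rw [Algebra.smul_def, X.isExtension.mul_incl, X.proj.commutes]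
    rfl
  have hz : ∀ (b : B) (l : L), X.incl (b • l) = σ b * X.incl l := by
    intro b l
    rw [X.isExtension.mul_incl, hσ']
  have hker : ∀ x y, X.proj (σ x * σ y - σ (x * y)) = 0 := by
    intro x y
    rw [map_sub, map_mul, hσ', hσ', hσ', sub_self]
  let f₀ : B → B → L := fun x y => X.kerLift _ (hker x y)
  have hf₀ : ∀ x y, X.incl (f₀ x y) = σ x * σ y - σ (x * y) := fun x y =>
    X.incl_kerLift _ (hker x y)
  let f : B →ₗ[A] B →ₗ[A] L := LinearMap.mk₂ A f₀
    (fun x x' y => by
      apply hinj
      rw [map_add X.incl, hf₀, hf₀, hf₀, add_mul x x' y, map_add σ, map_add σ]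
      ring)
    (fun a x y => by
      apply hinj
      rw [hincl_smul, hf₀, hf₀, smul_mul_assoc a x y, map_smul σ, map_smul σ, smul_mul_assoc,
        smul_sub])
    (fun x y y' => by
      apply hinj
      rw [map_add X.incl, hf₀, hf₀, hf₀, mul_add x y y', map_add σ, map_add σ]
      ring)
    (fun a x y => by
      apply hinj
      rw [hincl_smul, hf₀, hf₀, mul_smul_comm a x y, map_smul σ, map_smul σ, mul_smul_comm,
        smul_sub])
  have hf : ∀ x y, f x y = f₀ x y := fun _ _ => rfl
  have hsymm : ∀ x y : B, f x y = f y x := by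
    intro x y
    apply hinj
    rw [hf, hf, hf₀, hf₀, mul_comm (σ x), mul_comm x]
  have hcoc : ∀ x y z : B, f (x * y) z + z • f x y = x • f y z + f x (y * z) := by
    intro x y z
    apply hinj
    rw [hf, hf, hf, hf, map_add, map_add, hz, hz, hf₀, hf₀, hf₀, hf₀, mul_assoc x y z]
    ring
  obtain ⟨g, hg⟩ := h L f hsymm hcoc
  let inclLin : L →ₗ[A] X.E :=
    { toFun := X.incl
      map_add' := map_add X.incl
      map_smul' := hincl_smul }
  let sl : B →ₗ[A] X.E := σ - inclLin.comp g
  have hsl : ∀ x, sl x = σ x - X.incl (g x) := fun _ => rfl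
  have hproj : ∀ x, X.proj (sl x) = x := by
    intro x
    rw [hsl, map_sub, hσ', Groth.Agent.Lib.Exal_helper9.proj_incl, sub_zero]
  have hmulsl : ∀ x y, sl (x * y) = sl x * sl y := by
    intro x y
    have e0 : σ x * σ y - σ (x * y) =
        X.incl (x • g y) - X.incl (g (x * y)) + X.incl (y • g x) := by
      rw [← hf₀, ← hf, hg x y, map_add, map_sub]
    have e0' : σ x * σ y =
        σ (x * y) + (X.incl (x • g y) - X.incl (g (x * y)) + X.incl (y • g x)) := by
      rw [← e0]; ring
    have e1 : σ x * X.incl (g y) = X.incl (x • g y) := (hz x (g y)).symm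
    have e2 : X.incl (g x) * σ y = X.incl (y • g x) := by
      rw [mul_comm]; exact (hz y (g x)).symm
    have e3 := Groth.Agent.Lib.Exal_helper9.incl_mul_incl X (g x) (g y)
    rw [hsl, hsl, hsl, sub_mul, mul_sub, mul_sub, e1, e2, e3, e0']
    ring
  have hone : sl 1 = 1 := by
    obtain ⟨z, hz1⟩ := Groth.Agent.Lib.Exal_helper9.exists_incl_eq_sub X (x := sl 1) (y := 1)
      (by rw [map_one X.proj]; exact hproj 1)
    have ht : sl 1 = 1 + X.incl z := by rw [hz1]; ring
    have hmul1 : sl 1 = sl 1 * sl 1 := by
      have := hmulsl 1 1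
      rwa [mul_one] at this
    rw [ht] at hmul1
    have e3 := Groth.Agent.Lib.Exal_helper9.incl_mul_incl X z z
    have h5 : (1 + X.incl z) * (1 + X.incl z) =
        1 + (X.incl z + X.incl z) + X.incl z * X.incl z := by ring
    rw [h5, e3, add_zero] at hmul1
    have h6 : X.incl z = 0 := by linear_combination (-1 : X.E) * hmul1
    rw [ht, h6, add_zero]
  exact ⟨AlgHom.ofLinearMap sl hone hmulsl, hproj⟩

end Groth.Agent.S5831
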