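import Groth.Statements.S5832
import Groth.Agent.Lib.Exal_helper9
import Mathlib.Tactic.Ring

set_option autoImplicit false
universe u u' v
open EGA41

namespace Groth.Agent.S5832

attribute [local instance] Exal.opModule Exal.isCentralScalar_opModule

/-- Surjectivity at the end of the sequence. For ring maps Λ → A → B → C and a C-module L, every
Λ-trivial A-extension of B by L is equivalent to the inverse image along B → C of a Λ-trivial
A-extension of C by L. (Exactness at the other places is that of the six-term derivation-extension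
sequence restricted to Λ-trivial classes.) -/
theorem result {Λ : Type u} {A : Type u'} {B C L : Type v}
    [CommRing Λ] [CommRing A] [CommRing B] [CommRing C] [Algebra Λ A] [Algebra Λ B] [Algebra Λ C]
    [Algebra A B] [Algebra B C] [Algebra A C] [IsScalarTower Λ A B] [IsScalarTower Λ A C] [IsScalarTower A B C]
    [AddCommGroup L] [Module C L] [Module B L] [IsScalarTower B C L]
    (Y : Exal.Ext A B L) (hY : Y.IsTrivialOver Λ) :
    ∃ X : Exal.Ext A C L, X.IsTrivialOver Λ ∧ Nonempty ((X.pullback B).Equiv Y) := by
  obtain ⟨s, hs⟩ := hY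
  let s₀ : B →+* Y.E := (s : B →+* (Y.restrictBase Λ).E)
  have hs₀ : ∀ b, Y.proj (s₀ b) = b := hs
  have hsΛ : ∀ l : Λ, s₀ (algebraMap Λ B l) = algebraMap A Y.E (algebraMap Λ A l) :=
    fun l => s.commutes l
  have hker : ∀ a : A, Y.proj (algebraMap A Y.E a - s₀ (algebraMap A B a)) = 0 := by
    intro a
    rw [map_sub, Y.proj.commutes, hs₀, sub_self]
  let D₀ : A → L := fun a => Y.kerLift _ (hker a)
  have hD₀ : ∀ a, Y.incl (D₀ a) = algebraMap A Y.E a - s₀ (algebraMap A B a) :=
    fun a => Y.incl_kerLift _ (hker a)
  have hinj := Y.isExtension.incl_injective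
  have hDadd : ∀ a a', D₀ (a + a') = D₀ a + D₀ a' := by
    intro a a'
    apply hinj
    rw [map_add Y.incl, hD₀, hD₀, hD₀, map_add (algebraMap A Y.E), map_add (algebraMap A B),
      map_add s₀]
    abel
  have hDone : D₀ 1 = 0 := by
    apply hinj
    rw [hD₀, map_one, map_one, map_one, sub_self, map_zero]
  have hDzero : D₀ 0 = 0 := by
    apply hinj
    rw [hD₀, map_zero, map_zero, map_zero, sub_self, map_zero]
  have hDΛ : ∀ l : Λ, D₀ (algebraMap Λ A l) = 0 := by
    intro l
    apply hinj
    rw [hD₀, ← IsScalarTower.algebraMap_apply Λ A B, hsΛ, sub_self, map_zero]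
  have hDmul : ∀ a a', D₀ (a * a') =
      algebraMap A C a • D₀ a' + algebraMap A C a' • D₀ a := by
    intro a a'
    apply hinj
    calc Y.incl (D₀ (a * a'))
        = algebraMap A Y.E (a * a') - s₀ (algebraMap A B (a * a')) := hD₀ _
      _ = algebraMap A Y.E a * Y.incl (D₀ a') + s₀ (algebraMap A B a') * Y.incl (D₀ a) := by
          rw [hD₀, hD₀, map_mul, map_mul, map_mul]; ring
      _ = Y.incl (Y.proj (algebraMap A Y.E a) • D₀ a') +
            Y.incl (Y.proj (s₀ (algebraMap A B a')) • D₀ a) := by
          rw [Y.isExtension.mul_incl, Y.isExtension.mul_incl]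
      _ = Y.incl (algebraMap A C a • D₀ a' + algebraMap A C a' • D₀ a) := by
          rw [Y.proj.commutes, hs₀, IsScalarTower.algebraMap_apply A B C a,
            IsScalarTower.algebraMap_apply A B C a', algebraMap_smul C (algebraMap A B a) (D₀ a'),
            algebraMap_smul C (algebraMap A B a') (D₀ a), map_add]
  have hmulT : ∀ (c c' : C) (d d' : L),
      (TrivSqZeroExt.inl c + TrivSqZeroExt.inr d : TrivSqZeroExt C L) *
        (TrivSqZeroExt.inl c' + TrivSqZeroExt.inr d') =
          TrivSqZeroExt.inl (c * c') + TrivSqZeroExt.inr (c • d' + c' • d) := by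
    intro c c' d d'
    apply TrivSqZeroExt.ext
    · simp
    · simp [TrivSqZeroExt.snd_mul, op_smul_eq_smul]
  let ρ : A →+* TrivSqZeroExt C L :=
    { toFun := fun a => TrivSqZeroExt.inl (algebraMap A C a) + TrivSqZeroExt.inr (D₀ a)
      map_one' := by
        rw [map_one, hDone, TrivSqZeroExt.inr_zero, add_zero, TrivSqZeroExt.inl_one]
      map_mul' := fun a a' => by
        rw [hmulT, map_mul, hDmul]
      map_zero' := by
        rw [map_zero, hDzero, TrivSqZeroExt.inl_zero, TrivSqZeroExt.inr_zero, add_zero]
      map_add' := fun a a' => by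
        rw [map_add, hDadd, TrivSqZeroExt.inl_add, TrivSqZeroExt.inr_add]
        abel }
  letI : Algebra A (TrivSqZeroExt C L) := ρ.toAlgebra
  have hρ : ∀ a, algebraMap A (TrivSqZeroExt C L) a =
      TrivSqZeroExt.inl (algebraMap A C a) + TrivSqZeroExt.inr (D₀ a) := fun _ => rfl
  let X : Exal.Ext A C L :=
    { E := TrivSqZeroExt C L
      proj :=
        { toFun := fun x => TrivSqZeroExt.fst x
          map_one' := TrivSqZeroExt.fst_one
          map_mul' := TrivSqZeroExt.fst_mul
          map_zero' := TrivSqZeroExt.fst_zero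
          map_add' := TrivSqZeroExt.fst_add
          commutes' := fun a => by
            show TrivSqZeroExt.fst (TrivSqZeroExt.inl (algebraMap A C a) +
              TrivSqZeroExt.inr (D₀ a)) = _
            rw [TrivSqZeroExt.fst_add, TrivSqZeroExt.fst_inl, TrivSqZeroExt.fst_inr, add_zero] }
      incl := (TrivSqZeroExt.inrHom C L).toAddMonoidHom
      isExtension :=
        { proj_surjective := fun c => ⟨TrivSqZeroExt.inl c, rfl⟩
          incl_injective := TrivSqZeroExt.inr_injective
          exact := fun x => by
            constructor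
            · intro hx
              exact ⟨TrivSqZeroExt.snd x, TrivSqZeroExt.ext hx.symm rfl⟩
            · rintro ⟨z, rfl⟩
              rfl
          mul_incl := fun x z => by
            refine TrivSqZeroExt.ext ?_ ?_
            · change TrivSqZeroExt.fst x * 0 = 0
              exact mul_zero _
            · change TrivSqZeroExt.fst x • z + MulOpposite.op (0 : C) • TrivSqZeroExt.snd x =
                TrivSqZeroExt.fst x • z
              rw [MulOpposite.op_zero, zero_smul, add_zero] } }
  refine ⟨X, ?_, ⟨?_⟩⟩
  · -- trivial over Λ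
    let σ₀ : C →+* (X.restrictBase Λ).E := TrivSqZeroExt.inlHom C L
    refine ⟨{ toRingHom := σ₀, commutes' := fun l => ?_ }, fun c => rfl⟩
    show TrivSqZeroExt.inl (algebraMap Λ C l) =
      TrivSqZeroExt.inl (algebraMap A C (algebraMap Λ A l)) +
        TrivSqZeroExt.inr (D₀ (algebraMap Λ A l))
    rw [hDΛ, TrivSqZeroExt.inr_zero, add_zero, ← IsScalarTower.algebraMap_apply Λ A C]
  · -- the comparison
    let F : (X.pullback B).E → C := fun p => TrivSqZeroExt.fst (show TrivSqZeroExt C L from p.1.1)
    let S : (X.pullback B).E → L := fun p => TrivSqZeroExt.snd (show TrivSqZeroExt C L from p.1.1)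
    let G : (X.pullback B).E → B := fun p => p.1.2
    have hFG : ∀ p, F p = algebraMap B C (G p) := fun p => p.2
    have hGmul : ∀ p q, G (p * q) = G p * G q := fun _ _ => rfl
    have hGadd : ∀ p q, G (p + q) = G p + G q := fun _ _ => rfl
    have hSmul : ∀ p q, S (p * q) = G p • S q + G q • S p := by
      intro p q
      show TrivSqZeroExt.snd ((show TrivSqZeroExt C L from p.1.1) *
        (show TrivSqZeroExt C L from q.1.1)) = _
      rw [TrivSqZeroExt.snd_mul, op_smul_eq_smul]
      show F p • S q + F q • S p = _
      rw [hFG, hFG, algebraMap_smul, algebraMap_smul]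
    have hSadd : ∀ p q, S (p + q) = S p + S q := fun _ _ => rfl
    let ψ : (X.pullback B).E →ₐ[A] Y.E :=
      { toFun := fun p => s₀ (G p) + Y.incl (S p)
        map_one' := by
          show s₀ 1 + Y.incl (TrivSqZeroExt.snd (1 : TrivSqZeroExt C L)) = 1
          rw [TrivSqZeroExt.snd_one, map_one, map_zero, add_zero]
        map_mul' := fun p q => by
          show s₀ (G (p * q)) + Y.incl (S (p * q)) =
            (s₀ (G p) + Y.incl (S p)) * (s₀ (G q) + Y.incl (S q))
          have e1 : s₀ (G p) * Y.incl (S q) = Y.incl (G p • S q) := by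
            rw [Y.isExtension.mul_incl, hs₀]
          have e2 : Y.incl (S p) * s₀ (G q) = Y.incl (G q • S p) := by
            rw [mul_comm, Y.isExtension.mul_incl, hs₀]
          have e3 : Y.incl (S p) * Y.incl (S q) = 0 :=
            Groth.Agent.Lib.Exal_helper9.incl_mul_incl Y _ _
          rw [hGmul, hSmul, map_mul, map_add, add_mul, mul_add, mul_add, e1, e2, e3]
          abel
        map_zero' := by
          show s₀ 0 + Y.incl (TrivSqZeroExt.snd (0 : TrivSqZeroExt C L)) = 0
          rw [TrivSqZeroExt.snd_zero, map_zero, map_zero, add_zero]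
        map_add' := fun p q => by
          show s₀ (G (p + q)) + Y.incl (S (p + q)) =
            (s₀ (G p) + Y.incl (S p)) + (s₀ (G q) + Y.incl (S q))
          rw [hGadd, hSadd, map_add, map_add]
          abel
        commutes' := fun a => by
          show s₀ (algebraMap A B a) + Y.incl (TrivSqZeroExt.snd
            (TrivSqZeroExt.inl (algebraMap A C a) + TrivSqZeroExt.inr (D₀ a) : TrivSqZeroExt C L)) =
              algebraMap A Y.E a
          rw [TrivSqZeroExt.snd_add, TrivSqZeroExt.snd_inl, TrivSqZeroExt.snd_inr, zero_add, hD₀]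
          abel }
    refine Groth.Agent.Lib.Exal_helper9.equivOfHom _ Y ψ (fun p => ?_) (fun z => ?_)
    · show Y.proj (s₀ (G p) + Y.incl (S p)) = G p
      rw [map_add, hs₀, Groth.Agent.Lib.Exal_helper9.proj_incl, add_zero]
    · show s₀ 0 + Y.incl (TrivSqZeroExt.snd (TrivSqZeroExt.inr z : TrivSqZeroExt C L)) = Y.incl z
      rw [TrivSqZeroExt.snd_inr, map_zero, zero_add]

end Groth.Agent.S5832
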