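import Groth.Statements.S5833
import Groth.Agent.Lib.CharHom_helper9
import Mathlib.LinearAlgebra.TensorProduct.RightExactness

set_option autoImplicit false
universe u v
open scoped TensorProduct
open EGA41
open Groth.Agent.Lib.CharHom_helper9

namespace Groth.Agent.S5833

/-- Let Λ → A → B be ring maps, K an ideal of B, C = B ⧸ K, and suppose E = B ⧸ K², as an extension of C
by K/K², is Λ-trivial. Let χ : Υ_{C/A/Λ} → K/K² be the characteristic homomorphism of E as an
A-extension, relative to Λ → A. Then: (a) the kernel of χ consists of the elements of Υ_{C/A/Λ} ⊆ C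
⊗_A Ω_{A/Λ} whose image in C ⊗_B Ω_{B/Λ} is zero (that image map is written as the base change to C
of B ⊗_A Ω_{A/Λ} → Ω_{B/Λ}, through the canonical identification C ⊗_B (B ⊗_A Ω_{A/Λ}) = C ⊗_A
Ω_{A/Λ}); (b) the image of χ is the kernel of the conormal map K/K² → C ⊗_B Ω_{B/A}, x ↦ 1 ⊗ dx.
This is the exact sequence 0 → Υ^C_{B/A/Λ} → Υ_{C/A/Λ} → K/K² → C ⊗_B Ω_{B/A} → Ω_{C/A} → 0 up to
its last two (conormal-sequence) terms. -/
theorem result {Λ : Type u} {A B : Type v} [CommRing Λ]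
    [CommRing A] [CommRing B] [Algebra Λ A] [Algebra Λ B] [Algebra A B] [IsScalarTower Λ A B] (K : Ideal B)
    (htriv : ((Exal.Ext.infinitesimal K).restrictBase A).IsTrivialOver Λ)
    (χ : ↥(EGA41.imperfection Λ A (B ⧸ K)) →ₗ[B ⧸ K] K.Cotangent)
    (hχ : ((Exal.Ext.infinitesimal K).restrictBase A).IsCharHom Λ χ) :
    (∀ z : ↥(EGA41.imperfection Λ A (B ⧸ K)),
        χ z = 0 ↔
          ((KaehlerDifferential.mapBaseChange Λ A B).baseChange (B ⧸ K))
              ((TensorProduct.AlgebraTensorModule.cancelBaseChange A B (B ⧸ K) (B ⧸ K) Ω[A⁄Λ]).symm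
                (z : (B ⧸ K) ⊗[A] Ω[A⁄Λ])) = 0) ∧
      ∀ (x : B) (hx : x ∈ K),
        K.toCotangent ⟨x, hx⟩ ∈ LinearMap.range χ ↔
          (1 : B ⧸ K) ⊗ₜ[B] KaehlerDifferential.D A B x = (0 : (B ⧸ K) ⊗[B] Ω[B⁄A]) := by
  classical
  haveI : IsScalarTower Λ (B ⧸ K) K.Cotangent := ⟨fun a c l => by
    obtain ⟨b, rfl⟩ := Ideal.Quotient.mk_surjective c
    have e1 : a • (Ideal.Quotient.mk K b) = Ideal.Quotient.mk K (a • b) :=
      (map_smul (Ideal.Quotient.mkₐ Λ K) a b).symm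
    rw [e1, ← Ideal.Quotient.algebraMap_eq, algebraMap_smul, algebraMap_smul, smul_assoc]⟩
  obtain ⟨σ⟩ := exists_sec Λ ((Exal.Ext.infinitesimal K).restrictBase A) htriv
  have hχ' := eq_charLift_of_isCharHom σ hχ
  -- the same section, for the `B`-extension
  let τ : Sec Λ (Exal.Ext.infinitesimal K) :=
    { s := (σ.s : (B ⧸ K) →+* (Exal.Ext.infinitesimal K).E)
      proj_s := σ.proj_s
      s_algebraMap := fun l => (σ.s_algebraMap l).trans (by
        show algebraMap B (Exal.Ext.infinitesimal K).E (algebraMap A B (algebraMap Λ A l)) = _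
        rw [← IsScalarTower.algebraMap_apply Λ A B]) }
  have hδ : ∀ e : (Exal.Ext.infinitesimal K).E, delta τ e = delta σ e := by
    intro e
    apply (Exal.Ext.infinitesimal K).isExtension.incl_injective
    rw [incl_delta]
    exact (incl_delta σ e).symm
  -- the comparison map
  let Φ : (B ⧸ K) ⊗[A] Ω[A⁄Λ] →ₗ[B ⧸ K] (B ⧸ K) ⊗[B] Ω[B⁄Λ] :=
    ((KaehlerDifferential.mapBaseChange Λ A B).baseChange (B ⧸ K)).comp
      (TensorProduct.AlgebraTensorModule.cancelBaseChange A B (B ⧸ K) (B ⧸ K)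
        Ω[A⁄Λ]).symm.toLinearMap
  have hΦ : ∀ (c : B ⧸ K) (a : A), Φ (c ⊗ₜ[A] KaehlerDifferential.D Λ A a) =
      c ⊗ₜ[B] KaehlerDifferential.D Λ B (algebraMap A B a) := by
    intro c a
    show ((KaehlerDifferential.mapBaseChange Λ A B).baseChange (B ⧸ K))
      ((TensorProduct.AlgebraTensorModule.cancelBaseChange A B (B ⧸ K) (B ⧸ K) Ω[A⁄Λ]).symm
        (c ⊗ₜ[A] KaehlerDifferential.D Λ A a)) = _
    rw [TensorProduct.AlgebraTensorModule.cancelBaseChange_symm_tmul, LinearMap.baseChange_tmul,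
      KaehlerDifferential.mapBaseChange_tmul, one_smul, KaehlerDifferential.map_D]
  have h1 : charLift σ = (charLift τ).comp Φ := by
    apply ext_tmul_D
    intro c a
    rw [charLift_tmul_D, LinearMap.comp_apply, hΦ, charLift_tmul_D, hδ]
    rfl
  have h2 : ∀ z, KaehlerDifferential.mapBaseChange Λ B (B ⧸ K) (Φ z) =
      KaehlerDifferential.mapBaseChange Λ A (B ⧸ K) z := by
    have : (KaehlerDifferential.mapBaseChange Λ B (B ⧸ K)).comp Φ =
        KaehlerDifferential.mapBaseChange Λ A (B ⧸ K) := by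
      apply ext_tmul_D
      intro c a
      rw [LinearMap.comp_apply, hΦ, KaehlerDifferential.mapBaseChange_tmul,
        KaehlerDifferential.mapBaseChange_tmul, KaehlerDifferential.map_D,
        KaehlerDifferential.map_D, ← IsScalarTower.algebraMap_apply A B (B ⧸ K)]
    intro z
    exact LinearMap.congr_fun this z
  have key : ∀ x : K, charLift τ ((1 : B ⧸ K) ⊗ₜ[B] KaehlerDifferential.D Λ B (x : B)) =
      K.toCotangent x := by
    intro x
    rw [charLift_tmul_D, one_smul]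
    have h1 : algebraMap B (Exal.Ext.infinitesimal K).E (x : B) =
        (Exal.Ext.infinitesimal K).incl (K.toCotangent x) :=
      (Ideal.toCotangent_to_quotient_square K x).symm
    rw [h1, delta_incl]
  have hker : RingHom.ker (algebraMap B (B ⧸ K)) = K := by
    rw [Ideal.Quotient.algebraMap_eq, Ideal.mk_ker]
  have hmemK : ∀ x : B, x ∈ K → KaehlerDifferential.mapBaseChange Λ B (B ⧸ K)
      ((1 : B ⧸ K) ⊗ₜ[B] KaehlerDifferential.D Λ B x) = 0 := by
    intro x hx
    rw [KaehlerDifferential.mapBaseChange_tmul, one_smul,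
      KaehlerDifferential.map_D, Ideal.Quotient.algebraMap_eq,
      Ideal.Quotient.eq_zero_iff_mem.2 hx, map_zero]
  have hzero : ∀ w : (B ⧸ K) ⊗[B] Ω[B⁄Λ],
      KaehlerDifferential.mapBaseChange Λ B (B ⧸ K) w = 0 → charLift τ w = 0 → w = 0 := by
    intro w hw h0
    obtain ⟨y, hy⟩ := (KaehlerDifferential.exact_kerCotangentToTensor_mapBaseChange Λ B (B ⧸ K)
      Ideal.Quotient.mk_surjective _).1 hw
    obtain ⟨x, rfl⟩ := Ideal.toCotangent_surjective _ y
    rw [KaehlerDifferential.kerCotangentToTensor_toCotangent] at hy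
    have hxK : (x : B) ∈ K := (congrArg (fun I : Ideal B => (x : B) ∈ I) hker).mp x.2
    have h1 : K.toCotangent ⟨(x : B), hxK⟩ = 0 := by
      rw [← key ⟨(x : B), hxK⟩]
      show charLift τ ((1 : B ⧸ K) ⊗ₜ[B] KaehlerDifferential.D Λ B (x : B)) = 0
      rw [hy]
      exact h0
    have h2 : (x : B) ∈ K ^ 2 := (Ideal.toCotangent_eq_zero K ⟨(x : B), hxK⟩).1 h1
    have h3 : (RingHom.ker (algebraMap B (B ⧸ K))).toCotangent x = 0 := by
      rw [Ideal.toCotangent_eq_zero]
      exact (congrArg (fun I : Ideal B => (x : B) ∈ I ^ 2) hker).mpr h2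
    have h4 : KaehlerDifferential.kerCotangentToTensor Λ B (B ⧸ K)
        ((RingHom.ker (algebraMap B (B ⧸ K))).toCotangent x) = 0 := by
      rw [h3, map_zero]
    rw [KaehlerDifferential.kerCotangentToTensor_toCotangent] at h4
    exact hy.symm.trans h4
  have hΦz : ∀ z : ↥(EGA41.imperfection Λ A (B ⧸ K)),
      KaehlerDifferential.mapBaseChange Λ B (B ⧸ K) (Φ (z : (B ⧸ K) ⊗[A] Ω[A⁄Λ])) = 0 := by
    intro z
    rw [h2]
    exact z.2
  have hgf : (KaehlerDifferential.map Λ A B B).comp (KaehlerDifferential.mapBaseChange Λ A B) = 0 :=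
    LinearMap.ext fun y => (KaehlerDifferential.exact_mapBaseChange_map Λ A B _).2 ⟨y, rfl⟩
  refine ⟨fun z => ?_, fun x hx => ?_⟩
  · rw [hχ' z, h1, LinearMap.comp_apply]
    constructor
    · intro h0
      exact hzero _ (hΦz z) h0
    · intro h0
      have h0' : Φ (z : (B ⧸ K) ⊗[A] Ω[A⁄Λ]) = 0 := h0
      rw [h0', map_zero]
  · constructor
    · rintro ⟨z, hz⟩
      have hρ1 : charLift τ (Φ (z : (B ⧸ K) ⊗[A] Ω[A⁄Λ])) = K.toCotangent ⟨x, hx⟩ := by
        rw [← hz, hχ' z, h1]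
        rfl
      have hρ2 : charLift τ ((1 : B ⧸ K) ⊗ₜ[B] KaehlerDifferential.D Λ B x) =
          K.toCotangent ⟨x, hx⟩ := key ⟨x, hx⟩
      have e : Φ (z : (B ⧸ K) ⊗[A] Ω[A⁄Λ]) -
          (1 : B ⧸ K) ⊗ₜ[B] KaehlerDifferential.D Λ B x = 0 :=
        hzero _ (by rw [map_sub, hΦz z, hmemK x hx, sub_zero])
          (by rw [map_sub, hρ1, hρ2, sub_self])
      have e' : Φ (z : (B ⧸ K) ⊗[A] Ω[A⁄Λ]) =
          (1 : B ⧸ K) ⊗ₜ[B] KaehlerDifferential.D Λ B x := sub_eq_zero.1 e
      have hΨ : ((KaehlerDifferential.map Λ A B B).baseChange (B ⧸ K))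
          (Φ (z : (B ⧸ K) ⊗[A] Ω[A⁄Λ])) = 0 := by
        show ((KaehlerDifferential.map Λ A B B).baseChange (B ⧸ K))
          (((KaehlerDifferential.mapBaseChange Λ A B).baseChange (B ⧸ K))
            ((TensorProduct.AlgebraTensorModule.cancelBaseChange A B (B ⧸ K) (B ⧸ K)
              Ω[A⁄Λ]).symm (z : (B ⧸ K) ⊗[A] Ω[A⁄Λ]))) = 0
        rw [← LinearMap.comp_apply, ← LinearMap.baseChange_comp, hgf, LinearMap.baseChange_zero,
          LinearMap.zero_apply]
      rw [e', LinearMap.baseChange_tmul, KaehlerDifferential.map_D] at hΨ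
      exact hΨ
    · intro h0
      have hΨ : ((KaehlerDifferential.map Λ A B B).lTensor (B ⧸ K))
          ((1 : B ⧸ K) ⊗ₜ[B] KaehlerDifferential.D Λ B x) = 0 := by
        rw [LinearMap.lTensor_tmul, KaehlerDifferential.map_D]
        exact h0
      obtain ⟨y, hy⟩ := (lTensor_exact (B ⧸ K) (KaehlerDifferential.exact_mapBaseChange_map Λ A B)
        (KaehlerDifferential.map_surjective Λ A B) _).1 hΨ
      have hΦ0 : Φ (TensorProduct.AlgebraTensorModule.cancelBaseChange A B (B ⧸ K) (B ⧸ K)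
          Ω[A⁄Λ] y) = (1 : B ⧸ K) ⊗ₜ[B] KaehlerDifferential.D Λ B x := by
        show ((KaehlerDifferential.mapBaseChange Λ A B).baseChange (B ⧸ K))
          ((TensorProduct.AlgebraTensorModule.cancelBaseChange A B (B ⧸ K) (B ⧸ K) Ω[A⁄Λ]).symm
            (TensorProduct.AlgebraTensorModule.cancelBaseChange A B (B ⧸ K) (B ⧸ K)
              Ω[A⁄Λ] y)) = _
        rw [LinearEquiv.symm_apply_apply]
        exact hy
      have hz₀ : TensorProduct.AlgebraTensorModule.cancelBaseChange A B (B ⧸ K) (B ⧸ K)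
          Ω[A⁄Λ] y ∈ EGA41.imperfection Λ A (B ⧸ K) := by
        show _ ∈ LinearMap.ker (KaehlerDifferential.mapBaseChange Λ A (B ⧸ K))
        rw [LinearMap.mem_ker, ← h2, hΦ0, hmemK x hx]
      refine ⟨⟨_, hz₀⟩, ?_⟩
      rw [hχ', h1, LinearMap.comp_apply]
      show charLift τ (Φ (TensorProduct.AlgebraTensorModule.cancelBaseChange A B (B ⧸ K) (B ⧸ K)
          Ω[A⁄Λ] y)) = _
      rw [hΦ0]
      exact key ⟨x, hx⟩

end Groth.Agent.S5833
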