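import Groth.Statements.S5834
import Groth.Agent.S5833
import Mathlib.RingTheory.Smooth.Basic
import Mathlib.RingTheory.Kaehler.JacobiZariski
import Mathlib.Algebra.Module.Projective

set_option autoImplicit false
universe u v
open EGA41
open scoped TensorProduct

namespace Groth.Agent.S5834

/-- Let Λ → A → B be ring maps with B formally smooth over A, K an ideal of B, C = B ⧸ K, and suppose E
= B ⧸ K², as an extension of C by K/K², is Λ-trivial. Then the characteristic homomorphism χ :
Υ_{C/A/Λ} → K/K² of E as an A-extension relative to Λ → A is injective (so that, with the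
description of its image as the kernel of K/K² → C ⊗_B Ω_{B/A}, the sequence 0 → Υ_{C/A/Λ} → K/K² →
C ⊗_B Ω_{B/A} → Ω_{C/A} → 0 is exact). -/
theorem result {Λ : Type u} {A B : Type v} [CommRing Λ]
    [CommRing A] [CommRing B] [Algebra Λ A] [Algebra Λ B] [Algebra A B] [IsScalarTower Λ A B]
    [Algebra.FormallySmooth A B] (K : Ideal B)
    (htriv : ((Exal.Ext.infinitesimal K).restrictBase A).IsTrivialOver Λ)
    (χ : ↥(EGA41.imperfection Λ A (B ⧸ K)) →ₗ[B ⧸ K] K.Cotangent)
    (hχ : ((Exal.Ext.infinitesimal K).restrictBase A).IsCharHom Λ χ) :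
    Function.Injective χ := by
  classical
  have ha := (Groth.Agent.S5833.result K htriv χ hχ).1
  rw [injective_iff_map_eq_zero]
  intro z hz
  have h1 := (ha z).1 hz
  have hinj : Function.Injective (KaehlerDifferential.mapBaseChange Λ A B) := by
    rw [injective_iff_map_eq_zero]
    intro x hx
    obtain ⟨y, rfl⟩ := (Algebra.H1Cotangent.exact_δ_mapBaseChange Λ A B x).1 hx
    rw [Subsingleton.elim y 0, map_zero]
  obtain ⟨t, ht0⟩ := Module.projective_lifting_property (KaehlerDifferential.map Λ A B B)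
    (LinearMap.id : Ω[B⁄A] →ₗ[B] Ω[B⁄A]) (KaehlerDifferential.map_surjective Λ A B)
  have ht : ∀ ω : Ω[B⁄A], KaehlerDifferential.map Λ A B B (t ω) = ω := fun ω =>
    LinearMap.congr_fun ht0 ω
  have hπ : ∀ ω : Ω[B⁄Λ], ω - t (KaehlerDifferential.map Λ A B B ω) ∈
      LinearMap.range (KaehlerDifferential.mapBaseChange Λ A B) := by
    intro ω
    rw [KaehlerDifferential.range_mapBaseChange, LinearMap.mem_ker, map_sub, ht, sub_self]
  let e : (B ⊗[A] Ω[A⁄Λ]) ≃ₗ[B] LinearMap.range (KaehlerDifferential.mapBaseChange Λ A B) :=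
    LinearEquiv.ofInjective (KaehlerDifferential.mapBaseChange Λ A B) hinj
  let l : Ω[B⁄Λ] →ₗ[B] B ⊗[A] Ω[A⁄Λ] :=
    e.symm.toLinearMap.comp
      (LinearMap.codRestrict (LinearMap.range (KaehlerDifferential.mapBaseChange Λ A B))
        (LinearMap.id - t.comp (KaehlerDifferential.map Λ A B B)) (fun ω => hπ ω))
  have hl : l.comp (KaehlerDifferential.mapBaseChange Λ A B) = LinearMap.id := by
    apply LinearMap.ext
    intro y
    have h0 : KaehlerDifferential.map Λ A B B (KaehlerDifferential.mapBaseChange Λ A B y) = 0 :=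
      (KaehlerDifferential.exact_mapBaseChange_map Λ A B _).2 ⟨y, rfl⟩
    show e.symm ⟨KaehlerDifferential.mapBaseChange Λ A B y -
      t (KaehlerDifferential.map Λ A B B (KaehlerDifferential.mapBaseChange Λ A B y)), _⟩ = y
    rw [LinearEquiv.symm_apply_eq]
    apply Subtype.ext
    show KaehlerDifferential.mapBaseChange Λ A B y -
      t (KaehlerDifferential.map Λ A B B (KaehlerDifferential.mapBaseChange Λ A B y)) =
        KaehlerDifferential.mapBaseChange Λ A B y
    rw [h0, map_zero, sub_zero]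
  have h2 : (l.baseChange (B ⧸ K)) (((KaehlerDifferential.mapBaseChange Λ A B).baseChange (B ⧸ K))
      ((TensorProduct.AlgebraTensorModule.cancelBaseChange A B (B ⧸ K) (B ⧸ K) Ω[A⁄Λ]).symm
        (z : (B ⧸ K) ⊗[A] Ω[A⁄Λ]))) =
      (TensorProduct.AlgebraTensorModule.cancelBaseChange A B (B ⧸ K) (B ⧸ K) Ω[A⁄Λ]).symm
        (z : (B ⧸ K) ⊗[A] Ω[A⁄Λ]) := by
    rw [← LinearMap.comp_apply, ← LinearMap.baseChange_comp, hl, LinearMap.baseChange_id,
      LinearMap.id_apply]
  rw [h1, map_zero] at h2
  apply Subtype.ext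
  exact (LinearEquiv.map_eq_zero_iff _).1 h2.symm

end Groth.Agent.S5834
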