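import Groth.Statements.S5835
import Groth.Agent.Lib.Admissible_helper3
-- import your own Groth.Agent.* helpers here

set_option autoImplicit false
universe v w
open scoped TensorProduct
open Groth.Agent.Lib.AdmissibleH3
set_option maxSynthPendingDepth 3
open EGA41

namespace Groth.Agent.S5835

/-- For fields k₀ ⊆ k ⊆ K ⊆ L, the map of imperfection modules Υ_{L/K/k₀} → Υ_{L/K/k} induced by
Ω_{K/k₀} → Ω_{K/k} is injective (k is k₀-admissible for the extension L of K) in each of the
following cases: L is separable over k; L is separable over K; k lies in k₀(K^p), p the
characteristic exponent. Separable means geometrically reduced (not necessarily algebraic). -/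
theorem result {k : Type v} {k₀ K L : Type w}
    [Field k₀] [Field k] [Field K] [Field L] [Algebra k₀ k] [Algebra k₀ K] [Algebra k₀ L] [Algebra k K]
    [Algebra k L] [Algebra K L] [IsScalarTower k₀ k K] [IsScalarTower k₀ k L] [IsScalarTower k₀ K L]
    [IsScalarTower k K L] (p : ℕ) [ExpChar K p]
    (h : Algebra.IsGeometricallyReduced k L ∨ Algebra.IsGeometricallyReduced K L ∨
      ∀ x : k, algebraMap k K x ∈ EGA41.pPowerSubalgebra p k₀ K) :
    ∀ z : L ⊗[K] Ω[K⁄k₀], z ∈ EGA41.imperfection k₀ K L →
      (KaehlerDifferential.map k₀ k K K).baseChange L z = 0 → z = 0 := by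
  intro z hz hz0
  have hz' : KaehlerDifferential.mapBaseChange k₀ K L z = 0 := hz
  rcases h with h | h | h
  · haveI := h
    haveI : Algebra.FormallySmooth k L := formallySmooth_of_isGeometricallyReduced' k L
    have hex := exact_baseChange L (KaehlerDifferential.exact_mapBaseChange_map k₀ k K)
      (KaehlerDifferential.map_surjective k₀ k K)
    obtain ⟨w, rfl⟩ := (hex z).1 hz0
    have h1 := LinearMap.congr_fun
      (Groth.Agent.Lib.CartierH3.mbc_tower k₀ (A := k) (B := K) (C := L)) w
    rw [LinearMap.comp_apply, LinearMap.comp_apply, hz'] at h1
    have h2 := mapBaseChange_injective_of_formallySmooth k₀ k L (h1.trans (map_zero _).symm)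
    have h3 : w = 0 := by
      apply (TensorProduct.AlgebraTensorModule.cancelBaseChange k K L L Ω[k⁄k₀]).injective
      rw [map_zero]
      exact h2
    rw [h3, map_zero]
  · haveI := h
    haveI : Algebra.FormallySmooth K L := formallySmooth_of_isGeometricallyReduced' K L
    exact mapBaseChange_injective_of_formallySmooth k₀ K L (hz'.trans (map_zero _).symm)
  · have hE : ExpChar K p := inferInstance
    cases hE with
    | zero =>
      haveI : Algebra.FormallySmooth K L :=
        Groth.Agent.Lib.SepSmoothH3.formallySmooth_of_charZero K L
      exact mapBaseChange_injective_of_formallySmooth k₀ K L (hz'.trans (map_zero _).symm)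
    | prime hp =>
      have hmbc : ∀ y : K ⊗[k] Ω[k⁄k₀], KaehlerDifferential.mapBaseChange k₀ k K y = 0 := by
        intro y
        induction y using TensorProduct.induction_on with
        | zero => simp
        | add a b ha hb => rw [map_add, ha, hb, add_zero]
        | tmul c ω' =>
          rw [KaehlerDifferential.mapBaseChange_tmul]
          have h0 : KaehlerDifferential.map k₀ k₀ k K ω' = 0 := by
            have hω' : ω' ∈ Submodule.span k (Set.range (KaehlerDifferential.D k₀ k)) := by
              rw [KaehlerDifferential.span_range_derivation]
              trivial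
            induction hω' using Submodule.span_induction with
            | mem x hx =>
              obtain ⟨a, rfl⟩ := hx
              rw [KaehlerDifferential.map_D]
              exact Groth.Agent.Lib.PBasisH3.D_eq_zero_of_mem_pPower p _ (h a)
            | zero => simp
            | add x y _ _ hx hy => rw [map_add, hx, hy, add_zero]
            | smul c x _ hx => rw [map_smul, hx, smul_zero]
          rw [h0, smul_zero]
      have hinj : Function.Injective (KaehlerDifferential.map k₀ k K K) := by
        rw [injective_iff_map_eq_zero]
        intro ω hω
        obtain ⟨y, rfl⟩ := (KaehlerDifferential.exact_mapBaseChange_map k₀ k K ω).1 hω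
        exact hmbc y
      have hinj' : Function.Injective ((KaehlerDifferential.map k₀ k K K).baseChange L) :=
        Module.Flat.lTensor_preserves_injective_linearMap (M := L) _ hinj
      exact hinj' (hz0.trans (map_zero _).symm)

end Groth.Agent.S5835
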