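import Groth.Statements.S5836
import Groth.Agent.Lib.Admissible_helper3
-- import your own Groth.Agent.* helpers here

set_option autoImplicit false
universe u u' u'' w
open scoped TensorProduct
open Groth.Agent.Lib.AdmissibleH3
set_option maxSynthPendingDepth 3
open EGA41

namespace Groth.Agent.S5836

/-- For fields k ⊆ k' ⊆ k'' ⊆ K ⊆ L put Δ(L/K, a/b) = ker(Υ_{L/K/b} → Υ_{L/K/a}) ⊆ L ⊗_K Ω_{K/b}. Then 0
→ Δ(L/K, k'/k) → Δ(L/K, k''/k) → Δ(L/K, k''/k') → 0 is exact: stated as the surjectivity of the map
induced by L ⊗_K Ω_{K/k} → L ⊗_K Ω_{K/k'} (exactness on the left and in the middle hold by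
construction), together with the resulting identity of ranks d(L/K, k''/k) = d(L/K, k''/k') + d(L/K,
k'/k). -/
theorem result {k : Type u} {k' : Type u'} {k'' : Type u''} {K L : Type w}
    [Field k] [Field k'] [Field k''] [Field K] [Field L]
    [Algebra k k'] [Algebra k k''] [Algebra k' k''] [IsScalarTower k k' k'']
    [Algebra k K] [Algebra k' K] [Algebra k'' K] [IsScalarTower k k' K] [IsScalarTower k' k'' K]
    [IsScalarTower k k'' K] [Algebra K L] [Algebra k L] [Algebra k' L] [Algebra k'' L]
    [IsScalarTower k K L] [IsScalarTower k' K L] [IsScalarTower k'' K L] :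
    (∀ w : L ⊗[K] Ω[K⁄k'], w ∈ EGA41.imperfection k' K L →
        (KaehlerDifferential.map k' k'' K K).baseChange L w = 0 →
          ∃ z : L ⊗[K] Ω[K⁄k], z ∈ EGA41.imperfection k K L ∧
            (KaehlerDifferential.map k k'' K K).baseChange L z = 0 ∧
              (KaehlerDifferential.map k k' K K).baseChange L z = w) ∧
      Module.rank L ↥(EGA41.imperfection k K L ⊓
            LinearMap.ker ((KaehlerDifferential.map k k'' K K).baseChange L)) =
        Module.rank L ↥(EGA41.imperfection k' K L ⊓
              LinearMap.ker ((KaehlerDifferential.map k' k'' K K).baseChange L)) +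
          Module.rank L ↥(EGA41.imperfection k K L ⊓
              LinearMap.ker ((KaehlerDifferential.map k k' K K).baseChange L)) := by
  haveI : IsScalarTower k k' L := IsScalarTower.of_algebraMap_eq fun x => by
    rw [IsScalarTower.algebraMap_apply k K L, IsScalarTower.algebraMap_apply k k' K,
      ← IsScalarTower.algebraMap_apply k' K L]
  have hβsurj : Function.Surjective ((KaehlerDifferential.map k k' K K).baseChange L) :=
    LinearMap.lTensor_surjective L (KaehlerDifferential.map_surjective k k' K)
  have hcomp : ∀ z : L ⊗[K] Ω[K⁄k],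
      (KaehlerDifferential.map k' k'' K K).baseChange L
        ((KaehlerDifferential.map k k' K K).baseChange L z) =
      (KaehlerDifferential.map k k'' K K).baseChange L z := by
    intro z
    rw [← LinearMap.comp_apply, ← LinearMap.baseChange_comp, map_comp_map]
  have hpart1 : ∀ w : L ⊗[K] Ω[K⁄k'], w ∈ EGA41.imperfection k' K L →
      (KaehlerDifferential.map k' k'' K K).baseChange L w = 0 →
        ∃ z : L ⊗[K] Ω[K⁄k], z ∈ EGA41.imperfection k K L ∧
          (KaehlerDifferential.map k k'' K K).baseChange L z = 0 ∧
            (KaehlerDifferential.map k k' K K).baseChange L z = w := by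
    intro w hw hw0
    obtain ⟨z₀, rfl⟩ := hβsurj w
    have hy : KaehlerDifferential.map k k' L L (KaehlerDifferential.mapBaseChange k K L z₀) = 0 := by
      rw [map_mapBaseChange]
      exact hw
    obtain ⟨u, hu⟩ := (KaehlerDifferential.exact_mapBaseChange_map k k' L _).1 hy
    refine ⟨z₀ - tMap k (B := K) u, ?_, ?_, ?_⟩
    · show KaehlerDifferential.mapBaseChange k K L (z₀ - tMap k (B := K) u) = 0
      rw [map_sub, mapBaseChange_tMap, hu, sub_self]
    · rw [← hcomp, map_sub, baseChange_map_tMap, sub_zero]
      exact hw0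
    · rw [map_sub, baseChange_map_tMap, sub_zero]
  refine ⟨hpart1, ?_⟩
  have h := rank_eq_rank_map_add_rank_inf ((KaehlerDifferential.map k k' K K).baseChange L)
    (EGA41.imperfection k K L ⊓ LinearMap.ker ((KaehlerDifferential.map k k'' K K).baseChange L))
  have hB : (EGA41.imperfection k K L ⊓
      LinearMap.ker ((KaehlerDifferential.map k k'' K K).baseChange L)).map
        ((KaehlerDifferential.map k k' K K).baseChange L) =
      EGA41.imperfection k' K L ⊓
        LinearMap.ker ((KaehlerDifferential.map k' k'' K K).baseChange L) := by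
    apply le_antisymm
    · rintro _ ⟨z, hz, rfl⟩
      obtain ⟨hz1, hz2⟩ := Submodule.mem_inf.1 hz
      refine Submodule.mem_inf.2 ⟨?_, ?_⟩
      · show KaehlerDifferential.mapBaseChange k' K L
          ((KaehlerDifferential.map k k' K K).baseChange L z) = 0
        rw [← map_mapBaseChange,
          (show KaehlerDifferential.mapBaseChange k K L z = 0 from hz1), map_zero]
      · show (KaehlerDifferential.map k' k'' K K).baseChange L
          ((KaehlerDifferential.map k k' K K).baseChange L z) = 0
        rw [hcomp]
        exact hz2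
    · intro w hw
      obtain ⟨hw1, hw2⟩ := Submodule.mem_inf.1 hw
      obtain ⟨z, hz1, hz2, hz3⟩ := hpart1 w hw1 hw2
      exact ⟨z, Submodule.mem_inf.2 ⟨hz1, hz2⟩, hz3⟩
  have hC : (EGA41.imperfection k K L ⊓
      LinearMap.ker ((KaehlerDifferential.map k k'' K K).baseChange L)) ⊓
        LinearMap.ker ((KaehlerDifferential.map k k' K K).baseChange L) =
      EGA41.imperfection k K L ⊓
        LinearMap.ker ((KaehlerDifferential.map k k' K K).baseChange L) := by
    ext z
    simp only [Submodule.mem_inf, LinearMap.mem_ker]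
    constructor
    · rintro ⟨⟨h1, _⟩, h3⟩
      exact ⟨h1, h3⟩
    · rintro ⟨h1, h3⟩
      refine ⟨⟨h1, ?_⟩, h3⟩
      rw [← hcomp, h3, map_zero]
  rw [hB, hC] at h
  exact h

end Groth.Agent.S5836
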