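import Groth.Statements.S5837
import Groth.Agent.Lib.Admissible_helper3
-- import your own Groth.Agent.* helpers here

set_option autoImplicit false
universe u u' w
open scoped TensorProduct
open Groth.Agent.Lib.AdmissibleH3
set_option maxSynthPendingDepth 3
open EGA41

namespace Groth.Agent.S5837

/-- Rank form. For fields k₀ ⊆ k ⊆ K ⊆ L ⊆ M, with Δ(F/E, k/k₀) = ker(Υ_{F/E/k₀} → Υ_{F/E/k}) and d its
rank, one has d(M/K, k/k₀) = d(M/L, k/k₀) + d(L/K, k/k₀) (cardinal ranks; the published statement
gives the short exact sequence 0 → Δ(L/K, k/k₀) ⊗_L M → Δ(M/K, k/k₀) → Δ(M/L, k/k₀) → 0, of which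
this row states the rank identity). -/
theorem result {k₀ : Type u} {k : Type u'} {K L M : Type w}
    [Field k₀] [Field k] [Field K] [Field L] [Field M] [Algebra k₀ k]
    [Algebra k₀ K] [Algebra k K] [IsScalarTower k₀ k K] [Algebra k₀ L] [Algebra k L] [IsScalarTower k₀ k L]
    [Algebra K L] [Algebra K M] [Algebra L M] [IsScalarTower K L M]
    [Algebra k₀ M] [Algebra k M] [IsScalarTower k₀ K L] [IsScalarTower k K L]
    [IsScalarTower k₀ K M] [IsScalarTower k K M] [IsScalarTower k₀ L M] [IsScalarTower k L M] :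
    Module.rank M ↥(EGA41.imperfection k₀ K M ⊓
          LinearMap.ker ((KaehlerDifferential.map k₀ k K K).baseChange M)) =
      Module.rank M ↥(EGA41.imperfection k₀ L M ⊓
            LinearMap.ker ((KaehlerDifferential.map k₀ k L L).baseChange M)) +
        Module.rank L ↥(EGA41.imperfection k₀ K L ⊓
            LinearMap.ker ((KaehlerDifferential.map k₀ k K K).baseChange L)) := by
  -- the maps
  let a : L ⊗[K] Ω[K⁄k₀] →ₗ[L] Ω[L⁄k₀] := KaehlerDifferential.mapBaseChange k₀ K L
  let b : L ⊗[K] Ω[K⁄k₀] →ₗ[L] L ⊗[K] Ω[K⁄k] := (KaehlerDifferential.map k₀ k K K).baseChange L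
  let c : Ω[L⁄k₀] →ₗ[L] Ω[L⁄k] := KaehlerDifferential.map k₀ k L L
  let a' : L ⊗[K] Ω[K⁄k] →ₗ[L] Ω[L⁄k] := KaehlerDifferential.mapBaseChange k K L
  let m : M ⊗[L] Ω[L⁄k₀] →ₗ[M] Ω[M⁄k₀] := KaehlerDifferential.mapBaseChange k₀ L M
  let φ := TensorProduct.AlgebraTensorModule.cancelBaseChange K L M M Ω[K⁄k₀]
  let φ' := TensorProduct.AlgebraTensorModule.cancelBaseChange K L M M Ω[K⁄k]
  let t : L ⊗[k] Ω[k⁄k₀] →ₗ[L] L ⊗[K] Ω[K⁄k₀] := tMap k₀ (A := k) (B := K) (C := L)
  have hca : c ∘ₗ a = a' ∘ₗ b := LinearMap.ext fun x => map_mapBaseChange k₀ k K L x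
  have hat : a ∘ₗ t = KaehlerDifferential.mapBaseChange k₀ k L := by
    apply LinearMap.ext
    intro u
    rw [LinearMap.comp_apply]
    exact mapBaseChange_tMap k₀ (A := k) (B := K) (C := L) u
  have hbt : b ∘ₗ t = 0 := by
    apply LinearMap.ext
    intro u
    rw [LinearMap.comp_apply, LinearMap.zero_apply]
    exact baseChange_map_tMap k₀ (A := k) (B := K) (C := L) u
  have hF1 : ∀ x, KaehlerDifferential.mapBaseChange k₀ K M (φ x) = m (a.baseChange M x) := fun x =>
    LinearMap.congr_fun (Groth.Agent.Lib.CartierH3.mbc_tower k₀ (A := K) (B := L) (C := M)) x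
  have hF2 : ∀ x, (KaehlerDifferential.map k₀ k K K).baseChange M (φ x) =
      φ' (b.baseChange M x) := fun x =>
    (cancel_baseChange (KaehlerDifferential.map k₀ k K K) x).symm
  let P : Submodule M (M ⊗[L] (L ⊗[K] Ω[K⁄k₀])) :=
    LinearMap.ker (m ∘ₗ a.baseChange M) ⊓ LinearMap.ker (b.baseChange M)
  have hP : Submodule.comap φ.toLinearMap (EGA41.imperfection k₀ K M ⊓
      LinearMap.ker ((KaehlerDifferential.map k₀ k K K).baseChange M)) = P := by
    ext x
    have e1 : φ.toLinearMap x ∈ EGA41.imperfection k₀ K M ↔ m (a.baseChange M x) = 0 := by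
      rw [← hF1]
      exact LinearMap.mem_ker
    have e2 : (KaehlerDifferential.map k₀ k K K).baseChange M (φ.toLinearMap x) = 0 ↔
        b.baseChange M x = 0 := by
      show (KaehlerDifferential.map k₀ k K K).baseChange M (φ x) = 0 ↔ _
      rw [hF2]
      constructor
      · intro h2
        exact φ'.injective (h2.trans (map_zero _).symm)
      · intro h2
        rw [h2, map_zero]
    simp only [Submodule.mem_comap, Submodule.mem_inf, LinearMap.mem_ker, P, LinearMap.comp_apply,
      e1, e2]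
  have hG1 : P.map (a.baseChange M) =
      EGA41.imperfection k₀ L M ⊓ LinearMap.ker (c.baseChange M) := by
    apply le_antisymm
    · rintro _ ⟨x, hx, rfl⟩
      obtain ⟨hx1, hx2⟩ := Submodule.mem_inf.1 hx
      refine Submodule.mem_inf.2 ⟨hx1, ?_⟩
      show c.baseChange M (a.baseChange M x) = 0
      rw [← LinearMap.comp_apply, ← LinearMap.baseChange_comp, hca, LinearMap.baseChange_comp,
        LinearMap.comp_apply, (show b.baseChange M x = 0 from hx2), map_zero]
    · intro y hy
      obtain ⟨hy1, hy2⟩ := Submodule.mem_inf.1 hy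
      have hex := exact_baseChange M (KaehlerDifferential.exact_mapBaseChange_map k₀ k L)
        (KaehlerDifferential.map_surjective k₀ k L)
      obtain ⟨w', rfl⟩ := (hex y).1 hy2
      have hatw : a.baseChange M (t.baseChange M w') =
          (KaehlerDifferential.mapBaseChange k₀ k L).baseChange M w' := by
        rw [← LinearMap.comp_apply, ← LinearMap.baseChange_comp, hat]
      refine ⟨t.baseChange M w', Submodule.mem_inf.2 ⟨?_, ?_⟩, hatw⟩
      · show m (a.baseChange M (t.baseChange M w')) = 0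
        rw [hatw]
        exact hy1
      · show b.baseChange M (t.baseChange M w') = 0
        rw [← LinearMap.comp_apply, ← LinearMap.baseChange_comp, hbt, LinearMap.baseChange_zero,
          LinearMap.zero_apply]
  have hG2 : P ⊓ LinearMap.ker (a.baseChange M) = LinearMap.ker ((a.prod b).baseChange M) := by
    rw [ker_prod_baseChange]
    ext x
    simp only [P, Submodule.mem_inf, LinearMap.mem_ker, LinearMap.comp_apply]
    constructor
    · rintro ⟨⟨_, h2⟩, h3⟩
      exact ⟨h3, h2⟩
    · rintro ⟨h3, h2⟩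
      exact ⟨⟨by rw [h3, map_zero], h2⟩, h3⟩
  have hrk := rank_eq_rank_map_add_rank_inf (a.baseChange M) P
  rw [hG1, hG2, rank_ker_baseChange, LinearMap.ker_prod] at hrk
  have hfin : Module.rank M ↥(EGA41.imperfection k₀ K M ⊓
      LinearMap.ker ((KaehlerDifferential.map k₀ k K K).baseChange M)) = Module.rank M P := by
    rw [← hP]
    exact ((φ.ofSubmodule' _).rank_eq).symm
  rw [hfin, hrk]
  rfl

end Groth.Agent.S5837
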