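import Groth.Statements.S5939
import Mathlib
import Groth.Agent.Lib.SchDescent_helper6

set_option autoImplicit false
universe u
open CategoryTheory AlgebraicGeometry
open Unram17

namespace Groth.Agent.S5939

/-- Let f : X ⟶ Y be faithfully flat, locally of finite presentation and quasi-compact, and let g : Y ⟶
Z be a morphism such that f ≫ g is of finite presentation (locally of finite presentation,
quasi-compact and quasi-separated). Then g is quasi-compact and quasi-separated; together with the
descent of local finite presentation along f this says that g is of finite presentation. This is the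
case f quasi-compact. -/
theorem result {X Y Z : Scheme.{u}} (f : X ⟶ Y) (g : Y ⟶ Z)
    [Surjective f] [Flat f] [LocallyOfFinitePresentation f] [QuasiCompact f]
    [LocallyOfFinitePresentation (f ≫ g)] [QuasiCompact (f ≫ g)] [QuasiSeparated (f ≫ g)] :
    QuasiCompact g ∧ QuasiSeparated g := by
  have hqc : QuasiCompact g := by
    refine ⟨fun U hU hc => ?_⟩
    have h1 : IsCompact ((f ≫ g).base ⁻¹' U) :=
      QuasiCompact.isCompact_preimage (f := f ≫ g) U hU hc
    have h2 : g.base ⁻¹' U = f.base '' ((f ≫ g).base ⁻¹' U) := by
      ext y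
      constructor
      · intro hy
        obtain ⟨x, rfl⟩ := f.surjective y
        exact ⟨x, hy, rfl⟩
      · rintro ⟨x, hx, rfl⟩
        exact hx
    rw [h2]
    exact h1.image f.continuous
  refine ⟨hqc, ⟨?_⟩⟩
  have hsq := (Limits.pullback_map_diagonal_isPullback f f g).flip
  have hQ : (@Surjective ⊓ @Flat ⊓ @QuasiCompact : MorphismProperty Scheme.{u}) f :=
    ⟨⟨inferInstance, inferInstance⟩, inferInstance⟩
  have hbot : (@Surjective ⊓ @Flat ⊓ @QuasiCompact : MorphismProperty Scheme.{u})
      (Limits.pullback.map (f ≫ g) (f ≫ g) g g f f (𝟙 _) (Category.comp_id _)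
        (Category.comp_id _)) :=
    MorphismProperty.pullbackMap hQ hQ rfl rfl
  have := Groth.Agent.Lib.SchDescent_helper6.descendsAlong_quasiCompact.{u}
  have hmd : QuasiCompact (Limits.pullback.mapDesc f f g) := by
    have e : Limits.pullback.mapDesc f f g ≫ Limits.pullback.fst (f ≫ g) (f ≫ g) =
        Limits.pullback.fst f f := by
      rw [Limits.pullback.mapDesc, Limits.pullback.lift_fst, Category.comp_id]
    have h3 : QuasiCompact (Limits.pullback.mapDesc f f g ≫
        Limits.pullback.fst (f ≫ g) (f ≫ g)) := by
      rw [e]; infer_instance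
    have h4 : QuasiSeparated (Limits.pullback.fst (f ≫ g) (f ≫ g)) := inferInstance
    exact QuasiCompact.of_comp _ (Limits.pullback.fst (f ≫ g) (f ≫ g))
  exact MorphismProperty.of_isPullback_of_descendsAlong (P := @QuasiCompact)
    (Q := (@Surjective ⊓ @Flat ⊓ @QuasiCompact : MorphismProperty Scheme.{u})) hsq hbot hmd

end Groth.Agent.S5939
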