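import Groth.Statements.S5941
import Mathlib
import Groth.Agent.Lib.LimAlg2_helper7

set_option autoImplicit false
universe u
open CategoryTheory AlgebraicGeometry
open Unram17

namespace Groth.Agent.S5941

/-- Let S = lim S_i be a cofiltered limit of schemes with affine transition maps, let X₀ and Y₀ be
schemes locally of finite presentation over a stage S_{i₀}, f₀ : X₀ ⟶ Y₀ an S_{i₀}-morphism, and f :
X ⟶ Y the base change of f₀ along S ⟶ S_{i₀} (base changes are expressed by pullback squares).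
Assume X₀ quasi-compact. Then f is etale if and only if, for some index j over i₀, the base change
f_j : X_j ⟶ Y_j of f₀ along S_j ⟶ S_{i₀} is etale. This is the case of etale morphisms. -/
theorem result {I : Type u} [SmallCategory I] [IsCofiltered I]
    (D : I ⥤ Scheme.{u}) (c : Limits.Cone D) (hc : Limits.IsLimit c)
    [∀ (i j : I) (f : i ⟶ j), IsAffineHom (D.map f)] (i₀ : I)
    {X₀ Y₀ : Scheme.{u}} (f₀ : X₀ ⟶ Y₀) (g₀ : Y₀ ⟶ D.obj i₀)
    [LocallyOfFinitePresentation g₀] [LocallyOfFinitePresentation (f₀ ≫ g₀)]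
    [CompactSpace ↥X₀]
    {X Y : Scheme.{u}} (f : X ⟶ Y) (g : Y ⟶ c.pt) (qY : Y ⟶ Y₀) (qX : X ⟶ X₀)
    (hY : IsPullback qY g g₀ (c.π.app i₀)) (hX : IsPullback qX f f₀ qY) :
    Etale f ↔
      ∃ (j : I) (φ : j ⟶ i₀) (Xj Yj : Scheme.{u}) (fj : Xj ⟶ Yj) (gj : Yj ⟶ D.obj j) (pY : Yj ⟶ Y₀)
        (pX : Xj ⟶ X₀), IsPullback pY gj g₀ (D.map φ) ∧ IsPullback pX fj f₀ pY ∧ Etale fj := by
  haveI : LocallyOfFinitePresentation f₀ :=
    Groth.Agent.Lib.LimDiagH7.lfp_of_comp f₀ g₀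
  constructor
  · intro hf
    exact Groth.Agent.Lib.LimSrcH7.exists_descend_src (P := @Etale)
      (H := fun f => LocallyOfFinitePresentation f)
      (fun _ h => by haveI := h; infer_instance)
      Groth.Agent.Lib.LimAlgH7.affAffStage_etale
      Groth.Agent.Lib.LimAlgH7.lfp_pullback_snd Groth.Agent.Lib.LimAlgH7.lfp_resLE
      D c hc i₀ f₀ g₀ inferInstance f g qY qX hY hX hf
  · rintro ⟨j, φ, Xj, Yj, fj, gj, pY, pX, h1, h2, hP⟩
    exact Groth.Agent.Lib.LimDescendH7.of_stage (P := @Etale) D c i₀ f₀ g₀ f g qY qX hY hX φ fj gj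
      pY pX h1 h2 hP

end Groth.Agent.S5941
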