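import Groth.Statements.S5949
import Mathlib
import Groth.Agent.Lib.NormalizationChar_helper7

set_option autoImplicit false
universe u
open CategoryTheory AlgebraicGeometry
open Unram17

namespace Groth.Agent.S5949

/-- Let X be an integral scheme, X' ⟶ X its normalization (the normalization of X in its function
field), and f : Y ⟶ X a morphism of schemes. Then there is an isomorphism Y ≅ X' over X if and only
if: every local ring of Y is an integrally closed domain, f is an integral morphism, and f is
birational, i.e. Y is irreducible, the fibre of f over the generic point of X consists of the
generic point of Y alone, and the induced map of local rings at the generic points is an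
isomorphism. (The published statement allows X reduced with locally finitely many irreducible
components, the normalization then being taken componentwise; this row states the case of an
integral X. The quasi-compactness and quasi-separatedness binders on the generic point always hold
and only serve to form the normalization.) -/
theorem result (X : Scheme.{u}) [IsIntegral X]
    [QuasiCompact (X.fromSpecStalk (genericPoint X))] [QuasiSeparated (X.fromSpecStalk (genericPoint X))]
    {Y : Scheme.{u}} (f : Y ⟶ X) :
    (∃ e : Y ≅ Curv2.normalization X, e.hom ≫ Curv2.normalizationι X = f) ↔
      Pi1.IsNormalScheme Y ∧ IsIntegralHom f ∧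
        ∃ _ : IrreducibleSpace ↥Y, f.base ⁻¹' {genericPoint X} = {genericPoint Y} ∧
          IsIso (f.stalkMap (genericPoint Y)) := by
  haveI : IsDominant (X.fromSpecStalk (genericPoint X)) :=
    Groth.Agent.Lib.OverFieldH7.isDominant_fromSpecStalk_genericPoint X
  have hL : IsField (X.presheaf.stalk (genericPoint X)) := Field.toIsField X.functionField
  obtain ⟨hInt, hnorm, hgen, hiso, hfib⟩ :=
    Groth.Agent.Lib.NormalizationBirat2H7.normalization_birational
      (X.presheaf.stalk (genericPoint X)) hL (X.fromSpecStalk (genericPoint X))
  exact Groth.Agent.Lib.NormalizationCharH7.char_of_desc
    (X.fromSpecStalk (genericPoint X)).fromNormalization hnorm hgen hiso hfib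
    (fun j f _ hf => ⟨(X.fromSpecStalk (genericPoint X)).normalizationDesc j f hf, inferInstance,
      Scheme.Hom.normalizationDesc_comp _ j f hf⟩) f

end Groth.Agent.S5949
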