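import Groth.Statements.S5950
import Mathlib
import Groth.Agent.Lib.NormalizationChar2_helper7
import Groth.Agent.S5949

set_option autoImplicit false
universe u
open CategoryTheory AlgebraicGeometry
open Unram17

namespace Groth.Agent.S5950

/-- Let X be an integral scheme which has a nonempty (hence dense) open subset at whose points the local
rings are integrally closed, let X' ⟶ X be its normalization, and let f : Y ⟶ X be a morphism of
schemes. Then there is an isomorphism Y ≅ X' over X if and only if: every local ring of Y is an
integrally closed domain, f is an integral morphism, and there is a dense open subset U of X whose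
preimage is dense in Y and such that the restriction f⁻¹(U) ⟶ U of f is an isomorphism. (The
published statement allows X reduced with locally finitely many irreducible components and a dense
normal open subset; this row states the case of an integral X. The quasi-compactness and
quasi-separatedness binders on the generic point always hold and only serve to form the
normalization.) -/
theorem result (X : Scheme.{u}) [IsIntegral X]
    [QuasiCompact (X.fromSpecStalk (genericPoint X))] [QuasiSeparated (X.fromSpecStalk (genericPoint X))]
    (hV : ∃ V : X.Opens, (V : Set ↥X).Nonempty ∧ ∀ x ∈ V, IsIntegrallyClosed (X.presheaf.stalk x))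
    {Y : Scheme.{u}} (f : Y ⟶ X) :
    (∃ e : Y ≅ Curv2.normalization X, e.hom ≫ Curv2.normalizationι X = f) ↔
      Pi1.IsNormalScheme Y ∧ IsIntegralHom f ∧
        ∃ U : X.Opens, Dense (U : Set ↥X) ∧ Dense ((f ⁻¹ᵁ U : Y.Opens) : Set ↥Y) ∧ IsIso (f ∣_ U) := by
  refine (Groth.Agent.S5949.result X f).trans ?_
  constructor
  · rintro ⟨hY, hfint, hirr, hfib, hiso⟩
    haveI := hirr
    haveI := hfint
    haveI : ∀ y : Y, _root_.IsReduced (Y.presheaf.stalk y) := fun y => by
      haveI := (hY y).1
      infer_instance
    haveI : IsReduced Y := isReduced_of_isReduced_stalk Y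
    haveI : IsIntegral Y := isIntegral_of_irreducibleSpace_of_isReduced Y
    have hfη : f (genericPoint Y) = genericPoint X := by
      have : genericPoint Y ∈ f.base ⁻¹' {genericPoint X} := by rw [hfib]; rfl
      exact this
    obtain ⟨V, hVne, hV⟩ := hV
    obtain ⟨v, hv⟩ := hVne
    have hξV : genericPoint X ∈ V := (genericPoint_specializes v).mem_open V.2 hv
    refine ⟨hY, hfint, V, V.2.dense ⟨v, hv⟩, (f ⁻¹ᵁ V).2.dense ⟨genericPoint Y, ?_⟩,
      Groth.Agent.Lib.NormalizationChar2H7.isIso_morphismRestrict_of_normal f hfη hiso V
        ⟨v, hv⟩ hV⟩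
    show f (genericPoint Y) ∈ V
    rw [hfη]; exact hξV
  · rintro ⟨hY, hfint, U, hUd, hfUd, hfU⟩
    have hUne : (U : Set X).Nonempty := hUd.nonempty
    have hirr : IrreducibleSpace Y :=
      Groth.Agent.Lib.NormalizationChar2H7.irreducibleSpace_of_isIso_morphismRestrict f U hUne
        hfUd hfU
    haveI := hirr
    haveI : ∀ y : Y, _root_.IsReduced (Y.presheaf.stalk y) := fun y => by
      haveI := (hY y).1
      infer_instance
    haveI : IsReduced Y := isReduced_of_isReduced_stalk Y
    haveI : IsIntegral Y := isIntegral_of_irreducibleSpace_of_isReduced Y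
    obtain ⟨hfη, hiso⟩ :=
      Groth.Agent.Lib.ProperBirat2H7.generic_of_isIso_morphismRestrict f U hUne hfU
    refine ⟨hY, hfint, hirr, ?_, hiso⟩
    obtain ⟨u, hu⟩ := hUne
    have hξU : genericPoint X ∈ U := (genericPoint_specializes u).mem_open U.2 hu
    ext y
    constructor
    · intro hy
      have hy' : f y = genericPoint X := hy
      have hyU : y ∈ f ⁻¹ᵁ U := by
        show f y ∈ U
        rw [hy']; exact hξU
      have hηU : genericPoint Y ∈ f ⁻¹ᵁ U := by
        show f (genericPoint Y) ∈ U
        rw [hfη]; exact hξU
      have h1 : (f ∣_ U) ⟨y, hyU⟩ = (f ∣_ U) ⟨genericPoint Y, hηU⟩ := by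
        apply Subtype.ext
        rw [morphismRestrict_base_coe, morphismRestrict_base_coe]
        exact hy'.trans hfη.symm
      have h2 := (f ∣_ U).isOpenEmbedding.injective h1
      exact congrArg Subtype.val h2
    · intro hy
      rw [Set.mem_singleton_iff] at hy
      rw [hy]
      exact hfη

end Groth.Agent.S5950
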