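import Groth.Statements.S5989
import Groth.Agent.Lib.FracDiff2_helper3
-- import your own Groth.Agent.* helpers here

set_option autoImplicit false
universe u
open scoped TensorProduct
set_option maxSynthPendingDepth 3
open EGA418

namespace Groth.Agent.S5989

/-- Let k be a field of characteristic p > 0 such that k is finite over its subfield k^p of p-th powers
(the Frobenius endomorphism of k is a finite ring map), C a complete Noetherian local k-algebra
which is an integral domain whose residue field is a finite extension of k, n the dimension of C, L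
a fraction field of C and Υ the module of imperfection of L over k (the kernel of L ⊗_k Ω_k ⟶ Ω_L on
absolute differentials). Then dim_L Ω_{L/k} = n + dim_L Υ, and the module of differentials Ω_{C/k}
is a finitely generated C-module. -/
theorem result (p : ℕ) [Fact p.Prime]
    (k C L : Type u) [Field k] [CharP k p] (hk : (frobenius k p).Finite) [CommRing C] [IsDomain C]
    [IsNoetherianRing C] [IsLocalRing C] [Algebra k C] [IsAdicComplete (IsLocalRing.maximalIdeal C) C]
    [Module.Finite k (IsLocalRing.ResidueField C)] (n : ℕ) (hn : ringKrullDim C = n)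
    [Field L] [Algebra C L] [IsFractionRing C L] [Algebra k L] [IsScalarTower k C L] :
    Module.finrank L (Ω[L⁄k]) =
        n + Module.finrank L (LinearMap.ker (KaehlerDifferential.mapBaseChange ℤ k L)) ∧
      Module.Finite C (Ω[C⁄k]) := by
  obtain ⟨n', w, hwinj, -, hwfin, hdim⟩ :=
    Groth.Agent.Lib.FinitePSH3.exists_powerSeries_finite (k₀ := k) (A := C)
  have hnn : n' = n := by
    have h1 : ((n' : ℕ) : WithBot ℕ∞) = (n : ℕ) := hdim.symm.trans hn
    exact_mod_cast h1
  subst hnn
  obtain ⟨hfin, hrank⟩ := Groth.Agent.Lib.FracDiffH3.main_of_finite (L := L) n' w hwinj hwfin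
  have hL₀ := le_antisymm (Groth.Agent.Lib.FracDiffH3.rank_kaehler_frac_le p k n' hk)
    (Groth.Agent.Lib.FracDiffH3.le_rank_kaehler_frac k n')
  rw [hL₀] at hrank
  refine ⟨?_, Groth.Agent.Lib.FracDiffH3.finite_kaehler_of_finite p k n' hk w hwfin⟩
  haveI := hfin
  apply Module.finrank_eq_of_rank_eq
  rw [hrank, ← Module.finrank_eq_rank L (LinearMap.ker (KaehlerDifferential.mapBaseChange ℤ k L)),
    Nat.cast_add]

end Groth.Agent.S5989
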