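import Groth.Statements.S6001
import Groth.Agent.Lib.CplEtale_helper3
-- import your own Groth.Agent.* helpers here

set_option autoImplicit false
universe u
open SGA1


namespace Groth.Agent.S6001

/-- Let A be a Noetherian local ring which is analytically reduced (its completion has no nonzero
nilpotents), and let B be the local ring at a prime q, lying over the maximal ideal of A, of an
A-algebra C of finite type that is etale over A at q (an etale local homomorphism A ⟶ B). Then B is
analytically reduced, and in particular reduced. -/
theorem result (A C : Type u) [CommRing A] [IsLocalRing A]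
    [IsNoetherianRing A] [CommRing C] [Algebra A C] [Algebra.FiniteType A C] (q : Ideal C) [q.IsPrime]
    (hq : Ideal.comap (algebraMap A C) q = IsLocalRing.maximalIdeal A) (hC : Algebra.IsEtaleAt A q)
    (hA : IsReduced (AdicCompletion (IsLocalRing.maximalIdeal A) A)) :
    IsReduced (AdicCompletion (IsLocalRing.maximalIdeal (Localization.AtPrime q)) (Localization.AtPrime q)) ∧
      IsReduced (Localization.AtPrime q) := by
  haveI : IsNoetherianRing C := Algebra.FiniteType.isNoetherianRing A C
  haveI : IsNoetherianRing (Localization.AtPrime q) :=
    IsLocalization.isNoetherianRing q.primeCompl _ inferInstance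
  haveI : Algebra.FinitePresentation A C := Algebra.FinitePresentation.of_finiteType.1 inferInstance
  haveI : IsLocalHom (algebraMap A (Localization.AtPrime q)) := by
    constructor
    intro a ha
    by_contra hna
    have hm : a ∈ IsLocalRing.maximalIdeal A := (IsLocalRing.mem_maximalIdeal a).2 hna
    rw [← hq, Ideal.mem_comap] at hm
    have h1 : algebraMap C (Localization.AtPrime q) (algebraMap A C a) ∈
        IsLocalRing.maximalIdeal (Localization.AtPrime q) := by
      rw [← Localization.AtPrime.comap_maximalIdeal (I := q)] at hm
      exact hm
    rw [← IsScalarTower.algebraMap_apply] at h1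
    exact (IsLocalRing.mem_maximalIdeal _).1 h1 ha
  haveI : Algebra.EssFiniteType A (Localization.AtPrime q) := Algebra.EssFiniteType.comp A C _
  haveI : Algebra.FormallyEtale A (Localization.AtPrime q) := hC
  haveI : Module.Flat A (Localization.AtPrime q) := by
    obtain ⟨f, hfq, hf⟩ := Algebra.exists_etale_of_isEtaleAt (R := A) q
    have hflat : Module.Flat A (Localization.Away f) := inferInstance
    have hunit : IsUnit (algebraMap C (Localization.AtPrime q) f) :=
      IsLocalization.map_units (M := q.primeCompl) _ ⟨f, hfq⟩
    let ψ : Localization.Away f →+* Localization.AtPrime q := IsLocalization.Away.lift f hunit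
    letI : Algebra (Localization.Away f) (Localization.AtPrime q) := ψ.toAlgebra
    haveI : IsScalarTower C (Localization.Away f) (Localization.AtPrime q) :=
      .of_algebraMap_eq' (IsLocalization.Away.lift_comp f hunit).symm
    haveI : IsScalarTower A (Localization.Away f) (Localization.AtPrime q) := .to₁₃₄ A C _ _
    haveI : IsLocalization (Algebra.algebraMapSubmonoid (Localization.Away f) q.primeCompl)
        (Localization.AtPrime q) :=
      IsLocalization.isLocalization_of_submonoid_le _ _ (Submonoid.powers f) q.primeCompl (by
        rintro _ ⟨n, rfl⟩
        exact q.primeCompl.pow_mem hfq n)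
    haveI : Module.Flat (Localization.Away f) (Localization.AtPrime q) :=
      IsLocalization.flat _ (Algebra.algebraMapSubmonoid (Localization.Away f) q.primeCompl)
    exact Module.Flat.trans A (Localization.Away f) _
  have h1 := Groth.Agent.Lib.CplEtaleH3.isReduced_cpl A (Localization.AtPrime q) hA
  refine ⟨h1, ?_⟩
  haveI : IsReduced (AdicCompletion (IsLocalRing.maximalIdeal (Localization.AtPrime q))
      (Localization.AtPrime q)) := h1
  exact isReduced_of_injective
    (algebraMap (Localization.AtPrime q)
      (AdicCompletion (IsLocalRing.maximalIdeal (Localization.AtPrime q)) (Localization.AtPrime q)))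
    (AdicCompletion.of_injective (IsLocalRing.maximalIdeal (Localization.AtPrime q))
      (Localization.AtPrime q))

end Groth.Agent.S6001
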