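import Groth.Statements.S6018

-- import your own Groth.Agent.* helpers here

set_option autoImplicit false
open CategoryTheory
universe v₁ v₂ v₃ u₁ u₂ u₃
open FibCat FibCat.Cleavage

namespace Groth.Agent.S6018

/-- Let `K` be a cleavage of a functor `p : 𝒳 ⥤ 𝒮` (neither fibredness nor normalisation is assumed),
let `F, G : 𝒳 ⥤ C` be functors, and for every object `S` of the base let `u_S` be a natural
transformation between the restrictions of `F` and `G` to the fibre over `S`. If the family is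
compatible with the transport morphisms `α_f(a) : f^* a ⟶ a` of `K`, i.e. `G(α_f(a)) ∘ u_T(f^* a) =
u_S(a) ∘ F(α_f(a))` for every base morphism `f : T ⟶ S` and every `a` over `S`, then there is
exactly one natural transformation `F ⟶ G` whose component at every object is the prescribed one.
(The published statement is an isomorphism between the category of all functors `𝒳 ⥤ C` and the
category of compatible families of functors on the fibres of a normalised cloven category; this row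
is its assertion on morphisms, whose published proof does not use the normalisation, so none is
assumed here.) -/
theorem result (𝒮 : Type u₁) (𝒳 : Type u₂) [Category.{v₁} 𝒮]
    [Category.{v₂} 𝒳] (p : 𝒳 ⥤ 𝒮) (K : FibCat.Cleavage p) (C : Type u₃) [Category.{v₃} C] (F G : 𝒳 ⥤ C)
    (u : ∀ S : 𝒮, (Functor.Fiber.fiberInclusion ⋙ F : p.Fiber S ⥤ C) ⟶ Functor.Fiber.fiberInclusion ⋙ G)
    (hu : ∀ ⦃T S : 𝒮⦄ (f : T ⟶ S) (a : p.Fiber S),
      F.map ((K.transport f).app a) ≫ (u S).app a = (u T).app ((K.inverseImage f).obj a) ≫ G.map ((K.transport f).app a)) :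
    ∃! v : F ⟶ G, ∀ (S : 𝒮) (a : p.Fiber S), v.app a.1 = (u S).app a := by
    classical
  have abs : ∀ {Fx Fb Fy Gx Gb Gy : C} (Fψ : Fx ⟶ Fb) (Fl : Fb ⟶ Fy) (Gψ : Gx ⟶ Gb) (Gl : Gb ⟶ Gy)
      (ux : Fx ⟶ Gx) (ub : Fb ⟶ Gb) (uy : Fy ⟶ Gy), Fψ ≫ ub = ux ≫ Gψ → Fl ≫ uy = ub ≫ Gl →
      (Fψ ≫ Fl) ≫ uy = ux ≫ (Gψ ≫ Gl) := by
    intro Fx Fb Fy Gx Gb Gy Fψ Fl Gψ Gl ux ub uy h1 h2
    rw [Category.assoc, h2, ← Category.assoc, h1, Category.assoc]
  -- the candidate
  have key : ∀ {x y : 𝒳} (φ : x ⟶ y),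
      F.map φ ≫ (u (p.obj y)).app ⟨y, rfl⟩ = (u (p.obj x)).app ⟨x, rfl⟩ ≫ G.map φ := by
    intro x y φ
    let a : p.Fiber (p.obj y) := ⟨y, rfl⟩
    let f : p.obj x ⟶ p.obj y := p.map φ
    let l : K.obj a.2 f ⟶ y := K.lift a.2 f
    have hl : p.IsCartesian f l := K.isCartesian a.2 f
    have hφ : p.IsHomLift f φ := inferInstance
    let ψ₀ : x ⟶ K.obj a.2 f := Functor.IsCartesian.map p f l φ
    have hψ₀ : p.IsHomLift (𝟙 (p.obj x)) ψ₀ := inferInstance
    have fac : ψ₀ ≫ l = φ := Functor.IsCartesian.fac p f l φ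
    let xx : p.Fiber (p.obj x) := ⟨x, rfl⟩
    let ψ : xx ⟶ (K.inverseImage f).obj a := ⟨ψ₀, hψ₀⟩
    have n1 := (u (p.obj x)).naturality ψ
    have n2 := hu f a
    have n1' : F.map ψ₀ ≫ (u (p.obj x)).app ((K.inverseImage f).obj a) =
        (u (p.obj x)).app xx ≫ G.map ψ₀ := n1
    have n2' : F.map l ≫ (u (p.obj y)).app a =
        (u (p.obj x)).app ((K.inverseImage f).obj a) ≫ G.map l := n2
    have h3 := abs _ _ _ _ _ _ _ n1' n2'
    have e1 : F.map φ = F.map ψ₀ ≫ F.map l := by rw [← F.map_comp, fac]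
    have e2 : G.map φ = G.map ψ₀ ≫ G.map l := by rw [← G.map_comp, fac]
    have g1 : F.map φ ≫ (u (p.obj y)).app a = (F.map ψ₀ ≫ F.map l) ≫ (u (p.obj y)).app a :=
      congrArg (fun t => t ≫ (u (p.obj y)).app a) e1
    have g2 : (u (p.obj x)).app xx ≫ G.map ψ₀ ≫ G.map l = (u (p.obj x)).app xx ≫ G.map φ :=
      congrArg (fun t => (u (p.obj x)).app xx ≫ t) e2.symm
    exact g1.trans (h3.trans g2)
  let v : F ⟶ G := { app := fun x => (u (p.obj x)).app ⟨x, rfl⟩, naturality := fun x y φ => key φ }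
  refine ⟨v, ?_, ?_⟩
  · intro S a
    obtain ⟨x, hx⟩ := a
    subst hx
    rfl
  · intro v' hv'
    ext x
    exact hv' (p.obj x) ⟨x, rfl⟩

end Groth.Agent.S6018
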