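import Groth.Statements.S6021
import Mathlib
import Groth.Agent.Lib.LocCohZ2_helper2
import Groth.Agent.S6022

set_option autoImplicit false
universe u
open CategoryTheory CategoryTheory.Limits TopologicalSpace
open LocCohZ

namespace Groth.Agent.S6021

/-- Consider a topological space X carrying an abelian sheaf F, a closed subset Z whose open complement
is U, and a natural number N > 0. Assume that, for each open V of X and each i < N, restricting
H^i(V, F) → H^i(V ∩ U, F) gives a bijection. Then ℋ^i_Z(F), the local cohomology sheaves, are zero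
for every i ≤ N (no separate injectivity hypothesis in degree N is needed, since it follows
automatically). -/
theorem result {X : TopCat.{u}} (F : CohTop.Ab X) (U : Opens X) (N : ℕ) (hN : 0 < N)
    (h : ∀ (V : Opens X) (i : ℕ), i < N → Function.Bijective (CohTop.res F i (inf_le_left : V ⊓ U ≤ V))) :
    ∀ i : ℕ, i ≤ N → IsZero ((LocCohZ.HZsh U i).obj F) := by
  intro i hi
  rcases Nat.lt_or_ge i N with h1 | h1
  · refine (Groth.Agent.S6022.result F U N).2 (fun V j hj => ?_) i h1
    refine ⟨fun a b => ?_⟩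
    obtain ⟨M, rfl⟩ : ∃ M, N = M + 1 := ⟨N - 1, by omega⟩
    have key := Groth.Agent.Lib.LocCohZ.HZ_zero_of_res_bij F (inf_le_left : V ⊓ U ≤ V) M
      (fun k hk => h V k (by omega)) (h V M (by omega)).1 j (by omega)
    rw [key a, key b]
  · have : i = N := le_antisymm hi h1
    subst this
    obtain ⟨q, rfl⟩ : ∃ q, i = q + 1 := ⟨i - 1, by omega⟩
    rw [Groth.Agent.Lib.HZsh.isZero_HZsh_iff U (injectiveResolution F)]
    apply Groth.Agent.Lib.HZsh.exactAt_succ_of_local
    intro V ξ x hx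
    obtain ⟨κ, Vf, hVf, hsup, hres⟩ := Groth.Agent.S0460.result F V q
      (LocCohZ.toHU F (q + 1) (inf_le_left : V ⊓ U ≤ V) ξ)
    have hx' : x ∈ iSup Vf := by rw [hsup]; exact hx
    obtain ⟨k, hk⟩ := TopologicalSpace.Opens.mem_iSup.1 hx'
    refine ⟨Vf k, hVf k, hk, ?_⟩
    obtain ⟨ξ', hξ'⟩ : ∃ ξ', ξ' = LocCohZ.resZ F (q + 1) (inf_le_left : V ⊓ U ≤ V)
      (inf_le_left : Vf k ⊓ U ≤ Vf k) (inf_le_inf_right U (hVf k)) (hVf k) ξ := ⟨_, rfl⟩
    rw [← hξ']
    have h0 : LocCohZ.toHU F (q + 1) (inf_le_left : Vf k ⊓ U ≤ Vf k) ξ' = 0 := by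
      rw [hξ', Groth.Agent.Lib.LocCohZ.toHU_resZ]
      exact hres k
    obtain ⟨y, hy⟩ := Groth.Agent.Lib.LocCohZ.exists_delta_of_toHU_eq_zero F _ q ξ' h0
    obtain ⟨z, rfl⟩ := (h (Vf k) q (by omega)).2 y
    rw [← hy]
    exact Groth.Agent.Lib.LocCohZ.delta_res F _ q z

end Groth.Agent.S6021
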