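import Groth.Statements.S6024
import Mathlib
import Groth.Agent.Lib.LocCohZ_helper2

set_option autoImplicit false
universe u
open CategoryTheory CategoryTheory.Limits TopologicalSpace
open LocCohZ

namespace Groth.Agent.S6024

/-- Consider a topological space X carrying a sheaf of abelian groups F, and assume that H^1_Z(X, F)
vanishes for each closed subset Z of X (writing Z = X − U with U open). Under this assumption, F is
flasque. -/
theorem result {X : TopCat.{u}} (F : CohTop.Ab X)
    (h : ∀ U : Opens X, Subsingleton (LocCohZ.HZc F 1 U)) : TopCat.Sheaf.IsFlasque F := by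
  refine ⟨fun {A B} i => ?_⟩
  rw [AddCommGrpCat.epi_iff_surjective]
  intro t
  haveI := h B.unop
  obtain ⟨s, hs⟩ := Groth.Agent.Lib.LocCohZ.res_surjective_of_HZ_one F (le_top : B.unop ≤ ⊤)
    (fun x => Subsingleton.elim _ _) t
  refine ⟨(F.obj.map (homOfLE (le_top : A.unop ≤ ⊤)).op).hom s, ?_⟩
  have e : (homOfLE (le_top : A.unop ≤ ⊤)).op ≫ i = (homOfLE (le_top : B.unop ≤ ⊤)).op :=
    Quiver.Hom.unop_inj (Subsingleton.elim _ _)
  have := congrArg (fun f => (F.obj.map f).hom s) e
  simp only [Functor.map_comp] at this
  exact this.trans hs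

end Groth.Agent.S6024
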