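import Groth.Statements.S6029
import Mathlib
import Groth.Agent.Lib.SectionsDer_helper2
import Groth.Agent.S0452
import Groth.Agent.S0454
import Groth.Agent.S19245
import Groth.Agent.S6027

set_option autoImplicit false
universe u
open CategoryTheory CategoryTheory.Limits TopologicalSpace
open LocCohZ

namespace Groth.Agent.S6029

/-- For a closed subset Z = X − U of a topological space X and an abelian sheaf F on X: there is an E₂
spectral sequence of abelian groups with E₂^{p,q} ≅ H^p(X, ℋ^q_Z(F)) for p, q ≥ 0 (and 0 otherwise),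
bounded, abutting with finite filtrations to H^n_Z(X, F) (n ≥ 0; 0 for n < 0). (Existence only: the
E₂ identifications and the abutment isomorphisms are some isomorphisms, not the canonical maps of a
construction, so edge maps and low-degree exact sequences are not part of this statement.) -/
theorem result {X : TopCat.{u}} (F : CohTop.Ab X) (U : Opens X) :
    ∃ (E : E₂CohomologicalSpectralSequence AddCommGrpCat.{u})
      (a : SpSeq.Abutment E (fun n : ℤ =>
        if 0 ≤ n then AddCommGrpCat.of (LocCohZ.HZc F n.toNat U) else AddCommGrpCat.of PUnit.{u + 1})),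
      (∀ n : ℤ, a.IsFinite n) ∧ SpSeq.IsBounded E ∧
      ∀ p q : ℤ, Nonempty ((E.page 2 le_rfl).X (p, q) ≅
        (if 0 ≤ p ∧ 0 ≤ q then AddCommGrpCat.of (CohTop.HU ((LocCohZ.HZsh U q.toNat).obj F) p.toNat ⊤)
          else AddCommGrpCat.of PUnit.{u + 1})) := by
  have hT : ∀ Q : CohTop.Ab X, Injective Q → ∀ q : ℕ, 0 < q →
      Limits.IsZero (((Groth.Agent.Lib.SectionsDer.sections (Opens.grothendieckTopology X)
        (⊤ : Opens X)).rightDerived q).obj ((LocCohZ.sectSuppF U).obj Q)) := by
    intro Q hQ q hq
    obtain ⟨q', rfl⟩ : ∃ q', q = q' + 1 := ⟨q - 1, by omega⟩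
    haveI := Groth.Agent.S0454.result Q
    haveI := Groth.Agent.S19245.result Q U
    haveI := Groth.Agent.S0452.result ((LocCohZ.sectSuppF U).obj Q) ⊤ q'
    exact Limits.IsZero.of_iso (AddCommGrpCat.isZero_of_subsingleton _)
      (Groth.Agent.Lib.SectionsDer.sectionsRightDerivedIso _ _ _ _)
  apply Groth.Agent.Lib.GrothSS.grothendieck_ss_flex (LocCohZ.sectSuppF U)
    (Groth.Agent.Lib.SectionsDer.sections (Opens.grothendieckTopology X) (⊤ : Opens X)) hT F
  · intro n
    rw [if_pos (by omega)]
    simp only [Int.toNat_natCast]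
    obtain ⟨e⟩ := Groth.Agent.S6027.result U n
    exact ⟨e.app F ≪≫ (LocCohZ.HZcEquivHZFunctor F n U).toAddCommGrpIso.symm⟩
  · intro n hn
    rw [if_neg (by omega)]
    exact AddCommGrpCat.isZero_of_subsingleton _
  · intro p q
    rw [if_pos ⟨by omega, by omega⟩]
    simp only [Int.toNat_natCast]
    exact ⟨Groth.Agent.Lib.SectionsDer.sectionsRightDerivedIso _ _ _ _⟩
  · intro p q h
    rw [if_neg (by omega)]
    exact AddCommGrpCat.isZero_of_subsingleton _

end Groth.Agent.S6029
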