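import Groth.Statements.S6037
import Mathlib
import Groth.Agent.Lib.SuppPush_helper2
import Groth.Agent.Lib.LerayHU_helper2
import Groth.Agent.S0454
import Groth.Agent.S6023

set_option autoImplicit false
universe u
open CategoryTheory CategoryTheory.Limits TopologicalSpace
open LocCohZ

namespace Groth.Agent.S6037

/-- Let f : X → Y be a continuous map of topological spaces, Y' a closed subset of Y with open
complement V, X' = f⁻¹(Y') and F an abelian sheaf on X. There is an E₂ spectral sequence of abelian
groups with E₂^{p,q} ≅ H^p_{Y'}(Y, R^q f_* F) for p, q ≥ 0 (0 otherwise), bounded, abutting with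
finite filtrations to H^n_{X'}(X, F). (The published statement is for a morphism of ringed spaces
and records module structures over the global sections of O_Y; here only abelian groups. Existence
only: the E₂ identifications and abutment isomorphisms are some isomorphisms, not the canonical
ones.) -/
theorem result {X Y : TopCat.{u}} (f : X ⟶ Y)
    (V : Opens Y) (F : CohTop.Ab X) :
    ∃ (E : E₂CohomologicalSpectralSequence AddCommGrpCat.{u})
      (a : SpSeq.Abutment E (fun n : ℤ =>
        if 0 ≤ n then AddCommGrpCat.of (LocCohZ.HZc F n.toNat ((Opens.map f).obj V))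
          else AddCommGrpCat.of PUnit.{u + 1})),
      (∀ n : ℤ, a.IsFinite n) ∧ SpSeq.IsBounded E ∧
      ∀ p q : ℤ, Nonempty ((E.page 2 le_rfl).X (p, q) ≅
        (if 0 ≤ p ∧ 0 ≤ q then AddCommGrpCat.of (LocCohZ.HZc ((CohTop.Rpush f q.toNat).obj F) p.toNat V)
          else AddCommGrpCat.of PUnit.{u + 1})) := by
  have hT : ∀ Q : CohTop.Ab X, Injective Q → ∀ q : ℕ, 0 < q →
      Limits.IsZero (((ExtDer.hom (LocCohZ.zq (le_top : V ≤ ⊤))).rightDerived q).obj
        ((CohTop.push f).obj Q)) := by
    intro Q hQ q hq
    haveI := Groth.Agent.S0454.result Q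
    haveI : TopCat.Sheaf.IsFlasque ((CohTop.push f).obj Q) :=
      TopCat.Sheaf.IsFlasque.pushforward_isFlasque Q f
    exact Groth.Agent.Lib.LerayHU.isZero_of_subsingleton_ext _ _ _
      ((Groth.Agent.S6023.result ((CohTop.push f).obj Q)).1 V ⊤ le_top q hq)
  apply Groth.Agent.Lib.GrothSS.grothendieck_ss_flex (CohTop.push f)
    (ExtDer.hom (LocCohZ.zq (le_top : V ≤ ⊤))) hT F
  · intro n
    rw [if_pos (by omega)]
    simp only [Int.toNat_natCast]
    exact ⟨(ExtDer.rightDerivedIso (Groth.Agent.Lib.SuppPush.pushHomIso f V) n).app F ≪≫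
      (ExtDer.natIso (LocCohZ.zq (le_top : (Opens.map f).obj V ≤ ⊤)) n).app F⟩
  · intro n hn
    rw [if_neg (by omega)]
    exact AddCommGrpCat.isZero_of_subsingleton _
  · intro p q
    rw [if_pos ⟨by omega, by omega⟩]
    simp only [Int.toNat_natCast]
    exact ⟨(ExtDer.natIso (LocCohZ.zq (le_top : V ≤ ⊤)) p).app _⟩
  · intro p q h
    rw [if_neg (by omega)]
    exact AddCommGrpCat.isZero_of_subsingleton _

end Groth.Agent.S6037
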