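import Groth.Statements.S6047
import Mathlib
import Groth.Agent.Lib.GrpRel_helper8

set_option autoImplicit false
open CategoryTheory CategoryTheory.Limits MonoidalCategory
universe w v₁ u₁
open ShfCat

namespace Groth.Agent.S6047


section Gen
open MonObj CartesianMonoidalCategory Groth.Agent.Lib.GrpRelH8
universe v u
variable {D : Type u} [Category.{v} D] [CartesianMonoidalCategory D]

theorem grp_of_quot (hT : ToposLike D) {H G Q : D} [GrpObj H] [hG : GrpObj G] (u : H ⟶ G)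
    [IsMonHom u]
    (hn : ∀ (Y : D) (g : Y ⟶ G) (h : Y ⟶ H), ∃ h' : Y ⟶ H, g * (h ≫ u) * g⁻¹ = h' ≫ u)
    (p : G ⟶ Q) [Epi p]
    (P2 : ∀ {T : D} (a b : T ⟶ G), a ≫ p = b ≫ p → ∃ c : T ⟶ H, b = a * (c ≫ u))
    (P3 : ∀ {T : D} (a : T ⟶ G) (c : T ⟶ H), (a * (c ≫ u)) ≫ p = a ≫ p) :
    ∃! str : GrpObj Q, @IsMonHom D _ _ G Q hG.toMonObj str.toMonObj p := by
  have E1 : Epi (p ▷ G) := epi_whiskerRight hT p G
  have E2 : Epi (Q ◁ p) := epi_whiskerLeft hT Q p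
  have E : Epi (p ⊗ₘ p) := by
    rw [MonoidalCategory.tensorHom_def]
    exact epi_comp _ _
  have Eff : EffectiveEpi (p ⊗ₘ p) := hT.eff _ E
  have Effp : EffectiveEpi p := hT.eff _ inferInstance
  have hdm : ∀ {Z : D} (a b : Z ⟶ G ⊗ G), a ≫ (p ⊗ₘ p) = b ≫ (p ⊗ₘ p) →
      a ≫ μ[G] ≫ p = b ≫ μ[G] ≫ p := by
    intro Z a b hab
    have h1 : (a ≫ fst G G) ≫ p = (b ≫ fst G G) ≫ p := by
      have := congrArg (· ≫ fst Q Q) hab
      simpa only [Category.assoc, tensorHom_fst] using this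
    have h2 : (a ≫ snd G G) ≫ p = (b ≫ snd G G) ≫ p := by
      have := congrArg (· ≫ snd Q Q) hab
      simpa only [Category.assoc, tensorHom_snd] using this
    obtain ⟨c₁, hc₁⟩ := P2 _ _ h1
    obtain ⟨c₂, hc₂⟩ := P2 _ _ h2
    obtain ⟨c₃, hc₃⟩ := hn Z (a ≫ snd G G)⁻¹ c₁
    have ea : a ≫ μ[G] = (a ≫ fst G G) * (a ≫ snd G G) := by
      rw [mul_eq_mul, comp_mul]
    have eb : b ≫ μ[G] = ((a ≫ fst G G) * (a ≫ snd G G)) * ((c₃ * c₂) ≫ u) := by
      rw [mul_eq_mul, comp_mul, hc₁, hc₂, MonObj.mul_comp, ← hc₃]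
      group
    rw [← Category.assoc, ← Category.assoc, eb, P3, ea]
  have hdi : ∀ {Z : D} (a b : Z ⟶ G), a ≫ p = b ≫ p → a ≫ ι[G] ≫ p = b ≫ ι[G] ≫ p := by
    intro Z a b hab
    obtain ⟨c, hc⟩ := P2 _ _ hab
    obtain ⟨c', hc'⟩ := hn Z a c⁻¹
    have eb : b ≫ ι[G] = (a ≫ ι[G]) * (c' ≫ u) := by
      rw [← Hom.inv_def, ← Hom.inv_def, hc, ← hc', GrpObj.inv_comp]
      group
    rw [← Category.assoc, ← Category.assoc, eb, P3]
  obtain ⟨m, hm⟩ : ∃ m : Q ⊗ Q ⟶ Q, (p ⊗ₘ p) ≫ m = μ[G] ≫ p :=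
    ⟨EffectiveEpi.desc (p ⊗ₘ p) (μ[G] ≫ p) hdm, EffectiveEpi.fac _ _ _⟩
  obtain ⟨i, hi⟩ : ∃ i : Q ⟶ Q, p ≫ i = ι[G] ≫ p :=
    ⟨EffectiveEpi.desc p (ι[G] ≫ p) hdi, EffectiveEpi.fac _ _ _⟩
  have ax1 : ((η[G] ≫ p) ▷ Q) ≫ m = (λ_ Q).hom := by
    have : Epi (𝟙_ D ◁ p) := epi_whiskerLeft hT _ p
    rw [← cancel_epi (𝟙_ D ◁ p)]
    have e1 : (𝟙_ D ◁ p) ≫ ((η[G] ≫ p) ▷ Q) = (η[G] ▷ G) ≫ (p ⊗ₘ p) := by
      rw [← tensorHom_def', ← tensorHom_id, tensorHom_comp_tensorHom, Category.id_comp]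
    rw [← Category.assoc, e1, Category.assoc, hm, MonObj.one_mul_assoc, leftUnitor_naturality]
  have ax2 : (Q ◁ (η[G] ≫ p)) ≫ m = (ρ_ Q).hom := by
    have : Epi (p ▷ 𝟙_ D) := epi_whiskerRight hT p _
    rw [← cancel_epi (p ▷ 𝟙_ D)]
    have e1 : (p ▷ 𝟙_ D) ≫ (Q ◁ (η[G] ≫ p)) = (G ◁ η[G]) ≫ (p ⊗ₘ p) := by
      rw [← MonoidalCategory.tensorHom_def, ← id_tensorHom, tensorHom_comp_tensorHom,
        Category.id_comp]
    rw [← Category.assoc, e1, Category.assoc, hm, MonObj.mul_one_assoc, rightUnitor_naturality]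
  have ax3 : (m ▷ Q) ≫ m = (α_ Q Q Q).hom ≫ (Q ◁ m) ≫ m := by
    have E3 : Epi ((p ⊗ₘ p) ⊗ₘ p) := by
      rw [MonoidalCategory.tensorHom_def]
      have := epi_whiskerRight hT (p ⊗ₘ p) G
      have := epi_whiskerLeft hT (Q ⊗ Q) p
      exact epi_comp _ _
    rw [← cancel_epi ((p ⊗ₘ p) ⊗ₘ p)]
    have eL : ((p ⊗ₘ p) ⊗ₘ p) ≫ (m ▷ Q) = (μ[G] ▷ G) ≫ (p ⊗ₘ p) := by
      rw [← tensorHom_id, tensorHom_comp_tensorHom, hm, Category.comp_id, ← tensorHom_id,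
        tensorHom_comp_tensorHom, Category.id_comp]
    have eR : (p ⊗ₘ (p ⊗ₘ p)) ≫ (Q ◁ m) = (G ◁ μ[G]) ≫ (p ⊗ₘ p) := by
      rw [← id_tensorHom, tensorHom_comp_tensorHom, hm, Category.comp_id, ← id_tensorHom,
        tensorHom_comp_tensorHom, Category.id_comp]
    rw [← Category.assoc, eL, Category.assoc, hm, associator_naturality_assoc,
      ← Category.assoc (p ⊗ₘ (p ⊗ₘ p)), eR, Category.assoc, hm, MonObj.mul_assoc_assoc]
  have ax4 : lift i (𝟙 Q) ≫ m = toUnit Q ≫ (η[G] ≫ p) := by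
    rw [← cancel_epi p, comp_lift_assoc, hi, Category.comp_id]
    have e1 : lift (ι[G] ≫ p) p = lift ι[G] (𝟙 G) ≫ (p ⊗ₘ p) := by
      rw [lift_map, Category.id_comp]
    rw [e1, Category.assoc, hm, GrpObj.left_inv_assoc, ← Category.assoc p,
      toUnit_unique (p ≫ toUnit Q) (toUnit G)]
  have ax5 : lift (𝟙 Q) i ≫ m = toUnit Q ≫ (η[G] ≫ p) := by
    rw [← cancel_epi p, comp_lift_assoc, hi, Category.comp_id]
    have e1 : lift p (ι[G] ≫ p) = lift (𝟙 G) ι[G] ≫ (p ⊗ₘ p) := by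
      rw [lift_map, Category.id_comp]
    rw [e1, Category.assoc, hm, GrpObj.right_inv_assoc, ← Category.assoc p,
      toUnit_unique (p ≫ toUnit Q) (toUnit G)]
  let str : GrpObj Q :=
    { one := η[G] ≫ p
      mul := m
      one_mul := ax1
      mul_one := ax2
      mul_assoc := ax3
      inv := i
      left_inv := ax4
      right_inv := ax5 }
  refine ⟨str, ?_, ?_⟩
  · exact @IsMonHom.mk D _ _ G Q hG.toMonObj str.toMonObj p rfl hm.symm
  · intro str' hstr'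
    apply GrpObj.ext
    apply MonObj.ext
    rw [← cancel_epi (p ⊗ₘ p)]
    exact hstr'.mul_hom.symm.trans hm.symm

end Gen

open MonObj CartesianMonoidalCategory SemiCartesianMonoidalCategory in
/-- Let `u : H ⟶ G` be a monomorphism of sheaves of groups on a site identifying `H` with a normal
subgroup sheaf of `G`. Then the quotient sheaf `G/H` (the coequalizer, in sheaves of sets, of the
projection and the multiplication `G × H ⇉ G`) carries exactly one structure of sheaf of groups for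
which the canonical map `G ⟶ G/H` is a homomorphism. Stated for sheaves of sets valued in `Type w`
whenever sheafification exists; group sheaves are group objects for the cartesian monoidal
structure. -/
theorem result {C : Type u₁} [Category.{v₁} C]
    (J : GrothendieckTopology C) [HasSheafify J (Type w)]
    {H G : Sheaf J (Type w)} [hH : GrpObj H] [hG : GrpObj G] (u : H ⟶ G) [Mono u]
    (hu : @IsMonHom (Sheaf J (Type w)) _ _ H G hH.toMonObj hG.toMonObj u)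
    (hn : ∀ (Y : Sheaf J (Type w)) (g : Y ⟶ G) (h : Y ⟶ H), ∃ h' : Y ⟶ H, g * (h ≫ u) * g⁻¹ = h' ≫ u) :
    ∃! str : GrpObj (coequalizer (fst G H) ((G ◁ u) ≫ hG.mul)),
      @IsMonHom (Sheaf J (Type w)) _ _ G (coequalizer (fst G H) ((G ◁ u) ≫ hG.mul)) hG.toMonObj str.toMonObj
        (coequalizer.π (fst G H) ((G ◁ u) ≫ hG.mul)) := by
  have := hu
  exact grp_of_quot (Groth.Agent.Lib.GrpRelH8.sheaf_toposLike J) u hn
    (coequalizer.π (fst G H) ((G ◁ u) ≫ hG.mul))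
    (fun a b h => Groth.Agent.Lib.GrpRelH8.exists_of_quot_eq
      (Groth.Agent.Lib.GrpRelH8.sheaf_toposLike J) u a b h)
    (fun a c => Groth.Agent.Lib.GrpRelH8.quot_eq_of_eq_mul u a c)

end Groth.Agent.S6047
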