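import Groth.Statements.S6051
import Mathlib
import Groth.Agent.Lib.GrpRel_helper8

set_option autoImplicit false
open CategoryTheory CategoryTheory.Limits MonoidalCategory
universe w v₁ u₁
open ShfCat

namespace Groth.Agent.S6051


section Gen
open MonObj CartesianMonoidalCategory Groth.Agent.Lib.GrpRelH8
universe v u
variable {D : Type u} [Category.{v} D] [CartesianMonoidalCategory D] [HasPullbacks D]
  [HasCoequalizers D]

theorem exists_unique_act (hT : ToposLike D) {H G : D} [GrpObj H] [GrpObj G]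
    (u : H ⟶ G) [Mono u] [IsMonHom u] :
    ∃! act : G ⊗ coequalizer (fst G H) ((G ◁ u) ≫ μ[G]) ⟶ coequalizer (fst G H) ((G ◁ u) ≫ μ[G]),
      (η[G] ▷ coequalizer (fst G H) ((G ◁ u) ≫ μ[G])) ≫ act =
          (λ_ (coequalizer (fst G H) ((G ◁ u) ≫ μ[G]))).hom ∧
        (μ[G] ▷ coequalizer (fst G H) ((G ◁ u) ≫ μ[G])) ≫ act =
          (α_ G G (coequalizer (fst G H) ((G ◁ u) ≫ μ[G]))).hom ≫ (G ◁ act) ≫ act ∧
        μ[G] ≫ coequalizer.π (fst G H) ((G ◁ u) ≫ μ[G]) =
          (G ◁ coequalizer.π (fst G H) ((G ◁ u) ≫ μ[G])) ≫ act := by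
  have hE : Epi (G ◁ coequalizer.π (fst G H) ((G ◁ u) ≫ μ[G])) := epi_whiskerLeft hT G _
  have hEff : EffectiveEpi (G ◁ coequalizer.π (fst G H) ((G ◁ u) ≫ μ[G])) := hT.eff _ hE
  have hdesc : ∀ {Z : D} (a b : Z ⟶ G ⊗ G),
      a ≫ (G ◁ coequalizer.π (fst G H) ((G ◁ u) ≫ μ[G]))
        = b ≫ (G ◁ coequalizer.π (fst G H) ((G ◁ u) ≫ μ[G])) →
      a ≫ μ[G] ≫ coequalizer.π (fst G H) ((G ◁ u) ≫ μ[G])
        = b ≫ μ[G] ≫ coequalizer.π (fst G H) ((G ◁ u) ≫ μ[G]) := by
    intro Z a b hab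
    have h1 : a ≫ fst G G = b ≫ fst G G := by
      have := congrArg (· ≫ fst G _) hab
      simpa only [Category.assoc, whiskerLeft_fst] using this
    have h2 : (a ≫ snd G G) ≫ coequalizer.π (fst G H) ((G ◁ u) ≫ μ[G])
        = (b ≫ snd G G) ≫ coequalizer.π (fst G H) ((G ◁ u) ≫ μ[G]) := by
      have := congrArg (· ≫ snd G _) hab
      simpa only [Category.assoc, whiskerLeft_snd] using this
    obtain ⟨c, hc⟩ := exists_of_quot_eq hT u _ _ h2
    have ea : a ≫ μ[G] = (a ≫ fst G G) * (a ≫ snd G G) := by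
      rw [mul_eq_mul, comp_mul]
    have eb : b ≫ μ[G] = ((a ≫ fst G G) * (a ≫ snd G G)) * (c ≫ u) := by
      rw [mul_eq_mul, comp_mul, ← h1, hc, _root_.mul_assoc]
    rw [← Category.assoc, ← Category.assoc, eb, quot_eq_of_eq_mul, ea]
  have hact : (G ◁ coequalizer.π (fst G H) ((G ◁ u) ≫ μ[G])) ≫
      EffectiveEpi.desc (G ◁ coequalizer.π (fst G H) ((G ◁ u) ≫ μ[G]))
        (μ[G] ≫ coequalizer.π (fst G H) ((G ◁ u) ≫ μ[G])) hdesc
      = μ[G] ≫ coequalizer.π (fst G H) ((G ◁ u) ≫ μ[G]) := EffectiveEpi.fac _ _ _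
  refine ⟨EffectiveEpi.desc (G ◁ coequalizer.π (fst G H) ((G ◁ u) ≫ μ[G]))
        (μ[G] ≫ coequalizer.π (fst G H) ((G ◁ u) ≫ μ[G])) hdesc, ⟨?_, ?_, hact.symm⟩, ?_⟩
  · have : Epi (𝟙_ D ◁ coequalizer.π (fst G H) ((G ◁ u) ≫ μ[G])) := epi_whiskerLeft hT _ _
    rw [← cancel_epi (𝟙_ D ◁ coequalizer.π (fst G H) ((G ◁ u) ≫ μ[G]))]
    rw [whisker_exchange_assoc, hact, MonObj.one_mul_assoc, leftUnitor_naturality]
  · have : Epi ((G ⊗ G) ◁ coequalizer.π (fst G H) ((G ◁ u) ≫ μ[G])) := epi_whiskerLeft hT _ _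
    rw [← cancel_epi ((G ⊗ G) ◁ coequalizer.π (fst G H) ((G ◁ u) ≫ μ[G]))]
    rw [whisker_exchange_assoc, hact, associator_naturality_right_assoc,
      ← whiskerLeft_comp_assoc, hact, whiskerLeft_comp_assoc, hact, MonObj.mul_assoc_assoc]
  · rintro act' ⟨_, _, h3⟩
    rw [← cancel_epi (G ◁ coequalizer.π (fst G H) ((G ◁ u) ≫ μ[G])), hact, h3]

end Gen

open MonObj CartesianMonoidalCategory SemiCartesianMonoidalCategory in
/-- Let `u : H ⟶ G` be a monomorphism of sheaves of groups on a site and `G/H` the quotient sheaf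
(coequalizer in sheaves of sets of the projection and the multiplication `G × H ⇉ G`), with `π : G ⟶
G/H`. Then `G/H` carries exactly one action of `G` (a unital, associative morphism `G × G/H ⟶ G/H`)
for which `π` is equivariant for the action of `G` on itself by left translations. Stated for
sheaves of sets in `Type w` with sheafification. (The published statement adds that this structure
is functorial in the pair `(G, H)`; that clause is not stated here.) -/
theorem result {C : Type u₁} [Category.{v₁} C]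
    (J : GrothendieckTopology C) [HasSheafify J (Type w)]
    {H G : Sheaf J (Type w)} [hH : GrpObj H] [hG : GrpObj G] (u : H ⟶ G) [Mono u]
    (hu : @IsMonHom (Sheaf J (Type w)) _ _ H G hH.toMonObj hG.toMonObj u) :
    ∃! act : G ⊗ coequalizer (fst G H) ((G ◁ u) ≫ hG.mul) ⟶ coequalizer (fst G H) ((G ◁ u) ≫ hG.mul),
      (hG.one ▷ coequalizer (fst G H) ((G ◁ u) ≫ hG.mul)) ≫ act =
          (λ_ (coequalizer (fst G H) ((G ◁ u) ≫ hG.mul))).hom ∧
        (hG.mul ▷ coequalizer (fst G H) ((G ◁ u) ≫ hG.mul)) ≫ act =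
          (α_ G G (coequalizer (fst G H) ((G ◁ u) ≫ hG.mul))).hom ≫ (G ◁ act) ≫ act ∧
        hG.mul ≫ coequalizer.π (fst G H) ((G ◁ u) ≫ hG.mul) =
          (G ◁ coequalizer.π (fst G H) ((G ◁ u) ≫ hG.mul)) ≫ act := by
  have := hu
  exact exists_unique_act (Groth.Agent.Lib.GrpRelH8.sheaf_toposLike J) u

end Groth.Agent.S6051
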