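import Groth.Statements.S6054
import Mathlib
import Groth.Agent.Lib.GrpRel_helper8

set_option autoImplicit false
open CategoryTheory CategoryTheory.Limits MonoidalCategory
universe w v₁ u₁
open ShfCat

namespace Groth.Agent.S6054


section Gen
open MonObj CartesianMonoidalCategory Groth.Agent.Lib.GrpRelH8
universe v u
variable {D : Type u} [Category.{v} D] [CartesianMonoidalCategory D] [HasPullbacks D]

omit [CartesianMonoidalCategory D] in
theorem exists_lift (hT : ToposLike D) {X Y T : D} (p : X ⟶ Y) [Epi p] (t : T ⟶ Y) :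
    ∃ (T' : D) (e : T' ⟶ T) (x : T' ⟶ X), Epi e ∧ x ≫ p = e ≫ t :=
  ⟨pullback t p, pullback.fst t p, pullback.snd t p,
    hT.epi_bc (IsPullback.of_hasPullback t p) inferInstance, pullback.condition.symm⟩

theorem quot_quot_aux (hT : ToposLike D) {H K G A B Cc : D} [GrpObj H] [GrpObj K] [GrpObj G]
    (h : H ⟶ K) (k : K ⟶ G) [Mono k] [IsMonHom h] [IsMonHom k]
    (pA : G ⟶ A) (pB : K ⟶ B) (pC : G ⟶ Cc) [Epi pA] [Epi pB]
    (A2 : ∀ {T : D} (a b : T ⟶ G), a ≫ pA = b ≫ pA → ∃ c : T ⟶ H, b = a * (c ≫ h ≫ k))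
    (B3 : ∀ {T : D} (a : T ⟶ K) (c : T ⟶ H), (a * (c ≫ h)) ≫ pB = a ≫ pB)
    (wC : fst G K ≫ pC = ((G ◁ k) ≫ μ[G]) ≫ pC) (hC : IsColimit (Cofork.ofπ pC wC))
    (act : A ⊗ B ⟶ A) (hact : (pA ⊗ₘ pB) ≫ act = (G ◁ k) ≫ μ[G] ≫ pA)
    (qbar : A ⟶ Cc) (hq : pA ≫ qbar = pC) :
    Mono (lift act (fst A B)) ∧
      ∃ wq : fst A B ≫ qbar = act ≫ qbar, Nonempty (IsColimit (Cofork.ofπ qbar wq)) := by
  have E : Epi (pA ⊗ₘ pB) := by
    rw [MonoidalCategory.tensorHom_def]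
    have := epi_whiskerRight hT pA K
    have := epi_whiskerLeft hT A pB
    exact epi_comp _ _
  have wq : fst A B ≫ qbar = act ≫ qbar := by
    rw [← cancel_epi (pA ⊗ₘ pB), tensorHom_fst_assoc, hq, ← Category.assoc, hact, Category.assoc,
      Category.assoc, hq, wC, Category.assoc]
  have hactl : ∀ {T : D} (g' : T ⟶ G) (z : T ⟶ K),
      (lift g' z ≫ (pA ⊗ₘ pB)) ≫ act = (g' * (z ≫ k)) ≫ pA := by
    intro T g' z
    rw [Category.assoc, hact, ← lift_tr k g' z, Category.assoc, Category.assoc]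
  refine ⟨?_, wq, ⟨Cofork.IsColimit.mk _
    (fun s => Cofork.IsColimit.desc hC (pA ≫ s.π) ?_) ?_ ?_⟩⟩
  · constructor
    intro T a b hab
    have h1 : a ≫ act = b ≫ act := by
      have := congrArg (· ≫ fst A A) hab
      simpa only [Category.assoc, lift_fst] using this
    have h2 : a ≫ fst A B = b ≫ fst A B := by
      have := congrArg (· ≫ snd A A) hab
      simpa only [Category.assoc, lift_snd] using this
    apply CartesianMonoidalCategory.hom_ext _ _ h2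
    obtain ⟨T₁, e₁, g, he₁, hg⟩ := exists_lift hT pA (a ≫ fst A B)
    obtain ⟨T₂, e₂, x, he₂, hx⟩ := exists_lift hT pB (e₁ ≫ a ≫ snd A B)
    obtain ⟨T₃, e₃, y, he₃, hy⟩ := exists_lift hT pB (e₂ ≫ e₁ ≫ b ≫ snd A B)
    have hE2 : Epi (e₂ ≫ e₁) := epi_comp _ _
    have hE : Epi (e₃ ≫ e₂ ≫ e₁) := epi_comp _ _
    rw [← cancel_epi (e₃ ≫ e₂ ≫ e₁)]
    have ha : (e₃ ≫ e₂ ≫ e₁) ≫ a = lift (e₃ ≫ e₂ ≫ g) (e₃ ≫ x) ≫ (pA ⊗ₘ pB) := by
      rw [lift_map]
      apply CartesianMonoidalCategory.hom_ext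
      · rw [lift_fst]
        simp only [Category.assoc]
        rw [hg]
      · rw [lift_snd]
        simp only [Category.assoc]
        rw [hx]
    have hb : (e₃ ≫ e₂ ≫ e₁) ≫ b = lift (e₃ ≫ e₂ ≫ g) y ≫ (pA ⊗ₘ pB) := by
      rw [lift_map]
      apply CartesianMonoidalCategory.hom_ext
      · rw [lift_fst]
        simp only [Category.assoc]
        rw [hg, h2]
      · rw [lift_snd]
        simp only [Category.assoc]
        rw [hy]
    have key : (lift (e₃ ≫ e₂ ≫ g) (e₃ ≫ x) ≫ (pA ⊗ₘ pB)) ≫ act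
        = (lift (e₃ ≫ e₂ ≫ g) y ≫ (pA ⊗ₘ pB)) ≫ act := by
      rw [← ha, ← hb]
      simp only [Category.assoc]
      rw [h1]
    rw [hactl, hactl] at key
    obtain ⟨c, hc⟩ := A2 _ _ key
    have hy' : y = (e₃ ≫ x) * (c ≫ h) := by
      rw [← cancel_mono k, MonObj.mul_comp, Category.assoc c h k]
      rw [_root_.mul_assoc] at hc
      exact mul_left_cancel hc
    have e1 : (e₃ ≫ e₂ ≫ e₁) ≫ a ≫ snd A B = (e₃ ≫ x) ≫ pB := by
      simp only [Category.assoc]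
      rw [hx]
    have e2 : (e₃ ≫ e₂ ≫ e₁) ≫ b ≫ snd A B = y ≫ pB := by
      simp only [Category.assoc]
      rw [hy]
    rw [e1, e2, hy', B3]
  · have hs := s.condition
    rw [← cancel_epi (pA ⊗ₘ pB), tensorHom_fst_assoc, reassoc_of% hact] at hs
    simpa only [Category.assoc] using hs
  · intro s
    rw [← cancel_epi pA]
    change pA ≫ qbar ≫ Cofork.IsColimit.desc hC (pA ≫ s.π) _ = pA ≫ s.π
    rw [← Category.assoc, hq]
    exact Cofork.IsColimit.π_desc' hC _ _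
  · intro s m hm
    change qbar ≫ m = s.π at hm
    apply Cofork.IsColimit.hom_ext hC
    refine Eq.trans ?_ (Cofork.IsColimit.π_desc' hC _ _).symm
    change pC ≫ m = pA ≫ s.π
    rw [← hq, Category.assoc, hm]

theorem quot_quot [HasCoequalizers D] (hT : ToposLike D) {H K G : D} [GrpObj H] [GrpObj K]
    [GrpObj G] (h : H ⟶ K) (k : K ⟶ G) [Mono h] [Mono k] [IsMonHom h] [IsMonHom k]
    (act : coequalizer (fst G H) ((G ◁ (h ≫ k)) ≫ μ[G]) ⊗ coequalizer (fst K H) ((K ◁ h) ≫ μ[K]) ⟶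
      coequalizer (fst G H) ((G ◁ (h ≫ k)) ≫ μ[G]))
    (hact : (coequalizer.π (fst G H) ((G ◁ (h ≫ k)) ≫ μ[G]) ⊗ₘ
        coequalizer.π (fst K H) ((K ◁ h) ≫ μ[K])) ≫ act =
      (G ◁ k) ≫ μ[G] ≫ coequalizer.π (fst G H) ((G ◁ (h ≫ k)) ≫ μ[G]))
    (qbar : coequalizer (fst G H) ((G ◁ (h ≫ k)) ≫ μ[G]) ⟶
      coequalizer (fst G K) ((G ◁ k) ≫ μ[G]))
    (hq : coequalizer.π (fst G H) ((G ◁ (h ≫ k)) ≫ μ[G]) ≫ qbar =
      coequalizer.π (fst G K) ((G ◁ k) ≫ μ[G])) :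
    Mono (lift act (fst _ _)) ∧
      ∃ wq : fst _ _ ≫ qbar = act ≫ qbar, Nonempty (IsColimit (Cofork.ofπ qbar wq)) := by
  have hhk : IsMonHom (h ≫ k) := inferInstance
  have hmono : Mono (h ≫ k) := mono_comp _ _
  exact quot_quot_aux hT h k
    (coequalizer.π (fst G H) ((G ◁ (h ≫ k)) ≫ μ[G]))
    (coequalizer.π (fst K H) ((K ◁ h) ≫ μ[K]))
    (coequalizer.π (fst G K) ((G ◁ k) ≫ μ[G]))
    (fun a b hab => by
      obtain ⟨c, hc⟩ := exists_of_quot_eq hT (h ≫ k) a b hab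
      exact ⟨c, hc⟩)
    (fun a c => quot_eq_of_eq_mul h a c)
    (coequalizer.condition _ _) (coequalizerIsCoequalizer _ _)
    act hact qbar hq

end Gen

open MonObj CartesianMonoidalCategory SemiCartesianMonoidalCategory in
/-- Let `G` be a sheaf of groups on a site, `K ⊆ G` a subgroup sheaf and `H ⊆ K` a subgroup sheaf normal
in `K`. With `G/H`, `K/H`, `G/K` the quotient sheaves, the right action of `K/H` on `G/H` induced by
multiplication is free, and the canonical map `G/H ⟶ G/K` identifies `G/K` with the quotient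
`(G/H)/(K/H)` (it is a coequalizer of the projection and the action). Sheaves of sets in `Type w`
with sheafification; the action and the map `G/H ⟶ G/K` are pinned by their compatibility with `G ×
K ⟶ G ⟶ G/H` and with `G ⟶ G/K`. (The published statement adds that for `K` normal in `G` the
identification respects the group structures; that clause is not stated.) -/
theorem result {C : Type u₁} [Category.{v₁} C]
    (J : GrothendieckTopology C) [HasSheafify J (Type w)]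
    {H K G : Sheaf J (Type w)} [hH : GrpObj H] [hK : GrpObj K] [hG : GrpObj G]
    (h : H ⟶ K) (k : K ⟶ G) [Mono h] [Mono k]
    (hh : @IsMonHom (Sheaf J (Type w)) _ _ H K hH.toMonObj hK.toMonObj h)
    (hk : @IsMonHom (Sheaf J (Type w)) _ _ K G hK.toMonObj hG.toMonObj k)
    (hn : ∀ (Y : Sheaf J (Type w)) (x : Y ⟶ K) (y : Y ⟶ H), ∃ y' : Y ⟶ H, x * (y ≫ h) * x⁻¹ = y' ≫ h)
    (act : coequalizer (fst G H) ((G ◁ (h ≫ k)) ≫ hG.mul) ⊗ coequalizer (fst K H) ((K ◁ h) ≫ hK.mul) ⟶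
      coequalizer (fst G H) ((G ◁ (h ≫ k)) ≫ hG.mul))
    (hact : (coequalizer.π (fst G H) ((G ◁ (h ≫ k)) ≫ hG.mul) ⊗ₘ coequalizer.π (fst K H) ((K ◁ h) ≫ hK.mul)) ≫ act =
      (G ◁ k) ≫ hG.mul ≫ coequalizer.π (fst G H) ((G ◁ (h ≫ k)) ≫ hG.mul))
    (qbar : coequalizer (fst G H) ((G ◁ (h ≫ k)) ≫ hG.mul) ⟶ coequalizer (fst G K) ((G ◁ k) ≫ hG.mul))
    (hq : coequalizer.π (fst G H) ((G ◁ (h ≫ k)) ≫ hG.mul) ≫ qbar = coequalizer.π (fst G K) ((G ◁ k) ≫ hG.mul)) :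
    Mono (lift act (fst _ _)) ∧
    ∃ wq : fst _ _ ≫ qbar = act ≫ qbar, Nonempty (IsColimit (Cofork.ofπ qbar wq)) := by
  have := hh
  have := hk
  exact quot_quot (Groth.Agent.Lib.GrpRelH8.sheaf_toposLike J) h k act hact qbar hq

end Groth.Agent.S6054
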