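import Groth.Statements.S6055
import Mathlib
import Groth.Agent.Lib.GrpRel_helper8

set_option autoImplicit false
open CategoryTheory CategoryTheory.Limits MonoidalCategory
universe w v₁ u₁
open ShfCat

namespace Groth.Agent.S6055


section Gen
open MonObj CartesianMonoidalCategory Groth.Agent.Lib.GrpRelH8
universe v u
variable {D : Type u} [Category.{v} D] [CartesianMonoidalCategory D] [HasPullbacks D]
  [HasCoequalizers D]

theorem kp_inter (hT : ToposLike D) {H L G : D} [GrpObj H] [GrpObj L] [GrpObj G]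
    (u : H ⟶ G) (l : L ⟶ G) [Mono u] [Mono l] [IsMonHom u] [IsMonHom l] :
    IsKernelPair (l ≫ coequalizer.π (fst G H) ((G ◁ u) ≫ μ[G]))
      (fst L (pullback u l)) ((L ◁ pullback.snd u l) ≫ μ[L]) := by
  have hjm := jointlyMono (G := L) (pullback.snd u l)
  have hcond : ∀ s : PullbackCone (l ≫ coequalizer.π (fst G H) ((G ◁ u) ≫ μ[G]))
      (l ≫ coequalizer.π (fst G H) ((G ◁ u) ≫ μ[G])),
      ∃ c : s.pt ⟶ H, s.snd ≫ l = (s.fst ≫ l) * (c ≫ u) := fun s =>
    exists_of_quot_eq hT u (s.fst ≫ l) (s.snd ≫ l) (by simpa only [Category.assoc] using s.condition)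
  choose c hc using hcond
  have hc' : ∀ s : PullbackCone (l ≫ coequalizer.π (fst G H) ((G ◁ u) ≫ μ[G]))
      (l ≫ coequalizer.π (fst G H) ((G ◁ u) ≫ μ[G])), c s ≫ u = (s.fst⁻¹ * s.snd) ≫ l := by
    intro s
    rw [MonObj.mul_comp, GrpObj.inv_comp, hc s, inv_mul_cancel_left]
  refine IsPullback.mk ⟨?_⟩ ⟨PullbackCone.IsLimit.mk _
    (fun s => lift s.fst (pullback.lift (c s) (s.fst⁻¹ * s.snd) (hc' s))) ?_ ?_ ?_⟩
  · have e1 : ((L ◁ pullback.snd u l) ≫ μ[L]) ≫ l
        = (fst L (pullback u l) ≫ l) * ((snd L (pullback u l) ≫ pullback.fst u l) ≫ u) := by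
      rw [tr_eq (pullback.snd u l), MonObj.mul_comp, Category.assoc, Category.assoc,
        pullback.condition]
    rw [← Category.assoc, ← Category.assoc, e1, quot_eq_of_eq_mul]
  · intro s
    rw [lift_fst]
  · intro s
    rw [lift_tr, pullback.lift_snd, mul_inv_cancel_left]
  · intro s m h1 h2
    apply hjm.right_cancellation
    · rw [h1, lift_fst]
    · rw [h2, lift_tr, pullback.lift_snd, mul_inv_cancel_left]

end Gen

open MonObj CartesianMonoidalCategory SemiCartesianMonoidalCategory in
/-- Let `G` be a sheaf of groups on a site, `H, L ⊆ G` subgroup sheaves and `π : G ⟶ G/H` the quotient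
sheaf map. Then the pair `L × (H ∩ L) ⇉ L` (projection, right multiplication) is the kernel pair of
`L ⟶ G ⟶ G/H`, so that the image of `L` in `G/H` is the quotient sheaf `L/(H ∩ L)`. Sheaves of sets
in `Type w` with sheafification; `H ∩ L` is the fibre product `H ×_G L`. (The published statement
assumes `H` normal and also identifies this image with `(L·H)/H`; normality is not needed for the
part stated here.) -/
theorem result {C : Type u₁} [Category.{v₁} C]
    (J : GrothendieckTopology C) [HasSheafify J (Type w)]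
    {H L G : Sheaf J (Type w)} [hH : GrpObj H] [hL : GrpObj L] [hG : GrpObj G]
    (u : H ⟶ G) (l : L ⟶ G) [Mono u] [Mono l]
    (hu : @IsMonHom (Sheaf J (Type w)) _ _ H G hH.toMonObj hG.toMonObj u)
    (hl : @IsMonHom (Sheaf J (Type w)) _ _ L G hL.toMonObj hG.toMonObj l) :
    IsKernelPair (l ≫ coequalizer.π (fst G H) ((G ◁ u) ≫ hG.mul))
      (fst L (pullback u l)) ((L ◁ pullback.snd u l) ≫ hL.mul) := by
  have := hu
  have := hl
  exact kp_inter (Groth.Agent.Lib.GrpRelH8.sheaf_toposLike J) u l

end Groth.Agent.S6055
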