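import Groth.Statements.S6120
import Mathlib

set_option autoImplicit false
open CategoryTheory CategoryTheory.Limits Opposite
universe w v₁ v₂ u₁ u₂
open SGA4

namespace Groth.Agent.S6120


section aux
variable {I : Type u₁} [Category.{v₁} I] {C : Type u₂} [Category.{v₂} C] {A : Type w} (i : A → I)
    [∀ α β, HasBinaryProduct (i α) (i β)]
    (F : Iᵒᵖ ⥤ C)
    [HasProduct (fun α => F.obj (op (i α)))]
    [HasProduct (fun p : A × A => F.obj (op (i p.1 ⨯ i p.2)))]

noncomputable abbrev d0 : ∏ᶜ (fun α => F.obj (op (i α))) ⟶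
    ∏ᶜ (fun p : A × A => F.obj (op (i p.1 ⨯ i p.2))) :=
  Pi.lift (fun p : A × A =>
    Pi.π (fun α => F.obj (op (i α))) p.1 ≫ F.map (prod.fst : i p.1 ⨯ i p.2 ⟶ i p.1).op)

noncomputable abbrev d1 : ∏ᶜ (fun α => F.obj (op (i α))) ⟶
    ∏ᶜ (fun p : A × A => F.obj (op (i p.1 ⨯ i p.2))) :=
  Pi.lift (fun p : A × A =>
    Pi.π (fun α => F.obj (op (i α))) p.2 ≫ F.map (prod.snd : i p.1 ⨯ i p.2 ⟶ i p.2).op)

lemma indep {T : C} (t : T ⟶ ∏ᶜ (fun α => F.obj (op (i α)))) (ht : t ≫ d0 i F = t ≫ d1 i F)
    {j : I} {α β : A} (a : j ⟶ i α) (b : j ⟶ i β) :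
    t ≫ Pi.π (fun α => F.obj (op (i α))) α ≫ F.map a.op =
      t ≫ Pi.π (fun α => F.obj (op (i α))) β ≫ F.map b.op := by
  have h := congrArg (fun f => f ≫ Pi.π (fun p : A × A => F.obj (op (i p.1 ⨯ i p.2))) (α, β) ≫
    F.map (prod.lift a b).op) ht
  simp only [Category.assoc] at h
  rw [Pi.lift_π_assoc, Pi.lift_π_assoc] at h
  simp only [Category.assoc, ← F.map_comp, ← op_comp, prod.lift_fst, prod.lift_snd] at h
  exact h

noncomputable def coneOf (hcov : ∀ j : I, ∃ α, Nonempty (j ⟶ i α)) {T : C}
    (t : T ⟶ ∏ᶜ (fun α => F.obj (op (i α)))) (ht : t ≫ d0 i F = t ≫ d1 i F) : Cone F where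
  pt := T
  π := { app := fun j => t ≫ Pi.π (fun α => F.obj (op (i α))) (hcov j.unop).choose ≫
            F.map (hcov j.unop).choose_spec.some.op
         naturality := fun j j' f => by
           simp only [Functor.const_obj_obj, Functor.const_obj_map, Category.id_comp,
             Category.assoc]
           rw [← F.map_comp]
           exact indep i F t ht (hcov j'.unop).choose_spec.some
             (f.unop ≫ (hcov j.unop).choose_spec.some) }

lemma coneOf_π (hcov : ∀ j : I, ∃ α, Nonempty (j ⟶ i α)) {T : C}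
    (t : T ⟶ ∏ᶜ (fun α => F.obj (op (i α)))) (ht : t ≫ d0 i F = t ≫ d1 i F) (α : A) :
    (coneOf i F hcov t ht).π.app (op (i α)) = t ≫ Pi.π (fun α => F.obj (op (i α))) α := by
  have := indep i F t ht (hcov (i α)).choose_spec.some (𝟙 (i α))
  simp only [op_id, F.map_id, Category.comp_id] at this
  exact this

lemma cone_eq (s : Cone F) :
    Pi.lift (fun α => s.π.app (op (i α))) ≫ d0 i F =
      Pi.lift (fun α => s.π.app (op (i α))) ≫ d1 i F := by
  apply Pi.hom_ext
  intro p
  simp only [Category.assoc, Pi.lift_π, Pi.lift_π_assoc]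
  rw [s.w, s.w]

end aux

/-- Let `I` be a category with a family of objects `i α` (`α : A`) such that every binary product `i α ⨯
i β` exists in `I` and every object of `I` admits a morphism to some `i α`. Let `F : Iᵒᵖ ⥤ C` be a
functor, and assume that `C` has equalizers and that the products `∏ F (i α)` and `∏ F (i α ⨯ i β)`
exist in `C`. Then the limit of `F` exists, the canonical map `lim F ⟶ ∏ F (i α)` is a monomorphism,
and a map `t : T ⟶ ∏ F (i α)` factors through `lim F` exactly when its composites with the two maps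
`∏ F (i α) ⇉ ∏ F (i α ⨯ i β)` induced by the two projections agree: `lim F` is the equalizer of that
pair. (The published statement assumes that `C` has all limits of the size of `A`; only equalizers
and the two products named are assumed here, which is what the equalizer construction uses.) -/
theorem result
    {I : Type u₁} [Category.{v₁} I] {C : Type u₂} [Category.{v₂} C] {A : Type w} (i : A → I)
    [∀ α β, HasBinaryProduct (i α) (i β)]
    (hcov : ∀ j : I, ∃ α, Nonempty (j ⟶ i α))
    (F : Iᵒᵖ ⥤ C) [HasEqualizers C]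
    [HasProduct (fun α => F.obj (op (i α)))]
    [HasProduct (fun p : A × A => F.obj (op (i p.1 ⨯ i p.2)))] :
    HasLimit F ∧ ∀ [HasLimit F],
      Mono (Pi.lift (fun α => limit.π F (op (i α)))) ∧
      ∀ (T : C) (t : T ⟶ ∏ᶜ (fun α => F.obj (op (i α)))),
        (∃ s : T ⟶ limit F, s ≫ Pi.lift (fun α => limit.π F (op (i α))) = t) ↔
        t ≫ Pi.lift (fun p : A × A =>
            Pi.π (fun α => F.obj (op (i α))) p.1 ≫ F.map (prod.fst : i p.1 ⨯ i p.2 ⟶ i p.1).op) =
        t ≫ Pi.lift (fun p : A × A =>
            Pi.π (fun α => F.obj (op (i α))) p.2 ≫ F.map (prod.snd : i p.1 ⨯ i p.2 ⟶ i p.2).op) := by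
  have hlim : HasLimit F := by
    refine ⟨⟨⟨coneOf i F hcov (equalizer.ι (d0 i F) (d1 i F)) (equalizer.condition _ _), ?_⟩⟩⟩
    exact { lift := fun s => equalizer.lift (Pi.lift (fun α => s.π.app (op (i α)))) (cone_eq i F s)
            fac := fun s j => by
              change equalizer.lift (Pi.lift fun α => s.π.app (op (i α))) (cone_eq i F s) ≫
                  (equalizer.ι (d0 i F) (d1 i F) ≫
                    Pi.π (fun α => F.obj (op (i α))) (hcov j.unop).choose ≫
                    F.map (hcov j.unop).choose_spec.some.op) = s.π.app j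
              rw [equalizer.lift_ι_assoc, Pi.lift_π_assoc, s.w]
            uniq := fun s m hm => by
              apply equalizer.hom_ext
              rw [equalizer.lift_ι]
              apply Pi.hom_ext
              intro α
              rw [Pi.lift_π, Category.assoc,
                ← coneOf_π i F hcov (equalizer.ι (d0 i F) (d1 i F)) (equalizer.condition _ _) α]
              exact hm (op (i α)) }
  refine ⟨hlim, ?_⟩
  intro _
  constructor
  · constructor
    intro T x y hxy
    apply limit.hom_ext
    intro j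
    obtain ⟨α, ⟨a⟩⟩ := hcov j.unop
    have h1 : ∀ z : T ⟶ limit F, z ≫ limit.π F j =
        (z ≫ Pi.lift (fun α => limit.π F (op (i α)))) ≫
          Pi.π (fun α => F.obj (op (i α))) α ≫ F.map a.op := by
      intro z
      rw [Category.assoc, Pi.lift_π_assoc, limit.w]
    rw [h1 x, h1 y, hxy]
  · intro T t
    constructor
    · rintro ⟨s, rfl⟩
      rw [Category.assoc, Category.assoc]
      congr 1
      exact cone_eq i F (limit.cone F)
    · intro ht
      refine ⟨limit.lift F (coneOf i F hcov t ht), ?_⟩
      apply Pi.hom_ext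
      intro α
      rw [Category.assoc, Pi.lift_π]
      exact (limit.lift_π (coneOf i F hcov t ht) (op (i α))).trans (coneOf_π i F hcov t ht α)

end Groth.Agent.S6120
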