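import Groth.Statements.S6121
import Mathlib

set_option autoImplicit false
open CategoryTheory
universe v₁ v₂ u₁ u₂
open SGA4

namespace Groth.Agent.S6121

/-- For a fibered functor `p : E ⥤ B` (every morphism of `B` has a cartesian lift with prescribed
codomain, and cartesian morphisms compose), `p` reflects isomorphisms if and only if every fibre
category of `p` (objects over `b`, morphisms lying over the identity of `b`) is a groupoid. -/
theorem result
    {B : Type u₁} [Category.{v₁} B] {E : Type u₂} [Category.{v₂} E] (p : E ⥤ B) [p.IsFibered] :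
    p.ReflectsIsomorphisms ↔ ∀ b : B, IsGroupoid (p.Fiber b) := by
  constructor
  · intro hp b
    constructor
    intro x y φ
    have h1 : IsIso (p.map (Functor.Fiber.fiberInclusion.map φ)) := by
      rw [IsHomLift.fac' p (𝟙 b) (Functor.Fiber.fiberInclusion.map φ)]
      infer_instance
    have h2 : IsIso (Functor.Fiber.fiberInclusion.map φ) :=
      isIso_of_reflects_iso (Functor.Fiber.fiberInclusion.map φ) p
    have h3 : p.IsHomLift (𝟙 b) (@inv _ _ _ _ (Functor.Fiber.fiberInclusion.map φ) h2) := inferInstance
    refine ⟨⟨Functor.Fiber.homMk p b (@inv _ _ _ _ (Functor.Fiber.fiberInclusion.map φ) h2), ?_, ?_⟩⟩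
    · apply Functor.Fiber.hom_ext
      rw [CategoryTheory.Functor.map_comp, CategoryTheory.Functor.map_id]
      exact IsIso.hom_inv_id (Functor.Fiber.fiberInclusion.map φ)
    · apply Functor.Fiber.hom_ext
      rw [CategoryTheory.Functor.map_comp, CategoryTheory.Functor.map_id]
      exact IsIso.inv_hom_id (Functor.Fiber.fiberInclusion.map φ)
  · intro hg
    constructor
    intro x y φ hφ
    obtain ⟨z, c, hc⟩ := IsPreFibered.exists_isCartesian p (rfl : p.obj y = p.obj y) (p.map φ)
    have hsc : p.IsStronglyCartesian (p.map φ) c := inferInstance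
    have hci : IsIso c := Functor.IsStronglyCartesian.isIso_of_base_isIso p (p.map φ) c
    have i1 : p.IsHomLift (𝟙 (p.obj x)) (Functor.IsCartesian.map p (p.map φ) c φ) := inferInstance
    have hgi : IsIso (Functor.Fiber.homMk p (p.obj x) (Functor.IsCartesian.map p (p.map φ) c φ)) :=
      (hg (p.obj x)).all_isIso _
    have hmi : IsIso (Functor.IsCartesian.map p (p.map φ) c φ) := by
      have := Functor.map_isIso Functor.Fiber.fiberInclusion
        (Functor.Fiber.homMk p (p.obj x) (Functor.IsCartesian.map p (p.map φ) c φ))
      exact this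
    rw [← Functor.IsCartesian.fac p (p.map φ) c φ]
    infer_instance

end Groth.Agent.S6121
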