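import Groth.Statements.S6122
import Mathlib

set_option autoImplicit false
open CategoryTheory
universe v₁ v₂ u₁ u₂
open SGA4

namespace Groth.Agent.S6122

/-- For a fibered functor `p : E ⥤ B` (every morphism of `B` has a cartesian lift with prescribed
codomain, and cartesian morphisms compose), `p` is faithful if and only if every fibre category of
`p` (objects over `b`, morphisms lying over the identity of `b`) has at most one morphism between
any two objects. -/
theorem result
    {B : Type u₁} [Category.{v₁} B] {E : Type u₂} [Category.{v₂} E] (p : E ⥤ B) [p.IsFibered] :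
    p.Faithful ↔ ∀ (b : B) (x y : p.Fiber b), Subsingleton (x ⟶ y) := by
  constructor
  · intro hp b x y
    constructor
    intro φ ψ
    apply Functor.Fiber.hom_ext
    apply hp.map_injective
    have h1 := IsHomLift.fac' p (𝟙 b) (Functor.Fiber.fiberInclusion.map φ)
    have h2 := IsHomLift.fac' p (𝟙 b) (Functor.Fiber.fiberInclusion.map ψ)
    rw [h1, h2]
  · intro hs
    constructor
    intro x y φ ψ h
    obtain ⟨z, c, hc⟩ := IsPreFibered.exists_isCartesian p (rfl : p.obj y = p.obj y) (p.map φ)
    have hψ : p.IsHomLift (p.map φ) ψ := by
      rw [h]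
      infer_instance
    have hz : p.obj z = p.obj x := IsHomLift.domain_eq p (p.map φ) c
    have i1 : p.IsHomLift (𝟙 (p.obj x)) (Functor.IsCartesian.map p (p.map φ) c φ) := inferInstance
    have i2 : p.IsHomLift (𝟙 (p.obj x)) (Functor.IsCartesian.map p (p.map φ) c ψ) := inferInstance
    have key : (Functor.Fiber.homMk p (p.obj x) (Functor.IsCartesian.map p (p.map φ) c φ))
        = (Functor.Fiber.homMk p (p.obj x) (Functor.IsCartesian.map p (p.map φ) c ψ)) :=
      Subsingleton.elim _ _
    have key' : Functor.IsCartesian.map p (p.map φ) c φ = Functor.IsCartesian.map p (p.map φ) c ψ :=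
      congrArg (fun t => Functor.Fiber.fiberInclusion.map t) key
    rw [← Functor.IsCartesian.fac p (p.map φ) c φ, ← Functor.IsCartesian.fac p (p.map φ) c ψ, key']

end Groth.Agent.S6122
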