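import Groth.Statements.S6123
import Mathlib

set_option autoImplicit false
open CategoryTheory CategoryTheory.Limits Opposite
universe w v₁ v₂ u₁ u₂
open SGA4

namespace Groth.Agent.S6123

/-- For a single functor. Let `E` have pullbacks and let `φ : E ⥤ F` preserve them. If every
monomorphism `u` of `E` with `φ u` invertible is invertible, then `φ` reflects all isomorphisms. -/
theorem result
    {E : Type u₁} [Category.{v₁} E] {F : Type u₂} [Category.{v₂} F] (φ : E ⥤ F)
    [HasPullbacks E] [PreservesLimitsOfShape WalkingCospan φ]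
    (h : ∀ ⦃X Y : E⦄ (u : X ⟶ Y), Mono u → IsIso (φ.map u) → IsIso u) :
    φ.ReflectsIsomorphisms := by
  constructor
  intro X Y f hf
  have HP : IsPullback (pullback.fst f f) (pullback.snd f f) f f := IsPullback.of_hasPullback f f
  have HPφ := HP.map φ
  have h1 : IsIso (φ.map (pullback.fst f f)) := HPφ.isIso_fst_of_isIso
  have hΔ : pullback.lift (𝟙 X) (𝟙 X) rfl ≫ pullback.fst f f = 𝟙 X := pullback.lift_fst _ _ _
  have hmΔ : Mono (pullback.lift (𝟙 X) (𝟙 X) rfl : X ⟶ pullback f f) := by
    have : Mono (pullback.lift (𝟙 X) (𝟙 X) rfl ≫ pullback.fst f f) := by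
      rw [hΔ]
      infer_instance
    exact mono_of_mono _ (pullback.fst f f)
  have h2 : IsIso (φ.map (pullback.lift (𝟙 X) (𝟙 X) rfl : X ⟶ pullback f f)) := by
    have h3 : IsIso (φ.map (pullback.lift (𝟙 X) (𝟙 X) rfl : X ⟶ pullback f f) ≫
        φ.map (pullback.fst f f)) := by
      rw [← φ.map_comp, hΔ, φ.map_id]
      infer_instance
    exact IsIso.of_isIso_comp_right _ (φ.map (pullback.fst f f))
  have h3 : IsIso (pullback.lift (𝟙 X) (𝟙 X) rfl : X ⟶ pullback f f) := h _ hmΔ h2
  have h4 : IsIso (pullback.fst f f) := by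
    have h5 : IsIso ((pullback.lift (𝟙 X) (𝟙 X) rfl : X ⟶ pullback f f) ≫ pullback.fst f f) := by
      rw [hΔ]
      infer_instance
    exact IsIso.of_isIso_comp_left (pullback.lift (𝟙 X) (𝟙 X) rfl : X ⟶ pullback f f) _
  have hm : Mono f := IsKernelPair.mono_of_isIso_fst HP
  exact h f hm hf

end Groth.Agent.S6123
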