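import Groth.Statements.S6124
import Mathlib

set_option autoImplicit false
open CategoryTheory CategoryTheory.Limits Opposite
universe w v₁ v₂ u₁ u₂
open SGA4

namespace Groth.Agent.S6124

/-- Let `E` have pullbacks, let `P` be a detecting family of objects of `E` (a morphism `f` is
invertible as soon as every map out of an object of `P` factors uniquely through `f`), and let `φ i
: E ⥤ E' i` be functors preserving pullbacks. Then the `φ i` jointly reflect isomorphisms if and
only if, for every `X` with `P X` and every subobject `X'` of `X` other than `⊤`, some `φ i` takes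
the inclusion `X' ⟶ X` to a morphism that is not invertible. -/
theorem result
    {E : Type u₁} [Category.{v₁} E] [HasPullbacks E] (P : ObjectProperty E) (hP : P.IsDetecting)
    {κ : Type w} {E' : κ → Type u₂} [∀ k, Category.{v₂} (E' k)] (φ : ∀ k, E ⥤ E' k)
    [∀ k, PreservesLimitsOfShape WalkingCospan (φ k)] :
    (∀ ⦃X Y : E⦄ (f : X ⟶ Y), (∀ k, IsIso ((φ k).map f)) → IsIso f) ↔
      ∀ (X : E), P X → ∀ (X' : Subobject X), X' ≠ ⊤ → ∃ k, ¬ IsIso ((φ k).map X'.arrow) := by
  constructor
  · intro h X _ X' hX'
    by_contra hcon
    push_neg at hcon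
    have : IsIso X'.arrow := h X'.arrow hcon
    exact hX' (Subobject.eq_top_of_isIso_arrow X')
  · intro h
    have hA : ∀ ⦃X Y : E⦄ (u : X ⟶ Y), Mono u → (∀ k, IsIso ((φ k).map u)) → IsIso u := by
      intro X Y u hu hφ
      apply hP
      intro G hG g
      have HP : IsPullback (pullback.fst g u) (pullback.snd g u) g u :=
        IsPullback.of_hasPullback g u
      have hm : Mono (pullback.fst g u) := inferInstance
      have hiso : IsIso (pullback.fst g u) := by
        rw [Subobject.isIso_iff_mk_eq_top]
        by_contra hne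
        obtain ⟨k, hk⟩ := h G hG (Subobject.mk (pullback.fst g u)) hne
        apply hk
        have HPk := HP.map (φ k)
        haveI := hφ k
        have h1 : IsIso ((φ k).map (pullback.fst g u)) := HPk.isIso_fst_of_isIso
        have h2 : (Subobject.mk (pullback.fst g u)).arrow =
            (Subobject.underlyingIso (pullback.fst g u)).hom ≫ pullback.fst g u :=
          (Subobject.underlyingIso_hom_comp_eq_mk _).symm
        rw [h2, Functor.map_comp]
        infer_instance
      refine ⟨inv (pullback.fst g u) ≫ pullback.snd g u, ?_, ?_⟩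
      · show (inv (pullback.fst g u) ≫ pullback.snd g u) ≫ u = g
        rw [Category.assoc, ← HP.w, IsIso.inv_hom_id_assoc]
      · intro y hy
        rw [← cancel_mono u, hy, Category.assoc, ← HP.w, IsIso.inv_hom_id_assoc]
    intro X Y f hf
    have HP : IsPullback (pullback.fst f f) (pullback.snd f f) f f := IsPullback.of_hasPullback f f
    have h1 : ∀ k, IsIso ((φ k).map (pullback.fst f f)) := fun k => by
      haveI := hf k
      exact (HP.map (φ k)).isIso_fst_of_isIso
    have hΔ : pullback.lift (𝟙 X) (𝟙 X) rfl ≫ pullback.fst f f = 𝟙 X := pullback.lift_fst _ _ _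
    have hmΔ : Mono (pullback.lift (𝟙 X) (𝟙 X) rfl : X ⟶ pullback f f) := by
      have : Mono (pullback.lift (𝟙 X) (𝟙 X) rfl ≫ pullback.fst f f) := by
        rw [hΔ]
        infer_instance
      exact mono_of_mono _ (pullback.fst f f)
    have h2 : ∀ k, IsIso ((φ k).map (pullback.lift (𝟙 X) (𝟙 X) rfl : X ⟶ pullback f f)) :=
      fun k => by
        haveI := h1 k
        have h3 : IsIso ((φ k).map (pullback.lift (𝟙 X) (𝟙 X) rfl : X ⟶ pullback f f) ≫
            (φ k).map (pullback.fst f f)) := by
          rw [← (φ k).map_comp, hΔ, (φ k).map_id]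
          infer_instance
        exact IsIso.of_isIso_comp_right _ ((φ k).map (pullback.fst f f))
    have h3 : IsIso (pullback.lift (𝟙 X) (𝟙 X) rfl : X ⟶ pullback f f) := hA _ hmΔ h2
    have h4 : IsIso (pullback.fst f f) := by
      have h5 : IsIso ((pullback.lift (𝟙 X) (𝟙 X) rfl : X ⟶ pullback f f) ≫
          pullback.fst f f) := by
        rw [hΔ]
        infer_instance
      exact IsIso.of_isIso_comp_left (pullback.lift (𝟙 X) (𝟙 X) rfl : X ⟶ pullback f f) _
    have hm : Mono f := IsKernelPair.mono_of_isIso_fst HP
    exact hA f hm hf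

end Groth.Agent.S6124
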