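import Groth.Statements.S6126
import Mathlib

set_option autoImplicit false
open CategoryTheory CategoryTheory.Limits
universe v₁ u₁
open SGA4

namespace Groth.Agent.S6126


section aux
variable {E : Type u₁} [Category.{v₁} E] {ι : Type v₁} (G : ι → E)
  [∀ t, HasBinaryCoproduct (G t) (G t)]

abbrev Pairs (t : ι) : Type v₁ := Σ t' : ι, (G t' ⟶ G t ⨿ G t) × (G t' ⟶ G t ⨿ G t)

def Good (t : ι) (R : Set (Pairs G t)) (p : Σ' Q : E, (G t ⨿ G t ⟶ Q)) : Prop :=
  EffectiveEpi p.2 ∧ R = {x | x.2.1 ≫ p.2 = x.2.2 ≫ p.2}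

open Classical in
noncomputable def data (k : Σ t : ι, Set (Pairs G t)) : Σ' Q : E, (G k.1 ⨿ G k.1 ⟶ Q) :=
  if h : ∃ p : (Σ' Q : E, (G k.1 ⨿ G k.1 ⟶ Q)), Good G k.1 k.2 p then h.choose
  else ⟨G k.1 ⨿ G k.1, 𝟙 _⟩

lemma data_good (k : Σ t : ι, Set (Pairs G t)) (h : ∃ p, Good G k.1 k.2 p) :
    Good G k.1 k.2 (data G k) := by
  unfold data
  rw [dif_pos h]
  exact h.choose_spec

end aux

/-- Let `E` be a category with `v₁`-small hom-sets admitting a separating family of objects `G t`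
indexed by a `v₁`-small type, in which every object admits a monomorphism into an injective object.
Assume that each coproduct `G t ⨿ G t` exists and that every morphism out of `G t ⨿ G t` factors as
an effective epimorphism followed by a monomorphism. Then `E` admits a coseparating family of
injective objects indexed by a `v₁`-small type. (The published statement moreover bounds the size of
this family in terms of the hom-sets `Hom (G t', G t ⨿ G t)`; only existence is stated here. The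
published statement speaks of generating and cogenerating families; its proof uses and produces
joint faithfulness of maps out of, resp. into, the family, which is the sense taken here.) -/
theorem result
    {E : Type u₁} [Category.{v₁} E] {ι : Type v₁} (G : ι → E)
    (hG : (ObjectProperty.ofObj G).IsSeparating)
    [EnoughInjectives E] [∀ t, HasBinaryCoproduct (G t) (G t)]
    (hfac : ∀ (t : ι) (X : E) (f : G t ⨿ G t ⟶ X),
      ∃ (Y : E) (e : G t ⨿ G t ⟶ Y) (m : Y ⟶ X), EffectiveEpi e ∧ Mono m ∧ e ≫ m = f) :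
    ∃ (κ : Type v₁) (H : κ → E),
      (∀ k, Injective (H k)) ∧ (ObjectProperty.ofObj H).IsCoseparating := by
  refine ⟨Σ t : ι, Set (Pairs G t), fun k => Injective.under (data G k).1,
    fun k => inferInstance, ?_⟩
  intro X Y f g hh
  apply hG
  rintro _ ⟨t⟩ a
  by_contra hne
  obtain ⟨Q, e, m, he, hm, hem⟩ := hfac t Y (coprod.desc (a ≫ f) (a ≫ g))
  let R : Set (Pairs G t) := {x | x.2.1 ≫ e = x.2.2 ≫ e}
  let k : Σ t : ι, Set (Pairs G t) := ⟨t, R⟩
  have hgood : Good G t R (data G k) := data_good G k ⟨⟨Q, e⟩, he, rfl⟩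
  have hH : ∀ h : Y ⟶ Injective.under (data G k).1, f ≫ h = g ≫ h :=
    fun h => hh _ (ObjectProperty.ofObj.mk k) h
  generalize data G k = p at hH hgood
  obtain ⟨Q', e'⟩ := p
  obtain ⟨he', hR⟩ := hgood
  dsimp only at he' hR hH
  have hiff : ∀ (t' : ι) (c d : G t' ⟶ G t ⨿ G t), c ≫ e = d ≫ e ↔ c ≫ e' = d ≫ e' := by
    intro t' c d
    have : (⟨t', c, d⟩ : Pairs G t) ∈ R ↔
        (⟨t', c, d⟩ : Pairs G t) ∈ {x : Pairs G t | x.2.1 ≫ e' = x.2.2 ≫ e'} := by rw [← hR]
    exact this
  have h1 : ∀ {Z : E} (g₁ g₂ : Z ⟶ G t ⨿ G t), g₁ ≫ e = g₂ ≫ e → g₁ ≫ e' = g₂ ≫ e' := by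
    intro Z g₁ g₂ h
    apply hG
    rintro _ ⟨t'⟩ c
    rw [← Category.assoc, ← Category.assoc]
    apply (hiff t' _ _).1
    rw [Category.assoc, Category.assoc, h]
  have h2 : ∀ {Z : E} (g₁ g₂ : Z ⟶ G t ⨿ G t), g₁ ≫ e' = g₂ ≫ e' → g₁ ≫ e = g₂ ≫ e := by
    intro Z g₁ g₂ h
    apply hG
    rintro _ ⟨t'⟩ c
    rw [← Category.assoc, ← Category.assoc]
    apply (hiff t' _ _).2
    rw [Category.assoc, Category.assoc, h]
  have hψ' : e ≫ EffectiveEpi.desc e e' h1 = e' := EffectiveEpi.fac e e' h1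
  have hψ : e' ≫ EffectiveEpi.desc e' e h2 = e := EffectiveEpi.fac e' e h2
  have hsplit : EffectiveEpi.desc e e' h1 ≫ EffectiveEpi.desc e' e h2 = 𝟙 Q := by
    rw [← cancel_epi e, ← Category.assoc, hψ', hψ, Category.comp_id]
  have hmψ : Mono (EffectiveEpi.desc e e' h1) := mono_of_mono_fac hsplit
  have hfac' : m ≫ Injective.factorThru (EffectiveEpi.desc e e' h1 ≫ Injective.ι Q') m =
      EffectiveEpi.desc e e' h1 ≫ Injective.ι Q' := Injective.comp_factorThru _ _
  have hfg := hH (Injective.factorThru (EffectiveEpi.desc e e' h1 ≫ Injective.ι Q') m)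
  apply hne
  have hl : a ≫ f = coprod.inl ≫ e ≫ m := by rw [hem, coprod.inl_desc]
  have hr : a ≫ g = coprod.inr ≫ e ≫ m := by rw [hem, coprod.inr_desc]
  have key0 : (coprod.inl ≫ e ≫ m) ≫
      Injective.factorThru (EffectiveEpi.desc e e' h1 ≫ Injective.ι Q') m =
      (coprod.inr ≫ e ≫ m) ≫
      Injective.factorThru (EffectiveEpi.desc e e' h1 ≫ Injective.ι Q') m := by
    rw [← hl, ← hr, Category.assoc, Category.assoc, hfg]
  have key : coprod.inl ≫ e = coprod.inr ≫ e := by
    rw [← cancel_mono (EffectiveEpi.desc e e' h1 ≫ Injective.ι Q'), ← hfac']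
    simpa only [Category.assoc] using key0
  rw [hl, hr, ← Category.assoc, key, Category.assoc]

end Groth.Agent.S6126
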