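import Groth.Statements.S6128
import Mathlib

set_option autoImplicit false
open CategoryTheory
universe u
open SGA4

namespace Groth.Agent.S6128

/-- Let `u : C ⥤ C'` be a functor between small sites. If the right Kan extension along `u` of the
underlying presheaf of every sheaf of sets on `C` is a sheaf on `C'`, then `u` is cocontinuous: for
every object `Y` of `C` and every covering sieve `R` of `u Y`, the sieve of morphisms `g : Z ⟶ Y`
with `u g ∈ R` covers `Y`. -/
theorem result
    {C : Type u} [SmallCategory C] {C' : Type u} [SmallCategory C']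
    (J : GrothendieckTopology C) (J' : GrothendieckTopology C') (u : C ⥤ C')
    (h : ∀ G : Sheaf J (Type u), Presheaf.IsSheaf J' ((u.op.ran).obj G.obj)) :
    u.IsCocontinuous J J' := by
  constructor
  intro Y R hR
  rw [← J.close_eq_top_iff_mem]
  have htop : ∀ T : C, J.IsClosed (⊤ : Sieve T) := fun T Y f _ => trivial
  have hsh : Presieve.IsSheaf J' ((u.op.ran).obj (Functor.closedSieves J).toFunctor) :=
    (isSheaf_iff_isSheaf_of_type _ _).1 (h ⟨(Functor.closedSieves J).toFunctor,
      (isSheaf_iff_isSheaf_of_type _ _).2 (classifier_isSheaf J)⟩)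
  have hY := (Presieve.isSheafFor_iff_yonedaSheafCondition.1 (hsh R hR))
  let T₁ : ((Functor.whiskeringLeft Cᵒᵖ C'ᵒᵖ (Type u)).obj u.op).obj (yoneda.obj (u.obj Y)) ⟶
      (Functor.closedSieves J).toFunctor :=
    { app := fun W => ↾(fun (_ : u.obj W.unop ⟶ u.obj Y) =>
        (⟨⊤, htop _⟩ : {S : Sieve W.unop // J.IsClosed S}))
      naturality := by
        intro W₁ W₂ k
        ext φ
        apply Subtype.ext
        exact (Sieve.pullback_top).symm }
  let T₂ : ((Functor.whiskeringLeft Cᵒᵖ C'ᵒᵖ (Type u)).obj u.op).obj (yoneda.obj (u.obj Y)) ⟶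
      (Functor.closedSieves J).toFunctor :=
    { app := fun W => ↾(fun (φ : u.obj W.unop ⟶ u.obj Y) =>
        (⟨J.close ((R.pullback φ).functorPullback u), J.close_isClosed _⟩ :
          {S : Sieve W.unop // J.IsClosed S}))
      naturality := by
        intro W₁ W₂ k
        ext φ
        apply Subtype.ext
        show J.close ((R.pullback (u.map k.unop ≫ φ)).functorPullback u) =
          (J.close ((R.pullback φ).functorPullback u)).pullback k.unop
        rw [← J.pullback_close]
        congr 1
        ext V g
        simp [Sieve.functorPullback] }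
  have key : T₁ = T₂ := by
    apply ((u.op.ranAdjunction (Type u)).homEquiv _ _).injective
    have h1 : R.functorInclusion ≫ (u.op.ranAdjunction (Type u)).homEquiv _ _ T₁ =
        R.functorInclusion ≫ (u.op.ranAdjunction (Type u)).homEquiv _ _ T₂ := by
      rw [← (u.op.ranAdjunction (Type u)).homEquiv_naturality_left,
        ← (u.op.ranAdjunction (Type u)).homEquiv_naturality_left]
      congr 1
      ext W ⟨φ, hφ⟩
      apply Subtype.ext
      show (⊤ : Sieve W.unop) = J.close ((R.pullback φ).functorPullback u)
      rw [Sieve.pullback_eq_top_of_mem R hφ, Sieve.functorPullback_top, eq_comm,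
        J.close_eq_top_iff_mem]
      exact J.top_mem _
    exact (hY (R.functorInclusion ≫ (u.op.ranAdjunction (Type u)).homEquiv _ _ T₁)).unique rfl
      h1.symm
  have h2 := congrArg (fun T => ((T.app (Opposite.op Y)) (𝟙 (u.obj Y)) :
    {S : Sieve Y // J.IsClosed S}).1) key
  have h3 : (⊤ : Sieve Y) = J.close ((R.pullback (𝟙 (u.obj Y))).functorPullback u) := h2
  rw [Sieve.pullback_id] at h3
  exact h3.symm

end Groth.Agent.S6128
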