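import Groth.Statements.S6129
import Mathlib
import Groth.Agent.Lib.LanSlice_helper8

set_option autoImplicit false
open CategoryTheory CategoryTheory.Limits
universe u
open SGA4

namespace Groth.Agent.S6129

/-- Let `u : C ⥤ C'` be a faithful functor between small categories such that for every object `X` of
`C` the induced functor on over-categories `C/X ⥤ C'/u X` is full and faithful. Then the left Kan
extension functor `u_!` on presheaves of sets is faithful, the unit `H ⟶ u^* u_! H` of the
adjunction `u_! ⊣ u^*` is a monomorphism for every presheaf `H`, and for every morphism of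
presheaves `α : H ⟶ K` the naturality square of the unit at `α` (with sides `α` and `u^* u_! α`) is
cartesian. (The published statement assumes only the condition on the slice functors, and its proof
uses that `u` is faithful; the slice condition alone does not suffice: for a nontrivial group viewed
as a one-object category mapping to the point every slice functor is an equivalence, while `u_!` is
the orbit-set functor on `G`-sets, which is not faithful, and the unit `G ⟶ G/G` is not a
monomorphism. So `u` is taken faithful here.) -/
theorem result
    {C : Type u} [SmallCategory C] {C' : Type u} [SmallCategory C'] (u : C ⥤ C') [u.Faithful]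
    (hu : ∀ X : C, (Over.post (X := X) u).Full ∧ (Over.post (X := X) u).Faithful) :
    (u.op.lan : (Cᵒᵖ ⥤ Type u) ⥤ (C'ᵒᵖ ⥤ Type u)).Faithful ∧
    (∀ H : Cᵒᵖ ⥤ Type u, Mono ((u.op.lanAdjunction (Type u)).unit.app H)) ∧
    ∀ (H K : Cᵒᵖ ⥤ Type u) (α : H ⟶ K),
      IsPullback ((u.op.lanAdjunction (Type u)).unit.app H) α
        (((Functor.whiskeringLeft Cᵒᵖ C'ᵒᵖ (Type u)).obj u.op).map (u.op.lan.map α))
        ((u.op.lanAdjunction (Type u)).unit.app K) := by
  have hfull : ∀ X : C, (Over.post (X := X) u).Full := fun X => (hu X).1
  have hunit : ∀ H : Cᵒᵖ ⥤ Type u, (u.op.lanAdjunction (Type u)).unit.app H =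
      Groth.Agent.Lib.LanSliceH8.eta u H := fun H => by
    rw [Functor.lanAdjunction_unit]
    rfl
  have hmono : ∀ H : Cᵒᵖ ⥤ Type u, Mono ((u.op.lanAdjunction (Type u)).unit.app H) := by
    intro H
    rw [hunit]
    haveI : ∀ W : Cᵒᵖ, Mono ((Groth.Agent.Lib.LanSliceH8.eta u H).app W) := by
      intro W
      rw [mono_iff_injective]
      induction W using Opposite.rec with
      | op Y => exact Groth.Agent.Lib.LanSliceH8.eta_injective u hfull H Y
    exact NatTrans.mono_of_mono_app _
  refine ⟨?_, hmono, ?_⟩
  · haveI := hmono
    exact (u.op.lanAdjunction (Type u)).faithful_L_of_mono_unit_app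
  · intro H K α
    have hnat := ((u.op.lanAdjunction (Type u)).unit.naturality α).symm
    rw [hunit H, hunit K] at hnat ⊢
    apply IsPullback.of_forall_isPullback_app
    intro W
    induction W using Opposite.rec with
    | op Y =>
      rw [Types.isPullback_iff]
      refine ⟨?_, ?_, ?_⟩
      · exact congrArg (fun φ => φ.app (Opposite.op Y)) hnat
      · rintro x₁ y₁ ⟨h1, _⟩
        exact Groth.Agent.Lib.LanSliceH8.eta_injective u hfull H Y h1
      · intro x₂ x₃ hx
        exact Groth.Agent.Lib.LanSliceH8.exists_of_lan_map_eq u hfull H Y α x₂ x₃ hx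

end Groth.Agent.S6129
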