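import Groth.Statements.S6131
import Mathlib
import Groth.Agent.Lib.ShRep_helper8

set_option autoImplicit false
open CategoryTheory CategoryTheory.Limits
universe u
open SGA4

namespace Groth.Agent.S6131

/-- For a small site `(C, J)` and an object `X` of `C`, the sheaf associated to the presheaf represented
by `X` is an initial object of the category of sheaves of sets if and only if the empty sieve covers
`X`. -/
theorem result
    {C : Type u} [SmallCategory C] (J : GrothendieckTopology C) (X : C) :
    Nonempty (IsInitial ((presheafToSheaf J (Type u)).obj (yoneda.obj X))) ↔ (⊥ : Sieve X) ∈ J X := by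
  constructor
  · rintro ⟨hI⟩
    let Ω : Sheaf J (Type u) := ⟨(Functor.closedSieves J).toFunctor,
      (isSheaf_iff_isSheaf_of_type _ _).2 (classifier_isSheaf J)⟩
    have htop : J.IsClosed (⊤ : Sieve X) := fun Y f _ => trivial
    have hsub : Subsingleton (Ω.obj.obj (Opposite.op X)) := ⟨fun a b => by
      apply (Groth.Agent.Lib.ShRepH8.homEquiv J X Ω).symm.injective
      exact hI.hom_ext _ _⟩
    have key : ∀ (a b : {S : Sieve X // J.IsClosed S}), a = b := fun a b => hsub.elim a b
    rw [← J.close_eq_top_iff_mem]
    have := congrArg Subtype.val (key ⟨J.close ⊥, J.close_isClosed ⊥⟩ ⟨⊤, htop⟩)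
    exact this
  · intro hb
    have hU : ∀ F : Sheaf J (Type u), Unique (F.obj.obj (Opposite.op X)) := fun F =>
      Types.isTerminalEquivUnique _ (Sheaf.isTerminalOfBotCover F X hb)
    refine ⟨IsInitial.ofUniqueHom
      (fun F => (Groth.Agent.Lib.ShRepH8.homEquiv J X F).symm (hU F).default) (fun F m => ?_)⟩
    apply (Groth.Agent.Lib.ShRepH8.homEquiv J X F).injective
    exact (hU F).instSubsingleton.elim _ _

end Groth.Agent.S6131
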