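import Groth.Statements.S6133
import Mathlib

set_option autoImplicit false
open CategoryTheory CategoryTheory.Limits
universe v₁ u₁
open SGA4

namespace Groth.Agent.S6133

/-- Let `C` be a separating family of objects of `E` and let `i' : X' ⟶ X`, `i'' : X'' ⟶ X` be regular
monomorphisms (equalizers of pairs). If for every `T` with `C T` a morphism `T ⟶ X` factors through
`i'` exactly when it factors through `i''`, then `i'` and `i''` define the same subobject of `X`: a
regular subobject is determined by the morphisms from objects of `C` that it contains. (The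
published statement is for strict subobjects, of which regular ones are a special case, and for a
generating family in the sense of jointly reflecting isomorphisms, while the published proof uses
joint faithfulness; the row takes `C` separating.) -/
theorem result
    {E : Type u₁} [Category.{v₁} E] {C : ObjectProperty E} (hC : C.IsSeparating)
    {X X' X'' : E} (i' : X' ⟶ X) (i'' : X'' ⟶ X) [IsRegularMono i'] [IsRegularMono i'']
    (h : ∀ (T : E), C T → ∀ (g : T ⟶ X),
      (∃ g' : T ⟶ X', g' ≫ i' = g) ↔ (∃ g'' : T ⟶ X'', g'' ≫ i'' = g)) :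
    Subobject.mk i' = Subobject.mk i'' := by
  obtain ⟨r'⟩ := (inferInstance : IsRegularMono i').regularMono
  obtain ⟨r''⟩ := (inferInstance : IsRegularMono i'').regularMono
  have key : ∀ {A B Z : E} (a : A ⟶ X) (b : B ⟶ X) (l r : X ⟶ Z) (_ : b ≫ l = b ≫ r),
      (∀ T, C T → ∀ g : T ⟶ A, ∃ g' : T ⟶ B, g' ≫ b = g ≫ a) → a ≫ l = a ≫ r := by
    intro A B Z a b l r w hh
    apply hC
    intro T hT g
    obtain ⟨g', hg'⟩ := hh T hT g
    rw [← Category.assoc, ← hg', Category.assoc, w, ← Category.assoc, hg', Category.assoc]
  have h1 : i'' ≫ r'.left = i'' ≫ r'.right :=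
    key i'' i' r'.left r'.right r'.w (fun T hT g => (h T hT (g ≫ i'')).2 ⟨g, rfl⟩)
  have h2 : i' ≫ r''.left = i' ≫ r''.right :=
    key i' i'' r''.left r''.right r''.w (fun T hT g => (h T hT (g ≫ i')).1 ⟨g, rfl⟩)
  apply le_antisymm
  · exact Subobject.mk_le_mk_of_comm (Fork.IsLimit.lift' r''.isLimit i' h2).1
      (Fork.IsLimit.lift' r''.isLimit i' h2).2
  · exact Subobject.mk_le_mk_of_comm (Fork.IsLimit.lift' r'.isLimit i'' h1).1
      (Fork.IsLimit.lift' r'.isLimit i'' h1).2

end Groth.Agent.S6133
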