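import Groth.Statements.S6137
import Mathlib

set_option autoImplicit false
open CategoryTheory CategoryTheory.Limits
universe v u
open SGA4

namespace Groth.Agent.S6137

/-- Let `C` be a category with `v`-small hom-sets admitting all `v`-small limits, and `F : C ⥤ Type v` a
functor. Then `F` is corepresentable if and only if it is pro-representable (viewed as a presheaf on
`Cᵒᵖ` it is an ind-object, i.e. a small filtered colimit of corepresentable functors) and preserves
all `v`-small limits. -/
theorem result
    {C : Type u} [Category.{v} C] [HasLimitsOfSize.{v, v} C] (F : C ⥤ Type v) :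
    F.IsCorepresentable ↔
      IsIndObject (unopUnop C ⋙ F) ∧ PreservesLimitsOfSize.{v, v} F := by
  constructor
  · intro hF
    constructor
    · have e2 : unopUnop C ⋙ coyoneda.obj (Opposite.op F.coreprX) ≅
          yoneda.obj (Opposite.op F.coreprX) :=
        NatIso.ofComponents (fun Y => (opEquiv Y.unop (Opposite.op F.coreprX)).symm.toIso) (by
          intro Y Z f
          ext g
          rfl)
      have e1 : yoneda.obj (Opposite.op F.coreprX) ≅ unopUnop C ⋙ F :=
        e2.symm ≪≫ Functor.isoWhiskerLeft (unopUnop C) F.coreprW
      exact (isIndObject_yoneda (Opposite.op F.coreprX)).map e1.hom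
    · exact preservesLimits_of_natIso F.coreprW
  · rintro ⟨hind, hpres⟩
    obtain ⟨P⟩ := hind.nonempty_presentation
    rw [← Functor.Elements.hasInitial_iff_isCorepresentable]
    haveI : HasProducts.{v} F.Elements := fun J => inferInstance
    haveI : HasWideEqualizers.{v} F.Elements := fun J => inferInstance
    let B : P.I → F.Elements := fun i => ⟨(P.F.obj i).unop, yonedaEquiv (P.ι.app i)⟩
    have hB : ∀ A : F.Elements, ∃ i : P.I, Nonempty (B i ⟶ A) := by
      rintro ⟨X, x⟩
      have hc := isColimitOfPreserves ((evaluation _ _).obj (Opposite.op (Opposite.op X)))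
        P.coconeIsColimit
      obtain ⟨i, y, hy⟩ := Types.jointly_surjective_of_isColimit hc x
      have h1 := map_yonedaEquiv (P.ι.app i) y
      exact ⟨i, ⟨CategoryOfElements.homMk (B i) ⟨X, x⟩ y.unop (h1.trans hy)⟩⟩
    obtain ⟨T, hT⟩ := has_weakly_initial_of_weakly_initial_set_and_hasProducts hB
    exact hasInitial_of_weakly_initial_and_hasWideEqualizers hT

end Groth.Agent.S6137
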