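import Groth.Statements.S6138
import Mathlib

set_option autoImplicit false
open CategoryTheory CategoryTheory.Limits Opposite
universe v u
open SGA4

namespace Groth.Agent.S6138

/-- Let `C` have coequalizers and pullbacks, let `F` be a presheaf of sets on `C` taking coequalizers of
`C` to equalizers, and let `u ∈ F(X)`, viewed as a morphism `h_X ⟶ F`. Then this morphism is a
monomorphism (the map `v ↦ F(v)(u)` is injective on `Hom(Y, X)` for every `Y`) if and only if `u` is
minimal: whenever `u = F(p)(u')` for an effective epimorphism `p : X ⟶ X'` and some `u' ∈ F(X')`,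
`p` is an isomorphism. (Coequalizers are used for one implication and pullbacks for the other; both
are assumed here.) -/
theorem result
    {C : Type u} [Category.{v} C] [HasCoequalizers C] [HasPullbacks C]
    (F : Cᵒᵖ ⥤ Type v) [PreservesLimitsOfShape WalkingParallelPair F]
    {X : C} (u : F.obj (op X)) :
    (∀ (Y : C) (v v' : Y ⟶ X), F.map v.op u = F.map v'.op u → v = v') ↔
      ∀ (X' : C) (p : X ⟶ X') (u' : F.obj (op X')),
        EffectiveEpi p → F.map p.op u' = u → IsIso p := by
  constructor
  · intro hinj X' p u' hp hu
    have hab : pullback.fst p p = pullback.snd p p := by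
      apply hinj
      rw [← hu, ← FunctorToTypes.map_comp_apply, ← FunctorToTypes.map_comp_apply, ← op_comp,
        ← op_comp, pullback.condition]
    have hm : Mono p := ⟨fun {T} x y hxy => by
      have h1 : pullback.lift x y hxy ≫ pullback.fst p p = x := pullback.lift_fst _ _ _
      have h2 : pullback.lift x y hxy ≫ pullback.snd p p = y := pullback.lift_snd _ _ _
      calc x = pullback.lift x y hxy ≫ pullback.fst p p := h1.symm
        _ = pullback.lift x y hxy ≫ pullback.snd p p := by rw [hab]
        _ = y := h2⟩
    exact isIso_of_mono_of_strongEpi p
  · intro hmin Y v v' hvv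
    have w : (coequalizer.π v v').op ≫ v.op = (coequalizer.π v v').op ≫ v'.op := by
      rw [← op_comp, ← op_comp, coequalizer.condition]
    have hl : IsLimit (Fork.ofι (coequalizer.π v v').op w) :=
      Cofork.isColimitOfπEquivIsLimitOp (coequalizer.π v v') (coequalizer.π v v')
        (coequalizer.condition v v') w rfl (coequalizerIsCoequalizer v v')
    have hl2 := isLimitForkMapOfIsLimit F w hl
    obtain ⟨u', hu', -⟩ := Types.unique_of_type_equalizer _ _ hl2 u hvv
    haveI : IsIso (coequalizer.π v v') := hmin _ (coequalizer.π v v') u' inferInstance hu'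
    rw [← cancel_mono (coequalizer.π v v')]
    exact coequalizer.condition v v'

end Groth.Agent.S6138
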