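import Groth.Statements.S6139
import Mathlib

set_option autoImplicit false
open CategoryTheory CategoryTheory.Limits
universe v u
open SGA4

namespace Groth.Agent.S6139

/-- For an object `X` of a category `C`, the empty sieve on `X` is covering for the canonical topology
of `C` (the finest topology for which every representable presheaf is a sheaf) if and only if `X` is
a strict initial object: `X` is initial and every morphism with target `X` is an isomorphism. (The
source phrases the first condition as: for some topology coarser than the canonical one the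
associated sheaf of `h_X` is initial; that sheaf is initial exactly when the empty sieve covers `X`,
and coverage by the empty sieve passes to the finer canonical topology.) -/
theorem result
    {C : Type u} [Category.{v} C] (X : C) :
    (⊥ : Sieve X) ∈ Sheaf.canonicalTopology C X ↔
      (Nonempty (IsInitial X) ∧ ∀ (Y : C) (f : Y ⟶ X), IsIso f) := by
  constructor
  · intro hb
    have key : ∀ (W : C) (S : Sieve W), (∀ (Z : C) (g : Z ⟶ W), ¬ S g) →
        S ∈ Sheaf.canonicalTopology C W → ∀ Z : C, ∃ t : W ⟶ Z, ∀ t' : W ⟶ Z, t' = t := by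
      intro W S hS hmem Z
      have hsh := Sheaf.isSheaf_yoneda_obj Z S hmem
      obtain ⟨t, -, ht⟩ := hsh (fun Y g hg => (hS Y g hg).elim)
        (fun Y₁ Y₂ Z' g₁ g₂ f₁ f₂ h₁ _ _ => (hS _ _ h₁).elim)
      exact ⟨t, fun t' => ht t' (fun Y g hg => (hS Y g hg).elim)⟩
    have hXi : ∀ Z : C, ∃ t : X ⟶ Z, ∀ t' : X ⟶ Z, t' = t := key X ⊥ (fun Z g hg => hg) hb
    choose tX htX using hXi
    have hX : IsInitial X := IsInitial.ofUniqueHom tX (fun Z m => htX Z m)
    refine ⟨⟨hX⟩, fun Y f => ?_⟩
    have hYi := key Y ((⊥ : Sieve X).pullback f) (fun Z g hg => hg)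
      (GrothendieckTopology.pullback_stable _ f hb)
    choose tY htY using hYi
    have hY : IsInitial Y := IsInitial.ofUniqueHom tY (fun Z m => htY Z m)
    exact ⟨hX.to Y, hY.hom_ext _ _, hX.hom_ext _ _⟩
  · rintro ⟨⟨hX⟩, hiso⟩
    apply Sheaf.mem_finestTopology_of_forall_isSheafFor
    rintro P ⟨Z, rfl⟩ Y f
    haveI := hiso Y f
    have hY : IsInitial Y := hX.ofIso (asIso f).symm
    intro x hx
    refine ⟨hY.to Z, fun W g hg => (hg : False).elim, fun t _ => hY.hom_ext _ _⟩

end Groth.Agent.S6139
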