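import Groth.Statements.S6140
import Mathlib
import Groth.Agent.Lib.GrpRel_helper8

set_option autoImplicit false
open CategoryTheory CategoryTheory.Limits
universe u
open SGA4

namespace Groth.Agent.S6140


section aux
open Opposite
variable {C : Type u} [SmallCategory C]

lemma effectiveEpi_of_epi_map {Z' Z : C} (q : Z' ⟶ Z)
    (h : Epi ((Sheaf.canonicalTopology C).yoneda.map q)) : EffectiveEpi q := by
  rw [← Sieve.effectiveEpimorphic_singleton,
    Presieve.EffectiveEpimorphic.iff_forall_isSheafFor_yoneda]
  intro W
  rw [Presieve.isSheafFor_iff_generate]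
  apply Sheaf.isSheaf_yoneda_obj W
  have hls : Sheaf.IsLocallySurjective ((Sheaf.canonicalTopology C).yoneda.map q) :=
    (Sheaf.isLocallySurjective_iff_epi _).2 h
  have h1 := hls.imageSieve_mem (U := Z) (𝟙 Z)
  refine (Sheaf.canonicalTopology C).superset_covering ?_ h1
  rintro T t ⟨t', ht'⟩
  refine ⟨Z', t', q, Presieve.singleton.mk, ?_⟩
  have h2 : t' ≫ q = t ≫ 𝟙 Z := ht'
  rw [h2, Category.comp_id]

lemma imageSieve_eq [HasPullbacks C] {X B : C} (π : X ⟶ B) {U : C} (s : U ⟶ B) :
    Presheaf.imageSieve ((Sheaf.canonicalTopology C).yoneda.map π).hom s =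
      Sieve.generate (Presieve.singleton (pullback.snd π s)) := by
  ext T t
  constructor
  · rintro ⟨t', ht'⟩
    have h1 : t' ≫ π = t ≫ s := ht'
    exact ⟨_, pullback.lift t' t h1, pullback.snd π s, Presieve.singleton.mk,
      pullback.lift_snd _ _ _⟩
  · rintro ⟨_, l, _, ⟨⟩, rfl⟩
    refine ⟨l ≫ pullback.fst π s, ?_⟩
    show (l ≫ pullback.fst π s) ≫ π = (l ≫ pullback.snd π s) ≫ s
    rw [Category.assoc, pullback.condition, Category.assoc]

lemma epi_map_of_uee [HasPullbacks C] {X B : C} (π : X ⟶ B)
    (hue : ∀ (B' : C) (g : B' ⟶ B), EffectiveEpi (pullback.snd π g)) :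
    Epi ((Sheaf.canonicalTopology C).yoneda.map π) := by
  rw [← Sheaf.isLocallySurjective_iff_epi]
  constructor
  intro U s
  apply Sheaf.mem_finestTopology_of_forall_isSheafFor
  rintro P ⟨W, rfl⟩ V g
  rw [Presheaf.pullback_imageSieve]
  have h1 : ((Sheaf.canonicalTopology C).yoneda.obj B).obj.map g.op s = g ≫ s := rfl
  rw [h1, imageSieve_eq, ← Presieve.isSheafFor_iff_generate]
  exact (Presieve.EffectiveEpimorphic.iff_forall_isSheafFor_yoneda _).1
    ((Sieve.effectiveEpimorphic_singleton _).2 (hue V (g ≫ s))) W

end aux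

/-- Let `C` be a small category with pullbacks, `p₁ p₂ : R ⇉ X` an equivalence relation in `C` admitting
a coequalizer cofork `c`, and `ε` the canonical functor to sheaves of sets for the canonical
topology of `C`. Then the equivalence relation is effective and universal (`R` is the kernel pair of
the quotient map, which is a coequalizer all of whose base changes are effective epimorphisms) if
and only if `ε` takes `c` to a coequalizer of `ε p₁, ε p₂`. (For a small category every topology has
a small topologically generating family, so both implications of the published statement apply. The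
published statement asks only that the quotient map have all base changes; this row assumes that `C`
has all pullbacks.) -/
theorem result
    {C : Type u} [SmallCategory C] [HasPullbacks C] {R X : C} (p₁ p₂ : R ⟶ X)
    (hR : SGA4.IsEquivRel p₁ p₂) (c : Cofork p₁ p₂) (hc : IsColimit c) :
    SGA4.IsEffectiveUniversalEquivRel p₁ p₂ ↔
      Nonempty (IsColimit ((yoneda ⋙ presheafToSheaf (Sheaf.canonicalTopology C) (Type u)).mapCocone c)) := by
  have e1 : yoneda ⋙ presheafToSheaf (Sheaf.canonicalTopology C) (Type u) ≅
      (Sheaf.canonicalTopology C).yoneda :=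
    (Functor.isoWhiskerRight
      (GrothendieckTopology.yonedaCompSheafToPresheaf (Sheaf.canonicalTopology C)).symm
        (presheafToSheaf (Sheaf.canonicalTopology C) (Type u))) ≪≫
      Functor.associator _ _ _ ≪≫
      Functor.isoWhiskerLeft (Sheaf.canonicalTopology C).yoneda
        (asIso (sheafificationAdjunction (Sheaf.canonicalTopology C) (Type u)).counit) ≪≫
      Functor.rightUnitor _
  have hpres : PreservesLimitsOfShape WalkingCospan (Sheaf.canonicalTopology C).yoneda := by
    haveI : PreservesLimitsOfShape WalkingCospan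
        ((Sheaf.canonicalTopology C).yoneda ⋙ sheafToPresheaf (Sheaf.canonicalTopology C) (Type u)) :=
      (inferInstance : PreservesLimitsOfShape WalkingCospan (yoneda : C ⥤ Cᵒᵖ ⥤ Type u))
    exact preservesLimitsOfShape_of_reflects_of_preserves (Sheaf.canonicalTopology C).yoneda
      (sheafToPresheaf (Sheaf.canonicalTopology C) (Type u))
  constructor
  · rintro ⟨B', π', hpb, hpo, hue⟩
    have hepi : Epi ((Sheaf.canonicalTopology C).yoneda.map π') := epi_map_of_uee π' hue
    have hK : IsKernelPair ((Sheaf.canonicalTopology C).yoneda.map π')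
        ((Sheaf.canonicalTopology C).yoneda.map p₁) ((Sheaf.canonicalTopology C).yoneda.map p₂) :=
      hpb.map (Sheaf.canonicalTopology C).yoneda
    haveI := IsRegularEpiCategory.regularEpiOfEpi ((Sheaf.canonicalTopology C).yoneda.map π')
    have hcol : IsColimit (Cofork.ofπ ((Sheaf.canonicalTopology C).yoneda.map π') hK.w) :=
      hK.toCoequalizer'
    have hc' : IsColimit (Cofork.ofπ π' hpo.w) :=
      Cofork.IsColimit.mk' _ (fun s => ⟨hpo.desc s.π s.π s.condition, hpo.inl_desc _ _ _,
        fun {m} hm => hpo.hom_ext (hm.trans (hpo.inl_desc _ _ _).symm)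
          (hm.trans (hpo.inr_desc _ _ _).symm)⟩)
    have hcol' : IsColimit ((Sheaf.canonicalTopology C).yoneda.mapCocone (Cofork.ofπ π' hpo.w)) :=
      (isColimitMapCoconeCoforkEquiv (Sheaf.canonicalTopology C).yoneda hpo.w).symm hcol
    have hiso : c ≅ Cofork.ofπ π' hpo.w := hc.uniqueUpToIso hc'
    have hcol'' : IsColimit ((Sheaf.canonicalTopology C).yoneda.mapCocone c) :=
      IsColimit.ofIsoColimit hcol'
        ((Cocones.functoriality _ (Sheaf.canonicalTopology C).yoneda).mapIso hiso).symm
    exact ⟨IsColimit.mapCoconeEquiv e1.symm hcol''⟩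
  · rintro ⟨hε⟩
    have hY : IsColimit ((Sheaf.canonicalTopology C).yoneda.mapCocone c) :=
      IsColimit.mapCoconeEquiv e1 hε
    -- the equivalence relation structure
    have hjm : JointlyMono₂ p₁ p₂ := ⟨fun T f g h1 h2 => (hR T).1 (Prod.ext h1 h2)⟩
    obtain ⟨r, hr1, hr2⟩ := (hR X).2.refl (𝟙 X)
    obtain ⟨s, hs1, hs2⟩ := (hR R).2.symm ⟨𝟙 R, Category.id_comp _, Category.id_comp _⟩
    obtain ⟨t, ht1, ht2⟩ := (hR (pullback p₂ p₁)).2.trans
      (⟨pullback.fst p₂ p₁, rfl, rfl⟩ : ∃ f : pullback p₂ p₁ ⟶ R,
        f ≫ p₁ = pullback.fst p₂ p₁ ≫ p₁ ∧ f ≫ p₂ = pullback.fst p₂ p₁ ≫ p₂)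
      (⟨pullback.snd p₂ p₁, pullback.condition.symm, rfl⟩ : ∃ f : pullback p₂ p₁ ⟶ R,
        f ≫ p₁ = pullback.fst p₂ p₁ ≫ p₂ ∧ f ≫ p₂ = pullback.snd p₂ p₁ ≫ p₂)
    let er : EquivalenceRelation p₁ p₂ :=
      { right_cancellation := hjm.right_cancellation
        r := r
        reflexivity₁ := hr1
        reflexivity₂ := hr2
        s := s
        symmetry₁ := hs1
        symmetry₂ := hs2
        c := pullback.cone p₂ p₁
        isLimit := pullback.isLimit p₂ p₁
        t := t
        transitivity₁ := ht1
        transitivity₂ := ht2 }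
    haveI : JointlyMono₂ ((Sheaf.canonicalTopology C).yoneda.map p₁)
        ((Sheaf.canonicalTopology C).yoneda.map p₂) := ⟨fun T f g h1 h2 => by
      apply ObjectProperty.hom_ext
      ext Z z
      apply hjm.right_cancellation
      · exact congrArg (fun φ => φ.hom.app Z z) h1
      · exact congrArg (fun φ => φ.hom.app Z z) h2⟩
    let er' : EquivalenceRelation ((Sheaf.canonicalTopology C).yoneda.map p₁)
        ((Sheaf.canonicalTopology C).yoneda.map p₂) :=
      { er.toReflexiveRelation.map (Sheaf.canonicalTopology C).yoneda,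
        er.toSymmetricRelation.map (Sheaf.canonicalTopology C).yoneda,
        er.toTransitiveRelation.map (Sheaf.canonicalTopology C).yoneda with }
    -- cofork in standard form
    have hc₀ : IsColimit (Cofork.ofπ c.π c.condition) :=
      IsColimit.ofIsoColimit hc (Cofork.ext (Iso.refl _) (by simp))
    have hY₀ : IsColimit ((Sheaf.canonicalTopology C).yoneda.mapCocone
        (Cofork.ofπ c.π c.condition)) :=
      IsColimit.ofIsoColimit hY
        ((Cocones.functoriality _ (Sheaf.canonicalTopology C).yoneda).mapIso
          (Cofork.ext (Iso.refl _) (by simp) : c ≅ Cofork.ofπ c.π c.condition))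
    have hY' := isColimitMapCoconeCoforkEquiv (Sheaf.canonicalTopology C).yoneda c.condition hY₀
    haveI : HasCoequalizer ((Sheaf.canonicalTopology C).yoneda.map p₁)
        ((Sheaf.canonicalTopology C).yoneda.map p₂) := ⟨⟨⟨_, hY'⟩⟩⟩
    have K := Groth.Agent.Lib.GrpRelH8.isKernelPair_coequalizer (Sheaf.canonicalTopology C) er'
    have hπ : coequalizer.π ((Sheaf.canonicalTopology C).yoneda.map p₁)
        ((Sheaf.canonicalTopology C).yoneda.map p₂) ≫
        ((coequalizerIsCoequalizer _ _).coconePointUniqueUpToIso hY').hom =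
        (Sheaf.canonicalTopology C).yoneda.map c.π :=
      IsColimit.comp_coconePointUniqueUpToIso_hom (coequalizerIsCoequalizer _ _) hY'
        WalkingParallelPair.one
    have K' : IsKernelPair ((Sheaf.canonicalTopology C).yoneda.map c.π)
        ((Sheaf.canonicalTopology C).yoneda.map p₁) ((Sheaf.canonicalTopology C).yoneda.map p₂) := by
      rw [← hπ]
      exact K.comp_of_mono
    have hpb : IsPullback p₁ p₂ c.π c.π :=
      IsPullback.of_map (Sheaf.canonicalTopology C).yoneda c.condition K'
    have hpo : IsPushout p₁ p₂ c.π c.π := by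
      refine ⟨⟨c.condition⟩, ⟨PushoutCocone.IsColimit.mk _ (fun s' =>
        Cofork.IsColimit.desc hc₀ s'.inl ?_) (fun s' => ?_) (fun s' => ?_) (fun s' m h1 h2 => ?_)⟩⟩
      · have hab : s'.inl = s'.inr := by
          have := congrArg (fun φ => r ≫ φ) s'.condition
          simp only [← Category.assoc, hr1, hr2, Category.id_comp] at this
          exact this
        rw [s'.condition, hab]
      · exact Cofork.IsColimit.π_desc' hc₀ _ _
      · have hab : s'.inl = s'.inr := by
          have := congrArg (fun φ => r ≫ φ) s'.condition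
          simp only [← Category.assoc, hr1, hr2, Category.id_comp] at this
          exact this
        exact (Cofork.IsColimit.π_desc' hc₀ _ _).trans hab
      · apply Cofork.IsColimit.hom_ext hc₀
        rw [Cofork.IsColimit.π_desc' hc₀]
        exact h1
    refine ⟨c.pt, c.π, hpb, hpo, fun B' g => ?_⟩
    apply effectiveEpi_of_epi_map
    haveI : Epi ((Sheaf.canonicalTopology C).yoneda.map c.π) := by
      have := epi_of_isColimit_cofork hY'
      exact this
    have H : IsPullback ((Sheaf.canonicalTopology C).yoneda.map (pullback.snd c.π g))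
        ((Sheaf.canonicalTopology C).yoneda.map (pullback.fst c.π g))
        ((Sheaf.canonicalTopology C).yoneda.map g) ((Sheaf.canonicalTopology C).yoneda.map c.π) :=
      ((IsPullback.of_hasPullback c.π g).map (Sheaf.canonicalTopology C).yoneda).flip
    exact Groth.Agent.Lib.SheafEpiH8.epi_baseChange (Sheaf.canonicalTopology C) H

end Groth.Agent.S6140
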