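import Groth.Statements.S6142
import Mathlib

set_option autoImplicit false
open CategoryTheory
universe u
open SGA4

namespace Groth.Agent.S6142

/-- Let `u : C ⥤ C'` be a continuous and cocontinuous functor between small sites whose topologies are
subcanonical. If the left adjoint `u_!` of the restriction functor `u^*` on sheaves of sets is full
and faithful, then `u` is full and faithful. -/
theorem result
    {C : Type u} [SmallCategory C] {C' : Type u} [SmallCategory C']
    (J : GrothendieckTopology C) (K : GrothendieckTopology C') [J.Subcanonical] [K.Subcanonical]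
    (u : C ⥤ C') [u.IsContinuous J K] [u.IsCocontinuous J K]
    (h : (u.sheafPullback (Type u) J K).Full ∧ (u.sheafPullback (Type u) J K).Faithful) :
    u.Full ∧ u.Faithful := by
  obtain ⟨hfull, hfaith⟩ := h
  -- presheaf level
  have e0 : u ⋙ yoneda ≅ yoneda ⋙ (u.op.lan : (Cᵒᵖ ⥤ Type u) ⥤ (C'ᵒᵖ ⥤ Type u)) :=
    (Functor.isoWhiskerLeft u (uliftYonedaIsoYoneda.{u} (C := C'))).symm ≪≫
      Presheaf.compULiftYonedaIsoULiftYonedaCompLan.{u} u ≪≫
      Functor.isoWhiskerRight (uliftYonedaIsoYoneda.{u} (C := C)) u.op.lan
  -- sheafification of representables for subcanonical K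
  have e1 : yoneda ⋙ presheafToSheaf K (Type u) ≅ K.yoneda :=
    (Functor.isoWhiskerRight (GrothendieckTopology.yonedaCompSheafToPresheaf K).symm
        (presheafToSheaf K (Type u))) ≪≫
      Functor.associator _ _ _ ≪≫
      Functor.isoWhiskerLeft K.yoneda (asIso (sheafificationAdjunction K (Type u)).counit) ≪≫
      Functor.rightUnitor _
  have e2 : J.yoneda ⋙ u.sheafPullback (Type u) J K ≅ u ⋙ K.yoneda :=
    Functor.isoWhiskerLeft J.yoneda
        (Functor.sheafPullbackConstruction.sheafPullbackIso u (Type u) J K) ≪≫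
      (Functor.associator _ _ _).symm ≪≫
      Functor.isoWhiskerRight (GrothendieckTopology.yonedaCompSheafToPresheaf J)
        (u.op.lan ⋙ presheafToSheaf K (Type u)) ≪≫
      (Functor.associator _ _ _).symm ≪≫
      Functor.isoWhiskerRight e0.symm (presheafToSheaf K (Type u)) ≪≫
      Functor.associator _ _ _ ≪≫
      Functor.isoWhiskerLeft u e1
  haveI : (J.yoneda ⋙ u.sheafPullback (Type u) J K).Full := inferInstance
  haveI : (J.yoneda ⋙ u.sheafPullback (Type u) J K).Faithful := inferInstance
  haveI : (u ⋙ K.yoneda).Full := Functor.Full.of_iso e2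
  haveI : (u ⋙ K.yoneda).Faithful := Functor.Faithful.of_iso e2
  exact ⟨Functor.Full.of_comp_faithful u K.yoneda, Functor.Faithful.of_comp u K.yoneda⟩

end Groth.Agent.S6142
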