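import Groth.Statements.S6143
import Mathlib
import Groth.Agent.Lib.ShRep_helper8
import Groth.Agent.S6132
import Groth.Agent.S6139

set_option autoImplicit false
open CategoryTheory CategoryTheory.Limits
universe u
open SGA4

namespace Groth.Agent.S6143


section aux
open Opposite

universe w' v₁ u₁

lemma bijective_of_cover {C : Type u₁} [Category.{v₁} C] (J : GrothendieckTopology C)
    {P : Cᵒᵖ ⥤ Type w'} (hP : Presieve.IsSheaf J P)
    {Z : C} {ι : Type*} (T : ι → C) (t : ∀ j, T j ⟶ Z)
    (hcov : Sieve.ofArrows T t ∈ J Z) (hmono : ∀ j, Mono (t j))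
    (hdisj : ∀ j k, j ≠ k → ∀ (W : C) (u : W ⟶ T j) (v : W ⟶ T k), u ≫ t j = v ≫ t k →
      (⊥ : Sieve W) ∈ J W) :
    Function.Bijective (fun (x : P.obj (op Z)) (j : ι) => P.map (t j).op x) := by
  have hsh : Presieve.IsSheafFor P (Presieve.ofArrows T t) := by
    rw [Presieve.isSheafFor_iff_generate]
    exact hP _ hcov
  rw [Presieve.isSheafFor_arrows_iff] at hsh
  have hcompat : ∀ x : (∀ j, P.obj (op (T j))), Presieve.Arrows.Compatible P t x := by
    intro x j k W gj gk hg
    by_cases hjk : j = k
    · subst hjk
      haveI := hmono j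
      have : gj = gk := (cancel_mono (t j)).1 hg
      rw [this]
    · have hW := hdisj j k hjk W gj gk hg
      have h1 := hP _ hW
      exact h1.isSeparatedFor.ext (fun V f hf => hf.elim)
  constructor
  · intro x x' hxx
    obtain ⟨y, _, hy⟩ := hsh (fun i => P.map (t i).op x) (hcompat _)
    rw [hy x (fun i => rfl), hy x' (fun i => (congrFun hxx i).symm)]
  · intro y
    obtain ⟨x, hx, _⟩ := hsh y (hcompat y)
    exact ⟨x, funext hx⟩

lemma isColimit_of_bijective {C : Type u₁} [Category.{v₁} C] {ι : Type w'}
    {F' : Discrete ι ⥤ C} (c' : Cocone F')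
    (h : ∀ W : C, Function.Bijective (fun (x : c'.pt ⟶ W) (j : ι) => c'.ι.app ⟨j⟩ ≫ x)) :
    Nonempty (IsColimit c') := by
  have hex : ∀ s' : Cocone F', ∃ d : c'.pt ⟶ s'.pt,
      ∀ j : ι, c'.ι.app ⟨j⟩ ≫ d = s'.ι.app ⟨j⟩ := fun s' => by
    obtain ⟨d, hd⟩ := (h s'.pt).2 (fun j => s'.ι.app ⟨j⟩)
    exact ⟨d, fun j => congrFun hd j⟩
  choose d hd using hex
  refine ⟨{ desc := d, fac := fun s' j => by
              cases j with
              | mk j => exact hd s' j
            uniq := fun s' m hm => ?_ }⟩
  apply (h s'.pt).1
  funext j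
  show c'.ι.app ⟨j⟩ ≫ m = c'.ι.app ⟨j⟩ ≫ d s'
  rw [hm ⟨j⟩, hd s' j]

end aux

/-- Let `C` be a small category, `X` an object and `s i : Y i ⟶ X` a family of morphisms all of whose
base changes exist. Then the associated sheaf of `h_X` for the canonical topology, with the maps
induced by the `s i`, is a coproduct of the associated sheaves of the `h_{Y i}` (in sheaves of sets
for the canonical topology) if and only if `X` is a disjoint universal coproduct of the `Y i` in
`C`: the cofan `(X, s)` is a colimit, the injections of a coproduct of the family are monomorphisms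
with pairwise pullbacks initial, and the colimit is stable under base change. (The source asks for
the coproduct decomposition after sheafification for some topology coarser than the canonical one;
this is equivalent to asking it for the canonical topology itself.) -/
theorem result
    {C : Type u} [SmallCategory C] {X : C} {ι : Type u} (Y : ι → C) (s : ∀ i, Y i ⟶ X)
    [∀ (i : ι) (Z : C) (g : Z ⟶ X), HasPullback (s i) g] :
    Nonempty (IsColimit (Cofan.mk
        ((presheafToSheaf (Sheaf.canonicalTopology C) (Type u)).obj (yoneda.obj X))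
        (fun i => (presheafToSheaf (Sheaf.canonicalTopology C) (Type u)).map (yoneda.map (s i))))) ↔
      (Nonempty (IsColimit (Cofan.mk X s)) ∧ CoproductDisjoint Y ∧
        IsUniversalColimit (Cofan.mk X s)) := by
  constructor
  · rintro ⟨hcL⟩
    have hbij := (Groth.Agent.Lib.ShRepH8.cofan_isColimit_iff (Sheaf.canonicalTopology C) Y s).1
      ⟨hcL⟩
    have hΩ := hbij ⟨(Functor.closedSieves (Sheaf.canonicalTopology C)).toFunctor,
      (isSheaf_iff_isSheaf_of_type _ _).2 (classifier_isSheaf (Sheaf.canonicalTopology C))⟩
    have hΩinj : ∀ (A B : Sieve X) (hA : (Sheaf.canonicalTopology C).IsClosed A)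
        (hB : (Sheaf.canonicalTopology C).IsClosed B),
        (∀ i, A.pullback (s i) = B.pullback (s i)) → A = B := by
      intro A B hA hB hAB
      have : (⟨A, hA⟩ : {S : Sieve X // (Sheaf.canonicalTopology C).IsClosed S}) = ⟨B, hB⟩ := by
        apply hΩ.1
        funext i
        exact Subtype.ext (hAB i)
      exact congrArg Subtype.val this
    have hΩsurj : ∀ (A : ∀ i, Sieve (Y i)) (hA : ∀ i, (Sheaf.canonicalTopology C).IsClosed (A i)),
        ∃ R : Sieve X, (Sheaf.canonicalTopology C).IsClosed R ∧
          ∀ i, R.pullback (s i) = A i := by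
      intro A hA
      obtain ⟨R, hR⟩ := hΩ.2
        (fun i => (⟨A i, hA i⟩ : {S : Sieve (Y i) // (Sheaf.canonicalTopology C).IsClosed S}))
      exact ⟨(R : {S : Sieve X // (Sheaf.canonicalTopology C).IsClosed S}).1,
        (R : {S : Sieve X // (Sheaf.canonicalTopology C).IsClosed S}).2,
        fun i => congrArg Subtype.val (congrFun hR i)⟩
    have htop : ∀ T : C, (Sheaf.canonicalTopology C).IsClosed (⊤ : Sieve T) :=
      fun T Y f _ => trivial
    -- monos
    have hmono : ∀ j, Mono (s j) := by
      intro j
      haveI : FinitaryExtensive (Sheaf (Sheaf.canonicalTopology C) (Type u)) := inferInstance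
      haveI : MonoCoprod (Sheaf (Sheaf.canonicalTopology C) (Type u)) :=
        CategoryTheory.instMonoCoprodOfFinitaryExtensive
      haveI : HasColimitsOfShape (Discrete ((Set.range (fun _ : Unit ↦ j))ᶜ : Set ι))
          (Sheaf (Sheaf.canonicalTopology C) (Type u)) := Sheaf.instHasColimitsOfShape
      have h1 : Mono ((presheafToSheaf (Sheaf.canonicalTopology C) (Type u)).map
          (yoneda.map (s j))) :=
        MonoCoprod.mono_inj
          (fun i => (presheafToSheaf (Sheaf.canonicalTopology C) (Type u)).obj (yoneda.obj (Y i)))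
          (Cofan.mk ((presheafToSheaf (Sheaf.canonicalTopology C) (Type u)).obj (yoneda.obj X))
            (fun i => (presheafToSheaf (Sheaf.canonicalTopology C) (Type u)).map
              (yoneda.map (s i)))) hcL j
      have e1 : yoneda ⋙ presheafToSheaf (Sheaf.canonicalTopology C) (Type u) ≅
          (Sheaf.canonicalTopology C).yoneda :=
        (Functor.isoWhiskerRight
          (GrothendieckTopology.yonedaCompSheafToPresheaf (Sheaf.canonicalTopology C)).symm
            (presheafToSheaf (Sheaf.canonicalTopology C) (Type u))) ≪≫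
          Functor.associator _ _ _ ≪≫
          Functor.isoWhiskerLeft (Sheaf.canonicalTopology C).yoneda
            (asIso (sheafificationAdjunction (Sheaf.canonicalTopology C) (Type u)).counit) ≪≫
          Functor.rightUnitor _
      haveI : (yoneda ⋙ presheafToSheaf (Sheaf.canonicalTopology C) (Type u)).Faithful :=
        Functor.Faithful.of_iso e1.symm
      exact (yoneda ⋙ presheafToSheaf (Sheaf.canonicalTopology C) (Type u)).mono_of_mono_map h1
    -- covering
    have hcov : Sieve.ofArrows Y s ∈ Sheaf.canonicalTopology C X := by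
      rw [← (Sheaf.canonicalTopology C).close_eq_top_iff_mem]
      apply hΩinj _ _ ((Sheaf.canonicalTopology C).close_isClosed _) (htop X)
      intro i
      rw [← (Sheaf.canonicalTopology C).pullback_close, Sieve.pullback_top,
        Sieve.pullback_eq_top_of_mem _ (Sieve.ofArrows_mk Y s i),
        (Sheaf.canonicalTopology C).close_eq_top_iff_mem]
      exact (Sheaf.canonicalTopology C).top_mem _
    -- disjointness
    have hdisj : ∀ j k, j ≠ k → (⊥ : Sieve (pullback (s j) (s k))) ∈
        Sheaf.canonicalTopology C (pullback (s j) (s k)) := by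
      intro j k hjk
      classical
      obtain ⟨R, hRc, hR⟩ := hΩsurj
        (fun i => if i = j then ⊤ else (Sheaf.canonicalTopology C).close ⊥)
        (fun i => by
          split_ifs
          · exact htop _
          · exact (Sheaf.canonicalTopology C).close_isClosed _)
      have hRj : R.pullback (s j) = ⊤ := by rw [hR j, if_pos rfl]
      have hRk : R.pullback (s k) = (Sheaf.canonicalTopology C).close ⊥ := by
        rw [hR k, if_neg (Ne.symm hjk)]
      have h1 : R (s j) := (Sieve.mem_iff_pullback_eq_top (s j)).2 hRj
      have h2 : R (pullback.snd (s j) (s k) ≫ s k) := by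
        rw [← pullback.condition]
        exact R.downward_closed h1 _
      have h3 : (R.pullback (s k)) (pullback.snd (s j) (s k)) := h2
      rw [hRk] at h3
      refine (Sheaf.canonicalTopology C).superset_covering ?_ h3
      intro W g hg
      exact hg
    have hdisj' : ∀ j k, j ≠ k → ∀ (W : C) (u : W ⟶ Y j) (v : W ⟶ Y k), u ≫ s j = v ≫ s k →
        (⊥ : Sieve W) ∈ Sheaf.canonicalTopology C W := by
      intro j k hjk W u v huv
      have := (Sheaf.canonicalTopology C).pullback_stable (pullback.lift u v huv) (hdisj j k hjk)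
      exact (Sheaf.canonicalTopology C).superset_covering (fun _ _ h => h) this
    -- colimit in C
    have hA : Nonempty (IsColimit (Cofan.mk X s)) := by
      apply isColimit_of_bijective
      intro W
      exact bijective_of_cover (Sheaf.canonicalTopology C) (Sheaf.isSheaf_yoneda_obj W) Y s hcov
        hmono hdisj'
    refine ⟨hA, ?_, ?_⟩
    · obtain ⟨hcX⟩ := hA
      haveI : ∀ i, Mono ((Cofan.mk X s).inj i) := hmono
      exact CoproductDisjoint.of_cofan hcX (fun {i j} _ => pullback.cone (s i) (s j))
        (fun {i j} _ => pullback.isLimit (s i) (s j))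
        (fun {i j} hij => ((Groth.Agent.S6139.result _).1 (hdisj i j hij)).1.some)
    · intro F' c' α f h hα H
      apply isColimit_of_bijective
      intro W
      have Hj : ∀ j : ι, IsPullback (c'.ι.app ⟨j⟩) (α.app ⟨j⟩) f (s j) := fun j => H ⟨j⟩
      refine bijective_of_cover (Sheaf.canonicalTopology C) (Sheaf.isSheaf_yoneda_obj W)
        (fun j => F'.obj ⟨j⟩) (fun j => c'.ι.app ⟨j⟩) ?_ ?_ ?_
      · refine (Sheaf.canonicalTopology C).superset_covering ?_
          ((Sheaf.canonicalTopology C).pullback_stable f hcov)
        intro V g hg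
        obtain ⟨Y', l, g', ⟨k⟩, hl⟩ := hg
        exact ⟨F'.obj ⟨k⟩, (Hj k).lift g l hl.symm, c'.ι.app ⟨k⟩, Presieve.ofArrows.mk k,
          (Hj k).lift_fst _ _ _⟩
      · intro j
        exact (Hj j).mono_fst_of_mono (hmono j)
      · intro j k hjk W' u v huv
        have hw : (u ≫ α.app ⟨j⟩) ≫ s j = (v ≫ α.app ⟨k⟩) ≫ s k := by
          rw [Category.assoc, ← (Hj j).w, Category.assoc, ← (Hj k).w, ← Category.assoc, huv,
            Category.assoc]
        exact hdisj' j k hjk W' _ _ hw
  · rintro ⟨⟨hcX⟩, hd, hu⟩
    have hmono : ∀ i, Mono (s i) := fun i => hd.mono_inj hcX i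
    have hbase : ∀ (Z : C) (g : Z ⟶ X),
        Nonempty (IsColimit (Cofan.mk Z (fun k => pullback.snd (s k) g))) := by
      intro Z g
      refine hu (Cofan.mk Z (fun k => pullback.snd (s k) g))
        (Discrete.natTrans (fun k => pullback.fst (s k.as) g)) g ?_
        (NatTrans.Equifibered.of_discrete _) ?_
      · ext ⟨k⟩
        simp [pullback.condition]
      · rintro ⟨k⟩
        exact (IsPullback.of_hasPullback (s k) g).flip
    have hdisj : ∀ i j, i ≠ j → (⊥ : Sieve (pullback (s i) (s j))) ∈
        Sheaf.canonicalTopology C (pullback (s i) (s j)) := by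
      intro i j hij
      rw [Groth.Agent.S6139.result]
      have hI : IsInitial (pullback (s i) (s j)) :=
        (hd.nonempty_isInitial_of_ne hcX hij (pullback.cone (s i) (s j))
          (pullback.isLimit _ _)).some
      refine ⟨⟨hI⟩, fun Z f => ?_⟩
      have hZ : Nonempty (IsInitial Z) := by
        obtain ⟨hcZ⟩ := hbase Z (f ≫ pullback.fst (s i) (s j) ≫ s i)
        obtain ⟨σi, hσi⟩ : ∃ σ : Z ⟶ pullback (s i) (f ≫ pullback.fst (s i) (s j) ≫ s i),
            σ ≫ pullback.snd (s i) (f ≫ pullback.fst (s i) (s j) ≫ s i) = 𝟙 Z :=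
          ⟨pullback.lift (f ≫ pullback.fst (s i) (s j)) (𝟙 Z) (by simp), pullback.lift_snd _ _ _⟩
        obtain ⟨σj, hσj⟩ : ∃ σ : Z ⟶ pullback (s j) (f ≫ pullback.fst (s i) (s j) ≫ s i),
            σ ≫ pullback.snd (s j) (f ≫ pullback.fst (s i) (s j) ≫ s i) = 𝟙 Z :=
          ⟨pullback.lift (f ≫ pullback.snd (s i) (s j)) (𝟙 Z) (by simp [pullback.condition]),
            pullback.lift_snd _ _ _⟩
        refine ⟨IsInitial.ofUniqueHom (fun W => f ≫ hI.to W) (fun W m => ?_)⟩
        classical
        have key : ∀ a b : Z ⟶ W, a = b := by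
          intro a b
          have hd' : ∀ k, pullback.snd (s k) (f ≫ pullback.fst (s i) (s j) ≫ s i) ≫
              Cofan.IsColimit.desc hcZ (fun k => pullback.snd (s k)
                (f ≫ pullback.fst (s i) (s j) ≫ s i) ≫ (if k = j then b else a)) =
              pullback.snd (s k) (f ≫ pullback.fst (s i) (s j) ≫ s i) ≫
                (if k = j then b else a) := fun k => Cofan.IsColimit.fac hcZ _ k
          have h1 : Cofan.IsColimit.desc hcZ (fun k => pullback.snd (s k)
                (f ≫ pullback.fst (s i) (s j) ≫ s i) ≫ (if k = j then b else a)) = a := by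
            have := hd' i
            rw [if_neg hij] at this
            have h0 := congrArg (fun m => σi ≫ m) this
            simp only [← Category.assoc, hσi, Category.id_comp] at h0
            exact h0
          have h2 : Cofan.IsColimit.desc hcZ (fun k => pullback.snd (s k)
                (f ≫ pullback.fst (s i) (s j) ≫ s i) ≫ (if k = j then b else a)) = b := by
            have := hd' j
            rw [if_pos rfl] at this
            have h0 := congrArg (fun m => σj ≫ m) this
            simp only [← Category.assoc, hσj, Category.id_comp] at h0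
            exact h0
          rw [← h1, h2]
        exact key _ _
      obtain ⟨hZ⟩ := hZ
      exact ⟨hI.to Z, hZ.hom_ext _ _, hI.hom_ext _ _⟩
    have hcov : Sieve.ofArrows Y s ∈ Sheaf.canonicalTopology C X := by
      apply Sheaf.mem_finestTopology_of_forall_isSheafFor
      rintro P ⟨W, rfl⟩ Z g
      obtain ⟨hcZ⟩ := hbase Z g
      intro x hx
      have hmem : ∀ k, ((Sieve.ofArrows Y s).pullback g) (pullback.snd (s k) g) := by
        intro k
        show (Sieve.ofArrows Y s) (pullback.snd (s k) g ≫ g)
        rw [← pullback.condition]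
        exact Sieve.downward_closed _ (Sieve.ofArrows_mk Y s k) _
      have hd' : ∀ k, pullback.snd (s k) g ≫
          Cofan.IsColimit.desc hcZ (fun k => x (pullback.snd (s k) g) (hmem k)) =
          x (pullback.snd (s k) g) (hmem k) := fun k => Cofan.IsColimit.fac hcZ _ k
      refine ⟨Cofan.IsColimit.desc hcZ (fun k => x (pullback.snd (s k) g) (hmem k)), ?_, ?_⟩
      · intro V t ht
        have ht' := ht
        obtain ⟨Y', l, g', ⟨k⟩, hl⟩ := ht'
        have h1 := hx (𝟙 V) (pullback.lift l t hl) ht (hmem k)
          (by rw [Category.id_comp, pullback.lift_snd])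
        have h2 : 𝟙 V ≫ x t ht = pullback.lift l t hl ≫ x (pullback.snd (s k) g) (hmem k) := h1
        show t ≫ Cofan.IsColimit.desc hcZ (fun k => x (pullback.snd (s k) g) (hmem k)) = x t ht
        rw [Category.id_comp] at h2
        rw [h2, ← hd' k, ← Category.assoc, pullback.lift_snd]
      · intro d' hd''
        apply Cofan.IsColimit.hom_ext hcZ
        intro k
        show pullback.snd (s k) g ≫ d' = pullback.snd (s k) g ≫ _
        rw [hd' k]
        exact hd'' _ (hmem k)
    exact Groth.Agent.S6132.result (Sheaf.canonicalTopology C) Y s hcov hmono hdisj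

end Groth.Agent.S6143
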