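import Groth.Statements.S6144
import Mathlib

set_option autoImplicit false
open CategoryTheory CategoryTheory.Limits
universe w v u
open SGA4

namespace Groth.Agent.S6144


section aux
variable {E : Type u} [Category.{v} E]

lemma isIso_of_fac {P : ObjectProperty E} (hP : P.IsDetecting) {A X : E} (u : A ⟶ X) [Mono u]
    (h : ∀ T, P T → ∀ g : T ⟶ X, ∃ l : T ⟶ A, l ≫ u = g) : IsIso u := by
  apply hP
  intro T hT g
  obtain ⟨l, hl⟩ := h T hT g
  exact ⟨l, hl, fun l' hl' => (cancel_mono u).1 (hl'.trans hl.symm)⟩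

lemma isDetecting_of_mono [HasPullbacks E] {P : ObjectProperty E}
    (h : ∀ {A X : E} (u : A ⟶ X), Mono u →
      (∀ T, P T → ∀ g : T ⟶ X, ∃ l : T ⟶ A, l ≫ u = g) → IsIso u) : P.IsDetecting := by
  intro X Y f hf
  have HP : IsPullback (pullback.fst f f) (pullback.snd f f) f f := IsPullback.of_hasPullback f f
  have hΔ : pullback.lift (𝟙 X) (𝟙 X) rfl ≫ pullback.fst f f = 𝟙 X := pullback.lift_fst _ _ _
  have hmΔ : Mono (pullback.lift (𝟙 X) (𝟙 X) rfl : X ⟶ pullback f f) := by
    have : Mono (pullback.lift (𝟙 X) (𝟙 X) rfl ≫ pullback.fst f f) := by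
      rw [hΔ]
      infer_instance
    exact mono_of_mono _ (pullback.fst f f)
  have h3 : IsIso (pullback.lift (𝟙 X) (𝟙 X) rfl : X ⟶ pullback f f) := by
    apply h _ hmΔ
    intro T hT g
    refine ⟨g ≫ pullback.fst f f, ?_⟩
    obtain ⟨l, hl, huniq⟩ := hf T hT (g ≫ pullback.fst f f ≫ f)
    have e1 : g ≫ pullback.fst f f = l := huniq _ (by
      show (g ≫ pullback.fst f f) ≫ f = g ≫ pullback.fst f f ≫ f
      rw [Category.assoc])
    have e2 : g ≫ pullback.snd f f = l := huniq _ (by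
      show (g ≫ pullback.snd f f) ≫ f = g ≫ pullback.fst f f ≫ f
      rw [Category.assoc, pullback.condition])
    apply pullback.hom_ext
    · rw [Category.assoc, hΔ, Category.comp_id]
    · rw [Category.assoc, pullback.lift_snd, Category.comp_id, e1, e2]
  have h4 : IsIso (pullback.fst f f) := by
    have h5 : IsIso ((pullback.lift (𝟙 X) (𝟙 X) rfl : X ⟶ pullback f f) ≫
        pullback.fst f f) := by
      rw [hΔ]
      infer_instance
    exact IsIso.of_isIso_comp_left (pullback.lift (𝟙 X) (𝟙 X) rfl : X ⟶ pullback f f) _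
  have hm : Mono f := IsKernelPair.mono_of_isIso_fst HP
  exact h f hm (fun T hT g => (hf T hT g).exists)

lemma le_of_fac [HasPullbacks E] {P : ObjectProperty E} (hP : P.IsDetecting) {A A' X : E}
    (u : A ⟶ X) (u' : A' ⟶ X) [Mono u] [Mono u']
    (h : ∀ T, P T → ∀ g : T ⟶ X, (∃ l : T ⟶ A, l ≫ u = g) → ∃ l : T ⟶ A', l ≫ u' = g) :
    ∃ l : A ⟶ A', l ≫ u' = u := by
  haveI : IsIso (pullback.fst u u') := by
    apply isIso_of_fac hP
    intro T hT g
    obtain ⟨l', hl'⟩ := h T hT (g ≫ u) ⟨g, rfl⟩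
    exact ⟨pullback.lift g l' hl'.symm, pullback.lift_fst _ _ _⟩
  exact ⟨inv (pullback.fst u u') ≫ pullback.snd u u', by
    rw [Category.assoc, ← pullback.condition, IsIso.inv_hom_id_assoc]⟩

variable {κ : Type v} (G : κ → E)

abbrev Tk (k : κ) : Type v := Σ k' : κ, (G k' ⟶ G k)

def Dset {k : κ} {A : E} (u : A ⟶ G k) : Set (Tk G k) := {x | ∃ l : G x.1 ⟶ A, l ≫ u = x.2}

abbrev Idx : Type v := Σ k : κ, Set (Tk G k)

def Bad (idx : Idx G) : Prop :=
  ∃ (A : E) (u : A ⟶ G idx.1), Mono u ∧ ¬ IsIso u ∧ idx.2 = Dset G u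

end aux

/-- Let `E` be a category with `v`-small hom-sets and pullbacks, admitting a detecting family of objects
indexed by a `v`-small type (maps out of the family jointly reflect isomorphisms). Then every
detecting family `Y : I → E`, indexed by an arbitrary type, contains a detecting subfamily indexed
by a `v`-small subset of `I`. -/
theorem result
    {E : Type u} [Category.{v} E] [HasPullbacks E] {κ : Type v} (G : κ → E)
    (hG : (ObjectProperty.ofObj G).IsDetecting) {I : Type w} (Y : I → E)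
    (hY : (ObjectProperty.ofObj Y).IsDetecting) :
    ∃ J : Set I, Small.{v} J ∧ (ObjectProperty.ofObj (fun j : J => Y j)).IsDetecting := by
  classical
  have hch : ∀ x : {idx : Idx G // Bad G idx}, ∃ i : I, ∃ (A : E) (u : A ⟶ G x.1.1),
      Mono u ∧ ¬ IsIso u ∧ x.1.2 = Dset G u ∧
        ∃ h : Y i ⟶ G x.1.1, ¬ ∃ l : Y i ⟶ A, l ≫ u = h := by
    rintro ⟨idx, A, u, hu, hni, hD⟩
    by_contra hcon
    push_neg at hcon
    apply hni
    haveI := hu
    apply isIso_of_fac hY
    rintro _ ⟨i⟩ g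
    exact hcon i A u hu hni hD g
  choose f hf using hch
  refine ⟨Set.range f, inferInstance, ?_⟩
  apply isDetecting_of_mono
  intro A X u hu hfacJ
  haveI := hu
  apply isIso_of_fac hG
  rintro _ ⟨k⟩ g
  by_contra hg
  have hmug : Mono (pullback.snd u g) := inferInstance
  have hni : ¬ IsIso (pullback.snd u g) := by
    intro hiso
    apply hg
    exact ⟨inv (pullback.snd u g) ≫ pullback.fst u g, by
      rw [Category.assoc, pullback.condition, IsIso.inv_hom_id_assoc]⟩
  let x : {idx : Idx G // Bad G idx} :=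
    ⟨⟨k, Dset G (pullback.snd u g)⟩, ⟨_, pullback.snd u g, hmug, hni, rfl⟩⟩
  obtain ⟨A', u', hu', hni', hD, h, hnot⟩ := hf x
  haveI := hu'
  obtain ⟨l, hl⟩ := hfacJ _ (ObjectProperty.ofObj.mk
    (⟨f x, Set.mem_range_self x⟩ : Set.range f)) (h ≫ g)
  obtain ⟨l', hl'⟩ := le_of_fac hG (pullback.snd u g) u' (by
    rintro _ ⟨k'⟩ g' hg'
    have h1 : (⟨k', g'⟩ : Tk G k) ∈ Dset G (pullback.snd u g) := hg'
    rw [show Dset G (pullback.snd u g) = Dset G u' from hD] at h1
    exact h1)
  apply hnot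
  exact ⟨pullback.lift l h hl ≫ l', by rw [Category.assoc, hl', pullback.lift_snd]⟩

end Groth.Agent.S6144
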