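import Groth.Statements.S6164
import Mathlib
import Groth.Agent.Lib.CovSieve_helper2
import Groth.Agent.Lib.GrothSS_helper2
import Groth.Agent.S6174

set_option autoImplicit false
universe u
open CategoryTheory
open CohSite

namespace Groth.Agent.S6164

open CategoryTheory.Limits in
/-- Existence form of the spectral sequence of a covering; abelian sheaves on a small site with fibre
products: for a covering family (U_i -> X) and an abelian sheaf M there is a bounded E_2 spectral
sequence of abelian groups with E_2^{p,q} isomorphic to the Cech cohomology group H^p((U_i -> X),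
H^q(M)) of the family with coefficients in the presheaf V |-> H^q(V, M), for p, q >= 0 and zero
otherwise, with abutment data whose filtrations are finite on H^n(X, M) (n >= 0; zero for n < 0).
The E_2 identifications and abutment isomorphisms are asserted to exist only, not pinned to the
canonical maps, so edge maps are not part of this statement. -/
theorem result {C : Type u} [SmallCategory C] [HasPullbacks C]
    (J : GrothendieckTopology C) (M : Sheaf J AddCommGrpCat.{u}) {X : C} {ι : Type u} (Y : ι → Over X)
    (hY : Sieve.ofArrows (fun i => (Y i).left) (fun i => (Y i).hom) ∈ J X) :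
    ∃ (E : E₂CohomologicalSpectralSequence AddCommGrpCat.{u})
      (a : SpSeq.Abutment E (fun n : ℤ =>
        if 0 ≤ n then AddCommGrpCat.of (CohSite.HU M n.toNat X) else AddCommGrpCat.of PUnit.{u + 1})),
      (∀ n, a.IsFinite n) ∧ SpSeq.IsBounded E ∧
      ∀ p q : ℤ, Nonempty ((E.page 2 le_rfl).X (p, q) ≅
        (if 0 ≤ p ∧ 0 ≤ q then CohCx.cechH (M.cohomologyPresheaf q.toNat) Y p.toNat
         else AddCommGrpCat.of PUnit.{u + 1})) := by
  have hT : ∀ Q : Sheaf J AddCommGrpCat.{u}, Injective Q → ∀ q : ℕ, 0 < q →
      Limits.IsZero (((ExtDer.hom (Groth.Agent.Lib.PshDer.Gb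
        (Sieve.ofArrows (fun i => (Y i).left) (fun i => (Y i).hom)).functor)).rightDerived q).obj
        ((Groth.Agent.Lib.PshDer.toBot J).obj Q)) := by
    intro Q hQ q hq
    obtain ⟨q', rfl⟩ : ∃ q', q = q' + 1 := ⟨q - 1, by omega⟩
    haveI := Groth.Agent.Lib.PshDer.injective_toBot J Q
    exact Functor.isZero_rightDerived_obj_injective_succ _ q' _
  apply Groth.Agent.Lib.GrothSS.grothendieck_ss_flex (Groth.Agent.Lib.PshDer.toBot J)
    (ExtDer.hom (Groth.Agent.Lib.PshDer.Gb
      (Sieve.ofArrows (fun i => (Y i).left) (fun i => (Y i).hom)).functor)) hT M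
  · intro n
    rw [if_pos (by omega)]
    simp only [Int.toNat_natCast]
    exact ⟨(ExtDer.rightDerivedIso (Groth.Agent.Lib.PshDer.abutIso J _) n).app M ≪≫
      (ExtDer.natIso (Groth.Agent.Lib.PshDer.Ga J _) n).app M ≪≫
      ((Abelian.extFunctor.{u} n).mapIso
        (Groth.Agent.Lib.CovSieve.GaCovIso J _ hY).symm.op).app M⟩
  · intro n hn
    rw [if_neg (by omega)]
    exact AddCommGrpCat.isZero_of_subsingleton _
  · intro p q
    rw [if_pos ⟨by omega, by omega⟩]
    simp only [Int.toNat_natCast]
    obtain ⟨e⟩ := Groth.Agent.S6174.result (M.cohomologyPresheaf q) Y p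
    exact ⟨((ExtDer.hom (Groth.Agent.Lib.PshDer.Gb _)).rightDerived p).mapIso
        (Groth.Agent.Lib.PshDer.key J M q) ≪≫
      (ExtDer.natIso (Groth.Agent.Lib.PshDer.Gb _) p).app _ ≪≫ e.symm⟩
  · intro p q h
    rw [if_neg (by omega)]
    exact AddCommGrpCat.isZero_of_subsingleton _

end Groth.Agent.S6164
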