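import Groth.Statements.S6167
import Groth.Agent.Lib.FreeFactor4_helper2

set_option autoImplicit false
universe u
open CategoryTheory
open ModSite

namespace Groth.Agent.S6167

/-- Ringed site (C, O), small, with commutative structure sheaf: a morphism from an O-module of finite
presentation (Mathlib's notion: over some family of objects covering every object, a cokernel of a
map of finite free modules) to a flat O-module factors, locally on the site, through a finite free
module: for every object X there is a covering family (Y_i -> X) and for each i a factorisation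
F|Y_i -> (O|Y_i)^n -> H|Y_i of the restricted morphism. -/
theorem result {C : Type u} [SmallCategory C] {J : GrothendieckTopology C}
    (O : Sheaf J CommRingCat.{u}) (F H : ModSite.Mod O) [F.IsFinitePresentation] (hH : ModSite.IsFlat H)
    (φ : F ⟶ H) (X : C) :
    ∃ (ι : Type u) (Y : ι → C) (g : ∀ i, Y i ⟶ X), Sieve.ofArrows Y g ∈ J X ∧
      ∀ i, ∃ (n : ℕ) (a : (ModSite.restr O (Y i)).obj F ⟶ SheafOfModules.free (ULift.{u} (Fin n)))
        (b : SheafOfModules.free (ULift.{u} (Fin n)) ⟶ (ModSite.restr O (Y i)).obj H),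
        a ≫ b = (ModSite.restr O (Y i)).map φ := by
  classical
  have hLT : Groth.Agent.Lib.LocTriv.LocTriv H := Groth.Agent.Lib.LocTriv.locTriv_of_isFlat _ H hH
  obtain ⟨σ, hσ⟩ := SheafOfModules.IsFinitePresentation.exists_quasicoherentData F
  let Good : C → Prop := fun W =>
    ∃ (n : ℕ) (a : (ModSite.restr O W).obj F ⟶ SheafOfModules.free (ULift.{u} (Fin n)))
      (b : SheafOfModules.free (ULift.{u} (Fin n)) ⟶ (ModSite.restr O W).obj H),
      a ≫ b = (ModSite.restr O W).map φ
  have hCL : ∀ i : σ.I, ∃ S ∈ J (σ.X i), ∀ ⦃W : C⦄ (g : W ⟶ σ.X i), S g → Good W := by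
    intro i
    haveI := hσ.isFinite_presentation i
    haveI : Finite (σ.presentation i).generators.I :=
      SheafOfModules.GeneratingSections.IsFiniteType.finite
    haveI : Finite (σ.presentation i).relations.I :=
      SheafOfModules.GeneratingSections.IsFiniteType.finite
    exact Groth.Agent.Lib.FreeFactor.exists_factorisation_of_presentation hLT φ (σ.X i)
      (σ.presentation i)
  choose S hS hGood using hCL
  have hT : Sieve.ofObjects σ.X X ∈ J X := σ.coversTop X
  have hdata : ∀ ⦃Y : C⦄ (g : Y ⟶ X), (Sieve.ofObjects σ.X X).arrows g →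
      ∃ i : σ.I, Nonempty (Y ⟶ σ.X i) := fun Y g hg => hg
  choose idx hh using hdata
  let R : Sieve X := Sieve.bind (Sieve.ofObjects σ.X X).arrows
    (fun Y g hg => (S (idx g hg)).pullback (hh g hg).some)
  have hR : R ∈ J X := J.bind_covering hT (fun Y g hg => J.pullback_stable _ (hS _))
  have hRGood : ∀ ⦃W : C⦄ (w : W ⟶ X), R w → Good W := by
    rintro W w ⟨Y, v, g, hg, hv, rfl⟩
    exact hGood (idx g hg) (v ≫ (hh g hg).some) hv
  refine ⟨Σ W : C, {w : W ⟶ X // R w}, fun i => i.1, fun i => i.2.1, ?_, fun i => ?_⟩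
  · refine J.superset_covering ?_ hR
    intro W w hw
    exact ⟨W, 𝟙 W, w, Presieve.ofArrows.mk (⟨W, w, hw⟩ : Σ W : C, {w : W ⟶ X // R w}),
      Category.id_comp _⟩
  · exact hRGood i.2.1 i.2.2

end Groth.Agent.S6167
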