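import Groth.Statements.S6172
import Mathlib

set_option autoImplicit false
universe u
open CategoryTheory
open SGA4

namespace Groth.Agent.S6172

open CategoryTheory.Limits MonoidalCategory in
/-- Topos E of sheaves of sets on a small site, localised at an object Z: with j_Z : E/Z -> E the
localisation morphism, j_Z^* X = Z x X over Z, and j_{Z*} its right adjoint (taken as an instance
hypothesis, which holds in any topos), j_{Z*} j_Z^* Y is isomorphic to the internal hom Hom(Z, Y)
for every object Y. Existence of an isomorphism only (the source's is canonical). -/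
theorem result {C : Type u} [SmallCategory C] (J : GrothendieckTopology C)
    (Z Y : Sheaf J (Type u)) [(Over.star Z).IsLeftAdjoint] :
    Nonempty (((Over.star Z).rightAdjoint).obj ((Over.star Z).obj Y) ≅ (ihom Z).obj Y) := by
  have adj1 : Over.star Z ⊣ (Over.star Z).rightAdjoint := Adjunction.ofIsLeftAdjoint (Over.star Z)
  have adj2 : Over.forget Z ⊣ Over.star Z := Over.forgetAdjStar Z
  have adj3 : (Over.star Z ⋙ Over.forget Z) ⊣ (Over.star Z ⋙ (Over.star Z).rightAdjoint) :=
    adj1.comp adj2
  have adj4 : tensorLeft Z ⊣ ihom Z := ihom.adjunction Z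
  have e1 : Over.star Z ⋙ Over.forget Z ≅ Limits.prod.functor.obj Z :=
    NatIso.ofComponents (fun Y => Iso.refl _) (by
      intro X Y f
      simp only [Functor.comp_obj, Functor.comp_map, Over.forget_map, Over.star_map_left,
        Limits.prod.functor_obj_map, Iso.refl_hom]
      exact (Category.comp_id _).trans (Category.id_comp _).symm)
  have e2 : tensorLeft Z ≅ Over.star Z ⋙ Over.forget Z :=
    CartesianMonoidalCategory.tensorLeftIsoProd Z ≪≫ e1.symm
  have adj5 : tensorLeft Z ⊣ (Over.star Z ⋙ (Over.star Z).rightAdjoint) :=
    adj3.ofNatIsoLeft e2.symm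
  exact ⟨(adj5.rightAdjointUniq adj4).app Y⟩

end Groth.Agent.S6172
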