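import Groth.Statements.S6173
import Mathlib

set_option autoImplicit false
universe u
open CategoryTheory
open SGA4

namespace Groth.Agent.S6173

/-- Second assertion (topos of sheaves on a small site (C, J); E/X_i the induced topoi, modelled by the
sites (C/X_i, J/X_i); 'enough points' = a small conservative family of points, equivalently all
fibre functors together are conservative): if (X_i) is a family of objects covering the final object
and every E/X_i has enough points, then E has enough points. (The first assertion, that E/X inherits
enough points from E, is Mathlib's instance.) -/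
theorem result {C : Type u} [SmallCategory C] (J : GrothendieckTopology C) {ι : Type u}
    (X : ι → C) (hX : J.CoversTop X) (h : ∀ i, GrothendieckTopology.HasEnoughPoints.{u} (J.over (X i))) :
    GrothendieckTopology.HasEnoughPoints.{u} J := by
  classical
  choose Pi hPi using fun i => (h i).exists_objectProperty
  haveI : ∀ i, ObjectProperty.Small.{u} (Pi i) := fun i => (hPi i).1
  let Q : ObjectProperty (GrothendieckTopology.Point.{u} J) :=
    ObjectProperty.ofObj (fun ψ : Σ i, (Pi i).FullSubcategory =>
      ψ.2.obj.map (Over.forget (X ψ.1)) J)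
  refine ⟨Q, inferInstance, ⟨⟨?_⟩⟩⟩
  intro K L f hf
  -- restriction to each slice is an isomorphism
  have key : ∀ i, IsIso (((Over.forget (X i)).sheafPushforwardContinuous (Type u)
      (J.over (X i)) J).map f) := by
    intro i
    rw [(hPi i).2.jointlyReflectIsomorphisms_type.isIso_iff]
    intro Ψ
    have hΦ : Q (Ψ.obj.map (Over.forget (X i)) J) :=
      ObjectProperty.ofObj_apply (fun ψ : Σ i, (Pi i).FullSubcategory =>
        ψ.2.obj.map (Over.forget (X ψ.1)) J) ⟨i, Ψ⟩
    have h1 : IsIso ((Ψ.obj.map (Over.forget (X i)) J).sheafFiber.map f) :=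
      hf ⟨_, hΦ⟩
    exact ((MorphismProperty.isomorphisms _).arrow_mk_iso_iff
      (((Functor.mapArrowFunctor _ _).mapIso
        (Ψ.obj.sheafFiberMapIso (Over.forget (X i)) J (Type u))).app (Arrow.mk f))).1 h1
  have bij : ∀ (V : C) (i : ι) (g : V ⟶ X i),
      Function.Bijective (f.hom.app (Opposite.op V)) := by
    intro V i g
    haveI := key i
    have h2 : IsIso ((sheafToPresheaf _ _).map
      (((Over.forget (X i)).sheafPushforwardContinuous (Type u) (J.over (X i)) J).map f)) :=
      inferInstance
    have h3 : IsIso (((sheafToPresheaf _ _).map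
      (((Over.forget (X i)).sheafPushforwardContinuous (Type u) (J.over (X i)) J).map f)).app
        (Opposite.op (Over.mk g))) := inferInstance
    exact (isIso_iff_bijective _).1 h3
  refine (Sheaf.isLocallyBijective_iff_isIso f).1 ⟨?_, ?_⟩
  · refine ⟨fun {W} x y hxy => ?_⟩
    refine J.superset_covering ?_ (hX W.unop)
    rintro V g ⟨i, ⟨a⟩⟩
    apply (bij V i a).1
    have n1 := NatTrans.naturality_apply f.hom g.op x
    have n2 := NatTrans.naturality_apply f.hom g.op y
    exact n1.trans ((congrArg _ hxy).trans n2.symm)
  · refine ⟨fun {W} s => ?_⟩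
    refine J.superset_covering ?_ (hX W)
    rintro V g ⟨i, ⟨a⟩⟩
    obtain ⟨t, ht⟩ := (bij V i a).2 (L.obj.map g.op s)
    exact ⟨t, ht⟩

end Groth.Agent.S6173
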