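import Groth.Statements.S6176
import Mathlib

set_option autoImplicit false
universe u
open CategoryTheory
open SGA4

namespace Groth.Agent.S6176


open CategoryTheory.Limits in
theorem forget_preserves {D : Type*} [Category D] (U : D)
    (hsub : ∀ (T : D) (a b : T ⟶ U), a = b) (I : Type*) [hI : Nonempty I] :
    PreservesLimitsOfShape (Discrete I) (Over.forget U) := by
  constructor
  intro K
  constructor
  intro c hc
  obtain ⟨i₀⟩ := hI
  refine ⟨?_⟩
  let mk : Cone (K ⋙ Over.forget U) → Cone K := fun s =>
    { pt := Over.mk (s.π.app ⟨i₀⟩ ≫ (K.obj ⟨i₀⟩).hom)
      π := { app := fun j => Over.homMk (s.π.app j) (hsub _ _ _)
             naturality := fun j j' f => by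
               apply Over.OverMorphism.ext
               have := s.π.naturality f
               simpa using this } }
  exact { lift := fun s => (hc.lift (mk s)).left
          fac := fun s j => by
            have h := hc.fac (mk s) j
            have := congrArg (fun f => f.left) h
            exact this
          uniq := fun s m hm => by
            let m' : (mk s).pt ⟶ c.pt := Over.homMk m (hsub _ _ _)
            have := hc.uniq (mk s) m' (fun j => by
              apply Over.OverMorphism.ext
              exact hm j)
            rw [← this]
            rfl }

open CategoryTheory.Limits in
/-- The clause on products (topos of sheaves of sets on a small site; j : E/U -> E the open embedding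
defined by an open U, i.e. a subobject of the final object, so that j_! is the forgetful functor
from objects over U): j_! commutes with products indexed by a nonempty u-small set. (Commutation
with fibre products and cofiltered limits, the other clauses, holds for the forgetful functor of any
slice.) -/
theorem result {C : Type u} [SmallCategory C] (J : GrothendieckTopology C)
    (U : Sheaf J (Type u)) (hU : SGA4.IsOpen U) (I : Type u) [Nonempty I] :
    PreservesLimitsOfShape (Discrete I) (Over.forget U) := by
  apply forget_preserves
  intro T a b
  haveI := hU
  rw [← cancel_mono (Limits.terminal.from U)]
  exact Subsingleton.elim _ _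

end Groth.Agent.S6176
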