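import Groth.Statements.S6177
import Mathlib

set_option autoImplicit false
universe u
open CategoryTheory
open SGA4

namespace Groth.Agent.S6177


section aux
open CategoryTheory.Limits

variable {E : Type*} [Category E] [HasBinaryProducts E] [HasPushouts E]

/-- If `X → X_CU` is an isomorphism then `U × X → U` is an isomorphism. -/
lemma isIso_fst_of_isIso_inr (U X : E)
    (h : IsIso (pushout.inr (prod.fst : U ⨯ X ⟶ U) (prod.snd : U ⨯ X ⟶ X))) :
    IsIso (prod.fst : U ⨯ X ⟶ U) := by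
  have hr : (prod.fst : U ⨯ X ⟶ U) ≫ (pushout.inl (prod.fst : U ⨯ X ⟶ U) (prod.snd : U ⨯ X ⟶ X) ≫
      inv (pushout.inr (prod.fst : U ⨯ X ⟶ U) (prod.snd : U ⨯ X ⟶ X))) = prod.snd := by
    rw [← Category.assoc, pushout.condition, Category.assoc, IsIso.hom_inv_id, Category.comp_id]
  refine ⟨prod.lift (𝟙 U) (pushout.inl (prod.fst : U ⨯ X ⟶ U) (prod.snd : U ⨯ X ⟶ X) ≫
      inv (pushout.inr (prod.fst : U ⨯ X ⟶ U) (prod.snd : U ⨯ X ⟶ X))), ?_, ?_⟩
  · apply Limits.prod.hom_ext
    · rw [Category.assoc, prod.lift_fst, Category.comp_id, Category.id_comp]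
    · rw [Category.assoc, prod.lift_snd, hr, Category.id_comp]
  · rw [prod.lift_fst]

/-- `U × Y_CU → U` is an isomorphism when `U` is subterminal and `U × -` preserves pushouts. -/
lemma isIso_fst_pushout (U Y : E) (hsub : ∀ (T : E) (a b : T ⟶ U), a = b)
    [PreservesColimitsOfShape WalkingSpan (prod.functor.obj U)] :
    IsIso (prod.fst : U ⨯ pushout (prod.fst : U ⨯ Y ⟶ U) (prod.snd : U ⨯ Y ⟶ Y) ⟶ U) := by
  have HPO : IsPushout (prod.fst : U ⨯ Y ⟶ U) prod.snd
      (pushout.inl (prod.fst : U ⨯ Y ⟶ U) (prod.snd : U ⨯ Y ⟶ Y))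
      (pushout.inr (prod.fst : U ⨯ Y ⟶ U) (prod.snd : U ⨯ Y ⟶ Y)) := IsPushout.of_hasPushout _ _
  have HPO' := HPO.map (prod.functor.obj U)
  have key : (prod.fst : U ⨯ pushout (prod.fst : U ⨯ Y ⟶ U) (prod.snd : U ⨯ Y ⟶ Y) ⟶ U) ≫
      pushout.inl (prod.fst : U ⨯ Y ⟶ U) (prod.snd : U ⨯ Y ⟶ Y) = prod.snd := by
    apply HPO'.hom_ext
    · change prod.map (𝟙 U) (pushout.inl _ _) ≫ (prod.fst ≫ pushout.inl _ _) =
        prod.map (𝟙 U) (pushout.inl _ _) ≫ prod.snd
      rw [prod.map_fst_assoc, prod.map_snd, Category.id_comp,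
        hsub _ (prod.fst : U ⨯ U ⟶ U) prod.snd]
    · change prod.map (𝟙 U) (pushout.inr _ _) ≫ (prod.fst ≫ pushout.inl _ _) =
        prod.map (𝟙 U) (pushout.inr _ _) ≫ prod.snd
      rw [prod.map_fst_assoc, prod.map_snd, Category.id_comp]
      exact pushout.condition
  refine ⟨prod.lift (𝟙 U) (pushout.inl (prod.fst : U ⨯ Y ⟶ U) (prod.snd : U ⨯ Y ⟶ Y)), ?_, ?_⟩
  · apply Limits.prod.hom_ext
    · rw [Category.assoc, prod.lift_fst, Category.comp_id, Category.id_comp]
    · rw [Category.assoc, prod.lift_snd, key, Category.id_comp]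
  · rw [prod.lift_fst]

end aux

open CategoryTheory.Limits in
/-- Topos of sheaves of sets on a small site; U an open, i.e. a subobject of the final object; X_CU the
pushout of U <- U x X -> X along the two projections: (ii) <=> (iii): the canonical map X -> X_CU is
an isomorphism if and only if the projection U x X -> U is an isomorphism (X belongs to the closed
complement of U); and (i) => (iii): if X is isomorphic to Y_CU for some Y then X belongs to the
closed complement of U ((iii) => (i) with Y = X is then immediate from (ii)). -/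
theorem result {C : Type u} [SmallCategory C] (J : GrothendieckTopology C)
    (U : Sheaf J (Type u)) (hU : SGA4.IsOpen U) (X : Sheaf J (Type u)) :
    (SGA4.closedCompl U X ↔ IsIso (pushout.inr (prod.fst : U ⨯ X ⟶ U) (prod.snd : U ⨯ X ⟶ X))) ∧
    ((∃ Y : Sheaf J (Type u), Nonempty (X ≅ pushout (prod.fst : U ⨯ Y ⟶ U) (prod.snd : U ⨯ Y ⟶ Y))) →
      SGA4.closedCompl U X) := by
  have hsub : ∀ (T : Sheaf J (Type u)) (a b : T ⟶ U), a = b := fun T a b => by
    haveI := hU
    rw [← cancel_mono (terminal.from U)]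
    exact Subsingleton.elim _ _
  refine ⟨⟨fun h => ?_, fun h => isIso_fst_of_isIso_inr U X h⟩, ?_⟩
  · haveI : IsIso (prod.fst : U ⨯ X ⟶ U) := h
    infer_instance
  · rintro ⟨Y, ⟨e⟩⟩
    have adj4 : MonoidalCategory.tensorLeft U ⊣ ihom U := ihom.adjunction U
    have e2 : MonoidalCategory.tensorLeft U ≅ prod.functor.obj U :=
      CartesianMonoidalCategory.tensorLeftIsoProd U
    haveI : (prod.functor.obj U).IsLeftAdjoint := (adj4.ofNatIsoLeft e2).isLeftAdjoint
    haveI : PreservesColimitsOfShape WalkingSpan (prod.functor.obj U) := inferInstance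
    have hP := isIso_fst_pushout U Y hsub
    show IsIso (prod.fst : U ⨯ X ⟶ U)
    have h1 : (prod.fst : U ⨯ X ⟶ U) = (prod.mapIso (Iso.refl U) e).hom ≫
        (prod.fst : U ⨯ pushout (prod.fst : U ⨯ Y ⟶ U) (prod.snd : U ⨯ Y ⟶ Y) ⟶ U) := by
      simp
    rw [h1]
    infer_instance

end Groth.Agent.S6177
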