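import Groth.Statements.S6178
import Mathlib
import Groth.Agent.Lib.SieveExt_helper2

set_option autoImplicit false
universe u
open CategoryTheory
open CohSite

namespace Groth.Agent.S6178

/-- An abelian sheaf F on a small site (C, J) is C-acyclic, i.e. H^q(X, F) = 0 for all objects X and q >
0, if and only if H^q(R, H^0(F)) = 0 for every object X, every covering sieve R of X and every q >
0, where H^0(F) is the underlying presheaf of F and H^q(R, -), for a presheaf of sets R, is the q-th
Ext out of the free abelian presheaf on R computed in abelian presheaves (the sheaves for the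
trivial topology). -/
theorem result {C : Type u} [SmallCategory C] (J : GrothendieckTopology C)
    (F : Sheaf J AddCommGrpCat.{u}) :
    (∀ (X : C) (q : ℕ), Subsingleton (CohSite.HU F (q + 1) X)) ↔
      ∀ (X : C) (R : Sieve X), R ∈ J X → ∀ q : ℕ,
        Subsingleton (CohCx.HK (J := (⊥ : GrothendieckTopology C)) ⟨R.functor, Presheaf.isSheaf_bot _⟩
          ⟨F.obj, Presheaf.isSheaf_bot _⟩ (q + 1)) := by
  constructor
  · intro h X R hR q
    exact ⟨fun a b => (Groth.Agent.Lib.SieveExt.sieveExt_of_acyclic q F
      (fun X n ξ => (h X n).elim ξ 0) X R hR a).trans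
      (Groth.Agent.Lib.SieveExt.sieveExt_of_acyclic q F
      (fun X n ξ => (h X n).elim ξ 0) X R hR b).symm⟩
  · intro h X q
    exact ⟨fun a b => (Groth.Agent.Lib.SieveExt.acyclic_of_sieveExt F
      (fun X R hR q ξ => (h X R hR q).elim ξ 0) X q a).trans
      (Groth.Agent.Lib.SieveExt.acyclic_of_sieveExt F
      (fun X R hR q ξ => (h X R hR q).elim ξ 0) X q b).symm⟩

end Groth.Agent.S6178
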