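import Groth.Statements.S6239
import Mathlib

set_option autoImplicit false
universe u
open CategoryTheory CategoryTheory.Limits AlgebraicGeometry
attribute [local instance] HasDerivedCategory.standard
open KSix

namespace Groth.Agent.S6239

/-- Let f : X ⟶ Y be a morphism with X quasi-compact and F a cochain complex of O_X-modules which is
perfect relative to f (pseudo-coherent relative to f in chart form, and locally on X of finite
stalkwise tor amplitude over the local rings of Y). Then F has finite perfect amplitude relative to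
f: one interval [a, b] works at every point of X. -/
theorem result {X Y : Scheme.{u}} [CompactSpace X] (f : X ⟶ Y)
    (F : CochainComplex X.Modules ℤ) (hF : DerSch.IsPerfectRel f F) :
    DerSch.HasFinitePerfAmplitudeRel f F := by
  obtain ⟨hpc, hloc⟩ := hF
  choose V a b hxV hV using hloc
  obtain ⟨t, ht⟩ := CompactSpace.elim_nhds_subcover (fun x => ((V x : X.Opens) : Set X))
    (fun x => (V x).isOpen.mem_nhds (hxV x))
  refine ⟨-(∑ x ∈ t, |a x|), ∑ x ∈ t, |b x|, hpc, ?_⟩
  intro x'
  have hx' : x' ∈ ⋃ x ∈ t, ((V x : X.Opens) : Set X) := by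
    rw [ht]
    trivial
  obtain ⟨x, hxt, hx'V⟩ := Set.mem_iUnion₂.1 hx'
  obtain ⟨E, hE, hfl, hiso⟩ := hV x x' hx'V
  refine ⟨E, ?_, hfl, hiso⟩
  intro i hi
  apply hE
  have h1 : |a x| ≤ ∑ y ∈ t, |a y| :=
    Finset.single_le_sum (f := fun y => |a y|) (fun y _ => abs_nonneg _) hxt
  have h2 : |b x| ≤ ∑ y ∈ t, |b y| :=
    Finset.single_le_sum (f := fun y => |b y|) (fun y _ => abs_nonneg _) hxt
  have h3 := neg_abs_le (a x)
  have h4 := le_abs_self (b x)
  rcases hi with hi | hi
  · left
    linarith
  · right
    linarith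

end Groth.Agent.S6239
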