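import Groth.Statements.S6249
import Groth.Agent.Lib.TorFunSite_helper2

set_option autoImplicit false
universe u
open CategoryTheory CategoryTheory.Limits AlgebraicGeometry
attribute [local instance] HasDerivedCategory.standard
open KSix

namespace Groth.Agent.S6249

/-- Let (C, J, O) be a small site with a sheaf of commutative rings O, Mod(O) the category of O-modules,
E ∈ D⁻(O) given by a cochain complex, and p an integer. Then, the derived tensor product − ⊗^L_O E
being assumed to exist, the functor M ↦ H^p(M ⊗^L E) from Mod(O) to Mod(O) is right exact if and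
only if the functor M ↦ H^{p+1}(M ⊗^L E) is left exact. (The published statement is for a
commutative ringed topos and writes E ⊗^L M; this row is the topos of sheaves on a small site, with
the derived tensor product taken with E as the fixed right-hand factor.) -/
theorem result {C : Type u} [SmallCategory C]
    {J : GrothendieckTopology C} (O : Sheaf J CommRingCat.{u}) (E : CochainComplex (ModSite.Mod O) ℤ)
    (e : ℤ) [(DerivedCategory.Q.obj E).IsLE e] (p : ℤ) [ModSite.HasLTensorCx E] :
    PreservesFiniteColimits (DerivedCategory.singleFunctor (ModSite.Mod O) 0 ⋙ ModSite.LTensorCx E ⋙ DerivedCategory.homologyFunctor (ModSite.Mod O) p) ↔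
      PreservesFiniteLimits (DerivedCategory.singleFunctor (ModSite.Mod O) 0 ⋙ ModSite.LTensorCx E ⋙ DerivedCategory.homologyFunctor (ModSite.Mod O) (p + 1)) := by
  haveI : E.IsLE e := (DerivedCategory.isLE_Q_obj_iff E e).1 inferInstance
  obtain ⟨R, π, b', hb', hfree, hq⟩ := Groth.Agent.Lib.KFlatSite.exists_bounded_resolution O E e
  haveI := hb'
  haveI := hq
  have hflat : ∀ i : ℤ, ModSite.IsFlat (R.X i) :=
    fun i => Groth.Agent.Lib.ResSite.isFlat_of_isFreeSum O (hfree i)
  have hR : ModSite.IsKFlat R := Groth.Agent.Lib.KFlatSite.isKFlat_of_isStrictlyLE R b' hflat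
  exact Groth.Agent.Lib.TorFunSite.right_exact_iff_left_exact_succ O E R π hflat hR p

end Groth.Agent.S6249
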