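import Groth.Statements.S6264
import Mathlib

set_option autoImplicit false
universe u
open CAlg

namespace Groth.Agent.S6264

/-- Let R → S be a ring map with the going-up property and p a prime of R such that exactly one prime q
of S lies over p. Then the localization S_p of S at the image of R - p is a localization of S at q,
i.e. S_p = S_q. -/
theorem result {R S : Type u} [CommRing R] [CommRing S] [Algebra R S] [Algebra.HasGoingUp R S] (p : Ideal R) [p.IsPrime] (q : Ideal S) [q.IsPrime] [q.LiesOver p] (huniq : ∀ q' : Ideal S, q'.IsPrime → q'.under R = p → q' = q) : IsLocalization.AtPrime (Localization (Algebra.algebraMapSubmonoid S p.primeCompl)) q := by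
  set M := Algebra.algebraMapSubmonoid S p.primeCompl with hM
  have hMq : M ≤ q.primeCompl := by
    rintro _ ⟨r, hr, rfl⟩ hmem
    apply hr
    have h1 : r ∈ q.under R := hmem
    rwa [← Ideal.over_def q p] at h1
  refine IsLocalization.of_le (M := M) _ hMq ?_
  intro s hs
  by_contra hnu
  obtain ⟨𝔫, h𝔫max, hs𝔫⟩ := exists_max_ideal_of_mem_nonunits hnu
  set 𝔫' := 𝔫.comap (algebraMap S (Localization M)) with h𝔫'
  haveI h𝔫'prime : 𝔫'.IsPrime := Ideal.comap_isPrime _ _
  have hdisj : ∀ m ∈ M, m ∉ 𝔫' := by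
    intro m hm hmem
    apply h𝔫max.ne_top
    exact Ideal.eq_top_of_isUnit_mem _ hmem (IsLocalization.map_units _ ⟨m, hm⟩)
  have hle : 𝔫'.under R ≤ p := by
    intro r hr
    by_contra hrp
    exact hdisj _ ⟨r, hrp, rfl⟩ hr
  obtain ⟨Q, h𝔫Q, hQprime, hQover⟩ :=
    Ideal.exists_ideal_ge_liesOver_of_le (p := 𝔫'.under R) (q := p) 𝔫' hle
  have hQq : Q = q := huniq Q hQprime (hQover.over.symm)
  exact hs (hQq ▸ h𝔫Q hs𝔫)

end Groth.Agent.S6264
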