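import Groth.Statements.S6268
import Mathlib

set_option autoImplicit false
universe u
open CAlg

namespace Groth.Agent.S6268

/-- Suppose the structure map R → S of an R-algebra S is universally injective as an R-linear map. Then
tensoring with S detects injectivity and surjectivity of R-linear maps (and hence reflects
isomorphisms): for an R-linear g : M → N, if S ⊗ g is injective then so is g, and if S ⊗ g is
surjective then so is g. -/
theorem result {R S : Type u} [CommRing R] [CommRing S] [Algebra R S] (hS : CAlgX.UniversallyInjective R (Algebra.linearMap R S)) {M N : Type u} [AddCommGroup M] [Module R M] [AddCommGroup N] [Module R N] (g : M →ₗ[R] N) : (Function.Injective (g.lTensor S) → Function.Injective g) ∧ (Function.Surjective (g.lTensor S) → Function.Surjective g) := by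
  have key : ∀ (Q : Type u) [AddCommGroup Q] [Module R Q] (x : Q),
      (1 : S) ⊗ₜ[R] x = 0 → x = 0 := by
    intro Q _ _ x hx
    have h1 : (Algebra.linearMap R S).rTensor Q ((1 : R) ⊗ₜ[R] x) = 0 := by
      rw [LinearMap.rTensor_tmul, Algebra.linearMap_apply, map_one]
      exact hx
    have h2 : (1 : R) ⊗ₜ[R] x = 0 := hS Q (by rw [h1, map_zero])
    have h3 := congrArg (TensorProduct.lid R Q) h2
    simpa using h3
  constructor
  · intro hinj
    rw [injective_iff_map_eq_zero]
    intro m hm
    apply key M m
    apply hinj
    rw [LinearMap.lTensor_tmul, hm, TensorProduct.tmul_zero, map_zero]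
  · intro hsurj n
    set π := (LinearMap.range g).mkQ with hπ
    have hπg : π ∘ₗ g = 0 := by
      ext m
      simp [hπ]
    have hzero : ∀ y : TensorProduct R S N, π.lTensor S y = 0 := by
      intro y
      obtain ⟨z, rfl⟩ := hsurj y
      rw [← LinearMap.comp_apply, ← LinearMap.lTensor_comp, hπg, LinearMap.lTensor_zero,
        LinearMap.zero_apply]
    have h1 : (1 : S) ⊗ₜ[R] π n = 0 := by
      have := hzero ((1 : S) ⊗ₜ[R] n)
      rwa [LinearMap.lTensor_tmul] at this
    have h2 := key _ (π n) h1
    have h3 : n ∈ LinearMap.range g := by
      rwa [hπ, Submodule.mkQ_apply, Submodule.Quotient.mk_eq_zero] at h2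
    exact h3

end Groth.Agent.S6268
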