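import Groth.Statements.S6269
import Mathlib

set_option autoImplicit false
universe u
open CAlg

namespace Groth.Agent.S6269

/-- Let 0 → M₁ → M₂ → M₃ → 0 be a universally exact sequence of R-modules (a short exact sequence whose
first map is universally injective) with M₂ flat. Then M₁ and M₃ are flat. -/
theorem result {R : Type u} [CommRing R] {M₁ M₂ M₃ : Type u} [AddCommGroup M₁] [Module R M₁] [AddCommGroup M₂] [Module R M₂] [AddCommGroup M₃] [Module R M₃] (f : M₁ →ₗ[R] M₂) (g : M₂ →ₗ[R] M₃) (hexact : Function.Exact f g) (hg : Function.Surjective g) (hf : CAlgX.UniversallyInjective R f) [Module.Flat R M₂] : Module.Flat R M₁ ∧ Module.Flat R M₃ := by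
  have hgf : g ∘ₗ f = 0 := by
    ext m
    exact (hexact (f m)).mpr ⟨m, rfl⟩
  constructor
  · rw [Module.Flat.iff_lTensor_preserves_injective_linearMap'.{u}]
    intro P' P _ _ _ _ i hi
    have h1 : Function.Injective ((LinearMap.rTensor P f) ∘ₗ (LinearMap.lTensor M₁ i)) := by
      rw [LinearMap.rTensor_comp_lTensor, ← LinearMap.lTensor_comp_rTensor]
      exact (Module.Flat.lTensor_preserves_injective_linearMap i hi).comp (hf P')
    exact Function.Injective.of_comp h1
  · rw [Module.Flat.iff_lTensor_preserves_injective_linearMap'.{u}]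
    intro P' P _ _ _ _ i hi
    rw [injective_iff_map_eq_zero]
    intro x hx
    obtain ⟨y, rfl⟩ := LinearMap.rTensor_surjective P' hg x
    have h1 : LinearMap.rTensor P g (LinearMap.lTensor M₂ i y) = 0 := by
      rw [← LinearMap.comp_apply, LinearMap.rTensor_comp_lTensor, ← LinearMap.lTensor_comp_rTensor,
        LinearMap.comp_apply]
      exact hx
    have hex : Function.Exact (LinearMap.rTensor P f) (LinearMap.rTensor P g) :=
      rTensor_exact P hexact hg
    obtain ⟨z, hz⟩ := (hex _).mp h1
    set π := (LinearMap.range i).mkQ with hπ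
    have hπi : π ∘ₗ i = 0 := by
      ext n
      simp [hπ]
    have h2 : LinearMap.rTensor (P ⧸ LinearMap.range i) f (LinearMap.lTensor M₁ π z) = 0 := by
      rw [← LinearMap.comp_apply, LinearMap.rTensor_comp_lTensor, ← LinearMap.lTensor_comp_rTensor,
        LinearMap.comp_apply, hz, ← LinearMap.comp_apply, ← LinearMap.lTensor_comp, hπi,
        LinearMap.lTensor_zero, LinearMap.zero_apply]
    have h3 : LinearMap.lTensor M₁ π z = 0 := hf (P ⧸ LinearMap.range i) (by rw [h2, map_zero])
    have hex2 : Function.Exact (LinearMap.lTensor M₁ i) (LinearMap.lTensor M₁ π) :=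
      lTensor_exact M₁ (LinearMap.exact_map_mkQ_range i) (Submodule.mkQ_surjective _)
    obtain ⟨w, hw⟩ := (hex2 z).mp h3
    have h4 : LinearMap.lTensor M₂ i (LinearMap.rTensor P' f w) = LinearMap.lTensor M₂ i y := by
      rw [← LinearMap.comp_apply, LinearMap.lTensor_comp_rTensor, ← LinearMap.rTensor_comp_lTensor,
        LinearMap.comp_apply, hw, hz]
    have h5 : LinearMap.rTensor P' f w = y :=
      (Module.Flat.lTensor_preserves_injective_linearMap i hi) h4
    rw [← h5, ← LinearMap.comp_apply, ← LinearMap.rTensor_comp, hgf, LinearMap.rTensor_zero,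
      LinearMap.zero_apply]

end Groth.Agent.S6269
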