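import Groth.Statements.S6271
import Mathlib
import Groth.Agent.Lib.ProjLift_helper9

set_option autoImplicit false
universe u
open scoped TensorProduct
open CAlg

namespace Groth.Agent.S6271

/-- Let R be a ring, I ⊆ R a locally nilpotent ideal (every element of I is nilpotent) and P̄ a finite
projective R/I-module. Then there is a finite projective R-module P such that P/IP (that is, R/I ⊗
P) is isomorphic to P̄ as an R/I-module. -/
theorem result {R : Type u} [CommRing R] (I : Ideal R) (hI : ∀ x ∈ I, IsNilpotent x) (Pb : Type u) [AddCommGroup Pb] [Module (R ⧸ I) Pb] [Module.Projective (R ⧸ I) Pb] [Module.Finite (R ⧸ I) Pb] : ∃ (P : Type u) (_ : AddCommGroup P) (_ : Module R P), Module.Projective R P ∧ Module.Finite R P ∧ Nonempty (((R ⧸ I) ⊗[R] P) ≃ₗ[R ⧸ I] Pb) := by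

  classical
  obtain ⟨n, g, hg⟩ := Module.Finite.exists_fin (R := R ⧸ I) (M := Pb)
  obtain ⟨e, he, ⟨eq⟩⟩ := Groth.Agent.Lib.ProjLift.exists_idem_tensor_equiv I
    (Pi.basisFun R (Fin n))
    (fun p hp => Groth.Agent.Lib.ProjLift.isNilpotent_of_baseChange_eq_zero_of_finite I hI p hp)
    Pb g hg
  exact ⟨LinearMap.range e, inferInstance, inferInstance,
    Groth.Agent.Lib.ProjLift.projective_range e he, inferInstance, ⟨eq⟩⟩

end Groth.Agent.S6271
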