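import Groth.Statements.S6273
import Mathlib

set_option autoImplicit false
universe u
open CAlg

namespace Groth.Agent.S6273

/-- Let R be a ring, S ⊆ R a multiplicative subset and A = S⁻¹R. If the image of Spec(A) → Spec(R) is
closed, then the localization map R → A is surjective; in particular A is isomorphic to R/I for the
ideal I = ker(R → A). -/
theorem result {R : Type u} [CommRing R] (S : Submonoid R) (A : Type u) [CommRing A] [Algebra R A] [IsLocalization S A] (hcl : IsClosed (Set.range (PrimeSpectrum.comap (algebraMap R A)))) : Function.Surjective (algebraMap R A) := by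
  set I := RingHom.ker (algebraMap R A) with hI
  have hrange : Set.range (PrimeSpectrum.comap (algebraMap R A)) = PrimeSpectrum.zeroLocus (I : Set R) := by
    rw [← PrimeSpectrum.closure_range_comap, hcl.closure_eq]
  have hunit : ∀ s ∈ S, ∃ t : R, algebraMap R A (s * t) = 1 := by
    intro s hs
    have hu : IsUnit (Ideal.Quotient.mk I s) := by
      by_contra hnu
      obtain ⟨𝔫, h𝔫max, hs𝔫⟩ := exists_max_ideal_of_mem_nonunits hnu
      set p : PrimeSpectrum R := ⟨𝔫.comap (Ideal.Quotient.mk I), Ideal.comap_isPrime _ _⟩ with hp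
      have hpI : p ∈ PrimeSpectrum.zeroLocus (I : Set R) := by
        intro x hx
        change Ideal.Quotient.mk I x ∈ 𝔫
        rw [Ideal.Quotient.eq_zero_iff_mem.mpr hx]
        exact 𝔫.zero_mem
      rw [← hrange] at hpI
      obtain ⟨q, hq⟩ := hpI
      have hsp : s ∈ p.asIdeal := hs𝔫
      rw [← hq] at hsp
      have hsq : algebraMap R A s ∈ q.asIdeal := hsp
      exact q.2.ne_top (Ideal.eq_top_of_isUnit_mem _ hsq (IsLocalization.map_units A ⟨s, hs⟩))
    obtain ⟨u, hu'⟩ := hu.exists_right_inv
    obtain ⟨t, rfl⟩ := Ideal.Quotient.mk_surjective u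
    refine ⟨t, ?_⟩
    rw [← map_mul, ← map_one (Ideal.Quotient.mk I), Ideal.Quotient.eq] at hu'
    have : algebraMap R A (s * t - 1) = 0 := hu'
    rw [map_sub, map_one, sub_eq_zero] at this
    exact this
  intro z
  obtain ⟨⟨a, s⟩, hz⟩ := IsLocalization.surj S z
  obtain ⟨t, ht⟩ := hunit s s.2
  refine ⟨a * t, ?_⟩
  rw [map_mul, ← hz, mul_assoc, ← map_mul, ht, mul_one]

end Groth.Agent.S6273
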