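import Groth.Statements.S6275
import Mathlib

set_option autoImplicit false
universe u
open CAlg

namespace Groth.Agent.S6275

/-- Let R be a Noetherian ring and p ⊆ R a prime. Then there is f ∈ R, f ∉ p, such that R_f → R_p is
injective; equivalently every x ∈ R mapping to zero in R_p maps to zero in R_f. (The cases of a
domain and of a reduced ring with finitely many minimal primes are not included here.) -/
theorem result {R : Type u} [CommRing R] [IsNoetherianRing R] (p : Ideal R) [p.IsPrime] : ∃ f : R, f ∉ p ∧ ∀ x : R, algebraMap R (Localization.AtPrime p) x = 0 → algebraMap R (Localization.Away f) x = 0 := by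
  classical
  set K : Ideal R := RingHom.ker (algebraMap R (Localization.AtPrime p)) with hK
  obtain ⟨t, ht⟩ := (isNoetherianRing_iff_ideal_fg R).mp inferInstance K
  have hmem : ∀ x ∈ K, ∃ s : R, s ∉ p ∧ s * x = 0 := by
    intro x hx
    rw [hK, RingHom.mem_ker, IsLocalization.map_eq_zero_iff p.primeCompl] at hx
    obtain ⟨s, hs⟩ := hx
    exact ⟨s, s.2, hs⟩
  have hsub : ∀ x ∈ t, x ∈ K := fun x hx => by
    rw [← ht]
    exact Ideal.subset_span hx
  choose! s hs hsx using hmem
  refine ⟨∏ x ∈ t, s x, ?_, ?_⟩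
  · intro hprod
    obtain ⟨x, hxt, hx⟩ := (Ideal.IsPrime.prod_mem_iff).mp hprod
    exact hs x (hsub x hxt) hx
  · intro x hx
    have hxK : x ∈ K := hx
    rw [IsLocalization.map_eq_zero_iff (Submonoid.powers (∏ x ∈ t, s x))]
    refine ⟨⟨_, Submonoid.mem_powers _⟩, ?_⟩
    change (∏ y ∈ t, s y) * x = 0
    rw [← ht] at hxK
    refine Submodule.span_induction ?_ ?_ ?_ ?_ hxK
    · intro y hy
      rw [← Finset.mul_prod_erase t s hy, mul_comm (s y), mul_assoc, hsx y (hsub y hy), mul_zero]
    · rw [mul_zero]
    · intro a b _ _ ha hb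
      rw [mul_add, ha, hb, add_zero]
    · intro a b _ hb
      rw [smul_eq_mul, mul_left_comm, hb, mul_zero]

end Groth.Agent.S6275
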