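import Groth.Statements.S6276
import Mathlib

set_option autoImplicit false
universe u
open scoped TensorProduct
open CAlg

namespace Groth.Agent.S6276

/-- Let k be a field, R a Noetherian k-algebra and K/k a finitely generated field extension. Then K ⊗ₖ R
is a Noetherian ring. -/
theorem result (k : Type u) [Field k] (R : Type u) [CommRing R] [Algebra k R] [IsNoetherianRing R] (K : Type u) [Field K] [Algebra k K] (hK : ∃ s : Finset K, IntermediateField.adjoin k (s : Set K) = ⊤) : IsNoetherianRing (K ⊗[k] R) := by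
  obtain ⟨s, hs⟩ := hK
  let B : Subalgebra k K := Algebra.adjoin k (s : Set K)
  haveI : Algebra.FiniteType k B := (Subalgebra.fg_iff_finiteType B).mp (Subalgebra.fg_adjoin_finset s)
  haveI : IsFractionRing B K := by
    apply IsFractionRing.of_field
    intro z
    have hz : z ∈ IntermediateField.adjoin k (s : Set K) := by rw [hs]; trivial
    obtain ⟨x, hx, y, hy, e⟩ := IntermediateField.mem_adjoin_iff_div.mp hz
    exact ⟨⟨x, hx⟩, ⟨y, hy⟩, e⟩
  -- R ⊗ B is Noetherian
  haveI : Algebra.FiniteType R (R ⊗[k] B) := inferInstance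
  haveI h1 : IsNoetherianRing (R ⊗[k] B) := Algebra.FiniteType.isNoetherianRing R (R ⊗[k] B)
  haveI h2 : IsNoetherianRing (B ⊗[k] R) :=
    isNoetherianRing_of_ringEquiv (R ⊗[k] B) (Algebra.TensorProduct.comm k R B).toRingEquiv
  letI : Algebra (B ⊗[k] R) (K ⊗[B] (B ⊗[k] R)) := Algebra.TensorProduct.rightAlgebra
  haveI : IsLocalization (Algebra.algebraMapSubmonoid (B ⊗[k] R) (nonZeroDivisors B)) (K ⊗[B] (B ⊗[k] R)) :=
    IsLocalization.tensorRight K (nonZeroDivisors B)
  haveI h3 : IsNoetherianRing (K ⊗[B] (B ⊗[k] R)) :=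
    IsLocalization.isNoetherianRing (Algebra.algebraMapSubmonoid (B ⊗[k] R) (nonZeroDivisors B))
      (K ⊗[B] (B ⊗[k] R)) h2
  exact isNoetherianRing_of_ringEquiv (K ⊗[B] (B ⊗[k] R))
    (Algebra.TensorProduct.cancelBaseChange k B B K R).toRingEquiv

end Groth.Agent.S6276
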