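import Groth.Statements.S6278
import Mathlib

set_option autoImplicit false
universe u
open CAlg

namespace Groth.Agent.S6278

/-- A normal ring R (all localizations at primes are integrally closed domains) is integrally closed in
its total ring of fractions. -/
theorem result (R : Type u) [CommRing R] (hR : EGA4.IsNormalRing R) : IsIntegrallyClosedIn R (FractionRing R) := by
  rw [isIntegrallyClosedIn_iff]
  refine ⟨IsLocalization.injective (FractionRing R) (le_refl (nonZeroDivisors R)), ?_⟩
  intro x hx
  obtain ⟨a, s, rfl⟩ := IsLocalization.exists_mk'_eq (nonZeroDivisors R) x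
  let I : Ideal R :=
    { carrier := {r | ∃ b, r * a = s * b}
      add_mem' := by
        rintro r1 r2 ⟨b1, h1⟩ ⟨b2, h2⟩
        exact ⟨b1 + b2, by rw [add_mul, h1, h2, mul_add]⟩
      zero_mem' := ⟨0, by simp⟩
      smul_mem' := by
        rintro c r ⟨b, h⟩
        exact ⟨c * b, by rw [smul_eq_mul, mul_assoc, h]; ring⟩ }
  have hI : I = ⊤ := by
    by_contra hne
    obtain ⟨p, hpmax, hIp⟩ := Ideal.exists_le_maximal I hne
    haveI hpp : p.IsPrime := hpmax.isPrime
    obtain ⟨hdom, hic⟩ := hR p
    have hnzd : ∀ y : nonZeroDivisors R,
        algebraMap R (Localization.AtPrime p) y ∈ nonZeroDivisors (Localization.AtPrime p) :=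
      fun y => IsLocalization.map_nonZeroDivisors_le p.primeCompl (Localization.AtPrime p)
        ⟨y, y.2, rfl⟩
    have hg : ∀ y : nonZeroDivisors R,
        IsUnit (((algebraMap (Localization.AtPrime p) (FractionRing (Localization.AtPrime p))).comp
          (algebraMap R (Localization.AtPrime p))) y) := by
      intro y
      apply IsUnit.mk0
      rw [RingHom.comp_apply]
      exact (map_ne_zero_iff _ (IsFractionRing.injective (Localization.AtPrime p)
        (FractionRing (Localization.AtPrime p)))).mpr (nonZeroDivisors.ne_zero (hnzd y))
    obtain ⟨ψ, hψ⟩ : ∃ ψ : FractionRing R →+* FractionRing (Localization.AtPrime p), ∀ r : R,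
        ψ (algebraMap R (FractionRing R) r) =
          algebraMap (Localization.AtPrime p) (FractionRing (Localization.AtPrime p))
            (algebraMap R (Localization.AtPrime p) r) :=
      ⟨IsLocalization.lift hg, fun r => IsLocalization.lift_eq hg r⟩
    have hint : IsIntegral (Localization.AtPrime p)
        (ψ (IsLocalization.mk' (FractionRing R) a s)) := by
      refine IsIntegral.map_of_comp_eq (algebraMap R (Localization.AtPrime p)) ψ ?_ hx
      ext r; exact (hψ r).symm
    obtain ⟨b', hb'⟩ := IsIntegrallyClosed.algebraMap_eq_of_integral hint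
    have h1 : ψ (IsLocalization.mk' (FractionRing R) a s) *
        algebraMap (Localization.AtPrime p) (FractionRing (Localization.AtPrime p))
            (algebraMap R (Localization.AtPrime p) s) =
        algebraMap (Localization.AtPrime p) (FractionRing (Localization.AtPrime p))
            (algebraMap R (Localization.AtPrime p) a) := by
      rw [← hψ, ← hψ, ← map_mul, IsLocalization.mk'_spec]
    have h2 : b' * algebraMap R (Localization.AtPrime p) s =
        algebraMap R (Localization.AtPrime p) a := by
      apply IsFractionRing.injective (Localization.AtPrime p)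
        (FractionRing (Localization.AtPrime p))
      rw [map_mul, hb']; exact h1
    obtain ⟨b, t, rfl⟩ := IsLocalization.exists_mk'_eq p.primeCompl b'
    have h3 : algebraMap R (Localization.AtPrime p) (b * s) =
        algebraMap R (Localization.AtPrime p) (a * t) := by
      rw [map_mul, map_mul, ← h2, ← IsLocalization.mk'_spec (Localization.AtPrime p) b t]; ring
    obtain ⟨u, hu⟩ := (IsLocalization.eq_iff_exists p.primeCompl (Localization.AtPrime p)).mp h3
    have hmem : (u : R) * t ∈ I := ⟨u * b, by linear_combination (-1 : R) * hu⟩
    have hp' : (u : R) * t ∈ p := hIp hmem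
    exact (p.primeCompl.mul_mem u.2 t.2) hp'
  have h1 : (1 : R) ∈ I := hI ▸ Submodule.mem_top
  obtain ⟨b, hb⟩ := h1
  refine ⟨b, ?_⟩
  rw [eq_comm, IsLocalization.mk'_eq_iff_eq_mul, ← map_mul]
  congr 1
  linear_combination hb

end Groth.Agent.S6278
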