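import Groth.Statements.S6279
import Mathlib

set_option autoImplicit false
universe u
open CAlg

namespace Groth.Agent.S6279

/-- A finite product of normal rings is normal (a ring is normal when every localization at a prime is
an integrally closed domain). -/
theorem result {ι : Type u} [Finite ι] (A : ι → Type u) [∀ i, CommRing (A i)] (hA : ∀ i, EGA4.IsNormalRing (A i)) : EGA4.IsNormalRing (∀ i, A i) := by
  intro p hp
  obtain ⟨i, q, hq⟩ := PrimeSpectrum.exists_comap_evalRingHom_eq (⟨p, hp⟩ : PrimeSpectrum (∀ i, A i))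
  have hq' : q.asIdeal.comap (Pi.evalRingHom A i) = p := congrArg PrimeSpectrum.asIdeal hq
  subst hq'
  obtain ⟨h1, h2⟩ := hA i q.asIdeal
  let e : Localization.AtPrime (q.asIdeal.comap (Pi.evalRingHom A i)) ≃+* Localization.AtPrime q.asIdeal :=
    RingEquiv.ofBijective _ (Localization.AtPrime.mapPiEvalRingHom_bijective q.asIdeal)
  exact ⟨e.toMulEquiv.isDomain _, IsIntegrallyClosed.of_equiv e.symm⟩

end Groth.Agent.S6279
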