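import Groth.Statements.S6281
import Mathlib

set_option autoImplicit false
universe u
open CAlg

namespace Groth.Agent.S6281

/-- For an R-algebra S and an S-module M, flatness of S over R follows once M is both flat over R and
faithfully flat over S. -/
theorem result {R S : Type u} [CommRing R] [CommRing S] [Algebra R S] (M : Type u) [AddCommGroup M] [Module S M] [Module R M] [IsScalarTower R S M] [Module.Flat R M] [Module.FaithfullyFlat S M] : Module.Flat R S := by
  rw [Module.Flat.iff_lTensor_preserves_injective_linearMap'.{u}]
  intro P' P _ _ _ _ i hi
  -- the S-linear version of `i.lTensor S`
  let iS : TensorProduct R S P' →ₗ[S] TensorProduct R S P :=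
    TensorProduct.AlgebraTensorModule.lTensor S S i
  change Function.Injective iS
  rw [← Module.FaithfullyFlat.lTensor_injective_iff_injective S M iS]
  let e' := TensorProduct.AlgebraTensorModule.cancelBaseChange R S S M P'
  let e := TensorProduct.AlgebraTensorModule.cancelBaseChange R S S M P
  have hcomm : ∀ x, e (iS.lTensor M x) = (i.lTensor M) (e' x) := by
    intro x
    induction x using TensorProduct.induction_on with
    | zero => simp
    | tmul m y =>
      induction y using TensorProduct.induction_on with
      | zero => simp
      | tmul a p => simp [e, e', iS]
      | add a b ha hb =>
        rw [TensorProduct.tmul_add, map_add, map_add, ha, hb, map_add, map_add]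
    | add a b ha hb => rw [map_add, map_add, ha, hb, map_add, map_add]
  have hinj : Function.Injective (i.lTensor M) :=
    Module.Flat.lTensor_preserves_injective_linearMap i hi
  intro x y hxy
  apply e'.injective
  apply hinj
  rw [← hcomm, ← hcomm, hxy]

end Groth.Agent.S6281
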