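import Groth.Statements.S6282
import Mathlib

set_option autoImplicit false
universe u
open scoped TensorProduct
open CAlg

namespace Groth.Agent.S6282

/-- Let S → S' be a homomorphism of R-algebras, M an S-module, and M' = S' ⊗_S M with its induced
R-module structure. (1) When S' is flat over S, R-flatness of M passes to M'. (2) When S' is
faithfully flat over S, M is R-flat exactly when M' is. -/
theorem result {R S S' : Type u} [CommRing R] [CommRing S] [CommRing S'] [Algebra R S] [Algebra R S'] [Algebra S S'] [IsScalarTower R S S'] (M : Type u) [AddCommGroup M] [Module S M] [Module R M] [IsScalarTower R S M] : ([Module.Flat S S'] → Module.Flat R M → Module.Flat R (S' ⊗[S] M)) ∧ ([Module.FaithfullyFlat S S'] → (Module.Flat R M ↔ Module.Flat R (S' ⊗[S] M))) := by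
  -- naturality of the associator
  have hcomm : ∀ (P' P : Type u) [AddCommGroup P'] [AddCommGroup P] [Module R P'] [Module R P]
      (i : P' →ₗ[R] P) (x : TensorProduct R (TensorProduct S S' M) P'),
      TensorProduct.AlgebraTensorModule.assoc R S S' S' M P (i.lTensor (TensorProduct S S' M) x) =
        (TensorProduct.AlgebraTensorModule.lTensor S M i).lTensor S'
          (TensorProduct.AlgebraTensorModule.assoc R S S' S' M P' x) := by
    intro P' P _ _ _ _ i x
    induction x using TensorProduct.induction_on with
    | zero => simp
    | tmul y p =>
      induction y using TensorProduct.induction_on with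
      | zero => simp
      | tmul a m => simp
      | add a b ha hb =>
        rw [TensorProduct.add_tmul, map_add, map_add, ha, hb, map_add, map_add]
    | add a b ha hb => rw [map_add, map_add, ha, hb, map_add, map_add]
  have part1 : ∀ [Module.Flat S S'], Module.Flat R M → Module.Flat R (TensorProduct S S' M) := by
    intro _ hM
    rw [Module.Flat.iff_lTensor_preserves_injective_linearMap'.{u}]
    intro P' P _ _ _ _ i hi
    have h1 : Function.Injective (TensorProduct.AlgebraTensorModule.lTensor S M i) :=
      Module.Flat.lTensor_preserves_injective_linearMap i hi
    have h2 : Function.Injective ((TensorProduct.AlgebraTensorModule.lTensor S M i).lTensor S') :=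
      Module.Flat.lTensor_preserves_injective_linearMap _ h1
    intro x y hxy
    apply (TensorProduct.AlgebraTensorModule.assoc R S S' S' M P').injective
    apply h2
    rw [← hcomm, ← hcomm, hxy]
  refine ⟨fun {_} => part1, fun {hff} => ⟨fun hM => part1 hM, fun hM' => ?_⟩⟩
  rw [Module.Flat.iff_lTensor_preserves_injective_linearMap'.{u}]
  intro P' P _ _ _ _ i hi
  have h1 : Function.Injective (i.lTensor (TensorProduct S S' M)) :=
    Module.Flat.lTensor_preserves_injective_linearMap i hi
  change Function.Injective (TensorProduct.AlgebraTensorModule.lTensor S M i)
  rw [← Module.FaithfullyFlat.lTensor_injective_iff_injective S S']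
  intro x y hxy
  apply (TensorProduct.AlgebraTensorModule.assoc R S S' S' M P').symm.injective
  apply h1
  apply (TensorProduct.AlgebraTensorModule.assoc R S S' S' M P).injective
  rw [hcomm, hcomm, LinearEquiv.apply_symm_apply, LinearEquiv.apply_symm_apply, hxy]

end Groth.Agent.S6282
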