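import Groth.Statements.S6285
import Mathlib
import Groth.Agent.Lib.SuppFP_helper7

set_option autoImplicit false
universe u
open CAlg

namespace Groth.Agent.S6285

/-- For a ring R and an R-module M of finite presentation, the support Supp(M) is closed in Spec(R), and
its complement in Spec(R) is quasi-compact. -/
theorem result (R : Type u) [CommRing R] (M : Type u) [AddCommGroup M] [Module R M] [Module.FinitePresentation R M] : IsClosed (Module.support R M) ∧ IsCompact (Module.support R M)ᶜ := by
  exact Groth.Agent.Lib.SuppFPH7.main R M

end Groth.Agent.S6285
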