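import Groth.Statements.S6288
import Mathlib

set_option autoImplicit false
universe u
open CAlg

namespace Groth.Agent.S6288

/-- Let L/K be an algebraic extension of fields and B ⊆ L a valuation ring with fraction field L which
is not a field. Then A = K ∩ B is a valuation ring of K (automatic) which is again not a field, i.e.
A ≠ K. -/
theorem result (K L : Type u) [Field K] [Field L] [Algebra K L] [Algebra.IsAlgebraic K L] (B : ValuationSubring L) (hB : B ≠ ⊤) : B.comap (algebraMap K L) ≠ ⊤ := by
  intro htop
  apply hB
  rw [eq_top_iff]
  intro x _
  have hK : ∀ k : K, algebraMap K L k ∈ B := by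
    intro k
    have : k ∈ B.comap (algebraMap K L) := by rw [htop]; trivial
    exact this
  let j : K →+* ↥B :=
    { toFun := fun k => ⟨algebraMap K L k, hK k⟩
      map_one' := by ext; simp
      map_mul' := fun a b => by ext; simp
      map_zero' := by ext; simp
      map_add' := fun a b => by ext; simp }
  have hj : (algebraMap ↥B L).comp j = algebraMap K L := by
    ext k
    rfl
  have hint : IsIntegral K x := Algebra.IsIntegral.isIntegral x
  obtain ⟨q, hqm, hq⟩ := hint
  have hintB : IsIntegral ↥B x := by
    refine ⟨q.map j, hqm.map j, ?_⟩
    rw [Polynomial.eval₂_map, hj]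
    exact hq
  obtain ⟨y, hy⟩ := IsIntegrallyClosed.isIntegral_iff.mp hintB
  rw [← hy]
  exact y.2

end Groth.Agent.S6288
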