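import Groth.Statements.S6289
import Mathlib

set_option autoImplicit false
universe u
open CAlg

namespace Groth.Agent.S6289

/-- Let A' be a valuation ring with residue field K and A ⊆ K a valuation ring with fraction field K.
Then the subring C of A' consisting of the elements whose residue class lies in A is a valuation
ring. -/
theorem result (A' : Type u) [CommRing A'] [IsDomain A'] [ValuationRing A'] (A : ValuationSubring (IsLocalRing.ResidueField A')) : ValuationRing (A.toSubring.comap (IsLocalRing.residue A')) := by
  set C := A.toSubring.comap (IsLocalRing.residue A') with hC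
  have key : ∀ (x y c : A'), x * c = y →
      ∃ c' : A', IsLocalRing.residue A' c' ∈ A ∧ (x * c' = y ∨ y * c' = x) := by
    intro x y c hxy
    rcases A.mem_or_inv_mem (IsLocalRing.residue A' c) with h | h
    · exact ⟨c, h, Or.inl hxy⟩
    · by_cases h0 : IsLocalRing.residue A' c = 0
      · refine ⟨c, ?_, Or.inl hxy⟩
        rw [h0]; exact A.zero_mem
      · have hu : IsUnit c := by
          by_contra hnu
          exact h0 ((IsLocalRing.residue_eq_zero_iff c).mpr ((IsLocalRing.mem_maximalIdeal c).mpr hnu))
        obtain ⟨u, rfl⟩ := hu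
        refine ⟨((u⁻¹ : A'ˣ) : A'), ?_, Or.inr ?_⟩
        · have : IsLocalRing.residue A' ((u⁻¹ : A'ˣ) : A') = (IsLocalRing.residue A' (u : A'))⁻¹ := by
            rw [eq_comm, inv_eq_iff_eq_inv, ← map_units_inv (IsLocalRing.residue A'), inv_inv]
          rw [this]; exact h
        · rw [← hxy, mul_assoc, Units.mul_inv, mul_one]
  refine { cond' := ?_ }
  intro a b
  obtain ⟨c, hc | hc⟩ := ValuationRing.cond (a : A') (b : A')
  · obtain ⟨c', hc', h⟩ := key a b c hc
    refine ⟨⟨c', hc'⟩, ?_⟩
    rcases h with h | h
    · left; exact Subtype.ext h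
    · right; exact Subtype.ext h
  · obtain ⟨c', hc', h⟩ := key b a c hc
    refine ⟨⟨c', hc'⟩, ?_⟩
    rcases h with h | h
    · right; exact Subtype.ext h
    · left; exact Subtype.ext h

end Groth.Agent.S6289
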