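import Groth.Statements.S6290
import Mathlib

set_option autoImplicit false
universe u
open CAlg

namespace Groth.Agent.S6290

/-- Let R be a Noetherian ring, I ⊆ R an ideal, M a finite R-module and N = ⋂ₙ IⁿM. Then for every prime
p ⊇ I there is f ∈ R, f ∉ p, with N_f = 0, i.e. every element of N is annihilated by some power of
f. -/
theorem result {R : Type u} [CommRing R] [IsNoetherianRing R] (I : Ideal R) (M : Type u) [AddCommGroup M] [Module R M] [Module.Finite R M] (p : Ideal R) [p.IsPrime] (hIp : I ≤ p) : ∃ f : R, f ∉ p ∧ ∀ x ∈ (⨅ n : ℕ, I ^ n • (⊤ : Submodule R M)), ∃ k : ℕ, f ^ k • x = 0 := by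
  classical
  set N : Submodule R M := ⨅ n : ℕ, I ^ n • (⊤ : Submodule R M) with hN
  obtain ⟨t, ht⟩ := (IsNoetherian.noetherian N : N.FG)
  have hmem : ∀ x ∈ t, ∃ r : R, r ∈ I ∧ r • x = x := by
    intro x hx
    have hxN : x ∈ N := by rw [← ht]; exact Submodule.subset_span hx
    obtain ⟨r, hr⟩ := (I.mem_iInf_smul_pow_eq_bot_iff x).mp hxN
    exact ⟨r, r.2, hr⟩
  choose! r hrI hrx using hmem
  refine ⟨∏ x ∈ t, (1 - r x), ?_, ?_⟩
  · intro hprod
    obtain ⟨x, hxt, hx⟩ := (Ideal.IsPrime.prod_mem_iff).mp hprod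
    have h1 : r x ∈ p := hIp (hrI x hxt)
    have h2 : (1 : R) ∈ p := by
      have := p.add_mem hx h1
      simpa using this
    exact (Ideal.IsPrime.ne_top ‹_›) ((Ideal.eq_top_iff_one p).mpr h2)
  · intro x hx
    refine ⟨1, ?_⟩
    rw [pow_one]
    rw [← ht] at hx
    refine Submodule.span_induction ?_ ?_ ?_ ?_ hx
    · intro y hy
      rw [← Finset.mul_prod_erase t _ hy, mul_comm, mul_smul, sub_smul, one_smul, hrx y hy,
        sub_self, smul_zero]
    · exact smul_zero _
    · intro a b _ _ ha hb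
      rw [smul_add, ha, hb, add_zero]
    · intro a b _ hb
      rw [smul_comm, hb, smul_zero]

end Groth.Agent.S6290
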