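import Groth.Statements.S6292
import Mathlib

set_option autoImplicit false
universe u
open CAlg

namespace Groth.Agent.S6292

theorem artinian_of_killed {R : Type u} [CommRing R] (m : Ideal R) [m.IsMaximal]
    (Q : Type u) [AddCommGroup Q] [Module R Q] [Module.Finite R Q]
    (h : m • (⊤ : Submodule R Q) = ⊥) : IsArtinian R Q := by
  have htors : Module.IsTorsionBySet R Q m := by
    intro x a
    have : (a : R) • x ∈ m • (⊤ : Submodule R Q) := Submodule.smul_mem_smul a.2 trivial
    rw [h] at this
    exact this
  letI : Module (R ⧸ m) Q := htors.module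
  haveI : IsScalarTower R (R ⧸ m) Q := htors.isScalarTower
  letI : Field (R ⧸ m) := Ideal.Quotient.field m
  haveI : Module.Finite (R ⧸ m) Q := Module.Finite.of_restrictScalars_finite R (R ⧸ m) Q
  haveI : IsArtinian (R ⧸ m) Q := inferInstance
  exact isArtinian_of_surjective_algebraMap (S := R) (R := R ⧸ m) Ideal.Quotient.mk_surjective

theorem artinian_of_pow_killed {R : Type u} [CommRing R] (m : Ideal R) [m.IsMaximal] (hm : m.FG)
    (n : ℕ) : ∀ (M : Type u) [AddCommGroup M] [Module R M] [Module.Finite R M],
      m ^ n • (⊤ : Submodule R M) = ⊥ → IsArtinian R M := by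
  induction n with
  | zero =>
    intro M _ _ _ h
    rw [pow_zero, Ideal.one_eq_top, Submodule.top_smul] at h
    haveI : Subsingleton M := by
      rw [← Submodule.subsingleton_iff R, ← subsingleton_iff_bot_eq_top]
      exact h.symm
    infer_instance
  | succ k ih =>
    intro M _ _ _ h
    set N : Submodule R M := m • (⊤ : Submodule R M) with hN
    haveI : Module.Finite R N := Module.Finite.iff_fg.mpr (Submodule.FG.smul hm Module.Finite.fg_top)
    have h1 : m ^ k • (⊤ : Submodule R N) = ⊥ := by
      have : (m ^ k • (⊤ : Submodule R N)).map N.subtype = ⊥ := by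
        rw [Submodule.map_smul'', Submodule.map_subtype_top, hN, ← mul_smul, ← pow_succ]
        exact h
      apply Submodule.map_injective_of_injective N.subtype_injective
      rw [this, Submodule.map_bot]
    haveI : IsArtinian R N := ih N h1
    have h2 : m • (⊤ : Submodule R (M ⧸ N)) = ⊥ := by
      have : (m • (⊤ : Submodule R M)).map N.mkQ = m • (⊤ : Submodule R (M ⧸ N)) := by
        rw [Submodule.map_smul'', Submodule.map_top, Submodule.range_mkQ]
      rw [← this, ← hN, Submodule.mkQ_map_self]
    haveI : IsArtinian R (M ⧸ N) := artinian_of_killed m (M ⧸ N) h2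
    exact isArtinian_of_range_eq_ker N.subtype N.mkQ
      (by rw [Submodule.range_subtype, Submodule.ker_mkQ])

/-- Let R be a ring and m ⊆ R a finitely generated maximal ideal (for instance R Noetherian). If M is a
finite R-module with mⁿM = 0 for some n, then M has finite length. -/
theorem result {R : Type u} [CommRing R] (m : Ideal R) [m.IsMaximal] (hm : m.FG) (M : Type u) [AddCommGroup M] [Module R M] [Module.Finite R M] (n : ℕ) (hn : m ^ n • (⊤ : Submodule R M) = ⊥) : IsFiniteLength R M := by
  haveI : IsArtinian R M := artinian_of_pow_killed m hm n M hn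
  haveI : IsNoetherian R M := isNoetherian_of_finite_isArtinian M
  exact isFiniteLength_iff_isNoetherian_isArtinian.mpr ⟨inferInstance, inferInstance⟩

end Groth.Agent.S6292
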