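import Groth.Statements.S6295
import Mathlib

set_option autoImplicit false
universe u
open CAlg

namespace Groth.Agent.S6295

/-- Let R be a reduced ring. Then every localization R_p at a minimal prime p is a field and the map R →
∏_{p minimal} R_p is injective (so R is a subring of a product of fields); moreover the set of
zerodivisors of R is the union of the minimal primes. -/
theorem result (R : Type u) [CommRing R] [IsReduced R] : (∀ p : PrimeSpectrum R, p.asIdeal ∈ minimalPrimes R → IsField (Localization.AtPrime p.asIdeal)) ∧ Function.Injective (algebraMap R (∀ p : {p : PrimeSpectrum R // p.asIdeal ∈ minimalPrimes R}, Localization.AtPrime p.1.asIdeal)) ∧ (∀ x : R, x ∉ nonZeroDivisors R ↔ ∃ p ∈ minimalPrimes R, x ∈ p) := by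
  have hrad : sInf (minimalPrimes R) = (⊥ : Ideal R) := by
    have h := Ideal.sInf_minimalPrimes (I := (⊥ : Ideal R))
    rw [h]
    exact (Ideal.radical_eq_iff.mpr (by
      rw [Ideal.isRadical_iff_quotient_reduced]
      exact isReduced_of_injective (RingEquiv.quotientBot R).toRingHom
        (RingEquiv.quotientBot R).injective))
  have hout : ∀ y : R, y ≠ 0 → ∃ p ∈ minimalPrimes R, y ∉ p := by
    intro y hy
    by_contra hcon
    push_neg at hcon
    apply hy
    have : y ∈ sInf (minimalPrimes R) := by
      rw [Ideal.mem_sInf]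
      intro p hp
      exact hcon p hp
    rw [hrad] at this
    exact this
  refine ⟨?_, ?_, ?_⟩
  · intro p hp
    haveI : IsReduced (Localization.AtPrime p.asIdeal) := inferInstance
    rw [IsLocalRing.isField_iff_maximalIdeal_eq,
      ← IsLocalization.AtPrime.map_eq_maximalIdeal p.asIdeal (Localization.AtPrime p.asIdeal),
      ← IsLocalization.AtPrime.radical_map_of_mem_minimalPrimes (A := Localization.AtPrime p.asIdeal)
        p.asIdeal ⊥ hp, Ideal.map_bot]
    exact nilradical_eq_zero _
  · rw [injective_iff_map_eq_zero]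
    intro x hx
    by_contra hx0
    obtain ⟨p, hp, hxp⟩ := hout x hx0
    haveI := hp.1.1
    have h1 := congrFun hx (⟨⟨p, hp.1.1⟩, hp⟩ :
      {p : PrimeSpectrum R // p.asIdeal ∈ minimalPrimes R})
    rw [Pi.algebraMap_apply, Pi.zero_apply] at h1
    rw [IsLocalization.map_eq_zero_iff p.primeCompl] at h1
    obtain ⟨s, hs⟩ := h1
    have : (s : R) * x ∈ p := by rw [hs]; exact p.zero_mem
    rcases hp.1.1.mem_or_mem this with h2 | h2
    · exact s.2 h2
    · exact hxp h2
  · intro x
    constructor
    · intro hx
      rw [mem_nonZeroDivisors_iff_right] at hx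
      push_neg at hx
      obtain ⟨y, hyx, hy⟩ := hx
      obtain ⟨p, hp, hyp⟩ := hout y hy
      refine ⟨p, hp, ?_⟩
      have : x * y ∈ p := by rw [mul_comm, hyx]; exact p.zero_mem
      exact (hp.1.1.mem_or_mem this).resolve_right hyp
    · rintro ⟨p, hp, hxp⟩
      exact notMem_nonZeroDivisors_of_mem_mem_minimalPrimes hxp hp

end Groth.Agent.S6295
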