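import Groth.Statements.S6298
import Mathlib

set_option autoImplicit false
universe u
open CAlg

namespace Groth.Agent.S6298

/-- Let R be a ring, x ∈ R, I ⊆ R an ideal and p₁, …, p_r prime ideals such that for each i the coset x
+ I is not contained in p_i. Then there is y ∈ I with x + y ∉ p_i for all i. -/
theorem result {R : Type u} [CommRing R] (x : R) (I : Ideal R) {r : ℕ} (p : Fin r → Ideal R) [∀ i, (p i).IsPrime] (h : ∀ i, ∃ y ∈ I, x + y ∉ p i) : ∃ y ∈ I, ∀ i, x + y ∉ p i := by
  classical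
  suffices H : ∀ s : Finset (Fin r), ∃ y ∈ I, ∀ i ∈ s, x + y ∉ p i by
    obtain ⟨y, hy, h'⟩ := H Finset.univ
    exact ⟨y, hy, fun i => h' i (Finset.mem_univ i)⟩
  intro s
  induction s using Finset.induction_on with
  | empty => exact ⟨0, I.zero_mem, fun i hi => absurd hi (Finset.notMem_empty i)⟩
  | insert a t hat ih =>
    obtain ⟨y₀, hy₀, hy₀t⟩ := ih
    by_cases hxa : x + y₀ ∈ p a
    swap
    · refine ⟨y₀, hy₀, fun i hi => ?_⟩
      rcases Finset.mem_insert.mp hi with rfl | hi
      · exact hxa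
      · exact hy₀t i hi
    obtain ⟨y₁, hy₁, hy₁a⟩ := h a
    have hw : y₁ - y₀ ∈ I := I.sub_mem hy₁ hy₀
    have hwa : y₁ - y₀ ∉ p a := by
      intro hmem
      apply hy₁a
      have : x + y₁ = (x + y₀) + (y₁ - y₀) := by ring
      rw [this]
      exact (p a).add_mem hxa hmem
    have hu : ∀ i : Fin r, ¬ (p i ≤ p a) → ∃ u, u ∈ p i ∧ u ∉ p a := fun i hi => by
      rw [SetLike.not_le_iff_exists] at hi
      exact hi
    choose! u hup hua using hu
    set t' := t.filter (fun i => ¬ p i ≤ p a) with ht'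
    set z := (y₁ - y₀) * ∏ i ∈ t', u i with hz
    have hzI : z ∈ I := I.mul_mem_right _ hw
    have hza : z ∉ p a := by
      intro hzmem
      rcases (inferInstance : (p a).IsPrime).mem_or_mem hzmem with h1 | h1
      · exact hwa h1
      · obtain ⟨i, hi, hi'⟩ := (Ideal.IsPrime.prod_mem_iff).mp h1
        exact hua i (Finset.mem_filter.mp hi).2 hi'
    refine ⟨y₀ + z, I.add_mem hy₀ hzI, ?_⟩
    intro i hi
    rw [← add_assoc]
    rcases Finset.mem_insert.mp hi with rfl | hit
    · intro hmem
      exact hza ((Ideal.add_mem_iff_right _ hxa).mp hmem)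
    · by_cases hle : p i ≤ p a
      · intro hmem
        exact hza ((Ideal.add_mem_iff_right _ hxa).mp (hle hmem))
      · intro hmem
        have hzi : z ∈ p i := by
          apply Ideal.mul_mem_left
          exact (Ideal.IsPrime.prod_mem_iff).mpr ⟨i, Finset.mem_filter.mpr ⟨hit, hle⟩, hup i hle⟩
        exact hy₀t i hit ((Ideal.add_mem_iff_left _ hzi).mp hmem)

end Groth.Agent.S6298
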