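import Groth.Statements.S6301
import Mathlib.RingTheory.Flat.EquationalCriterion
-- import your own Groth.Agent.* helpers here

set_option autoImplicit false
universe u
open CAlg

namespace Groth.Agent.S6301

/-- An R-module M is flat exactly when, for every finitely presented R-module P and every surjective
R-module map N → M, the induced map Hom_R(P, N) → Hom_R(P, M) is surjective (modules P, N taken in
the same universe). -/
theorem result {R : Type u} [CommRing R] (M : Type u) [AddCommGroup M] [Module R M] : Module.Flat R M ↔ ∀ (P : Type u) [AddCommGroup P] [Module R P], Module.FinitePresentation R P → ∀ (N : Type u) [AddCommGroup N] [Module R N] (g : N →ₗ[R] M), Function.Surjective g → ∀ h : P →ₗ[R] M, ∃ h' : P →ₗ[R] N, g.comp h' = h := by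
  constructor
  · intro hM P _ _ hP N _ _ g hg h
    obtain ⟨k, h₂, h₃, rfl⟩ := Module.Flat.exists_factorization_of_finitePresentation h
    obtain ⟨l, hl⟩ := Module.projective_lifting_property g h₃ hg
    exact ⟨l ∘ₗ h₂, by rw [← LinearMap.comp_assoc, hl]⟩
  · intro H
    refine ((Module.Flat.tfae_equational_criterion R M).out 0 3).mpr ?_
    intro l f x hfx
    classical
    let v : Fin l →₀ R := Finsupp.equivFunOnFinite.symm f
    let S : Submodule R (Fin l →₀ R) := Submodule.span R {v}
    let xl : (Fin l →₀ R) →ₗ[R] M := Finsupp.linearCombination R x
    have hv : v = ∑ i, f i • Finsupp.single i (1 : R) := by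
      ext j
      simp [v, Finsupp.single_apply]
    have hxv : xl v = 0 := by
      rw [hv, map_sum]
      simpa [xl] using hfx
    have hfp : Module.FinitePresentation R ((Fin l →₀ R) ⧸ S) :=
      Module.finitePresentation_of_surjective S.mkQ S.mkQ_surjective
        (by rw [Submodule.ker_mkQ]; exact Submodule.fg_span_singleton v)
    let h₀ : ((Fin l →₀ R) ⧸ S) →ₗ[R] M := S.liftQ xl (by
      rw [Submodule.span_le]
      intro y hy
      rw [Set.mem_singleton_iff] at hy
      subst hy
      exact hxv)
    have hg : Function.Surjective (Finsupp.linearCombination R (id : M → M)) :=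
      Finsupp.linearCombination_surjective _ Function.surjective_id
    obtain ⟨h', hh'⟩ := H ((Fin l →₀ R) ⧸ S) hfp (M →₀ R) (Finsupp.linearCombination R id) hg h₀
    let b : Fin l → (M →₀ R) := fun i => h' (S.mkQ (Finsupp.single i 1))
    let s : Finset M := Finset.univ.biUnion fun i => (b i).support
    have hb : ∀ i, x i = ∑ m ∈ s, b i m • m := by
      intro i
      have h1 : x i = Finsupp.linearCombination R id (b i) := by
        have := LinearMap.congr_fun hh' (S.mkQ (Finsupp.single i 1))
        simp only [LinearMap.comp_apply] at this
        rw [this]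
        simp [h₀, xl]
      rw [h1, Finsupp.linearCombination_apply, Finsupp.sum]
      apply Finset.sum_subset
      · intro m hm
        exact Finset.mem_biUnion.mpr ⟨i, Finset.mem_univ _, hm⟩
      · intro m _ hm
        rw [Finsupp.notMem_support_iff] at hm
        simp [hm]
    have hf0 : ∀ m, ∑ i, f i * b i m = 0 := by
      intro m
      have h1 : ∑ i, f i • b i = 0 := by
        have h2 : ∑ i, f i • b i = h' (S.mkQ v) := by
          simp only [b]
          rw [hv, map_sum, map_sum]
          simp only [map_smul]
        have h3 : S.mkQ v = 0 := by
          rw [Submodule.mkQ_apply]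
          exact (Submodule.Quotient.mk_eq_zero S).mpr (Submodule.mem_span_singleton_self v)
        rw [h2, h3, map_zero]
      have := DFunLike.congr_fun h1 m
      simpa using this
    refine ⟨s.card, fun i j => b i (s.equivFin.symm j), fun j => (s.equivFin.symm j : M), ?_, ?_⟩
    · intro i
      rw [hb i, ← Finset.sum_coe_sort s (fun m => b i m • m)]
      exact (Equiv.sum_comp s.equivFin.symm (fun m : s => b i m • (m : M))).symm
    · intro j
      exact hf0 _

end Groth.Agent.S6301
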