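import Groth.Statements.S6303
import Mathlib.RingTheory.TensorProduct.Quotient
import Mathlib.RingTheory.Flat.Basic
-- import your own Groth.Agent.* helpers here

set_option autoImplicit false
universe u
open CAlg

namespace Groth.Agent.S6303

/-- Let R be a ring, I, J ⊆ R ideals and M a flat R-module. Then IM ∩ JM = (I ∩ J)M. -/
theorem result {R : Type u} [CommRing R] (I J : Ideal R) (M : Type u) [AddCommGroup M] [Module R M] [Module.Flat R M] : (I • (⊤ : Submodule R M)) ⊓ (J • ⊤) = (I ⊓ J) • (⊤ : Submodule R M) := by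
  apply le_antisymm
  · rintro x ⟨hxI, hxJ⟩
    obtain ⟨y, hy⟩ := (Submodule.ext_iff.mp (I.subtype_rTensor_range M) x).mpr hxI
    let f : ↥(I ⊓ J) →ₗ[R] ↥I := Submodule.inclusion inf_le_left
    let g : ↥I →ₗ[R] R ⧸ J := J.mkQ ∘ₗ I.subtype
    have hex : Function.Exact f g := by
      intro a
      constructor
      · intro ha
        have : (a : R) ∈ J := by
          have : (Submodule.Quotient.mk (a : R) : R ⧸ J) = 0 := ha
          rwa [Submodule.Quotient.mk_eq_zero] at this
        exact ⟨⟨a.1, a.2, this⟩, rfl⟩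
      · rintro ⟨b, rfl⟩
        change (Submodule.Quotient.mk (b : R) : R ⧸ J) = 0
        rw [Submodule.Quotient.mk_eq_zero]
        exact b.2.2
    have hex' := Module.Flat.rTensor_exact M hex
    have hcomp : (TensorProduct.quotTensorEquivQuotSMul M J).toLinearMap ∘ₗ g.rTensor M =
        (J • ⊤ : Submodule R M).mkQ ∘ₗ (TensorProduct.lid R M).toLinearMap ∘ₗ I.subtype.rTensor M := by
      ext a m
      simp [g]
    have hgy : g.rTensor M y = 0 := by
      apply (TensorProduct.quotTensorEquivQuotSMul M J).injective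
      rw [map_zero]
      have h2 := LinearMap.congr_fun hcomp y
      simp only [LinearMap.coe_comp, LinearEquiv.coe_coe, Function.comp_apply] at h2 hy
      rw [h2, hy]
      exact (Submodule.Quotient.mk_eq_zero _).mpr hxJ
    obtain ⟨z, hz⟩ := (hex' y).mp hgy
    rw [← (I ⊓ J).subtype_rTensor_range M]
    refine ⟨z, ?_⟩
    rw [← hy, ← hz]
    simp only [LinearMap.coe_comp, LinearEquiv.coe_coe, Function.comp_apply]
    rw [← LinearMap.rTensor_comp_apply]
    rfl
  · exact le_inf (Submodule.smul_mono_left inf_le_left) (Submodule.smul_mono_left inf_le_right)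

end Groth.Agent.S6303
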