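import Groth.Statements.S6304
import Mathlib.RingTheory.Flat.Equalizer
-- import your own Groth.Agent.* helpers here

set_option autoImplicit false
universe u
open CAlg

namespace Groth.Agent.S6304

/-- In a short exact sequence 0 → M' → M → M'' → 0 of R-modules whose right-hand term M'' is flat, the
middle term M is flat when M' is, and M' is flat when M is. -/
theorem result {R : Type u} [CommRing R] {M' M M'' : Type u} [AddCommGroup M'] [Module R M'] [AddCommGroup M] [Module R M] [AddCommGroup M''] [Module R M''] (f : M' →ₗ[R] M) (g : M →ₗ[R] M'') (hf : Function.Injective f) (hexact : Function.Exact f g) (hg : Function.Surjective g) [Module.Flat R M''] : (Module.Flat R M' → Module.Flat R M) ∧ (Module.Flat R M → Module.Flat R M') := by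
  -- `f ⊗ A` is injective for every `A`, since `M''` is flat
  have hfA : ∀ (A : Type u) [AddCommGroup A] [Module R A], Function.Injective (f.lTensor A) :=
    fun A _ _ => LinearMap.lTensor_injective_of_exact_of_flat g hg f hf hexact A
  have hsq : ∀ {A B : Type u} [AddCommGroup A] [Module R A] [AddCommGroup B] [Module R B]
      (i : A →ₗ[R] B) (y : TensorProduct R A M'),
      i.rTensor M (f.lTensor A y) = f.lTensor B (i.rTensor M' y) := by
    intro A B _ _ _ _ i y
    rw [← LinearMap.comp_apply, ← LinearMap.comp_apply, LinearMap.rTensor_comp_lTensor,
      LinearMap.lTensor_comp_rTensor]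
  have hsq' : ∀ {A B : Type u} [AddCommGroup A] [Module R A] [AddCommGroup B] [Module R B]
      (i : A →ₗ[R] B) (y : TensorProduct R A M),
      i.rTensor M'' (g.lTensor A y) = g.lTensor B (i.rTensor M y) := by
    intro A B _ _ _ _ i y
    rw [← LinearMap.comp_apply, ← LinearMap.comp_apply, LinearMap.rTensor_comp_lTensor,
      LinearMap.lTensor_comp_rTensor]
  constructor
  · intro hM'
    rw [Module.Flat.iff_rTensor_preserves_injective_linearMap'.{u, u, u}]
    intro A B _ _ _ _ i hi
    rw [injective_iff_map_eq_zero]
    intro x hx
    have hc : Function.Injective (i.rTensor M'') :=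
      Module.Flat.rTensor_preserves_injective_linearMap i hi
    have hgx : g.lTensor A x = 0 := by
      apply hc
      rw [hsq', hx, map_zero, map_zero]
    obtain ⟨y, rfl⟩ := (lTensor_exact A hexact hg x).mp hgx
    have ha : Function.Injective (i.rTensor M') :=
      Module.Flat.rTensor_preserves_injective_linearMap i hi
    have : i.rTensor M' y = 0 := by
      apply hfA B
      rw [← hsq, hx, map_zero]
    rw [ha (this.trans (map_zero _).symm), map_zero]
  · intro hM
    rw [Module.Flat.iff_rTensor_preserves_injective_linearMap'.{u, u, u}]
    intro A B _ _ _ _ i hi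
    rw [injective_iff_map_eq_zero]
    intro y hy
    have hb : Function.Injective (i.rTensor M) :=
      Module.Flat.rTensor_preserves_injective_linearMap i hi
    apply hfA A
    apply hb
    rw [hsq, hy, map_zero, map_zero, map_zero]

end Groth.Agent.S6304
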