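import Groth.Statements.S6305
import Mathlib.RingTheory.Flat.Equalizer
-- import your own Groth.Agent.* helpers here

set_option autoImplicit false
universe u
open CAlg

namespace Groth.Agent.S6305

/-- If `0 → K → F → M → 0` is exact with `F` flat and `K → F` universally injective, `M` is flat. -/
theorem flat_of_universallyInjective {R : Type u} [CommRing R] {K F M : Type u}
    [AddCommGroup K] [Module R K] [AddCommGroup F] [Module R F] [AddCommGroup M] [Module R M]
    [Module.Flat R F] (ι : K →ₗ[R] F) (π : F →ₗ[R] M) (hex : Function.Exact ι π)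
    (hπ : Function.Surjective π)
    (hinj : ∀ (Q : Type u) [AddCommGroup Q] [Module R Q], Function.Injective (ι.rTensor Q)) :
    Module.Flat R M := by
  rw [Module.Flat.iff_lTensor_preserves_injective_linearMap'.{u, u, u}]
  intro A B _ _ _ _ i hi
  have hp : Function.Surjective (LinearMap.range i).mkQ := Submodule.mkQ_surjective _
  have hip : Function.Exact i (LinearMap.range i).mkQ := LinearMap.exact_map_mkQ_range i
  have hpi : (LinearMap.range i).mkQ ∘ₗ i = 0 := hip.linearMap_comp_eq_zero
  rw [injective_iff_map_eq_zero]
  intro x hx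
  obtain ⟨x', rfl⟩ := LinearMap.rTensor_surjective A hπ x
  have h1 : π.rTensor B (i.lTensor F x') = 0 := by
    rw [← hx]
    simp only [← LinearMap.comp_apply, LinearMap.rTensor_comp_lTensor,
      LinearMap.lTensor_comp_rTensor]
  obtain ⟨y, hy⟩ := (rTensor_exact B hex hπ (i.lTensor F x')).mp h1
  have h2 : ι.rTensor (B ⧸ LinearMap.range i) ((LinearMap.range i).mkQ.lTensor K y) = 0 := by
    have : ι.rTensor (B ⧸ LinearMap.range i) ((LinearMap.range i).mkQ.lTensor K y) =
        (LinearMap.range i).mkQ.lTensor F (ι.rTensor B y) := by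
      simp only [← LinearMap.comp_apply, LinearMap.rTensor_comp_lTensor,
        LinearMap.lTensor_comp_rTensor]
    rw [this, hy, ← LinearMap.comp_apply, ← LinearMap.lTensor_comp, hpi, LinearMap.lTensor_zero,
      LinearMap.zero_apply]
  have h3 : (LinearMap.range i).mkQ.lTensor K y = 0 :=
    hinj (B ⧸ LinearMap.range i) (by rw [h2, map_zero])
  obtain ⟨y', hy'⟩ := (lTensor_exact K hip hp y).mp h3
  have h4 : i.lTensor F (ι.rTensor A y') = i.lTensor F x' := by
    rw [← hy, ← hy']
    simp only [← LinearMap.comp_apply, LinearMap.rTensor_comp_lTensor,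
      LinearMap.lTensor_comp_rTensor]
  have h5 : ι.rTensor A y' = x' :=
    Module.Flat.lTensor_preserves_injective_linearMap i hi h4
  rw [← h5, ← LinearMap.comp_apply, ← LinearMap.rTensor_comp, hex.linearMap_comp_eq_zero,
    LinearMap.rTensor_zero, LinearMap.zero_apply]


/-- An R-module M is flat exactly when every short exact sequence 0 → M₁ → M₂ → M → 0 of R-modules is
universally exact, i.e. its first map M₁ → M₂ is universally injective. -/
theorem result {R : Type u} [CommRing R] (M : Type u) [AddCommGroup M] [Module R M] : Module.Flat R M ↔ ∀ (M₁ M₂ : Type u) [AddCommGroup M₁] [Module R M₁] [AddCommGroup M₂] [Module R M₂] (f : M₁ →ₗ[R] M₂) (g : M₂ →ₗ[R] M), Function.Injective f → Function.Exact f g → Function.Surjective g → CAlgX.UniversallyInjective R f := by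
  constructor
  · intro hM M₁ M₂ _ _ _ _ f g hf hexact hg Q _ _
    rw [← LinearMap.lTensor_inj_iff_rTensor_inj]
    exact LinearMap.lTensor_injective_of_exact_of_flat g hg f hf hexact Q
  · intro h
    obtain ⟨π, hπ⟩ : ∃ π : (M →₀ R) →ₗ[R] M, Function.Surjective π :=
      ⟨Finsupp.linearCombination R fun a : M => a,
        Finsupp.linearCombination_surjective _ Function.surjective_id⟩
    have hex : Function.Exact (LinearMap.ker π).subtype π := LinearMap.exact_subtype_ker_map π
    have hinj := h (LinearMap.ker π) (M →₀ R) (LinearMap.ker π).subtype π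
      (Submodule.subtype_injective _) hex hπ
    exact flat_of_universallyInjective (K := LinearMap.ker π) (F := M →₀ R) (M := M) (LinearMap.ker π).subtype π hex hπ hinj

end Groth.Agent.S6305
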