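import Groth.Statements.S6309
import Groth.Agent.Lib.SplitInjLocus_helper3
-- import your own Groth.Agent.* helpers here

set_option autoImplicit false
universe u
open scoped TensorProduct
set_option maxSynthPendingDepth 3
open CAlg

namespace Groth.Agent.S6309

/-- Let R be a ring and φ : P₁ → P₂ a map of finite projective R-modules. The set U of primes p of R
such that φ ⊗ κ(p) is injective is open, and for every f ∈ R with D(f) ⊆ U the map (P₁)_f → (P₂)_f
is injective and Coker(φ)_f is a finite projective module over R_f. -/
theorem result {R : Type u} [CommRing R] {P₁ P₂ : Type u} [AddCommGroup P₁] [Module R P₁] [AddCommGroup P₂] [Module R P₂] [Module.Finite R P₁] [Module.Projective R P₁] [Module.Finite R P₂] [Module.Projective R P₂] (φ : P₁ →ₗ[R] P₂) : IsOpen {p : PrimeSpectrum R | Function.Injective (φ.lTensor p.asIdeal.ResidueField)} ∧ ∀ f : R, (↑(PrimeSpectrum.basicOpen f) : Set (PrimeSpectrum R)) ⊆ {p : PrimeSpectrum R | Function.Injective (φ.lTensor p.asIdeal.ResidueField)} → Function.Injective (LocalizedModule.map (Submonoid.powers f) φ) ∧ Module.Finite (Localization.Away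 f) (LocalizedModule (Submonoid.powers f) (P₂ ⧸ LinearMap.range φ)) ∧ Module.Projective (Localization.Away f) (LocalizedModule (Submonoid.powers f) (P₂ ⧸ LinearMap.range φ)) := by
  have hset : {p : PrimeSpectrum R | Function.Injective (φ.lTensor p.asIdeal.ResidueField)} =
      {p : PrimeSpectrum R | Function.Injective (φ.baseChange p.asIdeal.ResidueField)} := by
    ext p
    change Function.Injective _ ↔ Function.Injective _
    rw [LinearMap.baseChange_eq_ltensor]
  rw [hset]
  refine ⟨Groth.Agent.Lib.SplitInjLocusH3.isOpen_inj_locus φ, ?_⟩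
  intro f hf
  have hf' : ∀ q : PrimeSpectrum R, f ∉ q.asIdeal →
      Function.Injective (φ.baseChange q.asIdeal.ResidueField) := fun q hq => hf hq
  exact ⟨Groth.Agent.Lib.SplitInjLocusH3.localized_map_injective φ f hf', inferInstance,
    Groth.Agent.Lib.SplitInjLocusH3.coker_localized_projective φ f hf'⟩

end Groth.Agent.S6309
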