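import Groth.Statements.S6310
import Mathlib
-- import your own Groth.Agent.* helpers here

set_option autoImplicit false
universe u
open CAlg
set_option maxSynthPendingDepth 3

namespace Groth.Agent.S6310

/-- Let R be a ring, S ⊆ R a multiplicative subset, I ⊆ R an ideal and M a finite R-module. If x₁, …,
x_r ∈ M have images generating S⁻¹(M/IM) as an S⁻¹R-module, then there is f ∈ S + I (f = s + i with
s ∈ S, i ∈ I) such that x₁, …, x_r generate M_f as an R_f-module. -/
theorem result {R : Type u} [CommRing R] (S : Submonoid R) (I : Ideal R) (M : Type u) [AddCommGroup M] [Module R M] [Module.Finite R M] {r : ℕ} (x : Fin r → M) (hx : Submodule.span (Localization S) (Set.range fun j => LocalizedModule.mkLinearMap S (M ⧸ (I • (⊤ : Submodule R M))) (Submodule.Quotient.mk (x j))) = ⊤) : ∃ (s : R) (i : R), s ∈ S ∧ i ∈ I ∧ Submodule.span (Localization.Away (s + i)) (Set.range fun j => LocalizedModule.mkLinearMap (Submonoid.powers (s + i)) M (x j)) = ⊤ := by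
  classical
  set N : Submodule R M := Submodule.span R (Set.range x) with hN
  -- Step 1: elementwise
  have hkey : ∀ m : M, ∃ s ∈ S, s • m ∈ N ⊔ I • (⊤ : Submodule R M) := by
    intro m
    let φ : (Fin r →₀ R) →ₗ[R] (M ⧸ (I • (⊤ : Submodule R M))) :=
      Finsupp.linearCombination R (fun j => (Submodule.Quotient.mk (x j) :
        M ⧸ (I • (⊤ : Submodule R M))))
    have hsurj : Function.Surjective (LocalizedModule.map S φ) := by
      rw [← LinearMap.range_eq_top, eq_top_iff, ← hx, Submodule.span_le]
      rintro _ ⟨j, rfl⟩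
      refine ⟨LocalizedModule.mk (Finsupp.single j 1) 1, ?_⟩
      rw [LocalizedModule.map_mk]
      show LocalizedModule.mk (φ (Finsupp.single j 1)) 1 =
        LocalizedModule.mkLinearMap S _ (Submodule.Quotient.mk (x j))
      rw [LocalizedModule.mkLinearMap_apply]
      congr 1
      simp [φ]
    have hsub := (LinearMap.localizedMap_surjective_iff_subsingleton_localized_coker S φ).1 hsurj
    obtain ⟨s, hs, hs0⟩ := LocalizedModule.subsingleton_iff.1 hsub
      (Submodule.Quotient.mk (Submodule.Quotient.mk m))
    refine ⟨s, hs, ?_⟩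
    rw [← Submodule.Quotient.mk_smul, Submodule.Quotient.mk_eq_zero] at hs0
    obtain ⟨l, hl⟩ := hs0
    rw [← Submodule.Quotient.mk_smul] at hl
    have hl2 : φ l = Submodule.Quotient.mk (Finsupp.linearCombination R x l) := by
      simp only [φ, Finsupp.linearCombination_apply, Finsupp.sum]
      rw [← Submodule.mkQ_apply, map_sum]
      rfl
    rw [hl2, Submodule.Quotient.eq] at hl
    have h3 : s • m = Finsupp.linearCombination R x l -
        (Finsupp.linearCombination R x l - s • m) := by abel
    rw [h3]
    refine Submodule.sub_mem _ (Submodule.mem_sup_left ?_) (Submodule.mem_sup_right hl)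
    rw [hN, ← Finsupp.range_linearCombination]
    exact ⟨l, rfl⟩
  -- Step 2: uniform s
  obtain ⟨t, ht⟩ := Module.Finite.fg_top (R := R) (M := M)
  choose! sf hsf using hkey
  set s : R := ∏ m ∈ t, sf m with hs
  have hsS : s ∈ S := Submonoid.prod_mem _ fun m _ => (hsf m).1
  have hall : ∀ m : M, s • m ∈ N ⊔ I • (⊤ : Submodule R M) := by
    intro m
    have hm : m ∈ Submodule.span R (t : Set M) := by rw [ht]; trivial
    induction hm using Submodule.span_induction with
    | mem m hm =>
      rw [hs, ← Finset.prod_erase_mul _ _ hm, mul_smul]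
      exact Submodule.smul_mem _ _ (hsf m).2
    | zero => rw [smul_zero]; exact zero_mem _
    | add a b _ _ ha hb => rw [smul_add]; exact add_mem ha hb
    | smul c a _ ha => rw [smul_comm]; exact Submodule.smul_mem _ _ ha
  -- Step 3: Cayley-Hamilton on Q = M ⧸ N
  have hrange : LinearMap.range (algebraMap R (Module.End R (M ⧸ N)) s) ≤
      I • (⊤ : Submodule R (M ⧸ N)) := by
    rintro _ ⟨q, rfl⟩
    obtain ⟨m, rfl⟩ := Submodule.Quotient.mk_surjective _ q
    rw [Module.algebraMap_end_apply, ← Submodule.Quotient.mk_smul]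
    obtain ⟨n, hn, y, hy, hny⟩ := Submodule.mem_sup.1 (hall m)
    rw [← hny, Submodule.Quotient.mk_add, (Submodule.Quotient.mk_eq_zero N).2 hn, zero_add]
    have h4 : (I • (⊤ : Submodule R M)).map N.mkQ ≤ I • (⊤ : Submodule R (M ⧸ N)) := by
      rw [Submodule.map_smul'']
      exact Submodule.smul_mono le_rfl le_top
    exact h4 ⟨y, hy, rfl⟩
  obtain ⟨p, hpm, -, hpc, hp0⟩ :=
    LinearMap.exists_monic_and_natDegree_eq_and_coeff_mem_pow_and_aeval_eq_zero R
      (algebraMap R (Module.End R (M ⧸ N)) s) I hrange
  rw [Polynomial.aeval_algebraMap_apply_eq_algebraMap_eval] at hp0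
  have he0 : ∀ m : M, (p.eval s) • m ∈ N := by
    intro m
    have h5 := LinearMap.congr_fun hp0 (Submodule.Quotient.mk m)
    rw [Module.algebraMap_end_apply, LinearMap.zero_apply, ← Submodule.Quotient.mk_smul,
      Submodule.Quotient.mk_eq_zero] at h5
    exact h5
  have he : p.eval s = s ^ p.natDegree + ∑ k ∈ Finset.range p.natDegree, p.coeff k * s ^ k := by
    rw [Polynomial.eval_eq_sum_range, Finset.sum_range_succ, hpm.coeff_natDegree, one_mul,
      add_comm]
  have hi : ∑ k ∈ Finset.range p.natDegree, p.coeff k * s ^ k ∈ I := by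
    refine Ideal.sum_mem _ fun k hk => Ideal.mul_mem_right _ _ ?_
    have hk' : p.natDegree - k ≠ 0 := by
      have := Finset.mem_range.1 hk
      omega
    exact Ideal.pow_le_self hk' (hpc k)
  refine ⟨s ^ p.natDegree, ∑ k ∈ Finset.range p.natDegree, p.coeff k * s ^ k,
    pow_mem hsS _, hi, ?_⟩
  rw [← he]
  set e := p.eval s with hedef
  rw [eq_top_iff]
  intro y _
  have hmem : ∀ m : M, LocalizedModule.mkLinearMap (Submonoid.powers e) M (e • m) ∈
      Submodule.span (Localization.Away e)
        (Set.range fun j => LocalizedModule.mkLinearMap (Submonoid.powers e) M (x j)) := by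
    intro m
    have h6 := he0 m
    rw [hN, Submodule.mem_span_range_iff_exists_fun] at h6
    obtain ⟨c, hc⟩ := h6
    rw [← hc, map_sum]
    refine Submodule.sum_mem _ fun j _ => ?_
    rw [map_smul]
    exact Submodule.smul_of_tower_mem _ _ (Submodule.subset_span ⟨j, rfl⟩)
  induction y using LocalizedModule.induction_on with
  | h m u =>
    have h7 : LocalizedModule.mk m u =
        Localization.mk (1 : R) u •
          (Localization.mk (1 : R)
            (⟨e, Submonoid.mem_powers e⟩ : Submonoid.powers e) •
            LocalizedModule.mkLinearMap (Submonoid.powers e) M (e • m)) := by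
      rw [LocalizedModule.mkLinearMap_apply, LocalizedModule.mk_smul_mk,
        LocalizedModule.mk_smul_mk, one_smul, one_smul, mul_one]
      have h8 : LocalizedModule.mk (e • m) ((⟨e, Submonoid.mem_powers e⟩ : Submonoid.powers e))
          = LocalizedModule.mk m 1 :=
        LocalizedModule.mk_cancel (⟨e, Submonoid.mem_powers e⟩ : Submonoid.powers e) m
      rw [← mul_one u, ← LocalizedModule.mk_cancel_common_left
        (⟨e, Submonoid.mem_powers e⟩ : Submonoid.powers e) (u * 1) m]
      congr 1
      exact mul_comm _ _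
    rw [h7]
    exact Submodule.smul_mem _ _ (Submodule.smul_mem _ _ (hmem m))

end Groth.Agent.S6310
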