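import Groth.Statements.S6312
import Mathlib.RingTheory.Length
-- import your own Groth.Agent.* helpers here

set_option autoImplicit false
universe u
open CAlg

namespace Groth.Agent.S6312

/-- Let R be a ring, M an R-module and S ⊆ R a multiplicative subset. Then length_{S⁻¹R}(S⁻¹M) ≤
length_R(M). -/
theorem result {R : Type u} [CommRing R] (S : Submonoid R) (M : Type u) [AddCommGroup M] [Module R M] : Module.length (Localization S) (LocalizedModule S M) ≤ Module.length R M := by
  let φ : Submodule (Localization S) (LocalizedModule S M) → Submodule R M :=
    fun N => (N.restrictScalars R).comap (LocalizedModule.mkLinearMap S M)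
  have hmono : Monotone φ := fun N₁ N₂ h x hx => h hx
  have hinj : Function.Injective φ := by
    intro N₁ N₂ h
    have key : ∀ N₁ N₂ : Submodule (Localization S) (LocalizedModule S M), φ N₁ = φ N₂ → N₁ ≤ N₂ := by
      intro N₁ N₂ h x hx
      induction x using LocalizedModule.induction_on with
      | h m s =>
        have h1 : LocalizedModule.mk m 1 ∈ N₁ := by
          have : LocalizedModule.mk m (1 : S) = (algebraMap R (Localization S) s) • LocalizedModule.mk m s := by
            rw [algebraMap_smul, LocalizedModule.smul'_mk]
            exact (LocalizedModule.mk_cancel s m).symm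
          rw [this]
          exact N₁.smul_mem _ hx
        have h2 : m ∈ φ N₁ := h1
        rw [h] at h2
        have h3 : LocalizedModule.mk m 1 ∈ N₂ := h2
        have : LocalizedModule.mk m s = (Localization.mk 1 s : Localization S) • LocalizedModule.mk m (1 : S) := by
          rw [LocalizedModule.mk_smul_mk, one_smul, mul_one]
        rw [this]
        exact N₂.smul_mem _ h3
    exact le_antisymm (key N₁ N₂ h) (key N₂ N₁ h.symm)
  have hstrict : StrictMono φ := hmono.strictMono_of_injective hinj
  have := Order.krullDim_le_of_strictMono φ hstrict
  rw [← Module.coe_length, ← Module.coe_length] at this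
  exact_mod_cast this

end Groth.Agent.S6312
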