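import Groth.Statements.S6318
import Mathlib
import Groth.Agent.Lib.FinFreeRes_helper7

set_option autoImplicit false
universe u
open CategoryTheory
open CAlg

namespace Groth.Agent.S6318

/-- Let R be a Noetherian ring and M a finite R-module. Then M has a resolution … → F₂ → F₁ → F₀ → M → 0
with every Fᵢ finite free; stated as the existence of a projective resolution of M in the category
of R-modules all of whose terms are finite free. -/
theorem result (R : Type u) [CommRing R] [IsNoetherianRing R] (M : Type u) [AddCommGroup M] [Module R M] [Module.Finite R M] : ∃ F : ProjectiveResolution (ModuleCat.of R M), ∀ n : ℕ, Module.Finite R (F.complex.X n) ∧ Module.Free R (F.complex.X n) := by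
  exact ⟨Groth.Agent.Lib.FinFreeResH7.res ⟨ModuleCat.of R M, inferInstanceAs (Module.Finite R M)⟩,
    fun n => Groth.Agent.Lib.FinFreeResH7.res_finite_free _ n⟩

end Groth.Agent.S6318
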