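import Groth.Statements.S6321
import Mathlib
-- import your own Groth.Agent.* helpers here

set_option autoImplicit false
universe u
open CAlg
set_option maxSynthPendingDepth 3

namespace Groth.Agent.S6321

/-- Let R be a ring and (Sᵢ, φᵢⱼ) a directed system of faithfully flat R-algebras whose transition maps
are R-algebra maps. Then S = colim Sᵢ is a faithfully flat R-algebra: for any index i the composite
R → Sᵢ → S is faithfully flat. -/
theorem result {R : Type u} [CommRing R] {ι : Type u} [Preorder ι] [Nonempty ι] [IsDirected ι (· ≤ ·)] (G : ι → Type u) [∀ i, CommRing (G i)] [∀ i, Algebra R (G i)] (f : ∀ i j, i ≤ j → G i →+* G j) [DirectedSystem G fun i j h => f i j h] (hcompat : ∀ i j (h : i ≤ j), (f i j h).comp (algebraMap R (G i)) = algebraMap R (G j)) (hff : ∀ i, (algebraMap R (G i)).FaithfullyFlat) (i : ι) : ((Ring.DirectLimit.of G (fun i j h => f i j h) i).comp (algebraMap R (G i))).FaithfullyFlat := by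
  classical
  have hg : ∀ j r, Ring.DirectLimit.of G (fun i j h => f i j h) j (algebraMap R (G j) r) =
      ((Ring.DirectLimit.of G (fun i j h => f i j h) i).comp (algebraMap R (G i))) r := by
    intro j r
    obtain ⟨k, hik, hjk⟩ := exists_ge_ge i j
    have h1 : f i k hik (algebraMap R (G i) r) = algebraMap R (G k) r :=
      RingHom.congr_fun (hcompat i k hik) r
    have h2 : f j k hjk (algebraMap R (G j) r) = algebraMap R (G k) r :=
      RingHom.congr_fun (hcompat j k hjk) r
    rw [RingHom.comp_apply, ← Ring.DirectLimit.of_f hik, ← Ring.DirectLimit.of_f hjk, h1, h2]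
  have hlift : ∀ (n : ℕ) (c : Fin n → Ring.DirectLimit G (fun i j h => f i j h)),
      ∃ j, ∃ t : Fin n → G j, ∀ a, Ring.DirectLimit.of G (fun i j h => f i j h) j (t a) = c a := by
    intro n
    induction n with
    | zero => intro c; exact ⟨i, Fin.elim0, fun a => a.elim0⟩
    | succ n ih =>
      intro c
      obtain ⟨j, t, ht⟩ := ih (fun a => c a.succ)
      obtain ⟨j0, t0, ht0⟩ := Ring.DirectLimit.exists_of (c 0)
      obtain ⟨k, hjk, hj0k⟩ := exists_ge_ge j j0
      refine ⟨k, Fin.cons (f j0 k hj0k t0) (fun a => f j k hjk (t a)), ?_⟩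
      intro a
      refine Fin.cases ?_ ?_ a
      · rw [Fin.cons_zero, Ring.DirectLimit.of_f, ht0]
      · intro a
        rw [Fin.cons_succ, Ring.DirectLimit.of_f, ht]
  set g : R →+* Ring.DirectLimit G (fun i j h => f i j h) :=
    (Ring.DirectLimit.of G (fun i j h => f i j h) i).comp (algebraMap R (G i)) with hgdef
  letI : Algebra R (Ring.DirectLimit G (fun i j h => f i j h)) := g.toAlgebra
  have hsmul : ∀ (r : R) (s : Ring.DirectLimit G (fun i j h => f i j h)), r • s = g r * s :=
    fun r s => rfl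
  have hffk : ∀ k, Module.FaithfullyFlat R (G k) := fun k =>
    RingHom.faithfullyFlat_algebraMap_iff.1 (hff k)
  have hflat : Module.Flat R (Ring.DirectLimit G (fun i j h => f i j h)) := by
    apply Module.Flat.of_forall_isTrivialRelation
    intro l c x hcx
    obtain ⟨j, t, ht⟩ := hlift l x
    have h1 : Ring.DirectLimit.of G (fun i j h => f i j h) j
        (∑ a, algebraMap R (G j) (c a) * t a) = 0 := by
      rw [map_sum, ← hcx]
      refine Finset.sum_congr rfl fun a _ => ?_
      rw [map_mul, hg, ht, hsmul]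
    obtain ⟨k, hjk, hk⟩ := Ring.DirectLimit.of.zero_exact h1
    have h2 : ∑ a, c a • (f j k hjk (t a)) = 0 := by
      rw [← hk, map_sum]
      refine Finset.sum_congr rfl fun a _ => ?_
      rw [map_mul, Algebra.smul_def]
      congr 1
      exact (RingHom.congr_fun (hcompat j k hjk) (c a)).symm
    obtain ⟨m, a, y, hxy, hay⟩ := Module.Flat.isTrivialRelation_of_sum_smul_eq_zero
      (R := R) (M := G k) (f := c) (x := fun a => f j k hjk (t a)) h2
    refine ⟨m, a, fun b => Ring.DirectLimit.of G (fun i j h => f i j h) k (y b), ?_, hay⟩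
    intro i'
    have hxy' : f j k hjk (t i') = ∑ b, a i' b • y b := hxy i'
    rw [← ht i', ← Ring.DirectLimit.of_f hjk, hxy', map_sum]
    refine Finset.sum_congr rfl fun b _ => ?_
    rw [Algebra.smul_def, map_mul, hg, hsmul]
  have hmap : ∀ (m : Ideal R) z, z ∈ Ideal.map g m →
      ∃ k, ∃ w ∈ Ideal.map (algebraMap R (G k)) m,
        Ring.DirectLimit.of G (fun i j h => f i j h) k w = z := by
    intro m z hz
    have hfm : ∀ j k (hjk : j ≤ k) w, w ∈ Ideal.map (algebraMap R (G j)) m →
        f j k hjk w ∈ Ideal.map (algebraMap R (G k)) m := by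
      intro j k hjk w hw
      have h3 := Ideal.mem_map_of_mem (f j k hjk) hw
      rwa [Ideal.map_map, hcompat j k hjk] at h3
    induction hz using Submodule.span_induction with
    | mem z hz =>
      obtain ⟨r, hr, rfl⟩ := hz
      exact ⟨i, algebraMap R (G i) r, Ideal.mem_map_of_mem _ hr, rfl⟩
    | zero => exact ⟨i, 0, zero_mem _, map_zero _⟩
    | add z₁ z₂ _ _ h₁ h₂ =>
      obtain ⟨k₁, w₁, hw₁, rfl⟩ := h₁
      obtain ⟨k₂, w₂, hw₂, rfl⟩ := h₂
      obtain ⟨k, hk₁, hk₂⟩ := exists_ge_ge k₁ k₂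
      refine ⟨k, f k₁ k hk₁ w₁ + f k₂ k hk₂ w₂,
        add_mem (hfm _ _ hk₁ _ hw₁) (hfm _ _ hk₂ _ hw₂), ?_⟩
      rw [map_add, Ring.DirectLimit.of_f, Ring.DirectLimit.of_f]
    | smul a z _ h₁ =>
      obtain ⟨k₁, w₁, hw₁, rfl⟩ := h₁
      obtain ⟨k₂, t, rfl⟩ := Ring.DirectLimit.exists_of a
      obtain ⟨k, hk₁, hk₂⟩ := exists_ge_ge k₁ k₂
      refine ⟨k, f k₂ k hk₂ t * f k₁ k hk₁ w₁,
        Ideal.mul_mem_left _ _ (hfm _ _ hk₁ _ hw₁), ?_⟩
      rw [map_mul, Ring.DirectLimit.of_f, Ring.DirectLimit.of_f, smul_eq_mul]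
  have hfaith : Module.FaithfullyFlat R (Ring.DirectLimit G (fun i j h => f i j h)) := by
    refine ⟨fun m hm htop => ?_⟩
    rw [Ideal.smul_top_eq_map, Submodule.restrictScalars_eq_top_iff] at htop
    have h1 : (1 : Ring.DirectLimit G (fun i j h => f i j h)) ∈ Ideal.map g m := by
      have : Ideal.map g m = ⊤ := htop
      rw [this]; trivial
    obtain ⟨k, w, hw, hw1⟩ := hmap m 1 h1
    have h2 : Ring.DirectLimit.of G (fun i j h => f i j h) k (w - 1) = 0 := by
      rw [map_sub, hw1, map_one, sub_self]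
    obtain ⟨k', hkk', hk'⟩ := Ring.DirectLimit.of.zero_exact h2
    rw [map_sub, map_one, sub_eq_zero] at hk'
    have h3 : (1 : G k') ∈ Ideal.map (algebraMap R (G k')) m := by
      rw [← hk']
      have h4 := Ideal.mem_map_of_mem (f k k' hkk') hw
      rwa [Ideal.map_map, hcompat k k' hkk'] at h4
    have h5 : Ideal.map (algebraMap R (G k')) m = ⊤ := (Ideal.eq_top_iff_one _).2 h3
    have h6 := Ideal.comap_map_eq_self_of_faithfullyFlat (B := G k') m
    rw [h5, Ideal.comap_top] at h6
    exact hm.ne_top h6.symm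
  exact hfaith

end Groth.Agent.S6321
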