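import Groth.Statements.S6323
import Mathlib
-- import your own Groth.Agent.* helpers here

set_option autoImplicit false
universe u
open CAlg
set_option maxSynthPendingDepth 3

namespace Groth.Agent.S6323

/-- Let A → B be a ring homomorphism and S ⊆ A, S' ⊆ B multiplicative subsets with S carried into S', so
that there is an induced homomorphism S⁻¹A → (S')⁻¹B. For a linear map f : M → M' between
(S')⁻¹B-modules, f is universally injective over A (scalars restricted along A → (S')⁻¹B) precisely
when it is universally injective over S⁻¹A (scalars restricted along S⁻¹A → (S')⁻¹B). -/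
theorem result {A B : Type u} [CommRing A] [CommRing B] [Algebra A B] (S : Submonoid A) (S' : Submonoid B) (hSS' : ∀ s ∈ S, algebraMap A B s ∈ S') (As Bs : Type u) [CommRing As] [CommRing Bs] [Algebra A As] [IsLocalization S As] [Algebra B Bs] [IsLocalization S' Bs] [Algebra As Bs] [Algebra A Bs] [IsScalarTower A B Bs] [IsScalarTower A As Bs] {M M' : Type u} [AddCommGroup M] [AddCommGroup M'] [Module Bs M] [Module Bs M'] [Module As M] [Module As M'] [Module A M] [Module A M'] [IsScalarTower As Bs M] [IsScalarTower As Bs M'] [IsScalarTower A As M] [IsScalarTower A As M'] [IsScalarTower A Bs M] [IsScalarTower A Bs M'] (f : M →ₗ[Bs] M') : CAlgX.UniversallyInjective A (f.restrictScalars A) ↔ CAlgX.UniversallyInjective As (f.restrictScalars As) := by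
  constructor
  · intro h Q' _ _
    letI : Module A Q' := Module.compHom Q' (algebraMap A As)
    haveI : IsScalarTower A As Q' := IsScalarTower.of_algebraMap_smul fun _ _ => rfl
    let e₁ := IsLocalization.moduleTensorEquiv S As M Q'
    let e₂ := IsLocalization.moduleTensorEquiv S As M' Q'
    have hnat : ∀ t, e₂ ((f.restrictScalars As).rTensor Q' t) =
        (f.restrictScalars A).rTensor Q' (e₁ t) := by
      intro t
      induction t using TensorProduct.induction_on with
      | zero => simp
      | tmul m q => rfl
      | add x y hx hy => simp only [map_add, hx, hy]
    intro x y hxy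
    apply e₁.injective
    apply h Q'
    rw [← hnat, ← hnat, hxy]
  · intro h Q _ _
    let c₁ := TensorProduct.AlgebraTensorModule.cancelBaseChange A As As M Q
    let c₂ := TensorProduct.AlgebraTensorModule.cancelBaseChange A As As M' Q
    have hnat : ∀ t, c₂ ((f.restrictScalars As).rTensor (TensorProduct A As Q) t) =
        (f.restrictScalars A).rTensor Q (c₁ t) := by
      intro t
      induction t using TensorProduct.induction_on with
      | zero => simp
      | tmul m z =>
        induction z using TensorProduct.induction_on with
        | zero => simp
        | tmul a q => simp [c₁, c₂]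
        | add x y hx hy => simp only [TensorProduct.tmul_add, map_add, hx, hy]
      | add x y hx hy => simp only [map_add, hx, hy]
    intro x y hxy
    obtain ⟨x', rfl⟩ := c₁.surjective x
    obtain ⟨y', rfl⟩ := c₁.surjective y
    rw [← hnat, ← hnat] at hxy
    have h2 := h (TensorProduct A As Q) (c₂.injective hxy)
    rw [h2]

end Groth.Agent.S6323
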