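import Groth.Statements.S6324
import Mathlib

set_option autoImplicit false
universe u
open CAlg

namespace Groth.Agent.S6324

/-- Let R → S be a ring map, I ⊆ R an ideal and A = Σ Iⁿtⁿ ⊆ R[t] the Rees algebra of I. For s ∈ S,
being integral over I is equivalent to s·t ∈ S[t] being integral over A (via A ⊆ R[t] → S[t]). -/
theorem result {R S : Type u} [CommRing R] [CommRing S] [Algebra R S] (I : Ideal R) (s : S) : W4stkalgebra1.IsIntegralOverIdeal I s ↔ ((Polynomial.mapRingHom (algebraMap R S)).comp (reesAlgebra I).val.toRingHom).IsIntegralElem (Polynomial.C s * Polynomial.X) := by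
  classical
  rcases subsingleton_or_nontrivial R with hR | hR
  · haveI : Subsingleton S := by
      refine ⟨fun a b => ?_⟩
      have h1 : (1 : S) = 0 := by
        rw [← map_one (algebraMap R S), Subsingleton.elim (1 : R) 0, map_zero]
      rw [← mul_one a, ← mul_one b, h1, mul_zero, mul_zero]
    constructor
    · intro _
      refine ⟨1, Polynomial.monic_one, ?_⟩
      rw [Polynomial.eval₂_one]
      exact Polynomial.ext (fun n => Subsingleton.elim _ _)
    · intro _
      exact ⟨1, Polynomial.monic_one, fun j hj => by simp at hj, Subsingleton.elim _ _⟩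
  set f := ((Polynomial.mapRingHom (algebraMap R S)).comp (reesAlgebra I).val.toRingHom) with hf
  constructor
  · rintro ⟨p, hpm, hpc, hps⟩
    set d := p.natDegree with hd
    have hg : ∀ j, Polynomial.monomial (d - j) (p.coeff j) ∈ reesAlgebra I := by
      intro j
      rw [mem_reesAlgebra_iff]
      intro i
      rw [Polynomial.coeff_monomial]
      split_ifs with h
      · rcases lt_trichotomy j d with hjd | hjd | hjd
        · rw [← h]; exact hpc j hjd
        · rw [← h, hjd, Nat.sub_self, pow_zero, Ideal.one_eq_top]; exact Submodule.mem_top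
        · rw [Polynomial.coeff_eq_zero_of_natDegree_lt hjd]; exact zero_mem _
      · exact zero_mem _
    let c : ℕ → reesAlgebra I := fun j => ⟨Polynomial.monomial (d - j) (p.coeff j), hg j⟩
    let q' : Polynomial (reesAlgebra I) :=
      ∑ j ∈ Finset.range d, Polynomial.C (c j) * Polynomial.X ^ j
    have hq'deg : q'.degree < d := by
      refine lt_of_le_of_lt (Polynomial.degree_sum_le _ _) ?_
      refine (Finset.sup_lt_iff (show (⊥ : WithBot ℕ) < ((d : ℕ) : WithBot ℕ) from
        WithBot.bot_lt_coe d)).mpr ?_
      intro j hj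
      exact lt_of_le_of_lt (Polynomial.degree_C_mul_X_pow_le j (c j))
        (Nat.cast_lt.mpr (Finset.mem_range.mp hj))
    refine ⟨Polynomial.X ^ d + q', Polynomial.monic_X_pow_add hq'deg, ?_⟩
    rw [Polynomial.eval₂_add, Polynomial.eval₂_pow, Polynomial.eval₂_X, Polynomial.eval₂_finsetSum]
    have hterm : ∀ j ∈ Finset.range d,
        Polynomial.eval₂ f (Polynomial.C s * Polynomial.X) (Polynomial.C (c j) * Polynomial.X ^ j)
          = Polynomial.monomial d (algebraMap R S (p.coeff j) * s ^ j) := by
      intro j hj
      have hjd : j ≤ d := (Finset.mem_range.mp hj).le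
      rw [Polynomial.eval₂_mul, Polynomial.eval₂_C, Polynomial.eval₂_pow, Polynomial.eval₂_X]
      show Polynomial.map (algebraMap R S) (Polynomial.monomial (d - j) (p.coeff j)) * _ = _
      rw [Polynomial.map_monomial, mul_pow, ← Polynomial.C_pow,
        Polynomial.C_mul_X_pow_eq_monomial, Polynomial.monomial_mul_monomial,
        Nat.sub_add_cancel hjd]
    rw [Finset.sum_congr rfl hterm, mul_pow, ← Polynomial.C_pow,
      Polynomial.C_mul_X_pow_eq_monomial, ← map_sum, ← map_add]
    have hcd : p.coeff d = 1 := hpm.coeff_natDegree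
    have h := hps
    rw [Polynomial.eval₂_eq_sum_range, ← hd, Finset.sum_range_succ, hcd, map_one, one_mul] at h
    rw [add_comm, h, map_zero]
  · rintro ⟨q, hqm, hqs⟩
    set d := q.natDegree with hd
    let a : ℕ → R := fun j => ((q.coeff j : reesAlgebra I) : Polynomial R).coeff (d - j)
    have ha : ∀ j, a j ∈ I ^ (d - j) :=
      fun j => (mem_reesAlgebra_iff I _).mp (q.coeff j).2 (d - j)
    let p' : Polynomial R := ∑ j ∈ Finset.range d, Polynomial.C (a j) * Polynomial.X ^ j
    have hp'deg : p'.degree < d := by
      refine lt_of_le_of_lt (Polynomial.degree_sum_le _ _) ?_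
      refine (Finset.sup_lt_iff (show (⊥ : WithBot ℕ) < ((d : ℕ) : WithBot ℕ) from
        WithBot.bot_lt_coe d)).mpr ?_
      intro j hj
      exact lt_of_le_of_lt (Polynomial.degree_C_mul_X_pow_le j (a j))
        (Nat.cast_lt.mpr (Finset.mem_range.mp hj))
    have hpm : (Polynomial.X ^ d + p').Monic := Polynomial.monic_X_pow_add hp'deg
    have hpd : (Polynomial.X ^ d + p').natDegree = d := by
      rw [Polynomial.natDegree_add_eq_left_of_degree_lt, Polynomial.natDegree_X_pow]
      rw [Polynomial.degree_X_pow]; exact hp'deg
    have hpcoeff : ∀ j, j < d → (Polynomial.X ^ d + p').coeff j = a j := by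
      intro j hj
      rw [Polynomial.coeff_add, Polynomial.coeff_X_pow, if_neg hj.ne, zero_add,
        Polynomial.finsetSum_coeff]
      simp only [Polynomial.coeff_C_mul_X_pow]
      rw [Finset.sum_eq_single j]
      · rw [if_pos rfl]
      · intro i _ hij; rw [if_neg (Ne.symm hij)]
      · intro hnot; exact absurd (Finset.mem_range.mpr hj) hnot
    refine ⟨Polynomial.X ^ d + p', hpm, ?_, ?_⟩
    · intro j hj
      rw [hpd] at hj ⊢
      rw [hpcoeff j hj]
      exact ha j
    · rw [Polynomial.eval₂_add, Polynomial.eval₂_pow, Polynomial.eval₂_X,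
        Polynomial.eval₂_finsetSum]
      simp only [Polynomial.eval₂_mul, Polynomial.eval₂_C, Polynomial.eval₂_pow,
        Polynomial.eval₂_X]
      have h := congrArg (fun P : Polynomial S => P.coeff d) hqs
      simp only [Polynomial.coeff_zero] at h
      rw [Polynomial.eval₂_eq_sum_range, ← hd, Polynomial.finsetSum_coeff] at h
      have hterm : ∀ j ∈ Finset.range (d + 1),
          (f (q.coeff j) * (Polynomial.C s * Polynomial.X) ^ j).coeff d
            = algebraMap R S (a j) * s ^ j := by
        intro j hj
        have hjd : j ≤ d := Nat.lt_succ_iff.mp (Finset.mem_range.mp hj)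
        rw [mul_pow, ← Polynomial.C_pow, ← mul_assoc, Polynomial.coeff_mul_X_pow', if_pos hjd,
          Polynomial.coeff_mul_C]
        show (Polynomial.map (algebraMap R S) ((q.coeff j : reesAlgebra I) : Polynomial R)).coeff
          (d - j) * s ^ j = _
        rw [Polynomial.coeff_map]
      rw [Finset.sum_congr rfl hterm, Finset.sum_range_succ] at h
      have hqd : q.coeff d = 1 := hqm.coeff_natDegree
      have had : a d = 1 := by
        show ((q.coeff d : reesAlgebra I) : Polynomial R).coeff (d - d) = 1
        rw [hqd, Nat.sub_self]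
        simp
      rw [had, map_one, one_mul] at h
      rw [add_comm]; exact h

end Groth.Agent.S6324
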