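import Groth.Statements.S6325
import Mathlib
import Groth.Agent.S6324

set_option autoImplicit false
universe u
open CAlg

namespace Groth.Agent.S6325

/-- Let R → S be a ring map and I ⊆ R an ideal. The elements of S integral over I form an R-submodule of
S; moreover, the product s s' is integral over I for any s ∈ S integral over R and any s' ∈ S
integral over I. -/
theorem result {R S : Type u} [CommRing R] [CommRing S] [Algebra R S] (I : Ideal R) : (∃ N : Submodule R S, ∀ s : S, s ∈ N ↔ W4stkalgebra1.IsIntegralOverIdeal I s) ∧ (∀ s s' : S, IsIntegral R s → W4stkalgebra1.IsIntegralOverIdeal I s' → W4stkalgebra1.IsIntegralOverIdeal I (s * s')) := by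
  classical
  set f := ((Polynomial.mapRingHom (algebraMap R S)).comp (reesAlgebra I).val.toRingHom) with hf
  have key : ∀ s : S, W4stkalgebra1.IsIntegralOverIdeal I s ↔
      f.IsIntegralElem (Polynomial.C s * Polynomial.X) :=
    fun s => Groth.Agent.S6324.result I s
  have hC : ∀ r : R, f (algebraMap R (reesAlgebra I) r) = Polynomial.C (algebraMap R S r) := by
    intro r
    have h1 : ((algebraMap R (reesAlgebra I) r : reesAlgebra I) : Polynomial R)
        = Polynomial.C r := rfl
    show Polynomial.map (algebraMap R S)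
      ((algebraMap R (reesAlgebra I) r : reesAlgebra I) : Polynomial R) = _
    rw [h1, Polynomial.map_C]
  refine ⟨⟨{ carrier := {s | W4stkalgebra1.IsIntegralOverIdeal I s}
             add_mem' := ?_, zero_mem' := ?_, smul_mem' := ?_ }, fun s => Iff.rfl⟩, ?_⟩
  · intro a b ha hb
    have ha' : W4stkalgebra1.IsIntegralOverIdeal I a := ha
    have hb' : W4stkalgebra1.IsIntegralOverIdeal I b := hb
    show W4stkalgebra1.IsIntegralOverIdeal I (a + b)
    rw [key] at ha' hb' ⊢
    rw [Polynomial.C_add, add_mul]
    exact RingHom.IsIntegralElem.add f ha' hb'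
  · show W4stkalgebra1.IsIntegralOverIdeal I 0
    rw [key, Polynomial.C_0, zero_mul]
    exact RingHom.isIntegralElem_zero f
  · intro r a ha
    show W4stkalgebra1.IsIntegralOverIdeal I (r • a)
    have ha' : W4stkalgebra1.IsIntegralOverIdeal I a := ha
    rw [key] at ha' ⊢
    rw [Algebra.smul_def, Polynomial.C_mul, mul_assoc, ← hC r]
    exact RingHom.IsIntegralElem.mul f (RingHom.isIntegralElem_map f) ha'
  · intro s s' hs hs'
    rw [key] at hs' ⊢
    rw [Polynomial.C_mul, mul_assoc]
    refine RingHom.IsIntegralElem.mul f ?_ hs'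
    obtain ⟨p, hpm, hps⟩ := hs
    refine ⟨p.map (algebraMap R (reesAlgebra I)), hpm.map _, ?_⟩
    rw [Polynomial.eval₂_map]
    have hcomp : f.comp (algebraMap R (reesAlgebra I)) = Polynomial.C.comp (algebraMap R S) :=
      RingHom.ext hC
    rw [hcomp, ← Polynomial.hom_eval₂, hps, map_zero]

end Groth.Agent.S6325
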