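import Groth.Statements.S6330
import Groth.Agent.Lib.SurjLocus2_helper3
-- import your own Groth.Agent.* helpers here

set_option autoImplicit false
universe u
open scoped TensorProduct
set_option maxSynthPendingDepth 3
open CAlg

namespace Groth.Agent.S6330

/-- Let R be a ring and φ : P₁ → P₂ a map of finite projective R-modules. The set W of primes p of R
such that φ ⊗ κ(p) is surjective is open, and for every f ∈ R with D(f) ⊆ W the map (P₁)_f → (P₂)_f
is surjective and Ker(φ)_f is a finite projective module over R_f. -/
theorem result {R : Type u} [CommRing R] {P₁ P₂ : Type u} [AddCommGroup P₁] [Module R P₁] [AddCommGroup P₂] [Module R P₂] [Module.Finite R P₁] [Module.Projective R P₁] [Module.Finite R P₂] [Module.Projective R P₂] (φ : P₁ →ₗ[R] P₂) : IsOpen {p : PrimeSpectrum R | Function.Surjective (φ.lTensor p.asIdeal.ResidueField)} ∧ ∀ f : R, (↑(PrimeSpectrum.basicOpen f) : Set (PrimeSpectrum R)) ⊆ {p : PrimeSpectrum R | Function.Surjective (φ.lTensor p.asIdeal.ResidueField)} → Function.Surjective (LocalizedModule.map (Submonoid.powers f) φ) ∧ Module.Finite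 (Localization.Away f) (LocalizedModule (Submonoid.powers f) (LinearMap.ker φ)) ∧ Module.Projective (Localization.Away f) (LocalizedModule (Submonoid.powers f) (LinearMap.ker φ)) := by
  have hset : {p : PrimeSpectrum R | Function.Surjective (φ.lTensor p.asIdeal.ResidueField)} =
      {p : PrimeSpectrum R | Function.Surjective
        (LocalizedModule.map p.asIdeal.primeCompl φ)} := by
    ext p
    exact (Groth.Agent.Lib.SurjLocus.surj_at_iff_lTensor φ p).symm
  rw [hset]
  refine ⟨Groth.Agent.Lib.SurjLocus.isOpen_surj_locus φ, fun f hf => ?_⟩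
  have hsurj := Groth.Agent.Lib.SurjLocus.surj_away_of_basicOpen_subset φ f hf
  obtain ⟨h1, h2⟩ := Groth.Agent.Lib.SurjLocus.ker_finite_projective
    (LocalizedModule.map (Submonoid.powers f) φ) hsurj
  let e := Groth.Agent.Lib.SurjLocus.kerLocEquiv (Submonoid.powers f) φ
  exact ⟨hsurj, Module.Finite.equiv e.symm, Module.Projective.of_equiv e.symm⟩

end Groth.Agent.S6330
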