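import Groth.Statements.S6331
import Mathlib.Dynamics.Newton
-- import your own Groth.Agent.* helpers here

set_option autoImplicit false
universe u
open CAlg

namespace Groth.Agent.S6331

/-- Let R be a ring, I ⊆ R an ideal all of whose elements are nilpotent, and n ≥ 1 an integer whose
image in R/I is invertible. Then (1) raising to the n-th power is a bijection of the subset 1 + I of
R onto itself: for every y ∈ I there is exactly one x ∈ I with (1 + x)ⁿ = 1 + y; (2) a unit u of R
has an n-th root in R exactly when the residue class of u has an n-th root in R/I. -/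
theorem result {R : Type u} [CommRing R] (I : Ideal R) (hI : ∀ x ∈ I, IsNilpotent x) (n : ℕ) (hn : 1 ≤ n) (hinv : IsUnit ((n : ℕ) : R ⧸ I)) : (∀ y ∈ I, ∃! x : R, x ∈ I ∧ (1 + x) ^ n = 1 + y) ∧ (∀ u : Rˣ, (∃ v : R, v ^ n = (u : R)) ↔ ∃ w : R ⧸ I, w ^ n = Ideal.Quotient.mk I (u : R)) := by
  classical
  -- `n` is a unit of `R`
  have hn_unit : IsUnit ((n : ℕ) : R) := by
    obtain ⟨w, hw⟩ := hinv.exists_right_inv
    obtain ⟨w', rfl⟩ := Ideal.Quotient.mk_surjective w
    have hmem : ((n : ℕ) : R) * w' - 1 ∈ I := by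
      rw [← Ideal.Quotient.eq_zero_iff_mem, map_sub, map_mul, map_one, map_natCast, hw, sub_self]
    have hu : IsUnit (((n : ℕ) : R) * w') := by
      have : ((n : ℕ) : R) * w' = 1 + (((n : ℕ) : R) * w' - 1) := by ring
      rw [this]
      exact (hI _ hmem).isUnit_one_add
    exact isUnit_of_mul_isUnit_left hu
  -- the polynomial whose roots we want
  have hroot : ∀ {A : Type u} [CommRing A] (y x : A),
      Polynomial.aeval x ((1 + Polynomial.X) ^ n - Polynomial.C (1 + y) : Polynomial A) =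
        (1 + x) ^ n - (1 + y) := by
    intro A _ y x
    simp
  have hder : ∀ {A : Type u} [CommRing A] (y : A),
      Polynomial.aeval (0 : A) (Polynomial.derivative
        ((1 + Polynomial.X) ^ n - Polynomial.C (1 + y) : Polynomial A)) = ((n : ℕ) : A) := by
    intro A _ y
    simp [Polynomial.derivative_pow]
  have key : ∀ y ∈ I, ∃! x : R, x ∈ I ∧ (1 + x) ^ n = 1 + y := by
    intro y hy
    have hnil0 : IsNilpotent (Polynomial.aeval (0 : R)
        ((1 + Polynomial.X) ^ n - Polynomial.C (1 + y) : Polynomial R)) := by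
      rw [hroot]
      have : (1 + (0 : R)) ^ n - (1 + y) = -y := by ring
      rw [this]
      exact (hI y hy).neg
    have hunit0 : IsUnit (Polynomial.aeval (0 : R) (Polynomial.derivative
        ((1 + Polynomial.X) ^ n - Polynomial.C (1 + y) : Polynomial R))) := by
      rw [hder]; exact hn_unit
    obtain ⟨r, ⟨hr_nil, hr_root⟩, hr_uniq⟩ :=
      Polynomial.existsUnique_nilpotent_sub_and_aeval_eq_zero hnil0 hunit0
    rw [hroot, sub_eq_zero] at hr_root
    rw [zero_sub, isNilpotent_neg_iff] at hr_nil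
    -- `r ∈ I`, by uniqueness in the quotient
    have hrI : r ∈ I := by
      rw [← Ideal.Quotient.eq_zero_iff_mem]
      have hnilq : IsNilpotent (Polynomial.aeval (0 : R ⧸ I)
          ((1 + Polynomial.X) ^ n - Polynomial.C (1 + (0 : R ⧸ I)) : Polynomial (R ⧸ I))) := by
        rw [hroot]; simp
      have hunitq : IsUnit (Polynomial.aeval (0 : R ⧸ I) (Polynomial.derivative
          ((1 + Polynomial.X) ^ n - Polynomial.C (1 + (0 : R ⧸ I)) : Polynomial (R ⧸ I)))) := by
        rw [hder]; exact hinv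
      have huq := Polynomial.existsUnique_nilpotent_sub_and_aeval_eq_zero hnilq hunitq
      refine huq.unique (y₁ := Ideal.Quotient.mk I r) (y₂ := 0) ⟨?_, ?_⟩ ⟨?_, ?_⟩
      · rw [zero_sub, isNilpotent_neg_iff]; exact hr_nil.map (Ideal.Quotient.mk I)
      · rw [hroot, ← map_one (Ideal.Quotient.mk I), ← map_add, ← map_pow, hr_root, map_add,
          map_one, Ideal.Quotient.eq_zero_iff_mem.mpr hy]
        simp
      · simp
      · rw [hroot]; simp
    refine ⟨r, ⟨hrI, hr_root⟩, ?_⟩
    rintro x ⟨hxI, hx⟩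
    apply hr_uniq
    refine ⟨?_, ?_⟩
    · rw [zero_sub, isNilpotent_neg_iff]; exact hI x hxI
    · rw [hroot, hx, sub_self]
  refine ⟨key, fun u => ⟨?_, ?_⟩⟩
  · rintro ⟨v, hv⟩
    exact ⟨Ideal.Quotient.mk I v, by rw [← map_pow, hv]⟩
  · rintro ⟨w, hw⟩
    obtain ⟨v₀, rfl⟩ := Ideal.Quotient.mk_surjective w
    rw [← map_pow] at hw
    have hi : v₀ ^ n - (u : R) ∈ I := by
      rw [← Ideal.Quotient.eq_zero_iff_mem, map_sub, hw, sub_self]
    -- `v₀ ^ n` is a unit
    have hvu : IsUnit (v₀ ^ n) := by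
      have : v₀ ^ n = (u : R) + (v₀ ^ n - (u : R)) := by ring
      rw [this]
      exact (hI _ hi).isUnit_add_left_of_commute u.isUnit (Commute.all _ _)
    obtain ⟨a, ha⟩ := hvu
    -- `u = v₀ ^ n * (1 + y)` with `y ∈ I`
    have hyI : -((a⁻¹ : Rˣ) : R) * (v₀ ^ n - (u : R)) ∈ I := I.mul_mem_left _ hi
    obtain ⟨x, ⟨-, hx⟩, -⟩ := key _ hyI
    refine ⟨v₀ * (1 + x), ?_⟩
    rw [mul_pow, hx, ← ha]
    have h1 : ((a⁻¹ : Rˣ) : R) * (a : R) = 1 := by simp
    have h2 : (a : R) * ((a⁻¹ : Rˣ) : R) = 1 := by simp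
    linear_combination (-(a : R) + (u : R)) * h2

end Groth.Agent.S6331
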