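import Groth.Statements.S6332
import Mathlib

set_option autoImplicit false
universe u
open Fields

namespace Groth.Agent.S6332

private lemma as_gen (K : Type*) [Field K] (p : ℕ) [Fact p.Prime] [CharP K p]
    (L : Type*) [Field L] [Algebra K L] [IsGalois K L] (hL : Module.finrank K L = p) :
    ∃ θ : L, θ ∉ Set.range (algebraMap K L) ∧ ∃ c : K, algebraMap K L c = θ ^ p - θ := by
  have hp : p.Prime := Fact.out
  haveI : FiniteDimensional K L := Module.finite_of_finrank_pos (by rw [hL]; exact hp.pos)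
  haveI : CharP L p := charP_of_injective_algebraMap (algebraMap K L).injective p
  have hcard : Nat.card (L ≃ₐ[K] L) = p := by rw [IsGalois.card_aut_eq_finrank, hL]
  haveI : Finite (L ≃ₐ[K] L) := Nat.finite_of_card_ne_zero (by rw [hcard]; exact hp.ne_zero)
  obtain ⟨σ, hσ⟩ : ∃ σ : L ≃ₐ[K] L, σ ≠ 1 := by
    haveI : Nontrivial (L ≃ₐ[K] L) :=
      (Finite.one_lt_card_iff_nontrivial).1 (by rw [hcard]; exact hp.one_lt)
    exact exists_ne 1
  have hσp : σ ^ p = 1 := by rw [← hcard]; exact pow_card_eq_one'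
  have htop : Subgroup.zpowers σ = ⊤ := zpowers_eq_top_of_prime_card hcard hσ
  have hfix : ∀ x : L, σ x = x → x ∈ Set.range (algebraMap K L) := by
    intro x hx
    rw [IsGalois.mem_range_algebraMap_iff_fixed]
    intro τ
    have hle : Subgroup.zpowers σ ≤ MulAction.stabilizer (L ≃ₐ[K] L) x := by
      rw [Subgroup.zpowers_le]
      exact hx
    have hτ : τ ∈ MulAction.stabilizer (L ≃ₐ[K] L) x := hle (htop ▸ Subgroup.mem_top τ)
    exact hτ
  -- the nilpotent operator σ - 1
  haveI : CharP (Module.End K L) p :=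
    Module.charP_end ⟨1, (Ideal.torsionOf_eq_bot_iff_of_noZeroSMulDivisors K (1 : L)).2 one_ne_zero⟩
  have hpow : ∀ (n : ℕ) (x : L), ((σ.toLinearMap : Module.End K L) ^ n) x = (σ ^ n) x := by
    intro n
    induction n with
    | zero => intro x; simp
    | succ n ih =>
      intro x
      rw [pow_succ, pow_succ, Module.End.mul_apply, ih, AlgEquiv.mul_apply]
      rfl
  have hN : ((σ.toLinearMap : Module.End K L) - 1) ^ p = 0 := by
    rw [sub_pow_char_of_commute p (Commute.one_right _), one_pow, sub_eq_zero]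
    ext x
    rw [hpow, hσp]
    rfl
  set N : Module.End K L := (σ.toLinearMap : Module.End K L) - 1 with hNdef
  have hNapply : ∀ x : L, N x = σ x - x := fun x => rfl
  have hchain : ∀ (k : ℕ) (x : L), N x ≠ 0 → (N ^ k) x = 0 → ∃ w : L, N w ≠ 0 ∧ N (N w) = 0 := by
    intro k
    induction k with
    | zero =>
      intro x hx h0
      exfalso
      apply hx
      have : x = 0 := by simpa using h0
      rw [this, map_zero]
    | succ k ih =>
      intro x hx h0
      by_cases h1 : N (N x) = 0
      · exact ⟨x, hx, h1⟩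
      · refine ih (N x) h1 ?_
        rw [pow_succ, Module.End.mul_apply] at h0
        exact h0
  obtain ⟨x0, hx0⟩ : ∃ x : L, N x ≠ 0 := by
    by_contra hall
    push Not at hall
    apply hσ
    ext x
    have := hall x
    rw [hNapply, sub_eq_zero] at this
    simpa using this
  obtain ⟨w, hw1, hw2⟩ := hchain p x0 hx0 (by rw [hN]; rfl)
  have hz : σ (N w) = N w := by
    have := hw2
    rw [hNapply, sub_eq_zero] at this
    exact this
  obtain ⟨c0, hc0⟩ := hfix (N w) hz
  have hc0ne : c0 ≠ 0 := by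
    rintro rfl
    rw [map_zero] at hc0
    exact hw1 hc0.symm
  refine ⟨c0⁻¹ • w, ?_, ?_⟩
  have hσθ : σ (c0⁻¹ • w) = c0⁻¹ • w + 1 := by
    rw [map_smul]
    have h1 : σ w = w + N w := by rw [hNapply]; ring
    rw [h1, smul_add, ← hc0, Algebra.smul_def (c0⁻¹) (algebraMap K L c0), ← map_mul,
      inv_mul_cancel₀ hc0ne, map_one]
  · rintro ⟨k, hk⟩
    have h1 : σ (c0⁻¹ • w) = c0⁻¹ • w := by rw [← hk, AlgEquiv.commutes]
    rw [hσθ] at h1
    exact one_ne_zero (α := L) (by simp at h1)
  · have hσθ : σ (c0⁻¹ • w) = c0⁻¹ • w + 1 := by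
      rw [map_smul]
      have h1 : σ w = w + N w := by rw [hNapply]; ring
      rw [h1, smul_add, ← hc0, Algebra.smul_def (c0⁻¹) (algebraMap K L c0), ← map_mul,
        inv_mul_cancel₀ hc0ne, map_one]
    have hfixed : σ ((c0⁻¹ • w) ^ p - c0⁻¹ • w) = (c0⁻¹ • w) ^ p - c0⁻¹ • w := by
      rw [map_sub, map_pow, hσθ, add_pow_char, one_pow]
      ring
    obtain ⟨c, hc⟩ := hfix _ hfixed
    exact ⟨c, hc⟩

open IntermediateField in
/-- Let L/K be a finite Galois extension of fields of characteristic p > 0 whose degree equals the prime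
p (equivalently, the Galois group is cyclic of order p). Then there is an element z of L with z ^ p
- z in K which generates L over K. -/
theorem result {K L : Type u} [Field K] [Field L] [Algebra K L] (p : ℕ)
    [Fact p.Prime] [CharP K p] [FiniteDimensional K L] [IsGalois K L]
    (hdeg : Module.finrank K L = p) :
    ∃ z : L, z ^ p - z ∈ Set.range (algebraMap K L) ∧ K⟮z⟯ = ⊤ := by
  have hp : p.Prime := Fact.out
  obtain ⟨θ, hθ, c, hc⟩ := as_gen K p L hdeg
  refine ⟨θ, ⟨c, hc⟩, ?_⟩
  have hdvd : Module.finrank K K⟮θ⟯ ∣ p := by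
    rw [← hdeg]; exact ⟨Module.finrank K⟮θ⟯ L, (Module.finrank_mul_finrank K K⟮θ⟯ L).symm⟩
  rcases (Nat.dvd_prime hp).1 hdvd with h1 | h1
  · exfalso
    apply hθ
    have : K⟮θ⟯ = ⊥ := IntermediateField.finrank_eq_one_iff.1 h1
    have hmem : θ ∈ K⟮θ⟯ := IntermediateField.mem_adjoin_simple_self K θ
    rw [this, IntermediateField.mem_bot] at hmem
    exact hmem
  · exact IntermediateField.eq_of_le_of_finrank_eq le_top
      (by rw [h1, IntermediateField.finrank_top', hdeg])

end Groth.Agent.S6332
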