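import Groth.Statements.S6335
import Mathlib

set_option autoImplicit false
universe u
open Fields

namespace Groth.Agent.S6335

/-- Let K be a field of characteristic p > 0, L/K a separable algebraic extension and a an element of L.
If a is a root of a polynomial P over K which is separable (pairwise distinct roots in an algebraic
closure) and all of whose coefficients are p-th powers in K, then a is a p-th power in L. (Part (1),
the case where P is the minimal polynomial of a, is a special case.) -/
theorem result {K L : Type u} [Field K] [Field L] [Algebra K L]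
    (p : ℕ) [Fact p.Prime] [CharP K p] [Algebra.IsSeparable K L] (a : L) (P : Polynomial K)
    (hroot : Polynomial.aeval a P = 0) (hsep : P.Separable) (hcoeff : ∀ i : ℕ, ∃ b : K, b ^ p = P.coeff i) :
    ∃ c : L, c ^ p = a := by
  classical
  have hp : p.Prime := Fact.out
  haveI : CharP L p := charP_of_injective_algebraMap (algebraMap K L).injective p
  haveI : CharP (AlgebraicClosure L) p :=
    charP_of_injective_algebraMap (algebraMap L (AlgebraicClosure L)).injective p
  haveI : ExpChar K p := ExpChar.prime hp
  haveI : ExpChar (AlgebraicClosure L) p := ExpChar.prime hp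
  choose b hb using hcoeff
  let Q : Polynomial K := ∑ i ∈ Finset.range (P.natDegree + 1), Polynomial.monomial i (b i)
  have hQP : Q.map (frobenius K p) = P := by
    ext n
    simp only [Q, Polynomial.coeff_map, Polynomial.finsetSum_coeff, Polynomial.coeff_monomial,
      Finset.sum_ite_eq', Finset.mem_range]
    split_ifs with h
    · rw [frobenius_def, hb]
    · rw [map_zero]
      exact (Polynomial.coeff_eq_zero_of_natDegree_lt (by omega)).symm
  have hQsep : Q.Separable := (Polynomial.separable_map (frobenius K p)).mp (hQP ▸ hsep)
  obtain ⟨c, hc⟩ := IsAlgClosed.exists_pow_nat_eq (algebraMap L (AlgebraicClosure L) a) hp.pos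
  have hQc : Polynomial.aeval c Q = 0 := by
    have h1 : (Polynomial.aeval c Q) ^ p = Polynomial.aeval (c ^ p) P := by
      rw [Polynomial.aeval_eq_sum_range (c ^ p)]
      simp only [Q, map_sum, Polynomial.aeval_monomial]
      rw [sum_pow_char p]
      refine Finset.sum_congr rfl (fun i _ => ?_)
      rw [mul_pow, ← map_pow, hb, Algebra.smul_def, ← pow_mul, ← pow_mul, mul_comm i p]
    have h2 : Polynomial.aeval (c ^ p) P = 0 := by
      rw [hc, Polynomial.aeval_algebraMap_apply, hroot, map_zero]
    rw [h2] at h1
    exact pow_eq_zero_iff hp.ne_zero |>.mp h1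
  have hsepK : IsSeparable K c := Polynomial.Separable.of_dvd hQsep (minpoly.dvd K c hQc)
  have hsepL : IsSeparable L c := IsSeparable.tower_top (L := L) hsepK
  have hint : IsIntegral L c := Algebra.IsIntegral.isIntegral c
  have hdvd1 : minpoly L c ∣ Polynomial.X ^ p - Polynomial.C a := by
    apply minpoly.dvd
    simp [hc]
  have hdvd2 : (minpoly L c).map (algebraMap L (AlgebraicClosure L)) ∣
      (Polynomial.X - Polynomial.C c) ^ p := by
    have := Polynomial.map_dvd (algebraMap L (AlgebraicClosure L)) hdvd1
    rw [Polynomial.map_sub, Polynomial.map_pow, Polynomial.map_X, Polynomial.map_C, ← hc,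
      map_pow, ← sub_pow_char] at this
    exact this
  have hsq : Squarefree ((minpoly L c).map (algebraMap L (AlgebraicClosure L))) :=
    (Polynomial.Separable.map hsepL).squarefree
  have hdvd3 := (hsq.dvd_pow_iff_dvd hp.ne_zero).mp hdvd2
  have hdeg : (minpoly L c).degree ≤ 1 := by
    have h := Polynomial.degree_le_of_dvd hdvd3 (Polynomial.X_sub_C_ne_zero c)
    rwa [Polynomial.degree_map, Polynomial.degree_X_sub_C] at h
  have hdeg1 : (minpoly L c).degree = 1 := by
    apply le_antisymm hdeg
    have := minpoly.degree_pos hint
    exact Nat.WithBot.one_le_iff_zero_lt.mpr this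
  obtain ⟨c₀, hc₀⟩ := minpoly.mem_range_of_degree_eq_one L c hdeg1
  refine ⟨c₀, ?_⟩
  apply (algebraMap L (AlgebraicClosure L)).injective
  rw [map_pow]
  change (algebraMap L (AlgebraicClosure L) c₀) ^ p = _
  rw [hc₀, hc]

end Groth.Agent.S6335
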