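import Groth.Statements.S6336
import Mathlib

set_option autoImplicit false
universe u
open Fields

namespace Groth.Agent.S6336

open IntermediateField Polynomial in
/-- With an added hypothesis: let L/K be a finite extension of degree e generated by a single element a
whose e-th power lies in K, and assume that the polynomial X ^ e - 1 splits into linear factors over
K (so every e-th root of unity of any extension of K already lies in K; this holds when K contains a
primitive e-th root of unity, and when e is a power of the characteristic). Then every intermediate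
field of L/K is generated by a ^ d for some divisor d of e. (The published statement has no
hypothesis on roots of unity; for K the rationals and a a primitive 8-th root of unity, e = 4 and a
^ 4 = -1, the intermediate field generated by a + a⁻¹, a square root of 2, is none of K(a), K(a ^
2), K(a ^ 4); the published proof uses that the e-th roots of unity met are fixed by the
automorphisms it constructs, which the splitting hypothesis guarantees.) -/
theorem result {K L : Type u} [Field K] [Field L] [Algebra K L]
    [FiniteDimensional K L] (a : L) (ha : K⟮a⟯ = ⊤)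
    (hpow : a ^ Module.finrank K L ∈ Set.range (algebraMap K L))
    (hroots : (X ^ Module.finrank K L - 1 : K[X]).Splits) (L' : IntermediateField K L) :
    ∃ d : ℕ, d ∣ Module.finrank K L ∧ L' = K⟮a ^ d⟯ := by
  classical
  have he : 0 < Module.finrank K L := Module.finrank_pos
  by_cases ha0 : a = 0
  · refine ⟨1, one_dvd _, ?_⟩
    rw [pow_one, ha]
    have hbt : (⊥ : IntermediateField K L) = ⊤ := by
      rw [← ha, ha0, IntermediateField.adjoin_zero]
    exact top_le_iff.mp (hbt ▸ bot_le)
  obtain ⟨c, hc⟩ := hpow
  have hintF : ∀ F : IntermediateField K L, IsIntegral F a := fun F =>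
    (IsIntegral.of_finite K a).tower_top
  have hdeg : ∀ F : IntermediateField K L, Module.finrank F L = (minpoly F a).natDegree := by
    intro F
    have htop : F⟮a⟯ = ⊤ := by
      rw [eq_top_iff]
      intro x _
      have hx : x ∈ K⟮a⟯ := by rw [ha]; trivial
      have hle : K⟮a⟯ ≤ (F⟮a⟯).restrictScalars K := by
        rw [IntermediateField.adjoin_simple_le_iff]
        exact IntermediateField.mem_adjoin_simple_self F a
      exact hle hx
    rw [← IntermediateField.adjoin.finrank (hintF F), htop, IntermediateField.finrank_top']
  have hι : Function.Injective (algebraMap L (AlgebraicClosure L)) :=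
    (algebraMap L (AlgebraicClosure L)).injective
  have hpm : (minpoly L' a).Monic := minpoly.monic (hintF L')
  obtain ⟨m, hm⟩ : ∃ m, m = (minpoly L' a).natDegree := ⟨_, rfl⟩
  have hmpos : 0 < m := by rw [hm]; exact minpoly.natDegree_pos (hintF L')
  have hq : minpoly L' a ∣ (X ^ Module.finrank K L - C (algebraMap K L' c) : L'[X]) := by
    apply minpoly.dvd
    rw [map_sub, map_pow, aeval_X, aeval_C, ← IsScalarTower.algebraMap_apply, hc, sub_self]
  have hφinj : Function.Injective
      ((algebraMap L (AlgebraicClosure L)).comp (algebraMap L' L)) :=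
    hι.comp (algebraMap L' L).injective
  have hsplit : ((minpoly L' a).map
      ((algebraMap L (AlgebraicClosure L)).comp (algebraMap L' L))).Splits :=
    IsAlgClosed.splits _
  have hmon : ((minpoly L' a).map
      ((algebraMap L (AlgebraicClosure L)).comp (algebraMap L' L))).Monic := hpm.map _
  have hnd : ((minpoly L' a).map
      ((algebraMap L (AlgebraicClosure L)).comp (algebraMap L' L))).natDegree = m := by
    rw [hm]; exact hpm.natDegree_map _
  have hc0 := hsplit.coeff_zero_eq_prod_roots_of_monic hmon
  rw [hnd, Polynomial.coeff_map] at hc0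
  have hιa : algebraMap L (AlgebraicClosure L) a ≠ 0 := fun h => ha0 (hι (by rw [h, map_zero]))
  have hroot : ∀ r ∈ ((minpoly L' a).map
      ((algebraMap L (AlgebraicClosure L)).comp (algebraMap L' L))).roots,
      ∃ c₁ : K, r = algebraMap L (AlgebraicClosure L) (algebraMap K L c₁) *
        algebraMap L (AlgebraicClosure L) a := by
    intro r hr
    have hr1 : ((minpoly L' a).map
      ((algebraMap L (AlgebraicClosure L)).comp (algebraMap L' L))).IsRoot r :=
      (Polynomial.mem_roots (hmon.ne_zero)).mp hr
    have hr2 : ((X ^ Module.finrank K L - C (algebraMap K L' c) : L'[X]).map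
        ((algebraMap L (AlgebraicClosure L)).comp (algebraMap L' L))).IsRoot r := by
      obtain ⟨s, hs⟩ := hq
      rw [hs, Polynomial.map_mul, IsRoot, eval_mul, hr1, zero_mul]
    have hre : r ^ Module.finrank K L =
        (algebraMap L (AlgebraicClosure L) a) ^ Module.finrank K L := by
      rw [Polynomial.map_sub, Polynomial.map_pow, map_X, map_C, IsRoot, eval_sub, eval_pow,
        eval_X, eval_C, sub_eq_zero] at hr2
      rw [hr2, ← map_pow, ← hc, RingHom.comp_apply, ← IsScalarTower.algebraMap_apply K L' L c]
    have hζ : (r / algebraMap L (AlgebraicClosure L) a) ^ Module.finrank K L = 1 := by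
      rw [div_pow, hre, div_self (pow_ne_zero _ hιa)]
    have hx : ((X ^ Module.finrank K L - 1 : K[X]).map
        ((algebraMap L (AlgebraicClosure L)).comp (algebraMap K L))).IsRoot
        (r / algebraMap L (AlgebraicClosure L) a) := by
      rw [IsRoot, Polynomial.map_sub, Polynomial.map_pow, map_X, Polynomial.map_one, eval_sub,
        eval_pow, eval_X, eval_one, hζ, sub_self]
    have hf0 : (X ^ Module.finrank K L - 1 : K[X]) ≠ 0 := by
      have := X_pow_sub_C_ne_zero he (1 : K)
      rwa [C_1] at this
    obtain ⟨c₁, hc₁⟩ := hroots.mem_range_of_isRoot hf0 hx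
    refine ⟨c₁, ?_⟩
    have h4 : algebraMap L (AlgebraicClosure L) (algebraMap K L c₁) =
        r / algebraMap L (AlgebraicClosure L) a := hc₁
    rw [h4, div_mul_cancel₀ _ hιa]
  have hprod : ∀ s : Multiset (AlgebraicClosure L),
      (∀ r ∈ s, ∃ c₁ : K, r = algebraMap L (AlgebraicClosure L) (algebraMap K L c₁) *
        algebraMap L (AlgebraicClosure L) a) →
      ∃ c₂ : K, s.prod = algebraMap L (AlgebraicClosure L) (algebraMap K L c₂) *
        (algebraMap L (AlgebraicClosure L) a) ^ (Multiset.card s) := by
    intro s
    induction s using Multiset.induction_on with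
    | empty => intro _; exact ⟨1, by simp⟩
    | cons r s ih =>
      intro h
      obtain ⟨c₂, hc₂⟩ := ih (fun r' hr' => h r' (Multiset.mem_cons_of_mem hr'))
      obtain ⟨c₁, hc₁⟩ := h r (Multiset.mem_cons_self r s)
      refine ⟨c₁ * c₂, ?_⟩
      rw [Multiset.prod_cons, hc₂, hc₁, Multiset.card_cons, map_mul, map_mul, pow_succ]
      ring
  obtain ⟨c₂, hc₂⟩ := hprod _ hroot
  have hcard : Multiset.card ((minpoly L' a).map
      ((algebraMap L (AlgebraicClosure L)).comp (algebraMap L' L))).roots = m := by
    rw [← hsplit.natDegree_eq_card_roots, hnd]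
  rw [hcard] at hc₂
  rw [hc₂] at hc0
  have hc₂0 : c₂ ≠ 0 := by
    intro h0
    rw [h0, map_zero, map_zero, zero_mul, mul_zero] at hc0
    have hp0 : (minpoly L' a).coeff 0 = 0 := hφinj (by rw [hc0, map_zero])
    exact minpoly.coeff_zero_ne_zero (hintF L') ha0 hp0
  have ham : a ^ m = (algebraMap K L c₂)⁻¹ * (-1) ^ m *
      (algebraMap L' L ((minpoly L' a).coeff 0)) := by
    apply hι
    rw [map_mul, map_mul, map_inv₀, map_pow, map_pow, map_neg, map_one]
    have h1 : algebraMap L (AlgebraicClosure L) (algebraMap L' L ((minpoly L' a).coeff 0)) =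
        (-1) ^ m * (algebraMap L (AlgebraicClosure L) (algebraMap K L c₂) *
          algebraMap L (AlgebraicClosure L) a ^ m) := hc0
    rw [h1]
    have h2 : algebraMap L (AlgebraicClosure L) (algebraMap K L c₂) ≠ 0 := by
      rw [Ne, map_eq_zero, map_eq_zero]; exact hc₂0
    have h3 : ((-1 : AlgebraicClosure L) ^ m) * ((-1) ^ m) = 1 := by
      rw [← mul_pow]; norm_num
    calc algebraMap L (AlgebraicClosure L) a ^ m
        = ((algebraMap L (AlgebraicClosure L) (algebraMap K L c₂))⁻¹ *
            algebraMap L (AlgebraicClosure L) (algebraMap K L c₂)) *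
            (((-1 : AlgebraicClosure L) ^ m) * ((-1) ^ m)) *
            algebraMap L (AlgebraicClosure L) a ^ m := by
          rw [inv_mul_cancel₀ h2, h3, one_mul, one_mul]
      _ = _ := by ring
  have hamL' : a ^ m ∈ L' := by
    rw [ham]
    exact L'.mul_mem (L'.mul_mem (L'.inv_mem (L'.algebraMap_mem c₂))
      (pow_mem (L'.neg_mem L'.one_mem) m))
      (show algebraMap L' L ((minpoly L' a).coeff 0) ∈ L' from ((minpoly L' a).coeff 0).2)
  refine ⟨m, ?_, ?_⟩
  · have := Module.finrank_mul_finrank K L' L
    rw [hdeg L', ← hm] at this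
    exact Dvd.intro_left _ this
  · symm
    apply IntermediateField.eq_of_le_of_finrank_le'
    · rw [IntermediateField.adjoin_simple_le_iff]; exact hamL'
    · rw [hdeg L', hdeg K⟮a ^ m⟯, ← hm]
      have hmem1 : a ^ m ∈ K⟮a ^ m⟯ := IntermediateField.mem_adjoin_simple_self K (a ^ m)
      have hdvd : minpoly K⟮a ^ m⟯ a ∣ X ^ m - C (⟨a ^ m, hmem1⟩ : K⟮a ^ m⟯) := by
        apply minpoly.dvd
        rw [map_sub, map_pow, aeval_X, aeval_C]
        exact sub_self _
      have := natDegree_le_of_dvd hdvd (X_pow_sub_C_ne_zero hmpos _)
      rwa [natDegree_X_pow_sub_C] at this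

end Groth.Agent.S6336
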