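import Groth.Statements.S6337
import Groth.Agent.S6338
import Mathlib.LinearAlgebra.DirectSum.TensorProduct
-- import your own Groth.Agent.* helpers here

set_option autoImplicit false
universe u
open CAlg

namespace Groth.Agent.S6337

/-- A direct sum of modules is Mittag-Leffler if and only if each summand is Mittag-Leffler. -/
theorem result (R : Type u) [CommRing R] {ι : Type u} (M : ι → Type u)
    [∀ i, AddCommGroup (M i)] [∀ i, Module R (M i)] :
    CAlg.IsMittagLeffler R (DirectSum ι M) ↔ ∀ i, CAlg.IsMittagLeffler R (M i) := by
  classical
  constructor
  · intro h i
    refine Groth.Agent.S6338.result R (DirectSum.lof R ι M i) ?_ h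
    intro Q _ _
    apply Function.LeftInverse.injective (g := (DirectSum.component R ι M i).rTensor Q)
    intro x
    have hid : (DirectSum.component R ι M i) ∘ₗ (DirectSum.lof R ι M i) = LinearMap.id := by
      ext b
      simp [DirectSum.component.lof_self]
    rw [← LinearMap.comp_apply, ← LinearMap.rTensor_comp, hid, LinearMap.rTensor_id,
      LinearMap.id_apply]
  · intro h κ Q _ _
    -- the components are jointly injective on the tensor product
    have hjoint : ∀ (P : Type u) [AddCommGroup P] [Module R P] (x : TensorProduct R (DirectSum ι M) P),
        (∀ i, (DirectSum.component R ι M i).rTensor P x = 0) → x = 0 := by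
      intro P _ _ x hx
      have hcomp : ∀ (y : TensorProduct R (DirectSum ι M) P) (i : ι),
          (TensorProduct.directSumLeft R R M P y) i = (DirectSum.component R ι M i).rTensor P y := by
        intro y i
        induction y using TensorProduct.induction_on with
        | zero => simp
        | tmul m p => rw [TensorProduct.directSumLeft_tmul]; rfl
        | add a b ha hb => rw [map_add, map_add, DirectSum.add_apply, ha, hb]
      apply (TensorProduct.directSumLeft R R M P).injective
      rw [map_zero]
      ext i
      rw [hcomp, hx i]
      rfl
    rw [injective_iff_map_eq_zero]
    intro x hx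
    apply hjoint
    intro i
    apply h i κ Q
    rw [map_zero]
    have hnat : ∀ y, TensorProduct.piRightHom R R (M i) Q ((DirectSum.component R ι M i).rTensor (∀ j, Q j) y) =
        fun j => (DirectSum.component R ι M i).rTensor (Q j) (TensorProduct.piRightHom R R (DirectSum ι M) Q y j) := by
      intro y
      induction y using TensorProduct.induction_on with
      | zero => simp; rfl
      | tmul x q => ext j; simp
      | add a b ha hb =>
        simp only [map_add, Pi.add_apply]
        rw [ha, hb]
        rfl
    rw [hnat, hx]
    ext j
    simp

end Groth.Agent.S6337
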