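import Groth.Statements.S6339
-- import your own Groth.Agent.* helpers here

set_option autoImplicit false
universe u
open CAlg

namespace Groth.Agent.S6339

/-- Let 0 → M₁ → M₂ → M₃ → 0 be a universally exact short exact sequence of modules over a commutative
ring (the first map is universally injective, the second is surjective with kernel the image of the
first). If M₁ and M₃ are Mittag-Leffler then so is M₂. -/
theorem result (R : Type u) [CommRing R] {M₁ M₂ M₃ : Type u}
    [AddCommGroup M₁] [Module R M₁] [AddCommGroup M₂] [Module R M₂] [AddCommGroup M₃] [Module R M₃]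
    (f : M₁ →ₗ[R] M₂) (g : M₂ →ₗ[R] M₃) (hf : CAlgX.UniversallyInjective R f)
    (hg : Function.Surjective g) (hfg : LinearMap.range f = LinearMap.ker g)
    (h₁ : CAlg.IsMittagLeffler R M₁) (h₃ : CAlg.IsMittagLeffler R M₃) :
    CAlg.IsMittagLeffler R M₂ := by
  intro ι Q _ _
  have hex : Function.Exact f g := (LinearMap.exact_iff).mpr hfg.symm
  have hnat₁ : ∀ y, (fun i => f.rTensor (Q i) (TensorProduct.piRightHom R R M₁ Q y i)) =
      TensorProduct.piRightHom R R M₂ Q (f.rTensor (∀ i, Q i) y) := by
    intro y
    induction y using TensorProduct.induction_on with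
    | zero => simp; rfl
    | tmul x q => ext i; simp
    | add a b ha hb =>
      simp only [map_add, Pi.add_apply]
      rw [← ha, ← hb]
      rfl
  have hnat₂ : ∀ y, (fun i => g.rTensor (Q i) (TensorProduct.piRightHom R R M₂ Q y i)) =
      TensorProduct.piRightHom R R M₃ Q (g.rTensor (∀ i, Q i) y) := by
    intro y
    induction y using TensorProduct.induction_on with
    | zero => simp; rfl
    | tmul x q => ext i; simp
    | add a b ha hb =>
      simp only [map_add, Pi.add_apply]
      rw [← ha, ← hb]
      rfl
  rw [injective_iff_map_eq_zero]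
  intro x hx
  have hgx : g.rTensor (∀ i, Q i) x = 0 := by
    apply h₃ ι Q
    rw [← hnat₂, hx, map_zero]
    ext i
    simp
  obtain ⟨y, rfl⟩ := (rTensor_exact (∀ i, Q i) hex hg x).mp hgx
  have hy : TensorProduct.piRightHom R R M₁ Q y = 0 := by
    ext i
    apply hf (Q i)
    have := congrFun (hnat₁ y) i
    rw [this, hx]
    simp
  rw [h₁ ι Q (hy.trans (map_zero _).symm), map_zero]

end Groth.Agent.S6339
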