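import Groth.Statements.S6351
import Mathlib
-- import your own Groth.Agent.* helpers here

set_option autoImplicit false
universe u
open scoped TensorProduct

open CAlg

namespace Groth.Agent.S6351

/-- Let I be a nilpotent ideal of a commutative ring R and M an R-module with Tor_1^R(R/I, M) = 0, i.e.
I ⊗_R M → M injective. If a family of elements of M maps to a basis of the R/I-module M/IM = R/I ⊗
M, then it is a basis of M over R. -/
theorem result (R : Type u) [CommRing R] (I : Ideal R)
    (hI : IsNilpotent I) (M : Type u) [AddCommGroup M] [Module R M]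
    (htor : Function.Injective ((Submodule.subtype I).rTensor M)) {A : Type u} (x : A → M)
    (hli : LinearIndependent (R ⧸ I) (fun a => (1 : R ⧸ I) ⊗ₜ[R] x a))
    (hsp : Submodule.span (R ⧸ I) (Set.range fun a => (1 : R ⧸ I) ⊗ₜ[R] x a) = ⊤) :
    LinearIndependent R x ∧ Submodule.span R (Set.range x) = ⊤ := by
  classical
  obtain ⟨n, hn⟩ := hI
  have nil1 : ∀ {P : Type u} [AddCommGroup P] [Module R P] (K : Submodule R P),
      K ≤ I • K → K = ⊥ := by
    intro P _ _ K hK
    have h : ∀ k : ℕ, K ≤ I ^ k • K := by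
      intro k
      induction k with
      | zero => simp
      | succ k ih =>
        calc K ≤ I • K := hK
          _ ≤ I • (I ^ k • K) := Submodule.smul_mono le_rfl ih
          _ = I ^ (k + 1) • K := by rw [pow_succ', Submodule.mul_smul]
    have h2 := h n
    rw [hn, Ideal.zero_eq_bot, Submodule.bot_smul] at h2
    exact eq_bot_iff.2 h2
  have nil2 : ∀ (N : Submodule R M), N ⊔ I • (⊤ : Submodule R M) = ⊤ → N = ⊤ := by
    intro N hN
    have h : ∀ k : ℕ, (⊤ : Submodule R M) ≤ N ⊔ I ^ k • (⊤ : Submodule R M) := by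
      intro k
      induction k with
      | zero => simp
      | succ k ih =>
        calc (⊤ : Submodule R M) = N ⊔ I • (⊤ : Submodule R M) := hN.symm
          _ ≤ N ⊔ I • (N ⊔ I ^ k • (⊤ : Submodule R M)) :=
              sup_le_sup_left (Submodule.smul_mono le_rfl ih) _
          _ = N ⊔ (I • N ⊔ I ^ (k + 1) • (⊤ : Submodule R M)) := by
              rw [Submodule.smul_sup, pow_succ', Submodule.mul_smul]
          _ ≤ N ⊔ I ^ (k + 1) • (⊤ : Submodule R M) :=
              sup_le le_sup_left
                (sup_le (le_sup_of_le_left Submodule.smul_le_right) le_sup_right)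
    have h2 := h n
    rw [hn, Ideal.zero_eq_bot, Submodule.bot_smul, sup_bot_eq] at h2
    exact top_le_iff.1 h2
  have key : ∀ {N : Type u} [AddCommGroup N] [Module R N] (φ : N →ₗ[R] M),
      Function.Surjective φ → ∀ t, φ.lTensor I t = 0 →
      ∃ t' : I ⊗[R] (LinearMap.ker φ), (LinearMap.ker φ).subtype.lTensor I t' = t := by
    intro N _ _ φ hφ t h0
    exact (lTensor_exact I (LinearMap.exact_subtype_ker_map φ) hφ t).1 h0
  set g : M →ₗ[R] (R ⧸ I) ⊗[R] M := TensorProduct.mk R (R ⧸ I) M 1 with hg
  have hgx : ∀ a, g (x a) = (1 : R ⧸ I) ⊗ₜ[R] x a := fun a => rfl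
  have hspan : Submodule.span R (Set.range x) = ⊤ := by
    apply nil2
    rw [eq_top_iff]
    intro m _
    have h1 : g m ∈ (Submodule.span (R ⧸ I)
        (Set.range fun a => (1 : R ⧸ I) ⊗ₜ[R] x a)).restrictScalars R := by
      rw [hsp]; trivial
    rw [Submodule.restrictScalars_span R (R ⧸ I) Ideal.Quotient.mk_surjective] at h1
    have h2 : (Set.range fun a => (1 : R ⧸ I) ⊗ₜ[R] x a) = g '' Set.range x := by
      rw [← Set.range_comp]; rfl
    rw [h2, ← Submodule.map_span] at h1
    obtain ⟨n', hn', hnm⟩ := h1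
    have h3 : m - n' ∈ LinearMap.ker g := by
      rw [LinearMap.mem_ker, map_sub, hnm, sub_self]
    rw [LinearMap.ker_tensorProductMk] at h3
    have h4 : m = n' + (m - n') := by abel
    rw [h4]
    exact Submodule.add_mem_sup hn' h3
  refine ⟨?_, hspan⟩
  set φ : (A →₀ R) →ₗ[R] M := Finsupp.linearCombination R x with hφ
  have hφsurj : Function.Surjective φ := by
    rw [← LinearMap.range_eq_top, hφ, Finsupp.range_linearCombination]; exact hspan
  set K := LinearMap.ker φ with hK
  have hmr : ∀ k : A →₀ R, Finsupp.linearCombination (R ⧸ I)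
      (fun a => (1 : R ⧸ I) ⊗ₜ[R] x a)
      (k.mapRange (Ideal.Quotient.mk I) (map_zero _)) = g (φ k) := by
    intro k
    induction k using Finsupp.induction_linear with
    | zero => simp
    | add f1 f2 h1 h2 =>
      rw [Finsupp.mapRange_add (fun _ _ => map_add _ _ _), map_add, h1, h2, map_add, map_add]
    | single a r =>
      rw [Finsupp.mapRange_single, Finsupp.linearCombination_single, hφ,
        Finsupp.linearCombination_single, map_smul, hgx, TensorProduct.smul_tmul',
        TensorProduct.smul_tmul', smul_eq_mul, mul_one]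
      congr 1
      rw [Algebra.smul_def, mul_one]
      rfl
  have hcoef : ∀ k ∈ K, ∀ a, k a ∈ I := by
    intro k hk a
    have h1 := hmr k
    rw [LinearMap.mem_ker.1 hk, map_zero] at h1
    have h2 := linearIndependent_iff.1 hli _ h1
    have h3 : (k.mapRange (Ideal.Quotient.mk I) (map_zero _)) a = 0 := by rw [h2]; rfl
    rw [Finsupp.mapRange_apply] at h3
    exact Ideal.Quotient.eq_zero_iff_mem.1 h3
  let ψF : I ⊗[R] (A →₀ R) →ₗ[R] (A →₀ R) :=
    (TensorProduct.lid R (A →₀ R)).toLinearMap ∘ₗ (I.subtype.rTensor (A →₀ R))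
  let ψM : I ⊗[R] M →ₗ[R] M := (TensorProduct.lid R M).toLinearMap ∘ₗ (I.subtype.rTensor M)
  have hψM : Function.Injective ψM := (TensorProduct.lid R M).injective.comp htor
  have hnat : ∀ s : I ⊗[R] (A →₀ R), φ (ψF s) = ψM (φ.lTensor I s) := by
    intro s
    induction s using TensorProduct.induction_on with
    | zero => simp
    | tmul i f => simp [ψF, ψM]
    | add s1 s2 h1 h2 => rw [map_add, map_add, h1, h2, map_add, map_add]
  have hmem : ∀ t' : I ⊗[R] K, ψF (K.subtype.lTensor I t') ∈ I • K := by
    intro t'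
    induction t' using TensorProduct.induction_on with
    | zero => simp
    | tmul i k' =>
      have : ψF (K.subtype.lTensor I (i ⊗ₜ[R] k')) = (i : R) • (k' : A →₀ R) := by
        simp [ψF]
      rw [this]
      exact Submodule.smul_mem_smul i.2 k'.2
    | add s1 s2 h1 h2 =>
      rw [map_add, map_add]
      exact add_mem h1 h2
  have hKle : K ≤ I • K := by
    intro k hk
    let t : I ⊗[R] (A →₀ R) :=
      ∑ a ∈ k.support, (⟨k a, hcoef k hk a⟩ : I) ⊗ₜ[R] Finsupp.single a (1 : R)
    have ht : ψF t = k := by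
      have h1 : ψF t = ∑ a ∈ k.support, Finsupp.single a (k a) := by
        simp only [t, map_sum]
        refine Finset.sum_congr rfl fun a _ => ?_
        simp [ψF]
      rw [h1]
      exact Finsupp.sum_single k
    have h0 : φ.lTensor I t = 0 := by
      apply hψM
      rw [← hnat, ht, map_zero]
      exact LinearMap.mem_ker.1 hk
    obtain ⟨t', ht'⟩ := key φ hφsurj t h0
    rw [← ht, ← ht']
    exact hmem t'
  have hKbot : K = ⊥ := nil1 K hKle
  rw [LinearIndependent, ← LinearMap.ker_eq_bot]
  exact hKbot

end Groth.Agent.S6351
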