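import Groth.Statements.S6353
import Mathlib
-- import your own Groth.Agent.* helpers here

set_option autoImplicit false
universe u
open CAlg


namespace Groth.Agent.S6353

open PrimeSpectrum in
/-- For a commutative ring R, I ↦ V(I) is a bijection between pure ideals (R/I flat over R) and closed
subsets of Spec R stable under generalization. Stated here as: V(I) is stable under generalization
for I pure, and every closed generalization-stable subset is V(I) for some pure I (injectivity on
pure ideals being the standard fact that pure ideals with the same zero locus coincide). -/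
theorem result (R : Type u) [CommRing R] :
    (∀ I : Ideal R, I.Pure → StableUnderGeneralization (zeroLocus (I : Set R))) ∧
      ∀ Z : Set (PrimeSpectrum R), IsClosed Z → StableUnderGeneralization Z →
        ∃ I : Ideal R, I.Pure ∧ zeroLocus (I : Set R) = Z := by
  refine ⟨fun I hI => ?_, fun Z hZc hZg => ?_⟩
  · have hflat : (algebraMap R (R ⧸ I)).Flat := RingHom.flat_algebraMap_iff.2 hI
    have h1 := (RingHom.Flat.generalizingMap_comap hflat).stableUnderGeneralization_range
    rw [_root_.range_comap_of_surjective _ (algebraMap R (R ⧸ I)) Ideal.Quotient.mk_surjective] at h1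
    have h2 : RingHom.ker (algebraMap R (R ⧸ I)) = I := Ideal.mk_ker
    rwa [h2] at h1
  · classical
    set J : Ideal R := vanishingIdeal Z with hJ
    have hZJ : zeroLocus (J : Set R) = Z := by
      rw [hJ, zeroLocus_vanishingIdeal_eq_closure, hZc.closure_eq]
    let M : Submonoid R := Submonoid.comap (Ideal.Quotient.mk J) ⊥
    have hM : ∀ m, m ∈ M ↔ m - 1 ∈ J := by
      intro m
      simp only [M, Submonoid.mem_comap, Submonoid.mem_bot]
      rw [← map_one (Ideal.Quotient.mk J), Ideal.Quotient.eq]
    let I : Ideal R := RingHom.ker (algebraMap R (Localization M))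
    have hI : ∀ x, x ∈ I ↔ ∃ m ∈ M, m * x = 0 := by
      intro x
      rw [RingHom.mem_ker, IsLocalization.map_eq_zero_iff M]
      constructor
      · rintro ⟨m, hm⟩
        exact ⟨m.1, m.2, hm⟩
      · rintro ⟨m, hm, h⟩
        exact ⟨⟨m, hm⟩, h⟩
    have hrange : {p : PrimeSpectrum R | Disjoint (M : Set R) p.asIdeal} = Z := by
      ext q
      simp only [Set.mem_ofPred_eq]
      constructor
      · intro hd
        have hne : q.asIdeal ⊔ J ≠ ⊤ := by
          intro htop
          rw [Ideal.eq_top_iff_one, Submodule.mem_sup] at htop
          obtain ⟨a, ha, j, hj, haj⟩ := htop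
          have haM : a ∈ M := by
            rw [hM]
            have : a - 1 = -j := by rw [← haj]; ring
            rw [this]
            exact J.neg_mem hj
          exact Set.disjoint_left.1 hd haM ha
        obtain ⟨m, hm, hle⟩ := Ideal.exists_le_maximal _ hne
        have hmZ : (⟨m, hm.isPrime⟩ : PrimeSpectrum R) ∈ Z := by
          rw [← hZJ, mem_zeroLocus]
          exact fun x hx => hle (Ideal.mem_sup_right hx)
        have hspec : q ⤳ ⟨m, hm.isPrime⟩ := by
          rw [← PrimeSpectrum.le_iff_specializes]
          exact fun x hx => hle (Ideal.mem_sup_left hx)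
        exact hZg hspec hmZ
      · intro hq
        rw [← hZJ, mem_zeroLocus] at hq
        rw [Set.disjoint_left]
        intro a haM haq
        rw [SetLike.mem_coe, hM] at haM
        have : (1 : R) ∈ q.asIdeal := by
          have h1 : a - (a - 1) = 1 := by ring
          rw [← h1]
          exact q.asIdeal.sub_mem haq (hq haM)
        exact q.2.ne_top ((Ideal.eq_top_iff_one _).2 this)
    have hzI : zeroLocus (I : Set R) = Z := by
      rw [← PrimeSpectrum.closure_range_comap,
        PrimeSpectrum.localization_comap_range (Localization M) M, hrange, hZc.closure_eq]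
    refine ⟨I, ?_, hzI⟩
    have hJrad : J ≤ I.radical := by
      rw [← vanishingIdeal_zeroLocus_eq_radical, hzI]
    have key : ∀ x ∈ I, ∃ y ∈ I, x = x * y := by
      intro x hx
      obtain ⟨m, hm, hmx⟩ := (hI x).1 hx
      rw [hM] at hm
      have hf : (1 - m) ∈ J := by
        have : 1 - m = -(m - 1) := by ring
        rw [this]
        exact J.neg_mem hm
      have hxf : x = x * (1 - m) := by
        rw [mul_sub, mul_one, mul_comm x m, hmx, sub_zero]
      obtain ⟨n, hn⟩ := hJrad hf
      refine ⟨(1 - m) ^ n, hn, ?_⟩
      have : ∀ k : ℕ, x = x * (1 - m) ^ k := by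
        intro k
        induction k with
        | zero => simp
        | succ k ih => rw [pow_succ, ← mul_assoc, ← ih, ← hxf]
      exact this n
    apply Ideal.Pure.of_inf_eq_mul
    intro K _
    refine le_antisymm ?_ Ideal.mul_le_inf
    intro x hx
    obtain ⟨hxI, hxK⟩ := Ideal.mem_inf.1 hx
    obtain ⟨y, hy, hxy⟩ := key x hxI
    rw [hxy, mul_comm x y]
    exact Ideal.mul_mem_mul hy hxK

end Groth.Agent.S6353
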