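import Groth.Statements.S6354
import Mathlib
-- import your own Groth.Agent.* helpers here

set_option autoImplicit false
universe u
open CAlg


namespace Groth.Agent.S6354

open PrimeSpectrum in
/-- For an ideal I of a commutative ring R these four conditions are equivalent: (1) I is finitely
generated and pure; (2) I = (e) for some idempotent e; (3) I is pure with V(I) open in Spec R; (4)
R/I is projective as an R-module. -/
theorem result (R : Type u) [CommRing R] (I : Ideal R) :
    List.TFAE [I.Pure ∧ I.FG, ∃ e : R, IsIdempotentElem e ∧ I = Ideal.span {e},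
      I.Pure ∧ IsOpen (zeroLocus (I : Set R)), Module.Projective R (R ⧸ I)] := by
  classical
  have h21 : ∀ J : Ideal R, (∃ e : R, IsIdempotentElem e ∧ J = Ideal.span {e}) →
      J.Pure ∧ J.FG := by
    rintro J ⟨e, he, rfl⟩
    have hfg : (Ideal.span {e}).FG := Submodule.fg_span_singleton e
    refine ⟨Ideal.Pure.of_isIdempotentElem hfg ?_, hfg⟩
    rw [Ideal.isIdempotentElem_iff_of_fg _ hfg]
    exact ⟨e, he, rfl⟩
  tfae_have 1 → 2 := by
    rintro ⟨hp, hfg⟩
    haveI := hp
    exact (Ideal.isIdempotentElem_iff_of_fg I hfg).1 (Ideal.isIdempotentElem_of_pure I)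
  tfae_have 2 → 1 := h21 I
  tfae_have 2 → 3 := by
    intro h
    refine ⟨(h21 I h).1, ?_⟩
    obtain ⟨e, he, rfl⟩ := h
    rw [Ideal.span, PrimeSpectrum.zeroLocus_span,
      PrimeSpectrum.zeroLocus_eq_basicOpen_of_isIdempotentElem e he]
    exact (PrimeSpectrum.basicOpen (1 - e)).2
  tfae_have 3 → 2 := by
    rintro ⟨hp, hopen⟩
    haveI := hp
    have hcl : IsClopen (PrimeSpectrum.zeroLocus (I : Set R)) :=
      ⟨PrimeSpectrum.isClosed_zeroLocus _, hopen⟩
    obtain ⟨e, he, hz⟩ := PrimeSpectrum.isClopen_iff_zeroLocus.1 hcl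
    refine ⟨e, he, ?_⟩
    haveI : (Ideal.span {e}).Pure := (h21 _ ⟨e, he, rfl⟩).1
    rw [← Ideal.zeroLocus_inj_of_pure, hz, Ideal.span, PrimeSpectrum.zeroLocus_span]
  tfae_have 2 → 4 := by
    rintro ⟨e, he, rfl⟩
    -- section of the quotient map
    let i : (R ⧸ Ideal.span {e}) →ₗ[R] R :=
      Submodule.liftQ (Ideal.span {e}) (LinearMap.mulLeft R (1 - e)) (by
        rw [Ideal.span, Submodule.span_le]
        rintro x hx
        rw [Set.mem_singleton_iff] at hx
        subst hx
        change (1 - x) * x = 0
        rw [sub_mul, one_mul, he.eq, sub_self])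
    refine Module.Projective.of_split i (Submodule.mkQ (Ideal.span {e})) ?_
    apply LinearMap.ext
    intro x
    obtain ⟨x, rfl⟩ := Submodule.mkQ_surjective _ x
    change Submodule.mkQ _ ((1 - e) * x) = Submodule.mkQ _ x
    rw [sub_mul, one_mul, map_sub, sub_eq_self, Submodule.mkQ_apply,
      Submodule.Quotient.mk_eq_zero]
    exact Ideal.mul_mem_right _ _ (Ideal.subset_span rfl)
  tfae_have 4 → 1 := by
    intro hproj
    haveI := hproj
    refine ⟨inferInstance, ?_⟩
    obtain ⟨s, hs⟩ := Module.projective_lifting_property (Submodule.mkQ I)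
      (LinearMap.id : (R ⧸ I) →ₗ[R] (R ⧸ I)) (Submodule.mkQ_surjective I)
    -- `I` is generated by `1 - s (mk 1)`
    have hsx : ∀ x : R, Submodule.mkQ I (s (Submodule.mkQ I x)) = Submodule.mkQ I x :=
      fun x => congr($hs (Submodule.mkQ I x))
    have hmem : ∀ x : R, x - s (Submodule.mkQ I x) ∈ I := by
      intro x
      rw [← Submodule.Quotient.mk_eq_zero, ← Submodule.mkQ_apply, map_sub, hsx, sub_self]
    have hgen : I = Ideal.span {1 - s (Submodule.mkQ I 1)} := by
      apply le_antisymm
      · intro x hx
        have h0 : Submodule.mkQ I x = 0 := by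
          rw [Submodule.mkQ_apply, Submodule.Quotient.mk_eq_zero]; exact hx
        have h1 : x = x * (1 - s (Submodule.mkQ I 1)) := by
          have h2 : s (Submodule.mkQ I x) = x * s (Submodule.mkQ I 1) := by
            have : Submodule.mkQ I x = x • Submodule.mkQ I 1 := by
              rw [← map_smul, smul_eq_mul, mul_one]
            rw [this, map_smul, smul_eq_mul]
          rw [mul_sub, mul_one, ← h2, h0, map_zero, sub_zero]
        rw [h1]
        exact Ideal.mul_mem_left _ _ (Ideal.subset_span rfl)
      · rw [Ideal.span_le]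
        rintro x hx
        rw [Set.mem_singleton_iff] at hx
        subst hx
        exact hmem 1
    rw [hgen]
    exact Submodule.fg_span_singleton _
  tfae_finish

end Groth.Agent.S6354
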