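import Groth.Statements.S6355
import Groth.Agent.S6353
import Groth.Agent.Lib.FlatRankLocus_helper3
-- import your own Groth.Agent.* helpers here

set_option autoImplicit false
universe u
open CAlg


namespace Groth.Agent.S6355

/-- For a commutative ring R the following are equivalent: (1) every subset of Spec R which is closed
and stable under generalization is open; (2) every finite flat R-module is finite locally free, i.e.
(for finite modules) projective. -/
theorem result (R : Type u) [CommRing R] :
    (∀ Z : Set (PrimeSpectrum R), IsClosed Z → StableUnderGeneralization Z → IsOpen Z) ↔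
      ∀ (M : Type u) [AddCommGroup M] [Module R M], Module.Finite R M → Module.Flat R M →
        Module.Projective R M := by
  constructor
  · intro h1 M _ _ hfin hflat
    exact Groth.Agent.Lib.FlatRankLocus.projective_of_closed_genstable_open M h1
  · intro h2 Z hZc hZg
    obtain ⟨I, hI, rfl⟩ := (Groth.Agent.S6353.result R).2 Z hZc hZg
    have hfin : Module.Finite R (R ⧸ I) :=
      Module.Finite.of_surjective (Ideal.Quotient.mkₐ R I).toLinearMap
        (Ideal.Quotient.mkₐ_surjective R I)
    have hproj : Module.Projective R (R ⧸ I) := h2 (R ⧸ I) hfin hI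
    obtain ⟨s, hs⟩ := Module.projective_lifting_property (Ideal.Quotient.mkₐ R I).toLinearMap
      (LinearMap.id) (Ideal.Quotient.mkₐ_surjective R I)
    have hs1 : Ideal.Quotient.mk I (s 1) = 1 := LinearMap.congr_fun hs 1
    have h1e : 1 - s 1 ∈ I := by
      rw [← Ideal.Quotient.eq_zero_iff_mem, map_sub, hs1, map_one, sub_self]
    have hxe : ∀ x ∈ I, x * s 1 = 0 := by
      intro x hx
      have h3 : x • s 1 = s (x • (1 : R ⧸ I)) := (map_smul s x 1).symm
      have h4 : x • (1 : R ⧸ I) = 0 := by
        rw [Algebra.smul_def, mul_one]
        exact Ideal.Quotient.eq_zero_iff_mem.2 hx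
      rw [← smul_eq_mul, h3, h4, map_zero]
    have hxe2 : ∀ x ∈ I, x = x * (1 - s 1) := by
      intro x hx
      rw [mul_sub, mul_one, hxe x hx, sub_zero]
    have hidem : IsIdempotentElem (1 - s 1) := (hxe2 _ h1e).symm
    have hIe : I = Ideal.span {1 - s 1} := by
      apply le_antisymm
      · intro x hx
        rw [hxe2 x hx]
        exact Ideal.mul_mem_left _ _ (Ideal.subset_span rfl)
      · rw [Ideal.span_le]
        intro y hy
        rw [Set.mem_singleton_iff] at hy
        rw [hy]
        exact h1e
    rw [hIe, PrimeSpectrum.zeroLocus_span,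
      PrimeSpectrum.zeroLocus_eq_basicOpen_of_isIdempotentElem _ hidem]
    exact (PrimeSpectrum.basicOpen _).2

end Groth.Agent.S6355
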