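import Groth.Statements.S6362
import Mathlib

set_option autoImplicit false
universe u
open scoped TensorProduct
open Fields

namespace Groth.Agent.S6362

/-- Let K/F be a finite separable extension and L/F an extension with L algebraically closed. Then the
L-algebra map K ⊗_F L → ∏_σ L, indexed by the F-algebra maps σ : K → L and sending a ⊗ b to (σ(a)
b)_σ, is an isomorphism; stated as bijectivity of that map. -/
theorem result {F K L : Type u} [Field F] [Field K] [Field L]
    [Algebra F K] [Algebra F L] [FiniteDimensional F K] [Algebra.IsSeparable F K] [IsAlgClosed L] :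
    Function.Bijective (fun x : K ⊗[F] L => fun σ : K →ₐ[F] L =>
      Algebra.TensorProduct.lift σ (AlgHom.id F L) (fun a b => Commute.all (σ a) b) x) := by
  classical
  have hcard : Fintype.card (K →ₐ[F] L) = Module.finrank F K := AlgHom.card F K L
  let b : Module.Basis (K →ₐ[F] L) F K :=
    (Module.finBasis F K).reindex (Fintype.equivFinOfCardEq hcard).symm
  let P : Matrix (K →ₐ[F] L) (K →ₐ[F] L) L :=
    Algebra.embeddingsMatrixReindex F L b (Equiv.refl _)
  have hP : IsUnit P := by
    rw [Matrix.isUnit_iff_isUnit_det, isUnit_iff_ne_zero]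
    intro h0
    have h1 : algebraMap F L (Algebra.discr F b) = P.det ^ 2 :=
      Algebra.discr_eq_det_embeddingsMatrixReindex_pow_two F L b (Equiv.refl _)
    have h2 : Algebra.discr F b ≠ 0 := Algebra.discr_not_zero_of_basis F b
    apply h2
    apply (algebraMap F L).injective
    rw [h1, h0, map_zero]
    simp
  let Θ : K ⊗[F] L → ((K →ₐ[F] L) → L) := fun x σ =>
      Algebra.TensorProduct.lift σ (AlgHom.id F L) (fun a b => Commute.all (σ a) b) x
  let Ψ : ((K →ₐ[F] L) → L) → K ⊗[F] L := fun l => ∑ σ, b σ ⊗ₜ[F] l σ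
  have hΨ : Function.Surjective Ψ := by
    intro x
    induction x using TensorProduct.induction_on with
    | zero =>
      refine ⟨0, ?_⟩
      show ∑ σ, b σ ⊗ₜ[F] (0 : (K →ₐ[F] L) → L) σ = 0
      simp
    | tmul a c =>
      refine ⟨fun σ => b.repr a σ • c, ?_⟩
      show ∑ σ, b σ ⊗ₜ[F] (b.repr a σ • c) = a ⊗ₜ[F] c
      conv_rhs => rw [← b.sum_repr a]
      rw [TensorProduct.sum_tmul]
      refine Finset.sum_congr rfl (fun σ _ => ?_)
      rw [TensorProduct.smul_tmul]
    | add x y hx hy =>
      obtain ⟨l, rfl⟩ := hx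
      obtain ⟨l', rfl⟩ := hy
      refine ⟨l + l', ?_⟩
      show ∑ σ, b σ ⊗ₜ[F] (l + l') σ = (∑ σ, b σ ⊗ₜ[F] l σ) + ∑ σ, b σ ⊗ₜ[F] l' σ
      rw [← Finset.sum_add_distrib]
      refine Finset.sum_congr rfl (fun σ _ => ?_)
      rw [Pi.add_apply, TensorProduct.tmul_add]
  have hcomp : ∀ l, Θ (Ψ l) = Matrix.vecMul l P := by
    intro l
    funext τ
    show Algebra.TensorProduct.lift τ (AlgHom.id F L) (fun a b => Commute.all (τ a) b)
      (∑ σ, b σ ⊗ₜ[F] l σ) = Matrix.vecMul l P τ
    rw [map_sum]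
    simp only [Algebra.TensorProduct.lift_tmul, AlgHom.coe_id, id_eq]
    show _ = ∑ σ, l σ * P σ τ
    refine Finset.sum_congr rfl (fun σ _ => ?_)
    rw [mul_comm]
    rfl
  have hbij : Function.Bijective (Θ ∘ Ψ) := by
    have : Θ ∘ Ψ = fun l => Matrix.vecMul l P := funext hcomp
    rw [this]
    exact ⟨Matrix.vecMul_injective_iff_isUnit.mpr hP, Matrix.vecMul_surjective_iff_isUnit.mpr hP⟩
  have hΨi : Function.Injective Ψ := Function.Injective.of_comp hbij.1
  exact (Function.Bijective.of_comp_iff Θ ⟨hΨi, hΨ⟩).mp hbij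

end Groth.Agent.S6362
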