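import Groth.Statements.S6364
import Mathlib

set_option autoImplicit false
universe u
open Fields

namespace Groth.Agent.S6364

open IntermediateField in
/-- Let L/K be a finite extension and a ∈ L with minimal polynomial P over K. Then P ^ e, with e = [L :
K(a)], is the characteristic polynomial of multiplication by a (the K-linear map x ↦ a x on L), and
e · deg P = [L : K]. -/
theorem result {K L : Type u} [Field K] [Field L] [Algebra K L] [FiniteDimensional K L]
    (a : L) :
    (Algebra.lmul K L a).charpoly = minpoly K a ^ Module.finrank K⟮a⟯ L ∧
      Module.finrank K⟮a⟯ L * (minpoly K a).natDegree = Module.finrank K L := by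
  classical
  have hint : IsIntegral K a := Algebra.IsIntegral.isIntegral a
  have hblock : ∀ (d e : ℕ) (N : Matrix (Fin d) (Fin d) K),
      (Matrix.blockDiagonal (fun _ : Fin e => N)).charpoly = N.charpoly ^ e := by
    intro d e N
    have hcm : (Matrix.blockDiagonal (fun _ : Fin e => N)).charmatrix =
        Matrix.blockDiagonal (fun _ : Fin e => N.charmatrix) := by
      apply Matrix.ext
      rintro ⟨i, k⟩ ⟨j, k'⟩
      simp only [Matrix.charmatrix_apply, Matrix.blockDiagonal_apply, Matrix.diagonal_apply,
        Prod.mk.injEq]
      by_cases hk : k = k'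
      · by_cases hij : i = j <;> simp [hk, hij]
      · simp [hk]
    rw [Matrix.charpoly, hcm, Matrix.det_blockDiagonal, Finset.prod_const, Finset.card_univ,
      Fintype.card_fin]
    rfl
  constructor
  · rw [← LinearMap.charpoly_toMatrix (Algebra.lmul K L a)
      ((IntermediateField.adjoin.powerBasis hint).basis.smulTower (Module.finBasis K⟮a⟯ L)),
      ← Algebra.leftMulMatrix_apply]
    have ha : a = algebraMap K⟮a⟯ L (IntermediateField.adjoin.powerBasis hint).gen := by
      rw [IntermediateField.adjoin.powerBasis_gen]
      exact (IntermediateField.AdjoinSimple.algebraMap_gen K a).symm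
    have hmat := congrArg (Algebra.leftMulMatrix
      ((IntermediateField.adjoin.powerBasis hint).basis.smulTower (Module.finBasis K⟮a⟯ L))) ha
    rw [hmat, Algebra.smulTower_leftMulMatrix_algebraMap, hblock, charpoly_leftMulMatrix,
      IntermediateField.adjoin.powerBasis_gen, IntermediateField.minpoly_gen]
  · rw [← IntermediateField.adjoin.finrank hint, mul_comm]
    exact Module.finrank_mul_finrank K K⟮a⟯ L

end Groth.Agent.S6364
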