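import Groth.Statements.S6367
import Mathlib

set_option autoImplicit false
universe u
open CAlg

namespace Groth.Agent.S6367

/-- Let 0 → M₁ → M₂ → M₃ → 0 be a short exact sequence of R-modules (f injective, g surjective, image of
f = kernel of g). If M₁ and M₃ are coherent — finitely generated with every finitely generated
submodule finitely presented — then so is M₂. -/
theorem result (R : Type u) [CommRing R] {M₁ M₂ M₃ : Type u}
    [AddCommGroup M₁] [Module R M₁] [AddCommGroup M₂] [Module R M₂] [AddCommGroup M₃] [Module R M₃]
    (f : M₁ →ₗ[R] M₂) (g : M₂ →ₗ[R] M₃) (hf : Function.Injective f) (hg : Function.Surjective g)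
    (hfg : LinearMap.range f = LinearMap.ker g)
    (h₁ : (Module.Finite R M₁ ∧ ∀ N : Submodule R M₁, N.FG → Module.FinitePresentation R N))
    (h₃ : (Module.Finite R M₃ ∧ ∀ N : Submodule R M₃, N.FG → Module.FinitePresentation R N)) :
    (Module.Finite R M₂ ∧ ∀ N : Submodule R M₂, N.FG → Module.FinitePresentation R N) := by
  obtain ⟨hfin₁, hcoh₁⟩ := h₁
  obtain ⟨hfin₃, hcoh₃⟩ := h₃
  have hgf : ∀ x, g (f x) = 0 := fun x =>
    LinearMap.mem_ker.mp (hfg ▸ LinearMap.mem_range_self f x)
  constructor
  · rw [Module.finite_def]
    apply Submodule.fg_of_fg_map_of_fg_inf_ker g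
    · rw [Submodule.map_top, LinearMap.range_eq_top.mpr hg]
      exact Module.Finite.fg_top
    · rw [top_inf_eq, ← hfg, LinearMap.range_eq_map]
      exact Module.Finite.fg_top.map f
  · intro N hN
    haveI : Module.Finite R N := Module.Finite.iff_fg.mpr hN
    have hN₃ : (LinearMap.range (g ∘ₗ N.subtype)).FG := Submodule.fg_range _
    haveI : Module.FinitePresentation R (LinearMap.range (g ∘ₗ N.subtype)) := hcoh₃ _ hN₃
    have hl' : Function.Surjective (g ∘ₗ N.subtype).rangeRestrict :=
      (g ∘ₗ N.subtype).surjective_rangeRestrict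
    have hker : (LinearMap.ker (g ∘ₗ N.subtype).rangeRestrict).FG :=
      Module.FinitePresentation.fg_ker _ hl'
    have hK₁mem : ∀ x : N.comap f, f x ∈ N := fun x => x.2
    let j : N.comap f →ₗ[R] LinearMap.ker (g ∘ₗ N.subtype).rangeRestrict :=
      LinearMap.codRestrict (LinearMap.ker (g ∘ₗ N.subtype).rangeRestrict)
        (LinearMap.codRestrict N (f ∘ₗ (N.comap f).subtype) hK₁mem) (by
          intro x
          rw [LinearMap.mem_ker]
          apply Subtype.ext
          exact hgf x.1)
    have hj : Function.Bijective j := by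
      constructor
      · intro x y hxy
        apply Subtype.ext
        apply hf
        have := congrArg
          (fun z : LinearMap.ker (g ∘ₗ N.subtype).rangeRestrict => ((z.1 : N) : M₂)) hxy
        exact this
      · rintro ⟨⟨y, hyN⟩, hy⟩
        have hy0 : g y = 0 := by
          have := LinearMap.mem_ker.mp hy
          exact congrArg Subtype.val this
        have hyr : y ∈ LinearMap.range f := by
          rw [hfg]
          exact LinearMap.mem_ker.mpr hy0
        obtain ⟨x, rfl⟩ := hyr
        exact ⟨⟨x, hyN⟩, rfl⟩
    let e : N.comap f ≃ₗ[R] LinearMap.ker (g ∘ₗ N.subtype).rangeRestrict :=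
      LinearEquiv.ofBijective j hj
    have hK₁fg : (N.comap f).FG := by
      haveI : Module.Finite R (LinearMap.ker (g ∘ₗ N.subtype).rangeRestrict) :=
        Module.Finite.iff_fg.mpr hker
      have : Module.Finite R (N.comap f) := Module.Finite.equiv e.symm
      exact Module.Finite.iff_fg.mp this
    haveI : Module.FinitePresentation R (N.comap f) := hcoh₁ _ hK₁fg
    haveI : Module.FinitePresentation R (LinearMap.ker (g ∘ₗ N.subtype).rangeRestrict) :=
      Module.FinitePresentation.of_equiv e
    exact Module.finitePresentation_of_ker (g ∘ₗ N.subtype).rangeRestrict hl'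

end Groth.Agent.S6367
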