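import Groth.Statements.S6368
import Mathlib

set_option autoImplicit false
universe u
open scoped TensorProduct
open CAlg

namespace Groth.Agent.S6368

/-- Let R → S be faithfully flat and M an R-module. If the S-module S ⊗_R M is countably generated then
M is countably generated. -/
theorem result (R S : Type u) [CommRing R] [CommRing S] [Algebra R S]
    [Module.FaithfullyFlat R S] (M : Type u) [AddCommGroup M] [Module R M]
    (h : CAlg.IsCountablyGenerated S (S ⊗[R] M)) : CAlg.IsCountablyGenerated R M := by
  classical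
  obtain ⟨s, hs, hspan⟩ := h
  have hex : ∀ t : S ⊗[R] M, ∃ N' : Submodule R M, N'.FG ∧
      t ∈ LinearMap.range (N'.subtype.lTensor S) := by
    intro t
    obtain ⟨N', hN', hsub⟩ := TensorProduct.exists_finite_submodule_right_of_setFinite
      ({t} : Set (S ⊗[R] M)) (Set.finite_singleton t)
    exact ⟨N', Module.Finite.iff_fg.mp hN', hsub (Set.mem_singleton t)⟩
  choose N' hN'fg hN't using hex
  have hfin : ∀ t, ∃ T : Set M, T.Finite ∧ Submodule.span R T = N' t :=
    fun t => Submodule.fg_def.mp (hN'fg t)
  choose T hTfin hTspan using hfin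
  have hU : (⋃ t ∈ s, T t).Countable := Set.Countable.biUnion hs fun t _ => (hTfin t).countable
  refine ⟨⋃ t ∈ s, T t, hU, ?_⟩
  have hle : ∀ t ∈ s, N' t ≤ Submodule.span R (⋃ t ∈ s, T t) := by
    intro t ht
    rw [← hTspan t]
    exact Submodule.span_mono (Set.subset_biUnion_of_mem ht)
  generalize Submodule.span R (⋃ t ∈ s, T t) = N at hle ⊢
  have hsurj : Function.Surjective (N.subtype.lTensor S) := by
    have hr : LinearMap.range (N.subtype.baseChange S) = ⊤ := by
      rw [eq_top_iff, ← hspan]
      apply Submodule.span_le.mpr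
      intro t ht
      obtain ⟨w, hw⟩ := hN't t
      refine ⟨((Submodule.inclusion (hle t ht)).lTensor S) w, ?_⟩
      change (N.subtype.lTensor S) (((Submodule.inclusion (hle t ht)).lTensor S) w) = t
      rw [← LinearMap.comp_apply, ← LinearMap.lTensor_comp, Submodule.subtype_comp_inclusion]
      exact hw
    intro y
    have hy : y ∈ LinearMap.range (N.subtype.baseChange S) := by rw [hr]; trivial
    obtain ⟨w, hw⟩ := hy
    exact ⟨w, hw⟩
  haveI : Subsingleton (S ⊗[R] (M ⧸ N)) := by
    have hz : ∀ p : S ⊗[R] (M ⧸ N), p = 0 := by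
      intro p
      obtain ⟨w, rfl⟩ := LinearMap.lTensor_surjective S N.mkQ_surjective p
      obtain ⟨v, rfl⟩ := hsurj w
      have h00 : N.mkQ ∘ₗ N.subtype = 0 := LinearMap.ext fun y => by simp
      rw [← LinearMap.comp_apply, ← LinearMap.lTensor_comp, h00, LinearMap.lTensor_zero,
        LinearMap.zero_apply]
    exact ⟨fun p q => by rw [hz p, hz q]⟩
  have hsub : Subsingleton (M ⧸ N) :=
    Module.FaithfullyFlat.lTensor_reflects_triviality R S (M ⧸ N)
  exact Submodule.Quotient.subsingleton_iff.mp hsub

end Groth.Agent.S6368
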