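import Groth.Statements.S6371
import Mathlib
-- import your own Groth.Agent.* helpers here

set_option autoImplicit false
universe u
open CAlg


namespace Groth.Agent.S6371

/-- A ring map R → S is an epimorphism of rings if and only if for every prime p of R the localized map
R_p → S_p is an epimorphism, where S_p is S localized at the image of R ∖ p. -/
theorem result (R S : Type u) [CommRing R] [CommRing S] [Algebra R S] :
    Algebra.IsEpi R S ↔ ∀ (p : Ideal R) [p.IsPrime],
      Algebra.IsEpi (Localization.AtPrime p) (Localization (Algebra.algebraMapSubmonoid S p.primeCompl)) := by
  classical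
  -- ring homs out of an epimorphism are determined by their restriction
  have hext : ∀ (A B : Type u) [CommRing A] [CommRing B] [Algebra A B] [Algebra.IsEpi A B]
      (T : Type u) [CommRing T] (g h : B →+* T),
      g.comp (algebraMap A B) = h.comp (algebraMap A B) → g = h := by
    intro A B _ _ _ hAB T _ g h w
    have e1 : CategoryTheory.Epi (CommRingCat.ofHom (algebraMap A B)) :=
      CommRingCat.epi_iff_epi.2 hAB
    have e2 : CategoryTheory.CategoryStruct.comp
        (CommRingCat.ofHom (algebraMap A B)) (CommRingCat.ofHom g) =
        CategoryTheory.CategoryStruct.comp
        (CommRingCat.ofHom (algebraMap A B)) (CommRingCat.ofHom h) := by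
      ext r
      exact congr($w r)
    have e3 := (CategoryTheory.cancel_epi _).1 e2
    exact congrArg (fun k => k.hom) e3
  have hepi : ∀ (A B : Type u) [CommRing A] [CommRing B] [Algebra A B],
      (∀ (T : Type u) [CommRing T] (g h : B →+* T),
        g.comp (algebraMap A B) = h.comp (algebraMap A B) → g = h) → Algebra.IsEpi A B := by
    intro A B _ _ _ H
    rw [← CommRingCat.epi_iff_epi]
    constructor
    intro Z g h w
    have := H Z g.hom h.hom (by
      ext r
      exact congr($(w).hom r))
    ext x
    exact congr($this x)
  constructor
  · intro hRS p hp
    apply hepi
    intro T _ g h w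
    -- agree on `S`, hence on the localisation
    have h1 : (g.comp (algebraMap S (Localization (Algebra.algebraMapSubmonoid S p.primeCompl)))).comp
        (algebraMap R S) =
        (h.comp (algebraMap S (Localization (Algebra.algebraMapSubmonoid S p.primeCompl)))).comp
        (algebraMap R S) := by
      ext r
      have := congr($w (algebraMap R (Localization.AtPrime p) r))
      simp only [RingHom.comp_apply] at this ⊢
      rw [← IsScalarTower.algebraMap_apply R (Localization.AtPrime p),
        IsScalarTower.algebraMap_apply R S] at this
      exact this
    have h2 := hext R S T _ _ h1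
    exact IsLocalization.ringHom_ext (Algebra.algebraMapSubmonoid S p.primeCompl) h2
  · intro H
    apply hepi
    intro T _ g h w
    letI : Algebra R T := (g.comp (algebraMap R S)).toAlgebra
    have hga : ∀ r : R, g (algebraMap R S r) = algebraMap R T r := fun r => rfl
    have hha : ∀ r : R, h (algebraMap R S r) = algebraMap R T r := fun r => (congr($w r)).symm
    ext s
    refine Module.eq_of_localization_maximal
      (fun P _ => Localization (Algebra.algebraMapSubmonoid T P.primeCompl))
      (fun P _ => (IsScalarTower.toAlgHom R T
        (Localization (Algebra.algebraMapSubmonoid T P.primeCompl))).toLinearMap) (g s) (h s) ?_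
    intro P hP
    haveI := H P
    have hgle : Algebra.algebraMapSubmonoid S P.primeCompl ≤
        (Algebra.algebraMapSubmonoid T P.primeCompl).comap g := by
      rintro _ ⟨r, hr, rfl⟩
      exact ⟨r, hr, (hga r).symm⟩
    have hhle : Algebra.algebraMapSubmonoid S P.primeCompl ≤
        (Algebra.algebraMapSubmonoid T P.primeCompl).comap h := by
      rintro _ ⟨r, hr, rfl⟩
      exact ⟨r, hr, (hha r).symm⟩
    let gP : Localization (Algebra.algebraMapSubmonoid S P.primeCompl) →+*
        Localization (Algebra.algebraMapSubmonoid T P.primeCompl) :=
      IsLocalization.map _ g hgle
    let hP' : Localization (Algebra.algebraMapSubmonoid S P.primeCompl) →+*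
        Localization (Algebra.algebraMapSubmonoid T P.primeCompl) :=
      IsLocalization.map _ h hhle
    have hcomp : gP.comp (algebraMap (Localization.AtPrime P)
        (Localization (Algebra.algebraMapSubmonoid S P.primeCompl))) =
        hP'.comp (algebraMap (Localization.AtPrime P)
        (Localization (Algebra.algebraMapSubmonoid S P.primeCompl))) := by
      apply IsLocalization.ringHom_ext P.primeCompl
      ext r
      simp only [RingHom.comp_apply]
      rw [← IsScalarTower.algebraMap_apply R (Localization.AtPrime P),
        IsScalarTower.algebraMap_apply R S]
      change IsLocalization.map _ g hgle _ = IsLocalization.map _ h hhle _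
      rw [IsLocalization.map_eq, IsLocalization.map_eq, hga, hha]
    have hgh := hext (Localization.AtPrime P)
      (Localization (Algebra.algebraMapSubmonoid S P.primeCompl)) _ gP hP' hcomp
    have := congr($hgh (algebraMap S _ s))
    change IsLocalization.map _ g hgle _ = IsLocalization.map _ h hhle _ at this
    rw [IsLocalization.map_eq, IsLocalization.map_eq] at this
    exact this

end Groth.Agent.S6371
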