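import Groth.Statements.S6372
-- import your own Groth.Agent.* helpers here

set_option autoImplicit false
universe u
open CAlg

namespace Groth.Agent.S6372

/-- A faithfully flat epimorphism of rings is an isomorphism: if R → S is faithfully flat and an
epimorphism in the category of rings then it is bijective. -/
theorem result (R S : Type u) [CommRing R] [CommRing S] [Algebra R S]
    [Module.FaithfullyFlat R S] [Algebra.IsEpi R S] : Function.Bijective (algebraMap R S) := by
  have hmul : Function.Bijective (TensorProduct.lift (LinearMap.mul R S)) :=
    ⟨Algebra.IsEpi.injective_lift_mul, fun s => ⟨s ⊗ₜ 1, by simp⟩⟩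
  have hcomp : (TensorProduct.lift (LinearMap.mul R S)) ∘ₗ (Algebra.linearMap R S).lTensor S =
      (TensorProduct.rid R S).toLinearMap := by
    ext s
    simp
  have hb : Function.Bijective ((Algebra.linearMap R S).lTensor S) := by
    have h2 : Function.Bijective ((TensorProduct.lift (LinearMap.mul R S)) ∘
        (Algebra.linearMap R S).lTensor S) := by
      rw [← LinearMap.coe_comp, hcomp]
      exact (TensorProduct.rid R S).bijective
    exact (Function.Bijective.of_comp_iff' hmul _).mp h2
  exact (Module.FaithfullyFlat.lTensor_bijective_iff_bijective R S _).mp hb

end Groth.Agent.S6372
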