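import Groth.Statements.S6374
import Mathlib
-- import your own Groth.Agent.* helpers here

set_option autoImplicit false
universe u
open CAlg
open TensorProduct

namespace Groth.Agent.S6374

/-- For an epimorphism of rings R → S, the induced map Spec S → Spec R is injective and induces trivial
residue field extensions; stated in the form the proof gives: for every prime p of R the fibre ring
S ⊗_R κ(p) is either zero or κ(p) → S ⊗_R κ(p) is bijective, together with injectivity of Spec S →
Spec R. -/
theorem result (R S : Type u) [CommRing R] [CommRing S] [Algebra R S]
    [Algebra.IsEpi R S] :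
    Function.Injective (PrimeSpectrum.comap (algebraMap R S)) ∧
      ∀ (p : Ideal R) [p.IsPrime],
        Subsingleton (p.Fiber S) ∨ Function.Bijective (algebraMap p.ResidueField (p.Fiber S)) := by
  classical
  have hext : ∀ (A B : Type u) [CommRing A] [CommRing B] [Algebra A B] [Algebra.IsEpi A B]
      (T : Type u) [CommRing T] (g h : B →+* T),
      g.comp (algebraMap A B) = h.comp (algebraMap A B) → g = h := by
    intro A B _ _ _ hAB T _ g h w
    have e1 : CategoryTheory.Epi (CommRingCat.ofHom (algebraMap A B)) :=
      CommRingCat.epi_iff_epi.2 hAB
    have e2 : CategoryTheory.CategoryStruct.comp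
        (CommRingCat.ofHom (algebraMap A B)) (CommRingCat.ofHom g) =
        CategoryTheory.CategoryStruct.comp
        (CommRingCat.ofHom (algebraMap A B)) (CommRingCat.ofHom h) := by
      ext r
      exact congr($w r)
    have e3 := (CategoryTheory.cancel_epi _).1 e2
    exact congrArg (fun k => k.hom) e3
  have hepi : ∀ (A B : Type u) [CommRing A] [CommRing B] [Algebra A B],
      (∀ (T : Type u) [CommRing T] (g h : B →+* T),
        g.comp (algebraMap A B) = h.comp (algebraMap A B) → g = h) → Algebra.IsEpi A B := by
    intro A B _ _ _ H
    rw [← CommRingCat.epi_iff_epi]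
    constructor
    intro Z g h w
    have := H Z g.hom h.hom (by
      ext r
      exact congr($(w).hom r))
    ext x
    exact congr($this x)
  have key : ∀ (p : Ideal R) [p.IsPrime],
      Subsingleton (p.Fiber S) ∨ Function.Bijective (algebraMap p.ResidueField (p.Fiber S)) := by
    intro p _
    by_cases hsub : Subsingleton (p.Fiber S)
    · left; exact hsub
    · right
      rw [not_subsingleton_iff_nontrivial] at hsub
      haveI : Algebra.IsEpi p.ResidueField (p.Fiber S) := by
        apply hepi
        intro T _ g h w
        have h1 : (g.comp (Algebra.TensorProduct.includeRight :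
            S →ₐ[R] p.Fiber S).toRingHom).comp (algebraMap R S) =
            (h.comp (Algebra.TensorProduct.includeRight :
            S →ₐ[R] p.Fiber S).toRingHom).comp (algebraMap R S) := by
          ext r
          have e : (Algebra.TensorProduct.includeRight : S →ₐ[R] p.Fiber S) (algebraMap R S r) =
              algebraMap p.ResidueField (p.Fiber S) (algebraMap R p.ResidueField r) := by
            rw [AlgHom.commutes, ← IsScalarTower.algebraMap_apply]
          change g ((Algebra.TensorProduct.includeRight : S →ₐ[R] p.Fiber S) (algebraMap R S r)) =
            h ((Algebra.TensorProduct.includeRight : S →ₐ[R] p.Fiber S) (algebraMap R S r))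
          rw [e]
          exact congr($w _)
        have h2 := hext R S T _ _ h1
        apply RingHom.ext
        intro x
        induction x using TensorProduct.induction_on with
        | zero => simp
        | tmul a s =>
          have e : a ⊗ₜ[R] s = algebraMap p.ResidueField (p.Fiber S) a *
              (Algebra.TensorProduct.includeRight : S →ₐ[R] p.Fiber S) s := by
            rw [Algebra.TensorProduct.algebraMap_apply, Algebra.TensorProduct.includeRight_apply,
              Algebra.TensorProduct.tmul_mul_tmul, mul_one, one_mul]
            rfl
          rw [e, map_mul, map_mul]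
          have e1 : g (algebraMap p.ResidueField (p.Fiber S) a) =
              h (algebraMap p.ResidueField (p.Fiber S) a) := congr($w a)
          have e2 : g ((Algebra.TensorProduct.includeRight : S →ₐ[R] p.Fiber S) s) =
              h ((Algebra.TensorProduct.includeRight : S →ₐ[R] p.Fiber S) s) := congr($h2 s)
          rw [e1, e2]
        | add x y hx hy => rw [map_add, map_add, hx, hy]
      constructor
      · exact (algebraMap p.ResidueField (p.Fiber S)).injective
      · let f : p.ResidueField →ₗ[p.ResidueField] p.Fiber S := Algebra.linearMap _ _
        have hf : LinearMap.ker f = ⊥ :=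
          LinearMap.ker_eq_bot.2 (algebraMap p.ResidueField (p.Fiber S)).injective
        obtain ⟨φ, hφ⟩ := f.exists_leftInverse_of_injective hf
        intro x
        refine ⟨φ x, ?_⟩
        have h1 := (Algebra.isEpi_iff_forall_one_tmul_eq p.ResidueField (p.Fiber S)).1
          inferInstance x
        have h2 := congrArg (fun t => TensorProduct.lid p.ResidueField (p.Fiber S)
          (φ.rTensor (p.Fiber S) t)) h1
        simp only [LinearMap.rTensor_tmul, TensorProduct.lid_tmul] at h2
        have h3 : φ 1 = 1 := by
          have h4 : φ (f 1) = 1 := congr($hφ 1)
          change φ (algebraMap p.ResidueField (p.Fiber S) 1) = 1 at h4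
          rwa [map_one] at h4
        rw [h3, one_smul] at h2
        rw [Algebra.algebraMap_eq_smul_one]
        exact h2.symm
  refine ⟨?_, key⟩
  intro q1 q2 h12
  let p := PrimeSpectrum.comap (algebraMap R S) q1
  let e := PrimeSpectrum.preimageEquivFiber R S p
  have m1 : q1 ∈ PrimeSpectrum.comap (algebraMap R S) ⁻¹' {p} := rfl
  have m2 : q2 ∈ PrimeSpectrum.comap (algebraMap R S) ⁻¹' {p} := h12.symm
  rcases key p.asIdeal with hs | hb
  · exact (IsEmpty.false (e ⟨q1, m1⟩)).elim
  · haveI : Subsingleton (PrimeSpectrum p.asIdeal.ResidueField) :=
      Unique.instSubsingleton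
    haveI : Subsingleton (PrimeSpectrum (p.asIdeal.Fiber S)) :=
      (PrimeSpectrum.comapEquiv (RingEquiv.ofBijective
        (algebraMap p.asIdeal.ResidueField (p.asIdeal.Fiber S)) hb)).symm.injective.subsingleton
    have := e.injective (Subsingleton.elim (e ⟨q1, m1⟩) (e ⟨q2, m2⟩))
    exact congrArg Subtype.val this

end Groth.Agent.S6374
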