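import Groth.Statements.S6378
import Mathlib
import Groth.Agent.Lib.TorBridge_helper9

set_option autoImplicit false
universe u
open CategoryTheory
open CAlg

open TensorProduct
namespace Groth.Agent.S6378

/-- Let (R, m, κ) be a local ring and M an R-module with Tor_1^R(κ, M) = 0. Then Tor_1^R(N, M) = 0 for
every finite length R-module N. -/
theorem result (R : Type u) [CommRing R] [IsLocalRing R]
    (M : Type u) [AddCommGroup M] [Module R M]
    (h : Limits.IsZero (((CategoryTheory.Tor (ModuleCat.{u} R) 1).obj (ModuleCat.of R (IsLocalRing.ResidueField R))).obj (ModuleCat.of R M)))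
    (N : Type u) [AddCommGroup N] [Module R N] (hN : IsFiniteLength R N) :
    Limits.IsZero (((CategoryTheory.Tor (ModuleCat.{u} R) 1).obj (ModuleCat.of R N)).obj (ModuleCat.of R M)) := by

  classical
  have key : ∀ (K F : Type u) [AddCommGroup K] [Module R K] [AddCommGroup F] [Module R F]
      [Module.Flat R F] (f : K →ₗ[R] F) (g : F →ₗ[R] M), Function.Injective f →
      Function.Exact f g → Function.Surjective g →
      Limits.IsZero (((CategoryTheory.Tor (ModuleCat.{u} R) 1).obj (ModuleCat.of R N)).obj
        (ModuleCat.of R M)) := by
    intro K F _ _ _ _ _ f g hf hfg hg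
    rw [Groth.Agent.Lib.TorBridge.isZero_tor_one_iff (IsLocalRing.ResidueField R) M f g hf hfg hg]
      at h
    rw [Groth.Agent.Lib.TorBridge.isZero_tor_one_iff N M f g hf hfg hg]
    -- transport along isomorphisms
    have htrans : ∀ (A B : Type u) [AddCommGroup A] [Module R A] [AddCommGroup B] [Module R B]
        (e : A ≃ₗ[R] B), Function.Injective (f.lTensor A) → Function.Injective (f.lTensor B) := by
      intro A B _ _ _ _ e hA
      have : f.lTensor B = (e.toLinearMap.rTensor F) ∘ₗ f.lTensor A ∘ₗ
          (e.symm.toLinearMap.rTensor K) := by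
        apply TensorProduct.ext'
        intro b k
        simp
      rw [this, LinearMap.coe_comp, LinearMap.coe_comp]
      have h1 : Function.Injective (e.toLinearMap.rTensor F) :=
        (LinearEquiv.rTensor F e).injective
      have h2 : Function.Injective (e.symm.toLinearMap.rTensor K) :=
        (LinearEquiv.rTensor K e.symm).injective
      exact h1.comp (hA.comp h2)
    induction hN with
    | of_subsingleton =>
      rename_i N' _ _ _
      haveI : Subsingleton (N' ⊗[R] K) := inferInstance
      exact Function.injective_of_subsingleton _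
    | of_simple_quotient hN' ih =>
      rename_i N₁ _ _ N₂ hsimple
      obtain ⟨m, hm, ⟨e⟩⟩ := isSimpleModule_iff_quot_maximal.mp hsimple
      have hm' : m = IsLocalRing.maximalIdeal R := IsLocalRing.eq_maximalIdeal hm
      subst hm'
      have h'' : Function.Injective (f.lTensor (N₁ ⧸ N₂)) :=
        htrans (IsLocalRing.ResidueField R) (N₁ ⧸ N₂) e.symm h
      exact Groth.Agent.Lib.LocalCrit2.T1_ext f N₂.subtype N₂.mkQ (Submodule.injective_subtype _)
        (LinearMap.exact_subtype_mkQ N₂) (Submodule.mkQ_surjective N₂) ih h''
  exact key (LinearMap.ker (Finsupp.linearCombination R (id : M → M))) (M →₀ R)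
    (LinearMap.ker (Finsupp.linearCombination R (id : M → M))).subtype
    (Finsupp.linearCombination R (id : M → M)) (Submodule.injective_subtype _)
    (LinearMap.exact_subtype_ker_map _) (Finsupp.linearCombination_id_surjective R M)

end Groth.Agent.S6378
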