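import Groth.Statements.S6385
import Groth.Agent.Lib.BCDim_helper8

set_option autoImplicit false
universe u
open CAlg

namespace Groth.Agent.S6385

/-- Let k be a field, S a finite type k-algebra, q a prime of S and x the corresponding point of X =
Spec S. Then there is g ∈ S, g ∉ q, such that dim S_g equals dim_x X — the minimum of dim S_{g'}
over all g' ∉ q — and, writing d for this dimension, a finite injective k-algebra map from the
polynomial ring k[y_1, ..., y_d] to S_g. -/
theorem result (k S : Type u) [Field k] [CommRing S] [Algebra k S]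
    [Algebra.FiniteType k S] (q : Ideal S) [q.IsPrime] :
    ∃ (g : S) (d : ℕ), g ∉ q ∧ ringKrullDim (Localization.Away g) = d ∧
      (∀ g' : S, g' ∉ q → ringKrullDim (Localization.Away g) ≤ ringKrullDim (Localization.Away g')) ∧
      ∃ φ : MvPolynomial (Fin d) k →ₐ[k] Localization.Away g, Function.Injective φ ∧ φ.toRingHom.Finite := by
  classical
  haveI : Algebra.FinitePresentation k S := Algebra.FinitePresentation.of_finiteType.mp inferInstance
  have key : ∀ g : S, g ∉ q → ∃ (d : ℕ), ringKrullDim (Localization.Away g) = d ∧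
      ∃ φ : MvPolynomial (Fin d) k →ₐ[k] Localization.Away g,
        Function.Injective φ ∧ φ.toRingHom.Finite := by
    intro g hg
    haveI : Nontrivial (Localization.Away g) := by
      rw [← not_subsingleton_iff_nontrivial,
        IsLocalization.subsingleton_iff (M := Submonoid.powers g)]
      rintro ⟨n, hn⟩
      have hn' : g ^ n = 0 := hn
      exact hg (Ideal.IsPrime.mem_of_pow_mem inferInstance n (by rw [hn']; exact zero_mem _))
    obtain ⟨s, φ, hinj, hfin⟩ := exists_finite_inj_algHom_of_fg k (Localization.Away g)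
    exact ⟨s, Groth.Agent.BCDimH8.dim_of_integral_inj s (RingEquiv.refl _) φ.toRingHom hinj
      hfin.to_isIntegral, φ, hinj, hfin⟩
  have h1 : (1 : S) ∉ q := fun h => (inferInstance : q.IsPrime).ne_top (q.eq_top_iff_one.mpr h)
  let P : ℕ → Prop := fun d => ∃ g : S, g ∉ q ∧ ringKrullDim (Localization.Away g) = d
  have hP : ∃ d, P d := by
    obtain ⟨d, hd, _⟩ := key 1 h1
    exact ⟨d, 1, h1, hd⟩
  obtain ⟨g, hg, hd⟩ := Nat.find_spec hP
  refine ⟨g, Nat.find hP, hg, hd, ?_, ?_⟩
  · intro g' hg'
    obtain ⟨d', hd', _⟩ := key g' hg'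
    rw [hd, hd']
    exact_mod_cast Nat.find_min' hP ⟨g', hg', hd'⟩
  · obtain ⟨d', hd', φ, h1, h2⟩ := key g hg
    have hdd : d' = Nat.find hP := by
      rw [hd] at hd'
      exact_mod_cast hd'.symm
    rw [← hdd]
    exact ⟨φ, h1, h2⟩

end Groth.Agent.S6385
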