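import Groth.Statements.S6390
import Groth.Agent.Lib.Devissage2_helper3
-- import your own Groth.Agent.* helpers here

set_option autoImplicit false
universe u
open scoped Classical
open Groth.Agent.Lib
open CAlg

namespace Groth.Agent.S6390

/-- An R-module M is a direct sum of countably generated modules if and only if it admits a Kaplansky
dévissage, i.e. an increasing family of submodules (M_s) indexed by a well-ordered set S with M_s =
⋃_{t<s} M_t at non-successor indices (so the first term is 0), ⋃_s M_s = M, and, whenever t is the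
successor of s, M_s a direct summand of M_t with M_t/M_s countably generated. -/
theorem result (R : Type u) [CommRing R] (M : Type u)
    [AddCommGroup M] [Module R M] :
    (∃ (ι : Type u) (N : ι → Submodule R M), DirectSum.IsInternal N ∧ ∀ i, CAlg.IsCountablyGenerated R (N i)) ↔
      ∃ (S : Type u) (_ : LinearOrder S) (_ : WellFoundedLT S) (Mf : S → Submodule R M), Monotone Mf ∧
        (∀ s : S, Order.IsSuccPrelimit s → Mf s = ⨆ t : {t : S // t < s}, Mf t.1) ∧
        (⨆ s, Mf s) = ⊤ ∧
        (∀ s t : S, s ⋖ t → ∃ C : Submodule R M, Mf s ⊓ C = ⊥ ∧ Mf s ⊔ C = Mf t ∧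
          CAlg.IsCountablyGenerated R (↥(Mf t) ⧸ Submodule.comap (Mf t).subtype (Mf s))) := by
  constructor
  · rintro ⟨ι, N, hint, hcg⟩
    have hind : iSupIndep N := hint.submodule_iSupIndep
    have htop : iSup N = ⊤ := hint.submodule_iSup_eq_top
    obtain ⟨lo, wf⟩ := exists_wellFoundedLT ι
    refine ⟨WithTop ι, inferInstance, inferInstance, DevissageH3.filt N, DevissageH3.filt_mono N,
      DevissageH3.filt_prelimit N, DevissageH3.filt_top N htop, ?_⟩
    intro s t hst
    obtain ⟨i, -, hinf, hsup⟩ := DevissageH3.filt_succ N hind s t hst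
    refine ⟨N i, hinf, hsup, ?_⟩
    exact DevissageH3.isCountablyGenerated_of_surjective
      (DevissageH3.quotEquiv _ _ (N i) hinf hsup).toLinearMap
      (DevissageH3.quotEquiv _ _ (N i) hinf hsup).surjective (hcg i)
  · rintro ⟨S, lo, wf, Mf, hmono, hlim, htop, hC⟩
    choose C hCinf hCsup hCcg using fun p : {p : S × S // p.1 ⋖ p.2} => hC p.1.1 p.1.2 p.2
    have hind := DevissageH3.iSupIndep_of_devissage Mf hmono C hCinf hCsup
    have htop' := DevissageH3.iSup_eq_top_of_devissage Mf hlim htop C hCsup
    refine ⟨{p : S × S // p.1 ⋖ p.2}, C,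
      DirectSum.isInternal_submodule_of_iSupIndep_of_iSup_eq_top (dec_ι := _) hind htop', ?_⟩
    intro p
    exact DevissageH3.isCountablyGenerated_of_surjective
      (DevissageH3.quotEquiv _ _ (C p) (hCinf p) (hCsup p)).symm.toLinearMap
      (DevissageH3.quotEquiv _ _ (C p) (hCinf p) (hCsup p)).symm.surjective (hCcg p)

end Groth.Agent.S6390
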