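import Groth.Statements.S6392
import Groth.Agent.Lib.MLColim_lead

set_option autoImplicit false
universe u
open CAlg

namespace Groth.Agent.S6392

/-- Suppose M is the colimit of finitely presented R-modules G_i along a directed system over a nonempty
directed index set (transition maps f_ij), and M is both Mittag-Leffler and countably generated.
Then some countable directed subset I' of the indices already computes M: the canonical map from the
colimit of the G_i with i ∈ I' to M is bijective. -/
theorem result (R : Type u) [CommRing R]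
    {ι : Type u} [Preorder ι] [IsDirected ι (· ≤ ·)] [Nonempty ι] [DecidableEq ι] (G : ι → Type u)
    [∀ i, AddCommGroup (G i)] [∀ i, Module R (G i)] [∀ i, Module.FinitePresentation R (G i)]
    (f : ∀ i j, i ≤ j → G i →ₗ[R] G j) [DirectedSystem G fun i j h => f i j h]
    (hML : CAlg.IsMittagLeffler R (Module.DirectLimit G f))
    (hc : CAlg.IsCountablyGenerated R (Module.DirectLimit G f)) :
    ∃ I' : Set ι, I'.Countable ∧ DirectedOn (· ≤ ·) I' ∧
      Function.Bijective (Module.DirectLimit.lift R I' (fun i : I' => G i.1)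
        (fun (i j : I') (h : i ≤ j) => f i.1 j.1 h)
        (fun i : I' => Module.DirectLimit.of R ι G f i.1)
        (fun (i j : I') (h : i ≤ j) (x : G i.1) => Module.DirectLimit.of_f)) := by
  classical
  obtain ⟨s, hs, hspan⟩ := hc
  have hs' : (insert 0 s).Countable := hs.insert 0
  obtain ⟨x, hx⟩ := hs'.exists_eq_range (Set.insert_nonempty 0 s)
  have hxspan : Submodule.span R (Set.range x) = ⊤ := by
    rw [← hx, eq_top_iff, ← hspan]
    exact Submodule.span_mono (Set.subset_insert 0 s)
  have hxa : ∀ n, ∃ (a : ι) (y : G a), Module.DirectLimit.of R ι G f a y = x n :=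
    fun n => Module.DirectLimit.exists_of (x n)
  choose a y hy using hxa
  have hML' := (Groth.Agent.Lib.MLColim_lead.isMittagLeffler_directLimit_iff G f).mp hML
  have hstep : ∀ (i : ι) (n : ℕ), ∃ j : ι, ∃ hij : i ≤ j, a n ≤ j ∧
      ∀ (k : ι) (hik : i ≤ k), ∃ h : G k →ₗ[R] G j, f i j hij = h ∘ₗ f i k hik := by
    intro i n
    obtain ⟨j₀, hij₀, hj₀⟩ := hML' i
    obtain ⟨j, hj₀j, haj⟩ := exists_ge_ge j₀ (a n)
    refine ⟨j, hij₀.trans hj₀j, haj, fun k hik => ?_⟩
    obtain ⟨h, hh⟩ := hj₀ k hik
    refine ⟨f j₀ j hj₀j ∘ₗ h, ?_⟩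
    rw [LinearMap.comp_assoc, ← hh]
    refine LinearMap.ext fun z => ?_
    exact (DirectedSystem.map_map (f := fun i j h => f i j h) hij₀ hj₀j z).symm
  choose next hnext_le hnext_a hnext_fac using hstep
  let j : ℕ → ι := fun n => Nat.rec (a 0) (fun n jn => next jn (n + 1)) n
  have hj_le : ∀ n, j n ≤ j (n + 1) := fun n => hnext_le (j n) (n + 1)
  have hj_mono : Monotone j := monotone_nat_of_le_succ hj_le
  have ha_le : ∀ n, a n ≤ j n := by
    intro n
    cases n with
    | zero => exact le_rfl
    | succ n => exact hnext_a (j n) (n + 1)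
  have hker : ∀ (n : ℕ) (w : G (j n)), Module.DirectLimit.of R ι G f (j n) w = 0 →
      f (j n) (j (n + 1)) (hj_le n) w = 0 := by
    intro n w hw
    obtain ⟨k, hk, hk0⟩ := Module.DirectLimit.of.zero_exact hw
    obtain ⟨h, hh⟩ := hnext_fac (j n) (n + 1) k hk
    have := LinearMap.congr_fun hh w
    rw [LinearMap.comp_apply, hk0, map_zero] at this
    exact this
  refine ⟨Set.range j, Set.countable_range j, ?_, ?_⟩
  · rintro _ ⟨m, rfl⟩ _ ⟨n, rfl⟩
    exact ⟨j (max m n), ⟨max m n, rfl⟩, hj_mono (le_max_left m n), hj_mono (le_max_right m n)⟩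
  · haveI : Nonempty (Set.range j) := ⟨⟨j 0, 0, rfl⟩⟩
    haveI : IsDirected (Set.range j) (· ≤ ·) := ⟨by
      rintro ⟨_, m, rfl⟩ ⟨_, n, rfl⟩
      exact ⟨⟨j (max m n), max m n, rfl⟩, hj_mono (le_max_left m n),
        hj_mono (le_max_right m n)⟩⟩
    haveI : DirectedSystem (fun i : Set.range j => G i.1) (fun i j h => f i.1 j.1 h) :=
      ⟨fun i x => DirectedSystem.map_self (f := fun i j h => f i j h) x,
        fun k j i hij hjk x => DirectedSystem.map_map (f := fun i j h => f i j h) hij hjk x⟩
    constructor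
    · rw [injective_iff_map_eq_zero]
      intro z hz
      obtain ⟨⟨_, n, rfl⟩, w, rfl⟩ := Module.DirectLimit.exists_of z
      rw [Module.DirectLimit.lift_of] at hz
      have h0 := hker n w hz
      have h1 : Module.DirectLimit.of R (Set.range j) (fun i : Set.range j => G i.1)
          (fun i j h => f i.1 j.1 h) ⟨j (n + 1), n + 1, rfl⟩ (f (j n) (j (n + 1)) (hj_le n) w) =
          Module.DirectLimit.of R (Set.range j) (fun i : Set.range j => G i.1)
          (fun i j h => f i.1 j.1 h) ⟨j n, n, rfl⟩ w :=
        Module.DirectLimit.of_f (G := fun i : Set.range j => G i.1)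
          (f := fun i j h => f i.1 j.1 h) (i := ⟨j n, n, rfl⟩) (j := ⟨j (n + 1), n + 1, rfl⟩)
          (hij := hj_le n)
      rw [← h1, h0, map_zero]
    · intro m
      have hm : m ∈ Submodule.span R (Set.range x) := by rw [hxspan]; trivial
      induction hm using Submodule.span_induction with
      | mem v hv =>
        obtain ⟨n, rfl⟩ := hv
        refine ⟨Module.DirectLimit.of R (Set.range j) (fun i : Set.range j => G i.1)
          (fun i j h => f i.1 j.1 h) ⟨j n, n, rfl⟩ (f (a n) (j n) (ha_le n) (y n)), ?_⟩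
        rw [Module.DirectLimit.lift_of]
        show Module.DirectLimit.of R ι G f (j n) (f (a n) (j n) (ha_le n) (y n)) = x n
        rw [Module.DirectLimit.of_f, hy]
      | zero => exact ⟨0, map_zero _⟩
      | add u v _ _ hu hv =>
        obtain ⟨u', rfl⟩ := hu
        obtain ⟨v', rfl⟩ := hv
        exact ⟨u' + v', map_add _ _ _⟩
      | smul r u _ hu =>
        obtain ⟨u', rfl⟩ := hu
        exact ⟨r • u', map_smul _ _ _⟩

end Groth.Agent.S6392
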