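import Groth.Statements.S6393
import Groth.Agent.Lib.FibCat2_helper6
-- import your own Groth.Agent.* helpers here

set_option autoImplicit false
open CategoryTheory
universe v₂ u₂ v u
open FibCat

namespace Groth.Agent.S6393

/-- Given `p : S ⥤ C`, saying that p is fibred in groupoids is equivalent to saying that p is a fibred
functor whose fibre category over every object of C is a groupoid. -/
theorem result {C : Type u} [Category.{v} C] {S : Type u₂} [Category.{v₂} S] (p : S ⥤ C) :
    FibCat.IsFibGrpd p ↔ (p.IsFibered ∧ ∀ U : C, IsGroupoid (p.Fiber U)) := by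
  constructor
  · intro h
    refine ⟨Lib.FibCat_helper6.isFibered_of_isFibGrpd h, fun U => ⟨fun {a b} f => ?_⟩⟩
    have hf : p.IsHomLift (𝟙 U) f.1 := f.2
    have : IsIso f.1 := Lib.FibCat_helper6.isIso_of_isFibGrpd_id h (R := U) f.1
    have hinv : p.IsHomLift (𝟙 U) (inv f.1) := inferInstance
    refine ⟨⟨⟨inv f.1, hinv⟩, ?_, ?_⟩⟩
    · apply Subtype.ext
      exact IsIso.hom_inv_id f.1
    · apply Subtype.ext
      exact IsIso.inv_hom_id f.1
  · rintro ⟨hfib, hgrp⟩
    refine ⟨?_, ?_⟩
    · intro x V f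
      obtain ⟨y, φ, hφ⟩ := Functor.IsPreFibered.exists_isCartesian' (p := p) (a := x) f
      exact ⟨y, φ, inferInstance⟩
    · intro y x φ
      obtain ⟨y', ψ, hψ⟩ := Functor.IsPreFibered.exists_isCartesian' (p := p) (a := x) (p.map φ)
      have hψ' : p.IsStronglyCartesian (p.map φ) ψ := inferInstance
      let χ : y ⟶ y' := Functor.IsCartesian.map p (p.map φ) ψ φ
      have hχ : p.IsHomLift (𝟙 (p.obj y)) χ := by dsimp only [χ]; infer_instance
      have eχ : χ ≫ ψ = φ := Functor.IsCartesian.fac p (p.map φ) ψ φ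
      have hy' : p.obj y' = p.obj y := IsHomLift.domain_eq p (p.map φ) ψ
      let χ' : (Functor.Fiber.mk (p := p) (S := p.obj y) (a := y) rfl) ⟶ Functor.Fiber.mk (p := p) (S := p.obj y) hy' := ⟨χ, hχ⟩
      have : IsIso χ' := (hgrp (p.obj y)).all_isIso χ'
      have hiso : IsIso χ := by
        have : IsIso (Functor.Fiber.fiberInclusion.map χ') := inferInstance
        exact this
      have h1 : p.IsStronglyCartesian (𝟙 (p.obj y)) χ :=
        Functor.IsStronglyCartesian.of_isIso p (𝟙 (p.obj y)) χ
      have h2 : p.IsStronglyCartesian (𝟙 (p.obj y) ≫ p.map φ) (χ ≫ ψ) := inferInstance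
      rw [Category.id_comp, eχ] at h2
      exact h2

end Groth.Agent.S6393
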