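import Groth.Statements.S6398
import Groth.Agent.Lib.FibCat8_helper6
-- import your own Groth.Agent.* helpers here

set_option autoImplicit false
open CategoryTheory
universe v u
open FibCat

namespace Groth.Agent.S6398

/-- A functor `G` over `C` between categories fibred in groupoids is an equivalence of categories if and
only if each induced functor of fibre categories `𝒳_U ⥤ 𝒴_U` is an equivalence of categories. -/
theorem result {C : Type u} [Category.{v} C] {𝒳 𝒴 : BasedCategory.{v, max u v} C} (G : 𝒳 ⥤ᵇ 𝒴) (h𝒳 : FibCat.IsFibGrpd 𝒳.p) (h𝒴 : FibCat.IsFibGrpd 𝒴.p) :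
    G.toFunctor.IsEquivalence ↔ ∀ U : C, (FibCat.fiberFunctor G U).IsEquivalence := by
  constructor
  · intro h U
    have := Lib.FibCat_helper6.isFibered_of_isFibGrpd h𝒳
    have hE : IsEquivOver G := Lib.FibCat3_helper6.isEquivOver_of_isEquivalence G
    have h1 := Lib.FibCat8_helper6.fiberFunctor_full G U
    have h2 := Lib.FibCat8_helper6.fiberFunctor_faithful G U
    refine { faithful := h2, full := h1, essSurj := ⟨fun y => ?_⟩ }
    obtain ⟨x, ε, hε⟩ := Lib.FibCat3_helper6.essSurjOver_of_isEquivOver hE y.1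
    have hy : 𝒴.p.obj y.1 = U := y.2
    have hε' : 𝒴.p.IsHomLift (𝟙 U) ε.hom := Lib.FibCat3_helper6.isHomLift_id_of_eq hy _ hε
    have hεi : 𝒴.p.IsHomLift (𝟙 U) ε.inv := IsHomLift.lift_id_inv _ _ _
    have hx : 𝒳.p.obj x = U := by
      rw [← G.w_obj]; exact IsHomLift.domain_eq 𝒴.p (𝟙 U) ε.hom
    let X : 𝒳.p.Fiber U := Functor.Fiber.mk hx
    refine ⟨X, ⟨⟨⟨ε.hom, hε'⟩, ⟨ε.inv, hεi⟩, ?_, ?_⟩⟩⟩
    · apply Subtype.ext
      exact ε.hom_inv_id
    · apply Subtype.ext
      exact ε.inv_hom_id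
  · intro h
    have := Lib.FibCat_helper6.isFibered_of_isFibGrpd h𝒳
    have hfull : G.toFunctor.Full := Lib.FibCat8_helper6.full_of_fibFull
      (Lib.FibCat8_helper6.presCart_of_isFibGrpd G h𝒴)
      (Lib.FibCat8_helper6.fibFull_of_fiberFunctor G (fun U => (h U).full))
    have hfaith : G.toFunctor.Faithful := Lib.FibCat8_helper6.faithful_of_fibFaithful
      (Lib.FibCat8_helper6.presCart_of_isFibGrpd G h𝒴)
      (Lib.FibCat8_helper6.fibFaithful_of_fiberFunctor G (fun U => (h U).faithful))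
    refine { faithful := hfaith, full := hfull, essSurj := ⟨fun y => ?_⟩ }
    let Y : 𝒴.p.Fiber (𝒴.p.obj y) := Functor.Fiber.mk rfl
    have := h (𝒴.p.obj y)
    let X := (fiberFunctor G (𝒴.p.obj y)).objPreimage Y
    let e := (fiberFunctor G (𝒴.p.obj y)).objObjPreimageIso Y
    exact ⟨X.1, ⟨Functor.Fiber.fiberInclusion.mapIso e⟩⟩

end Groth.Agent.S6398
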