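import Groth.Statements.S6402
import Groth.Agent.Lib.FibCat3_helper6
-- import your own Groth.Agent.* helpers here

set_option autoImplicit false
open CategoryTheory CategoryTheory.Limits
universe v u
open FibCat

namespace Groth.Agent.S6402

open Groth.Agent.Lib.FibCat_helper6 Groth.Agent.Lib.FibCat3_helper6

section

universe v₂ u₂ v₃ u₃

variable {C : Type u} [Category.{v} C] {𝒳 : BasedCategory.{v₂, u₂} C} {𝒴 : BasedCategory.{v₃, u₃} C}
  (F : 𝒳 ⥤ᵇ 𝒴)

theorem diag_obj_fst (x : 𝒳.obj) : ((diag F).obj x).obj.fst = x := rfl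
theorem diag_obj_snd (x : 𝒳.obj) : ((diag F).obj x).obj.snd = x := rfl
theorem diag_obj_iso_hom (x : 𝒳.obj) : ((diag F).obj x).obj.iso.hom = 𝟙 (F.obj x) := rfl
theorem diag_map_fst {x y : 𝒳.obj} (f : x ⟶ y) : ((diag F).map f).hom.fst = f := rfl
theorem diag_map_snd {x y : 𝒳.obj} (f : x ⟶ y) : ((diag F).map f).hom.snd = f := rfl

/-- an isomorphism `Δ x ≅ Δ y` from two isomorphisms `x ≅ y` with the same image -/
def diagIso {x y : 𝒳.obj} (a b : x ≅ y) (h : F.map a.hom = F.map b.hom) :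
    (diag F).obj x ≅ (diag F).obj y :=
  ObjectProperty.isoMk _ (CategoricalPullback.mkIso a b (by
    show F.map a.hom ≫ 𝟙 _ = 𝟙 _ ≫ F.map b.hom
    rw [Category.comp_id, Category.id_comp, h]))

theorem diagIso_hom_fst {x y : 𝒳.obj} (a b : x ≅ y) (h : F.map a.hom = F.map b.hom) :
    (diagIso F a b h).hom.hom.fst = a.hom := rfl

theorem diagIso_hom_snd {x y : 𝒳.obj} (a b : x ≅ y) (h : F.map a.hom = F.map b.hom) :
    (diagIso F a b h).hom.hom.snd = b.hom := rfl

/-- the object of `𝒳 ×_{𝒳 ×_𝒴 𝒳} 𝒳` attached to an object of the inertia -/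
def EObj (X : InertiaObj F) : (fp (diag F) (diag F)).obj :=
  ⟨{ fst := X.pt
     snd := X.pt
     iso := diagIso F X.aut (Iso.refl _) (by rw [X.map_aut]; simp) },
    fp_isHomLift_of_fst _ _ (inertia_aut_isHomLift X)⟩

/-- the functor `E` -/
def EFunctor : InertiaObj F ⥤ (fp (diag F) (diag F)).obj where
  obj := EObj F
  map {X Y} φ := ObjectProperty.homMk
    { fst := φ.hom
      snd := φ.hom
      w := by
        apply ObjectProperty.hom_ext
        apply CategoricalPullback.hom_ext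
        · exact φ.comm.symm
        · show φ.hom ≫ 𝟙 _ = 𝟙 _ ≫ φ.hom
          simp }
  map_id X := by
    apply ObjectProperty.hom_ext; apply CategoricalPullback.hom_ext <;> rfl
  map_comp f g := by
    apply ObjectProperty.hom_ext; apply CategoricalPullback.hom_ext <;> rfl

def E : inertia F ⥤ᵇ fp (diag F) (diag F) where
  toFunctor := EFunctor F
  w := rfl

instance E_faithful : (E F).toFunctor.Faithful where
  map_injective {X Y} f g h := by
    apply InertiaObj.hom_ext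
    exact congrArg (fun k => k.hom.fst) h

instance E_full : (E F).toFunctor.Full where
  map_surjective {X Y} m := by
    have hw := m.hom.w
    have hw1 : m.hom.fst ≫ Y.aut.hom = X.aut.hom ≫ m.hom.snd :=
      congrArg (fun k => k.hom.fst) hw
    have hw2 : m.hom.fst ≫ 𝟙 _ = 𝟙 _ ≫ m.hom.snd := congrArg (fun k => k.hom.snd) hw
    rw [Category.comp_id, Category.id_comp] at hw2
    refine ⟨⟨m.hom.fst, ?_⟩, ?_⟩
    · exact (hw1.trans (congrArg (fun k => X.aut.hom ≫ k) hw2.symm)).symm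
    · apply ObjectProperty.hom_ext
      apply CategoricalPullback.hom_ext
      · rfl
      · exact hw2

theorem E_essSurj (z : (fp (diag F) (diag F)).obj) :
    ∃ (X : (inertia F).obj) (φ : (E F).obj X ≅ z),
      (fp (diag F) (diag F)).p.IsHomLift (𝟙 ((fp (diag F) (diag F)).p.obj z)) φ.hom := by
  -- z = (x₁, x₂, γ)
  let γ₁ : z.obj.fst ≅ z.obj.snd :=
    (CategoricalPullback.π₁ F.toFunctor F.toFunctor).mapIso ((fpProp F F).ι.mapIso z.obj.iso)
  let γ₂ : z.obj.fst ≅ z.obj.snd :=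
    (CategoricalPullback.π₂ F.toFunctor F.toFunctor).mapIso ((fpProp F F).ι.mapIso z.obj.iso)
  have hγ : F.map γ₁.hom = F.map γ₂.hom := by
    have := z.obj.iso.hom.hom.w
    have h2 : F.map γ₁.hom ≫ 𝟙 _ = 𝟙 _ ≫ F.map γ₂.hom := this
    rwa [Category.comp_id, Category.id_comp] at h2
  let α : z.obj.fst ≅ z.obj.fst := γ₁ ≪≫ γ₂.symm
  have hα : F.map α.hom = 𝟙 _ := by
    show F.map (γ₁.hom ≫ γ₂.inv) = 𝟙 _
    rw [Functor.map_comp, hγ, ← Functor.map_comp, Iso.hom_inv_id, Functor.map_id]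
  let X : InertiaObj F := ⟨z.obj.fst, α, hα⟩
  refine ⟨X, ObjectProperty.isoMk _ (CategoricalPullback.mkIso (Iso.refl _) γ₂ ?_), ?_⟩
  · apply ObjectProperty.hom_ext
    apply CategoricalPullback.hom_ext
    · show 𝟙 _ ≫ γ₁.hom = (γ₁.hom ≫ γ₂.inv) ≫ γ₂.hom
      simp
    · show 𝟙 _ ≫ γ₂.hom = 𝟙 _ ≫ γ₂.hom
      rfl
  · apply fp_isHomLift_of_fst
    show 𝒳.p.IsHomLift (𝟙 (𝒳.p.obj z.obj.fst)) (𝟙 z.obj.fst)
    infer_instance

theorem E_isEquivOver : IsEquivOver (E F) :=
  isEquivOver_of_fullyFaithful (E F) (E_essSurj F)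

end

/-- For a functor `F : 𝒳 ⟶ 𝒴` of fibred categories over `C` preserving strongly cartesian morphisms, the
relative inertia `I_{𝒳/𝒴}` (pairs `(x, α)` with `α` an automorphism of `x` sent to the identity by
`F`) is equivalent over `C` to `𝒳 ×_{Δ, 𝒳 ×_𝒴 𝒳, Δ} 𝒳`, by a functor over `C` whose composite with
either projection is the forgetful functor `(x, α) ↦ x`. (Only the two projections of the
equivalence are pinned here; its 2-cell component at `(x, α)` is `(α, 𝟙)`.) -/
theorem result {C : Type u} [Category.{v} C] {𝒳 𝒴 : BasedCategory.{v, max u v} C} [𝒳.p.IsFibered] [𝒴.p.IsFibered] (F : 𝒳 ⥤ᵇ 𝒴) (hF : FibCat.PreservesStronglyCartesian F) :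
    ∃ E : FibCat.inertia F ⥤ᵇ FibCat.fp (FibCat.diag F) (FibCat.diag F),
      FibCat.IsEquivOver E ∧ BasedFunctor.comp E (FibCat.fpFst _ _) = FibCat.inertiaToBase F ∧
        BasedFunctor.comp E (FibCat.fpSnd _ _) = FibCat.inertiaToBase F := by
  refine ⟨E F, E_isEquivOver F, ?_, ?_⟩
  · exact Lib.FibCat2_helper6.basedFunctor_ext rfl
  · exact Lib.FibCat2_helper6.basedFunctor_ext rfl

end Groth.Agent.S6402
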