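import Groth.Statements.S6399
import Groth.Agent.Lib.FibCat8_helper6
import Groth.Agent.S6402
-- import your own Groth.Agent.* helpers here

set_option autoImplicit false
open CategoryTheory
universe v u
open FibCat

namespace Groth.Agent.S6399

/-- A functor `G : 𝒳 ⟶ 𝒴` over `C` between categories fibred in groupoids is fully faithful if and only
if the diagonal `𝒳 ⟶ 𝒳 ×_𝒴 𝒳` is an equivalence over `C`. -/
theorem result {C : Type u} [Category.{v} C] {𝒳 𝒴 : BasedCategory.{v, max u v} C} (G : 𝒳 ⥤ᵇ 𝒴) (h𝒳 : FibCat.IsFibGrpd 𝒳.p) (h𝒴 : FibCat.IsFibGrpd 𝒴.p) :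
    (G.toFunctor.Full ∧ G.toFunctor.Faithful) ↔ FibCat.IsEquivOver (FibCat.diag G) := by
  constructor
  · rintro ⟨hfull, hfaith⟩
    have : (diag G).toFunctor.Faithful := ⟨fun {a b} f g e => congrArg (fun k => k.hom.fst) e⟩
    have : (diag G).toFunctor.Full := ⟨fun {a b} m => by
      have hw : G.map m.hom.fst ≫ 𝟙 _ = 𝟙 _ ≫ G.map m.hom.snd := m.hom.w
      rw [Category.comp_id, Category.id_comp] at hw
      have e : m.hom.fst = m.hom.snd := G.toFunctor.map_injective hw
      refine ⟨m.hom.fst, ?_⟩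
      apply ObjectProperty.hom_ext
      apply Limits.CategoricalPullback.hom_ext
      · rfl
      · exact e⟩
    apply Lib.FibCat3_helper6.isEquivOver_of_fullyFaithful
    intro z
    have hz : 𝒴.p.IsHomLift (𝟙 (𝒳.p.obj z.obj.fst)) z.obj.iso.hom := z.property
    let t : z.obj.fst ≅ z.obj.snd := G.toFunctor.preimageIso z.obj.iso
    have ht : G.map t.hom = z.obj.iso.hom := G.toFunctor.map_preimage _
    refine ⟨z.obj.fst, ObjectProperty.isoMk _ (Limits.CategoricalPullback.mkIso (Iso.refl _) t ?_), ?_⟩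
    · show G.map (𝟙 _) ≫ z.obj.iso.hom = 𝟙 _ ≫ G.map t.hom
      rw [ht, Functor.map_id, Category.id_comp]
    · apply Lib.FibCat_helper6.fp_isHomLift_of_fst
      show 𝒳.p.IsHomLift (𝟙 (𝒳.p.obj z.obj.fst)) (𝟙 z.obj.fst)
      infer_instance
  · intro h
    have hfullΔ := Lib.FibCat3_helper6.full_of_isEquivOver h
    have hfaith : G.toFunctor.Faithful := ⟨fun {a b} f g e => by
      let m : (diag G).obj a ⟶ (diag G).obj b := ObjectProperty.homMk
        { fst := f
          snd := g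
          w := by
            show G.map f ≫ 𝟙 _ = 𝟙 _ ≫ G.map g
            rw [Category.comp_id, Category.id_comp]; exact e }
      obtain ⟨c, hc⟩ := (diag G).toFunctor.map_surjective m
      have h1 : c = f := congrArg (fun k => k.hom.fst) hc
      have h2 : c = g := congrArg (fun k => k.hom.snd) hc
      exact h1.symm.trans h2⟩
    refine ⟨?_, hfaith⟩
    have := Lib.FibCat_helper6.isFibered_of_isFibGrpd h𝒳
    apply Lib.FibCat8_helper6.full_of_fibFull (Lib.FibCat8_helper6.presCart_of_isFibGrpd G h𝒴)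
    intro U a b ha hb m hm
    have : IsIso m := Lib.FibCat_helper6.isIso_of_isFibGrpd_id h𝒴 (R := U) m
    have hm' : 𝒴.p.IsHomLift (𝟙 (𝒳.p.obj a)) (asIso m).hom := by
      rw [ha]; exact hm
    let z : (fp G G).obj := ⟨{ fst := a, snd := b, iso := asIso m }, hm'⟩
    obtain ⟨x, ε, hε⟩ := Lib.FibCat3_helper6.essSurjOver_of_isEquivOver h z
    have hε' : (fp G G).p.IsHomLift (𝟙 U) ε.hom :=
      Lib.FibCat3_helper6.isHomLift_id_of_eq (𝒲 := fp G G) ha _ hε
    let s : x ⟶ a := ε.hom.hom.fst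
    let t : x ⟶ b := ε.hom.hom.snd
    have h1 : 𝒳.p.IsHomLift (𝟙 U) s := Lib.FibCat_helper6.fp_isHomLift_fst ε.hom (𝟙 U)
    have h2 : 𝒳.p.IsHomLift (𝟙 U) t := Lib.FibCat_helper6.fp_isHomLift_snd' ε.hom (𝟙 U)
    have hw : G.map s ≫ m = 𝟙 _ ≫ G.map t := ε.hom.hom.w
    rw [Category.id_comp] at hw
    have : IsIso s := Lib.FibCat_helper6.isIso_of_isFibGrpd_id h𝒳 (R := U) _
    have h3 : 𝒳.p.IsHomLift (𝟙 U) (inv s) := inferInstance
    refine ⟨inv s ≫ t, ?_, ?_⟩
    · have : 𝒳.p.IsHomLift (𝟙 U ≫ 𝟙 U) (inv s ≫ t) := inferInstance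
      rw [Category.id_comp] at this
      exact this
    · rw [Functor.map_comp, ← hw, ← Category.assoc, ← Functor.map_comp, IsIso.inv_hom_id,
        Functor.map_id, Category.id_comp]

end Groth.Agent.S6399
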