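import Groth.Statements.S6404
import Groth.Agent.Lib.FibCat_helper6

set_option autoImplicit false
open CategoryTheory
universe v u
open FibCat

namespace Groth.Agent.S6404

/-- The inertia of a category fibred in groupoids over `C` is fibred in groupoids over `C`. -/
theorem result {C : Type u} [Category.{v} C] {𝒳 : BasedCategory.{v, max u v} C} (h𝒳 : FibCat.IsFibGrpd 𝒳.p) :
    FibCat.IsFibGrpd (FibCat.inertia (FibCat.toSelf 𝒳)).p := by
  refine ⟨?_, ?_⟩
  · intro X R f
    change R ⟶ 𝒳.p.obj X.pt at f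
    obtain ⟨x', φ, hφ⟩ := h𝒳.exists_lift (x := X.pt) f
    have hφ' : 𝒳.p.IsStronglyCartesian f φ :=
      Lib.FibCat_helper6.isStronglyCartesian_of_isFibGrpd h𝒳 f φ
    have h0 : (FibCat.selfOver C).p.IsHomLift f ((FibCat.toSelf 𝒳).map φ) := inferInstance
    have h2 : (FibCat.selfOver C).p.IsStronglyCartesian f ((FibCat.toSelf 𝒳).map φ) :=
      @Lib.FibCat_helper6.isStronglyCartesian_id_functor C _ _ _ f _ _ _ h0
    exact ⟨Lib.FibCat_helper6.inertiaLiftObj X f φ hφ' h2,
      Lib.FibCat_helper6.inertiaLiftHom X f φ hφ' h2,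
      Lib.FibCat_helper6.inertia_isHomLift_of_hom _ f hφ⟩
  · intro X' X m
    exact Lib.FibCat_helper6.inertia_isStronglyCartesian m _ (h𝒳.isStronglyCartesian m.hom)

end Groth.Agent.S6404
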