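import Groth.Statements.S6405
import Groth.Agent.Lib.FibCat_helper6

set_option autoImplicit false
open CategoryTheory
universe v u
open FibCat

namespace Groth.Agent.S6405

/-- (2) ⇒ (1): if `𝒳` is fibred in groupoids over `C` and the canonical functor `I_𝒳 ⟶ 𝒳` from its
inertia is an equivalence over `C`, then `𝒳` is fibred in setoids. (The published statement is an
equivalence; this row states only that the inertia condition implies that `𝒳` is fibred in setoids.) -/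
theorem result {C : Type u} [Category.{v} C] {𝒳 : BasedCategory.{v, max u v} C} (h𝒳 : FibCat.IsFibGrpd 𝒳.p)
    (h : FibCat.IsEquivOver (FibCat.inertiaToBase (FibCat.toSelf 𝒳))) : FibCat.IsFibSetoid 𝒳.p := by
  refine ⟨h𝒳, ?_⟩
  intro U a b
  constructor
  intro f g
  have hE := Lib.FibCat_helper6.isEquivalence_of_isEquivOver h
  have hf : 𝒳.p.IsHomLift (𝟙 U) f.1 := f.2
  have hg : 𝒳.p.IsHomLift (𝟙 U) g.1 := g.2
  have : IsIso g.1 := Lib.FibCat_helper6.isIso_of_isFibGrpd_id h𝒳 (R := U) g.1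
  have : IsIso f.1 := Lib.FibCat_helper6.isIso_of_isFibGrpd_id h𝒳 (R := U) f.1
  let α : a.1 ≅ a.1 := asIso f.1 ≪≫ (asIso g.1).symm
  have hα : 𝒳.p.IsHomLift (𝟙 U) α.hom := by
    have : 𝒳.p.IsHomLift (𝟙 U) (inv g.1) := inferInstance
    change 𝒳.p.IsHomLift (𝟙 U) (f.1 ≫ inv g.1)
    infer_instance
  have hα' : 𝒳.p.map α.hom = 𝟙 (𝒳.p.obj a.1) := by
    have := IsHomLift.fac' 𝒳.p (𝟙 U) α.hom
    simpa using this
  let X : FibCat.InertiaObj (FibCat.toSelf 𝒳) := ⟨a.1, α, hα'⟩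
  let X₀ : FibCat.InertiaObj (FibCat.toSelf 𝒳) := ⟨a.1, Iso.refl _, (FibCat.toSelf 𝒳).map_id a.1⟩
  obtain ⟨m, hm⟩ := (FibCat.inertiaToBase (FibCat.toSelf 𝒳)).toFunctor.map_surjective
    (X := (X : (FibCat.inertia (FibCat.toSelf 𝒳)).obj)) (Y := X₀) (𝟙 a.1)
  have hm' : m.hom = 𝟙 a.1 := hm
  have hc := m.comm
  rw [hm'] at hc
  have hα1 : f.1 ≫ inv g.1 = 𝟙 a.1 := by simpa [X, X₀, α] using hc
  apply Subtype.ext
  have := hα1 =≫ g.1
  simpa using this

end Groth.Agent.S6405
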