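import Groth.Statements.S6406
import Groth.Agent.Lib.FibCat3_helper6
-- import your own Groth.Agent.* helpers here

set_option autoImplicit false
open CategoryTheory CategoryTheory.Limits
universe v u
open FibCat

namespace Groth.Agent.S6406

open Groth.Agent.Lib.FibCat_helper6 Groth.Agent.Lib.FibCat2_helper6 Groth.Agent.Lib.FibCat3_helper6

section

universe v₂ u₂

variable {C : Type u} [Category.{v} C] (𝒳 : BasedCategory.{v₂, u₂} C)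

/-- isomorphic over an identity -/
def isoRel (x x' : 𝒳.obj) : Prop :=
  ∃ φ : x ≅ x', 𝒳.p.IsHomLift (𝟙 (𝒳.p.obj x')) φ.hom

theorem isoRel_refl (x : 𝒳.obj) : isoRel 𝒳 x x := ⟨Iso.refl x, by
  show 𝒳.p.IsHomLift (𝟙 (𝒳.p.obj x)) (𝟙 x)
  infer_instance⟩

theorem isoRel_obj_eq {x x' : 𝒳.obj} (h : isoRel 𝒳 x x') : 𝒳.p.obj x = 𝒳.p.obj x' := by
  obtain ⟨φ, hφ⟩ := h
  exact IsHomLift.domain_eq 𝒳.p (𝟙 (𝒳.p.obj x')) φ.hom

theorem isoRel_symm {x x' : 𝒳.obj} (h : isoRel 𝒳 x x') : isoRel 𝒳 x' x := by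
  have e := isoRel_obj_eq 𝒳 h
  obtain ⟨φ, hφ⟩ := h
  refine ⟨φ.symm, ?_⟩
  rw [e]
  exact IsHomLift.lift_id_inv _ _ _

theorem isoRel_trans {x x' x'' : 𝒳.obj} (h : isoRel 𝒳 x x') (h' : isoRel 𝒳 x' x'') :
    isoRel 𝒳 x x'' := by
  have e := isoRel_obj_eq 𝒳 h'
  obtain ⟨φ, hφ⟩ := h
  obtain ⟨ψ, hψ⟩ := h'
  rw [e] at hφ
  refine ⟨φ ≪≫ ψ, ?_⟩
  have : 𝒳.p.IsHomLift (𝟙 (𝒳.p.obj x'') ≫ 𝟙 (𝒳.p.obj x'')) (φ.hom ≫ ψ.hom) := inferInstance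
  rw [Category.id_comp] at this
  exact this

def isoSetoid : Setoid 𝒳.obj where
  r := isoRel 𝒳
  iseqv := ⟨isoRel_refl 𝒳, isoRel_symm 𝒳, isoRel_trans 𝒳⟩

/-- the chosen representative -/
noncomputable def rep (x : 𝒳.obj) : 𝒳.obj := (Quotient.mk (isoSetoid 𝒳) x).out

theorem rep_rel (x : 𝒳.obj) : isoRel 𝒳 (rep 𝒳 x) x :=
  Quotient.exact (Quotient.out_eq (Quotient.mk (isoSetoid 𝒳) x))

theorem rep_eq_of_rel {x x' : 𝒳.obj} (h : isoRel 𝒳 x x') : rep 𝒳 x = rep 𝒳 x' := by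
  unfold rep
  rw [Quotient.sound (s := isoSetoid 𝒳) h]

theorem rep_rep (x : 𝒳.obj) : rep 𝒳 (rep 𝒳 x) = rep 𝒳 x := rep_eq_of_rel 𝒳 (rep_rel 𝒳 x)

/-- the property of being a chosen representative -/
def isRep : ObjectProperty 𝒳.obj := fun x => rep 𝒳 x = x

/-- the full subcategory of representatives -/
abbrev Y : BasedCategory.{v₂, u₂} C where
  obj := (isRep 𝒳).FullSubcategory
  p := (isRep 𝒳).ι ⋙ 𝒳.p

/-- the inclusion -/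
def incl : Y 𝒳 ⥤ᵇ 𝒳 where
  toFunctor := (isRep 𝒳).ι
  w := rfl

instance : (incl 𝒳).toFunctor.Full := inferInstanceAs ((isRep 𝒳).ι).Full
instance : (incl 𝒳).toFunctor.Faithful := inferInstanceAs ((isRep 𝒳).ι).Faithful

theorem incl_isEquivOver : IsEquivOver (incl 𝒳) := by
  apply isEquivOver_of_fullyFaithful
  intro x
  obtain ⟨φ, hφ⟩ := rep_rel 𝒳 x
  exact ⟨⟨rep 𝒳 x, rep_rep 𝒳 x⟩, φ, hφ⟩

theorem Y_isHomLift {a b : (Y 𝒳).obj} (φ : a ⟶ b) {R S : C} (f : R ⟶ S)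
    (h : 𝒳.p.IsHomLift f φ.hom) : (Y 𝒳).p.IsHomLift f φ := by
  have h1 : 𝒳.p.obj a.obj = R := IsHomLift.domain_eq 𝒳.p f φ.hom
  have h2 : 𝒳.p.obj b.obj = S := IsHomLift.codomain_eq 𝒳.p f φ.hom
  exact IsHomLift.of_fac (Y 𝒳).p f φ h1 h2 (IsHomLift.fac 𝒳.p f φ.hom)

theorem Y_isHomLift' {a b : (Y 𝒳).obj} (φ : a ⟶ b) {R S : C} (f : R ⟶ S)
    [(Y 𝒳).p.IsHomLift f φ] : 𝒳.p.IsHomLift f φ.hom := by
  subst_hom_lift (Y 𝒳).p f φ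
  exact IsHomLift.map 𝒳.p φ.hom

theorem Y_isStronglyCartesian {a b : (Y 𝒳).obj} (φ : a ⟶ b) {R S : C} (f : R ⟶ S)
    (h : 𝒳.p.IsStronglyCartesian f φ.hom) : (Y 𝒳).p.IsStronglyCartesian f φ := by
  have hm : (Y 𝒳).p.IsHomLift f φ := Y_isHomLift 𝒳 φ f h.toIsHomLift
  refine { toIsHomLift := hm, universal_property' := ?_ }
  intro a' g φ' hφ'
  have h' : 𝒳.p.IsHomLift (g ≫ f) φ'.hom := Y_isHomLift' 𝒳 φ' (g ≫ f)
  let χ : a'.obj ⟶ a.obj := Functor.IsStronglyCartesian.map 𝒳.p f φ.hom (g := g) rfl φ'.hom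
  have hχ : 𝒳.p.IsHomLift g χ := by dsimp only [χ]; infer_instance
  have eχ : χ ≫ φ.hom = φ'.hom := Functor.IsStronglyCartesian.fac _ _ _ _ _
  refine ⟨ObjectProperty.homMk χ, ⟨Y_isHomLift 𝒳 _ g hχ, ?_⟩, ?_⟩
  · apply ObjectProperty.hom_ext
    exact eχ
  · rintro χ' ⟨k1, k2⟩
    have : 𝒳.p.IsHomLift g χ'.hom := Y_isHomLift' 𝒳 χ' g
    apply ObjectProperty.hom_ext
    exact Functor.IsStronglyCartesian.map_uniq 𝒳.p f φ.hom rfl φ'.hom χ'.hom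
      (by rw [← k2]; rfl)

theorem Y_isFibGrpd (h : IsFibGrpd 𝒳.p) : IsFibGrpd (Y 𝒳).p where
  exists_lift {y V} f := by
    obtain ⟨x, φ, hφ⟩ := h.exists_lift (x := y.obj) f
    obtain ⟨ψ, hψ⟩ := rep_rel 𝒳 x
    have e : 𝒳.p.obj x = V := IsHomLift.domain_eq 𝒳.p f φ
    rw [e] at hψ
    refine ⟨⟨rep 𝒳 x, rep_rep 𝒳 x⟩, ObjectProperty.homMk (ψ.hom ≫ φ), ?_⟩
    apply Y_isHomLift
    have : 𝒳.p.IsHomLift (𝟙 V ≫ f) (ψ.hom ≫ φ) := inferInstance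
    rw [Category.id_comp] at this
    exact this
  isStronglyCartesian {y x} φ := by
    apply Y_isStronglyCartesian
    exact h.isStronglyCartesian φ.hom

theorem Y_isFibSet (h : IsFibSetoid 𝒳.p) : IsFibSet (Y 𝒳).p := by
  refine ⟨Y_isFibGrpd 𝒳 h.1, fun U => ?_⟩
  refine { subsingleton := fun a b => ⟨fun f g => ?_⟩, eq_of_hom := fun {a b} f => ?_ }
  · have hf : (Y 𝒳).p.IsHomLift (𝟙 U) f.1 := f.2
    have hg : (Y 𝒳).p.IsHomLift (𝟙 U) g.1 := g.2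
    have hf' : 𝒳.p.IsHomLift (𝟙 U) f.1.hom := Y_isHomLift' 𝒳 f.1 (𝟙 U)
    have hg' : 𝒳.p.IsHomLift (𝟙 U) g.1.hom := Y_isHomLift' 𝒳 g.1 (𝟙 U)
    apply Subtype.ext
    apply ObjectProperty.hom_ext
    exact eq_of_isFibSetoid h (U := U) f.1.hom g.1.hom
  · have hf : (Y 𝒳).p.IsHomLift (𝟙 U) f.1 := f.2
    have hf' : 𝒳.p.IsHomLift (𝟙 U) f.1.hom := Y_isHomLift' 𝒳 f.1 (𝟙 U)
    have : IsIso f.1.hom := isIso_of_isFibGrpd_id h.1 (R := U) f.1.hom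
    have eb : 𝒳.p.obj b.1.obj = U := b.2
    have hr : isoRel 𝒳 a.1.obj b.1.obj := ⟨asIso f.1.hom, by rw [eb]; exact hf'⟩
    have e1 : a.1.obj = b.1.obj := by
      rw [← a.1.property, ← b.1.property]
      exact rep_eq_of_rel 𝒳 hr
    apply Subtype.ext
    exact ObjectProperty.FullSubcategory.ext e1

end

/-- A category fibred in setoids over `C` admits an equivalence over `C` to a category fibred in sets
over `C`. (The target is taken in the same universes as the slices `C/U`; its morphism sets are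
essentially as small as those of `C`.) -/
theorem result {C : Type u} [Category.{v} C] {𝒳 : BasedCategory.{v, max u v} C} (h𝒳 : FibCat.IsFibSetoid 𝒳.p) :
    ∃ (𝒴 : BasedCategory.{v, max u v} C) (F : 𝒳 ⥤ᵇ 𝒴), FibCat.IsFibSet 𝒴.p ∧ FibCat.IsEquivOver F := by
  obtain ⟨G, ⟨e₁⟩, ⟨e₂⟩⟩ := incl_isEquivOver 𝒳
  exact ⟨Y 𝒳, G, Y_isFibSet 𝒳 h𝒳, isEquivOver_inverse e₁ e₂⟩

end Groth.Agent.S6406
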