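import Groth.Statements.S6407
import Groth.Agent.Lib.FibCat2_helper6

set_option autoImplicit false
open CategoryTheory
universe v u
open FibCat

namespace Groth.Agent.S6407

/-- For categories `𝒳, 𝒴` fibred in setoids over `C` and functors `f, g : 𝒳 ⟶ 𝒴` over `C` that agree on
isomorphism classes of objects of each fibre category, there is a unique 2-isomorphism `f ≅ g` over
`C`. -/
theorem result {C : Type u} [Category.{v} C] {𝒳 𝒴 : BasedCategory.{v, max u v} C} (h𝒳 : FibCat.IsFibSetoid 𝒳.p) (h𝒴 : FibCat.IsFibSetoid 𝒴.p) (f g : 𝒳 ⥤ᵇ 𝒴)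
    (hfg : ∀ (U : C) (x : 𝒳.p.Fiber U), Nonempty ((FibCat.fiberFunctor f U).obj x ≅ (FibCat.fiberFunctor g U).obj x)) :
    Nonempty (Unique (f ≅ g)) := by
  classical
  let θ : ∀ x : 𝒳.obj, f.obj x ≅ g.obj x := fun x =>
    Functor.Fiber.fiberInclusion.mapIso (hfg (𝒳.p.obj x) ⟨x, rfl⟩).some
  have hθ : ∀ x : 𝒳.obj, 𝒴.p.IsHomLift (𝟙 (𝒳.p.obj x)) (θ x).hom := fun x =>
    ((hfg (𝒳.p.obj x) ⟨x, rfl⟩).some.hom).2
  have nat : ∀ {x y : 𝒳.obj} (φ : x ⟶ y), f.map φ ≫ (θ y).hom = (θ x).hom ≫ g.map φ := by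
    intro x y φ
    have hsc : 𝒴.p.IsStronglyCartesian (𝒳.p.map φ) (g.map φ) :=
      Lib.FibCat_helper6.isStronglyCartesian_of_isFibGrpd h𝒴.1 _ _
    have := hθ y
    have := hθ x
    have l1 : 𝒴.p.IsHomLift (𝒳.p.map φ) (f.map φ ≫ (θ y).hom) := inferInstance
    let τ : f.obj x ⟶ g.obj x := Functor.IsStronglyCartesian.map 𝒴.p (𝒳.p.map φ) (g.map φ)
      (g := 𝟙 (𝒳.p.obj x)) (f' := 𝒳.p.map φ) (Category.id_comp _).symm (f.map φ ≫ (θ y).hom)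
    have hτ : 𝒴.p.IsHomLift (𝟙 (𝒳.p.obj x)) τ := by dsimp only [τ]; infer_instance
    have eτ : τ ≫ g.map φ = f.map φ ≫ (θ y).hom := Functor.IsStronglyCartesian.fac _ _ _ _ _
    have : τ = (θ x).hom := Lib.FibCat2_helper6.eq_of_isFibSetoid h𝒴 (U := 𝒳.p.obj x) _ _
    rw [← this, eτ]
  let e : f ≅ g := BasedNatIso.mkNatIso (NatIso.ofComponents θ (fun φ => nat φ)) (fun x => hθ x)
  refine ⟨{ default := e, uniq := ?_ }⟩
  intro e'
  apply Iso.ext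
  apply BasedNatTrans.ext
  ext x
  exact Lib.FibCat2_helper6.eq_of_isFibSetoid h𝒴 (U := 𝒳.p.obj x) _ _

end Groth.Agent.S6407
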