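import Groth.Statements.S6408
import Groth.Agent.Lib.FibCat2_helper6

set_option autoImplicit false
open CategoryTheory
universe v u
open FibCat

namespace Groth.Agent.S6408

/-- Between categories fibred in sets over `C` the only 2-morphisms over `C` are identities. -/
theorem result {C : Type u} [Category.{v} C] {𝒳 𝒴 : BasedCategory.{v, max u v} C} (h𝒳 : FibCat.IsFibSet 𝒳.p) (h𝒴 : FibCat.IsFibSet 𝒴.p) {F G : 𝒳 ⥤ᵇ 𝒴} (α : F ⟶ G) :
    ∃ h : F = G, α = eqToHom h := by
  have key : ∀ x : 𝒳.obj, ∃ e : F.obj x = G.obj x, α.toNatTrans.app x = eqToHom e := fun x =>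
    Lib.FibCat2_helper6.eq_eqToHom_of_isDiscrete_fiber (h𝒴.2 (𝒳.p.obj x)) (α.toNatTrans.app x)
  have hFG : F = G := by
    apply Lib.FibCat2_helper6.basedFunctor_ext
    refine Functor.ext (fun x => (key x).1) ?_
    intro x y f
    obtain ⟨ex, hx⟩ := key x
    obtain ⟨ey, hy⟩ := key y
    have nat := α.toNatTrans.naturality f
    rw [hx, hy] at nat
    have : F.map f = (F.map f ≫ eqToHom ey) ≫ eqToHom ey.symm := by simp
    rw [this, nat]
    simp
  subst hFG
  refine ⟨rfl, ?_⟩
  apply BasedNatTrans.ext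
  ext x
  obtain ⟨ex, hx⟩ := key x
  rw [hx]
  simp

end Groth.Agent.S6408
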