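import Groth.Statements.S6410
import Groth.Agent.Lib.FibCatYoneda_helper6

set_option autoImplicit false
open CategoryTheory
universe v u
open FibCat

namespace Groth.Agent.S6410

/-- For `𝒳` fibred over `C`, evaluation at `𝟙_U` restricted to the functors `C/U ⟶ 𝒳` over `C` that
preserve strongly cartesian morphisms is an equivalence of categories onto the fibre category `𝒳_U`. -/
theorem result {C : Type u} [Category.{v} C] {𝒳 : BasedCategory.{v, max u v} C} [𝒳.p.IsFibered] (U : C) :
    ((ObjectProperty.ι (FibCat.PreservesStronglyCartesian (𝒳 := FibCat.overCat U) (𝒴 := 𝒳))) ⋙ FibCat.evalAtId 𝒳 U).IsEquivalence := by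
  have hfaithful : ((ObjectProperty.ι (FibCat.PreservesStronglyCartesian
      (𝒳 := FibCat.overCat U) (𝒴 := 𝒳))) ⋙ FibCat.evalAtId 𝒳 U).Faithful := by
    refine ⟨fun {G H} α β h => ?_⟩
    apply ObjectProperty.hom_ext
    apply Lib.FibCatYoneda_helper6.basedNatTrans_ext_of_app_id H.property
    exact congrArg Subtype.val h
  have hfull : ((ObjectProperty.ι (FibCat.PreservesStronglyCartesian
      (𝒳 := FibCat.overCat U) (𝒴 := 𝒳))) ⋙ FibCat.evalAtId 𝒳 U).Full := by
    refine ⟨fun {G H} τ => ?_⟩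
    refine ⟨ObjectProperty.homMk (Lib.FibCatYoneda_helper6.liftNatTrans H.property τ.1 τ.2), ?_⟩
    apply Subtype.ext
    exact Lib.FibCatYoneda_helper6.liftNatTrans_app_id H.property τ.1 τ.2
  have hess : ((ObjectProperty.ι (FibCat.PreservesStronglyCartesian
      (𝒳 := FibCat.overCat U) (𝒴 := 𝒳))) ⋙ FibCat.evalAtId 𝒳 U).EssSurj := by
    refine ⟨fun x => ?_⟩
    exact ⟨⟨Lib.FibCatYoneda_helper6.yonedaFunctor x.2,
      Lib.FibCatYoneda_helper6.yonedaFunctor_preserves x.2⟩,
      ⟨Lib.FibCatYoneda_helper6.yonedaFunctorIso x.2⟩⟩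
  exact { }

end Groth.Agent.S6410
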