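import Groth.Statements.S6412
import Groth.Agent.Lib.FibCat22_helper6
-- import your own Groth.Agent.* helpers here

set_option autoImplicit false
open CategoryTheory CategoryTheory.Limits
universe v u
open FibCat

namespace Groth.Agent.S6412

/-- For `C` with binary products and fibre products and `𝒮` fibred in groupoids over `C`, the diagonal
`𝒮 ⟶ 𝒮 ×_C 𝒮` is representable if and only if every functor `C/U ⟶ 𝒮` over `C` is representable.
(Representability of each base change to a slice `C/V` is taken as a category over `C`; for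
categories fibred in groupoids this agrees with representability over `C/V`.) -/
theorem result {C : Type u} [Category.{v} C] [HasBinaryProducts C] [HasPullbacks C] {𝒮 : BasedCategory.{v, max u v} C} (h𝒮 : FibCat.IsFibGrpd 𝒮.p) :
    FibCat.IsRepresentable1 (FibCat.diag (FibCat.toSelf 𝒮)) ↔ ∀ (U : C) (G : FibCat.overCat U ⥤ᵇ 𝒮), FibCat.IsRepresentable1 G := by
  haveI : HasEqualizers C := hasEqualizers_of_hasPullbacks_and_binary_products
  have h𝒮2 : IsFibGrpd (Lib.FibCat13_helper6.prodC 𝒮 𝒮).p := Lib.FibCat12_helper6.isFibGrpd_prod h𝒮 h𝒮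
  constructor
  · intro hL U G V G'
    rw [Lib.FibCat7_helper6.isRepresentable_iff]
    refine ⟨Lib.FibCat12_helper6.isFibGrpd_fp G' G (Lib.FibCat_helper6.isFibGrpd_over_forget V)
      (Lib.FibCat_helper6.isFibGrpd_over_forget U) h𝒮, ?_⟩
    have h := hL (V ⨯ U) (Lib.FibCat19_helper6.HH G' G)
    rw [Lib.FibCat7_helper6.isRepresentable_iff] at h
    obtain ⟨_, z₀, ⟨hz₀⟩⟩ := h
    exact ⟨Lib.FibCat19_helper6.tOf h𝒮 G' G z₀, ⟨Lib.FibCat19_helper6.tOf_isTerminal h𝒮 G' G z₀ hz₀⟩⟩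
  · intro hR W H
    rw [Lib.FibCat7_helper6.isRepresentable_iff]
    refine ⟨Lib.FibCat12_helper6.isFibGrpd_fp H (FibCat.diag (FibCat.toSelf 𝒮))
      (Lib.FibCat_helper6.isFibGrpd_over_forget W) h𝒮 h𝒮2, ?_⟩
    have h := hR W (Lib.FibCat15_helper6.H₂ H) W (Lib.FibCat15_helper6.H₁ H)
    rw [Lib.FibCat7_helper6.isRepresentable_iff] at h
    obtain ⟨_, t, ⟨ht⟩⟩ := h
    exact ⟨Lib.FibCat15_helper6.z₀ h𝒮 H t, ⟨Lib.FibCat15_helper6.z₀_isTerminal h𝒮 H t ht⟩⟩

end Groth.Agent.S6412
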