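import Groth.Statements.S6413
import Groth.Agent.Lib.FibCat_helper6
import Groth.Agent.S6401

set_option autoImplicit false
open CategoryTheory
universe v u
open FibCat

namespace Groth.Agent.S6413

/-- For `𝒳, 𝒴` fibred in groupoids over `C` and `F : 𝒳 ⟶ 𝒴` over `C`, the projection `𝒳 ×_{F, 𝒴, id} 𝒴 ⟶
𝒴` is a category fibred in groupoids over `𝒴`. -/
theorem result {C : Type u} [Category.{v} C] {𝒳 𝒴 : BasedCategory.{v, max u v} C} (h𝒳 : FibCat.IsFibGrpd 𝒳.p) (h𝒴 : FibCat.IsFibGrpd 𝒴.p) (F : 𝒳 ⥤ᵇ 𝒴) :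
    FibCat.IsFibGrpd (FibCat.fpSnd F (BasedFunctor.id 𝒴)).toFunctor := by
  apply Lib.FibCat_helper6.isFibGrpd_basedFunctor _
    (Groth.Agent.S6401.result F (BasedFunctor.id 𝒴) h𝒳 h𝒴 h𝒴) h𝒴
  intro X V f
  change V ⟶ X.obj.snd at f
  have hy : 𝒴.p.obj X.obj.snd = 𝒳.p.obj X.obj.fst := Lib.FibCat_helper6.fp_obj_snd_proj X
  let f' : 𝒴.p.obj V ⟶ 𝒳.p.obj X.obj.fst := 𝒴.p.map f ≫ eqToHom hy
  obtain ⟨x', φ, hφ⟩ := h𝒳.exists_lift (x := X.obj.fst) f'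
  have hψ : 𝒴.p.IsHomLift f' f := by dsimp only [f']; infer_instance
  have h3 : 𝒴.p.IsStronglyCartesian f' (F.map φ) :=
    Lib.FibCat_helper6.isStronglyCartesian_of_isFibGrpd h𝒴 f' _
  have h4 : 𝒴.p.IsStronglyCartesian f' ((BasedFunctor.id 𝒴).map f) :=
    @Lib.FibCat_helper6.isStronglyCartesian_of_isFibGrpd _ _ _ _ _ h𝒴 _ _ f' _ _ _ hψ
  refine ⟨Lib.FibCat_helper6.fpLiftObj X f' φ f hφ hψ h3 h4,
      Lib.FibCat_helper6.fpLiftHom X f' φ f hφ hψ h3 h4, ?_⟩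
  exact IsHomLift.map (FibCat.fpSnd F (BasedFunctor.id 𝒴)).toFunctor
    (Lib.FibCat_helper6.fpLiftHom X f' φ f hφ hψ h3 h4)

end Groth.Agent.S6413
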