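import Groth.Statements.S6421
import Groth.Agent.S6420

set_option autoImplicit false
open CategoryTheory CategoryTheory.Limits
universe v u
open FibCat

namespace Groth.Agent.S6421

section

universe v₄ u₄ v₅ u₅ v₆ u₆ v₇ u₇ v₈ u₈ v₉ u₉

variable {X : Type u₄} {Y : Type u₅} {Z : Type u₆} {A : Type u₇} {B : Type u₈} {C' : Type u₉}
  [Category.{v₄} X] [Category.{v₅} Y] [Category.{v₆} Z] [Category.{v₇} A] [Category.{v₈} B]
  [Category.{v₉} C']
  {H : X ⥤ Z} {I : Y ⥤ Z} {F : A ⥤ C'} {G : B ⥤ C'} (ψ : CatCospanTransform H I F G)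

open Groth.Agent.S6420

theorem cpMap_full [ψ.left.Full] [ψ.right.Full] [ψ.base.Faithful] :
    (FibCat.categoricalPullbackMap ψ).Full where
  map_surjective {x y} k := by
    obtain ⟨a, ha⟩ := ψ.left.map_surjective (X := x.fst) (Y := y.fst) k.fst
    obtain ⟨b, hb⟩ := ψ.right.map_surjective (X := x.snd) (Y := y.snd) k.snd
    have w : H.map a ≫ y.iso.hom = x.iso.hom ≫ I.map b := by
      apply ψ.base.map_injective
      have kw := k.w
      rw [cpMap_obj_iso_hom, cpMap_obj_iso_hom] at kw
      have n1 := ψ.squareLeft.iso.inv.naturality a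
      have n2 := ψ.squareRight.iso.hom.naturality b
      simp only [Functor.comp_map] at n1 n2
      rw [← ha, ← hb] at kw
      have kw' : ψ.squareLeft.iso.inv.app x.fst ≫ (ψ.base.map (H.map a) ≫ ψ.base.map y.iso.hom) ≫
          ψ.squareRight.iso.hom.app y.snd =
          ψ.squareLeft.iso.inv.app x.fst ≫ (ψ.base.map x.iso.hom ≫ ψ.base.map (I.map b)) ≫
          ψ.squareRight.iso.hom.app y.snd := by
        simp only [Category.assoc]
        rw [n2, ← reassoc_of% n1]
        simpa using kw
      rw [cancel_epi, cancel_mono] at kw'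
      simpa using kw'
    refine ⟨⟨a, b, w⟩, ?_⟩
    apply CategoricalPullback.hom_ext
    · simpa using ha
    · simpa using hb

end

/-- For a 2-commutative morphism of cospans of categories whose outer functors `X ⥤ A`, `Y ⥤ B` are
fully faithful and whose middle functor `Z ⥤ C` is faithful, the induced functor `X ×_Z Y ⥤ A ×_C B`
is fully faithful. -/
theorem result {X Y Z A B C : Type u} [Category.{v} X] [Category.{v} Y] [Category.{v} Z] [Category.{v} A] [Category.{v} B] [Category.{v} C] {H : X ⥤ Z} {I : Y ⥤ Z} {F : A ⥤ C} {G : B ⥤ C} (ψ : CatCospanTransform H I F G) [ψ.left.Full] [ψ.left.Faithful] [ψ.right.Full] [ψ.right.Faithful] [ψ.base.Faithful] :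
    (FibCat.categoricalPullbackMap ψ).Full ∧ (FibCat.categoricalPullbackMap ψ).Faithful :=
  ⟨cpMap_full ψ, Groth.Agent.S6420.cpMap_faithful ψ⟩

end Groth.Agent.S6421
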