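import Groth.Statements.S6422
import Groth.Agent.S6421

set_option autoImplicit false
open CategoryTheory CategoryTheory.Limits
universe v u
open FibCat

namespace Groth.Agent.S6422

section

universe v₄ u₄ v₅ u₅ v₆ u₆ v₇ u₇ v₈ u₈ v₉ u₉

variable {X : Type u₄} {Y : Type u₅} {Z : Type u₆} {A : Type u₇} {B : Type u₈} {C' : Type u₉}
  [Category.{v₄} X] [Category.{v₅} Y] [Category.{v₆} Z] [Category.{v₇} A] [Category.{v₈} B]
  [Category.{v₉} C']
  {H : X ⥤ Z} {I : Y ⥤ Z} {F : A ⥤ C'} {G : B ⥤ C'} (ψ : CatCospanTransform H I F G)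

open Groth.Agent.S6420

theorem cpMap_essSurj [ψ.left.EssSurj] [ψ.right.EssSurj] [ψ.base.Full] [ψ.base.Faithful] :
    (FibCat.categoricalPullbackMap ψ).EssSurj where
  mem_essImage t := by
    let x := ψ.left.objPreimage t.fst
    let e₁ : ψ.left.obj x ≅ t.fst := ψ.left.objObjPreimageIso t.fst
    let y := ψ.right.objPreimage t.snd
    let e₂ : ψ.right.obj y ≅ t.snd := ψ.right.objObjPreimageIso t.snd
    let φ' : ψ.base.obj (H.obj x) ≅ ψ.base.obj (I.obj y) :=
      ψ.squareLeft.iso.app x ≪≫ F.mapIso e₁ ≪≫ t.iso ≪≫ G.mapIso e₂.symm ≪≫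
        (ψ.squareRight.iso.app y).symm
    let φ : H.obj x ≅ I.obj y := ψ.base.preimageIso φ'
    refine ⟨⟨x, y, φ⟩, ⟨CategoricalPullback.mkIso e₁ e₂ ?_⟩⟩
    rw [cpMap_obj_iso_hom]
    simp [φ, φ']

end

/-- For a 2-commutative morphism of cospans of categories whose outer functors `X ⥤ A`, `Y ⥤ B` are
equivalences and whose middle functor `Z ⥤ C` is fully faithful, the induced functor `X ×_Z Y ⥤ A
×_C B` is an equivalence of categories. -/
theorem result {X Y Z A B C : Type u} [Category.{v} X] [Category.{v} Y] [Category.{v} Z] [Category.{v} A] [Category.{v} B] [Category.{v} C] {H : X ⥤ Z} {I : Y ⥤ Z} {F : A ⥤ C} {G : B ⥤ C} (ψ : CatCospanTransform H I F G) [ψ.left.IsEquivalence] [ψ.right.IsEquivalence] [ψ.base.Full] [ψ.base.Faithful] :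
    (FibCat.categoricalPullbackMap ψ).IsEquivalence := by
  have := Groth.Agent.S6421.cpMap_full ψ
  have := Groth.Agent.S6420.cpMap_faithful ψ
  have := cpMap_essSurj ψ
  exact { }

end Groth.Agent.S6422
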