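import Groth.Statements.S6425
import Mathlib.CategoryTheory.Limits.Shapes.FunctorToTypes
import Mathlib.CategoryTheory.Limits.Types.Products

set_option autoImplicit false
open CategoryTheory CategoryTheory.Limits
universe v
open CatLim

namespace Groth.Agent.S6425

theorem types_prod_ext {X Y : Type v} (t s : (X ⨯ Y : Type v))
    (h1 : (prod.fst : X ⨯ Y ⟶ X) t = (prod.fst : X ⨯ Y ⟶ X) s)
    (h2 : (prod.snd : X ⨯ Y ⟶ Y) t = (prod.snd : X ⨯ Y ⟶ Y) s) : t = s := by
  apply (Types.binaryProductIso X Y).toEquiv.injective
  apply Prod.ext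
  · have := ConcreteCategory.congr_hom (Types.binaryProductIso_hom_comp_fst X Y)
    simpa using (this t).trans (h1.trans (this s).symm)
  · have := ConcreteCategory.congr_hom (Types.binaryProductIso_hom_comp_snd X Y)
    simpa using (this t).trans (h2.trans (this s).symm)

/-- Over an index category in which any two objects map to a common object, the comparison map `colim (M
× N) → colim M × colim N` for diagrams of sets is surjective. -/
theorem result {I : Type v} [SmallCategory I]
    (hI : ∀ x y : I, ∃ (z : I) (_ : x ⟶ z) (_ : y ⟶ z), True) (M N : I ⥤ Type v) :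
    Function.Surjective (prodComparison (colim : (I ⥤ Type v) ⥤ Type v) M N) := by
  intro t
  obtain ⟨i, m, hm⟩ := Types.jointly_surjective' ((prod.fst : colim.obj M ⨯ colim.obj N ⟶ colim.obj M) t)
  obtain ⟨j, n, hn⟩ := Types.jointly_surjective' ((prod.snd : colim.obj M ⨯ colim.obj N ⟶ colim.obj N) t)
  obtain ⟨k, f, g, -⟩ := hI i j
  let p : (M ⨯ N).obj k := FunctorToTypes.prodMk (M.map f m) (N.map g n)
  refine ⟨colimit.ι (M ⨯ N) k p, ?_⟩
  apply types_prod_ext
  · rw [← ConcreteCategory.comp_apply, prodComparison_fst]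
    change colimMap (prod.fst : M ⨯ N ⟶ M) (colimit.ι (M ⨯ N) k p) = _
    rw [← ConcreteCategory.comp_apply, ι_colimMap, ConcreteCategory.comp_apply,
      FunctorToTypes.prodMk_fst, ← hm]
    exact colimit.w_apply M f m
  · rw [← ConcreteCategory.comp_apply, prodComparison_snd]
    change colimMap (prod.snd : M ⨯ N ⟶ N) (colimit.ι (M ⨯ N) k p) = _
    rw [← ConcreteCategory.comp_apply, ι_colimMap, ConcreteCategory.comp_apply,
      FunctorToTypes.prodMk_snd, ← hn]
    exact colimit.w_apply N g n

end Groth.Agent.S6425
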