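import Groth.Statements.S6426
-- import your own Groth.Agent.* helpers here

set_option autoImplicit false
open CategoryTheory CategoryTheory.Limits
universe v
open CatLim

namespace Groth.Agent.S6426

/-- Over a nonempty index category in which any two objects map to a common object, the set-theoretic
colimit of a diagram of abelian groups surjects onto its colimit in abelian groups. (The published
statement does not require the index category to be nonempty; this row assumes it, because for the
empty index category the colimit of sets is empty while the colimit of abelian groups is the zero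
group.) -/
theorem result {I : Type v} [SmallCategory I] [Nonempty I]
    (hI : ∀ x y : I, ∃ (z : I) (_ : x ⟶ z) (_ : y ⟶ z), True) (M : I ⥤ AddCommGrpCat.{v}) :
    Function.Surjective (colimit.post M (forget AddCommGrpCat.{v})) := by
  classical
  set φ := colimit.post M (forget AddCommGrpCat.{v}) with hφdef
  have hφ : ∀ (i : I) (m : M.obj i),
      φ (colimit.ι (M ⋙ forget AddCommGrpCat.{v}) i m) = (colimit.ι M i) m := by
    intro i m
    rw [← ConcreteCategory.comp_apply, hφdef, colimit.ι_post]
    rfl
  have hw : ∀ {i k : I} (f : i ⟶ k) (m : M.obj i),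
      (colimit.ι M k) ((M.map f) m) = (colimit.ι M i) m := by
    intro i k f m
    rw [← ConcreteCategory.comp_apply, colimit.w]
  let H : AddSubgroup ((colimit M : AddCommGrpCat.{v})) :=
    { carrier := Set.range φ
      zero_mem' := by
        obtain ⟨i⟩ := ‹Nonempty I›
        exact ⟨colimit.ι (M ⋙ forget AddCommGrpCat.{v}) i (0 : M.obj i), by rw [hφ]; simp⟩
      add_mem' := by
        rintro _ _ ⟨x, rfl⟩ ⟨y, rfl⟩
        obtain ⟨i, m, rfl⟩ := Types.jointly_surjective' x
        obtain ⟨j, m', rfl⟩ := Types.jointly_surjective' y
        change M.obj i at m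
        change M.obj j at m'
        obtain ⟨k, f, g, -⟩ := hI i j
        refine ⟨colimit.ι (M ⋙ forget AddCommGrpCat.{v}) k ((M.map f) m + (M.map g) m'), ?_⟩
        change φ (colimit.ι (M ⋙ forget AddCommGrpCat.{v}) k ((M.map f) m + (M.map g) m')) =
          φ (colimit.ι (M ⋙ forget AddCommGrpCat.{v}) i m) +
          φ (colimit.ι (M ⋙ forget AddCommGrpCat.{v}) j m')
        rw [hφ, hφ, hφ, map_add, hw, hw]
      neg_mem' := by
        rintro _ ⟨x, rfl⟩
        obtain ⟨i, m, rfl⟩ := Types.jointly_surjective' x
        change M.obj i at m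
        refine ⟨colimit.ι (M ⋙ forget AddCommGrpCat.{v}) i (-m : M.obj i), ?_⟩
        change φ (colimit.ι (M ⋙ forget AddCommGrpCat.{v}) i (-m : M.obj i)) =
          -φ (colimit.ι (M ⋙ forget AddCommGrpCat.{v}) i m)
        rw [hφ, hφ, map_neg] }
  let q : colimit M ⟶ AddCommGrpCat.of ((colimit M : AddCommGrpCat.{v}) ⧸ H) :=
    AddCommGrpCat.ofHom (QuotientAddGroup.mk' H)
  have hq : q = 0 := by
    apply colimit.hom_ext
    intro i
    ext m
    have : (colimit.ι M i) m ∈ H := ⟨colimit.ι (M ⋙ forget AddCommGrpCat.{v}) i m, hφ i m⟩
    simpa [q] using (QuotientAddGroup.eq_zero_iff _).2 this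
  intro a
  have : q a = 0 := by rw [hq]; rfl
  have ha : a ∈ H := (QuotientAddGroup.eq_zero_iff a).1 this
  exact ha

end Groth.Agent.S6426
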