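import Groth.Statements.S6427
import Groth.Agent.Lib.TypeColim_helper6

set_option autoImplicit false
open CategoryTheory CategoryTheory.Limits
universe v
open CatLim

namespace Groth.Agent.S6427

/-- Over an index category in which every pair of morphisms with common source can be completed to a
commutative square, colimits of sets preserve injective morphisms of diagrams. -/
theorem result {I : Type v} [SmallCategory I]
    (hI : ∀ ⦃x y z : I⦄ (f : x ⟶ y) (g : x ⟶ z), ∃ (w : I) (f' : y ⟶ w) (g' : z ⟶ w), f ≫ f' = g ≫ g')
    {M N : I ⥤ Type v} (φ : M ⟶ N) (hφ : ∀ i, Function.Injective (φ.app i)) :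
    Function.Injective (colimMap φ) := by
  intro a b hab
  obtain ⟨i, m, rfl⟩ := Types.jointly_surjective' a
  obtain ⟨j, m', rfl⟩ := Types.jointly_surjective' b
  have h1 : colimMap φ (colimit.ι M i m) = colimit.ι N i (φ.app i m) := by
    rw [← ConcreteCategory.comp_apply, ι_colimMap]; rfl
  have h2 : colimMap φ (colimit.ι M j m') = colimit.ι N j (φ.app j m') := by
    rw [← ConcreteCategory.comp_apply, ι_colimMap]; rfl
  rw [h1, h2] at hab
  obtain ⟨k, f, g, hfg⟩ := (Lib.TypeColim_helper6.colimit_ι_eq_iff_of_ore hI N _ _).1 hab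
  have n1 : N.map f (φ.app i m) = φ.app k (M.map f m) := by
    rw [← ConcreteCategory.comp_apply, ← φ.naturality f]; rfl
  have n2 : N.map g (φ.app j m') = φ.app k (M.map g m') := by
    rw [← ConcreteCategory.comp_apply, ← φ.naturality g]; rfl
  rw [n1, n2] at hfg
  exact Types.colimit_sound' f g (hφ k hfg)

end Groth.Agent.S6427
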