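import Groth.Statements.S6428
import Mathlib.CategoryTheory.Limits.Final

set_option autoImplicit false
open CategoryTheory CategoryTheory.Limits
universe v₁ u₁ v₂ u₂ v₃ u₃
open CatLim

namespace Groth.Agent.S6428

section

variable {I : Type u₁} [Category.{v₁} I] {I' : Type u₂} [Category.{v₂} I'] (F : I ⥤ I')

/-- The functor from a fibre of `F` to a category of structured arrows. -/
def fiberToStructuredArrow {d z : I'} (a : d ⟶ z) : F.Fiber z ⥤ StructuredArrow d F where
  obj y := StructuredArrow.mk (a ≫ eqToHom y.2.symm : d ⟶ F.obj y.1)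
  map {y y'} φ := StructuredArrow.homMk φ.1 (by
    have h : F.IsHomLift (𝟙 z) φ.1 := φ.2
    have := IsHomLift.fac' F (𝟙 z) φ.1
    simp [this])
  map_id y := by ext; rfl
  map_comp φ ψ := by ext; rfl

theorem final_of_connected_fibers
    (h1 : ∀ x' : I', IsConnected (F.Fiber x'))
    (h2 : ∀ ⦃x' y' : I'⦄ (α' : x' ⟶ y'), ∃ (x y : I) (hx : F.obj x = x') (hy : F.obj y = y')
      (α : x ⟶ y), F.map α = eqToHom hx ≫ α' ≫ eqToHom hy.symm) : F.Final := by
  refine ⟨fun d => ?_⟩
  have zz : ∀ {z : I'} (a : d ⟶ z) (y y' : F.Fiber z),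
      Zigzag ((fiberToStructuredArrow F a).obj y) ((fiberToStructuredArrow F a).obj y') := by
    intro z a y y'
    have := h1 z
    exact zigzag_obj_of_zigzag _ (isPreconnected_zigzag y y')
  have := h1 d
  obtain ⟨x₀⟩ : Nonempty (F.Fiber d) := inferInstance
  let b₀ : StructuredArrow d F := (fiberToStructuredArrow F (𝟙 d)).obj x₀
  have key : ∀ t : StructuredArrow d F, Zigzag t b₀ := by
    intro t
    obtain ⟨x₁, y₁, hx, hy, α, hα⟩ := h2 t.hom
    have e1 : t = (fiberToStructuredArrow F t.hom).obj ⟨t.right, rfl⟩ := by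
      change t = StructuredArrow.mk (t.hom ≫ eqToHom rfl)
      rw [eqToHom_refl, Category.comp_id]
      rfl
    have z1 : Zigzag t ((fiberToStructuredArrow F t.hom).obj ⟨y₁, hy⟩) := by
      conv_lhs => rw [e1]
      exact zz t.hom _ _
    let m : (fiberToStructuredArrow F (𝟙 d)).obj ⟨x₁, hx⟩ ⟶
        (fiberToStructuredArrow F t.hom).obj ⟨y₁, hy⟩ :=
      StructuredArrow.homMk α (by
        change (𝟙 d ≫ eqToHom hx.symm) ≫ F.map α = t.hom ≫ eqToHom hy.symm
        rw [hα]; simp)
    have z2 : Zigzag ((fiberToStructuredArrow F t.hom).obj ⟨y₁, hy⟩)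
        ((fiberToStructuredArrow F (𝟙 d)).obj ⟨x₁, hx⟩) := Zigzag.of_inv m
    exact (z1.trans z2).trans (zz (𝟙 d) _ _)
  have : Nonempty (StructuredArrow d F) := ⟨b₀⟩
  exact zigzag_isConnected (fun t t' => (key t).trans (key t').symm)

end

/-- If `F : I ⥤ I'` has connected fibre categories and is surjective on morphisms, then for every
diagram `M : I' ⥤ C` the colimit of `F ⋙ M` exists if and only if that of `M` does, and the
canonical comparison between them is then an isomorphism. -/
theorem result {I : Type u₁} [Category.{v₁} I] {I' : Type u₂} [Category.{v₂} I'] {C : Type u₃} [Category.{v₃} C] (F : I ⥤ I')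
    (h1 : ∀ x' : I', IsConnected (F.Fiber x'))
    (h2 : ∀ ⦃x' y' : I'⦄ (α' : x' ⟶ y'), ∃ (x y : I) (hx : F.obj x = x') (hy : F.obj y = y') (α : x ⟶ y), F.map α = eqToHom hx ≫ α' ≫ eqToHom hy.symm)
    (M : I' ⥤ C) :
    (HasColimit (F ⋙ M) ↔ HasColimit M) ∧ ∀ [HasColimit (F ⋙ M)] [HasColimit M], IsIso (colimit.pre M F) := by
  have : F.Final := final_of_connected_fibers F h1 h2
  refine ⟨Functor.Final.hasColimit_comp_iff F, ?_⟩
  intro _ _
  infer_instance

end Groth.Agent.S6428
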