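import Groth.Statements.S6429
-- import your own Groth.Agent.* helpers here

set_option autoImplicit false
open CategoryTheory CategoryTheory.MonoidalCategory
universe v u
open MonCat

namespace Groth.Agent.S6429

section

variable {C : Type u} [Category.{v} C] [MonoidalCategory C]

/-- Tensoring on the left by an invertible object is an equivalence. -/
noncomputable def tensorLeftEquiv (X X' : C) (e₁ : X ⊗ X' ≅ 𝟙_ C) (e₂ : X' ⊗ X ≅ 𝟙_ C) : C ≌ C :=
  CategoryTheory.Equivalence.mk (tensorLeft X) (tensorLeft X')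
    ((leftUnitorNatIso C).symm ≪≫ (tensoringLeft C).mapIso e₂.symm ≪≫ tensorLeftTensor X' X)
    ((tensorLeftTensor X X').symm ≪≫ (tensoringLeft C).mapIso e₁ ≪≫ leftUnitorNatIso C)

/-- Tensoring on the right by an invertible object is an equivalence. -/
noncomputable def tensorRightEquiv (X X' : C) (e₁ : X ⊗ X' ≅ 𝟙_ C) (e₂ : X' ⊗ X ≅ 𝟙_ C) : C ≌ C :=
  CategoryTheory.Equivalence.mk (tensorRight X) (tensorRight X')
    ((rightUnitorNatIso C).symm ≪≫ (tensoringRight C).mapIso e₁.symm ≪≫ tensorRightTensor X X')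
    ((tensorRightTensor X' X).symm ≪≫ (tensoringRight C).mapIso e₂ ≪≫ rightUnitorNatIso C)

end

/-- An object `X` of a monoidal category is invertible (some `X'` has `X ⊗ X' ≅ 𝟙` and `X' ⊗ X ≅ 𝟙`) if
and only if tensoring on the left by `X` is an equivalence, if and only if tensoring on the right by
`X` is an equivalence. -/
theorem result {C : Type u} [Category.{v} C] [MonoidalCategory C] (X : C) :
    ((tensorLeft X).IsEquivalence ↔ ∃ X' : C, Nonempty (X ⊗ X' ≅ 𝟙_ C) ∧ Nonempty (X' ⊗ X ≅ 𝟙_ C)) ∧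
      ((tensorRight X).IsEquivalence ↔ ∃ X' : C, Nonempty (X ⊗ X' ≅ 𝟙_ C) ∧ Nonempty (X' ⊗ X ≅ 𝟙_ C)) := by
  constructor
  · constructor
    · intro h
      let X' := (tensorLeft X).objPreimage (𝟙_ C)
      let e₁ : X ⊗ X' ≅ 𝟙_ C := (tensorLeft X).objObjPreimageIso (𝟙_ C)
      refine ⟨X', ⟨e₁⟩, ⟨?_⟩⟩
      apply (tensorLeft X).preimageIso
      exact (α_ X X' X).symm ≪≫ whiskerRightIso e₁ X ≪≫ λ_ X ≪≫ (ρ_ X).symm
    · rintro ⟨X', ⟨e₁⟩, ⟨e₂⟩⟩
      exact (tensorLeftEquiv X X' e₁ e₂).isEquivalence_functor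
  · constructor
    · intro h
      let X' := (tensorRight X).objPreimage (𝟙_ C)
      let e₂ : X' ⊗ X ≅ 𝟙_ C := (tensorRight X).objObjPreimageIso (𝟙_ C)
      refine ⟨X', ⟨?_⟩, ⟨e₂⟩⟩
      apply (tensorRight X).preimageIso
      exact α_ X X' X ≪≫ whiskerLeftIso X e₂ ≪≫ ρ_ X ≪≫ (λ_ X).symm
    · rintro ⟨X', ⟨e₁⟩, ⟨e₂⟩⟩
      exact (tensorRightEquiv X X' e₁ e₂).isEquivalence_functor

end Groth.Agent.S6429
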