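import Groth.Statements.S6430
-- import your own Groth.Agent.* helpers here

set_option autoImplicit false
open CategoryTheory
universe v₂ u₂ v u
open FibCat

namespace Groth.Agent.S6430

theorem isStronglyCartesian_map_of {C : Type u} [Category.{v} C] {𝒮 : Type u₂} [Category.{v₂} 𝒮]
    (p : 𝒮 ⥤ C) {R S : C} (f : R ⟶ S) {a b : 𝒮} (φ : a ⟶ b) [p.IsStronglyCartesian f φ] :
    p.IsStronglyCartesian (p.map φ) φ := by
  subst_hom_lift p f φ; infer_instance

theorem cartSub_isHomLift_hom {C : Type u} [Category.{v} C] {𝒮 : Type u₂} [Category.{v₂} 𝒮]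
    (p : 𝒮 ⥤ C) {X Y : FibCat.cartSub p} (m : X ⟶ Y) {R S : C} (f : R ⟶ S)
    (_h : (FibCat.cartSubProj p).IsHomLift f m) : p.IsHomLift f m.hom := by
  subst_hom_lift (FibCat.cartSubProj p) f m
  exact IsHomLift.map p m.hom

theorem cartSub_isHomLift_of_hom {C : Type u} [Category.{v} C] {𝒮 : Type u₂} [Category.{v₂} 𝒮]
    (p : 𝒮 ⥤ C) {X Y : FibCat.cartSub p} (m : X ⟶ Y) {R S : C} (f : R ⟶ S)
    (h : p.IsHomLift f m.hom) : (FibCat.cartSubProj p).IsHomLift f m := by
  have h1 : p.obj X.obj = R := IsHomLift.domain_eq p f m.hom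
  have h2 : p.obj Y.obj = S := IsHomLift.codomain_eq p f m.hom
  exact IsHomLift.of_fac (FibCat.cartSubProj p) f m h1 h2 (IsHomLift.fac p f m.hom)

/-- For a fibred category `p : 𝒮 ⥤ C`, the wide subcategory of `𝒮` on the strongly cartesian morphisms
is fibred in groupoids over `C`. -/
theorem result {C : Type u} [Category.{v} C] {𝒮 : Type u₂} [Category.{v₂} 𝒮] (p : 𝒮 ⥤ C) [p.IsFibered] :
    FibCat.IsFibGrpd (FibCat.cartSubProj p) := by
  refine ⟨?_, ?_⟩
  · intro x V f
    change V ⟶ p.obj x.obj at f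
    obtain ⟨y, φ, hφ⟩ := Functor.IsPreFibered.exists_isCartesian' (p := p) (a := x.obj) f
    have hφ' : p.IsStronglyCartesian f φ := inferInstance
    have hφ'' : p.IsStronglyCartesian (p.map φ) φ := isStronglyCartesian_map_of p f φ
    refine ⟨⟨y⟩, ⟨φ, hφ''⟩, ?_⟩
    exact cartSub_isHomLift_of_hom p _ f inferInstance
  · intro y x m
    have hm : p.IsStronglyCartesian (p.map m.hom) m.hom := m.property
    refine { toIsHomLift := inferInstance, universal_property' := ?_ }
    intro a' g m' hm'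
    change p.obj a'.obj ⟶ p.obj y.obj at g
    have hm'1 : p.IsHomLift (g ≫ p.map m.hom) m'.hom := cartSub_isHomLift_hom p m' _ hm'
    have hm'2 : p.IsStronglyCartesian (p.map m'.hom) m'.hom := m'.property
    have e : g ≫ p.map m.hom = p.map m'.hom := IsHomLift.eq_of_isHomLift p _ m'.hom
    let χ : a'.obj ⟶ y.obj :=
      Functor.IsStronglyCartesian.map p (p.map m.hom) m.hom (g := g) rfl m'.hom
    have hχ : p.IsHomLift g χ := by dsimp only [χ]; infer_instance
    have eχ : χ ≫ m.hom = m'.hom := Functor.IsStronglyCartesian.fac _ _ _ _ _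
    have hχsc : p.IsStronglyCartesian g χ := by
      have : p.IsStronglyCartesian (g ≫ p.map m.hom) (χ ≫ m.hom) := by
        rw [eχ, e]; exact hm'2
      exact Functor.IsStronglyCartesian.of_comp p (g := p.map m.hom) (ψ := m.hom)
    have hχsc' : p.IsStronglyCartesian (p.map χ) χ := isStronglyCartesian_map_of p g χ
    refine ⟨⟨χ, hχsc'⟩, ⟨cartSub_isHomLift_of_hom p _ g hχ, ?_⟩, ?_⟩
    · apply WideSubcategory.hom_ext
      exact eχ
    · rintro χ' ⟨k1, k2⟩
      have a1 : p.IsHomLift g χ'.hom := cartSub_isHomLift_hom p χ' g k1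
      apply WideSubcategory.hom_ext
      exact Functor.IsStronglyCartesian.map_uniq p (p.map m.hom) m.hom rfl m'.hom χ'.hom
        (by rw [← k2]; rfl)

end Groth.Agent.S6430
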