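import Groth.Statements.S6435
-- import your own Groth.Agent.* helpers here

set_option autoImplicit false
open CategoryTheory
universe v u v' u'
open CatLoc

namespace Groth.Agent.S6435

/-- For a multiplicative system `W` (left and right calculus of fractions) with localization functor
`L`, a morphism `f` becomes an isomorphism under `L` if and only if `g ∘ f ∈ W` and `f ∘ h ∈ W` for
some `g, h`. -/
theorem result {C : Type u} [Category.{v} C] {D : Type u'} [Category.{v'} D] (W : MorphismProperty C) (L : C ⥤ D) [L.IsLocalization W] [W.HasLeftCalculusOfFractions] [W.HasRightCalculusOfFractions]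
    {X Y : C} (f : X ⟶ Y) :
    IsIso (L.map f) ↔ ∃ (Z Z' : C) (g : Y ⟶ Z) (h : Z' ⟶ X), W (f ≫ g) ∧ W (h ≫ f) := by
  have hL := Localization.inverts L W
  constructor
  · intro hf
    -- left fraction for the inverse
    obtain ⟨φ, hφ⟩ := Localization.exists_leftFraction L W (inv (L.map f))
    have h1 : inv (L.map f) ≫ L.map φ.s = L.map φ.f := by
      rw [hφ]; exact φ.map_comp_map_s L hL
    have e1 : L.map (f ≫ φ.f) = L.map φ.s := by
      rw [L.map_comp, ← h1]; simp
    obtain ⟨Z, t, ht, et⟩ := (MorphismProperty.map_eq_iff_postcomp L W _ _).1 e1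
    -- right fraction for the inverse
    obtain ⟨ρ, hρ⟩ := Localization.exists_rightFraction L W (inv (L.map f))
    have h2 : L.map ρ.s ≫ inv (L.map f) = L.map ρ.f := by
      rw [hρ]; exact ρ.map_s_comp_map L hL
    have e2 : L.map (ρ.f ≫ f) = L.map ρ.s := by
      rw [L.map_comp, ← h2]; simp
    obtain ⟨Z', t', ht', et'⟩ := (MorphismProperty.map_eq_iff_precomp L W _ _).1 e2
    refine ⟨Z, Z', φ.f ≫ t, t' ≫ ρ.f, ?_, ?_⟩
    · have : f ≫ φ.f ≫ t = φ.s ≫ t := by simpa using et
      rw [this]
      exact W.comp_mem _ _ φ.hs ht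
    · have : (t' ≫ ρ.f) ≫ f = t' ≫ ρ.s := by simpa using et'
      rw [this]
      exact W.comp_mem _ _ ht' ρ.hs
  · rintro ⟨Z, Z', g, h, h1, h2⟩
    have i1 : IsIso (L.map (f ≫ g)) := hL _ h1
    have i2 : IsIso (L.map (h ≫ f)) := hL _ h2
    rw [L.map_comp] at i1 i2
    have hsplitMono : IsSplitMono (L.map f) :=
      ⟨⟨⟨L.map g ≫ inv (L.map f ≫ L.map g), by rw [← Category.assoc, IsIso.hom_inv_id]⟩⟩⟩
    have hepi : Epi (L.map f) := epi_of_epi (L.map h) (L.map f)
    exact isIso_of_epi_of_isSplitMono _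

end Groth.Agent.S6435
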