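import Groth.Statements.S6436
-- import your own Groth.Agent.* helpers here

set_option autoImplicit false
open CategoryTheory
universe v₁ u₁ v₂ u₂
open CatLim

namespace Groth.Agent.S6436

/-- For an adjunction `u ⊣ v`, if `v ∘ u` is fully faithful then so is `u`, and if `u ∘ v` is fully
faithful then so is `v`. -/
theorem result {C : Type u₁} [Category.{v₁} C] {D : Type u₂} [Category.{v₂} D] {u : C ⥤ D} {v : D ⥤ C} (adj : u ⊣ v) :
    ((u ⋙ v).Full → (u ⋙ v).Faithful → u.Full ∧ u.Faithful) ∧ ((v ⋙ u).Full → (v ⋙ u).Faithful → v.Full ∧ v.Faithful) := by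
  constructor
  · intro hfull hfaith
    have hvinj : ∀ {x y : C} (f g : u.obj x ⟶ u.obj y), v.map f = v.map g → f = g := by
      intro x y f g h
      apply (adj.homEquiv x (u.obj y)).injective
      simp [Adjunction.homEquiv_unit, h]
    refine ⟨⟨?_⟩, ⟨?_⟩⟩
    · intro x y f
      obtain ⟨g, hg⟩ := (u ⋙ v).map_surjective (v.map f)
      exact ⟨g, hvinj _ _ (by simpa using hg)⟩
    · intro x y f g h
      apply (u ⋙ v).map_injective
      simp [h]
  · intro hfull hfaith
    have huinj : ∀ {a b : D} (f g : v.obj a ⟶ v.obj b), u.map f = u.map g → f = g := by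
      intro a b f g h
      apply (adj.homEquiv (v.obj a) b).symm.injective
      simp [Adjunction.homEquiv_counit, h]
    refine ⟨⟨?_⟩, ⟨?_⟩⟩
    · intro a b f
      obtain ⟨g, hg⟩ := (v ⋙ u).map_surjective (u.map f)
      exact ⟨g, huinj _ _ (by simpa using hg)⟩
    · intro a b f g h
      apply (v ⋙ u).map_injective
      simp [h]

end Groth.Agent.S6436
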