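import Groth.Statements.S6439
-- import your own Groth.Agent.* helpers here

set_option autoImplicit false
open CategoryTheory
universe v u
open FibCat

namespace Groth.Agent.S6439

section

universe w₁ v₁ u₁

variable {B : Type u₁} [Bicategory.{w₁, v₁} B] {a b : B}

open Bicategory

/-- Precomposition with an equivalence of a bicategory is an equivalence of categories. -/
noncomputable def precompEquivalence (c : B) (f : a ⟶ b) (g : b ⟶ a) (e₁ : f ≫ g ≅ 𝟙 a)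
    (e₂ : g ≫ f ≅ 𝟙 b) : (b ⟶ c) ≌ (a ⟶ c) :=
  CategoryTheory.Equivalence.mk (precomp c f) (precomp c g)
    ((leftUnitorNatIso b c).symm ≪≫ (precomposing b b c).mapIso e₂.symm ≪≫
      associatorNatIsoRight g f c)
    ((associatorNatIsoRight f g c).symm ≪≫ (precomposing a a c).mapIso e₁ ≪≫
      leftUnitorNatIso a c)

/-- Postcomposition with an equivalence of a bicategory is an equivalence of categories. -/
noncomputable def postcompEquivalence (c : B) (f : a ⟶ b) (g : b ⟶ a) (e₁ : f ≫ g ≅ 𝟙 a)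
    (e₂ : g ≫ f ≅ 𝟙 b) : (c ⟶ a) ≌ (c ⟶ b) :=
  CategoryTheory.Equivalence.mk (postcomp c f) (postcomp c g)
    ((rightUnitorNatIso c a).symm ≪≫ (postcomposing c a a).mapIso e₁.symm ≪≫
      (associatorNatIsoLeft c f g).symm)
    (associatorNatIsoLeft c g f ≪≫ (postcomposing c b b).mapIso e₂ ≪≫
      rightUnitorNatIso c b)

end

/-- For categories fibred in groupoids over `C` and equivalences `φ : 𝒮₁ ⟶ 𝒮₂`, `ψ : 𝒮₃ ⟶ 𝒮₄` over `C`,
the functor `α ↦ ψ ∘ α ∘ φ` between the categories of functors over `C` is an equivalence of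
categories. -/
theorem result {C : Type u} [Category.{v} C] {𝒮₁ 𝒮₂ 𝒮₃ 𝒮₄ : BasedCategory.{v, max u v} C}
    (h₁ : FibCat.IsFibGrpd 𝒮₁.p) (h₂ : FibCat.IsFibGrpd 𝒮₂.p) (h₃ : FibCat.IsFibGrpd 𝒮₃.p) (h₄ : FibCat.IsFibGrpd 𝒮₄.p)
    (φ : 𝒮₁ ⟶ 𝒮₂) (ψ : 𝒮₃ ⟶ 𝒮₄) (hφ : FibCat.IsEquivOver φ) (hψ : FibCat.IsEquivOver ψ) :
    (Bicategory.precomp 𝒮₃ φ ⋙ Bicategory.postcomp 𝒮₁ ψ).IsEquivalence := by
  obtain ⟨φ', ⟨e₁⟩, ⟨e₂⟩⟩ := hφ
  obtain ⟨ψ', ⟨d₁⟩, ⟨d₂⟩⟩ := hψ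
  have h1 : (Bicategory.precomp 𝒮₃ φ).IsEquivalence :=
    (precompEquivalence 𝒮₃ φ φ' e₁ e₂).isEquivalence_functor
  have h2 : (Bicategory.postcomp 𝒮₁ ψ).IsEquivalence :=
    (postcompEquivalence 𝒮₁ ψ ψ' d₁ d₂).isEquivalence_functor
  infer_instance

end Groth.Agent.S6439
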