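import Groth.Statements.S6443
import Groth.Agent.Lib.FibCat4_helper6
-- import your own Groth.Agent.* helpers here

set_option autoImplicit false
open CategoryTheory CategoryTheory.Limits
universe v u
open FibCat

namespace Groth.Agent.S6443

open Groth.Agent.Lib.FibCat4_helper6

/-- If a category `𝒮` fibred in groupoids over `C` is represented by `X` via `j : 𝒮 ⟶ C/X` and by `X'`
via `j' : 𝒮 ⟶ C/X'` (equivalences over `C`), then there is an isomorphism `X' ≅ X` under which `j'`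
becomes 2-isomorphic to `j` over `C`. -/
theorem result {C : Type u} [Category.{v} C] {𝒮 : BasedCategory.{v, max u v} C} (h𝒮 : FibCat.IsFibGrpd 𝒮.p)
    {X X' : C} (j : 𝒮 ⥤ᵇ FibCat.overCat X) (j' : 𝒮 ⥤ᵇ FibCat.overCat X') (hj : FibCat.IsEquivOver j) (hj' : FibCat.IsEquivOver j') :
    ∃ e : X' ≅ X, Nonempty (BasedFunctor.comp j' (⟨Over.map e.hom, Over.mapForget_eq e.hom⟩ : FibCat.overCat X' ⥤ᵇ FibCat.overCat X) ≅ j) := by
  obtain ⟨l, ⟨e₁⟩, ⟨e₂⟩⟩ := hj
  obtain ⟨k, ⟨e₁'⟩, ⟨e₂'⟩⟩ := hj'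
  let H : overCat X' ⥤ᵇ overCat X := BasedFunctor.comp k j
  let H' : overCat X ⥤ᵇ overCat X' := BasedFunctor.comp l j'
  let a := sliceMorB H
  let b := sliceMorB H'
  let iH : H ≅ overMap a := sliceIsoB H
  let iH' : H' ≅ overMap b := sliceIsoB H'
  have hab : a ≫ b = 𝟙 X' := by
    apply comp_eq_id_of_iso
    have i1 : BasedFunctor.comp (overMap a) (overMap b) ≅ BasedFunctor.comp H H' :=
      whiskerLeftIso _ iH'.symm ≪≫ whiskerRightIso iH.symm _
    have i2 : BasedFunctor.comp H H' ≅ BasedFunctor.comp k j' :=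
      whiskerLeftIso k (whiskerRightIso e₁ j')
    exact i1 ≪≫ i2 ≪≫ e₂'
  have hba : b ≫ a = 𝟙 X := by
    apply comp_eq_id_of_iso
    have i1 : BasedFunctor.comp (overMap b) (overMap a) ≅ BasedFunctor.comp H' H :=
      whiskerLeftIso _ iH.symm ≪≫ whiskerRightIso iH'.symm _
    have i2 : BasedFunctor.comp H' H ≅ BasedFunctor.comp l j :=
      whiskerLeftIso l (whiskerRightIso e₁' j)
    exact i1 ≪≫ i2 ≪≫ e₂
  refine ⟨⟨a, b, hab, hba⟩, ⟨?_⟩⟩
  have i1 : BasedFunctor.comp j' (overMap a) ≅ BasedFunctor.comp j' H := whiskerLeftIso j' iH.symm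
  have i2 : BasedFunctor.comp j' H ≅ j := whiskerRightIso e₁' j
  exact i1 ≪≫ i2

end Groth.Agent.S6443
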