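import Groth.Statements.S6444
-- import your own Groth.Agent.* helpers here

set_option autoImplicit false
open CategoryTheory
universe v u v' u'
open CatLoc

namespace Groth.Agent.S6444

/-- For a left multiplicative system, a commutative square in the localization between the images of two
morphisms `f, f'` of `C` lifts to a commutative diagram `X → X'' ← X'`, `Y → Y'' ← Y'` in `C` over a
third morphism `f''`, the backward arrows lying in `W`. -/
theorem result {C : Type u} [Category.{v} C] {D : Type u'} [Category.{v'} D] (W : MorphismProperty C) (L : C ⥤ D) [L.IsLocalization W] [W.HasLeftCalculusOfFractions]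
    {X Y X' Y' : C} (f : X ⟶ Y) (f' : X' ⟶ Y') (a : L.obj X ⟶ L.obj X') (b : L.obj Y ⟶ L.obj Y') (w : L.map f ≫ b = a ≫ L.map f') :
    ∃ (X'' Y'' : C) (f'' : X'' ⟶ Y'') (g : X ⟶ X'') (h : Y ⟶ Y'') (s : X' ⟶ X'') (t : Y' ⟶ Y''),
      W s ∧ W t ∧ f ≫ h = g ≫ f'' ∧ f' ≫ t = s ≫ f'' ∧ L.map g = a ≫ L.map s ∧ L.map h = b ≫ L.map t := by
  have hL := Localization.inverts L W
  -- step 1
  obtain ⟨φa, hφa⟩ := Localization.exists_leftFraction L W a
  have ha : a ≫ L.map φa.s = L.map φa.f := by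
    rw [hφa]; exact φa.map_comp_map_s L hL
  -- step 2
  obtain ⟨ψ, hψ⟩ := (MorphismProperty.RightFraction.mk φa.s φa.hs f').exists_leftFraction
  dsimp at hψ
  -- step 3
  obtain ⟨φb, hφb⟩ := Localization.exists_leftFraction L W (b ≫ L.map ψ.s)
  have hb : (b ≫ L.map ψ.s) ≫ L.map φb.s = L.map φb.f := by
    rw [hφb]; exact φb.map_comp_map_s L hL
  -- step 4
  have e : L.map (f ≫ φb.f) = L.map (φa.f ≫ ψ.f ≫ φb.s) := by
    rw [L.map_comp, ← hb, ← Category.assoc, ← Category.assoc, w, Category.assoc, Category.assoc,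
      ← L.map_comp_assoc, hψ, L.map_comp, L.map_comp, L.map_comp, ← ha]
    simp
  obtain ⟨Y₃, t₃, ht₃, e'⟩ := (MorphismProperty.map_eq_iff_postcomp L W _ _).1 e
  refine ⟨φa.Y', Y₃, ψ.f ≫ φb.s ≫ t₃, φa.f, φb.f ≫ t₃, φa.s, ψ.s ≫ φb.s ≫ t₃, φa.hs,
    W.comp_mem _ _ ψ.hs (W.comp_mem _ _ φb.hs ht₃), ?_, ?_, ha.symm, ?_⟩
  · simpa using e'
  · rw [← Category.assoc, hψ, Category.assoc]
  · rw [L.map_comp, ← hb]
    simp

end Groth.Agent.S6444
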