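import Groth.Statements.S6447
import Groth.Agent.S6420
-- import your own Groth.Agent.* helpers here

set_option autoImplicit false
open CategoryTheory CategoryTheory.Limits
universe v u
open FibCat

namespace Groth.Agent.S6447

section

variable {X Y V : Type u} [Category.{v} X] [Category.{v} Y] [Category.{v} V] (p : X ⥤ Y) (q : V ⥤ Y)

/-- the cospan transform of the statement -/
noncomputable abbrev psi : CatCospanTransform (CategoricalPullback.π₂ p q) (CategoricalPullback.π₂ p q) p p :=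
  ⟨CategoricalPullback.π₁ p q, q, CategoricalPullback.π₁ p q, ⟨(CatCommSq.iso (CategoricalPullback.π₁ p q) (CategoricalPullback.π₂ p q) p q).symm⟩, ⟨(CatCommSq.iso (CategoricalPullback.π₁ p q) (CategoricalPullback.π₂ p q) p q).symm⟩⟩

noncomputable abbrev Gf := FibCat.categoricalPullbackMap (psi p q)

abbrev dU := (CategoricalPullback.CatCommSqOver.toFunctorToCategoricalPullback (CategoricalPullback.π₂ p q) (CategoricalPullback.π₂ p q) (CategoricalPullback p q)).obj ⟨𝟭 _, 𝟭 _, Iso.refl _⟩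

abbrev dX (p : X ⥤ Y) := (CategoricalPullback.CatCommSqOver.toFunctorToCategoricalPullback p p X).obj ⟨𝟭 _, 𝟭 _, Iso.refl _⟩

theorem Gf_obj_iso_hom (w : CategoricalPullback (CategoricalPullback.π₂ p q) (CategoricalPullback.π₂ p q)) :
    ((Gf p q).obj w).iso.hom = w.fst.iso.hom ≫ q.map w.iso.hom ≫ w.snd.iso.inv := by
  rw [Groth.Agent.S6420.cpMap_obj_iso_hom]
  rfl

noncomputable def ee : CategoricalPullback.π₁ p q ⋙ dX p ≅ dU p q ⋙ Gf p q :=
  NatIso.ofComponents (fun u => CategoricalPullback.mkIso (Iso.refl _) (Iso.refl _) (by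
    show p.map (𝟙 _) ≫ ((Gf p q).obj ((dU p q).obj u)).iso.hom = 𝟙 _ ≫ p.map (𝟙 _)
    rw [Gf_obj_iso_hom]
    show p.map (𝟙 _) ≫ (u.iso.hom ≫ q.map (𝟙 _) ≫ u.iso.inv) = 𝟙 _ ≫ p.map (𝟙 _)
    simp)) (by
    intro u u' f
    apply CategoricalPullback.hom_ext
    · show f.fst ≫ 𝟙 _ = 𝟙 _ ≫ f.fst
      simp
    · show f.fst ≫ 𝟙 _ = 𝟙 _ ≫ f.fst
      simp)

/-- the comparison functor -/
noncomputable abbrev Phi : CategoricalPullback p q ⥤ CategoricalPullback (dX p) (Gf p q) :=
  (CategoricalPullback.CatCommSqOver.toFunctorToCategoricalPullback (dX p) (Gf p q) (CategoricalPullback p q)).obj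
    ⟨CategoricalPullback.π₁ p q, dU p q, ee p q⟩

theorem Phi_faithful : (Phi p q).Faithful where
  map_injective {u u'} f g h := by
    have h1 := congrArg (fun k => k.snd.fst) h
    exact h1

theorem Phi_full : (Phi p q).Full where
  map_surjective {u u'} h := by
    refine ⟨h.snd.fst, ?_⟩
    have hw := h.w
    have hw1 : h.fst ≫ 𝟙 _ = 𝟙 _ ≫ (h.snd.fst).fst := congrArg (fun k => k.fst) hw
    have hw2 : h.fst ≫ 𝟙 _ = 𝟙 _ ≫ (h.snd.snd).fst := congrArg (fun k => k.snd) hw
    have hw3 : (h.snd.fst).snd ≫ 𝟙 _ = 𝟙 _ ≫ (h.snd.snd).snd := h.snd.w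
    simp only [Category.comp_id, Category.id_comp] at hw1 hw2 hw3
    apply CategoricalPullback.hom_ext
    · exact hw1.symm
    · apply CategoricalPullback.hom_ext
      · rfl
      · apply CategoricalPullback.hom_ext
        · exact hw1.symm.trans hw2
        · exact hw3

theorem aux_cancel {a b c d e : Y} (f : a ⟶ b) (finv : b ⟶ a) (hf : finv ≫ f = 𝟙 _) (g : b ⟶ c)
    (h : c ⟶ d) (k : e ≅ d) (m : a ⟶ e) (hα : f ≫ g ≫ h ≫ k.inv = m) :
    finv ≫ m ≫ k.hom = g ≫ h := by
  subst hα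
  simp only [Category.assoc, Iso.inv_hom_id, Category.comp_id]
  rw [← Category.assoc, hf, Category.id_comp]

theorem Phi_essSurj : (Phi p q).EssSurj where
  mem_essImage z := by
    -- z = (x, w, α)
    let α₁ : z.fst ≅ z.snd.fst.fst := (CategoricalPullback.π₁ p p).mapIso z.iso
    let α₂ : z.fst ≅ z.snd.snd.fst := (CategoricalPullback.π₂ p p).mapIso z.iso
    have hα : p.map α₁.hom ≫ (z.snd.fst.iso.hom ≫ q.map z.snd.iso.hom ≫ z.snd.snd.iso.inv) =
        𝟙 _ ≫ p.map α₂.hom := by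
      have := z.iso.hom.w
      rw [Gf_obj_iso_hom] at this
      exact this
    have hb : p.map (α₁.symm ≪≫ α₂).hom ≫ z.snd.snd.iso.hom =
        z.snd.fst.iso.hom ≫ q.map z.snd.iso.hom := by
      rw [Category.id_comp] at hα
      rw [Iso.trans_hom, Functor.map_comp, Category.assoc]
      exact aux_cancel (p.map α₁.hom) (p.map α₁.symm.hom)
        (by rw [Iso.symm_hom, ← Functor.map_comp, Iso.inv_hom_id, Functor.map_id]) _ _ _ _ hα
    let b₂ : z.snd.fst ≅ z.snd.snd := CategoricalPullback.mkIso (α₁.symm ≪≫ α₂) z.snd.iso hb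
    let eᵣ : (dU p q).obj z.snd.fst ≅ z.snd :=
      CategoricalPullback.mkIso (Iso.refl _) b₂ (by
        show (𝟙 _ : z.snd.fst ⟶ z.snd.fst).snd ≫ z.snd.iso.hom = 𝟙 _ ≫ z.snd.iso.hom
        simp)
    refine ⟨z.snd.fst, ⟨CategoricalPullback.mkIso α₁.symm eᵣ ?_⟩⟩
    apply CategoricalPullback.hom_ext
    · show z.iso.inv.fst ≫ z.iso.hom.fst = 𝟙 _ ≫ 𝟙 _
      rw [← CategoricalPullback.comp_fst, Iso.inv_hom_id, Category.id_comp]
      rfl
    · show α₁.inv ≫ z.iso.hom.snd = 𝟙 _ ≫ (α₁.inv ≫ α₂.hom)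
      rw [Category.id_comp]
      rfl

end

/-- For a 2-fibre product `U = X ×_Y V` of categories, the square formed by `U ⟶ X`, the diagonals `U ⟶
U ×_V U`, `X ⟶ X ×_Y X` and the induced functor `U ×_V U ⟶ X ×_Y X` is 2-cartesian. (The filling
2-isomorphism is the one whose two components at every object are identities; it exists and is
unique with that property.) -/
theorem result {X Y V : Type u} [Category.{v} X] [Category.{v} Y] [Category.{v} V] (p : X ⥤ Y) (q : V ⥤ Y) :
    ∃ e, (∀ u, (e.hom.app u).fst = 𝟙 _ ∧ (e.hom.app u).snd = 𝟙 _) ∧ FibCat.IsTwoCart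
      (CategoricalPullback.π₁ p q)
      ((CategoricalPullback.CatCommSqOver.toFunctorToCategoricalPullback (CategoricalPullback.π₂ p q) (CategoricalPullback.π₂ p q) (CategoricalPullback p q)).obj ⟨𝟭 _, 𝟭 _, Iso.refl _⟩)
      ((CategoricalPullback.CatCommSqOver.toFunctorToCategoricalPullback p p X).obj ⟨𝟭 _, 𝟭 _, Iso.refl _⟩)
      (FibCat.categoricalPullbackMap (⟨CategoricalPullback.π₁ p q, q, CategoricalPullback.π₁ p q, ⟨(CatCommSq.iso (CategoricalPullback.π₁ p q) (CategoricalPullback.π₂ p q) p q).symm⟩, ⟨(CatCommSq.iso (CategoricalPullback.π₁ p q) (CategoricalPullback.π₂ p q) p q).symm⟩⟩ : CatCospanTransform (CategoricalPullback.π₂ p q) (CategoricalPullback.π₂ p q) p p))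
      e := by
  refine ⟨ee p q, fun u => ⟨rfl, rfl⟩, ?_⟩
  unfold FibCat.IsTwoCart
  haveI := Phi_faithful p q
  haveI := Phi_full p q
  haveI := Phi_essSurj p q
  exact ({ faithful := Phi_faithful p q, full := Phi_full p q, essSurj := Phi_essSurj p q } :
    (Phi p q).IsEquivalence)

end Groth.Agent.S6447
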