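import Groth.Statements.S6453
import Mathlib
import Groth.Agent.Lib.IntMultGeom2_helper6
import Groth.Agent.Lib.IntMultGeom3_helper6
import Groth.Agent.Lib.IntMultAlg2_helper6
-- import your own Groth.Agent.* helpers here

set_option autoImplicit false
universe u
open CategoryTheory AlgebraicGeometry
attribute [local instance] HasDerivedCategory.standard
open IntMult

namespace Groth.Agent.S6453

/-- Suppose the ideal of V in O_{X,ξ} is generated by a single nonzerodivisor g (c = 1: V is an
effective Cartier divisor at ξ). Then e(X, V·W, Z) = length_{O_{X,ξ}}(O_{W,ξ}/g O_{W,ξ}), i.e. the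
length of O_{X,ξ}/(I_{W,ξ} + (g)). Here X is a nonsingular variety over an algebraically closed
field K (smooth, separated, quasi-compact, integral), V and W are closed subvarieties given by
quasi-coherent ideal sheaves with integral subschemes, of dimensions r and s with dim X = n,
intersecting properly, and ξ is the generic point of an irreducible component Z of V ∩ W (a point of
V ∩ W maximal under specialization); e(X, V·W, Z) = IntMult.mult is the alternating sum of lengths
of Tor over O_{X,ξ}, and O_{W,ξ} = O_{X,ξ}/I_{W,ξ}. -/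
theorem result (K : Type u) [Field K] [IsAlgClosed K] (X : Scheme.{u}) (f : X ⟶ Spec (CommRingCat.of K)) [Smooth f] [IsSeparated f] [QuasiCompact f] [IsIntegral X] (IV IW : X.IdealSheafData) [IsIntegral IV.subscheme] [IsIntegral IW.subscheme] (n r s : ℕ) (hn : topologicalKrullDim X = n) (hr : topologicalKrullDim IV.support = r) (hs : topologicalKrullDim IW.support = s) (hprop : IntMult.ProperInt (IV.support : Set X) (IW.support : Set X) n r s) (ξ : X) (hξV : ξ ∈ IV.support) (hξW : ξ ∈ IW.support) (hmax : ∀ ξ' : X, ξ' ∈ IV.support → ξ' ∈ IW.support → ξ' ⤳ ξ → ξ' = ξ) (g : ↑(X.presheaf.stalk ξ)) (hg : IntMult.stalkIdeal IV ξ = Ideal.span {g}) (hreg : IsSMulRegular (↑(X.presheaf.stalk ξ)) g) : (IntMult.mult IV IW ξ : ℤ) = (Module.length (X.presheaf.stalk ξ) (↑(X.presheaf.stalk ξ) ⧸ (IntMult.stalkIdeal IW ξ ⊔ Ideal.span {g}))).toNat := by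

  classical
  haveI : LocallyOfFiniteType f := inferInstance
  haveI : IsLocallyNoetherian X := LocallyOfFiniteType.isLocallyNoetherian f
  obtain ⟨aX, aV, aW, hX, hV, hW', hle⟩ := Groth.Agent.Lib.IntMultGeom2_helper6.geom K X f IV IW
    n r s hn hr hs hprop ξ hξV hξW
  have hfl := Groth.Agent.Lib.IntMultGeom1_helper6.isFiniteLength_quot_sup IV IW ξ hmax
  rw [hg] at hfl hV
  have hne : Ideal.span {g} ≠ ⊤ := by
    intro htop
    rw [htop] at hV
    haveI : Subsingleton (↑(X.presheaf.stalk ξ) ⧸ (⊤ : Ideal ↑(X.presheaf.stalk ξ))) :=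
      Ideal.Quotient.subsingleton_iff.mpr rfl
    rw [ringKrullDim_eq_bot_of_subsingleton] at hV
    simp at hV
  have hreg' := Groth.Agent.Lib.IntMultAlg2_helper6.isRegular_single g hreg hne
  have hfl' := hfl
  rw [← Groth.Agent.Lib.IntMultAlg2_helper6.range_const_fin1 g] at hfl'
  have hV' := hV
  rw [← Groth.Agent.Lib.IntMultAlg2_helper6.range_const_fin1 g] at hV'
  have hdim := Groth.Agent.Lib.IntMultAlg1_helper6.dim_eq 1 (fun _ : Fin 1 => g) hreg'
    (IntMult.stalkIdeal IW ξ) hfl' aX aV aW hX hV' hW' hle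
  haveI := Groth.Agent.Lib.IntMultGeom3_helper6.isPrime_stalkIdeal IW ξ hξW
  unfold IntMult.mult
  rw [hg]
  exact Groth.Agent.Lib.IntMultAlg2_helper6.cartier_core g hreg hne _ hfl hdim

end Groth.Agent.S6453
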