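import Groth.Statements.S6454
import Groth.Agent.Lib.SecOrd5_helper8

set_option autoImplicit false
universe u
open CategoryTheory AlgebraicGeometry
open Cyc

namespace Groth.Agent.S6454

/-- Let L, N be invertible O_X-modules and α a (k + 1)-cycle on X. Then c_1(L) ∩ α + c_1(N) ∩ α = c_1(L
⊗ N) ∩ α in CH_k(X): for any nonzero rational sections used to compute the three caps (the tensor
product is CohB1.tensorMod), the sum of the first two k-cycles is rationally equivalent to the
third. Here L(ξ) = L_ξ/𝔪_ξ L_ξ is the space of rational sections of L on the closure of ξ,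
div_{L|W}(s) and c_1(L) ∩ α are computed as coefficient functions from chosen nonzero rational
sections (Cyc.secDivFun, Cyc.c1CapFun), and results are compared up to rational equivalence for any
cycles with those coefficients. A pair (X, δ) with Cyc.IsSetup plays the role of a scheme locally of
finite type over the base (S, δ) (X locally Noetherian with universally catenary local rings, δ a
dimension function). -/
theorem result (X : Scheme.{u}) (δ : X → ℤ) (hX : Cyc.IsSetup X δ) (L N : X.Modules) (hL : PicF.IsInvertible L) (hN : PicF.IsInvertible N) (k : ℤ) (α : AlgebraicCycle X ℤ) (hα : α ∈ Cyc.Zk X δ (k + 1)) (sL : (ξ : X) → Cyc.secFibre L ξ) (hsL : ∀ ξ, sL ξ ≠ 0) (sN : (ξ : X) → Cyc.secFibre N ξ) (hsN : ∀ ξ, sN ξ ≠ 0) (sT : (ξ : X) → Cyc.secFibre (CohB1.tensorMod L N) ξ) (hsT : ∀ ξ, sT ξ ≠ 0) (γL γN γT : AlgebraicCycle X ℤ) (hγL : ⇑γL = Cyc.c1CapFun δ L ⇑α sL) (hγN : ⇑γN = Cyc.c1CapFun δ N ⇑α sN) (hγT : ⇑γT = Cyc.c1CapFun δ (CohB1.tensorMod L N) ⇑α sT) : Cyc.RatEquiv δ k (γL + γN)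 γT := by
  classical
  have hT := TensH8.isInvertible_tensorMod hL hN
  have hX' := hX
  obtain ⟨hXn, -, hδ⟩ := hX
  haveI := hXn
  choose sT' hsT'0 hsT' using fun ξ =>
    SecOrdH8.exists_tensor_section δ hδ hL hN ξ (sL ξ) (sN ξ) (hsL ξ) (hsN ξ)
  have hsum : ⇑(γL + γN) = Cyc.c1CapFun δ (CohB1.tensorMod L N) ⇑α sT' := by
    funext x
    have hadd : (γL + γN) x = γL x + γN x := by
      rw [Function.locallyFinsuppWithin.coe_add]
      rfl
    rw [hadd, hγL, hγN]
    unfold Cyc.c1CapFun
    have hS := SecOrdH8.finite_support_specializes α x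
    have hf1 : (Function.support fun ξ => α ξ * Cyc.secDivFun δ L ξ (sL ξ) x).Finite := by
      refine hS.subset ?_
      intro ξ hξ
      rw [Function.mem_support] at hξ
      exact ⟨left_ne_zero_of_mul hξ, SecOrdH8.secDivFun_ne_zero (right_ne_zero_of_mul hξ)⟩
    have hf2 : (Function.support fun ξ => α ξ * Cyc.secDivFun δ N ξ (sN ξ) x).Finite := by
      refine hS.subset ?_
      intro ξ hξ
      rw [Function.mem_support] at hξ
      exact ⟨left_ne_zero_of_mul hξ, SecOrdH8.secDivFun_ne_zero (right_ne_zero_of_mul hξ)⟩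
    rw [← finsum_add_distrib hf1 hf2]
    apply finsum_congr
    intro ξ
    rw [← mul_add]
    congr 1
    unfold Cyc.secDivFun
    by_cases hc : ξ ⤳ x ∧ δ x + 1 = δ ξ
    · rw [dif_pos hc, dif_pos hc, dif_pos hc]
      exact (hsT' ξ x hc.1 hc.2).symm
    · rw [dif_neg hc, dif_neg hc, dif_neg hc, add_zero]
  exact SecOrdH8.ratEquiv_c1Cap δ hX' hT k α hα sT' sT hsT'0 hsT (γL + γN) γT hsum hγT

end Groth.Agent.S6454
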