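import Groth.Statements.S6458
import Groth.Agent.Lib.JUC2_helper8
import Groth.Agent.Lib.DimFun_helper8

set_option autoImplicit false
universe u
open CategoryTheory AlgebraicGeometry
open Cyc

namespace Groth.Agent.S6458

/-- Let X be integral with generic point η and ξ the generic point of an irreducible component of an
effective Cartier divisor on X; locally: g ∈ 𝔪_ξ ⊂ O_{X,ξ} is nonzero and O_{X,ξ}/(g) is
zero-dimensional. Then dim_δ of the closure of ξ is dim_δ(X) − 1, i.e. δ(ξ) = δ(η) − 1. Here a pair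
(X, δ) with Cyc.IsSetup plays the role of a scheme locally of finite type over the base (S, δ) (X
locally Noetherian with universally catenary local rings, δ a dimension function). -/
theorem result (X : Scheme.{u}) [IsIntegral X] (δ : X → ℤ) (hX : Cyc.IsSetup X δ) (ξ : X) (g : ↑(X.presheaf.stalk ξ)) (hg0 : g ≠ 0) (hgm : g ∈ IsLocalRing.maximalIdeal (X.presheaf.stalk ξ)) (hdim : ringKrullDim (↑(X.presheaf.stalk ξ) ⧸ Ideal.span {g}) = 0) : δ ξ = δ (genericPoint X) - 1 := by
  classical
  obtain ⟨hN, -, hδ⟩ := hX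
  haveI := hN
  have hsp : genericPoint X ⤳ ξ := (genericPoint_spec X).specializes (Set.mem_univ _)
  have hdim1 : ringKrullDim (X.presheaf.stalk ξ) ≤ 1 := by
    have h1 := ringKrullDim_le_ringKrullDim_quotient_add_encard
      ({g} : Set (X.presheaf.stalk ξ))
      (by rw [Set.singleton_subset_iff, IsLocalRing.ringJacobson_eq_maximalIdeal]; exact hgm)
    rw [hdim, Set.encard_singleton] at h1
    simpa using h1
  have hne : genericPoint X ≠ ξ := by
    intro h
    have hall : ∀ P : PrimeSpectrum (X.presheaf.stalk ξ), Groth.Agent.DimFunH8.φ X ξ P = ξ := by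
      intro P
      have h1 : Groth.Agent.DimFunH8.φ X ξ P ⤳ ξ := Groth.Agent.DimFunH8.φ_specializes X ξ P
      have h2' : genericPoint X ⤳ Groth.Agent.DimFunH8.φ X ξ P :=
        (genericPoint_spec X).specializes (Set.mem_univ _)
      have h2 : ξ ⤳ Groth.Agent.DimFunH8.φ X ξ P := by
        have key : ∀ a : X, a = ξ → a ⤳ Groth.Agent.DimFunH8.φ X ξ P →
            ξ ⤳ Groth.Agent.DimFunH8.φ X ξ P := by
          intro a ha hsp
          subst ha
          exact hsp
        exact key _ h h2'
      exact (h1.antisymm h2).eq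
    have heq : (⟨⊥, Ideal.isPrime_bot⟩ : PrimeSpectrum (X.presheaf.stalk ξ)) =
        IsLocalRing.closedPoint (X.presheaf.stalk ξ) :=
      Groth.Agent.DimFunH8.φ_injective X ξ ((hall _).trans (hall _).symm)
    have hg : g ∈ (⊥ : Ideal (X.presheaf.stalk ξ)) := by
      have h3 := congrArg PrimeSpectrum.asIdeal heq
      change (⊥ : Ideal _) = IsLocalRing.maximalIdeal _ at h3
      rw [h3]
      exact hgm
    exact hg0 hg
  have himm : ∀ z : X, genericPoint X ⤳ z → z ⤳ ξ → z = genericPoint X ∨ z = ξ := by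
    intro z hz1 hz2
    by_contra hcon
    push Not at hcon
    have l1 := Groth.Agent.JUC2H8.ρ_lt X ξ ξ z specializes_rfl hz2 hcon.2
    have l2 := Groth.Agent.JUC2H8.ρ_lt X ξ z (genericPoint X) hz2 hz1 (fun h => hcon.1 h.symm)
    rw [Groth.Agent.JUC2H8.ρ_self] at l1
    have h3 : ((Groth.Agent.JUC2H8.ρ X ξ (genericPoint X) : ℕ) : ℕ∞) ≤ 1 := by
      rw [Groth.Agent.JUC2H8.coe_ρ X ξ (genericPoint X) hsp]
      have h4 : (Order.coheight (Groth.Agent.JUC2H8.pr X ξ (genericPoint X) hsp) : WithBot ℕ∞) ≤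
          ringKrullDim (X.presheaf.stalk ξ) := Order.coheight_le_krullDim _
      have h5 := h4.trans hdim1
      exact_mod_cast h5
    have h6 : Groth.Agent.JUC2H8.ρ X ξ (genericPoint X) ≤ 1 := by exact_mod_cast h3
    omega
  have := (hδ (genericPoint X) ξ hsp hne).2 himm
  omega

end Groth.Agent.S6458
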