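import Groth.Statements.S6459
import Groth.Agent.Lib.CodimPt_helper8

set_option autoImplicit false
universe u
open CategoryTheory AlgebraicGeometry
open Cyc

namespace Groth.Agent.S6459

/-- (b) ⇔ (c): let X be integral with generic point η and Z ⊂ X an integral closed subscheme with
generic point ξ. Then Z has codimension 1 in X (the local ring O_{X,ξ} is one-dimensional; Z is a
prime divisor) if and only if dim_δ(Z) = dim_δ(X) − 1. Here a pair (X, δ) with Cyc.IsSetup plays the
role of a scheme locally of finite type over the base (S, δ) (X locally Noetherian with universally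
catenary local rings, δ a dimension function). -/
theorem result (X : Scheme.{u}) [IsIntegral X] (δ : X → ℤ) (hX : Cyc.IsSetup X δ) (ξ : X) : ringKrullDim ↑(X.presheaf.stalk ξ) = 1 ↔ δ ξ = δ (genericPoint X) - 1 := by
  classical
  obtain ⟨-, -, hδ⟩ := hX
  have hδ' : ∀ x y : X, x ⤳ y → x ≠ y → δ y < δ x ∧
      ((∀ z : X, x ⤳ z → z ⤳ y → z = x ∨ z = y) → δ x = δ y + 1) := hδ
  have h : genericPoint X ⤳ ξ := genericPoint_specializes ξ
  have h1 := Groth.Agent.CodimPtH8.le_codimPt δ hδ' (genericPoint X) ξ h
  have h2 := Groth.Agent.CodimPtH8.codimPt_le δ hδ' (genericPoint X) ξ h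
  have hcod : Algz.codimPt (genericPoint X) ξ h = ((δ (genericPoint X) - δ ξ).toNat : ℕ∞) :=
    le_antisymm h2 h1
  have hco : (Order.coheight ξ : ℕ∞) = Algz.codimPt (genericPoint X) ξ h := by
    unfold Algz.codimPt
    letI : OrderTop (Set.Ici ξ) :=
      { top := ⟨genericPoint X, h⟩, le_top := fun a => genericPoint_specializes a.1 }
    have e1 : ((Order.coheight ξ : ℕ∞) : WithBot ℕ∞) = Order.krullDim (Set.Ici ξ) :=
      Order.coheight_eq_krullDim_Ici ξ
    have e2 : ((Order.height (⊤ : Set.Ici ξ) : ℕ∞) : WithBot ℕ∞) = Order.krullDim (Set.Ici ξ) :=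
      Order.height_top_eq_krullDim
    have : Order.coheight ξ = Order.height (⊤ : Set.Ici ξ) := by exact_mod_cast e1.trans e2.symm
    rw [this]
    rfl
  rw [AlgebraicGeometry.ringKrullDim_stalk_eq_coheight, hco, hcod]
  have hge := Groth.Agent.CodimPtH8.le_of_specializes δ hδ' (genericPoint X) ξ h
  constructor
  · intro hh
    have : (δ (genericPoint X) - δ ξ).toNat = 1 := by exact_mod_cast hh
    omega
  · intro hh
    have : (δ (genericPoint X) - δ ξ).toNat = 1 := by omega
    rw [this]
    rfl

end Groth.Agent.S6459
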