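import Groth.Statements.S6460
import Groth.Agent.Lib.LocDim2_helper8
import Groth.Agent.Lib.DimFun_helper8

set_option autoImplicit false
universe u
open CategoryTheory AlgebraicGeometry
open Cyc

namespace Groth.Agent.S6460

/-- (3) ⇒ (1): suppose that for every x ∈ X there is an integer n_x with δ(ξ) = n_x for every generic
point ξ of an irreducible component of X containing x. Then X decomposes into open and closed
subschemes X_n (n ∈ ℤ) such that every irreducible component of X_n has δ-dimension n; stated as the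
existence of a locally constant c : X → ℤ with δ(ξ) = c(ξ) for every point ξ that is maximal under
specialization. (The converse implications are immediate and not stated.) Here a pair (X, δ) with
Cyc.IsSetup plays the role of a scheme locally of finite type over the base (S, δ) (X locally
Noetherian with universally catenary local rings, δ a dimension function). -/
theorem result (X : Scheme.{u}) (δ : X → ℤ) (hX : Cyc.IsSetup X δ) (h3 : ∀ x : X, ∃ n : ℤ, ∀ ξ : X, (∀ ξ' : X, ξ' ⤳ ξ → ξ' = ξ) → ξ ⤳ x → δ ξ = n) : ∃ c : X → ℤ, IsLocallyConstant c ∧ ∀ ξ : X, (∀ ξ' : X, ξ' ⤳ ξ → ξ' = ξ) → δ ξ = c ξ := by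
  classical
  obtain ⟨hN, -, hδ⟩ := hX
  haveI := hN
  have hmax : ∀ y : X, ∃ ξ : X, (∀ ξ' : X, ξ' ⤳ ξ → ξ' = ξ) ∧ ξ ⤳ y := by
    intro y
    obtain ⟨p, hp, -⟩ := Ideal.exists_minimalPrimes_le
      (bot_le : (⊥ : Ideal (X.presheaf.stalk y)) ≤ IsLocalRing.maximalIdeal _)
    haveI : p.IsPrime := hp.1.1
    refine ⟨Groth.Agent.DimFunH8.φ X y ⟨p, inferInstance⟩, ?_,
      Groth.Agent.DimFunH8.φ_specializes X y _⟩
    intro ξ' hξ'
    obtain ⟨Q, rfl⟩ := Groth.Agent.DimFunH8.exists_φ_eq X y ξ'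
      (hξ'.trans (Groth.Agent.DimFunH8.φ_specializes X y _))
    have hQp : Q ≤ ⟨p, inferInstance⟩ := (Groth.Agent.DimFunH8.φ_specializes_iff X y _ _).mp hξ'
    have hpQ : p ≤ Q.asIdeal := hp.2 ⟨Q.2, bot_le⟩ hQp
    have : Q = ⟨p, inferInstance⟩ := PrimeSpectrum.ext (le_antisymm hQp hpQ)
    rw [this]
  choose n hn using h3
  refine ⟨n, ?_, fun ξ hξ => (hn ξ ξ hξ specializes_rfl)⟩
  rw [IsLocallyConstant.iff_exists_open]
  intro x
  obtain ⟨U, hU, hxU, hprop⟩ :=
    Groth.Agent.LocDim2H8.exists_good_nbhd X Set.univ isClosed_univ x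
  refine ⟨U, hU, hxU, fun a ha => ?_⟩
  obtain ⟨η, -, hηx, hηa⟩ := hprop a ⟨ha, trivial⟩
  obtain ⟨ξ, hξmax, hξη⟩ := hmax η
  rw [← hn a ξ hξmax (hξη.trans hηa), ← hn x ξ hξmax (hξη.trans hηx)]

end Groth.Agent.S6460
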