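import Groth.Statements.S6461
import Groth.Agent.Lib.DimFunRho_helper8
import Groth.Agent.Lib.LocDim2_helper8
import Groth.Agent.Lib.CMChain_helper5
import Groth.Agent.Lib.DimFT3_helper8

set_option autoImplicit false
universe u
open CategoryTheory AlgebraicGeometry
open Cyc

namespace Groth.Agent.S6461

/-- If all local rings of X are Cohen–Macaulay then every x ∈ X has an open neighbourhood U and an
integer n with δ(ξ) = n for every generic point ξ of an irreducible component of U (every point of U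
maximal under specialization). Here a pair (X, δ) with Cyc.IsSetup plays the role of a scheme
locally of finite type over the base (S, δ) (X locally Noetherian with universally catenary local
rings, δ a dimension function). -/
theorem result (X : Scheme.{u}) (δ : X → ℤ) (hX : Cyc.IsSetup X δ) (hCM : ∀ x : X, LocCoh.IsCohenMacaulayLocalRing ↑(X.presheaf.stalk x)) (x : X) : ∃ (U : X.Opens) (n : ℤ), x ∈ U ∧ ∀ ξ : X, ξ ∈ U → (∀ ξ' : X, ξ' ⤳ ξ → ξ' = ξ) → δ ξ = n := by
  classical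
  obtain ⟨hN, hUC, hδ⟩ := hX
  haveI := hN
  have hcat : ∀ s : X, CAlg.IsCatenary (X.presheaf.stalk s) := fun s => (hUC s).2 _ inferInstance
  -- maximal generizations of `x` all have the same ρ
  have hρ : ∀ ξ : X, (∀ ξ' : X, ξ' ⤳ ξ → ξ' = ξ) → ∀ hξx : ξ ⤳ x,
      ((Groth.Agent.JUC2H8.ρ X x ξ : ℕ∞) : WithBot ℕ∞) = ringKrullDim (X.presheaf.stalk x) := by
    intro ξ hξ hξx
    haveI := hCM x
    set P := Groth.Agent.JUC2H8.pr X x ξ hξx with hP
    haveI : P.asIdeal.IsPrime := P.2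
    have hmin : P.asIdeal ∈ minimalPrimes (X.presheaf.stalk x) := by
      refine ⟨⟨P.2, bot_le⟩, ?_⟩
      rintro q ⟨hq, -⟩ hqP
      have h1 : (⟨q, hq⟩ : PrimeSpectrum (X.presheaf.stalk x)) ≤ P := hqP
      have h2 : Groth.Agent.DimFunH8.φ X x ⟨q, hq⟩ ⤳ Groth.Agent.DimFunH8.φ X x P :=
        (Groth.Agent.DimFunH8.φ_specializes_iff X x _ _).mpr h1
      rw [hP, Groth.Agent.JUC2H8.φ_pr] at h2
      have h3 := hξ _ h2
      have h4 : (⟨q, hq⟩ : PrimeSpectrum (X.presheaf.stalk x)) = P := by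
        apply Groth.Agent.DimFunH8.φ_injective X x
        rw [h3, hP, Groth.Agent.JUC2H8.φ_pr]
      rw [← h4]
    have hht : P.asIdeal.height = 0 := Ideal.height_eq_zero_iff.mpr hmin
    have hCMmod : LocCoh.IsCohenMacaulayModule (X.presheaf.stalk x) (X.presheaf.stalk x) :=
      LocCoh.IsCohenMacaulayLocalRing.supportDim_eq_depth
    have hsupp : Module.support (X.presheaf.stalk x) (X.presheaf.stalk x) = Set.univ := by
      rw [Module.support_of_algebra]
      ext q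
      simp only [Set.mem_univ, iff_true, PrimeSpectrum.mem_zeroLocus, SetLike.coe_subset_coe]
      intro a ha
      have : a = 0 := by simpa using ha
      rw [this]
      exact q.asIdeal.zero_mem
    have h5 := Groth.Agent.CMChain.height_add_ringKrullDim_quotient (X.presheaf.stalk x)
      (X.presheaf.stalk x) hCMmod hsupp P.asIdeal
    rw [hht] at h5
    rw [← h5, Groth.Agent.DimFT3H8.ringKrullDim_quotient_eq_coheight,
      Groth.Agent.JUC2H8.coe_ρ X x ξ hξx]
    simp only [WithBot.coe_zero, zero_add]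
    rfl
  -- existence of a maximal generization
  have hmax : ∀ y : X, ∃ ξ : X, (∀ ξ' : X, ξ' ⤳ ξ → ξ' = ξ) ∧ ξ ⤳ y := by
    intro y
    obtain ⟨p, hp, -⟩ := Ideal.exists_minimalPrimes_le
      (bot_le : (⊥ : Ideal (X.presheaf.stalk y)) ≤ IsLocalRing.maximalIdeal _)
    haveI : p.IsPrime := hp.1.1
    refine ⟨Groth.Agent.DimFunH8.φ X y ⟨p, inferInstance⟩, ?_,
      Groth.Agent.DimFunH8.φ_specializes X y _⟩
    intro ξ' hξ'
    obtain ⟨Q, rfl⟩ := Groth.Agent.DimFunH8.exists_φ_eq X y ξ'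
      (hξ'.trans (Groth.Agent.DimFunH8.φ_specializes X y _))
    have hQp : Q ≤ ⟨p, inferInstance⟩ := (Groth.Agent.DimFunH8.φ_specializes_iff X y _ _).mp hξ'
    have hpQ : p ≤ Q.asIdeal := hp.2 ⟨Q.2, bot_le⟩ hQp
    have : Q = ⟨p, inferInstance⟩ := PrimeSpectrum.ext (le_antisymm hQp hpQ)
    rw [this]
  obtain ⟨ξ₀, hξ₀max, hξ₀x⟩ := hmax x
  obtain ⟨U, hU, hxU, hprop⟩ :=
    Groth.Agent.LocDim2H8.exists_good_nbhd X Set.univ isClosed_univ x
  refine ⟨⟨U, hU⟩, δ x + Groth.Agent.JUC2H8.ρ X x ξ₀, hxU, fun ξ hξU hξmax => ?_⟩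
  obtain ⟨η, -, hηx, hηξ⟩ := hprop ξ ⟨hξU, trivial⟩
  have hηeq : η = ξ := hξmax η hηξ
  rw [hηeq] at hηx
  have h1 := Groth.Agent.DimFunRhoH8.delta_sub_eq_ρ X δ hδ x (hcat x) ξ hηx
  have h2 : Groth.Agent.JUC2H8.ρ X x ξ = Groth.Agent.JUC2H8.ρ X x ξ₀ := by
    have e1 := hρ ξ hξmax hηx
    have e2 := hρ ξ₀ hξ₀max hξ₀x
    have : ((Groth.Agent.JUC2H8.ρ X x ξ : ℕ∞) : WithBot ℕ∞) =
        ((Groth.Agent.JUC2H8.ρ X x ξ₀ : ℕ∞) : WithBot ℕ∞) := by rw [e1, e2]
    exact_mod_cast this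
  rw [← h2]
  omega

end Groth.Agent.S6461
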