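import Groth.Statements.S6462
import Groth.Agent.Lib.DimFun_helper8
import Groth.Agent.Lib.DimFT3_helper8

set_option autoImplicit false
universe u
open CategoryTheory AlgebraicGeometry
open Cyc

namespace Groth.Agent.S6462

/-- Assume in addition that X is Jacobson and δ(x) = 0 for every closed point x. For a point ξ of X with
closure Z (an integral closed subscheme whose generic point is ξ) one then has δ(ξ) = dim Z = dim
O_{Z,z} for every closed point z of Z; here Z is the closure of ξ and O_{Z,z} = O_{X,z}/𝔭_ξ
(Cyc.LocQuot). (The published statement takes X locally of finite type over a Jacobson base with δ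
zero on the base's closed points; this row assumes instead that X is Jacobson and δ vanishes on the
closed points of X, which follows from the published hypotheses.) Here a pair (X, δ) with
Cyc.IsSetup plays the role of a scheme locally of finite type over the base (S, δ) (X locally
Noetherian with universally catenary local rings, δ a dimension function). -/
theorem result (X : Scheme.{u}) [JacobsonSpace X] (δ : X → ℤ) (hX : Cyc.IsSetup X δ) (h0 : ∀ x : X, IsClosed ({x} : Set X) → δ x = 0) (ξ : X) : (topologicalKrullDim ↥(closure ({ξ} : Set X)) = ((δ ξ).toNat : WithBot ℕ∞) ∧ 0 ≤ δ ξ) ∧ ∀ (z : X) (h : ξ ⤳ z), IsClosed ({z} : Set X) → ringKrullDim (Cyc.LocQuot z ξ h) = ((δ ξ).toNat : WithBot ℕ∞) := by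
  classical
  obtain ⟨-, -, hδ⟩ := hX
  have hmono : StrictMono δ := by
    intro a b hab
    have h1 : b ⤳ a := hab.le
    have h2 : b ≠ a := fun e => hab.ne e.symm
    exact (hδ b a h1 h2).1
  have hnonneg : ∀ x : X, 0 ≤ δ x := by
    intro x
    have hcl : IsClosed (closure ({x} : Set X)) := isClosed_closure
    have hne : (closure ({x} : Set X) ∩ closedPoints X).Nonempty := by
      by_contra hempty
      rw [Set.not_nonempty_iff_eq_empty] at hempty
      have := closure_inter_closedPoints hcl
      rw [hempty, closure_empty] at this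
      exact (Set.nonempty_iff_ne_empty.mp
        (⟨x, subset_closure (Set.mem_singleton x)⟩ : (closure ({x} : Set X)).Nonempty)) this.symm
    obtain ⟨y, hy1, hy2⟩ := hne
    have hxy : x ⤳ y := specializes_iff_mem_closure.mpr hy1
    have hy0 := h0 y (mem_closedPoints_iff.mp hy2)
    by_cases hxy' : x = y
    · rw [hxy', hy0]
    · have := (hδ x y hxy hxy').1
      omega
  -- dimension of the closure is the height
  have hC : topologicalKrullDim ↥(closure ({ξ} : Set X)) = Order.height ξ := by
    have hset : closure ({ξ} : Set X) = Set.Iic ξ := by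
      ext y
      rw [← specializes_iff_mem_closure]
      rfl
    have hclosed : IsClosed (Set.Iic ξ : Set X) := hset ▸ isClosed_closure
    rw [hset]
    have hemb : Topology.IsClosedEmbedding (Subtype.val : Set.Iic ξ → X) :=
      hclosed.isClosedEmbedding_subtypeVal
    haveI : QuasiSober (Set.Iic ξ) := hemb.quasiSober
    have h1 : topologicalKrullDim ↥(Set.Iic ξ) =
        @Order.krullDim (Set.Iic ξ) (specializationPreorder _) := by
      unfold topologicalKrullDim
      exact @Order.krullDim_eq_of_orderIso (TopologicalSpace.IrreducibleCloseds (Set.Iic ξ))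
        (Set.Iic ξ) _ (specializationPreorder _) (irreducibleSetEquivPoints (α := Set.Iic ξ))
    rw [h1, Order.height_eq_krullDim_Iic]
    refine @Order.krullDim_eq_of_orderIso _ _ (specializationPreorder _) _ ?_
    refine @RelIso.mk _ _ (@LE.le _ (specializationPreorder (Set.Iic ξ)).toLE) (· ≤ ·)
      (Equiv.refl _) ?_
    intro a b
    change (b : X) ⤳ (a : X) ↔ b ⤳ a
    exact (subtype_specializes_iff b a).symm
  -- the key computation at a closed point
  have key : ∀ (z : X) (h : ξ ⤳ z), IsClosed ({z} : Set X) →
      (ringKrullDim (Cyc.LocQuot z ξ h) = ((δ ξ).toNat : WithBot ℕ∞)) ∧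
        ((δ ξ).toNat : ℕ∞) ≤ Order.height ξ := by
    intro z h hz
    have hz0 := h0 z hz
    let g : PrimeSpectrum (X.presheaf.stalk z) → ℤ := fun P => - δ (Groth.Agent.DimFunH8.φ X z P)
    have hg : StrictMono g := by
      intro P Q hPQ
      have h1 : Groth.Agent.DimFunH8.φ X z P ⤳ Groth.Agent.DimFunH8.φ X z Q :=
        (Groth.Agent.DimFunH8.φ_specializes_iff X z P Q).mpr hPQ.le
      have h2 : Groth.Agent.DimFunH8.φ X z P ≠ Groth.Agent.DimFunH8.φ X z Q :=
        fun e => hPQ.ne (Groth.Agent.DimFunH8.φ_injective X z e)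
      have := (hδ _ _ h1 h2).1
      change - δ _ < - δ _
      omega
    have hcov : ∀ P Q : PrimeSpectrum (X.presheaf.stalk z), P ⋖ Q → g Q = g P + 1 := by
      intro P Q hPQ
      have h1 : Groth.Agent.DimFunH8.φ X z P ⤳ Groth.Agent.DimFunH8.φ X z Q :=
        (Groth.Agent.DimFunH8.φ_specializes_iff X z P Q).mpr hPQ.le
      have h2 : Groth.Agent.DimFunH8.φ X z P ≠ Groth.Agent.DimFunH8.φ X z Q :=
        fun e => hPQ.lt.ne (Groth.Agent.DimFunH8.φ_injective X z e)
      have h3 := (hδ _ _ h1 h2).2 (by
        intro y hy1 hy2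
        obtain ⟨P', rfl⟩ := Groth.Agent.DimFunH8.exists_φ_eq X z y
          (hy2.trans (Groth.Agent.DimFunH8.φ_specializes X z Q))
        rw [Groth.Agent.DimFunH8.φ_specializes_iff] at hy1 hy2
        rcases hy1.eq_or_lt with e | hlt
        · left; rw [e]
        · right
          rcases hy2.eq_or_lt with e | hlt'
          · rw [e]
          · exact absurd hlt' (hPQ.2 hlt))
      change - δ _ = - δ _ + 1
      omega
    set pξ : PrimeSpectrum (X.presheaf.stalk z) :=
      ⟨RingHom.ker (X.presheaf.stalkSpecializes h ≫ X.residue ξ).hom, RingHom.ker_isPrime _⟩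
      with hpξ
    have hφξ : Groth.Agent.DimFunH8.φ X z pξ = ξ := Groth.Agent.DimFunH8.φ_ker X z ξ h
    have hφz : Groth.Agent.DimFunH8.φ X z (IsLocalRing.closedPoint (X.presheaf.stalk z)) = z :=
      Groth.Agent.DimFunH8.φ_closedPoint X z
    have hle : pξ ≤ IsLocalRing.closedPoint (X.presheaf.stalk z) := by
      rw [← Groth.Agent.DimFunH8.φ_specializes_iff, hφξ, hφz]
      exact h
    obtain ⟨l, hlh, hll, hln⟩ := Groth.Agent.DimFunH8.exists_chain g hg hcov _ pξ
      (IsLocalRing.closedPoint (X.presheaf.stalk z)) hle rfl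
    have hlen : (l.length : ℤ) = δ ξ := by
      rw [hln]
      change - δ _ - - δ _ = _
      rw [hφξ, hφz, hz0]
      ring
    have hlen' : l.length = (δ ξ).toNat := by omega
    constructor
    · -- ring Krull dimension
      have hdimq : ringKrullDim (Cyc.LocQuot z ξ h) =
          ((Order.coheight pξ : ℕ∞) : WithBot ℕ∞) :=
        Groth.Agent.DimFT3H8.ringKrullDim_quotient_eq_coheight
          (RingHom.ker (X.presheaf.stalkSpecializes h ≫ X.residue ξ).hom)
          (hp := RingHom.ker_isPrime _)
      rw [hdimq]
      congr 1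
      apply le_antisymm
      · rw [Order.coheight_le_iff']
        intro l' hl'
        have h1 := Groth.Agent.DimFunH8.add_length_le g hg l'
        rw [hl'] at h1
        have h2 : g l'.last ≤ 0 := by
          change - δ _ ≤ 0
          have := hnonneg (Groth.Agent.DimFunH8.φ X z l'.last)
          omega
        have h3 : g pξ = - δ ξ := by
          change - δ _ = _
          rw [hφξ]
        have h4 : (l'.length : ℤ) ≤ δ ξ := by omega
        have h5 : l'.length ≤ (δ ξ).toNat := by omega
        exact_mod_cast h5
      · rw [← hlen', ← hlh]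
        exact Order.length_le_coheight_head
    · -- height in X
      let ψ : PrimeSpectrum (X.presheaf.stalk z) → Xᵒᵈ :=
        fun P => OrderDual.toDual (Groth.Agent.DimFunH8.φ X z P)
      have hψ : StrictMono ψ := by
        intro P Q hPQ
        change Groth.Agent.DimFunH8.φ X z Q < Groth.Agent.DimFunH8.φ X z P
        rw [lt_iff_le_not_ge]
        refine ⟨(Groth.Agent.DimFunH8.φ_specializes_iff X z P Q).mpr hPQ.le, ?_⟩
        intro hge
        have hge' : Groth.Agent.DimFunH8.φ X z Q ⤳ Groth.Agent.DimFunH8.φ X z P := hge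
        rw [Groth.Agent.DimFunH8.φ_specializes_iff] at hge'
        exact hPQ.not_ge hge'
      have h1 := Order.length_le_coheight_head (p := l.map ψ hψ)
      rw [LTSeries.head_map, hlh] at h1
      change ((l.map ψ hψ).length : ℕ∞) ≤ Order.coheight (OrderDual.toDual
        (Groth.Agent.DimFunH8.φ X z pξ)) at h1
      rw [Order.coheight_toDual, hφξ, LTSeries.map_length, hlen'] at h1
      exact h1
  -- upper bound for the height
  have hup : Order.height ξ ≤ ((δ ξ).toNat : ℕ∞) := by
    rw [Order.height_le_iff']
    intro l hl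
    have h1 := Groth.Agent.DimFunH8.add_length_le δ hmono l
    rw [hl] at h1
    have h2 := hnonneg l.head
    have h5 : l.length ≤ (δ ξ).toNat := by omega
    exact_mod_cast h5
  -- a closed point in the closure
  obtain ⟨z, hz1, hz2⟩ : ∃ z : X, ξ ⤳ z ∧ IsClosed ({z} : Set X) := by
    have hcl : IsClosed (closure ({ξ} : Set X)) := isClosed_closure
    have hne : (closure ({ξ} : Set X) ∩ closedPoints X).Nonempty := by
      by_contra hempty
      rw [Set.not_nonempty_iff_eq_empty] at hempty
      have := closure_inter_closedPoints hcl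
      rw [hempty, closure_empty] at this
      exact (Set.nonempty_iff_ne_empty.mp
        (⟨ξ, subset_closure (Set.mem_singleton ξ)⟩ : (closure ({ξ} : Set X)).Nonempty)) this.symm
    obtain ⟨y, hy1, hy2⟩ := hne
    exact ⟨y, specializes_iff_mem_closure.mpr hy1, mem_closedPoints_iff.mp hy2⟩
  refine ⟨⟨?_, hnonneg ξ⟩, fun z h hz => (key z h hz).1⟩
  rw [hC]
  congr 1
  exact le_antisymm hup (key z hz1 hz2).2

end Groth.Agent.S6462
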