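import Groth.Statements.S6463
import Groth.Agent.Lib.CurvStH0_helper2

set_option autoImplicit false
universe u
open CategoryTheory CategoryTheory.Limits AlgebraicGeometry
open PicF

namespace Groth.Agent.S6463

/-- For a field k and a smooth projective curve X over k that has a k-rational point σ, the conditions
under which the Picard functor is computed through the section are met: f : X → Spec k is flat,
proper and of finite presentation with a section, and O_T → f_{T,*} O_{X_T} is an isomorphism for
every scheme T over k. Only the last assertion is stated (the others are part of the hypotheses or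
immediate): for every t : T → Spec k, the sheaf map of the base change X ×_k T → T is an
isomorphism. Proper replaces projective (they agree for curves over a field). -/
theorem result (k : Type u) [Field k] (X : Scheme.{u}) (f : X ⟶ Spec (CommRingCat.of k)) (hX : Curve.IsSmoothProperCurve k X f) (σ : Spec (CommRingCat.of k) ⟶ X) (hσ : σ ≫ f = 𝟙 (Spec (CommRingCat.of k))) (T : Scheme.{u}) (t : T ⟶ Spec (CommRingCat.of k)) : IsIso (pullback.snd f t).c := by
  obtain ⟨hpr, hsm, hint, -⟩ := hX
  haveI := hpr
  haveI := hsm
  haveI := hint
  -- the functions on `X` are the constants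
  have hfield : IsField Γ(X, ⊤) := isField_of_universallyClosed k f
  have hcomp : ∀ c : Γ(Spec (CommRingCat.of k), ⊤), σ.appTop.hom (f.appTop.hom c) = c := by
    intro c
    have h1 : (σ ≫ f).appTop = f.appTop ≫ σ.appTop := Scheme.Hom.comp_appTop σ f
    have h2 : (σ ≫ f).appTop.hom c = c := by
      rw [hσ]
      simp
    rw [h1] at h2
    exact h2
  haveI : Nontrivial Γ(Spec (CommRingCat.of k), ⊤) :=
    (Scheme.ΓSpecIso (CommRingCat.of k)).commRingCatIsoToRingEquiv.symm.injective.nontrivial
  have hσinj : Function.Injective σ.appTop.hom := by
    rw [injective_iff_map_eq_zero]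
    intro a h0
    by_contra ha
    obtain ⟨b, hb⟩ := hfield.mul_inv_cancel ha
    have h1 := congrArg σ.appTop.hom hb
    rw [map_mul, h0, zero_mul, map_one] at h1
    exact zero_ne_one h1
  have hbij : Function.Bijective f.appTop.hom := by
    constructor
    · intro c c' hcc'
      rw [← hcomp c, ← hcomp c', hcc']
    · intro y
      exact ⟨σ.appTop.hom y, hσinj (hcomp _)⟩
  have hiso : IsIso f.appTop := (ConcreteCategory.isIso_iff_bijective _).mpr hbij
  -- the same on the fibre
  have h : ∀ s : ↥(Spec (CommRingCat.of k)), IsIso (f.fiberToSpecResidueField s).appTop := by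
    intro s
    letI : Algebra k ((Spec (CommRingCat.of k)).residueField s) :=
      (Spec.preimage ((Spec (CommRingCat.of k)).fromSpecResidueField s)).hom.toAlgebra
    have hg : Spec.map (CommRingCat.ofHom
        (algebraMap k ((Spec (CommRingCat.of k)).residueField s))) =
        (Spec (CommRingCat.of k)).fromSpecResidueField s :=
      Spec.map_preimage _
    haveI : LocallyOfFiniteType (Over.mk f).hom := by
      show LocallyOfFiniteType f
      infer_instance
    haveI : QuasiCompact (Over.mk f).hom := by
      show QuasiCompact f
      infer_instance
    have key := (Groth.Agent.Lib.AAKunneth.aa_bc_iff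
      ((Spec (CommRingCat.of k)).residueField s) (Over.mk f)).mp hiso
    have key' : IsIso (pullback.snd f (Spec.map (CommRingCat.ofHom
        (algebraMap k ((Spec (CommRingCat.of k)).residueField s))))).appTop := key
    rw [hg] at key'
    exact key'
  have happ : ∀ V : T.Opens, IsIso ((pullback.snd f t).app V) := fun V =>
    Groth.Agent.Lib.CBCH2.isIso_app_of_fibres (pullback.snd f t)
      (fun s' => Groth.Agent.Lib.CBCH2.isIso_appTop_fibre_baseChange f t h s') V
  haveI : ∀ U : (TopologicalSpace.Opens T)ᵒᵖ, IsIso ((pullback.snd f t).c.app U) := fun U =>
    happ U.unop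
  exact NatIso.isIso_of_isIso_app _

end Groth.Agent.S6463
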