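import Groth.Statements.S6481
import Groth.Agent.Lib.GlueHt3_helper1

set_option autoImplicit false
universe u
open CycAlg

namespace Groth.Agent.S6481

/-- Let (A, 𝔪) be a 2-dimensional Noetherian local ring, t ∈ 𝔪 a nonzerodivisor with V(t) = {𝔪, 𝔮_1, …,
𝔮_r}, and A_{𝔮_i} ⊂ B_i finite ring extensions with B_i/A_{𝔮_i} annihilated by a power of t and with
t a nonzerodivisor on each B_i. Then A admits some finite extension A ⊂ B whose quotient B/A is
killed by some power of t, such that for every i the localization B_{𝔮_i} = B ⊗_A A_{𝔮_i} is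
isomorphic to B_i (existence of an A_{𝔮_i}-algebra isomorphism; B itself is only asserted to exist).
(The published statement allows any finite ring extensions A_{𝔮_i} ⊂ B_i; this row asks t to be a
nonzerodivisor on each B_i, the case its proof treats, where B_i sits inside t^{-n}A_{𝔮_i}. The
published statement also makes B local with the same residue field as A; this row omits that
clause.) Finite extension with quotient killed by a power of t: CycAlg.IsFinExt with the ideal (t). -/
theorem result (A : Type u) [CommRing A] [IsNoetherianRing A] [IsLocalRing A] (hA : ringKrullDim A = 2) (t : A) (ht : t ∈ IsLocalRing.maximalIdeal A) (htnz : t ∈ nonZeroDivisors A) (r : ℕ) (q : Fin r → Ideal A) (hq : ∀ i, (q i).IsPrime) (hinj : Function.Injective q) (hqm : ∀ i, q i ≠ IsLocalRing.maximalIdeal A) (htq : ∀ i, t ∈ q i) (hV : ∀ p : Ideal A, p.IsPrime → t ∈ p → p = IsLocalRing.maximalIdeal A ∨ ∃ i, p = q i) (B : Fin r → Type u) [∀ i, CommRing (B i)] [∀ i, Algebra (Localization.AtPrime (q i)) (B i)] (hB : ∀ i, CycAlg.IsFinExt (Localization.AtPrime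 (q i)) (B i) (Ideal.span {algebraMap A (Localization.AtPrime (q i)) t})) (htB : ∀ i, IsSMulRegular (B i) (algebraMap A (Localization.AtPrime (q i)) t)) : ∃ (C : Type u) (_ : CommRing C) (_ : Algebra A C), CycAlg.IsFinExt A C (Ideal.span {t}) ∧ ∀ i, Nonempty (TensorProduct A (Localization.AtPrime (q i)) C ≃ₐ[Localization.AtPrime (q i)] B i) := by
  classical
  letI algAB : ∀ i, Algebra A (B i) := fun i =>
    ((algebraMap (Localization.AtPrime (q i)) (B i)).comp
      (algebraMap A (Localization.AtPrime (q i)))).toAlgebra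
  haveI tw : ∀ i, IsScalarTower A (Localization.AtPrime (q i)) (B i) := fun i =>
    IsScalarTower.of_algebraMap_eq (fun _ => rfl)
  have hBinj : ∀ i, Function.Injective (algebraMap (Localization.AtPrime (q i)) (B i)) :=
    fun i => (hB i).1
  have hn : ∀ i, ∃ n : ℕ, ∀ x ∈ Ideal.span {algebraMap A (Localization.AtPrime (q i)) t} ^ n,
      ∀ b : B i, x • b ∈ (algebraMap (Localization.AtPrime (q i)) (B i)).range :=
    fun i => (hB i).2.2
  choose nn hnn using hn
  obtain ⟨n, hndef⟩ : ∃ n : ℕ, n = Finset.univ.sup nn := ⟨_, rfl⟩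
  have hle : ∀ i, nn i ≤ n := fun i => hndef ▸ Finset.le_sup (Finset.mem_univ i)
  have hBn : ∀ i (b : B i), ∃ d : Localization.AtPrime (q i),
      algebraMap _ (B i) d = t ^ n • b := by
    intro i b
    have hmem : algebraMap A (Localization.AtPrime (q i)) (t ^ n) ∈
        Ideal.span {algebraMap A (Localization.AtPrime (q i)) t} ^ (nn i) := by
      rw [map_pow]
      exact Ideal.pow_le_pow_right (hle i)
        (Ideal.pow_mem_pow (Ideal.mem_span_singleton_self _) n)
    obtain ⟨d, hd⟩ := hnn i _ hmem b
    exact ⟨d, by rw [hd, algebraMap_smul]⟩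
  have hreg : ∀ i (b : B i), t • b = 0 → b = 0 := by
    intro i b hb
    apply htB i
    change algebraMap A (Localization.AtPrime (q i)) t • b =
      algebraMap A (Localization.AtPrime (q i)) t • (0 : B i)
    rw [smul_zero, algebraMap_smul]
    exact hb
  exact Groth.Agent.Lib.GlueHtH1.main6481 (hq := hq) A hA t htnz r q hinj hqm htq hV B hBinj n hBn hreg

end Groth.Agent.S6481
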