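import Groth.Statements.S6482
import Mathlib

set_option autoImplicit false
universe u
open CategoryTheory AlgebraicGeometry
open CategoryTheory.Limits
open Cyc

namespace Groth.Agent.S6482

/-- Let f : Y → X be an envelope. Then f_* : Z_k(Y) → Z_k(X) is surjective, hence so is f_* : CH_k(Y) →
CH_k(X). An envelope is a proper, completely decomposed morphism (every point of the target has a
point over it with trivial residue field extension; this prelude's Cyc.IsCompletelyDecomposed). Here
a pair (X, δ) with Cyc.IsSetup plays the role of a scheme locally of finite type over the base (S,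
δ) (X locally Noetherian with universally catenary local rings, δ a dimension function), and
Cyc.DeltaCompat records that the dimension function upstairs is the induced one. -/
theorem result (X Y : Scheme.{u}) (δ : X → ℤ) (δY : Y → ℤ) (hX : Cyc.IsSetup X δ) (hY : Cyc.IsSetup Y δY) (f : Y ⟶ X) [IsProper f] (hcd : Cyc.IsCompletelyDecomposed f) (hδ : Cyc.DeltaCompat f δY δ) (k : ℤ) (α : AlgebraicCycle X ℤ) (hα : α ∈ Cyc.Zk X δ k) : ∃ β : AlgebraicCycle Y ℤ, β ∈ Cyc.Zk Y δY k ∧ AlgebraicCycle.map f δY δ β = α := by
  classical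
  choose σ hσ1 hσ2 using hcd
  -- trivial residue field extension at the chosen points
  have htr : ∀ x : X, δY (σ x) = δ x := by
    intro x
    obtain ⟨n, hn, hδn⟩ := hδ (σ x)
    letI := (f.residueFieldMap (σ x)).hom.toAlgebra
    have hsurj : Function.Surjective (algebraMap (X.residueField (f (σ x))) (Y.residueField (σ x))) :=
      hσ2 x
    haveI : Algebra.IsIntegral (X.residueField (f (σ x))) (Y.residueField (σ x)) :=
      Algebra.isIntegral_of_surjective hsurj
    have h0 : Algebra.trdeg (X.residueField (f (σ x))) (Y.residueField (σ x)) = 0 :=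
      _root_.trdeg_eq_zero
    have hn0 : n = 0 := by
      have : ((n : ℕ) : Cardinal) = ((0 : ℕ) : Cardinal) := by
        rw [← hn, h0]
        simp
      exact_mod_cast this
    rw [hδn, hn0, hσ1 x]
    simp
  have hdeg : ∀ x : X, f.residueDegree (σ x) = 1 := by
    intro x
    letI := (f.residueFieldMap (σ x)).hom.toAlgebra
    have hsurj : Function.Surjective (algebraMap (X.residueField (f (σ x))) (Y.residueField (σ x))) :=
      hσ2 x
    change Module.finrank (X.residueField (f (σ x))) (Y.residueField (σ x)) = 1
    rw [finrank_eq_one_iff_of_nonzero' (1 : Y.residueField (σ x)) one_ne_zero]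
    intro w
    obtain ⟨c, hc⟩ := hsurj w
    exact ⟨c, by rw [Algebra.smul_def, mul_one, hc]⟩
  let βf : Y → ℤ := fun y => if y = σ (f y) then α (f y) else 0
  have hβsupp : ∀ y : Y, βf y ≠ 0 → y = σ (f y) ∧ α (f y) ≠ 0 := by
    intro y hy
    by_cases h : y = σ (f y)
    · refine ⟨h, ?_⟩
      change (if y = σ (f y) then α (f y) else 0) ≠ 0 at hy
      rwa [if_pos h] at hy
    · exfalso
      apply hy
      change (if y = σ (f y) then α (f y) else 0) = 0
      rw [if_neg h]
  have hβσ : ∀ x : X, βf (σ x) = α x := by
    intro x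
    change (if σ x = σ (f (σ x)) then α (f (σ x)) else 0) = α x
    rw [hσ1 x, if_pos rfl]
  let β : AlgebraicCycle Y ℤ :=
    { toFun := βf
      supportWithinDomain' := by simp
      supportLocallyFiniteWithinDomain' := by
        intro y _
        obtain ⟨t, ht, hfin⟩ := α.supportLocallyFiniteWithinDomain' (f y) trivial
        refine ⟨f ⁻¹' t, f.continuous.continuousAt.preimage_mem_nhds ht, ?_⟩
        refine (hfin.image σ).subset ?_
        rintro y' ⟨hy't, hy's⟩
        obtain ⟨h1, h2⟩ := hβsupp y' hy's
        exact ⟨f y', ⟨hy't, h2⟩, h1.symm⟩ }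
  refine ⟨β, ?_, ?_⟩
  · intro y hy
    by_contra hne
    obtain ⟨h1, h2⟩ := hβsupp y hne
    have h3 : δ (f y) = k := by
      by_contra h4
      exact h2 (hα (f y) h4)
    apply hy
    rw [h1, htr (f y), h3]
  · ext x
    change ∑ᶠ y ∈ f ⁻¹' {x}, β y * ((AlgebraicCycle.mapCoeff f δY δ y : ℕ) : ℤ) = α x
    have hsupp : f ⁻¹' {x} ∩ Function.support
          (fun y => β y * ((AlgebraicCycle.mapCoeff f δY δ y : ℕ) : ℤ)) =
        {σ x} ∩ Function.support
          (fun y => β y * ((AlgebraicCycle.mapCoeff f δY δ y : ℕ) : ℤ)) := by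
      ext y
      constructor
      · rintro ⟨hy1, hy2⟩
        refine ⟨?_, hy2⟩
        have hβy : βf y ≠ 0 := by
          intro h0
          apply hy2
          change βf y * _ = 0
          rw [h0, zero_mul]
        have h1 := (hβsupp y hβy).1
        rw [Set.mem_preimage, Set.mem_singleton_iff] at hy1
        rw [Set.mem_singleton_iff, h1, hy1]
      · rintro ⟨hy1, hy2⟩
        refine ⟨?_, hy2⟩
        rw [Set.mem_singleton_iff] at hy1
        rw [hy1, Set.mem_preimage, Set.mem_singleton_iff, hσ1 x]
    rw [finsum_mem_inter_support_eq _ _ _ hsupp, finsum_mem_singleton]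
    change βf (σ x) * ((AlgebraicCycle.mapCoeff f δY δ (σ x) : ℕ) : ℤ) = α x
    have hcoef : AlgebraicCycle.mapCoeff f δY δ (σ x) = 1 := by
      unfold AlgebraicCycle.mapCoeff
      have : δY (σ x) = δ (f.base (σ x)) := by
        rw [htr x]
        exact congrArg δ (hσ1 x).symm
      rw [if_pos this, hdeg x]
    rw [hcoef, hβσ x]
    simp

end Groth.Agent.S6482
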