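import Groth.Statements.S6484
import Groth.Agent.Lib.CDecomp_helper8

set_option autoImplicit false
universe u
open CategoryTheory AlgebraicGeometry
open CategoryTheory.Limits
open Cyc

namespace Groth.Agent.S6484

/-- If f : Y → X is completely decomposed (this prelude's Cyc.IsCompletelyDecomposed: over every point
of X lies a point of Y with trivial residue field extension) and g : X' → X is any morphism of
schemes, then the base change Y ×_X X' → X' is completely decomposed. Consequently the base change
of an envelope (a proper completely decomposed morphism) is an envelope, properness being preserved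
by base change. (The published envelope statement takes X′ → X between schemes locally of finite
type over a base; this row allows any g.) -/
theorem result (X X' Y : Scheme.{u}) (f : Y ⟶ X) (g : X' ⟶ X) (hcd : Cyc.IsCompletelyDecomposed f) : Cyc.IsCompletelyDecomposed (pullback.snd f g) := by
  classical
  intro x'
  obtain ⟨y, hy, hsurj⟩ := hcd (g x')
  -- the inverse of the residue field isomorphism at `y`
  have hbij : Function.Bijective (f.residueFieldMap y).hom :=
    ⟨(f.residueFieldMap y).hom.injective, hsurj⟩
  let e : X.residueField (f y) ≃+* Y.residueField y := RingEquiv.ofBijective _ hbij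
  let θ : Y.residueField y ⟶ X'.residueField x' :=
    CommRingCat.ofHom (e.symm : Y.residueField y →+* X.residueField (f y)) ≫
      (X.residueFieldCongr hy).hom ≫ g.residueFieldMap x'
  have hθ : f.residueFieldMap y ≫ θ = (X.residueFieldCongr hy).hom ≫ g.residueFieldMap x' := by
    have h1 : f.residueFieldMap y ≫
        CommRingCat.ofHom (e.symm : Y.residueField y →+* X.residueField (f y)) = 𝟙 _ := by
      ext a
      exact e.symm_apply_apply a
    change f.residueFieldMap y ≫ (CommRingCat.ofHom _ ≫ _) = _
    rw [← Category.assoc, h1, Category.id_comp]
  let b : Spec (X'.residueField x') ⟶ Y := Spec.map θ ≫ Y.fromSpecResidueField y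
  let a : Spec (X'.residueField x') ⟶ X' := X'.fromSpecResidueField x'
  have hba : b ≫ f = a ≫ g := by
    change (Spec.map θ ≫ Y.fromSpecResidueField y) ≫ f = X'.fromSpecResidueField x' ≫ g
    rw [Category.assoc, ← Scheme.Hom.SpecMap_residueFieldMap_fromSpecResidueField,
      ← Spec.map_comp_assoc, hθ, Spec.map_comp_assoc,
      Scheme.residueFieldCongr_fromSpecResidueField,
      Scheme.Hom.SpecMap_residueFieldMap_fromSpecResidueField]
  let t : Spec (X'.residueField x') ⟶ pullback f g := pullback.lift b a hba
  have hts : t ≫ pullback.snd f g = a := pullback.lift_snd _ _ _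
  let pt : Spec (X'.residueField x') := IsLocalRing.closedPoint (X'.residueField x')
  refine ⟨t pt, ?_, ?_⟩
  · have h1 : (t ≫ pullback.snd f g) pt = x' := by
      rw [hts]
      exact Scheme.fromSpecResidueField_apply _ _
    exact h1
  · have hh : t ≫ pullback.snd f g =
        Spec.map (𝟙 (X'.residueField x')) ≫ X'.fromSpecResidueField x' := by
      rw [hts, Spec.map_id, Category.id_comp]
    exact Groth.Agent.CDecompH8.surj_of_lift (K := X'.residueField x') (pullback.snd f g) t x'
      (𝟙 (X'.residueField x')) (fun w => ⟨w, rfl⟩) hh

end Groth.Agent.S6484
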