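import Groth.Statements.S6500
import Mathlib
import Groth.Agent.S1535
import Groth.Agent.Lib.GlDim_helper5
import Groth.Agent.Lib.StalkDim_helper7
import Groth.Agent.Lib.TorShift2_helper5

set_option autoImplicit false
universe u
open CategoryTheory CategoryTheory.Limits AlgebraicGeometry
attribute [local instance] HasDerivedCategory.standard
open IntMult

namespace Groth.Agent.S6500

/-- Let X be a nonsingular variety of dimension n and F, G coherent O_X-modules. The Tor sheaves
Tor_p^{O_X}(F, G), whose stalks are Tor_p^{O_{X,x}}(F_x, G_x), are nonzero only for p ∈ {0, …, n}: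
for every point x and every p > n, Tor_p^{O_{X,x}}(F_x, G_x) = 0. (Coherence of the Tor sheaves and
the support statement are not restated.) Nonsingular variety: X → Spec K smooth, separated,
quasi-compact, X integral, K algebraically closed; n = dim X. -/
theorem result (K : Type u) [Field K] [IsAlgClosed K] (X : Scheme.{u}) (f : X ⟶ Spec (CommRingCat.of K)) [Smooth f] [IsSeparated f] [QuasiCompact f] [IsIntegral X] (n : ℕ) (hn : topologicalKrullDim X = n) (F G : X.Modules) (hF : Coh.IsCoh F) (hG : Coh.IsCoh G) (x : X) (p : ℕ) (hp : n < p) : Subsingleton (DRing.Tor ↑(X.presheaf.stalk x) p ↑(F.presheaf.stalk x) ↑(G.presheaf.stalk x)) := by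
  letI : X.Over (Spec (CommRingCat.of K)) := ⟨f⟩
  haveI : Smooth (X ↘ (Spec (CommRingCat.of K))) := ‹Smooth f›
  haveI hreg : IsRegularLocalRing (X.presheaf.stalk x) := Groth.Agent.S1535.result K X x
  obtain ⟨d, hd⟩ := Groth.Agent.GlDim.exists_dim (X.presheaf.stalk x)
  have hle := Groth.Agent.Lib.StalkDimH7.ringKrullDim_stalk_le_topologicalKrullDim X x
  rw [hd, hn] at hle
  have hdn : d ≤ n := by exact_mod_cast hle
  haveI := Groth.Agent.GlDim.hasProjectiveDimensionLT_of_regular (X.presheaf.stalk x) d hd
    (G.presheaf.stalk x)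
  have hz := Groth.Agent.TorShift2.isZero_tor_of_projDim
    (ModuleCat.of (X.presheaf.stalk x) (F.presheaf.stalk x)) d
    (ModuleCat.of (X.presheaf.stalk x) (G.presheaf.stalk x)) p (by omega)
  exact ModuleCat.subsingleton_of_isZero hz

end Groth.Agent.S6500
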