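import Groth.Statements.S6554
import Mathlib
import Groth.Agent.Lib.GenEtale_helper6
import Groth.Agent.Lib.FlatUnramPt_helper4
-- import your own Groth.Agent.* helpers here

set_option autoImplicit false
universe u
open CategoryTheory CategoryTheory.Limits AlgebraicGeometry
open Curves

namespace Groth.Agent.S6554

/-- (3) ⇔ (4) ⇔ (5): let k be a field and f : X → Y a morphism over k of smooth curves over k (integral,
separated, of finite type and smooth over k, of dimension one) which is nonconstant: f(ξ_X) = ξ_Y
for the generic points ξ_X of X and ξ_Y of Y (hypothesis e), so that the function field k(Y) maps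
into k(X). Then: some nonempty open U ⊆ X has f|_U unramified if and only if some nonempty open U ⊆
X has f|_U étale; and the latter holds if and only if k(X)/k(Y) is a finite separable extension.
(The published statement also lists two further equivalent conditions, that df : f^*Ω_{Y/k} →
Ω_{X/k} is nonzero and that Ω_{X/Y} is supported on a proper closed subset; this row omits them. For
a constant f every condition stated here fails, so assuming f nonconstant loses nothing.) -/
theorem result (k : Type u) [Field k]
    (X Y : Scheme.{u}) [X.Over (Spec (CommRingCat.of k))] [Y.Over (Spec (CommRingCat.of k))]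
    [IsIntegral X] [IsSeparated (X ↘ (Spec (CommRingCat.of k)))] [LocallyOfFiniteType (X ↘ (Spec (CommRingCat.of k)))] [QuasiCompact (X ↘ (Spec (CommRingCat.of k)))] (hdX : topologicalKrullDim X = 1) [Smooth (X ↘ (Spec (CommRingCat.of k)))]
    [IsIntegral Y] [IsSeparated (Y ↘ (Spec (CommRingCat.of k)))] [LocallyOfFiniteType (Y ↘ (Spec (CommRingCat.of k)))] [QuasiCompact (Y ↘ (Spec (CommRingCat.of k)))] (hdY : topologicalKrullDim Y = 1) [Smooth (Y ↘ (Spec (CommRingCat.of k)))]
    (f : X ⟶ Y) (hf : f ≫ (Y ↘ (Spec (CommRingCat.of k))) = X ↘ (Spec (CommRingCat.of k))) (e : f (genericPoint X) = genericPoint Y) :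
    letI := ((Y.presheaf.stalkSpecializes (specializes_of_eq e) ≫ f.stalkMap (genericPoint X)).hom).toAlgebra
    ((∃ U : X.Opens, (U : Set X).Nonempty ∧ FormallyUnramified (U.ι ≫ f)) ↔
      (∃ U : X.Opens, (U : Set X).Nonempty ∧ Etale (U.ι ≫ f))) ∧
    ((∃ U : X.Opens, (U : Set X).Nonempty ∧ Etale (U.ι ≫ f)) ↔
      (FiniteDimensional Y.functionField X.functionField ∧ Algebra.IsSeparable Y.functionField X.functionField)) := by

  classical
  letI algKK : Algebra Y.functionField X.functionField :=
    ((Y.presheaf.stalkSpecializes (specializes_of_eq e) ≫ f.stalkMap (genericPoint X)).hom).toAlgebra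
  haveI : LocallyOfFiniteType (f ≫ (Y ↘ Spec (CommRingCat.of k))) := hf ▸ inferInstance
  haveI : LocallyOfFiniteType f := locallyOfFiniteType_of_comp f (Y ↘ Spec (CommRingCat.of k))
  haveI : IsLocallyNoetherian Y :=
    LocallyOfFiniteType.isLocallyNoetherian (Y ↘ Spec (CommRingCat.of k))
  haveI : LocallyOfFinitePresentation f := inferInstance
  haveI hsIso : IsIso (Y.presheaf.stalkSpecializes (specializes_of_eq e)) :=
    Groth.Agent.Lib.GenEtaleH6.isIso_stalkSpecializes_of_eq e
  -- essentially of finite type
  have hψeft : (f.stalkMap (genericPoint X)).hom.EssFiniteType :=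
    LocallyOfFiniteType.stalkMap f (genericPoint X)
  haveI hφeft : Algebra.EssFiniteType Y.functionField X.functionField :=
    (RingHom.EssFiniteType.respectsIso.cancel_left_isIso
      (Y.presheaf.stalkSpecializes (specializes_of_eq e)) (f.stalkMap (genericPoint X))).2 hψeft
  -- step 1: generically unramified implies finite separable
  have h1 : (∃ U : X.Opens, (U : Set X).Nonempty ∧ FormallyUnramified (U.ι ≫ f)) →
      (FiniteDimensional Y.functionField X.functionField ∧
        Algebra.IsSeparable Y.functionField X.functionField) := by
    rintro ⟨U, hUne, hUun⟩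
    haveI := hUun
    have hξU : genericPoint X ∈ U :=
      ((genericPoint_spec X).mem_open_set_iff U.2).2 (by simpa using hUne)
    have hψun : (f.stalkMap (genericPoint X)).hom.FormallyUnramified :=
      Groth.Agent.Lib.FlatUnramPtH4.formallyUnramified_stalkMap_of_comp U.ι f
        (⟨genericPoint X, hξU⟩ : U.toScheme) (genericPoint X) rfl
        (FormallyUnramified.stalkMap (U.ι ≫ f) _)
    haveI hφun : Algebra.FormallyUnramified Y.functionField X.functionField :=
      (RingHom.FormallyUnramified.respectsIso.cancel_left_isIso
        (Y.presheaf.stalkSpecializes (specializes_of_eq e)) (f.stalkMap (genericPoint X))).2 hψun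
    exact ⟨Algebra.FormallyUnramified.finite_of_free Y.functionField X.functionField,
      Algebra.FormallyUnramified.isSeparable Y.functionField X.functionField⟩
  -- step 2: finite separable implies generically etale
  have h2 : (FiniteDimensional Y.functionField X.functionField ∧
        Algebra.IsSeparable Y.functionField X.functionField) →
      ∃ U : X.Opens, (U : Set X).Nonempty ∧ Etale (U.ι ≫ f) := by
    rintro ⟨_, hsep⟩
    haveI := hsep
    haveI hφet : Algebra.FormallyEtale Y.functionField X.functionField :=
      Algebra.FormallyEtale.of_isSeparable Y.functionField X.functionField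
    have hφsm : Algebra.FormallySmooth Y.functionField X.functionField := inferInstance
    have hφun : Algebra.FormallyUnramified Y.functionField X.functionField := inferInstance
    have hψsm : (f.stalkMap (genericPoint X)).hom.FormallySmooth :=
      (RingHom.FormallySmooth.respectsIso.cancel_left_isIso
        (Y.presheaf.stalkSpecializes (specializes_of_eq e)) (f.stalkMap (genericPoint X))).1 hφsm
    have hψun : (f.stalkMap (genericPoint X)).hom.FormallyUnramified :=
      (RingHom.FormallyUnramified.respectsIso.cancel_left_isIso
        (Y.presheaf.stalkSpecializes (specializes_of_eq e)) (f.stalkMap (genericPoint X))).1 hφun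
    obtain ⟨V, hξV, hV⟩ := Groth.Agent.Lib.GenEtaleH6.exists_etale_nhd_of_genericPoint f hψsm hψun
    exact ⟨V, ⟨genericPoint X, hξV⟩, hV⟩
  -- step 3: etale implies unramified
  have h3 : (∃ U : X.Opens, (U : Set X).Nonempty ∧ Etale (U.ι ≫ f)) →
      ∃ U : X.Opens, (U : Set X).Nonempty ∧ FormallyUnramified (U.ι ≫ f) := by
    rintro ⟨U, hUne, hUet⟩
    haveI := hUet
    exact ⟨U, hUne, inferInstance⟩
  exact ⟨⟨fun h => h2 (h1 h), h3⟩, ⟨fun h => h1 (h3 h), h2⟩⟩

end Groth.Agent.S6554
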