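import Groth.Statements.S6564

set_option autoImplicit false
universe u
open CategoryTheory CategoryTheory.Limits AlgebraicGeometry
open Curves

namespace Groth.Agent.S6564

/-- Let X be proper over the field k of dimension at most 1. If X has a g^r_d (an invertible module L of
degree d with an ordered family of r + 1 global sections linearly independent over k), then X has a
g^s_d for every 0 ≤ s ≤ r. -/
theorem result (k : Type u) [Field k] (X : Scheme.{u}) [X.Over (Spec (CommRingCat.of k))] [IsProper (X ↘ (Spec (CommRingCat.of k)))] (hdim : topologicalKrullDim X ≤ 1)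
    (d r : ℕ) (L : X.Modules) (σ : Fin (r + 1) → LinSer.Sect X L) (hL : LinSer.IsLinSer k X L d r σ)
    (s : ℕ) (hs : s ≤ r) :
    ∃ (L' : X.Modules) (τ : Fin (s + 1) → LinSer.Sect X L'), LinSer.IsLinSer k X L' d s τ := by
  obtain ⟨hinv, hdeg, hli⟩ := hL
  have hsr : s + 1 ≤ r + 1 := by omega
  refine ⟨L, fun i => σ (Fin.castLE hsr i), hinv, hdeg, ?_⟩
  intro c hc
  -- extend `c` by zero
  let c' : Fin (r + 1) → k := fun j => if h : j.val < s + 1 then c ⟨j.val, h⟩ else 0
  have hc' : c' = 0 := by
    apply hli c'
    rw [← hc]
    have h1 : ∑ i : Fin (s + 1), (Coh.toGlobal (X ↘ Spec (CommRingCat.of k)) (c i)) • σ (Fin.castLE hsr i) =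
        ∑ j ∈ (Finset.univ : Finset (Fin (s + 1))).map (Fin.castLEEmb hsr),
          (Coh.toGlobal (X ↘ Spec (CommRingCat.of k)) (c' j)) • σ j := by
      rw [Finset.sum_map]
      apply Finset.sum_congr rfl
      intro i _
      have : c' (Fin.castLEEmb hsr i) = c i := by
        simp only [c', Fin.castLEEmb_apply, Fin.val_castLE]
        rw [dif_pos i.isLt]
      rw [this]
      rfl
    rw [h1]
    symm
    apply Finset.sum_subset (Finset.subset_univ _)
    intro j _ hj
    have : c' j = 0 := by
      simp only [c']
      split_ifs with h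
      · exfalso
        apply hj
        rw [Finset.mem_map]
        exact ⟨⟨j.val, h⟩, Finset.mem_univ _, by ext; rfl⟩
      · rfl
    rw [this, map_zero, zero_smul]
  funext i
  have := congrFun hc' (Fin.castLE hsr i)
  simp only [c', Pi.zero_apply] at this
  rw [dif_pos (by simp only [Fin.val_castLE]; exact i.isLt)] at this
  simpa using this

end Groth.Agent.S6564
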