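import Groth.Statements.S6580
import Mathlib.Tactic.NoncommRing

set_option autoImplicit false
universe v u
open CategoryTheory CategoryTheory.Limits
open CohDer

namespace Groth.Agent.S6580

/-- Polynomial identity used for refining an "almost idempotent" into an idempotent. -/
lemma ring_identity {R : Type*} [Ring R] (x : R) :
    (x - (2 * x - 1) * (x * x - x)) * (x - (2 * x - 1) * (x * x - x)) - (x - (2 * x - 1) * (x * x - x)) =
      (4 * x * x - 4 * x - 3) * ((x * x - x) * (x * x - x)) := by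
  noncomm_ring

lemma ring_comm {R : Type*} [Ring R] (x : R) :
    (2 * x - 1) * (x * x - x) = (x * x - x) * (2 * x - 1) := by
  noncomm_ring

open CategoryTheory.Pretriangulated in
/-- Let (X, Y, Z, f, g, h) be a distinguished triangle of a pretriangulated category, and let a : X ⟶ X
and c : Z ⟶ Z be idempotents with h ≫ a⟦1⟧ = c ≫ h. Then there is an idempotent b : Y ⟶ Y such that
(a, b, c) is an endomorphism of the triangle. -/
theorem result {D : Type u} [Category.{v} D] [Preadditive D] [HasZeroObject D] [HasShift D ℤ]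
    [∀ n : ℤ, (shiftFunctor D n).Additive] [Pretriangulated D]
    (T : Triangle D) (hT : T ∈ distinguishedTriangles) (a : T.obj₁ ⟶ T.obj₁) (c : T.obj₃ ⟶ T.obj₃)
    (ha : a ≫ a = a) (hc : c ≫ c = c) (comm : T.mor₃ ≫ (shiftFunctor D (1 : ℤ)).map a = c ≫ T.mor₃) :
    ∃ b : T.obj₂ ⟶ T.obj₂, b ≫ b = b ∧ T.mor₁ ≫ b = a ≫ T.mor₁ ∧ T.mor₂ ≫ c = b ≫ T.mor₂ := by
  obtain ⟨b', hb₁, hb₂⟩ := complete_distinguished_triangle_morphism₂ T T hT hT a c comm
  -- d = b'^2 - b'
  set d : T.obj₂ ⟶ T.obj₂ := b' ≫ b' - b' with hd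
  have hfd : T.mor₁ ≫ d = 0 := by
    rw [hd, Preadditive.comp_sub, ← Category.assoc, hb₁, Category.assoc, hb₁, ← Category.assoc, ha,
      sub_self]
  have hdg : d ≫ T.mor₂ = 0 := by
    rw [hd, Preadditive.sub_comp, Category.assoc, ← hb₂, ← Category.assoc, ← hb₂, Category.assoc, hc,
      sub_self]
  have hdd : d ≫ d = 0 := by
    obtain ⟨e, he⟩ := Triangle.yoneda_exact₂ T hT d hfd
    calc d ≫ d = d ≫ T.mor₂ ≫ e := by rw [← he]
      _ = 0 := by rw [← Category.assoc, hdg, zero_comp]
  -- the endomorphism ring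
  let x : End T.obj₂ := b'
  let dE : End T.obj₂ := d
  have hx : x * x - x = dE := rfl
  have key := ring_identity x
  have hdd' : (x * x - x) * (x * x - x) = 0 := by
    rw [hx, End.mul_def]; exact hdd
  rw [hdd', mul_zero, sub_eq_zero] at key
  refine ⟨x - (2 * x - 1) * (x * x - x), ?_, ?_, ?_⟩
  · rw [End.mul_def] at key
    exact key
  · rw [hx]
    have : x - (2 * x - 1) * dE = b' - d ≫ (2 * x - 1) := rfl
    rw [this, Preadditive.comp_sub, ← Category.assoc, hfd, zero_comp, sub_zero, hb₁]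
  · rw [ring_comm x, hx]
    have : x - dE * (2 * x - 1) = b' - (2 * x - 1) ≫ d := rfl
    rw [this, Preadditive.sub_comp, Category.assoc, hdg, comp_zero, sub_zero, hb₂]

end Groth.Agent.S6580
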