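import Groth.Statements.S6581
import Groth.Agent.S6593

set_option autoImplicit false
universe v u
open CategoryTheory CategoryTheory.Limits
open CohDer

namespace Groth.Agent.S6581

section
variable {D : Type u} [Category.{v} D] [Preadditive D]

/-- The coproduct of a family indexed by `WalkingPair` is the biproduct of its two members. -/
noncomputable def sigmaIsoBiprod (W : WalkingPair → D) [HasCoproduct W]
    [HasBinaryBiproduct (W .left) (W .right)] : ∐ W ≅ W .left ⊞ W .right where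
  hom := Sigma.desc (fun j => match j with
    | .left => biprod.inl
    | .right => biprod.inr)
  inv := biprod.desc (Sigma.ι W .left) (Sigma.ι W .right)
  hom_inv_id := by
    apply Sigma.hom_ext
    rintro (_ | _)
    · rw [Sigma.ι_desc_assoc, biprod.inl_desc, Category.comp_id]
    · rw [Sigma.ι_desc_assoc, biprod.inr_desc, Category.comp_id]
  inv_hom_id := by
    apply biprod.hom_ext'
    · rw [biprod.inl_desc_assoc, Sigma.ι_desc, Category.comp_id]
    · rw [biprod.inr_desc_assoc, Sigma.ι_desc, Category.comp_id]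

lemma ι_left_sigmaIsoBiprod (W : WalkingPair → D) [HasCoproduct W]
    [HasBinaryBiproduct (W .left) (W .right)] :
    Sigma.ι W .left ≫ (sigmaIsoBiprod W).hom = biprod.inl := by
  simp [sigmaIsoBiprod]

lemma ι_right_sigmaIsoBiprod (W : WalkingPair → D) [HasCoproduct W]
    [HasBinaryBiproduct (W .left) (W .right)] :
    Sigma.ι W .right ≫ (sigmaIsoBiprod W).hom = biprod.inr := by
  simp [sigmaIsoBiprod]

end

open CategoryTheory.Pretriangulated in
/-- The direct sum of two distinguished triangles is distinguished (family version). -/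
lemma biprod_distinguished_fam {D : Type u} [Category.{v} D] [Preadditive D] [HasZeroObject D] [HasShift D ℤ]
    [∀ n : ℤ, (shiftFunctor D n).Additive] [Pretriangulated D]
    (fam : WalkingPair → Triangle D) (hfam : ∀ j, fam j ∈ distinguishedTriangles) :
    Triangle.mk (biprod.map (fam .left).mor₁ (fam .right).mor₁)
        (biprod.map (fam .left).mor₂ (fam .right).mor₂)
        (biprod.desc ((fam .left).mor₃ ≫ (shiftFunctor D (1 : ℤ)).map biprod.inl)
          ((fam .right).mor₃ ≫ (shiftFunctor D (1 : ℤ)).map biprod.inr)) ∈ distinguishedTriangles := by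
  have key := Groth.Agent.S6593.result fam hfam
  refine isomorphic_distinguished _ key _ (Iso.symm ?_)
  have h₁ : Limits.Sigma.map (fun j => (fam j).mor₁) ≫ (sigmaIsoBiprod (fun j => (fam j).obj₂)).hom =
      (sigmaIsoBiprod (fun j => (fam j).obj₁)).hom ≫ biprod.map (fam .left).mor₁ (fam .right).mor₁ := by
    apply Sigma.hom_ext
    rintro (_ | _)
    · rw [Sigma.ι_map_assoc, ι_left_sigmaIsoBiprod, reassoc_of% (ι_left_sigmaIsoBiprod (fun j => (fam j).obj₁))]
      exact (biprod.inl_map _ _).symm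
    · rw [Sigma.ι_map_assoc, ι_right_sigmaIsoBiprod, reassoc_of% (ι_right_sigmaIsoBiprod (fun j => (fam j).obj₁))]
      exact (biprod.inr_map _ _).symm
  have h₂ : Limits.Sigma.map (fun j => (fam j).mor₂) ≫ (sigmaIsoBiprod (fun j => (fam j).obj₃)).hom =
      (sigmaIsoBiprod (fun j => (fam j).obj₂)).hom ≫ biprod.map (fam .left).mor₂ (fam .right).mor₂ := by
    apply Sigma.hom_ext
    rintro (_ | _)
    · rw [Sigma.ι_map_assoc, ι_left_sigmaIsoBiprod, reassoc_of% (ι_left_sigmaIsoBiprod (fun j => (fam j).obj₂))]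
      exact (biprod.inl_map _ _).symm
    · rw [Sigma.ι_map_assoc, ι_right_sigmaIsoBiprod, reassoc_of% (ι_right_sigmaIsoBiprod (fun j => (fam j).obj₂))]
      exact (biprod.inr_map _ _).symm
  have h₃ : Sigma.desc (fun j => (fam j).mor₃ ≫ (shiftFunctor D (1 : ℤ)).map (Sigma.ι (fun j => (fam j).obj₁) j)) ≫
      (shiftFunctor D (1 : ℤ)).map (sigmaIsoBiprod (fun j => (fam j).obj₁)).hom =
      (sigmaIsoBiprod (fun j => (fam j).obj₃)).hom ≫
        biprod.desc ((fam .left).mor₃ ≫ (shiftFunctor D (1 : ℤ)).map biprod.inl)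
          ((fam .right).mor₃ ≫ (shiftFunctor D (1 : ℤ)).map biprod.inr) := by
    apply Sigma.hom_ext
    rintro (_ | _)
    · rw [Sigma.ι_desc_assoc, reassoc_of% (ι_left_sigmaIsoBiprod (fun j => (fam j).obj₃)),
        Category.assoc, ← Functor.map_comp, ι_left_sigmaIsoBiprod]
      exact (biprod.inl_desc _ _).symm
    · rw [Sigma.ι_desc_assoc, reassoc_of% (ι_right_sigmaIsoBiprod (fun j => (fam j).obj₃)),
        Category.assoc, ← Functor.map_comp, ι_right_sigmaIsoBiprod]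
      exact (biprod.inr_desc _ _).symm
  exact Triangle.isoMk _ _ (sigmaIsoBiprod (fun j => (fam j).obj₁))
    (sigmaIsoBiprod (fun j => (fam j).obj₂)) (sigmaIsoBiprod (fun j => (fam j).obj₃)) h₁ h₂ h₃

open CategoryTheory.Pretriangulated in
/-- The direct sum of two distinguished triangles is distinguished. -/
lemma biprod_distinguished {D : Type u} [Category.{v} D] [Preadditive D] [HasZeroObject D] [HasShift D ℤ]
    [∀ n : ℤ, (shiftFunctor D n).Additive] [Pretriangulated D]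
    (T T' : Triangle D) (hT : T ∈ distinguishedTriangles) (hT' : T' ∈ distinguishedTriangles) :
    Triangle.mk (biprod.map T.mor₁ T'.mor₁) (biprod.map T.mor₂ T'.mor₂)
        (biprod.desc (T.mor₃ ≫ (shiftFunctor D (1 : ℤ)).map biprod.inl)
          (T'.mor₃ ≫ (shiftFunctor D (1 : ℤ)).map biprod.inr)) ∈ distinguishedTriangles := by
  let fam : WalkingPair → Triangle D := fun j => match j with
    | .left => T
    | .right => T'
  have hfam : ∀ j, fam j ∈ distinguishedTriangles := by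
    rintro (_ | _)
    · exact hT
    · exact hT'
  exact biprod_distinguished_fam fam hfam

section
variable {D : Type u} [Category.{v} D] [Preadditive D] [HasBinaryBiproducts D]

lemma isIso_left_of_isIso_biprod_map {X Y X' Y' : D} (a : X ⟶ Y) (a' : X' ⟶ Y')
    [IsIso (biprod.map a a')] : IsIso a := by
  refine ⟨biprod.inl ≫ inv (biprod.map a a') ≫ biprod.fst, ?_, ?_⟩
  · rw [← Category.assoc, ← biprod.inl_map (g := a'), Category.assoc, IsIso.hom_inv_id_assoc,
      biprod.inl_fst]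
  · rw [Category.assoc, Category.assoc, ← biprod.map_fst (g := a'), IsIso.inv_hom_id_assoc,
      biprod.inl_fst]

lemma isIso_right_of_isIso_biprod_map {X Y X' Y' : D} (a : X ⟶ Y) (a' : X' ⟶ Y')
    [IsIso (biprod.map a a')] : IsIso a' := by
  refine ⟨biprod.inr ≫ inv (biprod.map a a') ≫ biprod.snd, ?_, ?_⟩
  · rw [← Category.assoc, ← biprod.inr_map (f := a), Category.assoc, IsIso.hom_inv_id_assoc,
      biprod.inr_snd]
  · rw [Category.assoc, Category.assoc, ← biprod.map_snd (f := a), IsIso.inv_hom_id_assoc,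
      biprod.inr_snd]

end

section
open CategoryTheory.Pretriangulated
variable {D : Type u} [Category.{v} D] [Preadditive D] [HasZeroObject D] [HasShift D ℤ]
    [∀ n : ℤ, (shiftFunctor D n).Additive] [Pretriangulated D]

lemma exists_third_left (T T' : Triangle D)
    (hB : Triangle.mk (biprod.map T.mor₁ T'.mor₁) (biprod.map T.mor₂ T'.mor₂)
        (biprod.desc (T.mor₃ ≫ (shiftFunctor D (1 : ℤ)).map biprod.inl)
          (T'.mor₃ ≫ (shiftFunctor D (1 : ℤ)).map biprod.inr)) ∈ distinguishedTriangles) :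
    ∃ (Z₁ : D) (g₁ : T.obj₂ ⟶ Z₁) (h₁ : Z₁ ⟶ (shiftFunctor D (1 : ℤ)).obj T.obj₁) (a : Z₁ ⟶ T.obj₃),
      Triangle.mk T.mor₁ g₁ h₁ ∈ distinguishedTriangles ∧ g₁ ≫ a = T.mor₂ ∧ a ≫ T.mor₃ = h₁ := by
  obtain ⟨Z₁, g₁, h₁, hQ⟩ := distinguished_cocone_triangle T.mor₁
  obtain ⟨c₁, hc₁, hc₂⟩ : ∃ c₁ : Z₁ ⟶ T.obj₃ ⊞ T'.obj₃,
      g₁ ≫ c₁ = biprod.inl ≫ biprod.map T.mor₂ T'.mor₂ ∧
      h₁ ≫ (shiftFunctor D (1 : ℤ)).map biprod.inl = c₁ ≫
        biprod.desc (T.mor₃ ≫ (shiftFunctor D (1 : ℤ)).map biprod.inl)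
          (T'.mor₃ ≫ (shiftFunctor D (1 : ℤ)).map biprod.inr) :=
    complete_distinguished_triangle_morphism _ _ hQ hB
      (biprod.inl : T.obj₁ ⟶ T.obj₁ ⊞ T'.obj₁) (biprod.inl : T.obj₂ ⟶ T.obj₂ ⊞ T'.obj₂)
      (biprod.inl_map _ _).symm
  refine ⟨Z₁, g₁, h₁, c₁ ≫ biprod.fst, hQ, ?_, ?_⟩
  · rw [← Category.assoc, hc₁, Category.assoc, biprod.map_fst, biprod.inl_fst_assoc]
  · have h3 : biprod.desc (T.mor₃ ≫ (shiftFunctor D (1 : ℤ)).map biprod.inl)
          (T'.mor₃ ≫ (shiftFunctor D (1 : ℤ)).map biprod.inr) ≫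
          (shiftFunctor D (1 : ℤ)).map (biprod.fst : T.obj₁ ⊞ T'.obj₁ ⟶ T.obj₁) =
        biprod.fst ≫ T.mor₃ := by
      apply biprod.hom_ext'
      · rw [biprod.inl_desc_assoc, Category.assoc, ← Functor.map_comp, biprod.inl_fst,
          CategoryTheory.Functor.map_id, Category.comp_id, biprod.inl_fst_assoc]
      · rw [biprod.inr_desc_assoc, Category.assoc, ← Functor.map_comp, biprod.inr_fst,
          Functor.map_zero, comp_zero, biprod.inr_fst_assoc, zero_comp]
    rw [Category.assoc, ← h3, ← Category.assoc, ← hc₂, Category.assoc, ← Functor.map_comp,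
      biprod.inl_fst, CategoryTheory.Functor.map_id, Category.comp_id]

lemma exists_third_right (T T' : Triangle D)
    (hB : Triangle.mk (biprod.map T.mor₁ T'.mor₁) (biprod.map T.mor₂ T'.mor₂)
        (biprod.desc (T.mor₃ ≫ (shiftFunctor D (1 : ℤ)).map biprod.inl)
          (T'.mor₃ ≫ (shiftFunctor D (1 : ℤ)).map biprod.inr)) ∈ distinguishedTriangles) :
    ∃ (Z₂ : D) (g₂ : T'.obj₂ ⟶ Z₂) (h₂ : Z₂ ⟶ (shiftFunctor D (1 : ℤ)).obj T'.obj₁) (a' : Z₂ ⟶ T'.obj₃),
      Triangle.mk T'.mor₁ g₂ h₂ ∈ distinguishedTriangles ∧ g₂ ≫ a' = T'.mor₂ ∧ a' ≫ T'.mor₃ = h₂ := by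
  obtain ⟨Z₂, g₂, h₂, hQ⟩ := distinguished_cocone_triangle T'.mor₁
  obtain ⟨c₂, hc₁, hc₂⟩ : ∃ c₂ : Z₂ ⟶ T.obj₃ ⊞ T'.obj₃,
      g₂ ≫ c₂ = biprod.inr ≫ biprod.map T.mor₂ T'.mor₂ ∧
      h₂ ≫ (shiftFunctor D (1 : ℤ)).map biprod.inr = c₂ ≫
        biprod.desc (T.mor₃ ≫ (shiftFunctor D (1 : ℤ)).map biprod.inl)
          (T'.mor₃ ≫ (shiftFunctor D (1 : ℤ)).map biprod.inr) :=
    complete_distinguished_triangle_morphism _ _ hQ hB
      (biprod.inr : T'.obj₁ ⟶ T.obj₁ ⊞ T'.obj₁) (biprod.inr : T'.obj₂ ⟶ T.obj₂ ⊞ T'.obj₂)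
      (biprod.inr_map _ _).symm
  refine ⟨Z₂, g₂, h₂, c₂ ≫ biprod.snd, hQ, ?_, ?_⟩
  · rw [← Category.assoc, hc₁, Category.assoc, biprod.map_snd, biprod.inr_snd_assoc]
  · have h3 : biprod.desc (T.mor₃ ≫ (shiftFunctor D (1 : ℤ)).map biprod.inl)
          (T'.mor₃ ≫ (shiftFunctor D (1 : ℤ)).map biprod.inr) ≫
          (shiftFunctor D (1 : ℤ)).map (biprod.snd : T.obj₁ ⊞ T'.obj₁ ⟶ T'.obj₁) =
        biprod.snd ≫ T'.mor₃ := by
      apply biprod.hom_ext'
      · rw [biprod.inl_desc_assoc, Category.assoc, ← Functor.map_comp, biprod.inl_snd,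
          Functor.map_zero, comp_zero, biprod.inl_snd_assoc, zero_comp]
      · rw [biprod.inr_desc_assoc, Category.assoc, ← Functor.map_comp, biprod.inr_snd,
          CategoryTheory.Functor.map_id, Category.comp_id, biprod.inr_snd_assoc]
    rw [Category.assoc, ← h3, ← Category.assoc, ← hc₂, Category.assoc, ← Functor.map_comp,
      biprod.inr_snd, CategoryTheory.Functor.map_id, Category.comp_id]

lemma distinguished_of_biprod (T T' : Triangle D)
    (hB : Triangle.mk (biprod.map T.mor₁ T'.mor₁) (biprod.map T.mor₂ T'.mor₂)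
        (biprod.desc (T.mor₃ ≫ (shiftFunctor D (1 : ℤ)).map biprod.inl)
          (T'.mor₃ ≫ (shiftFunctor D (1 : ℤ)).map biprod.inr)) ∈ distinguishedTriangles) :
    T ∈ distinguishedTriangles ∧ T' ∈ distinguishedTriangles := by
  obtain ⟨Z₁, g₁, h₁, a, hQ, ha₁, ha₂⟩ := exists_third_left T T' hB
  obtain ⟨Z₂, g₂, h₂, a', hQ', ha'₁, ha'₂⟩ := exists_third_right T T' hB
  have hQQ := biprod_distinguished _ _ hQ hQ'
  let ψ : Triangle.mk (biprod.map T.mor₁ T'.mor₁) (biprod.map g₁ g₂)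
        (biprod.desc (h₁ ≫ (shiftFunctor D (1 : ℤ)).map biprod.inl)
          (h₂ ≫ (shiftFunctor D (1 : ℤ)).map biprod.inr)) ⟶
      Triangle.mk (biprod.map T.mor₁ T'.mor₁) (biprod.map T.mor₂ T'.mor₂)
        (biprod.desc (T.mor₃ ≫ (shiftFunctor D (1 : ℤ)).map biprod.inl)
          (T'.mor₃ ≫ (shiftFunctor D (1 : ℤ)).map biprod.inr)) :=
    { hom₁ := 𝟙 (T.obj₁ ⊞ T'.obj₁)
      hom₂ := 𝟙 (T.obj₂ ⊞ T'.obj₂)
      hom₃ := biprod.map a a'
      comm₁ := by
        show biprod.map T.mor₁ T'.mor₁ ≫ 𝟙 _ = 𝟙 _ ≫ biprod.map T.mor₁ T'.mor₁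
        rw [Category.comp_id, Category.id_comp]
      comm₂ := by
        show biprod.map g₁ g₂ ≫ biprod.map a a' = 𝟙 _ ≫ biprod.map T.mor₂ T'.mor₂
        rw [Category.id_comp]
        apply biprod.hom_ext'
        · rw [biprod.inl_map_assoc, biprod.inl_map, biprod.inl_map, ← Category.assoc, ha₁]
        · rw [biprod.inr_map_assoc, biprod.inr_map, biprod.inr_map, ← Category.assoc, ha'₁]
      comm₃ := by
        show biprod.desc (h₁ ≫ (shiftFunctor D (1 : ℤ)).map biprod.inl)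
          (h₂ ≫ (shiftFunctor D (1 : ℤ)).map biprod.inr) ≫ (shiftFunctor D (1 : ℤ)).map (𝟙 _) =
          biprod.map a a' ≫ biprod.desc (T.mor₃ ≫ (shiftFunctor D (1 : ℤ)).map biprod.inl)
          (T'.mor₃ ≫ (shiftFunctor D (1 : ℤ)).map biprod.inr)
        rw [CategoryTheory.Functor.map_id, Category.comp_id]
        apply biprod.hom_ext'
        · rw [biprod.inl_desc, biprod.inl_map_assoc, biprod.inl_desc, ← Category.assoc, ha₂]
        · rw [biprod.inr_desc, biprod.inr_map_assoc, biprod.inr_desc, ← Category.assoc, ha'₂] }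
  have i₁ : IsIso ψ.hom₁ := by
    show IsIso (𝟙 (T.obj₁ ⊞ T'.obj₁)); infer_instance
  have i₂ : IsIso ψ.hom₂ := by
    show IsIso (𝟙 (T.obj₂ ⊞ T'.obj₂)); infer_instance
  have i₃ : IsIso (biprod.map a a') := isIso₃_of_isIso₁₂ ψ hQQ hB i₁ i₂
  have ia : IsIso a := isIso_left_of_isIso_biprod_map a a'
  have ia' : IsIso a' := isIso_right_of_isIso_biprod_map a a'
  constructor
  · refine isomorphic_distinguished _ hQ _ (Iso.symm ?_)
    exact Triangle.isoMk (Triangle.mk T.mor₁ g₁ h₁) T (Iso.refl T.obj₁) (Iso.refl T.obj₂)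
      (@asIso _ _ _ _ a ia)
      (by show T.mor₁ ≫ 𝟙 T.obj₂ = 𝟙 T.obj₁ ≫ T.mor₁; rw [Category.comp_id, Category.id_comp])
      (by show g₁ ≫ a = 𝟙 T.obj₂ ≫ T.mor₂; rw [Category.id_comp, ha₁])
      (by
        show h₁ ≫ (shiftFunctor D (1 : ℤ)).map (𝟙 T.obj₁) = a ≫ T.mor₃
        rw [CategoryTheory.Functor.map_id, Category.comp_id, ha₂])
  · refine isomorphic_distinguished _ hQ' _ (Iso.symm ?_)
    exact Triangle.isoMk (Triangle.mk T'.mor₁ g₂ h₂) T' (Iso.refl T'.obj₁) (Iso.refl T'.obj₂)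
      (@asIso _ _ _ _ a' ia')
      (by show T'.mor₁ ≫ 𝟙 T'.obj₂ = 𝟙 T'.obj₁ ≫ T'.mor₁; rw [Category.comp_id, Category.id_comp])
      (by show g₂ ≫ a' = 𝟙 T'.obj₂ ≫ T'.mor₂; rw [Category.id_comp, ha'₁])
      (by
        show h₂ ≫ (shiftFunctor D (1 : ℤ)).map (𝟙 T'.obj₁) = a' ≫ T'.mor₃
        rw [CategoryTheory.Functor.map_id, Category.comp_id, ha'₂])

end

open CategoryTheory.Pretriangulated in
/-- Let T = (X, Y, Z, f, g, h) and T' = (X', Y', Z', f', g', h') be triangles in a pretriangulated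
category. The direct sum triangle (X ⊞ X', Y ⊞ Y', Z ⊞ Z', f ⊕ f', g ⊕ g', h ⊕ h') (whose third map
Z ⊞ Z' ⟶ (X ⊞ X')⟦1⟧ has components h ≫ inl⟦1⟧ and h' ≫ inr⟦1⟧) is distinguished if and only if T
and T' are both distinguished. -/
theorem result {D : Type u} [Category.{v} D] [Preadditive D] [HasZeroObject D] [HasShift D ℤ]
    [∀ n : ℤ, (shiftFunctor D n).Additive] [Pretriangulated D]
    (T T' : Triangle D) :
    Triangle.mk (biprod.map T.mor₁ T'.mor₁) (biprod.map T.mor₂ T'.mor₂)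
        (biprod.desc (T.mor₃ ≫ (shiftFunctor D (1 : ℤ)).map biprod.inl) (T'.mor₃ ≫ (shiftFunctor D (1 : ℤ)).map biprod.inr)) ∈ distinguishedTriangles ↔
      (T ∈ distinguishedTriangles ∧ T' ∈ distinguishedTriangles) := by
  constructor
  · intro h
    exact distinguished_of_biprod T T' h
  · rintro ⟨h, h'⟩
    exact biprod_distinguished T T' h h'

end Groth.Agent.S6581
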