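import Groth.Statements.S6582

set_option autoImplicit false
universe v u v' u'
open CategoryTheory CategoryTheory.Limits
open CohDer ZeroObject

namespace Groth.Agent.S6582

lemma isZero_of_retract_of_isZero {C : Type*} [Category C] [HasZeroMorphisms C] {X Y : C}
    (i : X ⟶ Y) (r : Y ⟶ X) (h : i ≫ r = 𝟙 X) (hY : IsZero Y) : IsZero X := by
  rw [IsZero.iff_id_eq_zero, ← h, hY.eq_of_tgt i 0, zero_comp]

open CategoryTheory.Pretriangulated in
/-- Let F : D ⥤ D' be an exact functor of pretriangulated categories. The full subcategory of D on the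
objects X with F(X) ≅ 0 is a strictly full pretriangulated subcategory (it contains a zero object,
is stable under shifts and isomorphisms and is closed under extensions) and it is saturated:
whenever X ⊞ Y belongs to it, so do X and Y. -/
theorem result {D : Type u} [Category.{v} D] [Preadditive D] [HasZeroObject D] [HasShift D ℤ]
    [∀ n : ℤ, (shiftFunctor D n).Additive] [Pretriangulated D]
    {D' : Type u'} [Category.{v'} D'] [Preadditive D'] [HasZeroObject D'] [HasShift D' ℤ]
    [∀ n : ℤ, (shiftFunctor D' n).Additive] [Pretriangulated D']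
    (F : D ⥤ D') [F.Additive] [F.CommShift ℤ] [F.IsTriangulated] :
    (ObjectProperty.IsTriangulated (fun X : D => IsZero (F.obj X))) ∧
    (ObjectProperty.IsClosedUnderIsomorphisms (fun X : D => IsZero (F.obj X))) ∧
    (∀ X Y : D, IsZero (F.obj (X ⊞ Y)) → IsZero (F.obj X) ∧ IsZero (F.obj Y)) := by
  have hiso : ObjectProperty.IsClosedUnderIsomorphisms (fun X : D => IsZero (F.obj X)) :=
    ⟨fun e h => h.of_iso (F.mapIso e).symm⟩
  refine ⟨?_, hiso, ?_⟩
  · have h0 : ObjectProperty.ContainsZero (fun X : D => IsZero (F.obj X)) :=
      ⟨⟨0, isZero_zero D, F.map_isZero (isZero_zero D)⟩⟩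
    have hs : ObjectProperty.IsStableUnderShift (fun X : D => IsZero (F.obj X)) ℤ :=
      { isStableUnderShiftBy := fun n =>
          { le_shift := fun X (hX : IsZero (F.obj X)) => by
              show IsZero (F.obj ((shiftFunctor D n).obj X))
              exact ((shiftFunctor D' n).map_isZero hX).of_iso ((F.commShiftIso n).app X) } }
    have h2 : ObjectProperty.IsTriangulatedClosed₂ (fun X : D => IsZero (F.obj X)) :=
      ObjectProperty.IsTriangulatedClosed₂.mk' (fun T hT h₁ h₃ =>
        Triangle.isZero₂_of_isZero₁₃ _ (F.map_distinguished T hT) h₁ h₃)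
    exact { toContainsZero := h0, toIsStableUnderShift := hs, toIsTriangulatedClosed₂ := h2 }
  · intro X Y h
    constructor
    · exact isZero_of_retract_of_isZero (F.map biprod.inl) (F.map biprod.fst)
        (by rw [← F.map_comp, biprod.inl_fst, F.map_id]) h
    · exact isZero_of_retract_of_isZero (F.map biprod.inr) (F.map biprod.snd)
        (by rw [← F.map_comp, biprod.inr_snd, F.map_id]) h

end Groth.Agent.S6582
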