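import Groth.Statements.S6594

set_option autoImplicit false
universe v u
open CategoryTheory CategoryTheory.Limits
open CohDer

namespace Groth.Agent.S6594

section
variable {D : Type u} [Category.{v} D] [Preadditive D] [HasBinaryBiproducts D]

/-- A morphism of the form `K ⊞ Z → Z → Z ⊞ Q` (up to isomorphism) has a kernel. -/
lemma hasKernel_of_split_form {X Y K Z Q : D} (f : X ⟶ Y) (e₁ : X ≅ K ⊞ Z) (e₂ : Y ≅ Z ⊞ Q)
    (hf : f = e₁.hom ≫ biprod.snd ≫ biprod.inl ≫ e₂.inv) : HasKernel f := by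
  have hι : (biprod.inl ≫ e₁.inv : K ⟶ X) ≫ f = 0 := by
    rw [hf, Category.assoc, e₁.inv_hom_id_assoc, biprod.inl_snd_assoc, zero_comp]
  have hm : Mono (biprod.inl ≫ e₂.inv : Z ⟶ Y) := mono_comp _ _
  have key : ∀ {W : D} (g : W ⟶ X), g ≫ f = 0 → g ≫ e₁.hom ≫ biprod.snd = 0 := by
    intro W g hg
    rw [← cancel_mono (biprod.inl ≫ e₂.inv : Z ⟶ Y), zero_comp, Category.assoc, Category.assoc,
      ← hf, hg]
  have key2 : ∀ {W : D} (g : W ⟶ X), g ≫ f = 0 →
      (g ≫ e₁.hom ≫ biprod.fst) ≫ biprod.inl ≫ e₁.inv = g := by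
    intro W g hg
    have h1 := key g hg
    have h2 : g ≫ e₁.hom = (g ≫ e₁.hom ≫ biprod.fst) ≫ biprod.inl := by
      apply biprod.hom_ext
      · simp
      · simp [h1]
    rw [← Category.assoc, ← h2, Category.assoc, e₁.hom_inv_id, Category.comp_id]
  refine ⟨⟨⟨KernelFork.ofι (biprod.inl ≫ e₁.inv : K ⟶ X) hι, ?_⟩⟩⟩
  refine KernelFork.IsLimit.ofι _ _ (fun {W} g _ => g ≫ e₁.hom ≫ biprod.fst) ?_ ?_
  · intro W g hg
    exact key2 g hg
  · intro W g hg b hb
    have : Mono (biprod.inl ≫ e₁.inv : K ⟶ X) := mono_comp _ _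
    rw [← cancel_mono (biprod.inl ≫ e₁.inv : K ⟶ X), hb]
    exact (key2 g hg).symm

end

open CategoryTheory.Pretriangulated in
/-- (1) ⇔ (3): let D be a pretriangulated category and f : X ⟶ Y a morphism. Then f has a kernel if and
only if f is isomorphic to a composite K ⊞ Z → Z → Z ⊞ Q of a projection and a coprojection for some
objects K, Z, Q. -/
theorem result {D : Type u} [Category.{v} D] [Preadditive D] [HasZeroObject D] [HasShift D ℤ]
    [∀ n : ℤ, (shiftFunctor D n).Additive] [Pretriangulated D]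
    {X Y : D} (f : X ⟶ Y) :
    HasKernel f ↔ ∃ (K Z Q : D) (e₁ : X ≅ K ⊞ Z) (e₂ : Y ≅ Z ⊞ Q),
      f = e₁.hom ≫ biprod.snd ≫ biprod.inl ≫ e₂.inv := by
  constructor
  · intro hK
    -- the kernel inclusion is a (split) monomorphism
    obtain ⟨Z, p, h, hT⟩ := distinguished_cocone_triangle (kernel.ι f)
    have h0 : h = 0 := Triangle.mor₃_eq_zero_of_mono₁ _ hT (inferInstanceAs (Mono (kernel.ι f)))
    obtain ⟨e₁, he₁, he₁'⟩ : ∃ (e₁ : X ≅ kernel f ⊞ Z), kernel.ι f ≫ e₁.hom = biprod.inl ∧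
        p = e₁.hom ≫ biprod.snd := exists_iso_binaryBiproduct_of_distTriang _ hT h0
    obtain ⟨f', hf'⟩ : ∃ f' : Z ⟶ Y, f = p ≫ f' :=
      Triangle.yoneda_exact₂ _ hT f (kernel.condition f)
    have hip : kernel.ι f ≫ p = 0 := comp_distTriang_mor_zero₁₂ _ hT
    have hsp : (biprod.inr ≫ e₁.inv : Z ⟶ X) ≫ p = 𝟙 Z := by
      rw [he₁', Category.assoc, e₁.inv_hom_id_assoc, biprod.inr_snd]
    have hmono : Mono f' := by
      rw [Preadditive.mono_iff_cancel_zero]
      intro W g hg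
      have h1 : (g ≫ biprod.inr ≫ e₁.inv) ≫ f = 0 := by
        calc (g ≫ biprod.inr ≫ e₁.inv) ≫ f = (g ≫ biprod.inr ≫ e₁.inv) ≫ p ≫ f' :=
              congrArg _ hf'
          _ = 0 := by rw [Category.assoc, Category.assoc, reassoc_of% hsp, hg]
      calc g = (g ≫ biprod.inr ≫ e₁.inv) ≫ p := by
            rw [Category.assoc, Category.assoc, ← Category.assoc biprod.inr, hsp, Category.comp_id]
        _ = (kernel.lift f _ h1 ≫ kernel.ι f) ≫ p := by rw [kernel.lift_ι]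
        _ = 0 := by rw [Category.assoc, hip, comp_zero]
    obtain ⟨Q, q, h', hT'⟩ := distinguished_cocone_triangle f'
    have h0' : h' = 0 := Triangle.mor₃_eq_zero_of_mono₁ _ hT' hmono
    obtain ⟨e₂, he₂, -⟩ : ∃ (e₂ : Y ≅ Z ⊞ Q), f' ≫ e₂.hom = biprod.inl ∧
        q = e₂.hom ≫ biprod.snd := exists_iso_binaryBiproduct_of_distTriang _ hT' h0'
    refine ⟨kernel f, Z, Q, e₁, e₂, ?_⟩
    calc f = p ≫ f' := hf'
      _ = e₁.hom ≫ biprod.snd ≫ biprod.inl ≫ e₂.inv := by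
        rw [he₁', Category.assoc, ← he₂, Category.assoc, e₂.hom_inv_id, Category.comp_id]
  · rintro ⟨K, Z, Q, e₁, e₂, hf⟩
    exact hasKernel_of_split_form f e₁ e₂ hf

end Groth.Agent.S6594
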