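import Groth.Statements.S6596
import Groth.Agent.S6595

set_option autoImplicit false
set_option linter.unusedSectionVars false
set_option linter.unusedVariables false
universe v u
open CategoryTheory CategoryTheory.Limits
open CohDer

namespace Groth.Agent.S6596

section
open CategoryTheory.Pretriangulated
variable {D : Type u} [Category.{v} D] [Preadditive D] [HasZeroObject D] [HasShift D ℤ]
    [∀ n : ℤ, (shiftFunctor D n).Additive] [Pretriangulated D] [IsTriangulated D]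

/-- Transport a vanishing statement along an equality of shift amounts. -/
lemma vanish_transport {W Z : D} (m m' : ℤ) (h : m = m')
    (hv : ∀ ψ : (shiftFunctor D m).obj W ⟶ Z, ψ = 0) :
    ∀ ψ : (shiftFunctor D m').obj W ⟶ Z, ψ = 0 := by
  subst h; exact hv

/-- A morphism into the first vertex of a distinguished triangle which is killed by `mor₁`
vanishes as soon as all morphisms from the shifted source to the third vertex vanish. -/
lemma eq_zero_of_comp_mor₁ (T : Triangle D) (hT : T ∈ distinguishedTriangles) {W : D}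
    (δ : W ⟶ T.obj₁) (hδ : δ ≫ T.mor₁ = 0)
    (hv : ∀ ψ : (shiftFunctor D (1 : ℤ)).obj W ⟶ T.obj₃, ψ = 0) : δ = 0 := by
  have h1 : (shiftFunctor D (1 : ℤ)).map δ ≫ (shiftFunctor D (1 : ℤ)).map T.mor₁ = 0 := by
    rw [← Functor.map_comp, hδ, Functor.map_zero]
  obtain ⟨g, hg⟩ := Triangle.coyoneda_exact₁ T hT _ h1
  rw [hv g, zero_comp] at hg
  apply (shiftFunctor D (1 : ℤ)).map_injective
  rw [hg, Functor.map_zero]

variable (X X' : ChainComplex D ℕ) (φ : X ⟶ X') (n : ℕ)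
    (Y : ℕ → D) (a : ∀ k, Y k ⟶ X.X k) (b : ∀ k, X.X (k + 1) ⟶ Y k)
    (c : ∀ k, Y k ⟶ (shiftFunctor D (1 : ℤ)).obj (Y (k + 1)))
    (hP : ∀ k, k < n → Triangle.mk (a (k + 1)) (b k) (c k) ∈ distinguishedTriangles ∧ b k ≫ a k = X.d (k + 1) k)
    (qY : ℕ → D) (qa : ∀ k, qY k ⟶ X'.X k) (qb : ∀ k, X'.X (k + 1) ⟶ qY k)
    (qc : ∀ k, qY k ⟶ (shiftFunctor D (1 : ℤ)).obj (qY (k + 1)))
    (qh0 : IsIso (qa 0))
    (qhP : ∀ k, k < n → Triangle.mk (qa (k + 1)) (qb k) (qc k) ∈ distinguishedTriangles ∧ qb k ≫ qa k = X'.d (k + 1) k)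
    (hX : ∀ i j : ℕ, j + 1 < i → i ≤ n → ∀ ψ : (shiftFunctor D ((i : ℤ) - j - 1)).obj (X.X i) ⟶ X'.X j, ψ = 0)

include hP qh0 qhP hX in
/-- The square involving `b k` commutes automatically. -/
lemma square_comm (k : ℕ) (hk : k < n) (yk : Y k ⟶ qY k) (hyk : yk ≫ qa k = a k ≫ φ.f k) :
    b k ≫ yk = φ.f (k + 1) ≫ qb k := by
  rw [← sub_eq_zero]
  have hδ : (b k ≫ yk - φ.f (k + 1) ≫ qb k) ≫ qa k = 0 := by
    rw [Preadditive.sub_comp, Category.assoc, hyk, ← Category.assoc, (hP k hk).2, Category.assoc,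
      (qhP k hk).2, φ.comm, sub_self]
  cases k with
  | zero =>
    rw [← cancel_mono (qa 0), zero_comp]
    exact hδ
  | succ k' =>
    refine eq_zero_of_comp_mor₁ (Triangle.mk (qa (k' + 1)) (qb k') (qc k')) (qhP k' (by omega)).1
      _ hδ ?_
    refine vanish_transport (((k' + 1 + 1 : ℕ) : ℤ) - (k' : ℕ) - 1) 1 (by omega) ?_
    intro ψ
    exact Groth.Agent.S6595.result X X' n qY qa qb qc qh0 qhP hX (k' + 1 + 1) k' (by omega)
      (by omega) ψ

include hP qh0 qhP hX in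
lemma exists_partial (m : ℕ) (hm : m ≤ n) :
    ∃ y : ∀ k, Y k ⟶ qY k,
      (∀ k, k ≤ m → y k ≫ qa k = a k ≫ φ.f k) ∧
      (∀ k, k < m → b k ≫ y k = φ.f (k + 1) ≫ qb k ∧
        c k ≫ (shiftFunctor D (1 : ℤ)).map (y (k + 1)) = y k ≫ qc k) := by
  induction m with
  | zero =>
    refine ⟨fun k => match k with
      | 0 => a 0 ≫ φ.f 0 ≫ inv (qa 0)
      | (k + 1) => 0, ?_, ?_⟩
    · intro k hk
      obtain rfl : k = 0 := by omega
      simp
    · intro k hk
      omega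
  | succ m ih =>
    obtain ⟨y, hy₁, hy₂⟩ := ih (by omega)
    have hsq := square_comm X X' φ n Y a b c hP qY qa qb qc qh0 qhP hX m (by omega) (y m)
      (hy₁ m le_rfl)
    obtain ⟨y', hy'₁, hy'₂⟩ : ∃ y' : Y (m + 1) ⟶ qY (m + 1),
        a (m + 1) ≫ φ.f (m + 1) = y' ≫ qa (m + 1) ∧
        c m ≫ (shiftFunctor D (1 : ℤ)).map y' = y m ≫ qc m :=
      complete_distinguished_triangle_morphism₁ _ _
        (hP m (by omega)).1 (qhP m (by omega)).1 (φ.f (m + 1)) (y m) hsq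
    refine ⟨Function.update y (m + 1) y', ?_, ?_⟩
    · intro k hk
      by_cases hkm : k = m + 1
      · subst hkm
        rw [Function.update_self, hy'₁]
      · rw [Function.update_of_ne hkm]
        exact hy₁ k (by omega)
    · intro k hk
      by_cases hkm : k = m
      · subst hkm
        rw [Function.update_self, Function.update_of_ne (by omega)]
        exact ⟨hsq, hy'₂⟩
      · rw [Function.update_of_ne (by omega), Function.update_of_ne (by omega)]
        exact hy₂ k (by omega)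

end

open CategoryTheory.Pretriangulated in
/-- Let D be a triangulated category and φ : X ⟶ X' a morphism of chain complexes in D considered in
degrees ≤ n, where a Postnikov system for the complex X_n → … → X_0 consists of objects Y_k, an
isomorphism Y_0 ⟶ X_0, and for 0 ≤ k < n distinguished triangles Y_{k+1} ⟶ X_{k+1} ⟶ Y_k ⟶
Y_{k+1}⟦1⟧ with X_{k+1} ⟶ Y_k ⟶ X_k the differential. Suppose X and X' carry Postnikov systems (Y,
a, b, c) and (Y', a', b', c'). If Hom(X_i⟦i - j - 1⟧, X'_j) = 0 for all j + 1 < i ≤ n, then φ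
extends to a morphism of Postnikov systems: morphisms y_k : Y_k ⟶ Y'_k for k ≤ n forming, with the
φ_k, morphisms of the distinguished triangles and compatible with Y_0 ⟶ X_0 and Y'_0 ⟶ X'_0. -/
theorem result {D : Type u} [Category.{v} D] [Preadditive D] [HasZeroObject D] [HasShift D ℤ]
    [∀ n : ℤ, (shiftFunctor D n).Additive] [Pretriangulated D] [IsTriangulated D]
    (X X' : ChainComplex D ℕ) (φ : X ⟶ X') (n : ℕ)
    (Y : ℕ → D) (a : ∀ k, Y k ⟶ X.X k) (b : ∀ k, X.X (k + 1) ⟶ Y k)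
    (c : ∀ k, Y k ⟶ (shiftFunctor D (1 : ℤ)).obj (Y (k + 1)))
    (h0 : IsIso (a 0))
    (hP : ∀ k, k < n → Triangle.mk (a (k + 1)) (b k) (c k) ∈ distinguishedTriangles ∧ b k ≫ a k = X.d (k + 1) k)
    (qY : ℕ → D) (qa : ∀ k, qY k ⟶ X'.X k) (qb : ∀ k, X'.X (k + 1) ⟶ qY k)
    (qc : ∀ k, qY k ⟶ (shiftFunctor D (1 : ℤ)).obj (qY (k + 1)))
    (qh0 : IsIso (qa 0))
    (qhP : ∀ k, k < n → Triangle.mk (qa (k + 1)) (qb k) (qc k) ∈ distinguishedTriangles ∧ qb k ≫ qa k = X'.d (k + 1) k)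
    (hX : ∀ i j : ℕ, j + 1 < i → i ≤ n → ∀ ψ : (shiftFunctor D ((i : ℤ) - j - 1)).obj (X.X i) ⟶ X'.X j, ψ = 0) :
    ∃ y : ∀ k, Y k ⟶ qY k,
      (∀ k, k ≤ n → y k ≫ qa k = a k ≫ φ.f k) ∧
      (∀ k, k < n → b k ≫ y k = φ.f (k + 1) ≫ qb k ∧ c k ≫ (shiftFunctor D (1 : ℤ)).map (y (k + 1)) = y k ≫ qc k) :=
  exists_partial X X' φ n Y a b c hP qY qa qb qc qh0 qhP hX n le_rfl

end Groth.Agent.S6596
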