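import Groth.Statements.S6597

set_option autoImplicit false
set_option linter.unusedSectionVars false
set_option linter.unusedVariables false
universe v u
open CategoryTheory CategoryTheory.Limits
open CohDer

namespace Groth.Agent.S6597

section
open CategoryTheory.Pretriangulated
variable {D : Type u} [Category.{v} D] [Preadditive D] [HasZeroObject D] [HasShift D ℤ]
    [∀ n : ℤ, (shiftFunctor D n).Additive] [Pretriangulated D] [IsTriangulated D]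

/-- `Hom(W⟦m⟧, Z) = 0` implies `Hom(W⟦m+1⟧, Z⟦1⟧) = 0`. -/
lemma vanish_shift {W Z : D} (m m' : ℤ) (hm : m + 1 = m')
    (hv : ∀ ψ : (shiftFunctor D m).obj W ⟶ Z, ψ = 0) :
    ∀ ψ : (shiftFunctor D m').obj W ⟶ (shiftFunctor D (1 : ℤ)).obj Z, ψ = 0 := by
  intro ψ
  let e := (shiftFunctorAdd' D m 1 m' hm).app W
  obtain ⟨g, hg⟩ := (shiftFunctor D (1 : ℤ)).map_surjective (e.inv ≫ ψ)
  rw [hv g, Functor.map_zero] at hg
  rw [← cancel_epi e.inv, ← hg, comp_zero]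

/-- `Hom(W⟦m + n⟧, Z⟦n⟧) = 0` implies `Hom(W⟦m⟧, Z) = 0`. -/
lemma vanish_unshift {W Z : D} (m n m' : ℤ) (h : m + n = m')
    (hv : ∀ ψ : (shiftFunctor D m').obj W ⟶ (shiftFunctor D n).obj Z, ψ = 0) :
    ∀ ψ : (shiftFunctor D m).obj W ⟶ Z, ψ = 0 := by
  intro ψ
  let e := (shiftFunctorAdd' D m n m' h).app W
  have h1 := hv (e.hom ≫ (shiftFunctor D n).map ψ)
  have h2 : (shiftFunctor D n).map ψ = 0 := by
    rw [← cancel_epi e.hom, h1, comp_zero]
  apply (shiftFunctor D n).map_injective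
  rw [h2, Functor.map_zero]

variable (X X' : ChainComplex D ℕ) (n : ℕ)
    (Y : ℕ → D) (a : ∀ k, Y k ⟶ X.X k) (b : ∀ k, X.X (k + 1) ⟶ Y k)
    (c : ∀ k, Y k ⟶ (shiftFunctor D (1 : ℤ)).obj (Y (k + 1)))
    (hP : ∀ k, k < n → Triangle.mk (a (k + 1)) (b k) (c k) ∈ distinguishedTriangles ∧ b k ≫ a k = X.d (k + 1) k)
    (qY : ℕ → D)
    (qc : ∀ k, qY k ⟶ (shiftFunctor D (1 : ℤ)).obj (qY (k + 1)))
    (w : ∀ k, Y k ⟶ qY k) (hw0 : w 0 = 0)
    (hw : ∀ k, k < n → c k ≫ (shiftFunctor D (1 : ℤ)).map (w (k + 1)) = w k ≫ qc k)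

include hP hw0 hw in
lemma key (k : ℕ) (hk : k ≤ n) : ∀ (Z : D) (γ : qY k ⟶ Z),
    (∀ i : ℕ, 1 ≤ i → i ≤ k → ∀ ψ : (shiftFunctor D ((i : ℤ) - k)).obj (X.X i) ⟶ Z, ψ = 0) →
    w k ≫ γ = 0 := by
  induction k with
  | zero =>
    intro Z γ _
    rw [hw0, zero_comp]
  | succ k ih =>
    intro Z γ hZ
    have hT := (hP k (by omega)).1
    -- apply the induction hypothesis to `qc k ≫ γ⟦1⟧`
    have h1 : w k ≫ (qc k ≫ (shiftFunctor D (1 : ℤ)).map γ) = 0 := by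
      apply ih (by omega)
      intro i hi1 hik
      exact vanish_shift ((i : ℤ) - (k + 1 : ℕ)) ((i : ℤ) - k) (by omega) (hZ i hi1 (by omega))
    have h2 : c k ≫ (shiftFunctor D (1 : ℤ)).map (w (k + 1) ≫ γ) = 0 := by
      rw [Functor.map_comp, ← Category.assoc, hw k (by omega), Category.assoc, h1]
    obtain ⟨θ, hθ⟩ : ∃ θ : (shiftFunctor D (1 : ℤ)).obj (X.X (k + 1)) ⟶ (shiftFunctor D (1 : ℤ)).obj Z,
        (shiftFunctor D (1 : ℤ)).map (w (k + 1) ≫ γ) =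
          (-(shiftFunctor D (1 : ℤ)).map (a (k + 1))) ≫ θ :=
      Triangle.yoneda_exact₃ _ (rot_of_distTriang _ hT) _ h2
    have hθ0 : θ = 0 :=
      vanish_shift (((k + 1 : ℕ) : ℤ) - (k + 1 : ℕ)) 1 (by omega) (hZ (k + 1) (by omega) le_rfl) θ
    rw [hθ0, comp_zero] at hθ
    apply (shiftFunctor D (1 : ℤ)).map_injective
    rw [hθ, Functor.map_zero]

end

open CategoryTheory.Pretriangulated in
/-- Let D be a triangulated category, φ : X ⟶ X' a morphism of chain complexes in D considered in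
degrees ≤ n, where a Postnikov system for the complex X_n → … → X_0 consists of objects Y_k, an
isomorphism Y_0 ⟶ X_0, and for 0 ≤ k < n distinguished triangles Y_{k+1} ⟶ X_{k+1} ⟶ Y_k ⟶
Y_{k+1}⟦1⟧ with X_{k+1} ⟶ Y_k ⟶ X_k the differential; let (Y, a, b, c) and (Y', a', b', c') be
Postnikov systems for X and X'. If Hom(X_i⟦i⟧, Y'_n⟦n⟧) = 0 for i = 1, …, n, then two morphisms of
Postnikov systems extending φ agree on Y_n. (The published statement says there is at most one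
morphism of Postnikov systems; the argument, by induction along Y_0 → Y_1⟦1⟧ → … → Y_n⟦n⟧,
determines the component in degree n, which is what is asserted here.) -/
theorem result {D : Type u} [Category.{v} D] [Preadditive D] [HasZeroObject D] [HasShift D ℤ]
    [∀ n : ℤ, (shiftFunctor D n).Additive] [Pretriangulated D] [IsTriangulated D]
    (X X' : ChainComplex D ℕ) (φ : X ⟶ X') (n : ℕ)
    (Y : ℕ → D) (a : ∀ k, Y k ⟶ X.X k) (b : ∀ k, X.X (k + 1) ⟶ Y k)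
    (c : ∀ k, Y k ⟶ (shiftFunctor D (1 : ℤ)).obj (Y (k + 1)))
    (h0 : IsIso (a 0))
    (hP : ∀ k, k < n → Triangle.mk (a (k + 1)) (b k) (c k) ∈ distinguishedTriangles ∧ b k ≫ a k = X.d (k + 1) k)
    (qY : ℕ → D) (qa : ∀ k, qY k ⟶ X'.X k) (qb : ∀ k, X'.X (k + 1) ⟶ qY k)
    (qc : ∀ k, qY k ⟶ (shiftFunctor D (1 : ℤ)).obj (qY (k + 1)))
    (qh0 : IsIso (qa 0))
    (qhP : ∀ k, k < n → Triangle.mk (qa (k + 1)) (qb k) (qc k) ∈ distinguishedTriangles ∧ qb k ≫ qa k = X'.d (k + 1) k)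
    (hv : ∀ i : ℕ, 1 ≤ i → i ≤ n → ∀ ψ : (shiftFunctor D (i : ℤ)).obj (X.X i) ⟶ (shiftFunctor D (n : ℤ)).obj (qY n), ψ = 0)
    (y z : ∀ k, Y k ⟶ qY k)
    (hy : (∀ k, k ≤ n → y k ≫ qa k = a k ≫ φ.f k) ∧
      (∀ k, k < n → b k ≫ y k = φ.f (k + 1) ≫ qb k ∧ c k ≫ (shiftFunctor D (1 : ℤ)).map (y (k + 1)) = y k ≫ qc k))
    (hz : (∀ k, k ≤ n → z k ≫ qa k = a k ≫ φ.f k) ∧
      (∀ k, k < n → b k ≫ z k = φ.f (k + 1) ≫ qb k ∧ c k ≫ (shiftFunctor D (1 : ℤ)).map (z (k + 1)) = z k ≫ qc k)) :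
    y n = z n := by
  have hw0 : y 0 - z 0 = 0 := by
    rw [← cancel_mono (qa 0), zero_comp, Preadditive.sub_comp, hy.1 0 (by omega), hz.1 0 (by omega),
      sub_self]
  have hw : ∀ k, k < n → c k ≫ (shiftFunctor D (1 : ℤ)).map (y (k + 1) - z (k + 1)) =
      (y k - z k) ≫ qc k := by
    intro k hk
    rw [Functor.map_sub, Preadditive.comp_sub, Preadditive.sub_comp, (hy.2 k hk).2, (hz.2 k hk).2]
  have := key X n Y a b c hP qY qc (fun k => y k - z k) hw0 hw n le_rfl (qY n) (𝟙 _)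
    (fun i hi1 hin => vanish_unshift ((i : ℤ) - n) n i (by omega) (hv i hi1 hin))
  rw [Category.comp_id, sub_eq_zero] at this
  exact this

end Groth.Agent.S6597
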