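import Groth.Statements.S6598
import Groth.Agent.Lib.TermwiseSplit_helper2

set_option autoImplicit false
universe v u
open CategoryTheory CategoryTheory.Limits
open CohDer

namespace Groth.Agent.S6598

open CochainComplex Groth.Agent.Lib.TermwiseSplit_helper2

section
variable {V : Type u} [Category.{v} V] [Preadditive V] [HasBinaryBiproducts V] [HasZeroObject V]
    (K L : CochainComplex V ℤ) (α : K ⟶ L)

/-- The identity of the cone of an identity is null-homotopic. -/
noncomputable def coneIdHomotopy : Homotopy (𝟙 (mappingCone (𝟙 K))) 0 :=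
  mappingCone.liftHomotopy _ _ _ (mappingCone.snd _) 0 (by simp) (by simp)

/-- `π ≫ s` is homotopic to the identity. -/
noncomputable def homotopySndInr :
    Homotopy ((biprod.snd : mappingCone (𝟙 K) ⊞ L ⟶ L) ≫ biprod.inr) (𝟙 (mappingCone (𝟙 K) ⊞ L)) :=
  let h₁ := ((coneIdHomotopy K).compRight
      (biprod.inl : _ ⟶ mappingCone (𝟙 K) ⊞ L)).compLeft
        (biprod.fst : mappingCone (𝟙 K) ⊞ L ⟶ _)
  let h₂ := Homotopy.add h₁ (Homotopy.refl (biprod.snd ≫ biprod.inr))
  (Homotopy.ofEq (by simp)).trans (h₂.symm.trans (Homotopy.ofEq (by simp)))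

/-- The degree `n` part of `mappingCone (𝟙 K) ⊞ L`, decomposed with `K.X n` as first summand. -/
noncomputable def decomp (n : ℤ) :
    (mappingCone (𝟙 K) ⊞ L).X n ≅ K.X n ⊞ (K.X (n + 1) ⊞ L.X n) where
  hom := biprod.lift
    ((biprod.fst : mappingCone (𝟙 K) ⊞ L ⟶ _).f n ≫ (mappingCone.snd (𝟙 K)).v n n (add_zero n))
    (biprod.lift
      ((biprod.fst : mappingCone (𝟙 K) ⊞ L ⟶ _).f n ≫ (mappingCone.fst (𝟙 K)).1.v n (n + 1) rfl)
      ((biprod.snd : mappingCone (𝟙 K) ⊞ L ⟶ _).f n))
  inv := biprod.desc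
    ((mappingCone.inr (𝟙 K)).f n ≫ (biprod.inl : _ ⟶ mappingCone (𝟙 K) ⊞ L).f n)
    (biprod.desc
      ((mappingCone.inl (𝟙 K)).v (n + 1) n (by omega) ≫ (biprod.inl : _ ⟶ mappingCone (𝟙 K) ⊞ L).f n)
      ((biprod.inr : _ ⟶ mappingCone (𝟙 K) ⊞ L).f n))
  hom_inv_id := by
    apply HomologicalComplex.biprodX_ext_from
    · rw [mappingCone.ext_from_iff (𝟙 K) (n + 1) n rfl]
      constructor
      · simp
      · simp
    · simp
  inv_hom_id := by
    apply biprod.hom_ext'
    · apply biprod.hom_ext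
      · simp
      · apply biprod.hom_ext
        · simp
        · simp
    · apply biprod.hom_ext'
      · apply biprod.hom_ext
        · simp
        · apply biprod.hom_ext
          · simp
          · simp
      · apply biprod.hom_ext
        · simp
        · apply biprod.hom_ext
          · simp
          · simp

end

/-- Let α : K ⟶ L be a morphism of cochain complexes over an additive category. There is a factorization
K ⟶ L' ⟶ L of α such that (1) K ⟶ L' is a termwise split injection (in each degree isomorphic to the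
inclusion of a direct summand) and (2) L' ⟶ L admits a section s : L ⟶ L' (s followed by L' ⟶ L is
the identity) such that L' ⟶ L followed by s is homotopic to the identity of L'. Moreover if K and L
are both bounded below, resp. both bounded above, then L' may be chosen bounded below, resp. bounded
above. -/
theorem result {V : Type u} [Category.{v} V] [Preadditive V] [HasBinaryBiproducts V] [HasZeroObject V]
    (K L : CochainComplex V ℤ) (α : K ⟶ L) :
    ∃ (L' : CochainComplex V ℤ) (α' : K ⟶ L') (π : L' ⟶ L) (s : L ⟶ L'),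
      α' ≫ π = α ∧ s ≫ π = 𝟙 L ∧ Nonempty (Homotopy (π ≫ s) (𝟙 L')) ∧
      (∀ n : ℤ, ∃ (C : V) (e : L'.X n ≅ K.X n ⊞ C), α'.f n ≫ e.hom = biprod.inl) ∧
      (∀ a : ℤ, K.IsStrictlyGE a → L.IsStrictlyGE a → ∃ a' : ℤ, L'.IsStrictlyGE a') ∧
      (∀ a : ℤ, K.IsStrictlyLE a → L.IsStrictlyLE a → ∃ a' : ℤ, L'.IsStrictlyLE a') := by
  refine ⟨mappingCone (𝟙 K) ⊞ L, biprod.lift (mappingCone.inr (𝟙 K)) α, biprod.snd, biprod.inr,
    by simp, by simp, ⟨homotopySndInr K L⟩, ?_, ?_, ?_⟩
  · intro n
    refine ⟨K.X (n + 1) ⊞ L.X n, ?_⟩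
    apply exists_iso_inl (decomp K L n)
    simp [decomp, ← HomologicalComplex.comp_f_assoc]
  · intro a hK hL
    refine ⟨a - 1, ?_⟩
    rw [isStrictlyGE_iff]
    intro i hi
    refine IsZero.of_iso ?_ ((HomologicalComplex.eval V (ComplexShape.up ℤ) i).mapBiprod _ _)
    simp only [HomologicalComplex.eval_obj, biprod_isZero_iff, mappingCone.isZero_X_iff]
    exact ⟨⟨K.isZero_of_isStrictlyGE a _ (by omega), K.isZero_of_isStrictlyGE a _ (by omega)⟩,
      L.isZero_of_isStrictlyGE a _ (by omega)⟩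
  · intro a hK hL
    refine ⟨a, ?_⟩
    rw [isStrictlyLE_iff]
    intro i hi
    refine IsZero.of_iso ?_ ((HomologicalComplex.eval V (ComplexShape.up ℤ) i).mapBiprod _ _)
    simp only [HomologicalComplex.eval_obj, biprod_isZero_iff, mappingCone.isZero_X_iff]
    exact ⟨⟨K.isZero_of_isStrictlyLE a _ (by omega), K.isZero_of_isStrictlyLE a _ (by omega)⟩,
      L.isZero_of_isStrictlyLE a _ (by omega)⟩

end Groth.Agent.S6598
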