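import Groth.Statements.S6599
import Groth.Agent.Lib.TermwiseSplit_helper2
import Mathlib.Algebra.Homology.HomotopyCategory.Shift

set_option autoImplicit false
universe v u
open CategoryTheory CategoryTheory.Limits
open CohDer

namespace Groth.Agent.S6599

open CochainComplex Groth.Agent.Lib.TermwiseSplit_helper2

section
variable {V : Type u} [Category.{v} V] [Preadditive V] [HasBinaryBiproducts V] [HasZeroObject V]
    (K L : CochainComplex V ℤ) (α : K ⟶ L)

/-- The identity of the cone of an identity is null-homotopic. -/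
noncomputable def coneIdHomotopy : Homotopy (𝟙 (mappingCone (𝟙 L))) 0 :=
  mappingCone.liftHomotopy _ _ _ (mappingCone.snd _) 0 (by simp) (by simp)

/-- The identity of the cocone of an identity is null-homotopic. -/
noncomputable def coconeIdHomotopy : Homotopy (𝟙 (mappingCocone (𝟙 L))) 0 :=
  (Homotopy.ofEq (by simp [mappingCocone])).trans
    (((coneIdHomotopy L).shift (-1)).trans (Homotopy.ofEq (by rw [Functor.map_zero]; rfl)))

/-- `s ≫ i` is homotopic to the identity. -/
noncomputable def homotopyFstInl :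
    Homotopy ((biprod.fst : K ⊞ mappingCocone (𝟙 L) ⟶ K) ≫ biprod.inl) (𝟙 (K ⊞ mappingCocone (𝟙 L))) :=
  let h₁ := ((coconeIdHomotopy L).compRight
      (biprod.inr : _ ⟶ K ⊞ mappingCocone (𝟙 L))).compLeft
        (biprod.snd : K ⊞ mappingCocone (𝟙 L) ⟶ _)
  let h₂ := Homotopy.add (Homotopy.refl (biprod.fst ≫ biprod.inl)) h₁
  (Homotopy.ofEq (by simp)).trans (h₂.symm.trans (Homotopy.ofEq (by simp)))

/-- The degree `n` part of `K ⊞ mappingCocone (𝟙 L)`, decomposed with `L.X n` as last summand. -/
noncomputable def decomp (n : ℤ) :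
    (K ⊞ mappingCocone (𝟙 L)).X n ≅ (K.X n ⊞ L.X (n - 1)) ⊞ L.X n where
  hom := biprod.lift
    (biprod.lift
      ((biprod.fst : K ⊞ mappingCocone (𝟙 L) ⟶ _).f n)
      ((biprod.snd : K ⊞ mappingCocone (𝟙 L) ⟶ _).f n ≫
        (mappingCocone.snd (𝟙 L)).v n (n - 1) (by omega)))
    ((biprod.snd : K ⊞ mappingCocone (𝟙 L) ⟶ _).f n ≫ (mappingCocone.fst (𝟙 L)).f n)
  inv := biprod.desc
    (biprod.desc
      ((biprod.inl : _ ⟶ K ⊞ mappingCocone (𝟙 L)).f n)
      ((mappingCocone.inr (𝟙 L)).1.v (n - 1) n (by omega) ≫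
        (biprod.inr : _ ⟶ K ⊞ mappingCocone (𝟙 L)).f n))
    ((mappingCocone.inl (𝟙 L)).v n n (add_zero n) ≫
      (biprod.inr : _ ⟶ K ⊞ mappingCocone (𝟙 L)).f n)
  hom_inv_id := by
    have tot := HomologicalComplex.biprod_total_f K (mappingCocone (𝟙 L)) n
    have idX := mappingCocone.id_X (𝟙 L) n (n - 1) (by omega)
    calc _ = (biprod.fst : K ⊞ mappingCocone (𝟙 L) ⟶ _).f n ≫
              (biprod.inl : _ ⟶ K ⊞ mappingCocone (𝟙 L)).f n +
            (biprod.snd : K ⊞ mappingCocone (𝟙 L) ⟶ _).f n ≫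
              ((mappingCocone.fst (𝟙 L)).f n ≫ (mappingCocone.inl (𝟙 L)).v n n (add_zero n) +
                (mappingCocone.snd (𝟙 L)).v n (n - 1) (by omega) ≫
                  (mappingCocone.inr (𝟙 L)).1.v (n - 1) n (by omega)) ≫
              (biprod.inr : _ ⟶ K ⊞ mappingCocone (𝟙 L)).f n := by
          simp only [biprod.lift_desc, Category.assoc, Preadditive.comp_add, Preadditive.add_comp]
          abel
      _ = 𝟙 _ := by rw [idX, Category.id_comp, tot]
  inv_hom_id := by
    apply biprod.hom_ext'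
    · apply biprod.hom_ext'
      · apply biprod.hom_ext
        · apply biprod.hom_ext
          · simp
          · simp
        · simp
      · apply biprod.hom_ext
        · apply biprod.hom_ext
          · simp
          · simp
        · simp
    · apply biprod.hom_ext
      · apply biprod.hom_ext
        · simp
        · simp
      · simp

end

/-- Let α : K ⟶ L be a morphism of cochain complexes over an additive category. There is a factorization
K ⟶ K' ⟶ L of α such that (1) K' ⟶ L is a termwise split surjection (in each degree isomorphic to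
the projection onto a direct summand) and (2) K ⟶ K' admits a retraction s : K' ⟶ K (K ⟶ K' followed
by s is the identity) such that s followed by K ⟶ K' is homotopic to the identity of K'. Moreover if
K and L are both bounded below, resp. both bounded above, then K' may be chosen bounded below, resp.
bounded above. -/
theorem result {V : Type u} [Category.{v} V] [Preadditive V] [HasBinaryBiproducts V] [HasZeroObject V]
    (K L : CochainComplex V ℤ) (α : K ⟶ L) :
    ∃ (K' : CochainComplex V ℤ) (i : K ⟶ K') (α' : K' ⟶ L) (s : K' ⟶ K),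
      i ≫ α' = α ∧ i ≫ s = 𝟙 K ∧ Nonempty (Homotopy (s ≫ i) (𝟙 K')) ∧
      (∀ n : ℤ, ∃ (C : V) (e : K'.X n ≅ C ⊞ L.X n), e.inv ≫ α'.f n = biprod.snd) ∧
      (∀ a : ℤ, K.IsStrictlyGE a → L.IsStrictlyGE a → ∃ a' : ℤ, K'.IsStrictlyGE a') ∧
      (∀ a : ℤ, K.IsStrictlyLE a → L.IsStrictlyLE a → ∃ a' : ℤ, K'.IsStrictlyLE a') := by
  refine ⟨K ⊞ mappingCocone (𝟙 L), biprod.inl, biprod.desc α (mappingCocone.fst (𝟙 L)), biprod.fst,
    by simp, by simp, ⟨homotopyFstInl K L⟩, ?_, ?_, ?_⟩
  · intro n
    refine ⟨K.X n ⊞ L.X (n - 1), ?_⟩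
    apply exists_iso_snd (decomp K L n)
    simp [decomp, ← HomologicalComplex.comp_f]
  · intro a hK hL
    refine ⟨a, ?_⟩
    rw [isStrictlyGE_iff]
    intro i hi
    refine IsZero.of_iso ?_ ((HomologicalComplex.eval V (ComplexShape.up ℤ) i).mapBiprod _ _)
    simp only [HomologicalComplex.eval_obj, biprod_isZero_iff]
    refine ⟨K.isZero_of_isStrictlyGE a _ (by omega), ?_⟩
    show IsZero ((mappingCone (𝟙 L)).X (i + -1))
    rw [mappingCone.isZero_X_iff]
    exact ⟨L.isZero_of_isStrictlyGE a _ (by omega), L.isZero_of_isStrictlyGE a _ (by omega)⟩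
  · intro a hK hL
    refine ⟨a + 1, ?_⟩
    rw [isStrictlyLE_iff]
    intro i hi
    refine IsZero.of_iso ?_ ((HomologicalComplex.eval V (ComplexShape.up ℤ) i).mapBiprod _ _)
    simp only [HomologicalComplex.eval_obj, biprod_isZero_iff]
    refine ⟨K.isZero_of_isStrictlyLE a _ (by omega), ?_⟩
    show IsZero ((mappingCone (𝟙 L)).X (i + -1))
    rw [mappingCone.isZero_X_iff]
    exact ⟨L.isZero_of_isStrictlyLE a _ (by omega), L.isZero_of_isStrictlyLE a _ (by omega)⟩

end Groth.Agent.S6599
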