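import Groth.Statements.S6600
import Mathlib.CategoryTheory.Triangulated.Orthogonal

set_option autoImplicit false
universe v u
open CategoryTheory CategoryTheory.Limits
open CohDer

namespace Groth.Agent.S6600

open CategoryTheory.Pretriangulated in
/-- Let D be a triangulated category, A ⊂ D a full subcategory invariant under all shifts, and X → Y → Z
→ X⟦1⟧ a distinguished triangle. Then Z lies in the right orthogonal A^⊥ if and only if Hom(A, X) →
Hom(A, Y) is bijective for every object A of A. -/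
theorem result {D : Type u} [Category.{v} D] [Preadditive D] [HasZeroObject D] [HasShift D ℤ]
    [∀ n : ℤ, (shiftFunctor D n).Additive] [Pretriangulated D] [IsTriangulated D]
    (P : ObjectProperty D) [P.IsStableUnderShift ℤ] (T : Triangle D) (hT : T ∈ distinguishedTriangles) :
    P.rightOrthogonal T.obj₃ ↔ ∀ A : D, P A → Function.Bijective (fun u : A ⟶ T.obj₁ => u ≫ T.mor₁) := by
  constructor
  · intro hZ A hA
    have hZ1 : P.rightOrthogonal ((shiftFunctor D (-1 : ℤ)).obj T.obj₃) :=
      P.rightOrthogonal.le_shift (-1 : ℤ) _ hZ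
    constructor
    · intro u₁ u₂ (h : u₁ ≫ T.mor₁ = u₂ ≫ T.mor₁)
      have h0 : (u₁ - u₂) ≫ T.mor₁ = 0 := by rw [Preadditive.sub_comp, h, sub_self]
      obtain ⟨w, hw⟩ : ∃ w : A ⟶ (shiftFunctor D (-1 : ℤ)).obj T.obj₃,
          u₁ - u₂ = w ≫ T.invRotate.mor₁ :=
        Triangle.coyoneda_exact₂ _ (inv_rot_of_distTriang _ hT) (u₁ - u₂) h0
      have h2 : u₁ - u₂ = 0 := by
        rw [hw, hZ1 w hA]
        exact zero_comp
      exact sub_eq_zero.1 h2
    · intro v
      obtain ⟨u, hu⟩ := Triangle.coyoneda_exact₂ T hT v (hZ _ hA)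
      exact ⟨u, hu.symm⟩
  · intro h A φ hA
    have hA1 : P ((shiftFunctor D (-1 : ℤ)).obj A) := P.le_shift (-1 : ℤ) _ hA
    let adj := (shiftEquiv D (1 : ℤ)).symm.toAdjunction
    -- `φ ≫ T.mor₃ = 0`
    have h1 : φ ≫ T.mor₃ = 0 := by
      obtain ⟨u, hu⟩ := (adj.homEquiv A T.obj₁).surjective (φ ≫ T.mor₃)
      have hu0 : u = 0 := by
        apply (h _ hA1).1
        show u ≫ T.mor₁ = 0 ≫ T.mor₁
        rw [zero_comp]
        apply (adj.homEquiv A T.obj₂).injective
        rw [Adjunction.homEquiv_naturality_right, hu]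
        have : (adj.homEquiv A T.obj₂) 0 = 0 := by
          rw [Adjunction.homEquiv_unit]
          show _ ≫ (shiftFunctor D (1 : ℤ)).map 0 = 0
          rw [Functor.map_zero]
          exact comp_zero
        rw [this]
        show (φ ≫ T.mor₃) ≫ (shiftFunctor D (1 : ℤ)).map T.mor₁ = 0
        rw [Category.assoc, comp_distTriang_mor_zero₃₁ _ hT, comp_zero]
      refine hu.symm.trans ?_
      rw [hu0, Adjunction.homEquiv_unit]
      show _ ≫ (shiftFunctor D (1 : ℤ)).map 0 = 0
      rw [Functor.map_zero]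
      exact comp_zero
    obtain ⟨v, hv⟩ := Triangle.coyoneda_exact₃ T hT φ h1
    obtain ⟨u, hu⟩ := (h _ hA).2 v
    replace hu : u ≫ T.mor₁ = v := hu
    rw [hv, ← hu, Category.assoc, comp_distTriang_mor_zero₁₂ _ hT, comp_zero]

end Groth.Agent.S6600
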