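import Groth.Statements.S6601
import Mathlib.CategoryTheory.Triangulated.Orthogonal

set_option autoImplicit false
universe v u
open CategoryTheory CategoryTheory.Limits
open CohDer

namespace Groth.Agent.S6601

open CategoryTheory.Pretriangulated in
/-- Let D be a triangulated category, B ⊂ D a full subcategory invariant under all shifts, and X → Y → Z
→ X⟦1⟧ a distinguished triangle. Then X lies in the left orthogonal ^⊥B if and only if Hom(Z, B) →
Hom(Y, B) is bijective for every object B of B. -/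
theorem result {D : Type u} [Category.{v} D] [Preadditive D] [HasZeroObject D] [HasShift D ℤ]
    [∀ n : ℤ, (shiftFunctor D n).Additive] [Pretriangulated D] [IsTriangulated D]
    (P : ObjectProperty D) [P.IsStableUnderShift ℤ] (T : Triangle D) (hT : T ∈ distinguishedTriangles) :
    P.leftOrthogonal T.obj₁ ↔ ∀ B : D, P B → Function.Bijective (fun u : T.obj₃ ⟶ B => T.mor₂ ≫ u) := by
  constructor
  · intro hX B hB
    have hX1 : P.leftOrthogonal ((shiftFunctor D (1 : ℤ)).obj T.obj₁) :=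
      P.leftOrthogonal.le_shift (1 : ℤ) _ hX
    constructor
    · intro u₁ u₂ (h : T.mor₂ ≫ u₁ = T.mor₂ ≫ u₂)
      have h0 : T.mor₂ ≫ (u₁ - u₂) = 0 := by rw [Preadditive.comp_sub, h, sub_self]
      obtain ⟨w, hw⟩ := Triangle.yoneda_exact₃ T hT _ h0
      rw [hX1 w hB, comp_zero, sub_eq_zero] at hw
      exact hw
    · intro v
      obtain ⟨u, hu⟩ := Triangle.yoneda_exact₂ T hT v (hX _ hB)
      exact ⟨u, hu.symm⟩
  · intro h B φ hB
    have hB1 : P ((shiftFunctor D (1 : ℤ)).obj B) := P.le_shift (1 : ℤ) _ hB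
    have h1 : T.mor₃ ≫ (shiftFunctor D (1 : ℤ)).map φ = 0 := by
      apply (h _ hB1).1
      show T.mor₂ ≫ T.mor₃ ≫ (shiftFunctor D (1 : ℤ)).map φ = T.mor₂ ≫ 0
      rw [comp_zero, ← Category.assoc, comp_distTriang_mor_zero₂₃ _ hT, zero_comp]
    obtain ⟨w, hw⟩ : ∃ w : (shiftFunctor D (1 : ℤ)).obj T.obj₂ ⟶ (shiftFunctor D (1 : ℤ)).obj B,
        (shiftFunctor D (1 : ℤ)).map φ = (-(shiftFunctor D (1 : ℤ)).map T.mor₁) ≫ w :=
      Triangle.yoneda_exact₃ _ (rot_of_distTriang _ hT) _ h1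
    obtain ⟨v, rfl⟩ := (shiftFunctor D (1 : ℤ)).map_surjective w
    obtain ⟨u, hu⟩ := (h _ hB).2 v
    replace hu : T.mor₂ ≫ u = v := hu
    apply (shiftFunctor D (1 : ℤ)).map_injective
    rw [hw, ← hu, Preadditive.neg_comp, ← Functor.map_comp, ← Category.assoc,
      comp_distTriang_mor_zero₁₂ _ hT, zero_comp, Functor.map_zero, neg_zero]

end Groth.Agent.S6601
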