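import Groth.Statements.S6602
import Groth.Agent.S6601
import Mathlib.CategoryTheory.Adjunction.Comma

set_option autoImplicit false
universe v u
open CategoryTheory CategoryTheory.Limits
open CohDer

namespace Groth.Agent.S6602

open CategoryTheory.Pretriangulated in
/-- (1) ⇔ (2): let D be a triangulated category and B a full triangulated subcategory. The inclusion
functor B → D has a left adjoint if and only if for every X in D there is a distinguished triangle A
→ X → B → A⟦1⟧ with B in B and A in the left orthogonal ^⊥B. (The published statement further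
asserts that B is then saturated and, when strictly full, equals the right orthogonal of its left
orthogonal; this row asserts only the equivalence.) -/
theorem result {D : Type u} [Category.{v} D] [Preadditive D] [HasZeroObject D] [HasShift D ℤ]
    [∀ n : ℤ, (shiftFunctor D n).Additive] [Pretriangulated D] [IsTriangulated D]
    (P : ObjectProperty D) [P.IsTriangulated] :
    P.ι.IsRightAdjoint ↔ ∀ X : D, ∃ (A B : D) (f : A ⟶ X) (g : X ⟶ B) (h : B ⟶ (shiftFunctor D (1 : ℤ)).obj A),
      Triangle.mk f g h ∈ distinguishedTriangles ∧ P B ∧ P.leftOrthogonal A := by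
  constructor
  · intro hadj X
    let L := P.ι.leftAdjoint
    let adj : L ⊣ P.ι := Adjunction.ofIsRightAdjoint P.ι
    obtain ⟨A, f, h, hT⟩ := distinguished_cocone_triangle₁ (adj.unit.app X)
    refine ⟨A, (L.obj X).obj, f, adj.unit.app X, h, hT, (L.obj X).property, ?_⟩
    refine (Groth.Agent.S6601.result P _ hT).2 ?_
    intro B hB
    have hbij : Function.Bijective (fun u : (L.obj X).obj ⟶ B =>
        adj.homEquiv X ⟨B, hB⟩ (ObjectProperty.homMk u)) :=
      (adj.homEquiv X ⟨B, hB⟩).bijective.comp
        ⟨fun u₁ u₂ h => congrArg InducedCategory.Hom.hom h, ObjectProperty.homMk_surjective⟩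
    have heq : (fun u : (L.obj X).obj ⟶ B => adj.unit.app X ≫ u) =
        fun u : (L.obj X).obj ⟶ B => adj.homEquiv X ⟨B, hB⟩ (ObjectProperty.homMk u) := by
      funext u
      rw [Adjunction.homEquiv_unit]
      rfl
    show Function.Bijective (fun u : (L.obj X).obj ⟶ B => adj.unit.app X ≫ u)
    rw [heq]
    exact hbij
  · intro H
    rw [isRightAdjoint_iff_hasInitial_structuredArrow]
    intro X
    obtain ⟨A, B, f, g, h, hT, hB, hA⟩ := H X
    have hbij := (Groth.Agent.S6601.result P _ hT).1 hA
    let B' : P.FullSubcategory := ⟨B, hB⟩
    let I : StructuredArrow X P.ι := StructuredArrow.mk (Y := B') (g : X ⟶ P.ι.obj B')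
    have hex : ∀ s : StructuredArrow X P.ι, ∃ u : B ⟶ s.right.obj, g ≫ u = s.hom :=
      fun s => (hbij s.right.obj s.right.property).2 s.hom
    refine (IsInitial.ofUniqueHom (X := I)
      (fun s => StructuredArrow.homMk (ObjectProperty.homMk (X := B') (hex s).choose)
        (hex s).choose_spec)
      ?_).hasInitial
    intro s m
    apply StructuredArrow.ext
    apply ObjectProperty.hom_ext
    apply (hbij s.right.obj s.right.property).1
    show g ≫ m.right.hom = g ≫ (hex s).choose
    rw [(hex s).choose_spec]
    exact (StructuredArrow.w m :)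

end Groth.Agent.S6602
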