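import Groth.Statements.S6603
import Mathlib.CategoryTheory.Localization.CalculusOfFractions.Preadditive

set_option autoImplicit false
universe v u v' u'
open CategoryTheory CategoryTheory.Limits
open CohDer ZeroObject

namespace Groth.Agent.S6603

lemma isZero_of_retract_of_isZero {C : Type*} [Category C] [HasZeroMorphisms C] {X Y : C}
    (i : X ⟶ Y) (r : Y ⟶ X) (h : i ≫ r = 𝟙 X) (hY : IsZero Y) : IsZero X := by
  rw [IsZero.iff_id_eq_zero, ← h, hY.eq_of_tgt i 0, zero_comp]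

open CategoryTheory.Pretriangulated in
/-- A distinguished triangle on a zero morphism `X ⟶ Y` with third vertex of the form `Z ⊞ Y`
when `X⟦1⟧ ≅ Z`. -/
lemma exists_triangle_of_zero {D : Type u} [Category.{v} D] [Preadditive D] [HasZeroObject D] [HasShift D ℤ]
    [∀ n : ℤ, (shiftFunctor D n).Additive] [Pretriangulated D]
    (X Y Z : D) (eZ : (shiftFunctor D (1 : ℤ)).obj X ≅ Z) :
    ∃ (g : Y ⟶ Z ⊞ Y) (h : Z ⊞ Y ⟶ (shiftFunctor D (1 : ℤ)).obj X),
      Triangle.mk (0 : X ⟶ Y) g h ∈ distinguishedTriangles := by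
  obtain ⟨C, g, h, hT⟩ := distinguished_cocone_triangle (0 : X ⟶ Y)
  have hT' := rot_of_distTriang _ hT
  obtain ⟨e, -, -⟩ : ∃ (e : C ≅ Y ⊞ (shiftFunctor D (1 : ℤ)).obj X), g ≫ e.hom = biprod.inl ∧
      h = e.hom ≫ biprod.snd :=
    exists_iso_binaryBiproduct_of_distTriang _ hT' (by
      show -(shiftFunctor D (1 : ℤ)).map (0 : X ⟶ Y) = 0
      rw [Functor.map_zero, neg_zero])
  let e' : C ≅ Z ⊞ Y := e ≪≫ biprod.mapIso (Iso.refl Y) eZ ≪≫ biprod.braiding Y Z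
  refine ⟨g ≫ e'.hom, e'.inv ≫ h, isomorphic_distinguished _ hT _ ?_⟩
  exact Triangle.isoMk (Triangle.mk (0 : X ⟶ Y) (g ≫ e'.hom) (e'.inv ≫ h)) (Triangle.mk (0 : X ⟶ Y) g h)
    (Iso.refl X) (Iso.refl Y) e'.symm
    (by show (0 : X ⟶ Y) ≫ 𝟙 Y = 𝟙 X ≫ 0; rw [zero_comp, comp_zero])
    (by
      show (g ≫ e'.hom) ≫ e'.inv = 𝟙 Y ≫ g
      rw [Category.assoc, e'.hom_inv_id, Category.comp_id, Category.id_comp])
    (by
      show (e'.inv ≫ h) ≫ (shiftFunctor D (1 : ℤ)).map (𝟙 X) = e'.inv ≫ h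
      rw [CategoryTheory.Functor.map_id, Category.comp_id])

open CategoryTheory.Pretriangulated in
/-- (1) ⇔ (2) ⇔ (3) ⇔ (4): let D be a pretriangulated category, S a multiplicative system compatible
with the triangulated structure, and Q : D → S⁻¹D the localization functor. For an object Z of D the
following are equivalent: (1) Q(Z) = 0; (2) 0 : Z ⟶ Z' is in S for some Z'; (3) 0 : Z' ⟶ Z is in S
for some Z'; (4) there are an object Z' and a distinguished triangle (X, Y, Z ⊞ Z', f, g, h) with f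
∈ S. (The further equivalences (5)–(7) for saturated S are not asserted.) -/
theorem result {D : Type u} [Category.{v} D] [Preadditive D] [HasZeroObject D] [HasShift D ℤ]
    [∀ n : ℤ, (shiftFunctor D n).Additive] [Pretriangulated D]
    (S : MorphismProperty D) [S.HasLeftCalculusOfFractions] [S.HasRightCalculusOfFractions]
    [S.IsCompatibleWithTriangulation]
    {E : Type u'} [Category.{v'} E] (Q : D ⥤ E) [Q.IsLocalization S] (Z : D) :
    (IsZero (Q.obj Z) ↔ ∃ Z' : D, S (0 : Z ⟶ Z')) ∧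
    (IsZero (Q.obj Z) ↔ ∃ Z' : D, S (0 : Z' ⟶ Z)) ∧
    (IsZero (Q.obj Z) ↔ ∃ (Z' X Y : D) (f : X ⟶ Y) (g : Y ⟶ Z ⊞ Z') (h : Z ⊞ Z' ⟶ (shiftFunctor D (1 : ℤ)).obj X),
      Triangle.mk f g h ∈ distinguishedTriangles ∧ S f) := by
  let _ : Preadditive E := Localization.preadditive Q S
  have : Q.Additive := Localization.functor_additive Q S
  have hQ0 : IsZero (Q.obj (0 : D)) := Q.map_isZero (isZero_zero D)
  have h12 : IsZero (Q.obj Z) → ∃ Z' : D, S (0 : Z ⟶ Z') := by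
    intro hZ
    have h1 : Q.map (𝟙 Z) = Q.map (0 : Z ⟶ Z) := hZ.eq_of_src _ _
    obtain ⟨Z', s, hs, h⟩ := (MorphismProperty.map_eq_iff_postcomp Q S _ _).1 h1
    rw [Category.id_comp, zero_comp] at h
    exact ⟨Z', h ▸ hs⟩
  have h21 : (∃ Z' : D, S (0 : Z ⟶ Z')) → IsZero (Q.obj Z) := by
    rintro ⟨Z', hs⟩
    have : IsIso (Q.map (0 : Z ⟶ Z')) := Localization.inverts Q S _ hs
    have h0 : Q.map (0 : Z ⟶ Z') = 0 := Q.map_zero _ _
    rw [IsZero.iff_id_eq_zero, ← IsIso.hom_inv_id (Q.map (0 : Z ⟶ Z'))]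
    generalize inv (Q.map (0 : Z ⟶ Z')) = j
    rw [h0, zero_comp]
  have h13 : IsZero (Q.obj Z) → ∃ Z' : D, S (0 : Z' ⟶ Z) := by
    intro hZ
    have h1 : Q.map (𝟙 Z) = Q.map (0 : Z ⟶ Z) := hZ.eq_of_src _ _
    obtain ⟨Z', s, hs, h⟩ := (MorphismProperty.map_eq_iff_precomp Q S _ _).1 h1
    rw [Category.comp_id, comp_zero] at h
    exact ⟨Z', h ▸ hs⟩
  have h31 : (∃ Z' : D, S (0 : Z' ⟶ Z)) → IsZero (Q.obj Z) := by
    rintro ⟨Z', hs⟩
    have : IsIso (Q.map (0 : Z' ⟶ Z)) := Localization.inverts Q S _ hs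
    have h0 : Q.map (0 : Z' ⟶ Z) = 0 := Q.map_zero _ _
    rw [IsZero.iff_id_eq_zero, ← IsIso.inv_hom_id (Q.map (0 : Z' ⟶ Z))]
    generalize inv (Q.map (0 : Z' ⟶ Z)) = j
    rw [h0, comp_zero]
  refine ⟨⟨h12, h21⟩, ⟨h13, h31⟩, ?_, ?_⟩
  · intro hZ
    obtain ⟨Z', hs⟩ := h12 hZ
    have hs' : S (0 : (shiftFunctor D (-1 : ℤ)).obj Z ⟶ (shiftFunctor D (-1 : ℤ)).obj Z') := by
      have := MorphismProperty.shift S hs (-1 : ℤ)
      rwa [Functor.map_zero] at this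
    obtain ⟨g, h, hT⟩ := exists_triangle_of_zero ((shiftFunctor D (-1 : ℤ)).obj Z)
      ((shiftFunctor D (-1 : ℤ)).obj Z') Z ((shiftFunctorCompIsoId D (-1 : ℤ) 1 (by omega)).app Z)
    exact ⟨_, _, _, _, g, h, hT, hs'⟩
  · rintro ⟨Z', X, Y, f, g, h, hT, hf⟩
    obtain ⟨c, hc⟩ : ∃ c : Z ⊞ Z' ⟶ (0 : D), S c := by
      obtain ⟨c, hc, -, -⟩ := MorphismProperty.compatible_with_triangulation (W := S) _ _ hT
        (contractible_distinguished Y) f (𝟙 Y) hf (S.id_mem Y)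
        (by show f ≫ 𝟙 Y = f ≫ 𝟙 Y; rfl)
      exact ⟨c, hc⟩
    have hci : IsIso (Q.map c) := Localization.inverts Q S _ hc
    have hW : IsZero (Q.obj (Z ⊞ Z')) := IsZero.of_iso hQ0 (asIso (Q.map c))
    exact isZero_of_retract_of_isZero (Q.map biprod.inl) (Q.map biprod.fst)
      (by rw [← Q.map_comp, biprod.inl_fst, Q.map_id]) hW

end Groth.Agent.S6603
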