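import Groth.Statements.S6606
import Groth.Agent.S1053
import Mathlib.Algebra.Homology.HomotopyCategory.HomologicalFunctor
import Mathlib.Algebra.Homology.HomotopyCategory.ShiftSequence
import Mathlib.CategoryTheory.Triangulated.HomologicalFunctor

set_option autoImplicit false
universe v u
open CategoryTheory CategoryTheory.Limits
open CohDer

namespace Groth.Agent.S6606

open CategoryTheory.Pretriangulated

/-- The homology of the mapping cone vanishes in degree `i` when `Hⁱ(α)` is epi and
`Hⁱ⁺¹(α)` is mono. -/
lemma isZero_homology_mappingCone {A : Type u} [Category.{v} A] [Abelian A]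
    {E L : CochainComplex A ℤ} (α : E ⟶ L) (i : ℤ)
    (h₁ : Epi (HomologicalComplex.homologyMap α i))
    (h₂ : Mono (HomologicalComplex.homologyMap α (i + 1))) :
    IsZero ((CochainComplex.mappingCone α).homology i) := by
  let F := HomotopyCategory.homologyFunctor A (ComplexShape.up ℤ) 0
  let T := CochainComplex.mappingCone.triangleh α
  have hT : T ∈ distTriang _ := HomotopyCategory.mappingCone_triangleh_distinguished α
  have e : ∀ j : ℤ, Arrow.mk ((F.shift j).map T.mor₁) ≅
      Arrow.mk (HomologicalComplex.homologyMap α j) := fun j =>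
    ((Functor.mapArrowFunctor _ _).mapIso
      (HomotopyCategory.homologyFunctorFactors A (ComplexShape.up ℤ) j)).app (Arrow.mk α)
  have h₁' : Epi ((F.shift i).map T.mor₁) :=
    ((MorphismProperty.epimorphisms A).arrow_mk_iso_iff (e i)).2 h₁
  have h₂' : Mono ((F.shift (i + 1)).map T.mor₁) :=
    ((MorphismProperty.monomorphisms A).arrow_mk_iso_iff (e (i + 1))).2 h₂
  have z₁ := (F.homologySequence_epi_shift_map_mor₁_iff T hT i).1 h₁'
  have z₂ := (F.homologySequence_mono_shift_map_mor₁_iff T hT i (i + 1) rfl).1 h₂'
  have hz : IsZero ((F.shift i).obj T.obj₃) :=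
    (F.homologySequence_exact₃ T hT i (i + 1) rfl).isZero_X₂_iff.2 ⟨z₁, z₂⟩
  exact hz.of_iso ((HomotopyCategory.homologyFunctorFactors A (ComplexShape.up ℤ) i).app
    (CochainComplex.mappingCone α)).symm

/-- Let A be an abelian category, β : P ⟶ L and α : E ⟶ L morphisms of cochain complexes and n an
integer. Assume P is a bounded complex of projective objects with Pⁱ = 0 for i < n, and that Hⁱ(α)
is an isomorphism for i > n and an epimorphism for i = n. Then there is γ : P ⟶ E such that γ ≫ α is
homotopic to β. -/
theorem result {A : Type u} [Category.{v} A] [Abelian A]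
    (P E L : CochainComplex A ℤ) (β : P ⟶ L) (α : E ⟶ L) (n b : ℤ) [P.IsStrictlyGE n] [P.IsStrictlyLE b]
    (hP : ∀ i : ℤ, Projective (P.X i))
    (hiso : ∀ i : ℤ, n < i → IsIso (HomologicalComplex.homologyMap α i)) (hepi : Epi (HomologicalComplex.homologyMap α n)) :
    ∃ γ : P ⟶ E, Nonempty (Homotopy (γ ≫ α) β) := by
  let _ := HasDerivedCategory.standard A
  have hC : ∀ i : ℤ, n ≤ i → IsZero ((CochainComplex.mappingCone α).homology i) := by
    intro i hi
    have := hiso (i + 1) (by lia)
    apply isZero_homology_mappingCone α i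
    · rcases hi.eq_or_lt with rfl | h
      · exact hepi
      · have := hiso i h
        infer_instance
    · infer_instance
  have hzero := (Groth.Agent.S1053.result P (CochainComplex.mappingCone α) n b hP hC).1
  let T := CochainComplex.mappingCone.triangleh α
  have hT : T ∈ distTriang _ := HomotopyCategory.mappingCone_triangleh_distinguished α
  obtain ⟨γ', hγ'⟩ : ∃ γ' : (HomotopyCategory.quotient A (ComplexShape.up ℤ)).obj P ⟶
      (HomotopyCategory.quotient A (ComplexShape.up ℤ)).obj E,
      (HomotopyCategory.quotient A (ComplexShape.up ℤ)).map β =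
        γ' ≫ (HomotopyCategory.quotient A (ComplexShape.up ℤ)).map α :=
    Triangle.coyoneda_exact₂ T hT ((HomotopyCategory.quotient A (ComplexShape.up ℤ)).map β)
      (hzero _)
  obtain ⟨γ, rfl⟩ := (HomotopyCategory.quotient A (ComplexShape.up ℤ)).map_surjective γ'
  refine ⟨γ, ⟨HomotopyCategory.homotopyOfEq _ _ ?_⟩⟩
  rw [Functor.map_comp, hγ']

end Groth.Agent.S6606
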