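import Groth.Statements.S6607
import Mathlib.CategoryTheory.Triangulated.Orthogonal

set_option autoImplicit false
universe v u
open CategoryTheory CategoryTheory.Limits
open CohDer

namespace Groth.Agent.S6607

open CategoryTheory.Pretriangulated ZeroObject

section

variable {D : Type u} [Category.{v} D] [Preadditive D] [HasZeroObject D] [HasShift D ℤ]
    [∀ n : ℤ, (shiftFunctor D n).Additive] [Pretriangulated D]

/-- The property of admitting a decomposition `A → X → Y` with `Y ∈ B`, `A ∈ ^⊥B`. -/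
def P (B : ObjectProperty D) : ObjectProperty D := fun X : D =>
  ∃ (A Y : D) (f : A ⟶ X) (g : X ⟶ Y) (h : Y ⟶ (shiftFunctor D (1 : ℤ)).obj A),
      Triangle.mk f g h ∈ distinguishedTriangles ∧ B Y ∧ B.leftOrthogonal A

variable (B : ObjectProperty D) [B.IsTriangulated]

lemma P_zero : ∃ Z : D, IsZero Z ∧ P B Z := by
  obtain ⟨Z, hZ, hBZ⟩ := ObjectProperty.ContainsZero.exists_zero (P := B)
  exact ⟨Z, hZ, 0, Z, 0, 𝟙 Z, 0, contractible_distinguished₁ Z, hBZ,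
    fun Y f _ => (isZero_zero D).eq_of_src _ _⟩

lemma P_shift (X : D) (n : ℤ) (hX : P B X) : P B (X⟦n⟧) := by
  obtain ⟨A, Y, f, g, h, hT, hY, hA⟩ := hX
  have := Triangle.shift_distinguished _ hT n
  exact ⟨A⟦n⟧, Y⟦n⟧, _, _, _, this, B.le_shift n _ hY, B.leftOrthogonal.le_shift n _ hA⟩

set_option backward.defeqAttrib.useBackward true in
lemma P_ext₃ [IsTriangulated D] {X₁ X₂ X₃ : D} (u : X₁ ⟶ X₂) (v : X₂ ⟶ X₃)
    (w : X₃ ⟶ X₁⟦(1 : ℤ)⟧) (hT : Triangle.mk u v w ∈ distTriang D)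
    (h₁ : P B X₁) (h₂ : P B X₂) : P B X₃ := by
  obtain ⟨A₁, Y₁, a₁, b₁, c₁, hT₁, hY₁, hA₁⟩ := h₁
  obtain ⟨A₂, Y₂, a₂, b₂, c₂, hT₂, hY₂, hA₂⟩ := h₂
  -- Step 0
  obtain ⟨β, hβ⟩ : ∃ β : Y₁ ⟶ Y₂, u ≫ b₂ = b₁ ≫ β :=
    Triangle.yoneda_exact₂ _ hT₁ (u ≫ b₂) (hA₁ _ hY₂)
  -- Step 1
  obtain ⟨Y₃, γ, ε, hT₃, hY₃⟩ : ∃ (Y₃ : D) (γ : Y₂ ⟶ Y₃) (ε : Y₃ ⟶ Y₁⟦(1 : ℤ)⟧),
      Triangle.mk β γ ε ∈ distTriang D ∧ B Y₃ := by
    obtain ⟨Y₃, γ, ε, h⟩ := distinguished_cocone_triangle β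
    obtain ⟨Y₃', hY₃', ⟨e⟩⟩ := B.ext_of_isTriangulatedClosed₃' _ h hY₁ hY₂
    refine ⟨Y₃', γ ≫ e.hom, e.inv ≫ ε, isomorphic_distinguished _ h _
      (Triangle.isoMk _ _ (Iso.refl _) (Iso.refl _) e.symm ?_ ?_ ?_), hY₃'⟩
    · simp
    · simp
    · simp
  -- Step 2
  obtain ⟨C, p, q, hC⟩ := distinguished_cocone_triangle (b₁ ≫ β)
  have oct₁ := Triangulated.someOctahedron hβ hT (rot_of_distTriang _ hT₂) hC
  have oct₂ := Triangulated.someOctahedron rfl (rot_of_distTriang _ hT₁) hT₃ hC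
  -- Step 3
  obtain ⟨A₃, f₃, h₃, hT₃'⟩ := distinguished_cocone_triangle₁ (oct₁.m₁ ≫ oct₂.m₃)
  have oct₃ := Triangulated.someOctahedron rfl oct₁.mem (rot_of_distTriang _ oct₂.mem)
    (rot_of_distTriang _ hT₃')
  have hA₃' : B.leftOrthogonal (A₃⟦(1 : ℤ)⟧) :=
    B.leftOrthogonal.ext_of_isTriangulatedClosed₂ _ oct₃.mem
      (B.leftOrthogonal.le_shift 1 _ hA₂)
      (B.leftOrthogonal.le_shift 1 _ (B.leftOrthogonal.le_shift 1 _ hA₁))
  have hA₃ : B.leftOrthogonal A₃ := by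
    intro Y f hY
    apply (shiftFunctor D (1 : ℤ)).map_injective
    rw [Functor.map_zero]
    exact hA₃' (f⟦1⟧') (B.le_shift 1 _ hY)
  exact ⟨A₃, Y₃, f₃, _, h₃, hT₃', hY₃, hA₃⟩

lemma P_ext₂ [IsTriangulated D] (T : Triangle D) (hT : T ∈ distTriang D)
    (h₁ : P B T.obj₁) (h₃ : P B T.obj₃) : P B T.obj₂ :=
  P_ext₃ B _ _ _ (inv_rot_of_distTriang _ hT) (P_shift B _ (-1) h₃) h₁

end

open CategoryTheory.Pretriangulated in
/-- Let D be a triangulated category and B a full triangulated subcategory. Let P(X) be the property: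
there is a distinguished triangle A → X → B → A⟦1⟧ with B in B and A in ^⊥B. Then P satisfies
two-out-of-three in distinguished triangles, i.e. it is stable under all shifts and closed under
extensions (a triangulated object property). -/
theorem result {D : Type u} [Category.{v} D] [Preadditive D] [HasZeroObject D] [HasShift D ℤ]
    [∀ n : ℤ, (shiftFunctor D n).Additive] [Pretriangulated D] [IsTriangulated D]
    (B : ObjectProperty D) [B.IsTriangulated] :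
    ObjectProperty.IsTriangulated (fun X : D => ∃ (A Y : D) (f : A ⟶ X) (g : X ⟶ Y) (h : Y ⟶ (shiftFunctor D (1 : ℤ)).obj A),
      Triangle.mk f g h ∈ distinguishedTriangles ∧ B Y ∧ B.leftOrthogonal A) := by
  change ObjectProperty.IsTriangulated (P B)
  exact
    { exists_zero := P_zero B
      isStableUnderShiftBy := fun n => ⟨fun X hX => P_shift B X n hX⟩
      ext₂' := fun T hT h₁ h₃ => ObjectProperty.le_isoClosure _ _ (P_ext₂ B T hT h₁ h₃) }

end Groth.Agent.S6607
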