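import Groth.Statements.S6611
import Mathlib.Algebra.Homology.DerivedCategory.KInjective

set_option autoImplicit false
universe v u
open CategoryTheory CategoryTheory.Limits
open CohDer

namespace Groth.Agent.S6611

open CochainComplex HomComplex DerivedCategory in
/-- Let A be an abelian category, α : K ⟶ L a quasi-isomorphism of cochain complexes which is injective
in every degree, I a bounded below complex of injective objects and γ : K ⟶ I a morphism. Then there
is a morphism β : L ⟶ I with α ≫ β = γ. -/
theorem result {A : Type u} [Category.{v} A] [Abelian A]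
    (K L I : CochainComplex A ℤ) (α : K ⟶ L) [QuasiIso α] (hα : ∀ n : ℤ, Mono (α.f n))
    (a : ℤ) [I.IsStrictlyGE a] (hI : ∀ n : ℤ, Injective (I.X n)) (γ : K ⟶ I) :
    ∃ β : L ⟶ I, α ≫ β = γ := by
  let _ := HasDerivedCategory.standard A
  have : ∀ n, Injective (I.X n) := hI
  have hKI : I.IsKInjective := isKInjective_of_injective I a
  -- Step 1: `β₁` with `α ≫ β₁` homotopic to `γ`
  have : IsIso (Q.map α) := by rw [isIso_Q_map_iff_quasiIso]; infer_instance
  obtain ⟨g, hg⟩ := (IsKInjective.Qh_map_bijective
    ((HomotopyCategory.quotient _ _).obj L) I).surjective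
    ((quotientCompQhIso A).hom.app L ≫ inv (Q.map α) ≫ Q.map γ ≫ (quotientCompQhIso A).inv.app I)
  obtain ⟨β₁, rfl⟩ := (HomotopyCategory.quotient _ _).map_surjective g
  have h₁ : (HomotopyCategory.quotient _ _).map γ =
      (HomotopyCategory.quotient _ _).map (α ≫ β₁) := by
    apply (IsKInjective.Qh_map_bijective _ I).injective
    rw [Functor.map_comp, Functor.map_comp, hg]
    have nat := (quotientCompQhIso A).hom.naturality α
    have nat' := (quotientCompQhIso A).hom.naturality γ
    dsimp at nat nat'
    rw [reassoc_of% nat, IsIso.hom_inv_id_assoc, ← reassoc_of% nat', Iso.hom_inv_id_app]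
    exact (Category.comp_id _).symm
  have H : Homotopy γ (α ≫ β₁) := HomotopyCategory.homotopyOfEq _ _ h₁
  have hδ : δ (-1) 0 (Cochain.ofHomotopy H) = Cochain.ofHom γ - Cochain.ofHom (α ≫ β₁) :=
    δ_ofHomotopy H
  generalize Cochain.ofHomotopy H = h at hδ
  -- Step 2: extend the homotopy termwise
  let h' : Cochain L I (-1) :=
    Cochain.mk (fun p q hpq => Injective.factorThru (h.v p q hpq) (α.f p))
  have hh' : (Cochain.ofHom α).comp h' (zero_add (-1)) = h := by
    ext p q hpq
    simp only [Cochain.zero_cochain_comp_v, Cochain.ofHom_v, h', Cochain.mk_v,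
      Injective.comp_factorThru]
  -- Step 3
  let z : Cocycle L I 0 := Cocycle.mk (Cochain.ofHom β₁ + δ (-1) 0 h') 1 (zero_add 1)
    (by simp only [δ_add, δ_ofHom, δ_δ, add_zero])
  refine ⟨Cocycle.homOf z, ?_⟩
  apply Cochain.ofHom_injective
  rw [Cochain.ofHom_comp, Cocycle.cochain_ofHom_homOf_eq_coe]
  simp only [z, Cocycle.mk_coe, Cochain.comp_add, ← δ_ofHom_comp, hh', hδ,
    ← Cochain.ofHom_comp]
  abel

end Groth.Agent.S6611
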