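import Groth.Statements.S6612
import Mathlib.Algebra.Homology.HomotopyCategory.HomComplex

set_option autoImplicit false
universe v u
open CategoryTheory CategoryTheory.Limits
open CohDer

namespace Groth.Agent.S6612

open CochainComplex HomComplex in
/-- Let A be an additive category and 0 → A₂ → B₂ → C₂ → 0 a termwise split exact sequence of complexes.
Given a chain map b from a complex B₁ into B₂ and a chain map b' from B₂ into a complex B₃, suppose
that both composites b ≫ (B₂ → C₂) and (A₂ → B₂) ≫ b' are null-homotopic. Then b ≫ b' is homotopic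
to zero. (The published statement has three termwise split sequences Aᵢ → Bᵢ → Cᵢ and asks both
squares of each diagram to commute up to homotopy; this row keeps only the middle sequence and the
two conditions at B₂ that the argument uses, so it is more general.) -/
theorem result {V : Type u} [Category.{v} V] [Preadditive V] [HasBinaryBiproducts V]
    (S : ShortComplex (CochainComplex V ℤ))
    (σ : ∀ n : ℤ, (S.map (HomologicalComplex.eval V (ComplexShape.up ℤ) n)).Splitting)
    {B₁ B₃ : CochainComplex V ℤ} (b : B₁ ⟶ S.X₂) (b' : S.X₂ ⟶ B₃)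
    (hb : Nonempty (Homotopy (b ≫ S.g) 0)) (hb' : Nonempty (Homotopy (S.f ≫ b') 0)) :
    Nonempty (Homotopy (b ≫ b') 0) := by
  obtain ⟨H⟩ := hb
  obtain ⟨H'⟩ := hb'
  have hα : δ (-1) 0 (Cochain.ofHomotopy H) = Cochain.ofHom (b ≫ S.g) := by
    rw [δ_ofHomotopy, Cochain.ofHom_zero, sub_zero]
  have hα' : δ (-1) 0 (Cochain.ofHomotopy H') = Cochain.ofHom (S.f ≫ b') := by
    rw [δ_ofHomotopy, Cochain.ofHom_zero, sub_zero]
  generalize Cochain.ofHomotopy H = α at hα
  generalize Cochain.ofHomotopy H' = α' at hα'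
  let r : Cochain S.X₂ S.X₁ 0 := Cochain.ofHoms (fun n => (σ n).r)
  let s : Cochain S.X₃ S.X₂ 0 := Cochain.ofHoms (fun n => (σ n).s)
  have hfr : (Cochain.ofHom S.f).comp r (add_zero 0) = Cochain.ofHom (𝟙 _) := by
    ext n
    simp only [Cochain.comp_zero_cochain_v, Cochain.ofHom_v, HomologicalComplex.id_f, r,
      Cochain.ofHoms_v]
    exact (σ n).f_r
  have hsg : s.comp (Cochain.ofHom S.g) (add_zero 0) = Cochain.ofHom (𝟙 _) := by
    ext n
    simp only [Cochain.comp_zero_cochain_v, Cochain.ofHom_v, HomologicalComplex.id_f, s,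
      Cochain.ofHoms_v]
    exact (σ n).s_g
  have hid : r.comp (Cochain.ofHom S.f) (add_zero 0) + (Cochain.ofHom S.g).comp s (add_zero 0)
      = Cochain.ofHom (𝟙 _) := by
    ext n
    simp only [Cochain.add_v, Cochain.comp_zero_cochain_v, Cochain.ofHom_v,
      HomologicalComplex.id_f, r, s, Cochain.ofHoms_v]
    exact (σ n).id
  let β : Cochain B₁ S.X₂ (-1) := α.comp s (add_zero (-1))
  let c : Cochain B₁ S.X₂ 0 := Cochain.ofHom b - δ (-1) 0 β
  have hc : δ 0 1 c = 0 := by
    simp only [c, δ_sub, δ_ofHom, δ_δ, sub_zero]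
  have hβg : β.comp (Cochain.ofHom S.g) (add_zero (-1)) = α := by
    simp only [β, Cochain.comp_assoc_of_second_is_zero_cochain, hsg, Cochain.comp_id]
  have hcg : c.comp (Cochain.ofHom S.g) (add_zero 0) = 0 := by
    simp only [c, Cochain.sub_comp, ← Cochain.ofHom_comp, ← δ_comp_ofHom, hβg, hα, sub_self]
  let a : Cochain B₁ S.X₁ 0 := c.comp r (add_zero 0)
  have haf : a.comp (Cochain.ofHom S.f) (add_zero 0) = c := by
    have h1 : c.comp (r.comp (Cochain.ofHom S.f) (add_zero 0) +
        (Cochain.ofHom S.g).comp s (add_zero 0)) (add_zero 0) = c := by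
      rw [hid, Cochain.comp_id]
    rw [Cochain.comp_add, ← Cochain.comp_assoc_of_second_is_zero_cochain,
      ← Cochain.comp_assoc_of_second_is_zero_cochain, hcg, Cochain.zero_comp, add_zero] at h1
    exact h1
  have ha : δ 0 1 a = 0 := by
    have h1 : (δ 0 1 a).comp (Cochain.ofHom S.f) (add_zero 1) = 0 := by
      rw [← δ_comp_ofHom, haf, hc]
    have h2 : ((δ 0 1 a).comp (Cochain.ofHom S.f) (add_zero 1)).comp r (add_zero 1) = δ 0 1 a := by
      rw [Cochain.comp_assoc_of_second_is_zero_cochain, hfr, Cochain.comp_id]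
    rw [← h2, h1, Cochain.zero_comp]
  refine ⟨(Cochain.equivHomotopy _ _).symm ⟨a.comp α' (zero_add (-1)) +
    β.comp (Cochain.ofHom b') (add_zero (-1)), ?_⟩⟩
  rw [δ_add, δ_comp_ofHom, δ_zero_cochain_comp _ _ _ (neg_add_cancel 1), ha, Cochain.zero_comp,
    smul_zero, add_zero, hα', Cochain.ofHom_comp S.f b',
    ← Cochain.comp_assoc_of_second_is_zero_cochain,
    haf, ← Cochain.add_comp, Cochain.ofHom_zero, add_zero, Cochain.ofHom_comp b b']
  simp only [c, sub_add_cancel]

end Groth.Agent.S6612
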