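import Groth.Statements.S6614

set_option autoImplicit false
universe v u
open CategoryTheory CategoryTheory.Limits Opposite
open CohDer

namespace Groth.Agent.S6614

section
open CategoryTheory.Pretriangulated

variable {D : Type u} [Category.{v} D] [Preadditive D] [HasZeroObject D] [HasShift D ℤ]
    [∀ n : ℤ, (shiftFunctor D n).Additive] [Pretriangulated D]

/-- A split monomorphism `c : A ⟶ X` with retraction `s` in a pretriangulated category gives a
decomposition `X ≅ A ⊞ Z` compatible with both `c` and `s`. -/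
lemma exists_decomp {A X : D} (c : A ⟶ X) (s : X ⟶ A) (hcs : c ≫ s = 𝟙 A) :
    ∃ (Z : D) (e : X ≅ A ⊞ Z), c ≫ e.hom = biprod.inl ∧ e.hom ≫ biprod.fst = s := by
  obtain ⟨Z, q, δ, hT⟩ := distinguished_cocone_triangle c
  have hδ : δ = 0 := by
    have h1 : δ ≫ (shiftFunctor D (1 : ℤ)).map c = 0 := comp_distTriang_mor_zero₃₁ _ hT
    have h2 : δ = δ ≫ (shiftFunctor D (1 : ℤ)).map c ≫ (shiftFunctor D (1 : ℤ)).map s := by
      rw [← Functor.map_comp, hcs, CategoryTheory.Functor.map_id, Category.comp_id]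
    rw [h2, ← Category.assoc, h1, zero_comp]
  obtain ⟨e, he₁, he₂⟩ : ∃ (e : X ≅ A ⊞ Z), c ≫ e.hom = biprod.inl ∧ q = e.hom ≫ biprod.snd :=
    exists_iso_binaryBiproduct_of_distTriang _ hT hδ
  have hcq : c ≫ q = 0 := comp_distTriang_mor_zero₁₂ _ hT
  have hc' : biprod.inl ≫ e.inv = c := by rw [← he₁, Category.assoc, e.hom_inv_id, Category.comp_id]
  let σ₀ : Z ⟶ X := biprod.inr ≫ e.inv
  have hσ₀ : σ₀ ≫ q = 𝟙 Z := by
    simp only [σ₀, he₂, Category.assoc, e.inv_hom_id_assoc, biprod.inr_snd]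
  have hqσ₀ : q ≫ σ₀ = 𝟙 X - (e.hom ≫ biprod.fst) ≫ c := by
    rw [← cancel_epi e.inv, ← cancel_mono e.hom]
    apply biprod.hom_ext' <;> apply biprod.hom_ext <;>
      simp [σ₀, he₂, ← hc', Preadditive.comp_sub, Preadditive.sub_comp]
  let σ : Z ⟶ X := σ₀ ≫ (𝟙 X - s ≫ c)
  have hσs : σ ≫ s = 0 := by
    simp only [σ, Category.assoc, Preadditive.sub_comp, Category.id_comp, hcs, Category.comp_id,
      sub_self, comp_zero]
  have hσq : σ ≫ q = 𝟙 Z := by
    simp only [σ, Category.assoc, Preadditive.sub_comp, Category.id_comp, hcq, comp_zero,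
      sub_zero, hσ₀]
  refine ⟨Z, ⟨biprod.lift s q, biprod.desc c σ, ?_, ?_⟩, ?_, ?_⟩
  · -- s ≫ c + q ≫ σ = 𝟙
    rw [biprod.lift_desc]
    have : q ≫ σ = 𝟙 X - s ≫ c := by
      simp only [σ, ← Category.assoc, hqσ₀]
      simp only [Preadditive.sub_comp, Preadditive.comp_sub, Category.id_comp, Category.comp_id,
        Category.assoc, reassoc_of% hcs]
      abel
    rw [this]; abel
  · apply biprod.hom_ext' <;> apply biprod.hom_ext <;> simp [hcs, hcq, hσs, hσq]
  · apply biprod.hom_ext <;> simp [hcs, hcq]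
  · simp

end

/-- Let D be a triangulated category and (A_n) an ℕ-indexed inverse system of D which is essentially
constant with value A relative to the cone c. Then there are an index i and direct sum
decompositions A_{i+j} ≅ A ⊞ Z_j (j ≥ 0) such that (a) c_{i+j} is the inclusion of the summand A and
the transition maps A_{i+k} → A_{i+j} are 𝟙_A ⊕ (Z_k → Z_j), and (b) for every j there is k ≥ j with
Z_k → Z_j zero. (The published statement is an equivalence whose converse is given without proof;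
this row states only the forward implication.) -/
theorem result {D : Type u} [Category.{v} D] [Preadditive D] [HasZeroObject D] [HasShift D ℤ]
    [∀ n : ℤ, (shiftFunctor D n).Additive] [Pretriangulated D] [IsTriangulated D]
    (X : ARSys.PS D) (A : D) (c : (Functor.const ℕᵒᵖ).obj A ⟶ X) (hX : DerCA.IsEssConstant X A c) :
    ∃ (i : ℕ) (Z : ℕ → D) (e : ∀ j : ℕ, X.obj (op (i + j)) ≅ A ⊞ Z j) (z : ∀ j k : ℕ, j ≤ k → (Z k ⟶ Z j)),
      (∀ j : ℕ, c.app (op (i + j)) ≫ (e j).hom = biprod.inl) ∧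
      (∀ (j k : ℕ) (hjk : j ≤ k), (e k).inv ≫ ARSys.tr X (Nat.add_le_add_left hjk i) = biprod.map (𝟙 A) (z j k hjk) ≫ (e j).inv) ∧
      (∀ j : ℕ, ∃ (k : ℕ) (hjk : j ≤ k), z j k hjk = 0) := by
  obtain ⟨i, s, hs, hX⟩ := hX
  have hc : ∀ {n m : ℕ} (h : n ≤ m), c.app (op m) ≫ ARSys.tr X h = c.app (op n) := by
    intro n m h
    have := c.naturality (homOfLE h).op
    simpa using this.symm
  have htr : ∀ {n m l : ℕ} (h₁ : n ≤ m) (h₂ : m ≤ l),
      ARSys.tr X h₂ ≫ ARSys.tr X h₁ = ARSys.tr X (h₁.trans h₂) := by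
    intro n m l h₁ h₂
    rw [← X.map_comp]
    rfl
  let sj : ∀ j, X.obj (op (i + j)) ⟶ A := fun j => ARSys.tr X (Nat.le_add_right i j) ≫ s
  have hsj : ∀ j, c.app (op (i + j)) ≫ sj j = 𝟙 A := fun j => by
    simp only [sj]
    rw [← Category.assoc, hc, hs]
  have hsjk : ∀ (j k : ℕ) (h : j ≤ k), ARSys.tr X (Nat.add_le_add_left h i) ≫ sj j = sj k := by
    intro j k h
    simp only [sj]
    rw [← Category.assoc, htr]
  have H := fun j => exists_decomp (A := A) (X := X.obj (op (i + j))) (c.app (op (i + j))) (sj j) (hsj j)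
  choose Z e he₁ he₂ using H
  have hc' : ∀ j, biprod.inl ≫ (e j).inv = c.app (op (i + j)) := fun j => by
    rw [← he₁ j, Category.assoc, (e j).hom_inv_id, Category.comp_id]
  refine ⟨i, Z, e, fun j k h => biprod.inr ≫ (e k).inv ≫
    ARSys.tr X (Nat.add_le_add_left h i) ≫ (e j).hom ≫ biprod.snd, he₁, ?_, ?_⟩
  · intro j k hjk
    rw [← cancel_mono (e j).hom, Category.assoc, Category.assoc, Iso.inv_hom_id, Category.comp_id]
    apply biprod.hom_ext'
    · rw [biprod.inl_map, Category.id_comp, ← Category.assoc, hc' k, ← Category.assoc, hc, he₁]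
    · rw [biprod.inr_map]
      apply biprod.hom_ext
      · simp only [Category.assoc, biprod.inr_fst, comp_zero]
        rw [he₂ j, hsjk j k hjk, ← he₂ k, Iso.inv_hom_id_assoc, biprod.inr_fst]
      · simp only [Category.assoc, biprod.inr_snd, Category.comp_id]
  · intro j
    obtain ⟨k', hi, hj, hk'⟩ := hX (i + j)
    obtain ⟨k, rfl⟩ : ∃ k, k' = i + k := ⟨k' - i, by omega⟩
    refine ⟨k, by omega, ?_⟩
    have h1 : ARSys.tr X (Nat.add_le_add_left (show j ≤ k by omega) i) =
        sj k ≫ c.app (op (i + j)) := by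
      simp only [sj, Category.assoc]
      exact hk'
    show biprod.inr ≫ (e k).inv ≫ ARSys.tr X (Nat.add_le_add_left (show j ≤ k by omega) i) ≫
      (e j).hom ≫ biprod.snd = 0
    rw [h1, ← he₂ k]
    simp only [Category.assoc, Iso.inv_hom_id_assoc, biprod.inr_fst_assoc, zero_comp]

end Groth.Agent.S6614
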