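import Groth.Statements.S6617
import Groth.Agent.S6598

set_option autoImplicit false
universe v u
open CategoryTheory CategoryTheory.Limits
open CohDer

namespace Groth.Agent.S6617

/-- Let A be an additive category and A₀ → A₁ → A₂ → … a sequence of composable morphisms of complexes.
There are complexes Bᵢ, homotopy equivalences Bᵢ ⟶ Aᵢ and termwise split injections Bᵢ ⟶ Bᵢ₊₁
forming a commutative ladder over the given sequence. Moreover if all Aᵢ are bounded below, resp.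
bounded above, then the Bᵢ may be chosen bounded below, resp. bounded above. (The published
statement is for finite sequences A₁ → … → A_n; this row takes a sequence indexed by ℕ, built by the
same step-by-step construction.) -/
theorem result {V : Type u} [Category.{v} V] [Preadditive V] [HasBinaryBiproducts V] [HasZeroObject V]
    (X : ℕ → CochainComplex V ℤ) (a : ∀ i, X i ⟶ X (i + 1)) :
    ∃ (B : ℕ → CochainComplex V ℤ) (b : ∀ i, B i ⟶ B (i + 1)) (e : ∀ i, HomotopyEquiv (B i) (X i)),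
      (∀ i, b i ≫ (e (i + 1)).hom = (e i).hom ≫ a i) ∧
      (∀ (i : ℕ) (n : ℤ), ∃ (C : V) (ε : (B (i + 1)).X n ≅ (B i).X n ⊞ C), (b i).f n ≫ ε.hom = biprod.inl) ∧
      ((∀ i, ∃ m : ℤ, (X i).IsStrictlyGE m) → ∀ i, ∃ m : ℤ, (B i).IsStrictlyGE m) ∧
      ((∀ i, ∃ m : ℤ, (X i).IsStrictlyLE m) → ∀ i, ∃ m : ℤ, (B i).IsStrictlyLE m) := by
  have H : ∀ (i : ℕ) (p : Σ B : CochainComplex V ℤ, HomotopyEquiv B (X i)),
      ∃ (L' : CochainComplex V ℤ) (α' : p.1 ⟶ L') (π : L' ⟶ X (i + 1)) (s : X (i + 1) ⟶ L'),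
      α' ≫ π = p.2.hom ≫ a i ∧ s ≫ π = 𝟙 _ ∧ Nonempty (Homotopy (π ≫ s) (𝟙 L')) ∧
      (∀ n : ℤ, ∃ (C : V) (e : L'.X n ≅ p.1.X n ⊞ C), α'.f n ≫ e.hom = biprod.inl) ∧
      (∀ a : ℤ, p.1.IsStrictlyGE a → (X (i + 1)).IsStrictlyGE a → ∃ a' : ℤ, L'.IsStrictlyGE a') ∧
      (∀ a : ℤ, p.1.IsStrictlyLE a → (X (i + 1)).IsStrictlyLE a → ∃ a' : ℤ, L'.IsStrictlyLE a') :=
    fun i p => Groth.Agent.S6598.result p.1 (X (i + 1)) (p.2.hom ≫ a i)
  choose L' α' π s h1 h2 h3 h4 h5 h6 using H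
  let step : ∀ i : ℕ, (Σ B : CochainComplex V ℤ, HomotopyEquiv B (X i)) →
      (Σ B : CochainComplex V ℤ, HomotopyEquiv B (X (i + 1))) := fun i p =>
    ⟨L' i p, { hom := π i p, inv := s i p, homotopyHomInvId := (h3 i p).some,
               homotopyInvHomId := Homotopy.ofEq (h2 i p) }⟩
  let seq : ∀ i : ℕ, (Σ B : CochainComplex V ℤ, HomotopyEquiv B (X i)) :=
    fun i => Nat.rec (motive := fun i => Σ B : CochainComplex V ℤ, HomotopyEquiv B (X i))
      ⟨X 0, HomotopyEquiv.refl _⟩ (fun i p => step i p) i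
  refine ⟨fun i => (seq i).1, fun i => α' i (seq i), fun i => (seq i).2, ?_, ?_, ?_, ?_⟩
  · intro i
    exact h1 i (seq i)
  · intro i n
    exact h4 i (seq i) n
  · intro hX i
    induction i with
    | zero => exact hX 0
    | succ i ih =>
      obtain ⟨m₁, hm₁⟩ := ih
      obtain ⟨m₂, hm₂⟩ := hX (i + 1)
      exact h5 i (seq i) (min m₁ m₂)
        ((seq i).1.isStrictlyGE_of_ge (min m₁ m₂) m₁ (min_le_left _ _))
        ((X (i + 1)).isStrictlyGE_of_ge (min m₁ m₂) m₂ (min_le_right _ _))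
  · intro hX i
    induction i with
    | zero => exact hX 0
    | succ i ih =>
      obtain ⟨m₁, hm₁⟩ := ih
      obtain ⟨m₂, hm₂⟩ := hX (i + 1)
      exact h6 i (seq i) (max m₁ m₂)
        ((seq i).1.isStrictlyLE_of_le m₁ (max m₁ m₂) (le_max_left _ _))
        ((X (i + 1)).isStrictlyLE_of_le m₂ (max m₁ m₂) (le_max_right _ _))

end Groth.Agent.S6617
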