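import Groth.Statements.S6620
import Mathlib

set_option autoImplicit false
universe w w' v v' u u'
open CategoryTheory CategoryTheory.Limits
open CohDer

namespace Groth.Agent.S6620

/-- Part (1): in the case where A has enough injectives (so that RF is defined on all of D⁺(A)): let F :
A ⥤ B be an additive functor between abelian categories, A with enough injectives, and K ∈ D⁺(A)
with Hⁱ(K) = 0 for i < a. Then Hⁱ(RF(K)) = 0 for i < a. -/
theorem result {A : Type u} [Category.{v} A] [Abelian A] [HasDerivedCategory.{w} A] [EnoughInjectives A]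
    {B : Type u'} [Category.{v'} B] [Abelian B] [HasDerivedCategory.{w'} B]
    (F : A ⥤ B) [F.Additive] (K : DerivedCategory.Plus A) (a : ℤ) [K.IsGE a] :
    (F.rightDerivedFunctorPlus.obj K).IsGE a := by
  obtain ⟨L, hL, ⟨e⟩⟩ := DerivedCategory.Plus.exists_injective_nonempty_iso K a
  let L' : CochainComplex.Plus A := (InjectiveObject.ι A).mapCochainComplexPlus.obj L
  haveI : IsIso (F.rightDerivedFunctorPlusUnit.app ((HomotopyCategory.Plus.quotient A).obj L')) :=
    inferInstance
  let e' : F.rightDerivedFunctorPlus.obj K ≅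
      DerivedCategory.Plus.Qh.obj (F.mapHomotopyCategoryPlus.obj ((HomotopyCategory.Plus.quotient A).obj L')) :=
    F.rightDerivedFunctorPlus.mapIso e.symm ≪≫
      (asIso (F.rightDerivedFunctorPlusUnit.app ((HomotopyCategory.Plus.quotient A).obj L'))).symm
  haveI : L'.obj.IsStrictlyGE a := by
    change CochainComplex.IsStrictlyGE (((InjectiveObject.ι A).mapHomologicalComplex _).obj L.obj) a
    infer_instance
  haveI : CochainComplex.IsStrictlyGE ((F.mapHomologicalComplex (ComplexShape.up ℤ)).obj L'.obj) a := inferInstance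
  have h1 : (DerivedCategory.Q.obj ((F.mapHomologicalComplex (ComplexShape.up ℤ)).obj L'.obj)).IsGE a := by
    rw [DerivedCategory.isGE_Q_obj_iff]
    infer_instance
  have h2 : (DerivedCategory.Plus.Qh.obj (F.mapHomotopyCategoryPlus.obj
      ((HomotopyCategory.Plus.quotient A).obj L'))).IsGE a :=
    (DerivedCategory.Plus.isGE_ι_obj_iff _ a).1 h1
  exact DerivedCategory.Plus.TStructure.t.isGE_of_iso e'.symm a

end Groth.Agent.S6620
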