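import Groth.Statements.S6621
import Mathlib.CategoryTheory.Localization.Triangulated

set_option autoImplicit false
universe v u v' u'
open CategoryTheory CategoryTheory.Limits
open CohDer

namespace Groth.Agent.S6621

open CategoryTheory.Pretriangulated in
/-- Let D be a triangulated category, S a multiplicative system compatible with the triangulated
structure, Q : D → S⁻¹D the localization and B(S) = Ker(Q) the full subcategory of objects Z with
Q(Z) = 0. Then the multiplicative system S(B(S)) attached to B(S) (morphisms whose cone lies in B(S)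
up to isomorphism) consists exactly of the morphisms f such that Q(f) is an isomorphism, i.e. it is
the saturation of S. -/
theorem result {D : Type u} [Category.{v} D] [Preadditive D] [HasZeroObject D] [HasShift D ℤ]
    [∀ n : ℤ, (shiftFunctor D n).Additive] [Pretriangulated D] [IsTriangulated D]
    (S : MorphismProperty D) [S.HasLeftCalculusOfFractions] [S.HasRightCalculusOfFractions] [S.IsCompatibleWithTriangulation]
    {E : Type u'} [Category.{v'} E] (Q : D ⥤ E) [Q.IsLocalization S] {X Y : D} (f : X ⟶ Y) :
    ObjectProperty.trW (fun Z : D => IsZero (Q.obj Z)) f ↔ IsIso (Q.map f) := by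
  -- reduce to the canonical localization
  let eq := Localization.uniq S.Q Q S
  let e : S.Q ⋙ eq.functor ≅ Q := Localization.compUniqFunctor S.Q Q S
  have hiso : IsIso (Q.map f) ↔ IsIso (S.Q.map f) :=
    (NatIso.isIso_map_iff e f).symm.trans (isIso_iff_of_reflects_iso (S.Q.map f) eq.functor)
  have hzero : ∀ Z : D, IsZero (Q.obj Z) ↔ IsZero (S.Q.obj Z) := by
    intro Z
    rw [← (e.app Z).isZero_iff]
    constructor
    · intro h
      exact IsZero.of_full_of_faithful_of_isZero eq.functor _ h
    · intro h
      refine IsZero.of_full_of_faithful_of_isZero eq.inverse _ ?_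
      exact h.of_iso (eq.unitIso.app _).symm
  have key : ∀ (Z : D) (g : Y ⟶ Z) (h : Z ⟶ X⟦(1 : ℤ)⟧), Triangle.mk f g h ∈ distTriang D →
      (IsZero (S.Q.obj Z) ↔ IsIso (S.Q.map f)) := by
    intro Z g h hT
    exact Triangle.isZero₃_iff_isIso₁ _ (S.Q.map_distinguished _ hT)
  constructor
  · rintro ⟨Z, g, h, hT, hZ⟩
    exact hiso.2 ((key Z g h hT).1 ((hzero Z).1 hZ))
  · intro hf
    obtain ⟨Z, g, h, hT⟩ := distinguished_cocone_triangle f
    exact ⟨Z, g, h, hT, (hzero Z).2 ((key Z g h hT).2 (hiso.1 hf))⟩

end Groth.Agent.S6621
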