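import Groth.Statements.S6622
import Mathlib.Algebra.Homology.HomotopyCategory.Plus

set_option autoImplicit false
universe v u
open CategoryTheory CategoryTheory.Limits
open CohDer

namespace Groth.Agent.S6622

open CategoryTheory.Pretriangulated HomotopyCategory ZeroObject

section

variable {V : Type u} [Category.{v} V] [Preadditive V] [HasZeroObject V] [HasBinaryBiproducts V]

set_option backward.defeqAttrib.useBackward true in
set_option backward.isDefEq.respectTransparency false in
/-- A property of cochain complexes containing zero, stable under shifts and mapping cones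
defines a triangulated subcategory of the homotopy category. -/
theorem isTriangulated_of (φ : CochainComplex V ℤ → Prop) (h0 : φ 0)
    (hshift : ∀ (K : CochainComplex V ℤ) (n : ℤ), φ K → φ (K⟦n⟧))
    (hcone : ∀ {K L : CochainComplex V ℤ} (f : K ⟶ L), φ K → φ L →
      φ (CochainComplex.mappingCone f)) :
    ObjectProperty.IsTriangulated
      (fun K : HomotopyCategory V (ComplexShape.up ℤ) => φ K.as) := by
  have hzero : ObjectProperty.ContainsZero
      (fun K : HomotopyCategory V (ComplexShape.up ℤ) => φ K.as) :=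
    ⟨⟨(HomotopyCategory.quotient _ _).obj 0, Functor.map_isZero _ (isZero_zero _), h0⟩⟩
  have hs : ObjectProperty.IsStableUnderShift
      (fun K : HomotopyCategory V (ComplexShape.up ℤ) => φ K.as) ℤ :=
    { isStableUnderShiftBy := fun n =>
        { le_shift := fun K hK => by
            obtain ⟨K : CochainComplex _ _, rfl⟩ := K.quotient_obj_surjective
            rw [ObjectProperty.prop_shift_iff, shift_quotient_obj]
            exact hshift K n hK } }
  have h3 : ObjectProperty.IsTriangulatedClosed₃
      (fun K : HomotopyCategory V (ComplexShape.up ℤ) => φ K.as) :=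
    { ext₃' := fun T hT h₁ h₂ => by
        obtain ⟨f : T.obj₁.as ⟶ T.obj₂.as, hf⟩ := (quotient _ _).map_surjective T.mor₁
        refine ⟨_, ?_,
          ⟨Triangle.π₃.mapIso (isoTriangleOfIso₁₂ T _ hT (mappingCone_triangleh_distinguished f)
            (Iso.refl _) (Iso.refl _) ?_)⟩⟩
        · exact hcone f h₁ h₂
        · simp [hf] }
  exact { toContainsZero := hzero, toIsStableUnderShift := hs,
          toIsTriangulatedClosed₂ := .of_isTriangulatedClosed₃ }

omit [HasZeroObject V] in
lemma isStrictlyLE_mappingCone {K L : CochainComplex V ℤ} (f : K ⟶ L)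
    (n₁ n₂ n : ℤ) [K.IsStrictlyLE n₁] [L.IsStrictlyLE n₂] (hn₁ : n₁ ≤ n) (hn₂ : n₂ ≤ n) :
    (CochainComplex.mappingCone f).IsStrictlyLE n := by
  rw [CochainComplex.isStrictlyLE_iff]
  intro i hi
  simp only [CochainComplex.mappingCone.isZero_X_iff]
  exact ⟨K.isZero_of_isStrictlyLE n₁ _ (by lia), L.isZero_of_isStrictlyLE n₂ _ (by lia)⟩

end

/-- Let A be an additive category. The full subcategories K⁻(A) (complexes K with Kⁿ = 0 for n ≫ 0) and
Kᵇ(A) (Kⁿ = 0 for |n| ≫ 0) of the homotopy category K(A) are full triangulated subcategories. -/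
theorem result {V : Type u} [Category.{v} V] [Preadditive V] [HasZeroObject V] [HasBinaryBiproducts V] :
    (ObjectProperty.IsTriangulated (fun K : HomotopyCategory V (ComplexShape.up ℤ) => ∃ n : ℤ, CochainComplex.IsStrictlyLE K.as n)) ∧
    (ObjectProperty.IsTriangulated (fun K : HomotopyCategory V (ComplexShape.up ℤ) =>
      ∃ a b : ℤ, CochainComplex.IsStrictlyGE K.as a ∧ CochainComplex.IsStrictlyLE K.as b)) := by
  constructor
  · refine isTriangulated_of (fun K => ∃ n : ℤ, CochainComplex.IsStrictlyLE K n) ⟨0, inferInstance⟩ ?_ ?_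
    · rintro K n ⟨q, _⟩
      exact ⟨q - n, K.isStrictlyLE_shift q n (q - n) (by lia)⟩
    · rintro K L f ⟨n₁, _⟩ ⟨n₂, _⟩
      exact ⟨max n₁ n₂, isStrictlyLE_mappingCone f n₁ n₂ _ (le_max_left _ _) (le_max_right _ _)⟩
  · refine isTriangulated_of (fun K => ∃ a b : ℤ, CochainComplex.IsStrictlyGE K a ∧
      CochainComplex.IsStrictlyLE K b) ⟨0, 0, inferInstance, inferInstance⟩ ?_ ?_
    · rintro K n ⟨a, b, _, _⟩
      exact ⟨a - n, b - n, K.isStrictlyGE_shift a n (a - n) (by lia),
        K.isStrictlyLE_shift b n (b - n) (by lia)⟩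
    · rintro K L f ⟨a₁, b₁, _, _⟩ ⟨a₂, b₂, _, _⟩
      exact ⟨min (a₁ - 1) a₂, max b₁ b₂,
        CochainComplex.isStrictlyGE_mappingCone f a₁ a₂ _ (by simp) (by simp),
        isStrictlyLE_mappingCone f b₁ b₂ _ (le_max_left _ _) (le_max_right _ _)⟩

end Groth.Agent.S6622
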