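import Groth.Statements.S6623

set_option autoImplicit false
set_option linter.unusedSectionVars false
set_option linter.unusedVariables false
universe v u
open CategoryTheory CategoryTheory.Limits
open CohDer

namespace Groth.Agent.S6623

section
open CategoryTheory.Pretriangulated
variable {D : Type u} [Category.{v} D] [Preadditive D] [HasZeroObject D] [HasShift D ℤ]
    [∀ n : ℤ, (shiftFunctor D n).Additive] [Pretriangulated D] [IsTriangulated D]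

/-- `Hom(W⟦m⟧, Z) = 0` implies `Hom(W⟦m+1⟧, Z⟦1⟧) = 0`. -/
lemma vanish_shift {W Z : D} (m m' : ℤ) (hm : m + 1 = m')
    (hv : ∀ ψ : (shiftFunctor D m).obj W ⟶ Z, ψ = 0) :
    ∀ ψ : (shiftFunctor D m').obj W ⟶ (shiftFunctor D (1 : ℤ)).obj Z, ψ = 0 := by
  intro ψ
  let e := (shiftFunctorAdd' D m 1 m' hm).app W
  obtain ⟨g, hg⟩ := (shiftFunctor D (1 : ℤ)).map_surjective (e.inv ≫ ψ)
  rw [hv g, Functor.map_zero] at hg
  rw [← cancel_epi e.inv, ← hg, comp_zero]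

/-- `Hom(W, Z⟦m⟧) = 0` implies `Hom(W⟦1⟧, Z⟦m+1⟧) = 0`. -/
lemma vanish_shift' {W Z : D} (m m' : ℤ) (hm : m + 1 = m')
    (hv : ∀ ψ : W ⟶ (shiftFunctor D m).obj Z, ψ = 0) :
    ∀ ψ : (shiftFunctor D (1 : ℤ)).obj W ⟶ (shiftFunctor D m').obj Z, ψ = 0 := by
  intro ψ
  let e := (shiftFunctorAdd' D m 1 m' hm).app Z
  obtain ⟨g, hg⟩ := (shiftFunctor D (1 : ℤ)).map_surjective (ψ ≫ e.hom)
  rw [hv g, Functor.map_zero] at hg
  rw [← cancel_mono e.hom, ← hg, zero_comp]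

lemma transport_src (X : ChainComplex D ℕ) {i₁ i₂ : ℕ} (e : i₁ = i₂) {m₁ m₂ : ℤ} (e' : m₁ = m₂)
    {Z : D} (h : ∀ ψ : (shiftFunctor D m₁).obj (X.X i₁) ⟶ Z, ψ = 0) :
    ∀ ψ : (shiftFunctor D m₂).obj (X.X i₂) ⟶ Z, ψ = 0 := by
  subst e e'; exact h

lemma transport_tgt (X : ChainComplex D ℕ) {i₁ i₂ : ℕ} (e : i₁ = i₂) {m₁ m₂ : ℤ} (e' : m₁ = m₂)
    {W : D} (h : ∀ ψ : W ⟶ (shiftFunctor D m₁).obj (X.X i₁), ψ = 0) :
    ∀ ψ : W ⟶ (shiftFunctor D m₂).obj (X.X i₂), ψ = 0 := by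
  subst e e'; exact h

variable (X : ChainComplex D ℕ) (n : ℕ)
    (Y : ℕ → D) (a : ∀ k, Y k ⟶ X.X k) (b : ∀ k, X.X (k + 1) ⟶ Y k)
    (c : ∀ k, Y k ⟶ (shiftFunctor D (1 : ℤ)).obj (Y (k + 1)))
    (h0 : IsIso (a 0))
    (hP : ∀ k, k < n → Triangle.mk (a (k + 1)) (b k) (c k) ∈ distinguishedTriangles ∧ b k ≫ a k = X.d (k + 1) k)

include h0 hP in
/-- Maps out of `Y k` vanish when maps out of the graded pieces vanish. -/
lemma lemA (k : ℕ) (hk : k ≤ n) : ∀ (Z : D) (γ : Y k ⟶ Z),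
    (∀ i : ℕ, i ≤ k → ∀ ψ : (shiftFunctor D ((i : ℤ) - k)).obj (X.X i) ⟶ Z, ψ = 0) → γ = 0 := by
  induction k with
  | zero =>
    intro Z γ hZ
    have h := hZ 0 le_rfl
      ((shiftFunctorZero' D (((0 : ℕ) : ℤ) - ((0 : ℕ) : ℤ)) (by simp)).hom.app (X.X 0) ≫
        inv (a 0) ≫ γ)
    rw [← cancel_epi (inv (a 0)), comp_zero,
      ← cancel_epi ((shiftFunctorZero' D (((0 : ℕ) : ℤ) - ((0 : ℕ) : ℤ)) (by simp)).hom.app (X.X 0)),
      comp_zero]
    exact h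
  | succ k ih =>
    intro Z γ hZ
    have hT := (hP k (by omega)).1
    have h1 : c k ≫ (shiftFunctor D (1 : ℤ)).map γ = 0 := by
      apply ih (by omega)
      intro i hik
      exact vanish_shift ((i : ℤ) - (k + 1 : ℕ)) ((i : ℤ) - k) (by omega) (hZ i (by omega))
    obtain ⟨θ, hθ⟩ : ∃ θ : (shiftFunctor D (1 : ℤ)).obj (X.X (k + 1)) ⟶ (shiftFunctor D (1 : ℤ)).obj Z,
        (shiftFunctor D (1 : ℤ)).map γ =
          (-(shiftFunctor D (1 : ℤ)).map (a (k + 1))) ≫ θ :=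
      Triangle.yoneda_exact₃ _ (rot_of_distTriang _ hT) _ h1
    have hθ0 : θ = 0 :=
      vanish_shift (((k + 1 : ℕ) : ℤ) - (k + 1 : ℕ)) 1 (by omega) (hZ (k + 1) le_rfl) θ
    rw [hθ0, comp_zero] at hθ
    apply (shiftFunctor D (1 : ℤ)).map_injective
    rw [hθ, Functor.map_zero]

include h0 hP in
/-- Maps into `Y k` vanish when maps into the graded pieces vanish. -/
lemma lemB (k : ℕ) (hk : k ≤ n) : ∀ (W : D) (γ : W ⟶ Y k),
    (∀ i : ℕ, i ≤ k → ∀ ψ : W ⟶ (shiftFunctor D ((i : ℤ) - k)).obj (X.X i), ψ = 0) → γ = 0 := by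
  induction k with
  | zero =>
    intro W γ hW
    have h := hW 0 le_rfl
      (γ ≫ a 0 ≫ (shiftFunctorZero' D (((0 : ℕ) : ℤ) - ((0 : ℕ) : ℤ)) (by simp)).inv.app (X.X 0))
    rw [← cancel_mono (a 0), zero_comp,
      ← cancel_mono ((shiftFunctorZero' D (((0 : ℕ) : ℤ) - ((0 : ℕ) : ℤ)) (by simp)).inv.app (X.X 0)),
      zero_comp, Category.assoc]
    exact h
  | succ k ih =>
    intro W γ hW
    have hT := (hP k (by omega)).1
    have h1 : γ ≫ a (k + 1) = 0 := by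
      have h := hW (k + 1) le_rfl
        (γ ≫ a (k + 1) ≫ (shiftFunctorZero' D (((k + 1 : ℕ) : ℤ) - ((k + 1 : ℕ) : ℤ))
          (by simp)).inv.app (X.X (k + 1)))
      rw [← cancel_mono ((shiftFunctorZero' D (((k + 1 : ℕ) : ℤ) - ((k + 1 : ℕ) : ℤ))
          (by simp)).inv.app (X.X (k + 1))), zero_comp, Category.assoc]
      exact h
    obtain ⟨g, hg⟩ : ∃ g : (shiftFunctor D (1 : ℤ)).obj W ⟶ Y k,
        (shiftFunctor D (1 : ℤ)).map γ = g ≫ c k :=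
      Triangle.coyoneda_exact₁ _ hT ((shiftFunctor D (1 : ℤ)).map γ) (by
        show (shiftFunctor D (1 : ℤ)).map γ ≫ (shiftFunctor D (1 : ℤ)).map (a (k + 1)) = 0
        rw [← Functor.map_comp, h1, Functor.map_zero])
    have hg0 : g = 0 := ih (by omega) _ g (fun i hik =>
      vanish_shift' ((i : ℤ) - (k + 1 : ℕ)) ((i : ℤ) - k) (by omega) (hW i (by omega)))
    apply (shiftFunctor D (1 : ℤ)).map_injective
    rw [hg, hg0, zero_comp, Functor.map_zero]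

end

open CategoryTheory.Pretriangulated in
theorem result {D : Type u} [Category.{v} D] [Preadditive D] [HasZeroObject D] [HasShift D ℤ]
    [∀ n : ℤ, (shiftFunctor D n).Additive] [Pretriangulated D] [IsTriangulated D]
    (X X' : ChainComplex D ℕ) (φ : X ⟶ X') (n : ℕ)
    (Y : ℕ → D) (a : ∀ k, Y k ⟶ X.X k) (b : ∀ k, X.X (k + 1) ⟶ Y k)
    (c : ∀ k, Y k ⟶ (shiftFunctor D (1 : ℤ)).obj (Y (k + 1)))
    (h0 : IsIso (a 0))
    (hP : ∀ k, k < n → Triangle.mk (a (k + 1)) (b k) (c k) ∈ distinguishedTriangles ∧ b k ≫ a k = X.d (k + 1) k)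
    (qY : ℕ → D) (qa : ∀ k, qY k ⟶ X'.X k) (qb : ∀ k, X'.X (k + 1) ⟶ qY k)
    (qc : ∀ k, qY k ⟶ (shiftFunctor D (1 : ℤ)).obj (qY (k + 1)))
    (qh0 : IsIso (qa 0))
    (qhP : ∀ k, k < n → Triangle.mk (qa (k + 1)) (qb k) (qc k) ∈ distinguishedTriangles ∧ qb k ≫ qa k = X'.d (k + 1) k)
    (hv : ∀ i j : ℕ, 0 < i → i ≤ j → j ≤ n →
      (∀ ψ : (shiftFunctor D (1 - (i : ℤ))).obj (X.X (j - i)) ⟶ X'.X j, ψ = 0) ∧
      (∀ ψ : X.X j ⟶ (shiftFunctor D (-(i : ℤ))).obj (X'.X (j - i)), ψ = 0))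
    (y z : ∀ k, Y k ⟶ qY k)
    (hy : (∀ k, k ≤ n → y k ≫ qa k = a k ≫ φ.f k) ∧
      (∀ k, k < n → b k ≫ y k = φ.f (k + 1) ≫ qb k ∧ c k ≫ (shiftFunctor D (1 : ℤ)).map (y (k + 1)) = y k ≫ qc k))
    (hz : (∀ k, k ≤ n → z k ≫ qa k = a k ≫ φ.f k) ∧
      (∀ k, k < n → b k ≫ z k = φ.f (k + 1) ≫ qb k ∧ c k ≫ (shiftFunctor D (1 : ℤ)).map (z (k + 1)) = z k ≫ qc k))
    (k : ℕ) (hk : k ≤ n) :
    y k = z k := by
  have hwa : ∀ k, k ≤ n → (y k - z k) ≫ qa k = 0 := by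
    intro k hk
    rw [Preadditive.sub_comp, hy.1 k hk, hz.1 k hk, sub_self]
  have hw0 : y 0 - z 0 = 0 := by
    rw [← cancel_mono (qa 0), zero_comp]
    exact hwa 0 (by omega)
  have hwc : ∀ k, k < n → c k ≫ (shiftFunctor D (1 : ℤ)).map (y (k + 1) - z (k + 1)) =
      (y k - z k) ≫ qc k := by
    intro k hk
    rw [Functor.map_sub, Preadditive.comp_sub, Preadditive.sub_comp, (hy.2 k hk).2, (hz.2 k hk).2]
  have main : ∀ k, k ≤ n → y k - z k = 0 := by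
    intro k
    induction k with
    | zero => intro _; exact hw0
    | succ k ih =>
      intro hk
      have ihk := ih (by omega)
      have hT := (hP k (by omega)).1
      have hT' := (qhP k (by omega)).1
      have hw1 : c k ≫ (shiftFunctor D (1 : ℤ)).map (y (k + 1) - z (k + 1)) = 0 := by
        rw [hwc k (by omega), ihk, zero_comp]
      obtain ⟨θ, hθ⟩ : ∃ θ : (shiftFunctor D (1 : ℤ)).obj (X.X (k + 1)) ⟶
          (shiftFunctor D (1 : ℤ)).obj (qY (k + 1)),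
          (shiftFunctor D (1 : ℤ)).map (y (k + 1) - z (k + 1)) =
            (-(shiftFunctor D (1 : ℤ)).map (a (k + 1))) ≫ θ :=
        Triangle.yoneda_exact₃ _ (rot_of_distTriang _ hT) _ hw1
      obtain ⟨θ', rfl⟩ := (shiftFunctor D (1 : ℤ)).map_surjective θ
      have hw2 : y (k + 1) - z (k + 1) = -(a (k + 1) ≫ θ') := by
        apply (shiftFunctor D (1 : ℤ)).map_injective
        rw [hθ, Functor.map_neg, Functor.map_comp, Preadditive.neg_comp]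
      have hρ : a (k + 1) ≫ (θ' ≫ qa (k + 1)) = 0 := by
        have := hwa (k + 1) hk
        rw [hw2, Preadditive.neg_comp, neg_eq_zero, Category.assoc] at this
        exact this
      obtain ⟨σ, hσ⟩ : ∃ σ : Y k ⟶ X'.X (k + 1), θ' ≫ qa (k + 1) = b k ≫ σ :=
        Triangle.yoneda_exact₂ _ hT _ hρ
      have hσ0 : σ = 0 := lemA X n Y a b c h0 hP k (by omega) _ σ (fun i hik =>
        transport_src X (by omega) (by omega)
          (hv (k + 1 - i) (k + 1) (by omega) (by omega) hk).1)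
      rw [hσ0, comp_zero] at hσ
      obtain ⟨g, hg⟩ : ∃ g : (shiftFunctor D (1 : ℤ)).obj (X.X (k + 1)) ⟶ qY k,
          (shiftFunctor D (1 : ℤ)).map θ' = g ≫ qc k :=
        Triangle.coyoneda_exact₁ _ hT' ((shiftFunctor D (1 : ℤ)).map θ') (by
          show (shiftFunctor D (1 : ℤ)).map θ' ≫ (shiftFunctor D (1 : ℤ)).map (qa (k + 1)) = 0
          rw [← Functor.map_comp, hσ, Functor.map_zero])
      have hg0 : g = 0 := lemB X' n qY qa qb qc qh0 qhP k (by omega) _ g (fun i hik =>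
        vanish_shift' ((i : ℤ) - (k + 1 : ℕ)) ((i : ℤ) - k) (by omega)
          (transport_tgt X' (by omega) (by omega)
            (hv (k + 1 - i) (k + 1) (by omega) (by omega) hk).2))
      have hθ'0 : θ' = 0 := by
        apply (shiftFunctor D (1 : ℤ)).map_injective
        rw [hg, hg0, zero_comp, Functor.map_zero]
      rw [hw2, hθ'0, comp_zero, neg_zero]
  exact sub_eq_zero.1 (main k hk)

end Groth.Agent.S6623
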