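import Groth.Statements.S6708

set_option autoImplicit false
universe v u
open CategoryTheory
open DEquiv

namespace Groth.Agent.S6708

open CategoryTheory.Limits CategoryTheory.Pretriangulated in
/-- Let D be a pretriangulated category, D' ⊆ D a full triangulated subcategory (given as a property of
objects that is triangulated in Mathlib's sense) and X an object of D. Then the category of arrows E
⟶ X with E in D' is filtered. -/
theorem result
    {D : Type u} [Category.{v} D] [Preadditive D] [HasZeroObject D] [HasShift D ℤ]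
    [∀ n : ℤ, (shiftFunctor D n).Additive] [Pretriangulated D]
    (P : ObjectProperty D) [P.IsTriangulated] (X : D) :
    IsFiltered (CostructuredArrow P.ι X) := by
  have hne : Nonempty (CostructuredArrow P.ι X) := by
    obtain ⟨Z, hZ, hPZ⟩ := P.exists_prop_of_containsZero
    exact ⟨CostructuredArrow.mk (Y := (⟨Z, hPZ⟩ : P.FullSubcategory)) (0 : Z ⟶ X)⟩
  have : IsFilteredOrEmpty (CostructuredArrow P.ι X) := by
    refine ⟨fun A₁ A₂ => ?_, fun A₁ A₂ u v => ?_⟩
    · -- upper bound via the biproduct
      obtain ⟨E, hE, ⟨e⟩⟩ : ∃ (E : D) (_ : P E), Nonempty ((A₁.left.obj ⊞ A₂.left.obj) ≅ E) :=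
        P.ext_of_isTriangulatedClosed₂' _
        (binaryBiproductTriangle_distinguished A₁.left.obj A₂.left.obj) A₁.left.property
        A₂.left.property
      let E' : P.FullSubcategory := ⟨E, hE⟩
      let a : E ⟶ X := e.inv ≫ biprod.desc A₁.hom A₂.hom
      refine ⟨CostructuredArrow.mk (Y := E') a,
        CostructuredArrow.homMk (ObjectProperty.homMk (biprod.inl ≫ e.hom)) ?_,
        CostructuredArrow.homMk (ObjectProperty.homMk (biprod.inr ≫ e.hom)) ?_, trivial⟩
      · show (biprod.inl ≫ e.hom) ≫ e.inv ≫ biprod.desc A₁.hom A₂.hom = A₁.hom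
        simp
      · show (biprod.inr ≫ e.hom) ≫ e.inv ≫ biprod.desc A₁.hom A₂.hom = A₂.hom
        simp
    · -- coequalizing via the cone of the difference
      obtain ⟨Z, hZ, b, c, hT⟩ := P.distinguished_cocone_triangle (u.left.hom - v.left.hom)
        A₁.left.property A₂.left.property
      have hu : u.left.hom ≫ A₂.hom = A₁.hom := CostructuredArrow.w u
      have hv : v.left.hom ≫ A₂.hom = A₁.hom := CostructuredArrow.w v
      obtain ⟨a₃, ha₃⟩ := Triangle.yoneda_exact₂ _ hT A₂.hom (by
        show (u.left.hom - v.left.hom) ≫ A₂.hom = 0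
        rw [Preadditive.sub_comp, hu, hv, sub_self])
      let Z' : P.FullSubcategory := ⟨Z, hZ⟩
      refine ⟨CostructuredArrow.mk (Y := Z') a₃,
        CostructuredArrow.homMk (ObjectProperty.homMk b) ha₃.symm, ?_⟩
      ext
      show u.left.hom ≫ b = v.left.hom ≫ b
      have this : (u.left.hom - v.left.hom) ≫ b = 0 := comp_distTriang_mor_zero₁₂ _ hT
      rw [Preadditive.sub_comp, sub_eq_zero] at this
      exact this
  exact { }

end Groth.Agent.S6708
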