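import Groth.Statements.S6775

set_option autoImplicit false
open CategoryTheory CategoryTheory.Limits
universe v u
open CategoryTheory CategoryTheory.Abelian

namespace Groth.Agent.S6775

/-- In an abelian category a cartesian square whose bottom arrow `k` is an epimorphism is also
cocartesian, and the arrow `f` opposite to `k` is an epimorphism. -/
theorem result {A : Type u} [Category.{v} A] [Abelian A] {w x y z : A} (f : w ⟶ y) (g : w ⟶ x) (h : y ⟶ z) (k : x ⟶ z) (sq : IsPullback f g h k) [Epi k] : IsPushout f g h k ∧ Epi f := by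
  have hf : Epi f := Abelian.epi_fst_of_isLimit h k sq.isLimit
  refine ⟨⟨sq.toCommSq, ⟨?_⟩⟩, hf⟩
  -- `k` is the cokernel of its kernel
  have hk : IsColimit (CokernelCofork.ofπ k (kernel.condition k)) :=
    Abelian.epiIsCokernelOfKernel (KernelFork.ofι (kernel.ι k) (kernel.condition k))
      (kernelIsKernel k)
  -- lift of the kernel of `k` to `w`
  let w' : kernel k ⟶ w := sq.lift 0 (kernel.ι k) (by simp)
  have hw'f : w' ≫ f = 0 := sq.lift_fst _ _ _
  have hw'g : w' ≫ g = kernel.ι k := sq.lift_snd _ _ _
  have key : ∀ (s : PushoutCocone f g), kernel.ι k ≫ s.inr = 0 := fun s => by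
    rw [← hw'g, Category.assoc, ← s.condition, ← Category.assoc, hw'f, zero_comp]
  refine PushoutCocone.IsColimit.mk _
    (fun s => hk.desc (CokernelCofork.ofπ s.inr (key s))) (fun s => ?_) (fun s => ?_)
    (fun s m hm₁ hm₂ => ?_)
  · have h2 : k ≫ hk.desc (CokernelCofork.ofπ s.inr (key s)) = s.inr :=
      hk.fac (CokernelCofork.ofπ s.inr (key s)) WalkingParallelPair.one
    rw [← cancel_epi f, ← Category.assoc, sq.w, Category.assoc, h2, s.condition]
  · exact hk.fac (CokernelCofork.ofπ s.inr (key s)) WalkingParallelPair.one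
  · have h2 : k ≫ hk.desc (CokernelCofork.ofπ s.inr (key s)) = s.inr :=
      hk.fac (CokernelCofork.ofπ s.inr (key s)) WalkingParallelPair.one
    rw [← cancel_epi k, hm₂, h2]

end Groth.Agent.S6775
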