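import Groth.Statements.S6776

set_option autoImplicit false
open CategoryTheory CategoryTheory.Limits
universe v u
open CategoryTheory CategoryTheory.Abelian

namespace Groth.Agent.S6776

/-- In an abelian category a cocartesian square whose left arrow `g` is a monomorphism is also
cartesian, and the arrow `h` opposite to `g` is a monomorphism. -/
theorem result {A : Type u} [Category.{v} A] [Abelian A] {w x y z : A} (f : w ⟶ y) (g : w ⟶ x) (h : y ⟶ z) (k : x ⟶ z) (sq : IsPushout f g h k) [Mono g] : IsPullback f g h k ∧ Mono h := by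
  have hh : Mono h := Abelian.mono_inl_of_isColimit f g sq.isColimit
  refine ⟨⟨sq.toCommSq, ⟨?_⟩⟩, hh⟩
  have hg : IsLimit (KernelFork.ofι g (cokernel.condition g)) :=
    Abelian.monoIsKernelOfCokernel (CokernelCofork.ofπ (cokernel.π g) (cokernel.condition g))
      (cokernelIsCokernel g)
  let c' : z ⟶ cokernel g := sq.desc 0 (cokernel.π g) (by simp)
  have hc'h : h ≫ c' = 0 := sq.inl_desc _ _ _
  have hc'k : k ≫ c' = cokernel.π g := sq.inr_desc _ _ _
  have key : ∀ (s : PullbackCone h k), s.snd ≫ cokernel.π g = 0 := fun s => by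
    rw [← hc'k, ← Category.assoc, ← s.condition, Category.assoc, hc'h, comp_zero]
  refine PullbackCone.IsLimit.mk _
    (fun s => hg.lift (KernelFork.ofι s.snd (key s))) (fun s => ?_) (fun s => ?_)
    (fun s m hm₁ hm₂ => ?_)
  · have h2 : hg.lift (KernelFork.ofι s.snd (key s)) ≫ g = s.snd :=
      hg.fac (KernelFork.ofι s.snd (key s)) WalkingParallelPair.zero
    rw [← cancel_mono h, Category.assoc, sq.w, ← Category.assoc, h2, s.condition]
  · exact hg.fac (KernelFork.ofι s.snd (key s)) WalkingParallelPair.zero
  · have h2 : hg.lift (KernelFork.ofι s.snd (key s)) ≫ g = s.snd :=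
      hg.fac (KernelFork.ofι s.snd (key s)) WalkingParallelPair.zero
    rw [← cancel_mono g, hm₂, h2]

end Groth.Agent.S6776
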