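import Groth.Statements.S6791
import Mathlib.CategoryTheory.Abelian.SerreClass.Localization

set_option autoImplicit false
open CategoryTheory CategoryTheory.Limits
universe v u v' u' v'' u''
open CategoryTheory CategoryTheory.SerreClass

namespace Groth.Agent.S6791

/-- For an exact functor `F : A ⥤ B` of abelian categories and a Serre class `P` of `A` killed by `F`,
with `L : A ⥤ Q` a model of the quotient `A/P` and `Fbar : Q ⥤ B` the induced functor, `P` is
exactly the kernel of `F` if and only if `Fbar` is faithful. -/
theorem result {A : Type u} [Category.{v} A] [Abelian A] {B : Type u'} [Category.{v'} B] [Abelian B] (F : A ⥤ B) [F.Additive] [PreservesFiniteLimits F] [PreservesFiniteColimits F] (P : ObjectProperty A) [P.IsSerreClass] (hP : ∀ X : A, P X → IsZero (F.obj X)) {Q : Type u''} [Category.{v''} Q] [Abelian Q] (L : A ⥤ Q) [L.IsLocalization P.isoModSerre] [L.Additive] [PreservesFiniteLimits L] [PreservesFiniteColimits L] (Fbar : Q ⥤ B) (e : L ⋙ Fbar ≅ F) : (∀ X : A, IsZero (F.obj X) → P X) ↔ Fbar.Faithful := by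
  have hadd' : (L ⋙ Fbar).Additive := Functor.additive_of_iso e.symm
  have hadd : Fbar.Additive := (Localization.functor_additive_iff L P.isoModSerre Fbar).2 hadd'
  constructor
  · intro hker
    -- it suffices to show that `Fbar` kills no nonzero morphism
    have key : ∀ {X Y : A} (φ : X ⟶ Y), Fbar.map (L.map φ) = 0 → L.map φ = 0 := by
      intro X Y φ hφ
      have h1 : F.map φ = 0 := by
        have := e.hom.naturality φ
        rw [Functor.comp_map, hφ, zero_comp] at this
        rw [← cancel_epi (e.hom.app X), ← this, comp_zero]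
      rw [ObjectProperty.SerreClassLocalization.map_eq_zero_iff L P]
      apply hker
      have h2 : F.map (Abelian.factorThruImage φ) ≫ F.map (Abelian.image.ι φ) = 0 := by
        rw [← F.map_comp, Abelian.image.fac, h1]
      have h3 : F.map (Abelian.image.ι φ) = 0 := by
        rw [← cancel_epi (F.map (Abelian.factorThruImage φ)), h2, comp_zero]
      exact IsZero.of_mono_eq_zero _ h3
    refine ⟨fun {q₁ q₂} f g hfg => ?_⟩
    rw [← sub_eq_zero]
    have hsub : Fbar.map (f - g) = 0 := by rw [Functor.map_sub, hfg, sub_self]
    obtain ⟨φ, ⟨iso⟩⟩ :=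
      (Localization.essSurj_mapArrow L P.isoModSerre).mem_essImage (Arrow.mk (f - g))
    let a : L.obj φ.left ⟶ q₁ := iso.hom.left
    let b : L.obj φ.right ⟶ q₂ := iso.hom.right
    have ha : IsIso a := inferInstanceAs (IsIso iso.hom.left)
    have hb : IsIso b := inferInstanceAs (IsIso iso.hom.right)
    have hw : L.map φ.hom ≫ b = a ≫ (f - g) := iso.hom.w.symm
    have h4 : Fbar.map (L.map φ.hom) = 0 := by
      rw [← cancel_mono (Fbar.map b), ← Fbar.map_comp, hw, Fbar.map_comp, hsub,
        comp_zero, zero_comp]
    have h5 := key φ.hom h4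
    rw [← cancel_epi a, ← hw, h5, zero_comp, comp_zero]
  · intro hfaith X hX
    rw [← ObjectProperty.SerreClassLocalization.isZero_obj_iff L P X, IsZero.iff_id_eq_zero]
    apply Fbar.map_injective
    rw [Fbar.map_zero]
    exact (IsZero.of_iso hX (e.app X)).eq_of_src _ _

end Groth.Agent.S6791
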