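import Groth.Statements.S6795

set_option autoImplicit false
open CategoryTheory CategoryTheory.Limits
universe v u
open CategoryTheory CategoryTheory.Preadditive

namespace Groth.Agent.S6795

/-- A preadditive category with countable products in which split epimorphisms have kernels is
idempotent complete (Karoubian). -/
theorem result {D : Type u} [Category.{v} D] [Preadditive D] [HasCountableProducts D] (hk : ∀ ⦃X Y : D⦄ (f : X ⟶ Y), IsSplitEpi f → HasKernel f) : IsIdempotentComplete D := by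
  refine ⟨fun X e he => ?_⟩
  let T : D := ∏ᶜ (fun _ : ℕ => X)
  let π : ∀ n : ℕ, T ⟶ X := fun n => Pi.π (fun _ : ℕ => X) n
  let ψ : T ⟶ T := Pi.lift (fun n => π n - π (n + 1) ≫ e)
  let σ : T ⟶ T := Pi.lift (fun n => π n ≫ (𝟙 X - e) - ∑ k ∈ Finset.range n, π k ≫ e)
  have hψ : ∀ n, ψ ≫ π n = π n - π (n + 1) ≫ e := fun n => Pi.lift_π _ _
  have hσ : ∀ n, σ ≫ π n = π n ≫ (𝟙 X - e) - ∑ k ∈ Finset.range n, π k ≫ e :=
    fun n => Pi.lift_π _ _
  have h1e : (𝟙 X - e) ≫ e = 0 := by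
    rw [Preadditive.sub_comp, Category.id_comp, he, sub_self]
  have hσψ : σ ≫ ψ = 𝟙 T := by
    refine Pi.hom_ext _ _ (fun n => ?_)
    show (σ ≫ ψ) ≫ π n = 𝟙 T ≫ π n
    rw [Category.assoc, hψ, Preadditive.comp_sub, ← Category.assoc, hσ, hσ, Preadditive.sub_comp,
      Category.assoc, h1e, comp_zero, zero_sub, Preadditive.sum_comp, Finset.sum_range_succ,
      Category.id_comp]
    simp only [Category.assoc, he, Preadditive.comp_sub, Category.comp_id]
    abel
  have : IsSplitEpi ψ := ⟨⟨σ, hσψ⟩⟩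
  have := hk ψ this
  have hι : ∀ n, kernel.ι ψ ≫ π n = kernel.ι ψ ≫ π (n + 1) ≫ e := fun n => by
    have := kernel.condition ψ =≫ π n
    rw [Category.assoc, hψ, Preadditive.comp_sub, zero_comp, sub_eq_zero] at this
    exact this
  have hιe : ∀ n, (kernel.ι ψ ≫ π n) ≫ e = kernel.ι ψ ≫ π n := fun n => by
    rw [hι n, Category.assoc, Category.assoc, he]
  have hι' : ∀ n, kernel.ι ψ ≫ π (n + 1) = kernel.ι ψ ≫ π n := fun n => by
    rw [hι n, ← Category.assoc, hιe]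
  have hι0 : ∀ n, kernel.ι ψ ≫ π n = kernel.ι ψ ≫ π 0 := fun n => by
    induction n with
    | zero => rfl
    | succ n ih => rw [hι', ih]
  have hconst : Pi.lift (fun _ : ℕ => e) ≫ ψ = 0 := by
    refine Pi.hom_ext _ _ (fun n => ?_)
    show (Pi.lift (fun _ : ℕ => e) ≫ ψ) ≫ π n = 0 ≫ π n
    rw [Category.assoc, hψ, Preadditive.comp_sub, ← Category.assoc]
    show Pi.lift (fun _ : ℕ => e) ≫ Pi.π (fun _ : ℕ => X) n -
      (Pi.lift (fun _ : ℕ => e) ≫ Pi.π (fun _ : ℕ => X) (n + 1)) ≫ e = 0 ≫ π n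
    rw [Pi.lift_π, Pi.lift_π, he, sub_self, zero_comp]
  refine ⟨kernel ψ, kernel.ι ψ ≫ π 0, kernel.lift ψ (Pi.lift (fun _ : ℕ => e)) hconst, ?_, ?_⟩
  · rw [← cancel_mono (kernel.ι ψ), Category.assoc, Category.assoc, kernel.lift_ι, Category.id_comp]
    refine Pi.hom_ext _ _ (fun n => ?_)
    show (kernel.ι ψ ≫ π 0 ≫ Pi.lift (fun _ : ℕ => e)) ≫ Pi.π (fun _ : ℕ => X) n =
      kernel.ι ψ ≫ π n
    rw [Category.assoc, Category.assoc, Pi.lift_π, ← Category.assoc, hιe, hι0 n]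
  · rw [← Category.assoc, kernel.lift_ι]
    exact Pi.lift_π _ _

end Groth.Agent.S6795
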