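import Groth.Statements.S6796

set_option autoImplicit false
open CategoryTheory CategoryTheory.Limits
universe v u
open CategoryTheory CategoryTheory.Preadditive

namespace Groth.Agent.S6796

/-- A preadditive category with countable coproducts in which split monomorphisms have cokernels is
idempotent complete (Karoubian). -/
theorem result {D : Type u} [Category.{v} D] [Preadditive D] [HasCountableCoproducts D] (hk : ∀ ⦃X Y : D⦄ (f : X ⟶ Y), IsSplitMono f → HasCokernel f) : IsIdempotentComplete D := by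
  refine ⟨fun X e he => ?_⟩
  let T : D := ∐ (fun _ : ℕ => X)
  let ι : ∀ n : ℕ, X ⟶ T := fun n => Sigma.ι (fun _ : ℕ => X) n
  let ψ : T ⟶ T := Sigma.desc (fun n => ι n - e ≫ ι (n + 1))
  let σ : T ⟶ T := Sigma.desc (fun n => (𝟙 X - e) ≫ ι n - ∑ k ∈ Finset.range n, e ≫ ι k)
  have hψ : ∀ n, ι n ≫ ψ = ι n - e ≫ ι (n + 1) := fun n => Sigma.ι_desc _ _
  have hσ : ∀ n, ι n ≫ σ = (𝟙 X - e) ≫ ι n - ∑ k ∈ Finset.range n, e ≫ ι k :=
    fun n => Sigma.ι_desc _ _
  have h1e : e ≫ (𝟙 X - e) = 0 := by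
    rw [Preadditive.comp_sub, Category.comp_id, he, sub_self]
  have hψσ : ψ ≫ σ = 𝟙 T := by
    refine Sigma.hom_ext _ _ (fun n => ?_)
    show ι n ≫ ψ ≫ σ = ι n ≫ 𝟙 T
    rw [← Category.assoc, hψ, Preadditive.sub_comp, Category.assoc, hσ, hσ, Preadditive.comp_sub,
      ← Category.assoc, h1e, zero_comp, zero_sub, Preadditive.comp_sum, Finset.sum_range_succ,
      Category.comp_id]
    simp only [← Category.assoc, he, Preadditive.sub_comp, Category.id_comp]
    abel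
  have : IsSplitMono ψ := ⟨⟨σ, hψσ⟩⟩
  have := hk ψ this
  have hπ : ∀ n, ι n ≫ cokernel.π ψ = e ≫ ι (n + 1) ≫ cokernel.π ψ := fun n => by
    have := ι n ≫= cokernel.condition ψ
    rw [← Category.assoc, hψ, Preadditive.sub_comp, comp_zero, sub_eq_zero, Category.assoc] at this
    exact this
  have hπe : ∀ n, e ≫ ι n ≫ cokernel.π ψ = ι n ≫ cokernel.π ψ := fun n => by
    rw [hπ n, ← Category.assoc, he]
  have hπ' : ∀ n, ι (n + 1) ≫ cokernel.π ψ = ι n ≫ cokernel.π ψ := fun n => by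
    rw [hπ n, hπe]
  have hπ0 : ∀ n, ι n ≫ cokernel.π ψ = ι 0 ≫ cokernel.π ψ := fun n => by
    induction n with
    | zero => rfl
    | succ n ih => rw [hπ', ih]
  have hconst : ψ ≫ Sigma.desc (fun _ : ℕ => e) = 0 := by
    refine Sigma.hom_ext _ _ (fun n => ?_)
    show ι n ≫ ψ ≫ Sigma.desc (fun _ : ℕ => e) = ι n ≫ 0
    rw [← Category.assoc, hψ, Preadditive.sub_comp, Category.assoc]
    show Sigma.ι (fun _ : ℕ => X) n ≫ Sigma.desc (fun _ : ℕ => e) -
      e ≫ Sigma.ι (fun _ : ℕ => X) (n + 1) ≫ Sigma.desc (fun _ : ℕ => e) = ι n ≫ 0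
    rw [Sigma.ι_desc, Sigma.ι_desc, he, sub_self, comp_zero]
  refine ⟨cokernel ψ, cokernel.desc ψ (Sigma.desc (fun _ : ℕ => e)) hconst, ι 0 ≫ cokernel.π ψ,
    ?_, ?_⟩
  · rw [← cancel_epi (cokernel.π ψ), ← Category.assoc, cokernel.π_desc, Category.comp_id]
    refine Sigma.hom_ext _ _ (fun n => ?_)
    show Sigma.ι (fun _ : ℕ => X) n ≫ Sigma.desc (fun _ : ℕ => e) ≫ ι 0 ≫ cokernel.π ψ =
      ι n ≫ cokernel.π ψ
    rw [← Category.assoc, Sigma.ι_desc, hπe, hπ0 n]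
  · rw [Category.assoc, cokernel.π_desc]
    exact Sigma.ι_desc _ _

end Groth.Agent.S6796
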