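import Groth.Statements.S6820
import Mathlib.RingTheory.Noetherian.Basic
import Mathlib.Tactic.Ring

set_option autoImplicit false
universe u
open Smoothing

namespace Groth.Agent.S6820

/-- Let A be a Noetherian ring, M a finite A-module, S a multiplicative subset of A and π an element of
A such that on the localised module S⁻¹M the kernels of multiplication by π and by π² agree. Then
there is an element s of S such that for every n > 0 the kernels of multiplication by sⁿπ and by
(sⁿπ)² on M agree. (Kernel equalities are written as implications, the reverse inclusions being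
automatic.) -/
theorem result {A : Type u} [CommRing A] [IsNoetherianRing A]
    (M : Type u) [AddCommGroup M] [Module A M] [Module.Finite A M] (S : Submonoid A) (π : A)
    (h : ∀ m : LocalizedModule S M, π ^ 2 • m = 0 → π • m = 0) :
    ∃ s ∈ S, ∀ n : ℕ, 0 < n → ∀ m : M, (s ^ n * π) ^ 2 • m = 0 → (s ^ n * π) • m = 0 := by
  classical
  -- the `S`-torsion submodule
  let N : Submodule A M :=
    { carrier := {m | ∃ u ∈ S, u • m = 0}
      add_mem' := by
        rintro a b ⟨u, hu, hua⟩ ⟨v, hv, hvb⟩
        refine ⟨u * v, S.mul_mem hu hv, ?_⟩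
        rw [smul_add, mul_smul u v b, hvb, smul_zero, add_zero, mul_comm, mul_smul, hua, smul_zero]
      zero_mem' := ⟨1, S.one_mem, smul_zero _⟩
      smul_mem' := by
        rintro c a ⟨u, hu, hua⟩
        exact ⟨u, hu, by rw [smul_comm, hua, smul_zero]⟩ }
  haveI : IsNoetherian A M := isNoetherian_of_isNoetherianRing_of_finite A M
  have hNfg : N.FG := IsNoetherian.noetherian N
  -- one element of `S` kills all of `N`
  obtain ⟨s₀, hs₀, hkill⟩ : ∃ s₀ ∈ S, ∀ m ∈ N, s₀ • m = 0 := by
    obtain ⟨G, hG⟩ := hNfg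
    have hGN : ∀ g ∈ G, ∃ u ∈ S, u • g = 0 := by
      intro g hg
      have : g ∈ N := by rw [← hG]; exact Submodule.subset_span hg
      exact this
    choose! f hfS hf using hGN
    refine ⟨∏ g ∈ G, f g, Submonoid.prod_mem S hfS, ?_⟩
    intro m hm
    rw [← hG] at hm
    induction hm using Submodule.span_induction with
    | mem x hx =>
      obtain ⟨c, hc⟩ := Finset.dvd_prod_of_mem f hx
      rw [hc, mul_comm, mul_smul, hf x hx, smul_zero]
    | zero => exact smul_zero _
    | add x y _ _ hx hy => rw [smul_add, hx, hy, add_zero]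
    | smul a x _ hx => rw [smul_comm, hx, smul_zero]
  have hkill' : ∀ (u : A), u ∈ S → ∀ m : M, u • m = 0 → s₀ • m = 0 :=
    fun u hu m hum => hkill m ⟨u, hu, hum⟩
  refine ⟨s₀ ^ 2, S.pow_mem hs₀ 2, ?_⟩
  intro n hn m hm
  -- step 1: `s₀ • π ^ 2 • m = 0`
  have h1 : s₀ • (π ^ 2 • m) = 0 := by
    apply hkill' (((s₀ ^ 2) ^ n) ^ 2) (S.pow_mem (S.pow_mem (S.pow_mem hs₀ 2) n) 2)
    rw [← mul_smul, ← mul_pow]
    exact hm
  -- step 2: pass to the localisation
  have h2 : π ^ 2 • (LocalizedModule.mk (s₀ • m) (1 : S)) = 0 := by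
    rw [LocalizedModule.smul'_mk, smul_comm, h1, LocalizedModule.zero_mk]
  have h3 := h _ h2
  rw [LocalizedModule.smul'_mk, ← LocalizedModule.zero_mk (1 : S), LocalizedModule.mk_eq] at h3
  obtain ⟨u, hu⟩ := h3
  simp only [one_smul, smul_zero] at hu
  have h4 : s₀ • (π • s₀ • m) = 0 := hkill' (u : A) u.2 _ hu
  have h5 : (s₀ ^ 2 * π) • m = 0 := by
    rw [← h4, ← mul_smul, ← mul_smul]
    congr 1
    ring
  obtain ⟨k, rfl⟩ : ∃ k, n = k + 1 := ⟨n - 1, by omega⟩
  rw [pow_succ, mul_assoc, mul_smul, h5, smul_zero]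

end Groth.Agent.S6820
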