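import Groth.Statements.S6855

set_option autoImplicit false
universe u
open CategoryTheory CategoryTheory.Limits TopologicalSpace
open ModSite

namespace Groth.Agent.S6855

/-- Let X be a topological space and O a sheaf of rings on X. Then the support of O, the set of points x
with nonzero stalk O_x, is closed in X. -/
theorem result {X : TopCat.{u}} (O : TopCat.Sheaf CommRingCat.{u} X) :
    IsClosed {x : X | Nontrivial (O.presheaf.stalk x)} := by
  rw [← isOpen_compl_iff, isOpen_iff_forall_mem_open]
  intro x hx
  have hx' : ¬ Nontrivial (O.presheaf.stalk x) := hx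
  rw [not_nontrivial_iff_subsingleton] at hx'
  have h10 : O.presheaf.germ (⊤ : Opens X) x trivial (1 : O.presheaf.obj (Opposite.op ⊤)) =
      O.presheaf.germ (⊤ : Opens X) x trivial (0 : O.presheaf.obj (Opposite.op ⊤)) :=
    Subsingleton.elim _ _
  obtain ⟨W, hxW, iU, iV, e⟩ := O.presheaf.germ_eq (U := ⊤) (V := ⊤) x trivial trivial _ _ h10
  refine ⟨(W : Set X), ?_, W.isOpen, hxW⟩
  intro y hy
  show ¬ Nontrivial (O.presheaf.stalk y)
  rw [not_nontrivial_iff_subsingleton]
  have e' : (1 : O.presheaf.obj (Opposite.op W)) = 0 := by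
    have h1 : (O.presheaf.map iU.op).hom (1 : O.presheaf.obj (Opposite.op ⊤)) = 1 := map_one _
    have h0 : (O.presheaf.map iV.op).hom (0 : O.presheaf.obj (Opposite.op ⊤)) = 0 := map_zero _
    rw [← h1, ← h0]
    exact e
  have e'' : (1 : O.presheaf.stalk y) = 0 := by
    have h1 : (O.presheaf.germ W y hy).hom (1 : O.presheaf.obj (Opposite.op W)) = 1 := map_one _
    have h0 : (O.presheaf.germ W y hy).hom (0 : O.presheaf.obj (Opposite.op W)) = 0 := map_zero _
    rw [← h1, ← h0, e']
  exact subsingleton_of_zero_eq_one e''.symm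

end Groth.Agent.S6855
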