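import Groth.Statements.S6862
import Mathlib.Algebra.Exact.Basic
import Mathlib.LinearAlgebra.FreeModule.Basic
import Mathlib.RingTheory.Finiteness.Prod

set_option autoImplicit false
universe u
open CAlg

namespace Groth.Agent.S6862

/-- Let `R` be a commutative ring and `P'`, `P`, `P''` finitely generated projective `R`-modules in an
exact sequence `0 → P' → P → P'' → 0`. Whenever two of the three are stably free, the remaining one
is stably free too (all three cases are stated). -/
theorem result {R : Type u} [CommRing R] {P' P P'' : Type u}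
    [AddCommGroup P'] [Module R P'] [Module.Finite R P'] [Module.Projective R P']
    [AddCommGroup P] [Module R P] [Module.Finite R P] [Module.Projective R P]
    [AddCommGroup P''] [Module R P''] [Module.Finite R P''] [Module.Projective R P'']
    (f : P' →ₗ[R] P) (g : P →ₗ[R] P'') (hf : Function.Injective f) (hg : Function.Surjective g)
    (hfg : Function.Exact f g) :
    (Module.IsStablyFree R P' → Module.IsStablyFree R P → Module.IsStablyFree R P'') ∧
    (Module.IsStablyFree R P' → Module.IsStablyFree R P'' → Module.IsStablyFree R P) ∧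
    (Module.IsStablyFree R P → Module.IsStablyFree R P'' → Module.IsStablyFree R P') := by
  obtain ⟨l, hl⟩ := Module.projective_lifting_property g LinearMap.id hg
  let e : P ≃ₗ[R] P' × P'' := (hfg.splitSurjectiveEquiv hf ⟨l, hl⟩).1
  refine ⟨?_, ?_, ?_⟩
  · intro h' h
    obtain ⟨N', _, _, _, _, _⟩ := Module.IsStablyFree.exist_free_prod R P'
    obtain ⟨N, _, _, _, _, _⟩ := Module.IsStablyFree.exist_free_prod R P
    haveI : Module.Free R ((P' × P'') × N) :=
      Module.Free.of_equiv (e.prodCongr (LinearEquiv.refl R N))
    let e1 : (((P' × P'') × N) × N') ≃ₗ[R] P'' × ((P' × N') × N) :=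
      { toFun := fun y => (y.1.1.2, ((y.1.1.1, y.2), y.1.2))
        invFun := fun x => (((x.2.1.1, x.1), x.2.2), x.2.1.2)
        map_add' := fun _ _ => rfl
        map_smul' := fun _ _ => rfl
        left_inv := fun _ => rfl
        right_inv := fun _ => rfl }
    haveI : Module.Free R (P'' × ((P' × N') × N)) := Module.Free.of_equiv e1
    exact Module.IsStablyFree.of_free_prod R P'' ((P' × N') × N)
  · intro h' h''
    obtain ⟨N', _, _, _, _, _⟩ := Module.IsStablyFree.exist_free_prod R P'
    obtain ⟨N'', _, _, _, _, _⟩ := Module.IsStablyFree.exist_free_prod R P''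
    let e1 : ((P' × N') × (P'' × N'')) ≃ₗ[R] (P' × P'') × (N' × N'') :=
      { toFun := fun y => ((y.1.1, y.2.1), (y.1.2, y.2.2))
        invFun := fun x => ((x.1.1, x.2.1), (x.1.2, x.2.2))
        map_add' := fun _ _ => rfl
        map_smul' := fun _ _ => rfl
        left_inv := fun _ => rfl
        right_inv := fun _ => rfl }
    haveI : Module.Free R ((P' × P'') × (N' × N'')) := Module.Free.of_equiv e1
    haveI : Module.Free R (P × (N' × N'')) :=
      Module.Free.of_equiv (e.symm.prodCongr (LinearEquiv.refl R (N' × N'')))
    exact Module.IsStablyFree.of_free_prod R P (N' × N'')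
  · intro h h''
    obtain ⟨N, _, _, _, _, _⟩ := Module.IsStablyFree.exist_free_prod R P
    obtain ⟨N'', _, _, _, _, _⟩ := Module.IsStablyFree.exist_free_prod R P''
    haveI : Module.Free R ((P' × P'') × N) :=
      Module.Free.of_equiv (e.prodCongr (LinearEquiv.refl R N))
    let e1 : (((P' × P'') × N) × N'') ≃ₗ[R] P' × ((P'' × N'') × N) :=
      { toFun := fun y => (y.1.1.1, ((y.1.1.2, y.2), y.1.2))
        invFun := fun x => (((x.1, x.2.1.1), x.2.2), x.2.1.2)
        map_add' := fun _ _ => rfl
        map_smul' := fun _ _ => rfl
        left_inv := fun _ => rfl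
        right_inv := fun _ => rfl }
    haveI : Module.Free R (P' × ((P'' × N'') × N)) := Module.Free.of_equiv e1
    exact Module.IsStablyFree.of_free_prod R P' ((P'' × N'') × N)

end Groth.Agent.S6862
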