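import Groth.Statements.S6865
import Groth.Agent.Lib.NakayamaBC_helper9

set_option autoImplicit false
universe u
open TensorProduct
open CAlg

namespace Groth.Agent.S6865

/-- Let `I` be an ideal of a commutative ring `R` contained in the Jacobson radical and let `P, P'` be
finite projective `R`-modules. If `P/IP` and `P'/IP'` are isomorphic `R/I`-modules, then `P` and
`P'` are isomorphic. -/
theorem result {R : Type u} [CommRing R] (I : Ideal R)
    (hI : I ≤ Ideal.jacobson (⊥ : Ideal R)) (P P' : Type u)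
    [AddCommGroup P] [Module R P] [Module.Finite R P] [Module.Projective R P]
    [AddCommGroup P'] [Module R P'] [Module.Finite R P'] [Module.Projective R P']
    (e : (R ⧸ I) ⊗[R] P ≃ₗ[R ⧸ I] (R ⧸ I) ⊗[R] P') : Nonempty (P ≃ₗ[R] P') := by
  -- lift `P → (R ⧸ I) ⊗ P ≃ (R ⧸ I) ⊗ P'` along the surjection `P' → (R ⧸ I) ⊗ P'`
  let q' : P' →ₗ[R] (R ⧸ I) ⊗[R] P' := TensorProduct.mk R (R ⧸ I) P' 1
  let q : P →ₗ[R] (R ⧸ I) ⊗[R] P := TensorProduct.mk R (R ⧸ I) P 1
  have hq' : Function.Surjective q' := Groth.Agent.Lib.NakayamaBC_helper9.mk_one_surjective I P'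
  obtain ⟨φ, hφ⟩ := Module.projective_lifting_property q' ((e.toLinearMap.restrictScalars R) ∘ₗ q) hq'
  have hbc : φ.baseChange (R ⧸ I) = e.toLinearMap := by
    apply TensorProduct.AlgebraTensorModule.curry_injective
    ext x
    have := LinearMap.congr_fun hφ x
    simpa [q, q'] using this
  have hbij : Function.Bijective (φ.baseChange (R ⧸ I)) := by
    rw [hbc]; exact e.bijective
  exact ⟨LinearEquiv.ofBijective φ
    (Groth.Agent.Lib.NakayamaBC_helper9.bijective_of_baseChange_bijective hI φ hbij)⟩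

end Groth.Agent.S6865
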