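import Groth.Statements.S6866
import Groth.Agent.Lib.TorsionFree_helper9
import Mathlib.LinearAlgebra.TensorProduct.Finiteness
import Mathlib.LinearAlgebra.TensorProduct.Pi
import Mathlib.RingTheory.Flat.Basic

set_option autoImplicit false
universe u
open TensorProduct
open CAlg

namespace Groth.Agent.S6866

/-- If `M` is a torsion free module over a domain `R` and `R → R'` is a flat ring map to another domain,
then `R' ⊗_R M` is torsion free over `R'`. -/
theorem result (R R' : Type u) [CommRing R] [IsDomain R] [CommRing R']
    [IsDomain R'] [Algebra R R'] [Module.Flat R R'] (M : Type u) [AddCommGroup M] [Module R M]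
    [Module.IsTorsionFree R M] : Module.IsTorsionFree R' (R' ⊗[R] M) := by
  classical
  rw [Module.isTorsionFree_iff_smul_eq_zero]
  intro r z hz
  by_cases hr : r = 0
  · exact Or.inl hr
  right
  -- `z` comes from a finitely generated submodule `P` of `M`
  obtain ⟨P, hPfin, hP⟩ := TensorProduct.exists_finite_submodule_right_of_setFinite
    ({z} : Set (R' ⊗[R] M)) (Set.finite_singleton z)
  obtain ⟨z', rfl⟩ := hP (Set.mem_singleton z)
  haveI : Module.Finite R P := hPfin
  haveI : Module.IsTorsionFree R P :=
    Function.Injective.moduleIsTorsionFree P.subtype P.injective_subtype (map_smul P.subtype)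
  have hinj : Function.Injective (P.subtype.lTensor R') :=
    Module.Flat.lTensor_preserves_injective_linearMap _ P.injective_subtype
  -- `P` embeds in a finite free module
  obtain ⟨n, f, hf⟩ := Groth.Agent.Lib.TorsionFree_helper9.exists_injective_to_fin_fun R P
  have hinj2 : Function.Injective (f.baseChange R') := by
    have : (f.baseChange R' : R' ⊗[R] P → R' ⊗[R] (Fin n → R)) = f.lTensor R' := by
      ext x; rfl
    rw [this]
    exact Module.Flat.lTensor_preserves_injective_linearMap _ hf
  let e : R' ⊗[R] (Fin n → R) ≃ₗ[R'] (Fin n → R') := TensorProduct.piScalarRight R R' R' (Fin n)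
  have hinj3 : Function.Injective (e.toLinearMap ∘ₗ f.baseChange R') := by
    rw [LinearMap.coe_comp]
    exact e.injective.comp hinj2
  haveI : Module.IsTorsionFree R' (R' ⊗[R] P) :=
    Function.Injective.moduleIsTorsionFree _ hinj3 (map_smul (e.toLinearMap ∘ₗ f.baseChange R'))
  -- conclude
  have h1 : (P.subtype.lTensor R') (r • z') = 0 := by
    have : (P.subtype.lTensor R') (r • z') = r • (P.subtype.lTensor R') z' := by
      have h2 : (P.subtype.lTensor R' : R' ⊗[R] P → R' ⊗[R] M) = P.subtype.baseChange R' := by
        ext x; rfl
      rw [h2, map_smul]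
    rw [this]
    exact hz
  have h2 : r • z' = 0 := hinj (by rw [h1, map_zero])
  have h3 : z' = 0 := (smul_eq_zero.mp h2).resolve_left hr
  rw [h3, map_zero]

end Groth.Agent.S6866
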