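import Groth.Statements.S6868
import Mathlib
import Groth.Agent.S2085

set_option autoImplicit false
universe u
open CAlg

namespace Groth.Agent.S6868

/-- (1) ⇔ (3) ⇔ (4): for a Noetherian domain `R` and a nonzero finite `R`-module `M`, torsion-freeness
of `M` is equivalent to `(0)` being the unique associated prime of `M`, and also to the conjunction:
`(0)` belongs to the support of `M` and `M` satisfies Serre's condition `(S_1)`. (The published
statement also lists embedding into a finite free module and the absence of embedded associated
primes; this row states the other three conditions.) -/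
theorem result (R : Type u) [CommRing R]
    [IsDomain R] [IsNoetherianRing R] (M : Type u) [AddCommGroup M] [Module R M] [Module.Finite R M] [Nontrivial M] :
    (Module.IsTorsionFree R M ↔ associatedPrimes R M = {⊥}) ∧
    (Module.IsTorsionFree R M ↔
      (⟨⊥, Ideal.isPrime_bot⟩ : PrimeSpectrum R) ∈ Module.support R M ∧ LocCoh.HasSk 1 R M) := by
  classical
  -- associated primes of a torsion free module are zero
  have hass_of_tf : Module.IsTorsionFree R M → associatedPrimes R M = {⊥} := by
    intro htf
    have hsub : ∀ P ∈ associatedPrimes R M, P = ⊥ := by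
      intro P hP
      obtain ⟨hpprime, x, hx⟩ := isAssociatedPrime_iff.1 hP
      have hxne : x ≠ 0 := by
        rintro rfl
        apply hpprime.ne_top
        rw [hx, Ideal.eq_top_iff_one, Submodule.mem_colon_singleton]
        simp
      rw [eq_bot_iff]
      intro a ha
      rw [hx, Submodule.mem_colon_singleton, Submodule.mem_bot] at ha
      by_contra ha0
      rw [Submodule.mem_bot] at ha0
      have hreg : IsSMulRegular M a :=
        Module.IsTorsionFree.isSMulRegular (isRegular_of_ne_zero ha0)
      apply hxne
      apply hreg
      show a • x = a • 0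
      rw [ha, smul_zero]
    obtain ⟨P, hP⟩ := associatedPrimes.nonempty R M
    apply Set.eq_singleton_iff_unique_mem.2
    refine ⟨?_, hsub⟩
    rw [← hsub P hP]
    exact hP
  have htf_of_ass : associatedPrimes R M = {⊥} → Module.IsTorsionFree R M := by
    intro hass
    constructor
    intro a ha
    have ha0 : a ≠ 0 := ha.ne_zero
    rw [isSMulRegular_iff_right_eq_zero_of_smul]
    intro m hm
    by_contra hmne
    have hzd : a ∈ {r : R | ∃ x : M, x ≠ 0 ∧ r • x = 0} := ⟨m, hmne, hm⟩
    rw [← biUnion_associatedPrimes_eq_zero_divisors R M, hass] at hzd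
    simp only [Set.mem_singleton_iff, Set.iUnion_iUnion_eq_left, SetLike.mem_coe,
      Ideal.mem_bot] at hzd
    exact ha0 hzd
  refine ⟨⟨hass_of_tf, htf_of_ass⟩, ?_⟩
  constructor
  · intro htf
    have hass := hass_of_tf htf
    have hbotass : (⊥ : Ideal R) ∈ associatedPrimes R M := by rw [hass]; rfl
    have hann : Module.annihilator R M ≤ ⊥ := by
      have := IsAssociatedPrime.annihilator_le hbotass
      rwa [Submodule.annihilator_top] at this
    refine ⟨?_, ?_⟩
    · rw [Module.support_eq_zeroLocus]
      exact hann
    · rw [← Groth.Agent.S2085.result]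
      intro p hp
      rw [hass, Set.mem_singleton_iff] at hp
      rw [hp]
      exact ⟨⟨Ideal.isPrime_bot, hann⟩, fun q _ _ => bot_le⟩
  · rintro ⟨hsupp, hS1⟩
    apply htf_of_ass
    rw [Module.support_eq_zeroLocus] at hsupp
    have hann : Module.annihilator R M = ⊥ := eq_bot_iff.2 hsupp
    rw [← Groth.Agent.S2085.result] at hS1
    have hsub : ∀ P ∈ associatedPrimes R M, P = ⊥ := by
      intro P hP
      have h1 := hS1 P hP
      rw [hann] at h1
      have h2 : (⊥ : Ideal R) ∈ (⊥ : Ideal R).minimalPrimes :=
        ⟨⟨Ideal.isPrime_bot, le_rfl⟩, fun q _ _ => bot_le⟩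
      exact le_antisymm (h1.2 h2.1 bot_le) bot_le
    obtain ⟨P, hP⟩ := associatedPrimes.nonempty R M
    apply Set.eq_singleton_iff_unique_mem.2
    refine ⟨?_, hsub⟩
    rw [← hsub P hP]
    exact hP

end Groth.Agent.S6868
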