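import Groth.Statements.S6870
import Groth.Agent.Lib.TorsionFree2_helper9

set_option autoImplicit false
universe u
open CAlg

namespace Groth.Agent.S6870

/-- Let `R` be a domain, `M` a finite `R`-module and `j : M → M**` the evaluation map into the double
dual. Then one nonzero `c ∈ R` kills the kernel of `j` and multiplies `M**` into the image of `j`.
(The published statement says only that the kernel and cokernel of `j` are torsion; this row gives
one such `c` for both.) -/
theorem result (R : Type u) [CommRing R] [IsDomain R] (M : Type u)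
    [AddCommGroup M] [Module R M] [Module.Finite R M] :
    ∃ c : R, c ≠ 0 ∧ (∀ x : M, Module.Dual.eval R M x = 0 → c • x = 0) ∧
      ∀ y : Module.Dual R (Module.Dual R M), c • y ∈ LinearMap.range (Module.Dual.eval R M) := by
  obtain ⟨n, b, A, g, hA, hAm⟩ := Groth.Agent.Lib.TorsionFree2_helper9.exists_coords R M
  refine ⟨A, hA, ?_, ?_⟩
  · intro x hx
    rw [hAm x]
    apply Finset.sum_eq_zero
    intro i _
    have : g x i = 0 := by
      have := LinearMap.congr_fun hx ((LinearMap.proj i : (Fin n → R) →ₗ[R] R) ∘ₗ g)
      simpa using this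
    rw [this, zero_smul]
  · intro y
    refine ⟨∑ i, y ((LinearMap.proj i : (Fin n → R) →ₗ[R] R) ∘ₗ g) • b i, ?_⟩
    ext φ
    have hAφ : A • φ = ∑ i, φ (b i) • ((LinearMap.proj i : (Fin n → R) →ₗ[R] R) ∘ₗ g) := by
      ext m
      rw [LinearMap.smul_apply, ← map_smul, hAm m, map_sum, LinearMap.sum_apply]
      refine Finset.sum_congr rfl (fun i _ => ?_)
      simp [mul_comm]
    rw [Module.Dual.eval_apply, map_sum, LinearMap.smul_apply, smul_eq_mul]
    have h2 : A * y φ = y (A • φ) := by rw [map_smul, smul_eq_mul]
    rw [h2, hAφ, map_sum]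
    refine Finset.sum_congr rfl (fun i _ => ?_)
    rw [map_smul, map_smul, smul_eq_mul, smul_eq_mul, mul_comm]

end Groth.Agent.S6870
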