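import Groth.Statements.S6882
import Groth.Agent.Lib.TorsionFree2_helper9

set_option autoImplicit false
universe u
open CAlg

namespace Groth.Agent.S6882

/-- For a finite module `M` over a discrete valuation ring `R`, the evaluation map from `M` to its
double dual `M**` is surjective. -/
theorem result (R : Type u) [CommRing R] [IsDomain R]
    [IsDiscreteValuationRing R] (M : Type u) [AddCommGroup M] [Module R M] [Module.Finite R M] :
    Function.Surjective (Module.Dual.eval R M) := by
  haveI : Module.Free R (M ⧸ Submodule.torsion R M) := Module.free_of_finite_type_torsion_free'
  exact Groth.Agent.Lib.TorsionFree2_helper9.dual_eval_surjective_of_quotient_torsion_reflexive R M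

end Groth.Agent.S6882
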