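import Groth.Statements.S6888
import Mathlib

set_option autoImplicit false
universe u
open Polynomial
open CAlg

namespace Groth.Agent.S6888

/-- Let `A` be absolutely integrally closed (every monic polynomial over `A` is a product of linear
factors) and `I ⊆ A` an ideal contained in the Jacobson radical such that `A → A/I` is surjective
(hence bijective) on idempotents. Then `(A, I)` is a henselian pair. (The published statement also
records the converse, which holds for every henselian pair; this row states the sufficiency only.) -/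
theorem result (A : Type u) [CommRing A]
    (hA : ∀ f : A[X], f.Monic → ∃ s : Multiset A, f = (s.map fun a => X - C a).prod) (I : Ideal A)
    (hI : I ≤ Ideal.jacobson (⊥ : Ideal A))
    (hidem : ∀ e : A ⧸ I, IsIdempotentElem e → ∃ e' : A, IsIdempotentElem e' ∧ Ideal.Quotient.mk I e' = e) :
    HenselianRing A I := by
  classical
  have idem0 : ∀ e : A, IsIdempotentElem e → e ∈ Ideal.jacobson (⊥ : Ideal A) → e = 0 := by
    intro e he hj
    have hu : IsUnit (e * (-1) + 1) := Ideal.mem_jacobson_bot.1 hj (-1)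
    have h0 : e * (e * (-1) + 1) = 0 := by
      have := he.eq
      calc e * (e * (-1) + 1) = -(e * e) + e := by ring
        _ = 0 := by rw [this]; ring
    exact (hu.mul_left_eq_zero).1 h0
  refine ⟨hI, ?_⟩
  intro f hf a₀ h₁ h₂
  obtain ⟨s, hs⟩ := hA f hf
  obtain ⟨l, hl⟩ : ∃ l : List A, s = ↑l := ⟨s.toList, (Multiset.coe_toList s).symm⟩
  have hfr0 : f = ∏ i : Fin l.length, (X - C (l.get i)) := by
    rw [hs, hl, Multiset.map_coe, Multiset.prod_coe]
    conv_lhs => rw [← List.ofFn_get l]
    rw [List.map_ofFn, List.prod_ofFn]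
    rfl
  obtain ⟨n, r, hfr⟩ : ∃ (n : ℕ) (r : Fin n → A), f = ∏ i : Fin n, (X - C (r i)) :=
    ⟨_, _, hfr0⟩
  obtain ⟨b, hb⟩ : ∃ b : Fin n → A, ∀ i, b i = a₀ - r i := ⟨_, fun _ => rfl⟩
  have hev : f.eval a₀ = ∏ i, b i := by
    rw [hfr, eval_prod]
    refine Finset.prod_congr rfl fun i _ => ?_
    rw [hb]; simp
  have hder : f.derivative.eval a₀ = ∑ i, ∏ j ∈ Finset.univ.erase i, b j := by
    rw [hfr, derivative_prod_finset, eval_finset_sum]
    refine Finset.sum_congr rfl fun i _ => ?_
    rw [eval_mul, eval_prod]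
    have h1 : eval a₀ (derivative (X - C (r i))) = 1 := by simp
    rw [h1, mul_one]
    refine Finset.prod_congr rfl fun j _ => ?_
    rw [hb]; simp
  obtain ⟨c, hc⟩ : ∃ c : Fin n → A ⧸ I, ∀ i,
      c i = Ideal.Quotient.mk I (∏ j ∈ Finset.univ.erase i, b j) := ⟨_, fun _ => rfl⟩
  have hprod0 : Ideal.Quotient.mk I (∏ i, b i) = 0 := by
    rw [← hev]; exact Ideal.Quotient.eq_zero_iff_mem.2 h₁
  have hcb : ∀ i, c i * Ideal.Quotient.mk I (b i) = 0 := by
    intro i
    rw [hc, ← map_mul, mul_comm, Finset.mul_prod_erase Finset.univ b (Finset.mem_univ i)]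
    exact hprod0
  have hcc : ∀ i j, i ≠ j → c i * c j = 0 := by
    intro i j hij
    have h1 : c j = Ideal.Quotient.mk I (b i) *
        Ideal.Quotient.mk I (∏ k ∈ (Finset.univ.erase j).erase i, b k) := by
      rw [hc, ← map_mul,
        Finset.mul_prod_erase _ b (Finset.mem_erase.2 ⟨hij, Finset.mem_univ i⟩)]
    rw [h1, ← mul_assoc, hcb, zero_mul]
  have hu : IsUnit (∑ i, c i) := by
    have h1 : ∑ i, c i = Ideal.Quotient.mk I (f.derivative.eval a₀) := by
      rw [hder, map_sum]; exact Finset.sum_congr rfl fun i _ => hc i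
    rw [h1]; exact h₂
  obtain ⟨v, hv⟩ := hu.exists_right_inv
  have hcv : ∀ i, c i * c i * v = c i := by
    intro i
    have h1 : c i * ∑ j, c j = c i * c i := by
      rw [Finset.mul_sum, Finset.sum_eq_single i (fun j _ hj => hcc i j (Ne.symm hj))
        (fun h => absurd (Finset.mem_univ i) h)]
    calc c i * c i * v = c i * (∑ j, c j) * v := by rw [h1]
      _ = c i * ((∑ j, c j) * v) := by ring
      _ = c i := by rw [hv, mul_one]
  have hid : ∀ i, IsIdempotentElem (c i * v) := by
    intro i
    show c i * v * (c i * v) = c i * v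
    calc c i * v * (c i * v) = (c i * c i * v) * v := by ring
      _ = c i * v := by rw [hcv]
  choose g hg hgc using fun i => hidem (c i * v) (hid i)
  have horth : ∀ i j, i ≠ j → g i * g j = 0 := by
    intro i j hij
    apply idem0 _ ((hg i).mul (hg j))
    apply hI
    rw [← Ideal.Quotient.eq_zero_iff_mem, map_mul, hgc, hgc]
    calc c i * v * (c j * v) = (c i * c j) * (v * v) := by ring
      _ = 0 := by rw [hcc i j hij, zero_mul]
  have hsum : ∑ i, g i = 1 := by
    have hidS : IsIdempotentElem (∑ i, g i) := by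
      show (∑ i, g i) * (∑ i, g i) = ∑ i, g i
      rw [Finset.sum_mul]
      refine Finset.sum_congr rfl fun i _ => ?_
      rw [Finset.mul_sum, Finset.sum_eq_single i (fun j _ hj => horth i j (Ne.symm hj))
        (fun h => absurd (Finset.mem_univ i) h)]
      exact (hg i).eq
    have h1 : (1 - ∑ i, g i) = 0 := by
      apply idem0 _ hidS.one_sub
      apply hI
      rw [← Ideal.Quotient.eq_zero_iff_mem, map_sub, map_one, map_sum]
      have h2 : ∑ i, Ideal.Quotient.mk I (g i) = (∑ i, c i) * v := by
        rw [Finset.sum_mul]; exact Finset.sum_congr rfl fun i _ => hgc i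
      rw [h2, hv, sub_self]
    rw [sub_eq_zero] at h1; exact h1.symm
  obtain ⟨a, ha⟩ : ∃ a : A, a = ∑ i, g i * r i := ⟨_, rfl⟩
  refine ⟨a, ?_, ?_⟩
  · have hga : ∀ i, g i * a = g i * r i := by
      intro i
      rw [ha, Finset.mul_sum, Finset.sum_eq_single i]
      · rw [← mul_assoc, (hg i).eq]
      · intro j _ hj; rw [← mul_assoc, horth i j (Ne.symm hj), zero_mul]
      · intro h; exact absurd (Finset.mem_univ i) h
    have hfa : f.eval a = ∏ k, (a - r k) := by
      rw [hfr, eval_prod]; simp
    have hgf : ∀ i, g i * f.eval a = 0 := by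
      intro i
      rw [hfa, ← Finset.mul_prod_erase Finset.univ (fun k => a - r k) (Finset.mem_univ i),
        ← mul_assoc, mul_sub, hga, sub_self, zero_mul]
    show f.eval a = 0
    calc f.eval a = (∑ i, g i) * f.eval a := by rw [hsum, one_mul]
      _ = ∑ i, g i * f.eval a := Finset.sum_mul _ _ _
      _ = 0 := Finset.sum_eq_zero fun i _ => hgf i
  · rw [← Ideal.Quotient.eq_zero_iff_mem, map_sub, ha, map_sum]
    have h1 : ∀ i, Ideal.Quotient.mk I (g i * r i) = c i * v * Ideal.Quotient.mk I a₀ := by
      intro i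
      rw [map_mul, hgc]
      have h2 : Ideal.Quotient.mk I (r i) = Ideal.Quotient.mk I a₀ - Ideal.Quotient.mk I (b i) := by
        rw [hb, map_sub]; ring
      rw [h2, mul_sub]
      have h3 : c i * v * Ideal.Quotient.mk I (b i) = 0 := by
        rw [mul_right_comm, hcb, zero_mul]
      rw [h3, sub_zero]
    rw [Finset.sum_congr rfl fun i _ => h1 i, ← Finset.sum_mul, ← Finset.sum_mul, hv, one_mul,
      sub_self]

end Groth.Agent.S6888
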