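import Groth.Statements.S6894
import Mathlib
import Groth.Agent.Lib.Fitt5_helper8

set_option autoImplicit false
universe u
open TensorProduct
open Fitt

namespace Groth.Agent.S6894

/-- Let `M` be a finite `R`-module, `k ≥ 0` and `𝔭 ⊆ R` a prime. Then each of the following conditions
implies all the others: the Fitting ideal `Fit_k(M)` is not contained in `𝔭`; the fiber `M ⊗_R κ(𝔭)`
has dimension at most `k` over `κ(𝔭)`; some `k` elements span the localization `M_𝔭` over `R_𝔭`; and
for some `f ∉ 𝔭`, the module `M_f` is spanned over `R_f` by `k` elements. -/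
theorem result {R : Type u} [CommRing R] (M : Type u) [AddCommGroup M] [Module R M]
    [Module.Finite R M] (k : ℕ) (p : Ideal R) [p.IsPrime] :
    (¬ Fitt.ideal R M k ≤ p ↔ Module.finrank p.ResidueField (p.ResidueField ⊗[R] M) ≤ k) ∧
    (¬ Fitt.ideal R M k ≤ p ↔
      ∃ g : Fin k → LocalizedModule p.primeCompl M, Submodule.span (Localization.AtPrime p) (Set.range g) = ⊤) ∧
    (¬ Fitt.ideal R M k ≤ p ↔ ∃ f : R, f ∉ p ∧
      ∃ g : Fin k → LocalizedModule (Submonoid.powers f) M,
        Submodule.span (Localization.Away f) (Set.range g) = ⊤) := by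
  classical
  obtain ⟨n, x, hx⟩ := Module.Finite.exists_fin (R := R) (M := M)
  refine ⟨?_, ?_, ?_⟩
  · have hbc := FittH8.fitt_baseChange (R := R) (M := M) p.ResidueField k
    let b := Module.finBasis p.ResidueField (p.ResidueField ⊗[R] M)
    have hker : RingHom.ker (algebraMap R p.ResidueField) = p := Ideal.ker_algebraMap_residueField p
    constructor
    · intro h
      by_contra hlt
      push Not at hlt
      have := FittH8.fitt_of_basis_of_lt b k hlt
      rw [hbc, Ideal.map_eq_bot_iff_le_ker, hker] at this
      exact h this
    · intro h hle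
      have h1 := FittH8.fitt_of_basis_of_le b k h
      rw [hbc] at h1
      have h2 : (Fitt.ideal R M k).map (algebraMap R p.ResidueField) = ⊥ := by
        rw [Ideal.map_eq_bot_iff_le_ker, hker]
        exact hle
      rw [h2] at h1
      exact bot_ne_top h1
  · constructor
    · intro h
      obtain ⟨z, e, hrel, hd⟩ := FittH8.exists_minor_notMem x hx k p h
      obtain ⟨d, hdd⟩ : ∃ d, d = (Matrix.of fun a b => z b (e a)).det := ⟨_, rfl⟩
      rw [← hdd] at hd
      apply FittH8.exists_fin_span_of_minor x hx k z e hrel (Localization.AtPrime p)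
        (LocalizedModule p.primeCompl M) (LocalizedModule.mkLinearMap p.primeCompl M)
      · have := span_eq_top_of_isLocalizedModule (Localization.AtPrime p) p.primeCompl
          (LocalizedModule.mkLinearMap p.primeCompl M) (v := Set.univ) (by simp)
        rw [Set.image_univ] at this
        exact this
      · rw [← hdd]
        exact IsLocalization.map_units (Localization.AtPrime p) (⟨d, hd⟩ : p.primeCompl)
    · rintro ⟨g, hg⟩
      exact FittH8.fitt_not_le_of_span k p p.primeCompl
        (Set.disjoint_left.mpr fun a ha ha' => ha ha') (Localization.AtPrime p) _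
        (LocalizedModule.mkLinearMap p.primeCompl M) g hg
  · constructor
    · intro h
      obtain ⟨z, e, hrel, hd⟩ := FittH8.exists_minor_notMem x hx k p h
      obtain ⟨d, hdd⟩ : ∃ d, d = (Matrix.of fun a b => z b (e a)).det := ⟨_, rfl⟩
      rw [← hdd] at hd
      refine ⟨d, hd, ?_⟩
      apply FittH8.exists_fin_span_of_minor x hx k z e hrel (Localization.Away d)
        (LocalizedModule (Submonoid.powers d) M) (LocalizedModule.mkLinearMap (Submonoid.powers d) M)
      · have := span_eq_top_of_isLocalizedModule (Localization.Away d) (Submonoid.powers d)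
          (LocalizedModule.mkLinearMap (Submonoid.powers d) M) (v := Set.univ) (by simp)
        rw [Set.image_univ] at this
        exact this
      · rw [← hdd]
        exact IsLocalization.map_units (Localization.Away d) ⟨d, Submonoid.mem_powers d⟩
    · rintro ⟨f, hf, g, hg⟩
      refine FittH8.fitt_not_le_of_span k p (Submonoid.powers f) ?_ (Localization.Away f) _
        (LocalizedModule.mkLinearMap (Submonoid.powers f) M) g hg
      rw [Set.disjoint_left]
      rintro a ⟨m, rfl⟩ ha
      exact hf (Ideal.IsPrime.mem_of_pow_mem inferInstance m ha)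

end Groth.Agent.S6894
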