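import Groth.Statements.S6912
import Mathlib

set_option autoImplicit false
universe u
open TensorProduct
open CAlg

namespace Groth.Agent.S6912

/-- Let `R` be a domain and `M`, `N` two `R`-modules; rank means dimension over the fraction field after
base change. Then `rank (M ⊗_R N) = rank M · rank N`, and when `M` is finitely presented also `rank
Hom_R(M, N) = rank M · rank N`. -/
theorem result (R : Type u) [CommRing R] [IsDomain R] (M N : Type u)
    [AddCommGroup M] [Module R M] [AddCommGroup N] [Module R N] :
    Module.rank R (M ⊗[R] N) = Module.rank R M * Module.rank R N ∧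
    (Module.FinitePresentation R M → Module.rank R (M →ₗ[R] N) = Module.rank R M * Module.rank R N) := by
  classical
  have hM : Module.rank (FractionRing R) (FractionRing R ⊗[R] M) = Module.rank R M :=
    (TensorProduct.isBaseChange R M (FractionRing R)).rank_eq
  have hN : Module.rank (FractionRing R) (FractionRing R ⊗[R] N) = Module.rank R N :=
    (TensorProduct.isBaseChange R N (FractionRing R)).rank_eq
  refine ⟨?_, fun hfp => ?_⟩
  · have h1 : Module.rank (FractionRing R) (FractionRing R ⊗[R] (M ⊗[R] N)) =
        Module.rank R (M ⊗[R] N) :=
      (TensorProduct.isBaseChange R (M ⊗[R] N) (FractionRing R)).rank_eq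
    rw [← h1, (TensorProduct.AlgebraTensorModule.distribBaseChange R (FractionRing R) M N).rank_eq,
      rank_tensorProduct', hM, hN]
  · have h1 : Module.rank (FractionRing R)
        (FractionRing R ⊗[R] M →ₗ[FractionRing R] FractionRing R ⊗[R] N) =
        Module.rank R (M →ₗ[R] N) := by
      have hbc := Module.FinitePresentation.isBaseChange_map R M N (FractionRing R)
      exact IsBaseChange.rank_eq (R := R) (T := FractionRing R) (M := M →ₗ[R] N)
        (P := FractionRing R ⊗[R] M →ₗ[FractionRing R] FractionRing R ⊗[R] N)
        (g := LinearMap.baseChangeHom R (FractionRing R) M N) hbc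
    rw [← h1, Module.rank_linearMap, hM, hN, Cardinal.lift_id, Cardinal.lift_id]

end Groth.Agent.S6912
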