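import Groth.Statements.S6913
import Mathlib

set_option autoImplicit false
universe u
open CAlg

namespace Groth.Agent.S6913

/-- Let `R` be a domain and `M` a finite `R`-module, of (finite) rank `r`. Then: some linear map `M →
R^r` has torsion kernel and torsion cokernel; some nonzero `f ∈ R` makes `M_f` free of rank `r` over
`R_f`; and some injective linear map `R^r → M` has torsion cokernel. -/
theorem result (R : Type u) [CommRing R] [IsDomain R] (M : Type u) [AddCommGroup M]
    [Module R M] [Module.Finite R M] :
    (∃ h : M →ₗ[R] (Fin (Module.finrank R M) → R),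
      (∀ x : M, h x = 0 → ∃ c : R, c ≠ 0 ∧ c • x = 0) ∧
      (∀ y : Fin (Module.finrank R M) → R, ∃ c : R, c ≠ 0 ∧ c • y ∈ LinearMap.range h)) ∧
    (∃ f : R, f ≠ 0 ∧ Module.Free (Localization.Away f) (LocalizedModule (Submonoid.powers f) M) ∧
      Module.finrank (Localization.Away f) (LocalizedModule (Submonoid.powers f) M) = Module.finrank R M) ∧
    (∃ g : (Fin (Module.finrank R M) → R) →ₗ[R] M, Function.Injective g ∧
      ∀ x : M, ∃ c : R, c ≠ 0 ∧ c • x ∈ LinearMap.range g) := by
  classical
  set r := Module.finrank R M with hr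
  obtain ⟨v, hv⟩ := exists_linearIndependent_of_le_finrank (R := R) (M := M) (le_refl r)
  let g : (Fin r → R) →ₗ[R] M := Fintype.linearCombination R v
  have hgapp : ∀ y : Fin r → R, g y = ∑ i, y i • v i := fun y => Fintype.linearCombination_apply R v y
  have hg : Function.Injective g := by
    rw [injective_iff_map_eq_zero]
    intro y hy
    rw [hgapp] at hy
    funext i
    exact Fintype.linearIndependent_iff.mp hv y hy i
  -- every element has a nonzero multiple in the range of g
  have htors : ∀ x : M, ∃ c : R, c ≠ 0 ∧ c • x ∈ LinearMap.range g := by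
    intro x
    have hnot : ¬ LinearIndependent R (Fin.cons x v : Fin (r + 1) → M) := by
      intro h
      have := h.fintype_card_le_finrank
      rw [Fintype.card_fin] at this
      omega
    rw [Fintype.linearIndependent_iff] at hnot
    push Not at hnot
    obtain ⟨c, hc, i, hi⟩ := hnot
    rw [Fin.sum_univ_succ] at hc
    simp only [Fin.cons_zero, Fin.cons_succ] at hc
    have hc0 : c 0 ≠ 0 := by
      intro h0
      rw [h0, zero_smul, zero_add] at hc
      have hall := (Fintype.linearIndependent_iff.mp hv) (fun j => c j.succ) hc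
      refine Fin.cases ?_ (fun j => ?_) i hi
      · intro h; exact h h0
      · intro h; exact h (hall j)
    refine ⟨c 0, hc0, ⟨fun j => - c j.succ, ?_⟩⟩
    rw [hgapp]
    simp only [neg_smul, Finset.sum_neg_distrib]
    rw [neg_eq_iff_add_eq_zero, add_comm]
    exact hc
  -- uniform multiplier
  obtain ⟨S, hS⟩ := (Module.Finite.fg_top : (⊤ : Submodule R M).FG)
  choose c hc0 hcmem using htors
  set f : R := ∏ s ∈ S, c s with hf
  have hf0 : f ≠ 0 := Finset.prod_ne_zero_iff.mpr (fun s _ => hc0 s)
  have hfM : ∀ m : M, f • m ∈ LinearMap.range g := by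
    intro m
    have hm : m ∈ Submodule.span R (S : Set M) := by rw [hS]; trivial
    refine Submodule.span_induction (p := fun m _ => f • m ∈ LinearMap.range g) ?_ ?_ ?_ ?_ hm
    · intro s hs
      obtain ⟨d, hd⟩ : c s ∣ f := Finset.dvd_prod_of_mem c hs
      rw [hd, mul_comm, mul_smul]
      exact Submodule.smul_mem _ _ (hcmem s)
    · simp
    · intro x y _ _ hx hy
      rw [smul_add]; exact add_mem hx hy
    · intro a x _ hx
      rw [smul_comm]; exact Submodule.smul_mem _ _ hx
  refine ⟨?_, ?_, ⟨g, hg, fun x => ⟨c x, hc0 x, hcmem x⟩⟩⟩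
  · -- the map h
    let e := LinearEquiv.ofInjective g hg
    let h : M →ₗ[R] (Fin r → R) :=
      e.symm.toLinearMap ∘ₗ (LinearMap.codRestrict (LinearMap.range g) (f • LinearMap.id) hfM)
    have hh : ∀ m : M, g (h m) = f • m := by
      intro m
      have : (e (h m) : M) = f • m := by
        simp only [h, LinearMap.coe_comp, LinearEquiv.coe_coe, Function.comp_apply,
          LinearEquiv.apply_symm_apply]
        rfl
      rw [← this]; rfl
    refine ⟨h, ?_, ?_⟩
    · intro x hx
      refine ⟨f, hf0, ?_⟩
      rw [← hh x, hx, map_zero]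
    · intro y
      refine ⟨f, hf0, ⟨g y, ?_⟩⟩
      apply hg
      rw [hh, map_smul]
  · refine ⟨f, hf0, ?_⟩
    set Sf := Submonoid.powers f
    have hinj : Function.Injective (LocalizedModule.map Sf g) :=
      LocalizedModule.map_injective Sf g hg
    have hsurj : Function.Surjective (LocalizedModule.map Sf g) := by
      intro y
      induction y using LocalizedModule.induction_on with
      | h m s =>
        obtain ⟨w, hw⟩ := hfM m
        refine ⟨LocalizedModule.mk w (⟨f, Submonoid.mem_powers f⟩ * s), ?_⟩
        rw [LocalizedModule.map_mk, hw]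
        exact LocalizedModule.mk_cancel_common_left ⟨f, Submonoid.mem_powers f⟩ s m
    let φ : LocalizedModule Sf (Fin r → R) →ₗ[Localization.Away f] LocalizedModule Sf M :=
      LinearMap.extendScalarsOfIsLocalization Sf (Localization.Away f) (LocalizedModule.map Sf g)
    have hφ : ∀ x, φ x = LocalizedModule.map Sf g x := fun x => rfl
    let e : LocalizedModule Sf (Fin r → R) ≃ₗ[Localization.Away f] LocalizedModule Sf M :=
      LinearEquiv.ofBijective φ
        ⟨fun a b hab => hinj (by rw [← hφ, ← hφ]; exact hab),
         fun y => by obtain ⟨x, hx⟩ := hsurj y; exact ⟨x, by rw [hφ]; exact hx⟩⟩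
    haveI : Nontrivial (Localization.Away f) := by
      have hle : Sf ≤ nonZeroDivisors R :=
        Submonoid.powers_le.mpr (mem_nonZeroDivisors_of_ne_zero hf0)
      exact (IsLocalization.injective (Localization.Away f) hle).nontrivial
    haveI : Module.Free (Localization.Away f) (LocalizedModule Sf (Fin r → R)) :=
      Module.free_of_isLocalizedModule Sf (LocalizedModule.mkLinearMap Sf (Fin r → R))
    refine ⟨Module.Free.of_equiv e, ?_⟩
    rw [← e.finrank_eq, Module.finrank_of_isLocalizedModule_of_free (Localization.Away f) Sf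
      (LocalizedModule.mkLinearMap Sf (Fin r → R)), Module.finrank_fin_fun]

end Groth.Agent.S6913
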