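import Groth.Statements.S6917
import Mathlib
import Groth.Agent.Lib.MilnorSpec_helper6
-- import your own Groth.Agent.* helpers here

set_option autoImplicit false
universe u
open CategoryTheory
open EtAlg

namespace Groth.Agent.S6917

open CategoryTheory.Limits PrimeSpectrum Groth.Agent.Lib.Milnor


/-- Let `B' = B ×_A A'` be a fibre square of rings with `A' → A` surjective. Then `Spec(B') = Spec(B)
⨿_{Spec(A)} Spec(A')`: the square of prime spectra is a pushout of topological spaces. -/
theorem result (B' B A' A : Type u) [CommRing B'] [CommRing B] [CommRing A'] [CommRing A]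
    [Algebra B' B] [Algebra B' A'] [Algebra B A] [Algebra A' A] [Algebra B' A] [IsScalarTower B' B A] [IsScalarTower B' A' A]
    (hsq : EtMil.IsFibreSquare B' B A' A) :
    IsPushout (TopCat.ofHom (ContinuousMap.mk (PrimeSpectrum.comap (algebraMap B A)) (PrimeSpectrum.continuous_comap _))) (TopCat.ofHom (ContinuousMap.mk (PrimeSpectrum.comap (algebraMap A' A)) (PrimeSpectrum.continuous_comap _)))
      (TopCat.ofHom (ContinuousMap.mk (PrimeSpectrum.comap (algebraMap B' B)) (PrimeSpectrum.continuous_comap _)))
      (TopCat.ofHom (ContinuousMap.mk (PrimeSpectrum.comap (algebraMap B' A')) (PrimeSpectrum.continuous_comap _))) := by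

  have hcomm : (TopCat.ofHom (ContinuousMap.mk (PrimeSpectrum.comap (algebraMap B A)) (PrimeSpectrum.continuous_comap _))) ≫
      (TopCat.ofHom (ContinuousMap.mk (PrimeSpectrum.comap (algebraMap B' B)) (PrimeSpectrum.continuous_comap _))) =
      (TopCat.ofHom (ContinuousMap.mk (PrimeSpectrum.comap (algebraMap A' A)) (PrimeSpectrum.continuous_comap _))) ≫
      (TopCat.ofHom (ContinuousMap.mk (PrimeSpectrum.comap (algebraMap B' A')) (PrimeSpectrum.continuous_comap _))) := by
    refine TopCat.hom_ext (ContinuousMap.ext fun z => ?_)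
    exact comap_comm (B' := B') (B := B) (A' := A') (A := A) z
  refine ⟨⟨hcomm⟩, ?_⟩
  have hT : IsPushout
      ((forget TopCat).map (TopCat.ofHom (ContinuousMap.mk (PrimeSpectrum.comap (algebraMap B A)) (PrimeSpectrum.continuous_comap _))))
      ((forget TopCat).map (TopCat.ofHom (ContinuousMap.mk (PrimeSpectrum.comap (algebraMap A' A)) (PrimeSpectrum.continuous_comap _))))
      ((forget TopCat).map (TopCat.ofHom (ContinuousMap.mk (PrimeSpectrum.comap (algebraMap B' B)) (PrimeSpectrum.continuous_comap _))))
      ((forget TopCat).map (TopCat.ofHom (ContinuousMap.mk (PrimeSpectrum.comap (algebraMap B' A')) (PrimeSpectrum.continuous_comap _)))) := by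
    haveI : Mono ((forget TopCat).map (TopCat.ofHom (ContinuousMap.mk (PrimeSpectrum.comap (algebraMap B' B)) (PrimeSpectrum.continuous_comap _)))) :=
      (mono_iff_injective _).2 (comap_B_injective hsq)
    apply Types.isPushout_of_isPullback_of_mono'
    · rw [Types.isPullback_iff]
      refine ⟨?_, ?_, ?_⟩
      · rw [← Functor.map_comp, ← Functor.map_comp, hcomm]
      · rintro z₁ z₂ ⟨-, h2⟩
        exact comap_A_injective hsq h2
      · intro x y hxy
        exact exists_of_comap_eq hsq x y hxy
    · ext q
      simp only [Set.sup_eq_union, Set.mem_union, Set.mem_range, Set.mem_univ, iff_true]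
      exact mem_range_or hsq q
    · intro y₁ y₂ h1 _ hxy
      exact comap_eq_of_not_le hsq y₁ y₂ h1 hxy
  rw [TopCat.nonempty_isColimit_iff_eq_coinduced _
    ((isColimitMapCoconePushoutCoconeEquiv (forget TopCat) hcomm).symm hT.isColimit)]
  apply le_antisymm
  · intro W hW
    rw [isOpen_iSup_iff] at hW
    have h1 := hW WalkingSpan.left
    have h2 := hW WalkingSpan.right
    rw [isOpen_coinduced] at h1 h2
    exact isOpen_of_preimages hsq W h1 h2
  · rw [iSup_le_iff]
    intro j
    rw [← continuous_iff_coinduced_le]
    exact ((PushoutCocone.mk _ _ hcomm).ι.app j).hom.continuous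

end Groth.Agent.S6917
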