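import Groth.Statements.S6920
import Mathlib
import Groth.Agent.Lib.DMod28_helper6
-- import your own Groth.Agent.* helpers here

set_option autoImplicit false
universe u
open CategoryTheory CategoryTheory.Limits MonoidalCategory
open DRing

namespace Groth.Agent.S6920

/-- For an epimorphism of rings `φ : R → S` and a complex `I•` of `S`-modules, if the underlying complex
of `R`-modules of `I•` is K-injective, then `I•` itself is K-injective over `S`. -/
theorem result (R S : Type u) [CommRing R] [CommRing S] (φ : R →+* S)
    (hφ : Epi (CommRingCat.ofHom φ)) (I : DRing.Cx S)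
    [CochainComplex.IsKInjective ((DRing.restrictCx φ).obj I)] : CochainComplex.IsKInjective I := by

  classical
  letI : Algebra R S := φ.toAlgebra
  have hepi : Algebra.IsEpi R S := CommRingCat.epi_iff_epi.mp hφ
  have htm : ∀ s : S, (1 : S) ⊗ₜ[R] s = s ⊗ₜ[R] 1 :=
    (Algebra.isEpi_iff_forall_one_tmul_eq R S).1 hepi
  have hfull : ∀ (M N : ModuleCat.{u} S)
      (g : (ModuleCat.restrictScalars φ).obj M ⟶ (ModuleCat.restrictScalars φ).obj N),
      ∃ g' : M ⟶ N, (ModuleCat.restrictScalars φ).map g' = g := by
    intro M N g
    have key : ∀ (s : S) (m : M), g.hom (s • m) = s • g.hom m := by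
      intro s m
      let β : S →ₗ[R] S →ₗ[R] ((ModuleCat.restrictScalars φ).obj N) :=
        LinearMap.mk₂ R (fun a b => (a • g.hom (b • m) : N))
          (fun a a' b => add_smul a a' _)
          (fun c a b => by
            show (φ c * a) • g.hom (b • m) = φ c • (a • g.hom (b • m))
            rw [mul_smul])
          (fun a b b' => by
            show a • g.hom ((b + b') • m) = a • g.hom (b • m) + a • g.hom (b' • m)
            rw [add_smul]
            have := g.hom.map_add (b • m) (b' • m)
            rw [← smul_add]
            exact congrArg (fun x : N => a • x) this)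
          (fun c a b => by
            show a • g.hom ((φ c * b) • m) = φ c • (a • g.hom (b • m))
            rw [mul_smul, smul_comm (φ c) a]
            have := g.hom.map_smul c (b • m)
            exact congrArg (fun x : N => a • x) this)
      have h1 := congrArg (TensorProduct.lift β) (htm s)
      rw [TensorProduct.lift.tmul, TensorProduct.lift.tmul] at h1
      simp only [β, LinearMap.mk₂_apply, one_smul] at h1
      exact h1
    refine ⟨ModuleCat.ofHom
      { toFun := fun m => g.hom m, map_add' := fun x y => g.hom.map_add x y,
        map_smul' := fun s m => key s m }, ?_⟩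
    apply ModuleCat.hom_ext
    apply LinearMap.ext
    intro x
    rfl
  refine ⟨fun {K} f hK => ?_⟩
  have hK' : ((DRing.restrictCx φ).obj K).Acyclic := fun i => by
    refine Groth.Agent.Lib.DMod_helper6.exactAt_of_forall _ (i - 1) i (i + 1) (by omega) rfl
      (fun y hy => ?_)
    obtain ⟨x, hx⟩ := Groth.Agent.Lib.DMod_helper6.exists_d_eq_of_exactAt K (i - 1) i (i + 1)
      (by omega) rfl (hK i) y hy
    exact ⟨x, hx⟩
  obtain ⟨h⟩ := CochainComplex.IsKInjective.nonempty_homotopy_zero
    ((DRing.restrictCx φ).map f) hK'
  choose H hH using fun i j => hfull (K.X i) (I.X j) (h.hom i j)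
  refine ⟨{ hom := H, zero := ?_, comm := ?_ }⟩
  · intro i j hij
    apply (ModuleCat.restrictScalars φ).map_injective
    rw [hH, CategoryTheory.Functor.map_zero]
    exact h.zero i j hij
  · intro i
    apply (ModuleCat.restrictScalars φ).map_injective
    have h1 := h.comm i
    rw [dNext_eq _ (show (ComplexShape.up ℤ).Rel i (i + 1) from rfl),
      prevD_eq _ (show (ComplexShape.up ℤ).Rel (i - 1) i from by simp)] at h1 ⊢
    simp only [CategoryTheory.Functor.map_add, CategoryTheory.Functor.map_comp, hH]
    exact h1

end Groth.Agent.S6920
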