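import Groth.Statements.S6933
import Mathlib.Algebra.Category.Grp.EpiMono

set_option autoImplicit false
universe u
open CategoryTheory
open InjHull

namespace Groth.Agent.S6933

/-- An abelian group `J` that is injective as an object of the category of abelian groups is divisible:
`n J = J` for every nonzero integer `n`. (The published statement is an equivalence; this row states
the implication from injective to divisible.) -/
theorem result (J : Type u) [AddCommGroup J] (hJ : Injective (AddCommGrpCat.of J))
    (n : ℤ) (hn : n ≠ 0) (x : J) : ∃ y : J, n • y = x := by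
  let Z := AddCommGrpCat.of (ULift.{u} ℤ)
  let f : Z ⟶ Z := AddCommGrpCat.ofHom (n • AddMonoidHom.id (ULift.{u} ℤ))
  have hf : Mono f := by
    rw [AddCommGrpCat.mono_iff_injective]
    intro a b hab
    have h1 : n • a = n • b := hab
    have h2 : n • a.down = n • b.down := congrArg ULift.down h1
    rw [smul_eq_mul, smul_eq_mul] at h2
    exact ULift.ext _ _ (mul_left_cancel₀ hn h2)
  let g : Z ⟶ AddCommGrpCat.of J := AddCommGrpCat.ofHom
    ((zmultiplesHom J x).comp (AddEquiv.ulift : ULift.{u} ℤ ≃+ ℤ).toAddMonoidHom)
  let h := Injective.factorThru g f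
  have hfh : f ≫ h = g := Injective.comp_factorThru g f
  refine ⟨h (ULift.up 1), ?_⟩
  have h3 : (f ≫ h) (ULift.up 1) = g (ULift.up 1) := by rw [hfh]
  have h4 : g (ULift.up 1) = x := by
    change (AddEquiv.ulift (ULift.up (1 : ℤ)) : ℤ) • x = x
    exact one_zsmul x
  have h5 : (f ≫ h) (ULift.up 1) = n • h (ULift.up 1) := by
    change h (n • (ULift.up 1 : ULift.{u} ℤ)) = _
    exact map_zsmul h.hom n _
  rw [← h5, h3, h4]

end Groth.Agent.S6933
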