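import Groth.Statements.S6934
import Mathlib
-- import your own Groth.Agent.* helpers here

set_option autoImplicit false
universe u
open EtAlg

namespace Groth.Agent.S6934

/-- Let `s : B → R`, `t : R' → R` be ring maps and `B' = B ×_R R'` the fibre product ring, i.e. a ring
`B'` with maps `p : B' → B`, `q : B' → R'`, `s ∘ p = t ∘ q`, such that `(p, q)` is injective with
image the pairs `(b, r')` with `s(b) = t(r')`. Let `h ∈ B'` with images `g = p(h)`, `f = q(h)`. Then
the square of localizations `B'_h → B_g`, `B'_h → R'_f`, `B_g → R_{s(g)}`, `R'_f → R_{t(f)} =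
R_{s(g)}` (the induced maps) is cartesian as well: `B'_h = B_g ×_{R_{s(g)}} R'_f`. -/
theorem result {B R R' B' : Type u} [CommRing B] [CommRing R] [CommRing R'] [CommRing B']
    (s : B →+* R) (t : R' →+* R) (p : B' →+* B) (q : B' →+* R') (hc : s.comp p = t.comp q)
    (hinj : ∀ x y : B', p x = p y → q x = q y → x = y) (hsurj : ∀ (b : B) (r' : R'), s b = t r' → ∃ x : B', p x = b ∧ q x = r')
    (h : B') (Bh Bg Rf Rsg : Type u) [CommRing Bh] [CommRing Bg] [CommRing Rf] [CommRing Rsg]
    [Algebra B' Bh] [IsLocalization.Away h Bh] [Algebra B Bg] [IsLocalization.Away (p h) Bg]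
    [Algebra R' Rf] [IsLocalization.Away (q h) Rf] [Algebra R Rsg] [IsLocalization.Away (s (p h)) Rsg]
    (pL : Bh →+* Bg) (qL : Bh →+* Rf) (sL : Bg →+* Rsg) (tL : Rf →+* Rsg)
    (hp : pL.comp (algebraMap B' Bh) = (algebraMap B Bg).comp p) (hq : qL.comp (algebraMap B' Bh) = (algebraMap R' Rf).comp q)
    (hs : sL.comp (algebraMap B Bg) = (algebraMap R Rsg).comp s) (ht : tL.comp (algebraMap R' Rf) = (algebraMap R Rsg).comp t) :
    (∀ x y : Bh, pL x = pL y → qL x = qL y → x = y) ∧
    (∀ (b : Bg) (r : Rf), sL b = tL r → ∃ x : Bh, pL x = b ∧ qL x = r) := by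

  have hcs : ∀ x, s (p x) = t (q x) := fun x => RingHom.congr_fun hc x
  have hpa : ∀ x, pL (algebraMap B' Bh x) = algebraMap B Bg (p x) := fun x => RingHom.congr_fun hp x
  have hqa : ∀ x, qL (algebraMap B' Bh x) = algebraMap R' Rf (q x) := fun x => RingHom.congr_fun hq x
  have hsa : ∀ b, sL (algebraMap B Bg b) = algebraMap R Rsg (s b) := fun x => RingHom.congr_fun hs x
  have hta : ∀ r, tL (algebraMap R' Rf r) = algebraMap R Rsg (t r) := fun x => RingHom.congr_fun ht x
  have uh : ∀ n, IsUnit (algebraMap B' Bh h ^ n) := IsLocalization.Away.algebraMap_pow_isUnit h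
  have ug : ∀ n, IsUnit (algebraMap B Bg (p h) ^ n) := IsLocalization.Away.algebraMap_pow_isUnit (p h)
  have uf : ∀ n, IsUnit (algebraMap R' Rf (q h) ^ n) := IsLocalization.Away.algebraMap_pow_isUnit (q h)
  constructor
  · have key : ∀ z : Bh, pL z = 0 → qL z = 0 → z = 0 := by
      intro z hz1 hz2
      obtain ⟨n, w, hw⟩ := IsLocalization.Away.surj h z
      have h1 : algebraMap B Bg (p w) = algebraMap B Bg 0 := by
        rw [← hpa, ← hw, map_mul, hz1, zero_mul, map_zero]
      have h2 : algebraMap R' Rf (q w) = algebraMap R' Rf 0 := by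
        rw [← hqa, ← hw, map_mul, hz2, zero_mul, map_zero]
      obtain ⟨k, hk⟩ := IsLocalization.Away.exists_of_eq (p h) h1
      obtain ⟨l, hl⟩ := IsLocalization.Away.exists_of_eq (q h) h2
      have hzero : h ^ (k + l) * w = 0 := by
        apply hinj
        · rw [map_mul, map_pow, map_zero, pow_add, mul_comm (p h ^ k), mul_assoc, hk, mul_zero, mul_zero]
        · rw [map_mul, map_pow, map_zero, pow_add, mul_assoc, hl, mul_zero, mul_zero]
      have h3 : z * (algebraMap B' Bh h ^ n * algebraMap B' Bh h ^ (k + l)) = 0 := by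
        rw [← mul_assoc, hw, ← map_pow, ← map_mul, mul_comm, hzero, map_zero]
      exact ((uh n).mul (uh (k + l))).mul_left_eq_zero.1 h3
    intro x y h1 h2
    exact sub_eq_zero.1 (key (x - y) (by rw [map_sub, h1, sub_self]) (by rw [map_sub, h2, sub_self]))
  · intro b r hbr
    obtain ⟨n, β, hβ⟩ := IsLocalization.Away.surj (p h) b
    obtain ⟨m, ρ, hρ⟩ := IsLocalization.Away.surj (q h) r
    have hβ' : b * algebraMap B Bg (p h) ^ (n + m) = algebraMap B Bg (p h ^ m * β) := by
      rw [pow_add, ← mul_assoc, hβ, map_mul, map_pow, mul_comm]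
    have hρ' : r * algebraMap R' Rf (q h) ^ (n + m) = algebraMap R' Rf (q h ^ n * ρ) := by
      rw [pow_add, mul_comm (algebraMap R' Rf (q h) ^ n), ← mul_assoc, hρ, map_mul, map_pow, mul_comm]
    have heq : algebraMap R Rsg (s (p h ^ m * β)) = algebraMap R Rsg (t (q h ^ n * ρ)) := by
      rw [← hsa, ← hβ', map_mul, map_pow, hsa, ← hta, ← hρ', map_mul, map_pow, hta, hbr, hcs]
    obtain ⟨k, hk⟩ := IsLocalization.Away.exists_of_eq (s (p h)) heq
    have hcompat : s (p h ^ k * (p h ^ m * β)) = t (q h ^ k * (q h ^ n * ρ)) := by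
      have e1 : s (p h ^ k * (p h ^ m * β)) = s (p h) ^ k * s (p h ^ m * β) := by
        rw [map_mul, map_pow]
      have e2 : t (q h ^ k * (q h ^ n * ρ)) = s (p h) ^ k * t (q h ^ n * ρ) := by
        rw [map_mul, map_pow, hcs]
      rw [e1, e2, hk]
    obtain ⟨x₀, hx1, hx2⟩ := hsurj _ _ hcompat
    obtain ⟨u, hu⟩ := uh (n + m + k)
    have hpu : pL (↑u⁻¹ : Bh) * algebraMap B Bg (p h) ^ (n + m + k) = 1 := by
      rw [← map_pow, ← map_pow, ← hpa, map_pow, ← hu, ← map_mul, Units.inv_mul, map_one]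
    have hqu : qL (↑u⁻¹ : Bh) * algebraMap R' Rf (q h) ^ (n + m + k) = 1 := by
      rw [← map_pow, ← map_pow, ← hqa, map_pow, ← hu, ← map_mul, Units.inv_mul, map_one]
    refine ⟨algebraMap B' Bh x₀ * ↑u⁻¹, ?_, ?_⟩
    · apply (ug (n + m + k)).mul_left_injective
      simp only
      rw [map_mul, mul_assoc, hpu, mul_one, hpa, hx1, map_mul, ← hβ', map_pow, pow_add _ (n + m) k]
      ring
    · apply (uf (n + m + k)).mul_left_injective
      simp only
      rw [map_mul, mul_assoc, hqu, mul_one, hqa, hx2, map_mul, ← hρ', map_pow, pow_add _ (n + m) k]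
      ring

end Groth.Agent.S6934
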