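import Groth.Statements.S6935
import Mathlib
import Groth.Agent.Lib.DMod11_helper6
-- import your own Groth.Agent.* helpers here

set_option autoImplicit false
universe u
open CategoryTheory CategoryTheory.Limits
attribute [local instance] HasDerivedCategory.standard
open DRing

namespace Groth.Agent.S6935

/-- Let R be a commutative ring and M an R-module, viewed as the complex M[0] in D(R). Then M[0] is
0-pseudo-coherent exactly when M is finitely generated over R, and M[0] is (-1)-pseudo-coherent
exactly when M admits a finite presentation over R. -/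
theorem result (R : Type u) [CommRing R]
    (M : Type u) [AddCommGroup M] [Module R M] :
    (DRing.IsPseudoCoherentModule R 0 M ↔ Module.Finite R M) ∧
      (DRing.IsPseudoCoherentModule R (-1) M ↔ Module.FinitePresentation R M) := by

  refine ⟨⟨fun h => ?_, fun h => Groth.Agent.Lib.DMod_helper6.isPseudoCoherentModule_zero_of_finite M⟩,
    ⟨fun h => ?_, fun h => Groth.Agent.Lib.DMod_helper6.isPseudoCoherentModule_negOne_of_fp M⟩⟩
  · have := Groth.Agent.Lib.DMod_helper6.finite_HD_of_isPseudoCoherent (Dual.inD R M) 0 h
      (fun i hi => Groth.Agent.Lib.DMod_helper6.isZero_HD_inD _ i (by omega))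
    exact Groth.Agent.Lib.DMod_helper6.finite_of_iso
      (Groth.Agent.Lib.DMod_helper6.HDinDIso (ModuleCat.of R M)) this
  · have := Groth.Agent.Lib.DMod_helper6.finitePresentation_HD_of_isPseudoCoherent (Dual.inD R M)
      (-1) 0 (by norm_num) h
      (fun i hi => Groth.Agent.Lib.DMod_helper6.isZero_HD_inD _ i (by omega))
    exact Groth.Agent.Lib.DMod_helper6.finitePresentation_of_iso
      (Groth.Agent.Lib.DMod_helper6.HDinDIso (ModuleCat.of R M)) this

end Groth.Agent.S6935
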