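import Groth.Statements.S6936
import Mathlib
import Groth.Agent.Lib.DMod11_helper6
-- import your own Groth.Agent.* helpers here

set_option autoImplicit false
universe u
open CategoryTheory CategoryTheory.Limits
attribute [local instance] HasDerivedCategory.standard
open DRing

namespace Groth.Agent.S6936

/-- Let R be a commutative ring, m an integer and K an object of D(R). If H^i(K) = 0 for every i > m +
1, H^(m+1)(K) is a finitely presented R-module and H^m(K) is a finitely generated R-module, then K
is m-pseudo-coherent. -/
theorem result (R : Type u) [CommRing R]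
    (m : ℤ) (K : Dual.D R) (hvan : ∀ i : ℤ, m + 1 < i → Subsingleton (Dual.HD R K i))
    (hfp : Module.FinitePresentation R (Dual.HD R K (m + 1))) (hfin : Module.Finite R (Dual.HD R K m)) :
    DRing.IsPseudoCoherent R m K := by

  haveI : DerivedCategory.IsLE K (m + 1) :=
    Groth.Agent.Lib.DMod_helper6.isLE_of_subsingleton_HD K (m + 1) hvan
  exact (Groth.Agent.Lib.DMod_helper6.isPseudoCoherent_iff_pcmP m K).2
    (Groth.Agent.Lib.DMod_helper6.pcmP_of_isLE_of_fp_of_finite K m hfp hfin)

end Groth.Agent.S6936
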