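import Groth.Statements.S6951
import Groth.Agent.Lib.TorAmpLT2_helper2

set_option autoImplicit false
universe u
open CategoryTheory CategoryTheory.Limits
attribute [local instance] HasDerivedCategory.standard
open DRing

namespace Groth.Agent.S6951

/-- Let R → A → B be homomorphisms of commutative rings with A → B faithfully flat, such that the
derived base change D(A) → D(B) exists, and let K be an object of D(A). Then for all integers a, b,
the following are equivalent: the restriction of K to D(R) is of tor amplitude within [a, b]; the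
restriction of K ⊗^L_A B to D(R) is of tor amplitude within [a, b]. -/
theorem result {R A B : Type u}
    [CommRing R] [CommRing A] [CommRing B] [Algebra R A] [Algebra A B] [Algebra R B] [IsScalarTower R A B]
    [Module.FaithfullyFlat A B] [DRing.HasLBaseChange (algebraMap A B)] (K : Dual.D A) (a b : ℤ) :
    DRing.HasTorAmplitudeIn R a b ((DRing.restrictD (algebraMap R A)).obj K) ↔
      DRing.HasTorAmplitudeIn R a b ((DRing.restrictD (algebraMap R B)).obj ((DRing.LBaseChange (algebraMap A B)).obj K)) := by
  obtain ⟨P, π, hπ, hPkp, hPkf, hPfl⟩ :=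
    Groth.Agent.Lib.KProjRes.exists_kproj_resolution (DerivedCategory.Q.objPreimage K)
  haveI := hπ
  haveI := hPkp
  haveI : IsIso (DerivedCategory.Q.map π) :=
    (DerivedCategory.isIso_Q_map_iff_quasiIso _ _).2 inferInstance
  let eP : DRing.toD P ≅ K :=
    asIso (DerivedCategory.Q.map π) ≪≫ DerivedCategory.Q.objObjPreimageIso K
  obtain ⟨eL⟩ := Groth.Agent.Lib.DMod_helper6.nonempty_lBaseChange_iso_of_isKProjective
    (algebraMap A B) P
  let e1 : (DRing.restrictD (algebraMap R A)).obj K ≅
      DRing.toD (((ModuleCat.restrictScalars.{u} (algebraMap R A)).mapHomologicalComplex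
        (ComplexShape.up ℤ)).obj P) :=
    (DRing.restrictD (algebraMap R A)).mapIso eP.symm ≪≫
      ((ModuleCat.restrictScalars.{u} (algebraMap R A)).mapDerivedCategoryFactors.app P)
  let e2 : (DRing.restrictD (algebraMap R B)).obj
      ((DRing.LBaseChange (algebraMap A B)).obj K) ≅
      DRing.toD (((ModuleCat.restrictScalars.{u} (algebraMap R B)).mapHomologicalComplex
        (ComplexShape.up ℤ)).obj
          (((ModuleCat.extendScalars.{u, u, u} (algebraMap A B)).mapHomologicalComplex
            (ComplexShape.up ℤ)).obj P)) :=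
    (DRing.restrictD (algebraMap R B)).mapIso
      ((DRing.LBaseChange (algebraMap A B)).mapIso eP.symm ≪≫ eL) ≪≫
      ((ModuleCat.restrictScalars.{u} (algebraMap R B)).mapDerivedCategoryFactors.app _)
  have key := Groth.Agent.Lib.TorAmpLT.hasTorAmplitudeIn_res_iff_of_faithfullyFlat
    (R := R) (A := A) (B := B) P a b
  constructor
  · intro h
    exact Groth.Agent.Lib.DMod_helper6.hasTorAmplitudeIn_of_iso e2.symm _ _
      (key.1 (Groth.Agent.Lib.DMod_helper6.hasTorAmplitudeIn_of_iso e1 _ _ h))
  · intro h
    exact Groth.Agent.Lib.DMod_helper6.hasTorAmplitudeIn_of_iso e1.symm _ _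
      (key.2 (Groth.Agent.Lib.DMod_helper6.hasTorAmplitudeIn_of_iso e2 _ _ h))

end Groth.Agent.S6951
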