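import Groth.Statements.S6953
import Groth.Agent.Lib.TorAmpLT_helper2

set_option autoImplicit false
universe u
open CategoryTheory CategoryTheory.Limits
attribute [local instance] HasDerivedCategory.standard
open DRing

namespace Groth.Agent.S6953

/-- Let A → B be a homomorphism of commutative rings, K an object of D(B) with tor amplitude in [a, b]
over B, and L a cochain complex of B-modules whose restriction of scalars to A lies in D(A) with tor
amplitude contained in [c, d]. Assume the derived tensor product - ⊗^L_B L exists on D(B). Then K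
⊗^L_B L, with scalars restricted to A, has tor amplitude in [a + c, b + d] over A. -/
theorem result {A B : Type u} [CommRing A] [CommRing B] [Algebra A B]
    (K : Dual.D B) (a b c d : ℤ) (hK : DRing.HasTorAmplitudeIn B a b K) (L : DRing.Cx B)
    (hL : DRing.HasTorAmplitudeIn A c d (DRing.toD ((DRing.restrictCx (algebraMap A B)).obj L)))
    [DRing.HasLTensorCx B L] :
    DRing.HasTorAmplitudeIn A (a + c) (b + d)
      ((DRing.restrictD (algebraMap A B)).obj ((DRing.LTensorCx B L).obj K)) := by
  obtain ⟨F, hF, hFfl, ⟨eK⟩⟩ := hK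
  have hFkf : Groth.Agent.Lib.KFlatMod.KF B F :=
    Groth.Agent.Lib.KFlatMod.kf_of_vanishesAbove F b (fun j hj => hF j (Or.inr hj)) hFfl
  obtain ⟨e1⟩ := Groth.Agent.Lib.DRingLT.nonempty_objIso B L F hFkf
  have h := Groth.Agent.Lib.TorAmpLT.hasTorAmplitudeIn_res_tensor (A := A) F L a b c d hF hFfl hL
  let e2 : (DRing.restrictD (algebraMap A B)).obj ((DRing.LTensorCx B L).obj K) ≅
      DRing.toD (((ModuleCat.restrictScalars.{u} (algebraMap A B)).mapHomologicalComplex
        (ComplexShape.up ℤ)).obj (MonoidalCategory.tensorObj F L)) :=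
    (DRing.restrictD (algebraMap A B)).mapIso ((DRing.LTensorCx B L).mapIso eK.symm ≪≫ e1) ≪≫
      ((ModuleCat.restrictScalars.{u} (algebraMap A B)).mapDerivedCategoryFactors.app
        (MonoidalCategory.tensorObj F L))
  exact Groth.Agent.Lib.DMod_helper6.hasTorAmplitudeIn_of_iso e2.symm _ _ h

end Groth.Agent.S6953
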