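import Groth.Statements.S6959
import Groth.Agent.Lib.DRingLT2_helper2

set_option autoImplicit false
universe u
open CategoryTheory CategoryTheory.Limits
attribute [local instance] HasDerivedCategory.standard
open DRing

namespace Groth.Agent.S6959

/-- Let R be a commutative ring, K a perfect object of D(R) and L a cochain complex of R-modules
defining a perfect object of D(R); assume the derived tensor product - ⊗^L_R L exists on D(R). Then
K ⊗^L_R L is a perfect object of D(R). -/
theorem result (R : Type u) [CommRing R] (K : Dual.D R) (hK : DRing.IsPerfect R K)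
    (L : DRing.Cx R) (hL : DRing.IsPerfect R (DRing.toD L)) [DRing.HasLTensorCx R L] :
    DRing.IsPerfect R ((DRing.LTensorCx R L).obj K) := by
  obtain ⟨E₁, a, b, hv1, hp1, ⟨φ₁⟩⟩ := hK
  obtain ⟨E₂, a', b', hv2, hp2, ⟨φ₂⟩⟩ := hL
  have hE₁ : Groth.Agent.Lib.KFlatMod.KF R E₁ :=
    Groth.Agent.Lib.KFlatMod.kf_of_vanishesAbove E₁ b (fun i hi => hv1 i (Or.inr hi)) (fun i => by
      haveI := (hp1 i).2
      infer_instance)
  obtain ⟨e⟩ := Groth.Agent.Lib.DRingLT.nonempty_LTensorCx_iso L K E₁ E₂ hE₁ φ₁ φ₂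
  exact ⟨MonoidalCategory.tensorObj E₁ E₂, a + a', b + b',
    Groth.Agent.Lib.DRingLT.vanishesOutside_tensor E₁ E₂ a b a' b' hv1 hv2,
    Groth.Agent.Lib.DRingLT.termwiseFiniteProjective_tensor E₁ E₂ a b hv1 hp1 hp2, ⟨e⟩⟩

end Groth.Agent.S6959
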