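import Groth.Statements.S6963
import Groth.Agent.Lib.HomCxPreQis_helper2
import Groth.Agent.Lib.DualCx_helper2

set_option autoImplicit false
universe u
open CategoryTheory CategoryTheory.Limits
attribute [local instance] HasDerivedCategory.standard
open DRing

namespace Groth.Agent.S6963

/-- Let A be a commutative ring and K a perfect object of D(A), represented by a cochain complex E for
which RHom_A(E, -) exists; write K^∨ = RHom_A(E, A). Then K^∨ is a perfect object of D(A), and for
every cochain complex E' representing K^∨ for which RHom_A(E', -) exists, RHom_A(E', A) is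
isomorphic to K in D(A) (existence of an isomorphism only; the canonical one is the double-duality
map). -/
theorem result (A : Type u) [CommRing A] (K : Dual.D A) (hK : DRing.IsPerfect A K)
    (E : DRing.Cx A) (eK : DRing.toD E ≅ K) [DRing.HasRHomCx E] :
    DRing.IsPerfect A ((DRing.RHomCx E).obj (Dual.inD A A)) ∧
      ∀ (E' : DRing.Cx A) (eK' : DRing.toD E' ≅ (DRing.RHomCx E).obj (Dual.inD A A)) [DRing.HasRHomCx E'],
        Nonempty ((DRing.RHomCx E').obj (Dual.inD A A) ≅ K) := by
  obtain ⟨P, a, b, hv, hfp, ⟨eP⟩⟩ := hK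
  haveI : P.IsStrictlyLE b :=
    (CochainComplex.isStrictlyLE_iff P b).2 (fun i hi => hv i (Or.inr hi))
  haveI : ∀ n : ℤ, CategoryTheory.Projective (P.X n) := fun n =>
    (IsProjective.iff_projective (P.X n)).1 (hfp n).2
  haveI : P.IsKProjective := CochainComplex.isKProjective_of_projective P b
  have hD : ∀ n : ℤ, Module.Finite A ((Groth.Agent.Lib.DualCx.dual P).X n) ∧
      Module.Projective A ((Groth.Agent.Lib.DualCx.dual P).X n) := fun n =>
    Groth.Agent.Lib.DualCx.dual_finite_projective P n (hfp (-n))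
  have hDv : DRing.VanishesOutside (Groth.Agent.Lib.DualCx.dual P) (-b) (-a) := by
    intro i hi
    apply Groth.Agent.Lib.DualCx.dual_isZero
    apply hv
    rcases hi with hi | hi
    · exact Or.inr (by omega)
    · exact Or.inl (by omega)
  haveI : (Groth.Agent.Lib.DualCx.dual P).IsStrictlyLE (-a) :=
    (CochainComplex.isStrictlyLE_iff _ (-a)).2 (fun i hi => hDv i (Or.inr hi))
  haveI : ∀ n : ℤ, CategoryTheory.Projective ((Groth.Agent.Lib.DualCx.dual P).X n) := fun n =>
    (IsProjective.iff_projective _).1 (hD n).2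
  haveI : (Groth.Agent.Lib.DualCx.dual P).IsKProjective :=
    CochainComplex.isKProjective_of_projective _ (-a)
  have eS : Dual.inD A A ≅ DerivedCategory.Q.obj (Groth.Agent.Lib.DualCx.S0 A) :=
    (DerivedCategory.singleFunctorIsoCompQ (ModuleCat.{u} A) 0).app (ModuleCat.of A A)
  obtain ⟨e1⟩ := Groth.Agent.Lib.HomCxPreQis.nonempty_RHomCx_iso_of_kproj E P
    (Groth.Agent.Lib.DualCx.S0 A) (eP ≪≫ eK.symm)
  have e1' : (DRing.RHomCx E).obj (Dual.inD A A) ≅
      DRing.toD (Groth.Agent.Lib.DualCx.dual P) := (DRing.RHomCx E).mapIso eS ≪≫ e1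
  refine ⟨⟨Groth.Agent.Lib.DualCx.dual P, -b, -a, hDv, hD, ⟨e1'.symm⟩⟩, ?_⟩
  intro E' eK' _
  obtain ⟨e2⟩ := Groth.Agent.Lib.HomCxPreQis.nonempty_RHomCx_iso_of_kproj E'
    (Groth.Agent.Lib.DualCx.dual P) (Groth.Agent.Lib.DualCx.S0 A) (e1'.symm ≪≫ eK'.symm)
  exact ⟨(DRing.RHomCx E').mapIso eS ≪≫ e2 ≪≫
    (DerivedCategory.Q.mapIso (Groth.Agent.Lib.DualCx.ddIso P hfp)).symm ≪≫ eP⟩

end Groth.Agent.S6963
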