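import Groth.Statements.S6966
import Mathlib
import Groth.Agent.Lib.DMod30_helper6
-- import your own Groth.Agent.* helpers here

set_option autoImplicit false
universe u
open CategoryTheory CategoryTheory.Limits
attribute [local instance] HasDerivedCategory.standard
open CAlg

namespace Groth.Agent.S6966

/-- Let R be a commutative ring, I an ideal of R and M an R-module. Then the following two conditions
coincide: for each a ∈ I, the endomorphism of M given by multiplication by a can be written as a
composite M → P → M with P some projective R-module; and for every R-module N and every a ∈ I, a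
annihilates Ext^1_R(M, N) = Hom(M[0], N[1]) in D(R). -/
theorem result (R : Type u) [CommRing R] (I : Ideal R) (M : Type u)
    [AddCommGroup M] [Module R M] :
    (∀ a ∈ I, ∃ (P : Type u) (_ : AddCommGroup P) (_ : Module R P) (_ : Module.Projective R P)
        (f : M →ₗ[R] P) (g : P →ₗ[R] M), g ∘ₗ f = a • LinearMap.id) ↔
      ∀ (N : Type u) [AddCommGroup N] [Module R N], ∀ a ∈ I,
        ∀ x : DRing.ExtD R (Dual.inD R M) (Dual.inD R N) 1, a • x = 0 := by

  constructor
  · intro hyp N _ _ a ha x
    obtain ⟨P, _, _, hP, f, g, hgf⟩ := hyp a ha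
    have h1 : a • 𝟙 (ModuleCat.of R M) =
        (ModuleCat.ofHom f : ModuleCat.of R M ⟶ ModuleCat.of R P) ≫
          (ModuleCat.ofHom g : ModuleCat.of R P ⟶ ModuleCat.of R M) := by
      apply ModuleCat.hom_ext
      exact hgf.symm
    haveI : DerivedCategory.IsLE
        (((DerivedCategory.singleFunctor (ModuleCat.{u} R) 0).obj (ModuleCat.of R N))⟦(1 : ℤ)⟧)
        (-1) := DerivedCategory.TStructure.t.isLE_shift _ 0 1 (-1) (by omega)
    have h2 : (DerivedCategory.singleFunctor (ModuleCat.{u} R) 0).map
        (ModuleCat.ofHom g : ModuleCat.of R P ⟶ ModuleCat.of R M) ≫ x = 0 :=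
      Groth.Agent.Lib.DMod_helper6.hom_single_eq_zero_of_isLE (ModuleCat.of R P) hP 0 (-1)
        (by omega) _ _
    have h3 : a • x = (a • 𝟙 (Dual.inD R M)) ≫ x := by
      rw [Linear.smul_comp, Category.id_comp]
    have h4 : a • 𝟙 (Dual.inD R M) = (DerivedCategory.singleFunctor (ModuleCat.{u} R) 0).map
        (a • 𝟙 (ModuleCat.of R M)) := by
      rw [Functor.map_smul, CategoryTheory.Functor.map_id]
    rw [h3, h4, h1, Functor.map_comp, Category.assoc, h2, CategoryTheory.Limits.comp_zero]
  · intro hyp a ha
    classical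
    let F := M →₀ R
    let π : F →ₗ[R] M := Finsupp.linearCombination R (id : M → M)
    have hπ : Function.Surjective π := Finsupp.linearCombination_id_surjective R M
    let Z := LinearMap.ker π
    let S : ShortComplex (ModuleCat.{u} R) :=
      ShortComplex.mk (ModuleCat.ofHom Z.subtype : ModuleCat.of R Z ⟶ ModuleCat.of R F)
        (ModuleCat.ofHom π : ModuleCat.of R F ⟶ ModuleCat.of R M) (by
          apply ModuleCat.hom_ext
          apply LinearMap.ext
          intro z
          exact z.2)
    have hS : S.ShortExact := by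
      refine ShortComplex.ShortExact.mk' ?_ ?_ ?_
      · rw [ShortComplex.moduleCat_exact_iff]
        intro y hy
        exact ⟨⟨y, hy⟩, rfl⟩
      · exact (ModuleCat.mono_iff_injective _).2 (Submodule.injective_subtype _)
      · exact (ModuleCat.epi_iff_surjective _).2 hπ
    have hT := hS.singleTriangle_distinguished
    have hδ : a • hS.singleδ = 0 := hyp Z a ha hS.singleδ
    have hrot := Pretriangulated.rot_of_distTriang _ hT
    have h0 : hS.singleδ ≫ (a • 𝟙 (((DerivedCategory.singleFunctor (ModuleCat.{u} R) 0).obj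
        S.X₁)⟦(1 : ℤ)⟧)) = 0 := by
      rw [Linear.comp_smul, Category.comp_id]
      exact hδ
    obtain ⟨g, hg⟩ := Pretriangulated.Triangle.yoneda_exact₃ _ hrot
      (a • 𝟙 (((DerivedCategory.singleFunctor (ModuleCat.{u} R) 0).obj S.X₁)⟦(1 : ℤ)⟧)) h0
    obtain ⟨g₀, rfl⟩ := (CategoryTheory.shiftFunctor (DerivedCategory (ModuleCat.{u} R))
      (1 : ℤ)).map_surjective g
    obtain ⟨h₀, rfl⟩ := (DerivedCategory.singleFunctor (ModuleCat.{u} R) 0).map_surjective g₀
    have hg' : a • 𝟙 (((DerivedCategory.singleFunctor (ModuleCat.{u} R) 0).obj S.X₁)⟦(1 : ℤ)⟧) =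
        (-((DerivedCategory.singleFunctor (ModuleCat.{u} R) 0).map S.f)⟦(1 : ℤ)⟧') ≫
          ((DerivedCategory.singleFunctor (ModuleCat.{u} R) 0).map h₀)⟦(1 : ℤ)⟧' := hg
    have h5 : a • 𝟙 S.X₁ = -(S.f ≫ h₀) := by
      apply (DerivedCategory.singleFunctor (ModuleCat.{u} R) 0).map_injective
      apply (CategoryTheory.shiftFunctor (DerivedCategory (ModuleCat.{u} R))
        (1 : ℤ)).map_injective
      rw [Functor.map_smul, Functor.map_smul, CategoryTheory.Functor.map_id,
        CategoryTheory.Functor.map_id, hg', Functor.map_neg, Functor.map_neg, Functor.map_comp,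
        Functor.map_comp, Preadditive.neg_comp]
    have h6 : ∀ z : Z, ((h₀.hom (z : F) : Z) : F) = -(a • (z : F)) := by
      intro z
      have h7 := LinearMap.congr_fun (congrArg ModuleCat.Hom.hom h5) z
      have h8 : a • z = -(h₀.hom (z : F)) := h7
      have h9 : h₀.hom (z : F) = -(a • z) := by
        rw [h8]
        exact (neg_neg (h₀.hom (z : F) : Z)).symm
      rw [h9]
      rfl
    let φ : F →ₗ[R] F := a • LinearMap.id + Z.subtype ∘ₗ h₀.hom
    have hφ : Z ≤ LinearMap.ker φ := by
      intro z hz
      rw [LinearMap.mem_ker]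
      show a • z + ((h₀.hom z : Z) : F) = 0
      have := h6 ⟨z, hz⟩
      rw [this]
      exact add_neg_cancel _
    refine ⟨F, inferInstance, inferInstance, inferInstance,
      (Z.liftQ φ hφ) ∘ₗ (LinearMap.quotKerEquivOfSurjective π hπ).symm.toLinearMap, π, ?_⟩
    apply LinearMap.ext
    intro m
    obtain ⟨y, rfl⟩ := hπ m
    show π (Z.liftQ φ hφ ((LinearMap.quotKerEquivOfSurjective π hπ).symm (π y))) = a • π y
    have h10 : (LinearMap.quotKerEquivOfSurjective π hπ).symm (π y) = Submodule.Quotient.mk y := by
      rw [LinearEquiv.symm_apply_eq]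
      rfl
    rw [h10, Submodule.liftQ_apply]
    show π (a • y + ((h₀.hom y : Z) : F)) = a • π y
    rw [map_add, map_smul]
    have h11 : π ((h₀.hom y : Z) : F) = 0 := (h₀.hom y : Z).2
    rw [h11, add_zero]

end Groth.Agent.S6966
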