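import Groth.Statements.S6969
import Groth.Agent.Lib.NearProj_helper5

set_option autoImplicit false
universe u
open CAlg

namespace Groth.Agent.S6969

/-- Let R be a commutative ring and φ : M → N an R-linear map which factors through a projective
R-module. If M is finitely generated, then φ factors through a finitely generated projective
R-module. -/
theorem result (R : Type u) [CommRing R] {M N : Type u} [AddCommGroup M]
    [Module R M] [Module.Finite R M] [AddCommGroup N] [Module R N] (φ : M →ₗ[R] N)
    (h : ∃ (P : Type u) (_ : AddCommGroup P) (_ : Module R P) (_ : Module.Projective R P) (f : M →ₗ[R] P)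
      (g : P →ₗ[R] N), g ∘ₗ f = φ) :
    ∃ (P : Type u) (_ : AddCommGroup P) (_ : Module R P) (_ : Module.Projective R P) (_ : Module.Finite R P)
      (f : M →ₗ[R] P) (g : P →ₗ[R] N), g ∘ₗ f = φ := by
  obtain ⟨P, _, _, _, f, g, rfl⟩ := h
  obtain ⟨J, α, β, hαβ⟩ := Groth.Agent.Lib.NearProj_helper5.factors_finite_free R f g
  exact ⟨↥J → R, inferInstance, inferInstance, inferInstance, inferInstance, α, β, hαβ⟩

end Groth.Agent.S6969
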