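import Groth.Statements.S6979
import Groth.Agent.Lib.NilpLift_helper2

set_option autoImplicit false
universe u
open CategoryTheory CategoryTheory.Limits
attribute [local instance] HasDerivedCategory.standard
open DRing

namespace Groth.Agent.S6979

/-- Let R be a commutative ring and I a nilpotent ideal of R such that the derived base change D(R) →
D(R/I) exists, and let K be an object of D(R). If K ⊗^L_R R/I is a perfect object of D(R/I), then K
is a perfect object of D(R). -/
theorem result (R : Type u) [CommRing R] (I : Ideal R)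
    (hI : IsNilpotent I) [DRing.HasLBaseChange (Ideal.Quotient.mk I)] (K : Dual.D R)
    (hK : DRing.IsPerfect (R ⧸ I) ((DRing.LBaseChange (Ideal.Quotient.mk I)).obj K)) :
    DRing.IsPerfect R K := by
  obtain ⟨E, a, b, hEv, hEfp, hE⟩ := hK
  obtain ⟨P, b', hPb, hPp, ⟨eP⟩, ⟨eE⟩⟩ := Groth.Agent.Lib.NilpLift.exists_lift I hI K E b
    (fun i hi => hEv i (Or.inr hi)) (fun i => (hEfp i).2) hE
  have eq : ∀ i : ℤ, (TensorProduct R (R ⧸ I) (P.X i)) ≃ₗ[R ⧸ I] E.X i := fun i =>
    (Groth.Agent.ExtendScalarsLib.extendScalarsEquivTensor (S := R ⧸ I) (P.X i)).symm ≪≫ₗ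
      ((HomologicalComplex.eval _ _ i).mapIso eE).toLinearEquiv
  refine ⟨P, a, b, fun i hi => ?_, fun i => ⟨?_, hPp i⟩, ⟨eP⟩⟩
  · haveI : Subsingleton (E.X i) := ModuleCat.subsingleton_of_isZero (hEv i hi)
    haveI : Subsingleton (TensorProduct R (R ⧸ I) (P.X i)) := (eq i).toEquiv.subsingleton
    haveI := Groth.Agent.Lib.NilpLift.subsingleton_of_tensor_subsingleton I hI (P.X i)
      inferInstance
    exact ModuleCat.isZero_of_subsingleton _
  · haveI : Module.Finite (R ⧸ I) (E.X i) := (hEfp i).1
    exact Groth.Agent.Lib.NilpLift.finite_of_tensor_finite I hI (P.X i)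
      (Module.Finite.equiv (eq i).symm)

end Groth.Agent.S6979
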