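import Groth.Statements.S6988
import Mathlib
import Groth.Agent.Lib.DMod9_helper6
-- import your own Groth.Agent.* helpers here

set_option autoImplicit false
universe u
open CategoryTheory CategoryTheory.Limits
attribute [local instance] HasDerivedCategory.standard
open DRing

namespace Groth.Agent.S6988

/-- Let R be a commutative ring, K a pseudo-coherent object of D(R) and i an integer. Then some finitely
presented R-module M admits a morphism K → M[-i] in D(R) that is injective on H^i (here H^i(M[-i]) =
M). -/
theorem result (R : Type u) [CommRing R] (K : Dual.D R)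
    (hK : DRing.IsPseudoCoherent' R K) (i : ℤ) :
    ∃ (M : Type u) (_ : AddCommGroup M) (_ : Module R M) (_ : Module.FinitePresentation R M)
      (f : K ⟶ (shiftFunctor (Dual.D R) (-i)).obj (Dual.inD R M)),
      Mono ((DerivedCategory.homologyFunctor (ModuleCat.{u} R) i).map f) := by

  obtain ⟨E, b, hb, hff, ⟨e⟩⟩ := hK
  let N : Submodule R (E.X i) := LinearMap.range (E.d (i - 1) i).hom
  let M := E.X i ⧸ N
  haveI := (hff i).1
  haveI := (hff i).2
  haveI := (hff (i - 1)).1
  haveI : Module.FinitePresentation R (E.X i) := Module.finitePresentation_of_projective R (E.X i)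
  have hfp : Module.FinitePresentation R M := by
    refine Module.finitePresentation_of_surjective N.mkQ (Submodule.mkQ_surjective N) ?_
    rw [Submodule.ker_mkQ]
    show (LinearMap.range (E.d (i - 1) i).hom).FG
    rw [LinearMap.range_eq_map]
    exact Submodule.FG.map _ Module.Finite.fg_top
  let q : E.X i ⟶ ModuleCat.of R M := ModuleCat.ofHom N.mkQ
  have hq : ∀ j, (ComplexShape.up ℤ).Rel j i → E.d j i ≫ q = 0 := by
    intro j hj
    ext x
    show N.mkQ ((E.d j i).hom x) = 0
    rw [Submodule.mkQ_apply, Submodule.Quotient.mk_eq_zero]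
    have hj' : j = i - 1 := by simp at hj; omega
    subst hj'
    exact ⟨x, rfl⟩
  let φ : E ⟶ (HomologicalComplex.single (ModuleCat.{u} R) (ComplexShape.up ℤ) i).obj (ModuleCat.of R M) :=
    HomologicalComplex.mkHomToSingle q hq
  have hmono : Mono (HomologicalComplex.homologyMap φ i) := by
    refine Groth.Agent.Lib.DMod_helper6.mono_homologyMap_of_ker_le_range φ (i - 1) i (by omega) ?_ ?_
    · intro x hx
      have h1 : φ.f i = q ≫ (HomologicalComplex.singleObjXSelf (ComplexShape.up ℤ) i (ModuleCat.of R M)).inv :=
        HomologicalComplex.mkHomToSingle_f q hq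
      rw [h1] at hx
      have h2 : q.hom x = 0 := by
        have hinj : Function.Injective
            (HomologicalComplex.singleObjXSelf (ComplexShape.up ℤ) i (ModuleCat.of R M)).inv.hom :=
          (ModuleCat.mono_iff_injective _).1 inferInstance
        apply hinj
        rw [map_zero]
        exact hx
      have h3 : x ∈ N := by
        have : N.mkQ x = 0 := h2
        rwa [Submodule.mkQ_apply, Submodule.Quotient.mk_eq_zero] at this
      obtain ⟨y, hy⟩ := h3
      exact ⟨y, hy⟩
    · exact HomologicalComplex.single_obj_d _ _ _ _ _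
  have hmonoQ : Mono ((DerivedCategory.homologyFunctor (ModuleCat.{u} R) i).map (DerivedCategory.Q.map φ)) :=
    (Groth.Agent.Lib.DMod_helper6.mono_homology_Q_map_iff φ i).2 hmono
  let ι : DerivedCategory.Q.obj ((HomologicalComplex.single (ModuleCat.{u} R) (ComplexShape.up ℤ) i).obj
      (ModuleCat.of R M)) ≅ (shiftFunctor (Dual.D R) (-i)).obj (Dual.inD R M) :=
    ((DerivedCategory.singleFunctorIsoCompQ (ModuleCat.{u} R) i).app (ModuleCat.of R M)).symm ≪≫
      (((DerivedCategory.singleFunctors (ModuleCat.{u} R)).shiftIso (-i) i 0 (by omega)).app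
        (ModuleCat.of R M)).symm
  refine ⟨M, inferInstance, inferInstance, hfp, e.inv ≫ DerivedCategory.Q.map φ ≫ ι.hom, ?_⟩
  rw [Functor.map_comp, Functor.map_comp]
  haveI : Mono ((DerivedCategory.homologyFunctor (ModuleCat.{u} R) i).map (DerivedCategory.Q.map φ) ≫
      (DerivedCategory.homologyFunctor (ModuleCat.{u} R) i).map ι.hom) := mono_comp _ _
  exact mono_comp _ _

end Groth.Agent.S6988
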