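import Groth.Statements.S6990
import Mathlib
import Groth.Agent.Lib.DMod10_helper6
-- import your own Groth.Agent.* helpers here

set_option autoImplicit false
universe u
open CategoryTheory CategoryTheory.Limits
attribute [local instance] HasDerivedCategory.standard
open DRing

namespace Groth.Agent.S6990

open CategoryTheory.Pretriangulated in
/-- Let R be a commutative ring, a, b integers, L an object of D(R) isomorphic to a complex of
projective R-modules vanishing outside [a, b], and K an object of D(R). (1) If H^i(K) = 0 for all i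
≥ a, then every morphism L → K in D(R) is zero. (2) If H^i(K) = 0 for all i ≥ a + 1, then for every
distinguished triangle K → M → L → K[1] there is an isomorphism M ≅ K ⊕ L carrying K → M to the
first inclusion and whose composite with the second projection is M → L. -/
theorem result (R : Type u) [CommRing R] (a b : ℤ)
    (L : Dual.D R) (hL : ∃ P : DRing.Cx R, DRing.VanishesOutside P a b ∧ (∀ i : ℤ, Module.Projective R (P.X i)) ∧
      Nonempty (DRing.toD P ≅ L)) (K : Dual.D R) :
    ((∀ i : ℤ, a ≤ i → Subsingleton (Dual.HD R K i)) → Subsingleton (L ⟶ K)) ∧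
      ((∀ i : ℤ, a + 1 ≤ i → Subsingleton (Dual.HD R K i)) → ∀ (T : Triangle (Dual.D R)), T ∈ distinguishedTriangles →
        T.obj₁ = K → T.obj₃ = L → ∀ [HasBinaryBiproduct T.obj₁ T.obj₃],
          ∃ e : T.obj₂ ≅ T.obj₁ ⊞ T.obj₃, T.mor₁ ≫ e.hom = biprod.inl ∧ e.hom ≫ biprod.snd = T.mor₂) := by

  obtain ⟨P, hP, hproj, ⟨e⟩⟩ := hL
  haveI : P.IsKProjective := by
    haveI : P.IsStrictlyLE b :=
      (CochainComplex.isStrictlyLE_iff P b).2 (fun i hi => hP i (Or.inr hi))
    haveI : ∀ n, Projective (P.X n) := fun n =>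
      (IsProjective.iff_projective (P.X n)).1 (hproj n)
    exact CochainComplex.isKProjective_of_projective P b
  have isLE_of_sub : ∀ (Y : Dual.D R) (n : ℤ),
      (∀ i : ℤ, n < i → Subsingleton (Dual.HD R Y i)) → DerivedCategory.IsLE Y n := by
    intro Y n hY
    rw [DerivedCategory.isLE_iff]
    intro i hi
    haveI := hY i hi
    exact ModuleCat.isZero_of_subsingleton _
  have key : ∀ (Y : Dual.D R), DerivedCategory.IsLE Y (a - 1) → ∀ g : L ⟶ Y, g = 0 := by
    intro Y hY g
    have := Groth.Agent.Lib.DMod_helper6.hom_eq_zero_of_isKProjective_of_isLE P (a - 1)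
      (fun i hi => hP i (Or.inl (by omega))) Y (e.hom ≫ g)
    rw [← cancel_epi e.hom, this, comp_zero]
  refine ⟨fun hK => ⟨fun f g => ?_⟩, ?_⟩
  · have hKle := isLE_of_sub K (a - 1) (fun i hi => hK i (by omega))
    rw [key K hKle f, key K hKle g]
  · intro hK T hT h1 h3
    subst h1 h3
    intro _
    haveI hKle : DerivedCategory.IsLE T.obj₁ a := isLE_of_sub T.obj₁ a (fun i hi => hK i (by omega))
    have h0 : T.mor₃ = 0 :=
      key _ (DerivedCategory.TStructure.t.isLE_shift T.obj₁ a 1 (a - 1) (by omega)) _
    obtain ⟨e', he1, he2⟩ := CategoryTheory.Pretriangulated.exists_iso_binaryBiproduct_of_distTriang T hT h0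
    exact ⟨e', he1, he2.symm⟩

end Groth.Agent.S6990
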