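import Groth.Statements.S6996
import Groth.Agent.Lib.RHomK_helper2

set_option autoImplicit false
universe u
open CategoryTheory CategoryTheory.Limits
attribute [local instance] HasDerivedCategory.standard
open DRing

namespace Groth.Agent.S6996

/-- Let R be a commutative ring, P a bounded above cochain complex of projective R-modules such that
RHom_R(P, -) exists, and L a cochain complex of R-modules. Then RHom_R(P, L) is isomorphic in D(R)
to the class of the Hom complex Hom(P, L) (existence of an isomorphism only; the canonical one is
the derived-functor comparison map). -/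
theorem result (R : Type u) [CommRing R] (P : DRing.Cx R) (b : ℤ)
    (hb : DRing.VanishesAbove P b) (hP : ∀ i : ℤ, Module.Projective R (P.X i)) [DRing.HasRHomCx P]
    (L : DRing.Cx R) :
    Nonempty ((DRing.RHomCx P).obj (DRing.toD L) ≅ DRing.toD (DRing.homCx P L)) := by
  haveI : P.IsStrictlyLE b :=
    (CochainComplex.isStrictlyLE_iff P b).2 (fun i hi => hb i hi)
  haveI : ∀ n : ℤ, CategoryTheory.Projective (P.X n) := fun n =>
    (IsProjective.iff_projective (P.X n)).1 (hP n)
  haveI : P.IsKProjective := CochainComplex.isKProjective_of_projective P b
  exact Groth.Agent.Lib.RHomK.nonempty_RHomCx_iso P L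

end Groth.Agent.S6996
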