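import Groth.Statements.S7015
import Mathlib
-- import your own Groth.Agent.* helpers here

set_option autoImplicit false
universe u
open CategoryTheory MonoidalCategory
set_option maxSynthPendingDepth 3
open DRing

namespace Groth.Agent.S7015

/-- Let R be a commutative ring and M, N R-modules such that N is a left dual of M for the tensor
product of R-modules, i.e. there are a coevaluation R → M ⊗ N and an evaluation N ⊗ M → R satisfying
the triangle identities (an exact pairing). Then M and N are finitely generated projective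
R-modules. -/
theorem result (R : Type u) [CommRing R] (M N : Type u) [AddCommGroup M]
    [Module R M] [AddCommGroup N] [Module R N] [ExactPairing (ModuleCat.of R M) (ModuleCat.of R N)] :
    Module.Finite R M ∧ Module.Projective R M ∧ Module.Finite R N ∧ Module.Projective R N := by
  classical
  let X := ModuleCat.of R M
  let Y := ModuleCat.of R N
  let η : (𝟙_ (ModuleCat R)) ⟶ X ⊗ Y := ExactPairing.coevaluation X Y
  let ε : Y ⊗ X ⟶ (𝟙_ (ModuleCat R)) := ExactPairing.evaluation X Y
  have h1 := ExactPairing.evaluation_coevaluation X Y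
  have h1' := ExactPairing.coevaluation_evaluation X Y
  obtain ⟨S, hS⟩ := TensorProduct.exists_finset (R := R) (M := M) (N := N) (η.hom (1 : R))
  have h3 : (ModuleCat.Hom.hom (η_ X Y)) (1 : R) = ∑ i ∈ S, i.1 ⊗ₜ[R] i.2 := hS
  have key : ∀ m : M, ∑ i ∈ S, (ε.hom (i.2 ⊗ₜ[R] m) : R) • i.1 = m := by
    intro m
    have h2 := congrArg (fun f => f.hom ((1 : R) ⊗ₜ[R] m)) h1
    simp only [ModuleCat.hom_comp, LinearMap.comp_apply] at h2
    rw [ModuleCat.MonoidalCategory.whiskerRight_apply] at h2
    rw [h3, TensorProduct.sum_tmul, map_sum, map_sum] at h2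
    have h4 : ∀ i : M × N, (ModuleCat.Hom.hom (X ◁ ε_ X Y))
        ((ModuleCat.Hom.hom (α_ X Y X).hom) ((i.1 ⊗ₜ[R] i.2) ⊗ₜ[R] m)) =
        i.1 ⊗ₜ[R] (ε.hom (i.2 ⊗ₜ[R] m) : R) := by
      intro i
      rw [ModuleCat.MonoidalCategory.associator_hom_apply,
        ModuleCat.MonoidalCategory.whiskerLeft_apply]
    rw [Finset.sum_congr rfl (fun i _ => h4 i), ModuleCat.MonoidalCategory.leftUnitor_hom_apply,
      ModuleCat.MonoidalCategory.rightUnitor_inv_apply, one_smul] at h2
    have h5 := congrArg (TensorProduct.rid R M) h2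
    rw [map_sum] at h5
    simpa using h5
  have key' : ∀ n : N, ∑ i ∈ S, (ε.hom (n ⊗ₜ[R] i.1) : R) • i.2 = n := by
    intro n
    have h2 := congrArg (fun f => f.hom (n ⊗ₜ[R] (1 : R))) h1'
    simp only [ModuleCat.hom_comp, LinearMap.comp_apply] at h2
    rw [ModuleCat.MonoidalCategory.whiskerLeft_apply] at h2
    rw [h3, TensorProduct.tmul_sum, map_sum, map_sum] at h2
    have h4 : ∀ i : M × N, (ModuleCat.Hom.hom (ε_ X Y ▷ Y))
        ((ModuleCat.Hom.hom (α_ Y X Y).inv) (n ⊗ₜ[R] (i.1 ⊗ₜ[R] i.2))) =
        (ε.hom (n ⊗ₜ[R] i.1) : R) ⊗ₜ[R] i.2 := by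
      intro i
      rw [ModuleCat.MonoidalCategory.associator_inv_apply,
        ModuleCat.MonoidalCategory.whiskerRight_apply]
    rw [Finset.sum_congr rfl (fun i _ => h4 i), ModuleCat.MonoidalCategory.rightUnitor_hom_apply,
      ModuleCat.MonoidalCategory.leftUnitor_inv_apply, one_smul] at h2
    have h5 := congrArg (TensorProduct.lid R N) h2
    rw [map_sum] at h5
    simpa using h5
  let a : M →ₗ[R] (S → R) := LinearMap.pi (fun i => ε.hom ∘ₗ (TensorProduct.mk R N M i.1.2))
  let b : (S → R) →ₗ[R] M := Fintype.linearCombination R (fun i : S => i.1.1)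
  have hba : b ∘ₗ a = LinearMap.id := by
    ext m
    simp only [LinearMap.comp_apply, LinearMap.id_apply, b, a, Fintype.linearCombination_apply,
      LinearMap.pi_apply]
    exact (Finset.sum_coe_sort S (fun i => (ε.hom (i.2 ⊗ₜ[R] m) : R) • i.1)).trans (key m)
  let a' : N →ₗ[R] (S → R) :=
    LinearMap.pi (fun i => ε.hom ∘ₗ ((TensorProduct.mk R N M).flip i.1.1))
  let b' : (S → R) →ₗ[R] N := Fintype.linearCombination R (fun i : S => i.1.2)
  have hba' : b' ∘ₗ a' = LinearMap.id := by
    ext n
    simp only [LinearMap.comp_apply, LinearMap.id_apply, b', a', Fintype.linearCombination_apply,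
      LinearMap.pi_apply]
    exact (Finset.sum_coe_sort S (fun i => (ε.hom (n ⊗ₜ[R] i.1) : R) • i.2)).trans (key' n)
  exact ⟨Module.Finite.of_surjective b (fun m => ⟨a m, LinearMap.congr_fun hba m⟩),
    Module.Projective.of_split a b hba,
    Module.Finite.of_surjective b' (fun n => ⟨a' n, LinearMap.congr_fun hba' n⟩),
    Module.Projective.of_split a' b' hba'⟩

end Groth.Agent.S7015
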