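import Groth.Statements.S7020
import Mathlib
import Groth.Agent.Lib.DMod37_helper6
-- import your own Groth.Agent.* helpers here

set_option autoImplicit false
universe u
open CategoryTheory CategoryTheory.Limits
attribute [local instance] HasDerivedCategory.standard
open DerCA

namespace Groth.Agent.S7020

open CategoryTheory.Pretriangulated in
/-- Let R → A be a finite type homomorphism of commutative rings, m an integer and K → L → M → K[1] a
distinguished triangle in D(A); all pseudo-coherence below is relative to R. (1) M is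
m-pseudo-coherent when K is (m+1)-pseudo-coherent and L is m-pseudo-coherent. (2) L is
m-pseudo-coherent when K and M are. (3) K is (m+1)-pseudo-coherent when L is (m+1)-pseudo-coherent
and M is m-pseudo-coherent. (4) Pseudo-coherence in every degree of any two of K, L, M implies that
of the third. -/
theorem result {R A : Type u} [CommRing R] [CommRing A] [Algebra R A] [Algebra.FiniteType R A] (m : ℤ) (T : Triangle (Dual.D A))
    (hT : T ∈ distinguishedTriangles) :
    (DerCA.IsRelPseudoCoherent R A (m + 1) T.obj₁ → DerCA.IsRelPseudoCoherent R A m T.obj₂ →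
        DerCA.IsRelPseudoCoherent R A m T.obj₃) ∧
      (DerCA.IsRelPseudoCoherent R A m T.obj₁ → DerCA.IsRelPseudoCoherent R A m T.obj₃ →
        DerCA.IsRelPseudoCoherent R A m T.obj₂) ∧
      (DerCA.IsRelPseudoCoherent R A (m + 1) T.obj₂ → DerCA.IsRelPseudoCoherent R A m T.obj₃ →
        DerCA.IsRelPseudoCoherent R A (m + 1) T.obj₁) ∧
      ((DerCA.IsRelPseudoCoherentAll R A T.obj₁ → DerCA.IsRelPseudoCoherentAll R A T.obj₂ →
          DerCA.IsRelPseudoCoherentAll R A T.obj₃) ∧
        (DerCA.IsRelPseudoCoherentAll R A T.obj₁ → DerCA.IsRelPseudoCoherentAll R A T.obj₃ →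
          DerCA.IsRelPseudoCoherentAll R A T.obj₂) ∧
        (DerCA.IsRelPseudoCoherentAll R A T.obj₂ → DerCA.IsRelPseudoCoherentAll R A T.obj₃ →
          DerCA.IsRelPseudoCoherentAll R A T.obj₁)) := by

  obtain ⟨n, α, hα⟩ := Algebra.FiniteType.iff_quotient_mvPolynomial''.1
    (inferInstance : Algebra.FiniteType R A)
  have hT' := (DRing.restrictD (α : MvPolynomial (Fin n) R →+* A)).map_distinguished _ hT
  have key : ∀ (m : ℤ) (K : Dual.D A), DerCA.IsRelPseudoCoherent R A m K ↔
      DRing.IsPseudoCoherent (MvPolynomial (Fin n) R) m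
        ((DRing.restrictD (α : MvPolynomial (Fin n) R →+* A)).obj K) :=
    fun m K => Groth.Agent.Lib.DMod_helper6.isRelPseudoCoherent_iff_via α hα m K
  have h23 := fun m => Groth.Agent.Lib.DMod_helper6.isPseudoCoherent_two_of_three _ hT' m
  refine ⟨?_, ?_, ?_, ?_, ?_, ?_⟩
  · intro h1 h2
    rw [key] at h1 h2 ⊢
    exact (h23 m).1 h1 h2
  · intro h1 h3
    rw [key] at h1 h3 ⊢
    exact (h23 m).2.1 h1 h3
  · intro h2 h3
    rw [key] at h2 h3 ⊢
    exact (h23 m).2.2 h2 h3
  · intro h1 h2 m'
    have a := h1 (m' + 1)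
    have b := h2 m'
    rw [key] at a b ⊢
    exact (h23 m').1 a b
  · intro h1 h3 m'
    have a := h1 m'
    have b := h3 m'
    rw [key] at a b ⊢
    exact (h23 m').2.1 a b
  · intro h2 h3 m'
    have a := h2 m'
    have b := h3 (m' - 1)
    rw [key] at a b ⊢
    have := (h23 (m' - 1)).2.2 (by rwa [sub_add_cancel]) b
    rwa [sub_add_cancel] at this

end Groth.Agent.S7020
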