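import Groth.Statements.S7021
import Mathlib
import Groth.Agent.S6935
import Groth.Agent.Lib.DMod37_helper6
-- import your own Groth.Agent.* helpers here

set_option autoImplicit false
universe u
open CategoryTheory CategoryTheory.Limits
attribute [local instance] HasDerivedCategory.standard
open DerCA

namespace Groth.Agent.S7021

/-- Let R → A be a finite type homomorphism of commutative rings, α : R[x_1, ..., x_n] → A a surjective
R-algebra homomorphism and M an A-module. Then relative 0-pseudo-coherence of M over R amounts to M
being a finitely generated A-module, and relative (-1)-pseudo-coherence of M over R amounts to M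
being finitely presented as an R[x_1, ..., x_n]-module through α. -/
theorem result {R A : Type u} [CommRing R] [CommRing A]
    [Algebra R A] [Algebra.FiniteType R A] {n : ℕ} (α : MvPolynomial (Fin n) R →ₐ[R] A)
    (hα : Function.Surjective α) (M : Type u) [AddCommGroup M] [Module A M] :
    (DerCA.IsRelPseudoCoherentModule R A 0 M ↔ Module.Finite A M) ∧
      (DerCA.IsRelPseudoCoherentModule R A (-1) M ↔
        @Module.FinitePresentation (MvPolynomial (Fin n) R) M _ _ (Module.compHom M α.toRingHom)) := by

  have k0 := Groth.Agent.Lib.DMod_helper6.isRelPseudoCoherentModule_iff α hα 0 (ModuleCat.of A M)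
  have k1 := Groth.Agent.Lib.DMod_helper6.isRelPseudoCoherentModule_iff α hα (-1) (ModuleCat.of A M)
  have r := Groth.Agent.S6935.result (MvPolynomial (Fin n) R)
    ((ModuleCat.restrictScalars (α : MvPolynomial (Fin n) R →+* A)).obj (ModuleCat.of A M))
  exact ⟨k0.trans (r.1.trans (Groth.Agent.Lib.DMod_helper6.finite_restrictScalars_iff
    (α : MvPolynomial (Fin n) R →+* A) hα (ModuleCat.of A M))), k1.trans r.2⟩

end Groth.Agent.S7021
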