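import Groth.Statements.S7022
import Mathlib
import Groth.Agent.Lib.DMod13_helper6
-- import your own Groth.Agent.* helpers here

set_option autoImplicit false
universe u
open CategoryTheory CategoryTheory.Limits
attribute [local instance] HasDerivedCategory.standard
open DerCA

namespace Groth.Agent.S7022

/-- Let R → A be a finite type homomorphism of commutative rings, m an integer and K, L objects of the
derived category D(A). Whenever the direct sum K ⊕ L is pseudo-coherent relative to R in degree m,
both summands K and L are too; likewise, relative pseudo-coherence of K ⊕ L (in every degree) passes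
to K and to L. -/
theorem result {R A : Type u} [CommRing R] [CommRing A] [Algebra R A] [Algebra.FiniteType R A] (m : ℤ) (K L : Dual.D A) [HasBinaryBiproduct K L] :
    (DerCA.IsRelPseudoCoherent R A m (K ⊞ L) → DerCA.IsRelPseudoCoherent R A m K ∧ DerCA.IsRelPseudoCoherent R A m L) ∧
      (DerCA.IsRelPseudoCoherentAll R A (K ⊞ L) →
        DerCA.IsRelPseudoCoherentAll R A K ∧ DerCA.IsRelPseudoCoherentAll R A L) := by

  have part1 : ∀ μ : ℤ, DerCA.IsRelPseudoCoherent R A μ (K ⊞ L) →
      DerCA.IsRelPseudoCoherent R A μ K ∧ DerCA.IsRelPseudoCoherent R A μ L := by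
    rintro μ ⟨n, α, hα, h⟩
    let G := DRing.restrictD (α : MvPolynomial (Fin n) R →+* A)
    haveI : PreservesBinaryBiproducts G := preservesBinaryBiproducts_of_preservesBiproducts _
    have e : G.obj (K ⊞ L) ≅ G.obj K ⊞ G.obj L := G.mapBiprod K L
    have h' := (Groth.Agent.Lib.DMod_helper6.isPseudoCoherent_iff_pcmP μ _).1 h
    have h'' := (Groth.Agent.Lib.DMod_helper6.pcmP (MvPolynomial (Fin n) R) μ).prop_of_iso e h'
    obtain ⟨hK, hL⟩ := Groth.Agent.Lib.DMod_helper6.pcmP_of_biprod μ _ _ h''
    exact ⟨⟨n, α, hα, (Groth.Agent.Lib.DMod_helper6.isPseudoCoherent_iff_pcmP μ _).2 hK⟩,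
      ⟨n, α, hα, (Groth.Agent.Lib.DMod_helper6.isPseudoCoherent_iff_pcmP μ _).2 hL⟩⟩
  exact ⟨part1 m, fun h => ⟨fun μ => (part1 μ (h μ)).1, fun μ => (part1 μ (h μ)).2⟩⟩

end Groth.Agent.S7022
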