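import Groth.Statements.S7033
import Mathlib
import Groth.Agent.Lib.DMod42_helper6
-- import your own Groth.Agent.* helpers here

set_option autoImplicit false
universe u
open CategoryTheory CategoryTheory.Limits
attribute [local instance] HasDerivedCategory.standard
open DRing

namespace Groth.Agent.S7033

/-- Let R be a commutative ring such that the derived tensor product - ⊗^L_R M exists on D(R) for every
R-module M, let a, b be integers and K an object of D(R) whose cohomology vanishes outside a bounded
range, such that for every i the module H^i(K) (placed in degree 0) has tor amplitude in [a - i, b -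
i]. Then K has tor amplitude in [a, b]. -/
theorem result (R : Type u) [CommRing R] [∀ M : ModuleCat.{u} R, DRing.HasLTensor R M] (a b : ℤ) (K : Dual.D R)
    (hb : ∃ c d : ℤ, ∀ i : ℤ, (i < c ∨ d < i) → Subsingleton (Dual.HD R K i))
    (hK : ∀ i : ℤ, DRing.HasTorAmplitudeIn R (a - i) (b - i) (Dual.inD R (Dual.HD R K i))) :
    DRing.HasTorAmplitudeIn R a b K := by

  obtain ⟨c, d, hcd⟩ := hb
  have hge : DerivedCategory.IsGE K c := by
    rw [DerivedCategory.isGE_iff]
    intro i hi
    haveI := hcd i (Or.inl hi)
    exact ModuleCat.isZero_of_subsingleton _
  have hle : DerivedCategory.IsLE K (c + ((d + 1 - c).toNat : ℤ) - 1) := by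
    rw [DerivedCategory.isLE_iff]
    intro i hi
    haveI := hcd i (Or.inr (by omega))
    exact ModuleCat.isZero_of_subsingleton _
  have h := (Groth.Agent.Lib.DMod_helper6.torFam R a b).devissage_homology 0 (d + 1 - c).toNat K c
    hge hle
    (fun i => by
      have := hK i
      rw [show a - i = a + (0 - i) by ring, show b - i = b + (0 - i) by ring] at this
      exact this)
  have h' : DRing.HasTorAmplitudeIn R (a + 0) (b + 0) K := h
  rwa [add_zero, add_zero] at h'

end Groth.Agent.S7033
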