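import Groth.Statements.S7037
import Groth.Agent.Lib.DRingLT2_helper2

set_option autoImplicit false
universe u
open CategoryTheory CategoryTheory.Limits
attribute [local instance] HasDerivedCategory.standard
open DRing

namespace Groth.Agent.S7037

/-- Let R be a commutative ring, K a pseudo-coherent object of D(R), and L a cochain complex of
R-modules which is pseudo-coherent as an object of D(R); assume the derived tensor product - ⊗^L_R L
exists on D(R). Then K ⊗^L_R L is pseudo-coherent. -/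
theorem result (R : Type u) [CommRing R] (K : Dual.D R) (hK : DRing.IsPseudoCoherent' R K)
    (L : DRing.Cx R) (hL : DRing.IsPseudoCoherent' R (DRing.toD L)) [DRing.HasLTensorCx R L] :
    DRing.IsPseudoCoherent' R ((DRing.LTensorCx R L).obj K) := by
  obtain ⟨E₁, b, hv1, hp1, ⟨φ₁⟩⟩ := hK
  obtain ⟨E₂, b', hv2, hp2, ⟨φ₂⟩⟩ := hL
  have hE₁ : Groth.Agent.Lib.KFlatMod.KF R E₁ :=
    Groth.Agent.Lib.KFlatMod.kf_of_vanishesAbove E₁ b hv1 (fun i => by
      haveI := (hp1 i).2
      infer_instance)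
  obtain ⟨e⟩ := Groth.Agent.Lib.DRingLT.nonempty_LTensorCx_iso L K E₁ E₂ hE₁ φ₁ φ₂
  exact ⟨MonoidalCategory.tensorObj E₁ E₂, b + b',
    Groth.Agent.Lib.DRingLT.vanishesAbove_tensor E₁ E₂ b b' hv1 hv2,
    Groth.Agent.Lib.DRingLT.termwiseFiniteFree_tensor E₁ E₂ b b' hv1 hv2 hp1 hp2, ⟨e⟩⟩

end Groth.Agent.S7037
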