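import Groth.Statements.S7039
import Mathlib
-- import your own Groth.Agent.* helpers here

set_option autoImplicit false
universe u
open LocCoh

namespace Groth.Agent.S7039

/-- For a finitely generated ideal I of a commutative ring R and any R-module M, the quotient of M by
its submodule of I-power torsion elements has no nonzero element annihilated by I. -/
theorem result {R : Type u} [CommRing R] (I : Ideal R) (hI : I.FG)
    (M : Type u) [AddCommGroup M] [Module R M] :
    LocCoh.torsionBy I (M ⧸ DRing.torsionSub I M) = ⊥ := by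
  classical
  rw [eq_bot_iff]
  intro x hx
  obtain ⟨m, rfl⟩ := Submodule.Quotient.mk_surjective _ x
  rw [Submodule.mem_bot, Submodule.Quotient.mk_eq_zero]
  rw [Submodule.mem_torsionBySet_iff] at hx
  have h1 : ∀ a ∈ I, a • m ∈ DRing.torsionSub I M := fun a ha => by
    have := hx ⟨a, ha⟩
    rwa [← Submodule.Quotient.mk_smul, Submodule.Quotient.mk_eq_zero] at this
  obtain ⟨s, hs⟩ := hI
  have h2 : ∀ a ∈ s, ∃ n : ℕ, ∀ b ∈ I ^ n, b • (a • m) = 0 :=
    fun a ha => h1 a (hs ▸ Ideal.subset_span ha)
  choose! n hn using h2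
  show ∃ k : ℕ, ∀ a ∈ I ^ k, a • m = 0
  refine ⟨s.sup n + 1, fun c hc => ?_⟩
  rw [pow_succ] at hc
  refine Submodule.mul_induction_on hc ?_ ?_
  · intro b hb a ha
    rw [mul_smul]
    rw [← hs] at ha
    refine Submodule.span_induction (p := fun a _ => b • a • m = 0) ?_ ?_ ?_ ?_ ha
    · intro a has
      exact hn a has b (Ideal.pow_le_pow_right (Finset.le_sup has) hb)
    · simp
    · intro x y _ _ hx hy
      rw [add_smul, smul_add, hx, hy, add_zero]
    · intro r x _ hx
      rw [smul_eq_mul, mul_smul, smul_comm b r, hx, smul_zero]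
  · intro x y hx hy
    rw [add_smul, hx, hy, add_zero]


end Groth.Agent.S7039
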