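import Groth.Statements.S7040
import Mathlib
-- import your own Groth.Agent.* helpers here

set_option autoImplicit false
universe u
open CategoryTheory
open LocCoh

namespace Groth.Agent.S7040

/-- For a finitely generated ideal I of a commutative ring R, the property of being an I-power torsion
module (every element killed by a power of I) is a Serre class in the category of R-modules: it
holds for 0 and is closed under subobjects, quotients and extensions. -/
theorem result {R : Type u} [CommRing R] (I : Ideal R) (hI : I.FG) :
    ObjectProperty.IsSerreClass (C := ModuleCat.{u} R) (fun M => LocCoh.IsPowerTorsion I M) := by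
  classical
  refine { exists_zero := ?_, prop_of_mono := ?_, prop_of_epi := ?_, prop_X₂_of_shortExact := ?_ }
  · refine ⟨ModuleCat.of R PUnit, ModuleCat.isZero_of_subsingleton _, fun m => ⟨0, fun a _ => ?_⟩⟩
    exact Subsingleton.elim _ _
  · intro X Y f _ hY m
    have hinj := (ModuleCat.mono_iff_injective f).mp inferInstance
    obtain ⟨n, hn⟩ := hY (f m)
    refine ⟨n, fun a ha => hinj ?_⟩
    rw [map_smul, hn a ha, map_zero]
  · intro X Y f _ hX y
    have hsurj := (ModuleCat.epi_iff_surjective f).mp inferInstance
    obtain ⟨x, rfl⟩ := hsurj y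
    obtain ⟨n, hn⟩ := hX x
    refine ⟨n, fun a ha => ?_⟩
    rw [← map_smul, hn a ha, map_zero]
  · intro S hS h₁ h₃ m
    have hex := (ShortComplex.moduleCat_exact_iff S).mp hS.exact
    obtain ⟨n, hn⟩ := h₃ (S.g m)
    obtain ⟨s, hs⟩ := (hI.pow (n := n))
    have h2 : ∀ a ∈ s, ∃ x : S.X₁, S.f x = a • m := by
      intro a ha
      have haI : a ∈ I ^ n := hs ▸ Ideal.subset_span ha
      exact hex (a • m) (by rw [map_smul, hn a haI])
    choose! x hx using h2
    have h3 : ∀ a ∈ s, ∃ k : ℕ, ∀ b ∈ I ^ k, b • x a = 0 := fun a _ => h₁ (x a)
    choose! k hk using h3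
    refine ⟨s.sup k + n, fun c hc => ?_⟩
    rw [pow_add] at hc
    refine Submodule.mul_induction_on hc ?_ ?_
    · intro b hb a ha
      rw [mul_smul]
      rw [← hs] at ha
      refine Submodule.span_induction (p := fun a _ => b • a • m = 0) ?_ ?_ ?_ ?_ ha
      · intro a has
        rw [← hx a has, ← map_smul,
          hk a has b (Ideal.pow_le_pow_right (Finset.le_sup has) hb), map_zero]
      · simp
      · intro y z _ _ hy hz
        rw [add_smul, smul_add, hy, hz, add_zero]
      · intro r y _ hy
        rw [smul_eq_mul, mul_smul, smul_comm b r, hy, smul_zero]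
    · intro y z hy hz
      rw [add_smul, hy, hz, add_zero]


end Groth.Agent.S7040
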