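import Groth.Statements.S7043
import Groth.Agent.Lib.DerComplOld_helper9

set_option autoImplicit false
universe u
attribute [local instance] HasDerivedCategory.standard
open DRing

namespace Groth.Agent.S7043

/-- Let f be an element of a commutative ring A and let M be an A-module which, placed in degree 0, is
derived complete with respect to the ideal (f). Then the ideal J = ⋂ f^n A annihilates the submodule
⋂ f^n M, which is the kernel of M → lim M/f^n M. (The case M = A says that J has square zero when A
itself is derived complete.) -/
theorem result {A : Type u} [CommRing A] (f : A)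
    (M : Type u) [AddCommGroup M] [Module A M]
    (hc : DRing.IsDerivedComplete (Ideal.span {f}) (Dual.inD A M)) :
    (⨅ n : ℕ, Ideal.span {f ^ n}) • (⨅ n : ℕ, (Ideal.span {f ^ n}) • (⊤ : Submodule A M)) = (⊥ : Submodule A M) := by
  have hconc := DerComp9.conc_of_isDerivedComplete _ M hc f (Ideal.subset_span (Set.mem_singleton f))
  rw [eq_bot_iff, Submodule.smul_le]
  intro a ha m hm
  rw [Submodule.mem_bot]
  apply DerComp9.Conc.smul_eq_zero_of_mem_iInf hconc a _ m _
  · intro n
    have h1 := (Ideal.mem_iInf.mp ha) n
    obtain ⟨b, hb⟩ := Ideal.mem_span_singleton'.mp h1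
    exact ⟨b, by rw [← hb, mul_comm]⟩
  · intro n
    have h1 := (Submodule.mem_iInf _).mp hm n
    rw [Submodule.ideal_span_singleton_smul, Submodule.mem_smul_pointwise_iff_exists] at h1
    obtain ⟨m', -, hm'⟩ := h1
    exact ⟨m', hm'.symm⟩

end Groth.Agent.S7043
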