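import Groth.Statements.S7046
import Groth.Agent.Lib.DerComp2_helper9

set_option autoImplicit false
universe u
attribute [local instance] HasDerivedCategory.standard
open DRing

namespace Groth.Agent.S7046

/-- A reduced commutative ring A which, placed in degree 0 of D(A), is derived complete with respect to
a finitely generated ideal I is I-adically complete, i.e. separated and complete for the I-adic
topology. -/
theorem result {A : Type u} [CommRing A] [IsReduced A]
    (I : Ideal A) (hI : I.FG) (hc : DRing.IsDerivedComplete I (Dual.inD A A)) :
    IsAdicComplete I A := by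
  obtain ⟨s, rfl⟩ := hI
  have hconc : ∀ f ∈ s, DerComp9.Conc f A :=
    fun f hf => DerComp9.conc_of_isDerivedComplete _ A hc f (Ideal.subset_span hf)
  haveI : IsPrecomplete (Ideal.span (s : Set A)) A := DerComp9.isPrecomplete_of_conc s hconc
  haveI : IsHausdorff (Ideal.span (s : Set A)) A := by
    rw [isHausdorff_iff]
    intro x hx
    have hJ := DerComp9.iInf_pow_pow_eq_bot s.card A s le_rfl hconc
    have hxJ : x ∈ ⨅ n : ℕ, (Ideal.span (s : Set A)) ^ n := by
      rw [Ideal.mem_iInf]
      intro n
      have := hx n
      rw [SModEq.zero] at this
      simpa using this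
    have : x ^ (2 ^ s.card) ∈ (⊥ : Ideal A) := by
      rw [← hJ]; exact Ideal.pow_mem_pow hxJ _
    rw [Ideal.mem_bot] at this
    exact IsReduced.eq_zero x ⟨_, this⟩
  exact {}

end Groth.Agent.S7046
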