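import Groth.Statements.S7052
import Mathlib
-- import your own Groth.Agent.* helpers here

set_option autoImplicit false
universe u
attribute [local instance] HasDerivedCategory.standard
open DRing

namespace Groth.Agent.S7052


open CategoryTheory CategoryTheory.Limits in
theorem aux {A : Type u} [CommRing A] (I : Ideal A)
    (M : Type u) [AddCommGroup M] [Module A M] (M₁ : Submodule A M)
    (h1 : DRing.IsDerivedComplete I (Dual.inD A M₁))
    (h3 : DRing.IsDerivedComplete I (Dual.inD A (M ⧸ M₁))) :
    DRing.IsDerivedComplete I (Dual.inD A M) := by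
  intro f hf n
  let S : ShortComplex (ModuleCat.{u} A) :=
    ShortComplex.mk (ModuleCat.ofHom M₁.subtype) (ModuleCat.ofHom M₁.mkQ) (by ext x; simp)
  have hS : S.ShortExact := by
    refine ShortComplex.ShortExact.mk' ?_ ?_ ?_
    · rw [ShortComplex.moduleCat_exact_iff]
      intro x hx
      have hx' : M₁.mkQ x = 0 := hx
      rw [Submodule.mkQ_apply, Submodule.Quotient.mk_eq_zero] at hx'
      exact ⟨⟨x, hx'⟩, rfl⟩
    · exact (ModuleCat.mono_iff_injective _).mpr M₁.injective_subtype
    · exact (ModuleCat.epi_iff_surjective _).mpr M₁.mkQ_surjective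
  have hT := hS.singleTriangle_distinguished
  have hTn := CategoryTheory.Pretriangulated.Triangle.shift_distinguished _ hT n
  refine ⟨fun φ φ' => ?_⟩
  have key : ∀ ψ : Dual.inD A (Localization.Away f) ⟶ (Dual.inD A M)⟦n⟧, ψ = 0 := by
    intro ψ
    haveI := h1 f hf n
    haveI := h3 f hf n
    obtain ⟨g, hg⟩ := CategoryTheory.Pretriangulated.Triangle.coyoneda_exact₂ _ hTn ψ
      (Subsingleton.elim (α := Dual.inD A (Localization.Away f) ⟶ (Dual.inD A (M ⧸ M₁))⟦n⟧) _ _)
    have hg0 : g = 0 :=
      Subsingleton.elim (α := Dual.inD A (Localization.Away f) ⟶ (Dual.inD A M₁)⟦n⟧) _ _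
    rw [hg, hg0]
    exact Limits.zero_comp
  rw [key φ, key φ']


/-- For a commutative ring A, an ideal I, an A-module M and a submodule M₁ such that both M₁ and M/M₁
(placed in degree 0) are derived complete with respect to I, the module M is derived complete with
respect to I. -/
theorem result {A : Type u} [CommRing A] (I : Ideal A)
    (M : Type u) [AddCommGroup M] [Module A M] (M₁ : Submodule A M)
    (h1 : DRing.IsDerivedComplete I (Dual.inD A M₁)) (h3 : DRing.IsDerivedComplete I (Dual.inD A (M ⧸ M₁))) :
    DRing.IsDerivedComplete I (Dual.inD A M) := by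
  exact aux I M M₁ h1 h3


end Groth.Agent.S7052
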