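import Groth.Statements.S7076
import Groth.Agent.Lib.RelPerfNilp_helper2

set_option autoImplicit false
universe u
attribute [local instance] HasDerivedCategory.standard
open TensorProduct
open Dual2

namespace Groth.Agent.S7076

open TensorProduct in
/-- `A' → R ⊗_{R'} A'` is surjective when `R' → R` is -/
lemma surj_includeRight (R' A' R : Type u) [CommRing R'] [CommRing A'] [Algebra R' A']
    [CommRing R] [Algebra R' R] (hs : Function.Surjective (algebraMap R' R)) :
    Function.Surjective (Algebra.TensorProduct.includeRight.toRingHom : A' →+* R ⊗[R'] A') := by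
  intro x
  induction x using TensorProduct.induction_on with
  | zero => exact ⟨0, map_zero _⟩
  | tmul r a =>
    obtain ⟨r', rfl⟩ := hs r
    refine ⟨r' • a, ?_⟩
    show (1 : R) ⊗ₜ[R'] (r' • a) = algebraMap R' R r' ⊗ₜ[R'] a
    rw [← TensorProduct.smul_tmul, Algebra.smul_def, mul_one]
  | add x y hx hy =>
    obtain ⟨a, rfl⟩ := hx
    obtain ⟨b, rfl⟩ := hy
    exact ⟨a + b, map_add _ _ _⟩

open TensorProduct in
/-- the kernel of `A' → R ⊗_{R'} A'` is contained in `I A'`, `I = ker (R' → R)` -/
lemma ker_includeRight_le (R' A' R : Type u) [CommRing R'] [CommRing A'] [Algebra R' A']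
    [CommRing R] [Algebra R' R] (hs : Function.Surjective (algebraMap R' R)) :
    RingHom.ker (Algebra.TensorProduct.includeRight.toRingHom : A' →+* R ⊗[R'] A') ≤
      (RingHom.ker (algebraMap R' R)).map (algebraMap R' A') := by
  intro a ha
  rw [RingHom.mem_ker] at ha
  let g : R' →ₗ[R'] R := Algebra.linearMap R' R
  have hex : Function.Exact (LinearMap.ker g).subtype g := LinearMap.exact_subtype_ker_map g
  have hex2 := rTensor_exact A' hex hs
  have h1 : (LinearMap.rTensor A' g) ((1 : R') ⊗ₜ[R'] a) = 0 := by
    rw [LinearMap.rTensor_tmul]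
    show algebraMap R' R 1 ⊗ₜ[R'] a = 0
    rw [map_one]
    exact ha
  obtain ⟨y, hy⟩ := (hex2 _).1 h1
  have key : ∀ y : (LinearMap.ker g) ⊗[R'] A',
      TensorProduct.lid R' A' (LinearMap.rTensor A' (LinearMap.ker g).subtype y) ∈
        (RingHom.ker (algebraMap R' R)).map (algebraMap R' A') := by
    intro y
    induction y using TensorProduct.induction_on with
    | zero => simp
    | tmul i a1 =>
      rw [LinearMap.rTensor_tmul, TensorProduct.lid_tmul, Submodule.subtype_apply,
        Algebra.smul_def]
      refine Ideal.mul_mem_right _ _ (Ideal.mem_map_of_mem _ ?_)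
      rw [RingHom.mem_ker]
      exact i.2
    | add x y hx hy =>
      rw [map_add, map_add]
      exact add_mem hx hy
  have := key y
  rw [hy, TensorProduct.lid_tmul, one_smul] at this
  exact this


/-- Let R' → A' be a flat homomorphism of finite presentation of commutative rings, R' → R a surjective
homomorphism of rings with nilpotent kernel, A = R ⊗_{R'} A', and K' an object of D(A'). If the
derived base change K' ⊗^L_{A'} A (total left derived functor of extension of scalars, assumed to
exist) is R-perfect in D(A), then K' is R'-perfect in D(A'). -/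
theorem result (R' A' R : Type u) [CommRing R'] [CommRing A'] [Algebra R' A']
    [CommRing R] [Algebra R' R] [Module.Flat R' A'] [Algebra.FinitePresentation R' A']
    (hs : Function.Surjective (algebraMap R' R)) (hn : IsNilpotent (RingHom.ker (algebraMap R' R)))
    [DRing.HasLBaseChange (Algebra.TensorProduct.includeRight.toRingHom : A' →+* R ⊗[R'] A')]
    (K' : Dual.D A')
    (hK : Dual2.IsRelPerfect R (R ⊗[R'] A')
      ((DRing.LBaseChange (Algebra.TensorProduct.includeRight.toRingHom : A' →+* R ⊗[R'] A')).obj K')) :
    Dual2.IsRelPerfect R' A' K' := by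
  letI : Algebra A' (R ⊗[R'] A') := Algebra.TensorProduct.rightAlgebra
  haveI : DRing.HasLBaseChange (algebraMap A' (R ⊗[R'] A')) :=
    (inferInstance : DRing.HasLBaseChange
      (Algebra.TensorProduct.includeRight.toRingHom : A' →+* R ⊗[R'] A'))
  have hφs : Function.Surjective (algebraMap A' (R ⊗[R'] A')) := surj_includeRight R' A' R hs
  have hφn : IsNilpotent (RingHom.ker (algebraMap A' (R ⊗[R'] A'))) := by
    obtain ⟨n, hn'⟩ := hn
    refine ⟨n, ?_⟩
    have h1 : RingHom.ker (algebraMap A' (R ⊗[R'] A')) ^ n ≤
        ((RingHom.ker (algebraMap R' R)).map (algebraMap R' A')) ^ n :=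
      Ideal.pow_right_mono (ker_includeRight_le R' A' R hs) n
    rw [← Ideal.map_pow, hn', Ideal.zero_eq_bot, Ideal.map_bot] at h1
    exact le_bot_iff.1 h1
  exact Groth.Agent.Lib.RelPerfNilp.isRelPerfect_of_lBaseChange (R' := R') (R := R) (A' := A')
    (B := R ⊗[R'] A') hs hn hφs hφn K' hK

end Groth.Agent.S7076
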