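import Groth.Statements.S7077
import Mathlib
import Groth.Agent.Lib.DMod15_helper6
-- import your own Groth.Agent.* helpers here

set_option autoImplicit false
universe u
attribute [local instance] HasDerivedCategory.standard
open CategoryTheory
open DRing

namespace Groth.Agent.S7077

/-- (1)⇔(2): let R be a commutative ring and K an object of D(R) whose cohomology modules vanish outside
degrees -1 and 0. Then H^{-1}(K) vanishes and H^0(K) is a projective R-module if and only if
Ext^1_R(K, M) = Hom_{D(R)}(K, M[1]) vanishes for every R-module M. -/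
theorem result {R : Type u} [CommRing R] (K : Dual.D R)
    (hK : ∀ i : ℤ, i ≠ -1 → i ≠ 0 → Subsingleton (Dual.HD R K i)) :
    (Subsingleton (Dual.HD R K (-1)) ∧ Module.Projective R (Dual.HD R K 0)) ↔
      ∀ (M : Type u) [AddCommGroup M] [Module R M], Subsingleton (K ⟶ (Dual.inD R M)⟦(1 : ℤ)⟧) := by

  haveI hle : DerivedCategory.IsLE K 0 := by
    rw [DerivedCategory.isLE_iff]
    intro i hi
    haveI := hK i (by omega) (by omega)
    exact ModuleCat.isZero_of_subsingleton _
  haveI hge : DerivedCategory.IsGE K (-1) := by
    rw [DerivedCategory.isGE_iff]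
    intro i hi
    haveI := hK i (by omega) (by omega)
    exact ModuleCat.isZero_of_subsingleton _
  constructor
  · rintro ⟨hs, hp⟩ M _ _
    haveI : DerivedCategory.IsGE K 0 := by
      rw [DerivedCategory.isGE_iff]
      intro i hi
      by_cases h : i = -1
      · subst h
        exact ModuleCat.isZero_of_subsingleton _
      · haveI := hK i h (by omega)
        exact ModuleCat.isZero_of_subsingleton _
    obtain ⟨e⟩ := Groth.Agent.Lib.DMod_helper6.exists_iso_single_homology K 0
    haveI : Projective ((DerivedCategory.homologyFunctor (ModuleCat.{u} R) 0).obj K) :=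
      (IsProjective.iff_projective _).1 hp
    haveI : DerivedCategory.IsLE ((Dual.inD R M)⟦(1 : ℤ)⟧) (-1) :=
      DerivedCategory.TStructure.t.isLE_shift (Dual.inD R M) 0 1 (-1) (by norm_num)
    refine ⟨fun a b => ?_⟩
    have key : ∀ c : K ⟶ (Dual.inD R M)⟦(1 : ℤ)⟧, c = 0 := fun c => by
      have := Groth.Agent.Lib.DMod_helper6.hom_single_eq_zero _ _ (e.inv ≫ c)
      rw [← cancel_epi e.inv, this, Limits.comp_zero]
    rw [key a, key b]
  · intro hExt
    let H := (DerivedCategory.homologyFunctor (ModuleCat.{u} R) 0).obj K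
    let F : ModuleCat.{u} R := ModuleCat.of R (H →₀ R)
    let p : F ⟶ H := ModuleCat.ofHom (Finsupp.linearCombination R id)
    haveI : Epi p := (ModuleCat.epi_iff_surjective _).2 (Finsupp.linearCombination_id_surjective R H)
    haveI : Projective F := (IsProjective.iff_projective (H →₀ R)).1 inferInstance
    obtain ⟨f, C, g, h, hT, hC1, hC2⟩ := Groth.Agent.Lib.DMod_helper6.exists_triangle_single K F p
    haveI := hC1
    haveI := hC2
    obtain ⟨EC⟩ := Groth.Agent.Lib.DMod_helper6.exists_iso_single_homology C (-1)
    let M := (DerivedCategory.homologyFunctor (ModuleCat.{u} R) (-1)).obj C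
    let ι : C ≅ ((DerivedCategory.singleFunctor (ModuleCat.{u} R) 0).obj M)⟦(1 : ℤ)⟧ :=
      EC ≪≫ (((DerivedCategory.singleFunctors (ModuleCat.{u} R)).shiftIso 1 (-1) 0
        (by norm_num)).app M).symm
    have hg : g = 0 := by
      haveI := hExt M
      have : g ≫ ι.hom = 0 := Subsingleton.elim (α := K ⟶ (Dual.inD R M)⟦(1 : ℤ)⟧) _ _
      rw [← cancel_mono ι.hom, this, Limits.zero_comp]
    haveI : Epi f := (Pretriangulated.Triangle.mor₂_eq_zero_iff_epi₁ _ hT).1 hg
    haveI : IsSplitEpi f := isSplitEpi_of_epi f
    have hsf : section_ f ≫ f = 𝟙 K := IsSplitEpi.id f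
    constructor
    · have hz : Limits.IsZero ((DerivedCategory.homologyFunctor (ModuleCat.{u} R) (-1)).obj K) := by
        rw [Limits.IsZero.iff_id_eq_zero]
        have h0 := Groth.Agent.Lib.DMod_helper6.isZero_HD_inD F (-1) (by norm_num)
        have : 𝟙 ((DerivedCategory.homologyFunctor (ModuleCat.{u} R) (-1)).obj K) =
            (DerivedCategory.homologyFunctor (ModuleCat.{u} R) (-1)).map (section_ f) ≫
              (DerivedCategory.homologyFunctor (ModuleCat.{u} R) (-1)).map f := by
          rw [← CategoryTheory.Functor.map_comp, hsf, CategoryTheory.Functor.map_id]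
        rw [this, h0.eq_of_tgt ((DerivedCategory.homologyFunctor (ModuleCat.{u} R) (-1)).map
          (section_ f)) 0, Limits.zero_comp]
      exact ModuleCat.subsingleton_of_isZero hz
    · have hret : ((DerivedCategory.homologyFunctor (ModuleCat.{u} R) 0).map (section_ f) ≫
          (Groth.Agent.Lib.DMod_helper6.HDinDIso F).hom) ≫
          ((Groth.Agent.Lib.DMod_helper6.HDinDIso F).inv ≫
            (DerivedCategory.homologyFunctor (ModuleCat.{u} R) 0).map f) = 𝟙 _ := by
        rw [Category.assoc, Iso.hom_inv_id_assoc, ← CategoryTheory.Functor.map_comp, hsf,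
          CategoryTheory.Functor.map_id]
      exact Groth.Agent.Lib.DMod_helper6.projective_of_retract _ _ hret
        (inferInstanceAs (Module.Projective R (H →₀ R)))

end Groth.Agent.S7077
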