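import Groth.Statements.S7078
import Mathlib
import Groth.Agent.Lib.DMod14_helper6
-- import your own Groth.Agent.* helpers here

set_option autoImplicit false
universe u
attribute [local instance] HasDerivedCategory.standard
open CategoryTheory
open DRing

namespace Groth.Agent.S7078

/-- For a commutative ring R and an object K of D(R) whose cohomology modules vanish outside degrees -1
and 0, K is represented by a two-term complex K^{-1} → K^0 with K^0 a free R-module. -/
theorem result {R : Type u} [CommRing R] (K : Dual.D R)
    (hK : ∀ i : ℤ, i ≠ -1 → i ≠ 0 → Subsingleton (Dual.HD R K i)) :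
    ∃ E : DRing.Cx R, DRing.VanishesOutside E (-1) 0 ∧ Module.Free R (E.X 0) ∧ Nonempty (DRing.toD E ≅ K) := by

  haveI : DerivedCategory.IsLE K 0 := by
    rw [DerivedCategory.isLE_iff]
    intro i hi
    haveI := hK i (by omega) (by omega)
    exact ModuleCat.isZero_of_subsingleton _
  haveI : DerivedCategory.IsGE K (-1) := by
    rw [DerivedCategory.isGE_iff]
    intro i hi
    haveI := hK i (by omega) (by omega)
    exact ModuleCat.isZero_of_subsingleton _
  let H := (DerivedCategory.homologyFunctor (ModuleCat.{u} R) 0).obj K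
  let F : ModuleCat.{u} R := ModuleCat.of R (H →₀ R)
  let p : F ⟶ H := ModuleCat.ofHom (Finsupp.linearCombination R id)
  haveI : Epi p := (ModuleCat.epi_iff_surjective _).2 (Finsupp.linearCombination_id_surjective R H)
  haveI : Projective F := (IsProjective.iff_projective (H →₀ R)).1 inferInstance
  obtain ⟨f, C, g, h, hT, hC1, hC2⟩ := Groth.Agent.Lib.DMod_helper6.exists_triangle_single K F p
  haveI := hC1
  haveI := hC2
  obtain ⟨φ, ⟨e⟩⟩ := Groth.Agent.Lib.DMod_helper6.exists_twoTerm_of_triangle hT
  obtain ⟨e0⟩ := Groth.Agent.Lib.DMod_helper6.nonempty_cone_single_X_zero_iso φ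
  refine ⟨CochainComplex.mappingCone φ,
    Groth.Agent.Lib.DMod_helper6.vanishesOutside_cone_single φ, ?_, ⟨e⟩⟩
  exact Groth.Agent.Lib.DMod_helper6.free_of_iso e0.symm
    (inferInstanceAs (Module.Free R (H →₀ R)))

end Groth.Agent.S7078
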