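import Groth.Statements.S7079
import Mathlib
import Groth.Agent.Lib.DMod15_helper6
-- import your own Groth.Agent.* helpers here

set_option autoImplicit false
universe u
attribute [local instance] HasDerivedCategory.standard
open CategoryTheory
open DRing

namespace Groth.Agent.S7079

/-- For a Noetherian commutative ring R and an object K of D(R) whose cohomology modules vanish outside
degrees -1 and 0 and are finite modules in those two degrees, K is represented by a two-term complex
K^{-1} → K^0 with K^0 finite free and K^{-1} finite. -/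
theorem result {R : Type u} [CommRing R] [IsNoetherianRing R] (K : Dual.D R)
    (hK : ∀ i : ℤ, i ≠ -1 → i ≠ 0 → Subsingleton (Dual.HD R K i))
    (h1 : Module.Finite R (Dual.HD R K (-1))) (h0 : Module.Finite R (Dual.HD R K 0)) :
    ∃ E : DRing.Cx R, DRing.VanishesOutside E (-1) 0 ∧ Module.Free R (E.X 0) ∧ Module.Finite R (E.X 0) ∧
      Module.Finite R (E.X (-1)) ∧ Nonempty (DRing.toD E ≅ K) := by

  haveI : DerivedCategory.IsLE K 0 := by
    rw [DerivedCategory.isLE_iff]
    intro i hi
    haveI := hK i (by omega) (by omega)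
    exact ModuleCat.isZero_of_subsingleton _
  haveI : DerivedCategory.IsGE K (-1) := by
    rw [DerivedCategory.isGE_iff]
    intro i hi
    haveI := hK i (by omega) (by omega)
    exact ModuleCat.isZero_of_subsingleton _
  let H := (DerivedCategory.homologyFunctor (ModuleCat.{u} R) 0).obj K
  obtain ⟨n, p₀, hp₀⟩ := Module.Finite.exists_fin' R H
  let F : ModuleCat.{u} R := ModuleCat.of R (Fin n → R)
  let p : F ⟶ H := ModuleCat.ofHom p₀
  haveI : Epi p := (ModuleCat.epi_iff_surjective _).2 hp₀
  haveI : Projective F := (IsProjective.iff_projective (Fin n → R)).1 inferInstance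
  obtain ⟨f, C, g, h, hT, hC1, hC2⟩ := Groth.Agent.Lib.DMod_helper6.exists_triangle_single K F p
  haveI := hC1
  haveI := hC2
  obtain ⟨φ, ⟨e⟩⟩ := Groth.Agent.Lib.DMod_helper6.exists_twoTerm_of_triangle hT
  obtain ⟨e0⟩ := Groth.Agent.Lib.DMod_helper6.nonempty_cone_single_X_zero_iso φ
  obtain ⟨e1⟩ := Groth.Agent.Lib.DMod_helper6.nonempty_cone_single_X_negOne_iso φ
  have hMfin : Module.Finite R ((DerivedCategory.homologyFunctor (ModuleCat.{u} R) (-1)).obj C) := by
    have ex := (DerivedCategory.HomologySequence.exact₃ _ hT (-1) 0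
      (by norm_num)).moduleCat_range_eq_ker
    refine Groth.Agent.Lib.DMod_helper6.finite_of_exact_noeth _ _ ex h1 ?_
    exact Groth.Agent.Lib.DMod_helper6.finite_of_iso (Groth.Agent.Lib.DMod_helper6.HDinDIso F).symm
        (inferInstanceAs (Module.Finite R (Fin n → R)))
  refine ⟨CochainComplex.mappingCone φ,
    Groth.Agent.Lib.DMod_helper6.vanishesOutside_cone_single φ, ?_, ?_, ?_, ⟨e⟩⟩
  · exact Groth.Agent.Lib.DMod_helper6.free_of_iso e0.symm
      (inferInstanceAs (Module.Free R (Fin n → R)))
  · exact Groth.Agent.Lib.DMod_helper6.finite_of_iso e0.symm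
      (inferInstanceAs (Module.Finite R (Fin n → R)))
  · exact Groth.Agent.Lib.DMod_helper6.finite_of_iso e1.symm hMfin

end Groth.Agent.S7079
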