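import Groth.Statements.S7080
import Mathlib
-- import your own Groth.Agent.* helpers here

set_option autoImplicit false
universe u
attribute [local instance] HasDerivedCategory.standard
open CategoryTheory
open DRing

namespace Groth.Agent.S7080

/-- Let R be a commutative ring and α : K → K' a morphism in D(R) between objects whose cohomology
vanishes outside degrees -1 and 0, such that H^0(α) is an isomorphism and H^{-1}(α) is surjective.
If multiplication by an element f of R is the zero endomorphism of K in D(R), then it is also the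
zero endomorphism of K'. -/
theorem result {R : Type u} [CommRing R] {K K' : Dual.D R} (α : K ⟶ K')
    (hK : ∀ i : ℤ, i ≠ -1 → i ≠ 0 → Subsingleton (Dual.HD R K i))
    (hK' : ∀ i : ℤ, i ≠ -1 → i ≠ 0 → Subsingleton (Dual.HD R K' i))
    (h0 : IsIso ((DerivedCategory.homologyFunctor (ModuleCat.{u} R) 0).map α))
    (h1 : Epi ((DerivedCategory.homologyFunctor (ModuleCat.{u} R) (-1)).map α))
    (f : R) (hf : f • (𝟙 K) = 0) : f • (𝟙 K') = 0 := by

  obtain ⟨C, g, h, hT⟩ := CategoryTheory.Pretriangulated.distinguished_cocone_triangle α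
  have hz : ∀ (X : Dual.D R), (∀ i : ℤ, i ≠ -1 → i ≠ 0 → Subsingleton (Dual.HD R X i)) →
      ∀ i : ℤ, 1 ≤ i → Limits.IsZero ((DerivedCategory.homologyFunctor (ModuleCat.{u} R) i).obj X) := by
    intro X hX i hi
    haveI := hX i (by omega) (by omega)
    exact ModuleCat.isZero_of_subsingleton _
  haveI hC : DerivedCategory.IsLE C (-2) := by
    rw [DerivedCategory.isLE_iff]
    intro i hi
    have h1' : (DerivedCategory.homologyFunctor (ModuleCat.{u} R) i).map g = 0 := by
      by_cases hi1 : 1 ≤ i
      · exact (hz K' hK' i hi1).eq_of_src _ _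
      · refine (DerivedCategory.HomologySequence.epi_homologyMap_mor₁_iff _ hT i).1 ?_
        obtain rfl | rfl : i = -1 ∨ i = 0 := by omega
        · exact h1
        · show Epi ((DerivedCategory.homologyFunctor (ModuleCat.{u} R) 0).map α)
          infer_instance
    have h2 : DerivedCategory.HomologySequence.δ (Pretriangulated.Triangle.mk α g h) i (i + 1) rfl = 0 := by
      by_cases hi1 : 0 ≤ i
      · exact (hz K hK (i + 1) (by omega)).eq_of_tgt _ _
      · obtain rfl : i = -1 := by omega
        refine (DerivedCategory.HomologySequence.mono_homologyMap_mor₁_iff _ hT (-1) (-1 + 1) rfl).1 ?_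
        show Mono ((DerivedCategory.homologyFunctor (ModuleCat.{u} R) (-1 + 1)).map α)
        have : ((-1 : ℤ) + 1) = 0 := by norm_num
        rw [this]
        infer_instance
    exact (DerivedCategory.HomologySequence.exact₃ _ hT i (i + 1) rfl).isZero_of_both_zeros h1' h2
  haveI : DerivedCategory.IsGE K' (-1) := by
    rw [DerivedCategory.isGE_iff]
    intro i hi
    haveI := hK' i (by omega) (by omega)
    exact ModuleCat.isZero_of_subsingleton _
  have h3 : α ≫ (f • 𝟙 K') = 0 := by
    rw [Linear.comp_smul, Category.comp_id]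
    have : f • α = (f • 𝟙 K) ≫ α := by rw [Linear.smul_comp, Category.id_comp]
    rw [this, hf, Limits.zero_comp]
  obtain ⟨ζ, hζ⟩ : ∃ ζ : C ⟶ K', f • 𝟙 K' = g ≫ ζ :=
    Pretriangulated.Triangle.yoneda_exact₂ _ hT (f • 𝟙 K') h3
  have hζ0 : ζ = 0 := DerivedCategory.TStructure.t.zero ζ (-2) (-1) (by norm_num)
  rw [hζ, hζ0, Limits.comp_zero]

end Groth.Agent.S7080
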