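import Groth.Statements.S7081
import Mathlib
import Groth.Agent.Lib.DMod11_helper6
-- import your own Groth.Agent.* helpers here

set_option autoImplicit false
universe u
attribute [local instance] HasDerivedCategory.standard
open CategoryTheory
open DRing

namespace Groth.Agent.S7081

/-- Let R be a commutative ring and φ : K₁ → K₂, ψ : K₂ → K₃ morphisms in D(R) between objects whose
cohomology vanishes outside degrees -1 and 0. If φ induces the zero map on H^0 and ψ induces the
zero map on H^{-1}, then the composite K₁ → K₃ is zero. -/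
theorem result {R : Type u} [CommRing R] {K₁ K₂ K₃ : Dual.D R}
    (φ : K₁ ⟶ K₂) (ψ : K₂ ⟶ K₃)
    (h₁ : ∀ i : ℤ, i ≠ -1 → i ≠ 0 → Subsingleton (Dual.HD R K₁ i))
    (h₂ : ∀ i : ℤ, i ≠ -1 → i ≠ 0 → Subsingleton (Dual.HD R K₂ i))
    (h₃ : ∀ i : ℤ, i ≠ -1 → i ≠ 0 → Subsingleton (Dual.HD R K₃ i))
    (hφ : (DerivedCategory.homologyFunctor (ModuleCat.{u} R) 0).map φ = 0)
    (hψ : (DerivedCategory.homologyFunctor (ModuleCat.{u} R) (-1)).map ψ = 0) :
    φ ≫ ψ = 0 := by

  have isLE0 : ∀ (X : Dual.D R), (∀ i : ℤ, i ≠ -1 → i ≠ 0 → Subsingleton (Dual.HD R X i)) →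
      DerivedCategory.IsLE X 0 := by
    intro X hX
    rw [DerivedCategory.isLE_iff]
    intro i hi
    haveI := hX i (by omega) (by omega)
    exact ModuleCat.isZero_of_subsingleton _
  have isGE1 : ∀ (X : Dual.D R), (∀ i : ℤ, i ≠ -1 → i ≠ 0 → Subsingleton (Dual.HD R X i)) →
      DerivedCategory.IsGE X (-1) := by
    intro X hX
    rw [DerivedCategory.isGE_iff]
    intro i hi
    haveI := hX i (by omega) (by omega)
    exact ModuleCat.isZero_of_subsingleton _
  haveI := isLE0 K₁ h₁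
  haveI := isLE0 K₂ h₂
  haveI := isLE0 K₃ h₃
  haveI := isGE1 K₁ h₁
  haveI := isGE1 K₂ h₂
  haveI := isGE1 K₃ h₃
  let t := Groth.Agent.Lib.DerivedTrunc_helper2.tt (ModuleCat.{u} R)
  -- step 1: φ factors through τ≤-1 K₂
  have hGT : ∀ (X : Dual.D R) [DerivedCategory.IsLE X 0],
      DerivedCategory.IsLE ((t.truncGT (-1)).obj X) 0 := fun X _ =>
    Groth.Agent.Lib.DMod_helper6.isLE_truncGT_of_isLE X (-1) 0 (by norm_num)
  haveI := hGT K₁
  haveI := hGT K₂
  haveI hge1 : DerivedCategory.IsGE ((t.truncGT (-1)).obj K₁) 0 :=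
    (inferInstance : t.IsGE ((t.truncGT (0 - 1)).obj K₁) 0)
  haveI hge2 : DerivedCategory.IsGE ((t.truncGT (-1)).obj K₂) 0 :=
    (inferInstance : t.IsGE ((t.truncGT (0 - 1)).obj K₂) 0)
  have hτφ : (t.truncGT (-1)).map φ = 0 := by
    apply Groth.Agent.Lib.DerivedTrunc_helper2.eq_zero_of_homology_map_eq_zero 0
    haveI := Groth.Agent.Lib.DerivedTrunc_helper2.epi_homology_map_truncGTπ K₁ (-1) 0 (by norm_num)
    rw [← cancel_epi ((DerivedCategory.homologyFunctor (ModuleCat.{u} R) 0).map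
      ((t.truncGTπ (-1)).app K₁)), ← Functor.map_comp, Limits.comp_zero]
    have := (t.truncGTπ (-1)).naturality φ
    simp only [Functor.id_map] at this
    rw [← this, Functor.map_comp, hφ, Limits.zero_comp]
  have h1 : φ ≫ (t.truncGTπ (-1)).app K₂ = 0 := by
    have := (t.truncGTπ (-1)).naturality φ
    simp only [Functor.id_map] at this
    rw [this, hτφ, Limits.comp_zero]
  obtain ⟨φ', hφ'⟩ : ∃ φ' : K₁ ⟶ (t.truncLE (-1)).obj K₂, φ = φ' ≫ (t.truncLEι (-1)).app K₂ :=
    Pretriangulated.Triangle.coyoneda_exact₂ _ (t.triangleLEGT_distinguished (-1) K₂) φ h1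
  -- step 2
  have hτψ : (t.truncLE (-1)).map ψ = 0 := by
    apply Groth.Agent.Lib.DerivedTrunc_helper2.eq_zero_of_homology_map_eq_zero (-1)
    haveI := Groth.Agent.Lib.DerivedTrunc_helper2.mono_homology_map_truncLEι K₃ (-1) (-1) (by norm_num)
    rw [← cancel_mono ((DerivedCategory.homologyFunctor (ModuleCat.{u} R) (-1)).map
      ((t.truncLEι (-1)).app K₃)), ← Functor.map_comp, Limits.zero_comp]
    have := (t.truncLEι (-1)).naturality ψ
    simp only [Functor.id_map] at this
    rw [this, Functor.map_comp, hψ, Limits.comp_zero]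
  have h2 : (t.truncLEι (-1)).app K₂ ≫ ψ = 0 := by
    have := (t.truncLEι (-1)).naturality ψ
    simp only [Functor.id_map] at this
    rw [← this, hτψ, Limits.zero_comp]
  rw [hφ', Category.assoc, h2, Limits.comp_zero]

end Groth.Agent.S7081
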