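import Groth.Statements.S7082
import Mathlib
import Groth.Agent.Lib.DMod34_helper6
-- import your own Groth.Agent.* helpers here

set_option autoImplicit false
universe u
attribute [local instance] HasDerivedCategory.standard
open CategoryTheory
open DRing

namespace Groth.Agent.S7082

/-- (1)⇔(3): let R be a commutative ring, I an ideal and K an object of D(R) whose cohomology vanishes
outside degrees -1 and 0. Then I annihilates Ext^1_R(K, N) = Hom_{D(R)}(K, N[1]) for every R-module
N if and only if, for every two-term complex E in degrees -1 and 0 with E^0 projective that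
represents K, and every a in I, multiplication by a on E^{-1} factors through the differential
E^{-1} → E^0. -/
theorem result {R : Type u} [CommRing R] (I : Ideal R) (K : Dual.D R)
    (hK : ∀ i : ℤ, i ≠ -1 → i ≠ 0 → Subsingleton (Dual.HD R K i)) :
    (∀ (N : Type u) [AddCommGroup N] [Module R N] (a : R), a ∈ I →
        ∀ ξ : K ⟶ (Dual.inD R N)⟦(1 : ℤ)⟧, a • ξ = 0) ↔
      ∀ (E : DRing.Cx R), DRing.VanishesOutside E (-1) 0 → Module.Projective R (E.X 0) →
        Nonempty (DRing.toD E ≅ K) → ∀ a : R, a ∈ I →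
          ∃ h : E.X 0 ⟶ E.X (-1), E.d (-1) 0 ≫ h = a • 𝟙 (E.X (-1)) := by

  constructor
  · rintro hyp E hE hE0 ⟨e⟩ a ha
    have hEtop : ∀ i : ℤ, 0 < i → Limits.IsZero (E.X i) := fun i hi => hE i (Or.inr hi)
    let t : E ⟶ (HomologicalComplex.single (ModuleCat.{u} R) (ComplexShape.up ℤ) (-1)).obj
        (E.X (-1)) :=
      HomologicalComplex.mkHomToSingle (𝟙 (E.X (-1))) (fun i hi =>
        (hE i (Or.inl (by have : i + 1 = -1 := hi; omega))).eq_of_src _ _)
    have h1 := hyp (E.X (-1)) a ha (e.inv ≫ DerivedCategory.Q.map t ≫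
      (Groth.Agent.Lib.DMod_helper6.inDShiftOneIso (E.X (-1))).inv)
    have h1a : e.inv ≫ (a • DerivedCategory.Q.map t) ≫
        (Groth.Agent.Lib.DMod_helper6.inDShiftOneIso (E.X (-1))).inv = 0 := by
      rw [Linear.smul_comp, Linear.comp_smul]
      exact h1
    have h1b : (a • DerivedCategory.Q.map t) ≫
        (Groth.Agent.Lib.DMod_helper6.inDShiftOneIso (E.X (-1))).inv = 0 :=
      (cancel_epi e.inv).1 (h1a.trans CategoryTheory.Limits.comp_zero.symm)
    have h2 : DerivedCategory.Q.map (a • t) = 0 := by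
      rw [Functor.map_smul]
      exact (cancel_mono (Groth.Agent.Lib.DMod_helper6.inDShiftOneIso (E.X (-1))).inv).1
        (h1b.trans CategoryTheory.Limits.zero_comp.symm)
    obtain ⟨k, hk⟩ := Groth.Agent.Lib.DMod_helper6.exists_factor_of_Q_map_eq_zero E hEtop hE0
      (E.X (-1)) (a • t) h2
    refine ⟨k, ?_⟩
    rw [← hk, HomologicalComplex.smul_f_apply, HomologicalComplex.mkHomToSingle_f,
      Linear.smul_comp, Category.assoc, Iso.inv_hom_id, Category.comp_id]
  · intro hyp N _ _ a ha ξ
    obtain ⟨E, hE, hE0, ⟨e⟩⟩ := Groth.Agent.Lib.DMod_helper6.exists_twoTerm_representative K hK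
    have hEtop : ∀ i : ℤ, 0 < i → Limits.IsZero (E.X i) := fun i hi => hE i (Or.inr hi)
    obtain ⟨h, hh⟩ := hyp E hE hE0 ⟨e⟩ a ha
    obtain ⟨t, ht⟩ := Groth.Agent.Lib.DMod_helper6.exists_Q_map_eq_of_projective_top E _ hEtop hE0
      (Groth.Agent.Lib.DMod_helper6.isZero_single_neg_one (ModuleCat.of R N))
      (e.hom ≫ ξ ≫ (Groth.Agent.Lib.DMod_helper6.inDShiftOneIso (ModuleCat.of R N)).hom)
    have h1 : DerivedCategory.Q.map (a • t) = 0 := by
      refine Groth.Agent.Lib.DMod_helper6.Q_map_eq_zero_of_factor E (ModuleCat.of R N) (a • t)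
        (h ≫ t.f (-1) ≫ (HomologicalComplex.singleObjXSelf (ComplexShape.up ℤ) (-1)
          (ModuleCat.of R N)).hom) ?_
      rw [HomologicalComplex.smul_f_apply, ← Category.assoc (E.d (-1) 0), hh, Linear.smul_comp,
        Linear.smul_comp, Category.id_comp]
    have h3 : ξ = e.inv ≫ DerivedCategory.Q.map t ≫
        (Groth.Agent.Lib.DMod_helper6.inDShiftOneIso (ModuleCat.of R N)).inv := by
      rw [ht]
      simp
    rw [h3, ← Linear.comp_smul, ← Linear.smul_comp, ← Functor.map_smul, h1,
      CategoryTheory.Limits.zero_comp, CategoryTheory.Limits.comp_zero]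

end Groth.Agent.S7082
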