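import Groth.Statements.S7085
import Mathlib
-- import your own Groth.Agent.* helpers here

set_option autoImplicit false
universe u
open LocCoh

namespace Groth.Agent.S7085

/-- Let R be a commutative ring, I an ideal generated by finitely many elements f_1, …, f_t, and M an
R-module. Then: M has no nonzero element killed by I if and only if it has no nonzero element killed
by I^n for every n ≥ 1; and M has no nonzero element killed by I if and only if an element of M
vanishing in every localization M_{f_i} is zero. -/
theorem result {R : Type u} [CommRing R] {t : ℕ} (f : Fin t → R)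
    (I : Ideal R) (hI : Ideal.span (Set.range f) = I) (M : Type u) [AddCommGroup M] [Module R M] :
    (LocCoh.torsionBy I M = ⊥ ↔ ∀ n : ℕ, 1 ≤ n → LocCoh.torsionBy (I ^ n) M = ⊥) ∧
    (LocCoh.torsionBy I M = ⊥ ↔
      ∀ m : M, (∀ i : Fin t, LocalizedModule.mkLinearMap (Submonoid.powers (f i)) M m = 0) → m = 0) := by
  have key : LocCoh.torsionBy I M = ⊥ → ∀ n : ℕ, 1 ≤ n → LocCoh.torsionBy (I ^ n) M = ⊥ := by
    intro h n hn
    induction n, hn using Nat.le_induction with
    | base => simpa using h
    | succ n hn ih =>
      rw [eq_bot_iff]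
      intro m hm
      rw [Submodule.mem_torsionBySet_iff] at hm
      have hmem : m ∈ LocCoh.torsionBy (I ^ n) M := by
        rw [Submodule.mem_torsionBySet_iff]
        rintro ⟨a, ha⟩
        have hmem2 : a • m ∈ LocCoh.torsionBy I M := by
          rw [Submodule.mem_torsionBySet_iff]
          rintro ⟨b, hb⟩
          have := hm ⟨a * b, by rw [pow_succ]; exact Ideal.mul_mem_mul ha hb⟩
          show b • a • m = 0
          rw [smul_comm, ← mul_smul]
          exact this
        rw [h] at hmem2
        exact hmem2
      rw [ih] at hmem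
      exact hmem
  refine ⟨⟨key, fun h => by simpa using h 1 le_rfl⟩, ⟨fun h m hm => ?_, fun h => ?_⟩⟩
  · have hle : I ≤ (Submodule.span R {m}).annihilator.radical := by
      rw [← hI, Ideal.span_le]
      rintro _ ⟨i, rfl⟩
      obtain ⟨⟨c, k, rfl⟩, hc⟩ := (IsLocalizedModule.eq_zero_iff (Submonoid.powers (f i))
        (LocalizedModule.mkLinearMap (Submonoid.powers (f i)) M)).mp (hm i)
      refine ⟨k, ?_⟩
      rw [Submodule.mem_annihilator_span_singleton]
      exact hc
    have hfg : I.FG := by
      rw [← hI]
      exact Submodule.fg_span (Set.finite_range f)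
    obtain ⟨N, hN⟩ := Ideal.exists_pow_le_of_le_radical_of_fg hle hfg
    have hmem : m ∈ LocCoh.torsionBy (I ^ (N + 1)) M := by
      rw [Submodule.mem_torsionBySet_iff]
      rintro ⟨a, ha⟩
      have := hN (Ideal.pow_le_pow_right (Nat.le_succ N) ha)
      rwa [Submodule.mem_annihilator_span_singleton] at this
    rw [key h (N + 1) (Nat.succ_pos N)] at hmem
    exact hmem
  · rw [eq_bot_iff]
    intro m hm
    rw [Submodule.mem_torsionBySet_iff] at hm
    refine h m (fun i => ?_)
    rw [IsLocalizedModule.eq_zero_iff (Submonoid.powers (f i))]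
    refine ⟨⟨f i, Submonoid.mem_powers _⟩, ?_⟩
    exact hm ⟨f i, hI ▸ Ideal.subset_span ⟨i, rfl⟩⟩


end Groth.Agent.S7085
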