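import Groth.Statements.S7087
import Mathlib

set_option autoImplicit false
universe u
open LocCoh

namespace Groth.Agent.S7087

/-- Let R be a commutative ring and f_1, …, f_n elements generating an ideal I. Let M be the module with
generators e_1, …, e_n and relations f_i e_j = f_j e_i. Then e_i ↦ f_i defines a surjection M → I
whose kernel is annihilated by I. Elementwise: if a tuple (a_1, …, a_n) in R^n satisfies Σ a_i f_i =
0, then for every b in I the tuple b • a lies in the submodule of R^n spanned by the vectors f_i e_j
− f_j e_i. -/
theorem result {R : Type u} [CommRing R] {n : ℕ} (f : Fin n → R)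
    (a : Fin n → R) (ha : ∑ i, a i * f i = 0) (b : R) (hb : b ∈ Ideal.span (Set.range f)) :
    b • a ∈ Submodule.span R {v : Fin n → R | ∃ i j : Fin n, v = f i • Pi.single j (1 : R) - f j • Pi.single i (1 : R)} := by
  classical
  obtain ⟨c, rfl⟩ := (Ideal.mem_span_range_iff_exists_fun).mp hb
  rw [Finset.sum_smul]
  apply Submodule.sum_mem
  intro i _
  rw [mul_smul]
  apply Submodule.smul_mem
  have key : f i • a = ∑ j, a j • (f i • Pi.single j (1 : R) - f j • Pi.single i (1 : R)) := by
    ext k
    have h2 : ∑ j, a j * (f j * (Pi.single i (1 : R) : Fin n → R) k) = 0 := by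
      have h3 : ∀ j, a j * (f j * (Pi.single i (1 : R) : Fin n → R) k)
          = (a j * f j) * (Pi.single i (1 : R) : Fin n → R) k := fun j => by ring
      simp_rw [h3]
      rw [← Finset.sum_mul, ha, zero_mul]
    have h1 : ∑ j, a j * (f i * (Pi.single j (1 : R) : Fin n → R) k) = f i * a k := by
      simp only [Pi.single_apply, mul_ite, mul_one, mul_zero, Finset.sum_ite_eq, Finset.mem_univ,
        if_true]
      ring
    simp only [Pi.smul_apply, smul_eq_mul, Finset.sum_apply, Pi.sub_apply, mul_sub,
      Finset.sum_sub_distrib]
    rw [h1, h2, sub_zero]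
  rw [key]
  apply Submodule.sum_mem
  intro j _
  apply Submodule.smul_mem
  exact Submodule.subset_span ⟨i, j, rfl⟩

end Groth.Agent.S7087
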