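import Groth.Statements.S7099
import Groth.Agent.Lib.RHomKInj_helper2

set_option autoImplicit false
universe u
attribute [local instance] HasDerivedCategory.standard
open CategoryTheory
open DRing

namespace Groth.Agent.S7099

open Groth.Agent.Lib.RHomKInj Groth.Agent.Lib.HomCx Groth.Agent.Lib.LocHom Groth.Agent.Lib.KFlatMod
  DerivedCategory MonoidalCategory
open scoped TensorProduct

/-- `A_f ⊗ A_g ≃ A_{fg}` -/
noncomputable def awayTensorEquiv {A : Type u} [CommRing A] (f g : A) :
    (Localization.Away f ⊗[A] Localization.Away g) ≃ₗ[A] Localization.Away (f * g) := by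
  haveI : IsLocalization.Away (algebraMap A (Localization.Away f) g)
      (Localization.Away f ⊗[A] Localization.Away g) := inferInstance
  haveI : IsLocalization.Away (f * g) (Localization.Away f ⊗[A] Localization.Away g) :=
    IsLocalization.Away.mul' (Localization.Away f) _ f g
  exact (IsLocalization.algEquiv (Submonoid.powers (f * g))
    (Localization.Away f ⊗[A] Localization.Away g) (Localization.Away (f * g))).toLinearEquiv

/-- `A_f[0] ⊗ A_g[0] ≅ A_{fg}[0]` -/
noncomputable def eNN {A : Type u} [CommRing A] (f g : A) :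
    (HomologicalComplex.single (ModuleCat.{u} A) (ComplexShape.up ℤ) 0).obj
        (ModuleCat.of A (Localization.Away f)) ⊗
      (HomologicalComplex.single (ModuleCat.{u} A) (ComplexShape.up ℤ) 0).obj
        (ModuleCat.of A (Localization.Away g)) ≅
    (HomologicalComplex.single (ModuleCat.{u} A) (ComplexShape.up ℤ) 0).obj
        (ModuleCat.of A (Localization.Away (f * g))) :=
  singleTensorSingleIso _ _ ≪≫
    (HomologicalComplex.single (ModuleCat.{u} A) (ComplexShape.up ℤ) 0).mapIso
      (awayTensorEquiv f g).toModuleIso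


/-- Let A be a commutative ring, f and g elements of A, and K an object of D(A). Assuming the derived
functors RHom_A(A_f, −), RHom_A(A_g, −) and RHom_A(A_{fg}, −) (total right derived functors of the
Hom complexes out of the localizations placed in degree 0) exist, RHom_A(A_f, RHom_A(A_g, K)) is
isomorphic in D(A) to RHom_A(A_{fg}, K). (Existence of an isomorphism only.) -/
theorem result {A : Type u} [CommRing A] (f g : A)
    [DRing.HasRHomCx ((HomologicalComplex.single (ModuleCat.{u} A) (ComplexShape.up ℤ) 0).obj
      (ModuleCat.of A (Localization.Away f)))]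
    [DRing.HasRHomCx ((HomologicalComplex.single (ModuleCat.{u} A) (ComplexShape.up ℤ) 0).obj
      (ModuleCat.of A (Localization.Away g)))]
    [DRing.HasRHomCx ((HomologicalComplex.single (ModuleCat.{u} A) (ComplexShape.up ℤ) 0).obj
      (ModuleCat.of A (Localization.Away (f * g))))]
    (K : Dual.D A) :
    Nonempty ((DRing.RHomCx ((HomologicalComplex.single (ModuleCat.{u} A) (ComplexShape.up ℤ) 0).obj
        (ModuleCat.of A (Localization.Away f)))).obj
      ((DRing.RHomCx ((HomologicalComplex.single (ModuleCat.{u} A) (ComplexShape.up ℤ) 0).obj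
        (ModuleCat.of A (Localization.Away g)))).obj K) ≅
      (DRing.RHomCx ((HomologicalComplex.single (ModuleCat.{u} A) (ComplexShape.up ℤ) 0).obj
        (ModuleCat.of A (Localization.Away (f * g))))).obj K) := by
  obtain ⟨J, hJ, ⟨eK⟩⟩ := exists_kinj_iso K
  haveI := hJ
  obtain ⟨e1⟩ := nonempty_RHomCx_iso_of_kinj
    ((HomologicalComplex.single (ModuleCat.{u} A) (ComplexShape.up ℤ) 0).obj
      (ModuleCat.of A (Localization.Away g))) J
  haveI : ((DRing.homCxFunctor ((HomologicalComplex.single (ModuleCat.{u} A) (ComplexShape.up ℤ) 0).obj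
      (ModuleCat.of A (Localization.Away g)))).obj J).IsKInjective :=
    isKInjective_homCx _ J (kf_NB (Submonoid.powers g))
  obtain ⟨e2⟩ := nonempty_RHomCx_iso_of_kinj
    ((HomologicalComplex.single (ModuleCat.{u} A) (ComplexShape.up ℤ) 0).obj
      (ModuleCat.of A (Localization.Away f)))
    ((DRing.homCxFunctor ((HomologicalComplex.single (ModuleCat.{u} A) (ComplexShape.up ℤ) 0).obj
      (ModuleCat.of A (Localization.Away g)))).obj J)
  obtain ⟨e3⟩ := nonempty_RHomCx_iso_of_kinj
    ((HomologicalComplex.single (ModuleCat.{u} A) (ComplexShape.up ℤ) 0).obj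
      (ModuleCat.of A (Localization.Away (f * g)))) J
  let e4 : DRing.homCx ((HomologicalComplex.single (ModuleCat.{u} A) (ComplexShape.up ℤ) 0).obj
        (ModuleCat.of A (Localization.Away f)))
      (DRing.homCx ((HomologicalComplex.single (ModuleCat.{u} A) (ComplexShape.up ℤ) 0).obj
        (ModuleCat.of A (Localization.Away g))) J) ≅
      DRing.homCx ((HomologicalComplex.single (ModuleCat.{u} A) (ComplexShape.up ℤ) 0).obj
        (ModuleCat.of A (Localization.Away (f * g)))) J :=
    homHomIso _ _ J ≪≫ homCxPreIso (eNN f g).symm J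
  let e5 : Q.obj ((DRing.homCxFunctor ((HomologicalComplex.single (ModuleCat.{u} A) (ComplexShape.up ℤ) 0).obj
        (ModuleCat.of A (Localization.Away f)))).obj
      ((DRing.homCxFunctor ((HomologicalComplex.single (ModuleCat.{u} A) (ComplexShape.up ℤ) 0).obj
        (ModuleCat.of A (Localization.Away g)))).obj J)) ≅
      Q.obj ((DRing.homCxFunctor ((HomologicalComplex.single (ModuleCat.{u} A) (ComplexShape.up ℤ) 0).obj
        (ModuleCat.of A (Localization.Away (f * g))))).obj J) := Q.mapIso e4
  exact ⟨(DRing.RHomCx _).mapIso ((DRing.RHomCx _).mapIso eK ≪≫ e1) ≪≫ e2 ≪≫ e5 ≪≫ e3.symm ≪≫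
    (DRing.RHomCx _).mapIso eK.symm⟩

end Groth.Agent.S7099
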