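import Groth.Statements.S7106
import Mathlib
import Groth.Agent.Lib.DMod34_helper6
-- import your own Groth.Agent.* helpers here

set_option autoImplicit false
universe u
attribute [local instance] HasDerivedCategory.standard
open CategoryTheory
open DRing

namespace Groth.Agent.S7106

/-- Let R be a commutative ring, M a cochain complex of R-modules with M^i = 0 for i > 0 and M^0
projective, K a cochain complex with K^i = 0 for i outside [-1, 0] and K^0 projective, and a : M → K
a chain map. Then precomposition with a is the zero map Ext^1_R(K, N) → Ext^1_R(M, N) (morphisms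
into N[1] in D(R)) for every R-module N if and only if there is a map h : M^0 → K^{-1} with a^{-1} +
h ∘ d_M^{-1} = 0. (The published statement composes h^0 with the differential K^{-1} → K^0 of K,
which is not defined; this row composes it with the differential M^{-1} → M^0 of M, as the homotopy
in the published proof does.) -/
theorem result {R : Type u} [CommRing R] (M K : DRing.Cx R)
    (hM : ∀ i : ℤ, 0 < i → Limits.IsZero (M.X i)) (hM0 : Module.Projective R (M.X 0))
    (hK : ∀ i : ℤ, i ≠ -1 → i ≠ 0 → Limits.IsZero (K.X i)) (hK0 : Module.Projective R (K.X 0))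
    (a : M ⟶ K) :
    (∀ (N : Type u) [AddCommGroup N] [Module R N] (ξ : DRing.toD K ⟶ (Dual.inD R N)⟦(1 : ℤ)⟧),
        DerivedCategory.Q.map a ≫ ξ = 0) ↔
      ∃ h : M.X 0 ⟶ K.X (-1), a.f (-1) + M.d (-1) 0 ≫ h = 0 := by

  have hKtop : ∀ i : ℤ, 0 < i → Limits.IsZero (K.X i) := fun i hi => hK i (by omega) (by omega)
  constructor
  · intro hyp
    let t : K ⟶ (HomologicalComplex.single (ModuleCat.{u} R) (ComplexShape.up ℤ) (-1)).obj
        (K.X (-1)) :=
      HomologicalComplex.mkHomToSingle (𝟙 (K.X (-1))) (fun i hi =>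
        (hK i (by have : i + 1 = -1 := hi; omega) (by have : i + 1 = -1 := hi; omega)).eq_of_src
          _ _)
    have h1 := hyp (K.X (-1)) (DerivedCategory.Q.map t ≫
      (Groth.Agent.Lib.DMod_helper6.inDShiftOneIso (K.X (-1))).inv)
    have h2 : DerivedCategory.Q.map (a ≫ t) = 0 := by
      rw [Functor.map_comp]
      rw [← Category.assoc] at h1
      exact (cancel_mono (Groth.Agent.Lib.DMod_helper6.inDShiftOneIso (K.X (-1))).inv).1
        (h1.trans CategoryTheory.Limits.zero_comp.symm)
    obtain ⟨k, hk⟩ := Groth.Agent.Lib.DMod_helper6.exists_factor_of_Q_map_eq_zero M hM hM0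
      (K.X (-1)) (a ≫ t) h2
    refine ⟨-k, ?_⟩
    have h3 : a.f (-1) = M.d (-1) 0 ≫ k := by
      rw [← hk, HomologicalComplex.comp_f, HomologicalComplex.mkHomToSingle_f, Category.assoc,
        Category.assoc, Iso.inv_hom_id, Category.id_comp, Category.comp_id]
    rw [h3, Preadditive.comp_neg, add_neg_cancel]
  · rintro ⟨h, hh⟩ N _ _ ξ
    obtain ⟨t, ht⟩ := Groth.Agent.Lib.DMod_helper6.exists_Q_map_eq_of_projective_top K _ hKtop hK0
      (Groth.Agent.Lib.DMod_helper6.isZero_single_neg_one (ModuleCat.of R N))
      (ξ ≫ (Groth.Agent.Lib.DMod_helper6.inDShiftOneIso (ModuleCat.of R N)).hom)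
    have h1 : DerivedCategory.Q.map (a ≫ t) = 0 := by
      refine Groth.Agent.Lib.DMod_helper6.Q_map_eq_zero_of_factor M (ModuleCat.of R N) (a ≫ t)
        (-(h ≫ t.f (-1) ≫ (HomologicalComplex.singleObjXSelf (ComplexShape.up ℤ) (-1)
          (ModuleCat.of R N)).hom)) ?_
      have h2 : a.f (-1) = -(M.d (-1) 0 ≫ h) := eq_neg_of_add_eq_zero_left hh
      rw [HomologicalComplex.comp_f, h2]
      simp only [Preadditive.neg_comp, Preadditive.comp_neg, Category.assoc]
    have h3 : ξ = DerivedCategory.Q.map t ≫
        (Groth.Agent.Lib.DMod_helper6.inDShiftOneIso (ModuleCat.of R N)).inv := by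
      rw [ht, Category.assoc, Iso.hom_inv_id, Category.comp_id]
    rw [h3, ← Category.assoc, ← Functor.map_comp, h1, CategoryTheory.Limits.zero_comp]

end Groth.Agent.S7106
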