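import Groth.Statements.S7108
import Mathlib
import Groth.Agent.Lib.Swindle_lead

set_option autoImplicit false
universe u
open CAlg

namespace Groth.Agent.S7108

/-- Every projective module P over a ring R becomes free after adding a suitable free module: P ⊕ F is
free for some free module F (here F is the free module on some index type). -/
theorem result (R : Type u) [CommRing R] (P : Type u) [AddCommGroup P]
    [Module R P] [Module.Projective R P] : ∃ ι : Type u, Module.Free R (P × (ι →₀ R)) := by
  exact Groth.Agent.Lib.Swindle.exists_free_prod R P

end Groth.Agent.S7108
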