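import Groth.Statements.S7114
import Mathlib

set_option autoImplicit false
universe u
open CAlg

namespace Groth.Agent.S7114

theorem length_step (R : Type u) [CommRing R] (x : R) (n : ℕ) :
    Module.length R (R ⧸ Ideal.span {x ^ (n + 1)}) ≤
        Module.length R (R ⧸ Ideal.span {x ^ n}) + Module.length R (R ⧸ Ideal.span {x}) ∧
      (x ∈ nonZeroDivisors R → Module.length R (R ⧸ Ideal.span {x ^ (n + 1)}) =
        Module.length R (R ⧸ Ideal.span {x ^ n}) + Module.length R (R ⧸ Ideal.span {x})) := by
  have h1 : (Ideal.span {x} : Submodule R R) ≤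
      Submodule.comap (LinearMap.lsmul R R (x ^ n)) (Ideal.span {x ^ (n + 1)}) := by
    intro r hr
    obtain ⟨s, rfl⟩ := Ideal.mem_span_singleton'.mp hr
    refine Ideal.mem_span_singleton'.mpr ⟨s, ?_⟩
    simp only [LinearMap.lsmul_apply, smul_eq_mul]
    ring
  have h2 : (Ideal.span {x ^ (n + 1)} : Submodule R R) ≤
      Submodule.comap (LinearMap.id : R →ₗ[R] R) (Ideal.span {x ^ n}) := by
    intro r hr
    obtain ⟨s, rfl⟩ := Ideal.mem_span_singleton'.mp hr
    exact Ideal.mem_span_singleton'.mpr ⟨s * x, by ring⟩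
  let f : (R ⧸ Ideal.span {x}) →ₗ[R] (R ⧸ Ideal.span {x ^ (n + 1)}) :=
    Submodule.mapQ _ _ (LinearMap.lsmul R R (x ^ n)) h1
  let g : (R ⧸ Ideal.span {x ^ (n + 1)}) →ₗ[R] (R ⧸ Ideal.span {x ^ n}) :=
    Submodule.mapQ _ _ LinearMap.id h2
  have hg : Function.Surjective g := by
    intro y
    obtain ⟨r, rfl⟩ := Ideal.Quotient.mk_surjective y
    exact ⟨Ideal.Quotient.mk _ r, rfl⟩
  have hex : Function.Exact f g := by
    intro y
    obtain ⟨r, rfl⟩ := Ideal.Quotient.mk_surjective y
    constructor
    · intro hy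
      have hy' : r ∈ Ideal.span {x ^ n} := Ideal.Quotient.eq_zero_iff_mem.mp hy
      obtain ⟨s, rfl⟩ := Ideal.mem_span_singleton'.mp hy'
      refine ⟨Ideal.Quotient.mk _ s, ?_⟩
      show Ideal.Quotient.mk _ (x ^ n • s) = _
      rw [smul_eq_mul, mul_comm]
    · rintro ⟨z, hz⟩
      obtain ⟨s, rfl⟩ := Ideal.Quotient.mk_surjective z
      rw [← hz]
      show Ideal.Quotient.mk (Ideal.span {x ^ n}) (x ^ n • s) = 0
      exact Ideal.Quotient.eq_zero_iff_mem.mpr (Ideal.mem_span_singleton'.mpr ⟨s, by rw [smul_eq_mul, mul_comm]⟩)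
  have hlen : Module.length R (R ⧸ Ideal.span {x ^ (n + 1)}) =
      Module.length R (LinearMap.range f) + Module.length R (R ⧸ Ideal.span {x ^ n}) := by
    have hker : LinearMap.ker g = LinearMap.range f := LinearMap.exact_iff.mp hex
    rw [← hker]
    exact Module.length_eq_add_of_exact (LinearMap.ker g).subtype g
      (Submodule.subtype_injective _) hg (LinearMap.exact_subtype_ker_map g)
  constructor
  · rw [hlen, add_comm]
    gcongr
    exact Module.length_le_of_surjective f.rangeRestrict f.surjective_rangeRestrict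
  · intro hx
    have hinj : Function.Injective f := by
      rw [← LinearMap.ker_eq_bot, LinearMap.ker_eq_bot']
      intro y hy
      obtain ⟨r, rfl⟩ := Ideal.Quotient.mk_surjective y
      have hy' : x ^ n • r ∈ Ideal.span {x ^ (n + 1)} := Ideal.Quotient.eq_zero_iff_mem.mp hy
      obtain ⟨s, hs⟩ := Ideal.mem_span_singleton'.mp hy'
      have hxn : x ^ n ∈ nonZeroDivisors R := pow_mem hx n
      have : x ^ n * (s * x - r) = 0 := by
        rw [smul_eq_mul] at hs
        rw [mul_sub, ← hs]; ring
      have h3 := (mul_left_mem_nonZeroDivisors_eq_zero_iff hxn).mp this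
      refine Ideal.Quotient.eq_zero_iff_mem.mpr (Ideal.mem_span_singleton'.mpr ⟨s, ?_⟩)
      exact sub_eq_zero.mp h3
    rw [hlen, add_comm]
    congr 1
    exact (LinearEquiv.ofInjective f hinj).length_eq.symm

/-- Let R be a Noetherian local ring of Krull dimension one and x an element of the maximal ideal lying
in no minimal prime of R. Then for every n the length of R/xⁿR is at most n times the length of
R/xR, and equality holds when x is a nonzerodivisor. -/
theorem result (R : Type u) [CommRing R] [IsNoetherianRing R] [IsLocalRing R]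
    (hdim : ringKrullDim R = 1) (x : R) (hx : x ∈ IsLocalRing.maximalIdeal R)
    (hmin : ∀ p ∈ minimalPrimes R, x ∉ p) (n : ℕ) :
    Module.length R (R ⧸ Ideal.span {x ^ n}) ≤ (n : ℕ∞) * Module.length R (R ⧸ Ideal.span {x}) ∧
      (x ∈ nonZeroDivisors R →
        Module.length R (R ⧸ Ideal.span {x ^ n}) = (n : ℕ∞) * Module.length R (R ⧸ Ideal.span {x})) := by
  induction n with
  | zero =>
    have : Subsingleton (R ⧸ Ideal.span {x ^ 0}) := by
      rw [pow_zero, Ideal.span_singleton_one]
      exact Ideal.Quotient.subsingleton_iff.mpr rfl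
    simp [Module.length_eq_zero]
  | succ n ih =>
    obtain ⟨h1, h2⟩ := length_step R x n
    constructor
    · calc Module.length R (R ⧸ Ideal.span {x ^ (n + 1)})
          ≤ Module.length R (R ⧸ Ideal.span {x ^ n}) + Module.length R (R ⧸ Ideal.span {x}) := h1
        _ ≤ (n : ℕ∞) * Module.length R (R ⧸ Ideal.span {x}) + Module.length R (R ⧸ Ideal.span {x}) := by
          gcongr; exact ih.1
        _ = ((n + 1 : ℕ) : ℕ∞) * Module.length R (R ⧸ Ideal.span {x}) := by
          push_cast; rw [add_mul, one_mul]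
    · intro hx'
      rw [h2 hx', ih.2 hx']
      push_cast; rw [add_mul, one_mul]

end Groth.Agent.S7114
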