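import Groth.Statements.S7119
import Groth.Agent.Lib.PrincRad4_helper3
-- import your own Groth.Agent.* helpers here

set_option autoImplicit false
universe u
open CAlg


namespace Groth.Agent.S7119

/-- Let R be a Noetherian normal local domain of Krull dimension 2 and let p_1, ..., p_r be finitely
many prime ideals of height one. Then there is a nonzero element f lying in all the p_i such that
R/fR is reduced. -/
theorem result (R : Type u) [CommRing R] [IsDomain R]
    [IsNoetherianRing R] [IsLocalRing R] [IsIntegrallyClosed R] (hdim : ringKrullDim R = 2)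
    (s : Finset (Ideal R)) (hs : ∀ p ∈ s, p.IsPrime ∧ p.height = 1) :
    ∃ f : R, f ≠ 0 ∧ (∀ p ∈ s, f ∈ p) ∧ IsReduced (R ⧸ Ideal.span {f}) := by
  classical
  have hJrad : (s.inf id).IsRadical := by
    intro x hx
    obtain ⟨n, hn⟩ := hx
    rw [Submodule.mem_finsetInf] at hn ⊢
    intro p hp
    exact (hs p hp).1.mem_of_pow_mem n (hn p hp)
  have hJ0 : s.inf id ≠ ⊥ := by
    intro h
    have h1 : s.inf id ≤ (⊥ : Ideal R) := le_of_eq h
    rw [Ideal.IsPrime.inf_le' Ideal.isPrime_bot] at h1
    obtain ⟨p, hp, hp0⟩ := h1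
    have h2 : p = ⊥ := le_bot_iff.1 hp0
    have h3 := (hs p hp).2
    rw [h2, Ideal.height_bot] at h3
    exact zero_ne_one h3
  obtain ⟨f, hfJ, hf0, hred⟩ := Groth.Agent.Lib.PrincRadH3.main_dim_two R hdim _ hJrad hJ0
  rw [Submodule.mem_finsetInf] at hfJ
  exact ⟨f, hf0, fun p hp => hfJ p hp, hred⟩

end Groth.Agent.S7119
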