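import Groth.Statements.S7120
import Groth.Agent.Lib.CAlgMisc_helper1

set_option autoImplicit false
universe u
open CAlg

namespace Groth.Agent.S7120

/-- Over a Bézout domain, a finitely generated submodule of a free module is itself free of finite rank. -/
theorem result (R : Type u) [CommRing R] [IsDomain R] [IsBezout R]
    (F : Type u) [AddCommGroup F] [Module R F] [Module.Free R F] (N : Submodule R F) (hN : N.FG) :
    Module.Free R N ∧ Module.Finite R N := by
  exact Groth.Agent.Lib.CAlgMiscH1.bezout_fg_free R F N hN

end Groth.Agent.S7120
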