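import Groth.Statements.S7134
import Groth.Agent.Lib.FSNilp_helper3
import Groth.Agent.Lib.StalkSmooth_helper3
import Groth.Agent.Lib.SmoothRegField_helper3
import Groth.Agent.Lib.FSGeomRed_helper3
import Groth.Agent.Lib.RegFlat_helper3
-- import your own Groth.Agent.* helpers here

set_option autoImplicit false
universe u
open EtAlg
set_option maxSynthPendingDepth 3
open IsLocalRing

namespace Groth.Agent.S7134

/-- For an injective local homomorphism A → B of discrete valuation rings, A → B is formally smooth for
the adic topology of the maximal ideal of B if and only if A → B is weakly unramified and the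
residue field of B is a separable (possibly transcendental, i.e. geometrically reduced) extension of
the residue field of A. -/
theorem result (A B : Type u) [CommRing A]
    [IsDomain A] [IsDiscreteValuationRing A] [CommRing B] [IsDomain B] [IsDiscreteValuationRing B] [Algebra A B]
    (hinj : Function.Injective (algebraMap A B)) [IsLocalHom (algebraMap A B)] :
    CAlgX.IsAdicFormallySmooth A B (IsLocalRing.maximalIdeal B) ↔
      EtRam.IsWeaklyUnramified A B ∧
        Algebra.IsGeometricallyReduced (IsLocalRing.ResidueField A) (IsLocalRing.ResidueField B) := by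
  classical
  constructor
  · -- adic formally smooth ⇒ weakly unramified + separable residue extension
    intro h
    set I : Ideal B := (maximalIdeal A).map (algebraMap A B) with hI
    have hIle : I ≤ maximalIdeal B := ((local_hom_TFAE (algebraMap A B)).out 0 2).1 ‹IsLocalHom (algebraMap A B)›
    -- a lifting principle: any A-algebra map from B to a κ_A-algebra kills I
    have hkill : ∀ (D : Type u) [CommRing D] [Algebra (ResidueField A) D] [Algebra A D]
        [IsScalarTower A (ResidueField A) D] (χ : B →ₐ[A] D), I ≤ RingHom.ker χ.toRingHom := by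
      intro D _ _ _ _ χ
      rw [hI, Ideal.map_le_iff_le_comap]
      intro a ha
      rw [Ideal.mem_comap, RingHom.mem_ker]
      show χ (algebraMap A B a) = 0
      rw [χ.commutes, IsScalarTower.algebraMap_apply A (ResidueField A) D]
      have : algebraMap A (ResidueField A) a = 0 := (residue_eq_zero_iff a).2 ha
      rw [this, map_zero]
    haveI : Nontrivial (B ⧸ I) :=
      Ideal.Quotient.nontrivial_iff.2 (ne_top_of_le_ne_top (maximalIdeal.isMaximal B).ne_top hIle)
    haveI : IsLocalRing (B ⧸ I) :=
      IsLocalRing.of_surjective' (Ideal.Quotient.mk I) Ideal.Quotient.mk_surjective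
    letI algC : Algebra (ResidueField A) (B ⧸ I) :=
      (Ideal.Quotient.lift (maximalIdeal A) ((Ideal.Quotient.mk I).comp (algebraMap A B))
        (fun a ha => by
          rw [RingHom.comp_apply, Ideal.Quotient.eq_zero_iff_mem]
          exact Ideal.mem_map_of_mem _ ha)).toAlgebra
    have hmkC : (maximalIdeal B).map (Ideal.Quotient.mk I) = maximalIdeal (B ⧸ I) :=
      Groth.Agent.Lib.RegFlatH3.map_mk_maximalIdeal I
    have hC : CAlgX.IsAdicFormallySmooth (ResidueField A) (B ⧸ I) (maximalIdeal (B ⧸ I)) := by
      intro D _ _ J hJ ψ hψ
      obtain ⟨m, hm⟩ := hψ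
      letI algAD : Algebra A D := ((algebraMap (ResidueField A) D).comp (residue A)).toAlgebra
      haveI : IsScalarTower A (ResidueField A) D := IsScalarTower.of_algebraMap_eq (fun _ => rfl)
      let ψ' : B →ₐ[A] D ⧸ J :=
        { toRingHom := ψ.toRingHom.comp (Ideal.Quotient.mk I)
          commutes' := fun a => by
            show ψ (Ideal.Quotient.mk I (algebraMap A B a)) = algebraMap A (D ⧸ J) a
            have h1 : Ideal.Quotient.mk I (algebraMap A B a) =
                algebraMap (ResidueField A) (B ⧸ I) (residue A a) := rfl
            rw [h1, ψ.commutes]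
            rfl }
      obtain ⟨χ, hχ⟩ := h D J hJ ψ' ⟨m, fun x hx => by
        show ψ (Ideal.Quotient.mk I x) = 0
        apply hm
        rw [← hmkC, ← Ideal.map_pow]
        exact Ideal.mem_map_of_mem _ hx⟩
      have hχI := hkill D χ
      let χb : B ⧸ I →ₐ[ResidueField A] D :=
        { toRingHom := Ideal.Quotient.lift I χ.toRingHom (fun b hb => hχI hb)
          commutes' := fun c => by
            obtain ⟨a, rfl⟩ := residue_surjective c
            show Ideal.Quotient.lift I χ.toRingHom _ (Ideal.Quotient.mk I (algebraMap A B a)) = _
            rw [Ideal.Quotient.lift_mk]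
            show χ (algebraMap A B a) = _
            rw [χ.commutes]
            rfl }
      refine ⟨χb, ?_⟩
      apply AlgHom.ext
      intro c
      obtain ⟨b, rfl⟩ := Ideal.Quotient.mk_surjective c
      have := congrArg (fun g => g b) hχ
      exact this
    haveI hregC : IsRegularLocalRing (B ⧸ I) :=
      Groth.Agent.Lib.SmoothRegFieldH3.regular_of_adic_field (k := ResidueField A) hC
    -- the maximal ideal of `B ⧸ I` is nilpotent
    obtain ⟨ϖ, hϖ⟩ := IsDiscreteValuationRing.exists_irreducible A
    obtain ⟨ϖB, hϖB⟩ := IsDiscreteValuationRing.exists_irreducible B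
    have hIne : I ≠ ⊥ := by
      intro hbot
      have hmem : algebraMap A B ϖ ∈ I :=
        Ideal.mem_map_of_mem _ ((mem_maximalIdeal ϖ).2 hϖ.not_isUnit)
      rw [hbot, Ideal.mem_bot] at hmem
      exact hϖ.ne_zero (hinj (hmem.trans (map_zero _).symm))
    obtain ⟨e, he⟩ := IsDiscreteValuationRing.ideal_eq_span_pow_irreducible hIne hϖB
    have hpow : maximalIdeal (B ⧸ I) ^ e = ⊥ := by
      rw [← hmkC, ← Ideal.map_pow, hϖB.maximalIdeal_eq, Ideal.span_singleton_pow, ← he]
      exact Ideal.map_quotient_self I
    have hdim : ringKrullDim (B ⧸ I) = 0 := by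
      rw [← ringKrullDimZero_iff_ringKrullDim_eq_zero, Ring.krullDimLE_zero_iff]
      intro P hP
      have hle : maximalIdeal (B ⧸ I) ≤ P :=
        hP.le_of_pow_le (n := e) (by rw [hpow]; exact bot_le)
      rw [← (maximalIdeal.isMaximal (B ⧸ I)).eq_of_le hP.ne_top hle]
      exact maximalIdeal.isMaximal _
    have hspan : (maximalIdeal (B ⧸ I)).spanFinrank = 0 := by
      have h2 := (isRegularLocalRing_iff (B ⧸ I)).1 hregC
      rw [hdim] at h2
      exact_mod_cast h2
    have hbot : maximalIdeal (B ⧸ I) = ⊥ :=
      (Submodule.spanFinrank_eq_zero_iff_eq_bot (IsNoetherian.noetherian _)).1 hspan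
    have hmax : I = maximalIdeal B := by
      apply le_antisymm hIle
      intro b hb
      rw [← Ideal.Quotient.eq_zero_iff_mem, ← Ideal.mem_bot, ← hbot, ← hmkC]
      exact Ideal.mem_map_of_mem _ hb
    refine ⟨hmax, ?_⟩
    -- residue field extension is formally smooth
    haveI : Algebra.FormallySmooth (ResidueField A) (ResidueField B) := by
      refine .of_comp_surjective fun D _ _ J hJ f => ?_
      letI algAD : Algebra A D := ((algebraMap (ResidueField A) D).comp (residue A)).toAlgebra
      haveI : IsScalarTower A (ResidueField A) D := IsScalarTower.of_algebraMap_eq (fun _ => rfl)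
      let ψ' : B →ₐ[A] D ⧸ J :=
        { toRingHom := f.toRingHom.comp (residue B)
          commutes' := fun a => by
            show f (residue B (algebraMap A B a)) = algebraMap A (D ⧸ J) a
            have h1 : residue B (algebraMap A B a) =
                algebraMap (ResidueField A) (ResidueField B) (residue A a) := rfl
            rw [h1, f.commutes]
            rfl }
      obtain ⟨χ, hχ⟩ := h D J hJ ψ' ⟨1, fun x hx => by
        show f (residue B x) = 0
        rw [pow_one] at hx
        rw [(residue_eq_zero_iff x).2 hx, map_zero]⟩
      have hχI := hkill D χ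
      rw [hmax] at hχI
      let χb : ResidueField B →ₐ[ResidueField A] D :=
        { toRingHom := Ideal.Quotient.lift (maximalIdeal B) χ.toRingHom (fun b hb => hχI hb)
          commutes' := fun c => by
            obtain ⟨a, rfl⟩ := residue_surjective c
            show Ideal.Quotient.lift (maximalIdeal B) χ.toRingHom _
              (Ideal.Quotient.mk (maximalIdeal B) (algebraMap A B a)) = _
            rw [Ideal.Quotient.lift_mk]
            show χ (algebraMap A B a) = _
            rw [χ.commutes]
            rfl }
      refine ⟨χb, ?_⟩
      apply AlgHom.ext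
      intro c
      obtain ⟨b, rfl⟩ := residue_surjective c
      have := congrArg (fun g => g b) hχ
      exact this
    exact (Groth.Agent.Lib.FSGRH3.formallySmooth_iff_isGeometricallyReduced _ _).1 inferInstance
  · rintro ⟨hmax, hsep⟩
    haveI := hsep
    have hmax' : (maximalIdeal A).map (algebraMap A B) = maximalIdeal B := hmax
    haveI : Module.Flat A B := by
      rw [Module.Flat.flat_iff_torsion_eq_bot_of_isBezout, eq_bot_iff]
      rintro m ⟨⟨a, ha⟩, h⟩
      have ha0 : a ≠ 0 := nonZeroDivisors.ne_zero ha
      have h' : algebraMap A B a * m = 0 := by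
        rw [← Algebra.smul_def]
        exact h
      rcases mul_eq_zero.mp h' with h1 | h1
      · exact absurd (hinj (by rw [h1, map_zero])) ha0
      · exact (Submodule.mem_bot A).mpr h1
    have h1 : EGA41.IsFormallySmoothAdic A (maximalIdeal A) B (maximalIdeal B) := by
      apply Groth.Agent.Lib.FSNilpH3.isFormallySmoothAdic_of_forall
      intro n
      refine Groth.Agent.Lib.FSNilpH3.formallySmooth_quot_pow (maximalIdeal A)
        (residue A) (residue B) (algebraMap (ResidueField A) (ResidueField B))
        residue_surjective residue_surjective ?_ ker_residue ?_ ?_ n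
      · exact RingHom.ext fun a => rfl
      · rw [ker_residue, hmax']
      · rw [RingHom.formallySmooth_algebraMap]
        exact (Groth.Agent.Lib.FSGRH3.formallySmooth_iff_isGeometricallyReduced _ _).2 inferInstance
    exact Groth.Agent.Lib.StalkSmoothH3.adic_of_formallySmoothAdic h1

end Groth.Agent.S7134
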