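import Groth.Statements.S7141
import Mathlib
import Groth.Agent.Lib.BMax2_helper8

set_option autoImplicit false
universe u
open EtAlg

namespace Groth.Agent.S7141

/-- Let K be a field and, for a K-algebra A, let B_max(A) be its largest weakly étale K-subalgebra. (2)
For a K-subalgebra A' ⊆ A one has B_max(A') = B_max(A) ∩ A'. (4) The quotient map A → A_red =
A/nilradical restricts to a bijection B_max(A) → B_max(A_red). (6) If A ≠ 0 and its only idempotents
are 0 and 1, then B_max(A) is a field, algebraic and separable over K. (The published statement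
omits A ≠ 0; this row assumes it, since for A = 0 the largest weakly étale subalgebra is the zero
ring.) -/
theorem result (K : Type u) [Field K] (A : Type u) [CommRing A] [Algebra K A] :
    (∀ A' : Subalgebra K A,
      (EtAlgD.maxWeaklyEtale K A').map A'.val = EtAlgD.maxWeaklyEtale K A ⊓ A') ∧
    (Set.BijOn (Ideal.Quotient.mkₐ K (nilradical A)) (EtAlgD.maxWeaklyEtale K A)
      (EtAlgD.maxWeaklyEtale K (A ⧸ nilradical A))) ∧
    ((∀ e : A, IsIdempotentElem e → e = 0 ∨ e = 1) → Nontrivial A →
      IsField (EtAlgD.maxWeaklyEtale K A) ∧ Algebra.IsSeparable K (EtAlgD.maxWeaklyEtale K A)) := by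
  refine ⟨?_, ?_, ?_⟩
  · intro A'
    rw [Groth.Agent.WEField9.maxWeaklyEtale_eq_sepSub, Groth.Agent.WEField9.maxWeaklyEtale_eq_sepSub]
    exact BMaxH8.map_val_sepSub K A A'
  · rw [Groth.Agent.WEField9.maxWeaklyEtale_eq_sepSub, Groth.Agent.WEField9.maxWeaklyEtale_eq_sepSub]
    exact BMaxH8.bijOn_sepSub K A
  · intro hidem hnt
    rw [Groth.Agent.WEField9.maxWeaklyEtale_eq_sepSub]
    exact ⟨BMaxH8.isField_sepSub K A hidem, BMaxH8.isSeparable_sepSub K A⟩

end Groth.Agent.S7141
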