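import Groth.Statements.S7145
import Mathlib
import Groth.Agent.Lib.SubCx_helper6
-- import your own Groth.Agent.* helpers here

set_option autoImplicit false
universe u
open CategoryTheory CategoryTheory.Limits
open CAlg

namespace Groth.Agent.S7145

/-- Let R be a ring and F a cochain complex of free R-modules that is zero in all sufficiently large
degrees. Given finitely many elements f_i of F, f_i lying in degree n_i, there is a subcomplex G of
F (a map of complexes G → F injective in every degree) through which every f_i passes, such that G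
is zero outside a finite range of degrees and each term of G is a finitely generated free R-module. -/
theorem result (R : Type u) [CommRing R]
    (F : CochainComplex (ModuleCat.{u} R) ℤ) (hfree : ∀ n : ℤ, Module.Free R (F.X n))
    (b : ℤ) (hb : ∀ n : ℤ, b < n → IsZero (F.X n))
    (N : ℕ) (deg : Fin N → ℤ) (f : ∀ i : Fin N, F.X (deg i)) :
    ∃ (G : CochainComplex (ModuleCat.{u} R) ℤ) (ι : G ⟶ F),
      (∀ n : ℤ, Function.Injective (ι.f n)) ∧
      (∃ a c : ℤ, ∀ n : ℤ, (n < a ∨ c < n) → IsZero (G.X n)) ∧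
      (∀ n : ℤ, Module.Finite R (G.X n) ∧ Module.Free R (G.X n)) ∧
      ∀ i : Fin N, f i ∈ Set.range (ι.f (deg i)) := by

  classical
  haveI := hfree
  let B : ∀ n : ℤ, Module.Basis (Module.Free.ChooseBasisIndex R (F.X n)) R (F.X n) :=
    fun n => Module.Free.chooseBasis R (F.X n)
  let g : Fin N → (Σ n : ℤ, (F.X n : Type u)) := fun i => ⟨deg i, f i⟩
  let T : ∀ n : ℤ, Set (F.X n) := fun n => (fun x : F.X n => (⟨n, x⟩ : Σ n : ℤ, (F.X n : Type u))) ⁻¹' Set.range g
  have hTf : ∀ n, (T n).Finite := fun n =>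
    (Set.finite_range g).preimage (fun x _ y _ hxy => eq_of_heq (Sigma.mk.inj hxy).2)
  obtain ⟨M, hM⟩ := (Finset.univ.image fun i => - deg i).exists_le
  obtain ⟨a, ha⟩ : ∃ a : ℤ, ∀ i, a ≤ deg i := ⟨-M, fun i => by
    have := hM _ (Finset.mem_image_of_mem (fun i => - deg i) (Finset.mem_univ i))
    omega⟩
  have hT : ∀ n, ∀ x ∈ T n, a ≤ n := by
    intro n x hx
    obtain ⟨i, hi⟩ := hx
    have h1 : deg i = n := congrArg Sigma.fst hi
    rw [← h1]
    exact ha i
  refine ⟨Lib.SubCx_helper6.G F B T, Lib.SubCx_helper6.ι F B T, Lib.SubCx_helper6.ι_inj F B T,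
    ⟨a, b, ?_⟩, fun n => ⟨Lib.SubCx_helper6.finite_G F B T a hT hTf n,
      Lib.SubCx_helper6.free_G F B T n⟩, ?_⟩
  · rintro n (hn | hn)
    · haveI : Subsingleton ((Lib.SubCx_helper6.G F B T).X n) :=
        Lib.SubCx_helper6.subsingleton_of_S_empty F B T n
          (Lib.SubCx_helper6.S_empty F B T a hT n hn)
      exact ModuleCat.isZero_of_subsingleton _
    · haveI : Subsingleton (F.X n) := ModuleCat.subsingleton_of_isZero (hb n hn)
      haveI : Subsingleton ((Lib.SubCx_helper6.G F B T).X n) :=
        (Subtype.val_injective.subsingleton : Subsingleton (Lib.SubCx_helper6.Gsub F B T n))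
      exact ModuleCat.isZero_of_subsingleton _
  · intro i
    have hmem : f i ∈ Lib.SubCx_helper6.Gsub F B T (deg i) :=
      Lib.SubCx_helper6.mem_Gsub F B T (f i) fun e he =>
        Lib.SubCx_helper6.Mem.base (B := B) (deg i) (f i) (show f i ∈ T (deg i) from ⟨i, rfl⟩) e he
    exact ⟨⟨f i, hmem⟩, rfl⟩

end Groth.Agent.S7145
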