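import Groth.Statements.S7153
import Mathlib.RingTheory.Filtration

set_option autoImplicit false
universe u
open CAlg

namespace Groth.Agent.S7153

theorem artinRees_le {A M : Type*} [CommRing A] [IsNoetherianRing A] [AddCommGroup M] [Module A M]
    [Module.Finite A M] (I : Ideal A) (N : Submodule A M) :
    ∃ k : ℕ, ∀ n, I ^ (n + k) • ⊤ ⊓ N ≤ I ^ n • N := by
  obtain ⟨k, hk⟩ := Ideal.exists_pow_inf_eq_pow_smul I N
  refine ⟨k, fun n => ?_⟩
  rw [hk (n + k) (by omega), Nat.add_sub_cancel]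
  exact Submodule.smul_mono le_rfl inf_le_right


/-- Let A be a Noetherian ring, I an ideal and K → L → M a complex of finite A-modules with maps α, β
and homology H = Ker β / Im α; for n ≥ 0 let H_n be the homology of the induced complex K/IⁿK →
L/IⁿL → M/IⁿM, which is β⁻¹(IⁿM)/(Im α + IⁿL). Then there is c > 0 such that for every n: (i) the
image of H_(n+c) → H_n is contained in, hence equal to, the image of H → H_n; (ii) the kernel and
the cokernel of H/IⁿH → H_n are annihilated by I^c. Everything is phrased with representatives in L. -/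
theorem result (A : Type u) [CommRing A] [IsNoetherianRing A] (I : Ideal A)
    (K L M : Type u) [AddCommGroup K] [Module A K] [Module.Finite A K] [AddCommGroup L] [Module A L]
    [Module.Finite A L] [AddCommGroup M] [Module A M] [Module.Finite A M]
    (α : K →ₗ[A] L) (β : L →ₗ[A] M) (hαβ : β ∘ₗ α = 0) :
    ∃ c : ℕ, 0 < c ∧ ∀ n : ℕ,
      (∀ y ∈ (I ^ (n + c) • ⊤ : Submodule A M).comap β,
        ∃ z ∈ LinearMap.ker β, y - z ∈ LinearMap.range α ⊔ (I ^ n • ⊤ : Submodule A L)) ∧
      (∀ z ∈ LinearMap.ker β, z ∈ LinearMap.range α ⊔ (I ^ n • ⊤ : Submodule A L) →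
        ∀ a ∈ I ^ c, a • z ∈ LinearMap.range α ⊔ I ^ n • LinearMap.ker β) ∧
      (∀ y ∈ (I ^ n • ⊤ : Submodule A M).comap β, ∀ a ∈ I ^ c,
        ∃ z ∈ LinearMap.ker β, a • y - z ∈ LinearMap.range α ⊔ (I ^ n • ⊤ : Submodule A L)) := by
  obtain ⟨c₁, h₁⟩ := artinRees_le I (LinearMap.range β)
  obtain ⟨c₂, h₂⟩ := artinRees_le I (LinearMap.ker β)
  -- key step (i)
  have key : ∀ (n : ℕ) (y : L), β y ∈ (I ^ (n + c₁) • ⊤ : Submodule A M) →
      ∃ z ∈ LinearMap.ker β, y - z ∈ (I ^ n • ⊤ : Submodule A L) := by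
    intro n y hy
    have h : β y ∈ I ^ n • LinearMap.range β := h₁ n ⟨hy, LinearMap.mem_range_self β y⟩
    rw [LinearMap.range_eq_map, ← Submodule.map_smul''] at h
    obtain ⟨w, hw, hwy⟩ := h
    refine ⟨y - w, ?_, ?_⟩
    · simp [LinearMap.mem_ker, hwy]
    · simpa using hw
  refine ⟨c₁ + c₂ + 1, by omega, fun n => ⟨?_, ?_, ?_⟩⟩
  · intro y hy
    have hy' : β y ∈ (I ^ (n + c₁) • ⊤ : Submodule A M) :=
      Submodule.smul_mono_left (Ideal.pow_le_pow_right (by omega)) hy
    obtain ⟨z, hz, hyz⟩ := key n y hy'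
    exact ⟨z, hz, Submodule.mem_sup_right hyz⟩
  · intro z hz hz' a ha
    obtain ⟨u, hu, w, hw, rfl⟩ := Submodule.mem_sup.mp hz'
    obtain ⟨k, rfl⟩ := hu
    have hwker : w ∈ LinearMap.ker β := by
      have h1 : β (α k) = 0 := LinearMap.congr_fun hαβ k
      have h2 : β (α k + w) = 0 := hz
      rw [map_add, h1, zero_add] at h2
      exact h2
    have hw' : w ∈ I ^ (n - c₂) • LinearMap.ker β := by
      rcases le_or_gt c₂ n with h | h
      · have := h₂ (n - c₂)
        rw [Nat.sub_add_cancel h] at this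
        exact this ⟨hw, hwker⟩
      · rw [Nat.sub_eq_zero_of_le h.le, pow_zero, Ideal.one_eq_top, Submodule.top_smul]
        exact hwker
    have ha' : a ∈ I ^ (n - (n - c₂)) := Ideal.pow_le_pow_right (by omega) ha
    have h3 := Submodule.smul_mem_smul ha' hw'
    rw [← mul_smul, ← pow_add, Nat.sub_add_cancel (Nat.sub_le _ _)] at h3
    rw [smul_add]
    exact Submodule.add_mem_sup (Submodule.smul_mem _ _ (LinearMap.mem_range_self α k)) h3
  · intro y hy a ha
    have hy' : β (a • y) ∈ (I ^ (n + c₁) • ⊤ : Submodule A M) := by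
      rw [map_smul]
      have ha' : a ∈ I ^ c₁ := Ideal.pow_le_pow_right (by omega) ha
      have := Submodule.smul_mem_smul ha' (Submodule.mem_comap.mp hy)
      rw [← mul_smul, ← pow_add, add_comm] at this
      exact this
    obtain ⟨z, hz, hyz⟩ := key n (a • y) hy'
    exact ⟨z, hz, Submodule.mem_sup_right hyz⟩

end Groth.Agent.S7153
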