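import Groth.Statements.S7154
import Groth.Agent.Lib.EppF1_helper8
import Groth.Agent.Lib.TotRam2_helper8

set_option autoImplicit false
universe u
open EtAlg

namespace Groth.Agent.S7154

/-- Let A → B → C be injective local homomorphisms of discrete valuation rings whose fields of fractions
are K ⊆ L ⊆ M, where A and B are complete, A → B is weakly unramified, M/L is finite, and the
residue field k of A is an algebraically closed field of characteristic p > 0 which, inside the
residue field κ_B of B, is exactly the set of elements admitting a pⁿ-th root for every n. Then some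
finite extension K₁/K is a weak solution for A → C. -/
theorem result (p : ℕ) (hp : p.Prime) (A B C K L M : Type u)
    [CommRing A] [IsDomain A] [IsDiscreteValuationRing A] [CommRing B] [IsDomain B] [IsDiscreteValuationRing B]
    [CommRing C] [IsDomain C] [IsDiscreteValuationRing C]
    [Algebra A B] [Algebra B C] [Algebra A C] [IsScalarTower A B C]
    (hAB : Function.Injective (algebraMap A B)) (hBC : Function.Injective (algebraMap B C))
    [IsLocalHom (algebraMap A B)] [IsLocalHom (algebraMap B C)]
    [Field K] [Field L] [Field M] [Algebra A K] [IsFractionRing A K] [Algebra B L] [IsFractionRing B L]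
    [Algebra C M] [IsFractionRing C M] [Algebra K L] [Algebra L M] [Algebra K M] [IsScalarTower K L M]
    [Algebra A L] [IsScalarTower A K L] [IsScalarTower A B L] [Algebra B M] [IsScalarTower B L M] [IsScalarTower B C M]
    [Algebra A M] [IsScalarTower A K M] [IsScalarTower A C M]
    [IsAlgClosed (IsLocalRing.ResidueField A)] [CharP (IsLocalRing.ResidueField A) p]
    [IsAdicComplete (IsLocalRing.maximalIdeal A) A] [IsAdicComplete (IsLocalRing.maximalIdeal B) B]
    (hw : EtRam.IsWeaklyUnramified A B) [FiniteDimensional L M]
    (hk : ∀ x : IsLocalRing.ResidueField B, (∀ n : ℕ, ∃ y : IsLocalRing.ResidueField B, y ^ (p ^ n) = x) ↔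
      x ∈ Set.range (algebraMap (IsLocalRing.ResidueField A) (IsLocalRing.ResidueField B))) :
    ∃ (K₁ : Type u) (_ : Field K₁) (_ : Algebra K K₁), FiniteDimensional K K₁ ∧ EtRam.IsWeakSolution C K M K₁ := by
  classical
  haveI : Fact p.Prime := ⟨hp⟩
  obtain ⟨V, hV⟩ := TotRamH8.exists_dominating
    ((algebraMap M (AlgebraicClosure M)).comp (algebraMap C M))
  have hcompat : ∀ b : B, algebraMap L (AlgebraicClosure M) (algebraMap B L b) =
      algebraMap M (AlgebraicClosure M) (algebraMap C M (algebraMap B C b)) := by
    intro b
    rw [IsScalarTower.algebraMap_apply L M (AlgebraicClosure M),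
      ← IsScalarTower.algebraMap_apply B L M, IsScalarTower.algebraMap_apply B C M]
  have H : Groth.Agent.Lib.EppFinH8.EppCtx p A B K L (AlgebraicClosure M) V :=
    { hAB := hAB
      hw := hw
      hk := hk
      hdom := by
        refine ⟨fun b => ?_, fun b hb => ?_⟩
        · rw [RingHom.comp_apply, hcompat]
          exact hV.1 _
        · rw [RingHom.comp_apply, hcompat]
          apply hV.2
          rw [IsLocalRing.mem_maximalIdeal, mem_nonunits_iff] at hb ⊢
          exact fun hu => hb (isUnit_of_map_unit (algebraMap B C) b hu)
      hKL := (algebraMap K L).injective }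
  exact H.exists_weakSolution C M

end Groth.Agent.S7154
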