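import Groth.Statements.S7181
import Mathlib
import Groth.Agent.Lib.SchPushoutIntUniq_helper5
import Groth.Agent.Lib.CoverSep_helper5

set_option autoImplicit false
universe u
open FlatMor

namespace Groth.Agent.S7181

open AlgebraicGeometry CategoryTheory Limits in
/-- In the pushout P = Y ⨿_Z X of a closed immersion i : Z → X and an integral morphism j : Z → Y over a
base S (each fibre of j contained in the preimage of an affine open of X), if X and Y are separated
(resp. quasi-separated) over S then so is P. -/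
theorem result {X Y Z P S : Scheme.{u}} (i : Z ⟶ X) (j : Z ⟶ Y) [IsClosedImmersion i] [IsIntegralHom j]
    (haff : ∀ y : Y, ∃ U : X.Opens, IsAffineOpen U ∧ j ⁻¹' {y} ⊆ (i ⁻¹ᵁ U : Set ↑Z))
    (a : X ⟶ P) (b : Y ⟶ P) (hP : IsPushout i j a b) (p : X ⟶ S) (q : Y ⟶ S) (r : P ⟶ S)
    (hp : a ≫ r = p) (hq : b ≫ r = q) :
    ((IsSeparated p ∧ IsSeparated q) → IsSeparated r) ∧ ((QuasiSeparated p ∧ QuasiSeparated q) → QuasiSeparated r) := by
  have hG := Groth.Agent.ShPushoutInt.isPushout_G_of_isPushout' i j haff a b hP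
  haveI : IsIntegralHom a := Groth.Agent.ShPushoutInt.isIntegralHom_inl' i j a b hG haff
  haveI : IsClosedImmersion b := Groth.Agent.ShPushoutInt.isClosedImmersion_inr' i j a b hG haff
  have hcover : ∀ t : P, (∃ x, a x = t) ∨ ∃ y, b y = t :=
    Groth.Agent.ShPushout.exists_pt i j _ _ hG
  subst hp hq
  refine ⟨?_, ?_⟩
  · rintro ⟨h1, h2⟩
    exact Groth.Agent.CoverSep.isSeparated_of_cover a b r hcover
  · rintro ⟨h1, h2⟩
    exact Groth.Agent.CoverSep.quasiSeparated_of_cover a b r hcover

end Groth.Agent.S7181
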