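import Groth.Statements.S7183
import Mathlib
import Groth.Agent.Lib.MilnorSchMain_helper5

set_option autoImplicit false
universe u
open FlatMor

namespace Groth.Agent.S7183

open AlgebraicGeometry CategoryTheory Limits in
/-- Let i : Z → X, j : Z → Y be closed immersions with pushout P, let X' → X and Y' → Y be morphisms
whose base changes to Z are identified (a scheme Z' cartesian over both), let P' be the pushout of
Z' → X' and Z' → Y' and h : P' → P the induced morphism. Then h is locally of finite type (resp.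
flat, resp. flat and locally of finite presentation, resp. smooth, resp. étale) if and only if X' →
X and Y' → Y both are. -/
theorem result {X Y Z P X' Y' Z' P' : Scheme.{u}}
    (i : Z ⟶ X) (j : Z ⟶ Y) [IsClosedImmersion i] [IsClosedImmersion j] (a : X ⟶ P) (b : Y ⟶ P) (hP : IsPushout i j a b)
    (f : X' ⟶ X) (g : Y' ⟶ Y) (i' : Z' ⟶ X') (j' : Z' ⟶ Y') (c : Z' ⟶ Z) (hX : IsPullback i' c f i) (hY : IsPullback j' c g j)
    (a' : X' ⟶ P') (b' : Y' ⟶ P') (hP' : IsPushout i' j' a' b') (h : P' ⟶ P) (ha : a' ≫ h = f ≫ a) (hb : b' ≫ h = g ≫ b) :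
    (LocallyOfFiniteType h ↔ LocallyOfFiniteType f ∧ LocallyOfFiniteType g) ∧
    (Flat h ↔ Flat f ∧ Flat g) ∧
    ((Flat h ∧ LocallyOfFinitePresentation h) ↔ (Flat f ∧ LocallyOfFinitePresentation f) ∧ (Flat g ∧ LocallyOfFinitePresentation g)) ∧
    (Smooth h ↔ Smooth f ∧ Smooth g) ∧
    (Etale h ↔ Etale f ∧ Etale g) := by
  have hcfg := Groth.Agent.MilnorSch.exists_config i j a b hP f g i' j' c hX hY a' b' hP' h ha hb
  have sFT := (RingHom.finiteType_stableUnderComposition.stableUnderCompositionWithLocalizationAway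
    RingHom.finiteType_holdsForLocalizationAway).left
  have sFl := (RingHom.Flat.stableUnderComposition.stableUnderCompositionWithLocalizationAway
    RingHom.Flat.holdsForLocalizationAway).left
  have sFP :=
    (RingHom.finitePresentation_stableUnderComposition.stableUnderCompositionWithLocalizationAway
      RingHom.finitePresentation_holdsForLocalizationAway).left
  have sSm := (RingHom.Smooth.stableUnderComposition.stableUnderCompositionWithLocalizationAway
    RingHom.Smooth.holdsForLocalizationAway).left
  have sEt := (RingHom.Etale.stableUnderComposition.stableUnderCompositionWithLocalizationAway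
    Groth.Agent.MilnorSch.etale_holdsForLocalizationAway).left
  refine ⟨?_, ?_, ?_, ?_, ?_⟩
  · have := Groth.Agent.MilnorSch.iff_of_config₂ (P₁ := @LocallyOfFiniteType)
      (P₂ := @LocallyOfFiniteType) sFT sFT a b f g a' b' h (fun p' => by
        obtain ⟨U, U', hU, hU', hXa, hYa, hXa', hYa', e, eX, eY, hp, h5⟩ := hcfg p'
        exact ⟨U, U', hU, hU', hXa, hYa, hXa', hYa', e, eX, eY, hp, by
          rw [and_self, and_self, and_self]; exact h5.1⟩)
    simpa only [and_self] using this
  · have := Groth.Agent.MilnorSch.iff_of_config₂ (P₁ := @Flat)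
      (P₂ := @Flat) sFl sFl a b f g a' b' h (fun p' => by
        obtain ⟨U, U', hU, hU', hXa, hYa, hXa', hYa', e, eX, eY, hp, h5⟩ := hcfg p'
        exact ⟨U, U', hU, hU', hXa, hYa, hXa', hYa', e, eX, eY, hp, by
          rw [and_self, and_self, and_self]; exact h5.2.1⟩)
    simpa only [and_self] using this
  · exact Groth.Agent.MilnorSch.iff_of_config₂ (P₁ := @Flat)
      (P₂ := @LocallyOfFinitePresentation) sFl sFP a b f g a' b' h (fun p' => by
        obtain ⟨U, U', hU, hU', hXa, hYa, hXa', hYa', e, eX, eY, hp, h5⟩ := hcfg p'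
        exact ⟨U, U', hU, hU', hXa, hYa, hXa', hYa', e, eX, eY, hp, h5.2.2.1⟩)
  · have := Groth.Agent.MilnorSch.iff_of_config₂ (P₁ := @Smooth)
      (P₂ := @Smooth) sSm sSm a b f g a' b' h (fun p' => by
        obtain ⟨U, U', hU, hU', hXa, hYa, hXa', hYa', e, eX, eY, hp, h5⟩ := hcfg p'
        exact ⟨U, U', hU, hU', hXa, hYa, hXa', hYa', e, eX, eY, hp, by
          rw [and_self, and_self, and_self]; exact h5.2.2.2.1⟩)
    simpa only [and_self] using this
  · have := Groth.Agent.MilnorSch.iff_of_config₂ (P₁ := @Etale)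
      (P₂ := @Etale) sEt sEt a b f g a' b' h (fun p' => by
        obtain ⟨U, U', hU, hU', hXa, hYa, hXa', hYa', e, eX, eY, hp, h5⟩ := hcfg p'
        exact ⟨U, U', hU, hU', hXa, hYa, hXa', hYa', e, eX, eY, hp, by
          rw [and_self, and_self, and_self]; exact h5.2.2.2.2⟩)
    simpa only [and_self] using this

end Groth.Agent.S7183
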