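import Groth.Statements.S7190
import Groth.Agent.Lib.FppfFin8_helper3
-- import your own Groth.Agent.* helpers here

set_option autoImplicit false
universe w u
open FlatMor


namespace Groth.Agent.S7190

open AlgebraicGeometry CategoryTheory Limits in
/-- An fppf covering {T_i → T} of schemes (flat, locally of finite presentation, jointly surjective) is
a ph covering. -/
theorem result {T : Scheme.{u}} (E : PreZeroHypercover.{w} T)
    (hflat : ∀ i, Flat (E.f i)) (hfp : ∀ i, LocallyOfFinitePresentation (E.f i))
    (hsurj : ∀ t : T, ∃ (i : E.I₀) (x : E.X i), E.f i x = t) : HTop.IsPhCover E := by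
  exact Groth.Agent.Lib.FppfFinH3.main7190 E hflat hfp hsurj

end Groth.Agent.S7190
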