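import Groth.Statements.S7225
import Groth.Agent.Lib.NLLoc_helper3
-- import your own Groth.Agent.* helpers here

set_option autoImplicit false
universe u
open CategoryTheory CategoryTheory.Limits TensorProduct
open CategoryTheory
attribute [local instance] HasDerivedCategory.standard
open FlatMor

namespace Groth.Agent.S7225

/-- Let A be a ring, M a submonoid of A, A' a localization of A at M and B an A'-algebra, viewed also as
an A-algebra. Let G be a presentation of B over A by a polynomial algebra and G' the presentation of
B over A' with the same generators (G'(i) = G(i), written through the identity algebra map of B).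
Then the canonical chain map NL(G) → NL(G') from the naive cotangent complex of the presentation
over A to that of the presentation over A' is an isomorphism of complexes (so that NL_{B/A} →
NL_{B/A'} is a homotopy equivalence). -/
theorem result (A A' B : Type u) [CommRing A] [CommRing A'] [CommRing B]
    [Algebra A A'] (M : Submonoid A) [IsLocalization M A'] [Algebra A' B] [Algebra A B] [IsScalarTower A A' B]
    {ι : Type u} (G : Algebra.Generators A B ι) (G' : Algebra.Generators A' B ι) (h : ∀ i, G'.val i = algebraMap B B (G.val i)) :
    IsIso (NLCx.map (NLCx.sameVarsHom (S' := B) G G' h).toExtensionHom) := by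
  have h1 := Groth.Agent.Lib.NLLocH3.cotangent_map_bijective M
    (NLCx.sameVarsHom (S' := B) G G' h) (fun i => rfl)
  have h2 := Groth.Agent.Lib.NLLocH3.cotangentSpace_map_bijective
    (NLCx.sameVarsHom (S' := B) G G' h) (fun i => rfl)
  haveI i1 : IsIso (ModuleCat.ofHom (Algebra.Extension.Cotangent.map
      (NLCx.sameVarsHom (S' := B) G G' h).toExtensionHom)) :=
    (ConcreteCategory.isIso_iff_bijective _).mpr h1
  haveI i2 : IsIso (ModuleCat.ofHom (Algebra.Extension.CotangentSpace.map
      (NLCx.sameVarsHom (S' := B) G G' h).toExtensionHom)) :=
    (ConcreteCategory.isIso_iff_bijective _).mpr h2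
  haveI : ∀ n, IsIso ((NLCx.map (NLCx.sameVarsHom (S' := B) G G' h).toExtensionHom).f n) := by
    intro n
    by_cases hn0 : n = -1
    · subst hn0
      unfold NLCx.map
      rw [HomologicalComplex.mkHomFromDouble_f₀]
      refine IsIso.comp_isIso' inferInstance (IsIso.comp_isIso' ?_ inferInstance)
      exact (ConcreteCategory.isIso_iff_bijective _).mpr h1
    · by_cases hn1 : n = 0
      · subst hn1
        unfold NLCx.map
        rw [HomologicalComplex.mkHomFromDouble_f₁]
        refine IsIso.comp_isIso' inferInstance (IsIso.comp_isIso' ?_ inferInstance)
        exact (ConcreteCategory.isIso_iff_bijective _).mpr h2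
      · have hz1 := HomologicalComplex.isZero_double_X
          (ModuleCat.ofHom (G.toExtension.cotangentComplex))
          (show (ComplexShape.up ℤ).Rel (-1) 0 by simp) n hn0 hn1
        have hz2 := HomologicalComplex.isZero_double_X
          (ModuleCat.ofHom (G'.toExtension.cotangentComplex))
          (show (ComplexShape.up ℤ).Rel (-1) 0 by simp) n hn0 hn1
        exact ⟨⟨0, hz1.eq_of_src _ _, hz2.eq_of_src _ _⟩⟩
  exact HomologicalComplex.Hom.isIso_of_components _

end Groth.Agent.S7225
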