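import Groth.Statements.S7235
import Mathlib
import Groth.Agent.Lib.NLHens4_helper5
import Groth.Agent.Lib.NLHens5_helper5
import Groth.Agent.Lib.Henselization8_helper3

set_option autoImplicit false
universe u
open CategoryTheory CategoryTheory.Limits TensorProduct
attribute [local instance] HasDerivedCategory.standard
open FlatMor

namespace Groth.Agent.S7235

/-- Suppose A and B are local rings and A → B is a local ring homomorphism; write A^h for a
henselization of A and B^h for a henselization of B, and give B^h the A^h-algebra structure
compatible with A → B → B^h (by the universal property of A^h there is exactly one such ring map A^h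
→ B^h, the induced map on henselizations). Then the canonical chain map NL_{B/A} ⊗_B B^h →
NL_{B^h/A^h} between naive cotangent complexes (presentations on all elements) is a
quasi-isomorphism, i.e. induces isomorphisms on all cohomology modules. -/
theorem result (A B Ah Bh : Type u) [CommRing A] [CommRing B] [CommRing Ah]
    [CommRing Bh] [IsLocalRing A] [IsLocalRing B] [IsLocalRing Ah] [IsLocalRing Bh]
    [Algebra A B] [IsLocalHom (algebraMap A B)]
    [Algebra A Ah] [IsLocalHom (algebraMap A Ah)] [Hensel.IsHenselization A Ah]
    [Algebra B Bh] [IsLocalHom (algebraMap B Bh)] [Hensel.IsHenselization B Bh]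
    [Algebra Ah Bh] [Algebra A Bh] [IsScalarTower A Ah Bh] [IsScalarTower A B Bh] :
    QuasiIso (NLCx.bcMapSelf A B Ah Bh) := by
  haveI : Module.Flat B Bh :=
    (Groth.Agent.Lib.HenselizationH3.faithfullyFlat_of_isHenselization (R := B) Bh).toFlat
  haveI : Algebra.FormallyEtale A Ah :=
    Groth.Agent.Lib.HensFEt.formallyEtale_of_isHenselization (R := A) Ah
  haveI : Algebra.FormallyEtale B Bh :=
    Groth.Agent.Lib.HensFEt.formallyEtale_of_isHenselization (R := B) Bh
  obtain ⟨Q₀, _, ι, φ, h1, h2, h3, h4, h5⟩ :=
    Groth.Agent.Lib.NLHensH5.exists_hens_lift (Bh := Bh)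
      (algebraMap (Algebra.Generators.self A B).toExtension.Ring B)
      (Algebra.Generators.self A B).toExtension.algebraMap_surjective
  exact Groth.Agent.Lib.NLHensH5.quasiIso_of_lift A B Ah Bh Q₀ ι φ h1 h2 h3 h4 h5

end Groth.Agent.S7235
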