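import Groth.Statements.S7237
import Mathlib

set_option autoImplicit false
universe u
open TensorProduct
open FlatMor

namespace Groth.Agent.S7237

/-- Let A be a ring and M a finitely generated A-module, and let C = Sym_A(M) be the symmetric algebra
of M with its canonical A-linear map ι : M → C. Then Ω_{C/A} = M ⊗_A C: the C-linear map C ⊗_A M →
Ω_{C/A} obtained by extending scalars in the A-linear map m ↦ d(ι m), d being the universal
A-derivation of C, is bijective. (The published lemma also computes the whole naive cotangent
complex of the presentation of C attached to a surjection A^m → M with kernel K, namely as K ⊗_A C →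
⊕_j C dy_j; only its consequence for Ω is asserted here.) -/
theorem result (A : Type u) [CommRing A] (M : Type u)
    [AddCommGroup M] [Module A M] [Module.Finite A M] :
    Function.Bijective (LinearMap.liftBaseChange (SymmetricAlgebra A M)
      ((KaehlerDifferential.D A (SymmetricAlgebra A M)).toLinearMap.restrictScalars A ∘ₗ SymmetricAlgebra.ι A M)) := by
  classical
  set C := SymmetricAlgebra A M with hC
  set N := TensorProduct A C M with hN
  set Φ := LinearMap.liftBaseChange C
      ((KaehlerDifferential.D A C).toLinearMap.restrictScalars A ∘ₗ SymmetricAlgebra.ι A M) with hΦ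
  have hΦt : ∀ (c : C) (m : M), Φ (c ⊗ₜ[A] m) = c • KaehlerDifferential.D A C (SymmetricAlgebra.ι A M m) := by
    intro c m
    simp [hΦ, LinearMap.liftBaseChange_tmul]
  -- the algebra map into the trivial square zero extension
  let f : M →ₗ[A] TrivSqZeroExt C N :=
    { toFun := fun m => TrivSqZeroExt.inl (SymmetricAlgebra.ι A M m) +
        TrivSqZeroExt.inr ((1 : C) ⊗ₜ[A] m)
      map_add' := fun x y => by
        ext <;> simp [TensorProduct.tmul_add]
      map_smul' := fun a x => by
        ext <;> simp }
  let φ : C →ₐ[A] TrivSqZeroExt C N := SymmetricAlgebra.lift f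
  have hφι : ∀ m, φ (SymmetricAlgebra.ι A M m) = f m := fun m => SymmetricAlgebra.lift_ι_apply f m
  have hfst : ∀ c, (φ c).fst = c := by
    intro c
    have : (TrivSqZeroExt.fstHom A C N).comp φ = AlgHom.id A C := by
      apply SymmetricAlgebra.algHom_ext
      ext m
      simp [hφι, f]
      rfl
    exact congrArg (fun g : C →ₐ[A] C => g c) this
  let l : C →ₗ[A] N :=
    { toFun := fun c => (φ c).snd
      map_add' := fun x y => by simp
      map_smul' := fun a x => by simp }
  let d : Derivation A C N := Derivation.mk' l (by
    intro x y
    change (φ (x * y)).snd = x • (φ y).snd + y • (φ x).snd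
    rw [map_mul, TrivSqZeroExt.snd_mul, hfst, hfst, op_smul_eq_smul])
  have hdι : ∀ m, d (SymmetricAlgebra.ι A M m) = (1 : C) ⊗ₜ[A] m := by
    intro m
    change (φ (SymmetricAlgebra.ι A M m)).snd = _
    rw [hφι]
    simp [f]
  constructor
  · -- injective
    have hinv : ∀ n : N, d.liftKaehlerDifferential (Φ n) = n := by
      intro n
      induction n using TensorProduct.induction_on with
      | zero => simp
      | tmul c m =>
        rw [hΦt, map_smul, Derivation.liftKaehlerDifferential_comp_D, hdι,
          TensorProduct.smul_tmul', smul_eq_mul, mul_one]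
      | add x y hx hy => rw [map_add, map_add, hx, hy]
    exact Function.LeftInverse.injective hinv
  · -- surjective
    rw [← LinearMap.range_eq_top, eq_top_iff, ← KaehlerDifferential.span_range_derivation,
      Submodule.span_le]
    rintro _ ⟨c, rfl⟩
    induction c using SymmetricAlgebra.induction with
    | algebraMap r => exact ⟨0, by rw [map_zero, Derivation.map_algebraMap]⟩
    | ι m => exact ⟨(1 : C) ⊗ₜ[A] m, by rw [hΦt, one_smul]⟩
    | mul a b ha hb =>
      rw [Derivation.leibniz]
      exact Submodule.add_mem _ (Submodule.smul_mem _ _ hb) (Submodule.smul_mem _ _ ha)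
    | add a b ha hb =>
      rw [map_add]
      exact Submodule.add_mem _ ha hb

end Groth.Agent.S7237
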