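import Groth.Statements.S7289
import Groth.Agent.Lib.IndEtale2_helper3
-- import your own Groth.Agent.* helpers here

set_option autoImplicit false
open CategoryTheory CategoryTheory.Limits AlgebraicGeometry Opposite

universe u
open ProEtW

namespace Groth.Agent.S7289

/-- Ind-etale A-algebras are stable under filtered colimits, i.e. any colimit over a filtered index
category of such algebras is again ind-etale over A. Concretely: if D is a filtered diagram of rings
under A all of whose values are ind-etale A-algebras, and the A-algebra B is a colimit of D in the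
category of rings under A, then B is ind-etale over A. -/
theorem result (A B : Type u) [CommRing A] [CommRing B] [Algebra A B]
    {J : Type u} [SmallCategory J] [IsFiltered J] (D : J ⥤ Under (CommRingCat.of A))
    (hD : ∀ j, letI := (D.obj j).hom.hom.toAlgebra; EtPBC.IsIndEtale A ↥(D.obj j).right)
    (c : Cocone D) (hc : IsColimit c)
    (e : c.pt ≅ Under.mk (CommRingCat.ofHom (algebraMap A B))) :
    EtPBC.IsIndEtale A B := by
  apply Groth.Agent.Lib.IndEtaleH3.isIndEtale_of_exists
  · intro b
    obtain ⟨j, y, hy⟩ := Groth.Agent.Lib.IndEtaleH3.exists_ιB c e hc b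
    letI := Groth.Agent.Lib.IndEtaleH3.algObj D j
    obtain ⟨C, _, _, _, f, x, hx⟩ := Groth.Agent.Lib.IndEtaleH3.exists_of_isIndEtale (hD j) y
    refine ⟨C, inferInstance, inferInstance, inferInstance,
      (Groth.Agent.Lib.IndEtaleH3.ιB c e j).comp f, x, ?_⟩
    rw [AlgHom.comp_apply, hx, hy]
  · intro C _ _ _ f x hx
    obtain ⟨k, g, hg, hgx⟩ := Groth.Agent.Lib.IndEtaleH3.exists_factor_ιB c e hc C f x hx
    letI := Groth.Agent.Lib.IndEtaleH3.algObj D k
    obtain ⟨C', _, _, _, g', f', hgf, hg'x⟩ :=
      Groth.Agent.Lib.IndEtaleH3.exists_factor_of_isIndEtale (hD k) C g x hgx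
    refine ⟨C', inferInstance, inferInstance, inferInstance, g',
      (Groth.Agent.Lib.IndEtaleH3.ιB c e k).comp f', ?_, hg'x⟩
    ext y
    rw [← hg y, ← hgf]
    rfl

end Groth.Agent.S7289
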