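import Groth.Statements.S7318
import Mathlib
import Groth.Agent.Lib.Models_helper5

set_option autoImplicit false
open Finset
open Models Models.NumericalType

namespace Groth.Agent.S7318

open Classical in
private lemma edge_bound {n : ℕ} (T : Models.NumericalType n) : n ≤ T.edgeCount + 1 := by
  classical
  -- the dual graph
  let G : SimpleGraph (Fin n) :=
    { Adj := fun i j => i ≠ j ∧ T.a i j ≠ 0
      symm := ⟨fun i j h => ⟨h.1.symm, by rw [T.symm.apply i j]; exact h.2⟩⟩
      loopless := ⟨fun i h => h.1 rfl⟩ }
  have hn := T.pos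
  let i0 : Fin n := ⟨0, hn⟩
  have hreach : ∀ j, G.Reachable i0 j := by
    by_contra hcon
    push Not at hcon
    obtain ⟨k, hk⟩ := hcon
    have hIne : (univ.filter (fun j => G.Reachable i0 j)).Nonempty :=
      ⟨i0, by simp⟩
    have hIu : univ.filter (fun j => G.Reachable i0 j) ≠ univ := fun h => hk (by
      have := h ▸ mem_univ k
      simpa using this)
    obtain ⟨i, hi, j, hj, hij⟩ := T.connected _ hIne hIu
    simp only [mem_filter, mem_univ, true_and] at hi hj
    have hne : i ≠ j := fun h => hj (h ▸ hi)
    have hadj : G.Adj i j := ⟨hne, hij⟩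
    exact hj (hi.trans hadj.reachable)
  have hconn : G.Connected :=
    { preconnected := fun a b => (hreach a).symm.trans (hreach b)
      nonempty := ⟨i0⟩ }
  have h1 := hconn.card_vert_le_card_edgeSet_add_one
  rw [Nat.card_eq_fintype_card, Fintype.card_fin] at h1
  refine h1.trans (Nat.add_le_add_right ?_ 1)
  -- edges inject into ordered pairs
  unfold Models.NumericalType.edgeCount
  rw [Nat.card_eq_fintype_card, ← Finset.card_univ]
  refine Finset.card_le_card_of_injOn
    (fun e : G.edgeSet => ((Sym2.lift ⟨fun a b => (min a b, max a b), fun a b => by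
      simp [min_comm, max_comm]⟩ : Sym2 (Fin n) → Fin n × Fin n) e.1)) ?_ ?_
  · rintro ⟨e, he⟩ _
    induction e using Sym2.ind with
    | h a b =>
      rw [SimpleGraph.mem_edgeSet] at he
      obtain ⟨hab, hne⟩ : a ≠ b ∧ T.a a b ≠ 0 := he
      simp only [Sym2.lift_mk, Finset.coe_filter, Finset.mem_univ, true_and, Set.mem_ofPred_eq]
      rcases lt_or_gt_of_ne hab with h | h
      · rw [min_eq_left h.le, max_eq_right h.le]
        exact ⟨h, lt_of_le_of_ne (T.offDiag_nonneg a b hab) (Ne.symm hne)⟩
      · rw [min_eq_right h.le, max_eq_left h.le]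
        refine ⟨h, lt_of_le_of_ne (T.offDiag_nonneg b a hab.symm) (Ne.symm ?_)⟩
        rwa [T.symm.apply a b]
  · rintro ⟨e, he⟩ _ ⟨e', he'⟩ _ heq
    apply Subtype.ext
    induction e using Sym2.ind with
    | h a b =>
      induction e' using Sym2.ind with
      | h c d =>
        simp only [Sym2.lift_mk, Prod.mk.injEq] at heq
        obtain ⟨h1, h2⟩ := heq
        show s(a, b) = s(c, d)
        rw [Sym2.eq_iff]
        rcases le_total a b with hab | hab <;> rcases le_total c d with hcd | hcd
        · rw [min_eq_left hab, min_eq_left hcd] at h1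
          rw [max_eq_right hab, max_eq_right hcd] at h2
          exact Or.inl ⟨h1, h2⟩
        · rw [min_eq_left hab, min_eq_right hcd] at h1
          rw [max_eq_right hab, max_eq_left hcd] at h2
          exact Or.inr ⟨h1, h2⟩
        · rw [min_eq_right hab, min_eq_left hcd] at h1
          rw [max_eq_left hab, max_eq_right hcd] at h2
          exact Or.inr ⟨h2, h1⟩
        · rw [min_eq_right hab, min_eq_right hcd] at h1
          rw [max_eq_left hab, max_eq_left hcd] at h2
          exact Or.inl ⟨h2, h1⟩

/-- For a numerical type T on n indices with e pairs i < j such that a_ij > 0, the topological genus 1 -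
n + e is ≥ 0. -/
theorem result {n : ℕ} (T : Models.NumericalType n) : 0 ≤ T.topGenus := by
  have := edge_bound T
  unfold Models.NumericalType.topGenus
  omega

end Groth.Agent.S7318
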