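import Groth.Statements.S7341
import Mathlib
import Groth.Agent.Lib.Models3_helper5

set_option autoImplicit false
open Finset
open Models Models.NumericalType

namespace Groth.Agent.S7341

/-- Classification of proper subgraphs which are chains of three vertices: let T be a numerical type on
n > 3 indices and i, j, k distinct (-2)-indices with a_ij > 0 and a_jk > 0. Then a_ik = 0 and, up to
reversing the order of i, j, k, one of the following holds for some integer w: (A3) w_i = w_j = w_k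
= w, a_ij = a_jk = w, with 2 m_i ≥ m_j, 2 m_j ≥ m_i + m_k, 2 m_k ≥ m_j; (C3) w_i = w_j = w, w_k =
2w, a_ij = w, a_jk = 2w, with 2 m_i ≥ m_j, 2 m_j ≥ m_i + 2 m_k, 2 m_k ≥ m_j; (B3) w_i = w_j = 2w,
w_k = w, a_ij = a_jk = 2w, with 2 m_i ≥ m_j, 2 m_j ≥ m_i + m_k, m_k ≥ m_j. -/
theorem result {n : ℕ} (T : Models.NumericalType n) (hn : 3 < n) (i j k : Fin n)
    (hij : i ≠ j) (hjk : j ≠ k) (hik : i ≠ k) (hi : T.IsMinusTwo i) (hj : T.IsMinusTwo j) (hk : T.IsMinusTwo k)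
    (h1 : 0 < T.a i j) (h2 : 0 < T.a j k) :
    T.a i k = 0 ∧ ∃ (i' k' : Fin n) (w : ℤ), ((i' = i ∧ k' = k) ∨ (i' = k ∧ k' = i)) ∧
      ((T.w i' = w ∧ T.w j = w ∧ T.w k' = w ∧ T.a i' j = w ∧ T.a j k' = w ∧
          T.m j ≤ 2 * T.m i' ∧ T.m i' + T.m k' ≤ 2 * T.m j ∧ T.m j ≤ 2 * T.m k') ∨
        (T.w i' = w ∧ T.w j = w ∧ T.w k' = 2 * w ∧ T.a i' j = w ∧ T.a j k' = 2 * w ∧
          T.m j ≤ 2 * T.m i' ∧ T.m i' + 2 * T.m k' ≤ 2 * T.m j ∧ T.m j ≤ 2 * T.m k') ∨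
        (T.w i' = 2 * w ∧ T.w j = 2 * w ∧ T.w k' = w ∧ T.a i' j = 2 * w ∧ T.a j k' = 2 * w ∧
          T.m j ≤ 2 * T.m i' ∧ T.m i' + T.m k' ≤ 2 * T.m j ∧ T.m j ≤ T.m k')) := by
  classical
  obtain ⟨v, hv0, hv1, hv2⟩ : ∃ v : Fin 3 ↪ Fin n, v 0 = i ∧ v 1 = j ∧ v 2 = k := by
    refine ⟨⟨![i, j, k], ?_⟩, rfl, rfl, rfl⟩
    intro a b hab
    fin_cases a <;> fin_cases b <;> simp at hab ⊢ <;> first | exact hij hab | exact hij hab.symm | exact hjk hab | exact hjk hab.symm | exact hik hab | exact hik hab.symm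
  subst hv0 hv1 hv2
  have hv : ∀ j, T.IsMinusTwo (v j) := by
    intro j; fin_cases j
    exacts [hi, hj, hk]
  have h01 : T.a (v 0) (v 1) ≠ 0 := h1.ne'
  have h12 : T.a (v 1) (v 2) ≠ 0 := h2.ne'
  have hne : ∀ j k : Fin 3, j ≠ k → v j ≠ v k := fun j k h e => h (v.injective e)
  have hnn : ∀ j k : Fin 3, j ≠ k → 0 ≤ T.a (v j) (v k) :=
    fun j k h => Groth.Agent.Lib.ModelsH5.emb_offDiag_nonneg T v j k h
  have hs : ∀ j k : Fin 3, T.a (v k) (v j) = T.a (v j) (v k) :=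
    fun j k => Groth.Agent.Lib.ModelsH5.emb_symm T v j k
  have hd : ∀ j : Fin 3, T.a (v j) (v j) = -2 * T.w (v j) := fun j => (hv j).2
  have nz_0_1 : T.a (v 0) (v 1) ≠ 0 := h01
  have nz_1_0 : T.a (v 1) (v 0) ≠ 0 := by rw [hs 0 1]; exact nz_0_1
  have E_0_1 : T.w (v 0) ≤ T.a (v 0) (v 1) := Groth.Agent.Lib.ModelsH5.w_le_of_ne_zero T _ _ (hne 0 1 (by decide)) nz_0_1
  have E_1_0 : T.w (v 1) ≤ T.a (v 1) (v 0) := Groth.Agent.Lib.ModelsH5.w_le_of_ne_zero T _ _ (hne 1 0 (by decide)) nz_1_0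
  have nz_1_2 : T.a (v 1) (v 2) ≠ 0 := h12
  have nz_2_1 : T.a (v 2) (v 1) ≠ 0 := by rw [hs 1 2]; exact nz_1_2
  have E_1_2 : T.w (v 1) ≤ T.a (v 1) (v 2) := Groth.Agent.Lib.ModelsH5.w_le_of_ne_zero T _ _ (hne 1 2 (by decide)) nz_1_2
  have E_2_1 : T.w (v 2) ≤ T.a (v 2) (v 1) := Groth.Agent.Lib.ModelsH5.w_le_of_ne_zero T _ _ (hne 2 1 (by decide)) nz_2_1
  have z_0_2 : T.a (v 0) (v 2) = 0 := by
    by_contra hnz
    have hnz' : T.a (v 2) (v 0) ≠ 0 := by rw [hs 0 2]; exact hnz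
    have B1 : T.w (v 0) ≤ T.a (v 0) (v 2) := Groth.Agent.Lib.ModelsH5.w_le_of_ne_zero T _ _ (hne 0 2 (by decide)) hnz
    have B2 : T.w (v 2) ≤ T.a (v 2) (v 0) := Groth.Agent.Lib.ModelsH5.w_le_of_ne_zero T _ _ (hne 2 0 (by decide)) hnz'
    refine Groth.Agent.Lib.ModelsH5.no_superharmonic T v (by omega) ![1, 1, 1] ?_ ⟨0, by simp⟩ ?_
    · intro k; fin_cases k <;> simp
    · intro j hj
      fin_cases j <;> simp [Fin.sum_univ_succ] at hj ⊢
      · linarith [hd 0, E_0_1, B1]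
      · linarith [hd 1, E_1_0, E_1_2]
      · linarith [hd 2, B2, E_2_1]
  have t_0_1 : T.a (v 0) (v 1) = T.w (v 0) ∨ T.a (v 0) (v 1) = 2 * T.w (v 0) := by
    rcases Groth.Agent.Lib.ModelsH5.eq_or_eq_two_or_three_le T (v 0) (v 1) (hne 0 1 (by decide)) nz_0_1 with h | h | h
    · exact Or.inl h
    · exact Or.inr h
    · exfalso
      refine Groth.Agent.Lib.ModelsH5.no_superharmonic T v (by omega) ![3, 2, 1] ?_ ⟨0, by simp⟩ ?_
      · intro k; fin_cases k <;> simp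
      · intro j hj
        fin_cases j <;> simp [Fin.sum_univ_succ] at hj ⊢
        · linarith [hd 0, h, hnn 0 2 (by decide)]
        · linarith [hd 1, E_1_0, E_1_2]
        · linarith [hd 2, hnn 2 0 (by decide), E_2_1]
  have t_1_0 : T.a (v 1) (v 0) = T.w (v 1) ∨ T.a (v 1) (v 0) = 2 * T.w (v 1) := by
    rcases Groth.Agent.Lib.ModelsH5.eq_or_eq_two_or_three_le T (v 1) (v 0) (hne 1 0 (by decide)) nz_1_0 with h | h | h
    · exact Or.inl h
    · exact Or.inr h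
    · exfalso
      refine Groth.Agent.Lib.ModelsH5.no_superharmonic T v (by omega) ![1, 2, 1] ?_ ⟨0, by simp⟩ ?_
      · intro k; fin_cases k <;> simp
      · intro j hj
        fin_cases j <;> simp [Fin.sum_univ_succ] at hj ⊢
        · linarith [hd 0, E_0_1, hnn 0 2 (by decide)]
        · linarith [hd 1, h, E_1_2]
        · linarith [hd 2, hnn 2 0 (by decide), E_2_1]
  have t_1_2 : T.a (v 1) (v 2) = T.w (v 1) ∨ T.a (v 1) (v 2) = 2 * T.w (v 1) := by
    rcases Groth.Agent.Lib.ModelsH5.eq_or_eq_two_or_three_le T (v 1) (v 2) (hne 1 2 (by decide)) nz_1_2 with h | h | h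
    · exact Or.inl h
    · exact Or.inr h
    · exfalso
      refine Groth.Agent.Lib.ModelsH5.no_superharmonic T v (by omega) ![1, 2, 1] ?_ ⟨0, by simp⟩ ?_
      · intro k; fin_cases k <;> simp
      · intro j hj
        fin_cases j <;> simp [Fin.sum_univ_succ] at hj ⊢
        · linarith [hd 0, E_0_1, hnn 0 2 (by decide)]
        · linarith [hd 1, E_1_0, h]
        · linarith [hd 2, hnn 2 0 (by decide), E_2_1]
  have t_2_1 : T.a (v 2) (v 1) = T.w (v 2) ∨ T.a (v 2) (v 1) = 2 * T.w (v 2) := by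
    rcases Groth.Agent.Lib.ModelsH5.eq_or_eq_two_or_three_le T (v 2) (v 1) (hne 2 1 (by decide)) nz_2_1 with h | h | h
    · exact Or.inl h
    · exact Or.inr h
    · exfalso
      refine Groth.Agent.Lib.ModelsH5.no_superharmonic T v (by omega) ![1, 2, 3] ?_ ⟨0, by simp⟩ ?_
      · intro k; fin_cases k <;> simp
      · intro j hj
        fin_cases j <;> simp [Fin.sum_univ_succ] at hj ⊢
        · linarith [hd 0, E_0_1, hnn 0 2 (by decide)]
        · linarith [hd 1, E_1_0, E_1_2]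
        · linarith [hd 2, hnn 2 0 (by decide), h]
  have np_0_1_1_0 : T.a (v 0) (v 1) = 2 * T.w (v 0) → T.a (v 1) (v 0) = 2 * T.w (v 1) → False := by
    intro h1 h2
    refine Groth.Agent.Lib.ModelsH5.no_superharmonic T v (by omega) ![1, 1, 0] ?_ ⟨0, by simp⟩ ?_
    · intro k; fin_cases k <;> simp
    · intro j hj
      fin_cases j <;> simp [Fin.sum_univ_succ] at hj ⊢
      · linarith [hd 0, h1]
      · linarith [hd 1, h2]
  have np_0_1_1_2 : T.a (v 0) (v 1) = 2 * T.w (v 0) → T.a (v 1) (v 2) = 2 * T.w (v 1) → False := by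
    intro h1 h2
    refine Groth.Agent.Lib.ModelsH5.no_superharmonic T v (by omega) ![2, 2, 1] ?_ ⟨0, by simp⟩ ?_
    · intro k; fin_cases k <;> simp
    · intro j hj
      fin_cases j <;> simp [Fin.sum_univ_succ] at hj ⊢
      · linarith [hd 0, h1, hnn 0 2 (by decide)]
      · linarith [hd 1, E_1_0, h2]
      · linarith [hd 2, hnn 2 0 (by decide), E_2_1]
  have np_0_1_2_1 : T.a (v 0) (v 1) = 2 * T.w (v 0) → T.a (v 2) (v 1) = 2 * T.w (v 2) → False := by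
    intro h1 h2
    refine Groth.Agent.Lib.ModelsH5.no_superharmonic T v (by omega) ![1, 1, 1] ?_ ⟨0, by simp⟩ ?_
    · intro k; fin_cases k <;> simp
    · intro j hj
      fin_cases j <;> simp [Fin.sum_univ_succ] at hj ⊢
      · linarith [hd 0, h1, hnn 0 2 (by decide)]
      · linarith [hd 1, E_1_0, E_1_2]
      · linarith [hd 2, hnn 2 0 (by decide), h2]
  have np_1_0_1_2 : T.a (v 1) (v 0) = 2 * T.w (v 1) → T.a (v 1) (v 2) = 2 * T.w (v 1) → False := by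
    intro h1 h2
    refine Groth.Agent.Lib.ModelsH5.no_superharmonic T v (by omega) ![1, 2, 1] ?_ ⟨0, by simp⟩ ?_
    · intro k; fin_cases k <;> simp
    · intro j hj
      fin_cases j <;> simp [Fin.sum_univ_succ] at hj ⊢
      · linarith [hd 0, E_0_1, hnn 0 2 (by decide)]
      · linarith [hd 1, h1, h2]
      · linarith [hd 2, hnn 2 0 (by decide), E_2_1]
  have np_1_0_2_1 : T.a (v 1) (v 0) = 2 * T.w (v 1) → T.a (v 2) (v 1) = 2 * T.w (v 2) → False := by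
    intro h1 h2
    refine Groth.Agent.Lib.ModelsH5.no_superharmonic T v (by omega) ![1, 2, 2] ?_ ⟨0, by simp⟩ ?_
    · intro k; fin_cases k <;> simp
    · intro j hj
      fin_cases j <;> simp [Fin.sum_univ_succ] at hj ⊢
      · linarith [hd 0, E_0_1, hnn 0 2 (by decide)]
      · linarith [hd 1, h1, E_1_2]
      · linarith [hd 2, hnn 2 0 (by decide), h2]
  have np_1_2_2_1 : T.a (v 1) (v 2) = 2 * T.w (v 1) → T.a (v 2) (v 1) = 2 * T.w (v 2) → False := by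
    intro h1 h2
    refine Groth.Agent.Lib.ModelsH5.no_superharmonic T v (by omega) ![0, 1, 1] ?_ ⟨1, by simp⟩ ?_
    · intro k; fin_cases k <;> simp
    · intro j hj
      fin_cases j <;> simp [Fin.sum_univ_succ] at hj ⊢
      · linarith [hd 1, h1]
      · linarith [hd 2, h2]
  refine ⟨z_0_2, ?_⟩
  rcases t_0_1 with s_0_1 | d_0_1
  swap
  · have s_1_0 := t_1_0.resolve_right (fun dd => np_0_1_1_0 d_0_1 dd)
    have s_1_2 := t_1_2.resolve_right (fun dd => np_0_1_1_2 d_0_1 dd)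
    have s_2_1 := t_2_1.resolve_right (fun dd => np_0_1_2_1 d_0_1 dd)
    have W_1 : T.w (v 1) = 2 * T.w (v 0) := by linarith [d_0_1, s_1_0, s_1_2, s_2_1, hs 0 1, hs 1 2]
    have W_2 : T.w (v 2) = 2 * T.w (v 0) := by linarith [d_0_1, s_1_0, s_1_2, s_2_1, hs 0 1, hs 1 2]
    have W_0 : T.w (v 0) = T.w (v 0) := rfl
    have A_0_1 : T.a (v 0) (v 1) = 2 * T.w (v 0) := by linarith [d_0_1, s_1_0, s_1_2, s_2_1, hs 0 1, hs 1 2]
    have A_0_2 : T.a (v 0) (v 2) = 0 := z_0_2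
    have A_1_0 : T.a (v 1) (v 0) = 2 * T.w (v 0) := by linarith [d_0_1, s_1_0, s_1_2, s_2_1, hs 0 1, hs 1 2]
    have A_1_2 : T.a (v 1) (v 2) = 2 * T.w (v 0) := by linarith [d_0_1, s_1_0, s_1_2, s_2_1, hs 0 1, hs 1 2]
    have A_2_0 : T.a (v 2) (v 0) = 0 := by rw [hs 0 2]; exact z_0_2
    have A_2_1 : T.a (v 2) (v 1) = 2 * T.w (v 0) := by linarith [d_0_1, s_1_0, s_1_2, s_2_1, hs 0 1, hs 1 2]
    have I_0 : T.m (v 1) ≤ 2 * T.m (v 2) := by
      have r := Groth.Agent.Lib.ModelsH5.emb_row_nonpos T v 2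
      rw [Fin.sum_univ_three] at r
      simp only [A_2_0, A_2_1, hd 2, W_2] at r
      by_contra hcon
      push Not at hcon
      have := mul_pos (T.w_pos (v 0)) (sub_pos.2 hcon)
      linarith
    have I_1 : T.m (v 2) + T.m (v 0) ≤ 2 * T.m (v 1) := by
      have r := Groth.Agent.Lib.ModelsH5.emb_row_nonpos T v 1
      rw [Fin.sum_univ_three] at r
      simp only [A_1_0, A_1_2, hd 1, W_1] at r
      by_contra hcon
      push Not at hcon
      have := mul_pos (T.w_pos (v 0)) (sub_pos.2 hcon)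
      linarith
    have I_2 : T.m (v 1) ≤ T.m (v 0) := by
      have r := Groth.Agent.Lib.ModelsH5.emb_row_nonpos T v 0
      rw [Fin.sum_univ_three] at r
      simp only [A_0_1, A_0_2, hd 0] at r
      by_contra hcon
      push Not at hcon
      have := mul_pos (T.w_pos (v 0)) (sub_pos.2 hcon)
      linarith
    exact ⟨v 2, v 0, T.w (v 0), Or.inr ⟨rfl, rfl⟩, Or.inr (Or.inr (⟨W_2, W_1, W_0, A_2_1, A_1_0, I_0, I_1, I_2⟩))⟩
  rcases t_1_0 with s_1_0 | d_1_0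
  swap
  · have s_1_2 := t_1_2.resolve_right (fun dd => np_1_0_1_2 d_1_0 dd)
    have s_2_1 := t_2_1.resolve_right (fun dd => np_1_0_2_1 d_1_0 dd)
    have W_0 : T.w (v 0) = 2 * T.w (v 1) := by linarith [s_0_1, d_1_0, s_1_2, s_2_1, hs 0 1, hs 1 2]
    have W_2 : T.w (v 2) = T.w (v 1) := by linarith [s_0_1, d_1_0, s_1_2, s_2_1, hs 0 1, hs 1 2]
    have W_1 : T.w (v 1) = T.w (v 1) := rfl
    have A_0_1 : T.a (v 0) (v 1) = 2 * T.w (v 1) := by linarith [s_0_1, d_1_0, s_1_2, s_2_1, hs 0 1, hs 1 2]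
    have A_0_2 : T.a (v 0) (v 2) = 0 := z_0_2
    have A_1_0 : T.a (v 1) (v 0) = 2 * T.w (v 1) := by linarith [s_0_1, d_1_0, s_1_2, s_2_1, hs 0 1, hs 1 2]
    have A_1_2 : T.a (v 1) (v 2) = T.w (v 1) := by linarith [s_0_1, d_1_0, s_1_2, s_2_1, hs 0 1, hs 1 2]
    have A_2_0 : T.a (v 2) (v 0) = 0 := by rw [hs 0 2]; exact z_0_2
    have A_2_1 : T.a (v 2) (v 1) = T.w (v 1) := by linarith [s_0_1, d_1_0, s_1_2, s_2_1, hs 0 1, hs 1 2]
    have I_0 : T.m (v 1) ≤ 2 * T.m (v 2) := by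
      have r := Groth.Agent.Lib.ModelsH5.emb_row_nonpos T v 2
      rw [Fin.sum_univ_three] at r
      simp only [A_2_0, A_2_1, hd 2, W_2] at r
      by_contra hcon
      push Not at hcon
      have := mul_pos (T.w_pos (v 1)) (sub_pos.2 hcon)
      linarith
    have I_1 : T.m (v 2) + 2 * T.m (v 0) ≤ 2 * T.m (v 1) := by
      have r := Groth.Agent.Lib.ModelsH5.emb_row_nonpos T v 1
      rw [Fin.sum_univ_three] at r
      simp only [A_1_0, A_1_2, hd 1] at r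
      by_contra hcon
      push Not at hcon
      have := mul_pos (T.w_pos (v 1)) (sub_pos.2 hcon)
      linarith
    have I_2 : T.m (v 1) ≤ 2 * T.m (v 0) := by
      have r := Groth.Agent.Lib.ModelsH5.emb_row_nonpos T v 0
      rw [Fin.sum_univ_three] at r
      simp only [A_0_1, A_0_2, hd 0, W_0] at r
      by_contra hcon
      push Not at hcon
      have := mul_pos (T.w_pos (v 1)) (sub_pos.2 hcon)
      linarith
    exact ⟨v 2, v 0, T.w (v 1), Or.inr ⟨rfl, rfl⟩, Or.inr (Or.inl ⟨W_2, W_1, W_0, A_2_1, A_1_0, I_0, I_1, I_2⟩)⟩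
  rcases t_1_2 with s_1_2 | d_1_2
  swap
  · have s_2_1 := t_2_1.resolve_right (fun dd => np_1_2_2_1 d_1_2 dd)
    have W_0 : T.w (v 0) = T.w (v 1) := by linarith [s_0_1, s_1_0, d_1_2, s_2_1, hs 0 1, hs 1 2]
    have W_2 : T.w (v 2) = 2 * T.w (v 1) := by linarith [s_0_1, s_1_0, d_1_2, s_2_1, hs 0 1, hs 1 2]
    have W_1 : T.w (v 1) = T.w (v 1) := rfl
    have A_0_1 : T.a (v 0) (v 1) = T.w (v 1) := by linarith [s_0_1, s_1_0, d_1_2, s_2_1, hs 0 1, hs 1 2]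
    have A_0_2 : T.a (v 0) (v 2) = 0 := z_0_2
    have A_1_0 : T.a (v 1) (v 0) = T.w (v 1) := by linarith [s_0_1, s_1_0, d_1_2, s_2_1, hs 0 1, hs 1 2]
    have A_1_2 : T.a (v 1) (v 2) = 2 * T.w (v 1) := by linarith [s_0_1, s_1_0, d_1_2, s_2_1, hs 0 1, hs 1 2]
    have A_2_0 : T.a (v 2) (v 0) = 0 := by rw [hs 0 2]; exact z_0_2
    have A_2_1 : T.a (v 2) (v 1) = 2 * T.w (v 1) := by linarith [s_0_1, s_1_0, d_1_2, s_2_1, hs 0 1, hs 1 2]
    have I_0 : T.m (v 1) ≤ 2 * T.m (v 0) := by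
      have r := Groth.Agent.Lib.ModelsH5.emb_row_nonpos T v 0
      rw [Fin.sum_univ_three] at r
      simp only [A_0_1, A_0_2, hd 0, W_0] at r
      by_contra hcon
      push Not at hcon
      have := mul_pos (T.w_pos (v 1)) (sub_pos.2 hcon)
      linarith
    have I_1 : T.m (v 0) + 2 * T.m (v 2) ≤ 2 * T.m (v 1) := by
      have r := Groth.Agent.Lib.ModelsH5.emb_row_nonpos T v 1
      rw [Fin.sum_univ_three] at r
      simp only [A_1_0, A_1_2, hd 1] at r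
      by_contra hcon
      push Not at hcon
      have := mul_pos (T.w_pos (v 1)) (sub_pos.2 hcon)
      linarith
    have I_2 : T.m (v 1) ≤ 2 * T.m (v 2) := by
      have r := Groth.Agent.Lib.ModelsH5.emb_row_nonpos T v 2
      rw [Fin.sum_univ_three] at r
      simp only [A_2_0, A_2_1, hd 2, W_2] at r
      by_contra hcon
      push Not at hcon
      have := mul_pos (T.w_pos (v 1)) (sub_pos.2 hcon)
      linarith
    exact ⟨v 0, v 2, T.w (v 1), Or.inl ⟨rfl, rfl⟩, Or.inr (Or.inl ⟨W_0, W_1, W_2, A_0_1, A_1_2, I_0, I_1, I_2⟩)⟩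
  rcases t_2_1 with s_2_1 | d_2_1
  swap
  · have W_0 : T.w (v 0) = 2 * T.w (v 2) := by linarith [s_0_1, s_1_0, s_1_2, d_2_1, hs 0 1, hs 1 2]
    have W_1 : T.w (v 1) = 2 * T.w (v 2) := by linarith [s_0_1, s_1_0, s_1_2, d_2_1, hs 0 1, hs 1 2]
    have W_2 : T.w (v 2) = T.w (v 2) := rfl
    have A_0_1 : T.a (v 0) (v 1) = 2 * T.w (v 2) := by linarith [s_0_1, s_1_0, s_1_2, d_2_1, hs 0 1, hs 1 2]
    have A_0_2 : T.a (v 0) (v 2) = 0 := z_0_2
    have A_1_0 : T.a (v 1) (v 0) = 2 * T.w (v 2) := by linarith [s_0_1, s_1_0, s_1_2, d_2_1, hs 0 1, hs 1 2]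
    have A_1_2 : T.a (v 1) (v 2) = 2 * T.w (v 2) := by linarith [s_0_1, s_1_0, s_1_2, d_2_1, hs 0 1, hs 1 2]
    have A_2_0 : T.a (v 2) (v 0) = 0 := by rw [hs 0 2]; exact z_0_2
    have A_2_1 : T.a (v 2) (v 1) = 2 * T.w (v 2) := by linarith [s_0_1, s_1_0, s_1_2, d_2_1, hs 0 1, hs 1 2]
    have I_0 : T.m (v 1) ≤ 2 * T.m (v 0) := by
      have r := Groth.Agent.Lib.ModelsH5.emb_row_nonpos T v 0
      rw [Fin.sum_univ_three] at r
      simp only [A_0_1, A_0_2, hd 0, W_0] at r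
      by_contra hcon
      push Not at hcon
      have := mul_pos (T.w_pos (v 2)) (sub_pos.2 hcon)
      linarith
    have I_1 : T.m (v 0) + T.m (v 2) ≤ 2 * T.m (v 1) := by
      have r := Groth.Agent.Lib.ModelsH5.emb_row_nonpos T v 1
      rw [Fin.sum_univ_three] at r
      simp only [A_1_0, A_1_2, hd 1, W_1] at r
      by_contra hcon
      push Not at hcon
      have := mul_pos (T.w_pos (v 2)) (sub_pos.2 hcon)
      linarith
    have I_2 : T.m (v 1) ≤ T.m (v 2) := by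
      have r := Groth.Agent.Lib.ModelsH5.emb_row_nonpos T v 2
      rw [Fin.sum_univ_three] at r
      simp only [A_2_0, A_2_1, hd 2] at r
      by_contra hcon
      push Not at hcon
      have := mul_pos (T.w_pos (v 2)) (sub_pos.2 hcon)
      linarith
    exact ⟨v 0, v 2, T.w (v 2), Or.inl ⟨rfl, rfl⟩, Or.inr (Or.inr (⟨W_0, W_1, W_2, A_0_1, A_1_2, I_0, I_1, I_2⟩))⟩
  have W_1 : T.w (v 1) = T.w (v 0) := by linarith [s_0_1, s_1_0, s_1_2, s_2_1, hs 0 1, hs 1 2]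
  have W_2 : T.w (v 2) = T.w (v 0) := by linarith [s_0_1, s_1_0, s_1_2, s_2_1, hs 0 1, hs 1 2]
  have W_0 : T.w (v 0) = T.w (v 0) := rfl
  have A_0_1 : T.a (v 0) (v 1) = T.w (v 0) := by linarith [s_0_1, s_1_0, s_1_2, s_2_1, hs 0 1, hs 1 2]
  have A_0_2 : T.a (v 0) (v 2) = 0 := z_0_2
  have A_1_0 : T.a (v 1) (v 0) = T.w (v 0) := by linarith [s_0_1, s_1_0, s_1_2, s_2_1, hs 0 1, hs 1 2]
  have A_1_2 : T.a (v 1) (v 2) = T.w (v 0) := by linarith [s_0_1, s_1_0, s_1_2, s_2_1, hs 0 1, hs 1 2]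
  have A_2_0 : T.a (v 2) (v 0) = 0 := by rw [hs 0 2]; exact z_0_2
  have A_2_1 : T.a (v 2) (v 1) = T.w (v 0) := by linarith [s_0_1, s_1_0, s_1_2, s_2_1, hs 0 1, hs 1 2]
  have I_0 : T.m (v 1) ≤ 2 * T.m (v 0) := by
    have r := Groth.Agent.Lib.ModelsH5.emb_row_nonpos T v 0
    rw [Fin.sum_univ_three] at r
    simp only [A_0_1, A_0_2, hd 0] at r
    by_contra hcon
    push Not at hcon
    have := mul_pos (T.w_pos (v 0)) (sub_pos.2 hcon)
    linarith
  have I_1 : T.m (v 0) + T.m (v 2) ≤ 2 * T.m (v 1) := by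
    have r := Groth.Agent.Lib.ModelsH5.emb_row_nonpos T v 1
    rw [Fin.sum_univ_three] at r
    simp only [A_1_0, A_1_2, hd 1, W_1] at r
    by_contra hcon
    push Not at hcon
    have := mul_pos (T.w_pos (v 0)) (sub_pos.2 hcon)
    linarith
  have I_2 : T.m (v 1) ≤ 2 * T.m (v 2) := by
    have r := Groth.Agent.Lib.ModelsH5.emb_row_nonpos T v 2
    rw [Fin.sum_univ_three] at r
    simp only [A_2_0, A_2_1, hd 2, W_2] at r
    by_contra hcon
    push Not at hcon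
    have := mul_pos (T.w_pos (v 0)) (sub_pos.2 hcon)
    linarith
  exact ⟨v 0, v 2, T.w (v 0), Or.inl ⟨rfl, rfl⟩, Or.inl ⟨W_0, W_1, W_2, A_0_1, A_1_2, I_0, I_1, I_2⟩⟩

end Groth.Agent.S7341
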