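import Groth.Statements.S7342
import Mathlib
import Groth.Agent.Lib.Models5_helper5

set_option autoImplicit false
open Finset
open Models Models.NumericalType

namespace Groth.Agent.S7342

/-- Let T be a numerical type on n indices, t ≥ 4 and n > t + 2. Then no t + 2 (-2)-indices of T,
pairwise distinct and numbered i_0, …, i_{t+1}, satisfy: a_{i_j i_{j+1}} > 0 for 1 ≤ j ≤ t - 1,
a_{i_0 i_2} > 0 and a_{i_{t-1} i_{t+1}} > 0. -/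
theorem result {n : ℕ} (T : Models.NumericalType n) (t : ℕ) (ht : 4 ≤ t) (hn : t + 2 < n)
    (v : Fin (t + 2) ↪ Fin n) (hv : ∀ j, T.IsMinusTwo (v j))
    (hchain : ∀ j j' : Fin (t + 2), 1 ≤ j.val → j.val + 1 ≤ t → j'.val = j.val + 1 → 0 < T.a (v j) (v j'))
    (h02 : ∀ j j' : Fin (t + 2), j.val = 0 → j'.val = 2 → 0 < T.a (v j) (v j'))
    (hlast : ∀ j j' : Fin (t + 2), j.val = t - 1 → j'.val = t + 1 → 0 < T.a (v j) (v j')) : False := by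
  classical
  let c : Fin (t + 2) → ℤ := fun k =>
    if k.val = 0 ∨ k.val = 1 ∨ k.val = t ∨ k.val = t + 1 then 1 else 2
  have hc1 : ∀ k : Fin (t + 2), (k.val = 0 ∨ k.val = 1 ∨ k.val = t ∨ k.val = t + 1) → c k = 1 :=
    fun k hk => if_pos hk
  have hc2 : ∀ k : Fin (t + 2), ¬ (k.val = 0 ∨ k.val = 1 ∨ k.val = t ∨ k.val = t + 1) → c k = 2 :=
    fun k hk => if_neg hk
  have hc : ∀ k, 0 ≤ c k := fun k => by
    by_cases hk : (k.val = 0 ∨ k.val = 1 ∨ k.val = t ∨ k.val = t + 1)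
    · rw [hc1 k hk]; norm_num
    · rw [hc2 k hk]; norm_num
  have fne : ∀ (a b : ℕ) (ha : a < t + 2) (hb : b < t + 2), a ≠ b →
      (⟨a, ha⟩ : Fin (t + 2)) ≠ ⟨b, hb⟩ := fun a b ha hb h e => h (congrArg Fin.val e)
  have EB : ∀ j k : Fin (t + 2), 0 < T.a (v j) (v k) → j ≠ k →
      1 * T.w (v j) ≤ T.a (v j) (v k) ∧ 1 * T.w (v k) ≤ T.a (v k) (v j) :=
    fun j k h hjk => Groth.Agent.Lib.ModelsH5.edge_bounds T v hv j k h.ne' hjk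
  refine Groth.Agent.Lib.ModelsH5.no_superharmonic T v (by omega) c hc
    ⟨⟨0, by omega⟩, by rw [hc1 _ (Or.inl rfl)]; norm_num⟩ ?_
  intro j _
  obtain ⟨jv, hj⟩ := j
  rcases (show jv = 0 ∨ jv = 1 ∨ jv = 2 ∨ (3 ≤ jv ∧ jv + 2 ≤ t) ∨ jv = t - 1 ∨ jv = t ∨ jv = t + 1
    by omega) with h | h | h | h | h | h | h
  · subst h
    have e := (EB ⟨0, hj⟩ ⟨2, by omega⟩ (h02 _ _ rfl rfl) (fne _ _ _ _ (by omega))).1
    refine Groth.Agent.Lib.ModelsH5.row1 T v hv c hc ⟨0, hj⟩ ⟨2, by omega⟩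
      (fne _ _ _ _ (by omega)) 1 e ?_
    rw [hc1 ⟨0, hj⟩ (Or.inl rfl),
      hc2 ⟨2, by omega⟩ (by show ¬ (2 = 0 ∨ 2 = 1 ∨ 2 = t ∨ 2 = t + 1); omega)]
    norm_num
  · subst h
    have e := (EB ⟨1, hj⟩ ⟨2, by omega⟩ (hchain _ _ (le_refl 1) (by show 1 + 1 ≤ t; omega) rfl)
      (fne _ _ _ _ (by omega))).1
    refine Groth.Agent.Lib.ModelsH5.row1 T v hv c hc ⟨1, hj⟩ ⟨2, by omega⟩
      (fne _ _ _ _ (by omega)) 1 e ?_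
    rw [hc1 ⟨1, hj⟩ (Or.inr (Or.inl rfl)),
      hc2 ⟨2, by omega⟩ (by show ¬ (2 = 0 ∨ 2 = 1 ∨ 2 = t ∨ 2 = t + 1); omega)]
    norm_num
  · subst h
    have e0 := (EB ⟨0, by omega⟩ ⟨2, hj⟩ (h02 _ _ rfl rfl) (fne _ _ _ _ (by omega))).2
    have e1 := (EB ⟨1, by omega⟩ ⟨2, hj⟩ (hchain _ _ (le_refl 1) (by show 1 + 1 ≤ t; omega) rfl)
      (fne _ _ _ _ (by omega))).2
    have e3 := (EB ⟨2, hj⟩ ⟨3, by omega⟩ (hchain _ _ (by show 1 ≤ 2; omega)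
      (by show 2 + 1 ≤ t; omega) rfl) (fne _ _ _ _ (by omega))).1
    refine Groth.Agent.Lib.ModelsH5.row3 T v hv c hc ⟨2, hj⟩ ⟨0, by omega⟩ ⟨1, by omega⟩ ⟨3, by omega⟩
      (fne _ _ _ _ (by omega)) (fne _ _ _ _ (by omega)) (fne _ _ _ _ (by omega))
      (fne _ _ _ _ (by omega)) (fne _ _ _ _ (by omega)) (fne _ _ _ _ (by omega)) 1 1 1 e0 e1 e3 ?_
    rw [hc2 ⟨2, hj⟩ (by show ¬ (2 = 0 ∨ 2 = 1 ∨ 2 = t ∨ 2 = t + 1); omega),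
      hc1 ⟨0, by omega⟩ (Or.inl rfl), hc1 ⟨1, by omega⟩ (Or.inr (Or.inl rfl)),
      hc2 ⟨3, by omega⟩ (by show ¬ (3 = 0 ∨ 3 = 1 ∨ 3 = t ∨ 3 = t + 1); omega)]
    norm_num
  · obtain ⟨h3, h4⟩ := h
    have em := (EB ⟨jv - 1, by omega⟩ ⟨jv, hj⟩ (hchain _ _ (by show 1 ≤ jv - 1; omega)
      (by show jv - 1 + 1 ≤ t; omega) (by show jv = jv - 1 + 1; omega)) (fne _ _ _ _ (by omega))).2
    have ep := (EB ⟨jv, hj⟩ ⟨jv + 1, by omega⟩ (hchain _ _ (by show 1 ≤ jv; omega)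
      (by show jv + 1 ≤ t; omega) rfl) (fne _ _ _ _ (by omega))).1
    refine Groth.Agent.Lib.ModelsH5.row2 T v hv c hc ⟨jv, hj⟩ ⟨jv - 1, by omega⟩ ⟨jv + 1, by omega⟩
      (fne _ _ _ _ (by omega)) (fne _ _ _ _ (by omega)) (fne _ _ _ _ (by omega)) 1 1 em ep ?_
    rw [hc2 ⟨jv, hj⟩ (by show ¬ (jv = 0 ∨ jv = 1 ∨ jv = t ∨ jv = t + 1); omega),
      hc2 ⟨jv - 1, by omega⟩ (by show ¬ (jv - 1 = 0 ∨ jv - 1 = 1 ∨ jv - 1 = t ∨ jv - 1 = t + 1); omega),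
      hc2 ⟨jv + 1, by omega⟩ (by show ¬ (jv + 1 = 0 ∨ jv + 1 = 1 ∨ jv + 1 = t ∨ jv + 1 = t + 1); omega)]
    norm_num
  · subst h
    have em := (EB ⟨t - 2, by omega⟩ ⟨t - 1, hj⟩ (hchain _ _ (by show 1 ≤ t - 2; omega)
      (by show t - 2 + 1 ≤ t; omega) (by show t - 1 = t - 2 + 1; omega)) (fne _ _ _ _ (by omega))).2
    have ep := (EB ⟨t - 1, hj⟩ ⟨t, by omega⟩ (hchain _ _ (by show 1 ≤ t - 1; omega)
      (by show t - 1 + 1 ≤ t; omega) (by show t = t - 1 + 1; omega)) (fne _ _ _ _ (by omega))).1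
    have el := (EB ⟨t - 1, hj⟩ ⟨t + 1, by omega⟩ (hlast _ _ rfl rfl) (fne _ _ _ _ (by omega))).1
    refine Groth.Agent.Lib.ModelsH5.row3 T v hv c hc ⟨t - 1, hj⟩ ⟨t - 2, by omega⟩ ⟨t, by omega⟩
      ⟨t + 1, by omega⟩
      (fne _ _ _ _ (by omega)) (fne _ _ _ _ (by omega)) (fne _ _ _ _ (by omega))
      (fne _ _ _ _ (by omega)) (fne _ _ _ _ (by omega)) (fne _ _ _ _ (by omega)) 1 1 1 em ep el ?_
    rw [hc2 ⟨t - 1, hj⟩ (by show ¬ (t - 1 = 0 ∨ t - 1 = 1 ∨ t - 1 = t ∨ t - 1 = t + 1); omega),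
      hc2 ⟨t - 2, by omega⟩ (by show ¬ (t - 2 = 0 ∨ t - 2 = 1 ∨ t - 2 = t ∨ t - 2 = t + 1); omega),
      hc1 ⟨t, by omega⟩ (Or.inr (Or.inr (Or.inl rfl))),
      hc1 ⟨t + 1, by omega⟩ (Or.inr (Or.inr (Or.inr rfl)))]
    norm_num
  · subst h
    have e := (EB ⟨jv - 1, by omega⟩ ⟨jv, hj⟩ (hchain _ _ (by show 1 ≤ jv - 1; omega)
      (by show jv - 1 + 1 ≤ jv; omega) (by show jv = jv - 1 + 1; omega)) (fne _ _ _ _ (by omega))).2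
    refine Groth.Agent.Lib.ModelsH5.row1 T v hv c hc ⟨jv, hj⟩ ⟨jv - 1, by omega⟩
      (fne _ _ _ _ (by omega)) 1 e ?_
    rw [hc1 ⟨jv, hj⟩ (Or.inr (Or.inr (Or.inl rfl))),
      hc2 ⟨jv - 1, by omega⟩ (by show ¬ (jv - 1 = 0 ∨ jv - 1 = 1 ∨ jv - 1 = jv ∨ jv - 1 = jv + 1); omega)]
    norm_num
  · subst h
    have e := (EB ⟨t - 1, by omega⟩ ⟨t + 1, hj⟩ (hlast _ _ rfl rfl) (fne _ _ _ _ (by omega))).2
    refine Groth.Agent.Lib.ModelsH5.row1 T v hv c hc ⟨t + 1, hj⟩ ⟨t - 1, by omega⟩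
      (fne _ _ _ _ (by omega)) 1 e ?_
    rw [hc1 ⟨t + 1, hj⟩ (Or.inr (Or.inr (Or.inr rfl))),
      hc2 ⟨t - 1, by omega⟩ (by show ¬ (t - 1 = 0 ∨ t - 1 = 1 ∨ t - 1 = t ∨ t - 1 = t + 1); omega)]
    norm_num

end Groth.Agent.S7342
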