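import Groth.Statements.S7349
import Mathlib
import Groth.Agent.Lib.Models2_helper5

set_option autoImplicit false
open Finset
open Models Models.NumericalType

namespace Groth.Agent.S7349

/-- Classification of proper subgraphs of type E7 (a chain i_1 … i_6 with i_7 joined to i_4): let T be a
numerical type on n > 7 indices and i_1, …, i_7 distinct (-2)-indices with a_{12}, a_{23}, a_{34},
a_{45}, a_{56}, a_{47} nonzero. Then for some integer w all w_{i_j} equal w, these intersection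
numbers equal w, all other a_{i_j i_k} (j ≠ k) vanish, and 2 m_1 ≥ m_2, 2 m_2 ≥ m_1 + m_3, 2 m_3 ≥
m_2 + m_4, 2 m_4 ≥ m_3 + m_5 + m_7, 2 m_5 ≥ m_4 + m_6, 2 m_6 ≥ m_5, 2 m_7 ≥ m_4. -/
theorem result {n : ℕ} (T : Models.NumericalType n) (hn : 7 < n)
    (v : Fin 7 ↪ Fin n) (hv : ∀ j, T.IsMinusTwo (v j)) (h01 : T.a (v 0) (v 1) ≠ 0) (h12 : T.a (v 1) (v 2) ≠ 0) (h23 : T.a (v 2) (v 3) ≠ 0) (h34 : T.a (v 3) (v 4) ≠ 0) (h45 : T.a (v 4) (v 5) ≠ 0) (h36 : T.a (v 3) (v 6) ≠ 0) :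
    ∃ w : ℤ, (∀ j : Fin 7, T.w (v j) = w) ∧
      T.a (v 0) (v 1) = w ∧
      T.a (v 1) (v 2) = w ∧
      T.a (v 2) (v 3) = w ∧
      T.a (v 3) (v 4) = w ∧
      T.a (v 4) (v 5) = w ∧
      T.a (v 3) (v 6) = w ∧
      T.a (v 0) (v 2) = 0 ∧
      T.a (v 0) (v 3) = 0 ∧
      T.a (v 0) (v 4) = 0 ∧
      T.a (v 0) (v 5) = 0 ∧
      T.a (v 0) (v 6) = 0 ∧
      T.a (v 1) (v 3) = 0 ∧
      T.a (v 1) (v 4) = 0 ∧
      T.a (v 1) (v 5) = 0 ∧
      T.a (v 1) (v 6) = 0 ∧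
      T.a (v 2) (v 4) = 0 ∧
      T.a (v 2) (v 5) = 0 ∧
      T.a (v 2) (v 6) = 0 ∧
      T.a (v 3) (v 5) = 0 ∧
      T.a (v 4) (v 6) = 0 ∧
      T.a (v 5) (v 6) = 0 ∧
      T.m (v 1) ≤ 2 * T.m (v 0) ∧
      T.m (v 0) + T.m (v 2) ≤ 2 * T.m (v 1) ∧
      T.m (v 1) + T.m (v 3) ≤ 2 * T.m (v 2) ∧
      T.m (v 2) + T.m (v 4) + T.m (v 6) ≤ 2 * T.m (v 3) ∧
      T.m (v 3) + T.m (v 5) ≤ 2 * T.m (v 4) ∧
      T.m (v 4) ≤ 2 * T.m (v 5) ∧
      T.m (v 3) ≤ 2 * T.m (v 6) := by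
  have hne : ∀ j k : Fin 7, j ≠ k → v j ≠ v k := fun j k h e => h (v.injective e)
  have hnn : ∀ j k : Fin 7, j ≠ k → 0 ≤ T.a (v j) (v k) :=
    fun j k h => Groth.Agent.Lib.ModelsH5.emb_offDiag_nonneg T v j k h
  have hs : ∀ j k : Fin 7, T.a (v k) (v j) = T.a (v j) (v k) :=
    fun j k => Groth.Agent.Lib.ModelsH5.emb_symm T v j k
  have hd : ∀ j : Fin 7, T.a (v j) (v j) = -2 * T.w (v j) := fun j => (hv j).2
  have nz_0_1 : T.a (v 0) (v 1) ≠ 0 := h01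
  have nz_1_0 : T.a (v 1) (v 0) ≠ 0 := by rw [hs 0 1]; exact nz_0_1
  have E_0_1 : T.w (v 0) ≤ T.a (v 0) (v 1) := Groth.Agent.Lib.ModelsH5.w_le_of_ne_zero T _ _ (hne 0 1 (by decide)) nz_0_1
  have E_1_0 : T.w (v 1) ≤ T.a (v 1) (v 0) := Groth.Agent.Lib.ModelsH5.w_le_of_ne_zero T _ _ (hne 1 0 (by decide)) nz_1_0
  have nz_1_2 : T.a (v 1) (v 2) ≠ 0 := h12
  have nz_2_1 : T.a (v 2) (v 1) ≠ 0 := by rw [hs 1 2]; exact nz_1_2
  have E_1_2 : T.w (v 1) ≤ T.a (v 1) (v 2) := Groth.Agent.Lib.ModelsH5.w_le_of_ne_zero T _ _ (hne 1 2 (by decide)) nz_1_2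
  have E_2_1 : T.w (v 2) ≤ T.a (v 2) (v 1) := Groth.Agent.Lib.ModelsH5.w_le_of_ne_zero T _ _ (hne 2 1 (by decide)) nz_2_1
  have nz_2_3 : T.a (v 2) (v 3) ≠ 0 := h23
  have nz_3_2 : T.a (v 3) (v 2) ≠ 0 := by rw [hs 2 3]; exact nz_2_3
  have E_2_3 : T.w (v 2) ≤ T.a (v 2) (v 3) := Groth.Agent.Lib.ModelsH5.w_le_of_ne_zero T _ _ (hne 2 3 (by decide)) nz_2_3
  have E_3_2 : T.w (v 3) ≤ T.a (v 3) (v 2) := Groth.Agent.Lib.ModelsH5.w_le_of_ne_zero T _ _ (hne 3 2 (by decide)) nz_3_2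
  have nz_3_4 : T.a (v 3) (v 4) ≠ 0 := h34
  have nz_4_3 : T.a (v 4) (v 3) ≠ 0 := by rw [hs 3 4]; exact nz_3_4
  have E_3_4 : T.w (v 3) ≤ T.a (v 3) (v 4) := Groth.Agent.Lib.ModelsH5.w_le_of_ne_zero T _ _ (hne 3 4 (by decide)) nz_3_4
  have E_4_3 : T.w (v 4) ≤ T.a (v 4) (v 3) := Groth.Agent.Lib.ModelsH5.w_le_of_ne_zero T _ _ (hne 4 3 (by decide)) nz_4_3
  have nz_4_5 : T.a (v 4) (v 5) ≠ 0 := h45
  have nz_5_4 : T.a (v 5) (v 4) ≠ 0 := by rw [hs 4 5]; exact nz_4_5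
  have E_4_5 : T.w (v 4) ≤ T.a (v 4) (v 5) := Groth.Agent.Lib.ModelsH5.w_le_of_ne_zero T _ _ (hne 4 5 (by decide)) nz_4_5
  have E_5_4 : T.w (v 5) ≤ T.a (v 5) (v 4) := Groth.Agent.Lib.ModelsH5.w_le_of_ne_zero T _ _ (hne 5 4 (by decide)) nz_5_4
  have nz_3_6 : T.a (v 3) (v 6) ≠ 0 := h36
  have nz_6_3 : T.a (v 6) (v 3) ≠ 0 := by rw [hs 3 6]; exact nz_3_6
  have E_3_6 : T.w (v 3) ≤ T.a (v 3) (v 6) := Groth.Agent.Lib.ModelsH5.w_le_of_ne_zero T _ _ (hne 3 6 (by decide)) nz_3_6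
  have E_6_3 : T.w (v 6) ≤ T.a (v 6) (v 3) := Groth.Agent.Lib.ModelsH5.w_le_of_ne_zero T _ _ (hne 6 3 (by decide)) nz_6_3
  have z_0_2 : T.a (v 0) (v 2) = 0 := by
    by_contra hnz
    have hnz' : T.a (v 2) (v 0) ≠ 0 := by rw [hs 0 2]; exact hnz
    have B1 : T.w (v 0) ≤ T.a (v 0) (v 2) := Groth.Agent.Lib.ModelsH5.w_le_of_ne_zero T _ _ (hne 0 2 (by decide)) hnz
    have B2 : T.w (v 2) ≤ T.a (v 2) (v 0) := Groth.Agent.Lib.ModelsH5.w_le_of_ne_zero T _ _ (hne 2 0 (by decide)) hnz'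
    refine Groth.Agent.Lib.ModelsH5.no_superharmonic T v (by omega) ![1, 1, 1, 0, 0, 0, 0] ?_ ⟨0, by simp⟩ ?_
    · intro k; fin_cases k <;> simp
    · intro j hj
      fin_cases j <;> simp [Fin.sum_univ_succ] at hj ⊢
      · linarith [hd 0, E_0_1, B1]
      · linarith [hd 1, E_1_0, E_1_2]
      · linarith [hd 2, B2, E_2_1]
  have z_0_3 : T.a (v 0) (v 3) = 0 := by
    by_contra hnz
    have hnz' : T.a (v 3) (v 0) ≠ 0 := by rw [hs 0 3]; exact hnz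
    have B1 : T.w (v 0) ≤ T.a (v 0) (v 3) := Groth.Agent.Lib.ModelsH5.w_le_of_ne_zero T _ _ (hne 0 3 (by decide)) hnz
    have B2 : T.w (v 3) ≤ T.a (v 3) (v 0) := Groth.Agent.Lib.ModelsH5.w_le_of_ne_zero T _ _ (hne 3 0 (by decide)) hnz'
    refine Groth.Agent.Lib.ModelsH5.no_superharmonic T v (by omega) ![1, 1, 1, 1, 0, 0, 0] ?_ ⟨0, by simp⟩ ?_
    · intro k; fin_cases k <;> simp
    · intro j hj
      fin_cases j <;> simp [Fin.sum_univ_succ] at hj ⊢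
      · linarith [hd 0, E_0_1, hnn 0 2 (by decide), B1]
      · linarith [hd 1, E_1_0, E_1_2, hnn 1 3 (by decide)]
      · linarith [hd 2, hnn 2 0 (by decide), E_2_1, E_2_3]
      · linarith [hd 3, B2, hnn 3 1 (by decide), E_3_2]
  have z_0_4 : T.a (v 0) (v 4) = 0 := by
    by_contra hnz
    have hnz' : T.a (v 4) (v 0) ≠ 0 := by rw [hs 0 4]; exact hnz
    have B1 : T.w (v 0) ≤ T.a (v 0) (v 4) := Groth.Agent.Lib.ModelsH5.w_le_of_ne_zero T _ _ (hne 0 4 (by decide)) hnz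
    have B2 : T.w (v 4) ≤ T.a (v 4) (v 0) := Groth.Agent.Lib.ModelsH5.w_le_of_ne_zero T _ _ (hne 4 0 (by decide)) hnz'
    refine Groth.Agent.Lib.ModelsH5.no_superharmonic T v (by omega) ![1, 1, 1, 1, 1, 0, 0] ?_ ⟨0, by simp⟩ ?_
    · intro k; fin_cases k <;> simp
    · intro j hj
      fin_cases j <;> simp [Fin.sum_univ_succ] at hj ⊢
      · linarith [hd 0, E_0_1, hnn 0 2 (by decide), hnn 0 3 (by decide), B1]
      · linarith [hd 1, E_1_0, E_1_2, hnn 1 3 (by decide), hnn 1 4 (by decide)]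
      · linarith [hd 2, hnn 2 0 (by decide), E_2_1, E_2_3, hnn 2 4 (by decide)]
      · linarith [hd 3, hnn 3 0 (by decide), hnn 3 1 (by decide), E_3_2, E_3_4]
      · linarith [hd 4, B2, hnn 4 1 (by decide), hnn 4 2 (by decide), E_4_3]
  have z_0_5 : T.a (v 0) (v 5) = 0 := by
    by_contra hnz
    have hnz' : T.a (v 5) (v 0) ≠ 0 := by rw [hs 0 5]; exact hnz
    have B1 : T.w (v 0) ≤ T.a (v 0) (v 5) := Groth.Agent.Lib.ModelsH5.w_le_of_ne_zero T _ _ (hne 0 5 (by decide)) hnz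
    have B2 : T.w (v 5) ≤ T.a (v 5) (v 0) := Groth.Agent.Lib.ModelsH5.w_le_of_ne_zero T _ _ (hne 5 0 (by decide)) hnz'
    refine Groth.Agent.Lib.ModelsH5.no_superharmonic T v (by omega) ![1, 1, 1, 1, 1, 1, 0] ?_ ⟨0, by simp⟩ ?_
    · intro k; fin_cases k <;> simp
    · intro j hj
      fin_cases j <;> simp [Fin.sum_univ_succ] at hj ⊢
      · linarith [hd 0, E_0_1, hnn 0 2 (by decide), hnn 0 3 (by decide), hnn 0 4 (by decide), B1]
      · linarith [hd 1, E_1_0, E_1_2, hnn 1 3 (by decide), hnn 1 4 (by decide), hnn 1 5 (by decide)]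
      · linarith [hd 2, hnn 2 0 (by decide), E_2_1, E_2_3, hnn 2 4 (by decide), hnn 2 5 (by decide)]
      · linarith [hd 3, hnn 3 0 (by decide), hnn 3 1 (by decide), E_3_2, E_3_4, hnn 3 5 (by decide)]
      · linarith [hd 4, hnn 4 0 (by decide), hnn 4 1 (by decide), hnn 4 2 (by decide), E_4_3, E_4_5]
      · linarith [hd 5, B2, hnn 5 1 (by decide), hnn 5 2 (by decide), hnn 5 3 (by decide), E_5_4]
  have z_0_6 : T.a (v 0) (v 6) = 0 := by
    by_contra hnz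
    have hnz' : T.a (v 6) (v 0) ≠ 0 := by rw [hs 0 6]; exact hnz
    have B1 : T.w (v 0) ≤ T.a (v 0) (v 6) := Groth.Agent.Lib.ModelsH5.w_le_of_ne_zero T _ _ (hne 0 6 (by decide)) hnz
    have B2 : T.w (v 6) ≤ T.a (v 6) (v 0) := Groth.Agent.Lib.ModelsH5.w_le_of_ne_zero T _ _ (hne 6 0 (by decide)) hnz'
    refine Groth.Agent.Lib.ModelsH5.no_superharmonic T v (by omega) ![1, 1, 1, 1, 0, 0, 1] ?_ ⟨0, by simp⟩ ?_
    · intro k; fin_cases k <;> simp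
    · intro j hj
      fin_cases j <;> simp [Fin.sum_univ_succ] at hj ⊢
      · linarith [hd 0, E_0_1, hnn 0 2 (by decide), hnn 0 3 (by decide), B1]
      · linarith [hd 1, E_1_0, E_1_2, hnn 1 3 (by decide), hnn 1 6 (by decide)]
      · linarith [hd 2, hnn 2 0 (by decide), E_2_1, E_2_3, hnn 2 6 (by decide)]
      · linarith [hd 3, hnn 3 0 (by decide), hnn 3 1 (by decide), E_3_2, E_3_6]
      · linarith [hd 6, B2, hnn 6 1 (by decide), hnn 6 2 (by decide), E_6_3]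
  have z_1_3 : T.a (v 1) (v 3) = 0 := by
    by_contra hnz
    have hnz' : T.a (v 3) (v 1) ≠ 0 := by rw [hs 1 3]; exact hnz
    have B1 : T.w (v 1) ≤ T.a (v 1) (v 3) := Groth.Agent.Lib.ModelsH5.w_le_of_ne_zero T _ _ (hne 1 3 (by decide)) hnz
    have B2 : T.w (v 3) ≤ T.a (v 3) (v 1) := Groth.Agent.Lib.ModelsH5.w_le_of_ne_zero T _ _ (hne 3 1 (by decide)) hnz'
    refine Groth.Agent.Lib.ModelsH5.no_superharmonic T v (by omega) ![0, 1, 1, 1, 0, 0, 0] ?_ ⟨1, by simp⟩ ?_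
    · intro k; fin_cases k <;> simp
    · intro j hj
      fin_cases j <;> simp [Fin.sum_univ_succ] at hj ⊢
      · linarith [hd 1, E_1_2, B1]
      · linarith [hd 2, E_2_1, E_2_3]
      · linarith [hd 3, B2, E_3_2]
  have z_1_4 : T.a (v 1) (v 4) = 0 := by
    by_contra hnz
    have hnz' : T.a (v 4) (v 1) ≠ 0 := by rw [hs 1 4]; exact hnz
    have B1 : T.w (v 1) ≤ T.a (v 1) (v 4) := Groth.Agent.Lib.ModelsH5.w_le_of_ne_zero T _ _ (hne 1 4 (by decide)) hnz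
    have B2 : T.w (v 4) ≤ T.a (v 4) (v 1) := Groth.Agent.Lib.ModelsH5.w_le_of_ne_zero T _ _ (hne 4 1 (by decide)) hnz'
    refine Groth.Agent.Lib.ModelsH5.no_superharmonic T v (by omega) ![0, 1, 1, 1, 1, 0, 0] ?_ ⟨1, by simp⟩ ?_
    · intro k; fin_cases k <;> simp
    · intro j hj
      fin_cases j <;> simp [Fin.sum_univ_succ] at hj ⊢
      · linarith [hd 1, E_1_2, hnn 1 3 (by decide), B1]
      · linarith [hd 2, E_2_1, E_2_3, hnn 2 4 (by decide)]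
      · linarith [hd 3, hnn 3 1 (by decide), E_3_2, E_3_4]
      · linarith [hd 4, B2, hnn 4 2 (by decide), E_4_3]
  have z_1_5 : T.a (v 1) (v 5) = 0 := by
    by_contra hnz
    have hnz' : T.a (v 5) (v 1) ≠ 0 := by rw [hs 1 5]; exact hnz
    have B1 : T.w (v 1) ≤ T.a (v 1) (v 5) := Groth.Agent.Lib.ModelsH5.w_le_of_ne_zero T _ _ (hne 1 5 (by decide)) hnz
    have B2 : T.w (v 5) ≤ T.a (v 5) (v 1) := Groth.Agent.Lib.ModelsH5.w_le_of_ne_zero T _ _ (hne 5 1 (by decide)) hnz'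
    refine Groth.Agent.Lib.ModelsH5.no_superharmonic T v (by omega) ![0, 1, 1, 1, 1, 1, 0] ?_ ⟨1, by simp⟩ ?_
    · intro k; fin_cases k <;> simp
    · intro j hj
      fin_cases j <;> simp [Fin.sum_univ_succ] at hj ⊢
      · linarith [hd 1, E_1_2, hnn 1 3 (by decide), hnn 1 4 (by decide), B1]
      · linarith [hd 2, E_2_1, E_2_3, hnn 2 4 (by decide), hnn 2 5 (by decide)]
      · linarith [hd 3, hnn 3 1 (by decide), E_3_2, E_3_4, hnn 3 5 (by decide)]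
      · linarith [hd 4, hnn 4 1 (by decide), hnn 4 2 (by decide), E_4_3, E_4_5]
      · linarith [hd 5, B2, hnn 5 2 (by decide), hnn 5 3 (by decide), E_5_4]
  have z_1_6 : T.a (v 1) (v 6) = 0 := by
    by_contra hnz
    have hnz' : T.a (v 6) (v 1) ≠ 0 := by rw [hs 1 6]; exact hnz
    have B1 : T.w (v 1) ≤ T.a (v 1) (v 6) := Groth.Agent.Lib.ModelsH5.w_le_of_ne_zero T _ _ (hne 1 6 (by decide)) hnz
    have B2 : T.w (v 6) ≤ T.a (v 6) (v 1) := Groth.Agent.Lib.ModelsH5.w_le_of_ne_zero T _ _ (hne 6 1 (by decide)) hnz'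
    refine Groth.Agent.Lib.ModelsH5.no_superharmonic T v (by omega) ![0, 1, 1, 1, 0, 0, 1] ?_ ⟨1, by simp⟩ ?_
    · intro k; fin_cases k <;> simp
    · intro j hj
      fin_cases j <;> simp [Fin.sum_univ_succ] at hj ⊢
      · linarith [hd 1, E_1_2, hnn 1 3 (by decide), B1]
      · linarith [hd 2, E_2_1, E_2_3, hnn 2 6 (by decide)]
      · linarith [hd 3, hnn 3 1 (by decide), E_3_2, E_3_6]
      · linarith [hd 6, B2, hnn 6 2 (by decide), E_6_3]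
  have z_2_4 : T.a (v 2) (v 4) = 0 := by
    by_contra hnz
    have hnz' : T.a (v 4) (v 2) ≠ 0 := by rw [hs 2 4]; exact hnz
    have B1 : T.w (v 2) ≤ T.a (v 2) (v 4) := Groth.Agent.Lib.ModelsH5.w_le_of_ne_zero T _ _ (hne 2 4 (by decide)) hnz
    have B2 : T.w (v 4) ≤ T.a (v 4) (v 2) := Groth.Agent.Lib.ModelsH5.w_le_of_ne_zero T _ _ (hne 4 2 (by decide)) hnz'
    refine Groth.Agent.Lib.ModelsH5.no_superharmonic T v (by omega) ![0, 0, 1, 1, 1, 0, 0] ?_ ⟨2, by simp⟩ ?_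
    · intro k; fin_cases k <;> simp
    · intro j hj
      fin_cases j <;> simp [Fin.sum_univ_succ] at hj ⊢
      · linarith [hd 2, E_2_3, B1]
      · linarith [hd 3, E_3_2, E_3_4]
      · linarith [hd 4, B2, E_4_3]
  have z_2_5 : T.a (v 2) (v 5) = 0 := by
    by_contra hnz
    have hnz' : T.a (v 5) (v 2) ≠ 0 := by rw [hs 2 5]; exact hnz
    have B1 : T.w (v 2) ≤ T.a (v 2) (v 5) := Groth.Agent.Lib.ModelsH5.w_le_of_ne_zero T _ _ (hne 2 5 (by decide)) hnz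
    have B2 : T.w (v 5) ≤ T.a (v 5) (v 2) := Groth.Agent.Lib.ModelsH5.w_le_of_ne_zero T _ _ (hne 5 2 (by decide)) hnz'
    refine Groth.Agent.Lib.ModelsH5.no_superharmonic T v (by omega) ![0, 0, 1, 1, 1, 1, 0] ?_ ⟨2, by simp⟩ ?_
    · intro k; fin_cases k <;> simp
    · intro j hj
      fin_cases j <;> simp [Fin.sum_univ_succ] at hj ⊢
      · linarith [hd 2, E_2_3, hnn 2 4 (by decide), B1]
      · linarith [hd 3, E_3_2, E_3_4, hnn 3 5 (by decide)]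
      · linarith [hd 4, hnn 4 2 (by decide), E_4_3, E_4_5]
      · linarith [hd 5, B2, hnn 5 3 (by decide), E_5_4]
  have z_2_6 : T.a (v 2) (v 6) = 0 := by
    by_contra hnz
    have hnz' : T.a (v 6) (v 2) ≠ 0 := by rw [hs 2 6]; exact hnz
    have B1 : T.w (v 2) ≤ T.a (v 2) (v 6) := Groth.Agent.Lib.ModelsH5.w_le_of_ne_zero T _ _ (hne 2 6 (by decide)) hnz
    have B2 : T.w (v 6) ≤ T.a (v 6) (v 2) := Groth.Agent.Lib.ModelsH5.w_le_of_ne_zero T _ _ (hne 6 2 (by decide)) hnz'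
    refine Groth.Agent.Lib.ModelsH5.no_superharmonic T v (by omega) ![0, 0, 1, 1, 0, 0, 1] ?_ ⟨2, by simp⟩ ?_
    · intro k; fin_cases k <;> simp
    · intro j hj
      fin_cases j <;> simp [Fin.sum_univ_succ] at hj ⊢
      · linarith [hd 2, E_2_3, B1]
      · linarith [hd 3, E_3_2, E_3_6]
      · linarith [hd 6, B2, E_6_3]
  have z_3_5 : T.a (v 3) (v 5) = 0 := by
    by_contra hnz
    have hnz' : T.a (v 5) (v 3) ≠ 0 := by rw [hs 3 5]; exact hnz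
    have B1 : T.w (v 3) ≤ T.a (v 3) (v 5) := Groth.Agent.Lib.ModelsH5.w_le_of_ne_zero T _ _ (hne 3 5 (by decide)) hnz
    have B2 : T.w (v 5) ≤ T.a (v 5) (v 3) := Groth.Agent.Lib.ModelsH5.w_le_of_ne_zero T _ _ (hne 5 3 (by decide)) hnz'
    refine Groth.Agent.Lib.ModelsH5.no_superharmonic T v (by omega) ![0, 0, 0, 1, 1, 1, 0] ?_ ⟨3, by simp⟩ ?_
    · intro k; fin_cases k <;> simp
    · intro j hj
      fin_cases j <;> simp [Fin.sum_univ_succ] at hj ⊢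
      · linarith [hd 3, E_3_4, B1]
      · linarith [hd 4, E_4_3, E_4_5]
      · linarith [hd 5, B2, E_5_4]
  have z_4_6 : T.a (v 4) (v 6) = 0 := by
    by_contra hnz
    have hnz' : T.a (v 6) (v 4) ≠ 0 := by rw [hs 4 6]; exact hnz
    have B1 : T.w (v 4) ≤ T.a (v 4) (v 6) := Groth.Agent.Lib.ModelsH5.w_le_of_ne_zero T _ _ (hne 4 6 (by decide)) hnz
    have B2 : T.w (v 6) ≤ T.a (v 6) (v 4) := Groth.Agent.Lib.ModelsH5.w_le_of_ne_zero T _ _ (hne 6 4 (by decide)) hnz'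
    refine Groth.Agent.Lib.ModelsH5.no_superharmonic T v (by omega) ![0, 0, 0, 1, 1, 0, 1] ?_ ⟨3, by simp⟩ ?_
    · intro k; fin_cases k <;> simp
    · intro j hj
      fin_cases j <;> simp [Fin.sum_univ_succ] at hj ⊢
      · linarith [hd 3, E_3_4, E_3_6]
      · linarith [hd 4, E_4_3, B1]
      · linarith [hd 6, E_6_3, B2]
  have z_5_6 : T.a (v 5) (v 6) = 0 := by
    by_contra hnz
    have hnz' : T.a (v 6) (v 5) ≠ 0 := by rw [hs 5 6]; exact hnz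
    have B1 : T.w (v 5) ≤ T.a (v 5) (v 6) := Groth.Agent.Lib.ModelsH5.w_le_of_ne_zero T _ _ (hne 5 6 (by decide)) hnz
    have B2 : T.w (v 6) ≤ T.a (v 6) (v 5) := Groth.Agent.Lib.ModelsH5.w_le_of_ne_zero T _ _ (hne 6 5 (by decide)) hnz'
    refine Groth.Agent.Lib.ModelsH5.no_superharmonic T v (by omega) ![0, 0, 0, 1, 1, 1, 1] ?_ ⟨3, by simp⟩ ?_
    · intro k; fin_cases k <;> simp
    · intro j hj
      fin_cases j <;> simp [Fin.sum_univ_succ] at hj ⊢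
      · linarith [hd 3, E_3_4, hnn 3 5 (by decide), E_3_6]
      · linarith [hd 4, E_4_3, E_4_5, hnn 4 6 (by decide)]
      · linarith [hd 5, hnn 5 3 (by decide), E_5_4, B1]
      · linarith [hd 6, E_6_3, hnn 6 4 (by decide), B2]
  have p_0_1 : T.a (v 0) (v 1) = T.w (v 0) := by
    rcases Groth.Agent.Lib.ModelsH5.eq_or_two_le T (v 0) (v 1) (hne 0 1 (by decide)) nz_0_1 with h | h
    · exact h
    · exfalso
      refine Groth.Agent.Lib.ModelsH5.no_superharmonic T v (by omega) ![2, 2, 2, 2, 1, 0, 1] ?_ ⟨0, by simp⟩ ?_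
      · intro k; fin_cases k <;> simp
      · intro j hj
        fin_cases j <;> simp [Fin.sum_univ_succ] at hj ⊢
        · linarith [hd 0, h, hnn 0 2 (by decide), hnn 0 3 (by decide), hnn 0 4 (by decide), hnn 0 6 (by decide)]
        · linarith [hd 1, E_1_0, E_1_2, hnn 1 3 (by decide), hnn 1 4 (by decide), hnn 1 6 (by decide)]
        · linarith [hd 2, hnn 2 0 (by decide), E_2_1, E_2_3, hnn 2 4 (by decide), hnn 2 6 (by decide)]
        · linarith [hd 3, hnn 3 0 (by decide), hnn 3 1 (by decide), E_3_2, E_3_4, E_3_6]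
        · linarith [hd 4, hnn 4 0 (by decide), hnn 4 1 (by decide), hnn 4 2 (by decide), E_4_3, hnn 4 6 (by decide)]
        · linarith [hd 6, hnn 6 0 (by decide), hnn 6 1 (by decide), hnn 6 2 (by decide), E_6_3, hnn 6 4 (by decide)]
  have p_1_0 : T.a (v 1) (v 0) = T.w (v 1) := by
    rcases Groth.Agent.Lib.ModelsH5.eq_or_two_le T (v 1) (v 0) (hne 1 0 (by decide)) nz_1_0 with h | h
    · exact h
    · exfalso
      refine Groth.Agent.Lib.ModelsH5.no_superharmonic T v (by omega) ![1, 2, 2, 2, 1, 0, 1] ?_ ⟨0, by simp⟩ ?_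
      · intro k; fin_cases k <;> simp
      · intro j hj
        fin_cases j <;> simp [Fin.sum_univ_succ] at hj ⊢
        · linarith [hd 0, E_0_1, hnn 0 2 (by decide), hnn 0 3 (by decide), hnn 0 4 (by decide), hnn 0 6 (by decide)]
        · linarith [hd 1, h, E_1_2, hnn 1 3 (by decide), hnn 1 4 (by decide), hnn 1 6 (by decide)]
        · linarith [hd 2, hnn 2 0 (by decide), E_2_1, E_2_3, hnn 2 4 (by decide), hnn 2 6 (by decide)]
        · linarith [hd 3, hnn 3 0 (by decide), hnn 3 1 (by decide), E_3_2, E_3_4, E_3_6]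
        · linarith [hd 4, hnn 4 0 (by decide), hnn 4 1 (by decide), hnn 4 2 (by decide), E_4_3, hnn 4 6 (by decide)]
        · linarith [hd 6, hnn 6 0 (by decide), hnn 6 1 (by decide), hnn 6 2 (by decide), E_6_3, hnn 6 4 (by decide)]
  have p_1_2 : T.a (v 1) (v 2) = T.w (v 1) := by
    rcases Groth.Agent.Lib.ModelsH5.eq_or_two_le T (v 1) (v 2) (hne 1 2 (by decide)) nz_1_2 with h | h
    · exact h
    · exfalso
      refine Groth.Agent.Lib.ModelsH5.no_superharmonic T v (by omega) ![2, 4, 3, 2, 1, 0, 0] ?_ ⟨0, by simp⟩ ?_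
      · intro k; fin_cases k <;> simp
      · intro j hj
        fin_cases j <;> simp [Fin.sum_univ_succ] at hj ⊢
        · linarith [hd 0, E_0_1, hnn 0 2 (by decide), hnn 0 3 (by decide), hnn 0 4 (by decide)]
        · linarith [hd 1, E_1_0, h, hnn 1 3 (by decide), hnn 1 4 (by decide)]
        · linarith [hd 2, hnn 2 0 (by decide), E_2_1, E_2_3, hnn 2 4 (by decide)]
        · linarith [hd 3, hnn 3 0 (by decide), hnn 3 1 (by decide), E_3_2, E_3_4]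
        · linarith [hd 4, hnn 4 0 (by decide), hnn 4 1 (by decide), hnn 4 2 (by decide), E_4_3]
  have p_2_1 : T.a (v 2) (v 1) = T.w (v 2) := by
    rcases Groth.Agent.Lib.ModelsH5.eq_or_two_le T (v 2) (v 1) (hne 2 1 (by decide)) nz_2_1 with h | h
    · exact h
    · exfalso
      refine Groth.Agent.Lib.ModelsH5.no_superharmonic T v (by omega) ![1, 2, 3, 2, 1, 0, 0] ?_ ⟨0, by simp⟩ ?_
      · intro k; fin_cases k <;> simp
      · intro j hj
        fin_cases j <;> simp [Fin.sum_univ_succ] at hj ⊢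
        · linarith [hd 0, E_0_1, hnn 0 2 (by decide), hnn 0 3 (by decide), hnn 0 4 (by decide)]
        · linarith [hd 1, E_1_0, E_1_2, hnn 1 3 (by decide), hnn 1 4 (by decide)]
        · linarith [hd 2, hnn 2 0 (by decide), h, E_2_3, hnn 2 4 (by decide)]
        · linarith [hd 3, hnn 3 0 (by decide), hnn 3 1 (by decide), E_3_2, E_3_4]
        · linarith [hd 4, hnn 4 0 (by decide), hnn 4 1 (by decide), hnn 4 2 (by decide), E_4_3]
  have p_2_3 : T.a (v 2) (v 3) = T.w (v 2) := by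
    rcases Groth.Agent.Lib.ModelsH5.eq_or_two_le T (v 2) (v 3) (hne 2 3 (by decide)) nz_2_3 with h | h
    · exact h
    · exfalso
      refine Groth.Agent.Lib.ModelsH5.no_superharmonic T v (by omega) ![0, 0, 2, 2, 1, 0, 1] ?_ ⟨2, by simp⟩ ?_
      · intro k; fin_cases k <;> simp
      · intro j hj
        fin_cases j <;> simp [Fin.sum_univ_succ] at hj ⊢
        · linarith [hd 2, h, hnn 2 4 (by decide), hnn 2 6 (by decide)]
        · linarith [hd 3, E_3_2, E_3_4, E_3_6]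
        · linarith [hd 4, hnn 4 2 (by decide), E_4_3, hnn 4 6 (by decide)]
        · linarith [hd 6, hnn 6 2 (by decide), E_6_3, hnn 6 4 (by decide)]
  have p_3_2 : T.a (v 3) (v 2) = T.w (v 3) := by
    rcases Groth.Agent.Lib.ModelsH5.eq_or_two_le T (v 3) (v 2) (hne 3 2 (by decide)) nz_3_2 with h | h
    · exact h
    · exfalso
      refine Groth.Agent.Lib.ModelsH5.no_superharmonic T v (by omega) ![0, 0, 1, 2, 1, 0, 1] ?_ ⟨2, by simp⟩ ?_
      · intro k; fin_cases k <;> simp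
      · intro j hj
        fin_cases j <;> simp [Fin.sum_univ_succ] at hj ⊢
        · linarith [hd 2, E_2_3, hnn 2 4 (by decide), hnn 2 6 (by decide)]
        · linarith [hd 3, h, E_3_4, E_3_6]
        · linarith [hd 4, hnn 4 2 (by decide), E_4_3, hnn 4 6 (by decide)]
        · linarith [hd 6, hnn 6 2 (by decide), E_6_3, hnn 6 4 (by decide)]
  have p_3_4 : T.a (v 3) (v 4) = T.w (v 3) := by
    rcases Groth.Agent.Lib.ModelsH5.eq_or_two_le T (v 3) (v 4) (hne 3 4 (by decide)) nz_3_4 with h | h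
    · exact h
    · exfalso
      refine Groth.Agent.Lib.ModelsH5.no_superharmonic T v (by omega) ![0, 0, 1, 2, 1, 0, 1] ?_ ⟨2, by simp⟩ ?_
      · intro k; fin_cases k <;> simp
      · intro j hj
        fin_cases j <;> simp [Fin.sum_univ_succ] at hj ⊢
        · linarith [hd 2, E_2_3, hnn 2 4 (by decide), hnn 2 6 (by decide)]
        · linarith [hd 3, E_3_2, h, E_3_6]
        · linarith [hd 4, hnn 4 2 (by decide), E_4_3, hnn 4 6 (by decide)]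
        · linarith [hd 6, hnn 6 2 (by decide), E_6_3, hnn 6 4 (by decide)]
  have p_4_3 : T.a (v 4) (v 3) = T.w (v 4) := by
    rcases Groth.Agent.Lib.ModelsH5.eq_or_two_le T (v 4) (v 3) (hne 4 3 (by decide)) nz_4_3 with h | h
    · exact h
    · exfalso
      refine Groth.Agent.Lib.ModelsH5.no_superharmonic T v (by omega) ![0, 0, 1, 2, 2, 0, 1] ?_ ⟨2, by simp⟩ ?_
      · intro k; fin_cases k <;> simp
      · intro j hj
        fin_cases j <;> simp [Fin.sum_univ_succ] at hj ⊢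
        · linarith [hd 2, E_2_3, hnn 2 4 (by decide), hnn 2 6 (by decide)]
        · linarith [hd 3, E_3_2, E_3_4, E_3_6]
        · linarith [hd 4, hnn 4 2 (by decide), h, hnn 4 6 (by decide)]
        · linarith [hd 6, hnn 6 2 (by decide), E_6_3, hnn 6 4 (by decide)]
  have p_4_5 : T.a (v 4) (v 5) = T.w (v 4) := by
    rcases Groth.Agent.Lib.ModelsH5.eq_or_two_le T (v 4) (v 5) (hne 4 5 (by decide)) nz_4_5 with h | h
    · exact h
    · exfalso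
      refine Groth.Agent.Lib.ModelsH5.no_superharmonic T v (by omega) ![0, 0, 1, 2, 2, 1, 1] ?_ ⟨2, by simp⟩ ?_
      · intro k; fin_cases k <;> simp
      · intro j hj
        fin_cases j <;> simp [Fin.sum_univ_succ] at hj ⊢
        · linarith [hd 2, E_2_3, hnn 2 4 (by decide), hnn 2 5 (by decide), hnn 2 6 (by decide)]
        · linarith [hd 3, E_3_2, E_3_4, hnn 3 5 (by decide), E_3_6]
        · linarith [hd 4, hnn 4 2 (by decide), E_4_3, h, hnn 4 6 (by decide)]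
        · linarith [hd 5, hnn 5 2 (by decide), hnn 5 3 (by decide), E_5_4, hnn 5 6 (by decide)]
        · linarith [hd 6, hnn 6 2 (by decide), E_6_3, hnn 6 4 (by decide), hnn 6 5 (by decide)]
  have p_5_4 : T.a (v 5) (v 4) = T.w (v 5) := by
    rcases Groth.Agent.Lib.ModelsH5.eq_or_two_le T (v 5) (v 4) (hne 5 4 (by decide)) nz_5_4 with h | h
    · exact h
    · exfalso
      refine Groth.Agent.Lib.ModelsH5.no_superharmonic T v (by omega) ![0, 0, 1, 2, 2, 2, 1] ?_ ⟨2, by simp⟩ ?_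
      · intro k; fin_cases k <;> simp
      · intro j hj
        fin_cases j <;> simp [Fin.sum_univ_succ] at hj ⊢
        · linarith [hd 2, E_2_3, hnn 2 4 (by decide), hnn 2 5 (by decide), hnn 2 6 (by decide)]
        · linarith [hd 3, E_3_2, E_3_4, hnn 3 5 (by decide), E_3_6]
        · linarith [hd 4, hnn 4 2 (by decide), E_4_3, E_4_5, hnn 4 6 (by decide)]
        · linarith [hd 5, hnn 5 2 (by decide), hnn 5 3 (by decide), h, hnn 5 6 (by decide)]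
        · linarith [hd 6, hnn 6 2 (by decide), E_6_3, hnn 6 4 (by decide), hnn 6 5 (by decide)]
  have p_3_6 : T.a (v 3) (v 6) = T.w (v 3) := by
    rcases Groth.Agent.Lib.ModelsH5.eq_or_two_le T (v 3) (v 6) (hne 3 6 (by decide)) nz_3_6 with h | h
    · exact h
    · exfalso
      refine Groth.Agent.Lib.ModelsH5.no_superharmonic T v (by omega) ![0, 0, 1, 2, 1, 0, 1] ?_ ⟨2, by simp⟩ ?_
      · intro k; fin_cases k <;> simp
      · intro j hj
        fin_cases j <;> simp [Fin.sum_univ_succ] at hj ⊢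
        · linarith [hd 2, E_2_3, hnn 2 4 (by decide), hnn 2 6 (by decide)]
        · linarith [hd 3, E_3_2, E_3_4, h]
        · linarith [hd 4, hnn 4 2 (by decide), E_4_3, hnn 4 6 (by decide)]
        · linarith [hd 6, hnn 6 2 (by decide), E_6_3, hnn 6 4 (by decide)]
  have p_6_3 : T.a (v 6) (v 3) = T.w (v 6) := by
    rcases Groth.Agent.Lib.ModelsH5.eq_or_two_le T (v 6) (v 3) (hne 6 3 (by decide)) nz_6_3 with h | h
    · exact h
    · exfalso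
      refine Groth.Agent.Lib.ModelsH5.no_superharmonic T v (by omega) ![0, 0, 1, 2, 1, 0, 2] ?_ ⟨2, by simp⟩ ?_
      · intro k; fin_cases k <;> simp
      · intro j hj
        fin_cases j <;> simp [Fin.sum_univ_succ] at hj ⊢
        · linarith [hd 2, E_2_3, hnn 2 4 (by decide), hnn 2 6 (by decide)]
        · linarith [hd 3, E_3_2, E_3_4, E_3_6]
        · linarith [hd 4, hnn 4 2 (by decide), E_4_3, hnn 4 6 (by decide)]
        · linarith [hd 6, hnn 6 2 (by decide), h, hnn 6 4 (by decide)]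
  have W_1 : T.w (v 1) = T.w (v 0) := by linarith [p_0_1, p_1_0, hs 0 1, p_1_2, p_2_1, hs 1 2, p_2_3, p_3_2, hs 2 3, p_3_4, p_4_3, hs 3 4, p_4_5, p_5_4, hs 4 5, p_3_6, p_6_3, hs 3 6]
  have W_2 : T.w (v 2) = T.w (v 0) := by linarith [p_0_1, p_1_0, hs 0 1, p_1_2, p_2_1, hs 1 2, p_2_3, p_3_2, hs 2 3, p_3_4, p_4_3, hs 3 4, p_4_5, p_5_4, hs 4 5, p_3_6, p_6_3, hs 3 6]
  have W_3 : T.w (v 3) = T.w (v 0) := by linarith [p_0_1, p_1_0, hs 0 1, p_1_2, p_2_1, hs 1 2, p_2_3, p_3_2, hs 2 3, p_3_4, p_4_3, hs 3 4, p_4_5, p_5_4, hs 4 5, p_3_6, p_6_3, hs 3 6]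
  have W_4 : T.w (v 4) = T.w (v 0) := by linarith [p_0_1, p_1_0, hs 0 1, p_1_2, p_2_1, hs 1 2, p_2_3, p_3_2, hs 2 3, p_3_4, p_4_3, hs 3 4, p_4_5, p_5_4, hs 4 5, p_3_6, p_6_3, hs 3 6]
  have W_5 : T.w (v 5) = T.w (v 0) := by linarith [p_0_1, p_1_0, hs 0 1, p_1_2, p_2_1, hs 1 2, p_2_3, p_3_2, hs 2 3, p_3_4, p_4_3, hs 3 4, p_4_5, p_5_4, hs 4 5, p_3_6, p_6_3, hs 3 6]
  have W_6 : T.w (v 6) = T.w (v 0) := by linarith [p_0_1, p_1_0, hs 0 1, p_1_2, p_2_1, hs 1 2, p_2_3, p_3_2, hs 2 3, p_3_4, p_4_3, hs 3 4, p_4_5, p_5_4, hs 4 5, p_3_6, p_6_3, hs 3 6]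
  have A_0_1 : T.a (v 0) (v 1) = T.w (v 0) := by linarith [p_0_1, p_1_0, hs 0 1, p_1_2, p_2_1, hs 1 2, p_2_3, p_3_2, hs 2 3, p_3_4, p_4_3, hs 3 4, p_4_5, p_5_4, hs 4 5, p_3_6, p_6_3, hs 3 6]
  have A_0_2 : T.a (v 0) (v 2) = 0 := z_0_2
  have A_0_3 : T.a (v 0) (v 3) = 0 := z_0_3
  have A_0_4 : T.a (v 0) (v 4) = 0 := z_0_4
  have A_0_5 : T.a (v 0) (v 5) = 0 := z_0_5
  have A_0_6 : T.a (v 0) (v 6) = 0 := z_0_6
  have A_1_0 : T.a (v 1) (v 0) = T.w (v 0) := by linarith [p_0_1, p_1_0, hs 0 1, p_1_2, p_2_1, hs 1 2, p_2_3, p_3_2, hs 2 3, p_3_4, p_4_3, hs 3 4, p_4_5, p_5_4, hs 4 5, p_3_6, p_6_3, hs 3 6]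
  have A_1_2 : T.a (v 1) (v 2) = T.w (v 0) := by linarith [p_0_1, p_1_0, hs 0 1, p_1_2, p_2_1, hs 1 2, p_2_3, p_3_2, hs 2 3, p_3_4, p_4_3, hs 3 4, p_4_5, p_5_4, hs 4 5, p_3_6, p_6_3, hs 3 6]
  have A_1_3 : T.a (v 1) (v 3) = 0 := z_1_3
  have A_1_4 : T.a (v 1) (v 4) = 0 := z_1_4
  have A_1_5 : T.a (v 1) (v 5) = 0 := z_1_5
  have A_1_6 : T.a (v 1) (v 6) = 0 := z_1_6
  have A_2_0 : T.a (v 2) (v 0) = 0 := by rw [hs 0 2]; exact z_0_2
  have A_2_1 : T.a (v 2) (v 1) = T.w (v 0) := by linarith [p_0_1, p_1_0, hs 0 1, p_1_2, p_2_1, hs 1 2, p_2_3, p_3_2, hs 2 3, p_3_4, p_4_3, hs 3 4, p_4_5, p_5_4, hs 4 5, p_3_6, p_6_3, hs 3 6]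
  have A_2_3 : T.a (v 2) (v 3) = T.w (v 0) := by linarith [p_0_1, p_1_0, hs 0 1, p_1_2, p_2_1, hs 1 2, p_2_3, p_3_2, hs 2 3, p_3_4, p_4_3, hs 3 4, p_4_5, p_5_4, hs 4 5, p_3_6, p_6_3, hs 3 6]
  have A_2_4 : T.a (v 2) (v 4) = 0 := z_2_4
  have A_2_5 : T.a (v 2) (v 5) = 0 := z_2_5
  have A_2_6 : T.a (v 2) (v 6) = 0 := z_2_6
  have A_3_0 : T.a (v 3) (v 0) = 0 := by rw [hs 0 3]; exact z_0_3
  have A_3_1 : T.a (v 3) (v 1) = 0 := by rw [hs 1 3]; exact z_1_3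
  have A_3_2 : T.a (v 3) (v 2) = T.w (v 0) := by linarith [p_0_1, p_1_0, hs 0 1, p_1_2, p_2_1, hs 1 2, p_2_3, p_3_2, hs 2 3, p_3_4, p_4_3, hs 3 4, p_4_5, p_5_4, hs 4 5, p_3_6, p_6_3, hs 3 6]
  have A_3_4 : T.a (v 3) (v 4) = T.w (v 0) := by linarith [p_0_1, p_1_0, hs 0 1, p_1_2, p_2_1, hs 1 2, p_2_3, p_3_2, hs 2 3, p_3_4, p_4_3, hs 3 4, p_4_5, p_5_4, hs 4 5, p_3_6, p_6_3, hs 3 6]
  have A_3_5 : T.a (v 3) (v 5) = 0 := z_3_5
  have A_3_6 : T.a (v 3) (v 6) = T.w (v 0) := by linarith [p_0_1, p_1_0, hs 0 1, p_1_2, p_2_1, hs 1 2, p_2_3, p_3_2, hs 2 3, p_3_4, p_4_3, hs 3 4, p_4_5, p_5_4, hs 4 5, p_3_6, p_6_3, hs 3 6]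
  have A_4_0 : T.a (v 4) (v 0) = 0 := by rw [hs 0 4]; exact z_0_4
  have A_4_1 : T.a (v 4) (v 1) = 0 := by rw [hs 1 4]; exact z_1_4
  have A_4_2 : T.a (v 4) (v 2) = 0 := by rw [hs 2 4]; exact z_2_4
  have A_4_3 : T.a (v 4) (v 3) = T.w (v 0) := by linarith [p_0_1, p_1_0, hs 0 1, p_1_2, p_2_1, hs 1 2, p_2_3, p_3_2, hs 2 3, p_3_4, p_4_3, hs 3 4, p_4_5, p_5_4, hs 4 5, p_3_6, p_6_3, hs 3 6]
  have A_4_5 : T.a (v 4) (v 5) = T.w (v 0) := by linarith [p_0_1, p_1_0, hs 0 1, p_1_2, p_2_1, hs 1 2, p_2_3, p_3_2, hs 2 3, p_3_4, p_4_3, hs 3 4, p_4_5, p_5_4, hs 4 5, p_3_6, p_6_3, hs 3 6]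
  have A_4_6 : T.a (v 4) (v 6) = 0 := z_4_6
  have A_5_0 : T.a (v 5) (v 0) = 0 := by rw [hs 0 5]; exact z_0_5
  have A_5_1 : T.a (v 5) (v 1) = 0 := by rw [hs 1 5]; exact z_1_5
  have A_5_2 : T.a (v 5) (v 2) = 0 := by rw [hs 2 5]; exact z_2_5
  have A_5_3 : T.a (v 5) (v 3) = 0 := by rw [hs 3 5]; exact z_3_5
  have A_5_4 : T.a (v 5) (v 4) = T.w (v 0) := by linarith [p_0_1, p_1_0, hs 0 1, p_1_2, p_2_1, hs 1 2, p_2_3, p_3_2, hs 2 3, p_3_4, p_4_3, hs 3 4, p_4_5, p_5_4, hs 4 5, p_3_6, p_6_3, hs 3 6]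
  have A_5_6 : T.a (v 5) (v 6) = 0 := z_5_6
  have A_6_0 : T.a (v 6) (v 0) = 0 := by rw [hs 0 6]; exact z_0_6
  have A_6_1 : T.a (v 6) (v 1) = 0 := by rw [hs 1 6]; exact z_1_6
  have A_6_2 : T.a (v 6) (v 2) = 0 := by rw [hs 2 6]; exact z_2_6
  have A_6_3 : T.a (v 6) (v 3) = T.w (v 0) := by linarith [p_0_1, p_1_0, hs 0 1, p_1_2, p_2_1, hs 1 2, p_2_3, p_3_2, hs 2 3, p_3_4, p_4_3, hs 3 4, p_4_5, p_5_4, hs 4 5, p_3_6, p_6_3, hs 3 6]
  have A_6_4 : T.a (v 6) (v 4) = 0 := by rw [hs 4 6]; exact z_4_6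
  have A_6_5 : T.a (v 6) (v 5) = 0 := by rw [hs 5 6]; exact z_5_6
  refine ⟨T.w (v 0), ?_, A_0_1, A_1_2, A_2_3, A_3_4, A_4_5, A_3_6, A_0_2, A_0_3, A_0_4, A_0_5, A_0_6, A_1_3, A_1_4, A_1_5, A_1_6, A_2_4, A_2_5, A_2_6, A_3_5, A_4_6, A_5_6, ?_, ?_, ?_, ?_, ?_, ?_, ?_⟩
  · intro j; fin_cases j
    exacts [rfl, W_1, W_2, W_3, W_4, W_5, W_6]
  · have r := Groth.Agent.Lib.ModelsH5.emb_row_nonpos T v 0
    rw [Fin.sum_univ_seven] at r
    simp only [A_0_1, A_0_2, A_0_3, A_0_4, A_0_5, A_0_6, hd 0] at r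
    by_contra hcon
    push Not at hcon
    have := mul_pos (T.w_pos (v 0)) (sub_pos.2 hcon)
    linarith
  · have r := Groth.Agent.Lib.ModelsH5.emb_row_nonpos T v 1
    rw [Fin.sum_univ_seven] at r
    simp only [A_1_0, A_1_2, A_1_3, A_1_4, A_1_5, A_1_6, hd 1, W_1] at r
    by_contra hcon
    push Not at hcon
    have := mul_pos (T.w_pos (v 0)) (sub_pos.2 hcon)
    linarith
  · have r := Groth.Agent.Lib.ModelsH5.emb_row_nonpos T v 2
    rw [Fin.sum_univ_seven] at r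
    simp only [A_2_0, A_2_1, A_2_3, A_2_4, A_2_5, A_2_6, hd 2, W_2] at r
    by_contra hcon
    push Not at hcon
    have := mul_pos (T.w_pos (v 0)) (sub_pos.2 hcon)
    linarith
  · have r := Groth.Agent.Lib.ModelsH5.emb_row_nonpos T v 3
    rw [Fin.sum_univ_seven] at r
    simp only [A_3_0, A_3_1, A_3_2, A_3_4, A_3_5, A_3_6, hd 3, W_3] at r
    by_contra hcon
    push Not at hcon
    have := mul_pos (T.w_pos (v 0)) (sub_pos.2 hcon)
    linarith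
  · have r := Groth.Agent.Lib.ModelsH5.emb_row_nonpos T v 4
    rw [Fin.sum_univ_seven] at r
    simp only [A_4_0, A_4_1, A_4_2, A_4_3, A_4_5, A_4_6, hd 4, W_4] at r
    by_contra hcon
    push Not at hcon
    have := mul_pos (T.w_pos (v 0)) (sub_pos.2 hcon)
    linarith
  · have r := Groth.Agent.Lib.ModelsH5.emb_row_nonpos T v 5
    rw [Fin.sum_univ_seven] at r
    simp only [A_5_0, A_5_1, A_5_2, A_5_3, A_5_4, A_5_6, hd 5, W_5] at r
    by_contra hcon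
    push Not at hcon
    have := mul_pos (T.w_pos (v 0)) (sub_pos.2 hcon)
    linarith
  · have r := Groth.Agent.Lib.ModelsH5.emb_row_nonpos T v 6
    rw [Fin.sum_univ_seven] at r
    simp only [A_6_0, A_6_1, A_6_2, A_6_3, A_6_4, A_6_5, hd 6, W_6] at r
    by_contra hcon
    push Not at hcon
    have := mul_pos (T.w_pos (v 0)) (sub_pos.2 hcon)
    linarith

end Groth.Agent.S7349
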