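import Groth.Statements.S7353
import Mathlib
import Groth.Agent.Lib.Models3_helper5

set_option autoImplicit false
open Finset
open Models Models.NumericalType

namespace Groth.Agent.S7353

/-- Classification of proper subgraphs which are chains of five vertices: let T be a numerical type on n
> 5 indices and i_1, …, i_5 distinct (-2)-indices with a_{i_j i_{j+1}} nonzero for j < 5. Then
a_{i_j i_l} = 0 for |j - l| ≥ 2 and, after possibly reversing the order of the indices, for some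
integer w one of the following holds: (A5) w = (w, w, w, w, w), consecutive a = (w, w, w, w), with
2m_1 ≥ m_2, 2m_2 ≥ m_1 + m_3, 2m_3 ≥ m_2 + m_4, 2m_4 ≥ m_3 + m_5, 2m_5 ≥ m_4; (C5) w = (w, w, w, w,
2w), consecutive a = (w, w, w, 2w), with 2m_1 ≥ m_2, 2m_2 ≥ m_1 + m_3, 2m_3 ≥ m_2 + m_4, 2m_4 ≥ m_3
+ 2m_5, 2m_5 ≥ m_4; (B5) w = (2w, 2w, 2w, 2w, w), consecutive a = (2w, 2w, 2w, 2w), with 2m_1 ≥ m_2,
2m_2 ≥ m_1 + m_3, 2m_3 ≥ m_2 + m_4, 2m_4 ≥ m_3 + m_5, m_5 ≥ m_4. (The inequalities are those given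
by the rows Σ_l a_{kl} m_l = 0 of the displayed matrices; the published text has 2m_3 ≥ m_2 + 2m_4
and 2m_4 ≥ m_3 + m_5 in case C5 and m_4 ≥ m_3 in case B5, of which the first does not follow — for
the numerical type with six indices, weights (1,1,1,1,2,1), chain intersection numbers (1,1,1,2)
plus a_{16} = 1, a_{66} = -1 and multiplicities (2,2,2,2,1,2) one has 2m_3 = 4 < m_2 + 2m_4 = 6 — so
the matrix inequalities are stated.) -/
theorem result {n : ℕ} (T : Models.NumericalType n) (hn : 5 < n)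
    (v : Fin 5 ↪ Fin n) (hv : ∀ j, T.IsMinusTwo (v j)) (h01 : T.a (v 0) (v 1) ≠ 0) (h12 : T.a (v 1) (v 2) ≠ 0) (h23 : T.a (v 2) (v 3) ≠ 0) (h34 : T.a (v 3) (v 4) ≠ 0) :
    (T.a (v 0) (v 2) = 0 ∧ T.a (v 0) (v 3) = 0 ∧ T.a (v 0) (v 4) = 0 ∧ T.a (v 1) (v 3) = 0 ∧ T.a (v 1) (v 4) = 0 ∧ T.a (v 2) (v 4) = 0) ∧
    ∃ (u : Fin 5 → Fin n) (w : ℤ), ((∀ j, u j = v j) ∨ (∀ j, u j = v (Fin.rev j))) ∧
      ((T.w (u 0) = w ∧ T.w (u 1) = w ∧ T.w (u 2) = w ∧ T.w (u 3) = w ∧ T.w (u 4) = w ∧ T.a (u 0) (u 1) = w ∧ T.a (u 1) (u 2) = w ∧ T.a (u 2) (u 3) = w ∧ T.a (u 3) (u 4) = w ∧ T.m (u 1) ≤ 2 * T.m (u 0) ∧ T.m (u 0) + T.m (u 2) ≤ 2 * T.m (u 1) ∧ T.m (u 1) + T.m (u 3) ≤ 2 * T.m (u 2) ∧ T.m (u 2) + T.m (u 4) ≤ 2 * T.m (u 3) ∧ T.m (u 3) ≤ 2 * T.m (u 4)) ∨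
      (T.w (u 0) = w ∧ T.w (u 1) = w ∧ T.w (u 2) = w ∧ T.w (u 3) = w ∧ T.w (u 4) = 2 * w ∧ T.a (u 0) (u 1) = w ∧ T.a (u 1) (u 2) = w ∧ T.a (u 2) (u 3) = w ∧ T.a (u 3) (u 4) = 2 * w ∧ T.m (u 1) ≤ 2 * T.m (u 0) ∧ T.m (u 0) + T.m (u 2) ≤ 2 * T.m (u 1) ∧ T.m (u 1) + T.m (u 3) ≤ 2 * T.m (u 2) ∧ T.m (u 2) + 2 * T.m (u 4) ≤ 2 * T.m (u 3) ∧ T.m (u 3) ≤ 2 * T.m (u 4)) ∨
      (T.w (u 0) = 2 * w ∧ T.w (u 1) = 2 * w ∧ T.w (u 2) = 2 * w ∧ T.w (u 3) = 2 * w ∧ T.w (u 4) = w ∧ T.a (u 0) (u 1) = 2 * w ∧ T.a (u 1) (u 2) = 2 * w ∧ T.a (u 2) (u 3) = 2 * w ∧ T.a (u 3) (u 4) = 2 * w ∧ T.m (u 1) ≤ 2 * T.m (u 0) ∧ T.m (u 0) + T.m (u 2) ≤ 2 * T.m (u 1) ∧ T.m (u 1) + T.m (u 3) ≤ 2 * T.m (u 2) ∧ T.m (u 2) + T.m (u 4) ≤ 2 * T.m (u 3) ∧ T.m (u 3) ≤ T.m (u 4))) := by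
  have hne : ∀ j k : Fin 5, j ≠ k → v j ≠ v k := fun j k h e => h (v.injective e)
  have hnn : ∀ j k : Fin 5, j ≠ k → 0 ≤ T.a (v j) (v k) :=
    fun j k h => Groth.Agent.Lib.ModelsH5.emb_offDiag_nonneg T v j k h
  have hs : ∀ j k : Fin 5, T.a (v k) (v j) = T.a (v j) (v k) :=
    fun j k => Groth.Agent.Lib.ModelsH5.emb_symm T v j k
  have hd : ∀ j : Fin 5, T.a (v j) (v j) = -2 * T.w (v j) := fun j => (hv j).2
  have nz_0_1 : T.a (v 0) (v 1) ≠ 0 := h01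
  have nz_1_0 : T.a (v 1) (v 0) ≠ 0 := by rw [hs 0 1]; exact nz_0_1
  have E_0_1 : T.w (v 0) ≤ T.a (v 0) (v 1) := Groth.Agent.Lib.ModelsH5.w_le_of_ne_zero T _ _ (hne 0 1 (by decide)) nz_0_1
  have E_1_0 : T.w (v 1) ≤ T.a (v 1) (v 0) := Groth.Agent.Lib.ModelsH5.w_le_of_ne_zero T _ _ (hne 1 0 (by decide)) nz_1_0
  have nz_1_2 : T.a (v 1) (v 2) ≠ 0 := h12
  have nz_2_1 : T.a (v 2) (v 1) ≠ 0 := by rw [hs 1 2]; exact nz_1_2
  have E_1_2 : T.w (v 1) ≤ T.a (v 1) (v 2) := Groth.Agent.Lib.ModelsH5.w_le_of_ne_zero T _ _ (hne 1 2 (by decide)) nz_1_2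
  have E_2_1 : T.w (v 2) ≤ T.a (v 2) (v 1) := Groth.Agent.Lib.ModelsH5.w_le_of_ne_zero T _ _ (hne 2 1 (by decide)) nz_2_1
  have nz_2_3 : T.a (v 2) (v 3) ≠ 0 := h23
  have nz_3_2 : T.a (v 3) (v 2) ≠ 0 := by rw [hs 2 3]; exact nz_2_3
  have E_2_3 : T.w (v 2) ≤ T.a (v 2) (v 3) := Groth.Agent.Lib.ModelsH5.w_le_of_ne_zero T _ _ (hne 2 3 (by decide)) nz_2_3
  have E_3_2 : T.w (v 3) ≤ T.a (v 3) (v 2) := Groth.Agent.Lib.ModelsH5.w_le_of_ne_zero T _ _ (hne 3 2 (by decide)) nz_3_2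
  have nz_3_4 : T.a (v 3) (v 4) ≠ 0 := h34
  have nz_4_3 : T.a (v 4) (v 3) ≠ 0 := by rw [hs 3 4]; exact nz_3_4
  have E_3_4 : T.w (v 3) ≤ T.a (v 3) (v 4) := Groth.Agent.Lib.ModelsH5.w_le_of_ne_zero T _ _ (hne 3 4 (by decide)) nz_3_4
  have E_4_3 : T.w (v 4) ≤ T.a (v 4) (v 3) := Groth.Agent.Lib.ModelsH5.w_le_of_ne_zero T _ _ (hne 4 3 (by decide)) nz_4_3
  have z_0_2 : T.a (v 0) (v 2) = 0 := by
    by_contra hnz
    have hnz' : T.a (v 2) (v 0) ≠ 0 := by rw [hs 0 2]; exact hnz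
    have B1 : T.w (v 0) ≤ T.a (v 0) (v 2) := Groth.Agent.Lib.ModelsH5.w_le_of_ne_zero T _ _ (hne 0 2 (by decide)) hnz
    have B2 : T.w (v 2) ≤ T.a (v 2) (v 0) := Groth.Agent.Lib.ModelsH5.w_le_of_ne_zero T _ _ (hne 2 0 (by decide)) hnz'
    refine Groth.Agent.Lib.ModelsH5.no_superharmonic T v (by omega) ![1, 1, 1, 0, 0] ?_ ⟨0, by simp⟩ ?_
    · intro k; fin_cases k <;> simp
    · intro j hj
      fin_cases j <;> simp [Fin.sum_univ_succ] at hj ⊢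
      · linarith [hd 0, E_0_1, B1]
      · linarith [hd 1, E_1_0, E_1_2]
      · linarith [hd 2, B2, E_2_1]
  have z_0_3 : T.a (v 0) (v 3) = 0 := by
    by_contra hnz
    have hnz' : T.a (v 3) (v 0) ≠ 0 := by rw [hs 0 3]; exact hnz
    have B1 : T.w (v 0) ≤ T.a (v 0) (v 3) := Groth.Agent.Lib.ModelsH5.w_le_of_ne_zero T _ _ (hne 0 3 (by decide)) hnz
    have B2 : T.w (v 3) ≤ T.a (v 3) (v 0) := Groth.Agent.Lib.ModelsH5.w_le_of_ne_zero T _ _ (hne 3 0 (by decide)) hnz'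
    refine Groth.Agent.Lib.ModelsH5.no_superharmonic T v (by omega) ![1, 1, 1, 1, 0] ?_ ⟨0, by simp⟩ ?_
    · intro k; fin_cases k <;> simp
    · intro j hj
      fin_cases j <;> simp [Fin.sum_univ_succ] at hj ⊢
      · linarith [hd 0, E_0_1, hnn 0 2 (by decide), B1]
      · linarith [hd 1, E_1_0, E_1_2, hnn 1 3 (by decide)]
      · linarith [hd 2, hnn 2 0 (by decide), E_2_1, E_2_3]
      · linarith [hd 3, B2, hnn 3 1 (by decide), E_3_2]
  have z_0_4 : T.a (v 0) (v 4) = 0 := by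
    by_contra hnz
    have hnz' : T.a (v 4) (v 0) ≠ 0 := by rw [hs 0 4]; exact hnz
    have B1 : T.w (v 0) ≤ T.a (v 0) (v 4) := Groth.Agent.Lib.ModelsH5.w_le_of_ne_zero T _ _ (hne 0 4 (by decide)) hnz
    have B2 : T.w (v 4) ≤ T.a (v 4) (v 0) := Groth.Agent.Lib.ModelsH5.w_le_of_ne_zero T _ _ (hne 4 0 (by decide)) hnz'
    refine Groth.Agent.Lib.ModelsH5.no_superharmonic T v (by omega) ![1, 1, 1, 1, 1] ?_ ⟨0, by simp⟩ ?_
    · intro k; fin_cases k <;> simp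
    · intro j hj
      fin_cases j <;> simp [Fin.sum_univ_succ] at hj ⊢
      · linarith [hd 0, E_0_1, hnn 0 2 (by decide), hnn 0 3 (by decide), B1]
      · linarith [hd 1, E_1_0, E_1_2, hnn 1 3 (by decide), hnn 1 4 (by decide)]
      · linarith [hd 2, hnn 2 0 (by decide), E_2_1, E_2_3, hnn 2 4 (by decide)]
      · linarith [hd 3, hnn 3 0 (by decide), hnn 3 1 (by decide), E_3_2, E_3_4]
      · linarith [hd 4, B2, hnn 4 1 (by decide), hnn 4 2 (by decide), E_4_3]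
  have z_1_3 : T.a (v 1) (v 3) = 0 := by
    by_contra hnz
    have hnz' : T.a (v 3) (v 1) ≠ 0 := by rw [hs 1 3]; exact hnz
    have B1 : T.w (v 1) ≤ T.a (v 1) (v 3) := Groth.Agent.Lib.ModelsH5.w_le_of_ne_zero T _ _ (hne 1 3 (by decide)) hnz
    have B2 : T.w (v 3) ≤ T.a (v 3) (v 1) := Groth.Agent.Lib.ModelsH5.w_le_of_ne_zero T _ _ (hne 3 1 (by decide)) hnz'
    refine Groth.Agent.Lib.ModelsH5.no_superharmonic T v (by omega) ![0, 1, 1, 1, 0] ?_ ⟨1, by simp⟩ ?_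
    · intro k; fin_cases k <;> simp
    · intro j hj
      fin_cases j <;> simp [Fin.sum_univ_succ] at hj ⊢
      · linarith [hd 1, E_1_2, B1]
      · linarith [hd 2, E_2_1, E_2_3]
      · linarith [hd 3, B2, E_3_2]
  have z_1_4 : T.a (v 1) (v 4) = 0 := by
    by_contra hnz
    have hnz' : T.a (v 4) (v 1) ≠ 0 := by rw [hs 1 4]; exact hnz
    have B1 : T.w (v 1) ≤ T.a (v 1) (v 4) := Groth.Agent.Lib.ModelsH5.w_le_of_ne_zero T _ _ (hne 1 4 (by decide)) hnz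
    have B2 : T.w (v 4) ≤ T.a (v 4) (v 1) := Groth.Agent.Lib.ModelsH5.w_le_of_ne_zero T _ _ (hne 4 1 (by decide)) hnz'
    refine Groth.Agent.Lib.ModelsH5.no_superharmonic T v (by omega) ![0, 1, 1, 1, 1] ?_ ⟨1, by simp⟩ ?_
    · intro k; fin_cases k <;> simp
    · intro j hj
      fin_cases j <;> simp [Fin.sum_univ_succ] at hj ⊢
      · linarith [hd 1, E_1_2, hnn 1 3 (by decide), B1]
      · linarith [hd 2, E_2_1, E_2_3, hnn 2 4 (by decide)]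
      · linarith [hd 3, hnn 3 1 (by decide), E_3_2, E_3_4]
      · linarith [hd 4, B2, hnn 4 2 (by decide), E_4_3]
  have z_2_4 : T.a (v 2) (v 4) = 0 := by
    by_contra hnz
    have hnz' : T.a (v 4) (v 2) ≠ 0 := by rw [hs 2 4]; exact hnz
    have B1 : T.w (v 2) ≤ T.a (v 2) (v 4) := Groth.Agent.Lib.ModelsH5.w_le_of_ne_zero T _ _ (hne 2 4 (by decide)) hnz
    have B2 : T.w (v 4) ≤ T.a (v 4) (v 2) := Groth.Agent.Lib.ModelsH5.w_le_of_ne_zero T _ _ (hne 4 2 (by decide)) hnz'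
    refine Groth.Agent.Lib.ModelsH5.no_superharmonic T v (by omega) ![0, 0, 1, 1, 1] ?_ ⟨2, by simp⟩ ?_
    · intro k; fin_cases k <;> simp
    · intro j hj
      fin_cases j <;> simp [Fin.sum_univ_succ] at hj ⊢
      · linarith [hd 2, E_2_3, B1]
      · linarith [hd 3, E_3_2, E_3_4]
      · linarith [hd 4, B2, E_4_3]
  have t_0_1 : T.a (v 0) (v 1) = T.w (v 0) ∨ T.a (v 0) (v 1) = 2 * T.w (v 0) := by
    rcases Groth.Agent.Lib.ModelsH5.eq_or_eq_two_or_three_le T (v 0) (v 1) (hne 0 1 (by decide)) nz_0_1 with h | h | h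
    · exact Or.inl h
    · exact Or.inr h
    · exfalso
      refine Groth.Agent.Lib.ModelsH5.no_superharmonic T v (by omega) ![3, 2, 1, 0, 0] ?_ ⟨0, by simp⟩ ?_
      · intro k; fin_cases k <;> simp
      · intro j hj
        fin_cases j <;> simp [Fin.sum_univ_succ] at hj ⊢
        · linarith [hd 0, h, hnn 0 2 (by decide)]
        · linarith [hd 1, E_1_0, E_1_2]
        · linarith [hd 2, hnn 2 0 (by decide), E_2_1]
  have t_1_0 : T.a (v 1) (v 0) = T.w (v 1) ∨ T.a (v 1) (v 0) = 2 * T.w (v 1) := by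
    rcases Groth.Agent.Lib.ModelsH5.eq_or_eq_two_or_three_le T (v 1) (v 0) (hne 1 0 (by decide)) nz_1_0 with h | h | h
    · exact Or.inl h
    · exact Or.inr h
    · exfalso
      refine Groth.Agent.Lib.ModelsH5.no_superharmonic T v (by omega) ![1, 2, 1, 0, 0] ?_ ⟨0, by simp⟩ ?_
      · intro k; fin_cases k <;> simp
      · intro j hj
        fin_cases j <;> simp [Fin.sum_univ_succ] at hj ⊢
        · linarith [hd 0, E_0_1, hnn 0 2 (by decide)]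
        · linarith [hd 1, h, E_1_2]
        · linarith [hd 2, hnn 2 0 (by decide), E_2_1]
  have t_1_2 : T.a (v 1) (v 2) = T.w (v 1) ∨ T.a (v 1) (v 2) = 2 * T.w (v 1) := by
    rcases Groth.Agent.Lib.ModelsH5.eq_or_eq_two_or_three_le T (v 1) (v 2) (hne 1 2 (by decide)) nz_1_2 with h | h | h
    · exact Or.inl h
    · exact Or.inr h
    · exfalso
      refine Groth.Agent.Lib.ModelsH5.no_superharmonic T v (by omega) ![1, 2, 1, 0, 0] ?_ ⟨0, by simp⟩ ?_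
      · intro k; fin_cases k <;> simp
      · intro j hj
        fin_cases j <;> simp [Fin.sum_univ_succ] at hj ⊢
        · linarith [hd 0, E_0_1, hnn 0 2 (by decide)]
        · linarith [hd 1, E_1_0, h]
        · linarith [hd 2, hnn 2 0 (by decide), E_2_1]
  have t_2_1 : T.a (v 2) (v 1) = T.w (v 2) ∨ T.a (v 2) (v 1) = 2 * T.w (v 2) := by
    rcases Groth.Agent.Lib.ModelsH5.eq_or_eq_two_or_three_le T (v 2) (v 1) (hne 2 1 (by decide)) nz_2_1 with h | h | h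
    · exact Or.inl h
    · exact Or.inr h
    · exfalso
      refine Groth.Agent.Lib.ModelsH5.no_superharmonic T v (by omega) ![1, 2, 3, 0, 0] ?_ ⟨0, by simp⟩ ?_
      · intro k; fin_cases k <;> simp
      · intro j hj
        fin_cases j <;> simp [Fin.sum_univ_succ] at hj ⊢
        · linarith [hd 0, E_0_1, hnn 0 2 (by decide)]
        · linarith [hd 1, E_1_0, E_1_2]
        · linarith [hd 2, hnn 2 0 (by decide), h]
  have t_2_3 : T.a (v 2) (v 3) = T.w (v 2) ∨ T.a (v 2) (v 3) = 2 * T.w (v 2) := by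
    rcases Groth.Agent.Lib.ModelsH5.eq_or_eq_two_or_three_le T (v 2) (v 3) (hne 2 3 (by decide)) nz_2_3 with h | h | h
    · exact Or.inl h
    · exact Or.inr h
    · exfalso
      refine Groth.Agent.Lib.ModelsH5.no_superharmonic T v (by omega) ![0, 1, 2, 1, 0] ?_ ⟨1, by simp⟩ ?_
      · intro k; fin_cases k <;> simp
      · intro j hj
        fin_cases j <;> simp [Fin.sum_univ_succ] at hj ⊢
        · linarith [hd 1, E_1_2, hnn 1 3 (by decide)]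
        · linarith [hd 2, E_2_1, h]
        · linarith [hd 3, hnn 3 1 (by decide), E_3_2]
  have t_3_2 : T.a (v 3) (v 2) = T.w (v 3) ∨ T.a (v 3) (v 2) = 2 * T.w (v 3) := by
    rcases Groth.Agent.Lib.ModelsH5.eq_or_eq_two_or_three_le T (v 3) (v 2) (hne 3 2 (by decide)) nz_3_2 with h | h | h
    · exact Or.inl h
    · exact Or.inr h
    · exfalso
      refine Groth.Agent.Lib.ModelsH5.no_superharmonic T v (by omega) ![0, 1, 2, 3, 0] ?_ ⟨1, by simp⟩ ?_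
      · intro k; fin_cases k <;> simp
      · intro j hj
        fin_cases j <;> simp [Fin.sum_univ_succ] at hj ⊢
        · linarith [hd 1, E_1_2, hnn 1 3 (by decide)]
        · linarith [hd 2, E_2_1, E_2_3]
        · linarith [hd 3, hnn 3 1 (by decide), h]
  have t_3_4 : T.a (v 3) (v 4) = T.w (v 3) ∨ T.a (v 3) (v 4) = 2 * T.w (v 3) := by
    rcases Groth.Agent.Lib.ModelsH5.eq_or_eq_two_or_three_le T (v 3) (v 4) (hne 3 4 (by decide)) nz_3_4 with h | h | h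
    · exact Or.inl h
    · exact Or.inr h
    · exfalso
      refine Groth.Agent.Lib.ModelsH5.no_superharmonic T v (by omega) ![0, 0, 1, 2, 1] ?_ ⟨2, by simp⟩ ?_
      · intro k; fin_cases k <;> simp
      · intro j hj
        fin_cases j <;> simp [Fin.sum_univ_succ] at hj ⊢
        · linarith [hd 2, E_2_3, hnn 2 4 (by decide)]
        · linarith [hd 3, E_3_2, h]
        · linarith [hd 4, hnn 4 2 (by decide), E_4_3]
  have t_4_3 : T.a (v 4) (v 3) = T.w (v 4) ∨ T.a (v 4) (v 3) = 2 * T.w (v 4) := by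
    rcases Groth.Agent.Lib.ModelsH5.eq_or_eq_two_or_three_le T (v 4) (v 3) (hne 4 3 (by decide)) nz_4_3 with h | h | h
    · exact Or.inl h
    · exact Or.inr h
    · exfalso
      refine Groth.Agent.Lib.ModelsH5.no_superharmonic T v (by omega) ![0, 0, 1, 2, 3] ?_ ⟨2, by simp⟩ ?_
      · intro k; fin_cases k <;> simp
      · intro j hj
        fin_cases j <;> simp [Fin.sum_univ_succ] at hj ⊢
        · linarith [hd 2, E_2_3, hnn 2 4 (by decide)]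
        · linarith [hd 3, E_3_2, E_3_4]
        · linarith [hd 4, hnn 4 2 (by decide), h]
  have s_1_2 : T.a (v 1) (v 2) = T.w (v 1) := by
    rcases t_1_2 with h1 | h1
    · exact h1
    · exfalso
      refine Groth.Agent.Lib.ModelsH5.no_superharmonic T v (by omega) ![2, 4, 3, 2, 1] ?_ ⟨0, by simp⟩ ?_
      · intro k; fin_cases k <;> simp
      · intro j hj
        fin_cases j <;> simp [Fin.sum_univ_succ] at hj ⊢
        · linarith [hd 0, E_0_1, hnn 0 2 (by decide), hnn 0 3 (by decide), hnn 0 4 (by decide)]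
        · linarith [hd 1, E_1_0, h1, hnn 1 3 (by decide), hnn 1 4 (by decide)]
        · linarith [hd 2, hnn 2 0 (by decide), E_2_1, E_2_3, hnn 2 4 (by decide)]
        · linarith [hd 3, hnn 3 0 (by decide), hnn 3 1 (by decide), E_3_2, E_3_4]
        · linarith [hd 4, hnn 4 0 (by decide), hnn 4 1 (by decide), hnn 4 2 (by decide), E_4_3]
  have s_2_1 : T.a (v 2) (v 1) = T.w (v 2) := by
    rcases t_2_1 with h1 | h1
    · exact h1
    · exfalso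
      refine Groth.Agent.Lib.ModelsH5.no_superharmonic T v (by omega) ![1, 2, 3, 2, 1] ?_ ⟨0, by simp⟩ ?_
      · intro k; fin_cases k <;> simp
      · intro j hj
        fin_cases j <;> simp [Fin.sum_univ_succ] at hj ⊢
        · linarith [hd 0, E_0_1, hnn 0 2 (by decide), hnn 0 3 (by decide), hnn 0 4 (by decide)]
        · linarith [hd 1, E_1_0, E_1_2, hnn 1 3 (by decide), hnn 1 4 (by decide)]
        · linarith [hd 2, hnn 2 0 (by decide), h1, E_2_3, hnn 2 4 (by decide)]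
        · linarith [hd 3, hnn 3 0 (by decide), hnn 3 1 (by decide), E_3_2, E_3_4]
        · linarith [hd 4, hnn 4 0 (by decide), hnn 4 1 (by decide), hnn 4 2 (by decide), E_4_3]
  have s_2_3 : T.a (v 2) (v 3) = T.w (v 2) := by
    rcases t_2_3 with h1 | h1
    · exact h1
    · exfalso
      refine Groth.Agent.Lib.ModelsH5.no_superharmonic T v (by omega) ![1, 2, 3, 2, 1] ?_ ⟨0, by simp⟩ ?_
      · intro k; fin_cases k <;> simp
      · intro j hj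
        fin_cases j <;> simp [Fin.sum_univ_succ] at hj ⊢
        · linarith [hd 0, E_0_1, hnn 0 2 (by decide), hnn 0 3 (by decide), hnn 0 4 (by decide)]
        · linarith [hd 1, E_1_0, E_1_2, hnn 1 3 (by decide), hnn 1 4 (by decide)]
        · linarith [hd 2, hnn 2 0 (by decide), E_2_1, h1, hnn 2 4 (by decide)]
        · linarith [hd 3, hnn 3 0 (by decide), hnn 3 1 (by decide), E_3_2, E_3_4]
        · linarith [hd 4, hnn 4 0 (by decide), hnn 4 1 (by decide), hnn 4 2 (by decide), E_4_3]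
  have s_3_2 : T.a (v 3) (v 2) = T.w (v 3) := by
    rcases t_3_2 with h1 | h1
    · exact h1
    · exfalso
      refine Groth.Agent.Lib.ModelsH5.no_superharmonic T v (by omega) ![1, 2, 3, 4, 2] ?_ ⟨0, by simp⟩ ?_
      · intro k; fin_cases k <;> simp
      · intro j hj
        fin_cases j <;> simp [Fin.sum_univ_succ] at hj ⊢
        · linarith [hd 0, E_0_1, hnn 0 2 (by decide), hnn 0 3 (by decide), hnn 0 4 (by decide)]
        · linarith [hd 1, E_1_0, E_1_2, hnn 1 3 (by decide), hnn 1 4 (by decide)]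
        · linarith [hd 2, hnn 2 0 (by decide), E_2_1, E_2_3, hnn 2 4 (by decide)]
        · linarith [hd 3, hnn 3 0 (by decide), hnn 3 1 (by decide), h1, E_3_4]
        · linarith [hd 4, hnn 4 0 (by decide), hnn 4 1 (by decide), hnn 4 2 (by decide), E_4_3]
  have np_0_1_1_0 : T.a (v 0) (v 1) = 2 * T.w (v 0) → T.a (v 1) (v 0) = 2 * T.w (v 1) → False := by
    intro h1 h2
    refine Groth.Agent.Lib.ModelsH5.no_superharmonic T v (by omega) ![1, 1, 0, 0, 0] ?_ ⟨0, by simp⟩ ?_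
    · intro k; fin_cases k <;> simp
    · intro j hj
      fin_cases j <;> simp [Fin.sum_univ_succ] at hj ⊢
      · linarith [hd 0, h1]
      · linarith [hd 1, h2]
  have np_0_1_3_4 : T.a (v 0) (v 1) = 2 * T.w (v 0) → T.a (v 3) (v 4) = 2 * T.w (v 3) → False := by
    intro h1 h2
    refine Groth.Agent.Lib.ModelsH5.no_superharmonic T v (by omega) ![2, 2, 2, 2, 1] ?_ ⟨0, by simp⟩ ?_
    · intro k; fin_cases k <;> simp
    · intro j hj
      fin_cases j <;> simp [Fin.sum_univ_succ] at hj ⊢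
      · linarith [hd 0, h1, hnn 0 2 (by decide), hnn 0 3 (by decide), hnn 0 4 (by decide)]
      · linarith [hd 1, E_1_0, E_1_2, hnn 1 3 (by decide), hnn 1 4 (by decide)]
      · linarith [hd 2, hnn 2 0 (by decide), E_2_1, E_2_3, hnn 2 4 (by decide)]
      · linarith [hd 3, hnn 3 0 (by decide), hnn 3 1 (by decide), E_3_2, h2]
      · linarith [hd 4, hnn 4 0 (by decide), hnn 4 1 (by decide), hnn 4 2 (by decide), E_4_3]
  have np_0_1_4_3 : T.a (v 0) (v 1) = 2 * T.w (v 0) → T.a (v 4) (v 3) = 2 * T.w (v 4) → False := by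
    intro h1 h2
    refine Groth.Agent.Lib.ModelsH5.no_superharmonic T v (by omega) ![1, 1, 1, 1, 1] ?_ ⟨0, by simp⟩ ?_
    · intro k; fin_cases k <;> simp
    · intro j hj
      fin_cases j <;> simp [Fin.sum_univ_succ] at hj ⊢
      · linarith [hd 0, h1, hnn 0 2 (by decide), hnn 0 3 (by decide), hnn 0 4 (by decide)]
      · linarith [hd 1, E_1_0, E_1_2, hnn 1 3 (by decide), hnn 1 4 (by decide)]
      · linarith [hd 2, hnn 2 0 (by decide), E_2_1, E_2_3, hnn 2 4 (by decide)]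
      · linarith [hd 3, hnn 3 0 (by decide), hnn 3 1 (by decide), E_3_2, E_3_4]
      · linarith [hd 4, hnn 4 0 (by decide), hnn 4 1 (by decide), hnn 4 2 (by decide), h2]
  have np_1_0_3_4 : T.a (v 1) (v 0) = 2 * T.w (v 1) → T.a (v 3) (v 4) = 2 * T.w (v 3) → False := by
    intro h1 h2
    refine Groth.Agent.Lib.ModelsH5.no_superharmonic T v (by omega) ![1, 2, 2, 2, 1] ?_ ⟨0, by simp⟩ ?_
    · intro k; fin_cases k <;> simp
    · intro j hj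
      fin_cases j <;> simp [Fin.sum_univ_succ] at hj ⊢
      · linarith [hd 0, E_0_1, hnn 0 2 (by decide), hnn 0 3 (by decide), hnn 0 4 (by decide)]
      · linarith [hd 1, h1, E_1_2, hnn 1 3 (by decide), hnn 1 4 (by decide)]
      · linarith [hd 2, hnn 2 0 (by decide), E_2_1, E_2_3, hnn 2 4 (by decide)]
      · linarith [hd 3, hnn 3 0 (by decide), hnn 3 1 (by decide), E_3_2, h2]
      · linarith [hd 4, hnn 4 0 (by decide), hnn 4 1 (by decide), hnn 4 2 (by decide), E_4_3]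
  have np_1_0_4_3 : T.a (v 1) (v 0) = 2 * T.w (v 1) → T.a (v 4) (v 3) = 2 * T.w (v 4) → False := by
    intro h1 h2
    refine Groth.Agent.Lib.ModelsH5.no_superharmonic T v (by omega) ![1, 2, 2, 2, 2] ?_ ⟨0, by simp⟩ ?_
    · intro k; fin_cases k <;> simp
    · intro j hj
      fin_cases j <;> simp [Fin.sum_univ_succ] at hj ⊢
      · linarith [hd 0, E_0_1, hnn 0 2 (by decide), hnn 0 3 (by decide), hnn 0 4 (by decide)]
      · linarith [hd 1, h1, E_1_2, hnn 1 3 (by decide), hnn 1 4 (by decide)]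
      · linarith [hd 2, hnn 2 0 (by decide), E_2_1, E_2_3, hnn 2 4 (by decide)]
      · linarith [hd 3, hnn 3 0 (by decide), hnn 3 1 (by decide), E_3_2, E_3_4]
      · linarith [hd 4, hnn 4 0 (by decide), hnn 4 1 (by decide), hnn 4 2 (by decide), h2]
  have np_3_4_4_3 : T.a (v 3) (v 4) = 2 * T.w (v 3) → T.a (v 4) (v 3) = 2 * T.w (v 4) → False := by
    intro h1 h2
    refine Groth.Agent.Lib.ModelsH5.no_superharmonic T v (by omega) ![0, 0, 0, 1, 1] ?_ ⟨3, by simp⟩ ?_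
    · intro k; fin_cases k <;> simp
    · intro j hj
      fin_cases j <;> simp [Fin.sum_univ_succ] at hj ⊢
      · linarith [hd 3, h1]
      · linarith [hd 4, h2]
  refine ⟨⟨z_0_2, z_0_3, z_0_4, z_1_3, z_1_4, z_2_4⟩, ?_⟩
  rcases t_0_1 with s_0_1 | d_0_1
  swap
  · have s_1_0 := t_1_0.resolve_right (fun dd => np_0_1_1_0 d_0_1 dd)
    have s_3_4 := t_3_4.resolve_right (fun dd => np_0_1_3_4 d_0_1 dd)
    have s_4_3 := t_4_3.resolve_right (fun dd => np_0_1_4_3 d_0_1 dd)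
    have W_1 : T.w (v 1) = 2 * T.w (v 0) := by linarith [d_0_1, s_1_0, s_1_2, s_2_1, s_2_3, s_3_2, s_3_4, s_4_3, hs 0 1, hs 1 2, hs 2 3, hs 3 4]
    have W_2 : T.w (v 2) = 2 * T.w (v 0) := by linarith [d_0_1, s_1_0, s_1_2, s_2_1, s_2_3, s_3_2, s_3_4, s_4_3, hs 0 1, hs 1 2, hs 2 3, hs 3 4]
    have W_3 : T.w (v 3) = 2 * T.w (v 0) := by linarith [d_0_1, s_1_0, s_1_2, s_2_1, s_2_3, s_3_2, s_3_4, s_4_3, hs 0 1, hs 1 2, hs 2 3, hs 3 4]
    have W_4 : T.w (v 4) = 2 * T.w (v 0) := by linarith [d_0_1, s_1_0, s_1_2, s_2_1, s_2_3, s_3_2, s_3_4, s_4_3, hs 0 1, hs 1 2, hs 2 3, hs 3 4]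
    have W_0 : T.w (v 0) = T.w (v 0) := rfl
    have A_0_1 : T.a (v 0) (v 1) = 2 * T.w (v 0) := by linarith [d_0_1, s_1_0, s_1_2, s_2_1, s_2_3, s_3_2, s_3_4, s_4_3, hs 0 1, hs 1 2, hs 2 3, hs 3 4]
    have A_0_2 : T.a (v 0) (v 2) = 0 := z_0_2
    have A_0_3 : T.a (v 0) (v 3) = 0 := z_0_3
    have A_0_4 : T.a (v 0) (v 4) = 0 := z_0_4
    have A_1_0 : T.a (v 1) (v 0) = 2 * T.w (v 0) := by linarith [d_0_1, s_1_0, s_1_2, s_2_1, s_2_3, s_3_2, s_3_4, s_4_3, hs 0 1, hs 1 2, hs 2 3, hs 3 4]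
    have A_1_2 : T.a (v 1) (v 2) = 2 * T.w (v 0) := by linarith [d_0_1, s_1_0, s_1_2, s_2_1, s_2_3, s_3_2, s_3_4, s_4_3, hs 0 1, hs 1 2, hs 2 3, hs 3 4]
    have A_1_3 : T.a (v 1) (v 3) = 0 := z_1_3
    have A_1_4 : T.a (v 1) (v 4) = 0 := z_1_4
    have A_2_0 : T.a (v 2) (v 0) = 0 := by rw [hs 0 2]; exact z_0_2
    have A_2_1 : T.a (v 2) (v 1) = 2 * T.w (v 0) := by linarith [d_0_1, s_1_0, s_1_2, s_2_1, s_2_3, s_3_2, s_3_4, s_4_3, hs 0 1, hs 1 2, hs 2 3, hs 3 4]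
    have A_2_3 : T.a (v 2) (v 3) = 2 * T.w (v 0) := by linarith [d_0_1, s_1_0, s_1_2, s_2_1, s_2_3, s_3_2, s_3_4, s_4_3, hs 0 1, hs 1 2, hs 2 3, hs 3 4]
    have A_2_4 : T.a (v 2) (v 4) = 0 := z_2_4
    have A_3_0 : T.a (v 3) (v 0) = 0 := by rw [hs 0 3]; exact z_0_3
    have A_3_1 : T.a (v 3) (v 1) = 0 := by rw [hs 1 3]; exact z_1_3
    have A_3_2 : T.a (v 3) (v 2) = 2 * T.w (v 0) := by linarith [d_0_1, s_1_0, s_1_2, s_2_1, s_2_3, s_3_2, s_3_4, s_4_3, hs 0 1, hs 1 2, hs 2 3, hs 3 4]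
    have A_3_4 : T.a (v 3) (v 4) = 2 * T.w (v 0) := by linarith [d_0_1, s_1_0, s_1_2, s_2_1, s_2_3, s_3_2, s_3_4, s_4_3, hs 0 1, hs 1 2, hs 2 3, hs 3 4]
    have A_4_0 : T.a (v 4) (v 0) = 0 := by rw [hs 0 4]; exact z_0_4
    have A_4_1 : T.a (v 4) (v 1) = 0 := by rw [hs 1 4]; exact z_1_4
    have A_4_2 : T.a (v 4) (v 2) = 0 := by rw [hs 2 4]; exact z_2_4
    have A_4_3 : T.a (v 4) (v 3) = 2 * T.w (v 0) := by linarith [d_0_1, s_1_0, s_1_2, s_2_1, s_2_3, s_3_2, s_3_4, s_4_3, hs 0 1, hs 1 2, hs 2 3, hs 3 4]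
    have I_0 : T.m (v 3) ≤ 2 * T.m (v 4) := by
      have r := Groth.Agent.Lib.ModelsH5.emb_row_nonpos T v 4
      rw [Fin.sum_univ_five] at r
      simp only [A_4_0, A_4_1, A_4_2, A_4_3, hd 4, W_4] at r
      by_contra hcon
      push Not at hcon
      have := mul_pos (T.w_pos (v 0)) (sub_pos.2 hcon)
      linarith
    have I_1 : T.m (v 4) + T.m (v 2) ≤ 2 * T.m (v 3) := by
      have r := Groth.Agent.Lib.ModelsH5.emb_row_nonpos T v 3
      rw [Fin.sum_univ_five] at r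
      simp only [A_3_0, A_3_1, A_3_2, A_3_4, hd 3, W_3] at r
      by_contra hcon
      push Not at hcon
      have := mul_pos (T.w_pos (v 0)) (sub_pos.2 hcon)
      linarith
    have I_2 : T.m (v 3) + T.m (v 1) ≤ 2 * T.m (v 2) := by
      have r := Groth.Agent.Lib.ModelsH5.emb_row_nonpos T v 2
      rw [Fin.sum_univ_five] at r
      simp only [A_2_0, A_2_1, A_2_3, A_2_4, hd 2, W_2] at r
      by_contra hcon
      push Not at hcon
      have := mul_pos (T.w_pos (v 0)) (sub_pos.2 hcon)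
      linarith
    have I_3 : T.m (v 2) + T.m (v 0) ≤ 2 * T.m (v 1) := by
      have r := Groth.Agent.Lib.ModelsH5.emb_row_nonpos T v 1
      rw [Fin.sum_univ_five] at r
      simp only [A_1_0, A_1_2, A_1_3, A_1_4, hd 1, W_1] at r
      by_contra hcon
      push Not at hcon
      have := mul_pos (T.w_pos (v 0)) (sub_pos.2 hcon)
      linarith
    have I_4 : T.m (v 1) ≤ T.m (v 0) := by
      have r := Groth.Agent.Lib.ModelsH5.emb_row_nonpos T v 0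
      rw [Fin.sum_univ_five] at r
      simp only [A_0_1, A_0_2, A_0_3, A_0_4, hd 0] at r
      by_contra hcon
      push Not at hcon
      have := mul_pos (T.w_pos (v 0)) (sub_pos.2 hcon)
      linarith
    exact ⟨(fun j => v (Fin.rev j)), T.w (v 0), Or.inr (fun j => rfl), Or.inr (Or.inr (⟨W_4, W_3, W_2, W_1, W_0, A_4_3, A_3_2, A_2_1, A_1_0, I_0, I_1, I_2, I_3, I_4⟩))⟩
  rcases t_1_0 with s_1_0 | d_1_0
  swap
  · have s_3_4 := t_3_4.resolve_right (fun dd => np_1_0_3_4 d_1_0 dd)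
    have s_4_3 := t_4_3.resolve_right (fun dd => np_1_0_4_3 d_1_0 dd)
    have W_0 : T.w (v 0) = 2 * T.w (v 1) := by linarith [s_0_1, d_1_0, s_1_2, s_2_1, s_2_3, s_3_2, s_3_4, s_4_3, hs 0 1, hs 1 2, hs 2 3, hs 3 4]
    have W_2 : T.w (v 2) = T.w (v 1) := by linarith [s_0_1, d_1_0, s_1_2, s_2_1, s_2_3, s_3_2, s_3_4, s_4_3, hs 0 1, hs 1 2, hs 2 3, hs 3 4]
    have W_3 : T.w (v 3) = T.w (v 1) := by linarith [s_0_1, d_1_0, s_1_2, s_2_1, s_2_3, s_3_2, s_3_4, s_4_3, hs 0 1, hs 1 2, hs 2 3, hs 3 4]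
    have W_4 : T.w (v 4) = T.w (v 1) := by linarith [s_0_1, d_1_0, s_1_2, s_2_1, s_2_3, s_3_2, s_3_4, s_4_3, hs 0 1, hs 1 2, hs 2 3, hs 3 4]
    have W_1 : T.w (v 1) = T.w (v 1) := rfl
    have A_0_1 : T.a (v 0) (v 1) = 2 * T.w (v 1) := by linarith [s_0_1, d_1_0, s_1_2, s_2_1, s_2_3, s_3_2, s_3_4, s_4_3, hs 0 1, hs 1 2, hs 2 3, hs 3 4]
    have A_0_2 : T.a (v 0) (v 2) = 0 := z_0_2
    have A_0_3 : T.a (v 0) (v 3) = 0 := z_0_3
    have A_0_4 : T.a (v 0) (v 4) = 0 := z_0_4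
    have A_1_0 : T.a (v 1) (v 0) = 2 * T.w (v 1) := by linarith [s_0_1, d_1_0, s_1_2, s_2_1, s_2_3, s_3_2, s_3_4, s_4_3, hs 0 1, hs 1 2, hs 2 3, hs 3 4]
    have A_1_2 : T.a (v 1) (v 2) = T.w (v 1) := by linarith [s_0_1, d_1_0, s_1_2, s_2_1, s_2_3, s_3_2, s_3_4, s_4_3, hs 0 1, hs 1 2, hs 2 3, hs 3 4]
    have A_1_3 : T.a (v 1) (v 3) = 0 := z_1_3
    have A_1_4 : T.a (v 1) (v 4) = 0 := z_1_4
    have A_2_0 : T.a (v 2) (v 0) = 0 := by rw [hs 0 2]; exact z_0_2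
    have A_2_1 : T.a (v 2) (v 1) = T.w (v 1) := by linarith [s_0_1, d_1_0, s_1_2, s_2_1, s_2_3, s_3_2, s_3_4, s_4_3, hs 0 1, hs 1 2, hs 2 3, hs 3 4]
    have A_2_3 : T.a (v 2) (v 3) = T.w (v 1) := by linarith [s_0_1, d_1_0, s_1_2, s_2_1, s_2_3, s_3_2, s_3_4, s_4_3, hs 0 1, hs 1 2, hs 2 3, hs 3 4]
    have A_2_4 : T.a (v 2) (v 4) = 0 := z_2_4
    have A_3_0 : T.a (v 3) (v 0) = 0 := by rw [hs 0 3]; exact z_0_3
    have A_3_1 : T.a (v 3) (v 1) = 0 := by rw [hs 1 3]; exact z_1_3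
    have A_3_2 : T.a (v 3) (v 2) = T.w (v 1) := by linarith [s_0_1, d_1_0, s_1_2, s_2_1, s_2_3, s_3_2, s_3_4, s_4_3, hs 0 1, hs 1 2, hs 2 3, hs 3 4]
    have A_3_4 : T.a (v 3) (v 4) = T.w (v 1) := by linarith [s_0_1, d_1_0, s_1_2, s_2_1, s_2_3, s_3_2, s_3_4, s_4_3, hs 0 1, hs 1 2, hs 2 3, hs 3 4]
    have A_4_0 : T.a (v 4) (v 0) = 0 := by rw [hs 0 4]; exact z_0_4
    have A_4_1 : T.a (v 4) (v 1) = 0 := by rw [hs 1 4]; exact z_1_4
    have A_4_2 : T.a (v 4) (v 2) = 0 := by rw [hs 2 4]; exact z_2_4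
    have A_4_3 : T.a (v 4) (v 3) = T.w (v 1) := by linarith [s_0_1, d_1_0, s_1_2, s_2_1, s_2_3, s_3_2, s_3_4, s_4_3, hs 0 1, hs 1 2, hs 2 3, hs 3 4]
    have I_0 : T.m (v 3) ≤ 2 * T.m (v 4) := by
      have r := Groth.Agent.Lib.ModelsH5.emb_row_nonpos T v 4
      rw [Fin.sum_univ_five] at r
      simp only [A_4_0, A_4_1, A_4_2, A_4_3, hd 4, W_4] at r
      by_contra hcon
      push Not at hcon
      have := mul_pos (T.w_pos (v 1)) (sub_pos.2 hcon)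
      linarith
    have I_1 : T.m (v 4) + T.m (v 2) ≤ 2 * T.m (v 3) := by
      have r := Groth.Agent.Lib.ModelsH5.emb_row_nonpos T v 3
      rw [Fin.sum_univ_five] at r
      simp only [A_3_0, A_3_1, A_3_2, A_3_4, hd 3, W_3] at r
      by_contra hcon
      push Not at hcon
      have := mul_pos (T.w_pos (v 1)) (sub_pos.2 hcon)
      linarith
    have I_2 : T.m (v 3) + T.m (v 1) ≤ 2 * T.m (v 2) := by
      have r := Groth.Agent.Lib.ModelsH5.emb_row_nonpos T v 2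
      rw [Fin.sum_univ_five] at r
      simp only [A_2_0, A_2_1, A_2_3, A_2_4, hd 2, W_2] at r
      by_contra hcon
      push Not at hcon
      have := mul_pos (T.w_pos (v 1)) (sub_pos.2 hcon)
      linarith
    have I_3 : T.m (v 2) + 2 * T.m (v 0) ≤ 2 * T.m (v 1) := by
      have r := Groth.Agent.Lib.ModelsH5.emb_row_nonpos T v 1
      rw [Fin.sum_univ_five] at r
      simp only [A_1_0, A_1_2, A_1_3, A_1_4, hd 1] at r
      by_contra hcon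
      push Not at hcon
      have := mul_pos (T.w_pos (v 1)) (sub_pos.2 hcon)
      linarith
    have I_4 : T.m (v 1) ≤ 2 * T.m (v 0) := by
      have r := Groth.Agent.Lib.ModelsH5.emb_row_nonpos T v 0
      rw [Fin.sum_univ_five] at r
      simp only [A_0_1, A_0_2, A_0_3, A_0_4, hd 0, W_0] at r
      by_contra hcon
      push Not at hcon
      have := mul_pos (T.w_pos (v 1)) (sub_pos.2 hcon)
      linarith
    exact ⟨(fun j => v (Fin.rev j)), T.w (v 1), Or.inr (fun j => rfl), Or.inr (Or.inl ⟨W_4, W_3, W_2, W_1, W_0, A_4_3, A_3_2, A_2_1, A_1_0, I_0, I_1, I_2, I_3, I_4⟩)⟩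
  rcases t_3_4 with s_3_4 | d_3_4
  swap
  · have s_4_3 := t_4_3.resolve_right (fun dd => np_3_4_4_3 d_3_4 dd)
    have W_0 : T.w (v 0) = T.w (v 3) := by linarith [s_0_1, s_1_0, s_1_2, s_2_1, s_2_3, s_3_2, d_3_4, s_4_3, hs 0 1, hs 1 2, hs 2 3, hs 3 4]
    have W_1 : T.w (v 1) = T.w (v 3) := by linarith [s_0_1, s_1_0, s_1_2, s_2_1, s_2_3, s_3_2, d_3_4, s_4_3, hs 0 1, hs 1 2, hs 2 3, hs 3 4]
    have W_2 : T.w (v 2) = T.w (v 3) := by linarith [s_0_1, s_1_0, s_1_2, s_2_1, s_2_3, s_3_2, d_3_4, s_4_3, hs 0 1, hs 1 2, hs 2 3, hs 3 4]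
    have W_4 : T.w (v 4) = 2 * T.w (v 3) := by linarith [s_0_1, s_1_0, s_1_2, s_2_1, s_2_3, s_3_2, d_3_4, s_4_3, hs 0 1, hs 1 2, hs 2 3, hs 3 4]
    have W_3 : T.w (v 3) = T.w (v 3) := rfl
    have A_0_1 : T.a (v 0) (v 1) = T.w (v 3) := by linarith [s_0_1, s_1_0, s_1_2, s_2_1, s_2_3, s_3_2, d_3_4, s_4_3, hs 0 1, hs 1 2, hs 2 3, hs 3 4]
    have A_0_2 : T.a (v 0) (v 2) = 0 := z_0_2
    have A_0_3 : T.a (v 0) (v 3) = 0 := z_0_3
    have A_0_4 : T.a (v 0) (v 4) = 0 := z_0_4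
    have A_1_0 : T.a (v 1) (v 0) = T.w (v 3) := by linarith [s_0_1, s_1_0, s_1_2, s_2_1, s_2_3, s_3_2, d_3_4, s_4_3, hs 0 1, hs 1 2, hs 2 3, hs 3 4]
    have A_1_2 : T.a (v 1) (v 2) = T.w (v 3) := by linarith [s_0_1, s_1_0, s_1_2, s_2_1, s_2_3, s_3_2, d_3_4, s_4_3, hs 0 1, hs 1 2, hs 2 3, hs 3 4]
    have A_1_3 : T.a (v 1) (v 3) = 0 := z_1_3
    have A_1_4 : T.a (v 1) (v 4) = 0 := z_1_4
    have A_2_0 : T.a (v 2) (v 0) = 0 := by rw [hs 0 2]; exact z_0_2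
    have A_2_1 : T.a (v 2) (v 1) = T.w (v 3) := by linarith [s_0_1, s_1_0, s_1_2, s_2_1, s_2_3, s_3_2, d_3_4, s_4_3, hs 0 1, hs 1 2, hs 2 3, hs 3 4]
    have A_2_3 : T.a (v 2) (v 3) = T.w (v 3) := by linarith [s_0_1, s_1_0, s_1_2, s_2_1, s_2_3, s_3_2, d_3_4, s_4_3, hs 0 1, hs 1 2, hs 2 3, hs 3 4]
    have A_2_4 : T.a (v 2) (v 4) = 0 := z_2_4
    have A_3_0 : T.a (v 3) (v 0) = 0 := by rw [hs 0 3]; exact z_0_3
    have A_3_1 : T.a (v 3) (v 1) = 0 := by rw [hs 1 3]; exact z_1_3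
    have A_3_2 : T.a (v 3) (v 2) = T.w (v 3) := by linarith [s_0_1, s_1_0, s_1_2, s_2_1, s_2_3, s_3_2, d_3_4, s_4_3, hs 0 1, hs 1 2, hs 2 3, hs 3 4]
    have A_3_4 : T.a (v 3) (v 4) = 2 * T.w (v 3) := by linarith [s_0_1, s_1_0, s_1_2, s_2_1, s_2_3, s_3_2, d_3_4, s_4_3, hs 0 1, hs 1 2, hs 2 3, hs 3 4]
    have A_4_0 : T.a (v 4) (v 0) = 0 := by rw [hs 0 4]; exact z_0_4
    have A_4_1 : T.a (v 4) (v 1) = 0 := by rw [hs 1 4]; exact z_1_4
    have A_4_2 : T.a (v 4) (v 2) = 0 := by rw [hs 2 4]; exact z_2_4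
    have A_4_3 : T.a (v 4) (v 3) = 2 * T.w (v 3) := by linarith [s_0_1, s_1_0, s_1_2, s_2_1, s_2_3, s_3_2, d_3_4, s_4_3, hs 0 1, hs 1 2, hs 2 3, hs 3 4]
    have I_0 : T.m (v 1) ≤ 2 * T.m (v 0) := by
      have r := Groth.Agent.Lib.ModelsH5.emb_row_nonpos T v 0
      rw [Fin.sum_univ_five] at r
      simp only [A_0_1, A_0_2, A_0_3, A_0_4, hd 0, W_0] at r
      by_contra hcon
      push Not at hcon
      have := mul_pos (T.w_pos (v 3)) (sub_pos.2 hcon)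
      linarith
    have I_1 : T.m (v 0) + T.m (v 2) ≤ 2 * T.m (v 1) := by
      have r := Groth.Agent.Lib.ModelsH5.emb_row_nonpos T v 1
      rw [Fin.sum_univ_five] at r
      simp only [A_1_0, A_1_2, A_1_3, A_1_4, hd 1, W_1] at r
      by_contra hcon
      push Not at hcon
      have := mul_pos (T.w_pos (v 3)) (sub_pos.2 hcon)
      linarith
    have I_2 : T.m (v 1) + T.m (v 3) ≤ 2 * T.m (v 2) := by
      have r := Groth.Agent.Lib.ModelsH5.emb_row_nonpos T v 2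
      rw [Fin.sum_univ_five] at r
      simp only [A_2_0, A_2_1, A_2_3, A_2_4, hd 2, W_2] at r
      by_contra hcon
      push Not at hcon
      have := mul_pos (T.w_pos (v 3)) (sub_pos.2 hcon)
      linarith
    have I_3 : T.m (v 2) + 2 * T.m (v 4) ≤ 2 * T.m (v 3) := by
      have r := Groth.Agent.Lib.ModelsH5.emb_row_nonpos T v 3
      rw [Fin.sum_univ_five] at r
      simp only [A_3_0, A_3_1, A_3_2, A_3_4, hd 3] at r
      by_contra hcon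
      push Not at hcon
      have := mul_pos (T.w_pos (v 3)) (sub_pos.2 hcon)
      linarith
    have I_4 : T.m (v 3) ≤ 2 * T.m (v 4) := by
      have r := Groth.Agent.Lib.ModelsH5.emb_row_nonpos T v 4
      rw [Fin.sum_univ_five] at r
      simp only [A_4_0, A_4_1, A_4_2, A_4_3, hd 4, W_4] at r
      by_contra hcon
      push Not at hcon
      have := mul_pos (T.w_pos (v 3)) (sub_pos.2 hcon)
      linarith
    exact ⟨(fun j => v j), T.w (v 3), Or.inl (fun j => rfl), Or.inr (Or.inl ⟨W_0, W_1, W_2, W_3, W_4, A_0_1, A_1_2, A_2_3, A_3_4, I_0, I_1, I_2, I_3, I_4⟩)⟩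
  rcases t_4_3 with s_4_3 | d_4_3
  swap
  · have W_0 : T.w (v 0) = 2 * T.w (v 4) := by linarith [s_0_1, s_1_0, s_1_2, s_2_1, s_2_3, s_3_2, s_3_4, d_4_3, hs 0 1, hs 1 2, hs 2 3, hs 3 4]
    have W_1 : T.w (v 1) = 2 * T.w (v 4) := by linarith [s_0_1, s_1_0, s_1_2, s_2_1, s_2_3, s_3_2, s_3_4, d_4_3, hs 0 1, hs 1 2, hs 2 3, hs 3 4]
    have W_2 : T.w (v 2) = 2 * T.w (v 4) := by linarith [s_0_1, s_1_0, s_1_2, s_2_1, s_2_3, s_3_2, s_3_4, d_4_3, hs 0 1, hs 1 2, hs 2 3, hs 3 4]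
    have W_3 : T.w (v 3) = 2 * T.w (v 4) := by linarith [s_0_1, s_1_0, s_1_2, s_2_1, s_2_3, s_3_2, s_3_4, d_4_3, hs 0 1, hs 1 2, hs 2 3, hs 3 4]
    have W_4 : T.w (v 4) = T.w (v 4) := rfl
    have A_0_1 : T.a (v 0) (v 1) = 2 * T.w (v 4) := by linarith [s_0_1, s_1_0, s_1_2, s_2_1, s_2_3, s_3_2, s_3_4, d_4_3, hs 0 1, hs 1 2, hs 2 3, hs 3 4]
    have A_0_2 : T.a (v 0) (v 2) = 0 := z_0_2
    have A_0_3 : T.a (v 0) (v 3) = 0 := z_0_3
    have A_0_4 : T.a (v 0) (v 4) = 0 := z_0_4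
    have A_1_0 : T.a (v 1) (v 0) = 2 * T.w (v 4) := by linarith [s_0_1, s_1_0, s_1_2, s_2_1, s_2_3, s_3_2, s_3_4, d_4_3, hs 0 1, hs 1 2, hs 2 3, hs 3 4]
    have A_1_2 : T.a (v 1) (v 2) = 2 * T.w (v 4) := by linarith [s_0_1, s_1_0, s_1_2, s_2_1, s_2_3, s_3_2, s_3_4, d_4_3, hs 0 1, hs 1 2, hs 2 3, hs 3 4]
    have A_1_3 : T.a (v 1) (v 3) = 0 := z_1_3
    have A_1_4 : T.a (v 1) (v 4) = 0 := z_1_4
    have A_2_0 : T.a (v 2) (v 0) = 0 := by rw [hs 0 2]; exact z_0_2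
    have A_2_1 : T.a (v 2) (v 1) = 2 * T.w (v 4) := by linarith [s_0_1, s_1_0, s_1_2, s_2_1, s_2_3, s_3_2, s_3_4, d_4_3, hs 0 1, hs 1 2, hs 2 3, hs 3 4]
    have A_2_3 : T.a (v 2) (v 3) = 2 * T.w (v 4) := by linarith [s_0_1, s_1_0, s_1_2, s_2_1, s_2_3, s_3_2, s_3_4, d_4_3, hs 0 1, hs 1 2, hs 2 3, hs 3 4]
    have A_2_4 : T.a (v 2) (v 4) = 0 := z_2_4
    have A_3_0 : T.a (v 3) (v 0) = 0 := by rw [hs 0 3]; exact z_0_3
    have A_3_1 : T.a (v 3) (v 1) = 0 := by rw [hs 1 3]; exact z_1_3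
    have A_3_2 : T.a (v 3) (v 2) = 2 * T.w (v 4) := by linarith [s_0_1, s_1_0, s_1_2, s_2_1, s_2_3, s_3_2, s_3_4, d_4_3, hs 0 1, hs 1 2, hs 2 3, hs 3 4]
    have A_3_4 : T.a (v 3) (v 4) = 2 * T.w (v 4) := by linarith [s_0_1, s_1_0, s_1_2, s_2_1, s_2_3, s_3_2, s_3_4, d_4_3, hs 0 1, hs 1 2, hs 2 3, hs 3 4]
    have A_4_0 : T.a (v 4) (v 0) = 0 := by rw [hs 0 4]; exact z_0_4
    have A_4_1 : T.a (v 4) (v 1) = 0 := by rw [hs 1 4]; exact z_1_4
    have A_4_2 : T.a (v 4) (v 2) = 0 := by rw [hs 2 4]; exact z_2_4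
    have A_4_3 : T.a (v 4) (v 3) = 2 * T.w (v 4) := by linarith [s_0_1, s_1_0, s_1_2, s_2_1, s_2_3, s_3_2, s_3_4, d_4_3, hs 0 1, hs 1 2, hs 2 3, hs 3 4]
    have I_0 : T.m (v 1) ≤ 2 * T.m (v 0) := by
      have r := Groth.Agent.Lib.ModelsH5.emb_row_nonpos T v 0
      rw [Fin.sum_univ_five] at r
      simp only [A_0_1, A_0_2, A_0_3, A_0_4, hd 0, W_0] at r
      by_contra hcon
      push Not at hcon
      have := mul_pos (T.w_pos (v 4)) (sub_pos.2 hcon)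
      linarith
    have I_1 : T.m (v 0) + T.m (v 2) ≤ 2 * T.m (v 1) := by
      have r := Groth.Agent.Lib.ModelsH5.emb_row_nonpos T v 1
      rw [Fin.sum_univ_five] at r
      simp only [A_1_0, A_1_2, A_1_3, A_1_4, hd 1, W_1] at r
      by_contra hcon
      push Not at hcon
      have := mul_pos (T.w_pos (v 4)) (sub_pos.2 hcon)
      linarith
    have I_2 : T.m (v 1) + T.m (v 3) ≤ 2 * T.m (v 2) := by
      have r := Groth.Agent.Lib.ModelsH5.emb_row_nonpos T v 2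
      rw [Fin.sum_univ_five] at r
      simp only [A_2_0, A_2_1, A_2_3, A_2_4, hd 2, W_2] at r
      by_contra hcon
      push Not at hcon
      have := mul_pos (T.w_pos (v 4)) (sub_pos.2 hcon)
      linarith
    have I_3 : T.m (v 2) + T.m (v 4) ≤ 2 * T.m (v 3) := by
      have r := Groth.Agent.Lib.ModelsH5.emb_row_nonpos T v 3
      rw [Fin.sum_univ_five] at r
      simp only [A_3_0, A_3_1, A_3_2, A_3_4, hd 3, W_3] at r
      by_contra hcon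
      push Not at hcon
      have := mul_pos (T.w_pos (v 4)) (sub_pos.2 hcon)
      linarith
    have I_4 : T.m (v 3) ≤ T.m (v 4) := by
      have r := Groth.Agent.Lib.ModelsH5.emb_row_nonpos T v 4
      rw [Fin.sum_univ_five] at r
      simp only [A_4_0, A_4_1, A_4_2, A_4_3, hd 4] at r
      by_contra hcon
      push Not at hcon
      have := mul_pos (T.w_pos (v 4)) (sub_pos.2 hcon)
      linarith
    exact ⟨(fun j => v j), T.w (v 4), Or.inl (fun j => rfl), Or.inr (Or.inr (⟨W_0, W_1, W_2, W_3, W_4, A_0_1, A_1_2, A_2_3, A_3_4, I_0, I_1, I_2, I_3, I_4⟩))⟩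
  have W_1 : T.w (v 1) = T.w (v 0) := by linarith [s_0_1, s_1_0, s_1_2, s_2_1, s_2_3, s_3_2, s_3_4, s_4_3, hs 0 1, hs 1 2, hs 2 3, hs 3 4]
  have W_2 : T.w (v 2) = T.w (v 0) := by linarith [s_0_1, s_1_0, s_1_2, s_2_1, s_2_3, s_3_2, s_3_4, s_4_3, hs 0 1, hs 1 2, hs 2 3, hs 3 4]
  have W_3 : T.w (v 3) = T.w (v 0) := by linarith [s_0_1, s_1_0, s_1_2, s_2_1, s_2_3, s_3_2, s_3_4, s_4_3, hs 0 1, hs 1 2, hs 2 3, hs 3 4]
  have W_4 : T.w (v 4) = T.w (v 0) := by linarith [s_0_1, s_1_0, s_1_2, s_2_1, s_2_3, s_3_2, s_3_4, s_4_3, hs 0 1, hs 1 2, hs 2 3, hs 3 4]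
  have W_0 : T.w (v 0) = T.w (v 0) := rfl
  have A_0_1 : T.a (v 0) (v 1) = T.w (v 0) := by linarith [s_0_1, s_1_0, s_1_2, s_2_1, s_2_3, s_3_2, s_3_4, s_4_3, hs 0 1, hs 1 2, hs 2 3, hs 3 4]
  have A_0_2 : T.a (v 0) (v 2) = 0 := z_0_2
  have A_0_3 : T.a (v 0) (v 3) = 0 := z_0_3
  have A_0_4 : T.a (v 0) (v 4) = 0 := z_0_4
  have A_1_0 : T.a (v 1) (v 0) = T.w (v 0) := by linarith [s_0_1, s_1_0, s_1_2, s_2_1, s_2_3, s_3_2, s_3_4, s_4_3, hs 0 1, hs 1 2, hs 2 3, hs 3 4]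
  have A_1_2 : T.a (v 1) (v 2) = T.w (v 0) := by linarith [s_0_1, s_1_0, s_1_2, s_2_1, s_2_3, s_3_2, s_3_4, s_4_3, hs 0 1, hs 1 2, hs 2 3, hs 3 4]
  have A_1_3 : T.a (v 1) (v 3) = 0 := z_1_3
  have A_1_4 : T.a (v 1) (v 4) = 0 := z_1_4
  have A_2_0 : T.a (v 2) (v 0) = 0 := by rw [hs 0 2]; exact z_0_2
  have A_2_1 : T.a (v 2) (v 1) = T.w (v 0) := by linarith [s_0_1, s_1_0, s_1_2, s_2_1, s_2_3, s_3_2, s_3_4, s_4_3, hs 0 1, hs 1 2, hs 2 3, hs 3 4]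
  have A_2_3 : T.a (v 2) (v 3) = T.w (v 0) := by linarith [s_0_1, s_1_0, s_1_2, s_2_1, s_2_3, s_3_2, s_3_4, s_4_3, hs 0 1, hs 1 2, hs 2 3, hs 3 4]
  have A_2_4 : T.a (v 2) (v 4) = 0 := z_2_4
  have A_3_0 : T.a (v 3) (v 0) = 0 := by rw [hs 0 3]; exact z_0_3
  have A_3_1 : T.a (v 3) (v 1) = 0 := by rw [hs 1 3]; exact z_1_3
  have A_3_2 : T.a (v 3) (v 2) = T.w (v 0) := by linarith [s_0_1, s_1_0, s_1_2, s_2_1, s_2_3, s_3_2, s_3_4, s_4_3, hs 0 1, hs 1 2, hs 2 3, hs 3 4]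
  have A_3_4 : T.a (v 3) (v 4) = T.w (v 0) := by linarith [s_0_1, s_1_0, s_1_2, s_2_1, s_2_3, s_3_2, s_3_4, s_4_3, hs 0 1, hs 1 2, hs 2 3, hs 3 4]
  have A_4_0 : T.a (v 4) (v 0) = 0 := by rw [hs 0 4]; exact z_0_4
  have A_4_1 : T.a (v 4) (v 1) = 0 := by rw [hs 1 4]; exact z_1_4
  have A_4_2 : T.a (v 4) (v 2) = 0 := by rw [hs 2 4]; exact z_2_4
  have A_4_3 : T.a (v 4) (v 3) = T.w (v 0) := by linarith [s_0_1, s_1_0, s_1_2, s_2_1, s_2_3, s_3_2, s_3_4, s_4_3, hs 0 1, hs 1 2, hs 2 3, hs 3 4]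
  have I_0 : T.m (v 1) ≤ 2 * T.m (v 0) := by
    have r := Groth.Agent.Lib.ModelsH5.emb_row_nonpos T v 0
    rw [Fin.sum_univ_five] at r
    simp only [A_0_1, A_0_2, A_0_3, A_0_4, hd 0] at r
    by_contra hcon
    push Not at hcon
    have := mul_pos (T.w_pos (v 0)) (sub_pos.2 hcon)
    linarith
  have I_1 : T.m (v 0) + T.m (v 2) ≤ 2 * T.m (v 1) := by
    have r := Groth.Agent.Lib.ModelsH5.emb_row_nonpos T v 1
    rw [Fin.sum_univ_five] at r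
    simp only [A_1_0, A_1_2, A_1_3, A_1_4, hd 1, W_1] at r
    by_contra hcon
    push Not at hcon
    have := mul_pos (T.w_pos (v 0)) (sub_pos.2 hcon)
    linarith
  have I_2 : T.m (v 1) + T.m (v 3) ≤ 2 * T.m (v 2) := by
    have r := Groth.Agent.Lib.ModelsH5.emb_row_nonpos T v 2
    rw [Fin.sum_univ_five] at r
    simp only [A_2_0, A_2_1, A_2_3, A_2_4, hd 2, W_2] at r
    by_contra hcon
    push Not at hcon
    have := mul_pos (T.w_pos (v 0)) (sub_pos.2 hcon)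
    linarith
  have I_3 : T.m (v 2) + T.m (v 4) ≤ 2 * T.m (v 3) := by
    have r := Groth.Agent.Lib.ModelsH5.emb_row_nonpos T v 3
    rw [Fin.sum_univ_five] at r
    simp only [A_3_0, A_3_1, A_3_2, A_3_4, hd 3, W_3] at r
    by_contra hcon
    push Not at hcon
    have := mul_pos (T.w_pos (v 0)) (sub_pos.2 hcon)
    linarith
  have I_4 : T.m (v 3) ≤ 2 * T.m (v 4) := by
    have r := Groth.Agent.Lib.ModelsH5.emb_row_nonpos T v 4
    rw [Fin.sum_univ_five] at r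
    simp only [A_4_0, A_4_1, A_4_2, A_4_3, hd 4, W_4] at r
    by_contra hcon
    push Not at hcon
    have := mul_pos (T.w_pos (v 0)) (sub_pos.2 hcon)
    linarith
  exact ⟨(fun j => v j), T.w (v 0), Or.inl (fun j => rfl), Or.inl ⟨W_0, W_1, W_2, W_3, W_4, A_0_1, A_1_2, A_2_3, A_3_4, I_0, I_1, I_2, I_3, I_4⟩⟩

end Groth.Agent.S7353
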