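import Groth.Statements.S7354
import Mathlib
import Groth.Agent.Lib.Models6_helper5
import Groth.Agent.S7353

set_option autoImplicit false
open Finset
open Models Models.NumericalType

namespace Groth.Agent.S7354

open Groth.Agent.Lib.ModelsH5 in
private lemma window {n : ℕ} (T : Models.NumericalType n) (hn : 5 < n)
    (v : Fin 5 ↪ Fin n) (hv : ∀ j, T.IsMinusTwo (v j)) (h01 : T.a (v 0) (v 1) ≠ 0)
    (h12 : T.a (v 1) (v 2) ≠ 0) (h23 : T.a (v 2) (v 3) ≠ 0) (h34 : T.a (v 3) (v 4) ≠ 0) :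
    (T.a (v 1) (v 2) = T.w (v 1) ∧ T.w (v 2) = T.w (v 1) ∧
      T.a (v 2) (v 3) = T.w (v 2) ∧ T.w (v 3) = T.w (v 2)) ∧
    ((T.a (v 0) (v 1) = T.w (v 0) ∧ T.w (v 0) = T.w (v 1)) ∨
      (T.a (v 0) (v 1) = T.w (v 0) ∧ T.w (v 0) = 2 * T.w (v 1)) ∨
      (T.a (v 0) (v 1) = T.w (v 1) ∧ T.w (v 1) = 2 * T.w (v 0))) ∧
    ((T.a (v 3) (v 4) = T.w (v 4) ∧ T.w (v 4) = T.w (v 3)) ∨
      (T.a (v 3) (v 4) = T.w (v 4) ∧ T.w (v 4) = 2 * T.w (v 3)) ∨
      (T.a (v 3) (v 4) = T.w (v 3) ∧ T.w (v 3) = 2 * T.w (v 4))) := by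
  obtain ⟨-, u, w, hu, hcases⟩ := Groth.Agent.S7353.result T hn v hv h01 h12 h23 h34
  have s01 := emb_symm T v 0 1
  have s12 := emb_symm T v 1 2
  have s23 := emb_symm T v 2 3
  have s34 := emb_symm T v 3 4
  have r0 : Fin.rev (0 : Fin 5) = 4 := rfl
  have r1 : Fin.rev (1 : Fin 5) = 3 := rfl
  have r2 : Fin.rev (2 : Fin 5) = 2 := rfl
  have r3 : Fin.rev (3 : Fin 5) = 1 := rfl
  have r4 : Fin.rev (4 : Fin 5) = 0 := rfl
  rcases hu with hu | hu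
  · simp only [hu] at hcases
    refine ⟨⟨?_, ?_, ?_, ?_⟩, ?_, ?_⟩ <;> omega
  · simp only [hu, r0, r1, r2, r3, r4] at hcases
    refine ⟨⟨?_, ?_, ?_, ?_⟩, ?_, ?_⟩ <;> omega

open Groth.Agent.Lib.ModelsH5 in
private lemma zeros {n : ℕ} (T : Models.NumericalType n) (t : ℕ) (hn : t < n)
    (v : Fin t ↪ Fin n) (hv : ∀ j, T.IsMinusTwo (v j))
    (hchain : ∀ j j' : Fin t, j'.val = j.val + 1 → T.a (v j) (v j') ≠ 0) :
    ∀ j k : Fin t, j.val + 1 < k.val → T.a (v j) (v k) = 0 := by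
  classical
  have fne : ∀ (a b : ℕ) (ha : a < t) (hb : b < t), a ≠ b →
      (⟨a, ha⟩ : Fin t) ≠ ⟨b, hb⟩ := fun a b ha hb h e => h (congrArg Fin.val e)
  have hs : ∀ j k : Fin t, T.a (v k) (v j) = T.a (v j) (v k) := fun j k => emb_symm T v j k
  have NZ : ∀ (a b : ℕ) (ha : a < t) (hb : b < t), b = a + 1 →
      T.a (v ⟨a, ha⟩) (v ⟨b, hb⟩) ≠ 0 ∧ T.a (v ⟨b, hb⟩) (v ⟨a, ha⟩) ≠ 0 := by
    intro a b ha hb h1
    have := hchain ⟨a, ha⟩ ⟨b, hb⟩ h1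
    exact ⟨this, by rw [hs ⟨a, ha⟩ ⟨b, hb⟩]; exact this⟩
  intro j k hjk
  by_contra hnz
  have hnz' : T.a (v k) (v j) ≠ 0 := by rw [hs j k]; exact hnz
  obtain ⟨jv, hj⟩ := j
  obtain ⟨kv, hk⟩ := k
  have hjk' : jv + 1 < kv := hjk
  refine no_cycle T v hv hn (univ.filter fun i : Fin t => jv ≤ i.val ∧ i.val ≤ kv)
    ⟨⟨jv, hj⟩, mem_filter.2 ⟨mem_univ _, by show jv ≤ jv ∧ jv ≤ kv; omega⟩⟩ ?_
  intro i hi
  obtain ⟨iv, hiv⟩ := i
  have hi' : jv ≤ iv ∧ iv ≤ kv := (mem_filter.1 hi).2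
  rcases (show iv = jv ∨ iv = kv ∨ (jv < iv ∧ iv < kv) by omega) with h | h | h
  · have e : (⟨iv, hiv⟩ : Fin t) = ⟨jv, hj⟩ := Fin.ext h
    rw [e]
    refine ⟨⟨jv + 1, by omega⟩, ⟨kv, hk⟩, ?_, ?_, fne _ _ _ _ (by omega), fne _ _ _ _ (by omega),
      fne _ _ _ _ (by omega), (NZ jv (jv + 1) hj (by omega) rfl).1, hnz⟩
    · exact mem_filter.2 ⟨mem_univ _, by show jv ≤ jv + 1 ∧ jv + 1 ≤ kv; omega⟩
    · exact mem_filter.2 ⟨mem_univ _, by show jv ≤ kv ∧ kv ≤ kv; omega⟩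
  · have e : (⟨iv, hiv⟩ : Fin t) = ⟨kv, hk⟩ := Fin.ext h
    rw [e]
    refine ⟨⟨kv - 1, by omega⟩, ⟨jv, hj⟩, ?_, ?_, fne _ _ _ _ (by omega), fne _ _ _ _ (by omega),
      fne _ _ _ _ (by omega), (NZ (kv - 1) kv (by omega) hk (by omega)).2, hnz'⟩
    · exact mem_filter.2 ⟨mem_univ _, by show jv ≤ kv - 1 ∧ kv - 1 ≤ kv; omega⟩
    · exact mem_filter.2 ⟨mem_univ _, by show jv ≤ jv ∧ jv ≤ kv; omega⟩
  · refine ⟨⟨iv - 1, by omega⟩, ⟨iv + 1, by omega⟩, ?_, ?_, fne _ _ _ _ (by omega),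
      fne _ _ _ _ (by omega), fne _ _ _ _ (by omega),
      (NZ (iv - 1) iv (by omega) hiv (by omega)).2,
      (NZ iv (iv + 1) hiv (by omega) rfl).1⟩
    · exact mem_filter.2 ⟨mem_univ _, by show jv ≤ iv - 1 ∧ iv - 1 ≤ kv; omega⟩
    · exact mem_filter.2 ⟨mem_univ _, by show jv ≤ iv + 1 ∧ iv + 1 ≤ kv; omega⟩

open Groth.Agent.Lib.ModelsH5 in
private lemma twoends {n : ℕ} (T : Models.NumericalType n) (t : ℕ) (ht : 5 < t) (hn : t < n)
    (v : Fin t ↪ Fin n) (hv : ∀ j, T.IsMinusTwo (v j))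
    (EB : ∀ (a b : ℕ) (ha : a < t) (hb : b < t), b = a + 1 →
      1 * T.w (v ⟨a, ha⟩) ≤ T.a (v ⟨a, ha⟩) (v ⟨b, hb⟩) ∧
        1 * T.w (v ⟨b, hb⟩) ≤ T.a (v ⟨b, hb⟩) (v ⟨a, ha⟩))
    (P0 Q0 c0 Pl Ql cl : ℤ)
    (hQ0 : Q0 * T.w (v ⟨0, by omega⟩) ≤ T.a (v ⟨0, by omega⟩) (v ⟨1, by omega⟩))
    (hP0 : P0 * T.w (v ⟨1, by omega⟩) ≤ T.a (v ⟨1, by omega⟩) (v ⟨0, by omega⟩))
    (hQl : Ql * T.w (v ⟨t - 1, by omega⟩) ≤ T.a (v ⟨t - 1, by omega⟩) (v ⟨t - 2, by omega⟩))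
    (hPl : Pl * T.w (v ⟨t - 2, by omega⟩) ≤ T.a (v ⟨t - 2, by omega⟩) (v ⟨t - 1, by omega⟩))
    (h0 : 0 ≤ c0) (h0' : c0 ≤ Q0) (h0'' : 2 ≤ P0 * c0)
    (hl : 0 ≤ cl) (hl' : cl ≤ Ql) (hl'' : 2 ≤ Pl * cl) : False := by
  classical
  let c : Fin t → ℤ := fun k => if k.val = 0 then c0 else if k.val + 1 = t then cl else 2
  have cA : ∀ k : Fin t, k.val = 0 → c k = c0 := fun k h => if_pos h
  have cZ : ∀ k : Fin t, k.val + 1 = t → c k = cl := fun k h => by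
    show (if k.val = 0 then c0 else if k.val + 1 = t then cl else 2) = cl
    rw [if_neg (by omega), if_pos h]
  have cM : ∀ k : Fin t, 0 < k.val → k.val + 1 < t → c k = 2 := fun k h h' => by
    show (if k.val = 0 then c0 else if k.val + 1 = t then cl else 2) = 2
    rw [if_neg (by omega), if_neg (by omega)]
  have hc : ∀ k, 0 ≤ c k := by
    intro k
    rcases (show k.val = 0 ∨ k.val + 1 = t ∨ (0 < k.val ∧ k.val + 1 < t) by omega) with h | h | h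
    · rw [cA k h]; exact h0
    · rw [cZ k h]; exact hl
    · rw [cM k h.1 h.2]; norm_num
  have fne : ∀ (a b : ℕ) (ha : a < t) (hb : b < t), a ≠ b →
      (⟨a, ha⟩ : Fin t) ≠ ⟨b, hb⟩ := fun a b ha hb h e => h (congrArg Fin.val e)
  refine no_superharmonic T v hn c hc ⟨⟨1, by omega⟩, by
    rw [cM _ (by show 0 < 1; omega) (by show 1 + 1 < t; omega)]; norm_num⟩ ?_
  intro j _
  obtain ⟨jv, hjv⟩ := j
  rcases (show jv = 0 ∨ jv = 1 ∨ (2 ≤ jv ∧ jv + 3 ≤ t) ∨ jv + 2 = t ∨ jv + 1 = t by omega)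
    with h | h | h | h | h
  · have e : (⟨jv, hjv⟩ : Fin t) = ⟨0, by omega⟩ := Fin.ext h
    rw [e]
    refine row1 T v hv c hc ⟨0, by omega⟩ ⟨1, by omega⟩ (fne _ _ _ _ (by omega)) Q0 hQ0 ?_
    rw [cA ⟨0, by omega⟩ rfl,
      cM ⟨1, by omega⟩ (by show 0 < 1; omega) (by show 1 + 1 < t; omega)]
    linarith
  · have e : (⟨jv, hjv⟩ : Fin t) = ⟨1, by omega⟩ := Fin.ext h
    rw [e]
    have e2 := (EB 1 2 (by omega) (by omega) rfl).1
    refine row2 T v hv c hc ⟨1, by omega⟩ ⟨0, by omega⟩ ⟨2, by omega⟩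
      (fne _ _ _ _ (by omega)) (fne _ _ _ _ (by omega)) (fne _ _ _ _ (by omega))
      P0 1 hP0 e2 ?_
    rw [cM ⟨1, by omega⟩ (by show 0 < 1; omega) (by show 1 + 1 < t; omega),
      cA ⟨0, by omega⟩ rfl,
      cM ⟨2, by omega⟩ (by show 0 < 2; omega) (by show 2 + 1 < t; omega)]
    linarith
  · have em := (EB (jv - 1) jv (by omega) hjv (by omega)).2
    have ep := (EB jv (jv + 1) hjv (by omega) rfl).1
    refine row2 T v hv c hc ⟨jv, hjv⟩ ⟨jv - 1, by omega⟩ ⟨jv + 1, by omega⟩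
      (fne _ _ _ _ (by omega)) (fne _ _ _ _ (by omega)) (fne _ _ _ _ (by omega))
      1 1 em ep ?_
    rw [cM ⟨jv, hjv⟩ (by show 0 < jv; omega) (by show jv + 1 < t; omega),
      cM ⟨jv - 1, by omega⟩ (by show 0 < jv - 1; omega) (by show jv - 1 + 1 < t; omega),
      cM ⟨jv + 1, by omega⟩ (by show 0 < jv + 1; omega) (by show jv + 1 + 1 < t; omega)]
    norm_num
  · have e : (⟨jv, hjv⟩ : Fin t) = ⟨t - 2, by omega⟩ := Fin.ext (by show jv = t - 2; omega)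
    rw [e]
    have em := (EB (t - 3) (t - 2) (by omega) (by omega) (by omega)).2
    refine row2 T v hv c hc ⟨t - 2, by omega⟩ ⟨t - 3, by omega⟩ ⟨t - 1, by omega⟩
      (fne _ _ _ _ (by omega)) (fne _ _ _ _ (by omega)) (fne _ _ _ _ (by omega))
      1 Pl em hPl ?_
    rw [cM ⟨t - 2, by omega⟩ (by show 0 < t - 2; omega) (by show t - 2 + 1 < t; omega),
      cM ⟨t - 3, by omega⟩ (by show 0 < t - 3; omega) (by show t - 3 + 1 < t; omega),
      cZ ⟨t - 1, by omega⟩ (by show t - 1 + 1 = t; omega)]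
    linarith
  · have e : (⟨jv, hjv⟩ : Fin t) = ⟨t - 1, by omega⟩ := Fin.ext (by show jv = t - 1; omega)
    rw [e]
    refine row1 T v hv c hc ⟨t - 1, by omega⟩ ⟨t - 2, by omega⟩ (fne _ _ _ _ (by omega)) Ql hQl ?_
    rw [cZ ⟨t - 1, by omega⟩ (by show t - 1 + 1 = t; omega),
      cM ⟨t - 2, by omega⟩ (by show 0 < t - 2; omega) (by show t - 2 + 1 < t; omega)]
    linarith

open Groth.Agent.Lib.ModelsH5 in
private lemma core {n : ℕ} (T : Models.NumericalType n) (t : ℕ) (ht : 5 < t) (hn : t < n)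
    (v : Fin t ↪ Fin n) (hv : ∀ j, T.IsMinusTwo (v j))
    (hchain : ∀ j j' : Fin t, j'.val = j.val + 1 → T.a (v j) (v j') ≠ 0) :
    ((T.a (v ⟨0, by omega⟩) (v ⟨1, by omega⟩) = T.w (v ⟨0, by omega⟩) ∧
        T.w (v ⟨0, by omega⟩) = T.w (v ⟨1, by omega⟩)) ∨
      (T.a (v ⟨t - 2, by omega⟩) (v ⟨t - 1, by omega⟩) = T.w (v ⟨t - 1, by omega⟩) ∧
        T.w (v ⟨t - 1, by omega⟩) = T.w (v ⟨t - 2, by omega⟩))) ∧
    ((T.a (v ⟨0, by omega⟩) (v ⟨1, by omega⟩) = T.w (v ⟨0, by omega⟩) ∧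
        T.w (v ⟨0, by omega⟩) = T.w (v ⟨1, by omega⟩)) →
      ∃ w : ℤ,
      ((∀ j : Fin t, T.w (v j) = w) ∧ (∀ j j' : Fin t, j'.val = j.val + 1 → T.a (v j) (v j') = w) ∨
        ((∀ j : Fin t, j.val + 1 < t → T.w (v j) = w) ∧ (∀ j : Fin t, j.val + 1 = t → T.w (v j) = 2 * w) ∧
          (∀ j j' : Fin t, j'.val = j.val + 1 → j'.val + 1 < t → T.a (v j) (v j') = w) ∧
          (∀ j j' : Fin t, j'.val = j.val + 1 → j'.val + 1 = t → T.a (v j) (v j') = 2 * w)) ∨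
        ((∀ j : Fin t, j.val + 1 < t → T.w (v j) = 2 * w) ∧ (∀ j : Fin t, j.val + 1 = t → T.w (v j) = w) ∧
          (∀ j j' : Fin t, j'.val = j.val + 1 → T.a (v j) (v j') = 2 * w)))) := by
  classical
  have fne : ∀ (a b : ℕ) (ha : a < t) (hb : b < t), a ≠ b →
      (⟨a, ha⟩ : Fin t) ≠ ⟨b, hb⟩ := fun a b ha hb h e => h (congrArg Fin.val e)
  have hs : ∀ j k : Fin t, T.a (v k) (v j) = T.a (v j) (v k) := fun j k => emb_symm T v j k
  have NZ : ∀ (a b : ℕ) (ha : a < t) (hb : b < t), b = a + 1 →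
      T.a (v ⟨a, ha⟩) (v ⟨b, hb⟩) ≠ 0 ∧ T.a (v ⟨b, hb⟩) (v ⟨a, ha⟩) ≠ 0 := by
    intro a b ha hb h1
    have := hchain ⟨a, ha⟩ ⟨b, hb⟩ h1
    exact ⟨this, by rw [hs ⟨a, ha⟩ ⟨b, hb⟩]; exact this⟩
  have EB : ∀ (a b : ℕ) (ha : a < t) (hb : b < t), b = a + 1 →
      1 * T.w (v ⟨a, ha⟩) ≤ T.a (v ⟨a, ha⟩) (v ⟨b, hb⟩) ∧
        1 * T.w (v ⟨b, hb⟩) ≤ T.a (v ⟨b, hb⟩) (v ⟨a, ha⟩) := fun a b ha hb h1 =>
    edge_bounds T v hv ⟨a, ha⟩ ⟨b, hb⟩ (NZ a b ha hb h1).1 (fne _ _ _ _ (by omega))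
  have W : ∀ (s : ℕ) (hs5 : s + 5 ≤ t),
      (T.a (v ⟨s + 1, by omega⟩) (v ⟨s + 2, by omega⟩) = T.w (v ⟨s + 1, by omega⟩) ∧
        T.w (v ⟨s + 2, by omega⟩) = T.w (v ⟨s + 1, by omega⟩) ∧
        T.a (v ⟨s + 2, by omega⟩) (v ⟨s + 3, by omega⟩) = T.w (v ⟨s + 2, by omega⟩) ∧
        T.w (v ⟨s + 3, by omega⟩) = T.w (v ⟨s + 2, by omega⟩)) ∧
      ((T.a (v ⟨s, by omega⟩) (v ⟨s + 1, by omega⟩) = T.w (v ⟨s, by omega⟩) ∧
          T.w (v ⟨s, by omega⟩) = T.w (v ⟨s + 1, by omega⟩)) ∨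
        (T.a (v ⟨s, by omega⟩) (v ⟨s + 1, by omega⟩) = T.w (v ⟨s, by omega⟩) ∧
          T.w (v ⟨s, by omega⟩) = 2 * T.w (v ⟨s + 1, by omega⟩)) ∨
        (T.a (v ⟨s, by omega⟩) (v ⟨s + 1, by omega⟩) = T.w (v ⟨s + 1, by omega⟩) ∧
          T.w (v ⟨s + 1, by omega⟩) = 2 * T.w (v ⟨s, by omega⟩))) ∧
      ((T.a (v ⟨s + 3, by omega⟩) (v ⟨s + 4, by omega⟩) = T.w (v ⟨s + 4, by omega⟩) ∧
          T.w (v ⟨s + 4, by omega⟩) = T.w (v ⟨s + 3, by omega⟩)) ∨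
        (T.a (v ⟨s + 3, by omega⟩) (v ⟨s + 4, by omega⟩) = T.w (v ⟨s + 4, by omega⟩) ∧
          T.w (v ⟨s + 4, by omega⟩) = 2 * T.w (v ⟨s + 3, by omega⟩)) ∨
        (T.a (v ⟨s + 3, by omega⟩) (v ⟨s + 4, by omega⟩) = T.w (v ⟨s + 3, by omega⟩) ∧
          T.w (v ⟨s + 3, by omega⟩) = 2 * T.w (v ⟨s + 4, by omega⟩))) := by
    intro s hs5
    let vs : Fin 5 ↪ Fin n := ⟨fun i => v ⟨s + i.val, by have := i.isLt; omega⟩, fun i i' h => by
      have h2 := congrArg Fin.val (v.injective h)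
      have h3 : s + i.val = s + i'.val := h2
      exact Fin.ext (by omega)⟩
    exact window T (by omega) vs (fun j => hv _) (NZ s (s + 1) (by omega) (by omega) rfl).1
      (NZ (s + 1) (s + 2) (by omega) (by omega) rfl).1
      (NZ (s + 2) (s + 3) (by omega) (by omega) rfl).1
      (NZ (s + 3) (s + 4) (by omega) (by omega) rfl).1
  have Mid : ∀ (j : ℕ) (h1 : 1 ≤ j) (h2 : j + 3 ≤ t),
      T.a (v ⟨j, by omega⟩) (v ⟨j + 1, by omega⟩) = T.w (v ⟨j, by omega⟩) ∧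
        T.w (v ⟨j + 1, by omega⟩) = T.w (v ⟨j, by omega⟩) := by
    intro j h1 h2
    by_cases h : j + 4 ≤ t
    · obtain ⟨s, rfl⟩ : ∃ s, j = s + 1 := ⟨j - 1, by omega⟩
      have := (W s (by omega)).1
      exact ⟨this.1, this.2.1⟩
    · obtain ⟨s, rfl⟩ : ∃ s, j = s + 2 := ⟨j - 2, by omega⟩
      have := (W s (by omega)).1
      exact ⟨this.2.2.1, this.2.2.2⟩
  have Wm : ∀ (j : ℕ) (h1 : 1 ≤ j) (h2 : j + 2 ≤ t),
      T.w (v ⟨j, by omega⟩) = T.w (v ⟨1, by omega⟩) := by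
    intro j
    induction j with
    | zero => intro h; omega
    | succ j ih =>
      intro h1 h2
      by_cases hj : j = 0
      · subst hj; rfl
      · exact (Mid j (by omega) (by omega)).2.trans (ih (by omega) (by omega))
  have F := (W 0 (by omega)).2.1
  have L := (W (t - 5) (by omega)).2.2
  have e0 : (⟨0 + 1, by omega⟩ : Fin t) = ⟨1, by omega⟩ := rfl
  have e3 : (⟨t - 5 + 3, by omega⟩ : Fin t) = ⟨t - 2, by omega⟩ :=
    Fin.ext (by show t - 5 + 3 = t - 2; omega)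
  have e4 : (⟨t - 5 + 4, by omega⟩ : Fin t) = ⟨t - 1, by omega⟩ :=
    Fin.ext (by show t - 5 + 4 = t - 1; omega)
  rw [e0] at F
  rw [e3, e4] at L
  have Wp : T.w (v ⟨t - 2, by omega⟩) = T.w (v ⟨1, by omega⟩) := Wm (t - 2) (by omega) (by omega)
  have s01 := hs ⟨0, by omega⟩ ⟨1, by omega⟩
  have spl := hs ⟨t - 2, by omega⟩ ⟨t - 1, by omega⟩
  refine ⟨?_, ?_⟩
  · rcases F with F1 | F2 | F3
    · exact Or.inl F1
    · rcases L with L1 | L2 | L3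
      · exact Or.inr L1
      · exfalso
        exact twoends T t ht hn v hv EB 2 1 1 2 1 1 (by omega) (by omega) (by omega) (by omega)
          (by norm_num) (by norm_num) (by norm_num) (by norm_num) (by norm_num) (by norm_num)
      · exfalso
        exact twoends T t ht hn v hv EB 2 1 1 1 2 2 (by omega) (by omega) (by omega) (by omega)
          (by norm_num) (by norm_num) (by norm_num) (by norm_num) (by norm_num) (by norm_num)
    · rcases L with L1 | L2 | L3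
      · exact Or.inr L1
      · exfalso
        exact twoends T t ht hn v hv EB 1 2 2 2 1 1 (by omega) (by omega) (by omega) (by omega)
          (by norm_num) (by norm_num) (by norm_num) (by norm_num) (by norm_num) (by norm_num)
      · exfalso
        exact twoends T t ht hn v hv EB 1 2 2 1 2 2 (by omega) (by omega) (by omega) (by omega)
          (by norm_num) (by norm_num) (by norm_num) (by norm_num) (by norm_num) (by norm_num)
  · intro F1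
    rcases L with L1 | L2 | L3
    · refine ⟨T.w (v ⟨1, by omega⟩), Or.inl ⟨?_, ?_⟩⟩
      · rintro ⟨jv, hj⟩
        rcases (show jv = 0 ∨ (1 ≤ jv ∧ jv + 2 ≤ t) ∨ jv + 1 = t by omega) with h | h | h
        · have e : (⟨jv, hj⟩ : Fin t) = ⟨0, by omega⟩ := Fin.ext h
          rw [e]; exact F1.2
        · exact Wm jv h.1 h.2
        · have e : (⟨jv, hj⟩ : Fin t) = ⟨t - 1, by omega⟩ := Fin.ext (by show jv = t - 1; omega)
          rw [e]; exact L1.2.trans Wp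
      · rintro ⟨jv, hj⟩ ⟨kv, hk⟩ h1
        have h1' : kv = jv + 1 := h1
        subst h1'
        rcases (show jv = 0 ∨ (1 ≤ jv ∧ jv + 3 ≤ t) ∨ jv + 2 = t by omega) with h | h | h
        · subst h; exact F1.1.trans F1.2
        · exact (Mid jv h.1 h.2).1.trans (Wm jv h.1 (by omega))
        · have e1 : (⟨jv, hj⟩ : Fin t) = ⟨t - 2, by omega⟩ := Fin.ext (by show jv = t - 2; omega)
          have e2 : (⟨jv + 1, hk⟩ : Fin t) = ⟨t - 1, by omega⟩ :=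
            Fin.ext (by show jv + 1 = t - 1; omega)
          rw [e1, e2]; exact L1.1.trans (L1.2.trans Wp)
    · refine ⟨T.w (v ⟨1, by omega⟩), Or.inr (Or.inl ⟨?_, ?_, ?_, ?_⟩)⟩
      · rintro ⟨jv, hj⟩ hlt
        have hlt' : jv + 1 < t := hlt
        rcases (show jv = 0 ∨ (1 ≤ jv ∧ jv + 2 ≤ t) by omega) with h | h
        · have e : (⟨jv, hj⟩ : Fin t) = ⟨0, by omega⟩ := Fin.ext h
          rw [e]; exact F1.2
        · exact Wm jv h.1 h.2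
      · rintro ⟨jv, hj⟩ heq
        have heq' : jv + 1 = t := heq
        have e : (⟨jv, hj⟩ : Fin t) = ⟨t - 1, by omega⟩ := Fin.ext (by show jv = t - 1; omega)
        rw [e, L2.2, Wp]
      · rintro ⟨jv, hj⟩ ⟨kv, hk⟩ h1 h2
        have h1' : kv = jv + 1 := h1
        subst h1'
        have h2' : jv + 1 + 1 < t := h2
        rcases (show jv = 0 ∨ (1 ≤ jv ∧ jv + 3 ≤ t) by omega) with h | h
        · subst h; exact F1.1.trans F1.2
        · exact (Mid jv h.1 h.2).1.trans (Wm jv h.1 (by omega))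
      · rintro ⟨jv, hj⟩ ⟨kv, hk⟩ h1 h2
        have h1' : kv = jv + 1 := h1
        subst h1'
        have h2' : jv + 1 + 1 = t := h2
        have e1 : (⟨jv, hj⟩ : Fin t) = ⟨t - 2, by omega⟩ := Fin.ext (by show jv = t - 2; omega)
        have e2 : (⟨jv + 1, hk⟩ : Fin t) = ⟨t - 1, by omega⟩ :=
          Fin.ext (by show jv + 1 = t - 1; omega)
        rw [e1, e2, L2.1, L2.2, Wp]
    · have W2 : T.w (v ⟨1, by omega⟩) = 2 * T.w (v ⟨t - 1, by omega⟩) := Wp.symm.trans L3.2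
      refine ⟨T.w (v ⟨t - 1, by omega⟩), Or.inr (Or.inr ⟨?_, ?_, ?_⟩)⟩
      · rintro ⟨jv, hj⟩ hlt
        have hlt' : jv + 1 < t := hlt
        rcases (show jv = 0 ∨ (1 ≤ jv ∧ jv + 2 ≤ t) by omega) with h | h
        · have e : (⟨jv, hj⟩ : Fin t) = ⟨0, by omega⟩ := Fin.ext h
          rw [e]; exact F1.2.trans W2
        · exact (Wm jv h.1 h.2).trans W2
      · rintro ⟨jv, hj⟩ heq
        have heq' : jv + 1 = t := heq
        have e : (⟨jv, hj⟩ : Fin t) = ⟨t - 1, by omega⟩ := Fin.ext (by show jv = t - 1; omega)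
        rw [e]
      · rintro ⟨jv, hj⟩ ⟨kv, hk⟩ h1
        have h1' : kv = jv + 1 := h1
        subst h1'
        rcases (show jv = 0 ∨ (1 ≤ jv ∧ jv + 3 ≤ t) ∨ jv + 2 = t by omega) with h | h | h
        · subst h; exact (F1.1.trans F1.2).trans W2
        · exact ((Mid jv h.1 h.2).1.trans (Wm jv h.1 (by omega))).trans W2
        · have e1 : (⟨jv, hj⟩ : Fin t) = ⟨t - 2, by omega⟩ := Fin.ext (by show jv = t - 2; omega)
          have e2 : (⟨jv + 1, hk⟩ : Fin t) = ⟨t - 1, by omega⟩ :=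
            Fin.ext (by show jv + 1 = t - 1; omega)
          rw [e1, e2]; exact L3.1.trans L3.2

/-- Let T be a numerical type on n indices, t > 5 with n > t, and i_1, …, i_t distinct (-2)-indices with
a_{i_j i_{j+1}} nonzero for j = 1, …, t - 1. Then, after possibly reversing the order of the
indices, for some integer w either (A) w_{i_1} = … = w_{i_t} = w and a_{i_j i_{j+1}} = w for all j;
or (C) w_{i_1} = … = w_{i_{t-1}} = w, w_{i_t} = 2w, a_{i_j i_{j+1}} = w for j < t - 1 and a_{i_{t-1}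
i_t} = 2w; or (B) w_{i_1} = … = w_{i_{t-1}} = 2w, w_{i_t} = w and a_{i_j i_{j+1}} = 2w for all j;
and in every case a_{i_j i_k} = 0 whenever k > j + 1. -/
theorem result {n : ℕ} (T : Models.NumericalType n) (t : ℕ) (ht : 5 < t) (hn : t < n)
    (v : Fin t ↪ Fin n) (hv : ∀ j, T.IsMinusTwo (v j))
    (hchain : ∀ j j' : Fin t, j'.val = j.val + 1 → T.a (v j) (v j') ≠ 0) :
    ∃ (u : Fin t → Fin n) (w : ℤ), ((∀ j, u j = v j) ∨ (∀ j, u j = v (Fin.rev j))) ∧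
      (∀ j k : Fin t, j.val + 1 < k.val → T.a (u j) (u k) = 0) ∧
      ((∀ j : Fin t, T.w (u j) = w) ∧ (∀ j j' : Fin t, j'.val = j.val + 1 → T.a (u j) (u j') = w) ∨
        ((∀ j : Fin t, j.val + 1 < t → T.w (u j) = w) ∧ (∀ j : Fin t, j.val + 1 = t → T.w (u j) = 2 * w) ∧
          (∀ j j' : Fin t, j'.val = j.val + 1 → j'.val + 1 < t → T.a (u j) (u j') = w) ∧
          (∀ j j' : Fin t, j'.val = j.val + 1 → j'.val + 1 = t → T.a (u j) (u j') = 2 * w)) ∨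
        ((∀ j : Fin t, j.val + 1 < t → T.w (u j) = 2 * w) ∧ (∀ j : Fin t, j.val + 1 = t → T.w (u j) = w) ∧
          (∀ j j' : Fin t, j'.val = j.val + 1 → T.a (u j) (u j') = 2 * w))) := by
  classical
  obtain ⟨hFL, himp⟩ := core T t ht hn v hv hchain
  by_cases hF : (T.a (v ⟨0, by omega⟩) (v ⟨1, by omega⟩) = T.w (v ⟨0, by omega⟩) ∧
      T.w (v ⟨0, by omega⟩) = T.w (v ⟨1, by omega⟩))
  · obtain ⟨w, hw⟩ := himp hF
    exact ⟨⇑v, w, Or.inl (fun _ => rfl), zeros T t hn v hv hchain, hw⟩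
  · have hL := hFL.resolve_left hF
    let vr : Fin t ↪ Fin n :=
      ⟨fun j => v (Fin.rev j), fun j j' h => Fin.rev_injective (v.injective h)⟩
    have hvr : ∀ j, T.IsMinusTwo (vr j) := fun j => hv _
    have hchr : ∀ j j' : Fin t, j'.val = j.val + 1 → T.a (vr j) (vr j') ≠ 0 := by
      intro j j' h
      have hj' := j'.isLt
      have := hchain (Fin.rev j') (Fin.rev j) (by rw [Fin.val_rev, Fin.val_rev]; omega)
      show T.a (v (Fin.rev j)) (v (Fin.rev j')) ≠ 0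
      rw [Groth.Agent.Lib.ModelsH5.emb_symm T v (Fin.rev j') (Fin.rev j)]
      exact this
    obtain ⟨-, himpr⟩ := core T t ht hn vr hvr hchr
    have hFr : (T.a (vr ⟨0, by omega⟩) (vr ⟨1, by omega⟩) = T.w (vr ⟨0, by omega⟩) ∧
        T.w (vr ⟨0, by omega⟩) = T.w (vr ⟨1, by omega⟩)) := by
      have r0 : Fin.rev (⟨0, by omega⟩ : Fin t) = ⟨t - 1, by omega⟩ :=
        Fin.ext (by rw [Fin.val_rev])
      have r1 : Fin.rev (⟨1, by omega⟩ : Fin t) = ⟨t - 2, by omega⟩ :=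
        Fin.ext (by rw [Fin.val_rev])
      show (T.a (v (Fin.rev ⟨0, _⟩)) (v (Fin.rev ⟨1, _⟩)) = T.w (v (Fin.rev ⟨0, _⟩)) ∧
        T.w (v (Fin.rev ⟨0, _⟩)) = T.w (v (Fin.rev ⟨1, _⟩)))
      rw [r0, r1, Groth.Agent.Lib.ModelsH5.emb_symm T v ⟨t - 2, by omega⟩ ⟨t - 1, by omega⟩]
      exact hL
    obtain ⟨w, hw⟩ := himpr hFr
    exact ⟨fun j => v (Fin.rev j), w, Or.inr (fun _ => rfl), zeros T t hn vr hvr hchr, hw⟩

end Groth.Agent.S7354
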