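import Groth.Statements.S7355
import Mathlib
import Groth.Agent.Lib.Models6_helper5

set_option autoImplicit false
open Finset
open Models Models.NumericalType

namespace Groth.Agent.S7355

open Groth.Agent.Lib.ModelsH5 in
private lemma dtail {n : ℕ} (T : Models.NumericalType n) (t : ℕ) (ht : 4 < t) (hn : t + 1 < n)
    (v : Fin (t + 1) ↪ Fin n) (hv : ∀ j, T.IsMinusTwo (v j))
    (EBc : ∀ (a b : ℕ) (ha : a < t + 1) (hb : b < t + 1), b = a + 1 → b < t →
      1 * T.w (v ⟨a, ha⟩) ≤ T.a (v ⟨a, ha⟩) (v ⟨b, hb⟩) ∧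
        1 * T.w (v ⟨b, hb⟩) ≤ T.a (v ⟨b, hb⟩) (v ⟨a, ha⟩))
    (EBb : ∀ (a b : ℕ) (ha : a < t + 1) (hb : b < t + 1), a + 2 = t → b = t →
      1 * T.w (v ⟨a, ha⟩) ≤ T.a (v ⟨a, ha⟩) (v ⟨b, hb⟩) ∧
        1 * T.w (v ⟨b, hb⟩) ≤ T.a (v ⟨b, hb⟩) (v ⟨a, ha⟩))
    (i : ℕ) (hi : i + 3 ≤ t) (P Q ci : ℤ)
    (hP : P * T.w (v ⟨i, by omega⟩) ≤ T.a (v ⟨i, by omega⟩) (v ⟨i + 1, by omega⟩))
    (hQ : Q * T.w (v ⟨i + 1, by omega⟩) ≤ T.a (v ⟨i + 1, by omega⟩) (v ⟨i, by omega⟩))
    (h1 : 1 ≤ ci) (h2 : ci ≤ P) (h3 : 2 ≤ Q * ci) : False := by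
  classical
  let c : Fin (t + 1) → ℤ := fun k =>
    if k.val < i then 0 else if k.val = i then ci else if k.val + 2 ≤ t then 2 else 1
  have c0 : ∀ k : Fin (t + 1), k.val < i → c k = 0 := fun k h => if_pos h
  have cI : ∀ k : Fin (t + 1), k.val = i → c k = ci := fun k h => by
    show (if k.val < i then (0 : ℤ) else if k.val = i then ci
      else if k.val + 2 ≤ t then 2 else 1) = ci
    rw [if_neg (by omega), if_pos h]
  have cM : ∀ k : Fin (t + 1), i < k.val → k.val + 2 ≤ t → c k = 2 := fun k h h' => by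
    show (if k.val < i then (0 : ℤ) else if k.val = i then ci
      else if k.val + 2 ≤ t then 2 else 1) = 2
    rw [if_neg (by omega), if_neg (by omega), if_pos h']
  have cE : ∀ k : Fin (t + 1), t < k.val + 2 → c k = 1 := fun k h => by
    show (if k.val < i then (0 : ℤ) else if k.val = i then ci
      else if k.val + 2 ≤ t then 2 else 1) = 1
    rw [if_neg (by omega), if_neg (by omega), if_neg (by omega)]
  have hc : ∀ k, 0 ≤ c k := by
    intro k
    rcases (show k.val < i ∨ k.val = i ∨ (i < k.val ∧ k.val + 2 ≤ t) ∨ t < k.val + 2 by omega)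
      with h | h | h | h
    · rw [c0 k h]
    · rw [cI k h]; omega
    · rw [cM k h.1 h.2]; norm_num
    · rw [cE k h]; norm_num
  have fne : ∀ (a b : ℕ) (ha : a < t + 1) (hb : b < t + 1), a ≠ b →
      (⟨a, ha⟩ : Fin (t + 1)) ≠ ⟨b, hb⟩ := fun a b ha hb h e => h (congrArg Fin.val e)
  refine no_superharmonic T v hn c hc ⟨⟨i, by omega⟩, by rw [cI _ rfl]; omega⟩ ?_
  intro j hj
  obtain ⟨jv, hjv⟩ := j
  rcases (show jv < i ∨ jv = i ∨ (jv = i + 1 ∧ i + 3 = t) ∨ (jv = i + 1 ∧ i + 4 ≤ t) ∨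
      (i + 2 ≤ jv ∧ jv + 3 ≤ t) ∨ (i + 2 ≤ jv ∧ jv + 2 = t) ∨ jv + 1 = t ∨ jv = t by omega)
    with h | h | h | h | h | h | h | h
  · rw [c0 _ h] at hj; exact absurd hj (lt_irrefl 0)
  · have e : (⟨jv, hjv⟩ : Fin (t + 1)) = ⟨i, by omega⟩ := Fin.ext h
    rw [e]
    refine row1 T v hv c hc ⟨i, by omega⟩ ⟨i + 1, by omega⟩ (fne _ _ _ _ (by omega)) P hP ?_
    rw [cI ⟨i, by omega⟩ rfl,
      cM ⟨i + 1, by omega⟩ (by show i < i + 1; omega) (by show i + 1 + 2 ≤ t; omega)]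
    linarith
  · obtain ⟨h, h'⟩ := h
    have e : (⟨jv, hjv⟩ : Fin (t + 1)) = ⟨i + 1, by omega⟩ := Fin.ext h
    rw [e]
    have e2 := (EBc (i + 1) (i + 2) (by omega) (by omega) rfl (by omega)).1
    have e3 := (EBb (i + 1) t (by omega) (by omega) (by omega) rfl).1
    refine row3 T v hv c hc ⟨i + 1, by omega⟩ ⟨i, by omega⟩ ⟨i + 2, by omega⟩ ⟨t, by omega⟩
      (fne _ _ _ _ (by omega)) (fne _ _ _ _ (by omega)) (fne _ _ _ _ (by omega))
      (fne _ _ _ _ (by omega)) (fne _ _ _ _ (by omega)) (fne _ _ _ _ (by omega))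
      Q 1 1 hQ e2 e3 ?_
    rw [cM ⟨i + 1, by omega⟩ (by show i < i + 1; omega) (by show i + 1 + 2 ≤ t; omega),
      cI ⟨i, by omega⟩ rfl, cE ⟨i + 2, by omega⟩ (by show t < i + 2 + 2; omega),
      cE ⟨t, by omega⟩ (by show t < t + 2; omega)]
    linarith
  · obtain ⟨h, h'⟩ := h
    have e : (⟨jv, hjv⟩ : Fin (t + 1)) = ⟨i + 1, by omega⟩ := Fin.ext h
    rw [e]
    have e2 := (EBc (i + 1) (i + 2) (by omega) (by omega) rfl (by omega)).1
    refine row2 T v hv c hc ⟨i + 1, by omega⟩ ⟨i, by omega⟩ ⟨i + 2, by omega⟩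
      (fne _ _ _ _ (by omega)) (fne _ _ _ _ (by omega)) (fne _ _ _ _ (by omega))
      Q 1 hQ e2 ?_
    rw [cM ⟨i + 1, by omega⟩ (by show i < i + 1; omega) (by show i + 1 + 2 ≤ t; omega),
      cI ⟨i, by omega⟩ rfl,
      cM ⟨i + 2, by omega⟩ (by show i < i + 2; omega) (by show i + 2 + 2 ≤ t; omega)]
    linarith
  · obtain ⟨h, h'⟩ := h
    have em := (EBc (jv - 1) jv (by omega) hjv (by omega) (by omega)).2
    have ep := (EBc jv (jv + 1) hjv (by omega) rfl (by omega)).1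
    refine row2 T v hv c hc ⟨jv, hjv⟩ ⟨jv - 1, by omega⟩ ⟨jv + 1, by omega⟩
      (fne _ _ _ _ (by omega)) (fne _ _ _ _ (by omega)) (fne _ _ _ _ (by omega))
      1 1 em ep ?_
    rw [cM ⟨jv, hjv⟩ (by show i < jv; omega) (by show jv + 2 ≤ t; omega),
      cM ⟨jv - 1, by omega⟩ (by show i < jv - 1; omega) (by show jv - 1 + 2 ≤ t; omega),
      cM ⟨jv + 1, by omega⟩ (by show i < jv + 1; omega) (by show jv + 1 + 2 ≤ t; omega)]
    norm_num
  · obtain ⟨h, h'⟩ := h
    have em := (EBc (jv - 1) jv (by omega) hjv (by omega) (by omega)).2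
    have ep := (EBc jv (jv + 1) hjv (by omega) rfl (by omega)).1
    have eb := (EBb jv t hjv (by omega) h' rfl).1
    refine row3 T v hv c hc ⟨jv, hjv⟩ ⟨jv - 1, by omega⟩ ⟨jv + 1, by omega⟩ ⟨t, by omega⟩
      (fne _ _ _ _ (by omega)) (fne _ _ _ _ (by omega)) (fne _ _ _ _ (by omega))
      (fne _ _ _ _ (by omega)) (fne _ _ _ _ (by omega)) (fne _ _ _ _ (by omega))
      1 1 1 em ep eb ?_
    rw [cM ⟨jv, hjv⟩ (by show i < jv; omega) (by show jv + 2 ≤ t; omega),
      cM ⟨jv - 1, by omega⟩ (by show i < jv - 1; omega) (by show jv - 1 + 2 ≤ t; omega),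
      cE ⟨jv + 1, by omega⟩ (by show t < jv + 1 + 2; omega),
      cE ⟨t, by omega⟩ (by show t < t + 2; omega)]
    norm_num
  · have em := (EBc (jv - 1) jv (by omega) hjv (by omega) (by omega)).2
    refine row1 T v hv c hc ⟨jv, hjv⟩ ⟨jv - 1, by omega⟩ (fne _ _ _ _ (by omega)) 1 em ?_
    rw [cE ⟨jv, hjv⟩ (by show t < jv + 2; omega),
      cM ⟨jv - 1, by omega⟩ (by show i < jv - 1; omega) (by show jv - 1 + 2 ≤ t; omega)]
    norm_num
  · have eb := (EBb (jv - 2) jv (by omega) hjv (by omega) h).2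
    refine row1 T v hv c hc ⟨jv, hjv⟩ ⟨jv - 2, by omega⟩ (fne _ _ _ _ (by omega)) 1 eb ?_
    rw [cE ⟨jv, hjv⟩ (by show t < jv + 2; omega),
      cM ⟨jv - 2, by omega⟩ (by show i < jv - 2; omega) (by show jv - 2 + 2 ≤ t; omega)]
    norm_num

open Groth.Agent.Lib.ModelsH5 in
private lemma dfork {n : ℕ} (T : Models.NumericalType n) (t : ℕ) (ht : 4 < t) (hn : t + 1 < n)
    (v : Fin (t + 1) ↪ Fin n) (hv : ∀ j, T.IsMinusTwo (v j))
    (EBc : ∀ (a b : ℕ) (ha : a < t + 1) (hb : b < t + 1), b = a + 1 → b < t →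
      1 * T.w (v ⟨a, ha⟩) ≤ T.a (v ⟨a, ha⟩) (v ⟨b, hb⟩) ∧
        1 * T.w (v ⟨b, hb⟩) ≤ T.a (v ⟨b, hb⟩) (v ⟨a, ha⟩))
    (EBb : ∀ (a b : ℕ) (ha : a < t + 1) (hb : b < t + 1), a + 2 = t → b = t →
      1 * T.w (v ⟨a, ha⟩) ≤ T.a (v ⟨a, ha⟩) (v ⟨b, hb⟩) ∧
        1 * T.w (v ⟨b, hb⟩) ≤ T.a (v ⟨b, hb⟩) (v ⟨a, ha⟩))
    (r s : ℕ) (hrs : (r + 1 = t ∧ s = t) ∨ (r = t ∧ s + 1 = t)) (P Q cr : ℤ)
    (hP : P * T.w (v ⟨t - 2, by omega⟩) ≤ T.a (v ⟨t - 2, by omega⟩) (v ⟨r, by omega⟩))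
    (hQ : Q * T.w (v ⟨r, by omega⟩) ≤ T.a (v ⟨r, by omega⟩) (v ⟨t - 2, by omega⟩))
    (h1 : 1 ≤ cr) (h2 : cr ≤ Q) (h3 : 2 ≤ P * cr) : False := by
  classical
  have Ef : ∀ (x : ℕ) (hx : x < t + 1), (x + 1 = t ∨ x = t) →
      1 * T.w (v ⟨t - 2, by omega⟩) ≤ T.a (v ⟨t - 2, by omega⟩) (v ⟨x, hx⟩) ∧
        1 * T.w (v ⟨x, hx⟩) ≤ T.a (v ⟨x, hx⟩) (v ⟨t - 2, by omega⟩) := by
    intro x hx h
    rcases h with h | h
    · exact EBc (t - 2) x (by omega) hx (by omega) (by omega)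
    · exact EBb (t - 2) x (by omega) hx (by omega) h
  let c : Fin (t + 1) → ℤ := fun k =>
    if k.val + 3 = t then 1 else if k.val + 2 = t then 2 else if k.val = r then cr
      else if k.val = s then 1 else 0
  have cp : ∀ k : Fin (t + 1), k.val + 3 = t → c k = 1 := fun k h => if_pos h
  have cq : ∀ k : Fin (t + 1), k.val + 2 = t → c k = 2 := fun k h => by
    show (if k.val + 3 = t then (1 : ℤ) else if k.val + 2 = t then 2 else if k.val = r then cr
      else if k.val = s then 1 else 0) = 2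
    rw [if_neg (by omega), if_pos h]
  have cr' : ∀ k : Fin (t + 1), k.val = r → c k = cr := fun k h => by
    show (if k.val + 3 = t then (1 : ℤ) else if k.val + 2 = t then 2 else if k.val = r then cr
      else if k.val = s then 1 else 0) = cr
    rw [if_neg (by omega), if_neg (by omega), if_pos h]
  have cs : ∀ k : Fin (t + 1), k.val = s → c k = 1 := fun k h => by
    show (if k.val + 3 = t then (1 : ℤ) else if k.val + 2 = t then 2 else if k.val = r then cr
      else if k.val = s then 1 else 0) = 1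
    rw [if_neg (by omega), if_neg (by omega), if_neg (by omega), if_pos h]
  have cz : ∀ k : Fin (t + 1), k.val + 3 < t → c k = 0 := fun k h => by
    show (if k.val + 3 = t then (1 : ℤ) else if k.val + 2 = t then 2 else if k.val = r then cr
      else if k.val = s then 1 else 0) = 0
    rw [if_neg (by omega), if_neg (by omega), if_neg (by omega), if_neg (by omega)]
  have hc : ∀ k, 0 ≤ c k := by
    intro k
    rcases (show k.val + 3 < t ∨ k.val + 3 = t ∨ k.val + 2 = t ∨ k.val = r ∨ k.val = s by omega)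
      with h | h | h | h | h
    · rw [cz k h]
    · rw [cp k h]; norm_num
    · rw [cq k h]; norm_num
    · rw [cr' k h]; omega
    · rw [cs k h]; norm_num
  have fne : ∀ (a b : ℕ) (ha : a < t + 1) (hb : b < t + 1), a ≠ b →
      (⟨a, ha⟩ : Fin (t + 1)) ≠ ⟨b, hb⟩ := fun a b ha hb h e => h (congrArg Fin.val e)
  refine no_superharmonic T v hn c hc ⟨⟨t - 2, by omega⟩, by
    rw [cq _ (by show t - 2 + 2 = t; omega)]; norm_num⟩ ?_
  intro j hj
  obtain ⟨jv, hjv⟩ := j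
  rcases (show jv + 3 < t ∨ jv + 3 = t ∨ jv + 2 = t ∨ jv = r ∨ jv = s by omega)
    with h | h | h | h | h
  · rw [cz _ h] at hj; exact absurd hj (lt_irrefl 0)
  · have e1 := (EBc jv (jv + 1) hjv (by omega) rfl (by omega)).1
    refine row1 T v hv c hc ⟨jv, hjv⟩ ⟨jv + 1, by omega⟩ (fne _ _ _ _ (by omega)) 1 e1 ?_
    rw [cp ⟨jv, hjv⟩ h, cq ⟨jv + 1, by omega⟩ (by show jv + 1 + 2 = t; omega)]
    norm_num
  · have e : (⟨jv, hjv⟩ : Fin (t + 1)) = ⟨t - 2, by omega⟩ := Fin.ext (by show jv = t - 2; omega)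
    rw [e]
    have e1 := (EBc (t - 3) (t - 2) (by omega) (by omega) (by omega) (by omega)).2
    have e3 := (Ef s (by omega) (by omega)).1
    refine row3 T v hv c hc ⟨t - 2, by omega⟩ ⟨t - 3, by omega⟩ ⟨r, by omega⟩ ⟨s, by omega⟩
      (fne _ _ _ _ (by omega)) (fne _ _ _ _ (by omega)) (fne _ _ _ _ (by omega))
      (fne _ _ _ _ (by omega)) (fne _ _ _ _ (by omega)) (fne _ _ _ _ (by omega))
      1 P 1 e1 hP e3 ?_
    rw [cq ⟨t - 2, by omega⟩ (by show t - 2 + 2 = t; omega),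
      cp ⟨t - 3, by omega⟩ (by show t - 3 + 3 = t; omega),
      cr' ⟨r, by omega⟩ rfl, cs ⟨s, by omega⟩ rfl]
    linarith
  · have e : (⟨jv, hjv⟩ : Fin (t + 1)) = ⟨r, by omega⟩ := Fin.ext h
    rw [e]
    refine row1 T v hv c hc ⟨r, by omega⟩ ⟨t - 2, by omega⟩ (fne _ _ _ _ (by omega)) Q hQ ?_
    rw [cr' ⟨r, by omega⟩ rfl, cq ⟨t - 2, by omega⟩ (by show t - 2 + 2 = t; omega)]
    linarith
  · have e : (⟨jv, hjv⟩ : Fin (t + 1)) = ⟨s, by omega⟩ := Fin.ext h
    rw [e]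
    have e3 := (Ef s (by omega) (by omega)).2
    refine row1 T v hv c hc ⟨s, by omega⟩ ⟨t - 2, by omega⟩ (fne _ _ _ _ (by omega)) 1 e3 ?_
    rw [cs ⟨s, by omega⟩ rfl, cq ⟨t - 2, by omega⟩ (by show t - 2 + 2 = t; omega)]
    norm_num

/-- Classification of proper subgraphs of type D: let T be a numerical type on n indices, t > 4 with n >
t + 1, and i_1, …, i_{t+1} distinct (-2)-indices such that a_{i_j i_{j+1}} is nonzero for j = 1, …,
t - 1 and a_{i_{t-1} i_{t+1}} is nonzero. Then for some integer w one has w_{i_1} = … = w_{i_{t+1}}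
= w, a_{i_j i_{j+1}} = w for j < t, a_{i_{t-1} i_{t+1}} = w, and a_{i_j i_k} = 0 for all other pairs
j ≠ k. -/
theorem result {n : ℕ} (T : Models.NumericalType n) (t : ℕ) (ht : 4 < t) (hn : t + 1 < n)
    (v : Fin (t + 1) ↪ Fin n) (hv : ∀ j, T.IsMinusTwo (v j))
    (hchain : ∀ j j' : Fin (t + 1), j'.val = j.val + 1 → j'.val < t → T.a (v j) (v j') ≠ 0)
    (hbranch : ∀ j j' : Fin (t + 1), j.val + 2 = t → j'.val = t → T.a (v j) (v j') ≠ 0) :
    ∃ w : ℤ, (∀ j : Fin (t + 1), T.w (v j) = w) ∧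
      (∀ j j' : Fin (t + 1), j'.val = j.val + 1 → j'.val < t → T.a (v j) (v j') = w) ∧
      (∀ j j' : Fin (t + 1), j.val + 2 = t → j'.val = t → T.a (v j) (v j') = w) ∧
      (∀ j k : Fin (t + 1), j.val < k.val → ¬ (k.val = j.val + 1 ∧ k.val < t) → ¬ (j.val + 2 = t ∧ k.val = t) →
        T.a (v j) (v k) = 0) := by
  classical
  have fne : ∀ (a b : ℕ) (ha : a < t + 1) (hb : b < t + 1), a ≠ b →
      (⟨a, ha⟩ : Fin (t + 1)) ≠ ⟨b, hb⟩ := fun a b ha hb h e => h (congrArg Fin.val e)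
  have hs : ∀ j k : Fin (t + 1), T.a (v k) (v j) = T.a (v j) (v k) :=
    fun j k => Groth.Agent.Lib.ModelsH5.emb_symm T v j k
  have NZc : ∀ (a b : ℕ) (ha : a < t + 1) (hb : b < t + 1), b = a + 1 → b < t →
      T.a (v ⟨a, ha⟩) (v ⟨b, hb⟩) ≠ 0 ∧ T.a (v ⟨b, hb⟩) (v ⟨a, ha⟩) ≠ 0 := by
    intro a b ha hb h1 h2
    have := hchain ⟨a, ha⟩ ⟨b, hb⟩ h1 h2
    exact ⟨this, by rw [hs ⟨a, ha⟩ ⟨b, hb⟩]; exact this⟩
  have NZb : ∀ (a b : ℕ) (ha : a < t + 1) (hb : b < t + 1), a + 2 = t → b = t →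
      T.a (v ⟨a, ha⟩) (v ⟨b, hb⟩) ≠ 0 ∧ T.a (v ⟨b, hb⟩) (v ⟨a, ha⟩) ≠ 0 := by
    intro a b ha hb h1 h2
    have := hbranch ⟨a, ha⟩ ⟨b, hb⟩ h1 h2
    exact ⟨this, by rw [hs ⟨a, ha⟩ ⟨b, hb⟩]; exact this⟩
  have EBc : ∀ (a b : ℕ) (ha : a < t + 1) (hb : b < t + 1), b = a + 1 → b < t →
      1 * T.w (v ⟨a, ha⟩) ≤ T.a (v ⟨a, ha⟩) (v ⟨b, hb⟩) ∧
        1 * T.w (v ⟨b, hb⟩) ≤ T.a (v ⟨b, hb⟩) (v ⟨a, ha⟩) := fun a b ha hb h1 h2 =>
    Groth.Agent.Lib.ModelsH5.edge_bounds T v hv ⟨a, ha⟩ ⟨b, hb⟩ (NZc a b ha hb h1 h2).1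
      (fne _ _ _ _ (by omega))
  have EBb : ∀ (a b : ℕ) (ha : a < t + 1) (hb : b < t + 1), a + 2 = t → b = t →
      1 * T.w (v ⟨a, ha⟩) ≤ T.a (v ⟨a, ha⟩) (v ⟨b, hb⟩) ∧
        1 * T.w (v ⟨b, hb⟩) ≤ T.a (v ⟨b, hb⟩) (v ⟨a, ha⟩) := fun a b ha hb h1 h2 =>
    Groth.Agent.Lib.ModelsH5.edge_bounds T v hv ⟨a, ha⟩ ⟨b, hb⟩ (NZb a b ha hb h1 h2).1
      (fne _ _ _ _ (by omega))
  -- chain edges are simple
  have Pc : ∀ (a : ℕ) (h : a + 1 < t),
      T.a (v ⟨a, by omega⟩) (v ⟨a + 1, by omega⟩) = T.w (v ⟨a, by omega⟩) ∧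
        T.a (v ⟨a + 1, by omega⟩) (v ⟨a, by omega⟩) = T.w (v ⟨a + 1, by omega⟩) := by
    intro a h
    have nz := NZc a (a + 1) (by omega) (by omega) rfl h
    have eb := EBc a (a + 1) (by omega) (by omega) rfl h
    have hne : v ⟨a, by omega⟩ ≠ v ⟨a + 1, by omega⟩ :=
      fun e => fne a (a + 1) (by omega) (by omega) (by omega) (v.injective e)
    constructor
    · rcases Groth.Agent.Lib.ModelsH5.eq_or_two_le T _ _ hne nz.1 with h' | h'
      · exact h'
      · exfalso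
        by_cases hcase : a + 3 ≤ t
        · exact dtail T t ht hn v hv EBc EBb a hcase 2 1 2 h' eb.2 (by norm_num) (by norm_num)
            (by norm_num)
        · have e : (⟨t - 2, by omega⟩ : Fin (t + 1)) = ⟨a, by omega⟩ :=
            Fin.ext (by show t - 2 = a; omega)
          refine dfork T t ht hn v hv EBc EBb (a + 1) t (Or.inl ⟨by omega, rfl⟩) 2 1 1 ?_ ?_
            (by norm_num) (by norm_num) (by norm_num)
          · rw [e]; exact h'
          · rw [e]; exact eb.2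
    · rcases Groth.Agent.Lib.ModelsH5.eq_or_two_le T _ _ hne.symm nz.2 with h' | h'
      · exact h'
      · exfalso
        by_cases hcase : a + 3 ≤ t
        · exact dtail T t ht hn v hv EBc EBb a hcase 1 2 1 eb.1 h' (by norm_num) (by norm_num)
            (by norm_num)
        · have e : (⟨t - 2, by omega⟩ : Fin (t + 1)) = ⟨a, by omega⟩ :=
            Fin.ext (by show t - 2 = a; omega)
          refine dfork T t ht hn v hv EBc EBb (a + 1) t (Or.inl ⟨by omega, rfl⟩) 1 2 2 ?_ ?_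
            (by norm_num) (by norm_num) (by norm_num)
          · rw [e]; exact eb.1
          · rw [e]; exact h'
  have Pb : T.a (v ⟨t - 2, by omega⟩) (v ⟨t, by omega⟩) = T.w (v ⟨t - 2, by omega⟩) ∧
      T.a (v ⟨t, by omega⟩) (v ⟨t - 2, by omega⟩) = T.w (v ⟨t, by omega⟩) := by
    have nz := NZb (t - 2) t (by omega) (by omega) (by omega) rfl
    have eb := EBb (t - 2) t (by omega) (by omega) (by omega) rfl
    have hne : v ⟨t - 2, by omega⟩ ≠ v ⟨t, by omega⟩ :=
      fun e => fne (t - 2) t (by omega) (by omega) (by omega) (v.injective e)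
    constructor
    · rcases Groth.Agent.Lib.ModelsH5.eq_or_two_le T _ _ hne nz.1 with h' | h'
      · exact h'
      · exfalso
        exact dfork T t ht hn v hv EBc EBb t (t - 1) (Or.inr ⟨rfl, by omega⟩) 2 1 1 h' eb.2
          (by norm_num) (by norm_num) (by norm_num)
    · rcases Groth.Agent.Lib.ModelsH5.eq_or_two_le T _ _ hne.symm nz.2 with h' | h'
      · exact h'
      · exfalso
        exact dfork T t ht hn v hv EBc EBb t (t - 1) (Or.inr ⟨rfl, by omega⟩) 1 2 2 eb.1 h'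
          (by norm_num) (by norm_num) (by norm_num)
  have Wc : ∀ (a : ℕ) (ha : a < t), T.w (v ⟨a, by omega⟩) = T.w (v ⟨0, by omega⟩) := by
    intro a
    induction a with
    | zero => intro _; rfl
    | succ a ih =>
      intro ha
      have p := Pc a (by omega)
      have := ih (by omega)
      exact ((p.2.symm.trans (hs ⟨a, by omega⟩ ⟨a + 1, by omega⟩)).trans p.1).trans this
  have Wt : T.w (v ⟨t, by omega⟩) = T.w (v ⟨0, by omega⟩) :=
    ((Pb.2.symm.trans (hs ⟨t - 2, by omega⟩ ⟨t, by omega⟩)).trans Pb.1).trans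
      (Wc (t - 2) (by omega))
  have Z : ∀ j k : Fin (t + 1), j.val < k.val → ¬ (k.val = j.val + 1 ∧ k.val < t) →
      ¬ (j.val + 2 = t ∧ k.val = t) → T.a (v j) (v k) = 0 := by
    intro j k hjk hn1 hn2
    by_contra hnz
    have hnz' : T.a (v k) (v j) ≠ 0 := by rw [hs j k]; exact hnz
    obtain ⟨jv, hj⟩ := j
    obtain ⟨kv, hk⟩ := k
    have hjk' : jv < kv := hjk
    have hn1' : ¬ (kv = jv + 1 ∧ kv < t) := hn1
    have hn2' : ¬ (jv + 2 = t ∧ kv = t) := hn2
    by_cases hkt : kv < t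
    · refine Groth.Agent.Lib.ModelsH5.no_cycle T v hv hn
        (univ.filter fun i : Fin (t + 1) => jv ≤ i.val ∧ i.val ≤ kv)
        ⟨⟨jv, hj⟩, by
          simp only [mem_filter, mem_univ, true_and]
          show jv ≤ jv ∧ jv ≤ kv
          omega⟩ ?_
      intro i hi
      simp only [mem_filter, mem_univ, true_and] at hi
      obtain ⟨iv, hiv⟩ := i
      have hi' : jv ≤ iv ∧ iv ≤ kv := hi
      rcases (show iv = jv ∨ iv = kv ∨ (jv < iv ∧ iv < kv) by omega) with h | h | h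
      · have e : (⟨iv, hiv⟩ : Fin (t + 1)) = ⟨jv, hj⟩ := Fin.ext h
        rw [e]
        refine ⟨⟨jv + 1, by omega⟩, ⟨kv, hk⟩, ?_, ?_, fne _ _ _ _ (by omega), fne _ _ _ _ (by omega),
          fne _ _ _ _ (by omega), (NZc jv (jv + 1) hj (by omega) rfl (by omega)).1, hnz⟩
        · simp only [mem_filter, mem_univ, true_and]
          show jv ≤ jv + 1 ∧ jv + 1 ≤ kv
          omega
        · simp only [mem_filter, mem_univ, true_and]
          show jv ≤ kv ∧ kv ≤ kv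
          omega
      · have e : (⟨iv, hiv⟩ : Fin (t + 1)) = ⟨kv, hk⟩ := Fin.ext h
        rw [e]
        refine ⟨⟨kv - 1, by omega⟩, ⟨jv, hj⟩, ?_, ?_, fne _ _ _ _ (by omega), fne _ _ _ _ (by omega),
          fne _ _ _ _ (by omega), (NZc (kv - 1) kv (by omega) hk (by omega) hkt).2, hnz'⟩
        · simp only [mem_filter, mem_univ, true_and]
          show jv ≤ kv - 1 ∧ kv - 1 ≤ kv
          omega
        · simp only [mem_filter, mem_univ, true_and]
          show jv ≤ jv ∧ jv ≤ kv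
          omega
      · refine ⟨⟨iv - 1, by omega⟩, ⟨iv + 1, by omega⟩, ?_, ?_, fne _ _ _ _ (by omega),
          fne _ _ _ _ (by omega), fne _ _ _ _ (by omega),
          (NZc (iv - 1) iv (by omega) hiv (by omega) (by omega)).2,
          (NZc iv (iv + 1) hiv (by omega) rfl (by omega)).1⟩
        · simp only [mem_filter, mem_univ, true_and]
          show jv ≤ iv - 1 ∧ iv - 1 ≤ kv
          omega
        · simp only [mem_filter, mem_univ, true_and]
          show jv ≤ iv + 1 ∧ iv + 1 ≤ kv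
          omega
    · have hkt' : kv = t := by omega
      have ek : (⟨kv, hk⟩ : Fin (t + 1)) = ⟨t, by omega⟩ := Fin.ext hkt'
      rw [ek] at hnz hnz'
      by_cases hjt : jv + 1 = t
      · have ej : (⟨jv, hj⟩ : Fin (t + 1)) = ⟨t - 1, by omega⟩ :=
          Fin.ext (by show jv = t - 1; omega)
        rw [ej] at hnz hnz'
        refine Groth.Agent.Lib.ModelsH5.no_cycle T v hv hn
          (univ.filter fun i : Fin (t + 1) => t ≤ i.val + 2)
          ⟨⟨t, by omega⟩, by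
            simp only [mem_filter, mem_univ, true_and]
            show t ≤ t + 2
            omega⟩ ?_
        intro i hi
        simp only [mem_filter, mem_univ, true_and] at hi
        obtain ⟨iv, hiv⟩ := i
        have hi' : t ≤ iv + 2 := hi
        rcases (show iv = t - 2 ∨ iv = t - 1 ∨ iv = t by omega) with h | h | h
        · have e : (⟨iv, hiv⟩ : Fin (t + 1)) = ⟨t - 2, by omega⟩ := Fin.ext h
          rw [e]
          refine ⟨⟨t - 1, by omega⟩, ⟨t, by omega⟩, ?_, ?_, fne _ _ _ _ (by omega),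
            fne _ _ _ _ (by omega), fne _ _ _ _ (by omega),
            (NZc (t - 2) (t - 1) (by omega) (by omega) (by omega) (by omega)).1,
            (NZb (t - 2) t (by omega) (by omega) (by omega) rfl).1⟩
          · simp only [mem_filter, mem_univ, true_and]
            show t ≤ t - 1 + 2
            omega
          · simp only [mem_filter, mem_univ, true_and]
            show t ≤ t + 2
            omega
        · have e : (⟨iv, hiv⟩ : Fin (t + 1)) = ⟨t - 1, by omega⟩ := Fin.ext h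
          rw [e]
          refine ⟨⟨t - 2, by omega⟩, ⟨t, by omega⟩, ?_, ?_, fne _ _ _ _ (by omega),
            fne _ _ _ _ (by omega), fne _ _ _ _ (by omega),
            (NZc (t - 2) (t - 1) (by omega) (by omega) (by omega) (by omega)).2, hnz⟩
          · simp only [mem_filter, mem_univ, true_and]
            show t ≤ t - 2 + 2
            omega
          · simp only [mem_filter, mem_univ, true_and]
            show t ≤ t + 2
            omega
        · have e : (⟨iv, hiv⟩ : Fin (t + 1)) = ⟨t, by omega⟩ := Fin.ext h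
          rw [e]
          refine ⟨⟨t - 2, by omega⟩, ⟨t - 1, by omega⟩, ?_, ?_, fne _ _ _ _ (by omega),
            fne _ _ _ _ (by omega), fne _ _ _ _ (by omega),
            (NZb (t - 2) t (by omega) (by omega) (by omega) rfl).2, hnz'⟩
          · simp only [mem_filter, mem_univ, true_and]
            show t ≤ t - 2 + 2
            omega
          · simp only [mem_filter, mem_univ, true_and]
            show t ≤ t - 1 + 2
            omega
      · have hj3 : jv + 3 ≤ t := by omega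
        refine Groth.Agent.Lib.ModelsH5.no_cycle T v hv hn
          (univ.filter fun i : Fin (t + 1) => (jv ≤ i.val ∧ i.val + 2 ≤ t) ∨ i.val = t)
          ⟨⟨t, by omega⟩, by
            exact mem_filter.2 ⟨mem_univ _, Or.inr rfl⟩⟩ ?_
        intro i hi
        simp only [mem_filter, mem_univ, true_and] at hi
        obtain ⟨iv, hiv⟩ := i
        have hi' : (jv ≤ iv ∧ iv + 2 ≤ t) ∨ iv = t := hi
        rcases (show iv = jv ∨ (jv < iv ∧ iv + 3 ≤ t) ∨ iv + 2 = t ∨ iv = t by omega)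
          with h | h | h | h
        · have e : (⟨iv, hiv⟩ : Fin (t + 1)) = ⟨jv, hj⟩ := Fin.ext h
          rw [e]
          refine ⟨⟨jv + 1, by omega⟩, ⟨t, by omega⟩, ?_, ?_, fne _ _ _ _ (by omega),
            fne _ _ _ _ (by omega), fne _ _ _ _ (by omega),
            (NZc jv (jv + 1) hj (by omega) rfl (by omega)).1, hnz⟩
          · simp only [mem_filter, mem_univ, true_and]
            show (jv ≤ jv + 1 ∧ jv + 1 + 2 ≤ t) ∨ jv + 1 = t
            omega
          · exact mem_filter.2 ⟨mem_univ _, Or.inr rfl⟩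
        · refine ⟨⟨iv - 1, by omega⟩, ⟨iv + 1, by omega⟩, ?_, ?_, fne _ _ _ _ (by omega),
            fne _ _ _ _ (by omega), fne _ _ _ _ (by omega),
            (NZc (iv - 1) iv (by omega) hiv (by omega) (by omega)).2,
            (NZc iv (iv + 1) hiv (by omega) rfl (by omega)).1⟩
          · simp only [mem_filter, mem_univ, true_and]
            show (jv ≤ iv - 1 ∧ iv - 1 + 2 ≤ t) ∨ iv - 1 = t
            omega
          · simp only [mem_filter, mem_univ, true_and]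
            show (jv ≤ iv + 1 ∧ iv + 1 + 2 ≤ t) ∨ iv + 1 = t
            omega
        · have e : (⟨iv, hiv⟩ : Fin (t + 1)) = ⟨t - 2, by omega⟩ :=
            Fin.ext (by show iv = t - 2; omega)
          rw [e]
          refine ⟨⟨t - 3, by omega⟩, ⟨t, by omega⟩, ?_, ?_, fne _ _ _ _ (by omega),
            fne _ _ _ _ (by omega), fne _ _ _ _ (by omega),
            (NZc (t - 3) (t - 2) (by omega) (by omega) (by omega) (by omega)).2,
            (NZb (t - 2) t (by omega) (by omega) (by omega) rfl).1⟩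
          · simp only [mem_filter, mem_univ, true_and]
            show (jv ≤ t - 3 ∧ t - 3 + 2 ≤ t) ∨ t - 3 = t
            omega
          · exact mem_filter.2 ⟨mem_univ _, Or.inr rfl⟩
        · have e : (⟨iv, hiv⟩ : Fin (t + 1)) = ⟨t, by omega⟩ := Fin.ext h
          rw [e]
          refine ⟨⟨t - 2, by omega⟩, ⟨jv, hj⟩, ?_, ?_, fne _ _ _ _ (by omega),
            fne _ _ _ _ (by omega), fne _ _ _ _ (by omega),
            (NZb (t - 2) t (by omega) (by omega) (by omega) rfl).2, hnz'⟩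
          · simp only [mem_filter, mem_univ, true_and]
            show (jv ≤ t - 2 ∧ t - 2 + 2 ≤ t) ∨ t - 2 = t
            omega
          · simp only [mem_filter, mem_univ, true_and]
            show (jv ≤ jv ∧ jv + 2 ≤ t) ∨ jv = t
            omega
  refine ⟨T.w (v ⟨0, by omega⟩), ?_, ?_, ?_, Z⟩
  · rintro ⟨jv, hj⟩
    by_cases h : jv < t
    · exact Wc jv h
    · have e : (⟨jv, hj⟩ : Fin (t + 1)) = ⟨t, by omega⟩ := Fin.ext (by show jv = t; omega)
      rw [e]; exact Wt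
  · rintro ⟨jv, hj⟩ ⟨kv, hk⟩ h1 h2
    have h1' : kv = jv + 1 := h1
    have h2' : kv < t := h2
    have e : (⟨kv, hk⟩ : Fin (t + 1)) = ⟨jv + 1, by omega⟩ := Fin.ext h1'
    rw [e]
    exact (Pc jv (by omega)).1.trans (Wc jv (by omega))
  · rintro ⟨jv, hj⟩ ⟨kv, hk⟩ h1 h2
    have h1' : jv + 2 = t := h1
    have h2' : kv = t := h2
    have e1 : (⟨jv, hj⟩ : Fin (t + 1)) = ⟨t - 2, by omega⟩ := Fin.ext (by show jv = t - 2; omega)
    have e2 : (⟨kv, hk⟩ : Fin (t + 1)) = ⟨t, by omega⟩ := Fin.ext h2'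
    rw [e1, e2]
    exact Pb.1.trans (Wc (t - 2) (by omega))

end Groth.Agent.S7355
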