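import Groth.Statements.S7362
import Mathlib
import Groth.Agent.Lib.Models3_helper5

set_option autoImplicit false
open Finset
open Models Models.NumericalType

namespace Groth.Agent.S7362

/-- Genus one classification: case n = 2: let T be a minimal numerical type of genus 1 on two indices.
Then for some ordering i, j of the indices and some integers m, w, either m_i = m_j = m, a_ii = a_jj
= -2w, a_ij = 2w, w_i = w_j = w, g_i = g_j = 0; or m_i = 2m, m_j = m, a_ii = -2w, a_ij = 4w, a_jj =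
-8w, w_i = w, w_j = 4w, g_i = g_j = 0. Only the classification direction is stated. -/
theorem result (T : Models.NumericalType 2) (hmin : T.IsMinimal) (hg : T.genus = 1) :
    ∃ (i j : Fin 2) (m w : ℤ), i ≠ j ∧ T.g i = 0 ∧ T.g j = 0 ∧
      ((T.m i = m ∧ T.m j = m ∧ T.a i i = -2 * w ∧ T.a i j = 2 * w ∧ T.a j j = -2 * w ∧ T.w i = w ∧ T.w j = w) ∨
        (T.m i = 2 * m ∧ T.m j = m ∧ T.a i i = -2 * w ∧ T.a i j = 4 * w ∧ T.a j j = -8 * w ∧ T.w i = w ∧ T.w j = 4 * w)) := by
  have h0 := Groth.Agent.Lib.ModelsH5.genus_one_minusTwo T hmin (by norm_num) hg 0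
  have h1 := Groth.Agent.Lib.ModelsH5.genus_one_minusTwo T hmin (by norm_num) hg 1
  have r0 := Groth.Agent.Lib.ModelsH5.row_sum T 0
  have r1 := Groth.Agent.Lib.ModelsH5.row_sum T 1
  rw [Fin.sum_univ_two] at r0 r1
  have hs : T.a 1 0 = T.a 0 1 := T.symm.apply 0 1
  obtain ⟨p, hp⟩ := T.w_dvd 0 1
  obtain ⟨q, hq⟩ := T.w_dvd 1 0
  have a00 := h0.2
  have a11 := h1.2
  rw [a00] at r0
  rw [a11] at r1
  have hw0 := T.w_pos 0
  have hw1 := T.w_pos 1
  have hm0 := T.m_pos 0
  have hm1 := T.m_pos 1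
  have e0 : 2 * T.m 0 = p * T.m 1 := by
    have : T.w 0 * (2 * T.m 0) = T.w 0 * (p * T.m 1) := by rw [hp] at r0; linarith
    exact mul_left_cancel₀ hw0.ne' this
  have e1 : 2 * T.m 1 = q * T.m 0 := by
    have : T.w 1 * (2 * T.m 1) = T.w 1 * (q * T.m 0) := by rw [hq] at r1; linarith
    exact mul_left_cancel₀ hw1.ne' this
  have hpq : p * q = 4 := by
    have : T.m 0 * (p * q) = T.m 0 * 4 := by
      calc T.m 0 * (p * q) = p * (q * T.m 0) := by ring
        _ = p * (2 * T.m 1) := by rw [e1]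
        _ = 2 * (p * T.m 1) := by ring
        _ = 2 * (2 * T.m 0) := by rw [e0]
        _ = T.m 0 * 4 := by ring
    exact mul_left_cancel₀ hm0.ne' this
  have hp0 : 0 < p := by
    by_contra hcon
    push Not at hcon
    have := mul_nonpos_of_nonpos_of_nonneg hcon hm1.le
    linarith
  have hq0 : 0 < q := by
    by_contra hcon
    push Not at hcon
    have := mul_nonpos_of_nonpos_of_nonneg hcon hm0.le
    linarith
  have hp4 : p ≤ 4 := by nlinarith
  have hcases : (p = 1 ∧ q = 4) ∨ (p = 2 ∧ q = 2) ∨ (p = 4 ∧ q = 1) := by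
    interval_cases p <;> omega
  rcases hcases with ⟨rfl, rfl⟩ | ⟨rfl, rfl⟩ | ⟨rfl, rfl⟩
  · refine ⟨1, 0, T.m 0, T.w 1, by decide, h1.1, h0.1, Or.inr ⟨by linarith, rfl, by linarith, by linarith, by linarith, rfl, by linarith⟩⟩
  · refine ⟨0, 1, T.m 1, T.w 0, by decide, h0.1, h1.1, Or.inl ⟨by linarith, rfl, by linarith, by linarith, by linarith, rfl, by linarith⟩⟩
  · refine ⟨0, 1, T.m 1, T.w 0, by decide, h0.1, h1.1, Or.inr ⟨by linarith, rfl, by linarith, by linarith, by linarith, rfl, by linarith⟩⟩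

end Groth.Agent.S7362
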