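import Groth.Statements.S7363
import Mathlib
import Groth.Agent.Lib.Models4_helper5

set_option autoImplicit false
open Finset
open Models Models.NumericalType

namespace Groth.Agent.S7363

/-- Genus one classification: case n = 3: let T be a minimal numerical type of genus 1 on three indices.
Then all g = 0 and, for some ordering i, j, k of the indices and some integers m, w, the data (m; a;
w) is one of: (m,m,m; a_ii = a_jj = a_kk = -2w, a_ij = a_ik = a_jk = w; w,w,w); (m,2m,m; a_ii = -2w,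
a_ij = w, a_ik = 0, a_jj = -2w, a_jk = 3w, a_kk = -6w; w,w,3w); (m,2m,3m; a_ii = -6w, a_ij = 3w,
a_ik = 0, a_jj = -6w, a_jk = 3w, a_kk = -2w; 3w,3w,w); (2m,2m,m; a_ii = -2w, a_ij = 2w, a_ik = 0,
a_jj = -4w, a_jk = 4w, a_kk = -8w; w,2w,4w); (m,m,m; a_ii = -2w, a_ij = 2w, a_ik = 0, a_jj = -4w,
a_jk = 2w, a_kk = -2w; w,2w,w); (m,2m,m; a_ii = -4w, a_ij = 2w, a_ik = 0, a_jj = -2w, a_jk = 2w,
a_kk = -4w; 2w,w,2w). Only the classification direction is stated. -/
theorem result (T : Models.NumericalType 3) (hmin : T.IsMinimal) (hg : T.genus = 1) :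
    ∃ (i j k : Fin 3) (m w : ℤ), i ≠ j ∧ j ≠ k ∧ i ≠ k ∧ T.g i = 0 ∧ T.g j = 0 ∧ T.g k = 0 ∧
      ((T.m i = m ∧ T.m j = m ∧ T.m k = m ∧ T.a i i = -2 * w ∧ T.a j j = -2 * w ∧ T.a k k = -2 * w ∧
          T.a i j = w ∧ T.a i k = w ∧ T.a j k = w ∧ T.w i = w ∧ T.w j = w ∧ T.w k = w) ∨
        (T.m i = m ∧ T.m j = 2 * m ∧ T.m k = m ∧ T.a i i = -2 * w ∧ T.a i j = w ∧ T.a i k = 0 ∧ T.a j j = -2 * w ∧
          T.a j k = 3 * w ∧ T.a k k = -6 * w ∧ T.w i = w ∧ T.w j = w ∧ T.w k = 3 * w) ∨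
        (T.m i = m ∧ T.m j = 2 * m ∧ T.m k = 3 * m ∧ T.a i i = -6 * w ∧ T.a i j = 3 * w ∧ T.a i k = 0 ∧ T.a j j = -6 * w ∧
          T.a j k = 3 * w ∧ T.a k k = -2 * w ∧ T.w i = 3 * w ∧ T.w j = 3 * w ∧ T.w k = w) ∨
        (T.m i = 2 * m ∧ T.m j = 2 * m ∧ T.m k = m ∧ T.a i i = -2 * w ∧ T.a i j = 2 * w ∧ T.a i k = 0 ∧ T.a j j = -4 * w ∧
          T.a j k = 4 * w ∧ T.a k k = -8 * w ∧ T.w i = w ∧ T.w j = 2 * w ∧ T.w k = 4 * w) ∨
        (T.m i = m ∧ T.m j = m ∧ T.m k = m ∧ T.a i i = -2 * w ∧ T.a i j = 2 * w ∧ T.a i k = 0 ∧ T.a j j = -4 * w ∧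
          T.a j k = 2 * w ∧ T.a k k = -2 * w ∧ T.w i = w ∧ T.w j = 2 * w ∧ T.w k = w) ∨
        (T.m i = m ∧ T.m j = 2 * m ∧ T.m k = m ∧ T.a i i = -4 * w ∧ T.a i j = 2 * w ∧ T.a i k = 0 ∧ T.a j j = -2 * w ∧
          T.a j k = 2 * w ∧ T.a k k = -4 * w ∧ T.w i = 2 * w ∧ T.w j = w ∧ T.w k = 2 * w)) := by
  have hm2 := fun i => Groth.Agent.Lib.ModelsH5.genus_one_minusTwo T hmin (by norm_num) hg i
  have hm_0 := T.m_pos 0
  have hw_0 := T.w_pos 0
  have D_0 : T.a 0 0 = -2 * T.w 0 := (hm2 0).2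
  have hm_1 := T.m_pos 1
  have hw_1 := T.w_pos 1
  have D_1 : T.a 1 1 = -2 * T.w 1 := (hm2 1).2
  have hm_2 := T.m_pos 2
  have hw_2 := T.w_pos 2
  have D_2 : T.a 2 2 = -2 * T.w 2 := (hm2 2).2
  obtain ⟨P01, hP01⟩ := T.w_dvd 0 1
  obtain ⟨P02, hP02⟩ := T.w_dvd 0 2
  obtain ⟨P10, hP10⟩ := T.w_dvd 1 0
  obtain ⟨P12, hP12⟩ := T.w_dvd 1 2
  obtain ⟨P20, hP20⟩ := T.w_dvd 2 0
  obtain ⟨P21, hP21⟩ := T.w_dvd 2 1
  have E0 : 2 * T.m 0 = P01 * T.m 1 + P02 * T.m 2 := by
    have r := Groth.Agent.Lib.ModelsH5.row_sum T 0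
    rw [Fin.sum_univ_three, D_0, hP01, hP02] at r
    have : T.w 0 * (2 * T.m 0) = T.w 0 * (P01 * T.m 1 + P02 * T.m 2) := by linarith
    exact mul_left_cancel₀ hw_0.ne' this
  have E1 : 2 * T.m 1 = P10 * T.m 0 + P12 * T.m 2 := by
    have r := Groth.Agent.Lib.ModelsH5.row_sum T 1
    rw [Fin.sum_univ_three, D_1, hP10, hP12] at r
    have : T.w 1 * (2 * T.m 1) = T.w 1 * (P10 * T.m 0 + P12 * T.m 2) := by linarith
    exact mul_left_cancel₀ hw_1.ne' this
  have E2 : 2 * T.m 2 = P20 * T.m 0 + P21 * T.m 1 := by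
    have r := Groth.Agent.Lib.ModelsH5.row_sum T 2
    rw [Fin.sum_univ_three, D_2, hP20, hP21] at r
    have : T.w 2 * (2 * T.m 2) = T.w 2 * (P20 * T.m 0 + P21 * T.m 1) := by linarith
    exact mul_left_cancel₀ hw_2.ne' this
  have S01 : T.w 0 * P01 = T.w 1 * P10 := by rw [← hP01, ← hP10]; exact (T.symm.apply 1 0)
  have C01 := Groth.Agent.Lib.ModelsH5.pair_class T (by norm_num) 0 1 (by decide) (hm2 0) (hm2 1) P01 P10 hP01 hP10
  have S02 : T.w 0 * P02 = T.w 2 * P20 := by rw [← hP02, ← hP20]; exact (T.symm.apply 2 0)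
  have C02 := Groth.Agent.Lib.ModelsH5.pair_class T (by norm_num) 0 2 (by decide) (hm2 0) (hm2 2) P02 P20 hP02 hP20
  have S12 : T.w 1 * P12 = T.w 2 * P21 := by rw [← hP12, ← hP21]; exact (T.symm.apply 2 1)
  have C12 := Groth.Agent.Lib.ModelsH5.pair_class T (by norm_num) 1 2 (by decide) (hm2 1) (hm2 2) P12 P21 hP12 hP21
  rcases C01 with ⟨rfl, rfl⟩ | ⟨rfl, rfl⟩ | ⟨rfl, rfl⟩ | ⟨rfl, rfl⟩ | ⟨rfl, rfl⟩ | ⟨rfl, rfl⟩ <;> rcases C02 with ⟨rfl, rfl⟩ | ⟨rfl, rfl⟩ | ⟨rfl, rfl⟩ | ⟨rfl, rfl⟩ | ⟨rfl, rfl⟩ | ⟨rfl, rfl⟩ <;> rcases C12 with ⟨rfl, rfl⟩ | ⟨rfl, rfl⟩ | ⟨rfl, rfl⟩ | ⟨rfl, rfl⟩ | ⟨rfl, rfl⟩ | ⟨rfl, rfl⟩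
  · omega
  · omega
  · omega
  · omega
  · omega
  · omega
  · omega
  · omega
  · omega
  · omega
  · exact ⟨0, 2, 1, T.m 0, T.w 1, by decide, by decide, by decide, (hm2 0).1, (hm2 2).1, (hm2 1).1, Or.inr (Or.inr (Or.inl ⟨by omega, by omega, by omega, by omega, by omega, by omega, by omega, by omega, by omega, by omega, by omega, by omega⟩))⟩
  · exact ⟨0, 2, 1, T.m 0, T.w 0, by decide, by decide, by decide, (hm2 0).1, (hm2 2).1, (hm2 1).1, Or.inr (Or.inl ⟨by omega, by omega, by omega, by omega, by omega, by omega, by omega, by omega, by omega, by omega, by omega, by omega⟩)⟩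
  · omega
  · omega
  · exact ⟨0, 2, 1, T.m 0, T.w 0, by decide, by decide, by decide, (hm2 0).1, (hm2 2).1, (hm2 1).1, Or.inr (Or.inr (Or.inr (Or.inr (Or.inl ⟨by omega, by omega, by omega, by omega, by omega, by omega, by omega, by omega, by omega, by omega, by omega, by omega⟩))))⟩
  · exact ⟨0, 2, 1, T.m 1, T.w 0, by decide, by decide, by decide, (hm2 0).1, (hm2 2).1, (hm2 1).1, Or.inr (Or.inr (Or.inr (Or.inl ⟨by omega, by omega, by omega, by omega, by omega, by omega, by omega, by omega, by omega, by omega, by omega, by omega⟩)))⟩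
  · omega
  · omega
  · omega
  · omega
  · exact ⟨1, 2, 0, T.m 0, T.w 1, by decide, by decide, by decide, (hm2 1).1, (hm2 2).1, (hm2 0).1, Or.inr (Or.inr (Or.inr (Or.inl ⟨by omega, by omega, by omega, by omega, by omega, by omega, by omega, by omega, by omega, by omega, by omega, by omega⟩)))⟩
  · exact ⟨0, 2, 1, T.m 0, T.w 2, by decide, by decide, by decide, (hm2 0).1, (hm2 2).1, (hm2 1).1, Or.inr (Or.inr (Or.inr (Or.inr (Or.inr (⟨by omega, by omega, by omega, by omega, by omega, by omega, by omega, by omega, by omega, by omega, by omega, by omega⟩)))))⟩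
  · omega
  · omega
  · omega
  · exact ⟨1, 2, 0, T.m 1, T.w 0, by decide, by decide, by decide, (hm2 1).1, (hm2 2).1, (hm2 0).1, Or.inr (Or.inr (Or.inl ⟨by omega, by omega, by omega, by omega, by omega, by omega, by omega, by omega, by omega, by omega, by omega, by omega⟩))⟩
  · omega
  · omega
  · omega
  · omega
  · omega
  · exact ⟨1, 2, 0, T.m 1, T.w 1, by decide, by decide, by decide, (hm2 1).1, (hm2 2).1, (hm2 0).1, Or.inr (Or.inl ⟨by omega, by omega, by omega, by omega, by omega, by omega, by omega, by omega, by omega, by omega, by omega, by omega⟩)⟩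
  · omega
  · omega
  · omega
  · omega
  · omega
  · omega
  · omega
  · omega
  · exact ⟨0, 1, 2, T.m 0, T.w 0, by decide, by decide, by decide, (hm2 0).1, (hm2 1).1, (hm2 2).1, Or.inr (Or.inl ⟨by omega, by omega, by omega, by omega, by omega, by omega, by omega, by omega, by omega, by omega, by omega, by omega⟩)⟩
  · exact ⟨0, 1, 2, T.m 0, T.w 2, by decide, by decide, by decide, (hm2 0).1, (hm2 1).1, (hm2 2).1, Or.inr (Or.inr (Or.inl ⟨by omega, by omega, by omega, by omega, by omega, by omega, by omega, by omega, by omega, by omega, by omega, by omega⟩))⟩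
  · omega
  · exact ⟨0, 1, 2, T.m 0, T.w 0, by decide, by decide, by decide, (hm2 0).1, (hm2 1).1, (hm2 2).1, Or.inl ⟨by omega, by omega, by omega, by omega, by omega, by omega, by omega, by omega, by omega, by omega, by omega, by omega⟩⟩
  · omega
  · omega
  · omega
  · omega
  · omega
  · omega
  · omega
  · omega
  · omega
  · omega
  · omega
  · omega
  · omega
  · omega
  · omega
  · omega
  · exact ⟨1, 0, 2, T.m 1, T.w 1, by decide, by decide, by decide, (hm2 1).1, (hm2 0).1, (hm2 2).1, Or.inr (Or.inl ⟨by omega, by omega, by omega, by omega, by omega, by omega, by omega, by omega, by omega, by omega, by omega, by omega⟩)⟩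
  · omega
  · omega
  · omega
  · omega
  · omega
  · exact ⟨1, 0, 2, T.m 1, T.w 2, by decide, by decide, by decide, (hm2 1).1, (hm2 0).1, (hm2 2).1, Or.inr (Or.inr (Or.inl ⟨by omega, by omega, by omega, by omega, by omega, by omega, by omega, by omega, by omega, by omega, by omega, by omega⟩))⟩
  · omega
  · omega
  · omega
  · omega
  · omega
  · omega
  · omega
  · exact ⟨0, 1, 2, T.m 2, T.w 0, by decide, by decide, by decide, (hm2 0).1, (hm2 1).1, (hm2 2).1, Or.inr (Or.inr (Or.inr (Or.inl ⟨by omega, by omega, by omega, by omega, by omega, by omega, by omega, by omega, by omega, by omega, by omega, by omega⟩)))⟩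
  · exact ⟨0, 1, 2, T.m 0, T.w 0, by decide, by decide, by decide, (hm2 0).1, (hm2 1).1, (hm2 2).1, Or.inr (Or.inr (Or.inr (Or.inr (Or.inl ⟨by omega, by omega, by omega, by omega, by omega, by omega, by omega, by omega, by omega, by omega, by omega, by omega⟩))))⟩
  · omega
  · omega
  · omega
  · omega
  · omega
  · omega
  · omega
  · omega
  · exact ⟨1, 0, 2, T.m 1, T.w 0, by decide, by decide, by decide, (hm2 1).1, (hm2 0).1, (hm2 2).1, Or.inr (Or.inr (Or.inr (Or.inr (Or.inr (⟨by omega, by omega, by omega, by omega, by omega, by omega, by omega, by omega, by omega, by omega, by omega, by omega⟩)))))⟩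
  · omega
  · omega
  · omega
  · omega
  · omega
  · exact ⟨2, 0, 1, T.m 1, T.w 2, by decide, by decide, by decide, (hm2 2).1, (hm2 0).1, (hm2 1).1, Or.inr (Or.inr (Or.inr (Or.inl ⟨by omega, by omega, by omega, by omega, by omega, by omega, by omega, by omega, by omega, by omega, by omega, by omega⟩)))⟩
  · omega
  · omega
  · omega
  · omega
  · omega
  · omega
  · omega
  · omega
  · omega
  · omega
  · omega
  · omega
  · omega
  · omega
  · omega
  · omega
  · omega
  · omega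
  · omega
  · exact ⟨0, 1, 2, T.m 0, T.w 1, by decide, by decide, by decide, (hm2 0).1, (hm2 1).1, (hm2 2).1, Or.inr (Or.inr (Or.inr (Or.inr (Or.inr (⟨by omega, by omega, by omega, by omega, by omega, by omega, by omega, by omega, by omega, by omega, by omega, by omega⟩)))))⟩
  · exact ⟨2, 1, 0, T.m 0, T.w 2, by decide, by decide, by decide, (hm2 2).1, (hm2 1).1, (hm2 0).1, Or.inr (Or.inr (Or.inr (Or.inl ⟨by omega, by omega, by omega, by omega, by omega, by omega, by omega, by omega, by omega, by omega, by omega, by omega⟩)))⟩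
  · omega
  · omega
  · omega
  · omega
  · omega
  · omega
  · omega
  · omega
  · exact ⟨1, 0, 2, T.m 2, T.w 1, by decide, by decide, by decide, (hm2 1).1, (hm2 0).1, (hm2 2).1, Or.inr (Or.inr (Or.inr (Or.inl ⟨by omega, by omega, by omega, by omega, by omega, by omega, by omega, by omega, by omega, by omega, by omega, by omega⟩)))⟩
  · omega
  · omega
  · omega
  · omega
  · omega
  · exact ⟨1, 0, 2, T.m 1, T.w 1, by decide, by decide, by decide, (hm2 1).1, (hm2 0).1, (hm2 2).1, Or.inr (Or.inr (Or.inr (Or.inr (Or.inl ⟨by omega, by omega, by omega, by omega, by omega, by omega, by omega, by omega, by omega, by omega, by omega, by omega⟩))))⟩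
  · omega
  · omega
  · omega
  · omega
  · omega
  · omega
  · omega
  · omega
  · omega
  · omega
  · omega
  · omega
  · omega
  · omega
  · omega
  · omega
  · omega
  · omega
  · exact ⟨2, 1, 0, T.m 2, T.w 0, by decide, by decide, by decide, (hm2 2).1, (hm2 1).1, (hm2 0).1, Or.inr (Or.inr (Or.inl ⟨by omega, by omega, by omega, by omega, by omega, by omega, by omega, by omega, by omega, by omega, by omega, by omega⟩))⟩
  · omega
  · omega
  · omega
  · omega
  · exact ⟨2, 0, 1, T.m 2, T.w 2, by decide, by decide, by decide, (hm2 2).1, (hm2 0).1, (hm2 1).1, Or.inr (Or.inl ⟨by omega, by omega, by omega, by omega, by omega, by omega, by omega, by omega, by omega, by omega, by omega, by omega⟩)⟩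
  · omega
  · omega
  · omega
  · omega
  · omega
  · omega
  · omega
  · omega
  · omega
  · omega
  · omega
  · omega
  · omega
  · omega
  · omega
  · omega
  · omega
  · omega
  · omega
  · omega
  · omega
  · omega
  · omega
  · omega
  · omega
  · omega
  · omega
  · omega
  · omega
  · omega
  · exact ⟨2, 1, 0, T.m 2, T.w 2, by decide, by decide, by decide, (hm2 2).1, (hm2 1).1, (hm2 0).1, Or.inr (Or.inl ⟨by omega, by omega, by omega, by omega, by omega, by omega, by omega, by omega, by omega, by omega, by omega, by omega⟩)⟩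
  · omega
  · omega
  · omega
  · omega
  · exact ⟨2, 0, 1, T.m 2, T.w 1, by decide, by decide, by decide, (hm2 2).1, (hm2 0).1, (hm2 1).1, Or.inr (Or.inr (Or.inl ⟨by omega, by omega, by omega, by omega, by omega, by omega, by omega, by omega, by omega, by omega, by omega, by omega⟩))⟩
  · omega
  · omega
  · omega
  · omega
  · omega
  · omega
  · omega
  · omega
  · omega
  · omega
  · omega
  · omega
  · omega
  · omega
  · omega
  · omega
  · omega
  · omega
  · omega
  · omega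
  · omega
  · omega
  · omega
  · omega
  · omega
  · omega
  · omega
  · omega
  · omega

end Groth.Agent.S7363
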