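import Groth.Statements.S7388
import Mathlib
import Groth.Agent.Lib.CAlgMisc2_helper1
import Groth.Agent.Lib.LineImm7_helper5

set_option autoImplicit false
universe u
open CategoryTheory AlgebraicGeometry
open Mor

namespace Groth.Agent.S7388

/-- Let `X` be a scheme admitting an immersion into `Proj S` for some graded ring `S`. Then any finite
set of points of `X` is contained in an affine open of `X`. -/
theorem result {R A : Type u} [CommRing R] [CommRing A] [Algebra R A]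
    (𝒜 : ℕ → Submodule R A) [GradedAlgebra 𝒜] {X : Scheme.{u}} (ι : X ⟶ Proj 𝒜) [IsImmersion ι]
    (E : Set X) (hE : E.Finite) :
    ∃ U : X.Opens, IsAffineOpen U ∧ E ⊆ U := by
  classical
  obtain ⟨W, hW⟩ : ∃ W : Set (ProjectiveSpectrum 𝒜), W = (ι.coborderRange : Set (Proj 𝒜)) :=
    ⟨_, rfl⟩
  have hWo : IsOpen W := by
    rw [hW]
    exact ι.coborderRange.isOpen
  have hcl : IsClosed (Wᶜ) := hWo.isClosed_compl
  obtain ⟨s, hs⟩ := (ProjectiveSpectrum.isClosed_iff_zeroLocus 𝒜 _).mp hcl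
  -- the homogeneous ideal
  obtain ⟨I₀, hI₀⟩ : ∃ I₀ : HomogeneousIdeal 𝒜, I₀ = (Ideal.span s).homogeneousHull 𝒜 := ⟨_, rfl⟩
  obtain ⟨I, hI⟩ : ∃ I : HomogeneousIdeal 𝒜, I = I₀ ⊓ HomogeneousIdeal.irrelevant 𝒜 := ⟨_, rfl⟩
  have hIirr : I ≤ HomogeneousIdeal.irrelevant 𝒜 := hI ▸ inf_le_right
  have hII₀ : I ≤ I₀ := hI ▸ inf_le_left
  -- a point of `W` does not contain `I`
  have hmemW : ∀ z : ProjectiveSpectrum 𝒜, z ∈ W →
      ¬ I.toIdeal ≤ z.asHomogeneousIdeal.toIdeal := by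
    intro z hz hle
    have h1 : I₀.toIdeal ⊓ (HomogeneousIdeal.irrelevant 𝒜).toIdeal ≤
        z.asHomogeneousIdeal.toIdeal := by
      rw [hI] at hle
      exact hle
    rcases (z.isPrime.inf_le).mp h1 with h2 | h2
    · have h3 : z ∈ ProjectiveSpectrum.zeroLocus 𝒜 s := by
        rw [ProjectiveSpectrum.mem_zeroLocus]
        intro a ha
        have : a ∈ I₀.toIdeal := by
          rw [hI₀]
          exact Ideal.le_toIdeal_homogeneousHull _ _ (Ideal.subset_span ha)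
        exact h2 this
      rw [← hs] at h3
      exact h3 hz
    · exact z.not_irrelevant_le h2
  -- the finite set of primes
  obtain ⟨T, hT⟩ : ∃ T : Finset (Ideal A), T = hE.toFinset.image
      (fun e : X => ((ι e : ProjectiveSpectrum 𝒜)).asHomogeneousIdeal.toIdeal) := ⟨_, rfl⟩
  have hTmem : ∀ P ∈ T, ∃ e ∈ E, P = ((ι e : ProjectiveSpectrum 𝒜)).asHomogeneousIdeal.toIdeal := by
    intro P hP
    rw [hT] at hP
    obtain ⟨e, he, rfl⟩ := Finset.mem_image.mp hP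
    exact ⟨e, hE.mem_toFinset.mp he, rfl⟩
  have hιW : ∀ e : X, (ι e : ProjectiveSpectrum 𝒜) ∈ W := by
    intro e
    rw [hW]
    exact subset_coborder ⟨e, rfl⟩
  obtain ⟨f, d, hd, hfd, hfI, hfT⟩ := Groth.Agent.Lib.CAlgMisc2H1.graded_avoidance_finset 𝒜 I hIirr
    T.card T rfl
    (fun P hP => by
      obtain ⟨e, -, rfl⟩ := hTmem P hP
      exact ⟨(ι e : ProjectiveSpectrum 𝒜).isPrime,
        (ι e : ProjectiveSpectrum 𝒜).asHomogeneousIdeal.isHomogeneous⟩)
    (fun P hP => by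
      obtain ⟨e, -, rfl⟩ := hTmem P hP
      exact hmemW _ (hιW e))
  -- the affine open
  have hDW : Proj.basicOpen 𝒜 f ≤ ι.coborderRange := by
    intro y hy
    by_contra hyW
    have hyW' : (y : ProjectiveSpectrum 𝒜) ∈ Wᶜ := by
      rw [hW]
      exact hyW
    have h3' : (y : ProjectiveSpectrum 𝒜) ∈ ProjectiveSpectrum.zeroLocus 𝒜 s := by
      rw [← hs]
      exact hyW'
    have h3 := (ProjectiveSpectrum.mem_zeroLocus (𝒜 := 𝒜) (y : ProjectiveSpectrum 𝒜) s).mp h3'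
    have h4 : I₀.toIdeal ≤ (y : ProjectiveSpectrum 𝒜).asHomogeneousIdeal.toIdeal := by
      have : I₀ ≤ (y : ProjectiveSpectrum 𝒜).asHomogeneousIdeal := by
        rw [hI₀]
        exact (Ideal.homogeneousHull.gc 𝒜 _ _).mpr (Ideal.span_le.mpr h3)
      exact this
    exact (Proj.mem_basicOpen 𝒜 f y).mp hy (h4 (hII₀ hfI))
  refine ⟨ι ⁻¹ᵁ Proj.basicOpen 𝒜 f,
    (Groth.Agent.LineImm.of_isImmersion ι _ (Proj.isAffineOpen_basicOpen 𝒜 f hfd hd) hDW).1, ?_⟩
  intro e he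
  show ι e ∈ Proj.basicOpen 𝒜 f
  rw [Proj.mem_basicOpen]
  refine hfT _ ?_
  rw [hT]
  exact Finset.mem_image.mpr ⟨e, hE.mem_toFinset.mpr he, rfl⟩

end Groth.Agent.S7388
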