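import Groth.Statements.S7389
import Mathlib
import Groth.Agent.Lib.QFinAffine_helper9

set_option autoImplicit false
universe u
open CategoryTheory AlgebraicGeometry
open Mor

namespace Groth.Agent.S7389

/-- Let `X` be a scheme admitting an immersion into an affine scheme. Then any finite set of points of
`X` is contained in an affine open of `X`. -/
theorem result {X Y : Scheme.{u}} [IsAffine Y] (ι : X ⟶ Y)
    [IsImmersion ι] (E : Set X) (hE : E.Finite) :
    ∃ U : X.Opens, IsAffineOpen U ∧ E ⊆ U := by
  classical
  have : IsSeparated ι := inferInstance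
  have : LocallyQuasiFinite ι := inferInstance
  have : LocallyOfFiniteType ι := inferInstance
  obtain ⟨U, hU, hUT⟩ := Groth.Agent.Lib.QFinAffine.exists_affineOpen_of_finset ι hE.toFinset
  exact ⟨U, hU, fun x hx => hUT x (hE.mem_toFinset.mpr hx)⟩

end Groth.Agent.S7389
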