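import Groth.Statements.S7390
import Groth.Agent.Lib.GenLoc_helper8

set_option autoImplicit false
universe u
open CategoryTheory AlgebraicGeometry
open Mor

namespace Groth.Agent.S7390

/-- Let `X` be a scheme such that every point lies in some affine open `X_s`, the locus where a global
section `s` generates an invertible `O_X`-module `L` (both depending on the point). Then the
diagonal of `X` is an affine morphism. -/
theorem result (X : Scheme.{u})
    (h : ∀ x : X, ∃ (L : X.Modules) (s : Coh.structureModule X ⟶ L), PicF.IsInvertible L ∧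
      x ∈ CohB1.genLocus L s ∧ IsAffineOpen (CohB1.genLocus L s)) :
    IsAffineHom (Limits.pullback.diagonal (Limits.terminal.from X)) := by
  -- every affine open has affine inclusion
  have key : ∀ V : X.Opens, IsAffineOpen V → IsAffineHom V.ι := by
    intro V hV
    refine isAffineHom_of_forall_exists_isAffineOpen _ (fun x => ?_)
    obtain ⟨L, s, hL, hx, hU⟩ := h x
    haveI : IsAffineHom (CohB1.genLocus L s).ι := GenLocH8.isAffineHom_genLocus_ι hL s
    refine ⟨CohB1.genLocus L s, hx, hU, ?_⟩
    rw [← V.ι.isAffineOpen_iff_of_isOpenImmersion,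
      Scheme.Hom.image_preimage_eq_opensRange_inf, Scheme.Opens.opensRange_ι]
    have h1 : IsAffineOpen ((CohB1.genLocus L s).ι ⁻¹ᵁ V) := hV.preimage _
    have h2 := h1.image_of_isOpenImmersion (CohB1.genLocus L s).ι
    rw [Scheme.Hom.image_preimage_eq_opensRange_inf, Scheme.Opens.opensRange_ι] at h2
    rw [inf_comm]
    exact h2
  rw [isAffineHom_diagonal_iff]
  intro U _ V₁ _ V₂ _ hV₁ hV₂
  haveI := key V₂ hV₂
  have h1 : IsAffineOpen (V₂.ι ⁻¹ᵁ V₁) := hV₁.preimage _
  have h2 := h1.image_of_isOpenImmersion V₂.ι
  rw [Scheme.Hom.image_preimage_eq_opensRange_inf, Scheme.Opens.opensRange_ι] at h2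
  rw [inf_comm]
  exact h2

end Groth.Agent.S7390
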