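import Groth.Statements.S7394
import Groth.Agent.Lib.BigField2_helper6

set_option autoImplicit false
universe u
open CategoryTheory AlgebraicGeometry
open Lim

namespace Groth.Agent.S7394

/-- Let `S` be a scheme and `T_i → S`, `i ∈ I`, surjective affine morphisms. Then any product of the
`T_i` in the category of schemes over `S` maps surjectively onto `S`. -/
theorem result {S : Scheme.{u}} {I : Type u} (T : I → Over S)
    (hT : ∀ i, IsAffineHom (T i).hom ∧ Surjective (T i).hom) (c : Limits.Fan T) (hc : Limits.IsLimit c) :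
    Surjective c.pt.hom := by
  refine ⟨fun s => ?_⟩
  have ht : ∀ i, ∃ t : (T i).left, (T i).hom t = s := fun i => (hT i).2.surj s
  choose t ht using ht
  let φ : ∀ i, (S.residueField s) →+* ((T i).left.residueField (t i)) := fun i =>
    ((S.residueFieldCongr (ht i)).inv ≫ (T i).hom.residueFieldMap (t i)).hom
  obtain ⟨K, hK, ψ, hρ⟩ := Groth.Agent.Lib.BigField2H6.exists_common_extension
    (fun i => (T i).left.residueField (t i)) φ
  choose ρ hρ using hρ
  let σ : Spec (CommRingCat.of K) ⟶ S :=
    Spec.map (CommRingCat.ofHom ψ) ≫ S.fromSpecResidueField s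
  let b : ∀ i, Spec (CommRingCat.of K) ⟶ (T i).left := fun i =>
    Spec.map (CommRingCat.ofHom (ρ i)) ≫ (T i).left.fromSpecResidueField (t i)
  have hb : ∀ i, b i ≫ (T i).hom = σ := by
    intro i
    have h1 : (T i).left.fromSpecResidueField (t i) ≫ (T i).hom =
        Spec.map (CommRingCat.ofHom (φ i)) ≫ S.fromSpecResidueField s := by
      rw [← Scheme.Hom.SpecMap_residueFieldMap_fromSpecResidueField]
      have h2 : CommRingCat.ofHom (φ i) =
          (S.residueFieldCongr (ht i)).inv ≫ (T i).hom.residueFieldMap (t i) := rfl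
      rw [h2, Spec.map_comp, Category.assoc, Scheme.residueFieldCongr_inv,
        Scheme.residueFieldCongr_fromSpecResidueField]
    have h3 : CommRingCat.ofHom (φ i) ≫ CommRingCat.ofHom (ρ i) = CommRingCat.ofHom ψ := by
      rw [← CommRingCat.ofHom_comp, hρ i]
    simp only [b, σ, Category.assoc, h1]
    rw [← Spec.map_comp_assoc, h3]
  let P : Over S := Over.mk σ
  let l : P ⟶ c.pt := Limits.Fan.IsLimit.lift hc (fun i => Over.homMk (b i) (hb i))
  refine ⟨l.left (IsLocalRing.closedPoint K), ?_⟩
  have hl : l.left ≫ c.pt.hom = σ := Over.w l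
  rw [← Scheme.Hom.comp_apply, hl]
  simp only [σ, Scheme.Hom.comp_apply]
  exact Scheme.fromSpecResidueField_apply _ _

end Groth.Agent.S7394
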