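import Groth.Statements.S7397
import Mathlib

set_option autoImplicit false
universe u
open Mor

namespace Groth.Agent.S7397

/-- Let `A ⊆ B` be a ring extension and `b ∈ B`, `b ∉ A`, with `b^n, b^(n+1) ∈ A` for some `n ≥ 2`. Then
some `b' ∈ B` with `b' ∉ A` has `b'^2 ∈ A` and `b'^3 ∈ A`. -/
theorem result {B : Type u} [CommRing B] (A : Subring B) (b : B) (hb : b ∉ A)
    (n : ℕ) (hn : 2 ≤ n) (h1 : b ^ n ∈ A) (h2 : b ^ (n + 1) ∈ A) :
    ∃ b' : B, b' ∉ A ∧ b' ^ 2 ∈ A ∧ b' ^ 3 ∈ A := by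
  classical
  have hnpos : 0 < n := by omega
  have hbig : ∀ k, n * n ≤ k → b ^ k ∈ A := by
    intro k hk
    have hkr : n * (k / n) + k % n = k := Nat.div_add_mod k n
    have hrn : k % n < n := Nat.mod_lt k hnpos
    have hqn : n ≤ k / n := (Nat.le_div_iff_mul_le hnpos).2 hk
    obtain ⟨d, hd⟩ : ∃ d, k / n = k % n + d := Nat.exists_eq_add_of_le (by omega)
    have hk' : k = n * d + (n + 1) * (k % n) := by
      calc k = n * (k / n) + k % n := hkr.symm
        _ = n * (k % n + d) + k % n := by rw [← hd]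
        _ = n * d + (n + 1) * (k % n) := by ring
    rw [hk', pow_add, pow_mul, pow_mul]
    exact A.mul_mem (A.pow_mem h1 _) (A.pow_mem h2 _)
  have hP1 : (fun k => b ^ k ∉ A) 1 := by simpa using hb
  have h1n : 1 ≤ n * n := by nlinarith
  have hPK := Nat.findGreatest_spec (P := fun k => b ^ k ∉ A) h1n hP1
  have hK1 := Nat.le_findGreatest (P := fun k => b ^ k ∉ A) h1n hP1
  have hgt : ∀ k, Nat.findGreatest (fun k => b ^ k ∉ A) (n * n) < k → b ^ k ∈ A := by
    intro k hk
    by_cases hkn : k ≤ n * n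
    · have := Nat.findGreatest_is_greatest hk hkn
      simpa using this
    · exact hbig k (by omega)
  refine ⟨b ^ Nat.findGreatest (fun k => b ^ k ∉ A) (n * n), hPK, ?_, ?_⟩
  · rw [← pow_mul]; exact hgt _ (by omega)
  · rw [← pow_mul]; exact hgt _ (by omega)

end Groth.Agent.S7397
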