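import Groth.Statements.S7405
import Mathlib
import Groth.Agent.Lib.UnivHomeo3_helper6
-- import your own Groth.Agent.* helpers here

set_option autoImplicit false
universe u
open CategoryTheory AlgebraicGeometry
open Mor

namespace Groth.Agent.S7405

/-- Let `A` be a ring and `B` the colimit of a filtered diagram `j ↦ B_j` of `A`-algebras. Each of the
following properties, when it holds for every `Spec B_j → Spec A`, holds for `Spec B → Spec A`:
being a universal homeomorphism; being a universal homeomorphism with trivial residue field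
extensions; being universally closed; being both universally closed and universally injective. -/
theorem result (A : CommRingCat.{u}) {J : Type u} [SmallCategory J]
    [IsFiltered J] (F : J ⥤ Under A) (c : Limits.Cocone F) (hc : Limits.IsColimit c) :
    ((∀ j, FlatMor.IsUnivHomeo (Spec.map (F.obj j).hom)) → FlatMor.IsUnivHomeo (Spec.map c.pt.hom)) ∧
    ((∀ j, FlatMor.IsUnivHomeo (Spec.map (F.obj j).hom) ∧
        ∀ x : Spec (F.obj j).right, Function.Surjective ((Spec.map (F.obj j).hom).residueFieldMap x)) →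
      FlatMor.IsUnivHomeo (Spec.map c.pt.hom) ∧
        ∀ x : Spec c.pt.right, Function.Surjective ((Spec.map c.pt.hom).residueFieldMap x)) ∧
    ((∀ j, UniversallyClosed (Spec.map (F.obj j).hom)) → UniversallyClosed (Spec.map c.pt.hom)) ∧
    ((∀ j, UniversallyClosed (Spec.map (F.obj j).hom) ∧ UniversallyInjective (Spec.map (F.obj j).hom)) →
      UniversallyClosed (Spec.map c.pt.hom) ∧ UniversallyInjective (Spec.map c.pt.hom)) := by

  -- integrality
  have Hint : (∀ j, UniversallyClosed (Spec.map (F.obj j).hom)) →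
      UniversallyClosed (Spec.map c.pt.hom) := by
    intro h
    rw [Groth.Agent.Lib.UnivHomeo.universallyClosed_SpecMap_iff]
    apply Groth.Agent.Lib.UnivHomeo.colim_isIntegral A F c hc
    intro j
    exact (Groth.Agent.Lib.UnivHomeo.universallyClosed_SpecMap_iff _).mp (h j)
  -- universal injectivity
  have Hinj : (∀ j, UniversallyInjective (Spec.map (F.obj j).hom)) →
      UniversallyInjective (Spec.map c.pt.hom) := by
    intro h
    rw [Groth.Agent.Lib.UnivHomeo.universallyInjective_SpecMap_iff]
    intro K _ ψ₁ ψ₂ h12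
    apply Groth.Agent.Lib.UnivHomeo.colim_uniq A F c hc K _ ψ₁ ψ₂ h12
    intro j
    exact (Groth.Agent.Lib.UnivHomeo.universallyInjective_SpecMap_iff _).mp (h j) K
  -- surjectivity, given integrality
  have Hsurj : (∀ j, UniversallyClosed (Spec.map (F.obj j).hom)) →
      (∀ j, Surjective (Spec.map (F.obj j).hom)) → Surjective (Spec.map c.pt.hom) := by
    intro h1 h2
    have hint := (Groth.Agent.Lib.UnivHomeo.universallyClosed_SpecMap_iff _).mp (Hint h1)
    rw [Groth.Agent.Lib.UnivHomeo.surjective_SpecMap_iff_of_isIntegral _ hint]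
    intro a ha
    obtain ⟨j, hj⟩ := Groth.Agent.Lib.UnivHomeo.colim_ker A F c hc a ha
    have hintj := (Groth.Agent.Lib.UnivHomeo.universallyClosed_SpecMap_iff _).mp (h1 j)
    exact (Groth.Agent.Lib.UnivHomeo.surjective_SpecMap_iff_of_isIntegral _ hintj).mp (h2 j) hj
  have H1 : (∀ j, FlatMor.IsUnivHomeo (Spec.map (F.obj j).hom)) →
      FlatMor.IsUnivHomeo (Spec.map c.pt.hom) := by
    intro h
    have h' := fun j => (Groth.Agent.Lib.UnivHomeo.isUnivHomeo_iff _).mp (h j)
    rw [Groth.Agent.Lib.UnivHomeo.isUnivHomeo_iff]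
    exact ⟨Hint fun j => (h' j).1, Hinj fun j => (h' j).2.1,
      Hsurj (fun j => (h' j).1) (fun j => (h' j).2.2)⟩
  refine ⟨H1, ?_, Hint, fun h => ⟨Hint fun j => (h j).1, Hinj fun j => (h j).2⟩⟩
  intro h
  refine ⟨H1 fun j => (h j).1, ?_⟩
  have h' := fun j => (Groth.Agent.Lib.UnivHomeo.isUnivHomeo_iff _).mp (h j).1
  have huniq := (Groth.Agent.Lib.UnivHomeo.universallyInjective_SpecMap_iff _).mp
    (Hinj fun j => (h' j).2.1)
  refine Groth.Agent.Lib.UnivHomeo.residueFieldMap_surjective_SpecMap_of _ huniq ?_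
  intro K _ χ
  apply Groth.Agent.Lib.UnivHomeo.colim_exists A F c hc K χ
  intro j
  haveI := (h' j).2.2
  obtain ⟨ψ, hψ⟩ := Groth.Agent.Lib.UnivHomeo.exists_ext_of_residueFieldMap_surjective
    (F.obj j).hom (h j).2 K χ
  refine ⟨ψ, hψ, fun ψ' hψ' => ?_⟩
  exact (Groth.Agent.Lib.UnivHomeo.universallyInjective_SpecMap_iff _).mp (h' j).2.1 K ψ' ψ
    (by rw [hψ, hψ'])

end Groth.Agent.S7405
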