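import Groth.Statements.S7406
import Mathlib

set_option autoImplicit false
universe u
open CategoryTheory AlgebraicGeometry
open Desc

open CategoryTheory.Limits
namespace Groth.Agent.S7406

theorem finite_residueField {X Y : Scheme.{u}} (f : X ⟶ Y) [FormallyUnramified f]
    [LocallyOfFiniteType f] (x : X) :
    letI : Algebra (Y.residueField (f x)) (X.residueField x) :=
      (f.residueFieldMap x).hom.toAlgebra
    Module.Finite (Y.residueField (f x)) (X.residueField x) := by
  letI : Algebra (Y.residueField (f x)) (X.residueField x) :=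
      (f.residueFieldMap x).hom.toAlgebra
  haveI : Algebra.IsSeparable (Y.residueField (f x)) (X.residueField x) := inferInstance
  haveI : Algebra.IsAlgebraic (Y.residueField (f x)) (X.residueField x) :=
    Algebra.IsSeparable.isAlgebraic _ _
  haveI : Algebra.EssFiniteType (Y.residueField (f x)) (X.residueField x) := by
    algebraize [(f.stalkMap x).hom]
    have : IsLocalHom (algebraMap (Y.presheaf.stalk (f x)) (X.presheaf.stalk x)) :=
      inferInstanceAs <| IsLocalHom (f.stalkMap x).hom
    suffices h : Algebra.EssFiniteType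
        (IsLocalRing.ResidueField <| Y.presheaf.stalk (f x))
        (IsLocalRing.ResidueField <| X.presheaf.stalk x) by
      convert! h
      refine Algebra.algebra_ext _ _ fun x ↦ ?_
      obtain ⟨x, rfl⟩ := IsLocalRing.residue_surjective x
      rfl
    have : Algebra.EssFiniteType (Y.presheaf.stalk (f x)) (X.presheaf.stalk x) := by
      rw [← RingHom.essFiniteType_algebraMap, RingHom.algebraMap_toAlgebra]
      exact LocallyOfFiniteType.stalkMap f x
    have : Algebra.EssFiniteType (Y.presheaf.stalk (f x))
        (IsLocalRing.ResidueField <| X.presheaf.stalk x) := .comp _ (X.presheaf.stalk x) _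
    exact .of_comp (Y.presheaf.stalk (f x)) _ _
  exact Algebra.finite_of_essFiniteType_of_isAlgebraic

theorem etale_SpecMap_residueFieldMap {X Y : Scheme.{u}} (f : X ⟶ Y) [Etale f] (x : X) :
    Etale (Spec.map (f.residueFieldMap x)) := by
  rw [HasRingHomProperty.Spec_iff (P := @Etale)]
  letI : Algebra (Y.residueField (f x)) (X.residueField x) :=
      (f.residueFieldMap x).hom.toAlgebra
  haveI : Algebra.IsSeparable (Y.residueField (f x)) (X.residueField x) := inferInstance
  haveI : Module.Finite (Y.residueField (f x)) (X.residueField x) := finite_residueField f x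
  haveI : Algebra.FormallyEtale (Y.residueField (f x)) (X.residueField x) :=
    Algebra.FormallyEtale.of_isSeparable _ _
  haveI : Algebra.FinitePresentation (Y.residueField (f x)) (X.residueField x) :=
    Algebra.FinitePresentation.of_finiteType.mp inferInstance
  exact RingHom.etale_algebraMap.mpr {}

/-- Consider a commutative square of schemes with horizontal maps `h' : U' → V'`, `h : U → V` and étale
vertical maps `a : U' → U`, `b : V' → V`, and let `v' ∈ V'` with image `v = b(v')`. Then the induced
morphism of fibres `U'_{v'} → U_v` is étale. (The morphism of fibres is characterised by its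
compatibility with `a` and with `Spec κ(v') → Spec κ(v)`.) -/
theorem result {U U' V V' : Scheme.{u}} (h : U ⟶ V) (h' : U' ⟶ V') (a : U' ⟶ U)
    (b : V' ⟶ V) [Etale a] [Etale b] (comm : h' ≫ b = a ≫ h) (v' : V')
    (φ : h'.fiber v' ⟶ h.fiber (b v')) (hφ1 : φ ≫ h.fiberι (b v') = h'.fiberι v' ≫ a)
    (hφ2 : φ ≫ h.fiberToSpecResidueField (b v') = h'.fiberToSpecResidueField v' ≫ Spec.map (b.residueFieldMap v')) :
    Etale φ := by
  haveI hσ : Etale (Spec.map (b.residueFieldMap v')) := etale_SpecMap_residueFieldMap b v'
  -- notation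
  let j' := V'.fromSpecResidueField v'
  let j := V.fromSpecResidueField (b v')
  let σ := Spec.map (b.residueFieldMap v')
  have hσj : σ ≫ j = j' ≫ b := Scheme.Hom.SpecMap_residueFieldMap_fromSpecResidueField b v'
  let fstP := pullback.fst (h.fiberToSpecResidueField (b v')) σ
  let sndP := pullback.snd (h.fiberToSpecResidueField (b v')) σ
  let pW₁ := pullback.fst h b
  let pW₂ := pullback.snd h b
  let θ : U' ⟶ pullback h b := pullback.lift a h' comm.symm
  have hθ₁ : θ ≫ pW₁ = a := pullback.lift_fst _ _ _
  have hθ₂ : θ ≫ pW₂ = h' := pullback.lift_snd _ _ _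
  haveI : Etale pW₁ := inferInstance
  haveI : Etale (θ ≫ pW₁) := by rw [hθ₁]; infer_instance
  haveI : Etale θ := MorphismProperty.of_postcomp (W := @Etale) (W' := @Etale) θ pW₁
    inferInstance inferInstance
  let ψ : h'.fiber v' ⟶ pullback (h.fiberToSpecResidueField (b v')) σ :=
    pullback.lift φ (h'.fiberToSpecResidueField v') hφ2
  have hψ₁ : ψ ≫ fstP = φ := pullback.lift_fst _ _ _
  have hψ₂ : ψ ≫ sndP = h'.fiberToSpecResidueField v' := pullback.lift_snd _ _ _
  have hcondP : fstP ≫ h.fiberToSpecResidueField (b v') = sndP ≫ σ := pullback.condition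
  have hcondF : h.fiberι (b v') ≫ h = h.fiberToSpecResidueField (b v') ≫ j := pullback.condition
  have hcondF' : h'.fiberι v' ≫ h' = h'.fiberToSpecResidueField v' ≫ j' := pullback.condition
  let ρ : pullback (h.fiberToSpecResidueField (b v')) σ ⟶ pullback h b :=
    pullback.lift (fstP ≫ h.fiberι (b v')) (sndP ≫ j') (by
      rw [Category.assoc, hcondF, ← Category.assoc, hcondP, Category.assoc, hσj, Category.assoc])
  have hρ₁ : ρ ≫ pW₁ = fstP ≫ h.fiberι (b v') := pullback.lift_fst _ _ _
  have hρ₂ : ρ ≫ pW₂ = sndP ≫ j' := pullback.lift_snd _ _ _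
  -- step 3
  have s1 : IsPullback (fstP ≫ h.fiberι (b v')) sndP h (σ ≫ j) :=
    (IsPullback.of_hasPullback (h.fiberToSpecResidueField (b v')) σ).paste_horiz
      (IsPullback.of_hasPullback h j)
  rw [hσj, ← hρ₁] at s1
  have s3 : IsPullback ρ sndP pW₂ j' := IsPullback.of_right s1 hρ₂ (IsPullback.of_hasPullback h b)
  -- step 4
  have s0 : IsPullback (h'.fiberι v') (ψ ≫ sndP) (θ ≫ pW₂) j' := by
    rw [hψ₂, hθ₂]
    exact IsPullback.of_hasPullback h' j'
  have hp : h'.fiberι v' ≫ θ = ψ ≫ ρ := by
    apply pullback.hom_ext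
    · rw [Category.assoc, Category.assoc]
      erw [hθ₁, hρ₁]
      rw [← Category.assoc, hψ₁, hφ1]
    · rw [Category.assoc, Category.assoc]
      erw [hθ₂, hρ₂]
      rw [← Category.assoc, hψ₂, hcondF']
  have s4 : IsPullback (h'.fiberι v') ψ θ ρ := IsPullback.of_bot s0 hp s3
  haveI : Etale ψ := MorphismProperty.of_isPullback (P := @Etale) s4 inferInstance
  haveI : Etale fstP := inferInstance
  rw [← hψ₁]
  infer_instance

end Groth.Agent.S7406
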