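import Groth.Statements.S7407
import Mathlib

set_option autoImplicit false
universe u
open CategoryTheory AlgebraicGeometry
open Desc

namespace Groth.Agent.S7407

/-- The transcendence degree of the residue field extension `κ(x)/κ(s)` of a morphism of germs `(X, x) →
(S, s)` is étale local on the source-and-target: for a commutative square with horizontal maps `h' :
U' → V'`, `h : U → V`, étale vertical maps `a : U' → U`, `b : V' → V` and `u' ∈ U'` with `u =
a(u')`, the transcendence degree of `κ(u)` over `κ(h(u))` equals that of `κ(u')` over `κ(h'(u'))`. -/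
theorem result {U U' V V' : Scheme.{u}} (h : U ⟶ V) (h' : U' ⟶ V') (a : U' ⟶ U)
    (b : V' ⟶ V) [Etale a] [Etale b] (comm : h' ≫ b = a ≫ h) (u' : U') :
    @Algebra.trdeg (V.residueField (h (a u'))) (U.residueField (a u')) _ _ (h.residueFieldMap (a u')).hom.toAlgebra =
      @Algebra.trdeg (V'.residueField (h' u')) (U'.residueField u') _ _ (h'.residueFieldMap u').hom.toAlgebra := by
  have e' : h (a u') = b (h' u') := by
    rw [← Scheme.Hom.comp_apply, ← Scheme.Hom.comp_apply, comm]
  letI alg1 : Algebra (V.residueField (h (a u'))) (U.residueField (a u')) :=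
    (h.residueFieldMap (a u')).hom.toAlgebra
  letI alg2 : Algebra (U.residueField (a u')) (U'.residueField u') :=
    (a.residueFieldMap u').hom.toAlgebra
  letI alg3 : Algebra (V'.residueField (h' u')) (U'.residueField u') :=
    (h'.residueFieldMap u').hom.toAlgebra
  letI alg4 : Algebra (V.residueField (h (a u'))) (U'.residueField u') :=
    ((h.residueFieldMap (a u')) ≫ (a.residueFieldMap u')).hom.toAlgebra
  letI alg6 : Algebra (V.residueField (b (h' u'))) (V'.residueField (h' u')) :=
    (b.residueFieldMap (h' u')).hom.toAlgebra
  letI alg7 : Algebra (V.residueField (h (a u'))) (V.residueField (b (h' u'))) :=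
    (V.residueFieldCongr e').hom.hom.toAlgebra
  letI alg5 : Algebra (V.residueField (h (a u'))) (V'.residueField (h' u')) :=
    ((V.residueFieldCongr e').hom ≫ b.residueFieldMap (h' u')).hom.toAlgebra
  haveI : IsScalarTower (V.residueField (h (a u'))) (U.residueField (a u')) (U'.residueField u') :=
    .of_algebraMap_eq (fun _ => rfl)
  haveI : IsScalarTower (V.residueField (h (a u'))) (V.residueField (b (h' u')))
      (V'.residueField (h' u')) := .of_algebraMap_eq (fun _ => rfl)
  have hcomp : (h.residueFieldMap (a u')) ≫ (a.residueFieldMap u') =
      ((V.residueFieldCongr e').hom ≫ b.residueFieldMap (h' u')) ≫ h'.residueFieldMap u' := by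
    rw [← Scheme.residueFieldMap_comp, Category.assoc, ← Scheme.residueFieldMap_comp,
      Scheme.Hom.residueFieldMap_congr comm.symm u']
    rfl
  haveI : IsScalarTower (V.residueField (h (a u'))) (V'.residueField (h' u'))
      (U'.residueField u') := .of_algebraMap_eq (fun x => by
    show ((h.residueFieldMap (a u')) ≫ (a.residueFieldMap u')).hom x = _
    rw [hcomp]
    rfl)
  haveI s1 : Algebra.IsSeparable (U.residueField (a u')) (U'.residueField u') := inferInstance
  haveI s2 : Algebra.IsSeparable (V.residueField (b (h' u'))) (V'.residueField (h' u')) :=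
    inferInstance
  haveI : Algebra.IsAlgebraic (U.residueField (a u')) (U'.residueField u') :=
    Algebra.IsSeparable.isAlgebraic _ _
  haveI : Algebra.IsAlgebraic (V.residueField (b (h' u'))) (V'.residueField (h' u')) :=
    Algebra.IsSeparable.isAlgebraic _ _
  haveI : Algebra.IsAlgebraic (V.residueField (h (a u'))) (V.residueField (b (h' u'))) := by
    haveI : Algebra.IsIntegral (V.residueField (h (a u'))) (V.residueField (b (h' u'))) :=
      Algebra.isIntegral_of_surjective
        (ConcreteCategory.bijective_of_isIso (V.residueFieldCongr e').hom).2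
    infer_instance
  haveI : Algebra.IsAlgebraic (V.residueField (h (a u'))) (V'.residueField (h' u')) :=
    Algebra.IsAlgebraic.trans (V.residueField (h (a u'))) (V.residueField (b (h' u')))
      (V'.residueField (h' u'))
  have t1 := trdeg_add_eq (V.residueField (h (a u'))) (U.residueField (a u'))
    (A := U'.residueField u')
  have t2 := trdeg_add_eq (V.residueField (h (a u'))) (V'.residueField (h' u'))
    (A := U'.residueField u')
  rw [trdeg_eq_zero (R := U.residueField (a u')), add_zero] at t1
  rw [trdeg_eq_zero (R := V.residueField (h (a u'))) (A := V'.residueField (h' u')),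
    zero_add] at t2
  exact t1.trans t2.symm

end Groth.Agent.S7407
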