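import Groth.Statements.S7412
import Mathlib

set_option autoImplicit false
universe u
open Desc

namespace Groth.Agent.S7412

/-- Let `R` be a ring and `f : M → N` a map of `R`-modules. Then `f` is universally injective (`f ⊗ 1_P`
is injective for every `R`-module `P`; here `P` ranges over modules in the same universe, which
suffices) if and only if the map of character modules `C(N) → C(M)`, `C(-) = Hom_ℤ(-, ℚ/ℤ)`, is a
split surjection of `R`-modules. -/
theorem result {R : Type u} [CommRing R] {M N : Type u}
    [AddCommGroup M] [Module R M] [AddCommGroup N] [Module R N] (f : M →ₗ[R] N) :
    (∀ (P : Type u) [AddCommGroup P] [Module R P], Function.Injective (f.lTensor P)) ↔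
      ∃ g : CharacterModule M →ₗ[R] CharacterModule N, (CharacterModule.dual f).comp g = LinearMap.id := by
  constructor
  · intro H
    have hinj := H (CharacterModule M)
    have hsurj := CharacterModule.dual_surjective_of_injective _ hinj
    obtain ⟨c', hc'⟩ := hsurj (CharacterModule.homEquiv
      (LinearMap.id : CharacterModule M →ₗ[R] CharacterModule M))
    refine ⟨CharacterModule.homEquiv.symm c', ?_⟩
    ext φ m
    have := congrArg (fun c : CharacterModule (TensorProduct R (CharacterModule M) M) => c (TensorProduct.tmul R φ m)) hc'
    exact this
  · rintro ⟨g, hg⟩ P _ _
    rw [← CharacterModule.dual_surjective_iff_injective]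
    intro c
    refine ⟨CharacterModule.homEquiv (g.comp (CharacterModule.homEquiv.symm c)), ?_⟩
    ext z
    induction z using TensorProduct.induction_on with
    | zero => simp
    | tmul p m =>
      have := congrArg (fun k : CharacterModule M →ₗ[R] CharacterModule M =>
        k (CharacterModule.homEquiv.symm c p) m) hg
      exact this
    | add x y hx hy => simp only [map_add, hx, hy]

end Groth.Agent.S7412
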