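import Groth.Statements.S7414
import Mathlib
import Groth.Agent.Lib.GRingTr_helper8

set_option autoImplicit false
universe u
open CategoryTheory AlgebraicGeometry
open Mor

namespace Groth.Agent.S7414

/-- A scheme `X` is a G-scheme (every point has an affine open neighbourhood with G-ring coordinate
ring) if and only if `O_X(U)` is a G-ring for every affine open `U ⊆ X`. -/
theorem result (X : Scheme.{u}) :
    (∀ x : X, ∃ U : X.Opens, x ∈ U ∧ IsAffineOpen U ∧ CAlg.IsGRing Γ(X, U)) ↔
      ∀ U : X.Opens, IsAffineOpen U → CAlg.IsGRing Γ(X, U) := by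
  constructor
  · intro h U hU
    choose V hxV hV hG using h
    haveI : IsLocallyNoetherian X := by
      apply isLocallyNoetherian_of_affine_cover (S := fun x : X => (⟨V x, hV x⟩ : X.affineOpens))
      · apply top_unique
        intro x _
        exact TopologicalSpace.Opens.mem_iSup.mpr ⟨x, hxV x⟩
      · intro x
        exact (hG x).1
    refine ⟨IsLocallyNoetherian.component_noetherian ⟨U, hU⟩, ?_⟩
    intro p hp
    let y : PrimeSpectrum Γ(X, U) := ⟨p, hp⟩
    have hxU : hU.fromSpec y ∈ U := by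
      have := hU.range_fromSpec
      have h2 : hU.fromSpec y ∈ Set.range hU.fromSpec := ⟨y, rfl⟩
      rw [this] at h2
      exact h2
    have loc1 := hU.isLocalization_stalk' y hxU
    have loc2 := (hV (hU.fromSpec y)).isLocalization_stalk ⟨hU.fromSpec y, hxV _⟩
    have hq := (hG (hU.fromSpec y)).2
      ((hV (hU.fromSpec y)).primeIdealOf ⟨hU.fromSpec y, hxV _⟩).asIdeal
    letI alg1 : Algebra Γ(X, U) (X.presheaf.stalk (hU.fromSpec y)) :=
      TopCat.Presheaf.algebra_section_stalk X.presheaf ⟨hU.fromSpec y, hxU⟩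
    haveI : IsLocalization.AtPrime (X.presheaf.stalk (hU.fromSpec y)) p := loc1
    letI alg2 : Algebra Γ(X, V (hU.fromSpec y)) (X.presheaf.stalk (hU.fromSpec y)) :=
      TopCat.Presheaf.algebra_section_stalk X.presheaf ⟨hU.fromSpec y, hxV _⟩
    haveI : IsLocalization.AtPrime (X.presheaf.stalk (hU.fromSpec y))
      ((hV (hU.fromSpec y)).primeIdealOf ⟨hU.fromSpec y, hxV _⟩).asIdeal := loc2
    let e1 : Localization.AtPrime p ≃ₐ[Γ(X, U)] X.presheaf.stalk (hU.fromSpec y) :=
      IsLocalization.algEquiv p.primeCompl _ _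
    let e2 : Localization.AtPrime ((hV (hU.fromSpec y)).primeIdealOf ⟨hU.fromSpec y, hxV _⟩).asIdeal
        ≃ₐ[Γ(X, V (hU.fromSpec y))] X.presheaf.stalk (hU.fromSpec y) :=
      IsLocalization.algEquiv
        ((hV (hU.fromSpec y)).primeIdealOf ⟨hU.fromSpec y, hxV _⟩).asIdeal.primeCompl _ _
    exact GRingTrH8.isRegularHom_completion_of_ringEquiv
      (e2.toRingEquiv.trans e1.symm.toRingEquiv) hq
  · intro h x
    obtain ⟨_, ⟨U, hU, rfl⟩, hxU, -⟩ :=
      X.isBasis_affineOpens.exists_subset_of_mem_open (Set.mem_univ x) isOpen_univ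
    exact ⟨U, hxU, hU, h U hU⟩

end Groth.Agent.S7414
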