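import Groth.Statements.S7415
import Mathlib
-- import your own Groth.Agent.* helpers here

set_option autoImplicit false
universe u
open CategoryTheory AlgebraicGeometry
open Mor

namespace Groth.Agent.S7415


theorem finite_irreducibleComponents_of_isOpenEmbedding {X Y : Type*} [TopologicalSpace X]
    [TopologicalSpace Y] {f : Y → X} (hf : Topology.IsOpenEmbedding f)
    (h : (irreducibleComponents X).Finite) : (irreducibleComponents Y).Finite := by
  refine (h.image (fun Z => f ⁻¹' Z)).subset ?_
  intro T hT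
  have h1 : IsIrreducible (closure (f '' T)) :=
    (hT.1.image f hf.continuous.continuousOn).closure
  obtain ⟨Z, hZ, hTZ⟩ := exists_mem_irreducibleComponents_subset_of_isIrreducible _ h1
  have hne : (Z ∩ Set.range f).Nonempty := by
    obtain ⟨t, ht⟩ := hT.1.1
    exact ⟨f t, hTZ (subset_closure ⟨t, ht, rfl⟩), ⟨t, rfl⟩⟩
  have h2 := preimage_mem_irreducibleComponents hZ hf hne
  have h3 : T ⊆ f ⁻¹' Z := fun t ht => hTZ (subset_closure ⟨t, ht, rfl⟩)
  exact ⟨Z, hZ, Set.Subset.antisymm (hT.2 h2.1 h3) h3⟩

theorem ring_aux (R : Type*) [CommRing R] [_root_.IsReduced R] (hfin : (minimalPrimes R).Finite)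
    (I : Ideal R) [I.IsPrime] :
    ∃ f : R, f ∉ I ∧ ∀ (x y : R), y * x = 0 → y ∉ I → ∃ n, f ^ n * x = 0 := by
  classical
  have : ∀ q : minimalPrimes R, ∃ g : R, g ∉ I ∧ (¬ (q : Ideal R) ≤ I → g ∈ (q : Ideal R)) := by
    intro q
    by_cases h : (q : Ideal R) ≤ I
    · exact ⟨1, (Ideal.ne_top_iff_one I).mp Ideal.IsPrime.ne_top', fun h' => absurd h h'⟩
    · obtain ⟨g, hgq, hgI⟩ := Set.not_subset.mp h
      exact ⟨g, hgI, fun _ => hgq⟩
  choose g hgI hgq using this
  haveI := hfin.to_subtype
  letI := Fintype.ofFinite (minimalPrimes R)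
  refine ⟨∏ q, g q, ?_, ?_⟩
  · intro hmem
    obtain ⟨q, _, hq⟩ := (Ideal.IsPrime.prod_mem_iff).mp hmem
    exact hgI q hq
  · intro x y hyx hy
    refine ⟨1, ?_⟩
    rw [pow_one]
    have hmem : (∏ q, g q) * x ∈ sInf (minimalPrimes R) := by
      rw [Ideal.mem_sInf]
      intro q hq
      haveI : q.IsPrime := hq.1.1
      by_cases h : q ≤ I
      · have : y * x ∈ q := hyx ▸ q.zero_mem
        rcases Ideal.IsPrime.mem_or_mem ‹_› this with h1 | h1
        · exact absurd (h h1) hy
        · exact q.mul_mem_left _ h1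
      · refine q.mul_mem_right _ ?_
        exact Ideal.mem_of_dvd _ (Finset.dvd_prod_of_mem _ (Finset.mem_univ ⟨q, hq⟩))
          (hgq ⟨q, hq⟩ h)
    have h0 : sInf (minimalPrimes R) = ⊥ := by
      show sInf (⊥ : Ideal R).minimalPrimes = ⊥
      rw [Ideal.sInf_minimalPrimes]
      exact nilradical_eq_zero R
    rw [h0] at hmem
    exact hmem


/-- Let `X` be a reduced scheme with finitely many irreducible components and `x ∈ X`. Then `x` has an
affine open neighbourhood `U` such that `O_X(U) → O_{X,x}` is injective. -/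
theorem result (X : Scheme.{u}) [AlgebraicGeometry.IsReduced X]
    (hirr : (irreducibleComponents (X : Type u)).Finite) (x : X) : X.IsGermInjectiveAt x := by
  obtain ⟨R, f, hf, y, hy⟩ : ∃ (R : CommRingCat.{u}) (f : Spec R ⟶ X), IsOpenImmersion f ∧
      x ∈ Set.range f.base :=
    ⟨_, X.affineOpenCover.f (X.affineOpenCover.idx x), inferInstance,
      X.affineOpenCover.covers x⟩
  haveI : IsReduced (Spec R) := isReduced_of_isOpenImmersion f
  haveI : _root_.IsReduced R := by
    have := (inferInstance : _root_.IsReduced Γ(Spec R, ⊤))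
    exact isReduced_of_injective (Scheme.ΓSpecIso R).inv.hom
      ((ConcreteCategory.bijective_of_isIso (Scheme.ΓSpecIso R).inv).1)
  have hfinSpec : (irreducibleComponents (PrimeSpectrum R)).Finite :=
    finite_irreducibleComponents_of_isOpenEmbedding f.isOpenEmbedding hirr
  have hfin : (minimalPrimes R).Finite := by
    have e := minimalPrimes.equivIrreducibleComponents R
    haveI := hfinSpec.to_subtype
    haveI : Finite (minimalPrimes R) := Finite.of_equiv _ e.symm.toEquiv
    exact Set.toFinite _
  haveI : (Spec R).IsGermInjective :=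
    Scheme.IsGermInjective.Spec fun I hI => ring_aux R hfin I
  rw [← hy]
  infer_instance


end Groth.Agent.S7415
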