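import Groth.Statements.S7416

-- import your own Groth.Agent.* helpers here

set_option autoImplicit false
universe u
open CategoryTheory AlgebraicGeometry
open Mor

namespace Groth.Agent.S7416

/-- Let `U`, `V` be affine schemes and `W → U`, `W → V` open immersions. Then every `w ∈ W` has an open
neighbourhood `W' ⊆ W` whose images in `U` and in `V` are standard opens `D(f) ⊆ U`, `D(g) ⊆ V` (in
particular `W'` is affine). -/
theorem result {U V W : Scheme.{u}} [IsAffine U]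
    [IsAffine V] (i : W ⟶ U) (j : W ⟶ V) [IsOpenImmersion i] [IsOpenImmersion j] (w : W) :
    ∃ (W' : W.Opens) (f : Γ(U, ⊤)) (g : Γ(V, ⊤)), w ∈ W' ∧ i ''ᵁ W' = U.basicOpen f ∧ j ''ᵁ W' = V.basicOpen g := by
  classical
  -- step 1: f₀
  obtain ⟨f₀, hf₀le, hf₀mem⟩ := (isAffineOpen_top U).exists_basicOpen_le
    (V := i.opensRange) ⟨i.base w, ⟨w, rfl⟩⟩ (Set.mem_univ _)
  have hW₁ : i ''ᵁ (i ⁻¹ᵁ U.basicOpen f₀) = U.basicOpen f₀ := by
    rw [i.image_preimage_eq_opensRange_inf]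
    exact inf_eq_right.mpr hf₀le
  have hwW₁ : w ∈ i ⁻¹ᵁ U.basicOpen f₀ := hf₀mem
  -- step 2: g₀
  obtain ⟨g₀, hg₀le, hg₀mem⟩ := (isAffineOpen_top V).exists_basicOpen_le
    (V := j ''ᵁ (i ⁻¹ᵁ U.basicOpen f₀)) ⟨j.base w, ⟨w, hwW₁, rfl⟩⟩ (Set.mem_univ _)
  have hW'le : j ⁻¹ᵁ V.basicOpen g₀ ≤ i ⁻¹ᵁ U.basicOpen f₀ := by
    intro x hx
    obtain ⟨y, hy, hyx⟩ := hg₀le hx
    have : y = x := j.isOpenEmbedding.injective hyx
    exact this ▸ hy
  have hjW' : j ''ᵁ (j ⁻¹ᵁ V.basicOpen g₀) = V.basicOpen g₀ := by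
    rw [j.image_preimage_eq_opensRange_inf]
    refine inf_eq_right.mpr (hg₀le.trans ?_)
    rintro _ ⟨y, _, rfl⟩
    exact ⟨y, rfl⟩
  -- step 3: W' as a basic open of W₁
  have hle : i ⁻¹ᵁ U.basicOpen f₀ ≤ j ⁻¹ᵁ (⊤ : V.Opens) := fun _ _ => trivial
  have hW' : j ⁻¹ᵁ V.basicOpen g₀ =
      W.basicOpen (W.presheaf.map (homOfLE hle).op (j.app ⊤ g₀)) := by
    rw [Scheme.basicOpen_res, ← Scheme.preimage_basicOpen]
    exact (inf_eq_right.mpr hW'le).symm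
  -- step 4: image under i
  have himg := Scheme.image_basicOpen i
    (W.presheaf.map (homOfLE hle).op (j.app ⊤ g₀))
  rw [← hW'] at himg
  obtain ⟨f', hf'⟩ := (isAffineOpen_top U).basicOpen_basicOpen_is_basicOpen f₀
    (U.presheaf.map (eqToHom hW₁.symm).op ((i.appIso (i ⁻¹ᵁ U.basicOpen f₀)).inv
      (W.presheaf.map (homOfLE hle).op (j.app ⊤ g₀))))
  rw [Scheme.basicOpen_res_eq] at hf'
  exact ⟨j ⁻¹ᵁ V.basicOpen g₀, f', g₀, hg₀mem, himg.trans hf'.symm, hjW'⟩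


end Groth.Agent.S7416
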