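import Groth.Statements.S7419
import Groth.Agent.Lib.SeminormalSch_helper6
-- import your own Groth.Agent.* helpers here

set_option autoImplicit false
universe u
open CategoryTheory AlgebraicGeometry
open HTop

namespace Groth.Agent.S7419

open Groth.Agent.Lib.Seminormal

/-- Being absolutely weakly normal is a local property of rings: it passes to the localizations `A_f`,
and if `f_1, …, f_n` generate the unit ideal of `A` and each `A_{f_i}` is absolutely weakly normal
then so is `A`. -/
theorem result :
    (∀ (A : Type u) [CommRing A] (f : A), HTop.IsAWNRing A → HTop.IsAWNRing (Localization.Away f)) ∧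
    ∀ (A : Type u) [CommRing A] (s : Finset A), Ideal.span (s : Set A) = ⊤ →
      (∀ f ∈ s, HTop.IsAWNRing (Localization.Away f)) → HTop.IsAWNRing A := by
  refine ⟨fun A _ f h => isAWNRing_away f h, fun A _ s hs h => ?_⟩
  exact of_span_of_glue s hs (fun B _ => HTop.IsAWNRing B)
    (fun B C _ _ e hB => isAWNRing_of_ringEquiv e hB)
    (fun Y hY U => isAWNRing_of_isAWN hY U) h

end Groth.Agent.S7419
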