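import Groth.Statements.S7420
import Groth.Agent.Lib.SeminormalSch_helper6
-- import your own Groth.Agent.* helpers here

set_option autoImplicit false
universe u
open CategoryTheory AlgebraicGeometry
open HTop

namespace Groth.Agent.S7420

open Groth.Agent.Lib.Seminormal

/-- A scheme `X` is seminormal if and only if `O_X(U)` is seminormal for every affine open `U ⊆ X`; the
same holds with 'seminormal' replaced by 'absolutely weakly normal'. -/
theorem result (X : Scheme.{u}) :
    (HTop.IsSeminormal X ↔ ∀ U : X.affineOpens, HTop.IsSeminormalRing Γ(X, U)) ∧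
    (HTop.IsAWN X ↔ ∀ U : X.affineOpens, HTop.IsAWNRing Γ(X, U)) := by
  refine ⟨⟨fun hX U => isSeminormalRing_of_isSeminormal hX U, fun h x => ?_⟩,
    ⟨fun hX U => isAWNRing_of_isAWN hX U, fun h x => ?_⟩⟩
  · obtain ⟨U, hU, hxU, -⟩ := TopologicalSpace.Opens.isBasis_iff_nbhd.mp X.isBasis_affineOpens
      (TopologicalSpace.Opens.mem_top x)
    exact ⟨⟨U, hU⟩, hxU, h ⟨U, hU⟩⟩
  · obtain ⟨U, hU, hxU, -⟩ := TopologicalSpace.Opens.isBasis_iff_nbhd.mp X.isBasis_affineOpens
      (TopologicalSpace.Opens.mem_top x)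
    exact ⟨⟨U, hU⟩, hxU, h ⟨U, hU⟩⟩

end Groth.Agent.S7420
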