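import Groth.Statements.S7425
import Mathlib
import Groth.Agent.Lib.UnivHomeo29_helper6
-- import your own Groth.Agent.* helpers here

set_option autoImplicit false
universe u
open CategoryTheory AlgebraicGeometry
open HTop

namespace Groth.Agent.S7425

/-- Let `ν : X^awn → X` be an absolute weak normalization and `π : Y → X` a universal homeomorphism.
Then `Y` is absolutely weakly normal exactly when the induced morphism `h : X^awn → Y` over `X` is
an isomorphism. -/
theorem result {X X' Y : Scheme.{u}} (ν : X' ⟶ X)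
    (hν : HTop.IsAWNormalization ν) (π : Y ⟶ X) (hπ : FlatMor.IsUnivHomeo π) (h : X' ⟶ Y) (hh : h ≫ π = ν) :
    IsIso h ↔ HTop.IsAWN Y := by

  constructor
  · intro hiso
    have hX' := Groth.Agent.Lib.UnivHomeo.isAWN_of_isAWNormalization ν hν
    exact Groth.Agent.Lib.UnivHomeo.isAWN_of_iso (asIso h).symm hX'
  · intro hY
    obtain ⟨k, hk, hku⟩ := Groth.Agent.Lib.UnivHomeo.existsUnique_lift_of_isAWN hY ν hν.1 π
    obtain ⟨i, -, hi⟩ := hν.2 X' ν hν.1
    obtain ⟨j, -, hj⟩ := Groth.Agent.Lib.UnivHomeo.existsUnique_lift_of_isAWN hY π hπ π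
    have h1 : h ≫ k = 𝟙 X' :=
      (hi (h ≫ k) (by show (h ≫ k) ≫ ν = ν; rw [Category.assoc, hk, hh])).trans
        (hi (𝟙 X') (Category.id_comp ν)).symm
    have h2 : k ≫ h = 𝟙 Y :=
      (hj (k ≫ h) (by show (k ≫ h) ≫ π = π; rw [Category.assoc, hh, hk])).trans
        (hj (𝟙 Y) (Category.id_comp π)).symm
    exact ⟨k, h1, h2⟩

end Groth.Agent.S7425
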