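import Groth.Statements.S7426
import Mathlib
import Groth.Agent.Lib.UnivHomeo29_helper6
-- import your own Groth.Agent.* helpers here

set_option autoImplicit false
universe u
open CategoryTheory AlgebraicGeometry
open HTop

namespace Groth.Agent.S7426

/-- For a scheme `X` the following are equivalent: `X` is absolutely weakly normal; `X^awn → X` is an
isomorphism (equivalently, the identity of `X` is an absolute weak normalization); every universal
homeomorphism `Y → X` with `Y` reduced is an isomorphism. -/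
theorem result (X : Scheme.{u}) :
    (HTop.IsAWN X ↔ HTop.IsAWNormalization (𝟙 X)) ∧
    (HTop.IsAWN X ↔ ∀ (Y : Scheme.{u}) (π : Y ⟶ X), FlatMor.IsUnivHomeo π → AlgebraicGeometry.IsReduced Y → IsIso π) := by

  refine ⟨⟨fun hX => ?_, fun h => ?_⟩, ⟨fun hX Y π hπ hY => ?_, fun H => ?_⟩⟩
  · exact Groth.Agent.Lib.UnivHomeo.isAWNormalization_of_isAWN (𝟙 X)
      (Groth.Agent.Lib.UnivHomeo.isUnivHomeo_of_isIso _) hX
  · exact Groth.Agent.Lib.UnivHomeo.isAWN_of_isAWNormalization (𝟙 X) h
  · haveI := hY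
    exact Groth.Agent.Lib.UnivHomeo.isIso_of_isAWN π hX hπ
  · obtain ⟨X', ν, hν, hX'⟩ := Groth.Agent.Lib.UnivHomeo.exists_isAWNormalization X
    haveI : IsIso ν := H X' ν hν.1 (Groth.Agent.Lib.UnivHomeo.isReduced_of_isAWN hX')
    exact Groth.Agent.Lib.UnivHomeo.isAWN_of_iso (asIso ν).symm hX'

end Groth.Agent.S7426
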