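import Groth.Statements.S7431
import Mathlib
import Groth.Agent.Lib.SpecPushout_helper5

set_option autoImplicit false
universe u
open CategoryTheory AlgebraicGeometry
open Lim

namespace Groth.Agent.S7431

/-- Let `B' = B ×_R R'` be a cartesian square of rings with maps `s : B → R`, `t : R' → R`, and let `W'
= D(f_1) ∪ … ∪ D(f_n) ⊆ Spec R'` with `t(f_i) = s(g_i)` for elements `g_i ∈ B` such that `B_{g_i} →
R_{s(g_i)}` is an isomorphism for each `i`. Then the composite `W' → Spec R' → Spec B'`, the second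
map coming from `B' → R'`, is an open immersion. -/
theorem result {B B' R R' : Type u} [CommRing B] [CommRing B']
    [CommRing R] [CommRing R'] (s : B →+* R) (t : R' →+* R) (p : B' →+* B) (q : B' →+* R')
    (hsq : IsPullback (CommRingCat.ofHom p) (CommRingCat.ofHom q) (CommRingCat.ofHom s) (CommRingCat.ofHom t))
    {n : ℕ} (f : Fin n → R') (g : Fin n → B) (hfg : ∀ i, t (f i) = s (g i))
    (hiso : ∀ i, Function.Bijective (Localization.awayMap s (g i))) :
    IsOpenImmersion (Scheme.Opens.ι (X := Spec (CommRingCat.of R')) (⨆ i, PrimeSpectrum.basicOpen (f i)) ≫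
      Spec.map (CommRingCat.ofHom q)) := by
  classical
  have sq' : Groth.Agent.FibSqLib.FibSq p q s t := Groth.Agent.FibSqLib.FibSq.of_isPullback hsq
  choose h hh1 hh2 using fun i => sq'.surj (g i) (f i) (hfg i).symm
  have hbij : ∀ i, Function.Bijective (Localization.awayMap q (h i)) := fun i =>
    sq'.awayMap_snd_bijective (h i) (by rw [hh1 i]; exact hiso i)
  have hiso' : ∀ i, IsIso (Groth.Agent.SpecPushout.sp (Localization.awayMap q (h i))) := fun i => by
    haveI : IsIso (CommRingCat.ofHom (Localization.awayMap q (h i))) :=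
      (ConcreteCategory.isIso_iff_bijective _).mpr (hbij i)
    unfold Groth.Agent.SpecPushout.sp
    infer_instance
  have hcomm0 : True := trivial
  have hcomm : ∀ i, Groth.Agent.SpecPushout.ι (q (h i)) ≫ Groth.Agent.SpecPushout.sp q =
      Groth.Agent.SpecPushout.sp (Localization.awayMap q (h i)) ≫ Groth.Agent.SpecPushout.ι (h i) :=
    fun i => (Groth.Agent.SpecPushout.ι_comm q (h i)).symm
  have key : ∀ W' : (Spec (CommRingCat.of R')).Opens,
      (∀ x : PrimeSpectrum R', x ∈ W' ↔ ∃ i, q (h i) ∉ x.asIdeal) →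
      IsOpenImmersion (W'.ι ≫ Spec.map (CommRingCat.ofHom q)) := by
    intro W' hmemW
    apply IsOpenImmersion.of_forall_source_exists
    · intro x x' hxx'
      obtain ⟨i, hi⟩ := (hmemW x.1).mp x.2
      have e : (Groth.Agent.SpecPushout.sp q) x.1 = (Groth.Agent.SpecPushout.sp q) x'.1 := hxx'
      have hi' : q (h i) ∉ (x'.1 : PrimeSpectrum R').asIdeal := by
        intro hmem
        apply hi
        have h1 : h i ∈ (PrimeSpectrum.comap q x'.1).asIdeal := hmem
        have h2 : PrimeSpectrum.comap q x.1 = PrimeSpectrum.comap q x'.1 := e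
        rw [← h2] at h1
        exact h1
      obtain ⟨ξ, hξ⟩ := (Groth.Agent.SpecPushout.mem_range_ι (q (h i)) x.1).mpr hi
      obtain ⟨ξ', hξ'⟩ := (Groth.Agent.SpecPushout.mem_range_ι (q (h i)) x'.1).mpr hi'
      have e2 : (Groth.Agent.SpecPushout.ι (h i))
          ((Groth.Agent.SpecPushout.sp (Localization.awayMap q (h i))) ξ) =
          (Groth.Agent.SpecPushout.ι (h i))
          ((Groth.Agent.SpecPushout.sp (Localization.awayMap q (h i))) ξ') := by
        rw [← Scheme.Hom.comp_apply, ← Scheme.Hom.comp_apply, ← hcomm i, Scheme.Hom.comp_apply,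
          Scheme.Hom.comp_apply, hξ, hξ']
        exact e
      have e3 := (Groth.Agent.SpecPushout.ι (h i)).isOpenEmbedding.injective e2
      haveI := hiso' i
      have e4 : ξ = ξ' :=
        (Groth.Agent.SpecPushout.sp (Localization.awayMap q (h i))).isOpenEmbedding.injective e3
      apply W'.ι.isOpenEmbedding.injective
      show x.1 = x'.1
      rw [← hξ, ← hξ', e4]
    · intro x
      obtain ⟨i, hi⟩ := (hmemW x.1).mp x.2
      have hr : Set.range (Groth.Agent.SpecPushout.ι (q (h i))) ⊆ Set.range W'.ι := by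
        rw [Scheme.Opens.range_ι]
        rintro _ ⟨ξ, rfl⟩
        exact (hmemW _).mpr ⟨i, (Groth.Agent.SpecPushout.mem_range_ι _ _).mp ⟨ξ, rfl⟩⟩
      obtain ⟨m, hm⟩ : ∃ m, m ≫ W'.ι = Groth.Agent.SpecPushout.ι (q (h i)) :=
        ⟨IsOpenImmersion.lift W'.ι _ hr, IsOpenImmersion.lift_fac _ _ _⟩
      haveI : IsOpenImmersion (m ≫ W'.ι) := by rw [hm]; infer_instance
      haveI : IsOpenImmersion m := IsOpenImmersion.of_comp m W'.ι
      refine ⟨_, m, inferInstance, ?_, ?_⟩
      · obtain ⟨ξ, hξ⟩ := (Groth.Agent.SpecPushout.mem_range_ι (q (h i)) x.1).mpr hi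
        refine ⟨ξ, W'.ι.isOpenEmbedding.injective ?_⟩
        rw [← Scheme.Hom.comp_apply, hm]
        exact hξ
      · haveI := hiso' i
        have e5 : m ≫ W'.ι ≫ Spec.map (CommRingCat.ofHom q) =
            Groth.Agent.SpecPushout.sp (Localization.awayMap q (h i)) ≫
              Groth.Agent.SpecPushout.ι (h i) := by
          rw [← Category.assoc, hm]; exact hcomm i
        rw [e5]
        infer_instance
  apply key
  intro x
  show x ∈ (⨆ i, PrimeSpectrum.basicOpen (f i) : TopologicalSpace.Opens (PrimeSpectrum R')) ↔ _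
  rw [TopologicalSpace.Opens.mem_iSup]
  refine exists_congr fun i => ?_
  rw [hh2 i]
  exact PrimeSpectrum.mem_basicOpen (f i) x

end Groth.Agent.S7431
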