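import Groth.Statements.S7435
import Groth.Agent.Lib.BddFib2_helper6
-- import your own Groth.Agent.* helpers here

set_option autoImplicit false
universe u
open CategoryTheory AlgebraicGeometry
open BddFib

namespace Groth.Agent.S7435

/-- If `f` is finite locally free of degree `d`, then `d` bounds the degrees of the fibres of `f`. -/
theorem result {X Y : Scheme.{u}} (f : X ⟶ Y) (d : ℕ) (hf : Mor2.IsFinLocFreeOfDeg d f) :
    BddFib.FibreDegLE f d := by
  obtain ⟨⟨h1, h2, h3⟩, hd⟩ := hf
  intro y
  haveI := h1
  haveI := h2
  haveI : IsFinite (f.fiberToSpecResidueField y) :=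
    MorphismProperty.pullback_snd (P := @IsFinite) _ _ h1
  haveI : Flat (f.fiberToSpecResidueField y) :=
    MorphismProperty.pullback_snd (P := @Flat) _ _ h2
  let x : Spec (Y.residueField y) := Classical.arbitrary (PrimeSpectrum (Y.residueField y))
  refine Groth.Agent.Lib.BddFib2_helper6.finiteOfDegLE_of_finrank
    (Groth.Agent.Lib.BddFib_helper6.isField_residueField y) _ x d ?_
  exact (Scheme.Hom.finrank_pullback_snd f (Y.fromSpecResidueField y) x).trans (hd _)


end Groth.Agent.S7435
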