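import Groth.Statements.S7439
import Groth.Agent.Lib.BddFib_helper6
-- import your own Groth.Agent.* helpers here

set_option autoImplicit false
universe u
open CategoryTheory AlgebraicGeometry
open BddFib

namespace Groth.Agent.S7439

/-- Every immersion has universally bounded fibres, with `1` as a bound for the degrees of its fibres. -/
theorem result {X Y : Scheme.{u}} (f : X ⟶ Y) [IsImmersion f] :
    BddFib.FibreDegLE f 1 := by
  intro y
  haveI : IsImmersion (f.fiberToSpecResidueField y) :=
    MorphismProperty.pullback_snd (P := @IsImmersion) _ _ inferInstance
  exact Groth.Agent.Lib.BddFib_helper6.finiteOfDegLE_one_of_isImmersion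
    (Groth.Agent.Lib.BddFib_helper6.isField_residueField y) _


end Groth.Agent.S7439
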