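import Groth.Statements.S7440
import Mathlib
import Groth.Agent.Lib.BddFib3_helper6
import Groth.Agent.S2256
-- import your own Groth.Agent.* helpers here

set_option autoImplicit false
universe u
open CategoryTheory AlgebraicGeometry
open BddFib

namespace Groth.Agent.S7440

/-- Let `f : X → Y` be étale and `n ≥ 0`. If for every field `k` and every `Spec k → Y` the base change
`X_k = Spec k ×_Y X` has finitely many, and at most `n`, points, then `n` bounds the degrees of the
fibres of `f`. (The converse implication holds for every morphism of schemes, étale or not, and is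
not restated here.) -/
theorem result {X Y : Scheme.{u}} (f : X ⟶ Y) [Etale f] (n : ℕ)
    (h : ∀ (k : Type u) [Field k] (g : Spec (CommRingCat.of k) ⟶ Y),
      Finite ↥(Limits.pullback f g) ∧ Nat.card ↥(Limits.pullback f g) ≤ n) :
    BddFib.FibreDegLE f n := by

  rw [Groth.Agent.Lib.BddFib_helper6.fibreDegLE_iff]
  intro y
  obtain ⟨k, hk⟩ : ∃ k : Type u, k = AlgebraicClosure (Y.residueField y) := ⟨_, rfl⟩
  subst hk
  obtain ⟨φ, hφ⟩ : ∃ φ : Y.residueField y ⟶ CommRingCat.of (AlgebraicClosure (Y.residueField y)),
      φ = CommRingCat.ofHom (algebraMap (Y.residueField y) (AlgebraicClosure (Y.residueField y))) :=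
    ⟨_, rfl⟩
  refine (Groth.Agent.Lib.BddFib_helper6.finiteOfDegLE_snd_comp_iff f
    (Groth.Agent.Lib.BddFib_helper6.isField_residueField y)
    (Groth.Agent.Lib.BddFib_helper6.isField_of (AlgebraicClosure (Y.residueField y))) φ
    (Y.fromSpecResidueField y) n).mp ?_
  obtain ⟨hfin, hcard⟩ := h (AlgebraicClosure (Y.residueField y))
    (Spec.map φ ≫ Y.fromSpecResidueField y)
  haveI := hfin
  haveI : Etale (Limits.pullback.snd f (Spec.map φ ≫ Y.fromSpecResidueField y)) := inferInstance
  obtain ⟨hA, -⟩ := Groth.Agent.S2256.result (AlgebraicClosure (Y.residueField y)) _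
    (Limits.pullback.snd f (Spec.map φ ≫ Y.fromSpecResidueField y)) hfin
  haveI := hA
  exact Groth.Agent.Lib.BddFib_helper6.finiteOfDegLE_of_etale_of_isAlgClosed
    (AlgebraicClosure (Y.residueField y)) _ n hcard

end Groth.Agent.S7440
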