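import Groth.Statements.S7442
import Groth.Agent.Lib.BddFib2_helper6
-- import your own Groth.Agent.* helpers here

set_option autoImplicit false
universe u
open CategoryTheory AlgebraicGeometry
open BddFib

namespace Groth.Agent.S7442

/-- Let `f : X → Y` and `h : Y → Z` with `g = h ∘ f`. If `f` is flat and surjective and `n` bounds the
degrees of the fibres of `g`, then `n` bounds the degrees of the fibres of `h`. -/
theorem result {X Y Z : Scheme.{u}} (f : X ⟶ Y) (h : Y ⟶ Z) [Flat f] [Surjective f]
    (n : ℕ) (hg : BddFib.FibreDegLE (f ≫ h) n) : BddFib.FibreDegLE h n := by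
  intro z
  let c := Z.fromSpecResidueField z
  let r : Limits.pullback (f ≫ h) c ⟶ Limits.pullback h c :=
    Limits.pullback.lift (Limits.pullback.fst _ _ ≫ f) (Limits.pullback.snd _ _)
      (by rw [Category.assoc, Limits.pullback.condition])
  have hsq : IsPullback (Limits.pullback.fst (f ≫ h) c) r f (Limits.pullback.fst h c) := by
    refine IsPullback.flip ?_
    refine IsPullback.of_right (h₁₂ := Limits.pullback.snd h c) (h₂₂ := h) (v₁₃ := c) ?_ ?_ ?_
    · rw [Limits.pullback.lift_snd]
      exact (IsPullback.of_hasPullback (f ≫ h) c).flip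
    · rw [Limits.pullback.lift_fst]
    · exact (IsPullback.of_hasPullback h c).flip
  haveI : Flat r := MorphismProperty.of_isPullback (P := @Flat) hsq inferInstance
  haveI : Surjective r := MorphismProperty.of_isPullback (P := @Surjective) hsq inferInstance
  exact Groth.Agent.Lib.BddFib2_helper6.finiteOfDegLE_of_flat_surjective
    (Groth.Agent.Lib.BddFib_helper6.isField_residueField z) (Limits.pullback.snd (f ≫ h) c)
    (Limits.pullback.snd h c) r (Limits.pullback.lift_snd _ _ _) n (hg z)


end Groth.Agent.S7442
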