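import Groth.Statements.S7444
import Mathlib
import Groth.Agent.Lib.UHColim_helper6
-- import your own Groth.Agent.* helpers here

set_option autoImplicit false
universe u
open CategoryTheory AlgebraicGeometry
open Mor

namespace Groth.Agent.S7444

/-- Let `φ : A → B` be a ring map such that `Spec B → Spec A` is a universal homeomorphism and all
residue field extensions are trivial (every residue field map is surjective). Then `B`, as an
`A`-algebra, is the colimit of a filtered diagram of finitely presented `A`-algebras `B_i`, each of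
which has the same two properties over `A`. (The colimit is taken in the category of rings under
`A`, over a small filtered index category.) -/
theorem result {A B : Type u} [CommRing A] [CommRing B]
    (φ : A →+* B) (hφ : FlatMor.IsUnivHomeo (Spec.map (CommRingCat.ofHom φ)))
    (hres : ∀ x : Spec (CommRingCat.of B), Function.Surjective ((Spec.map (CommRingCat.ofHom φ)).residueFieldMap x)) :
    ∃ (J : Type u) (_ : SmallCategory J) (_ : IsFiltered J) (F : J ⥤ Under (CommRingCat.of A))
      (c : Limits.Cocone F) (_ : Limits.IsColimit c),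
      (∀ j, (F.obj j).hom.hom.FinitePresentation ∧ FlatMor.IsUnivHomeo (Spec.map (F.obj j).hom) ∧
        ∀ x : Spec (F.obj j).right, Function.Surjective ((Spec.map (F.obj j).hom).residueFieldMap x)) ∧
      Nonempty (c.pt ≅ Under.mk (CommRingCat.ofHom φ)) := by

  letI := φ.toAlgebra
  have hφ' : FlatMor.IsUnivHomeo (Spec.map (CommRingCat.ofHom (algebraMap A B))) := hφ
  have hres' : ∀ x : Spec (CommRingCat.of B), Function.Surjective
      ((Spec.map (CommRingCat.ofHom (algebraMap A B))).residueFieldMap x) := hres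
  obtain ⟨hc⟩ := Groth.Agent.Lib.UHColim.isColimit_coc A B hφ'
  obtain ⟨hint, hPU, hPE⟩ :=
    (Groth.Agent.Lib.UnivHomeo.isUnivHomeo_res_iff_alg A B).mp ⟨hφ', hres'⟩
  have hkerB : RingHom.ker (algebraMap A B) ≤ nilradical A :=
    ((Groth.Agent.Lib.UnivHomeo.isUnivHomeo_iff_alg A B).mp hφ').2.2
  refine ⟨Groth.Agent.Lib.UHColim.Idx A B, inferInstance, inferInstance,
    Groth.Agent.Lib.UHColim.Ffun A B, Groth.Agent.Lib.UHColim.coc A B, hc, fun j => ?_,
    ⟨Iso.refl _⟩⟩
  have hUj : FlatMor.IsUnivHomeo (Spec.map (CommRingCat.ofHom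
      (algebraMap A (Groth.Agent.Lib.UHColim.Qt j.1.1 j.1.2)))) := by
    refine Groth.Agent.Lib.UHColim.isUnivHomeo_of_Wsub_eq_top j.2.wsub_eq_top ?_
    intro a ha
    apply hkerB
    rw [RingHom.mem_ker] at ha ⊢
    rw [← (Groth.Agent.Lib.UHColim.toB j.1.1 j.1.2).commutes a, ha, map_zero]
  obtain ⟨hintj, hPUj, -⟩ := (Groth.Agent.Lib.UnivHomeo.isUnivHomeo_iff_alg A
    (Groth.Agent.Lib.UHColim.Qt j.1.1 j.1.2)).mp hUj
  have hPEj : Groth.Agent.Lib.UnivHomeo.PE A (Groth.Agent.Lib.UHColim.Qt j.1.1 j.1.2) := by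
    intro K _ χ
    obtain ⟨ψ, hψ⟩ := hPE K χ
    refine ⟨ψ.comp (Groth.Agent.Lib.UHColim.toB j.1.1 j.1.2).toRingHom, ?_⟩
    ext a
    rw [← hψ]
    show ψ (Groth.Agent.Lib.UHColim.toB j.1.1 j.1.2 (algebraMap A _ a)) = ψ (algebraMap A B a)
    rw [(Groth.Agent.Lib.UHColim.toB j.1.1 j.1.2).commutes a]
  have hboth := (Groth.Agent.Lib.UnivHomeo.isUnivHomeo_res_iff_alg A
    (Groth.Agent.Lib.UHColim.Qt j.1.1 j.1.2)).mpr ⟨hintj, hPUj, hPEj⟩
  refine ⟨?_, hboth.1, hboth.2⟩
  show (algebraMap A (Groth.Agent.Lib.UHColim.Qt j.1.1 j.1.2)).FinitePresentation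
  rw [RingHom.finitePresentation_algebraMap]
  exact Algebra.FinitePresentation.quotient (Groth.Agent.Lib.UHColim.relIdeal_fg j.1.1 j.1.2)

end Groth.Agent.S7444
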