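import Groth.Statements.S7446
import Mathlib
import Groth.Agent.Lib.BddFib5_helper6
-- import your own Groth.Agent.* helpers here

set_option autoImplicit false
universe u
open CategoryTheory AlgebraicGeometry
open BddFib

namespace Groth.Agent.S7446

/-- When every fibre of `f : X → Y` has degree at most `n`, then for every field `k` and every `Spec k →
Y`, writing `X_k = {x_1, …, x_t}`, one has `Σ_i [κ(x_i) : k] ≤ n`. (Residue degrees are taken along
`X_k → Spec k`; `X_k` is finite, so the sum is a finite sum.) -/
theorem result {X Y : Scheme.{u}} (f : X ⟶ Y) (n : ℕ) (hf : BddFib.FibreDegLE f n)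
    (k : Type u) [Field k] (g : Spec (CommRingCat.of k) ⟶ Y) :
    Finite ↥(Limits.pullback f g) ∧
      ∑ᶠ x : ↥(Limits.pullback f g), (Limits.pullback.snd f g).residueDegree x ≤ n := by

  have H := (Groth.Agent.Lib.BddFib_helper6.fibreDegLE_iff_forall_isField f n).mp hf
    (CommRingCat.of k) (Groth.Agent.Lib.BddFib_helper6.isField_of k) g
  exact Groth.Agent.Lib.BddFib5_helper6.finsum_residueDegree_le k (Limits.pullback.snd f g) n H

end Groth.Agent.S7446
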