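import Groth.Statements.S7452
import Groth.Agent.Lib.GrpdCalc_helper6
-- import your own Groth.Agent.* helpers here

set_option autoImplicit false
universe u
open CategoryTheory CategoryTheory.Limits AlgebraicGeometry
open Grpd

namespace Groth.Agent.S7452

open Groth.Agent.Lib.GrpdCalc

/-- Let (U, R, s, t, c) be a groupoid scheme over S with U the spectrum of a field. Then the composition
c : R x_(s,U,t) R -> R is an open map of topological spaces. (A groupoid scheme carries U, R, s, t,
c, e, i over S with the groupoid axioms on T-points; c is defined on the fibre product of s and t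
and sends a pair (a, b) with s(a) = t(b) to a composed with b.) -/
theorem result (S : Scheme.{u}) (G : Grpd.GroupoidScheme S) (k : Type u) [Field k] (eU : G.U ≅ Spec (CommRingCat.of k)) : IsOpenMap ⇑G.c := by
  have hA : (pullback.fst G.t G.t ≫ G.i) ≫ G.s = pullback.snd G.t G.t ≫ G.t := by
    rw [Category.assoc, G.i_s, pullback.condition]
  have hφ : pullback.fst G.t G.t ≫ G.s =
      comp G (pullback.fst G.t G.t ≫ G.i) (pullback.snd G.t G.t) hA ≫ G.t := by
    rw [comp_t', Category.assoc, G.i_t]
  obtain ⟨φ, hφ1, hφ2⟩ : ∃ φ : pullback G.t G.t ⟶ pullback G.s G.t,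
      φ ≫ pullback.fst G.s G.t = pullback.fst G.t G.t ∧
      φ ≫ pullback.snd G.s G.t = comp G (pullback.fst G.t G.t ≫ G.i) (pullback.snd G.t G.t) hA :=
    ⟨pullback.lift (pullback.fst G.t G.t) (comp G _ _ hA) hφ, pullback.lift_fst _ _ _,
      pullback.lift_snd _ _ _⟩
  obtain ⟨hiso, hφc⟩ := phi_iso G φ hφ1 hA hφ2
  have hc : G.c = inv φ ≫ pullback.snd G.t G.t := (IsIso.eq_inv_comp φ).2 hφc
  haveI : Subsingleton ↥(Spec (CommRingCat.of k)) :=
    inferInstanceAs (Subsingleton (PrimeSpectrum k))
  haveI : Nonempty ↥(Spec (CommRingCat.of k)) :=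
    inferInstanceAs (Nonempty (PrimeSpectrum k))
  haveI : Subsingleton G.U := eU.hom.homeomorph.subsingleton
  haveI : Nonempty G.U := ⟨eU.inv (Classical.arbitrary _)⟩
  haveI : IsIntegral G.U := isIntegral_of_isOpenImmersion eU.hom
  haveI : UniversallyOpen G.t := inferInstance
  haveI : UniversallyOpen (pullback.snd G.t G.t) := inferInstance
  rw [hc]
  exact (pullback.snd G.t G.t).isOpenMap.comp (inv φ).homeomorph.isOpenMap

end Groth.Agent.S7452
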