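import Groth.Statements.S7458
import Mathlib
import Groth.Agent.Lib.GrpSchIso_helper7

set_option autoImplicit false
universe u
open CategoryTheory MonoidalCategory CartesianMonoidalCategory MonObj GrpObj AlgebraicGeometry
open GrpSch

namespace Groth.Agent.S7458

/-- For a group scheme G over a scheme S, a scheme T flat over S and a morphism ψ : T -> G over S, the
map T x_S G -> G sending (t, g) to the product ψ(t)·g is a flat morphism; taking T = G and ψ the
identity, the multiplication G x_S G -> G is flat whenever G is flat over S. -/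
theorem result (S : Scheme.{u}) (G : Over S) [GrpObj G] : (∀ (T : Over S) (ψ : T ⟶ G), Flat T.hom → Flat (ψ ▷ G ≫ μ[G]).left) ∧ (Flat G.hom → Flat μ[G].left) := by
  have key : ∀ (T : Over S) (ψ : T ⟶ G), Flat T.hom → Flat (ψ ▷ G ≫ μ[G]).left := by
    intro T ψ hT
    have hm : ψ ▷ G ≫ μ[G] = (fst T G ≫ ψ) * snd T G := by
      have e : ψ ▷ G = lift (fst T G ≫ ψ) (snd T G) := by
        apply CartesianMonoidalCategory.hom_ext <;> simp
      rw [e, ← Hom.mul_def]
    let σ : T ⊗ G ⟶ T ⊗ G := lift (fst T G) ((fst T G ≫ ψ) * snd T G)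
    let σinv : T ⊗ G ⟶ T ⊗ G := lift (fst T G) ((fst T G ≫ ψ)⁻¹ * snd T G)
    have h1 : σ ≫ σinv = 𝟙 _ := by
      apply CartesianMonoidalCategory.hom_ext
      · simp [σ, σinv]
      · simp only [σ, σinv, Category.assoc, lift_snd, Category.id_comp, MonObj.comp_mul,
          GrpObj.comp_inv, lift_fst_assoc, inv_mul_cancel_left]
    have h2 : σinv ≫ σ = 𝟙 _ := by
      apply CartesianMonoidalCategory.hom_ext
      · simp [σ, σinv]
      · simp only [σ, σinv, Category.assoc, lift_snd, Category.id_comp, MonObj.comp_mul,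
          lift_fst_assoc, mul_inv_cancel_left]
    haveI : IsIso σ := ⟨σinv, h1, h2⟩
    haveI : IsIso σ.left := GrpSchIsoH7.isIso_left_of_isIso σ
    have h3 : ψ ▷ G ≫ μ[G] = σ ≫ snd T G := by rw [hm]; simp [σ]
    have h4 : (ψ ▷ G ≫ μ[G]).left = σ.left ≫ Limits.pullback.snd T.hom G.hom :=
      congrArg (fun k => k.left) h3
    rw [h4]
    infer_instance
  refine ⟨key, fun hG => ?_⟩
  have := key G (𝟙 G) hG
  rwa [MonoidalCategory.id_whiskerRight, Category.id_comp] at this

end Groth.Agent.S7458
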