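import Groth.Statements.S7459
import Mathlib
import Groth.Agent.Lib.GrpSchIso_helper7

set_option autoImplicit false
universe u
open CategoryTheory MonoidalCategory CartesianMonoidalCategory MonObj GrpObj AlgebraicGeometry
open GrpSch

namespace Groth.Agent.S7459

/-- Let G be a group scheme over a field k, W an open subscheme of G and f : T -> G a morphism of
schemes (T becomes a k-scheme through f). Then the image of the composition T x_k W -> G x_k G -> G,
the second map being the multiplication, is open. -/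
theorem result (K : Type u) [Field K] (G : Over (Spec (CommRingCat.of K))) [GrpObj G] (W : G.left.Opens) (T : Scheme.{u}) (f : T ⟶ G.left) : IsOpen (Set.range ⇑(((Over.homMk f rfl : Over.mk (f ≫ G.hom) ⟶ G) ⊗ₘ (Over.homMk W.ι rfl : Over.mk (W.ι ≫ G.hom) ⟶ G)) ≫ μ[G]).left) := by
  have key : ∀ (T : Over (Spec (CommRingCat.of K))) (ψ : T ⟶ G), UniversallyOpen T.hom →
      UniversallyOpen (ψ ▷ G ≫ μ[G]).left := by
    intro T ψ hT
    have hm : ψ ▷ G ≫ μ[G] = (fst T G ≫ ψ) * snd T G := by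
      have e : ψ ▷ G = lift (fst T G ≫ ψ) (snd T G) := by
        apply CartesianMonoidalCategory.hom_ext <;> simp
      rw [e, ← Hom.mul_def]
    let σ : T ⊗ G ⟶ T ⊗ G := lift (fst T G) ((fst T G ≫ ψ) * snd T G)
    let σinv : T ⊗ G ⟶ T ⊗ G := lift (fst T G) ((fst T G ≫ ψ)⁻¹ * snd T G)
    have h1 : σ ≫ σinv = 𝟙 _ := by
      apply CartesianMonoidalCategory.hom_ext
      · simp [σ, σinv]
      · simp only [σ, σinv, Category.assoc, lift_snd, Category.id_comp, MonObj.comp_mul,
          GrpObj.comp_inv, lift_fst_assoc, inv_mul_cancel_left]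
    have h2 : σinv ≫ σ = 𝟙 _ := by
      apply CartesianMonoidalCategory.hom_ext
      · simp [σ, σinv]
      · simp only [σ, σinv, Category.assoc, lift_snd, Category.id_comp, MonObj.comp_mul,
          lift_fst_assoc, mul_inv_cancel_left]
    haveI : IsIso σ := ⟨σinv, h1, h2⟩
    haveI : IsIso σ.left := GrpSchIsoH7.isIso_left_of_isIso σ
    have h3 : ψ ▷ G ≫ μ[G] = σ ≫ snd T G := by rw [hm]; simp [σ]
    have h4 : (ψ ▷ G ≫ μ[G]).left = σ.left ≫ Limits.pullback.snd T.hom G.hom :=
      congrArg (fun k => k.left) h3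
    rw [h4]
    infer_instance
  generalize hf' : (Over.homMk f rfl : Over.mk (f ≫ G.hom) ⟶ G) = f'
  generalize hw' : (Over.homMk W.ι rfl : Over.mk (W.ι ≫ G.hom) ⟶ G) = w'
  have hwl : w'.left = W.ι := by rw [← hw']; rfl
  haveI : UniversallyOpen w'.left := by rw [hwl]; infer_instance
  haveI h5 : UniversallyOpen ((Over.mk (f ≫ G.hom)) ◁ w').left := by
    have h0 : UniversallyOpen (𝟙 (Over.mk (f ≫ G.hom)).left) := inferInstance
    exact MorphismProperty.pullbackMap (P := @UniversallyOpen) (f := (Over.mk (f ≫ G.hom)).hom)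
      (g := (Over.mk (W.ι ≫ G.hom)).hom) (f' := (Over.mk (f ≫ G.hom)).hom) (g' := G.hom)
      h0 ‹UniversallyOpen w'.left› (Category.id_comp _).symm (Over.w w').symm
  haveI h6 : UniversallyOpen (f' ▷ G ≫ μ[G]).left := key _ f' inferInstance
  have h7 : (f' ⊗ₘ w') ≫ μ[G] = ((Over.mk (f ≫ G.hom)) ◁ w') ≫ (f' ▷ G ≫ μ[G]) := by
    rw [MonoidalCategory.tensorHom_def', Category.assoc]
  rw [h7]
  haveI : UniversallyOpen (((Over.mk (f ≫ G.hom)) ◁ w') ≫ (f' ▷ G ≫ μ[G])).left := by
    rw [Over.comp_left]; infer_instance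
  exact (((Over.mk (f ≫ G.hom)) ◁ w') ≫ (f' ▷ G ≫ μ[G])).left.isOpenMap.isOpen_range

end Groth.Agent.S7459
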