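import Groth.Statements.S7464
import Groth.Agent.Lib.WeakAssSch4_helper4
-- import your own Groth.Agent.* helpers here

set_option autoImplicit false
universe u
open CategoryTheory CategoryTheory.Limits AlgebraicGeometry
open Grpd

namespace Groth.Agent.S7464

/-- Let (U, R, s, t, c) be a groupoid scheme over S with s and t finite, and let u, u' be distinct
points of U in the same orbit, say u = s(r) and u' = t(r). Then u' does not lie in the closure of u.
(The published statement calls u, u' points of R; this row takes them to be points of U, as the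
orbit condition and the proof require.) (A groupoid scheme carries U, R, s, t, c, e, i over S with
the groupoid axioms on T-points; c is defined on the fibre product of s and t and sends a pair (a,
b) with s(a) = t(b) to a composed with b.) -/
theorem result (S : Scheme.{u}) (G : Grpd.GroupoidScheme S) [IsFinite G.s] [IsFinite G.t] (r : G.R) (hne : G.s r ≠ G.t r) : ¬ (G.s r ⤳ G.t r) := by
  have hcs : G.c ≫ G.s = pullback.snd G.s G.t ≫ G.s := by
    have h := G.comp_s (pullback.fst G.s G.t) (pullback.snd G.s G.t) pullback.condition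
    have hid : pullback.lift (pullback.fst G.s G.t) (pullback.snd G.s G.t) pullback.condition =
        𝟙 _ := by
      apply pullback.hom_ext <;> simp
    rw [hid, Category.id_comp] at h
    exact h
  have hct : G.c ≫ G.t = pullback.fst G.s G.t ≫ G.t := by
    have h := G.comp_t (pullback.fst G.s G.t) (pullback.snd G.s G.t) pullback.condition
    have hid : pullback.lift (pullback.fst G.s G.t) (pullback.snd G.s G.t) pullback.condition =
        𝟙 _ := by
      apply pullback.hom_ext <;> simp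
    rw [hid, Category.id_comp] at h
    exact h
  have hcomp : ∀ (a b : G.R), G.s a = G.t b → ∃ ρ : G.R, G.s ρ = G.s b ∧ G.t ρ = G.t a := by
    intro a b hab
    obtain ⟨z, hz1, hz2⟩ := Scheme.Pullback.exists_preimage_pullback (f := G.s) (g := G.t) a b hab
    refine ⟨G.c z, ?_, ?_⟩
    · rw [← Scheme.Hom.comp_apply, hcs, Scheme.Hom.comp_apply, hz2]
    · rw [← Scheme.Hom.comp_apply, hct, Scheme.Hom.comp_apply, hz1]
  intro hspec
  have hO : (⇑G.t '' (⇑G.s ⁻¹' {G.s r})).Finite := (G.s.finite_preimage_singleton (G.s r)).image _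
  have harrow : ∀ v ∈ ⇑G.t '' (⇑G.s ⁻¹' {G.s r}), ∀ m ∈ ⇑G.t '' (⇑G.s ⁻¹' {G.s r}),
      ∃ ρ : G.R, G.s ρ = v ∧ G.t ρ = m := by
    rintro v ⟨a, ha, rfl⟩ m ⟨b, hb, rfl⟩
    have ha' : G.s a = G.s r := ha
    have hb' : G.s b = G.s r := hb
    have h1 : G.s b = G.t (G.i a) := by
      rw [← Scheme.Hom.comp_apply, G.i_t]
      exact hb'.trans ha'.symm
    obtain ⟨ρ, h2, h3⟩ := hcomp b (G.i a) h1
    refine ⟨ρ, ?_, h3⟩
    rw [h2, ← Scheme.Hom.comp_apply, G.i_s]
  have hclosed : ∀ ρ : G.R, G.s ρ ∈ ⇑G.t '' (⇑G.s ⁻¹' {G.s r}) →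
      G.t ρ ∈ ⇑G.t '' (⇑G.s ⁻¹' {G.s r}) := by
    rintro ρ ⟨a, ha, hav⟩
    have ha' : G.s a = G.s r := ha
    obtain ⟨ρ', h2, h3⟩ := hcomp ρ a hav.symm
    exact ⟨ρ', h2.trans ha', h3⟩
  have huO : G.s r ∈ ⇑G.t '' (⇑G.s ⁻¹' {G.s r}) := by
    refine ⟨G.e (G.s r), ?_, ?_⟩
    · show G.s (G.e (G.s r)) = G.s r
      rw [← Scheme.Hom.comp_apply, G.e_s]
      rfl
    · rw [← Scheme.Hom.comp_apply, G.e_t]
      rfl
  have hu'O : G.t r ∈ ⇑G.t '' (⇑G.s ⁻¹' {G.s r}) := ⟨r, rfl, rfl⟩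
  letI : LE G.U := ⟨fun x y => y ⤳ x⟩
  haveI : IsTrans G.U LE.le := ⟨fun a b c hab hbc => Specializes.trans hbc hab⟩
  obtain ⟨m, hmO, hmin⟩ := hO.exists_minimal ⟨G.s r, huO⟩
  obtain ⟨r₀, hr₀s, hr₀t⟩ := harrow (G.s r) huO m hmO
  obtain ⟨r₁, hr₀₁, hr₁s⟩ := (G.s.isClosedMap.specializingMap)
    (show G.s r₀ ⤳ G.t r from hr₀s ▸ hspec)
  have hr₀₁' : r₀ ⤳ r₁ := hr₀₁
  have h1 : G.t r₁ ∈ ⇑G.t '' (⇑G.s ⁻¹' {G.s r}) := hclosed r₁ (hr₁s ▸ hu'O)
  have h2 : m ⤳ G.t r₁ := hr₀t ▸ (hr₀₁'.map G.t.continuous)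
  have h3 : G.t r₁ ⤳ m := hmin h1 h2
  have h4 : G.t r₁ = m := (h3.antisymm h2).eq
  have h5 : r₁ = r₀ := Groth.Agent.Lib.WeakAssSch4_helper4.eq_of_specializes_of_isIntegralHom
    (f := G.t) hr₀₁' (h4.trans hr₀t.symm)
  apply hne
  rw [← hr₁s, h5, hr₀s]

end Groth.Agent.S7464
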