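import Groth.Statements.S7468
import Mathlib
import Groth.Agent.Lib.ValLift_helper6
-- import your own Groth.Agent.* helpers here

set_option autoImplicit false
universe w u
open HTop

namespace Groth.Agent.S7468

open CategoryTheory CategoryTheory.Limits AlgebraicGeometry in
/-- If T is affine and a finite family is obtained by restricting one proper surjective morphism U -> T
to the pieces of a finite affine open cover of U, then the family is a standard V covering. -/
theorem result {T : Scheme.{u}} (E : PreZeroHypercover.{w} T) (hE : HTop.IsStandardPh E) : HTop.IsStandardV E := by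

  refine ⟨hE.isAffine, hE.finite_index, hE.isAffine_obj, ?_⟩
  intro V _ _ g
  obtain ⟨U, f, ι, hprop, hsurj, hopen, hfac, hcov⟩ := hE.exists_proper
  obtain ⟨W, i1, i2, φ, hext, g', hg'⟩ :=
    Groth.Agent.Lib.ValLift.exists_valLift_of_universallyClosed f V g
  obtain ⟨j, hj⟩ := hcov (g' (IsLocalRing.closedPoint W))
  haveI := hopen j
  obtain ⟨l, hl⟩ := Groth.Agent.Lib.ValLift.exists_lift_of_closedPoint_mem g' (ι j) hj
  refine ⟨W, i1, i2, φ, hext, j, l, ?_⟩
  rw [← hfac j, ← Category.assoc, hl, hg']

end Groth.Agent.S7468
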