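import Groth.Statements.S7472
import Mathlib
import Groth.Agent.Lib.VCover_helper9

set_option autoImplicit false
universe w u
open HTop

namespace Groth.Agent.S7472

open CategoryTheory CategoryTheory.Limits AlgebraicGeometry in
/-- Let E be a V covering of a scheme T and, for every member T_i of E, let F_i be a V covering of T_i.
Then the composite family of all T_ij -> T is a V covering of T. -/
theorem result {T : Scheme.{u}} (E : PreZeroHypercover.{w} T) (hE : HTop.IsVCover E) (F : ∀ i, PreZeroHypercover.{w} (E.X i)) (hF : ∀ i, HTop.IsVCover (F i)) : HTop.IsVCover (E.bind F) := by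
  intro U
  obtain ⟨G₀, hG₀, hG₀R⟩ := hE U
  choose i h hh using hG₀R
  haveI : ∀ a, AlgebraicGeometry.IsAffine (G₀.X a) := hG₀.isAffine_obj
  choose K hK hKR using fun a =>
    Groth.Agent.Lib.VCover.exists_standardV_refinesOver (h a) (F (i a)) (hF (i a))
  refine ⟨G₀.bind K, ?_, ?_⟩
  · -- standard V covering
    haveI := hG₀.finite_index
    haveI : ∀ a, Finite (K a).I₀ := fun a => (hK a).finite_index
    refine ⟨hG₀.isAffine, ?_, fun ab => (hK ab.1).isAffine_obj ab.2, ?_⟩
    · show Finite (Σ a, (K a).I₀)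
      infer_instance
    · intro V _ _ γ
      obtain ⟨W, hW1, hW2, φ, hφ, a, g', hg'⟩ := hG₀.lift V γ
      obtain ⟨W', hW'1, hW'2, φ', hφ', b, g'', hg''⟩ := @(hK a).lift W hW1 hW2 g'
      refine ⟨W', hW'1, hW'2, φ ≫ φ', ⟨?_, ?_⟩, ⟨a, b⟩, g'', ?_⟩
      · rw [CommRingCat.hom_comp]
        exact hφ'.1.comp hφ.1
      · rw [CommRingCat.hom_comp]
        haveI := hφ.2
        haveI := hφ'.2
        exact RingHom.isLocalHom_comp _ _
      · show g'' ≫ (K a).f b ≫ G₀.f a = AlgebraicGeometry.Spec.map (φ ≫ φ') ≫ γ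
        rw [← CategoryTheory.Category.assoc, hg'', CategoryTheory.Category.assoc, hg',
          AlgebraicGeometry.Spec.map_comp, CategoryTheory.Category.assoc]
  · rintro ⟨a, b⟩
    obtain ⟨c, k, hk⟩ := hKR a b
    refine ⟨⟨i a, c⟩, k, ?_⟩
    show k ≫ (F (i a)).f c ≫ E.f (i a) = ((K a).f b ≫ G₀.f a) ≫ (U : T.Opens).ι
    rw [← CategoryTheory.Category.assoc, hk, CategoryTheory.Category.assoc, hh,
      CategoryTheory.Category.assoc]

end Groth.Agent.S7472
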