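import Groth.Statements.S7474
import Mathlib
import Groth.Agent.Lib.VSheaf_helper6
-- import your own Groth.Agent.* helpers here

set_option autoImplicit false
universe w u
open HTop

namespace Groth.Agent.S7474

open CategoryTheory CategoryTheory.Limits AlgebraicGeometry in
/-- A presheaf F of sets on the category of all schemes has the sheaf property for every V covering
family exactly when F is a sheaf for the Zariski topology and has the sheaf property for each
standard V covering. -/
theorem result (F : Scheme.{u}ᵒᵖ ⥤ Type w) : HTop.IsVSheaf F ↔ (Presieve.IsSheaf Scheme.zariskiTopology F ∧ ∀ (T : Scheme.{u}) (E : PreZeroHypercover.{u} T), HTop.IsStandardV E → Presieve.IsSheafFor F E.presieve₀) := by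

  constructor
  · intro hF
    refine ⟨?_, fun T E hE => hF _ ((HTop.presieve₀_mem_vPrecoverage_iff E).mpr
      (Groth.Agent.Lib.VSheaf.isVCover_of_isStandardV E hE))⟩
    show Presieve.IsSheaf (Scheme.precoverage @IsOpenImmersion).toGrothendieck F
    rw [Precoverage.isSheaf_toGrothendieck_iff_of_isStableUnderBaseChange]
    intro X R hR
    have hR' : R ∈ Scheme.fpqcPrecoverage X := Scheme.zariskiPrecoverage_le_fpqcPrecoverage X hR
    obtain ⟨𝒰, rfl⟩ := Precoverage.mem_iff_exists_zeroHypercover.mp hR'
    exact hF _ ((HTop.presieve₀_mem_vPrecoverage_iff 𝒰.toPreZeroHypercover).mpr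
      (Groth.Agent.S7473.result 𝒰))
  · rintro ⟨hZ, hV⟩ X R hR
    rw [HTop.vPrecoverage, PreZeroHypercoverFamily.mem_precoverage_iff] at hR
    obtain ⟨E, hE, rfl⟩ := hR
    exact Groth.Agent.Lib.VSheaf.isSheafFor_of_isVCover hZ
      (fun T E hE => Groth.Agent.Lib.VSheaf.isSheafFor_of_isStandardV_zero F hV E hE) E hE

end Groth.Agent.S7474
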