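import Groth.Statements.S7475
import Mathlib
import Groth.Agent.Lib.VSheaf2_helper6
-- import your own Groth.Agent.* helpers here

set_option autoImplicit false
universe w u
open HTop

namespace Groth.Agent.S7475

open CategoryTheory CategoryTheory.Limits AlgebraicGeometry in
/-- Variant with a single arrow: a presheaf of sets on all schemes has the sheaf property for every V
covering family exactly when it is a Zariski sheaf and has the sheaf property for every morphism V
-> U of affine schemes that on its own forms a standard V covering. -/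
theorem result (F : Scheme.{u}ᵒᵖ ⥤ Type w) : HTop.IsVSheaf F ↔ (Presieve.IsSheaf Scheme.zariskiTopology F ∧ ∀ (U V : Scheme.{u}) (f : V ⟶ U), HTop.IsStandardV (PreZeroHypercover.singleton f) → Presieve.IsSheafFor F (Presieve.singleton f)) := by

  constructor
  · intro hF
    refine ⟨?_, fun U V f hstd => ?_⟩
    · show Presieve.IsSheaf (Scheme.precoverage @IsOpenImmersion).toGrothendieck F
      rw [Precoverage.isSheaf_toGrothendieck_iff_of_isStableUnderBaseChange]
      intro X R hR
      have hR' : R ∈ Scheme.fpqcPrecoverage X := Scheme.zariskiPrecoverage_le_fpqcPrecoverage X hR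
      obtain ⟨𝒰, rfl⟩ := Precoverage.mem_iff_exists_zeroHypercover.mp hR'
      exact hF _ ((HTop.presieve₀_mem_vPrecoverage_iff 𝒰.toPreZeroHypercover).mpr
        (Groth.Agent.S7473.result 𝒰))
    · have := hF _ ((HTop.presieve₀_mem_vPrecoverage_iff _).mpr
        (Groth.Agent.Lib.VSheaf.isVCover_of_isStandardV _ hstd))
      rwa [PreZeroHypercover.presieve₀_singleton] at this
  · rintro ⟨hZ, hS⟩ X R hR
    rw [HTop.vPrecoverage, PreZeroHypercoverFamily.mem_precoverage_iff] at hR
    obtain ⟨E, hE, rfl⟩ := hR
    refine Groth.Agent.Lib.VSheaf.isSheafFor_of_isVCover hZ (fun T E' hE' => ?_) E hE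
    haveI := hE'.finite_index
    exact Groth.Agent.Lib.VSheaf.isSheafFor_of_singleton hZ E'
      (hS _ _ _ (Groth.Agent.Lib.VSheaf.isStandardV_singleton_sigmaDesc E' hE'))

end Groth.Agent.S7475
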