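import Groth.Statements.S7477
import Mathlib
import Groth.Agent.Lib.ValLift2_helper6
-- import your own Groth.Agent.* helpers here

set_option autoImplicit false
universe w u
open HTop

namespace Groth.Agent.S7477

open CategoryTheory CategoryTheory.Limits AlgebraicGeometry in
/-- If {f_i : X_i -> X} is a V covering (indexed by a type in the universe of X), then the morphism from
the coproduct of the X_i to X induced by the f_i is universally submersive. -/
theorem result {X : Scheme.{u}} (E : PreZeroHypercover.{u} X) (hE : HTop.IsVCover E) : SGA1.UnivSubmersive (Sigma.desc E.f) := by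

  have hVL := Groth.Agent.Lib.ValLift.hasValLift_of_isVCover E hE
  intro P' Z i₁ i₂ f' hpb
  show Topology.IsQuotientMap f'
  rw [Topology.isQuotientMap_iff_isClosed]
  refine ⟨Groth.Agent.Lib.ValLift.surjective_of_hasValLift E hVL hpb,
    fun S => ⟨fun hS => hS.preimage f'.continuous, fun hS => ?_⟩⟩
  have hSs := Groth.Agent.Lib.ValLift.stableUnderSpecialization_of_hasValLift E hVL hpb S hS
  rw [← isOpen_compl_iff, isOpen_iff_forall_mem_open]
  intro z hz
  obtain ⟨U, hU, hzU, -⟩ := TopologicalSpace.Opens.isBasis_iff_nbhd.mp X.isBasis_affineOpens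
    (show i₂ z ∈ (⊤ : X.Opens) from trivial)
  obtain ⟨N, hN, hzN, hNU⟩ := TopologicalSpace.Opens.isBasis_iff_nbhd.mp Z.isBasis_affineOpens
    (show z ∈ i₂ ⁻¹ᵁ U from hzU)
  obtain ⟨F, hF, href⟩ := hE ⟨U, hU⟩
  have hN' : IsAffineOpen N := hN
  let ν : Spec Γ(Z, N) ⟶ Z := hN'.fromSpec
  haveI : IsOpenImmersion ν := by dsimp only [ν]; infer_instance
  have hνrange : Set.range ν = N := hN'.range_fromSpec
  have hsub : Set.range (ν ≫ i₂) ⊆ Set.range (Scheme.Opens.ι U) := by
    rintro _ ⟨y, rfl⟩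
    rw [Scheme.Opens.range_ι]
    have hy : ν y ∈ (N : Set Z) := hνrange ▸ Set.mem_range_self y
    exact hNU hy
  let r : Spec Γ(Z, N) ⟶ (U : Scheme.{u}) := IsOpenImmersion.lift (Scheme.Opens.ι U) (ν ≫ i₂) hsub
  have hr : r ≫ Scheme.Opens.ι U = ν ≫ i₂ := IsOpenImmersion.lift_fac _ _ _
  have hT : IsClosed (ν ⁻¹' S) :=
    Groth.Agent.Lib.ValLift.isClosed_preimage_of_isStandardV E hpb (U := ⟨U, hU⟩) F hF href ν r hr S hS hSs
  refine ⟨ν '' (ν ⁻¹' S)ᶜ, ?_, ν.isOpenEmbedding.isOpenMap _ hT.isOpen_compl, ?_⟩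
  · rintro _ ⟨y, hy, rfl⟩
    exact hy
  · have hzr : z ∈ Set.range ν := by rw [hνrange]; exact hzN
    obtain ⟨y, rfl⟩ := hzr
    exact ⟨y, hz, rfl⟩

end Groth.Agent.S7477
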