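import Groth.Statements.S7478
-- import your own Groth.Agent.* helpers here

set_option autoImplicit false
universe w u
open HTop

namespace Groth.Agent.S7478

open CategoryTheory CategoryTheory.Limits AlgebraicGeometry in
theorem isPullback_aux {T T' U X : Scheme.{u}} (g : T' ⟶ T) (f : U ⟶ T) (ι : X ⟶ U) (fX : X ⟶ T)
    (h : ι ≫ f = fX) :
    IsPullback (pullback.snd g fX)
      (pullback.lift (pullback.fst g fX) (pullback.snd g fX ≫ ι)
        (by rw [Category.assoc, h, pullback.condition]))
      ι (pullback.snd g f) := by
  subst h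
  refine IsPullback.flip ?_
  refine IsPullback.of_right (h₁₂ := pullback.fst g f) (h₂₂ := f) (v₁₃ := g) ?_ ?_ ?_
  · rw [pullback.lift_fst]
    exact (IsPullback.of_hasPullback g (ι ≫ f))
  · rw [pullback.lift_snd]
  · exact (IsPullback.of_hasPullback g f)

open CategoryTheory CategoryTheory.Limits AlgebraicGeometry in
/-- The base change of a standard ph covering along a morphism of affine schemes T' -> T is a standard
ph covering of T'. -/
theorem result {T T' : Scheme.{u}} [IsAffine T'] (g : T' ⟶ T) (E : PreZeroHypercover.{w} T) (hE : HTop.IsStandardPh E) : HTop.IsStandardPh (E.pullback₁ g) := by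
  haveI := hE.isAffine
  haveI := hE.isAffine_obj
  refine ⟨inferInstance, hE.finite_index, fun j => ?_, ?_⟩
  · show IsAffine (pullback g (E.f j))
    infer_instance
  · obtain ⟨U, f, ι, hf, hs, hι, hιf, hcov⟩ := hE.exists_proper
    refine ⟨pullback g f, pullback.fst g f, fun j =>
      (pullback.lift (pullback.fst g (E.f j)) (pullback.snd g (E.f j) ≫ ι j)
        (by rw [Category.assoc, hιf j, pullback.condition]) : pullback g (E.f j) ⟶ pullback g f),
      ?_, ?_, ?_, ?_, ?_⟩
    · exact MorphismProperty.pullback_fst (P := @IsProper) _ _ hf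
    · exact MorphismProperty.pullback_fst (P := @Surjective) _ _ hs
    · intro j
      exact MorphismProperty.of_isPullback (P := @IsOpenImmersion)
        (isPullback_aux g f (ι j) (E.f j) (hιf j)) (hι j)
    · intro j
      show pullback.lift _ _ _ ≫ pullback.fst g f = pullback.fst g (E.f j)
      exact pullback.lift_fst _ _ _
    · intro x
      obtain ⟨j, y, hy⟩ := hcov ((pullback.snd g f).base x)
      refine ⟨j, ?_⟩
      obtain ⟨p, hp1, hp2⟩ := Scheme.exists_preimage_of_isPullback
        (isPullback_aux g f (ι j) (E.f j) (hιf j)) y x hy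
      exact ⟨p, hp2⟩

end Groth.Agent.S7478
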