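import Groth.Statements.S7494

-- import your own Groth.Agent.* helpers here

set_option autoImplicit false
universe u
open CategoryTheory MonoidalCategory CartesianMonoidalCategory MonObj GrpObj AlgebraicGeometry
open AlgGrp

namespace Groth.Agent.S7494

/-- Let G be a group scheme over S acting on a scheme X over S by a. The action is free, meaning that
for every scheme T over S and all T-points g of G and x of X with g · x = x one has g = 1, if and
only if the morphism G x_S X -> X x_S X, (g, x) ↦ (a(g, x), x), is a monomorphism of schemes. -/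
theorem result {S : Scheme.{u}} (G X : Over S) [GrpObj G] (a : AlgGrp.Action G X) : (∀ (T : Over S) (g : T ⟶ G) (x : T ⟶ X), lift g x ≫ a.act = x → g = toUnit T ≫ η[G]) ↔ Mono (lift a.act (snd G X)).left := by
  have one_smul : ∀ (T : Over S) (x : T ⟶ X), lift (1 : T ⟶ G) x ≫ a.act = x := by
    intro T x
    have e1 : lift (1 : T ⟶ G) x = lift (toUnit T) x ≫ (η[G] ▷ X) := by
      rw [lift_whiskerRight]
      rfl
    rw [e1, Category.assoc, a.one_act, lift_leftUnitor_hom]
  have mul_smul : ∀ (T : Over S) (g h : T ⟶ G) (x : T ⟶ X),
      lift (g * h) x ≫ a.act = lift g (lift h x ≫ a.act) ≫ a.act := by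
    intro T g h x
    have e1 : lift (g * h) x = lift (lift g h) x ≫ (μ[G] ▷ X) := by
      rw [lift_whiskerRight]
      rfl
    rw [e1, Category.assoc, a.mul_act, lift_lift_associator_hom_assoc, lift_whiskerLeft_assoc]
  constructor
  · intro hfree
    haveI : Mono (lift a.act (snd G X)) := by
      constructor
      intro T p q hpq
      have h1 : p ≫ snd G X = q ≫ snd G X := by
        have h := congrArg (· ≫ snd X X) hpq
        simpa [Category.assoc] using h
      have h2 : p ≫ a.act = q ≫ a.act := by
        have h := congrArg (· ≫ fst X X) hpq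
        simpa [Category.assoc] using h
      have hp : p = lift (p ≫ fst G X) (p ≫ snd G X) := (lift_comp_fst_snd p).symm
      have hq : q = lift (q ≫ fst G X) (p ≫ snd G X) := by
        rw [h1]
        exact (lift_comp_fst_snd q).symm
      have h3 : lift (p ≫ fst G X) (p ≫ snd G X) ≫ a.act =
          lift (q ≫ fst G X) (p ≫ snd G X) ≫ a.act := by
        rw [← hp, ← hq]
        exact h2
      have h4 : lift ((q ≫ fst G X)⁻¹ * (p ≫ fst G X)) (p ≫ snd G X) ≫ a.act = p ≫ snd G X := by
        rw [mul_smul, h3, ← mul_smul, inv_mul_cancel, one_smul]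
      have h5 : (q ≫ fst G X)⁻¹ * (p ≫ fst G X) = 1 := hfree T _ _ h4
      have h6 : p ≫ fst G X = q ≫ fst G X := by
        have h := congrArg (fun z => (q ≫ fst G X) * z) h5
        simpa [mul_assoc] using h
      rw [hp, hq, h6]
    infer_instance
  · intro hmono
    haveI : Mono (lift a.act (snd G X)) := Over.mono_of_mono_left _
    intro T g x hgx
    have h : lift g x ≫ lift a.act (snd G X) = lift (1 : T ⟶ G) x ≫ lift a.act (snd G X) := by
      rw [comp_lift, comp_lift, hgx, one_smul, lift_snd, lift_snd]
    have h' := (cancel_mono _).1 h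
    have h'' := congrArg (· ≫ fst G X) h'
    have h3 : g = (1 : T ⟶ G) := by simpa using h''
    rw [h3]
    rfl

end Groth.Agent.S7494
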