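import Groth.Statements.S7496

-- import your own Groth.Agent.* helpers here

set_option autoImplicit false
universe w u
open CategoryTheory CategoryTheory.Limits AlgebraicGeometry
open HTop

namespace Groth.Agent.S7496

/-- Let T be a quasi-separated scheme and {f_i : T_i -> T} a family of morphisms. Then every affine open
of T is the union of the images of finitely many quasi-compact opens of the T_i (the
quasi-compactness condition in the definition of an fpqc covering) if and only if for every point t
of T there are finitely many quasi-compact opens U_j of members T_(i_j) such that the union of the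
f_(i_j)(U_j) is a neighbourhood of t. (The published statement also asks every f_i to be flat, on
both sides, and lists two more equivalent forms of the quasi-compactness condition; this row omits
flatness, which plays no part in the equivalence, and states only the equivalence of the
quasi-compactness condition with the neighbourhood condition.) -/
theorem result {T : Scheme.{u}} [QuasiSeparatedSpace T] (E : PreZeroHypercover.{w} T) : QuasiCompactCover E ↔ ∀ t : T, ∃ (n : ℕ) (i : Fin n → E.I₀) (V : ∀ j, (E.X (i j)).Opens), (∀ j, IsCompact (V j : Set (E.X (i j)))) ∧ (⋃ j, ⇑(E.f (i j)) '' (V j : Set (E.X (i j)))) ∈ nhds t := by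
  constructor
  · intro h t
    obtain ⟨U, hU, htU, -⟩ := TopologicalSpace.Opens.isBasis_iff_nbhd.mp T.isBasis_affineOpens
      (TopologicalSpace.Opens.mem_top t)
    obtain ⟨n, a, V, hV, heq⟩ :=
      QuasiCompactCover.exists_isAffineOpen_of_isCompact E (U := U) hU.isCompact
    refine ⟨n, a, V, fun j => (hV j).isCompact, ?_⟩
    rw [heq]
    exact U.2.mem_nhds htU
  · intro h
    refine ⟨fun {U} hU => ?_⟩
    apply IsCompactOpenCovered.of_isCompact_of_forall_exists_isCompactOpenCovered hU.isCompact
    intro t htU
    obtain ⟨n, a, V, hVc, hnhds⟩ := h t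
    obtain ⟨O, hON, hOopen, htO⟩ := mem_nhds_iff.1 hnhds
    obtain ⟨W, hW, htW, hWle⟩ := TopologicalSpace.Opens.isBasis_iff_nbhd.mp T.isBasis_affineOpens
      (show t ∈ (⟨O, hOopen⟩ : T.Opens) ⊓ U from ⟨htO, htU⟩)
    refine ⟨W, fun x hx => (hWle hx).2, htW, W.2, ?_⟩
    refine IsCompactOpenCovered.of_finite (κ := Fin n) a
      (fun j => V j ⊓ (E.f (a j)) ⁻¹ᵁ W) (fun j => ?_) ?_
    · haveI : CompactSpace ↥(V j).toScheme := isCompact_iff_compactSpace.1 (hVc j)
      haveI : QuasiCompact ((V j).ι ≫ E.f (a j)) := quasiCompact_of_compactSpace _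
      have hc := QuasiCompact.isCompact_preimage (f := (V j).ι ≫ E.f (a j)) _ W.2 hW.isCompact
      have hc' := hc.image (V j).ι.continuous
      convert hc' using 1
      ext x
      constructor
      · rintro ⟨hxV, hxW⟩
        exact ⟨⟨x, hxV⟩, hxW, rfl⟩
      · rintro ⟨y, hy, rfl⟩
        exact ⟨y.2, hy⟩
    · apply Set.Subset.antisymm
      · intro x hx
        obtain ⟨j, hj⟩ := Set.mem_iUnion.1 hx
        obtain ⟨y, ⟨_, hyW⟩, rfl⟩ := hj
        exact hyW
      · intro x hx
        have hx' : x ∈ ⋃ j, ⇑(E.f (a j)) '' (V j : Set _) := hON ((hWle hx).1)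
        obtain ⟨j, y, hy, rfl⟩ := Set.mem_iUnion.1 hx'
        exact Set.mem_iUnion.2 ⟨j, y, ⟨hy, hx⟩, rfl⟩

end Groth.Agent.S7496
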