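import Groth.Statements.S7501
import Mathlib
import Groth.Agent.Lib.VSheaf3_helper6
-- import your own Groth.Agent.* helpers here

set_option autoImplicit false
universe w u
open HTop

namespace Groth.Agent.S7501

open CategoryTheory CategoryTheory.Limits AlgebraicGeometry in
/-- Let F be a presheaf of sets on the category of schemes. If F is a sheaf for the Zariski topology
and, for every proper surjective morphism f : V -> U, F has the sheaf property for the one-arrow
family {f} (sections over V whose two pullbacks to V x_U V agree come from exactly one section over
U), then F has the sheaf property for every ph covering. (The published statement is an equivalence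
for presheaves on the big ph site of a base scheme and adds that, for a Zariski sheaf, the condition
on proper surjective morphisms may be asked only for affine targets; this row states, for presheaves
on all schemes, only that the two conditions imply the sheaf property for ph coverings.) -/
theorem result (F : Scheme.{u}ᵒᵖ ⥤ Type w) (h₁ : Presieve.IsSheaf Scheme.zariskiTopology F) (h₂ : ∀ (U V : Scheme.{u}) (f : V ⟶ U), IsProper f → Surjective f → Presieve.IsSheafFor F (Presieve.singleton f)) : HTop.IsPhSheaf F := by

  intro X R hR
  rw [HTop.phPrecoverage, PreZeroHypercoverFamily.mem_precoverage_iff] at hR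
  obtain ⟨E, hE, rfl⟩ := hR
  exact Groth.Agent.Lib.VSheaf.isSheafFor_of_locally_refined h₁ (fun T G => HTop.IsStandardPh G)
    (fun T G hG => Groth.Agent.Lib.VSheaf.isSheafFor_of_isStandardPh h₁ h₂ G hG)
    (fun T G hG W g a b hab => Groth.Agent.Lib.VSheaf.sep_of_isStandardPh h₁ h₂ G hG g a b hab)
    E hE.2

end Groth.Agent.S7501
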