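import Groth.Statements.S7502
import Mathlib
import Groth.Agent.Lib.Fpqc2_helper8
import Groth.Agent.Lib.Desc3_helper8
import Groth.Agent.Lib.CohDev14_helper8
import Groth.Agent.Lib.QcqsLoc_helper9
import Groth.Agent.Lib.QCohPb_helper9

set_option autoImplicit false
universe u
open CategoryTheory CategoryTheory.Limits AlgebraicGeometry
open Coh

namespace Groth.Agent.S7502

/-- Let f : Y -> X be a morphism of schemes which is quasi-compact, quasi-separated, flat and
surjective, with X and Y locally Noetherian. Let F be a quasi-coherent O_X-module, G a coherent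
O_Y-module and φ : G -> f^*F an injective map of O_Y-modules. Then the O_X-module F ∩ f_*G, defined
as the fibre product of the adjunction unit F -> f_*f^*F with f_*φ : f_*G -> f_*f^*F, is coherent.
('Coherent' is quasi-coherent of finite type, the usual notion on locally Noetherian schemes.) -/
theorem result {X Y : Scheme.{u}} (f : Y ⟶ X) [QuasiCompact f] [QuasiSeparated f] [Flat f] [Surjective f] [IsLocallyNoetherian X] [IsLocallyNoetherian Y] (F : X.Modules) (hF : Coh.IsQCoh F) (G : Y.Modules) (hG : Coh.IsCoh G) (φ : G ⟶ (Scheme.Modules.pullback f).obj F) [Mono φ] : Coh.IsCoh (Limits.pullback ((Scheme.Modules.pullbackPushforwardAdjunction f).unit.app F) ((Scheme.Modules.pushforward f).map φ)) := by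
  haveI : F.IsQuasicoherent := hF
  haveI : G.IsQuasicoherent := hG.1
  have hfG : ((Scheme.Modules.pushforward f).obj G).IsQuasicoherent :=
    QcqsLoc.isQuasicoherent_pushforward_qcqs f G
  haveI hfF : ((Scheme.Modules.pullback f).obj F).IsQuasicoherent := inferInstance
  have hffF : ((Scheme.Modules.pushforward f).obj
      ((Scheme.Modules.pullback f).obj F)).IsQuasicoherent :=
    QcqsLoc.isQuasicoherent_pushforward_qcqs f _
  have hP : (Limits.pullback ((Scheme.Modules.pullbackPushforwardAdjunction f).unit.app F)
      ((Scheme.Modules.pushforward f).map φ)).IsQuasicoherent :=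
    QCohPb.isQuasicoherent_pullback _ _ hF hfG hffF
  haveI := hP
  haveI : Mono ((Scheme.Modules.pushforward f).map φ) := inferInstance
  let p₁ : Limits.pullback ((Scheme.Modules.pullbackPushforwardAdjunction f).unit.app F)
      ((Scheme.Modules.pushforward f).map φ) ⟶ F :=
    pullback.fst ((Scheme.Modules.pullbackPushforwardAdjunction f).unit.app F)
      ((Scheme.Modules.pushforward f).map φ)
  haveI : Mono p₁ := by dsimp only [p₁]; infer_instance
  let a : (Scheme.Modules.pullback f).obj
      (Limits.pullback ((Scheme.Modules.pullbackPushforwardAdjunction f).unit.app F)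
        ((Scheme.Modules.pushforward f).map φ)) ⟶ G :=
    ((Scheme.Modules.pullbackPushforwardAdjunction f).homEquiv _ _).symm
      (pullback.snd ((Scheme.Modules.pullbackPushforwardAdjunction f).unit.app F)
        ((Scheme.Modules.pushforward f).map φ))
  have ha : a ≫ φ = (Scheme.Modules.pullback f).map p₁ := by
    apply ((Scheme.Modules.pullbackPushforwardAdjunction f).homEquiv _ _).injective
    rw [Adjunction.homEquiv_naturality_right, Equiv.apply_symm_apply, ← pullback.condition,
      Adjunction.homEquiv_unit]
    exact (Scheme.Modules.pullbackPushforwardAdjunction f).unit.naturality p₁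
  haveI : Mono ((Scheme.Modules.pullback f).map p₁) := DescH8.mono_pullback_of_flat p₁ f
  haveI : Mono a := mono_of_mono_fac ha
  have hfP : Coh.IsCoh ((Scheme.Modules.pullback f).obj
      (Limits.pullback ((Scheme.Modules.pullbackPushforwardAdjunction f).unit.app F)
        ((Scheme.Modules.pushforward f).map φ))) :=
    CohDevH8.isCoh_of_mono a inferInstance hG
  haveI := hfP.2
  exact ⟨hP, FpqcH8.isFiniteType_of_pullback f _⟩

end Groth.Agent.S7502
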