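import Groth.Statements.S7511
import Mathlib
-- import your own Groth.Agent.* helpers here

set_option autoImplicit false
universe u
open CategoryTheory CategoryTheory.Limits AlgebraicGeometry
open HTop

namespace Groth.Agent.S7511

/-- Let {f_i : T_i -> T} be a family of morphisms of schemes (indexed by a type in the universe of T, so
that the coproduct exists). Then it is an fpqc covering if and only if the one-arrow family
consisting of the induced morphism from the coproduct of the T_i to T is an fpqc covering. -/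
theorem result {T : Scheme.{u}} (E : PreZeroHypercover.{u} T) : E.presieve₀ ∈ Scheme.fpqcPrecoverage T ↔ Presieve.singleton (Sigma.desc E.f) ∈ Scheme.fpqcPrecoverage T := by

  have hsing : Presieve.singleton (Sigma.desc E.f) =
      (PreZeroHypercover.singleton.{u} (Sigma.desc E.f)).presieve₀ :=
    (PreZeroHypercover.presieve₀_singleton _).symm
  rw [hsing]
  show E.presieve₀ ∈ Scheme.propQCPrecoverage @Flat T ↔ _ ∈ Scheme.propQCPrecoverage @Flat T
  constructor
  · rintro ⟨hqc, hfl⟩
    rw [Scheme.presieve₀_mem_qcPrecoverage_iff] at hqc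
    rw [Scheme.presieve₀_mem_precoverage_iff] at hfl
    refine ⟨?_, ?_⟩
    · rw [Scheme.presieve₀_mem_qcPrecoverage_iff]
      exact QuasiCompactCover.of_hom (𝒱 := E)
        ⟨fun _ => PUnit.unit, fun i => Sigma.ι E.X i, fun i => Sigma.ι_desc _ _⟩
    · rw [Scheme.presieve₀_mem_precoverage_iff]
      refine ⟨fun t => ?_, fun _ => IsZariskiLocalAtSource.sigmaDesc hfl.2⟩
      obtain ⟨i, x, rfl⟩ := hfl.1 t
      refine ⟨PUnit.unit, Sigma.ι E.X i x, ?_⟩
      show (Sigma.desc E.f) (Sigma.ι E.X i x) = E.f i x
      rw [← Scheme.Hom.comp_apply, Sigma.ι_desc]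
  · rintro ⟨hqc, hfl⟩
    rw [Scheme.presieve₀_mem_qcPrecoverage_iff] at hqc
    rw [Scheme.presieve₀_mem_precoverage_iff] at hfl
    have hflat : Flat (Sigma.desc E.f) := hfl.2 PUnit.unit
    refine ⟨?_, ?_⟩
    · rw [Scheme.presieve₀_mem_qcPrecoverage_iff]
      let B : PreZeroHypercover.{u} T := (PreZeroHypercover.singleton.{u} (Sigma.desc E.f)).bind
        (fun _ => (sigmaOpenCover E.X).toPreZeroHypercover)
      haveI h2 : ∀ x : (PreZeroHypercover.singleton.{u} (Sigma.desc E.f)).I₀,
          QuasiCompactCover ((fun _ => (sigmaOpenCover E.X).toPreZeroHypercover :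
            ∀ i, PreZeroHypercover.{u} ((PreZeroHypercover.singleton.{u} (Sigma.desc E.f)).X i)) x) :=
        fun _ => inferInstanceAs (QuasiCompactCover (sigmaOpenCover E.X).toPreZeroHypercover)
      haveI : QuasiCompactCover B :=
        @AlgebraicGeometry.QuasiCompactCover.instBindScheme _ _ hqc _ h2
      exact QuasiCompactCover.of_hom (𝒱 := B)
        ⟨fun p => p.2, fun p => 𝟙 _, fun p => by
          show 𝟙 _ ≫ E.f p.2 = Sigma.ι E.X p.2 ≫ Sigma.desc E.f
          rw [Category.id_comp, Sigma.ι_desc]⟩
    · rw [Scheme.presieve₀_mem_precoverage_iff]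
      refine ⟨fun t => ?_, fun i => ?_⟩
      · obtain ⟨_, y, rfl⟩ := hfl.1 t
        obtain ⟨i, x, hx⟩ := (sigmaOpenCover E.X).exists_eq y
        refine ⟨i, x, ?_⟩
        have hx' : Sigma.ι E.X i x = y := hx
        show E.f i x = (Sigma.desc E.f) y
        rw [← hx', ← Scheme.Hom.comp_apply, Sigma.ι_desc]
      · have : E.f i = Sigma.ι E.X i ≫ Sigma.desc E.f := (Sigma.ι_desc _ _).symm
        rw [this]
        infer_instance

end Groth.Agent.S7511
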