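import Groth.Statements.S7512
import Mathlib
-- import your own Groth.Agent.* helpers here

set_option autoImplicit false
universe w u
open HTop

namespace Groth.Agent.S7512

open CategoryTheory CategoryTheory.Limits AlgebraicGeometry in
/-- Let {f_i : T_i -> T} be a family of flat morphisms of schemes. Assume that for every affine scheme Z
and every morphism h : Z -> T there is a standard fpqc covering of Z (a finite family of flat
morphisms Z_j -> Z with Z_j affine whose images cover Z) refining the family of base changes {T_i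
x_T Z -> Z} (every Z_j -> Z factors through some T_i compatibly with h). Then {f_i : T_i -> T} is an
fpqc covering (in Mathlib's sense). -/
theorem result {T : Scheme.{u}} (E : PreZeroHypercover.{w} T) (hflat : ∀ i, Flat (E.f i)) (href : ∀ (Z : Scheme.{u}) [IsAffine Z] (h : Z ⟶ T), ∃ F : PreZeroHypercover.{0} Z, Finite F.I₀ ∧ (∀ j, IsAffine (F.X j)) ∧ (∀ j, Flat (F.f j)) ∧ (∀ z : Z, ∃ (j : F.I₀) (x : F.X j), F.f j x = z) ∧ HTop.RefinesOver h F E) : E.presieve₀ ∈ Scheme.fpqcPrecoverage T := by

  show E.presieve₀ ∈ Scheme.propQCPrecoverage @Flat T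
  refine ⟨?_, ?_⟩
  · rw [Scheme.presieve₀_mem_qcPrecoverage_iff]
    refine ⟨fun {U} hU => ?_⟩
    haveI : IsAffine (U : Scheme.{u}) := hU
    obtain ⟨F, hfin, haff, -, hsurj, hrefF⟩ := href U U.ι
    choose i k hk using hrefF
    haveI := hfin
    refine IsCompactOpenCovered.of_comp (fun j => ⇑(F.f j ≫ U.ι)) (a := i) (fun j => ⇑(k j))
      (fun j => (k j).continuous) (fun j => ?_) (fun i => (E.f i).continuous) U.2 ?_
    · rw [← hk j]
      rfl
    · refine IsCompactOpenCovered.of_finite (κ := F.I₀) (a := id) (fun j => ⊤) (fun j => ?_) ?_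
      · haveI := haff j
        exact isCompact_univ
      · ext t
        simp only [Set.mem_iUnion]
        constructor
        · rintro ⟨j, x, -, rfl⟩
          exact (F.f j x).2
        · intro ht
          obtain ⟨j, x, hx⟩ := hsurj ⟨t, ht⟩
          refine ⟨j, x, trivial, ?_⟩
          show (F.f j ≫ U.ι) x = t
          rw [Scheme.Hom.comp_apply, hx]
          rfl
  · rw [Scheme.presieve₀_mem_precoverage_iff]
    refine ⟨fun t => ?_, hflat⟩
    obtain ⟨U, hU, htU, -⟩ := TopologicalSpace.Opens.isBasis_iff_nbhd.mp T.isBasis_affineOpens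
      (show t ∈ (⊤ : T.Opens) from trivial)
    haveI : IsAffine (U : Scheme.{u}) := hU
    obtain ⟨F, -, -, -, hsurj, hrefF⟩ := href U (Scheme.Opens.ι U)
    obtain ⟨j, x, hx⟩ := hsurj ⟨t, htU⟩
    obtain ⟨i, k, hk⟩ := hrefF j
    refine ⟨i, k x, ?_⟩
    rw [← Scheme.Hom.comp_apply, hk, Scheme.Hom.comp_apply, hx]
    rfl

end Groth.Agent.S7512
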