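import Groth.Statements.S7521
import Groth.Agent.Lib.FinDesc4_helper6
import Groth.Agent.Lib.Tens32_helper8

set_option autoImplicit false
open CategoryTheory CategoryTheory.Limits AlgebraicGeometry
universe u
open Desc

namespace Groth.Agent.S7521

/-- Let p : X -> Y be a surjective finite locally free morphism and V a scheme over X which has an
invertible module ample relative to V -> X. Then every descent datum on V relative to p is
effective. (A quasi-projective morphism V -> X, in particular a projective one, carries such a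
module.) (Descent data are taken in functor-of-points form.) -/
theorem result {X Y : Scheme.{u}} (p : X ⟶ Y) [Surjective p] [IsFinite p] [Flat p] [LocallyOfFinitePresentation p] (D : Desc.SchDD p) (L : D.obj.left.Modules) (hL : RelAmple.IsRelAmple D.obj.hom L) : ∃ W : Over Y, Nonempty ((Desc.toDD p).obj W ≅ D) := by
  apply Groth.Agent.Lib.FinDescH6.effective_of_orbits p D
  intro v
  obtain ⟨_, ⟨Ya, hYa, rfl⟩, hyYa, -⟩ := Y.isBasis_affineOpens.exists_subset_of_mem_open
    (Set.mem_univ (p (D.obj.hom v))) isOpen_univ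
  have hXa : IsAffineOpen (p ⁻¹ᵁ Ya) := hYa.preimage p
  have hamp := hL.2 ⟨p ⁻¹ᵁ Ya, hXa⟩
  let Va : D.obj.left.Opens := D.obj.hom ⁻¹ᵁ (p ⁻¹ᵁ Ya)
  have hOVa : Groth.Agent.Lib.FinDescH6.orbit p D v ⊆ Va := by
    intro v' hv'
    show p (D.obj.hom v') ∈ Ya
    rw [Groth.Agent.Lib.FinDescH6.orbit_base p D hv']
    exact hyYa
  have hfin : (Va.ι ⁻¹' Groth.Agent.Lib.FinDescH6.orbit p D v).Finite :=
    (Groth.Agent.Lib.FinDescH6.finite_orbit p D v).preimage
      Va.ι.isOpenEmbedding.injective.injOn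
  haveI : CompactSpace Va.toScheme := hamp.2.1
  obtain ⟨n, s, h1, -, h3⟩ := TensH8.exists_affine_genLocus_of_finite hamp
    (Va.ι ⁻¹' Groth.Agent.Lib.FinDescH6.orbit p D v) hfin ⊤ (fun _ _ => trivial)
  refine ⟨Va.ι ''ᵁ _, h3.image_of_isOpenImmersion Va.ι, ?_⟩
  intro v' hv'
  exact ⟨⟨v', hOVa hv'⟩, h1 hv', rfl⟩

end Groth.Agent.S7521
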