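import Groth.Statements.S7522
-- import your own Groth.Agent.* helpers here

set_option autoImplicit false
universe u
open CategoryTheory CategoryTheory.Limits AlgebraicGeometry
open Grpd

namespace Groth.Agent.S7522

/-- Let S be a scheme, U a scheme over S and j : R -> U x_S U a pre-equivalence relation, that is a
morphism such that for every scheme T the image of the T-points of R in pairs of T-points of U is an
equivalence relation; write t = pr_0 ∘ j and s = pr_1 ∘ j. Then the relation on the points of U in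
which x ∼ y when some point r of R has t(r) = x and s(r) = y is an equivalence relation. -/
theorem result {S U R : Scheme.{u}} (pU : U ⟶ S) (j : R ⟶ pullback pU pU) (hj : ∀ T : Scheme.{u}, Equivalence (fun a b : T ⟶ U => ∃ r : T ⟶ R, r ≫ j ≫ pullback.fst pU pU = a ∧ r ≫ j ≫ pullback.snd pU pU = b)) : Equivalence (fun x y : ↥U => ∃ r : R, (j ≫ pullback.fst pU pU) r = x ∧ (j ≫ pullback.snd pU pU) r = y) := by
  refine ⟨?_, ?_, ?_⟩
  · intro x
    obtain ⟨r, h1, h2⟩ := (hj (Spec (U.residueField x))).refl (U.fromSpecResidueField x)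
    refine ⟨r default, ?_, ?_⟩
    · calc (j ≫ pullback.fst pU pU) (r default)
          = (r ≫ j ≫ pullback.fst pU pU) default := (Scheme.Hom.comp_apply _ _ _).symm
        _ = (U.fromSpecResidueField x) default := by rw [h1]
        _ = x := Scheme.fromSpecResidueField_apply x _
    · calc (j ≫ pullback.snd pU pU) (r default)
          = (r ≫ j ≫ pullback.snd pU pU) default := (Scheme.Hom.comp_apply _ _ _).symm
        _ = (U.fromSpecResidueField x) default := by rw [h2]
        _ = x := Scheme.fromSpecResidueField_apply x _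
  · rintro x y ⟨r, hx, hy⟩
    obtain ⟨ι, hι⟩ : ∃ ι : Spec (R.residueField r) ⟶ R, ∀ s, ι s = r :=
      ⟨R.fromSpecResidueField r, fun s => Scheme.fromSpecResidueField_apply r s⟩
    obtain ⟨r', h1, h2⟩ := (hj (Spec (R.residueField r))).symm ⟨ι, rfl, rfl⟩
    refine ⟨r' default, ?_, ?_⟩
    · calc (j ≫ pullback.fst pU pU) (r' default)
          = (r' ≫ j ≫ pullback.fst pU pU) default := (Scheme.Hom.comp_apply _ _ _).symm
        _ = (ι ≫ j ≫ pullback.snd pU pU) default := by rw [h1]
        _ = (j ≫ pullback.snd pU pU) (ι default) := Scheme.Hom.comp_apply _ _ _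
        _ = y := by rw [hι, hy]
    · calc (j ≫ pullback.snd pU pU) (r' default)
          = (r' ≫ j ≫ pullback.snd pU pU) default := (Scheme.Hom.comp_apply _ _ _).symm
        _ = (ι ≫ j ≫ pullback.fst pU pU) default := by rw [h2]
        _ = (j ≫ pullback.fst pU pU) (ι default) := Scheme.Hom.comp_apply _ _ _
        _ = x := by rw [hι, hx]
  · rintro x y z ⟨r1, hx1, hy1⟩ ⟨r2, hy2, hz2⟩
    obtain ⟨w, hw1, hw2⟩ := Scheme.Pullback.exists_preimage_pullback
      (f := j ≫ pullback.snd pU pU) (g := j ≫ pullback.fst pU pU) r1 r2 (hy1.trans hy2.symm)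
    obtain ⟨ι, hι⟩ : ∃ ι : Spec ((pullback (j ≫ pullback.snd pU pU)
        (j ≫ pullback.fst pU pU)).residueField w) ⟶
        pullback (j ≫ pullback.snd pU pU) (j ≫ pullback.fst pU pU), ∀ s, ι s = w :=
      ⟨Scheme.fromSpecResidueField _ w, fun s => Scheme.fromSpecResidueField_apply w s⟩
    have hcond : (ι ≫ pullback.snd (j ≫ pullback.snd pU pU) (j ≫ pullback.fst pU pU)) ≫
        j ≫ pullback.fst pU pU =
        (ι ≫ pullback.fst (j ≫ pullback.snd pU pU) (j ≫ pullback.fst pU pU)) ≫
        j ≫ pullback.snd pU pU := by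
      rw [Category.assoc, Category.assoc, ← pullback.condition]
    obtain ⟨r3, h1, h2⟩ := (hj _).trans
      ⟨ι ≫ pullback.fst (j ≫ pullback.snd pU pU) (j ≫ pullback.fst pU pU), rfl, rfl⟩
      ⟨ι ≫ pullback.snd (j ≫ pullback.snd pU pU) (j ≫ pullback.fst pU pU), hcond, rfl⟩
    have e1 : (ι ≫ pullback.fst (j ≫ pullback.snd pU pU) (j ≫ pullback.fst pU pU)) default
        = r1 := by
      rw [Scheme.Hom.comp_apply, hι, hw1]
    have e2 : (ι ≫ pullback.snd (j ≫ pullback.snd pU pU) (j ≫ pullback.fst pU pU)) default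
        = r2 := by
      rw [Scheme.Hom.comp_apply, hι, hw2]
    refine ⟨r3 default, ?_, ?_⟩
    · calc (j ≫ pullback.fst pU pU) (r3 default)
          = (r3 ≫ j ≫ pullback.fst pU pU) default := (Scheme.Hom.comp_apply _ _ _).symm
        _ = ((ι ≫ pullback.fst (j ≫ pullback.snd pU pU) (j ≫ pullback.fst pU pU)) ≫
              j ≫ pullback.fst pU pU) default := by rw [h1]
        _ = (j ≫ pullback.fst pU pU)
              ((ι ≫ pullback.fst (j ≫ pullback.snd pU pU) (j ≫ pullback.fst pU pU)) default) :=
            Scheme.Hom.comp_apply _ _ _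
        _ = x := by rw [e1, hx1]
    · calc (j ≫ pullback.snd pU pU) (r3 default)
          = (r3 ≫ j ≫ pullback.snd pU pU) default := (Scheme.Hom.comp_apply _ _ _).symm
        _ = ((ι ≫ pullback.snd (j ≫ pullback.snd pU pU) (j ≫ pullback.fst pU pU)) ≫
              j ≫ pullback.snd pU pU) default := by rw [h2]
        _ = (j ≫ pullback.snd pU pU)
              ((ι ≫ pullback.snd (j ≫ pullback.snd pU pU) (j ≫ pullback.fst pU pU)) default) :=
            Scheme.Hom.comp_apply _ _ _
        _ = z := by rw [e2, hz2]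

end Groth.Agent.S7522
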