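import Groth.Statements.S7527
import Groth.Agent.Lib.SpecSp_lead

set_option autoImplicit false
universe u
open SpecSp

namespace Groth.Agent.S7527

/-- Let X be a spectral space and x, y ∈ X. Then either there is a third point specializing to both x
and y, or there are disjoint open neighbourhoods of x and of y. -/
theorem result {X : Type u} [TopologicalSpace X] [SpectralSpace X] (x y : X) :
    (∃ z : X, z ⤳ x ∧ z ⤳ y) ∨
    (∃ U V : Set X, IsOpen U ∧ IsOpen V ∧ x ∈ U ∧ y ∈ V ∧ Disjoint U V) := by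
  by_cases hd : ∃ U V : Set X, IsOpen U ∧ IsOpen V ∧ x ∈ U ∧ y ∈ V ∧ Disjoint U V
  · exact Or.inr hd
  · left
    push Not at hd
    let ι := {p : Set X × Set X //
      (IsOpen p.1 ∧ IsCompact p.1 ∧ x ∈ p.1) ∧ (IsOpen p.2 ∧ IsCompact p.2 ∧ y ∈ p.2)}
    have hcl : ∀ i : ι, @IsClosed X (constructibleTopology X) (i.1.1 ∩ i.1.2) := fun i =>
      Groth.Agent.Lib.SpecSp_lead.isClosed_constructibleTopology_of_isCompact_isOpen
        (i.2.1.2.1.inter_of_isOpen i.2.2.2.1 i.2.1.1 i.2.2.1) (i.2.1.1.inter i.2.2.1)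
    have huniv : @IsCompact X (constructibleTopology X) Set.univ :=
      Groth.Agent.Lib.SpecSp_lead.isCompact_constructibleTopology_of_isClosed
        (Groth.Agent.Lib.SpecSp_lead.isClosed_constructibleTopology_of_isClosed isClosed_univ)
    have hfin : ∀ u : Finset ι, (Set.univ ∩ ⋂ i ∈ u, (i.1.1 ∩ i.1.2)).Nonempty := by
      intro u
      have hopen1 : IsOpen (⋂ i ∈ u, (i : Set X × Set X).1) :=
        isOpen_biInter_finset fun i _ => i.2.1.1
      have hopen2 : IsOpen (⋂ i ∈ u, (i : Set X × Set X).2) :=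
        isOpen_biInter_finset fun i _ => i.2.2.1
      have hmem1 : x ∈ ⋂ i ∈ u, (i : Set X × Set X).1 := by
        simp only [Set.mem_iInter]; exact fun i _ => i.2.1.2.2
      have hmem2 : y ∈ ⋂ i ∈ u, (i : Set X × Set X).2 := by
        simp only [Set.mem_iInter]; exact fun i _ => i.2.2.2.2
      have hnd := hd _ _ hopen1 hopen2 hmem1 hmem2
      rw [Set.not_disjoint_iff] at hnd
      obtain ⟨z, hz1, hz2⟩ := hnd
      refine ⟨z, trivial, ?_⟩
      simp only [Set.mem_iInter, Set.mem_inter_iff] at hz1 hz2 ⊢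
      exact fun i hi => ⟨hz1 i hi, hz2 i hi⟩
    obtain ⟨z, -, hz⟩ := @IsCompact.inter_iInter_nonempty X (constructibleTopology X) Set.univ ι
      huniv (fun i => i.1.1 ∩ i.1.2) hcl hfin
    refine ⟨z, specializes_iff_forall_open.2 fun s hs hxs => ?_,
      specializes_iff_forall_open.2 fun s hs hys => ?_⟩
    · obtain ⟨U, ⟨hUo, hUc⟩, hxU, hUs⟩ :=
        PrespectralSpace.isTopologicalBasis.exists_subset_of_mem_open hxs hs
      exact hUs (Set.mem_iInter.1 hz
        ⟨(U, Set.univ), ⟨hUo, hUc, hxU⟩, ⟨isOpen_univ, isCompact_univ, trivial⟩⟩).1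
    · obtain ⟨V, ⟨hVo, hVc⟩, hyV, hVs⟩ :=
        PrespectralSpace.isTopologicalBasis.exists_subset_of_mem_open hys hs
      exact hVs (Set.mem_iInter.1 hz
        ⟨(Set.univ, V), ⟨isOpen_univ, isCompact_univ, trivial⟩, ⟨hVo, hVc, hyV⟩⟩).2

end Groth.Agent.S7527
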