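import Groth.Statements.S7528
import Groth.Agent.Lib.SpecSp_lead

set_option autoImplicit false
universe u
open SpecSp

namespace Groth.Agent.S7528

/-- For a spectral space X the following are equivalent: (1) X is profinite, i.e. quasi-compact,
Hausdorff and totally disconnected (quasi-compactness being automatic); (2) X is Hausdorff; (3) X is
totally disconnected; (4) every quasi-compact open subset is closed; (5) there are no nontrivial
specializations between points; (6) every point is closed; (7) every point is the generic point of
an irreducible component; (8) the constructible topology coincides with the topology of X. -/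
theorem result (X : Type u) [tX : TopologicalSpace X] [SpectralSpace X] :
    List.TFAE [
      T2Space X ∧ TotallyDisconnectedSpace X,
      T2Space X,
      TotallyDisconnectedSpace X,
      ∀ U : Set X, IsOpen U → IsCompact U → IsClosed U,
      ∀ x y : X, x ⤳ y → x = y,
      ∀ x : X, IsClosed ({x} : Set X),
      ∀ x : X, closure ({x} : Set X) ∈ irreducibleComponents X,
      constructibleTopology X = tX] := by
  tfae_have 1 → 2 := And.left
  tfae_have 1 → 3 := And.right
  tfae_have 2 → 4 := fun h U _ hc => hc.isClosed
  tfae_have 4 → 8 := by
    intro h
    apply le_antisymm Groth.Agent.Lib.SpecSp_lead.constructibleTopology_le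
    rw [constructibleTopology, TopologicalSpace.le_generateFrom_iff_subset_isOpen]
    rintro s (⟨hso, -⟩ | ⟨hscl, hsc⟩)
    · exact hso
    · have := h _ hscl.isOpen_compl hsc
      exact isClosed_compl_iff.1 this
  tfae_have 8 → 1 := by
    intro h
    have h1 := Groth.Agent.Lib.SpecSp_lead.t2Space_constructibleTopology (X := X)
    have h2 := Groth.Agent.Lib.SpecSp_lead.totallySeparatedSpace_constructibleTopology (X := X)
    rw [h] at h1 h2
    exact ⟨h1, inferInstance⟩
  tfae_have 3 → 5 := by
    intro h x y hxy
    have hpre : IsPreconnected (closure ({x} : Set X)) := isPreconnected_singleton.closure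
    exact hpre.subsingleton (subset_closure rfl) (specializes_iff_mem_closure.1 hxy)
  tfae_have 5 → 6 := by
    intro h x
    rw [← closure_subset_iff_isClosed]
    intro y hy
    exact (h x y (specializes_iff_mem_closure.2 hy)).symm
  tfae_have 6 → 7 := by
    intro h x
    refine ⟨isIrreducible_singleton.closure, fun S hS hle => ?_⟩
    obtain ⟨ξ, hξ⟩ := QuasiSober.sober hS.closure isClosed_closure
    have hξ' : closure ({ξ} : Set X) = closure S := hξ
    rw [(h ξ).closure_eq] at hξ'
    have hxS : x ∈ S := hle (subset_closure rfl)
    have hxξ : x ∈ ({ξ} : Set X) := by rw [hξ']; exact subset_closure hxS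
    intro z hz
    have hzξ : z ∈ ({ξ} : Set X) := by rw [hξ']; exact subset_closure hz
    rw [Set.mem_singleton_iff] at hxξ hzξ
    rw [hzξ, ← hxξ]; exact subset_closure rfl
  tfae_have 7 → 5 := by
    intro h x y hxy
    have h1 : closure ({y} : Set X) ⊆ closure {x} := specializes_iff_closure_subset.1 hxy
    have h2 : closure ({x} : Set X) ⊆ closure {y} :=
      (h y).2 isIrreducible_singleton.closure h1
    exact (hxy.antisymm (specializes_iff_closure_subset.2 h2)).eq
  tfae_have 5 → 4 := by
    intro h U hUo hUc
    apply Groth.Agent.Lib.SpecSp_lead.isClosed_of_isClosed_constructibleTopology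
    · exact Groth.Agent.Lib.SpecSp_lead.isClosed_constructibleTopology_of_isCompact_isOpen hUc hUo
    · intro x y hxy hx
      rw [← h x y hxy]; exact hx
  tfae_have 4 → 2 := by
    intro h
    have h8 : constructibleTopology X = tX := by
      apply le_antisymm Groth.Agent.Lib.SpecSp_lead.constructibleTopology_le
      rw [constructibleTopology, TopologicalSpace.le_generateFrom_iff_subset_isOpen]
      rintro s (⟨hso, -⟩ | ⟨hscl, hsc⟩)
      · exact hso
      · have := h _ hscl.isOpen_compl hsc
        exact isClosed_compl_iff.1 this
    have h1 := Groth.Agent.Lib.SpecSp_lead.t2Space_constructibleTopology (X := X)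
    rw [h8] at h1
    exact h1
  tfae_finish

end Groth.Agent.S7528
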