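import Groth.Statements.S7530
import Groth.Agent.Lib.SpecSp_lead

set_option autoImplicit false
universe u
open SpecSp

namespace Groth.Agent.S7530

/-- Let f : X → Y be a map of spectral spaces which is spectral and bijective, and assume that
generalizations lift along f or that specializations lift along f. Then f is a homeomorphism. -/
theorem result {X Y : Type u} [TopologicalSpace X] [TopologicalSpace Y]
    [SpectralSpace X] [SpectralSpace Y] (f : X → Y) (hf : IsSpectralMap f) (hb : Function.Bijective f)
    (hlift : GeneralizingMap f ∨ SpecializingMap f) :
    IsHomeomorph f := by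
  have himg : ∀ E : Set X, @IsClosed X (constructibleTopology X) E →
      @IsClosed Y (constructibleTopology Y) (f '' E) := fun E hE =>
    Groth.Agent.Lib.SpecSp_lead.isClosed_constructibleTopology_image hf hE
  rcases hlift with hg | hs
  · refine ⟨hf.continuous, ?_, hb⟩
    rw [(PrespectralSpace.isTopologicalBasis (X := X)).isOpenMap_iff]
    rintro U ⟨hUo, hUc⟩
    apply Groth.Agent.Lib.SpecSp_lead.isOpen_of_isOpen_constructibleTopology
    · have h1 : @IsClosed X (constructibleTopology X) Uᶜ :=
        Groth.Agent.Lib.SpecSp_lead.isClosed_constructibleTopology_compl_iff.2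
          (hUc.isOpen_constructibleTopology_of_isOpen hUo)
      have h2 := himg _ h1
      rw [Set.image_compl_eq hb] at h2
      exact Groth.Agent.Lib.SpecSp_lead.isClosed_constructibleTopology_compl_iff.1 h2
    · exact hg.stableUnderGeneralization_image hUo.stableUnderGeneralization
  · rw [isHomeomorph_iff_continuous_isClosedMap_bijective]
    refine ⟨hf.continuous, ?_, hb⟩
    intro Z hZ
    apply Groth.Agent.Lib.SpecSp_lead.isClosed_of_isClosed_constructibleTopology
    · exact himg _ (Groth.Agent.Lib.SpecSp_lead.isClosed_constructibleTopology_of_isClosed hZ)
    · exact hs.stableUnderSpecialization_image hZ.stableUnderSpecialization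

end Groth.Agent.S7530
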