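import Groth.Statements.S7532
import Groth.Agent.Lib.Sierp_lead
import Groth.Agent.Lib.SpecSp2_lead

set_option autoImplicit false
universe u
open SpecSp

namespace Groth.Agent.S7532

/-- Let W be the two-point space with one closed and one non-closed point (here the Sierpiński topology
on Prop). A topological space X is spectral exactly when, for some index type I, X admits a
topological embedding into the power W^I whose image is a closed set for the constructible topology
on W^I. -/
theorem result (X : Type u) [TopologicalSpace X] :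
    SpectralSpace X ↔ ∃ (I : Type u) (f : X → (I → Prop)),
      Topology.IsEmbedding f ∧ @IsClosed (I → Prop) (constructibleTopology (I → Prop)) (Set.range f) := by
  have hpi : ∀ I : Type u, SpectralSpace (I → Prop) := fun I =>
    Groth.Agent.Lib.Sierp_lead.spectralSpace_pi
  constructor
  · intro hX
    let I : Type u := {U : Set X // IsOpen U ∧ IsCompact U}
    let f : X → (I → Prop) := fun x U => x ∈ U.1
    have := hpi I
    have hcont : Continuous f := continuous_pi fun U => continuous_Prop.2 U.2.1
    have hpre : ∀ F : Finset I, f ⁻¹' Groth.Agent.Lib.Sierp_lead.B F =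
        ⋂₀ ((fun U : I => U.1) '' (F : Set I)) := by
      intro F
      ext x
      simp only [Set.mem_preimage, Groth.Agent.Lib.Sierp_lead.B, Set.mem_ofPred_eq,
        Set.mem_sInter, Set.mem_image, Finset.mem_coe, forall_exists_index, and_imp,
        forall_apply_eq_imp_iff₂]
      rfl
    have hpreB : ∀ F : Finset I, IsCompact (f ⁻¹' Groth.Agent.Lib.Sierp_lead.B F) := by
      intro F
      rw [hpre]
      apply QuasiSeparatedSpace.isCompact_sInter (F.finite_toSet.image _)
      · rintro _ ⟨U, -, rfl⟩; exact Or.inl U.2.1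
      · rintro _ ⟨U, -, rfl⟩; exact U.2.2
    have hspec : IsSpectralMap f := by
      refine ⟨hcont, fun S hSo hSc => ?_⟩
      obtain ⟨s, hs, rfl⟩ := (isCompact_open_iff_eq_finite_iUnion_of_isTopologicalBasis
        Groth.Agent.Lib.Sierp_lead.B Groth.Agent.Lib.Sierp_lead.isTopologicalBasis_B
        Groth.Agent.Lib.Sierp_lead.isCompact_B S).1 ⟨hSc, hSo⟩
      rw [Set.preimage_iUnion₂]
      exact hs.isCompact_biUnion fun F _ => hpreB F
    refine ⟨I, f, ⟨⟨?_⟩, ?_⟩,
      Groth.Agent.Lib.SpecSp_lead.isClosed_constructibleTopology_range hspec⟩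
    · apply le_antisymm (continuous_iff_le_induced.1 hcont)
      intro V hV
      rw [isOpen_induced_iff]
      obtain ⟨S, hS, rfl⟩ := PrespectralSpace.isTopologicalBasis.open_eq_sUnion hV
      refine ⟨⋃ U : {U : I // U.1 ∈ S}, Groth.Agent.Lib.Sierp_lead.B {U.1}, ?_, ?_⟩
      · exact isOpen_iUnion fun U => Groth.Agent.Lib.Sierp_lead.isOpen_B _
      · ext x
        simp only [Set.mem_preimage, Set.mem_iUnion, Set.mem_sUnion]
        constructor
        · rintro ⟨U, hU⟩
          exact ⟨U.1.1, U.2, hU U.1 (Finset.mem_singleton_self _)⟩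
        · rintro ⟨U, hUS, hxU⟩
          refine ⟨⟨⟨U, hS hUS⟩, hUS⟩, fun W hW => ?_⟩
          rw [Finset.mem_singleton.1 hW]; exact hxU
    · intro x y hxy
      by_contra hne
      obtain ⟨V, hV, hxor⟩ := exists_isOpen_xor_mem hne
      have key : ∀ {a b : X}, a ∈ V → b ∉ V → f a ≠ f b := by
        intro a b ha hb
        obtain ⟨U, ⟨hUo, hUc⟩, haU, hUV⟩ :=
          PrespectralSpace.isTopologicalBasis.exists_subset_of_mem_open ha hV
        intro h
        have h1 : f a ⟨U, hUo, hUc⟩ := haU
        rw [h] at h1
        exact hb (hUV h1)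
      rcases hxor with ⟨hx, hy⟩ | ⟨hy, hx⟩
      · exact key hx hy hxy
      · exact key hy hx hxy.symm
  · rintro ⟨I, f, hf, hcl⟩
    have := hpi I
    have hsp : SpectralSpace ↥(Set.range f) :=
      Groth.Agent.Lib.SpecSp2_lead.spectralSpace_of_isClosed_constructibleTopology hcl
    have hc : CompactSpace X := hf.toHomeomorph.symm.compactSpace
    exact hf.toHomeomorph.isOpenEmbedding.spectralSpace

end Groth.Agent.S7532
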