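import Groth.Statements.S7536
import Groth.Agent.Lib.SpecLim2_lead

set_option autoImplicit false
universe u
open CategoryTheory CategoryTheory.Limits
open SpecSp

namespace Groth.Agent.S7536

/-- Let j ↦ X_j be a cofiltered diagram of spectral spaces with spectral transition maps and X its limit
with projections p_j. For every constructible E ⊆ X there are an object i and a constructible E_i ⊆
X_i with p_i⁻¹(E_i) = E; if E is open, resp. closed, then E_i may be chosen open, resp. closed. -/
theorem result {J : Type u} [SmallCategory J] [IsCofiltered J] (F : J ⥤ TopCat.{u})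
    (hF : ∀ j, SpectralSpace (F.obj j))
    (hFm : ∀ {i j : J} (a : i ⟶ j), IsSpectralMap (F.map a : F.obj i → F.obj j))
    (c : Cone F) (hc : IsLimit c)
    (E : Set c.pt) (hE : Topology.IsConstructible E) :
    (∃ (i : J) (Ei : Set (F.obj i)), Topology.IsConstructible Ei ∧ c.π.app i ⁻¹' Ei = E) ∧
    (IsOpen E → ∃ (i : J) (Ei : Set (F.obj i)), Topology.IsConstructible Ei ∧ IsOpen Ei ∧ c.π.app i ⁻¹' Ei = E) ∧
    (IsClosed E → ∃ (i : J) (Ei : Set (F.obj i)), Topology.IsConstructible Ei ∧ IsClosed Ei ∧ c.π.app i ⁻¹' Ei = E) := by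
  have hsp : SpectralSpace c.pt := Groth.Agent.Lib.SpecLim2_lead.spectralSpace_pt F hF hFm c hc
  have hpre : ∀ {i j : J} (a : j ⟶ i) {s : Set (F.obj i)}, Topology.IsConstructible s →
      Topology.IsConstructible (F.map a ⁻¹' s) := by
    intro i j a s hs
    have := hF i
    have := hF j
    refine hs.preimage (F.map a).hom.continuous fun t hto htr => ?_
    exact ((hFm a).isCompact_preimage_of_isOpen hto htr.isCompact).isRetrocompact
      (hto.preimage (F.map a).hom.continuous)
  have key : ∀ {E : Set c.pt}, Topology.IsConstructible E →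
      ∃ (i : J) (Ei : Set (F.obj i)), Topology.IsConstructible Ei ∧ c.π.app i ⁻¹' Ei = E := by
    intro E hE
    induction hE using Topology.IsConstructible.empty_union_induction with
    | open_retrocompact U hUo hUr =>
      obtain ⟨i, Ui, hUio, hUic, rfl⟩ :=
        Groth.Agent.Lib.SpecLim2_lead.exists_compact_open_preimage_eq F hF hFm c hc hUo
          hUr.isCompact
      have := hF i
      exact ⟨i, Ui, hUic.isConstructible hUio, rfl⟩
    | union s hs t ht ihs iht =>
      obtain ⟨i, Ei, hEi, rfl⟩ := ihs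
      obtain ⟨j, Ej, hEj, rfl⟩ := iht
      refine ⟨IsCofiltered.min i j, F.map (IsCofiltered.minToLeft i j) ⁻¹' Ei ∪
        F.map (IsCofiltered.minToRight i j) ⁻¹' Ej, (hpre _ hEi).union (hpre _ hEj), ?_⟩
      rw [Set.preimage_union, Groth.Agent.Lib.CofLim_lead.preimage_map_eq F c hc,
        Groth.Agent.Lib.CofLim_lead.preimage_map_eq F c hc]
    | compl s hs ih =>
      obtain ⟨i, Ei, hEi, rfl⟩ := ih
      exact ⟨i, Eiᶜ, hEi.compl, Set.preimage_compl⟩
  have keyOpen : ∀ {E : Set c.pt}, Topology.IsConstructible E → IsOpen E →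
      ∃ (i : J) (Ei : Set (F.obj i)), Topology.IsConstructible Ei ∧ IsOpen Ei ∧
        c.π.app i ⁻¹' Ei = E := by
    intro E hE hEo
    have hEc : IsCompact E :=
      Groth.Agent.Lib.SpecSp_lead.isCompact_of_isClosed_constructibleTopology
        (Groth.Agent.Lib.SpecSp2_lead.isClopen_constructibleTopology_of_isConstructible hE).1
    obtain ⟨i, Ui, hUio, hUic, rfl⟩ :=
      Groth.Agent.Lib.SpecLim2_lead.exists_compact_open_preimage_eq F hF hFm c hc hEo hEc
    have := hF i
    exact ⟨i, Ui, hUic.isConstructible hUio, hUio, rfl⟩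
  refine ⟨key hE, fun hEo => keyOpen hE hEo, fun hEcl => ?_⟩
  obtain ⟨i, Ui, hUi, hUio, hUeq⟩ := keyOpen hE.compl hEcl.isOpen_compl
  refine ⟨i, Uiᶜ, hUi.compl, hUio.isClosed_compl, ?_⟩
  rw [Set.preimage_compl, hUeq, compl_compl]

end Groth.Agent.S7536
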