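import Groth.Statements.S7538
import Groth.Agent.Lib.SpecLim2_lead

set_option autoImplicit false
universe u
open CategoryTheory CategoryTheory.Limits
open SpecSp

namespace Groth.Agent.S7538

/-- Let j ↦ X_j be a cofiltered diagram of spectral spaces with spectral transition maps f_a and X its
limit with projections p_j. (1) Any quasi-compact open U ⊆ X is p_i⁻¹(U_i) for some i and some
quasi-compact open U_i ⊆ X_i. (2) If U_i ⊆ X_i and U_j ⊆ X_j are quasi-compact opens with p_i⁻¹(U_i)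
⊆ p_j⁻¹(U_j), there are k and a : k → i, b : k → j with f_a⁻¹(U_i) ⊆ f_b⁻¹(U_j). (3) If U_i and
finitely many U_{l,i} are quasi-compact opens of X_i with p_i⁻¹(U_i) = ⋃_l p_i⁻¹(U_{l,i}), then
f_a⁻¹(U_i) = ⋃_l f_a⁻¹(U_{l,i}) for some a : j → i. (4) The same with intersections. -/
theorem result {J : Type u} [SmallCategory J] [IsCofiltered J] (F : J ⥤ TopCat.{u})
    (hF : ∀ j, SpectralSpace (F.obj j))
    (hFm : ∀ {i j : J} (a : i ⟶ j), IsSpectralMap (F.map a : F.obj i → F.obj j))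
    (c : Cone F) (hc : IsLimit c) :
    (∀ U : Set c.pt, IsOpen U → IsCompact U →
      ∃ (i : J) (Ui : Set (F.obj i)), IsOpen Ui ∧ IsCompact Ui ∧ c.π.app i ⁻¹' Ui = U) ∧
    (∀ (i j : J) (Ui : Set (F.obj i)) (Uj : Set (F.obj j)),
      IsOpen Ui → IsCompact Ui → IsOpen Uj → IsCompact Uj →
      c.π.app i ⁻¹' Ui ⊆ c.π.app j ⁻¹' Uj →
      ∃ (k : J) (a : k ⟶ i) (b : k ⟶ j), F.map a ⁻¹' Ui ⊆ F.map b ⁻¹' Uj) ∧
    (∀ (i : J) (n : ℕ) (Ui : Set (F.obj i)) (V : Fin n → Set (F.obj i)),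
      IsOpen Ui → IsCompact Ui → (∀ l, IsOpen (V l) ∧ IsCompact (V l)) →
      (c.π.app i ⁻¹' Ui = ⋃ l, c.π.app i ⁻¹' V l →
        ∃ (j : J) (a : j ⟶ i), F.map a ⁻¹' Ui = ⋃ l, F.map a ⁻¹' V l) ∧
      (c.π.app i ⁻¹' Ui = ⋂ l, c.π.app i ⁻¹' V l →
        ∃ (j : J) (a : j ⟶ i), F.map a ⁻¹' Ui = ⋂ l, F.map a ⁻¹' V l)) := by
  have clopen : ∀ {i : J} {U : Set (F.obj i)}, IsOpen U → IsCompact U →
      @IsClopen _ (constructibleTopology (F.obj i)) U := fun ho hc =>
    ⟨Groth.Agent.Lib.SpecSp_lead.isClosed_constructibleTopology_of_isCompact_isOpen hc ho,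
      hc.isOpen_constructibleTopology_of_isOpen ho⟩
  refine ⟨fun U hU hUc =>
    Groth.Agent.Lib.SpecLim2_lead.exists_compact_open_preimage_eq F hF hFm c hc hU hUc, ?_, ?_⟩
  · intro i j Ui Uj hUi hUic hUj hUjc hsub
    let k0 := IsCofiltered.min i j
    let a0 : k0 ⟶ i := IsCofiltered.minToLeft i j
    let b0 : k0 ⟶ j := IsCofiltered.minToRight i j
    have := hF k0
    have hAo : IsOpen (F.map a0 ⁻¹' Ui) := hUi.preimage (F.map a0).hom.continuous
    have hBo : IsOpen (F.map b0 ⁻¹' Uj) := hUj.preimage (F.map b0).hom.continuous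
    have hAc : IsCompact (F.map a0 ⁻¹' Ui) := (hFm a0).isCompact_preimage_of_isOpen hUi hUic
    have hBc : IsCompact (F.map b0 ⁻¹' Uj) := (hFm b0).isCompact_preimage_of_isOpen hUj hUjc
    have heq : c.π.app k0 ⁻¹' (F.map a0 ⁻¹' Ui ∩ F.map b0 ⁻¹' Uj) =
        c.π.app k0 ⁻¹' (F.map a0 ⁻¹' Ui) := by
      rw [Set.preimage_inter, Groth.Agent.Lib.CofLim_lead.preimage_map_eq F c hc,
        Groth.Agent.Lib.CofLim_lead.preimage_map_eq F c hc]
      exact Set.inter_eq_left.2 hsub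
    obtain ⟨k, e, he⟩ := Groth.Agent.Lib.SpecLim2_lead.exists_preimage_eq_of_preimage_eq
      F hF hFm c hc (clopen (hAo.inter hBo) (hAc.inter_of_isOpen hBc hAo hBo))
      (clopen hAo hAc) heq
    refine ⟨k, e ≫ a0, e ≫ b0, ?_⟩
    intro x hx
    have hx' : x ∈ F.map e ⁻¹' (F.map a0 ⁻¹' Ui) := by
      change F.map a0 (F.map e x) ∈ Ui
      have : F.map (e ≫ a0) x ∈ Ui := hx
      rwa [F.map_comp] at this
    rw [← he] at hx'
    have : F.map b0 (F.map e x) ∈ Uj := hx'.2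
    change F.map (e ≫ b0) x ∈ Uj
    rw [F.map_comp]; exact this
  · intro i n Ui V hUi hUic hV
    have := hF i
    constructor
    · intro h
      have hBo : IsOpen (⋃ l, V l) := isOpen_iUnion fun l => (hV l).1
      have hBc : IsCompact (⋃ l, V l) := isCompact_iUnion fun l => (hV l).2
      rw [← Set.preimage_iUnion] at h
      obtain ⟨j, a, ha⟩ := Groth.Agent.Lib.SpecLim2_lead.exists_preimage_eq_of_preimage_eq
        F hF hFm c hc (clopen hUi hUic) (clopen hBo hBc) h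
      exact ⟨j, a, by rw [ha, Set.preimage_iUnion]⟩
    · intro h
      have hBo : IsOpen (⋂ l, V l) := isOpen_iInter_of_finite fun l => (hV l).1
      have hBc : IsCompact (⋂ l, V l) := by
        rw [← Set.sInter_range]
        apply QuasiSeparatedSpace.isCompact_sInter (Set.finite_range V)
        · rintro _ ⟨l, rfl⟩; exact Or.inl (hV l).1
        · rintro _ ⟨l, rfl⟩; exact (hV l).2
      rw [← Set.preimage_iInter] at h
      obtain ⟨j, a, ha⟩ := Groth.Agent.Lib.SpecLim2_lead.exists_preimage_eq_of_preimage_eq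
        F hF hFm c hc (clopen hUi hUic) (clopen hBo hBc) h
      exact ⟨j, a, by rw [ha, Set.preimage_iInter]⟩

end Groth.Agent.S7538
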