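import Groth.Statements.S7539
import Groth.Agent.Lib.SpecSp2_lead

set_option autoImplicit false
universe u
open SpecSp

namespace Groth.Agent.S7539

/-- For a subset W of a spectral space X, these five conditions coincide: (1) W can be written as an
intersection of constructible subsets and is stable under generalization; (2) W is quasi-compact and
stable under generalization; (3) for some quasi-compact E ⊆ X, W consists exactly of the points that
specialize to a point of E; (4) W is the intersection of some family of quasi-compact opens; (5)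
there are a nonempty index set I and quasi-compact opens U_i with W = ⋂ U_i such that for all i, j
some U_k is contained in U_i ∩ U_j. -/
theorem result {X : Type u} [TopologicalSpace X] [SpectralSpace X] (W : Set X) :
    List.TFAE [
      (∃ S : Set (Set X), (∀ s ∈ S, Topology.IsConstructible s) ∧ W = ⋂₀ S) ∧ StableUnderGeneralization W,
      IsCompact W ∧ StableUnderGeneralization W,
      ∃ E : Set X, IsCompact E ∧ W = {x | ∃ e ∈ E, x ⤳ e},
      ∃ S : Set (Set X), (∀ s ∈ S, IsOpen s ∧ IsCompact s) ∧ W = ⋂₀ S,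
      ∃ (I : Type u) (_ : Nonempty I) (U : I → Set X), (∀ i, IsOpen (U i) ∧ IsCompact (U i)) ∧
        W = ⋂ i, U i ∧ ∀ i j, ∃ k, U k ⊆ U i ∩ U j] := by
  tfae_have 4 → 1 := by
    rintro ⟨S, hS, rfl⟩
    refine ⟨⟨S, fun s hs => (hS s hs).2.isConstructible (hS s hs).1, rfl⟩, ?_⟩
    intro x y hyx hx
    rw [Set.mem_sInter] at hx ⊢
    exact fun s hs => hyx.mem_open (hS s hs).1 (hx s hs)
  tfae_have 1 → 2 := by
    rintro ⟨⟨S, hS, rfl⟩, hgen⟩
    refine ⟨?_, hgen⟩
    apply Groth.Agent.Lib.SpecSp_lead.isCompact_of_isClosed_constructibleTopology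
    apply Groth.Agent.Lib.SpecSp2_lead.isClosed_constructibleTopology_sInter
    intro s hs
    exact (Groth.Agent.Lib.SpecSp2_lead.isClopen_constructibleTopology_of_isConstructible
      (hS s hs)).1
  tfae_have 2 → 3 := by
    rintro ⟨hc, hgen⟩
    refine ⟨W, hc, ?_⟩
    ext x
    constructor
    · intro hx; exact ⟨x, hx, specializes_rfl⟩
    · rintro ⟨e, he, hxe⟩; exact hgen hxe he
  tfae_have 3 → 4 := by
    rintro ⟨E, hE, rfl⟩
    refine ⟨{U | IsOpen U ∧ IsCompact U ∧ E ⊆ U}, fun s hs => ⟨hs.1, hs.2.1⟩, ?_⟩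
    ext x
    constructor
    · rintro ⟨e, he, hxe⟩
      rw [Set.mem_sInter]
      intro U hU
      exact hxe.mem_open hU.1 (hU.2.2 he)
    · intro hx
      rw [Set.mem_sInter] at hx
      by_contra hcon
      simp only [Set.mem_ofPred_eq, not_exists, not_and] at hcon
      have key : ∀ e ∈ E, ∃ U : Set X, IsOpen U ∧ IsCompact U ∧ e ∈ U ∧ x ∉ U := by
        intro e he
        have hne := hcon e he
        rw [specializes_iff_forall_open] at hne
        push Not at hne
        obtain ⟨s, hs, hes, hxs⟩ := hne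
        obtain ⟨U, ⟨hUo, hUc⟩, heU, hUs⟩ :=
          PrespectralSpace.isTopologicalBasis.exists_subset_of_mem_open hes hs
        exact ⟨U, hUo, hUc, heU, fun h => hxs (hUs h)⟩
      choose! U hUo hUc heU hxU using key
      obtain ⟨t, hcov⟩ := hE.elim_nhds_subcover' (fun e _ => U e)
        (fun e he => (hUo e he).mem_nhds (heU e he))
      have hmem := hx (⋃ e ∈ t, U e.1)
        ⟨isOpen_biUnion fun e _ => hUo e.1 e.2, t.isCompact_biUnion fun e _ => hUc e.1 e.2, hcov⟩
      simp only [Set.mem_iUnion] at hmem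
      obtain ⟨e, -, hxe⟩ := hmem
      exact hxU e.1 e.2 hxe
  tfae_have 4 → 5 := by
    rintro ⟨S, hS, rfl⟩
    refine ⟨{F : Set (Set X) // F.Finite ∧ F ⊆ S},
      ⟨⟨∅, Set.finite_empty, Set.empty_subset _⟩⟩, fun F => ⋂₀ F.1, ?_, ?_, ?_⟩
    · intro F
      exact ⟨F.2.1.isOpen_sInter fun s hs => (hS s (F.2.2 hs)).1,
        QuasiSeparatedSpace.isCompact_sInter F.2.1 (fun s hs => Or.inl (hS s (F.2.2 hs)).1)
          fun s hs => (hS s (F.2.2 hs)).2⟩
    · apply Set.Subset.antisymm
      · apply Set.subset_iInter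
        intro F
        exact Set.sInter_subset_sInter F.2.2
      · intro x hx
        rw [Set.mem_iInter] at hx
        rw [Set.mem_sInter]
        intro s hs
        have := hx ⟨{s}, Set.finite_singleton s, Set.singleton_subset_iff.2 hs⟩
        simpa using this
    · intro F F'
      refine ⟨⟨F.1 ∪ F'.1, F.2.1.union F'.2.1, Set.union_subset F.2.2 F'.2.2⟩, ?_⟩
      change ⋂₀ (F.1 ∪ F'.1) ⊆ ⋂₀ F.1 ∩ ⋂₀ F'.1
      rw [Set.sInter_union]
  tfae_have 5 → 4 := by
    rintro ⟨I, _, U, hU, rfl, -⟩
    refine ⟨Set.range U, ?_, (Set.sInter_range U).symm⟩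
    rintro _ ⟨i, rfl⟩
    exact hU i
  tfae_finish

end Groth.Agent.S7539
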