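import Groth.Statements.S7540
import Groth.Agent.Lib.SpecSp_lead

set_option autoImplicit false
universe u
open SpecSp

namespace Groth.Agent.S7540

/-- Let X be a spectral space, I a nonempty index set and U_i ⊆ X quasi-compact opens such that for all
i, j some U_k lies in U_i ∩ U_j; put W = ⋂ U_i. Then every open subset of X containing W contains
some U_i. The published statement also asserts that W is spectral and is the limit of the U_i; this
row states the neighbourhood property. -/
theorem result {X : Type u} [TopologicalSpace X] [SpectralSpace X]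
    {I : Type u} [Nonempty I] (U : I → Set X) (hU : ∀ i, IsOpen (U i) ∧ IsCompact (U i))
    (hdir : ∀ i j, ∃ k, U k ⊆ U i ∩ U j) :
    ∀ V : Set X, IsOpen V → (⋂ i, U i) ⊆ V → ∃ i, U i ⊆ V := by
  intro V hV hWV
  by_contra hcon
  push Not at hcon
  have hcl : ∀ i, @IsClosed X (constructibleTopology X) (U i \ V) := by
    intro i
    have h1 := Groth.Agent.Lib.SpecSp_lead.isClosed_constructibleTopology_of_isCompact_isOpen
      (hU i).2 (hU i).1
    have h2 := Groth.Agent.Lib.SpecSp_lead.isClosed_constructibleTopology_of_isClosed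
      hV.isClosed_compl
    exact @IsClosed.inter X (U i) Vᶜ (constructibleTopology X) h1 h2
  have hne : ∀ i, (U i \ V).Nonempty := by
    intro i
    obtain ⟨z, hzU, hzV⟩ := Set.not_subset.1 (hcon i)
    exact ⟨z, hzU, hzV⟩
  have hdirected : Directed (· ⊇ ·) (fun i => U i \ V) := by
    intro i j
    obtain ⟨k, hk⟩ := hdir i j
    exact ⟨k, fun z hz => ⟨(hk hz.1).1, hz.2⟩, fun z hz => ⟨(hk hz.1).2, hz.2⟩⟩
  obtain ⟨z, hz⟩ :=
    @IsCompact.nonempty_iInter_of_directed_nonempty_isCompact_isClosed X
      (constructibleTopology X) I _ (fun i => U i \ V) hdirected hne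
      (fun i => Groth.Agent.Lib.SpecSp_lead.isCompact_constructibleTopology_of_isClosed (hcl i))
      hcl
  rw [Set.mem_iInter] at hz
  have hzW : z ∈ ⋂ i, U i := Set.mem_iInter.2 fun i => (hz i).1
  exact (hz (Classical.arbitrary I)).2 (hWV hzW)

end Groth.Agent.S7540
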