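import Groth.Statements.S7541
import Groth.Agent.Lib.SpecSp2_lead
import Groth.Agent.S7539

set_option autoImplicit false
universe u
open SpecSp

namespace Groth.Agent.S7541

/-- Let X be a spectral space, E ⊆ X a constructible subset and W the set of points of X that specialize
to a point of E. Then the subspace W minus E is a spectral space. (The description of W minus E as a
limit of the U_i minus E is not recorded here.) -/
theorem result {X : Type u} [TopologicalSpace X] [SpectralSpace X]
    (E : Set X) (hE : Topology.IsConstructible E) :
    SpectralSpace ↥({x : X | ∃ e ∈ E, x ⤳ e} \ E) := by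
  apply Groth.Agent.Lib.SpecSp2_lead.spectralSpace_of_isClosed_constructibleTopology
  have hEc : @IsClopen X (constructibleTopology X) E :=
    Groth.Agent.Lib.SpecSp2_lead.isClopen_constructibleTopology_of_isConstructible hE
  have hEcomp : IsCompact E :=
    Groth.Agent.Lib.SpecSp_lead.isCompact_of_isClosed_constructibleTopology hEc.1
  have h34 := (Groth.Agent.S7539.result {x : X | ∃ e ∈ E, x ⤳ e}).out 2 3
  obtain ⟨S, hS, hWS⟩ := h34.1 ⟨E, hEcomp, rfl⟩
  have hW : @IsClosed X (constructibleTopology X) {x : X | ∃ e ∈ E, x ⤳ e} := by
    rw [hWS]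
    apply Groth.Agent.Lib.SpecSp2_lead.isClosed_constructibleTopology_sInter
    intro s hs
    exact Groth.Agent.Lib.SpecSp_lead.isClosed_constructibleTopology_of_isCompact_isOpen
      (hS s hs).2 (hS s hs).1
  have hEcompl : @IsClosed X (constructibleTopology X) Eᶜ :=
    Groth.Agent.Lib.SpecSp_lead.isClosed_constructibleTopology_compl_iff.2 hEc.2
  exact Groth.Agent.Lib.SpecSp2_lead.isClosed_constructibleTopology_inter hW hEcompl

end Groth.Agent.S7541
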