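import Groth.Statements.S7544
-- import your own Groth.Agent.* helpers here

set_option autoImplicit false
universe u
open ConstrTop

namespace Groth.Agent.S7544

/-- Let X be a quasi-compact topological space whose quasi-compact opens form a basis and are closed
under pairwise intersection. Take T ⊆ X to be locally closed, quasi-compact, and with retrocompact
complement. Then T is constructible in X. -/
theorem result {X : Type u} [TopologicalSpace X]
    [CompactSpace X] [PrespectralSpace X] [QuasiSeparatedSpace X]
    (T : Set X) (hT : IsLocallyClosed T) (hTc : IsCompact T) (hTr : IsRetrocompact Tᶜ) :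
    Topology.IsConstructible T := by
  obtain ⟨U, hUc, hUo, hTU, hUcb⟩ :=
    PrespectralSpace.exists_isCompact_and_isOpen_between hTc hT.isOpen_coborder subset_coborder
  have hTeq : T = closure T ∩ U := by
    apply Set.Subset.antisymm
    · exact Set.subset_inter subset_closure hTU
    · intro x hx
      have : x ∈ closure T ∩ coborder T := ⟨hx.1, hUcb hx.2⟩
      rwa [closure_inter_coborder] at this
  have hVeq : Tᶜ ∩ U = U \ closure T := by
    ext x
    constructor
    · rintro ⟨hxT, hxU⟩
      refine ⟨hxU, fun hxc => hxT ?_⟩
      rw [hTeq]; exact ⟨hxc, hxU⟩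
    · rintro ⟨hxU, hxc⟩
      exact ⟨fun hxT => hxc (subset_closure hxT), hxU⟩
  have hVo : IsOpen (Tᶜ ∩ U) := by
    rw [hVeq]; exact hUo.sdiff isClosed_closure
  have hVc : IsCompact (Tᶜ ∩ U) := hTr hUc hUo
  have hT2 : T = U \ (Tᶜ ∩ U) := by
    ext x
    constructor
    · intro hx; exact ⟨hTU hx, fun h => h.1 hx⟩
    · rintro ⟨hxU, hx⟩
      by_contra hxT
      exact hx ⟨hxT, hxU⟩
  rw [hT2]
  exact (hUc.isConstructible hUo).sdiff (hVc.isConstructible hVo)

end Groth.Agent.S7544
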