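import Groth.Statements.S7546
import Mathlib.Topology.Irreducible
import Mathlib.Topology.LocallyClosed
import Mathlib.Topology.Inseparable

set_option autoImplicit false
universe u
open ConstrTop

namespace Groth.Agent.S7546

/-- Let X be a topological space, Z ⊆ X irreducible and E ⊆ X a finite union of locally closed subsets
(for instance a constructible set). Then E ∩ Z is dense in Z if and only if E ∩ Z contains a subset
of the form U ∩ Z, U open in X, which is dense in Z. If moreover ξ ∈ Z is a generic point of Z,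
these conditions are equivalent to ξ ∈ E. -/
theorem result {X : Type u} [TopologicalSpace X] (Z : Set X) (hZ : IsIrreducible Z)
    {n : ℕ} (L : Fin n → Set X) (hL : ∀ i, IsLocallyClosed (L i)) (E : Set X) (hE : E = ⋃ i, L i) :
    (Z ⊆ closure (E ∩ Z) ↔ ∃ U : Set X, IsOpen U ∧ U ∩ Z ⊆ E ∧ Z ⊆ closure (U ∩ Z)) ∧
    (∀ ξ : X, ξ ∈ Z → Z ⊆ closure {ξ} → (Z ⊆ closure (E ∩ Z) ↔ ξ ∈ E)) := by
  classical
  have hfwd : Z ⊆ closure (E ∩ Z) →
      ∃ U : Set X, IsOpen U ∧ U ∩ Z ⊆ E ∧ Z ⊆ closure (U ∩ Z) := by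
    intro h
    have hEZ : E ∩ Z = ⋃ i, (L i ∩ Z) := by rw [hE, Set.iUnion_inter]
    rw [hEZ, closure_iUnion_of_finite] at h
    have := isIrreducible_iff_sUnion_isClosed.1 hZ
      (Finset.univ.image fun i => closure (L i ∩ Z))
      (by
        intro z hz
        obtain ⟨i, -, rfl⟩ := Finset.mem_image.1 hz
        exact isClosed_closure)
      (by
        intro x hx
        obtain ⟨i, hi⟩ := Set.mem_iUnion.1 (h hx)
        exact ⟨closure (L i ∩ Z), by simp, hi⟩)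
    obtain ⟨z, hz, hZz⟩ := this
    obtain ⟨i, -, rfl⟩ := Finset.mem_image.1 hz
    obtain ⟨U, C, hU, hC, hLi⟩ := hL i
    have hZC : Z ⊆ C := by
      refine hZz.trans (closure_minimal ?_ hC)
      rw [hLi]
      exact fun x hx => hx.1.2
    have hUZ : U ∩ Z = L i ∩ Z := by
      rw [hLi]
      ext x
      constructor
      · rintro ⟨hxU, hxZ⟩; exact ⟨⟨hxU, hZC hxZ⟩, hxZ⟩
      · rintro ⟨⟨hxU, -⟩, hxZ⟩; exact ⟨hxU, hxZ⟩
    refine ⟨U, hU, ?_, ?_⟩
    · rw [hUZ, hE]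
      exact fun x hx => Set.mem_iUnion.2 ⟨i, hx.1⟩
    · rw [hUZ]; exact hZz
  have hbwd : (∃ U : Set X, IsOpen U ∧ U ∩ Z ⊆ E ∧ Z ⊆ closure (U ∩ Z)) →
      Z ⊆ closure (E ∩ Z) := by
    rintro ⟨U, -, hUE, hZU⟩
    exact hZU.trans (closure_mono fun x hx => ⟨hUE hx, hx.2⟩)
  refine ⟨⟨hfwd, hbwd⟩, ?_⟩
  intro ξ hξZ hξ
  constructor
  · intro h
    obtain ⟨U, hU, hUE, hZU⟩ := hfwd h
    obtain ⟨z0, hz0⟩ := hZ.1
    have hne : (U ∩ Z).Nonempty := by
      by_contra hemp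
      rw [Set.not_nonempty_iff_eq_empty] at hemp
      rw [hemp, closure_empty] at hZU
      exact hZU hz0
    obtain ⟨z, hzU, hzZ⟩ := hne
    have hspec : ξ ⤳ z := specializes_iff_mem_closure.2 (hξ hzZ)
    exact hUE ⟨hspec.mem_open hU hzU, hξZ⟩
  · intro hξE
    refine hξ.trans (closure_mono ?_)
    rintro x rfl
    exact ⟨hξE, hξZ⟩

end Groth.Agent.S7546
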