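import Groth.Statements.S7547
-- import your own Groth.Agent.* helpers here

set_option autoImplicit false
universe u
open PtTop

namespace Groth.Agent.S7547

/-- Let X be a Kolmogorov topological space whose quasi-compact opens form a basis for the topology. If
X is not Jacobson, there is a point x ∈ X which is not closed but such that {x} is locally closed. -/
theorem result {X : Type u} [TopologicalSpace X]
    [T0Space X] [PrespectralSpace X] (hX : ¬ JacobsonSpace X) :
    ∃ x : X, ¬ IsClosed ({x} : Set X) ∧ IsLocallyClosed ({x} : Set X) := by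
  rw [jacobsonSpace_iff_locallyClosed] at hX
  push Not at hX
  obtain ⟨Z, ⟨z, hz⟩, hZlc, hZcp⟩ := hX
  obtain ⟨U, C, hU, hC, rfl⟩ := hZlc
  obtain ⟨W, ⟨hWo, hWc⟩, hzW, hWU⟩ :=
    PrespectralSpace.isTopologicalBasis.exists_subset_of_mem_open hz.1 hU
  have hZ'c : IsCompact (W ∩ C) := hWc.inter_right hC
  have : CompactSpace ↥(W ∩ C) := isCompact_iff_compactSpace.1 hZ'c
  have hne : (Set.univ : Set ↥(W ∩ C)).Nonempty := ⟨⟨z, hzW, hz.2⟩, trivial⟩
  obtain ⟨x, -, hx⟩ := isClosed_univ.exists_closed_singleton hne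
  obtain ⟨D, hD, hDx⟩ := isClosed_induced_iff.1 hx
  have hsing : ({(x : X)} : Set X) = D ∩ (W ∩ C) := by
    ext y
    constructor
    · rintro rfl
      have : x ∈ (Subtype.val : ↥(W ∩ C) → X) ⁻¹' D := by rw [hDx]; rfl
      exact ⟨this, x.2⟩
    · rintro ⟨hyD, hyZ⟩
      have : (⟨y, hyZ⟩ : ↥(W ∩ C)) ∈ (Subtype.val : ↥(W ∩ C) → X) ⁻¹' D := hyD
      rw [hDx] at this
      exact congrArg Subtype.val this
  refine ⟨x, ?_, ?_⟩
  · intro hcl
    have : (x : X) ∈ U ∩ C ∩ closedPoints X := ⟨⟨hWU x.2.1, x.2.2⟩, hcl⟩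
    rw [hZcp] at this
    exact this
  · rw [hsing]
    exact hD.isLocallyClosed.inter (hWo.isLocallyClosed.inter hC.isLocallyClosed)

end Groth.Agent.S7547
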