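import Groth.Statements.S7548
-- import your own Groth.Agent.* helpers here

set_option autoImplicit false
universe u
open PtTop

namespace Groth.Agent.S7548

/-- Let X be a Jacobson space and let T = ⋃ T_i be a union of subsets T_i ⊆ X each locally closed in X
(open, closed, locally closed and constructible subsets are of this form). Then T is Jacobson and
every point of T closed in T is closed in X. -/
theorem result {X : Type u} [TopologicalSpace X] [JacobsonSpace X]
    {ι : Type u} (T : ι → Set X) (hT : ∀ i, IsLocallyClosed (T i)) :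
    JacobsonSpace ↥(⋃ i, T i) ∧
      closedPoints ↥(⋃ i, T i) ⊆ (Subtype.val : ↥(⋃ i, T i) → X) ⁻¹' closedPoints X := by
  have key : ∀ Z' : Set ↥(⋃ i, T i), Z'.Nonempty → IsLocallyClosed Z' →
      ∃ y ∈ Z', IsClosed ({(y : X)} : Set X) := by
    intro Z' hne hlc
    obtain ⟨L, hL, rfl⟩ := Topology.IsInducing.subtypeVal.isLocallyClosed_iff.1 hlc
    obtain ⟨z, hz⟩ := hne
    obtain ⟨i, hi⟩ := Set.mem_iUnion.1 z.2
    obtain ⟨y, ⟨hyL, hyT⟩, hycl⟩ :=
      nonempty_inter_closedPoints (Z := L ∩ T i) ⟨z, hz, hi⟩ (hL.inter (hT i))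
    exact ⟨⟨y, Set.mem_iUnion.2 ⟨i, hyT⟩⟩, hyL, hycl⟩
  constructor
  · rw [jacobsonSpace_iff_locallyClosed]
    intro Z' hne hlc
    obtain ⟨y, hyZ, hycl⟩ := key Z' hne hlc
    exact ⟨y, hyZ, preimage_closedPoints_subset Subtype.val_injective continuous_subtype_val hycl⟩
  · intro x hx
    obtain ⟨y, hy, hycl⟩ := key {x} (Set.singleton_nonempty x)
      (IsClosed.isLocallyClosed hx)
    rw [Set.mem_singleton_iff] at hy
    subst hy
    exact hycl

end Groth.Agent.S7548
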