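import Groth.Statements.S7549
import Groth.Agent.Lib.Jacobson_lead

set_option autoImplicit false
universe u
open PtTop

namespace Groth.Agent.S7549

/-- Let X be a Jacobson space and X₀ ⊆ X the subspace of closed points. (a) For U ⊆ X open, U is
quasi-compact if and only if U ∩ X₀ is quasi-compact, and U is retrocompact in X if and only if U ∩
X₀ is retrocompact in X₀. (b) The rule E ↦ E ∩ X₀ is an inclusion-preserving and
inclusion-reflecting bijection between the constructible subsets of X and the constructible subsets
of X₀. -/
theorem result {X : Type u} [TopologicalSpace X] [JacobsonSpace X] :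
    (∀ U : Set X, IsOpen U →
      (IsCompact U ↔ IsCompact ((Subtype.val : closedPoints X → X) ⁻¹' U)) ∧
      (IsRetrocompact U ↔ IsRetrocompact ((Subtype.val : closedPoints X → X) ⁻¹' U))) ∧
    (∀ E : Set X, Topology.IsConstructible E →
      Topology.IsConstructible ((Subtype.val : closedPoints X → X) ⁻¹' E)) ∧
    (∀ E E' : Set X, Topology.IsConstructible E → Topology.IsConstructible E' →
      ((Subtype.val : closedPoints X → X) ⁻¹' E ⊆ Subtype.val ⁻¹' E' ↔ E ⊆ E')) ∧
    (∀ F : Set (closedPoints X), Topology.IsConstructible F →
      ∃ E : Set X, Topology.IsConstructible E ∧ (Subtype.val : closedPoints X → X) ⁻¹' E = F) := by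
  refine ⟨fun U hU => ⟨Groth.Agent.Lib.Jacobson_lead.isCompact_preimage_iff hU,
      Groth.Agent.Lib.Jacobson_lead.isRetrocompact_preimage_iff hU⟩,
    fun E hE => Groth.Agent.Lib.Jacobson_lead.isConstructible_preimage hE,
    fun E E' hE hE' => ⟨fun h => Groth.Agent.Lib.Jacobson_lead.subset_of_preimage_subset hE hE' h,
      fun h => Set.preimage_mono h⟩,
    fun F hF => Groth.Agent.Lib.Jacobson_lead.exists_isConstructible_preimage_eq hF⟩

end Groth.Agent.S7549
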