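import Groth.Statements.S7550
import Mathlib.Topology.NoetherianSpace
import Mathlib.Topology.Sober

set_option autoImplicit false
universe u
open PtTop

namespace Groth.Agent.S7550

/-- Let f : X → Y be a continuous and open map of topological spaces, with X Noetherian, every
irreducible closed subset of X having a generic point, and Y Kolmogorov. Then generalizations lift
along f. (Part (1), closed maps are specializing, is a library fact.) -/
theorem result {X Y : Type u} [TopologicalSpace X] [TopologicalSpace Y]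
    [TopologicalSpace.NoetherianSpace X] [QuasiSober X] [T0Space Y]
    (f : X → Y) (hf : Continuous f) (hfo : IsOpenMap f) :
    GeneralizingMap f := by
  intro x y' hy
  -- hy : y' ⤳ f x
  have hxcl : x ∈ closure (f ⁻¹' {y'}) := by
    rw [mem_closure_iff]
    intro U hU hxU
    have h1 : f x ∈ f '' U := ⟨x, hxU, rfl⟩
    have h2 : y' ∈ f '' U := hy.mem_open (hfo U hU) h1
    obtain ⟨u, huU, hu⟩ := h2
    exact ⟨u, huU, hu⟩
  obtain ⟨S, hSf, hSc, hSi, hSU⟩ :=
    TopologicalSpace.NoetherianSpace.exists_finite_set_isClosed_irreducible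
      (isClosed_closure (s := f ⁻¹' {y'}))
  have hW : IsClosed (⋃₀ {Z ∈ S | (Z ∩ f ⁻¹' {y'}).Nonempty}) := by
    rw [Set.sUnion_eq_biUnion]
    exact (hSf.subset (fun Z (hZ : Z ∈ {Z ∈ S | (Z ∩ f ⁻¹' {y'}).Nonempty}) => hZ.1)).isClosed_biUnion
      (fun Z hZ => hSc Z hZ.1)
  have hTW : f ⁻¹' {y'} ⊆ ⋃₀ {Z ∈ S | (Z ∩ f ⁻¹' {y'}).Nonempty} := by
    intro t ht
    have : t ∈ ⋃₀ S := hSU ▸ subset_closure ht
    obtain ⟨Z, hZS, htZ⟩ := this
    exact ⟨Z, ⟨hZS, ⟨t, htZ, ht⟩⟩, htZ⟩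
  obtain ⟨Z, ⟨hZS, ⟨t, htZ, ht⟩⟩, hxZ⟩ := closure_minimal hTW hW hxcl
  obtain ⟨ξ, hξ⟩ := QuasiSober.sober (hSi Z hZS) (hSc Z hZS)
  refine ⟨ξ, hξ.specializes hxZ, ?_⟩
  have h1 : f ξ ⤳ y' := by
    have := (hξ.specializes htZ).map hf
    rwa [show f t = y' from ht] at this
  have h2 : y' ⤳ f ξ := by
    rw [specializes_iff_mem_closure]
    have hξcl : ξ ∈ closure (f ⁻¹' {y'}) := by
      rw [hSU]; exact ⟨Z, hZS, hξ.mem⟩
    have := map_mem_closure hf hξcl (t := {y'}) (fun z hz => hz)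
    exact this
  exact (h1.antisymm h2).eq

end Groth.Agent.S7550
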