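import Groth.Statements.S7551
-- import your own Groth.Agent.* helpers here

set_option autoImplicit false
universe u
open PtTop

namespace Groth.Agent.S7551

/-- Let s, t : R → U and π : U → X be continuous maps between topological spaces satisfying: (1) π is an
open map, (2) U is a sober space, (3) s and t have finite fibres, (4) generalizations lift along s
and along t, and (5) the image of (t, s) : R → U × U is an equivalence relation on U and π
identifies X, as a set, with the quotient of U by it. Then X is Kolmogorov. -/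
theorem result {R U X : Type u}
    [TopologicalSpace R] [TopologicalSpace U] [TopologicalSpace X] [QuasiSober U] [T0Space U]
    (s t : R → U) (π : U → X) (hs : Continuous s) (ht : Continuous t) (hπ : Continuous π)
    (hπo : IsOpenMap π) (hsf : ∀ u, (s ⁻¹' {u}).Finite) (htf : ∀ u, (t ⁻¹' {u}).Finite)
    (hsg : GeneralizingMap s) (htg : GeneralizingMap t)
    (hE : Equivalence fun u u' : U => ∃ r, t r = u ∧ s r = u')
    (hπs : Function.Surjective π) (hπq : ∀ u u' : U, π u = π u' ↔ ∃ r, t r = u ∧ s r = u') :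
    T0Space X := by
  classical
  have hfib : ∀ x : X, (π ⁻¹' {x}).Finite := by
    intro x
    obtain ⟨u, rfl⟩ := hπs x
    have hsub : π ⁻¹' {π u} ⊆ s '' (t ⁻¹' {u}) := by
      intro u' hu'
      have h1 : π u = π u' := (show π u' = π u from hu').symm
      obtain ⟨r, hr1, hr2⟩ := (hπq u u').mp h1
      exact ⟨r, hr1, hr2⟩
    exact ((htf u).image s).subset hsub
  have key : ∀ x x' : X, x' ⤳ x → ∀ u, π u = x → ∃ u', π u' = x' ∧ u' ⤳ u := by
    intro x x' hsp u hu
    have hcl : u ∈ closure (π ⁻¹' {x'}) := by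
      rw [mem_closure_iff]
      intro N hN huN
      have hop : IsOpen (π '' N) := hπo N hN
      have hx : x ∈ π '' N := ⟨u, huN, hu⟩
      obtain ⟨v, hvN, hv⟩ := hsp.mem_open hop hx
      exact ⟨v, hvN, hv⟩
    rw [← Set.biUnion_of_singleton (π ⁻¹' {x'}), (hfib x').closure_biUnion] at hcl
    obtain ⟨u', hu', hmem⟩ := Set.mem_iUnion₂.mp hcl
    exact ⟨u', hu', specializes_iff_mem_closure.mpr hmem⟩
  refine ⟨fun x x' hins => ?_⟩
  have h1 : x ⤳ x' := hins.specializes
  have h2 : x' ⤳ x := hins.specializes'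
  obtain ⟨u, hu⟩ := hπs x
  letI : Preorder U := specializationPreorder U
  obtain ⟨m, hm⟩ := (hfib x).exists_maximal ⟨u, hu⟩
  have hmx : π m = x := hm.prop
  obtain ⟨u1, hu1, hs1⟩ := key x x' h2 m hmx
  obtain ⟨u2, hu2, hs2⟩ := key x' x h1 u1 hu1
  have h3 : u2 ⤳ m := hs2.trans hs1
  have h4 : m ⤳ u2 := hm.le_of_ge (show u2 ∈ π ⁻¹' {x} from hu2) h3
  have h5 : m ⤳ u1 := h4.trans hs2
  have h6 : m = u1 := (h5.antisymm hs1).eq
  rw [← hmx, ← hu1, h6]

end Groth.Agent.S7551
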