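import Groth.Statements.S7552
import Groth.Agent.Lib.KrullLift_lead

set_option autoImplicit false
universe u
open PtTop

namespace Groth.Agent.S7552

/-- Let f : X → Y be a continuous surjective map of topological spaces with Y sober, and assume that
specializations lift along f or that generalizations lift along f. Then dim X ≥ dim Y (Krull
dimensions as suprema of lengths of chains of irreducible closed subsets). -/
theorem result {X Y : Type u}
    [TopologicalSpace X] [TopologicalSpace Y] [QuasiSober Y] [T0Space Y]
    (f : X → Y) (hf : Continuous f) (hsurj : Function.Surjective f)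
    (hlift : SpecializingMap f ∨ GeneralizingMap f) :
    topologicalKrullDim Y ≤ topologicalKrullDim X := by
  let _ : Preorder X := specializationPreorder X
  let g : X → TopologicalSpace.IrreducibleCloseds Y := fun x =>
    ⟨closure {f x}, isIrreducible_singleton.closure, isClosed_closure⟩
  have hg : Function.Surjective g := by
    intro Z
    obtain ⟨η, hη⟩ := QuasiSober.sober (S := (Z : Set Y)) Z.2 Z.3
    obtain ⟨x, rfl⟩ := hsurj η
    refine ⟨x, ?_⟩
    apply TopologicalSpace.IrreducibleCloseds.ext
    show closure {f x} = (Z : Set Y)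
    exact hη.def
  have hXdim : Order.krullDim X ≤ topologicalKrullDim X := by
    refine Order.krullDim_le_of_strictMono (fun x =>
      (⟨closure {x}, isIrreducible_singleton.closure, isClosed_closure⟩ :
        TopologicalSpace.IrreducibleCloseds X)) ?_
    intro x' x hlt
    have hlt' : x ⤳ x' ∧ ¬ x' ⤳ x := hlt
    refine lt_of_le_of_ne ?_ ?_
    · show closure {x'} ⊆ closure {x}
      exact closure_minimal (Set.singleton_subset_iff.2 hlt'.1.mem_closure) isClosed_closure
    · intro heq
      apply hlt'.2
      rw [specializes_iff_mem_closure]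
      have : (closure {x'} : Set X) = closure {x} :=
        congrArg (fun W : TopologicalSpace.IrreducibleCloseds X => (W : Set X)) heq
      rw [this]; exact subset_closure rfl
  refine le_trans ?_ hXdim
  show Order.krullDim (TopologicalSpace.IrreducibleCloseds Y) ≤ _
  rcases hlift with hsp | hgen
  · apply Groth.Agent.Lib.KrullLift_lead.krullDim_le_of_lifting_lt g hg
    intro x Z' hZ'
    obtain ⟨η', hη'⟩ := QuasiSober.sober (S := (Z' : Set Y)) Z'.2 Z'.3
    have hle : (Z' : Set Y) ⊆ closure {f x} := hZ'.le
    have h1 : f x ⤳ η' := by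
      rw [specializes_iff_mem_closure]; exact hle hη'.mem
    obtain ⟨x', hxx', hfx'⟩ := hsp h1
    have hxx'' : x ⤳ x' := hxx'
    refine ⟨x', ⟨hxx'', ?_⟩, ?_⟩
    · intro h
      have h2 : f x' ⤳ f x := h.map hf
      rw [hfx'] at h2
      apply hZ'.not_ge
      show closure {f x} ⊆ (Z' : Set Y)
      rw [← hη'.def]
      exact closure_minimal (Set.singleton_subset_iff.2 h2.mem_closure) isClosed_closure
    · apply TopologicalSpace.IrreducibleCloseds.ext
      show closure {f x'} = (Z' : Set Y)
      rw [hfx']; exact hη'.def
  · apply Groth.Agent.Lib.KrullLift_lead.krullDim_le_of_lifting_gt g hg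
    intro x Z' hZ'
    obtain ⟨η', hη'⟩ := QuasiSober.sober (S := (Z' : Set Y)) Z'.2 Z'.3
    have hle : closure {f x} ⊆ (Z' : Set Y) := hZ'.le
    have h1 : η' ⤳ f x := by
      rw [specializes_iff_mem_closure, hη'.def]; exact hle (subset_closure rfl)
    obtain ⟨x', hxx', hfx'⟩ := hgen h1
    have hxx'' : x' ⤳ x := hxx'
    refine ⟨x', ⟨hxx'', ?_⟩, ?_⟩
    · intro h
      have h2 : f x ⤳ f x' := h.map hf
      rw [hfx'] at h2
      apply hZ'.not_ge
      show (Z' : Set Y) ⊆ closure {f x}
      rw [← hη'.def]
      exact closure_minimal (Set.singleton_subset_iff.2 h2.mem_closure) isClosed_closure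
    · apply TopologicalSpace.IrreducibleCloseds.ext
      show closure {f x'} = (Z' : Set Y)
      rw [hfx']; exact hη'.def

end Groth.Agent.S7552
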