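import Groth.Statements.S7554
-- import your own Groth.Agent.* helpers here

set_option autoImplicit false
universe u
open PtTop

namespace Groth.Agent.S7554

/-- Let X be a topological space with an open covering X = ⋃ U_i and let T ⊆ X. If T ∩ U_i is nowhere
dense in U_i (with the induced topology) for every i, then T is nowhere dense in X. -/
theorem result {X : Type u} [TopologicalSpace X] {ι : Type u}
    (U : ι → Set X) (hU : ∀ i, IsOpen (U i)) (hcov : ⋃ i, U i = Set.univ) (T : Set X)
    (hT : ∀ i, IsNowhereDense ((Subtype.val : U i → X) ⁻¹' T)) :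
    IsNowhereDense T := by
  have h1 : ∀ i, IsNowhereDense (T ∩ U i) := by
    intro i
    have := (hT i).image_val
    rwa [Subtype.image_preimage_coe, Set.inter_comm] at this
  rw [IsNowhereDense, Set.eq_empty_iff_forall_notMem]
  intro x hx
  have hxU : x ∈ ⋃ i, U i := hcov ▸ Set.mem_univ x
  obtain ⟨i, hi⟩ := Set.mem_iUnion.1 hxU
  have hsub : interior (closure T) ∩ U i ⊆ closure (T ∩ U i) := by
    intro y hy
    have := (hU i).inter_closure (s := U i) (t := T) ⟨hy.2, interior_subset hy.1⟩
    rwa [Set.inter_comm] at this
  have hopen : IsOpen (interior (closure T) ∩ U i) := isOpen_interior.inter (hU i)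
  have hint : interior (closure T) ∩ U i ⊆ interior (closure (T ∩ U i)) :=
    interior_maximal hsub hopen
  rw [h1 i] at hint
  exact hint ⟨hx, hi⟩

end Groth.Agent.S7554
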