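import Groth.Statements.S7559
import Groth.Agent.Lib.Strat_lead

set_option autoImplicit false
universe u
open PtTop

namespace Groth.Agent.S7559

/-- Let X be a topological space and X = ∐ P_k a finite partition into locally closed parts. Then there
is a finite stratification of X refining it: a finite partially ordered index set I and pairwise
disjoint locally closed strata S_i covering X with closure(S_j) ⊆ ⋃_{i ≤ j} S_i, such that every
part P_k is a union of strata. -/
theorem result {X : Type u} [TopologicalSpace X]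
    {n : ℕ} (P : Fin n → Set X) (hP : ∀ k, IsLocallyClosed (P k)) (hcov : ⋃ k, P k = Set.univ)
    (hdisj : ∀ k k', k ≠ k' → Disjoint (P k) (P k')) :
    ∃ (I : Type) (_ : Fintype I) (_ : PartialOrder I) (S : I → Set X),
      (∀ i, IsLocallyClosed (S i)) ∧ (⋃ i, S i = Set.univ) ∧ (∀ i j, i ≠ j → Disjoint (S i) (S j)) ∧
      (∀ j, closure (S j) ⊆ ⋃ i ∈ Set.Iic j, S i) ∧
      (∀ i k, (S i ∩ P k).Nonempty → S i ⊆ P k) := by
  classical
  let V : (Fin n ⊕ Fin n) → Set X :=
    Sum.elim (fun k => (closure (P k))ᶜ) (fun k => coborder (P k))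
  have hV : ∀ p, IsOpen (V p) := by
    rintro (k | k)
    · exact isClosed_closure.isOpen_compl
    · exact (hP k).isOpen_coborder
  have hsatV : ∀ k, Groth.Agent.Lib.Strat_lead.Sat V (P k) := by
    intro k
    have h1 := Groth.Agent.Lib.Strat_lead.sat_compl V
      (Groth.Agent.Lib.Strat_lead.sat_self V (Sum.inl k))
    have h2 := Groth.Agent.Lib.Strat_lead.sat_self V (Sum.inr k)
    have h3 := Groth.Agent.Lib.Strat_lead.sat_inter V h1 h2
    have heq : (V (Sum.inl k))ᶜ ∩ V (Sum.inr k) = P k := by
      change (closure (P k))ᶜᶜ ∩ coborder (P k) = P k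
      rw [compl_compl, closure_inter_coborder]
    rwa [heq] at h3
  refine ⟨Set (Fin n ⊕ Fin n), inferInstance, inferInstance, Groth.Agent.Lib.Strat_lead.atom V,
    fun J => Groth.Agent.Lib.Strat_lead.isLocallyClosed_atom V hV J,
    Groth.Agent.Lib.Strat_lead.iUnion_atom V,
    fun i j hij => Groth.Agent.Lib.Strat_lead.disjoint_atom V hij,
    fun j => Groth.Agent.Lib.Strat_lead.closure_atom_subset V hV j,
    fun i k h => Groth.Agent.Lib.Strat_lead.subset_of_sat V (hsatV k) h⟩

end Groth.Agent.S7559
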