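import Groth.Statements.S7560
import Groth.Agent.Lib.Strat_lead

set_option autoImplicit false
universe u
open ConstrTop

namespace Groth.Agent.S7560

/-- Let X be a topological space written as a finite union X = T_1 ∪ … ∪ T_n of constructible subsets.
Then there is a finite stratification X = ∐ S_i (pairwise disjoint locally closed strata indexed by
a finite partially ordered set, with closure(S_j) ⊆ ⋃_{i ≤ j} S_i) whose strata are constructible
and such that every T_k is a union of strata. -/
theorem result {X : Type u} [TopologicalSpace X]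
    {n : ℕ} (T : Fin n → Set X) (hT : ∀ k, Topology.IsConstructible (T k)) (hcov : ⋃ k, T k = Set.univ) :
    ∃ (I : Type) (_ : Fintype I) (_ : PartialOrder I) (S : I → Set X),
      (∀ i, IsLocallyClosed (S i) ∧ Topology.IsConstructible (S i)) ∧ (⋃ i, S i = Set.univ) ∧
      (∀ i j, i ≠ j → Disjoint (S i) (S j)) ∧
      (∀ j, closure (S j) ⊆ ⋃ i ∈ Set.Iic j, S i) ∧
      (∀ i k, (S i ∩ T k).Nonempty → S i ⊆ T k) := by
  classical
  choose K hK U hU hsat using fun k =>
    Groth.Agent.Lib.Strat_lead.exists_sat_of_isConstructible (hT k)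
  let V : (Σ k, K k) → Set X := fun p => U p.1 p.2
  have hV : ∀ p, IsOpen (V p) := fun p => (hU p.1 p.2).1
  have hV' : ∀ p, IsRetrocompact (V p) := fun p => (hU p.1 p.2).2
  have hsatV : ∀ k, Groth.Agent.Lib.Strat_lead.Sat V (T k) := fun k =>
    Groth.Agent.Lib.Strat_lead.sat_comp V (Sigma.mk k) (hsat k)
  refine ⟨Set (Σ k, K k), inferInstance, inferInstance, Groth.Agent.Lib.Strat_lead.atom V,
    fun J => ⟨Groth.Agent.Lib.Strat_lead.isLocallyClosed_atom V hV J,
      Groth.Agent.Lib.Strat_lead.isConstructible_atom V hV hV' J⟩,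
    Groth.Agent.Lib.Strat_lead.iUnion_atom V,
    fun i j hij => Groth.Agent.Lib.Strat_lead.disjoint_atom V hij,
    fun j => Groth.Agent.Lib.Strat_lead.closure_atom_subset V hV j,
    fun i k h => Groth.Agent.Lib.Strat_lead.subset_of_sat V (hsatV k) h⟩

end Groth.Agent.S7560
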