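import Groth.Statements.S7565
import Mathlib.Topology.NoetherianSpace

set_option autoImplicit false
universe u
open PtTop

namespace Groth.Agent.S7565

/-- Let f : X → Y be a continuous open map of topological spaces and assume every point of X has a
Noetherian neighbourhood. Then every point of f(X) (with the induced topology) has a Noetherian
neighbourhood. The published statement also asserts that a continuous image of a Noetherian space is
Noetherian; this row states the part about open maps and locally Noetherian spaces. -/
theorem result {X Y : Type u} [TopologicalSpace X] [TopologicalSpace Y]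
    (f : X → Y) (hf : Continuous f) (hfo : IsOpenMap f)
    (hX : ∀ x : X, ∃ E ∈ nhds x, TopologicalSpace.NoetherianSpace E) :
    ∀ y : Set.range f, ∃ E : Set (Set.range f), E ∈ nhds y ∧ TopologicalSpace.NoetherianSpace E := by
  rintro ⟨y, x, rfl⟩
  obtain ⟨E, hE, hEN⟩ := hX x
  obtain ⟨U, hUE, hU, hxU⟩ := mem_nhds_iff.1 hE
  have hUN : TopologicalSpace.NoetherianSpace U := TopologicalSpace.NoetherianSpace.of_subset hUE
  have hfU : ∀ t ⊆ f '' U, IsCompact t := by
    intro t ht
    have : t = f '' (U ∩ f ⁻¹' t) := by
      ext z
      constructor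
      · intro hz
        obtain ⟨u, hu, rfl⟩ := ht hz
        exact ⟨u, ⟨hu, hz⟩, rfl⟩
      · rintro ⟨u, ⟨_, hu⟩, rfl⟩
        exact hu
    rw [this]
    exact ((TopologicalSpace.noetherianSpace_set_iff U).1 hUN _ Set.inter_subset_left).image hf
  refine ⟨Subtype.val ⁻¹' (f '' U),
    ((hfo U hU).preimage continuous_subtype_val).mem_nhds ⟨x, hxU, rfl⟩, ?_⟩
  rw [TopologicalSpace.noetherianSpace_set_iff]
  intro t ht
  rw [Topology.IsInducing.subtypeVal.isCompact_iff]
  exact hfU _ (by rintro _ ⟨z, hz, rfl⟩; exact ht hz)

end Groth.Agent.S7565
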