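import Groth.Statements.S7567
import Groth.Agent.Lib.ClopenComp_lead

set_option autoImplicit false
universe u
open PtTop

namespace Groth.Agent.S7567

/-- Let X be a quasi-compact topological space whose quasi-compact opens form a basis, any two of them
meeting in a quasi-compact set. For a subset T ⊆ X these two conditions are equivalent: (a) T can be
written as an intersection of clopen subsets of X; (b) T is closed and is a union of connected
components of X. -/
theorem result {X : Type u} [TopologicalSpace X]
    [CompactSpace X] [PrespectralSpace X] [QuasiSeparatedSpace X] (T : Set X) :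
    (∃ S : Set (Set X), (∀ Z ∈ S, IsClopen Z) ∧ T = ⋂₀ S) ↔
      (IsClosed T ∧ ∀ x ∈ T, connectedComponent x ⊆ T) := by
  constructor
  · rintro ⟨S, hS, rfl⟩
    refine ⟨isClosed_sInter fun Z hZ => (hS Z hZ).1, fun x hx => ?_⟩
    intro y hy
    rw [Set.mem_sInter]
    intro Z hZ
    exact (hS Z hZ).connectedComponent_subset (Set.mem_sInter.1 hx Z hZ) hy
  · rintro ⟨hT, hcomp⟩
    refine ⟨{Z | IsClopen Z ∧ T ⊆ Z}, fun Z hZ => hZ.1, ?_⟩
    apply Set.Subset.antisymm
    · intro t ht
      rw [Set.mem_sInter]
      exact fun Z hZ => hZ.2 ht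
    · intro y hy
      by_contra hyT
      have hdisj : T ∩ ⋂ s : { s : Set X // IsClopen s ∧ y ∈ s }, (s : Set X) = ∅ := by
        rw [← Groth.Agent.Lib.ClopenComp_lead.connectedComponent_eq_iInter_isClopen y,
          Set.eq_empty_iff_forall_notMem]
        rintro z ⟨hzT, hzy⟩
        apply hyT
        have := hcomp z hzT
        rw [← connectedComponent_eq hzy] at this
        exact this mem_connectedComponent
      obtain ⟨Z, hZ, hyZ, hTZ⟩ :=
        Groth.Agent.Lib.ClopenComp_lead.exists_isClopen_disjoint_of_isCompact y hT.isCompact hdisj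
      have hmem : Zᶜ ∈ {Z | IsClopen Z ∧ T ⊆ Z} := by
        refine ⟨hZ.compl, fun t ht htZ => ?_⟩
        have : t ∈ T ∩ Z := ⟨ht, htZ⟩
        rw [hTZ] at this
        exact this
      exact (Set.mem_sInter.1 hy _ hmem) hyZ

end Groth.Agent.S7567
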