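import Groth.Statements.S7568
import Groth.Agent.Lib.CechRef_lead

set_option autoImplicit false
universe u
open PtTop

namespace Groth.Agent.S7568

/-- Let X be a Hausdorff quasi-compact space, X = ⋃ U_i an open covering, p ≥ 0 an integer, and for
every (p+1)-tuple (i_0, …, i_p) an open covering of U_{i_0} ∩ … ∩ U_{i_p} by opens W_{i_0…i_p,k}.
Then there are an open covering X = ⋃_{j ∈ J} V_j and a map α : J → I with closure(V_j) ⊆ U_{α(j)}
such that each V_{j_0} ∩ … ∩ V_{j_p} is contained in W_{α(j_0)…α(j_p),k} for some k. The published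
statement allows a covering of an empty intersection to have no members; this row requires every
covering W_{i_0…i_p} to have at least one member (possibly empty), without which the conclusion
fails. -/
theorem result {X : Type u} [TopologicalSpace X] [CompactSpace X] [T2Space X]
    {ι : Type u} (U : ι → Set X) (hU : ∀ i, IsOpen (U i)) (hcov : ⋃ i, U i = Set.univ) (p : ℕ)
    (W : (Fin (p + 1) → ι) → Set (Set X)) (hWo : ∀ t, ∀ w ∈ W t, IsOpen w)
    (hWc : ∀ t, ⋃₀ W t = ⋂ l, U (t l)) (hWne : ∀ t, (W t).Nonempty) :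
    ∃ (J : Type u) (V : J → Set X) (α : J → ι), (∀ j, IsOpen (V j)) ∧ (⋃ j, V j = Set.univ) ∧
      (∀ j, closure (V j) ⊆ U (α j)) ∧
      (∀ t : Fin (p + 1) → J, ∃ w ∈ W (α ∘ t), (⋂ l, V (t l)) ⊆ w) := by
  classical
  obtain ⟨I₀, hI₀⟩ := isCompact_univ.elim_finite_subcover U hU (by rw [hcov])
  have hcov0 : ⋃ i : {i // i ∈ I₀}, U i = Set.univ := by
    apply Set.eq_univ_of_forall
    intro x
    obtain ⟨i, hi, hx⟩ := Set.mem_iUnion₂.mp (hI₀ (Set.mem_univ x))
    exact Set.mem_iUnion.mpr ⟨⟨i, hi⟩, hx⟩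
  obtain ⟨v1, hv1U, hv1o, hv1c⟩ := exists_iUnion_eq_closure_subset
    (u := fun i : {i // i ∈ I₀} => U i) (fun i => hU i) (fun x => Set.toFinite _) hcov0
  obtain ⟨v2, hv2U, hv2o, hv2c⟩ := exists_iUnion_eq_closure_subset
    (u := v1) hv1o (fun x => Set.toFinite _) hv1U
  have hw : ∀ (x : X) (t₀ : Fin (p + 1) → {i // i ∈ I₀}), ∃ w : Set X, IsOpen w ∧ x ∈ w ∧
      ((x ∈ ⋂ l, closure (v1 (t₀ l))) → w ∈ W (fun l => (t₀ l : ι))) := by
    intro x t₀
    by_cases hx : x ∈ ⋂ l, closure (v1 (t₀ l))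
    · have hxU : x ∈ ⋃₀ W (fun l => (t₀ l : ι)) := by
        rw [hWc]
        exact Set.mem_iInter.mpr fun l => hv1c (t₀ l) (Set.mem_iInter.mp hx l)
      obtain ⟨w, hwW, hxw⟩ := hxU
      exact ⟨w, hWo _ w hwW, hxw, fun _ => hwW⟩
    · exact ⟨Set.univ, isOpen_univ, Set.mem_univ x, fun h => absurd h hx⟩
  choose w hwo hxw hwW using hw
  let N : X → Set X := fun x =>
    (⋂ i : {i // i ∈ I₀}, if x ∈ closure (v1 i) then Set.univ else (closure (v1 i))ᶜ) ∩
      ⋂ t₀ : Fin (p + 1) → {i // i ∈ I₀}, w x t₀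
  have hNo : ∀ x, IsOpen (N x) := by
    intro x
    refine (isOpen_iInter_of_finite fun i => ?_).inter
      (isOpen_iInter_of_finite fun t₀ => hwo x t₀)
    split_ifs
    · exact isOpen_univ
    · exact isClosed_closure.isOpen_compl
  have hxN : ∀ x, x ∈ N x := by
    intro x
    refine ⟨Set.mem_iInter.mpr fun i => ?_, Set.mem_iInter.mpr fun t₀ => hxw x t₀⟩
    split_ifs with h
    · trivial
    · exact h
  refine ⟨{q : X × {i // i ∈ I₀} // q.1 ∈ closure (v2 q.2)}, fun j => N j.1.1 ∩ v1 j.1.2,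
    fun j => (j.1.2 : ι), ?_, ?_, ?_, ?_⟩
  · intro j
    exact (hNo _).inter (hv1o _)
  · apply Set.eq_univ_of_forall
    intro x
    have hx2 : x ∈ ⋃ i, v2 i := by rw [hv2U]; trivial
    obtain ⟨i, hi⟩ := Set.mem_iUnion.mp hx2
    exact Set.mem_iUnion.mpr ⟨⟨(x, i), subset_closure hi⟩, hxN x, hv2c i (subset_closure hi)⟩
  · intro j
    exact (closure_mono Set.inter_subset_right).trans (hv1c j.1.2)
  · intro t
    by_cases hne : (⋂ l, (N (t l).1.1 ∩ v1 (t l).1.2)).Nonempty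
    · obtain ⟨y, hy⟩ := hne
      have hx0 : (t 0).1.1 ∈ ⋂ l, closure (v1 ((fun l => (t l).1.2) l)) := by
        refine Set.mem_iInter.mpr fun l => ?_
        by_contra hcon
        have hy0 : y ∈ N (t 0).1.1 := (Set.mem_iInter.mp hy 0).1
        have h1 := Set.mem_iInter.mp hy0.1 ((t l).1.2)
        rw [if_neg hcon] at h1
        exact h1 (subset_closure (Set.mem_iInter.mp hy l).2)
      refine ⟨w (t 0).1.1 (fun l => (t l).1.2), hwW _ _ hx0, ?_⟩
      intro z hz
      have hz0 : z ∈ N (t 0).1.1 := (Set.mem_iInter.mp hz 0).1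
      exact Set.mem_iInter.mp hz0.2 (fun l => (t l).1.2)
    · obtain ⟨w', hw'⟩ := hWne (fun l => ((t l).1.2 : ι))
      refine ⟨w', hw', ?_⟩
      intro z hz
      exact absurd ⟨z, hz⟩ hne

end Groth.Agent.S7568
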