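import Groth.Statements.S7569
import Groth.Agent.Lib.CechRef_lead

set_option autoImplicit false
universe u
open PtTop

namespace Groth.Agent.S7569

/-- Let X be a Hausdorff, locally quasi-compact space and Z ⊆ X a quasi-compact subset. Let p ≥ 0, let
U_i ⊆ X be opens with Z ⊆ ⋃ U_i, and for every (p+1)-tuple (i_0, …, i_p) let W_{i_0…i_p} ⊆ U_{i_0} ∩
… ∩ U_{i_p} be an open with W_{i_0…i_p} ∩ Z = U_{i_0} ∩ … ∩ U_{i_p} ∩ Z. Then there are opens V_i ⊆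
X with Z ⊆ ⋃ V_i, closure(V_i) ⊆ U_i for all i, and V_{i_0} ∩ … ∩ V_{i_p} ⊆ W_{i_0…i_p} for all
(p+1)-tuples. -/
theorem result {X : Type u} [TopologicalSpace X]
    [T2Space X] [LocallyCompactSpace X] (Z : Set X) (hZ : IsCompact Z)
    {ι : Type u} (U : ι → Set X) (hU : ∀ i, IsOpen (U i)) (hcov : Z ⊆ ⋃ i, U i) (p : ℕ)
    (W : (Fin (p + 1) → ι) → Set X) (hWo : ∀ t, IsOpen (W t)) (hWU : ∀ t, W t ⊆ ⋂ l, U (t l))
    (hWZ : ∀ t, W t ∩ Z = (⋂ l, U (t l)) ∩ Z) :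
    ∃ V : ι → Set X, (∀ i, IsOpen (V i)) ∧ (Z ⊆ ⋃ i, V i) ∧ (∀ i, closure (V i) ⊆ U i) ∧
      (∀ t : Fin (p + 1) → ι, (⋂ l, V (t l)) ⊆ W t) := by
  have hZsep : ∀ z ∈ Z, ∀ z' ∈ Z, z ≠ z' →
      ∃ A B : Set X, IsOpen A ∧ IsOpen B ∧ z ∈ A ∧ z' ∈ B ∧ Disjoint A B :=
    fun z _ z' _ h => t2_separation h
  obtain ⟨T, V, hTc, hKV, hTcov, hVo, hVU, hVcl, hV4⟩ :=
    Groth.Agent.CechRef.cech_core hZsep hZ U hU hcov p W hWo hWZ
  have h : ∀ i, ∃ O : Set X, IsOpen O ∧ Z ∩ T i ⊆ O ∧ closure O ⊆ U i ∧ IsCompact (closure O) :=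
    fun i => exists_open_between_and_isCompact_closure (hZ.inter_right (hTc i)) (hU i)
      ((hKV i).trans (hVU i))
  choose O hOo hKO hOU _hOc using h
  refine ⟨fun i => V i ∩ O i, fun i => (hVo i).inter (hOo i), ?_, ?_, ?_⟩
  · intro x hx
    obtain ⟨i, hi⟩ := Set.mem_iUnion.mp (hTcov hx)
    exact Set.mem_iUnion.mpr ⟨i, hKV i ⟨hx, hi⟩, hKO i ⟨hx, hi⟩⟩
  · intro i
    exact (closure_mono Set.inter_subset_right).trans (hOU i)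
  · intro t x hx
    apply hV4 t
    exact Set.mem_iInter.mpr fun l => (Set.mem_iInter.mp hx l).1

end Groth.Agent.S7569
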