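import Groth.Statements.S7571
import Groth.Agent.Lib.CofLim_lead

set_option autoImplicit false
universe u
open CategoryTheory CategoryTheory.Limits
open PtTop

namespace Groth.Agent.S7571

/-- Let j ↦ X_j be a diagram of topological spaces over a cofiltered category with limit X and
projections f_j. (1) Every open of X is a union of subsets of the form f_j⁻¹(U_j) with U_j ⊆ X_j
open. (2) Every quasi-compact open of X equals f_i⁻¹(U_i) for some i and some open U_i ⊆ X_i. -/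
theorem result {J : Type u} [SmallCategory J] [IsCofiltered J]
    (F : J ⥤ TopCat.{u}) (c : Cone F) (hc : IsLimit c) :
    (∀ W : Set c.pt, IsOpen W →
      ∃ S : Set (Σ j, Set (F.obj j)), (∀ s ∈ S, IsOpen s.2) ∧ W = ⋃ s ∈ S, c.π.app s.1 ⁻¹' s.2) ∧
    (∀ W : Set c.pt, IsOpen W → IsCompact W →
      ∃ (i : J) (Ui : Set (F.obj i)), IsOpen Ui ∧ W = c.π.app i ⁻¹' Ui) := by
  refine ⟨fun W hW => ?_, fun W hW hWc =>
    Groth.Agent.Lib.CofLim_lead.exists_preimage_eq_of_isCompact F c hc hW hWc⟩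
  refine ⟨{s | IsOpen s.2 ∧ c.π.app s.1 ⁻¹' s.2 ⊆ W}, fun s hs => hs.1, ?_⟩
  apply Set.Subset.antisymm
  · intro x hx
    obtain ⟨j, V, hV, hxV, hVW⟩ := Groth.Agent.Lib.CofLim_lead.exists_preimage_subset F c hc hW hx
    exact Set.mem_iUnion₂.2 ⟨⟨j, V⟩, ⟨hV, hVW⟩, hxV⟩
  · exact Set.iUnion₂_subset fun s hs => hs.2

end Groth.Agent.S7571
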