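import Groth.Statements.S7578
import Groth.Agent.Lib.Caten_lead

set_option autoImplicit false
universe u
open PtTop

namespace Groth.Agent.S7578

/-- Let X be a topological space which is locally Noetherian (every point has a Noetherian
neighbourhood) and sober, and let δ, δ' be two dimension functions on X. Then δ − δ' is locally
constant. -/
theorem result {X : Type u} [TopologicalSpace X] [QuasiSober X] [T0Space X]
    (hX : ∀ x : X, ∃ E ∈ nhds x, TopologicalSpace.NoetherianSpace E)
    (δ δ' : X → ℤ) (hδ : PtTop.IsDimensionFunction δ) (hδ' : PtTop.IsDimensionFunction δ') :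
    IsLocallyConstant (fun x => δ x - δ' x) := by
  classical
  rw [IsLocallyConstant.iff_exists_open]
  intro x
  obtain ⟨E, hE, hEN⟩ := hX x
  have hxU : x ∈ interior E := mem_interior_iff_mem_nhds.mpr hE
  have hUo : IsOpen (interior E) := isOpen_interior
  haveI : TopologicalSpace.NoetherianSpace (interior E) :=
    (Topology.IsEmbedding.inclusion (interior_subset : interior E ⊆ E)).isInducing.noetherianSpace
  have hfin : (irreducibleComponents (interior E)).Finite :=
    TopologicalSpace.NoetherianSpace.finite_irreducibleComponents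
  let I : Set (Set (interior E)) :=
    {Z | Z ∈ irreducibleComponents (interior E) ∧ (⟨x, hxU⟩ : interior E) ∉ Z}
  let O : Set (interior E) := ⋂ Z ∈ I, Zᶜ
  have hOo : IsOpen O := by
    apply Set.Finite.isOpen_biInter (hfin.subset (fun Z hZ => hZ.1))
    intro Z hZ
    exact (isClosed_of_mem_irreducibleComponents Z hZ.1).isOpen_compl
  have hxO : (⟨x, hxU⟩ : interior E) ∈ O := by
    simp only [O, Set.mem_iInter]
    intro Z hZ
    exact hZ.2
  refine ⟨Subtype.val '' O, hUo.isOpenMap_subtype_val _ hOo, ⟨_, hxO, rfl⟩, ?_⟩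
  rintro _ ⟨u, hu, rfl⟩
  have hmem : u ∈ ⋃₀ irreducibleComponents (interior E) := by
    rw [sUnion_irreducibleComponents]; trivial
  obtain ⟨Z, hZ, huZ⟩ := hmem
  have hxZ : (⟨x, hxU⟩ : interior E) ∈ Z := by
    by_contra hcon
    have := Set.mem_iInter₂.mp hu Z ⟨hZ, hcon⟩
    exact this huZ
  have hZirr : IsIrreducible Z := (show Maximal IsIrreducible Z from hZ).prop
  have hirr : IsIrreducible (closure (Subtype.val '' Z : Set X)) :=
    (hZirr.image _ continuous_subtype_val.continuousOn).closure
  have hξ : closure {hirr.genericPoint} = closure (Subtype.val '' Z : Set X) :=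
    (hirr.isGenericPoint_genericPoint isClosed_closure).def
  have sp : ∀ v : interior E, v ∈ Z → hirr.genericPoint ⤳ (v : X) := by
    intro v hv
    rw [specializes_iff_mem_closure, hξ]
    exact subset_closure ⟨v, hv, rfl⟩
  have e1 := Groth.Agent.CatenLead.diff_eq_of_specializes δ δ' hδ hδ' (sp u huZ)
  have e2 := Groth.Agent.CatenLead.diff_eq_of_specializes δ δ' hδ hδ' (sp ⟨x, hxU⟩ hxZ)
  show δ u - δ' u = δ x - δ' x
  rw [← e1, e2]

end Groth.Agent.S7578
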