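import Groth.Statements.S7579
import Groth.Agent.Lib.SpecSp_lead

set_option autoImplicit false
universe u
open SpecSp

namespace Groth.Agent.S7579

/-- Let X be a spectral space. Then X with its constructible topology is Hausdorff and totally
disconnected. The published statement also asserts that the constructible topology is quasi-compact;
this row states the Hausdorff and totally disconnected parts. -/
theorem result (X : Type u) [TopologicalSpace X] [SpectralSpace X] :
    T2Space (WithConstructibleTopology X) ∧ TotallyDisconnectedSpace (WithConstructibleTopology X) := by
  have hts : TotallySeparatedSpace (WithConstructibleTopology X) := by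
    rw [totallySeparatedSpace_iff_exists_isClopen]
    intro x y hxy
    have hxy' : WithTopology.ofTopology x ≠ WithTopology.ofTopology y := fun h =>
      hxy (WithTopology.ofTopology_injective _ h)
    obtain ⟨U, ⟨hUc, hUo⟩, hxU, hyU⟩ :=
      Groth.Agent.Lib.SpecSp_lead.exists_isClopen_constructibleTopology hxy'
    refine ⟨WithTopology.ofTopology ⁻¹' U, ⟨?_, ?_⟩, hxU, hyU⟩
    · rw [WithTopology.isClosed_iff]; exact hUc
    · rw [WithTopology.isOpen_iff]; exact hUo
  exact ⟨inferInstance, inferInstance⟩

end Groth.Agent.S7579
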