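import Groth.Statements.S7580
import Mathlib.SetTheory.Cardinal.Arithmetic
import Mathlib.Topology.Separation.Hausdorff

set_option autoImplicit false
universe u
open PtTop

namespace Groth.Agent.S7580

/-- Let f : X → Y be a continuous map of topological spaces with f(X) dense in Y and Y Hausdorff. Then
the cardinality of Y is at most that of the double power set of X. -/
theorem result {X Y : Type u} [TopologicalSpace X] [TopologicalSpace Y] [T2Space Y]
    (f : X → Y) (hf : Continuous f) (hd : DenseRange f) :
    Cardinal.mk Y ≤ (2 : Cardinal.{u}) ^ ((2 : Cardinal.{u}) ^ Cardinal.mk X) := by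
  have hinj : Function.Injective (fun y : Y => {A : Set X | y ∈ closure (f '' A)}) := by
    intro y y' hyy'
    by_contra hne
    obtain ⟨U, U', hU, hU', hyU, hy'U', hdisj⟩ := t2_separation hne
    have h1 : f ⁻¹' U ∈ {A : Set X | y ∈ closure (f '' A)} := by
      show y ∈ closure (f '' (f ⁻¹' U))
      rw [Set.image_preimage_eq_inter_range]
      have := Dense.open_subset_closure_inter (s := Set.range f) hd hU
      exact this hyU
    have h2 : f ⁻¹' U ∉ {A : Set X | y' ∈ closure (f '' A)} := by
      show ¬ y' ∈ closure (f '' (f ⁻¹' U))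
      intro h
      rw [mem_closure_iff] at h
      obtain ⟨z, hzU', ⟨x, hx, rfl⟩⟩ := h U' hU' hy'U'
      exact Set.disjoint_left.1 hdisj hx hzU'
    have h3 : {A : Set X | y ∈ closure (f '' A)} = {A : Set X | y' ∈ closure (f '' A)} := hyy'
    rw [h3] at h1
    exact h2 h1
  have := Cardinal.mk_le_of_injective hinj
  rwa [Cardinal.mk_set, Cardinal.mk_set] at this

end Groth.Agent.S7580
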