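import Groth.Statements.S7581
import Groth.Agent.Lib.Caten_lead

set_option autoImplicit false
universe u
open PtTop

namespace Groth.Agent.S7581

/-- Let X be a topological space. Then X is catenary if and only if for every pair of irreducible closed
subsets Y ⊆ Y' the codimension codim(Y, Y') is finite and for every triple Y ⊆ Y' ⊆ Y'' of
irreducible closed subsets codim(Y, Y'') = codim(Y, Y') + codim(Y', Y''). -/
theorem result (X : Type u) [TopologicalSpace X] :
    PtTop.IsCatenarySpace X ↔
      (∀ Y Y' : TopologicalSpace.IrreducibleCloseds X, Y ≤ Y' → PtTop.codim Y (Y' : Set X) ≠ ⊤) ∧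
      (∀ Y Y' Y'' : TopologicalSpace.IrreducibleCloseds X, Y ≤ Y' → Y' ≤ Y'' →
        PtTop.codim Y (Y'' : Set X) = PtTop.codim Y (Y' : Set X) + PtTop.codim Y' (Y'' : Set X)) := by
  constructor
  · intro hc
    refine ⟨fun Y Y' h => (hc Y Y' h).1, ?_⟩
    intro Y Y' Y'' h h'
    obtain ⟨s1, a1, a2, a3⟩ := Groth.Agent.CatenLead.exists_series_eq_codim h (hc Y Y' h).1
    obtain ⟨s2, b1, b2, b3⟩ := Groth.Agent.CatenLead.exists_series_eq_codim h' (hc Y' Y'' h').1
    have hconn : s1.last = s2.head := by rw [a2, b1]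
    have hsat : ∀ i : Fin (s1.smash s2 hconn).length,
        (s1.smash s2 hconn) i.castSucc ⋖ (s1.smash s2 hconn) i.succ := by
      intro i
      refine Fin.addCases (motive := fun i : Fin (s1.length + s2.length) =>
        (s1.smash s2 hconn) i.castSucc ⋖ (s1.smash s2 hconn) i.succ) (fun j => ?_) (fun j => ?_) i
      · rw [RelSeries.smash_castAdd, RelSeries.smash_succ_castAdd]
        exact Groth.Agent.CatenLead.covBy_of_length_eq_codim s1 a1 a2 a3 j
      · rw [RelSeries.smash_natAdd, RelSeries.smash_succ_natAdd]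
        exact Groth.Agent.CatenLead.covBy_of_length_eq_codim s2 b1 b2 b3 j
    have := (hc Y Y'' (h.trans h')).2 (s1.smash s2 hconn)
      (by rw [RelSeries.head_smash, a1]) (by rw [RelSeries.last_smash, b2]) hsat
    rw [← this, ← a3, ← b3, RelSeries.smash_length]
    push_cast
    rfl
  · rintro ⟨hfin, hadd⟩ T T' hTT'
    refine ⟨hfin T T' hTT', ?_⟩
    intro s h1 h2 hsat
    subst h1 h2
    exact (Groth.Agent.CatenLead.codim_eq_of_additive hadd s.length s.toFun hsat).symm

end Groth.Agent.S7581
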