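import Groth.Statements.S7588
import Groth.Agent.Lib.ShBExt_lead

set_option autoImplicit false
universe u
open CategoryTheory
open ShSp

namespace Groth.Agent.S7588

/-- Let X be a topological space, ℬ a basis for its topology and F a sheaf of sets on ℬ. There is a
sheaf of sets F^ext on X together with an isomorphism of presheaves on ℬ between the restriction of
F^ext to ℬ and F; and it is unique: given two sheaves G, G′ on X with such isomorphisms e, e′, there
is a unique isomorphism G ≅ G′ whose restriction to the members of ℬ is compatible with e and e′. -/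
theorem result {X : Type u} [TopologicalSpace X] {B : Set (TopologicalSpace.Opens X)}
    (hB : TopologicalSpace.Opens.IsBasis B) (F : ShB.Pre B) (hF : ShB.IsSheaf F) :
    (∃ G : TopCat.Sheaf (Type u) (TopCat.of X), Nonempty (ShB.Iso (ShB.restrict B G.presheaf) F)) ∧
    ∀ (G G' : TopCat.Sheaf (Type u) (TopCat.of X)) (e : ShB.Iso (ShB.restrict B G.presheaf) F)
      (e' : ShB.Iso (ShB.restrict B G'.presheaf) F),
      ∃! φ : G ⟶ G', IsIso φ ∧ ∀ (U : B) (s : G.presheaf.obj (Opposite.op (U : TopologicalSpace.Opens X))),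
        e'.hom.app U (φ.1.app (Opposite.op (U : TopologicalSpace.Opens X)) s) = e.hom.app U s := by
  constructor
  · exact ⟨Groth.Agent.Lib.ShBExt_lead.extSheaf hB F hF, ⟨Groth.Agent.Lib.ShBExt_lead.extIso F⟩⟩
  · intro G G' e e'
    let ψ : ShB.Hom (ShB.restrict B G.presheaf) (ShB.restrict B G'.presheaf) :=
      { app := fun U s => e'.inv.app U (e.hom.app U s)
        natural := fun {U V} h s => by
          rw [e'.inv.natural h, e.hom.natural h] }
    let ψ' : ShB.Hom (ShB.restrict B G'.presheaf) (ShB.restrict B G.presheaf) :=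
      { app := fun U s => e.inv.app U (e'.hom.app U s)
        natural := fun {U V} h s => by
          rw [e.inv.natural h, e'.hom.natural h] }
    let idG : ShB.Hom (ShB.restrict B G.presheaf) (ShB.restrict B G.presheaf) :=
      { app := fun U s => s
        natural := fun {U V} h s => rfl }
    let idG' : ShB.Hom (ShB.restrict B G'.presheaf) (ShB.restrict B G'.presheaf) :=
      { app := fun U s => s
        natural := fun {U V} h s => rfl }
    have h1 : Groth.Agent.Lib.ShBExt_lead.lift hB G G' ψ ≫
        Groth.Agent.Lib.ShBExt_lead.lift hB G' G ψ' = 𝟙 G.presheaf := by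
      have a := Groth.Agent.Lib.ShBExt_lead.lift_unique hB G G idG
        (Groth.Agent.Lib.ShBExt_lead.lift hB G G' ψ ≫ Groth.Agent.Lib.ShBExt_lead.lift hB G' G ψ')
        (fun U s => by
          show (Groth.Agent.Lib.ShBExt_lead.lift hB G' G ψ').app _
            ((Groth.Agent.Lib.ShBExt_lead.lift hB G G' ψ).app _ s) = s
          rw [Groth.Agent.Lib.ShBExt_lead.lift_app_basis,
            Groth.Agent.Lib.ShBExt_lead.lift_app_basis]
          show e.inv.app U (e'.hom.app U (e'.inv.app U (e.hom.app U s))) = s
          rw [e'.inv_hom, e.hom_inv])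
      have b := Groth.Agent.Lib.ShBExt_lead.lift_unique hB G G idG (𝟙 G.presheaf)
        (fun U s => rfl)
      rw [a, b]
    have h2 : Groth.Agent.Lib.ShBExt_lead.lift hB G' G ψ' ≫
        Groth.Agent.Lib.ShBExt_lead.lift hB G G' ψ = 𝟙 G'.presheaf := by
      have a := Groth.Agent.Lib.ShBExt_lead.lift_unique hB G' G' idG'
        (Groth.Agent.Lib.ShBExt_lead.lift hB G' G ψ' ≫ Groth.Agent.Lib.ShBExt_lead.lift hB G G' ψ)
        (fun U s => by
          show (Groth.Agent.Lib.ShBExt_lead.lift hB G G' ψ).app _
            ((Groth.Agent.Lib.ShBExt_lead.lift hB G' G ψ').app _ s) = s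
          rw [Groth.Agent.Lib.ShBExt_lead.lift_app_basis,
            Groth.Agent.Lib.ShBExt_lead.lift_app_basis]
          show e'.inv.app U (e.hom.app U (e.inv.app U (e'.hom.app U s))) = s
          rw [e.inv_hom, e'.hom_inv])
      have b := Groth.Agent.Lib.ShBExt_lead.lift_unique hB G' G' idG' (𝟙 G'.presheaf)
        (fun U s => rfl)
      rw [a, b]
    refine ⟨ObjectProperty.homMk (Groth.Agent.Lib.ShBExt_lead.lift hB G G' ψ), ⟨?_, ?_⟩, ?_⟩
    · exact ⟨⟨ObjectProperty.homMk (Groth.Agent.Lib.ShBExt_lead.lift hB G' G ψ'),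
        ObjectProperty.hom_ext _ h1, ObjectProperty.hom_ext _ h2⟩⟩
    · intro U s
      show e'.hom.app U ((Groth.Agent.Lib.ShBExt_lead.lift hB G G' ψ).app _ s) = e.hom.app U s
      rw [Groth.Agent.Lib.ShBExt_lead.lift_app_basis]
      show e'.hom.app U (e'.inv.app U (e.hom.app U s)) = e.hom.app U s
      rw [e'.inv_hom]
    · rintro φ' ⟨_, hφ'⟩
      apply ObjectProperty.hom_ext
      show φ'.hom = Groth.Agent.Lib.ShBExt_lead.lift hB G G' ψ
      apply Groth.Agent.Lib.ShBExt_lead.lift_unique
      intro U s
      show φ'.hom.app _ s = e'.inv.app U (e.hom.app U s)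
      rw [← hφ' U s, e'.hom_inv]

end Groth.Agent.S7588
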