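import Groth.Statements.S7589
import Groth.Agent.Lib.FieldExt2_helper8

set_option autoImplicit false
universe u
open CategoryTheory CategoryTheory.Limits AlgebraicGeometry
attribute [local instance] Curv2.stalkAlgebra Curv2.resAlgebra
open Variety

namespace Groth.Agent.S7589

/-- Let X be locally of finite type over a field k, K an extension field of k, y a point of the base
change X_K and x its image in X; write a = trdeg_k κ(x) and a' = trdeg_K κ(y). Then dim O_{X_K, y} +
a' = dim O_{X, x} + a, and the fibre ring O_{X_K, y} / m_x O_{X_K, y} has Krull dimension a - a' (in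
particular a' ≤ a); dimensions in WithBot ℕ∞. -/
theorem result (k : Type u) [Field k] (X : Scheme.{u}) [X.Over (Spec (CommRingCat.of k))] [LocallyOfFiniteType (X ↘ (Spec (CommRingCat.of k)))]
    (K : Type u) [Field K] [Algebra k K] (y : ↥(Curv2.bc k X K)) (a a' : ℕ)
    (ha : Algebra.trdeg k (X.residueField (Curv2.bcFst k X K y)) = a)
    (ha' : letI : (Curv2.bc k X K).Over (Spec (CommRingCat.of K)) := ⟨Curv2.bcSnd k X K⟩
      Algebra.trdeg K ((Curv2.bc k X K).residueField y) = a') :
    ringKrullDim ((Curv2.bc k X K).presheaf.stalk y) + (a' : WithBot ℕ∞) =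
        ringKrullDim (X.presheaf.stalk (Curv2.bcFst k X K y)) + (a : WithBot ℕ∞) ∧
      ringKrullDim (↥((Curv2.bc k X K).presheaf.stalk y) ⧸ Ideal.map ((Curv2.bcFst k X K).stalkMap y).hom (IsLocalRing.maximalIdeal ↥(X.presheaf.stalk (Curv2.bcFst k X K y)))) + (a' : WithBot ℕ∞) =
        (a : WithBot ℕ∞) := by
  letI ovK : (Curv2.bc k X K).Over (Spec (CommRingCat.of K)) := ⟨Curv2.bcSnd k X K⟩
  have sq : IsPullback (Curv2.bcFst k X K) (Curv2.bcSnd k X K) (X ↘ Spec (CommRingCat.of k))
      (Spec.map (CommRingCat.ofHom (algebraMap k K))) := IsPullback.of_hasPullback _ _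
  obtain ⟨b, b', hb', hb, hsum⟩ := FieldExtH8.stalk_dim_add_trdeg k K (Curv2.bcFst k X K)
    (Curv2.bcSnd k X K) (X ↘ Spec (CommRingCat.of k)) _ sq y a a' ha ha'
  haveI : IsLocallyNoetherian X :=
    LocallyOfFiniteType.isLocallyNoetherian (X ↘ Spec (CommRingCat.of k))
  haveI hq : LocallyOfFiniteType (Curv2.bcSnd k X K) :=
    MorphismProperty.of_isPullback sq inferInstance
  haveI : IsLocallyNoetherian (Curv2.bc k X K) :=
    LocallyOfFiniteType.isLocallyNoetherian (Curv2.bcSnd k X K)
  haveI : Flat (Spec.map (CommRingCat.ofHom (algebraMap k K))) := inferInstance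
  haveI : Flat (Curv2.bcFst k X K) := MorphismProperty.of_isPullback sq.flip inferInstance
  have hflat := FieldExtH8.flat_stalk_dim_add_quot (Curv2.bcFst k X K) y
  rw [hb', hb] at hflat
  refine ⟨?_, ?_⟩
  · rw [hb', hb]
    exact_mod_cast hsum
  · generalize ringKrullDim (↥((Curv2.bc k X K).presheaf.stalk y) ⧸
      Ideal.map ((Curv2.bcFst k X K).stalkMap y).hom
        (IsLocalRing.maximalIdeal ↥(X.presheaf.stalk (Curv2.bcFst k X K y)))) = c at hflat ⊢
    induction c with
    | bot => simp at hflat
    | coe c =>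
      induction c with
      | top =>
        exfalso
        have : ((b' : ℕ∞) : WithBot ℕ∞) = ((b + ⊤ : ℕ∞) : WithBot ℕ∞) := by
          rw [WithBot.coe_add]; exact_mod_cast hflat
        have h2 : (b' : ℕ∞) = b + ⊤ := by exact_mod_cast this
        simp at h2
      | coe c =>
        have h2 : b' = b + c := by exact_mod_cast hflat
        have h3 : c + a' = a := by omega
        exact_mod_cast h3

end Groth.Agent.S7589
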