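import Groth.Statements.S7595
import Groth.Agent.Lib.ProdDim_helper8
import Groth.Agent.Lib.SubComp_helper8

set_option autoImplicit false
universe u
open CategoryTheory CategoryTheory.Limits AlgebraicGeometry
open Variety

namespace Groth.Agent.S7595

/-- Let X be a scheme over a field k, K an extension field of k and T an irreducible component of X.
Then each point of the inverse image of T in X_K lies on some irreducible component of X_K that is
contained in this inverse image; so the inverse image of T is the union of the irreducible
components of X_K lying inside it. -/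
theorem result (k : Type u) [Field k] (X : Scheme.{u}) [X.Over (Spec (CommRingCat.of k))] (K : Type u) [Field K] [Algebra k K]
    (T : Set ↥X) (hT : T ∈ irreducibleComponents ↥X) :
    (Curv2.bcFst k X K).base ⁻¹' T = ⋃₀ {Z : Set ↥(Curv2.bc k X K) | Z ∈ irreducibleComponents ↥(Curv2.bc k X K) ∧ Z ⊆ (Curv2.bcFst k X K).base ⁻¹' T} := by
  haveI : Flat (Curv2.bcFst k X K) := ProdDimH8.flat_fst _ _
  obtain ⟨ξ, hξ⟩ := QuasiSober.sober hT.1 (isClosed_of_mem_irreducibleComponents T hT)
  have hξmax := (SubCompH8.closure_mem_irreducibleComponents_iff ξ).mp (hξ.def.symm ▸ hT)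
  apply Set.Subset.antisymm
  · intro u hu
    have h1 : ξ ⤳ (Curv2.bcFst k X K).base u := by
      rw [specializes_iff_mem_closure, hξ.def]; exact hu
    obtain ⟨u', hu', hπu'⟩ := Flat.generalizingMap (Curv2.bcFst k X K) h1
    obtain ⟨t, ht, htmax⟩ := ProdDimH8.exists_max_ge u'
    have h2 : (Curv2.bcFst k X K).base t = ξ := by
      apply hξmax
      have := ht.map (Curv2.bcFst k X K).continuous
      rw [hπu'] at this
      exact this
    refine ⟨closure {t}, ⟨(SubCompH8.closure_mem_irreducibleComponents_iff t).mpr htmax, ?_⟩, ?_⟩
    · apply closure_minimal _ ((isClosed_of_mem_irreducibleComponents T hT).preimage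
        (Curv2.bcFst k X K).continuous)
      rw [Set.singleton_subset_iff, Set.mem_preimage, h2, ← hξ.def]
      exact subset_closure rfl
    · exact (ht.trans hu').mem_closure
  · rintro u ⟨Z, ⟨-, hZ⟩, hu⟩
    exact hZ hu

end Groth.Agent.S7595
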