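import Groth.Statements.S7616
import Groth.Agent.Lib.NormFinite_helper3
import Groth.Agent.Lib.FieldNagata_helper3
-- import your own Groth.Agent.* helpers here

set_option autoImplicit false
universe u
open CategoryTheory CategoryTheory.Limits AlgebraicGeometry
open AlgebraicGeometry CategoryTheory
open Variety

namespace Groth.Agent.S7616

/-- Let f : Y → X be a quasi-compact morphism of schemes locally of finite type over a field k, with Y
reduced; f is automatically quasi-separated. Then the normalization of X in Y is finite over X. -/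
theorem result (k : Type u) [Field k] (X : Scheme.{u}) [X.Over (Spec (CommRingCat.of k))] [LocallyOfFiniteType (X ↘ (Spec (CommRingCat.of k)))]
    (Y : Scheme.{u}) [Y.Over (Spec (CommRingCat.of k))] [LocallyOfFiniteType (Y ↘ (Spec (CommRingCat.of k)))] [IsReduced Y]
    (f : Y ⟶ X) [f.IsOver (Spec (CommRingCat.of k))] [QuasiCompact f] [QuasiSeparated f] :
    IsFinite f.fromNormalization := by
  haveI : LocallyOfFiniteType (f ≫ (X ↘ Spec (CommRingCat.of k))) := by
    rw [CategoryTheory.comp_over f (Spec (CommRingCat.of k))]
    infer_instance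
  haveI : LocallyOfFiniteType f := locallyOfFiniteType_of_comp f (X ↘ Spec (CommRingCat.of k))
  refine Groth.Agent.Lib.NormFiniteH3.isFinite_fromNormalization f fun U => ?_
  have hle : U.1 ≤ (X ↘ Spec (CommRingCat.of k)) ⁻¹ᵁ ⊤ := by simp
  have h1 : ((X ↘ Spec (CommRingCat.of k)).appLE ⊤ U.1 hle).hom.FiniteType :=
    HasRingHomProperty.appLE (P := @LocallyOfFiniteType) (X ↘ Spec (CommRingCat.of k))
      inferInstance ⟨⊤, isAffineOpen_top _⟩ U hle
  have h2 : ((Scheme.ΓSpecIso (CommRingCat.of k)).inv).hom.FiniteType :=
    RingHom.FiniteType.of_surjective _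
      (ConcreteCategory.bijective_of_isIso (Scheme.ΓSpecIso (CommRingCat.of k)).inv).2
  exact Groth.Agent.Lib.FieldNagataH3.isNagata_of_ringHom_finiteType k Γ(X, U.1) _ (h1.comp h2)

end Groth.Agent.S7616
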