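import Groth.Statements.S7622
import Groth.Agent.Lib.RegPS_helper3
import Groth.Agent.Lib.FSGeomRed_helper3
-- import your own Groth.Agent.* helpers here

set_option autoImplicit false
universe u
open CategoryTheory CategoryTheory.Limits AlgebraicGeometry
set_option maxSynthPendingDepth 3
open IsLocalRing
open Variety

namespace Groth.Agent.S7622

/-- Let A be a Noetherian local algebra over a field k (such as the local ring of a locally Noetherian
k-scheme at a point) whose residue field κ is a separable extension of k, meaning geometrically
reduced over k; κ need not be algebraic over k. Then there are n ≥ 0, an ideal I of κ[[x_1, …, x_n]]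
and a k-algebra isomorphism e from κ[[x_1, …, x_n]]/I onto the completion A^∧ of A at its maximal
ideal which induces the identity on residue fields: for every a in A, the value of e on the constant
power series whose value is the residue class of a is congruent to the image of a modulo the
extended maximal ideal of A^∧. -/
theorem result (k A : Type u) [Field k] [CommRing A] [Algebra k A]
    [IsNoetherianRing A] [IsLocalRing A] [Algebra.IsGeometricallyReduced k (IsLocalRing.ResidueField A)] :
    ∃ (n : ℕ) (I : Ideal (MvPowerSeries (Fin n) (IsLocalRing.ResidueField A)))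
      (e : (MvPowerSeries (Fin n) (IsLocalRing.ResidueField A) ⧸ I) ≃ₐ[k]
        AdicCompletion (IsLocalRing.maximalIdeal A) A),
      ∀ a : A, e (Ideal.Quotient.mk I (MvPowerSeries.C (IsLocalRing.residue A a))) -
          algebraMap A (AdicCompletion (IsLocalRing.maximalIdeal A) A) a ∈
        (IsLocalRing.maximalIdeal A).map (algebraMap A (AdicCompletion (IsLocalRing.maximalIdeal A) A)) := by
  classical
  haveI : Algebra.FormallySmooth k (ResidueField A) :=
    (Groth.Agent.Lib.FSGRH3.formallySmooth_iff_isGeometricallyReduced k (ResidueField A)).2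
      inferInstance
  have hmaxeq := AdicCompletion.maximalIdeal_eq_map (R := A)
  have hle : maximalIdeal A ≤ (maximalIdeal (AdicCompletion (maximalIdeal A) A)).comap
      (IsScalarTower.toAlgHom k A (AdicCompletion (maximalIdeal A) A)) := by
    intro a ha
    rw [Ideal.mem_comap, hmaxeq]
    exact Ideal.mem_map_of_mem _ ha
  let f₀ : ResidueField A →ₐ[k] AdicCompletion (maximalIdeal A) A ⧸
      maximalIdeal (AdicCompletion (maximalIdeal A) A) :=
    Ideal.quotientMapₐ (maximalIdeal (AdicCompletion (maximalIdeal A) A))
      (IsScalarTower.toAlgHom k A (AdicCompletion (maximalIdeal A) A)) hle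
  obtain ⟨σ, hσ⟩ := Algebra.FormallySmooth.exists_mkₐ_comp_eq_of_isAdicComplete
    (I := maximalIdeal (AdicCompletion (maximalIdeal A) A)) f₀
  letI algκ : Algebra (ResidueField A) (AdicCompletion (maximalIdeal A) A) :=
    σ.toRingHom.toAlgebra
  haveI : IsScalarTower k (ResidueField A) (AdicCompletion (maximalIdeal A) A) :=
    IsScalarTower.of_algebraMap_eq (fun c => (σ.commutes c).symm)
  have hσres : ∀ a : A, σ (residue A a) - algebraMap A (AdicCompletion (maximalIdeal A) A) a ∈
      maximalIdeal (AdicCompletion (maximalIdeal A) A) := by
    intro a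
    rw [← Ideal.Quotient.eq]
    exact congrArg (fun g => g (residue A a)) hσ
  -- generators of the maximal ideal of the completion
  have hfg : (maximalIdeal (AdicCompletion (maximalIdeal A) A)).FG := by
    rw [hmaxeq]
    exact Ideal.FG.map (Ideal.fg_of_isNoetherianRing _) _
  obtain ⟨n, x, hx⟩ := Submodule.fg_iff_exists_fin_generating_family.1 hfg
  have hxm : ∀ i, x i ∈ maximalIdeal (AdicCompletion (maximalIdeal A) A) :=
    fun i => hx ▸ Ideal.subset_span ⟨i, rfl⟩
  haveI : IsAdicComplete (maximalIdeal (ResidueField A)) (ResidueField A) := by
    rw [IsLocalRing.maximalIdeal_eq_bot]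
    infer_instance
  obtain ⟨f, hf⟩ := Groth.Agent.Lib.RegPSH3.exists_algHom_X (Λ := ResidueField A)
    (R := AdicCompletion (maximalIdeal A) A) n x hxm
  have hfspan : Ideal.span (Set.range fun i => f (MvPowerSeries.X i)) =
      maximalIdeal (AdicCompletion (maximalIdeal A) A) := by
    rw [← hx]
    congr 2
    funext i
    exact hf i
  have hk : Function.Surjective ((residue (AdicCompletion (maximalIdeal A) A)).comp
      (algebraMap (ResidueField A) (AdicCompletion (maximalIdeal A) A))) := by
    intro y
    obtain ⟨z, hz⟩ := (AdicCompletion.residueField_map_bijective A).2 y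
    obtain ⟨a, rfl⟩ := residue_surjective z
    refine ⟨residue A a, ?_⟩
    rw [← hz, IsLocalRing.ResidueField.map_residue]
    show residue _ (σ (residue A a)) = _
    exact (Ideal.Quotient.eq).2 (hσres a)
  have hsurj : Function.Surjective f :=
    Groth.Agent.Lib.RegPSH3.surjective_of_span_eq n f hfspan hk (fun a ha => by
      rw [IsLocalRing.maximalIdeal_eq_bot, Ideal.mem_bot] at ha
      rw [ha, map_zero]
      exact Ideal.zero_mem _)
  have hsurj' : Function.Surjective (f.restrictScalars k) := hsurj
  refine ⟨n, RingHom.ker (f.restrictScalars k),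
    Ideal.quotientKerAlgEquivOfSurjective hsurj', ?_⟩
  intro a
  have h1 : Ideal.quotientKerAlgEquivOfSurjective hsurj'
      (Ideal.Quotient.mk _ (MvPowerSeries.C (residue A a))) = σ (residue A a) := by
    show f (MvPowerSeries.C (residue A a)) = _
    exact f.commutes (residue A a)
  rw [h1, ← hmaxeq]
  exact hσres a

end Groth.Agent.S7622
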