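import Groth.Statements.S7625
import Mathlib
import Groth.Agent.Lib.CMMor4_helper8

set_option autoImplicit false
universe u
open CategoryTheory CategoryTheory.Limits AlgebraicGeometry
open Variety

namespace Groth.Agent.S7625

/-- Let f : X → S be locally of finite type, x a point of X with image s, V an affine open neighbourhood
of s in S, and suppose dim_x(X_s) = d. Then there is an affine open neighbourhood U of x with f(U) ⊆
V and a factorisation of f|_U as U → 𝔸^d_V → V with U → 𝔸^d_V locally quasi-finite and locally of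
finite type (hence quasi-finite, U being affine). -/
theorem result {X S : Scheme.{u}} (f : X ⟶ S) [LocallyOfFiniteType f] (x : ↥X)
    (V : S.Opens) (hV : IsAffineOpen V) (hxV : f x ∈ V) (d : ℕ) (hd : FlatMor.fibreDimAt f x = d) :
    ∃ (U : X.Opens), IsAffineOpen U ∧ x ∈ U ∧
      ∃ (g : (U : Scheme.{u}) ⟶ (V : Scheme.{u})) (π : (U : Scheme.{u}) ⟶ 𝔸(ULift.{u} (Fin d); (V : Scheme.{u}))),
        g ≫ V.ι = U.ι ≫ f ∧ π ≫ (𝔸(ULift.{u} (Fin d); (V : Scheme.{u})) ↘ (V : Scheme.{u})) = g ∧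
          LocallyQuasiFinite π ∧ LocallyOfFiniteType π := by
  obtain ⟨U, hU, hUV, g, hxU, -, hg, hlqf⟩ :=
    Groth.Agent.Lib.CMMorH8.exists_lqf_affine f x d hd ⊤ trivial V hV hxV
  refine ⟨U, hU, hxU, f.resLE V U hUV, g, Scheme.Hom.resLE_comp_ι f hUV, hg, hlqf, ?_⟩
  haveI : LocallyOfFiniteType (f.resLE V U hUV ≫ V.ι) := by
    rw [Scheme.Hom.resLE_comp_ι]; infer_instance
  haveI : LocallyOfFiniteType (f.resLE V U hUV) := locallyOfFiniteType_of_comp _ V.ι
  haveI : LocallyOfFiniteType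
      (g ≫ (𝔸(ULift.{u} (Fin d); (V : Scheme.{u})) ↘ (V : Scheme.{u}))) := by
    rw [hg]; infer_instance
  exact locallyOfFiniteType_of_comp g (𝔸(ULift.{u} (Fin d); (V : Scheme.{u})) ↘ (V : Scheme.{u}))

end Groth.Agent.S7625
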