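import Groth.Statements.S7644
import Mathlib
-- import your own Groth.Agent.* helpers here

set_option autoImplicit false
universe u
open CategoryTheory CategoryTheory.Limits AlgebraicGeometry

open Variety

namespace Groth.Agent.S7644

/-- If X is an irreducible scheme of positive dimension, separated over a field k, and x is a closed
point of X, then the open subscheme obtained by removing x is not proper over k. -/
theorem result (k : Type u) [Field k] (X : Scheme.{u}) [X.Over (Spec (CommRingCat.of k))]
    [IsSeparated (X ↘ (Spec (CommRingCat.of k)))] [IrreducibleSpace X] (hdim : 0 < topologicalKrullDim X)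
    (x : X) (hx : IsClosed ({x} : Set X)) :
    ¬ IsProper (Scheme.Opens.ι (⟨({x} : Set X)ᶜ, hx.isOpen_compl⟩ : X.Opens) ≫ (X ↘ (Spec (CommRingCat.of k)))) := by
  intro hprop
  haveI : IsProper (Scheme.Opens.ι (⟨({x} : Set X)ᶜ, hx.isOpen_compl⟩ : X.Opens)) :=
    IsProper.of_comp _ (X ↘ (Spec (CommRingCat.of k)))
  have hclosed : IsClosed (Set.range (Scheme.Opens.ι (⟨({x} : Set X)ᶜ, hx.isOpen_compl⟩ : X.Opens))) :=
    (Scheme.Hom.isClosedMap _).isClosed_range
  rw [Scheme.Opens.range_ι] at hclosed
  have hopen : IsOpen ({x} : Set X) := by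
    have := hclosed.isOpen_compl
    simpa using this
  have hdense : Dense ({x} : Set X) := hopen.dense (Set.singleton_nonempty x)
  have huniv : ({x} : Set X) = Set.univ := by
    rw [← hx.closure_eq]; exact hdense.closure_eq
  have hsub : Subsingleton X := ⟨fun a b => by
    have ha : a ∈ ({x} : Set X) := huniv ▸ Set.mem_univ a
    have hb : b ∈ ({x} : Set X) := huniv ▸ Set.mem_univ b
    rw [Set.mem_singleton_iff.1 ha, Set.mem_singleton_iff.1 hb]⟩
  haveI : Subsingleton (TopologicalSpace.IrreducibleCloseds X) := ⟨fun s t => by
    apply TopologicalSpace.IrreducibleCloseds.ext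
    have h1 : (s : Set X) = Set.univ := Set.Nonempty.eq_univ s.isIrreducible.nonempty
    have h2 : (t : Set X) = Set.univ := Set.Nonempty.eq_univ t.isIrreducible.nonempty
    rw [h1, h2]⟩
  have hle : topologicalKrullDim X ≤ 0 := by
    unfold topologicalKrullDim
    exact Order.krullDim_nonpos_of_subsingleton
  exact absurd hdim (not_lt.2 hle)

end Groth.Agent.S7644
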