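import Groth.Statements.S7651
import Groth.Agent.Lib.DimOne2_helper3
-- import your own Groth.Agent.* helpers here

set_option autoImplicit false
universe u
open CategoryTheory CategoryTheory.Limits AlgebraicGeometry
open Groth.Agent.Lib.DimOne2_helper3
open Variety

namespace Groth.Agent.S7651

/-- Let (A, m) be a Noetherian local ring of dimension one and f ∈ m. Then (1) m = √(f), (2) f lies in
no minimal prime of A, and (3) A_f ≅ ∏_{p minimal} A_p as A-algebras, are equivalent; such an f
exists; if A has depth one, for instance if A is reduced, they are also equivalent to (4) f is a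
nonzerodivisor and to (5) A → A_f is the localization of A at all its nonzerodivisors; and if A is
reduced they are also equivalent to (6) A_f ≅ ∏_{p minimal} κ(p) as A-algebras. -/
theorem result (A : Type u) [CommRing A] [IsLocalRing A]
    [IsNoetherianRing A] (hdim : ringKrullDim A = 1) :
    (∃ f ∈ IsLocalRing.maximalIdeal A, ∀ p ∈ minimalPrimes A, f ∉ p) ∧
    ∀ f ∈ IsLocalRing.maximalIdeal A,
      ((IsLocalRing.maximalIdeal A = (Ideal.span {f}).radical) ↔ (∀ p ∈ minimalPrimes A, f ∉ p)) ∧
      ((∀ p ∈ minimalPrimes A, f ∉ p) ↔
        Nonempty (Localization.Away f ≃ₐ[A] (∀ p : {p : PrimeSpectrum A // p.asIdeal ∈ minimalPrimes A}, Localization.AtPrime p.1.asIdeal))) ∧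
      ((LocCoh.depth A A = 1 ∨ IsReduced A) →
        ((∀ p ∈ minimalPrimes A, f ∉ p) ↔ f ∈ nonZeroDivisors A) ∧
        ((∀ p ∈ minimalPrimes A, f ∉ p) ↔ IsLocalization (nonZeroDivisors A) (Localization.Away f))) ∧
      (IsReduced A →
        ((∀ p ∈ minimalPrimes A, f ∉ p) ↔
          Nonempty (Localization.Away f ≃ₐ[A] (∀ p : {p : PrimeSpectrum A // p.asIdeal ∈ minimalPrimes A}, p.1.asIdeal.ResidueField)))) := by
  refine ⟨exists_notMem_minimalPrimes hdim, fun f hf => ⟨radical_span_eq_iff hdim f hf,
    iff_nonempty_algEquiv_LL hdim f hf, ?_, ?_⟩⟩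
  · intro hdr
    have hreg : (∃ r ∈ IsLocalRing.maximalIdeal A, IsSMulRegular A r) ∨ IsReduced A := by
      rcases hdr with hd | hred
      · left
        unfold LocCoh.depth LocCoh.idealDepth at hd
        split_ifs at hd with htop
        · exact absurd hd (by simp)
        · by_contra hno
          push Not at hno
          have hle : (⨆ (rs : List A) (_ : RingTheory.Sequence.IsWeaklyRegular A rs ∧
              ∀ r ∈ rs, r ∈ IsLocalRing.maximalIdeal A), (rs.length : ℕ∞)) ≤ 0 := by
            refine iSup_le fun rs => iSup_le fun hrs => ?_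
            cases rs with
            | nil => simp
            | cons r rs' =>
              exfalso
              have h1 := (RingTheory.Sequence.isWeaklyRegular_cons_iff A r rs').1 hrs.1
              exact hno r (hrs.2 r (List.mem_cons_self)) h1.1
          rw [hd] at hle
          exact absurd hle (by simp)
      · right; exact hred
    refine ⟨⟨mem_nonZeroDivisors_of_notMem hdim hreg f hf, notMem_of_mem_nonZeroDivisors f⟩,
      ⟨isLocalization_nonZeroDivisors_away hdim hreg f hf, fun h => ?_⟩⟩
    haveI := h
    exact notMem_of_mem_nonZeroDivisors f (mem_nonZeroDivisors_of_isLocalization f)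
  · intro hred
    haveI := hred
    exact iff_nonempty_algEquiv_residueFields hdim f hf

end Groth.Agent.S7651
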