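import Groth.Statements.S7653
import Groth.Agent.Lib.DimOne3_helper3
-- import your own Groth.Agent.* helpers here

set_option autoImplicit false
universe u
open CategoryTheory CategoryTheory.Limits AlgebraicGeometry
open Groth.Agent.Lib.DimOne3_helper3
open Variety

namespace Groth.Agent.S7653

/-- For a reduced local Nagata ring A of Krull dimension one, the δ-invariant of A is zero exactly when
A is a DVR (in particular a domain). -/
theorem result (A : Type u) [CommRing A] [IsLocalRing A]
    [IsReduced A] (hN : CAlg.IsNagata A) (hdim : ringKrullDim A = 1) :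
    Curv2.deltaInv A = 0 ↔ ∃ _ : IsDomain A, IsDiscreteValuationRing A := by
  obtain ⟨hnoeth, -⟩ := hN
  haveI := hnoeth
  constructor
  · intro h0
    unfold Curv2.deltaInv at h0
    rw [Module.length_eq_zero_iff, Submodule.Quotient.subsingleton_iff] at h0
    have hsurj : ∀ x : FractionRing A, IsIntegral A x →
        ∃ a, algebraMap A (FractionRing A) a = x := by
      intro x hx
      have hmem : (⟨x, hx⟩ : integralClosure A (FractionRing A)) ∈
          LinearMap.range (Algebra.linearMap A (integralClosure A (FractionRing A))) := by
        rw [h0]; trivial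
      obtain ⟨a, ha⟩ := hmem
      exact ⟨a, congrArg Subtype.val ha⟩
    have hdom : IsDomain A := isDomain_of_integral_surj hsurj
    exact ⟨hdom, isDVR_of_integral_surj hdim hsurj⟩
  · rintro ⟨hdom, hdvr⟩
    unfold Curv2.deltaInv
    rw [Module.length_eq_zero_iff, Submodule.Quotient.subsingleton_iff, eq_top_iff]
    rintro ⟨x, hx⟩ -
    have hic : IsIntegrallyClosed A := inferInstance
    obtain ⟨a, ha⟩ := (isIntegrallyClosed_iff (FractionRing A)).1 hic hx
    exact ⟨a, Subtype.ext ha⟩

end Groth.Agent.S7653
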