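import Groth.Statements.S7654
import Groth.Agent.Lib.DeltaInvFlat_helper3
import Groth.Agent.Lib.DeltaInvNormal_helper3
import Groth.Agent.S7652
import Groth.Agent.Lib.RedNorm5_helper6
import Groth.Agent.Lib.HensBranches11_helper3
import Groth.Agent.Lib.FSAdicCompl2_helper3
-- import your own Groth.Agent.* helpers here

set_option autoImplicit false
universe u
open CategoryTheory CategoryTheory.Limits AlgebraicGeometry

open Variety

namespace Groth.Agent.S7654

/-- For a reduced local Nagata ring A of Krull dimension one, the δ-invariant does not change on passing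
to a henselization of A, to a strict henselization of A, or to the completion of A. -/
theorem result (A : Type u) [CommRing A] [IsLocalRing A]
    [IsReduced A] (hN : CAlg.IsNagata A) (hdim : ringKrullDim A = 1) :
    (∀ (B : Type u) [CommRing B] [IsLocalRing B] [Algebra A B] [IsLocalHom (algebraMap A B)],
        Hensel.IsHenselization A B → Curv2.deltaInv B = Curv2.deltaInv A) ∧
      (∀ (B : Type u) [CommRing B] [IsLocalRing B] [Algebra A B] [IsLocalHom (algebraMap A B)],
        Hensel.IsStrictHenselization A B → Curv2.deltaInv B = Curv2.deltaInv A) ∧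
      Curv2.deltaInv (Curv2.cpl A) = Curv2.deltaInv A := by
  haveI hnoeth : IsNoetherianRing A := hN.1
  obtain ⟨hfin, hloc, -⟩ := Groth.Agent.S7652.result A hN hdim
  haveI := hfin
  have hA' : EGA4.IsNormalRing (integralClosure A (FractionRing A)) :=
    fun p hp => hloc ⟨p, hp⟩
  have hdvr : ∀ (n : Ideal (integralClosure A (FractionRing A))) [n.IsMaximal],
      ∃ _ : IsDomain (Localization.AtPrime n),
        IsDiscreteValuationRing (Localization.AtPrime n) := fun n _ =>
    Groth.Agent.Lib.RedNorm.isDiscreteValuationRing_localization hdim n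
  refine ⟨?_, ?_, ?_⟩
  · intro B _ _ _ _ hB
    haveI := hB
    haveI : IsNoetherianRing B :=
      Groth.Agent.Lib.HensBranchesH3.isNoetherianRing_of_isHenselization A B
    have hie := Groth.Agent.Lib.UnibranchH3.isIndEtale_of_isHenselization A B
    haveI : Module.Flat A B := Groth.Agent.Lib.IndEtaleH3.flat_of_isIndEtale hie
    have hmax : (IsLocalRing.maximalIdeal A).map (algebraMap A B) = IsLocalRing.maximalIdeal B :=
      Groth.Agent.Lib.HenselizationH3.map_maximalIdeal_of_isHenselization (R := A) B
    have h1 := Groth.Agent.Lib.DeltaInvH3.isNormalRing_tensor_of_isIndEtale A B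
      (integralClosure A (FractionRing A)) hie hA'
    have hnorm := Groth.Agent.Lib.GeomNormalH3.isNormalRing_of_ringEquiv
      (Algebra.TensorProduct.comm A (integralClosure A (FractionRing A)) B).toRingEquiv h1
    exact Groth.Agent.Lib.DeltaInvH3.deltaInv_eq_of_flat A B hmax hnorm
  · intro B _ _ _ _ hB
    haveI := hB
    haveI : IsNoetherianRing B :=
      (Groth.Agent.Lib.StrictHens.isNoetherianRing_iff_of_isStrictHenselization (R := A) B).mp
        hnoeth
    have hie := Groth.Agent.Lib.StrictHens.isIndEtale_of_isStrictHenselization (R := A) B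
    haveI : Module.Flat A B := Groth.Agent.Lib.IndEtaleH3.flat_of_isIndEtale hie
    have hmax : (IsLocalRing.maximalIdeal A).map (algebraMap A B) = IsLocalRing.maximalIdeal B :=
      Groth.Agent.Lib.StrictHens.map_maximalIdeal_of_isStrictHenselization (R := A) B
    have h1 := Groth.Agent.Lib.DeltaInvH3.isNormalRing_tensor_of_isIndEtale A B
      (integralClosure A (FractionRing A)) hie hA'
    have hnorm := Groth.Agent.Lib.GeomNormalH3.isNormalRing_of_ringEquiv
      (Algebra.TensorProduct.comm A (integralClosure A (FractionRing A)) B).toRingEquiv h1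
    exact Groth.Agent.Lib.DeltaInvH3.deltaInv_eq_of_flat A B hmax hnorm
  · obtain ⟨hlocB, hnoethB, -, hff, hlh, hmax⟩ := Groth.Agent.Lib.AnUnramH3.completion_facts A
    haveI := hlocB
    haveI := hnoethB
    haveI := hff
    haveI := hlh
    haveI : Module.Flat A (AdicCompletion (IsLocalRing.maximalIdeal A) A) := inferInstance
    have hsurj : ∀ b : AdicCompletion (IsLocalRing.maximalIdeal A) A, ∃ a : A,
        b - algebraMap A (AdicCompletion (IsLocalRing.maximalIdeal A) A) a ∈
          (IsLocalRing.maximalIdeal A).map
            (algebraMap A (AdicCompletion (IsLocalRing.maximalIdeal A) A)) := by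
      intro b
      obtain ⟨a, ha⟩ := Groth.Agent.Lib.FSAdicComplH3.exists_sub_mem_map_pow
        (IsLocalRing.maximalIdeal A) (IsNoetherian.noetherian _) 1 b
      rw [pow_one] at ha
      exact ⟨a, ha⟩
    have h1 := Groth.Agent.Lib.DeltaInvH3.isNormalRing_tensor_of_residue_surj A
      (AdicCompletion (IsLocalRing.maximalIdeal A) A)
      (integralClosure A (FractionRing A)) hsurj hdvr
    have hnorm := Groth.Agent.Lib.GeomNormalH3.isNormalRing_of_ringEquiv
      (Algebra.TensorProduct.comm A (integralClosure A (FractionRing A))
        (AdicCompletion (IsLocalRing.maximalIdeal A) A)).toRingEquiv h1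
    exact Groth.Agent.Lib.DeltaInvH3.deltaInv_eq_of_flat A
      (AdicCompletion (IsLocalRing.maximalIdeal A) A) hmax hnorm

end Groth.Agent.S7654
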