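import Groth.Statements.S7655
import Mathlib
import Groth.Agent.Lib.RedNorm2_helper6
import Groth.Agent.Lib.Branches2_helper6
import Groth.Agent.Lib.Branches3_helper6
-- import your own Groth.Agent.* helpers here

set_option autoImplicit false
universe u
open CategoryTheory CategoryTheory.Limits AlgebraicGeometry
open Variety

namespace Groth.Agent.S7655

/-- Let (A, m) be a reduced Nagata local ring of dimension one. Then the δ-invariant of A is at least
the number of geometric branches of A minus one. -/
theorem result (A : Type u) [CommRing A] [IsLocalRing A]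
    [IsReduced A] (hN : CAlg.IsNagata A) (hdim : ringKrullDim A = 1) :
    Brnch.numGeomBranches A ≤ Curv2.deltaInv A + 1 := by

  haveI : IsNoetherianRing A := hN.1
  have hfinA : Module.Finite A (integralClosure A (FractionRing A)) := by
    apply Groth.Agent.Lib.RedNorm.finite_integralClosure
    intro p _ _
    exact hN.2 p (FractionRing (A ⧸ p)) inferInstance
  obtain ⟨g, hg, hgA⟩ := Groth.Agent.Lib.Branches.exists_linearMap_normRed A
  haveI : Module.Finite A (CAlg2.normRed A) := Module.Finite.of_surjective g hg
  have h1 := Groth.Agent.Lib.Branches.card_sigma_emb_le (A := A) (B := CAlg2.normRed A)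
    (AlgebraicClosure (IsLocalRing.ResidueField A))
    (@algebraMap (IsLocalRing.ResidueField A) (AlgebraicClosure (IsLocalRing.ResidueField A)) _ _
      (AlgebraicClosure.instAlgebra (IsLocalRing.ResidueField A)))
  have hle : LinearMap.range (Algebra.linearMap A (integralClosure A (FractionRing A))) ≤
      Submodule.comap g (LinearMap.range (Algebra.linearMap A (CAlg2.normRed A))) := by
    rintro _ ⟨a, rfl⟩
    exact ⟨a, (hgA a).symm⟩
  let q := Submodule.mapQ _ (LinearMap.range (Algebra.linearMap A (CAlg2.normRed A))) g hle
  have hq : Function.Surjective q := by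
    intro y
    obtain ⟨n, rfl⟩ := Submodule.mkQ_surjective _ y
    obtain ⟨x, rfl⟩ := hg n
    exact ⟨Submodule.Quotient.mk x, rfl⟩
  have h2 : Module.length A (CAlg2.normRed A ⧸
      LinearMap.range (Algebra.linearMap A (CAlg2.normRed A))) ≤ Curv2.deltaInv A :=
    Module.length_le_of_surjective q hq
  have h3 : Brnch.numGeomBranches A =
      ENat.card (Σ m' : MaximalSpectrum (CAlg2.normRed A), Brnch.Emb A m') := by
    unfold Brnch.numGeomBranches
    rw [if_pos (minimalPrimes.finite_of_isNoetherianRing A)]
  rw [h3]
  exact le_trans h1 (add_le_add h2 le_rfl)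

end Groth.Agent.S7655
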