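import Groth.Statements.S7661
import Mathlib
-- import your own Groth.Agent.* helpers here

set_option autoImplicit false
universe u
open CategoryTheory CategoryTheory.Limits AlgebraicGeometry

open Variety

namespace Groth.Agent.S7661

/-- Let A be a ring, I an ideal, p_1, …, p_r prime ideals with I ⊄ p_i for all i, and let f̄ ∈ A/I. Then
f̄ lifts to an element f ∈ A with f ∉ p_i for all i. -/
theorem result (A : Type u) [CommRing A] (I : Ideal A)
    (s : Finset (Ideal A)) (hs : ∀ p ∈ s, p.IsPrime) (hI : ∀ p ∈ s, ¬ I ≤ p) (fbar : A ⧸ I) :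
    ∃ f : A, Ideal.Quotient.mk I f = fbar ∧ ∀ p ∈ s, f ∉ p := by
  classical
  obtain ⟨f₀, rfl⟩ := Ideal.Quotient.mk_surjective fbar
  obtain ⟨s', hs'⟩ : ∃ s' : Finset (Ideal A), ∀ q, q ∈ s' ↔ (q ∈ s ∧ Maximal (· ∈ s) q) :=
    ⟨s.filter (fun q => Maximal (· ∈ s) q), fun q => Finset.mem_filter⟩
  obtain ⟨T, hT⟩ : ∃ T : Finset (Ideal A), ∀ q, q ∈ T ↔ (q ∈ s' ∧ f₀ ∈ q) :=
    ⟨s'.filter (fun q => f₀ ∈ q), fun q => Finset.mem_filter⟩
  obtain ⟨U, hU⟩ : ∃ U : Finset (Ideal A), ∀ q, q ∈ U ↔ (q ∈ s' ∧ f₀ ∉ q) :=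
    ⟨s'.filter (fun q => f₀ ∉ q), fun q => Finset.mem_filter⟩
  obtain ⟨J, hJ⟩ : ∃ J : Ideal A, J = I * ∏ q ∈ U, q := ⟨_, rfl⟩
  have hnot : ¬ ((J : Set A) ⊆ ⋃ q ∈ (↑T : Set (Ideal A)), (q : Set A)) := by
    intro hsub
    rw [Ideal.subset_union_prime (f := fun q : Ideal A => q) ⊥ ⊥
      (fun q hq _ _ => hs q ((hs' q).1 ((hT q).1 hq).1).1)] at hsub
    obtain ⟨q, hqT, hJq⟩ := hsub
    have hqs' : q ∈ s' := ((hT q).1 hqT).1
    have hqs : q ∈ s := ((hs' q).1 hqs').1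
    have hqmax : Maximal (· ∈ s) q := ((hs' q).1 hqs').2
    rw [hJ] at hJq
    rcases (Ideal.IsPrime.mul_le (hs q hqs)).1 hJq with h | h
    · exact hI q hqs h
    · obtain ⟨j, hjU, hjq⟩ := (Ideal.IsPrime.prod_le (hs q hqs)).1 h
      have hjs' : j ∈ s' := ((hU j).1 hjU).1
      have hjmax : Maximal (· ∈ s) j := ((hs' j).1 hjs').2
      have hjq' : j = q := le_antisymm hjq (hjmax.2 hqs hjq)
      subst hjq'
      exact ((hU j).1 hjU).2 ((hT j).1 hqT).2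
  rw [Set.not_subset] at hnot
  obtain ⟨a, haJ, hanot⟩ := hnot
  have haI : a ∈ I := by
    rw [hJ] at haJ
    exact Ideal.mul_le_left haJ
  refine ⟨f₀ + a, ?_, ?_⟩
  · rw [map_add, (Ideal.Quotient.eq_zero_iff_mem).2 haI, add_zero]
  · intro p hp
    obtain ⟨q, hpq, hqmax⟩ := s.exists_le_maximal hp
    have hqs : q ∈ s := hqmax.1
    have hqs' : q ∈ s' := (hs' q).2 ⟨hqs, hqmax⟩
    intro hfp
    have hfq : f₀ + a ∈ q := hpq hfp
    by_cases h0 : f₀ ∈ q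
    · have haq : a ∈ q := by simpa using q.sub_mem hfq h0
      apply hanot
      simp only [Set.mem_iUnion]
      exact ⟨q, Finset.mem_coe.2 ((hT q).2 ⟨hqs', h0⟩), haq⟩
    · have haq : a ∈ q := by
        have h1 : J ≤ q := by
          rw [hJ]
          exact (Ideal.mul_le_right).trans
            (Ideal.prod_le_inf.trans (Finset.inf_le ((hU q).2 ⟨hqs', h0⟩)))
        exact h1 haJ
      exact h0 (by simpa using q.sub_mem hfq haq)

end Groth.Agent.S7661
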