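import Groth.Statements.S7663
import Mathlib
import Groth.Agent.Lib.Overring_helper6
-- import your own Groth.Agent.* helpers here

set_option autoImplicit false
universe u
open CategoryTheory CategoryTheory.Limits AlgebraicGeometry
open Variety

namespace Groth.Agent.S7663

/-- Let K be a field and A, B ⊆ K subrings with fraction field K, with A Noetherian of dimension one.
Then A ⊗ B → K is not surjective (equivalently, the subring generated by A and B is not K) if and
only if some discrete valuation ring O ⊆ K with fraction field K contains both A and B. -/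
theorem result (K : Type u) [Field K]
    (A : Subring K) [IsFractionRing A K] (B : Subring K) [IsFractionRing B K] [IsNoetherianRing A] (hdim : ringKrullDim A = 1) :
    A ⊔ B ≠ ⊤ ↔ ∃ O : ValuationSubring K, IsDiscreteValuationRing O ∧ A ≤ O.toSubring ∧ B ≤ O.toSubring := by

  constructor
  · intro h
    obtain ⟨O, hO, hCO⟩ := Groth.Agent.Lib.Overring.exists_dvr_of_ge K A (A ⊔ B) hdim le_sup_left h
    exact ⟨O, hO, le_trans le_sup_left hCO, le_trans le_sup_right hCO⟩
  · rintro ⟨O, hO, hAO, hBO⟩ htop
    have hOtop : ∀ w : K, w ∈ O := by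
      intro w
      have h1 : w ∈ A ⊔ B := by rw [htop]; exact Subring.mem_top w
      exact (sup_le hAO hBO) h1
    apply IsDiscreteValuationRing.not_isField O
    refine ⟨⟨0, 1, zero_ne_one⟩, mul_comm, ?_⟩
    intro a ha
    refine ⟨⟨(a : K)⁻¹, hOtop _⟩, ?_⟩
    apply Subtype.ext
    show (a : K) * (a : K)⁻¹ = 1
    apply mul_inv_cancel₀
    intro h0
    exact ha (Subtype.ext h0)

end Groth.Agent.S7663
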