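import Groth.Statements.S7687
import Mathlib
import Groth.Agent.S1640
import Groth.Agent.Lib.GlueDimOne4_helper6
import Groth.Agent.Lib.GlueDimOne5_helper6
-- import your own Groth.Agent.* helpers here

set_option autoImplicit false
universe u
open CategoryTheory CategoryTheory.Limits AlgebraicGeometry
open Variety

namespace Groth.Agent.S7687

/-- Let K be a field and A, B ⊆ K Noetherian semi-local domains of dimension one with fraction field K
such that A ⊗ B → K is surjective, and R = A ∩ B. Then Spec A and Spec B each map to Spec R by an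
open immersion, Spec R is the union of the two images, and the natural map A ⊗_R B → K is an
isomorphism. -/
theorem result (K : Type u) [Field K]
    (A : Subring K) [IsFractionRing A K] (B : Subring K) [IsFractionRing B K] [IsNoetherianRing A] [IsNoetherianRing B]
    (hdimA : ringKrullDim A = 1) (hdimB : ringKrullDim B = 1)
    (hslA : Finite (MaximalSpectrum A)) (hslB : Finite (MaximalSpectrum B)) (hgen : A ⊔ B = ⊤) :
    IsOpenImmersion (Spec.map (CommRingCat.ofHom (Subring.inclusion (inf_le_left : A ⊓ B ≤ A)))) ∧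
      IsOpenImmersion (Spec.map (CommRingCat.ofHom (Subring.inclusion (inf_le_right : A ⊓ B ≤ B)))) ∧
      Set.range (Spec.map (CommRingCat.ofHom (Subring.inclusion (inf_le_left : A ⊓ B ≤ A)))).base ∪
        Set.range (Spec.map (CommRingCat.ofHom (Subring.inclusion (inf_le_right : A ⊓ B ≤ B)))).base = Set.univ ∧
      IsPushout (CommRingCat.ofHom (Subring.inclusion (inf_le_left : A ⊓ B ≤ A)))
        (CommRingCat.ofHom (Subring.inclusion (inf_le_right : A ⊓ B ≤ B)))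
        (CommRingCat.ofHom A.subtype) (CommRingCat.ofHom B.subtype) := by

  classical
  -- Step 1: elements with poles
  haveI hN1 : ∀ i : Fin 1, IsNoetherianRing ((fun _ => B : Fin 1 → Subring K) i) :=
    fun _ => inferInstanceAs (IsNoetherianRing B)
  haveI hF1 : ∀ i : Fin 1, IsFractionRing ((fun _ => B : Fin 1 → Subring K) i) K :=
    fun _ => inferInstanceAs (IsFractionRing B K)
  haveI hN2 : ∀ i : Fin 1, IsNoetherianRing ((fun _ => A : Fin 1 → Subring K) i) :=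
    fun _ => inferInstanceAs (IsNoetherianRing A)
  haveI hF2 : ∀ i : Fin 1, IsFractionRing ((fun _ => A : Fin 1 → Subring K) i) K :=
    fun _ => inferInstanceAs (IsFractionRing A K)
  obtain ⟨a, haA, ha0, ha⟩ := Groth.Agent.S1640.result K A 1 (fun _ => B) (fun _ => hdimB)
    (fun _ => hslB) (fun _ => hgen)
  obtain ⟨haB, haJ⟩ := ha 0
  obtain ⟨b, hbB, hb0, hb⟩ := Groth.Agent.S1640.result K B 1 (fun _ => A) (fun _ => hdimA)
    (fun _ => hslA) (fun _ => by rw [sup_comm]; exact hgen)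
  obtain ⟨hbA, hbJ⟩ := hb 0
  -- Step 2: p = a / b
  have hpq : (a * b⁻¹) * (b * a⁻¹) = 1 := by
    field_simp
  have hpA : a * b⁻¹ ∈ A := A.mul_mem haA hbA
  have hpJ : (⟨a * b⁻¹, hpA⟩ : A) ∈ (⊥ : Ideal A).jacobson := by
    have : (⟨a * b⁻¹, hpA⟩ : A) = (⟨a, haA⟩ : A) * ⟨b⁻¹, hbA⟩ := rfl
    rw [this]
    exact Ideal.mul_mem_left _ _ hbJ
  have hqB : b * a⁻¹ ∈ B := B.mul_mem hbB haB
  have hqJ : (⟨b * a⁻¹, hqB⟩ : B) ∈ (⊥ : Ideal B).jacobson := by
    have : (⟨b * a⁻¹, hqB⟩ : B) = (⟨b, hbB⟩ : B) * ⟨a⁻¹, haB⟩ := rfl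
    rw [this]
    exact Ideal.mul_mem_left _ _ haJ
  obtain ⟨h1p, hfA, hfA', hfB, hfJ⟩ :=
    Groth.Agent.Lib.GlueDimOne.inv_one_add_mem K A B _ _ hpq hpA hpJ hqB hqJ
  have hqp : (b * a⁻¹) * (a * b⁻¹) = 1 := by rw [mul_comm]; exact hpq
  obtain ⟨h1q, hgB, hgB', hgA, hgJ⟩ :=
    Groth.Agent.Lib.GlueDimOne.inv_one_add_mem K B A _ _ hqp hqB hqJ hpA hpJ
  have hfg : (1 + a * b⁻¹)⁻¹ + (1 + b * a⁻¹)⁻¹ = 1 := by
    have h2 : 1 + b * a⁻¹ = (1 + a * b⁻¹) * (b * a⁻¹) := by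
      rw [add_mul, hpq, one_mul, add_comm]
    have h3 : b * a⁻¹ = (a * b⁻¹)⁻¹ := eq_inv_of_mul_eq_one_right hpq
    rw [h2, mul_inv, h3, inv_inv, ← mul_one_add, inv_mul_cancel₀ h1p]
  have hf0 : (1 + a * b⁻¹)⁻¹ ≠ 0 := inv_ne_zero h1p
  have hg0 : (1 + b * a⁻¹)⁻¹ ≠ 0 := inv_ne_zero h1q
  refine Groth.Agent.Lib.GlueDimOne.glue K A B _ _ hfg hf0 hg0 hfA hfA' hfB hgB hgB' hgA ?_ ?_ ?_
  · intro a' _
    exact Groth.Agent.Lib.GlueDimOne.exists_pow_mul_mem K B (le_of_eq hdimB) _ hfB hfJ a'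
  · intro b' _
    exact Groth.Agent.Lib.GlueDimOne.exists_pow_mul_mem K A (le_of_eq hdimA) _ hgA hgJ b'
  · intro w
    exact Groth.Agent.Lib.GlueDimOne.exists_pow_mul_mem K A (le_of_eq hdimA) _ hgA hgJ w

end Groth.Agent.S7687
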