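import Groth.Statements.S7664
import Mathlib
import Groth.Agent.S7687
import Groth.Agent.Lib.GlueDVR_helper6
-- import your own Groth.Agent.* helpers here

set_option autoImplicit false
universe u
open CategoryTheory CategoryTheory.Limits AlgebraicGeometry
open Variety

namespace Groth.Agent.S7664

/-- Let K be a field, A ⊆ K a Noetherian semi-local domain of dimension one and B ⊆ K a discrete
valuation ring, both with fraction field K, and R = A ∩ B. (a) If some unit of A does not lie in R,
then Spec A and Spec B each map to Spec R by an open immersion, Spec R is the union of the two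
images, and the natural map A ⊗_R B → K is an isomorphism. (b) If every unit of A lies in R, then B
dominates the local ring of A at one of its maximal ideals (A ⊆ B and the maximal ideal of B
contracts to a maximal ideal of A) and A ⊗ B → K is not surjective. -/
theorem result (K : Type u) [Field K]
    (A : Subring K) [IsFractionRing A K] [IsNoetherianRing A] (hdim : ringKrullDim A = 1) (hsl : Finite (MaximalSpectrum A))
    (B : ValuationSubring K) [IsDiscreteValuationRing B] :
    ((∃ u : A, IsUnit u ∧ (u : K) ∉ B) →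
      IsOpenImmersion (Spec.map (CommRingCat.ofHom (Subring.inclusion (inf_le_left : A ⊓ B.toSubring ≤ A)))) ∧
      IsOpenImmersion (Spec.map (CommRingCat.ofHom (Subring.inclusion (inf_le_right : A ⊓ B.toSubring ≤ B.toSubring)))) ∧
      Set.range (Spec.map (CommRingCat.ofHom (Subring.inclusion (inf_le_left : A ⊓ B.toSubring ≤ A)))).base ∪
        Set.range (Spec.map (CommRingCat.ofHom (Subring.inclusion (inf_le_right : A ⊓ B.toSubring ≤ B.toSubring)))).base = Set.univ ∧
      IsPushout (CommRingCat.ofHom (Subring.inclusion (inf_le_left : A ⊓ B.toSubring ≤ A)))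
        (CommRingCat.ofHom (Subring.inclusion (inf_le_right : A ⊓ B.toSubring ≤ B.toSubring)))
        (CommRingCat.ofHom A.subtype) (CommRingCat.ofHom B.toSubring.subtype)) ∧
    ((∀ u : A, IsUnit u → (u : K) ∈ B) →
      (∃ h : A ≤ B.toSubring,
        (Ideal.comap (Subring.inclusion h) (IsLocalRing.maximalIdeal B)).IsMaximal) ∧ A ⊔ B.toSubring ≠ ⊤) := by

  classical
  haveI hBfrac : IsFractionRing B.toSubring K := inferInstanceAs (IsFractionRing B K)
  haveI hBnoeth : IsNoetherianRing B.toSubring := inferInstanceAs (IsNoetherianRing B)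
  have hdimB : ringKrullDim B.toSubring = 1 := IsDiscreteValuationRing.ringKrullDim_eq_one (R := B)
  have hslB : Finite (MaximalSpectrum B.toSubring) := by
    haveI : Subsingleton (MaximalSpectrum B) := by
      constructor
      intro m m'
      apply MaximalSpectrum.ext
      rw [IsLocalRing.eq_maximalIdeal m.isMaximal, IsLocalRing.eq_maximalIdeal m'.isMaximal]
    exact (inferInstance : Finite (MaximalSpectrum B))
  have hBtop : B.toSubring ≠ ⊤ := by
    intro htop
    have hOtop : ∀ w : K, w ∈ B := by
      intro w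
      have : w ∈ B.toSubring := by rw [htop]; exact Subring.mem_top w
      exact this
    apply IsDiscreteValuationRing.not_isField B
    refine ⟨⟨0, 1, zero_ne_one⟩, mul_comm, ?_⟩
    intro a ha
    refine ⟨⟨(a : K)⁻¹, hOtop _⟩, ?_⟩
    apply Subtype.ext
    show (a : K) * (a : K)⁻¹ = 1
    apply mul_inv_cancel₀
    intro h0
    exact ha (Subtype.ext h0)
  constructor
  · rintro ⟨u, hu, huB⟩
    have hvu : 1 < B.valuation (u : K) := by
      rw [← not_le, B.valuation_le_one_iff]
      exact huB
    have hu0 : (u : K) ≠ 0 := by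
      intro h
      rw [h, map_zero] at hvu
      exact not_lt_of_ge zero_le hvu
    have hvinv : B.valuation (u : K)⁻¹ < 1 := by
      rw [map_inv₀]
      exact inv_lt_one_of_one_lt₀ hvu
    have huinvB : (u : K)⁻¹ ∈ B.toSubring := (B.valuation_le_one_iff _).1 hvinv.le
    have hJ : (⟨(u : K)⁻¹, huinvB⟩ : B.toSubring) ∈ (⊥ : Ideal B.toSubring).jacobson := by
      have h1 : (⟨(u : K)⁻¹, huinvB⟩ : B) ∈ IsLocalRing.maximalIdeal B :=
        (B.valuation_lt_one_iff _).2 hvinv
      have h2 : (⊥ : Ideal B).jacobson = IsLocalRing.maximalIdeal B :=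
        IsLocalRing.jacobson_eq_maximalIdeal ⊥ bot_ne_top
      have h3 : (⟨(u : K)⁻¹, huinvB⟩ : B) ∈ (⊥ : Ideal B).jacobson := by rw [h2]; exact h1
      exact h3
    have hgen : A ⊔ B.toSubring = ⊤ := by
      rw [eq_top_iff]
      intro w _
      obtain ⟨n, hn⟩ := Groth.Agent.Lib.GlueDimOne.exists_pow_mul_mem K B.toSubring
        (le_of_eq hdimB) (u : K)⁻¹ huinvB hJ w
      have hw : w = (u : K) ^ n * (((u : K)⁻¹) ^ n * w) := by
        rw [← mul_assoc, ← mul_pow, mul_inv_cancel₀ hu0, one_pow, one_mul]
      rw [hw]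
      exact Subring.mul_mem _ ((le_sup_left : A ≤ A ⊔ B.toSubring) (A.pow_mem u.2 n))
        ((le_sup_right : B.toSubring ≤ A ⊔ B.toSubring) hn)
    exact Groth.Agent.S7687.result K A B.toSubring hdim hdimB hsl hslB hgen
  · intro hu
    have hAB : A ≤ B.toSubring := Groth.Agent.Lib.GlueDVR.le_of_units_mem K A hsl B hu
    refine ⟨⟨hAB, ?_⟩, ?_⟩
    · have hKD : Ring.KrullDimLE 1 A := Ring.krullDimLE_iff.2 (le_of_eq hdim)
      have hprime : (Ideal.comap (Subring.inclusion hAB) (IsLocalRing.maximalIdeal B)).IsPrime :=
        Ideal.comap_isPrime _ _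
      refine Ring.krullDimLE_one_iff_of_noZeroDivisors.1 hKD _ ?_ hprime
      intro hbot
      apply hBtop
      rw [eq_top_iff]
      intro w _
      obtain ⟨a, b, hb, rfl⟩ := IsFractionRing.div_surjective (A := A) w
      have hb0 : b ≠ 0 := nonZeroDivisors.ne_zero hb
      have hbK : (b : K) ≠ 0 := fun h => hb0 (Subtype.ext h)
      have hbnot : b ∉ Ideal.comap (Subring.inclusion hAB) (IsLocalRing.maximalIdeal B) := by
        rw [hbot, Ideal.mem_bot]; exact hb0
      rw [Ideal.mem_comap] at hbnot
      have hbunit : IsUnit (Subring.inclusion hAB b : B) := by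
        by_contra hnu
        exact hbnot ((IsLocalRing.mem_maximalIdeal _).2 hnu)
      obtain ⟨c, hc⟩ := hbunit.exists_right_inv
      have hcK : (c : K) = (b : K)⁻¹ := by
        have h1 : (b : K) * (c : K) = 1 := congrArg Subtype.val hc
        exact eq_inv_of_mul_eq_one_right h1
      show (a : K) / (b : K) ∈ B.toSubring
      rw [div_eq_mul_inv, ← hcK]
      exact B.toSubring.mul_mem (hAB a.2) c.2
    · rw [sup_eq_right.2 hAB]
      exact hBtop

end Groth.Agent.S7664
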