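import Groth.Statements.S7666
import Mathlib
-- import your own Groth.Agent.* helpers here

set_option autoImplicit false
universe u
open CategoryTheory CategoryTheory.Limits AlgebraicGeometry

open Variety

namespace Groth.Agent.S7666

/-- Let A be a one-dimensional Noetherian local ring and L = ∏ A_p, the product over the minimal primes
of A. If a_1, a_2 ∈ m_A have the same image in L, then a_1 and a_2 have equal n-th powers for some
positive integer n. -/
theorem result (A : Type u) [CommRing A]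
    [IsLocalRing A] [IsNoetherianRing A] (hdim : ringKrullDim A = 1)
    (a₁ a₂ : A) (h₁ : a₁ ∈ IsLocalRing.maximalIdeal A) (h₂ : a₂ ∈ IsLocalRing.maximalIdeal A)
    (heq : ∀ p : {p : PrimeSpectrum A // p.asIdeal ∈ minimalPrimes A},
      algebraMap A (Localization.AtPrime p.1.asIdeal) a₁ = algebraMap A (Localization.AtPrime p.1.asIdeal) a₂) :
    ∃ n : ℕ, 0 < n ∧ a₁ ^ n = a₂ ^ n := by
  classical
  have hdim1 : Ring.KrullDimLE 1 A := by
    rw [Ring.krullDimLE_iff, hdim]; rfl
  have hprimes := Ring.krullDimLE_one_iff.1 hdim1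
  set x := a₁ - a₂ with hx
  set J : Ideal A := Submodule.annihilator (Submodule.span A {x}) with hJ
  have memJ : ∀ r, r ∈ J ↔ r * x = 0 := by
    intro r
    rw [hJ, Submodule.mem_annihilator_span_singleton, smul_eq_mul]
  -- `J` is not contained in any minimal prime
  have hJmin : ∀ q : Ideal A, q ∈ minimalPrimes A → ¬ J ≤ q := by
    intro q hq hJq
    haveI : q.IsPrime := hq.1.1
    have h := heq ⟨⟨q, hq.1.1⟩, hq⟩
    obtain ⟨c, hc⟩ := (IsLocalization.eq_iff_exists q.primeCompl (Localization.AtPrime q)).1 h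
    have hcJ : (c : A) ∈ J := by
      rw [memJ, hx, mul_sub, hc, sub_self]
    exact c.2 (hJq hcJ)
  have hle : IsLocalRing.maximalIdeal A ≤ J.radical := by
    rw [Ideal.radical_eq_sInf]
    refine le_sInf ?_
    rintro q ⟨hJq, hqp⟩
    rcases hprimes q hqp with hmin | hmax
    · exact absurd hJq (hJmin q hmin)
    · rw [IsLocalRing.eq_maximalIdeal hmax]
  obtain ⟨k, hk⟩ := Ideal.exists_pow_le_of_le_radical_of_fg hle
    (IsNoetherian.noetherian (IsLocalRing.maximalIdeal A))
  refine ⟨k + 1, Nat.succ_pos k, ?_⟩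
  have hsum : (∑ i ∈ Finset.range (k + 1), a₁ ^ i * a₂ ^ (k + 1 - 1 - i)) ∈
      IsLocalRing.maximalIdeal A ^ k := by
    refine Ideal.sum_mem _ fun i hi => ?_
    have hik : i ≤ k := Nat.lt_succ_iff.1 (Finset.mem_range.1 hi)
    have e : k = i + (k + 1 - 1 - i) := by omega
    have h3 : a₁ ^ i * a₂ ^ (k + 1 - 1 - i) ∈
        IsLocalRing.maximalIdeal A ^ i * IsLocalRing.maximalIdeal A ^ (k + 1 - 1 - i) :=
      Ideal.mul_mem_mul (Ideal.pow_mem_pow h₁ i) (Ideal.pow_mem_pow h₂ _)
    rw [← pow_add, ← e] at h3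
    exact h3
  have h4 := (memJ _).1 (hk hsum)
  have h5 := geom_sum₂_mul a₁ a₂ (k + 1)
  rw [← hx, h4] at h5
  exact (sub_eq_zero.1 h5.symm)

end Groth.Agent.S7666
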