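import Groth.Statements.S7668
import Mathlib
-- import your own Groth.Agent.* helpers here

set_option autoImplicit false
universe u
open CategoryTheory CategoryTheory.Limits AlgebraicGeometry

open Variety

namespace Groth.Agent.S7668

/-- Let A be a ring, p_1, …, p_r primes of A and S = A ∖ ⋃ p_i. Then S is a multiplicative subset, S⁻¹A
is semi-local, and contraction to A is a bijection from the maximal ideals of S⁻¹A onto the maximal
elements of {p_1, …, p_r}. -/
theorem result (A : Type u) [CommRing A]
    (r : ℕ) (p : Fin r → PrimeSpectrum A) :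
    Finite (MaximalSpectrum (Localization (⨅ i, (p i).asIdeal.primeCompl))) ∧
      Set.BijOn (fun m : Ideal (Localization (⨅ i, (p i).asIdeal.primeCompl)) =>
          m.comap (algebraMap A (Localization (⨅ i, (p i).asIdeal.primeCompl))))
        {m | m.IsMaximal}
        {q | q ∈ Set.range (fun i => (p i).asIdeal) ∧
          ∀ j, q ≤ (p j).asIdeal → q = (p j).asIdeal} := by
  classical
  set S : Submonoid A := ⨅ i, (p i).asIdeal.primeCompl with hS
  have memS : ∀ x, x ∈ S ↔ ∀ i, x ∉ (p i).asIdeal := by
    intro x; rw [hS, Submonoid.mem_iInf]; rfl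
  have hdisj : ∀ i, Disjoint (S : Set A) ((p i).asIdeal : Set A) := by
    intro i
    rw [Set.disjoint_left]
    intro x hx hxp
    exact (memS x).1 hx i hxp
  have hkey : ∀ q : Ideal A, q.IsPrime → Disjoint (S : Set A) (q : Set A) →
      ∃ i, q ≤ (p i).asIdeal := by
    intro q hq hqd
    have hsub : (q : Set A) ⊆ ⋃ P ∈ ((Finset.univ.image fun i => (p i).asIdeal :
        Finset (Ideal A)) : Set (Ideal A)), (P : Set A) := by
      intro x hx
      by_contra hcon
      simp only [Set.mem_iUnion, not_exists] at hcon
      have hxS : x ∈ S := (memS x).2 (fun i hi => hcon (p i).asIdeal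
        (Finset.mem_coe.2 (Finset.mem_image.2 ⟨i, Finset.mem_univ _, rfl⟩)) hi)
      exact Set.disjoint_left.1 hqd hxS hx
    rw [Ideal.subset_union_prime (f := fun P : Ideal A => P) ⊥ ⊥ (fun P hP _ _ => by
      obtain ⟨i, _, rfl⟩ := Finset.mem_image.1 hP
      exact (p i).isPrime)] at hsub
    obtain ⟨P, hP, hqP⟩ := hsub
    obtain ⟨i, _, rfl⟩ := Finset.mem_image.1 hP
    exact ⟨i, hqP⟩
  have hcomap_map : ∀ i, ((p i).asIdeal.map (algebraMap A (Localization S))).comap
      (algebraMap A (Localization S)) = (p i).asIdeal :=
    fun i => IsLocalization.comap_map_of_isPrime_disjoint S (Localization S) (p i).isPrime (hdisj i)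
  have hmap_prime : ∀ i, ((p i).asIdeal.map (algebraMap A (Localization S))).IsPrime :=
    fun i => IsLocalization.isPrime_of_isPrime_disjoint S (Localization S) _ (p i).isPrime (hdisj i)
  have hmap_comap : ∀ m : Ideal (Localization S),
      (m.comap (algebraMap A (Localization S))).map (algebraMap A (Localization S)) = m :=
    fun m => IsLocalization.map_comap S (Localization S) m
  have hcomap_disj : ∀ m : Ideal (Localization S), m.IsPrime →
      Disjoint (S : Set A) (m.comap (algebraMap A (Localization S)) : Set A) :=
    fun m hm => ((IsLocalization.isPrime_iff_isPrime_disjoint S (Localization S) m).1 hm).2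
  have hmaps : ∀ m : Ideal (Localization S), m.IsMaximal →
      ∃ i, m.comap (algebraMap A (Localization S)) = (p i).asIdeal ∧
        ∀ j, (p i).asIdeal ≤ (p j).asIdeal → (p i).asIdeal = (p j).asIdeal := by
    intro m hm
    have hmp : m.IsPrime := hm.isPrime
    obtain ⟨i, hi⟩ := hkey _ (Ideal.comap_isPrime _ _) (hcomap_disj m hmp)
    have hle : ∀ j, m.comap (algebraMap A (Localization S)) ≤ (p j).asIdeal →
        m = (p j).asIdeal.map (algebraMap A (Localization S)) := by
      intro j hj
      have h1 : m ≤ (p j).asIdeal.map (algebraMap A (Localization S)) := by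
        rw [← hmap_comap m]; exact Ideal.map_mono hj
      exact hm.eq_of_le (hmap_prime j).ne_top h1
    have hmi := hle i hi
    have hci : m.comap (algebraMap A (Localization S)) = (p i).asIdeal := by
      calc m.comap (algebraMap A (Localization S))
          = ((p i).asIdeal.map (algebraMap A (Localization S))).comap
              (algebraMap A (Localization S)) := by rw [← hmi]
        _ = (p i).asIdeal := hcomap_map i
    refine ⟨i, hci, ?_⟩
    intro j hij
    have hcj : m.comap (algebraMap A (Localization S)) ≤ (p j).asIdeal := by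
      rw [hci]; exact hij
    have hmj := hle j hcj
    calc (p i).asIdeal = m.comap (algebraMap A (Localization S)) := hci.symm
      _ = ((p j).asIdeal.map (algebraMap A (Localization S))).comap
              (algebraMap A (Localization S)) := by rw [← hmj]
      _ = (p j).asIdeal := hcomap_map j
  have hinj : Set.InjOn (fun m : Ideal (Localization S) =>
      m.comap (algebraMap A (Localization S))) {m | m.IsMaximal} := by
    intro m1 _ m2 _ h
    have h' : m1.comap (algebraMap A (Localization S)) =
        m2.comap (algebraMap A (Localization S)) := h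
    rw [← hmap_comap m1, ← hmap_comap m2, h']
  have hfin : Set.Finite {m : Ideal (Localization S) | m.IsMaximal} := by
    apply Set.Finite.of_injOn (f := fun m : Ideal (Localization S) =>
      m.comap (algebraMap A (Localization S))) (t := Set.range fun i => (p i).asIdeal)
    · intro m hm
      obtain ⟨i, hi, _⟩ := hmaps m hm
      exact ⟨i, hi.symm⟩
    · exact hinj
    · exact Set.finite_range _
  refine ⟨?_, ?_, hinj, ?_⟩
  · have : Finite {m : Ideal (Localization S) | m.IsMaximal} := hfin.to_subtype
    exact Finite.of_injective (fun x : MaximalSpectrum (Localization S) =>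
      (⟨x.asIdeal, x.isMaximal⟩ : {m : Ideal (Localization S) | m.IsMaximal}))
      (by intro x y h; ext1; exact congrArg Subtype.val h)
  · intro m hm
    obtain ⟨i, hi, hmax⟩ := hmaps m hm
    refine ⟨⟨i, hi.symm⟩, fun j hj => ?_⟩
    change m.comap (algebraMap A (Localization S)) = (p j).asIdeal
    have hj' : m.comap (algebraMap A (Localization S)) ≤ (p j).asIdeal := hj
    rw [hi] at hj' ⊢
    exact hmax j hj'
  · rintro q ⟨⟨i, rfl⟩, hq⟩
    obtain ⟨m, hm, hPm⟩ := Ideal.exists_le_maximal _ (hmap_prime i).ne_top
    obtain ⟨j, hj, _⟩ := hmaps m hm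
    have h1 : (p i).asIdeal ≤ (p j).asIdeal := by
      rw [← hj, ← hcomap_map i]
      exact Ideal.comap_mono hPm
    have h2 := hq j h1
    refine ⟨m, hm, ?_⟩
    change m.comap (algebraMap A (Localization S)) = (p i).asIdeal
    rw [hj]
    exact h2.symm

end Groth.Agent.S7668
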