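import Groth.Statements.S8257
import Groth.Agent.Lib.NilAff3_helper8

set_option autoImplicit false
universe u
open CategoryTheory CategoryTheory.Limits AlgebraicGeometry Opposite TopologicalSpace
open EGA2

namespace Groth.Agent.S8257

/-- Let Y be a locally Noetherian scheme and f : X → Y a morphism of finite type; let j : X₀ → X be a
surjective closed immersion with X₀ reduced (the reduced subscheme underlying X). If X₀ → X → Y is
affine, then f is affine. (So f is affine if and only if f_red is.) -/
theorem result {X X₀ Y : Scheme.{u}}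
    [IsLocallyNoetherian Y] (f : X ⟶ Y) [LocallyOfFiniteType f] [QuasiCompact f]
    (j : X₀ ⟶ X) [IsClosedImmersion j] [Surjective j] [IsReduced X₀] [IsAffineHom (j ≫ f)] :
    IsAffineHom f := by
  haveI : IsLocallyNoetherian X := LocallyOfFiniteType.isLocallyNoetherian f
  refine ⟨fun V hV => ?_⟩
  haveI : IsAffine ((j ⁻¹ᵁ (f ⁻¹ᵁ V) : X₀.Opens) : Scheme.{u}) :=
    IsAffineHom.isAffine_preimage (f := j ≫ f) V hV
  haveI : IsClosedImmersion (j ∣_ (f ⁻¹ᵁ V)) :=
    IsZariskiLocalAtTarget.restrict (P := @IsClosedImmersion) inferInstance _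
  haveI : Surjective (j ∣_ (f ⁻¹ᵁ V)) :=
    IsZariskiLocalAtTarget.restrict (P := @Surjective) inferInstance _
  haveI : CompactSpace ((f ⁻¹ᵁ V : X.Opens) : Scheme.{u}) :=
    isCompact_iff_compactSpace.mp
      (QuasiCompact.isCompact_preimage (f := f) _ V.isOpen hV.isCompact)
  show IsAffine ((f ⁻¹ᵁ V : X.Opens) : Scheme.{u})
  exact NilAffH8.isAffine_of_surjective_closedImmersion (j ∣_ (f ⁻¹ᵁ V))

end Groth.Agent.S8257
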