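import Groth.Statements.S8260
import Groth.Agent.Lib.RelProj_helper3
-- import your own Groth.Agent.* helpers here

set_option autoImplicit false
universe u
open CategoryTheory CategoryTheory.Limits AlgebraicGeometry Opposite TopologicalSpace
open RelProj
open scoped HomogeneousIdeal
open EGA2

namespace Groth.Agent.S8260

/-- If the quasi-coherent positively graded O_Y-algebra 𝒮 is of finite type (over every affine open U of
Y the ring 𝒮(U) is a finitely generated O_Y(U)-algebra), then its relative homogeneous spectrum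
Proj(𝒮) is of finite type over Y. -/
theorem result {Y P : Scheme.{u}} (𝒮 : RelProj.QCGrAlg Y)
    (hft : ∀ (U : Y.Opens) (hU : IsAffineOpen U), (𝒮.str.app (op U)).hom.FiniteType)
    (p : P ⟶ Y)
    (chart : ∀ (U : Y.Opens) (hU : IsAffineOpen U), (((p ⁻¹ᵁ U : P.Opens) : Scheme.{u}) ≅ Proj (𝒮.deg U hU)))
    (hP : RelProj.IsRelProj 𝒮 p chart) : LocallyOfFiniteType p ∧ QuasiCompact p := by
  have key : ∀ (U : Y.Opens) (hU : IsAffineOpen U),
      Algebra.FiniteType (𝒮.deg U hU 0) (𝒮.presheaf.obj (op U)) ∧ (𝒮.strZero U hU).hom.FiniteType :=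
    fun U hU => Groth.Agent.Lib.RelProj_helper3.finiteType_gradeZero (𝒮.deg U hU) _ _
      (fun r => 𝒮.strZero_apply_coe U hU r) (hft U hU)
  constructor
  · refine Groth.Agent.Lib.RelProj_helper3.of_chart @LocallyOfFiniteType hP fun U hU => ?_
    have := (key U hU).1
    have : LocallyOfFiniteType (Spec.map (𝒮.strZero U hU)) :=
      (HasRingHomProperty.Spec_iff (P := @LocallyOfFiniteType)).mpr (key U hU).2
    infer_instance
  · refine Groth.Agent.Lib.RelProj_helper3.of_chart @QuasiCompact hP fun U hU => ?_
    have := (key U hU).1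
    infer_instance

end Groth.Agent.S8260
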