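import Groth.Statements.S8261
import Groth.Agent.Lib.GenDegOne_helper3
import Groth.Agent.Lib.RelProj_helper3
-- import your own Groth.Agent.* helpers here

set_option autoImplicit false
universe u
open CategoryTheory CategoryTheory.Limits AlgebraicGeometry Opposite TopologicalSpace

open scoped HomogeneousIdeal
open EGA2

namespace Groth.Agent.S8261

/-- Let 𝒮 be a quasi-coherent positively graded O_Y-algebra generated by 𝒮_1 with 𝒮_1 of finite type
over O_Y. Then Proj(𝒮) is of finite type over Y. -/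
theorem result {Y P : Scheme.{u}} (𝒮 : RelProj.QCGrAlg Y)
    (hgen : 𝒮.IsGenDegOne) (hft : 𝒮.IsFTDeg 1) (p : P ⟶ Y)
    (chart : ∀ (U : Y.Opens) (hU : IsAffineOpen U), (((p ⁻¹ᵁ U : P.Opens) : Scheme.{u}) ≅ Proj (𝒮.deg U hU)))
    (hP : RelProj.IsRelProj 𝒮 p chart) : LocallyOfFiniteType p ∧ QuasiCompact p := by
  classical
  have key : ∀ (U : Y.Opens) (hU : IsAffineOpen U),
      LocallyOfFiniteType (Proj.toSpecZero (𝒮.deg U hU) ≫ Spec.map (𝒮.strZero U hU)) ∧
      QuasiCompact (Proj.toSpecZero (𝒮.deg U hU) ≫ Spec.map (𝒮.strZero U hU)) := by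
    intro U hU
    obtain ⟨T, hT, hspan⟩ := hft U hU
    have hT' : ∀ t ∈ T, t ∈ 𝒮.deg U hU 1 := fun t ht => hT ht
    have hspan' : ∀ x ∈ 𝒮.deg U hU 1, ∃ c : (𝒮.presheaf.obj (op U)) → Γ(Y, U),
        x = ∑ t ∈ T, (((𝒮.strZero U hU).hom (c t) : 𝒮.deg U hU 0) : 𝒮.presheaf.obj (op U)) * t := by
      intro x hx
      obtain ⟨c, hc⟩ := hspan x hx
      exact ⟨c, hc⟩
    exact ⟨Groth.Agent.Lib.GenDegOne_helper3.locallyOfFiniteType_of_genDegOne (𝒮.deg U hU) (𝒮.strZero U hU) T hT'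
        hspan' (hgen U hU),
      Groth.Agent.Lib.GenDegOne_helper3.quasiCompact_of_genDegOne (𝒮.deg U hU) (𝒮.strZero U hU) T
        hspan' (hgen U hU)⟩
  exact ⟨Groth.Agent.Lib.RelProj_helper3.of_chart @LocallyOfFiniteType hP fun U hU => (key U hU).1,
    Groth.Agent.Lib.RelProj_helper3.of_chart @QuasiCompact hP fun U hU => (key U hU).2⟩

end Groth.Agent.S8261
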