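import Groth.Statements.S8264
import Groth.Agent.Lib.RelProjInt_helper3
-- import your own Groth.Agent.* helpers here

set_option autoImplicit false
universe u
open CategoryTheory CategoryTheory.Limits AlgebraicGeometry Opposite TopologicalSpace

open scoped HomogeneousIdeal
open EGA2

namespace Groth.Agent.S8264

/-- Let Y be an integral scheme and 𝒮 a quasi-coherent positively graded O_Y-algebra with 𝒮_0 = O_Y
which is integral, stated here affine-locally: over every nonempty affine open U the ring 𝒮(U) is an
integral domain whose irrelevant ideal is nonzero (for Y integral this is equivalent to the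
stalkwise condition of the published text: every stalk 𝒮_y an integral domain with (𝒮_y)_+ ≠ 0).
Then Proj(𝒮) is integral and its structure morphism to Y is dominant. -/
theorem result {Y P : Scheme.{u}} [IsIntegral Y] (𝒮 : RelProj.QCGrAlg Y)
    (h0 : ∀ (U : Y.Opens) (hU : IsAffineOpen U), Function.Bijective (𝒮.strZero U hU).hom)
    (hint : ∀ (U : Y.Opens) (hU : IsAffineOpen U), (U : Set Y).Nonempty →
      IsDomain (𝒮.presheaf.obj (op U)) ∧ ((𝒮.deg U hU)₊).toIdeal ≠ ⊥)
    (p : P ⟶ Y)
    (chart : ∀ (U : Y.Opens) (hU : IsAffineOpen U), (((p ⁻¹ᵁ U : P.Opens) : Scheme.{u}) ≅ Proj (𝒮.deg U hU)))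
    (hP : RelProj.IsRelProj 𝒮 p chart) : IsIntegral P ∧ DenseRange p.base := by
  classical
  have : IrreducibleSpace Y := inferInstance
  refine Groth.Agent.Lib.RelProjInt_helper3.isIntegral_of_chart chart ?_
  intro U hU hne
  obtain ⟨hdom, hirr⟩ := hint U hU hne
  rw [Groth.Agent.Lib.ProjNull_helper3.proj_isIntegral_iff (𝒮.deg U hU) (fun f _ hf => hf.eq_zero)]
  refine ⟨?_, fun f _ g _ h => mul_eq_zero.mp h⟩
  by_contra hcon
  push Not at hcon
  apply hirr
  rw [eq_bot_iff]
  intro f hf
  rw [Ideal.mem_bot]
  exact hcon f hf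

end Groth.Agent.S8264
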