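import Groth.Statements.S8265
import Groth.Agent.Lib.RelProjInt_helper3
-- import your own Groth.Agent.* helpers here

set_option autoImplicit false
universe u
open CategoryTheory CategoryTheory.Limits AlgebraicGeometry Opposite TopologicalSpace

open scoped HomogeneousIdeal
open EGA2

namespace Groth.Agent.S8265

/-- Let Y be an integral scheme and 𝒮 a quasi-coherent positively graded O_Y-algebra with 𝒮_0 = O_Y
which is essentially reduced (affine-locally, every nilpotent element of the irrelevant ideal of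
𝒮(U) vanishes). If Proj(𝒮) is integral and dominant over Y, then 𝒮 is integral: over every nonempty
affine open U, 𝒮(U) is an integral domain with nonzero irrelevant ideal (for Y integral, the
affine-local form of the stalkwise condition of the text). -/
theorem result {Y P : Scheme.{u}} [IsIntegral Y] (𝒮 : RelProj.QCGrAlg Y)
    (h0 : ∀ (U : Y.Opens) (hU : IsAffineOpen U), Function.Bijective (𝒮.strZero U hU).hom)
    (hred : ∀ (U : Y.Opens) (hU : IsAffineOpen U) (x : 𝒮.presheaf.obj (op U)),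
      x ∈ (𝒮.deg U hU)₊ → IsNilpotent x → x = 0)
    (p : P ⟶ Y)
    (chart : ∀ (U : Y.Opens) (hU : IsAffineOpen U), (((p ⁻¹ᵁ U : P.Opens) : Scheme.{u}) ≅ Proj (𝒮.deg U hU)))
    (hP : RelProj.IsRelProj 𝒮 p chart) [IsIntegral P] (hdom : DenseRange p.base)
    (U : Y.Opens) (hU : IsAffineOpen U) (hne : (U : Set Y).Nonempty) :
    IsDomain (𝒮.presheaf.obj (op U)) ∧ ((𝒮.deg U hU)₊).toIdeal ≠ ⊥ := by
  classical
  obtain ⟨y, hy⟩ := hne
  have hne' : ∃ x : P, x ∈ p ⁻¹ᵁ U := by
    obtain ⟨x, hx⟩ := hdom.exists_mem_open U.2 ⟨y, hy⟩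
    exact ⟨x, hx⟩
  obtain ⟨x0, hx0⟩ := hne'
  have hnU : Nonempty ((p ⁻¹ᵁ U : P.Opens) : Scheme.{u}) := ⟨⟨x0, hx0⟩⟩
  have hintU : IsIntegral ((p ⁻¹ᵁ U : P.Opens) : Scheme.{u}) := inferInstance
  have hnProj : Nonempty (Proj (𝒮.deg U hU)) := hnU.map (chart U hU).hom.base
  have hintProj : IsIntegral (Proj (𝒮.deg U hU)) := isIntegral_of_isOpenImmersion (chart U hU).inv
  have hnYU : Nonempty U := ⟨⟨y, hy⟩⟩
  have hdomΓ : IsDomain Γ(Y, U) := inferInstance
  have hdom0 : IsDomain (𝒮.deg U hU 0) :=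
    (RingEquiv.ofBijective (𝒮.strZero U hU).hom (h0 U hU)).symm.toMulEquiv.isDomain Γ(Y, U)
  have hiso : IsIso (𝒮.strZero U hU) := (ConcreteCategory.isIso_iff_bijective _).mpr (h0 U hU)
  have hdense : DenseRange (Proj.toSpecZero (𝒮.deg U hU)).base := by
    rw [DenseRange, dense_iff_inter_open]
    intro W hW hWne
    let e : Spec (CommRingCat.of (𝒮.deg U hU 0)) ⟶ Y := Spec.map (𝒮.strZero U hU) ≫ hU.fromSpec
    have heW : IsOpen (e.base '' W) := e.isOpenEmbedding.isOpenMap W hW
    obtain ⟨x, hx⟩ := hdom.exists_mem_open heW (hWne.image _)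
    obtain ⟨w, hwW, hwx⟩ := hx
    have hxU : x ∈ p ⁻¹ᵁ U := by
      change p.base x ∈ U
      rw [← hwx]
      have : e.base w ∈ Set.range hU.fromSpec.base := ⟨(Spec.map (𝒮.strZero U hU)).base w, rfl⟩
      rw [hU.range_fromSpec] at this
      exact this
    let z := (chart U hU).hom.base ⟨x, hxU⟩
    have hz : e.base ((Proj.toSpecZero (𝒮.deg U hU)).base z) = p.base x := by
      have := congr_arg (fun g => g.base ⟨x, hxU⟩) (hP.chart_over U hU)
      simp only [Scheme.Hom.comp_base, TopCat.coe_comp, Function.comp_apply] at this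
      exact this
    have hinj : Function.Injective e.base := e.isOpenEmbedding.injective
    have hzw : (Proj.toSpecZero (𝒮.deg U hU)).base z = w := hinj (hz.trans hwx.symm)
    exact ⟨w, hwW, z, hzw⟩
  exact Groth.Agent.Lib.RelProjInt_helper3.isDomain_of_proj_isIntegral (𝒮.deg U hU) (hred U hU) hdense

end Groth.Agent.S8265
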