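import Groth.Statements.S8274
import Groth.Agent.Lib.RelProj_helper3
-- import your own Groth.Agent.* helpers here

set_option autoImplicit false
universe u
open CategoryTheory CategoryTheory.Limits AlgebraicGeometry Opposite TopologicalSpace
open scoped HomogeneousIdeal
open EGA2

namespace Groth.Agent.S8274

section aux
variable {Y P : Scheme.{u}} (𝒮 : RelProj.QCGrAlg Y) (p : P ⟶ Y)
    (chart : ∀ (U : Y.Opens) (hU : IsAffineOpen U), (((p ⁻¹ᵁ U : P.Opens) : Scheme.{u}) ≅ Proj (𝒮.deg U hU)))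
    (f : 𝒮.presheaf.obj (op ⊤))

/-- The open `D_+(f|U)` transported to `P`. -/
noncomputable def piece (U : Y.Opens) (hU : IsAffineOpen U) : P.Opens :=
  (p ⁻¹ᵁ U).ι ''ᵁ ((chart U hU).hom ⁻¹ᵁ
    Proj.basicOpen (𝒮.deg U hU) ((𝒮.presheaf.map (homOfLE le_top).op).hom f))

theorem mem_piece (U : Y.Opens) (hU : IsAffineOpen U) (x : P) :
    x ∈ piece 𝒮 p chart f U hU ↔ ∃ hx : x ∈ p ⁻¹ᵁ U, (chart U hU).hom.base ⟨x, hx⟩ ∈
      Proj.basicOpen (𝒮.deg U hU) ((𝒮.presheaf.map (homOfLE le_top).op).hom f) := by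
  constructor
  · rintro ⟨z, hz, rfl⟩
    exact ⟨z.2, hz⟩
  · rintro ⟨hx, h⟩
    exact ⟨⟨x, hx⟩, h, rfl⟩

theorem piece_le (U : Y.Opens) (hU : IsAffineOpen U) : piece 𝒮 p chart f U hU ≤ p ⁻¹ᵁ U := by
  intro x hx
  obtain ⟨hx', -⟩ := (mem_piece 𝒮 p chart f U hU x).mp hx
  exact hx'

theorem piece_congr {U U' : Y.Opens} (h : U = U') (hU : IsAffineOpen U) (hU' : IsAffineOpen U') :
    piece 𝒮 p chart f U hU = piece 𝒮 p chart f U' hU' := by
  subst h; rfl

variable {𝒮 p chart}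

theorem piece_basicOpen (hP : RelProj.IsRelProj 𝒮 p chart) (U : Y.Opens) (hU : IsAffineOpen U) (r : Γ(Y, U)) :
    piece 𝒮 p chart f (Y.basicOpen r) (hU.basicOpen r) = piece 𝒮 p chart f U hU ⊓ p ⁻¹ᵁ (Y.basicOpen r) := by
  have hres : (𝒮.res hU (hU.basicOpen r) (Y.basicOpen_le r)) ((𝒮.presheaf.map (homOfLE le_top).op).hom f) =
      (𝒮.presheaf.map (homOfLE le_top).op).hom f := by
    rw [RelProj.QCGrAlg.res_apply]
    change ((𝒮.presheaf.map (homOfLE le_top).op) ≫ (𝒮.presheaf.map (homOfLE (Y.basicOpen_le r)).op)).hom f = _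
    rw [← Functor.map_comp]
    rfl
  have key : ∀ (x : P) (hx : x ∈ p ⁻¹ᵁ (Y.basicOpen r)),
      (chart U hU).hom.base ⟨x, p.preimage_mono (Y.basicOpen_le r) hx⟩ =
        (Proj.map (𝒮.res hU (hU.basicOpen r) (Y.basicOpen_le r)) (𝒮.irrelevant_le_map U hU r)).base
          ((chart (Y.basicOpen r) (hU.basicOpen r)).hom.base ⟨x, hx⟩) := by
    intro x hx
    have := congr_arg (fun g => g.base ⟨x, hx⟩) (hP.chart_res U hU r)
    simp only [Scheme.Hom.comp_base, TopCat.coe_comp, Function.comp_apply] at this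
    have h2 : (P.homOfLE (p.preimage_mono (Y.basicOpen_le r))).base ⟨x, hx⟩ =
        ⟨x, p.preimage_mono (Y.basicOpen_le r) hx⟩ := Subtype.ext (Scheme.homOfLE_apply _ _)
    rw [h2] at this
    exact this
  have key2 : ∀ (x : P) (hx : x ∈ p ⁻¹ᵁ (Y.basicOpen r)),
      ((chart U hU).hom.base ⟨x, p.preimage_mono (Y.basicOpen_le r) hx⟩ ∈
        Proj.basicOpen (𝒮.deg U hU) ((𝒮.presheaf.map (homOfLE le_top).op).hom f)) ↔
      ((chart (Y.basicOpen r) (hU.basicOpen r)).hom.base ⟨x, hx⟩ ∈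
        Proj.basicOpen (𝒮.deg (Y.basicOpen r) (hU.basicOpen r)) ((𝒮.presheaf.map (homOfLE le_top).op).hom f)) := by
    intro x hx
    rw [key x hx, ← hres]
    exact Iff.rfl
  ext x
  rw [SetLike.mem_coe, SetLike.mem_coe, mem_piece, Opens.mem_inf, mem_piece]
  constructor
  · rintro ⟨hx, h⟩
    exact ⟨⟨_, (key2 x hx).mpr h⟩, hx⟩
  · rintro ⟨⟨hxU, h⟩, hx⟩
    exact ⟨hx, (key2 x hx).mp h⟩

theorem piece_inter (hP : RelProj.IsRelProj 𝒮 p chart) (V W : Y.Opens) (hV : IsAffineOpen V) (hW : IsAffineOpen W) :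
    piece 𝒮 p chart f V hV ⊓ p ⁻¹ᵁ W ≤ piece 𝒮 p chart f W hW := by
  intro x hx
  have hxV : x ∈ piece 𝒮 p chart f V hV := hx.1
  have hpx : p.base x ∈ V ⊓ W := ⟨piece_le 𝒮 p chart f V hV hxV, hx.2⟩
  obtain ⟨a, b, hab, hxa⟩ := exists_basicOpen_le_affine_inter hV hW (p.base x) hpx
  have h1 : x ∈ piece 𝒮 p chart f (Y.basicOpen a) (hV.basicOpen a) := by
    rw [piece_basicOpen f hP V hV a]
    exact ⟨hxV, hxa⟩
  rw [piece_congr 𝒮 p chart f hab (hV.basicOpen a) (hW.basicOpen b), piece_basicOpen f hP W hW b] at h1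
  exact h1.1

end aux


/-- Let 𝒮 be a quasi-coherent positively graded O_Y-algebra, P = Proj(𝒮) with structure morphism p and
charts, and f a global section of 𝒮 homogeneous of degree d > 0. There is an open subset X_f of P
such that for every affine open U of Y, X_f ∩ p⁻¹(U) is the open D_+(f|U) of Proj 𝒮(U) transported
by the chart; moreover X_f is affine over Y. (The identification of X_f with the spectrum of a
quotient of the d-th Veronese algebra is not stated here.) -/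
theorem result {Y P : Scheme.{u}} (𝒮 : RelProj.QCGrAlg Y) (p : P ⟶ Y)
    (chart : ∀ (U : Y.Opens) (hU : IsAffineOpen U), (((p ⁻¹ᵁ U : P.Opens) : Scheme.{u}) ≅ Proj (𝒮.deg U hU)))
    (hP : RelProj.IsRelProj 𝒮 p chart) {d : ℕ} (hd : 0 < d) (f : 𝒮.presheaf.obj (op ⊤))
    (hf : ∀ (U : Y.Opens) (hU : IsAffineOpen U), (𝒮.presheaf.map (homOfLE le_top).op).hom f ∈ 𝒮.deg U hU d) :
    ∃ Xf : P.Opens,
      (∀ (U : Y.Opens) (hU : IsAffineOpen U),
        Xf ⊓ p ⁻¹ᵁ U =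
          (p ⁻¹ᵁ U).ι ''ᵁ ((chart U hU).hom ⁻¹ᵁ
            Proj.basicOpen (𝒮.deg U hU) ((𝒮.presheaf.map (homOfLE le_top).op).hom f))) ∧
      IsAffineHom (Xf.ι ≫ p) := by
  classical
  refine ⟨⨆ U : Y.affineOpens, piece 𝒮 p chart f U.1 U.2, ?_, ?_⟩
  · intro U hU
    change _ = piece 𝒮 p chart f U hU
    apply le_antisymm
    · intro x hx
      obtain ⟨V, hxV⟩ := Opens.mem_iSup.mp hx.1
      exact piece_inter f hP V.1 U V.2 hU ⟨hxV, hx.2⟩
    · exact le_inf (le_iSup (fun U : Y.affineOpens => piece 𝒮 p chart f U.1 U.2) ⟨U, hU⟩) (piece_le 𝒮 p chart f U hU)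
  · have hXf : ∀ (U : Y.Opens) (hU : IsAffineOpen U),
        (⨆ U : Y.affineOpens, piece 𝒮 p chart f U.1 U.2) ⊓ p ⁻¹ᵁ U = piece 𝒮 p chart f U hU := by
      intro U hU
      apply le_antisymm
      · intro x hx
        obtain ⟨V, hxV⟩ := Opens.mem_iSup.mp hx.1
        exact piece_inter f hP V.1 U V.2 hU ⟨hxV, hx.2⟩
      · exact le_inf (le_iSup (fun U : Y.affineOpens => piece 𝒮 p chart f U.1 U.2) ⟨U, hU⟩) (piece_le 𝒮 p chart f U hU)
    constructor
    intro U hU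
    set Xf := ⨆ U : Y.affineOpens, piece 𝒮 p chart f U.1 U.2 with hXfdef
    rw [← Scheme.Hom.isAffineOpen_iff_of_isOpenImmersion Xf.ι]
    have h1 : Xf.ι ''ᵁ ((Xf.ι ≫ p) ⁻¹ᵁ U) = Xf ⊓ p ⁻¹ᵁ U := by
      rw [Scheme.Hom.comp_preimage, Scheme.Hom.image_preimage_eq_opensRange_inf, Scheme.Opens.opensRange_ι]
    rw [h1, hXf U hU]
    unfold piece
    apply IsAffineOpen.image_of_isOpenImmersion
    apply IsAffineOpen.preimage_of_isIso
    exact Proj.isAffineOpen_basicOpen _ _ (hf U hU) hd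

end Groth.Agent.S8274
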