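import Groth.Statements.S8282
import Mathlib
import Groth.Agent.Lib.GrTNAlg2_helper5
import Groth.Agent.Lib.ProjPB3_helper5

set_option autoImplicit false
universe u
open CategoryTheory CategoryTheory.Limits AlgebraicGeometry
open EGA2

namespace Groth.Agent.S8282

/-- Let T be a positively graded ring which is a T_0-algebra of finite type, and T' = ⊕_n T_1^n → T the
injective graded homomorphism from the subalgebra generated by T_1 (T' presented as a graded ring
with φ : T' → T injective, bijective in degrees 0 and 1, and T'_n = (T'_1)^n for n ≥ 1). If the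
morphism of homogeneous spectra induced by φ is everywhere defined (its domain G(φ) is the whole of
Proj T) and is an isomorphism onto Proj T', then there is n₀ with T_n = T_1^n for all n ≥ n₀. -/
theorem result {R A B : Type u} [CommRing R] [CommRing A] [Algebra R A]
    (𝒜 : ℕ → Submodule R A) [GradedAlgebra 𝒜] [CommRing B] [Algebra R B] (ℬ : ℕ → Submodule R B) [GradedAlgebra ℬ]
    [Algebra.FiniteType (ℬ 0) B] (φ : 𝒜 →+*ᵍ ℬ) (hφ : Function.Injective φ)
    (h0 : Set.BijOn φ (𝒜 0) (ℬ 0)) (h1 : Set.BijOn φ (𝒜 1) (ℬ 1))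
    (hgen : ∀ n : ℕ, 1 ≤ n → 𝒜 n = 𝒜 1 ^ n)
    (hdom : PCone.dom φ = ⊤)
    (p : (PCone.dom φ : Scheme.{u}) ⟶ Proj 𝒜)
    (hp : ∀ (d : ℕ) (f : A) (hd : 0 < d) (hf : f ∈ 𝒜 d),
      PCone.chart φ hf hd ≫ p =
        Spec.map (CommRingCat.ofHom (HomogeneousLocalization.Away.map φ f)) ≫ Proj.awayι 𝒜 f hf hd)
    [IsIso p] :
    ∃ n₀ : ℕ, ∀ n : ℕ, n₀ ≤ n → ℬ n = ℬ 1 ^ n := by
  classical
  obtain ⟨s, hs1, hs2⟩ := GradedAlgebra.exists_finset_adjoin_eq_top_and_homogeneous_ne_zero ℬ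
  choose! deg hdeg using hs2
  have hpAll : ∀ (d : ℕ) (f : A) (hd : 0 < d) (hf : f ∈ 𝒜 d), Groth.Agent.ProjPB.HP φ p hf hd := hp
  have H : Groth.Agent.GrTNAlg.Setup φ :=
    { inj := hφ
      h0 := fun r hr => by
        obtain ⟨a, ha, e⟩ := h0.surjOn hr
        exact ⟨a, ha, e⟩
      h1 := fun r hr => by
        obtain ⟨a, ha, e⟩ := h1.surjOn hr
        exact ⟨a, ha, e⟩
      hgen := hgen
      hrad := fun m hm b hb => Groth.Agent.ProjPB.mem_radical_of_dom_top hdom hgen hm hb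
      hloc := fun f hf m b hb => by
        obtain ⟨N, a, ha, e⟩ := Groth.Agent.ProjPB.exists_pow_mul_eq_of_surjective hf
          (Groth.Agent.ProjPB.awayMap_bijective hpAll one_pos hf).2 hb
        exact ⟨N, a, ha, e⟩ }
  obtain ⟨n₀, hn₀⟩ := Groth.Agent.GrTNAlg.exists_n0 H s hs1 deg (fun i hi => (hdeg i hi).2)
    (fun i hi => Nat.pos_of_ne_zero (hdeg i hi).1)
  refine ⟨max n₀ 1, fun n hn => le_antisymm ?_ (Groth.Agent.GrTNAlg.pow_le_deg n)⟩
  intro b hb
  obtain ⟨a, ha, rfl⟩ := hn₀ n (le_trans (le_max_left _ _) hn) b hb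
  have hn1 : 1 ≤ n := le_trans (le_max_right _ _) hn
  rw [hgen n hn1] at ha
  exact Groth.Agent.GrTNAlg.map_pow_mem hn1 ha

end Groth.Agent.S8282
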