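import Groth.Statements.S8286
import Mathlib
import Groth.Agent.Lib.GrTwRel_helper5

set_option autoImplicit false
universe u
open CategoryTheory CategoryTheory.Limits AlgebraicGeometry Opposite TopologicalSpace
open scoped HomogeneousIdeal
noncomputable section
open EGA2

namespace Groth.Agent.S8286

/-- If the quasi-coherent positively graded O_Y-algebra 𝒮 is generated by 𝒮_1, then on P = Proj(𝒮) the
twisting sheaves O_P(n) are invertible for every integer n. -/
theorem result {Y P : Scheme.{u}} (𝒮 : RelProj.QCGrAlg Y) (hgen : 𝒮.IsGenDegOne)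
    (p : P ⟶ Y)
    (chart : ∀ (U : Y.Opens) (hU : IsAffineOpen U), (((p ⁻¹ᵁ U : P.Opens) : Scheme.{u}) ≅ Proj (𝒮.deg U hU)))
    (hP : RelProj.IsRelProj 𝒮 p chart) (n : ℤ) (L : P.Modules)
    (lam : ∀ (U : Y.Opens) (hU : IsAffineOpen U),
      L ⟶ (Scheme.Modules.pushforward (RelProj.emb p chart U hU)).obj (GrTwist.twist (𝒮.deg U hU) n))
    (hL : RelProj.IsRelTwist 𝒮 p chart n L lam) : PicF.IsInvertible L := by
  apply TensH8.isInvertible_of_gens
  intro y
  obtain ⟨_, ⟨U, hU : IsAffineOpen U, rfl⟩, hyU, -⟩ :=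
    (Y.isBasis_affineOpens).exists_subset_of_mem_open (Set.mem_univ (p y)) isOpen_univ
  have hy : y ∈ p ⁻¹ᵁ U := hyU
  obtain ⟨z, hz⟩ : ∃ z : Proj (𝒮.deg U hU), (RelProj.emb p chart U hU) z = y := by
    refine ⟨(chart U hU).hom ⟨y, hy⟩, ?_⟩
    have h1 : ((chart U hU).hom ≫ RelProj.emb p chart U hU) ⟨y, hy⟩ = y := by
      unfold RelProj.emb
      rw [Iso.hom_inv_id_assoc]
      rfl
    exact h1
  obtain ⟨f, hf, hfz⟩ := Groth.Agent.GrTw.exists_deg_one_not_mem (𝒮.deg U hU) (hgen U hU) z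
  obtain ⟨e, he⟩ := Groth.Agent.GrTw.exists_isGen_of_chart 𝒮 p chart n L lam hL U hU hf n
    (by simp) ((RelProj.emb p chart U hU) ''ᵁ (Proj.basicOpen (𝒮.deg U hU) f))
    (Scheme.Hom.image_le_opensRange _ _) (Scheme.Hom.preimage_image_eq _ _).le
  exact ⟨(RelProj.emb p chart U hU) ''ᵁ (Proj.basicOpen (𝒮.deg U hU) f),
    (Proj.isAffineOpen_basicOpen _ f hf one_pos).image_of_isOpenImmersion _,
    ⟨z, hfz, hz⟩, e, he⟩

end Groth.Agent.S8286
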