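import Groth.Statements.S8302
import Groth.Agent.Lib.AModHom1_helper8

set_option autoImplicit false
universe u
open CategoryTheory CategoryTheory.Limits AlgebraicGeometry Opposite TopologicalSpace
noncomputable section
open EGA2

namespace Groth.Agent.S8302

/-- The case of a single scheme X affine over S and the identity morphism of X: let f : X → S be an
affine morphism and F, G quasi-coherent O_X-modules. Then the direct image u ↦ f_*(u) is a bijection
from the set of O_X-module homomorphisms F → G onto the set of homomorphisms f_*F → f_*G of modules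
over the direct-image algebra f_*O_X. -/
theorem result {X S : Scheme.{u}} (f : X ⟶ S) [IsAffineHom f]
    (F G : X.Modules) (hF : Coh.IsQCoh F) (hG : Coh.IsQCoh G) :
    Function.Bijective
      ((AMod.dirImg f).map : (F ⟶ G) → ((AMod.dirImg f).obj F ⟶ (AMod.dirImg f).obj G)) := by
  haveI : F.IsQuasicoherent := hF
  haveI : G.IsQuasicoherent := hG
  constructor
  · intro u₁ u₂ h
    apply AModHomH8.pushforward_map_injective f F G
    have := congrArg (fun α => (AMod.toOS (RelSpec.QCAlg.directImage f)).map α) h
    exact this
  · intro φ
    let φ₀ : (Scheme.Modules.pushforward f).obj F ⟶ (Scheme.Modules.pushforward f).obj G :=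
      (AMod.toOS (RelSpec.QCAlg.directImage f)).map φ
    have hlin : ∀ (V : S.Opens) (b : Γ(X, f ⁻¹ᵁ V)) (m : Γ(F, f ⁻¹ᵁ V)),
        φ₀.app V (show Γ((Scheme.Modules.pushforward f).obj F, V) from b • m) =
          (show Γ(G, f ⁻¹ᵁ V) from b • (show Γ(G, f ⁻¹ᵁ V) from
            φ₀.app V (show Γ((Scheme.Modules.pushforward f).obj F, V) from m))) := by
      intro V b m
      exact (φ.val.app (op V)).hom.map_smul b m
    obtain ⟨u, hu⟩ := AModHomH8.exists_pushforward_map_eq f F G φ₀ hlin
    refine ⟨u, ?_⟩
    apply SheafOfModules.hom_ext
    apply PresheafOfModules.hom_ext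
    intro U
    apply ModuleCat.hom_ext
    apply LinearMap.ext
    intro m
    have := congrArg (fun α => Scheme.Modules.Hom.app α U.unop m) hu
    exact this

end Groth.Agent.S8302
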