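import Groth.Statements.S8305
import Groth.Agent.Lib.AffIso1_helper8
import Groth.Agent.Lib.ZClos3_helper8

set_option autoImplicit false
universe u
open CategoryTheory CategoryTheory.Limits AlgebraicGeometry Opposite TopologicalSpace
noncomputable section
open EGA2

namespace Groth.Agent.S8305

/-- Let X and Y be schemes affine over S with structure morphisms gX and gY, h : Y → X a morphism over
S, F a quasi-coherent O_X-module, G a quasi-coherent O_Y-module and v : F → h_*G a homomorphism of
O_X-modules, so that (h, v) is a morphism of pairs (Y, G) → (X, F). Then h and v are isomorphisms if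
and only if the direct-image algebra homomorphism A(h) : gX_*O_X → gY_*O_Y and the direct image A(v)
= gX_*(v) : gX_*F → gX_*h_*G are isomorphisms (the pair (A(h), A(v)) is a di-isomorphism). -/
theorem result {X Y S : Scheme.{u}} (gX : X ⟶ S) [IsAffineHom gX]
    (gY : Y ⟶ S) [IsAffineHom gY] (h : Y ⟶ X) (hh : h ≫ gX = gY)
    (F : X.Modules) (G : Y.Modules) (hF : Coh.IsQCoh F) (hG : Coh.IsQCoh G)
    (v : F ⟶ (Scheme.Modules.pushforward h).obj G) :
    (IsIso h ∧ IsIso v) ↔
      (IsIso (AffAlg.algHom gX gY h hh) ∧ IsIso ((Scheme.Modules.pushforward gX).map v)) := by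
  haveI : F.IsQuasicoherent := hF
  haveI : G.IsQuasicoherent := hG
  subst hh
  constructor
  · rintro ⟨hh, hv⟩
    haveI : IsIso h := hh
    haveI : IsIso v := hv
    refine ⟨?_, inferInstance⟩
    haveI : ∀ U, IsIso ((AffAlg.algHom gX (h ≫ gX) h rfl).app U) := by
      intro U
      have h2 : (AffAlg.algHom gX (h ≫ gX) h rfl).app U = h.app (gX ⁻¹ᵁ U.unop) := by
        unfold AffAlg.algHom
        simp
        rfl
      have h3 : IsIso (h.app (gX ⁻¹ᵁ U.unop)) := inferInstance
      rw [h2]
      exact h3
    exact NatIso.isIso_of_isIso_app _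
  · rintro ⟨ha, hv⟩
    haveI hiso : IsIso h :=
      AffIsoH8.isIso_of_isIso_app gX h (AffIsoH8.isIso_app_of_isIso_algHom gX h ha)
    refine ⟨hiso, ?_⟩
    haveI : ((Scheme.Modules.pushforward h).obj G).IsQuasicoherent :=
      QCohCrit.isQuasicoherent_pushforward h G
    have hcov : ⨆ U : S.affineOpens, (gX ⁻¹ᵁ (U : S.Opens)) = ⊤ := by
      rw [eq_top_iff]
      intro x _
      obtain ⟨_, ⟨U, hU : IsAffineOpen U, rfl⟩, hxU, -⟩ :=
        (S.isBasis_affineOpens).exists_subset_of_mem_open (Set.mem_univ (gX x)) isOpen_univ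
      exact Opens.mem_iSup.mpr ⟨⟨U, hU⟩, hxU⟩
    refine QCohCrit.isIso_of_bijective_on_cover v (fun U : S.affineOpens => gX ⁻¹ᵁ (U : S.Opens))
      (fun U => U.2.preimage gX) hcov ?_
    intro U
    haveI : IsIso ((Scheme.Modules.pushforward gX).map v) := hv
    exact ZClosH8.app_bijective_of_isIso ((Scheme.Modules.pushforward gX).map v) (U : S.Opens)

end Groth.Agent.S8305
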