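import Groth.Statements.S8344
import Groth.Agent.Lib.ConstrMore_lead

set_option autoImplicit false
universe u
open ConstrTop

namespace Groth.Agent.S8344

/-- In a topological space X, every constructible subset is retrocompact in X, that is, it meets every
quasi-compact open subset of X in a quasi-compact set. -/
theorem result {X : Type u} [TopologicalSpace X] {s : Set X}
    (hs : Topology.IsConstructible s) : IsRetrocompact s := by
  exact Groth.Agent.Lib.ConstrMore_lead.isRetrocompact_of_isConstructible hs

end Groth.Agent.S8344
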