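import Groth.Statements.S8345
import Groth.Agent.Lib.ConstrNoeth_lead
import Mathlib.Data.Finite.Sum

set_option autoImplicit false
universe u
open ConstrTop

namespace Groth.Agent.S8345

open TopologicalSpace in
/-- Suppose X is a topological space that is Noetherian. Then a subset s of X is constructible exactly
when s can be written as the union of finitely many locally closed subsets of X. -/
theorem result {X : Type u} [TopologicalSpace X]
    [NoetherianSpace X] (s : Set X) :
    Topology.IsConstructible s ↔
      ∃ (n : ℕ) (Z : Fin n → Set X), (∀ i, IsLocallyClosed (Z i)) ∧ s = ⋃ i, Z i := by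
  constructor
  · intro hs
    have key : ∃ (ι : Type) (_ : Finite ι) (Z : ι → Set X),
        (∀ i, IsLocallyClosed (Z i)) ∧ s = ⋃ i, Z i := by
      refine Groth.Agent.Lib.ConstrMore_lead.sdiff_union_induction
        (P := fun s => ∃ (ι : Type) (_ : Finite ι) (Z : ι → Set X),
          (∀ i, IsLocallyClosed (Z i)) ∧ s = ⋃ i, Z i) ?_ ?_ hs
      · intro U V hU _ hV _
        refine ⟨Unit, inferInstance, fun _ => U \ V, fun _ => ?_, ?_⟩
        · exact hU.isLocallyClosed.inter hV.isClosed_compl.isLocallyClosed
        · exact (Set.iUnion_const _).symm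
      · rintro s t _ _ ⟨ι, hι, Z, hZ, rfl⟩ ⟨κ, hκ, W, hW, rfl⟩
        have := hι; have := hκ
        refine ⟨ι ⊕ κ, inferInstance, Sum.elim Z W, ?_, ?_⟩
        · rintro (i | j)
          · exact hZ i
          · exact hW j
        · rw [Set.iUnion_sum]; rfl
    obtain ⟨ι, hι, Z, hZ, rfl⟩ := key
    obtain ⟨n, ⟨e⟩⟩ := Finite.exists_equiv_fin ι
    refine ⟨n, Z ∘ e.symm, fun i => hZ _, ?_⟩
    exact (e.symm.surjective.iUnion_comp Z).symm
  · rintro ⟨n, Z, hZ, rfl⟩
    exact Topology.IsConstructible.iUnion fun i =>
      Groth.Agent.Lib.ConstrNoeth_lead.isConstructible_of_isLocallyClosed (hZ i)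

end Groth.Agent.S8345
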