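import Groth.Statements.S8346
import Groth.Agent.Lib.ConstrMore_lead

set_option autoImplicit false
universe u
open ConstrTop

namespace Groth.Agent.S8346

open TopologicalSpace in
/-- Let X be a topological space admitting a basis of open subsets which are retrocompact in X. Then
every locally constructible subset T of X is retrocompact in X. -/
theorem result {X : Type u} [TopologicalSpace X]
    {B : Set (Set X)} (hB : IsTopologicalBasis B) (hBr : ∀ U ∈ B, IsRetrocompact U) {T : Set X}
    (hT : Topology.IsLocallyConstructible T) : IsRetrocompact T := by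
  intro K hK hKo
  have (x : X) : ∃ V, IsOpen V ∧ IsRetrocompact V ∧ x ∈ V ∧ Topology.IsConstructible (V ∩ T) :=
    have ⟨U, hxU, hU, hUs⟩ := hT x
    have ⟨V, hVB, hxV, hVU⟩ := hB.mem_nhds_iff.mp hxU
    have hV₁ : IsOpen V := hB.isOpen hVB
    have : Topology.IsConstructible ((Subtype.val : V → X) ⁻¹' T) :=
      (hUs.preimage_of_isOpenEmbedding (Topology.IsOpenEmbedding.id.restrict hVU hV₁) :)
    have : Topology.IsConstructible (V ∩ T) := by
      have := this.image_of_isOpenEmbedding hV₁.isOpenEmbedding_subtypeVal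
        (by simpa using hBr V hVB)
      rwa [Subtype.image_preimage_coe] at this
    ⟨V, hV₁, hBr V hVB, hxV, this⟩
  choose U hU hU' hxU hUs using this
  obtain ⟨σ, hσ, htσ⟩ := hK.elim_nhds_subcover U (fun x _ ↦ (hU x).mem_nhds (hxU x))
  have heq : T ∩ K = ⋃ x ∈ σ, (U x ∩ T) ∩ K := by
    apply Set.Subset.antisymm
    · rintro z ⟨hzT, hzK⟩
      obtain ⟨x, hx, hzx⟩ := Set.mem_iUnion₂.1 (htσ hzK)
      exact Set.mem_iUnion₂.2 ⟨x, hx, ⟨hzx, hzT⟩, hzK⟩
    · exact Set.iUnion₂_subset fun x _ z hz => ⟨hz.1.2, hz.2⟩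
  rw [heq]
  exact σ.isCompact_biUnion fun x _ =>
    Groth.Agent.Lib.ConstrMore_lead.isRetrocompact_of_isConstructible (hUs x) hK hKo

end Groth.Agent.S8346
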