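import Groth.Statements.S8347
import Mathlib
import Groth.Agent.S8355

set_option autoImplicit false
universe v u
open CategoryTheory CategoryTheory.Limits
open SpSeq

namespace Groth.Agent.S8347

section helpers

variable {C : Type u} [Category.{v} C] [Abelian C] {r₀ : ℤ}

theorem iso_of_stationary (E : CohomologicalSpectralSequence C r₀) (pq : ℤ × ℤ) (s : ℤ)
    (hs : SpSeq.StationaryAt E pq s) (k : ℤ) (hk : s ≤ k) (hk0 : r₀ ≤ k) :
    Nonempty ((E.page k hk0).X pq ≅ (E.page s hs.1).X pq) := by
  obtain ⟨hs0, hstat⟩ := hs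
  revert hk0
  refine Int.le_induction (motive := fun k _ => ∀ hk0 : r₀ ≤ k,
    Nonempty ((E.page k hk0).X pq ≅ (E.page s hs0).X pq)) ?_ ?_ k hk
  · intro _
    exact ⟨Iso.refl _⟩
  · intro n hn ih hk0
    have hn0 : r₀ ≤ n := hs0.trans hn
    obtain ⟨e⟩ := ih hn0
    obtain ⟨hd1, hd2⟩ := hstat n hn0 hn
    have hrel1 : (ComplexShape.up' ((n, 1 - n) : ℤ × ℤ)).Rel (pq - (n, 1 - n)) pq :=
      sub_add_cancel pq _
    have hrel2 : (ComplexShape.up' ((n, 1 - n) : ℤ × ℤ)).Rel pq (pq + (n, 1 - n)) := rfl
    have hf : ((E.page n hn0).sc pq).f = 0 := by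
      show (E.page n hn0).dTo pq = 0
      rw [(E.page n hn0).dTo_eq hrel1, hd1, comp_zero]
    have hg : ((E.page n hn0).sc pq).g = 0 := by
      show (E.page n hn0).dFrom pq = 0
      rw [(E.page n hn0).dFrom_eq hrel2, hd2, zero_comp]
    have e2 : (E.page n hn0).homology pq ≅ (E.page n hn0).X pq :=
      (ShortComplex.LeftHomologyData.ofZeros ((E.page n hn0).sc pq) hf hg).homologyIso
    exact ⟨(E.iso n (n + 1) pq rfl hn0).symm ≪≫ e2 ≪≫ e⟩

theorem subquot_iso_of_bot_top {X : C} (Z B : Subobject X) (h : B ≤ Z) (hB : B = ⊥) (hZ : Z = ⊤) :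
    Nonempty (SpSeq.subquot Z B h ≅ X) := by
  subst hB
  subst hZ
  have h0 : (⊥ : Subobject X).ofLE ⊤ h = 0 := zero_of_source_iso_zero _ Subobject.botCoeIsoZero
  exact ⟨cokernelIsoOfEq h0 ≪≫ cokernelZeroIsoTarget ≪≫ asIso (⊤ : Subobject X).arrow⟩

theorem eq_of_isZero_subquot {X : C} (Z B : Subobject X) (h : B ≤ Z)
    (hz : IsZero (SpSeq.subquot Z B h)) : B = Z := by
  apply le_antisymm h
  have hepi : Epi (B.ofLE Z h) := Preadditive.epi_of_isZero_cokernel _ hz
  have hiso : IsIso (B.ofLE Z h) := isIso_of_mono_of_epi _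
  exact Subobject.le_of_comm (inv (B.ofLE Z h)) (by rw [IsIso.inv_comp_eq, Subobject.ofLE_arrow])

theorem fil_succ_eq {H : ℤ → C} (E : CohomologicalSpectralSequence C r₀) (a : SpSeq.Abutment E H)
    (pq : ℤ × ℤ) (m : ℤ) (hm : pq.1 + pq.2 = m)
    (hz : IsZero (SpSeq.grPiece (a.fil (pq.1 + pq.2)) (a.anti (pq.1 + pq.2)) pq.1)) :
    a.fil m (pq.1 + 1) = a.fil m pq.1 := by
  subst hm
  exact eq_of_isZero_subquot _ _ _ hz

theorem beta_iso {H : ℤ → C} (E : CohomologicalSpectralSequence C r₀) (a : SpSeq.Abutment E H)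
    (pq : ℤ × ℤ) (m : ℤ) (hm : pq.1 + pq.2 = m) :
    Nonempty ((E.page (a.rk pq) (a.stat pq).1).X pq ≅
      SpSeq.grPiece (a.fil m) (a.anti m) pq.1) := by
  subst hm
  exact ⟨a.β pq⟩

end helpers


/-- Let E be a spectral sequence in an abelian category with abutment data (H^m), and suppose that for
some page r and every total degree m there is an integer q(m) such that E_r^{m-q,q} = 0 for every q
other than q(m). Let n be a total degree such that the filtration of H^n is discrete (some step is
zero) and exhaustive (H^n is the supremum of the steps), and such that the position (n - q(n), q(n))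
is stationary from page r on. Then H^n is isomorphic to E_r^{n-q(n), q(n)}. (The published statement
asserts this without any condition on the differentials at the surviving positions; that version
fails when a differential d_r links the surviving terms of two consecutive total degrees, for
instance a spectral sequence whose only nonzero page-2 terms are E_2^{0,1} and E_2^{2,0} with d_2 an
isomorphism between them and zero abutment. The stationarity assumed here is automatic when q(m)
does not depend on m and r ≥ 2.) -/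
theorem result {C : Type u} [Category.{v} C] [Abelian C] {r₀ : ℤ}
    (E : CohomologicalSpectralSequence C r₀) {H : ℤ → C} (a : SpSeq.Abutment E H)
    (r : ℤ) (hr : r₀ ≤ r) (q : ℤ → ℤ)
    (hdeg : ∀ m q' : ℤ, q' ≠ q m → IsZero ((E.page r hr).X (m - q', q')))
    (n : ℤ) (hdisc : (a.filObj n).IsDiscrete) (hexh : a.IsExhaustive n)
    (hst : SpSeq.StationaryAt E (n - q n, q n) r) :
    Nonempty (H n ≅ (E.page r hr).X (n - q n, q n)) := by
  have hanti : Antitone (a.fil n) := a.anti n
  have hstep : ∀ p : ℤ, p ≠ n - q n → a.fil n (p + 1) = a.fil n p := by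
    intro p hp
    have hq' : n - p ≠ q n := by
      intro h'
      apply hp
      rw [← h']
      ring
    have hz0 := hdeg n (n - p) hq'
    have hpos : ((n - (n - p), n - p) : ℤ × ℤ) = (p, n - p) := by rw [sub_sub_cancel]
    rw [hpos] at hz0
    have hz := (Groth.Agent.S8355.result E r hr (p, n - p) hz0).2 H a
    exact fil_succ_eq E a (p, n - p) n (by simp) hz
  obtain ⟨b, hb⟩ := hdisc
  have hb' : a.fil n b = ⊥ := hb
  have hup : ∀ k : ℕ, a.fil n (n - q n + 1 + k) = a.fil n (n - q n + 1) := by
    intro k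
    induction k with
    | zero => simp
    | succ k ih =>
      rw [← ih]
      push_cast
      rw [← add_assoc]
      exact hstep (n - q n + 1 + k) (by omega)
  have hbot : a.fil n (n - q n + 1) = ⊥ := by
    by_cases hbp : b ≤ n - q n + 1
    · exact le_bot_iff.mp (hb' ▸ hanti hbp)
    · push_neg at hbp
      obtain ⟨k, hk⟩ := Int.le.dest hbp.le
      rw [← hup k, hk]
      exact hb'
  have hdown : ∀ k : ℕ, a.fil n (n - q n - k) = a.fil n (n - q n) := by
    intro k
    induction k with
    | zero => simp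
    | succ k ih =>
      rw [← ih]
      push_cast
      have h1 := hstep (n - q n - (k + 1)) (by omega)
      rw [← h1]
      congr 1
      ring
  have htop : a.fil n (n - q n) = ⊤ := by
    apply top_le_iff.mp
    have hexh' : IsLUB (Set.range (a.fil n)) ⊤ := hexh
    apply hexh'.2
    rintro _ ⟨p, rfl⟩
    by_cases hp : n - q n ≤ p
    · exact hanti hp
    · push_neg at hp
      obtain ⟨k, hk⟩ := Int.le.dest hp.le
      have hpk : p = n - q n - k := by omega
      rw [hpk, hdown k]
  obtain ⟨e1⟩ := subquot_iso_of_bot_top (a.fil n (n - q n)) (a.fil n (n - q n + 1))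
    (hanti (Int.le_add_one le_rfl)) hbot htop
  obtain ⟨e2⟩ := beta_iso E a (n - q n, q n) n (sub_add_cancel n (q n))
  have hrk := a.stat (n - q n, q n)
  have hM0 : r₀ ≤ max r (a.rk (n - q n, q n)) := hr.trans (le_max_left _ _)
  obtain ⟨e3⟩ := iso_of_stationary E _ r hst (max r (a.rk (n - q n, q n))) (le_max_left _ _) hM0
  obtain ⟨e4⟩ := iso_of_stationary E _ _ hrk (max r (a.rk (n - q n, q n))) (le_max_right _ _) hM0
  exact ⟨e1.symm ≪≫ e2.symm ≪≫ e4.symm ≪≫ e3⟩

end Groth.Agent.S8347
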