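import Groth.Statements.S8348
import Mathlib

set_option autoImplicit false
universe v u
open CategoryTheory CategoryTheory.Limits
open HomAlg3

namespace Groth.Agent.S8348

/-- Let C be an abelian category and Q a cochain complex of objects of C in degrees 0, 1, 2, ... such
that every Q^i is injective, every homology object H^i(Q) with i ≥ 1 is zero, and every inclusion of
the cycles Z^i(Q) into Q^i (i ≥ 0) is a split monomorphism. Then Q is an injective object of the
category of cochain complexes of C indexed by the natural numbers. (The published statement is for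
the narrower class of complexes with Z^i(Q) = B^i(Q) for every i ≥ 0, which in degree 0, where there
is no incoming differential, forces Z^0(Q) = 0; this row allows a nonzero Z^0(Q), so that it pairs
with the embedding of an arbitrary complex into such a Q. Such a Q is the direct sum of Z^0(Q)
placed in degree 0 and of the two-term complexes with Z^{i+1}(Q) in degrees i and i+1 and the
identity as differential, and the published argument carries over with Z^i(Q) in place of B^i(Q) as
the first summand of Q^i.) -/
theorem result {C : Type u} [Category.{v} C] [Abelian C]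
    (Q : CochainComplex C ℕ) (hinj : ∀ i : ℕ, Injective (Q.X i)) (hac : ∀ i : ℕ, IsZero (Q.homology (i + 1)))
    (hsplit : ∀ i : ℕ, IsSplitMono (Q.iCycles i)) : Injective Q := by

  classical
  -- retractions of the cycle inclusions
  let r : ∀ i, Q.X i ⟶ Q.cycles i := fun i => @retraction _ _ _ _ (Q.iCycles i) (hsplit i)
  have hr : ∀ i, Q.iCycles i ≫ r i = 𝟙 _ := fun i => @IsSplitMono.id _ _ _ _ (Q.iCycles i) (hsplit i)
  have hZinj : ∀ i, Injective (Q.cycles i) := fun i =>
    haveI := hinj i
    (Retract.mk (Q.iCycles i) (r i) (hr i)).injective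
  -- the short complexes Z^i → Q^i → Z^{i+1}
  have hzero : ∀ i, Q.iCycles i ≫ Q.toCycles i (i + 1) = 0 := fun i => by
    rw [← cancel_mono (Q.iCycles (i + 1)), Category.assoc, Q.toCycles_i, Q.iCycles_d, zero_comp]
  let S : ℕ → ShortComplex C := fun i => ShortComplex.mk (Q.iCycles i) (Q.toCycles i (i + 1)) (hzero i)
  have hSex : ∀ i, (S i).Exact := fun i => by
    apply ShortComplex.exact_of_f_is_kernel
    exact isKernelOfComp (f := Q.toCycles i (i + 1)) (Q.iCycles (i + 1)) (Q.d i (i + 1))
      (Q.cyclesIsKernel i (i + 1) (by simp)) (hzero i) (Q.toCycles_i i (i + 1))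
  have hepi : ∀ i, Epi (Q.toCycles i (i + 1)) := fun i =>
    Preadditive.epi_of_isZero_cokernel' _ (Q.homologyIsCokernel i (i + 1) (by simp)) (hac i)
  let σ : ∀ i, (S i).Splitting := fun i =>
    ShortComplex.Splitting.ofExactOfRetraction (S i) (hSex i) (r i) (hr i) (hepi i)
  let s : ∀ i, Q.cycles (i + 1) ⟶ Q.X i := fun i => (σ i).s
  have hs_g : ∀ i, s i ≫ Q.toCycles i (i + 1) = 𝟙 _ := fun i => (σ i).s_g
  have hid : ∀ i, r i ≫ Q.iCycles i + Q.toCycles i (i + 1) ≫ s i = 𝟙 _ := fun i => (σ i).id
  have hs_d : ∀ i, s i ≫ Q.d i (i + 1) = Q.iCycles (i + 1) := fun i => by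
    rw [← Q.toCycles_i i (i + 1), reassoc_of% (hs_g i)]
  have hd_r : ∀ i, Q.d i (i + 1) ≫ r (i + 1) = Q.toCycles i (i + 1) := fun i => by
    rw [← Q.toCycles_i i (i + 1), Category.assoc, hr, Category.comp_id]
  refine ⟨fun {X Y} g f hf => ?_⟩
  have hfm : ∀ i, Mono (f.f i) := fun i => inferInstance
  let χ : ∀ i, Y.X i ⟶ Q.cycles i := fun i =>
    haveI := hZinj i
    haveI := hfm i
    Injective.factorThru (g.f i ≫ r i) (f.f i)
  have hχ : ∀ i, f.f i ≫ χ i = g.f i ≫ r i := fun i => by
    haveI := hZinj i
    haveI := hfm i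
    exact Injective.comp_factorThru (g.f i ≫ r i) (f.f i)
  refine ⟨HomologicalComplex.Hom.mk
    (fun i => χ i ≫ Q.iCycles i + Y.d i (i + 1) ≫ χ (i + 1) ≫ s i) ?_, ?_⟩
  · intro i j (hij : i + 1 = j)
    subst hij
    simp only [Preadditive.add_comp, Preadditive.comp_add, Category.assoc, Q.iCycles_d, comp_zero,
      zero_add, hs_d, Y.d_comp_d_assoc, zero_comp, add_zero]
  · refine HomologicalComplex.hom_ext _ _ (fun i => ?_)
    simp only [HomologicalComplex.comp_f, Preadditive.comp_add]
    rw [reassoc_of% (hχ i), ← Category.assoc (f.f i), f.comm i (i + 1), Category.assoc,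
      reassoc_of% (hχ (i + 1)), ← Category.assoc (X.d i (i + 1)), ← g.comm i (i + 1), Category.assoc,
      reassoc_of% (hd_r i), ← Preadditive.comp_add, hid, Category.comp_id]

end Groth.Agent.S8348
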