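import Groth.Statements.S8352
import Mathlib

set_option autoImplicit false
universe u
open CategoryTheory CategoryTheory.Limits Opposite
open HomAlg3

namespace Groth.Agent.S8352

section ML

variable (F' : ℕᵒᵖ ⥤ Type u) (hF : F'.IsMittagLeffler) (p : ℕ) (x : F'.obj (op p))
  (hx : x ∈ F'.eventualRange (op p))

/-- A compatible sequence in the eventual ranges through `x` at index `p`. -/
noncomputable def zseq : (k : ℕ) → {y : F'.obj (op k) // y ∈ F'.eventualRange (op k)}
  | 0 => ⟨F'.map (homOfLE (Nat.zero_le p)).op x, F'.eventualRange_mapsTo _ hx⟩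
  | k + 1 =>
    if h : k + 1 ≤ p then ⟨F'.map (homOfLE h).op x, F'.eventualRange_mapsTo _ hx⟩
    else ⟨(hF.subset_image_eventualRange F' (homOfLE (Nat.le_succ k)).op (zseq k).2).choose,
      (hF.subset_image_eventualRange F' (homOfLE (Nat.le_succ k)).op (zseq k).2).choose_spec.1⟩

theorem zseq_le (k : ℕ) (h : k ≤ p) : (zseq F' hF p x hx k).1 = F'.map (homOfLE h).op x := by
  cases k with
  | zero => rfl
  | succ k => rw [zseq, dif_pos h]

theorem zseq_succ (k : ℕ) :
    F'.map (homOfLE (Nat.le_succ k)).op (zseq F' hF p x hx (k + 1)).1 = (zseq F' hF p x hx k).1 := by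
  by_cases h : k + 1 ≤ p
  · rw [zseq_le F' hF p x hx (k + 1) h, zseq_le F' hF p x hx k (Nat.le_of_succ_le h),
      ← FunctorToTypes.map_comp_apply]
    congr 1
  · rw [zseq, dif_neg h]
    exact (hF.subset_image_eventualRange F' (homOfLE (Nat.le_succ k)).op
      (zseq F' hF p x hx k).2).choose_spec.2

theorem zseq_compat (k l : ℕ) (h : l ≤ k) :
    F'.map (homOfLE h).op (zseq F' hF p x hx k).1 = (zseq F' hF p x hx l).1 := by
  induction k, h using Nat.le_induction with
  | base =>
    have : (homOfLE (le_refl l)).op = 𝟙 (op l) := Quiver.Hom.unop_inj (Subsingleton.elim _ _)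
    rw [this, FunctorToTypes.map_id_apply]
  | succ k hk ih =>
    have : (homOfLE (Nat.le_succ_of_le hk)).op =
        (homOfLE (Nat.le_succ k)).op ≫ (homOfLE hk).op := Quiver.Hom.unop_inj (Subsingleton.elim _ _)
    rw [this, FunctorToTypes.map_comp_apply, zseq_succ, ih]

theorem zseq_self : (zseq F' hF p x hx p).1 = x := by
  rw [zseq_le F' hF p x hx p le_rfl]
  have : (homOfLE (le_refl p)).op = 𝟙 (op p) := Quiver.Hom.unop_inj (Subsingleton.elim _ _)
  rw [this, FunctorToTypes.map_id_apply]

end ML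

theorem key (F : ℕᵒᵖ ⥤ AddCommGrpCat.{u}) (hF : (F ⋙ forget AddCommGrpCat).IsMittagLeffler)
    (p : ℕ) (x : F.obj (op p))
    (hx : ∀ (k : ℕ) (hk : p ≤ k), x ∈ (F.map (homOfLE hk).op).hom.range) :
    x ∈ (limit.π F (op p)).hom.range := by
  have hxE : (x : (F ⋙ forget AddCommGrpCat).obj (op p)) ∈
      (F ⋙ forget AddCommGrpCat).eventualRange (op p) := by
    rw [Functor.mem_eventualRange_iff]
    intro i f
    induction i using Opposite.rec with
    | op k =>
      have hk : p ≤ k := leOfHom f.unop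
      obtain ⟨y, hy⟩ := hx k hk
      refine ⟨y, ?_⟩
      have hf : f = (homOfLE hk).op := Quiver.Hom.unop_inj (Subsingleton.elim _ _)
      rw [hf]
      exact hy
  let s : (F ⋙ forget AddCommGrpCat).sections :=
    ⟨fun j => (zseq (F ⋙ forget AddCommGrpCat) hF p x hxE j.unop).1, by
      intro j j' f
      induction j using Opposite.rec with
      | op k =>
        induction j' using Opposite.rec with
        | op l =>
          have hlk : l ≤ k := leOfHom f.unop
          have hf : f = (homOfLE hlk).op := Quiver.Hom.unop_inj (Subsingleton.elim _ _)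
          rw [hf]
          exact zseq_compat (F ⋙ forget AddCommGrpCat) hF p x hxE k l hlk⟩
  let t := isLimitOfPreserves (forget AddCommGrpCat) (limit.isLimit F)
  refine ⟨(Types.isLimitEquivSections t).symm s, ?_⟩
  have h1 := Types.isLimitEquivSections_symm_apply t s (op p)
  exact h1.trans (zseq_self (F ⋙ forget AddCommGrpCat) hF p x hxE)


/-- Category of abelian groups, system indexed by the natural numbers: Let (A_k) be an inverse system of
abelian groups satisfying the Mittag-Leffler condition, A = lim A_k with projections π_p : A ⟶ A_p.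
Filter A and each A_k by the kernels of the maps to A_{p-1} (with A_{-1} = 0); the graded piece
gr^p(A) is identified with Im(π_p) ∩ Ker(A_p ⟶ A_{p-1}) and gr^p(A_k), k ≥ p, with Im(A_k ⟶ A_p) ∩
Ker(A_p ⟶ A_{p-1}), a decreasing family of subgroups of A_p. The statement gr^p(A) ≅ lim_k gr^p(A_k)
then reads: Im(π_0) = ⋂_k Im(A_k ⟶ A_0), and for every p, Im(π_{p+1}) ∩ Ker(A_{p+1} ⟶ A_p) = ⋂_{k ≥
p+1} (Im(A_k ⟶ A_{p+1}) ∩ Ker(A_{p+1} ⟶ A_p)). -/
theorem result (F : ℕᵒᵖ ⥤ AddCommGrpCat.{u})
    (hF : (F ⋙ forget AddCommGrpCat).IsMittagLeffler) :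
    (limit.π F (op 0)).hom.range = ⨅ k : ℕ, (F.map (homOfLE (Nat.zero_le k)).op).hom.range ∧
      ∀ p : ℕ, (limit.π F (op (p + 1))).hom.range ⊓ (F.map (homOfLE (Nat.le_succ p)).op).hom.ker =
        ⨅ (k : ℕ) (hk : p + 1 ≤ k),
          (F.map (homOfLE hk).op).hom.range ⊓ (F.map (homOfLE (Nat.le_succ p)).op).hom.ker := by
  have hw : ∀ (k l : ℕ) (h : l ≤ k) (a : (limit F : AddCommGrpCat)),
      (F.map (homOfLE h).op).hom ((limit.π F (op k)).hom a) = (limit.π F (op l)).hom a := by
    intro k l h a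
    have := limit.w F (homOfLE h).op
    rw [← this]
    rfl
  constructor
  · apply le_antisymm
    · rintro x ⟨a, rfl⟩
      rw [AddSubgroup.mem_iInf]
      intro k
      exact ⟨(limit.π F (op k)).hom a, hw k 0 (Nat.zero_le k) a⟩
    · intro x hx
      rw [AddSubgroup.mem_iInf] at hx
      exact key F hF 0 x (fun k hk => hx k)
  · intro p
    apply le_antisymm
    · rintro x ⟨⟨a, rfl⟩, hker⟩
      simp only [AddSubgroup.mem_iInf]
      intro k hk
      exact ⟨⟨(limit.π F (op k)).hom a, hw k (p + 1) hk a⟩, hker⟩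
    · intro x hx
      simp only [AddSubgroup.mem_iInf] at hx
      refine ⟨key F hF (p + 1) x (fun k hk => (hx k hk).1), (hx (p + 1) le_rfl).2⟩

end Groth.Agent.S8352
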