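import Groth.Statements.S8353
import Mathlib

set_option autoImplicit false
universe u
open HomAlg3

namespace Groth.Agent.S8353

/-- Let S be a Noetherian ring which is separated and complete for the adic topology of an ideal J, and
let M be an S-module with a decreasing filtration (F^p M)_{p ∈ ℤ} by submodules such that F^p M = M
for some p, J·F^p M ⊆ F^{p+1} M for all p, and ⋂_p F^p M = 0. Then the following are equivalent: (a)
M is a finitely generated S-module and J·F^p M = F^{p+1} M for all large p; (c) every F^p M /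
F^{p+1} M is a finitely generated S-module and, for all large p, the map J ⊗ (F^p M/F^{p+1} M) ⟶
F^{p+1} M/F^{p+2} M is surjective, that is F^{p+1} M = J·F^p M + F^{p+2} M. (The published statement
also lists a third equivalent condition, finite generation of the associated graded module over the
associated graded ring; this row states the equivalence of the other two.) -/
theorem result {S : Type u} [CommRing S] [IsNoetherianRing S]
    (J : Ideal S) [IsAdicComplete J S] {M : Type u} [AddCommGroup M] [Module S M]
    (F : ℤ → Submodule S M) (hF : Antitone F) (hcod : ∃ p₀ : ℤ, F p₀ = ⊤)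
    (hJ : ∀ p : ℤ, J • F p ≤ F (p + 1)) (hsep : ⨅ p : ℤ, F p = ⊥) :
    (Module.Finite S M ∧ ∃ p₁ : ℤ, ∀ p : ℤ, p₁ ≤ p → J • F p = F (p + 1)) ↔
      ((∀ p : ℤ, (Submodule.map (F (p + 1)).mkQ (F p)).FG) ∧
        ∃ p₁ : ℤ, ∀ p : ℤ, p₁ ≤ p → F (p + 1) = J • F p ⊔ F (p + 2)) := by
  classical
  constructor
  · rintro ⟨hfin, p₁, h1⟩
    have hN : IsNoetherian S M := isNoetherian_of_isNoetherianRing_of_finite S M
    refine ⟨fun p => ((isNoetherian_def.1 hN) (F p)).map _, p₁, fun p hp => ?_⟩
    rw [h1 p hp]
    exact (sup_eq_left.2 (hF (by omega))).symm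
  · rintro ⟨hgr, p₁, h1⟩
    obtain ⟨p₀, hp₀⟩ := hcod
    -- Lemma A: lifting generators of a graded piece
    have lemA : ∀ p : ℤ, ∃ N' : Submodule S M, N'.FG ∧ N' ≤ F p ∧ F p ≤ N' ⊔ F (p + 1) := by
      intro p
      obtain ⟨T, hT⟩ := hgr p
      have hex : ∀ t ∈ T, ∃ m ∈ F p, (F (p + 1)).mkQ m = t := by
        intro t ht
        have : t ∈ Submodule.map (F (p + 1)).mkQ (F p) := hT ▸ Submodule.subset_span ht
        exact Submodule.mem_map.1 this
      choose! g hg1 hg2 using hex
      refine ⟨Submodule.span S (g '' ↑T), Submodule.fg_span (T.finite_toSet.image g), ?_, ?_⟩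
      · rw [Submodule.span_le]
        rintro _ ⟨t, ht, rfl⟩
        exact hg1 t ht
      · have himg : (F (p + 1)).mkQ '' (g '' ↑T) = ↑T := by
          ext t
          constructor
          · rintro ⟨_, ⟨t', ht', rfl⟩, rfl⟩
            rw [hg2 t' ht']
            exact ht'
          · intro ht
            exact ⟨g t, ⟨t, ht, rfl⟩, hg2 t ht⟩
        have hmap : Submodule.map (F (p + 1)).mkQ (Submodule.span S (g '' ↑T)) =
            Submodule.map (F (p + 1)).mkQ (F p) := by
          rw [Submodule.map_span, himg, hT]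
        calc F p ≤ Submodule.comap (F (p + 1)).mkQ (Submodule.map (F (p + 1)).mkQ (F p)) :=
              Submodule.le_comap_map _ _
          _ = Submodule.comap (F (p + 1)).mkQ
                (Submodule.map (F (p + 1)).mkQ (Submodule.span S (g '' ↑T))) := by rw [hmap]
          _ = Submodule.span S (g '' ↑T) ⊔ F (p + 1) := by
              rw [Submodule.comap_map_eq, Submodule.ker_mkQ]
    obtain ⟨P, hP0, hP1⟩ : ∃ P : ℤ, p₀ ≤ P ∧ p₁ ≤ P := ⟨max p₀ p₁, le_max_left _ _, le_max_right _ _⟩
    obtain ⟨N', hN'fg, hN'le, hN'sup⟩ := lemA P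
    obtain ⟨s, x, hx⟩ := Submodule.fg_iff_exists_fin_generating_family.1 hN'fg
    obtain ⟨G, hGdef⟩ : ∃ G : ℕ → Submodule S M, ∀ n : ℕ, G n = F (P + n) := ⟨_, fun _ => rfl⟩
    have e1 : ∀ n : ℕ, P + ((n + 1 : ℕ) : ℤ) = P + n + 1 := fun n => by push_cast; ring
    have e2 : ∀ n : ℕ, P + ((n + 2 : ℕ) : ℤ) = P + n + 2 := fun n => by push_cast; ring
    have hG0 : G 0 = F P := by rw [hGdef]; simp
    have hG1 : ∀ n, J • G n ≤ G (n + 1) := by
      intro n
      rw [hGdef, hGdef, e1]
      exact hJ _
    have hG2 : ∀ n, G (n + 1) = J • G n ⊔ G (n + 2) := by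
      intro n
      rw [hGdef, hGdef, hGdef, e1, e2]
      exact h1 (P + n) (by omega)
    have hGanti : Antitone G := by
      intro a b hab
      rw [hGdef, hGdef]
      exact hF (by omega)
    have hGinf : ∀ m : M, (∀ n, m ∈ G n) → m = 0 := by
      intro m hm
      have hmem : m ∈ ⨅ p : ℤ, F p := by
        rw [Submodule.mem_iInf]
        intro p
        have h2 := hm (p - P).toNat
        rw [hGdef] at h2
        exact hF (by omega) h2
      rw [hsep] at hmem
      exact (Submodule.mem_bot S).1 hmem
    have lemB : ∀ k : ℕ, J ^ k • N' ≤ G k := by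
      intro k
      induction k with
      | zero =>
        rw [pow_zero, Ideal.one_eq_top, Submodule.top_smul, hG0]
        exact hN'le
      | succ k ih =>
        rw [pow_succ', Submodule.mul_smul]
        exact (Submodule.smul_mono le_rfl ih).trans (hG1 k)
    have lemC : ∀ k : ℕ, G k ≤ J ^ k • N' ⊔ G (k + 1) := by
      intro k
      induction k with
      | zero =>
        have h01 : G (0 + 1) = F (P + 1) := by rw [hGdef]; norm_num
        rw [pow_zero, Ideal.one_eq_top, Submodule.top_smul, hG0, h01]
        exact hN'sup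
      | succ k ih =>
        rw [hG2 k]
        refine sup_le ?_ le_sup_right
        calc J • G k ≤ J • (J ^ k • N' ⊔ G (k + 1)) := Submodule.smul_mono le_rfl ih
          _ = J ^ (k + 1) • N' ⊔ J • G (k + 1) := by
              rw [Submodule.smul_sup, ← Submodule.mul_smul, ← pow_succ']
          _ ≤ J ^ (k + 1) • N' ⊔ G (k + 1 + 1) := sup_le_sup_left (hG1 (k + 1)) _
    obtain ⟨Φ, hΦ⟩ : ∃ Φ : (Fin s → S) →ₗ[S] M, ∀ c, Φ c = ∑ j, c j • x j :=
      ⟨Fintype.linearCombination S x, fun c => Fintype.linearCombination_apply S x c⟩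
    have hΦmem : ∀ (n : ℕ) (c : Fin s → S), (∀ j, c j ∈ J ^ n) → Φ c ∈ J ^ n • N' := by
      intro n c hc
      rw [hΦ]
      exact Submodule.sum_mem _ (fun j _ =>
        Submodule.smul_mem_smul (hc j) (hx ▸ Submodule.subset_span ⟨j, rfl⟩))
    have hΦex : ∀ (n : ℕ) (w : M), w ∈ J ^ n • N' →
        ∃ c : Fin s → S, (∀ j, c j ∈ J ^ n) ∧ Φ c = w := by
      intro n w hw
      rw [← hx, Submodule.mem_ideal_smul_span_iff_exists_sum] at hw
      obtain ⟨a, ha, hsum⟩ := hw
      refine ⟨a, ha, ?_⟩
      rw [hΦ, ← hsum, Finsupp.sum_fintype]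
      intro i
      exact zero_smul _ _
    have hJtop : ∀ (n : ℕ), (J ^ n • (⊤ : Submodule S S)) = J ^ n := by
      intro n
      rw [smul_eq_mul, Ideal.mul_top]
    -- Lemma D: the completeness argument
    have lemD : ∀ k : ℕ, G k ≤ J ^ k • N' := by
      intro k y hy
      have step : ∀ (n : ℕ) (τ : Fin s → S), y - Φ τ ∈ G (k + n) →
          ∃ τ' : Fin s → S, (∀ j, τ' j - τ j ∈ J ^ (k + n)) ∧ y - Φ τ' ∈ G (k + n + 1) := by
        intro n τ hτ
        obtain ⟨w, hw, r, hr, hwr⟩ := Submodule.mem_sup.1 (lemC (k + n) hτ)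
        obtain ⟨c, hc, hcw⟩ := hΦex (k + n) w hw
        refine ⟨τ + c, fun j => by simpa using hc j, ?_⟩
        have h3 : y - Φ (τ + c) = r := by
          rw [map_add, hcw]
          have h4 : y - Φ τ = w + r := hwr.symm
          rw [sub_eq_iff_eq_add] at h4 ⊢
          rw [h4]
          abel
        rw [h3]
        exact hr
      choose! nxt hnxt using step
      obtain ⟨σ, hσ0, hσs⟩ : ∃ σ : ℕ → (Fin s → S), σ 0 = 0 ∧ ∀ n, σ (n + 1) = nxt n (σ n) :=
        ⟨fun n => Nat.rec (0 : Fin s → S) (fun n τ => nxt n τ) n, rfl, fun n => rfl⟩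
      have hinv : ∀ n, y - Φ (σ n) ∈ G (k + n) := by
        intro n
        induction n with
        | zero =>
          rw [hσ0, map_zero, sub_zero]
          exact hy
        | succ n ih =>
          rw [hσs]
          exact (hnxt n (σ n) ih).2
      have hincr : ∀ n j, σ (n + 1) j - σ n j ∈ J ^ (k + n) := by
        intro n j
        rw [hσs]
        exact (hnxt n (σ n) (hinv n)).1 j
      have hσk : ∀ n j, σ n j ∈ J ^ k := by
        intro n j
        induction n with
        | zero =>
          rw [hσ0]
          exact (J ^ k).zero_mem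
        | succ n ih =>
          have h2 : σ (n + 1) j = (σ (n + 1) j - σ n j) + σ n j := by ring
          rw [h2]
          exact (J ^ k).add_mem (Ideal.pow_le_pow_right (Nat.le_add_right k n) (hincr n j)) ih
      have hcau : ∀ j, ∀ m n, m ≤ n → σ m j - σ n j ∈ J ^ m := by
        intro j m n hmn
        induction n, hmn using Nat.le_induction with
        | base =>
          rw [sub_self]
          exact (J ^ m).zero_mem
        | succ n hmn ih =>
          have h2 : σ m j - σ (n + 1) j = (σ m j - σ n j) - (σ (n + 1) j - σ n j) := by ring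
          rw [h2]
          exact (J ^ m).sub_mem ih (Ideal.pow_le_pow_right (by omega) (hincr n j))
      have hprec : IsPrecomplete J S := inferInstance
      have hlim : ∀ j, ∃ L : S, ∀ n, σ n j - L ∈ J ^ n := by
        intro j
        obtain ⟨L, hL⟩ := hprec.prec (f := fun n => σ n j) (by
          intro m n hmn
          rw [SModEq.sub_mem, hJtop]
          exact hcau j m n hmn)
        refine ⟨L, fun n => ?_⟩
        have := hL n
        rw [SModEq.sub_mem, hJtop] at this
        exact this
      choose L hL using hlim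
      have hLk : ∀ j, L j ∈ J ^ k := by
        intro j
        have h2 : L j = σ k j - (σ k j - L j) := by ring
        rw [h2]
        exact (J ^ k).sub_mem (hσk k j) (hL j k)
      have hyL : y - Φ L = 0 := by
        apply hGinf
        intro n
        have h5 : y - Φ L = (y - Φ (σ n)) + Φ (σ n - L) := by
          rw [map_sub]
          abel
        rw [h5]
        refine (G n).add_mem (hGanti (Nat.le_add_left n k) ?_) ?_
        · exact hinv n
        · exact lemB n (hΦmem n (σ n - L) (fun j => hL j n))
      rw [sub_eq_zero] at hyL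
      rw [hyL]
      exact hΦmem k L hLk
    -- consequences
    have hFP : F P = N' := le_antisymm (by
      have := lemD 0
      rw [pow_zero, Ideal.one_eq_top, Submodule.top_smul, hG0] at this
      exact this) hN'le
    have hfgdown : ∀ n : ℕ, (F (P - n)).FG := by
      intro n
      induction n with
      | zero =>
        simp only [Nat.cast_zero, sub_zero]
        rw [hFP]
        exact hN'fg
      | succ n ih =>
        obtain ⟨N'', hfg'', hle'', hsup''⟩ := lemA (P - ((n + 1 : ℕ) : ℤ))
        have e3 : P - ((n + 1 : ℕ) : ℤ) + 1 = P - n := by push_cast; ring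
        rw [e3] at hsup''
        have heq : F (P - ((n + 1 : ℕ) : ℤ)) = N'' ⊔ F (P - n) :=
          le_antisymm hsup'' (sup_le hle'' (hF (by push_cast; omega)))
        rw [heq]
        exact hfg''.sup ih
    refine ⟨?_, P, ?_⟩
    · have h6 : F p₀ = F (P - ((P - p₀).toNat : ℤ)) := by
        congr 1
        omega
      have h7 := hfgdown (P - p₀).toNat
      rw [← h6, hp₀] at h7
      exact Module.finite_def.2 h7
    · intro p hp
      apply le_antisymm (hJ p)
      obtain ⟨k, hk⟩ : ∃ k : ℕ, p = P + k := ⟨(p - P).toNat, by omega⟩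
      subst hk
      have h8 : F (P + k + 1) = G (k + 1) := by rw [hGdef, e1]
      have h9 : F (P + k) = G k := (hGdef k).symm
      rw [h8, h9]
      calc G (k + 1) ≤ J ^ (k + 1) • N' := lemD (k + 1)
        _ = J • (J ^ k • N') := by rw [pow_succ', Submodule.mul_smul]
        _ ≤ J • G k := Submodule.smul_mono le_rfl (lemB k)

end Groth.Agent.S8353
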