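import Groth.Statements.S8357
import Groth.Agent.Lib.LieS_helper1

set_option autoImplicit false
universe u
open CategoryTheory MonObj AlgebraicGeometry
open LieS

namespace Groth.Agent.S8357

/-- For a group scheme G over a scheme S and an affine S-scheme T = Spec B, the map induced on
Lie(G/S)(T) by the n-th power map of G is multiplication by n; that is, for v in Lie(G/S)(T) and an
integer n, the n-th power of v in the group law inherited from G is the rescaling of v by the image
of n in B. -/
theorem result (S : Scheme.{u}) (G : Over S) [GrpObj G] (B : Type u) [CommRing B]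
    (f : Spec (CommRingCat.of B) ⟶ S) (v : LieS.Lie G B f) (n : ℤ) :
    v ^ n = ((n : B) • v : LieS.Lie G B f) := by
  have hv : LieS.zeroSec B f ≫ v.1 = 1 := (LieS.mem_Lie_iff G B f v.1).1 v.2
  have hadd : ∀ a b : B, ((a + b) • v : LieS.Lie G B f) = (a • v) * (b • v) := by
    intro a b
    apply Subtype.ext
    rw [Subgroup.coe_mul, LieS.smul_val, LieS.smul_val, LieS.smul_val]
    exact (Groth.Agent.Lib.LieSH1.scale_mul_scale B f v.1 hv a b).symm
  have hone : ((1 : B) • v : LieS.Lie G B f) = v := by
    apply Subtype.ext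
    rw [LieS.smul_val, Groth.Agent.Lib.LieSH1.scale_one, Category.id_comp]
  have hzero : ((0 : B) • v : LieS.Lie G B f) = 1 := by
    apply Subtype.ext
    rw [LieS.smul_val, Groth.Agent.Lib.LieSH1.scale_zero_comp B f v.1 hv]
    rfl
  have hnat : ∀ k : ℕ, v ^ k = (((k : ℕ) : B) • v : LieS.Lie G B f) := by
    intro k
    induction k with
    | zero => rw [pow_zero, Nat.cast_zero, hzero]
    | succ k ih => rw [pow_succ, ih, Nat.cast_succ, hadd, hone]
  cases n with
  | ofNat k =>
    rw [Int.ofNat_eq_natCast, zpow_natCast, Int.cast_natCast]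
    exact hnat k
  | negSucc k =>
    have h2 : (((Int.negSucc k : ℤ) : B) • v : LieS.Lie G B f) * ((((k + 1 : ℕ) : ℕ) : B) • v) = 1 := by
      rw [← hadd, Int.cast_negSucc, neg_add_cancel, hzero]
    rw [zpow_negSucc, hnat (k + 1)]
    exact (eq_inv_of_mul_eq_one_left h2).symm

end Groth.Agent.S8357
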