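import Groth.Statements.S8364
import Mathlib

set_option autoImplicit false
universe u
open SGA3

namespace Groth.Agent.S8364

theorem bijective_of_mk_comp_eq {R A : Type u} [CommRing R] [CommRing A] [Algebra R A]
    (J : Ideal R) (hJ : J * J = ⊥) (θ : A →ₐ[R] A)
    (hθ : ∀ a : A, Ideal.Quotient.mk (Ideal.map (algebraMap R A) J) (θ a) =
      Ideal.Quotient.mk (Ideal.map (algebraMap R A) J) a) :
    Function.Bijective θ := by
  have hII : Ideal.map (algebraMap R A) J * Ideal.map (algebraMap R A) J = ⊥ := by
    rw [← Ideal.map_mul, hJ, Ideal.map_bot]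
  have hd : ∀ a : A, θ a - a ∈ Ideal.map (algebraMap R A) J := by
    intro a
    rw [← Ideal.Quotient.eq]
    exact hθ a
  have hzero : ∀ x ∈ Ideal.map (algebraMap R A) J, ∀ y ∈ Ideal.map (algebraMap R A) J,
      x * y = 0 := by
    intro x hx y hy
    have : x * y ∈ Ideal.map (algebraMap R A) J * Ideal.map (algebraMap R A) J :=
      Ideal.mul_mem_mul hx hy
    rw [hII] at this
    exact this
  have hfix : ∀ x ∈ Ideal.map (algebraMap R A) J, θ x = x := by
    intro x hx
    refine Submodule.span_induction (p := fun x _ => θ x = x) ?_ ?_ ?_ ?_ hx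
    · rintro _ ⟨j, _, rfl⟩
      exact θ.commutes j
    · exact map_zero θ
    · intro x y _ _ hx hy
      rw [map_add, hx, hy]
    · intro a x hx' hx
      have hxI : x ∈ Ideal.map (algebraMap R A) J := hx'
      rw [smul_eq_mul, map_mul, hx]
      have h1 : (θ a - a) * x = 0 := hzero _ (hd a) _ hxI
      linear_combination h1
  constructor
  · rw [injective_iff_map_eq_zero]
    intro a ha
    have haI : a ∈ Ideal.map (algebraMap R A) J := by
      have := hd a
      rw [ha, zero_sub] at this
      simpa using (Ideal.neg_mem_iff _).1 this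
    rw [← hfix a haI]
    exact ha
  · intro b
    refine ⟨b - (θ b - b), ?_⟩
    rw [map_sub, hfix _ (hd b)]
    ring


/-- For a commutative ring R, an ideal J of R of square zero, a smooth R-algebra A and the extended
ideal I = J·A, every R-algebra automorphism of A/I lifts to an R-algebra automorphism of A. (The
published statement concerns the automorphism functor of a smooth affine S-scheme E and affine test
schemes Y; this row is the case Y = S = Spec R, E = Spec A, which gives the general one after
replacing R by the ring of Y.) -/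
theorem result (R A : Type u) [CommRing R] [CommRing A] [Algebra R A]
    [Algebra.Smooth R A] (J : Ideal R) (hJ : J * J = ⊥)
    (φ₀ : (A ⧸ Ideal.map (algebraMap R A) J) ≃ₐ[R] (A ⧸ Ideal.map (algebraMap R A) J)) :
    ∃ φ : A ≃ₐ[R] A,
      (Ideal.Quotient.mkₐ R (Ideal.map (algebraMap R A) J)).comp φ.toAlgHom =
        φ₀.toAlgHom.comp (Ideal.Quotient.mkₐ R (Ideal.map (algebraMap R A) J)) := by
  classical
  have hII : Ideal.map (algebraMap R A) J * Ideal.map (algebraMap R A) J = ⊥ := by
    rw [← Ideal.map_mul, hJ, Ideal.map_bot]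
  have hnil : IsNilpotent (Ideal.map (algebraMap R A) J) := ⟨2, by rw [pow_two, hII]; rfl⟩
  have hfs : Algebra.FormallySmooth R A := inferInstance
  let φ : A →ₐ[R] A := Algebra.FormallySmooth.lift (Ideal.map (algebraMap R A) J) hnil
    (φ₀.toAlgHom.comp (Ideal.Quotient.mkₐ R (Ideal.map (algebraMap R A) J)))
  let ψ : A →ₐ[R] A := Algebra.FormallySmooth.lift (Ideal.map (algebraMap R A) J) hnil
    (φ₀.symm.toAlgHom.comp (Ideal.Quotient.mkₐ R (Ideal.map (algebraMap R A) J)))
  have hφ : ∀ a : A, Ideal.Quotient.mk (Ideal.map (algebraMap R A) J) (φ a) =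
      φ₀ (Ideal.Quotient.mk (Ideal.map (algebraMap R A) J) a) := fun a =>
    Algebra.FormallySmooth.mk_lift (Ideal.map (algebraMap R A) J) hnil
      (φ₀.toAlgHom.comp (Ideal.Quotient.mkₐ R (Ideal.map (algebraMap R A) J))) a
  have hψ : ∀ a : A, Ideal.Quotient.mk (Ideal.map (algebraMap R A) J) (ψ a) =
      φ₀.symm (Ideal.Quotient.mk (Ideal.map (algebraMap R A) J) a) := fun a =>
    Algebra.FormallySmooth.mk_lift (Ideal.map (algebraMap R A) J) hnil
      (φ₀.symm.toAlgHom.comp (Ideal.Quotient.mkₐ R (Ideal.map (algebraMap R A) J))) a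
  have h1 : Function.Bijective (φ.comp ψ) := by
    apply bijective_of_mk_comp_eq J hJ
    intro a
    rw [AlgHom.comp_apply, hφ, hψ, AlgEquiv.apply_symm_apply]
  have h2 : Function.Bijective (ψ.comp φ) := by
    apply bijective_of_mk_comp_eq J hJ
    intro a
    rw [AlgHom.comp_apply, hψ, hφ, AlgEquiv.symm_apply_apply]
  have hbij : Function.Bijective φ := by
    constructor
    · have : Function.Injective (ψ ∘ φ) := h2.1
      exact this.of_comp
    · have : Function.Surjective (φ ∘ ψ) := h1.2
      exact this.of_comp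
  refine ⟨AlgEquiv.ofBijective φ hbij, ?_⟩
  apply AlgHom.ext
  intro a
  exact hφ a

end Groth.Agent.S8364
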