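import Groth.Statements.S8365
import Groth.Agent.Lib.LieS_helper1

set_option autoImplicit false
universe u
open CategoryTheory MonObj AlgebraicGeometry
open LieS

namespace Groth.Agent.S8365

/-- For a monoid scheme X over a scheme S (an associative unital monoid object in S-schemes) and an
affine S-scheme T = Spec B, a point of X with values in the dual numbers over T is invertible if and
only if its restriction along the zero section ε = 0 is invertible in X(T); in particular every such
point restricting to the unit section is invertible. (The published statement is for monoid-valued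
functors satisfying a tangent-space exactness condition, which every representable functor
satisfies, and its special case where the restriction is the unit section allows unital composition
laws that need not be associative; this row treats monoid schemes only.) -/
theorem result (S : Scheme.{u}) (X : Over S) [MonObj X] (B : Type u) [CommRing B]
    (f : Spec (CommRingCat.of B) ⟶ S) (v : LieS.dpt B f ⟶ X) :
    IsUnit v ↔ IsUnit (LieS.zeroSec B f ≫ v) := by
  constructor
  · rintro ⟨u, rfl⟩
    exact ⟨⟨LieS.zeroSec B f ≫ u.val, LieS.zeroSec B f ≫ u.inv,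
      by rw [← MonObj.comp_mul, u.val_inv, MonObj.comp_one],
      by rw [← MonObj.comp_mul, u.inv_val, MonObj.comp_one]⟩, rfl⟩
  · rintro ⟨u, hu⟩
    have hu' : u.val = LieS.zeroSec B f ≫ v := hu
    obtain ⟨c, hc⟩ : ∃ c : LieS.dpt B f ⟶ X, c = LieS.proj B f ≫ u.inv := ⟨_, rfl⟩
    obtain ⟨c', hc'⟩ : ∃ c' : LieS.dpt B f ⟶ X, c' = LieS.proj B f ≫ u.val := ⟨_, rfl⟩
    have hcc' : c * c' = 1 := by rw [hc, hc', ← MonObj.comp_mul, u.inv_val, MonObj.comp_one]
    have hc'c : c' * c = 1 := by rw [hc, hc', ← MonObj.comp_mul, u.val_inv, MonObj.comp_one]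
    have hv' : LieS.zeroSec B f ≫ (v * c) = 1 := by
      rw [MonObj.comp_mul, hc, ← Category.assoc (LieS.zeroSec B f), LieS.zeroSec_proj,
        Category.id_comp, ← hu']
      exact u.val_inv
    have h1 := Groth.Agent.Lib.LieSH1.scale_mul_scale B f (v * c) hv' 1 (-1)
    have h2 := Groth.Agent.Lib.LieSH1.scale_mul_scale B f (v * c) hv' (-1) 1
    rw [add_neg_cancel, Groth.Agent.Lib.LieSH1.scale_zero_comp B f (v * c) hv',
      Groth.Agent.Lib.LieSH1.scale_one, Category.id_comp] at h1
    rw [neg_add_cancel, Groth.Agent.Lib.LieSH1.scale_zero_comp B f (v * c) hv',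
      Groth.Agent.Lib.LieSH1.scale_one, Category.id_comp] at h2
    have hunit : IsUnit (v * c) := ⟨⟨v * c, LieS.scale B f (-1) ≫ (v * c), h1, h2⟩, rfl⟩
    have hvv : v = (v * c) * c' := by rw [_root_.mul_assoc, hcc', _root_.mul_one]
    rw [hvv]
    exact hunit.mul ⟨⟨c', c, hc'c, hcc'⟩, rfl⟩

end Groth.Agent.S8365
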