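import Groth.Statements.S8369
import Mathlib

set_option autoImplicit false
universe u v
open SGA3

namespace Groth.Agent.S8369

/-- Let A be a commutative ring, J a nilpotent ideal, N ⊆ M A-modules with M/N flat over A. If elements
of N have images generating the image of N in M/JM, then they generate N. (The published statement
takes finitely many elements; this row allows an arbitrary set, which the same argument permits.) -/
theorem result (A : Type u) [CommRing A] (J : Ideal A) (hJ : IsNilpotent J)
    (M : Type v) [AddCommGroup M] [Module A M] (N : Submodule A M) [Module.Flat A (M ⧸ N)] (s : Set M)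
    (hs : s ⊆ N)
    (hgen : (Submodule.span A s).map (J • (⊤ : Submodule A M)).mkQ = N.map (J • (⊤ : Submodule A M)).mkQ) :
    Submodule.span A s = N := by
  obtain ⟨k, hk⟩ := hJ
  -- flatness: N ⊓ J M ≤ J N
  have hinj : Function.Injective (N.subtype.lTensor (A ⧸ J)) :=
    LinearMap.lTensor_injective_of_exact_of_flat N.mkQ (Submodule.mkQ_surjective N) N.subtype
      N.subtype_injective (LinearMap.exact_subtype_mkQ N) (A ⧸ J)
  have hkey : ∀ x : M, x ∈ N → x ∈ J • (⊤ : Submodule A M) → x ∈ J • N := by
    intro x hxN hxJ
    have h1 : (1 : A ⧸ J) ⊗ₜ[A] x = 0 := by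
      apply (TensorProduct.quotTensorEquivQuotSMul M J).injective
      rw [TensorProduct.quotTensorEquivQuotSMul_mk_one_tmul, map_zero,
        Submodule.Quotient.mk_eq_zero]
      exact hxJ
    have h2 : N.subtype.lTensor (A ⧸ J) ((1 : A ⧸ J) ⊗ₜ[A] (⟨x, hxN⟩ : N)) =
        N.subtype.lTensor (A ⧸ J) 0 := by
      rw [LinearMap.lTensor_tmul, map_zero]
      exact h1
    have h3 := hinj h2
    have h4 : (⟨x, hxN⟩ : N) ∈ J • (⊤ : Submodule A N) := by
      have h5 := congrArg (TensorProduct.quotTensorEquivQuotSMul N J) h3
      rw [TensorProduct.quotTensorEquivQuotSMul_mk_one_tmul, map_zero,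
        Submodule.Quotient.mk_eq_zero] at h5
      exact h5
    have h6 : N.subtype ⟨x, hxN⟩ ∈ (J • (⊤ : Submodule A N)).map N.subtype :=
      Submodule.mem_map_of_mem h4
    rw [Submodule.map_smul'', Submodule.map_top, Submodule.range_subtype] at h6
    exact h6
  have hSN : Submodule.span A s ≤ N := Submodule.span_le.mpr hs
  have hstep : N ≤ Submodule.span A s ⊔ J • N := by
    intro n hn
    have h1 : (J • (⊤ : Submodule A M)).mkQ n ∈ N.map (J • (⊤ : Submodule A M)).mkQ :=
      Submodule.mem_map_of_mem hn
    rw [← hgen] at h1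
    obtain ⟨y, hy, hyn⟩ := h1
    have h2 : y - n ∈ J • (⊤ : Submodule A M) := by
      rw [← Submodule.Quotient.mk_eq_zero, Submodule.Quotient.mk_sub]
      exact sub_eq_zero.mpr hyn
    have h3 : n - y ∈ J • N := by
      apply hkey
      · exact N.sub_mem hn (hSN hy)
      · rw [← neg_sub]
        exact Submodule.neg_mem _ h2
    have h4 : n = y + (n - y) := by abel
    rw [h4]
    exact Submodule.add_mem_sup hy h3
  have hind : ∀ i : ℕ, N ≤ Submodule.span A s ⊔ J ^ i • N := by
    intro i
    induction i with
    | zero =>
      rw [pow_zero, Ideal.one_eq_top, Submodule.top_smul]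
      exact le_sup_right
    | succ i ih =>
      calc N ≤ Submodule.span A s ⊔ J ^ i • N := ih
        _ ≤ Submodule.span A s ⊔ J ^ i • (Submodule.span A s ⊔ J • N) :=
            sup_le_sup_left (smul_mono_right _ hstep) _
        _ = Submodule.span A s ⊔ (J ^ i • Submodule.span A s ⊔ J ^ (i + 1) • N) := by
            rw [Submodule.smul_sup, ← Submodule.mul_smul, ← pow_succ]
        _ ≤ Submodule.span A s ⊔ J ^ (i + 1) • N := by
            refine sup_le le_sup_left (sup_le ?_ le_sup_right)
            exact le_trans Submodule.smul_le_right le_sup_left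
  have hfin := hind k
  rw [hk, Submodule.zero_eq_bot, Submodule.bot_smul, sup_bot_eq] at hfin
  exact le_antisymm hSN hfin

end Groth.Agent.S8369
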