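import Groth.Statements.S8370
import Mathlib

set_option autoImplicit false
universe u
open CategoryTheory MonObj AlgebraicGeometry
open LieS

namespace Groth.Agent.S8370

section helpers

variable {S : Scheme.{u}} {B : Type u} [CommRing B] (f : Spec (CommRingCat.of B) ⟶ S)
  {C : Type u} [CommRing C] (θ : DualNumber B →+* C)

/-- The `S`-morphism `Spec C ⟶ I_T` given by a ring map `B[ε] → C`. -/
noncomputable def yθ :
    LieS.pt C (Spec.map (CommRingCat.ofHom (θ.comp (algebraMap B (DualNumber B)))) ≫ f) ⟶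
      LieS.dpt B f :=
  Over.homMk (Spec.map (CommRingCat.ofHom θ)) (by
    change Spec.map _ ≫ Spec.map _ ≫ f = Spec.map _ ≫ f
    rw [← Category.assoc, LieS.specMap_comp])

theorem theta_eps_sq : θ DualNumber.eps * θ DualNumber.eps = 0 := by
  rw [← map_mul, LieS.eps_sq, map_zero]

/-- The section `ε ↦ θ ε` of the dual numbers over `Spec C`. -/
noncomputable def secθ :
    LieS.pt C (Spec.map (CommRingCat.ofHom (θ.comp (algebraMap B (DualNumber B)))) ≫ f) ⟶
      LieS.dpt C (Spec.map (CommRingCat.ofHom (θ.comp (algebraMap B (DualNumber B)))) ≫ f) :=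
  Over.homMk (Spec.map (CommRingCat.ofHom
    (LieS.dualHom (RingHom.id C) (θ DualNumber.eps) (theta_eps_sq θ)))) (by
    change Spec.map _ ≫ Spec.map _ ≫ _ = _
    rw [← Category.assoc, LieS.specMap_comp, LieS.dualHom_comp_algebraMap, CommRingCat.ofHom_id]
    erw [Spec.map_id]; exact Category.id_comp _)

theorem secθ_proj : secθ f θ ≫ LieS.proj C _ = 𝟙 _ := by
  ext
  change Spec.map _ ≫ Spec.map _ = 𝟙 _
  rw [LieS.specMap_comp, LieS.dualHom_comp_algebraMap, CommRingCat.ofHom_id]
  erw [Spec.map_id]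

theorem dualHom_comp_bcHom :
    (LieS.dualHom (RingHom.id C) (θ DualNumber.eps) (theta_eps_sq θ)).comp
      (LieS.bcHom (θ.comp (algebraMap B (DualNumber B)))) = θ := by
  apply RingHom.ext
  intro x
  have hx : x = algebraMap B (DualNumber B) x.fst +
      algebraMap B (DualNumber B) x.snd * DualNumber.eps := by
    apply TrivSqZeroExt.ext <;> simp [TrivSqZeroExt.algebraMap_eq_inl']
  conv_rhs => rw [hx, map_add, map_mul]
  simp [LieS.bcHom, TrivSqZeroExt.algebraMap_eq_inl']

theorem secθ_dptMap :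
    secθ f θ ≫ LieS.dptMap f (θ.comp (algebraMap B (DualNumber B))) = yθ f θ := by
  ext
  change Spec.map _ ≫ Spec.map _ = Spec.map _
  rw [LieS.specMap_comp, dualHom_comp_bcHom]

end helpers

theorem aff {S : Scheme.{u}} (G K : Over S) [GrpObj G] [GrpObj K] (i : K ⟶ G) [IsMonHom i]
    (B : Type u) [CommRing B] (f : Spec (CommRingCat.of B) ⟶ S) (x : LieS.Lie G B f)
    (H : ∀ (B' : Type u) [CommRing B'] (h : B →+* B')
      (k : LieS.pt B' (Spec.map (CommRingCat.ofHom h) ≫ f) ⟶ K),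
      LieS.Ad G B' (Spec.map (CommRingCat.ofHom h) ≫ f) (k ≫ i) (LieS.pull G f h x) = LieS.pull G f h x)
    (C : Type u) [CommRing C] (θ : DualNumber B →+* C)
    (hK : LieS.pt C (Spec.map (CommRingCat.ofHom (θ.comp (algebraMap B (DualNumber B)))) ≫ f) ⟶ K) :
    (yθ f θ ≫ x.1) * (hK ≫ i) = (hK ≫ i) * (yθ f θ ≫ x.1) := by
  have h1 := congrArg Subtype.val (H C (θ.comp (algebraMap B (DualNumber B))) hK)
  have h2 : (LieS.proj C _ ≫ (hK ≫ i)) *
      (LieS.dptMap f (θ.comp (algebraMap B (DualNumber B))) ≫ x.1) *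
      (LieS.proj C _ ≫ (hK ≫ i))⁻¹ =
      LieS.dptMap f (θ.comp (algebraMap B (DualNumber B))) ≫ x.1 := h1
  have h3 : secθ f θ ≫ ((LieS.proj C _ ≫ (hK ≫ i)) *
      (LieS.dptMap f (θ.comp (algebraMap B (DualNumber B))) ≫ x.1) *
      (LieS.proj C _ ≫ (hK ≫ i))⁻¹) =
      secθ f θ ≫ (LieS.dptMap f (θ.comp (algebraMap B (DualNumber B))) ≫ x.1) := by rw [h2]
  have e1 : secθ f θ ≫ (LieS.proj C _ ≫ (hK ≫ i)) = hK ≫ i := by
    rw [← Category.assoc, secθ_proj, Category.id_comp]
  have e2 : secθ f θ ≫ (LieS.dptMap f (θ.comp (algebraMap B (DualNumber B))) ≫ x.1) =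
      yθ f θ ≫ x.1 := by
    rw [← Category.assoc, secθ_dptMap]
  rw [MonObj.comp_mul, MonObj.comp_mul, GrpObj.comp_inv, e1, e2] at h3
  rw [mul_inv_eq_iff_eq_mul] at h3
  exact h3.symm

theorem affine_case {S : Scheme.{u}} (G K : Over S) [GrpObj G] [GrpObj K] (i : K ⟶ G) [IsMonHom i]
    (B : Type u) [CommRing B] (f : Spec (CommRingCat.of B) ⟶ S) (x : LieS.Lie G B f)
    (H : ∀ (B' : Type u) [CommRing B'] (h : B →+* B')
      (k : LieS.pt B' (Spec.map (CommRingCat.ofHom h) ≫ f) ⟶ K),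
      LieS.Ad G B' (Spec.map (CommRingCat.ofHom h) ≫ f) (k ≫ i) (LieS.pull G f h x) = LieS.pull G f h x)
    (X' : Over S) (y : X' ⟶ LieS.dpt B f) (hK : X' ⟶ K)
    (C : Type u) [CommRing C] (c : Spec (CommRingCat.of C) ⟶ X'.left) :
    c ≫ ((y ≫ x.1) * (hK ≫ i)).left = c ≫ ((hK ≫ i) * (y ≫ x.1)).left := by
  obtain ⟨ψ, hψ⟩ : ∃ ψ : CommRingCat.of (DualNumber B) ⟶ CommRingCat.of C,
      Spec.map ψ = c ≫ y.left := Spec.map_surjective _
  obtain ⟨θ, hθ'⟩ : ∃ θ : DualNumber B →+* C, θ = ψ.hom := ⟨_, rfl⟩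
  have hθ : Spec.map (CommRingCat.ofHom θ) = c ≫ y.left := by
    rw [hθ', CommRingCat.ofHom_hom]; exact hψ
  have hw : c ≫ X'.hom =
      Spec.map (CommRingCat.ofHom (θ.comp (algebraMap B (DualNumber B)))) ≫ f := by
    have hy := Over.w y
    rw [← hy, ← Category.assoc, ← hθ]
    change Spec.map _ ≫ Spec.map _ ≫ f = _
    rw [← Category.assoc, LieS.specMap_comp]
  let gam : LieS.pt C (Spec.map (CommRingCat.ofHom (θ.comp (algebraMap B (DualNumber B)))) ≫ f) ⟶ X' :=
    Over.homMk c hw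
  have hgamy : gam ≫ y = yθ f θ := by
    apply Over.OverMorphism.ext
    show c ≫ y.left = Spec.map (CommRingCat.ofHom θ)
    exact hθ.symm
  have key := aff G K i B f x H C θ (gam ≫ hK)
  rw [← hgamy, Category.assoc, Category.assoc, ← MonObj.comp_mul, ← MonObj.comp_mul] at key
  have key2 : (gam ≫ ((y ≫ x.1) * (hK ≫ i))).left = (gam ≫ ((hK ≫ i) * (y ≫ x.1))).left := by
    rw [key]
  rw [Over.comp_left, Over.comp_left] at key2
  exact key2


/-- For a group scheme G over a scheme S (the group law of the Lie algebra functor of a group scheme is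
commutative, which the published statement assumes), a sub-group-scheme K of G given by a
monomorphic homomorphism i, and an affine S-scheme T = Spec B: an element x of Lie(G/S)(T) belongs
to the Lie algebra of the centraliser of K, i.e. the point x of G with values in the dual numbers
I_T commutes with every point of K with values in any scheme over I_T, if and only if x is fixed by
the adjoint action of every point of K with values in an affine scheme T' = Spec B' over T (acting
on the restriction of x to T'). -/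
theorem result (S : Scheme.{u}) (G K : Over S) [GrpObj G] [GrpObj K] (i : K ⟶ G)
    [IsMonHom i] [Mono i] (B : Type u) [CommRing B] (f : Spec (CommRingCat.of B) ⟶ S) (x : LieS.Lie G B f) :
    (∀ (X' : Over S) (y : X' ⟶ LieS.dpt B f) (h : X' ⟶ K), (y ≫ x.1) * (h ≫ i) = (h ≫ i) * (y ≫ x.1)) ↔
    (∀ (B' : Type u) [CommRing B'] (h : B →+* B')
      (k : LieS.pt B' (Spec.map (CommRingCat.ofHom h) ≫ f) ⟶ K),
      LieS.Ad G B' (Spec.map (CommRingCat.ofHom h) ≫ f) (k ≫ i) (LieS.pull G f h x) = LieS.pull G f h x) := by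
  constructor
  · intro H B' _ h k
    apply Subtype.ext
    have H1 := H (LieS.dpt B' (Spec.map (CommRingCat.ofHom h) ≫ f)) (LieS.dptMap f h)
      (LieS.proj B' _ ≫ k)
    show (LieS.proj B' _ ≫ (k ≫ i)) * (LieS.dptMap f h ≫ x.1) * (LieS.proj B' _ ≫ (k ≫ i))⁻¹ =
      LieS.dptMap f h ≫ x.1
    rw [← Category.assoc, ← H1, mul_inv_cancel_right]
  · intro H X' y hK
    apply Over.OverMorphism.ext
    apply (X'.left.affineOpenCover.openCover).hom_ext
    intro j
    exact affine_case G K i B f x H X' y hK _ (X'.left.affineOpenCover.f j)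

end Groth.Agent.S8370
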