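import Groth.Statements.S8441
import Groth.Agent.Lib.Unitri_helper8
import Mathlib.LinearAlgebra.RootSystem.Base

set_option autoImplicit false
universe u v w
open SGA3t2b

namespace Groth.Agent.S8441

/-- Let R be a root system with a system of simple roots a₁, …, aₙ and simple reflections rᵢ, and put θᵢ
= rₙ ⋯ rᵢ₊₁(aᵢ). Then the θᵢ form a basis of the group generated by the roots. Stated for a root
pairing over ℤ (Mathlib) with a base whose support is enumerated by Fin n: the θᵢ are ℤ-linearly
independent and their ℤ-span is the ℤ-span of all roots. -/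
theorem result {ι : Type u} {M : Type v} {N : Type w} [AddCommGroup M] [Module ℤ M]
    [AddCommGroup N] [Module ℤ N] (P : RootPairing ι ℤ M N) (b : P.Base) (n : ℕ) (e : Fin n ≃ ↥b.support) :
    LinearIndependent ℤ (fun i : Fin n =>
      ((List.finRange n).filter (fun j => i < j)).foldl (fun x j => P.reflection (e j : ι) x) (P.root (e i : ι))) ∧
    Submodule.span ℤ (Set.range (fun i : Fin n =>
      ((List.finRange n).filter (fun j => i < j)).foldl (fun x j => P.reflection (e j : ι) x) (P.root (e i : ι)))) =
      Submodule.span ℤ (Set.range P.root) := by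
  classical
  set v : Fin n → M := fun i => P.root (e i : ι) with hv
  have hvli : LinearIndependent ℤ v := by
    have h1 : LinearIndependent ℤ (fun i : b.support => P.root (i : ι)) := b.linearIndepOn_root
    exact h1.comp e e.injective
  have hfold : ∀ (i : Fin n) (L : List (Fin n)), (∀ j ∈ L, i < j) → ∀ c : Fin n →₀ ℤ,
      (∀ m, m ≤ i → c m = 0) →
      ∃ c' : Fin n →₀ ℤ, (∀ m, m ≤ i → c' m = 0) ∧
        L.foldl (fun x j => P.reflection (e j : ι) x) (v i + Finsupp.linearCombination ℤ v c) =
          v i + Finsupp.linearCombination ℤ v c' := by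
    intro i L
    induction L with
    | nil => intro _ c hc; exact ⟨c, hc, rfl⟩
    | cons j L ih =>
      intro hL c hc
      rw [List.foldl_cons]
      have hx : P.reflection (e j : ι) (v i + Finsupp.linearCombination ℤ v c) =
          v i + Finsupp.linearCombination ℤ v
            (c - Finsupp.single j (P.coroot' (e j : ι) (v i + Finsupp.linearCombination ℤ v c))) := by
        rw [P.reflection_apply, map_sub, Finsupp.linearCombination_single]
        abel
      rw [hx]
      apply ih (fun m hm => hL m (List.mem_cons_of_mem _ hm))
      intro m hm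
      have hij : i < j := hL j List.mem_cons_self
      have hmj : j ≠ m := by
        intro h
        subst h
        exact absurd hij (not_lt.mpr hm)
      rw [Finsupp.sub_apply, hc m hm, Finsupp.single_eq_of_ne hmj.symm, sub_zero]
  have hfold0 : ∀ i : Fin n, ∃ c' : Fin n →₀ ℤ, (∀ m, m ≤ i → c' m = 0) ∧
      ((List.finRange n).filter (fun j => i < j)).foldl (fun x j => P.reflection (e j : ι) x)
        (P.root (e i : ι)) = v i + Finsupp.linearCombination ℤ v c' := by
    intro i
    obtain ⟨c', hc', h⟩ := hfold i ((List.finRange n).filter (fun j => i < j))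
      (fun j hj => by simpa using (List.mem_filter.mp hj).2) 0 (fun _ _ => rfl)
    refine ⟨c', hc', ?_⟩
    rw [← h, map_zero, add_zero]
  choose c hc0 hcθ using hfold0
  have key := Groth.Agent.Lib.Unitri_helper8.linearIndependent_and_span_of_unitriangular hvli c
    (fun i j hji => hc0 i j hji) hcθ
  refine ⟨key.1, key.2.trans ?_⟩
  have hrange : Set.range v = P.root '' (b.support : Set ι) := by
    ext x
    simp only [Set.mem_range, Set.mem_image, hv]
    constructor
    · rintro ⟨i, rfl⟩
      exact ⟨(e i : ι), (e i).2, rfl⟩
    · rintro ⟨j, hj, rfl⟩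
      exact ⟨e.symm ⟨j, hj⟩, by simp⟩
  rw [hrange]
  exact b.span_root_support

end Groth.Agent.S8441
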