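import Groth.Statements.S8517
import Groth.Agent.Lib.RootDBaseSmul_helper8

set_option autoImplicit false
open CategoryTheory MonoidalCategory CartesianMonoidalCategory MonObj GrpObj AlgebraicGeometry
universe u
open RedSub

namespace Groth.Agent.S8517

/-- Let R be the set of roots of a root pairing over ℤ with finitely many roots, and R₁, R₂ two closed
subsets of R (if a, b ∈ Rᵢ and root a + root b is a root c then c ∈ Rᵢ), each containing a system of
positive roots (the positive roots of some base). If R₁ ∪ R₂ = R, then R₁ ∩ (−R₂) (the roots of R₁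
whose negative is a root in R₂) contains a system of positive roots. -/
theorem result {idx M N : Type} [Finite idx] [AddCommGroup M] [AddCommGroup N] (P : RootPairing idx ℤ M N) (R₁ R₂ : Set idx)
    (h₁ : ∀ a b c : idx, a ∈ R₁ → b ∈ R₁ → P.root a + P.root b = P.root c → c ∈ R₁)
    (h₂ : ∀ a b c : idx, a ∈ R₂ → b ∈ R₂ → P.root a + P.root b = P.root c → c ∈ R₂)
    (hb₁ : ∃ b : P.Base, RedSub.posRoots P b ⊆ R₁) (hb₂ : ∃ b : P.Base, RedSub.posRoots P b ⊆ R₂)
    (hunion : R₁ ∪ R₂ = Set.univ) :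
    ∃ b : P.Base, RedSub.posRoots P b ⊆ {a | a ∈ R₁ ∧ ∃ c ∈ R₂, P.root a = -P.root c} := by
  obtain ⟨b₁, hb₁⟩ := hb₁
  obtain ⟨b₂, hb₂⟩ := hb₂
  have hΔ₁ := Groth.Agent.Lib.RootDBaseZ_helper8.isSimpleSys_of_base b₁
  have hΔ₂ := Groth.Agent.Lib.RootDBaseZ_helper8.isSimpleSys_of_base b₂
  have hpar₁ : ∀ i, i ∈ R₁ ∨ P.reflectionPerm i i ∈ R₁ := fun i =>
    (Groth.Agent.Lib.RootD_helper8.mem_posOf_or_neg_mem hΔ₁ i).imp (fun h => hb₁ h) (fun h => hb₁ h)
  have hpar₂ : ∀ i, i ∈ R₂ ∨ P.reflectionPerm i i ∈ R₂ := fun i =>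
    (Groth.Agent.Lib.RootD_helper8.mem_posOf_or_neg_mem hΔ₂ i).imp (fun h => hb₂ h) (fun h => hb₂ h)
  set Q : Set idx := {a | a ∈ R₁ ∧ ∃ c ∈ R₂, P.root a = -P.root c} with hQdef
  have hQ_iff : ∀ a, a ∈ Q ↔ a ∈ R₁ ∧ P.reflectionPerm a a ∈ R₂ := by
    intro a
    constructor
    · rintro ⟨h1, c, hc, hac⟩
      refine ⟨h1, ?_⟩
      have : P.reflectionPerm a a = c :=
        P.root.injective (by rw [Groth.Agent.Lib.RootD_helper8.root_neg, hac, neg_neg])
      rwa [this]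
    · rintro ⟨h1, h2⟩
      exact ⟨h1, _, h2, by rw [Groth.Agent.Lib.RootD_helper8.root_neg, neg_neg]⟩
  have hnn : ∀ i, P.reflectionPerm (P.reflectionPerm i i) (P.reflectionPerm i i) = i := by
    intro i
    apply P.root.injective
    rw [Groth.Agent.Lib.RootD_helper8.root_neg, Groth.Agent.Lib.RootD_helper8.root_neg, neg_neg]
  have hcover : ∀ i, i ∈ Q ∨ P.reflectionPerm i i ∈ Q := by
    intro i
    rw [hQ_iff, hQ_iff, hnn]
    have hu : ∀ k, k ∈ R₁ ∨ k ∈ R₂ := fun k => by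
      have : k ∈ R₁ ∪ R₂ := hunion ▸ Set.mem_univ k
      exact this
    rcases hu i with h | h <;> rcases hu (P.reflectionPerm i i) with h' | h'
    · rcases hpar₂ i with h2 | h2
      · right; exact ⟨h', h2⟩
      · left; exact ⟨h, h2⟩
    · left; exact ⟨h, h'⟩
    · right; exact ⟨h', h⟩
    · rcases hpar₁ i with h1 | h1
      · left; exact ⟨h1, h'⟩
      · right; exact ⟨h1, h⟩
  have hcl : RootD.IsClosedSub P Q := by
    intro i j k hi hj hk
    rw [hQ_iff] at hi hj ⊢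
    refine ⟨h₁ i j k hi.1 hj.1 hk.symm, h₂ _ _ _ hi.2 hj.2 ?_⟩
    rw [Groth.Agent.Lib.RootD_helper8.root_neg, Groth.Agent.Lib.RootD_helper8.root_neg,
      Groth.Agent.Lib.RootD_helper8.root_neg, hk, neg_add]
  obtain ⟨g, -, hsub⟩ := Groth.Agent.Lib.RootDWeyl_helper8.exists_weyl_smul_posOf_subset hΔ₁ hcover hcl
  refine ⟨Groth.Agent.Lib.RootDBaseSmul_helper8.baseSmul g b₁, ?_⟩
  change RootD.posOf P ((Groth.Agent.Lib.RootDBaseSmul_helper8.baseSmul g b₁).support : Set idx) ⊆ Q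
  rw [Groth.Agent.Lib.RootDBaseSmul_helper8.posOf_baseSmul]
  exact hsub

end Groth.Agent.S8517
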