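import Groth.Statements.S8531
import Groth.Prelude.Def_EtZar
import Groth.Agent.Lib.H90Et2_helper8
import Groth.Agent.Lib.EtHpull0_helper7

set_option autoImplicit false
universe u
open CategoryTheory CategoryTheory.Limits AlgebraicGeometry Opposite
open EtPBC

namespace Groth.Agent.S8531

open Groth.Agent.Lib.H90EtH8 Groth.Agent.Lib.EtFlasque_helper7 Groth.Agent.Lib.EtExtFr_helper7
  Groth.Agent.Lib.EtHpull0_helper7 Groth.Agent.Lib.CechSite Abelian

/-- In the form R^1 ε_* G_m = 0 for the morphism ε from the etale site to the Zariski site (equivalently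
H^1(X_Zar, O_X^*) → H^1(X_et, G_m) is bijective, so H^1(X_et, G_m) is the Picard group): let X be a
scheme, c a class in H^1(X_et, G_m) and x a point of X. Then there is an open neighbourhood U of x
such that the pullback of c to H^1(U_et, G_m restricted to U) is zero. -/
theorem result (X : Scheme.{u}) (c : EtCoh.H X (EtCoh.Gm X) 1) (x : X) :
    ∃ U : X.Opens, x ∈ U ∧ ∀ [PreservesFiniteLimits (EtCoh.pull U.ι)], EtCore.Hpull U.ι (EtCoh.Gm X) 1 c = 0 := by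
  classical
  obtain ⟨X', hX', hxX'⟩ : ∃ X' : X.Opens, IsAffineOpen X' ∧ x ∈ X' := by
    obtain ⟨_, ⟨X', hX', rfl⟩, hxX', -⟩ :=
      X.isBasis_affineOpens.exists_subset_of_mem_open (Set.mem_univ x) isOpen_univ
    exact ⟨X', hX', hxX'⟩
  obtain ⟨W₀, hW₀⟩ : ∃ W₀ : X.Etale, W₀ = (EtZar.zarToEt X).obj X' := ⟨_, rfl⟩
  haveI : IsAffine W₀.left := by rw [hW₀]; exact hX'
  let Sx : ShortComplex (EtCoh.Ab X) :=
    ShortComplex.mk (Injective.ι (EtCoh.Gm X)) (cokernel.π (Injective.ι (EtCoh.Gm X)))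
      (cokernel.condition _)
  have hSx : Sx.ShortExact := { exact := ShortComplex.exact_cokernel (Injective.ι (EtCoh.Gm X)) }
  haveI : Injective Sx.X₂ := inferInstanceAs (Injective (Injective.under (EtCoh.Gm X)))
  obtain ⟨x₃, hx₃⟩ : ∃ x₃ : Ext (fr W₀) Sx.X₃ 0, x₃.comp hSx.extClass (zero_add 1) =
      (Ext.mk₀ (aW W₀)).comp c (zero_add 1) :=
    Ext.covariant_sequence_exact₁ _ hSx _ (Ext.eq_zero_of_injective _) (zero_add 1)
  obtain ⟨ψ, rfl⟩ := (Ext.mk₀_bijective _ _).2 x₃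
  obtain ⟨φ, hφ, hlift⟩ := exists_local_lift Sx.f Sx.g Sx.zero hSx W₀ (frEquiv W₀ Sx.X₃ ψ)
    (hW₀ ▸ (⟨x, hxX'⟩ : X'))
  subst hW₀
  obtain ⟨U, hU⟩ : ∃ U : X.Opens, U = X'.ι ''ᵁ (X'.toScheme.basicOpen φ) := ⟨_, rfl⟩
  have hle : U ≤ X' := by rw [hU]; exact X'.ι_image_le _
  refine ⟨U, ?_, ?_⟩
  · rw [hU]; exact ⟨⟨x, hxX'⟩, hφ, rfl⟩
  intro inst
  let h : (EtZar.zarToEt X).obj U ⟶ (EtZar.zarToEt X).obj X' :=
    (EtZar.zarToEt X).map (homOfLE hle)
  have hunit : IsUnit (h.left.appTop.hom φ) := by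
    apply isUnit_appTop_of_forall_mem
    intro a
    obtain ⟨a', ha'⟩ : ∃ a' : U, a' = a := ⟨_, rfl⟩
    subst ha'
    have ha : (a' : X) ∈ X'.ι ''ᵁ (X'.toScheme.basicOpen φ) := hU ▸ a'.2
    obtain ⟨b, hb, hba⟩ := ha
    have e : h.left a' = b := by
      apply Subtype.ext
      show (X.homOfLE hle a').1 = b.1
      rw [Scheme.homOfLE_apply]
      exact hba.symm
    rw [e]; exact hb
  obtain ⟨t, ht⟩ := hlift _ h hunit
  have hψ : frMap h ≫ ψ = (frEquiv _ Sx.X₂).symm t ≫ Sx.g := by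
    apply (frEquiv _ Sx.X₃).injective
    rw [frEquiv_map, frEquiv_comp, Equiv.apply_symm_apply]
    exact ht.symm
  have key : (Ext.mk₀ (aW ((EtZar.zarToEt X).obj U))).comp c (zero_add 1) = 0 := by
    rw [← frMap_comp_aW h, ← Ext.mk₀_comp_mk₀_assoc, ← hx₃, Ext.mk₀_comp_mk₀_assoc, hψ,
      ← Ext.mk₀_comp_mk₀]
    refine (Ext.comp_assoc_of_second_deg_zero (Ext.mk₀ ((frEquiv _ Sx.X₂).symm t)) (Ext.mk₀ Sx.g)
      hSx.extClass (zero_add 1)).trans ?_
    exact (congrArg (fun s => (Ext.mk₀ ((frEquiv _ Sx.X₂).symm t)).comp s (zero_add 1))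
      hSx.comp_extClass).trans (Ext.comp_zero _ _ _ _ _)
  have hΨ := ΨW_precomp_aW ((EtZar.zarToEt X).obj U) (EtCoh.Gm X) 1 c
  rw [key, map_zero] at hΨ
  exact hΨ.symm

end Groth.Agent.S8531
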