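import Groth.Statements.S8563
import Mathlib
import Groth.Agent.Lib.ChowG_helper7
import Groth.Agent.Lib.VAmpPn10_helper5
import Groth.Agent.Lib.HProj3_helper5

set_option autoImplicit false
universe u
open CategoryTheory CategoryTheory.Limits AlgebraicGeometry
open RelProj

namespace Groth.Agent.S8563

/-- A variant of Chow's lemma free of Noetherian and irreducibility hypotheses: let S be a quasi-compact
and quasi-separated scheme and f : X ⟶ S a separated morphism of finite type with X nonempty. Then
there are a scheme X̄ and a morphism π : X̄ ⟶ X such that π is projective (X̄ is, over X, the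
homogeneous spectrum of a quasi-coherent graded algebra generated by its degree-one part, of finite
type in degree one), the composite π ≫ f is quasi-projective (of finite type with a relatively ample
invertible sheaf), and π induces an isomorphism from the inverse image of U onto U for some nonempty
open subset U of X. (No density of U and no surjectivity of π are asserted.) -/
theorem result {X S : Scheme.{u}} (f : X ⟶ S)
    [CompactSpace S] [QuasiSeparatedSpace S] [IsSeparated f] [LocallyOfFiniteType f] [QuasiCompact f]
    [Nonempty X] :
    ∃ (Xbar : Scheme.{u}) (π : Xbar ⟶ X), RelProj.IsProjective π ∧ RelProj.IsQuasiProjective (π ≫ f) ∧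
      ∃ U : X.Opens, (U : Set X).Nonempty ∧ IsIso (π ∣_ U) := by
  obtain ⟨n, X', π, j, U, h1, h2, h3, -, h5, h6, h7⟩ :=
    Groth.Agent.Lib.ChowG_helper7.chow_nonempty f
  exact ⟨X', π, Groth.Agent.HProj.isProjective_of_isHProjective π h7,
    Groth.Agent.VAmpPn.isQuasiProjective_of_isHQuasiProjective _ ⟨n, j, h1, h2, h3⟩, U, h5, h6⟩

end Groth.Agent.S8563
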