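import Groth.Statements.S8569
import Mathlib
import Groth.Agent.Lib.LexRefl_helper8

set_option autoImplicit false
open CategoryTheory
universe v u
open SGA4

namespace Groth.Agent.S8569

/-- Let E be a topos (a category equivalent to the category of sheaves of sets on a small site, for the
universe u) and D a u-small category. Then the category of functors D ⥤ E, which is the category of
sections of the constant D-topos with value E, is a topos. (The published statement is for an
arbitrary D-topos, i.e. a category bifibred in topoi over D; this row is the case of a constant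
one.) -/
theorem result {E : Type v} [Category.{u} E] (hE : SGA4.IsTopos E)
    (D : Type u) [SmallCategory D] : SGA4.IsTopos (D ⥤ E) := by
  obtain ⟨C, hC, J, ⟨eE⟩⟩ := hE
  letI := hC
  let eq1 : (D ⥤ E) ≌ (D ⥤ Sheaf J (Type u)) := eE.congrRight
  let eq34 : (D ⥤ Cᵒᵖ ⥤ Type u) ≌ ((D × Cᵒᵖ)ᵒᵖᵒᵖ ⥤ Type u) :=
    Functor.currying.trans (opOpEquivalence (D × Cᵒᵖ)).congrLeft.symm
  let R2 : (D ⥤ Sheaf J (Type u)) ⥤ (D ⥤ Cᵒᵖ ⥤ Type u) :=
    (Functor.whiskeringRight D (Sheaf J (Type u)) (Cᵒᵖ ⥤ Type u)).obj (sheafToPresheaf J (Type u))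
  let L2 : (D ⥤ Cᵒᵖ ⥤ Type u) ⥤ (D ⥤ Sheaf J (Type u)) :=
    (Functor.whiskeringRight D (Cᵒᵖ ⥤ Type u) (Sheaf J (Type u))).obj (presheafToSheaf J (Type u))
  let adj2 : L2 ⊣ R2 := Adjunction.whiskerRight D (sheafificationAdjunction J (Type u))
  haveI h1 : Limits.PreservesFiniteLimits eq34.inverse := by
    haveI : eq34.inverse.IsRightAdjoint := inferInstance
    constructor
    intro K _ _
    infer_instance
  haveI h2 : Limits.PreservesFiniteLimits L2 := by
    constructor
    intro K _ _
    infer_instance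
  haveI h3 : Limits.PreservesFiniteLimits eq1.inverse := by
    haveI : eq1.inverse.IsRightAdjoint := inferInstance
    constructor
    intro K _ _
    infer_instance
  haveI h4 : Limits.PreservesFiniteLimits (eq34.inverse ⋙ (L2 ⋙ eq1.inverse)) := inferInstance
  exact Groth.Agent.Lib.LexReflH8.isTopos_of_lex_reflective (C' := (D × Cᵒᵖ)ᵒᵖ)
    ((eq1.functor ⋙ R2) ⋙ eq34.functor) (eq34.inverse ⋙ (L2 ⋙ eq1.inverse))
    (eq34.symm.toAdjunction.comp (adj2.comp eq1.symm.toAdjunction))

end Groth.Agent.S8569
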