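import Groth.Statements.S8591
import Mathlib

set_option autoImplicit false
universe u
open CAlg

namespace Groth.Agent.S8591

open Polynomial in
theorem aeval_charmatrix_apply {k : Type*} [CommRing k] {ι κ : Type*} [Fintype ι] [DecidableEq ι]
    [Fintype κ] [DecidableEq κ] (A : Matrix ι ι k) (D : Matrix κ κ k) (a b : ι) (i j : κ) :
    (aeval D (Matrix.charmatrix A a b)) i j
      = (if a = b then D i j else 0) - (if i = j then A a b else 0) := by
  rw [Matrix.charmatrix_apply, map_sub, aeval_C, Matrix.sub_apply, Matrix.diagonal_apply,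
    Matrix.algebraMap_matrix_apply]
  congr 1
  split_ifs with h
  · rw [aeval_X]
  · rw [map_zero]; rfl

open Polynomial in
theorem det_aeval_charpoly_swap {k : Type*} [CommRing k] {ι κ : Type*} [Fintype ι] [DecidableEq ι]
    [Fintype κ] [DecidableEq κ] (A : Matrix ι ι k) (D : Matrix κ κ k) :
    (aeval D A.charpoly).det
      = (-1) ^ (Fintype.card ι * Fintype.card κ) * (aeval A D.charpoly).det := by
  have h1 := Matrix.det_det (Matrix.charmatrix D)
    ((aeval A : k[X] →ₐ[k] Matrix ι ι k) : k[X] →+* Matrix ι ι k)
  have h2 := Matrix.det_det (Matrix.charmatrix A)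
    ((aeval D : k[X] →ₐ[k] Matrix κ κ k) : k[X] →+* Matrix κ κ k)
  have e1 : (aeval A D.charpoly).det
      = (Matrix.comp κ κ ι ι k ((Matrix.charmatrix D).map (aeval A))).det := h1
  have e2 : (aeval D A.charpoly).det
      = (Matrix.comp ι ι κ κ k ((Matrix.charmatrix A).map (aeval D))).det := h2
  have hrel : Matrix.comp ι ι κ κ k ((Matrix.charmatrix A).map (aeval D))
      = - ((Matrix.comp κ κ ι ι k ((Matrix.charmatrix D).map (aeval A))).submatrix
          (Equiv.prodComm ι κ) (Equiv.prodComm ι κ)) := by
    ext ⟨a, i⟩ ⟨b, j⟩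
    rw [Matrix.neg_apply, Matrix.submatrix_apply]
    show (aeval D (Matrix.charmatrix A a b)) i j = - (aeval A (Matrix.charmatrix D i j)) a b
    rw [aeval_charmatrix_apply, aeval_charmatrix_apply]
    ring
  rw [e2, e1, hrel, Matrix.det_neg, Matrix.det_submatrix_equiv_self, Fintype.card_prod]

open Polynomial in
theorem det_aeval_eq_of_charpoly_eq {k : Type*} [CommRing k] [Nontrivial k] {ι₁ ι₂ κ : Type*}
    [Fintype ι₁] [DecidableEq ι₁] [Fintype ι₂] [DecidableEq ι₂] [Fintype κ] [DecidableEq κ]
    (A : Matrix ι₁ ι₁ k) (C : Matrix ι₂ ι₂ k) (D : Matrix κ κ k) (h : A.charpoly = C.charpoly) :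
    (aeval A D.charpoly).det = (aeval C D.charpoly).det := by
  have hcard : Fintype.card ι₁ = Fintype.card ι₂ := by
    rw [← Matrix.charpoly_natDegree_eq_dim A, ← Matrix.charpoly_natDegree_eq_dim C, h]
  rw [det_aeval_charpoly_swap D A, det_aeval_charpoly_swap D C, h, hcard]

open Polynomial in
theorem minpoly_root_eq {k : Type*} [CommRing k] (P : k[X]) (hP : P.Monic) :
    P = minpoly k (AdjoinRoot.root P) := by
  apply minpoly.unique' k (AdjoinRoot.root P) hP
  · rw [AdjoinRoot.aeval_eq, AdjoinRoot.mk_self]
  · intro q hq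
    by_cases hq0 : q = 0
    · exact Or.inl hq0
    · right
      rw [AdjoinRoot.aeval_eq]
      intro h0
      rw [AdjoinRoot.mk_eq_zero] at h0
      exact hP.not_dvd_of_degree_lt hq0 hq h0

open Polynomial in
theorem exists_matrix_charpoly {k : Type*} [CommRing k] (P : k[X]) (hP : P.Monic) :
    ∃ (κ : Type) (_ : Fintype κ) (_ : DecidableEq κ) (D : Matrix κ κ k), D.charpoly = P := by
  refine ⟨Fin (AdjoinRoot.powerBasis' hP).dim, inferInstance, inferInstance,
    Algebra.leftMulMatrix (AdjoinRoot.powerBasis' hP).basis (AdjoinRoot.root P), ?_⟩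
  have h1 := charpoly_leftMulMatrix (AdjoinRoot.powerBasis' hP)
  exact h1.trans (minpoly_root_eq P hP).symm


/-- Let k be a commutative ring, M a finite free k-module, u an endomorphism of M with characteristic
polynomial χ, and P a polynomial over k. Then the norm, from the k-algebra k[T]/(χ) (free of rank
the rank of M) down to k, of the class of P(T) equals det(P(u)). (The published statement writes the
quotient by det(u - T), which generates the same ideal as χ(T) = det(T - u).) -/
theorem result (k : Type u) [CommRing k] (M : Type u) [AddCommGroup M] [Module k M]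
    [Module.Free k M] [Module.Finite k M] (u : M →ₗ[k] M) (P : Polynomial k) :
    Algebra.norm k (AdjoinRoot.mk u.charpoly P) = LinearMap.det (Polynomial.aeval u P) := by
  classical
  rcases subsingleton_or_nontrivial k with hk | hk
  · exact Subsingleton.elim _ _
  have hχ : u.charpoly.Monic := LinearMap.charpoly_monic u
  have hCH : Polynomial.aeval u u.charpoly = 0 := LinearMap.aeval_self_charpoly u
  obtain ⟨P', hP'monic, hmk, haev⟩ : ∃ P' : Polynomial k, P'.Monic ∧
      AdjoinRoot.mk u.charpoly P' = AdjoinRoot.mk u.charpoly P ∧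
      Polynomial.aeval u P' = Polynomial.aeval u P := by
    refine ⟨Polynomial.X ^ (P.natDegree + 1) * u.charpoly + P, ?_, ?_, ?_⟩
    · apply Polynomial.Monic.add_of_left ((Polynomial.monic_X_pow _).mul hχ)
      apply Polynomial.degree_lt_degree
      rw [Polynomial.Monic.natDegree_mul (Polynomial.monic_X_pow _) hχ, Polynomial.natDegree_X_pow]
      omega
    · rw [map_add, map_mul, AdjoinRoot.mk_self, mul_zero, zero_add]
    · rw [map_add, map_mul, hCH, mul_zero, zero_add]
  rw [← hmk, ← haev]
  let b := Module.Free.chooseBasis k M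
  let A := LinearMap.toMatrix b b u
  have hA : A.charpoly = u.charpoly := LinearMap.charpoly_toMatrix u b
  have hdet : LinearMap.det (Polynomial.aeval u P') = (Polynomial.aeval A P').det := by
    rw [← LinearMap.det_toMatrix b]
    congr 1
    exact (Polynomial.aeval_algHom_apply (LinearMap.toMatrixAlgEquiv b) u P').symm
  let pb := AdjoinRoot.powerBasis' hχ
  let C := Algebra.leftMulMatrix pb.basis (AdjoinRoot.root u.charpoly)
  have hC : C.charpoly = u.charpoly := by
    have h1 := charpoly_leftMulMatrix pb
    exact h1.trans (minpoly_root_eq u.charpoly hχ).symm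
  have hnorm : Algebra.norm k (AdjoinRoot.mk u.charpoly P') = (Polynomial.aeval C P').det := by
    rw [Algebra.norm_eq_matrix_det pb.basis]
    congr 1
    rw [← AdjoinRoot.aeval_eq]
    exact (Polynomial.aeval_algHom_apply (Algebra.leftMulMatrix pb.basis)
      (AdjoinRoot.root u.charpoly) P').symm
  obtain ⟨κ, _, _, D, hD⟩ := exists_matrix_charpoly P' hP'monic
  rw [hnorm, hdet, ← hD]
  exact det_aeval_eq_of_charpoly_eq C A D (hC.trans hA.symm)

end Groth.Agent.S8591
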