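import Groth.Statements.S8611
import Mathlib
import Groth.Agent.Lib.DeltaAb_helper2

set_option autoImplicit false
universe w v u
open CategoryTheory CategoryTheory.Limits
open SGA4h

namespace Groth.Agent.S8611

/-- Let C be an abelian category, T and T' cohomological delta-functors on C in degrees ≥ 0 with values
in abelian groups, both left exact in degree 0, with T effaceable in every degree q > 0 (every
element of T^q(A) is killed by T^q(u) for some monomorphism u : A → M, depending on the element),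
and φ : T → T' a morphism of delta-functors. Let E be a class of objects such that every object
admits a monomorphism into a member of E. Then the following are equivalent: (i) φ^q(A) is bijective
for all q and all A; (ii) φ^0(M) is bijective and φ^q(M) is surjective for q > 0, for all M in E;
(iii) φ^0(A) is bijective for all A and T' is effaceable in every degree > 0 (in the same
element-wise sense). Stated as (i) ⇔ (ii) together with (i) ⇔ (iii). -/
theorem result {C : Type u} [Category.{v} C] [Abelian C]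
    (T T' : DeltaF.CohDeltaFunctor C AddCommGrpCat.{w} ℕ) (hT0 : T.ZeroMono) (hT'0 : T'.ZeroMono)
    (hT : ∀ (q : ℕ) (A : C) (α : (T.F (q + 1)).obj A),
      ∃ (M : C) (u : A ⟶ M), Mono u ∧ (T.F (q + 1)).map u α = 0)
    (φ : T ⟶ T') (E : ObjectProperty C)
    (hE : ∀ A : C, ∃ (M : C) (i : A ⟶ M), Mono i ∧ E M) :
    ((∀ (q : ℕ) (A : C), IsIso ((φ.app q).app A)) ↔
      ((∀ M : C, E M → IsIso ((φ.app 0).app M)) ∧
        ∀ (q : ℕ) (M : C), E M → Epi ((φ.app (q + 1)).app M))) ∧
    ((∀ (q : ℕ) (A : C), IsIso ((φ.app q).app A)) ↔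
      ((∀ A : C, IsIso ((φ.app 0).app A)) ∧
        ∀ (q : ℕ) (A : C) (α : (T'.F (q + 1)).obj A),
          ∃ (M : C) (u : A ⟶ M), Mono u ∧ (T'.F (q + 1)).map u α = 0)) := by
  have hb : ∀ (q : ℕ) (A : C), IsIso ((φ.app q).app A) ↔
      Function.Bijective ((φ.app q).app A).hom :=
    fun q A => ConcreteCategory.isIso_iff_bijective _
  have he : ∀ (q : ℕ) (A : C), Epi ((φ.app q).app A) ↔
      Function.Surjective ((φ.app q).app A).hom :=
    fun q A => AddCommGrpCat.epi_iff_surjective _
  obtain ⟨m1, m2⟩ := Groth.Agent.Lib.DeltaAb.main φ E hE hT0 hT'0 hT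
  refine ⟨⟨fun h => ?_, fun h => ?_⟩, ⟨fun h => ?_, fun h => ?_⟩⟩
  · obtain ⟨a, b⟩ := m1.mp (fun q A => (hb q A).mp (h q A))
    exact ⟨fun M hM => (hb 0 M).mpr (a M hM), fun q M hM => (he (q + 1) M).mpr (b q M hM)⟩
  · exact fun q A => (hb q A).mpr (m1.mpr ⟨fun M hM => (hb 0 M).mp (h.1 M hM),
      fun q M hM => (he (q + 1) M).mp (h.2 q M hM)⟩ q A)
  · obtain ⟨a, b⟩ := m2.mp (fun q A => (hb q A).mp (h q A))
    exact ⟨fun A => (hb 0 A).mpr (a A), b⟩
  · exact fun q A => (hb q A).mpr (m2.mpr ⟨fun A => (hb 0 A).mp (h.1 A), h.2⟩ q A)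

end Groth.Agent.S8611
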