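import Groth.Statements.S8637
import Mathlib.Tactic

set_option autoImplicit false
open Zeta

namespace Groth.Agent.S8637

/-- First assertion, for a finite family: let (f_i) be finitely many formal power series with real
coefficients, each with constant term 1 and all coefficients ≥ 0, and let f be their product. Then
for every i and every n the n-th coefficient of f_i is at most the n-th coefficient of f (so the
radius of absolute convergence of f_i is at least that of f). (Stated for a finite family; for an
infinite product whose factors f_i - 1 have orders tending to infinity each coefficient is that of a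
finite sub-product, so the same inequality holds.) -/
theorem result {ι : Type} (s : Finset ι) (f : ι → PowerSeries ℝ)
    (h0 : ∀ i ∈ s, PowerSeries.constantCoeff (f i) = 1)
    (hpos : ∀ i ∈ s, ∀ n : ℕ, 0 ≤ PowerSeries.coeff n (f i)) (i : ι) (hi : i ∈ s) (n : ℕ) :
    PowerSeries.coeff n (f i) ≤ PowerSeries.coeff n (∏ j ∈ s, f j) := by
  classical
  rw [← Finset.mul_prod_erase s f hi]
  set g := ∏ j ∈ s.erase i, f j with hg
  have hg0 : PowerSeries.coeff 0 g = 1 := by
    rw [PowerSeries.coeff_zero_eq_constantCoeff_apply, hg, map_prod]
    exact Finset.prod_eq_one (fun j hj => h0 j (Finset.mem_of_mem_erase hj))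
  have hgpos : ∀ m : ℕ, 0 ≤ PowerSeries.coeff m g := by
    intro m
    rw [hg]
    have : ∀ t : Finset ι, t ⊆ s → ∀ m : ℕ, 0 ≤ PowerSeries.coeff m (∏ j ∈ t, f j) := by
      intro t
      induction t using Finset.induction_on with
      | empty =>
        intro _ m
        simp only [Finset.prod_empty, PowerSeries.coeff_one]
        split_ifs <;> norm_num
      | insert a t ha ih =>
        intro hts m
        rw [Finset.prod_insert ha, PowerSeries.coeff_mul]
        refine Finset.sum_nonneg (fun x _ => mul_nonneg ?_ ?_)
        · exact hpos a (hts (Finset.mem_insert_self a t)) _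
        · exact ih (fun j hj => hts (Finset.mem_insert_of_mem hj)) _
    exact this _ (Finset.erase_subset i s) m
  rw [PowerSeries.coeff_mul]
  have hmem : (n, 0) ∈ Finset.antidiagonal n := by simp
  calc PowerSeries.coeff n (f i) = PowerSeries.coeff n (f i) * PowerSeries.coeff 0 g := by
        rw [hg0, mul_one]
    _ ≤ ∑ p ∈ Finset.antidiagonal n, PowerSeries.coeff p.1 (f i) * PowerSeries.coeff p.2 g :=
        Finset.single_le_sum (f := fun p : ℕ × ℕ => PowerSeries.coeff p.1 (f i) * PowerSeries.coeff p.2 g)
          (fun p _ => mul_nonneg (hpos i hi _) (hgpos _)) hmem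

end Groth.Agent.S8637
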