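import Groth.Statements.S8678
import Mathlib.Tactic
import Groth.Agent.Lib.LambdaRing_helper1

set_option autoImplicit false
universe u
open Finset
open LambdaRing

namespace Groth.Agent.S8678

/-- As the identity it proves in the pre-λ-ring K(Y') of the exceptional divisor: let K be a pre-λ-ring
(λ^0 = 1, λ^1 = id, additive formula) with λ^k(1) = 0 for all k ≥ 2, let d ≥ 2, and let F, L, N' ∈ K
satisfy λ^j(L) = 0 for j ≥ 2 (L is the class of an invertible module), λ^i(N') = 0 for i ≥ d − 1 (N'
is the class of a bundle of rank d − 2) and F + L = N' + 2 (for the blowing up of a regular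
immersion of codimension d: on the exceptional divisor the pulled-back conormal class is F + L, and
N = N' + 2). Then 1 − L divides λ_{−1}(F) = Σ_{i<d} (−1)^i λ^i(F). (The published proof uses only
additivity of λ_t and λ_t(1) = 1 + t, the hypotheses taken here.) -/
theorem result (K : Type u) [CommRing K] [LambdaRing.LambdaOps K]
    (h1 : ∀ k : ℕ, 2 ≤ k → LambdaRing.LambdaOps.lam k (1 : K) = 0) (d : ℕ) (hd : 2 ≤ d) (F L N' : K)
    (hL : ∀ j : ℕ, 2 ≤ j → LambdaRing.LambdaOps.lam j L = 0) (hN' : ∀ i : ℕ, d - 1 ≤ i → LambdaRing.LambdaOps.lam i N' = 0)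
    (hrel : F + L = N' + 2) :
    (1 - L) ∣ ∑ i ∈ range d, (-1 : K) ^ i * LambdaRing.LambdaOps.lam i F := by
  obtain ⟨e, rfl⟩ : ∃ e, d = e + 2 := ⟨d - 2, by omega⟩
  have hF : F = ((N' - L) + 1) + 1 := by
    have : F = N' + 2 - L := by rw [← hrel]; ring
    rw [this]; ring
  have hH : LambdaRing.LambdaOps.lam (e + 1) (N' - L) = -L * LambdaRing.LambdaOps.lam e (N' - L) := by
    rw [Groth.Agent.Lib.LambdaRingH1.lam_sub_line hL, Groth.Agent.Lib.LambdaRingH1.lam_sub_line hL,
      Finset.sum_range_succ, hN' (e + 1) (by omega), zero_mul, add_zero, Finset.mul_sum]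
    refine Finset.sum_congr rfl (fun j hj => ?_)
    rw [Finset.mem_range] at hj
    have : e + 1 - j = (e - j) + 1 := by omega
    rw [this, pow_succ]
    ring
  rw [hF, Groth.Agent.Lib.LambdaRingH1.sum_alternating_lam_add_one h1 (e + 1),
    Groth.Agent.Lib.LambdaRingH1.lam_succ_add_one h1, hH]
  exact ⟨(-1) ^ (e + 1) * LambdaRing.LambdaOps.lam e (N' - L), by ring⟩

end Groth.Agent.S8678
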