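import Groth.Statements.S8684
import Groth.Agent.Lib.LambdaUnivB_helper1

set_option autoImplicit false
universe u
open LambdaRing

namespace Groth.Agent.S8684

/-- For every n there is a polynomial P ∈ ℤ[X_1, …, X_n, Y_1, …, Y_n] such that substituting the k-th
elementary symmetric functions of two families T, U of n variables for X_k and Y_k yields the n-th
elementary symmetric function of the n² products T_a U_b, and P is isobaric of weight n separately
in the X_k and in the Y_k, the variables X_k and Y_k having weight k. -/
theorem result (n : ℕ) :
    ∃ P : MvPolynomial (Fin n ⊕ Fin n) ℤ, LambdaRing.IsMulPoly n P := by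
  obtain ⟨P, h1, h2⟩ := Groth.Agent.Lib.LambdaUnivH1.exists_P_level n n
  exact ⟨P, h1, h2⟩

end Groth.Agent.S8684
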