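import Groth.Statements.S8685
import Groth.Agent.Lib.LambdaUnivB_helper1

set_option autoImplicit false
universe u
open LambdaRing

namespace Groth.Agent.S8685

/-- For all i, j there is a polynomial Q ∈ ℤ[X_1, …, X_{ij}] such that substituting the k-th elementary
symmetric function of ij variables T for X_k yields the j-th elementary symmetric function of the
products of the T_a over the i-element subsets of the variables, and Q is isobaric of weight ij, the
variable X_k having weight k. -/
theorem result (i j : ℕ) :
    ∃ Q : MvPolynomial (Fin (i * j)) ℤ, LambdaRing.IsCompPoly i j Q := by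
  obtain ⟨Q, h1, h2⟩ := Groth.Agent.Lib.LambdaUnivH1.exists_Q_level (i * j) i j
  exact ⟨Q, h1, h2⟩

end Groth.Agent.S8685
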