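import Groth.Statements.S8704
import Mathlib
import Groth.Agent.Lib.LambdaGamma_helper1

set_option autoImplicit false
universe u v
open LambdaRing

namespace Groth.Agent.S8704

section aux
open Groth.Agent.Lib.LambdaRingH1 Finset

variable {K : Type u} [CommRing K] {A : Type v} [CommRing A] [LambdaOps A] [Algebra K A]
  (ε : A →ₐ[K] K) (S : Set A)

/-- `S`-monomials of weight at least `m` -/
def Mon (m : ℕ) : Set A :=
  {y : A | ∃ l : List (ℕ × A), (∀ p ∈ l, p.2 ∈ S) ∧ m ≤ (l.map Prod.fst).sum ∧
        y = (l.map fun p => LambdaRing.gamma p.1 (p.2 - algebraMap K A (ε p.2))).prod}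

/-- their `K`-span -/
def W (m : ℕ) : Submodule K A := Submodule.span K (Mon ε S m)

lemma W_mono {m m' : ℕ} (h : m ≤ m') : W ε S m' ≤ W ε S m := by
  apply Submodule.span_mono
  rintro y ⟨l, h1, h2, h3⟩
  exact ⟨l, h1, h.trans h2, h3⟩

lemma W_mul {a b : ℕ} {y z : A} (hy : y ∈ W ε S a) (hz : z ∈ W ε S b) :
    y * z ∈ W ε S (a + b) := by
  have h1 : W ε S a * W ε S b ≤ W ε S (a + b) := by
    unfold W
    rw [Submodule.span_mul_span]
    apply Submodule.span_mono
    rintro _ ⟨y, ⟨l₁, h₁, hw₁, rfl⟩, z, ⟨l₂, h₂, hw₂, rfl⟩, rfl⟩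
    refine ⟨l₁ ++ l₂, ?_, ?_, ?_⟩
    · intro p hp
      rcases List.mem_append.mp hp with h | h
      · exact h₁ p h
      · exact h₂ p h
    · rw [List.map_append, List.sum_append]; omega
    · rw [List.map_append, List.prod_append]
  exact h1 (Submodule.mul_mem_mul hy hz)

lemma one_mem_W0 : (1 : A) ∈ W ε S 0 :=
  Submodule.subset_span ⟨[], by simp, by simp, by simp⟩

omit [Algebra K A] in
lemma gamma_zero_arg (i : ℕ) : LambdaRing.gamma i (0 : A) = if i = 0 then 1 else 0 := by
  have := congrArg (PowerSeries.coeff i) (gammaSeries_zero (K := A))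
  rw [coeff_gammaSeries, PowerSeries.coeff_one] at this
  exact this

omit [Algebra K A] in
lemma gamma_one_arg (x : A) : LambdaRing.gamma 1 x = x := by
  simp [LambdaRing.gamma, Finset.sum_range_succ, LambdaOps.lam_one]

/-- all `γ^i y` lie in `W i` -/
def Good (y : A) : Prop := ∀ i, LambdaRing.gamma i y ∈ W ε S i

lemma good_zero : Good ε S 0 := by
  intro i
  rw [gamma_zero_arg]
  split_ifs with h
  · subst h; exact one_mem_W0 ε S
  · exact Submodule.zero_mem _

lemma good_add {y z : A} (hy : Good ε S y) (hz : Good ε S z) : Good ε S (y + z) := by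
  intro i
  rw [gamma_add]
  refine Submodule.sum_mem _ fun j hj => ?_
  have hj' := Finset.mem_range.mp hj
  have := W_mul ε S (hy j) (hz (i - j))
  rwa [Nat.add_sub_cancel' (by omega)] at this

lemma good_neg {y : A} (hy : Good ε S y) : Good ε S (-y) := by
  intro i
  induction i using Nat.strong_induction_on with
  | _ i ih =>
    rcases i with _ | n
    · have : LambdaRing.gamma 0 (-y) = 1 := by simp [LambdaRing.gamma]
      rw [this]; exact one_mem_W0 ε S
    · have h1 : gammaSeries (-y) * gammaSeries y = 1 := by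
        rw [← gammaSeries_add, neg_add_cancel, gammaSeries_zero]
      have h2 := congrArg (PowerSeries.coeff (n + 1)) h1
      rw [PowerSeries.coeff_mul, Finset.Nat.sum_antidiagonal_eq_sum_range_succ_mk,
        PowerSeries.coeff_one, if_neg (by omega)] at h2
      simp only [coeff_gammaSeries, Nat.succ_eq_add_one] at h2
      have h3 : LambdaRing.gamma 0 y = 1 := by simp [LambdaRing.gamma]
      rw [Finset.sum_range_succ, Nat.sub_self, h3, mul_one] at h2
      have h4 : LambdaRing.gamma (n + 1) (-y) =
          - ∑ j ∈ range (n + 1), LambdaRing.gamma j (-y) * LambdaRing.gamma (n + 1 - j) y := by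
        rw [eq_neg_iff_add_eq_zero, add_comm]; exact h2
      rw [h4]
      refine Submodule.neg_mem _ (Submodule.sum_mem _ fun j hj => ?_)
      have hj' := Finset.mem_range.mp hj
      have := W_mul ε S (ih j (by omega)) (hy (n + 1 - j))
      rwa [Nat.add_sub_cancel' (by omega)] at this

lemma good_S {s : A} (hs : s ∈ S) : Good ε S (s - algebraMap K A (ε s)) := by
  intro i
  exact Submodule.subset_span ⟨[(i, s)], by simpa using hs, by simp, by simp⟩

lemma good_theta (hS : AddSubgroup.closure S = ⊤) (a : A) :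
    Good ε S (a - algebraMap K A (ε a)) := by
  have ha : a ∈ AddSubgroup.closure S := by rw [hS]; trivial
  induction ha using AddSubgroup.closure_induction with
  | mem s hs => exact good_S ε S hs
  | zero => simpa using good_zero ε S
  | add x y _ _ hx hy =>
    have : x + y - algebraMap K A (ε (x + y)) =
        (x - algebraMap K A (ε x)) + (y - algebraMap K A (ε y)) := by
      rw [map_add, map_add]; ring
    rw [this]; exact good_add ε S hx hy
  | neg x _ hx =>
    have : -x - algebraMap K A (ε (-x)) = -(x - algebraMap K A (ε x)) := by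
      rw [map_neg, map_neg]; ring
    rw [this]; exact good_neg ε S hx

lemma mem_W0 (hS : AddSubgroup.closure S = ⊤) (a : A) : a ∈ W ε S 0 := by
  have h1 : a - algebraMap K A (ε a) ∈ W ε S 0 := by
    have := good_theta ε S hS a 1
    rw [gamma_one_arg] at this
    exact W_mono ε S (Nat.zero_le 1) this
  have h2 : algebraMap K A (ε a) ∈ W ε S 0 := by
    rw [Algebra.algebraMap_eq_smul_one]
    exact Submodule.smul_mem _ _ (one_mem_W0 ε S)
  have := Submodule.add_mem _ h1 h2
  rwa [sub_add_cancel] at this

lemma prod_mem (hS : AddSubgroup.closure S = ⊤) (l : List (ℕ × A)) (hl : ∀ p ∈ l, ε p.2 = 0) :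
    (l.map fun p => LambdaRing.gamma p.1 p.2).prod ∈ W ε S (l.map Prod.fst).sum := by
  induction l with
  | nil => simpa using one_mem_W0 ε S
  | cons p l ih =>
    simp only [List.map_cons, List.prod_cons, List.sum_cons]
    apply W_mul
    · have := good_theta ε S hS p.2 p.1
      rwa [hl p (by simp), map_zero, sub_zero] at this
    · exact ih fun q hq => hl q (List.mem_cons_of_mem _ hq)

end aux


/-- Let K and A be λ-rings in the strict sense, A an augmented K-λ-algebra with augmentation ε : A → K,
and Fil^n A its γ-filtration, the ideal generated by the products γ^{i_1}(x_1) ⋯ γ^{i_k}(x_k) with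
i_1 + ⋯ + i_k ≥ n and all ε(x_r) = 0. If a subset S generates A as an abelian group, then Fil^n A,
as a K-submodule of A, is generated over K by the products γ^{i_1}(s_1 − ε(s_1)) ⋯ γ^{i_k}(s_k −
ε(s_k)) with s_r ∈ S and i_1 + ⋯ + i_k ≥ n. -/
theorem result
    (K : Type u) [CommRing K] [LambdaRing.LambdaOps K] (hK : LambdaRing.IsSpecial K)
    (A : Type v) [CommRing A] [LambdaRing.LambdaOps A] [Algebra K A] (hA : LambdaRing.IsSpecial A)
    (ε : A →ₐ[K] K) (hε : LambdaRing.IsAugLambdaAlg K A ε)
    (S : Set A) (hS : AddSubgroup.closure S = ⊤) (n : ℕ) :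
    (LambdaRing.gammaFil (ε : A →+* K) n).restrictScalars K =
      Submodule.span K {y : A | ∃ l : List (ℕ × A), (∀ p ∈ l, p.2 ∈ S) ∧ n ≤ (l.map Prod.fst).sum ∧
        y = (l.map fun p => LambdaRing.gamma p.1 (p.2 - algebraMap K A (ε p.2))).prod} := by
  classical
  apply le_antisymm
  · intro y hy
    have hy' : y ∈ LambdaRing.gammaFil (ε : A →+* K) n := hy
    let I : Ideal A :=
      { carrier := W ε S n
        add_mem' := fun ha hb => (W ε S n).add_mem ha hb
        zero_mem' := (W ε S n).zero_mem
        smul_mem' := fun a y hy => by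
          show a * y ∈ W ε S n
          have := W_mul ε S (mem_W0 ε S hS a) hy
          rwa [zero_add] at this }
    have hle : LambdaRing.gammaFil (ε : A →+* K) n ≤ I := by
      unfold LambdaRing.gammaFil
      rw [Ideal.span_le]
      rintro y ⟨l, hl, hw, rfl⟩
      exact W_mono ε S hw (prod_mem ε S hS l hl)
    exact hle hy'
  · rw [Submodule.span_le]
    rintro y ⟨l, hl, hw, rfl⟩
    show _ ∈ LambdaRing.gammaFil (ε : A →+* K) n
    apply Ideal.subset_span
    refine ⟨l.map (fun p => (p.1, p.2 - algebraMap K A (ε p.2))), ?_, ?_, ?_⟩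
    · intro p hp
      obtain ⟨q, _, rfl⟩ := List.mem_map.mp hp
      show ε (q.2 - algebraMap K A (ε q.2)) = 0
      simp
    · rw [List.map_map]; exact hw
    · rw [List.map_map]; rfl

end Groth.Agent.S8704
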