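import Groth.Statements.S8705
import Mathlib

set_option autoImplicit false
universe u
open SGA7

namespace Groth.Agent.S8705

structure TwExt (A P : Type*) where
  fst : A
  snd : P

namespace TwExt
variable {A P : Type*} [AddCommGroup A] [AddCommGroup P]

theorem ext' {x y : TwExt A P} (h1 : x.fst = y.fst) (h2 : x.snd = y.snd) : x = y := by
  cases x; cases y
  simp only at h1 h2
  subst h1; subst h2; rfl

def add (c : P → P → A) (x y : TwExt A P) : TwExt A P :=
  ⟨x.fst + y.fst + c x.snd y.snd, x.snd + y.snd⟩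
def zero (c : P → P → A) : TwExt A P := ⟨- c 0 0, 0⟩
def neg (c : P → P → A) (x : TwExt A P) : TwExt A P :=
  ⟨- x.fst - c x.snd (-x.snd) - c 0 0, - x.snd⟩

theorem c_zero_left (c : P → P → A)
    (hcoc : ∀ p q r, c (p + q) r - c p (q + r) + c p q - c q r = 0) (p : P) : c 0 p = c 0 0 := by
  have h := hcoc 0 0 p
  rw [add_zero, zero_add] at h
  have h2 : c 0 0 - c 0 p = 0 := by rw [← h]; abel
  exact (sub_eq_zero.mp h2).symm

theorem add_assoc' (c : P → P → A)
    (hcoc : ∀ p q r, c (p + q) r - c p (q + r) + c p q - c q r = 0) (x y z : TwExt A P) :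
    add c (add c x y) z = add c x (add c y z) := by
  apply ext'
  · show x.fst + y.fst + c x.snd y.snd + z.fst + c (x.snd + y.snd) z.snd
      = x.fst + (y.fst + z.fst + c y.snd z.snd) + c x.snd (y.snd + z.snd)
    have key : (x.fst + y.fst + c x.snd y.snd + z.fst + c (x.snd + y.snd) z.snd)
        - (x.fst + (y.fst + z.fst + c y.snd z.snd) + c x.snd (y.snd + z.snd))
        = c (x.snd + y.snd) z.snd - c x.snd (y.snd + z.snd) + c x.snd y.snd - c y.snd z.snd := by
      abel
    rw [hcoc] at key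
    exact sub_eq_zero.mp key
  · exact _root_.add_assoc x.snd y.snd z.snd

theorem zero_add' (c : P → P → A)
    (hcoc : ∀ p q r, c (p + q) r - c p (q + r) + c p q - c q r = 0) (x : TwExt A P) :
    add c (zero c) x = x := by
  apply ext'
  · show - c 0 0 + x.fst + c 0 x.snd = x.fst
    rw [c_zero_left c hcoc x.snd]; abel
  · exact _root_.zero_add x.snd

theorem add_zero' (c : P → P → A)
    (hcoc : ∀ p q r, c (p + q) r - c p (q + r) + c p q - c q r = 0)
    (hsym : ∀ p q, c p q = c q p) (x : TwExt A P) :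
    add c x (zero c) = x := by
  apply ext'
  · show x.fst + - c 0 0 + c x.snd 0 = x.fst
    rw [hsym x.snd 0, c_zero_left c hcoc x.snd]; abel
  · exact _root_.add_zero x.snd

theorem neg_add_cancel' (c : P → P → A) (hsym : ∀ p q, c p q = c q p) (x : TwExt A P) :
    add c (neg c x) x = zero c := by
  apply ext'
  · show - x.fst - c x.snd (-x.snd) - c 0 0 + x.fst + c (-x.snd) x.snd = - c 0 0
    rw [hsym (-x.snd) x.snd]; abel
  · exact _root_.neg_add_cancel x.snd

theorem add_comm' (c : P → P → A) (hsym : ∀ p q, c p q = c q p) (x y : TwExt A P) :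
    add c x y = add c y x := by
  apply ext'
  · show x.fst + y.fst + c x.snd y.snd = y.fst + x.fst + c y.snd x.snd
    rw [hsym x.snd y.snd]; abel
  · exact _root_.add_comm x.snd y.snd

@[reducible] def instAddCommGroup (c : P → P → A)
    (hcoc : ∀ p q r, c (p + q) r - c p (q + r) + c p q - c q r = 0)
    (hsym : ∀ p q, c p q = c q p) : AddCommGroup (TwExt A P) :=
  letI iA : Add (TwExt A P) := ⟨add c⟩
  letI iZ : Zero (TwExt A P) := ⟨zero c⟩
  letI iN : Neg (TwExt A P) := ⟨neg c⟩
  { add := add c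
    zero := zero c
    neg := neg c
    add_assoc := add_assoc' c hcoc
    zero_add := zero_add' c hcoc
    add_zero := add_zero' c hcoc hsym
    nsmul := nsmulRec
    neg_add_cancel := neg_add_cancel' c hsym
    add_comm := add_comm' c hsym
    zsmul := zsmulRec }

end TwExt

theorem lhom_ext_one {α M : Type*} [AddCommGroup M] (f g : (α →₀ ℤ) →ₗ[ℤ] M)
    (h : ∀ a, f (Finsupp.single a 1) = g (Finsupp.single a 1)) : f = g := by
  apply Finsupp.lhom_ext
  intro a b
  have h1 : Finsupp.single a b = b • Finsupp.single a (1 : ℤ) := by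
    rw [Finsupp.smul_single, smul_eq_mul, mul_one]
  rw [h1, map_smul, map_smul, h]

theorem ker_le_of_cocycle {P : Type*} [AddCommGroup P] (K : Submodule ℤ (P × P →₀ ℤ))
    (hcocK : ∀ p q r : P, (Finsupp.single (p + q, r) (1 : ℤ) - Finsupp.single (p, q + r) 1
      + Finsupp.single (p, q) 1 - Finsupp.single (q, r) 1 : P × P →₀ ℤ) ∈ K)
    (hsymK : ∀ p q : P, (Finsupp.single (p, q) (1 : ℤ) - Finsupp.single (q, p) 1 : P × P →₀ ℤ) ∈ K)
    (d₀ : (P × P →₀ ℤ) →ₗ[ℤ] (P →₀ ℤ))
    (hd₀ : ∀ p q : P, d₀ (Finsupp.single (p, q) 1)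
      = Finsupp.single (p + q) 1 - Finsupp.single p 1 - Finsupp.single q 1) :
    LinearMap.ker d₀ ≤ K := by
  classical
  let c : P → P → ((P × P →₀ ℤ) ⧸ K) := fun p q => K.mkQ (Finsupp.single (p, q) 1)
  have hcoc : ∀ p q r, c (p + q) r - c p (q + r) + c p q - c q r = 0 := by
    intro p q r
    show K.mkQ _ - K.mkQ _ + K.mkQ _ - K.mkQ _ = 0
    rw [← map_sub, ← map_add, ← map_sub]
    exact (Submodule.Quotient.mk_eq_zero K).mpr (hcocK p q r)
  have hsym : ∀ p q, c p q = c q p := by
    intro p q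
    apply sub_eq_zero.mp
    show K.mkQ _ - K.mkQ _ = 0
    rw [← map_sub]
    exact (Submodule.Quotient.mk_eq_zero K).mpr (hsymK p q)
  have h0 : ∀ p, c 0 p = c 0 0 := TwExt.c_zero_left c hcoc
  letI inst : AddCommGroup (TwExt ((P × P →₀ ℤ) ⧸ K) P) := TwExt.instAddCommGroup c hcoc hsym
  have hadd : ∀ x y : TwExt ((P × P →₀ ℤ) ⧸ K) P,
      x + y = ⟨x.fst + y.fst + c x.snd y.snd, x.snd + y.snd⟩ := fun x y => rfl
  let Θ : (P →₀ ℤ) →ₗ[ℤ] TwExt ((P × P →₀ ℤ) ⧸ K) P :=
    Finsupp.linearCombination ℤ (fun p => (⟨0, p⟩ : TwExt ((P × P →₀ ℤ) ⧸ K) P))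
  have hΘ : ∀ p, Θ (Finsupp.single p 1) = ⟨0, p⟩ := by
    intro p
    show Finsupp.linearCombination ℤ _ (Finsupp.single p 1) = _
    rw [Finsupp.linearCombination_single, one_smul]
  let ι : ((P × P →₀ ℤ) ⧸ K) →+ TwExt ((P × P →₀ ℤ) ⧸ K) P :=
    AddMonoidHom.mk' (fun a => (⟨a - c 0 0, 0⟩ : TwExt ((P × P →₀ ℤ) ⧸ K) P)) (by
      intro a b
      rw [hadd]
      apply TwExt.ext'
      · show a + b - c 0 0 = a - c 0 0 + (b - c 0 0) + c 0 0
        abel
      · show (0 : P) = 0 + 0
        rw [add_zero])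
  have hι : ∀ a, ι a = ⟨a - c 0 0, 0⟩ := fun a => rfl
  have hιinj : Function.Injective ι := by
    intro a b hab
    rw [hι, hι] at hab
    have h1 := congrArg TwExt.fst hab
    exact sub_left_inj.mp h1
  have hkey : Θ ∘ₗ d₀ = - (ι.toIntLinearMap ∘ₗ K.mkQ) := by
    apply lhom_ext_one
    rintro ⟨p, q⟩
    rw [LinearMap.comp_apply, hd₀, map_sub, map_sub, hΘ, hΘ, hΘ, LinearMap.neg_apply,
      LinearMap.comp_apply, AddMonoidHom.coe_toIntLinearMap, ← map_neg, sub_sub,
      sub_eq_iff_eq_add, hι, hadd, hadd]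
    apply TwExt.ext'
    · show (0 : (P × P →₀ ℤ) ⧸ K) = -K.mkQ (Finsupp.single (p, q) 1) - c 0 0
        + (0 + 0 + c p q) + c 0 (p + q)
      rw [h0 (p + q)]
      show (0 : (P × P →₀ ℤ) ⧸ K) = -c p q - c 0 0 + (0 + 0 + c p q) + c 0 0
      abel
    · show p + q = 0 + (p + q)
      rw [zero_add]
  intro z hz
  rw [LinearMap.mem_ker] at hz
  have h1 := LinearMap.congr_fun hkey z
  rw [LinearMap.comp_apply, hz, map_zero, LinearMap.neg_apply, LinearMap.comp_apply,
    AddMonoidHom.coe_toIntLinearMap] at h1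
  have h2 : ι (K.mkQ z) = ι 0 := by
    rw [map_zero]
    exact neg_eq_zero.mp h1.symm
  have h3 := hιinj h2
  exact (Submodule.Quotient.mk_eq_zero K).mp h3


/-- In the case of the punctual topos (ordinary abelian groups): let P be an abelian group and consider
the complex of free abelian groups Z[P × P × P] ⊕ Z[P × P] → Z[P × P] → Z[P], augmented to P by [p]
↦ p, with d₀[p, q] = [p + q] − [p] − [q], with d₁ on the first summand given by [p, q, r] ↦ [p + q,
r] − [p, q + r] + [p, q] − [q, r] and on the second summand by [p, q] ↦ [p, q] − [q, p]. Then the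
augmentation is surjective with kernel the image of d₀ (so H₀ is P), and the kernel of d₀ is the sum
of the images of the two components of d₁ (so H₁ vanishes). (The published statement is for abelian
sheaves on an arbitrary topos; this row is its case of a one-point space.) -/
theorem result (P : Type u) [AddCommGroup P] :
    letI ε : (P →₀ ℤ) →ₗ[ℤ] P := Finsupp.linearCombination ℤ (fun p : P => p)
    letI d₀ : (P × P →₀ ℤ) →ₗ[ℤ] (P →₀ ℤ) := Finsupp.linearCombination ℤ
      (fun pq : P × P => Finsupp.single (pq.1 + pq.2) 1 - Finsupp.single pq.1 1 - Finsupp.single pq.2 1)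
    letI d₁ : (P × P × P →₀ ℤ) →ₗ[ℤ] (P × P →₀ ℤ) := Finsupp.linearCombination ℤ
      (fun t : P × P × P => Finsupp.single (t.1 + t.2.1, t.2.2) 1 - Finsupp.single (t.1, t.2.1 + t.2.2) 1
        + Finsupp.single (t.1, t.2.1) 1 - Finsupp.single (t.2.1, t.2.2) 1)
    letI d₁' : (P × P →₀ ℤ) →ₗ[ℤ] (P × P →₀ ℤ) := Finsupp.linearCombination ℤ
      (fun pq : P × P => Finsupp.single pq 1 - Finsupp.single (pq.2, pq.1) 1)
    Function.Surjective ε ∧ LinearMap.ker ε = LinearMap.range d₀ ∧
      LinearMap.ker d₀ = LinearMap.range d₁ ⊔ LinearMap.range d₁' := by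
  let ε : (P →₀ ℤ) →ₗ[ℤ] P := Finsupp.linearCombination ℤ (fun p : P => p)
  let d₀ : (P × P →₀ ℤ) →ₗ[ℤ] (P →₀ ℤ) := Finsupp.linearCombination ℤ
    (fun pq : P × P => Finsupp.single (pq.1 + pq.2) 1 - Finsupp.single pq.1 1 - Finsupp.single pq.2 1)
  let d₁ : (P × P × P →₀ ℤ) →ₗ[ℤ] (P × P →₀ ℤ) := Finsupp.linearCombination ℤ
    (fun t : P × P × P => Finsupp.single (t.1 + t.2.1, t.2.2) 1 - Finsupp.single (t.1, t.2.1 + t.2.2) 1
      + Finsupp.single (t.1, t.2.1) 1 - Finsupp.single (t.2.1, t.2.2) 1)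
  let d₁' : (P × P →₀ ℤ) →ₗ[ℤ] (P × P →₀ ℤ) := Finsupp.linearCombination ℤ
    (fun pq : P × P => Finsupp.single pq 1 - Finsupp.single (pq.2, pq.1) 1)
  show Function.Surjective ε ∧ LinearMap.ker ε = LinearMap.range d₀ ∧
    LinearMap.ker d₀ = LinearMap.range d₁ ⊔ LinearMap.range d₁'
  have hε : ∀ p : P, ε (Finsupp.single p 1) = p := by
    intro p
    show Finsupp.linearCombination ℤ _ (Finsupp.single p 1) = _
    rw [Finsupp.linearCombination_single, one_smul]
  have hd₀ : ∀ p q : P, d₀ (Finsupp.single (p, q) 1)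
      = Finsupp.single (p + q) 1 - Finsupp.single p 1 - Finsupp.single q 1 := by
    intro p q
    show Finsupp.linearCombination ℤ _ (Finsupp.single (p, q) 1) = _
    rw [Finsupp.linearCombination_single, one_smul]
  have hd₁ : ∀ p q r : P, d₁ (Finsupp.single (p, q, r) 1)
      = Finsupp.single (p + q, r) 1 - Finsupp.single (p, q + r) 1
        + Finsupp.single (p, q) 1 - Finsupp.single (q, r) 1 := by
    intro p q r
    show Finsupp.linearCombination ℤ _ (Finsupp.single (p, q, r) 1) = _
    rw [Finsupp.linearCombination_single, one_smul]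
  have hd₁' : ∀ p q : P, d₁' (Finsupp.single (p, q) 1)
      = Finsupp.single (p, q) 1 - Finsupp.single (q, p) 1 := by
    intro p q
    show Finsupp.linearCombination ℤ _ (Finsupp.single (p, q) 1) = _
    rw [Finsupp.linearCombination_single, one_smul]
  refine ⟨fun p => ⟨Finsupp.single p 1, hε p⟩, ?_, ?_⟩
  · apply le_antisymm
    · -- ker ε ≤ range d₀
      let π := (LinearMap.range d₀).mkQ
      let φ : P →+ ((P →₀ ℤ) ⧸ LinearMap.range d₀) :=
        AddMonoidHom.mk' (fun p => π (Finsupp.single p 1)) (by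
          intro p q
          have h1 : π (d₀ (Finsupp.single (p, q) 1)) = 0 :=
            (Submodule.Quotient.mk_eq_zero _).mpr (LinearMap.mem_range_self d₀ _)
          rw [hd₀, map_sub, map_sub, sub_sub, sub_eq_zero] at h1
          exact h1)
      have hφ : φ.toIntLinearMap ∘ₗ ε = π := by
        apply lhom_ext_one
        intro p
        rw [LinearMap.comp_apply, hε]
        rfl
      intro z hz
      rw [LinearMap.mem_ker] at hz
      have h1 := LinearMap.congr_fun hφ z
      rw [LinearMap.comp_apply, hz, map_zero] at h1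
      exact (Submodule.Quotient.mk_eq_zero _).mp h1.symm
    · rw [LinearMap.range_le_ker_iff]
      apply lhom_ext_one
      rintro ⟨p, q⟩
      rw [LinearMap.comp_apply, hd₀, map_sub, map_sub, hε, hε, hε, LinearMap.zero_apply]
      abel
  · apply le_antisymm
    · apply ker_le_of_cocycle _ _ _ d₀ hd₀
      · intro p q r
        rw [← hd₁]
        exact Submodule.mem_sup_left (LinearMap.mem_range_self d₁ _)
      · intro p q
        rw [← hd₁']
        exact Submodule.mem_sup_right (LinearMap.mem_range_self d₁' _)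
    · apply sup_le
      · rw [LinearMap.range_le_ker_iff]
        apply lhom_ext_one
        rintro ⟨p, q, r⟩
        rw [LinearMap.comp_apply, hd₁, map_sub, map_add, map_sub, hd₀, hd₀, hd₀, hd₀,
          LinearMap.zero_apply, add_assoc p q r]
        abel
      · rw [LinearMap.range_le_ker_iff]
        apply lhom_ext_one
        rintro ⟨p, q⟩
        rw [LinearMap.comp_apply, hd₁', map_sub, hd₀, hd₀, LinearMap.zero_apply, add_comm q p]
        abel

end Groth.Agent.S8705
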