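import Groth.Statements.S8710
import Mathlib
import Groth.Agent.Lib.TorLES_helper5

set_option autoImplicit false
universe u
open CategoryTheory CategoryTheory.Limits
open SGA7

namespace Groth.Agent.S8710

/-- Let f : B' → B be a surjective map of R-algebras with B' flat over R, g : C → B a map of R-algebras,
P = B' ×_B C their fibre product (the equalizer of f ∘ pr₁ and g ∘ pr₂ in B' × C), S an R-algebra
and n a natural number. If Tor_i^R(C, S) = 0 for 0 < i < n and Tor_i^R(B, S) = 0 for 0 < i ≤ n, then
Tor_i^R(P, S) = 0 for 0 < i < n. Here Tor_i^R(M, S) is the i-th left derived functor of M ⊗_R − on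
R-modules, evaluated at S. (The published statement asks the vanishing for B only in degrees 0 < i <
n; the published proof and the corollary following it use it in degrees 0 < i ≤ n, which this row
assumes.) -/
theorem result (R B' B C S : Type u) [CommRing R] [CommRing B'] [CommRing B]
    [CommRing C] [CommRing S] [Algebra R B'] [Algebra R B] [Algebra R C] [Algebra R S]
    (f : B' →ₐ[R] B) (hf : Function.Surjective f) (g : C →ₐ[R] B) [Module.Flat R B'] (n : ℕ)
    (hC : ∀ i : ℕ, 0 < i → i < n →
      IsZero (((Tor (ModuleCat.{u} R) i).obj (ModuleCat.of R C)).obj (ModuleCat.of R S)))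
    (hB : ∀ i : ℕ, 0 < i → i ≤ n →
      IsZero (((Tor (ModuleCat.{u} R) i).obj (ModuleCat.of R B)).obj (ModuleCat.of R S))) :
    letI P := AlgHom.equalizer (f.comp (AlgHom.fst R B' C)) (g.comp (AlgHom.snd R B' C))
    ∀ i : ℕ, 0 < i → i < n →
      IsZero (((Tor (ModuleCat.{u} R) i).obj (ModuleCat.of R ↥P)).obj (ModuleCat.of R S)) := by
  intro i hi0 hin
  classical
  set P := AlgHom.equalizer (f.comp (AlgHom.fst R B' C)) (g.comp (AlgHom.snd R B' C)) with hP
  -- the maps
  let ι : ↥P →ₗ[R] (B' × C) := P.val.toLinearMap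
  let p : (B' × C) →ₗ[R] B :=
    f.toLinearMap ∘ₗ LinearMap.fst R B' C - g.toLinearMap ∘ₗ LinearMap.snd R B' C
  have hι : Function.Injective ι := Subtype.val_injective
  have hp : Function.Surjective p := by
    intro b
    obtain ⟨b', rfl⟩ := hf b
    exact ⟨(b', 0), by simp [p]⟩
  have hex : Function.Exact ι p := by
    intro x
    constructor
    · intro hx
      have hx' : f x.1 = g x.2 := by
        have : f x.1 - g x.2 = 0 := by simpa [p] using hx
        exact sub_eq_zero.mp this
      exact ⟨⟨x, by simpa [P, AlgHom.mem_equalizer] using hx'⟩, rfl⟩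
    · rintro ⟨y, rfl⟩
      obtain ⟨y, hy⟩ := y
      have hy' : f y.1 = g y.2 := by
        have := (AlgHom.mem_equalizer _ _ y).mp hy
        simpa using this
      simp [p, ι, hy']
  obtain ⟨m, rfl⟩ : ∃ m, i = m + 1 := ⟨i - 1, by omega⟩
  -- Tor_{m+1}(B' × C, S) = 0
  have hprod : TorLES.TorZero R (m + 1) (B' × C) S := by
    refine TorLES.torZero_mid (LinearMap.inl R B' C) (LinearMap.snd R B' C) S
      LinearMap.inl_injective ?_ LinearMap.snd_surjective (m + 1)
      (TorLES.torZero_succ_of_flat_left S B' m) (hC (m + 1) hi0 hin)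
    intro x
    constructor
    · intro hx
      exact ⟨x.1, by ext <;> simp_all⟩
    · rintro ⟨y, rfl⟩
      simp
  exact TorLES.torZero_left ι p S hι hex hp (m + 1) (hB (m + 2) (by omega) (by omega)) hprod

end Groth.Agent.S8710
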