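import Groth.Statements.S8724
import Mathlib

set_option autoImplicit false
open LefPen

namespace Groth.Agent.S8724


theorem auxG {R : Type*} [CommRing R] (y z : R) (c : ℕ → R) (N B : ℕ) (hNB : N < B) :
    (y - z) * ∑ i ∈ Finset.range B, ∑ j ∈ Finset.range B,
      (if i + j + 1 ≤ N then c (i + j + 1) * y ^ i * z ^ j else 0) =
    ∑ m ∈ Finset.range (N + 1), c m * (y ^ m - z ^ m) := by
  obtain ⟨T, hT⟩ : ∃ T : ℕ → ℕ → R, ∀ i j, T i j =
      if i + j ≤ N then c (i + j) * y ^ i * z ^ j else 0 := ⟨_, fun _ _ => rfl⟩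
  have h1 : ∀ i j, y * (if i + j + 1 ≤ N then c (i + j + 1) * y ^ i * z ^ j else 0)
      = T (i+1) j := by
    intro i j
    rw [hT]
    have : i + 1 + j = i + j + 1 := by ring
    rw [this]
    split_ifs
    · ring
    · simp
  have h2 : ∀ i j, z * (if i + j + 1 ≤ N then c (i + j + 1) * y ^ i * z ^ j else 0)
      = T i (j+1) := by
    intro i j
    rw [hT]
    have : i + (j + 1) = i + j + 1 := by ring
    rw [this]
    split_ifs
    · ring
    · simp
  have hTB1 : ∀ j, T B j = 0 := by
    intro j; rw [hT, if_neg]; omega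
  have hTB2 : ∀ i, T i B = 0 := by
    intro i; rw [hT, if_neg]; omega
  have e1 : ∑ i ∈ Finset.range B, ∑ j ∈ Finset.range B, T (i+1) j
      = ∑ i ∈ Finset.range B, ∑ j ∈ Finset.range B, T i j - ∑ j ∈ Finset.range B, T 0 j := by
    rw [Finset.sum_comm]
    have h3 : ∀ j, ∑ i ∈ Finset.range B, T (i+1) j = ∑ i ∈ Finset.range B, T i j - T 0 j := by
      intro j
      have h4 := Finset.sum_range_succ' (fun i => T i j) B
      have h5 := Finset.sum_range_succ (fun i => T i j) B
      rw [hTB1, add_zero] at h5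
      rw [h5] at h4
      rw [h4]; ring
    simp only [h3, Finset.sum_sub_distrib]
    rw [Finset.sum_comm]
  have e2 : ∑ i ∈ Finset.range B, ∑ j ∈ Finset.range B, T i (j+1)
      = ∑ i ∈ Finset.range B, ∑ j ∈ Finset.range B, T i j - ∑ i ∈ Finset.range B, T i 0 := by
    have h3 : ∀ i, ∑ j ∈ Finset.range B, T i (j+1) = ∑ j ∈ Finset.range B, T i j - T i 0 := by
      intro i
      have h4 := Finset.sum_range_succ' (fun j => T i j) B
      have h5 := Finset.sum_range_succ (fun j => T i j) B
      rw [hTB2, add_zero] at h5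
      rw [h5] at h4
      rw [h4]; ring
    simp only [h3, Finset.sum_sub_distrib]
  have hsub : Finset.range (N+1) ⊆ Finset.range B := Finset.range_mono hNB
  have e3 : ∑ i ∈ Finset.range B, T i 0 = ∑ m ∈ Finset.range (N+1), c m * y ^ m := by
    have h6 := Finset.sum_subset hsub (f := fun i => T i 0) (by
      intro i _ hi
      rw [Finset.mem_range] at hi
      show T i 0 = 0
      rw [hT, if_neg]; omega)
    rw [← h6]
    apply Finset.sum_congr rfl
    intro i hi
    rw [Finset.mem_range] at hi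
    show T i 0 = _
    rw [hT, if_pos (by omega)]; simp
  have e4 : ∑ j ∈ Finset.range B, T 0 j = ∑ m ∈ Finset.range (N+1), c m * z ^ m := by
    have h6 := Finset.sum_subset hsub (f := fun j => T 0 j) (by
      intro i _ hi
      rw [Finset.mem_range] at hi
      show T 0 i = 0
      rw [hT, if_neg]; omega)
    rw [← h6]
    apply Finset.sum_congr rfl
    intro i hi
    rw [Finset.mem_range] at hi
    show T 0 i = _
    rw [hT, if_pos (by omega)]; simp
  rw [sub_mul, Finset.mul_sum, Finset.mul_sum]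
  simp only [Finset.mul_sum, h1, h2]
  rw [e1, e2, e3, e4]
  simp only [mul_sub, Finset.sum_sub_distrib]
  ring



/-- The algebraic identity established in its proof: let a >= 1 and work in Z[y, z]. Then (1+y)^(a-1) -
(1+z)^(a-1) = (y - z) * (sum over i, j >= 0 with i + j + 1 <= a - 1 of C(a-1, i+j+1) y^i z^j), and
(1+y)^a z - (1+z)^a y = (y - z) * (-1 + sum over i, j >= 1 with i + j <= a of C(a, i+j) y^i z^j).
Consequently the rational function -((1+y)^(a-1) - (1+z)^(a-1)) / ((1+y)^a z - (1+z)^a y), the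
generating series of the primitive middle Hodge numbers of smooth hypersurfaces of degree a, equals
(sum_{i,j >= 0} C(a-1, i+j+1) y^i z^j) / (1 - sum_{i,j >= 1} C(a, i+j) y^i z^j). -/
theorem result (a : ℕ) (ha : 1 ≤ a) :
    let y : MvPolynomial (Fin 2) ℤ := MvPolynomial.X 0
    let z : MvPolynomial (Fin 2) ℤ := MvPolynomial.X 1
    ((1 + y) ^ (a - 1) - (1 + z) ^ (a - 1) =
      (y - z) * ∑ i ∈ Finset.range a, ∑ j ∈ Finset.range a,
        if i + j + 1 ≤ a - 1 then ((a - 1).choose (i + j + 1) : MvPolynomial (Fin 2) ℤ) * y ^ i * z ^ j else 0) ∧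
    ((1 + y) ^ a * z - (1 + z) ^ a * y =
      (y - z) * (-1 + ∑ i ∈ Finset.range (a + 1), ∑ j ∈ Finset.range (a + 1),
        if 1 ≤ i ∧ 1 ≤ j ∧ i + j ≤ a then (a.choose (i + j) : MvPolynomial (Fin 2) ℤ) * y ^ i * z ^ j else 0)) := by
  intro y z
  constructor
  · have hG := auxG y z (fun m => ((a-1).choose m : MvPolynomial (Fin 2) ℤ)) (a-1) a (by omega)
    beta_reduce at hG
    rw [hG]
    rw [add_comm 1 y, add_comm 1 z, add_pow, add_pow]
    rw [← Finset.sum_sub_distrib]
    apply Finset.sum_congr rfl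
    intro m _
    simp only [one_pow, mul_one]
    ring
  · have hQ : ∑ i ∈ Finset.range (a + 1), ∑ j ∈ Finset.range (a + 1),
        (if 1 ≤ i ∧ 1 ≤ j ∧ i + j ≤ a then
          (a.choose (i + j) : MvPolynomial (Fin 2) ℤ) * y ^ i * z ^ j else 0)
        = y * z * ∑ i ∈ Finset.range a, ∑ j ∈ Finset.range a,
        (if i + j + 1 ≤ a - 1 then
          (a.choose (i + j + 1 + 1) : MvPolynomial (Fin 2) ℤ) * y ^ i * z ^ j else 0) := by
      rw [Finset.sum_range_succ']
      have h0 : ∑ j ∈ Finset.range (a + 1), (if 1 ≤ 0 ∧ 1 ≤ j ∧ 0 + j ≤ a then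
          (a.choose (0 + j) : MvPolynomial (Fin 2) ℤ) * y ^ 0 * z ^ j else 0) = 0 := by
        apply Finset.sum_eq_zero; intro j _; rw [if_neg]; omega
      rw [h0, add_zero, Finset.mul_sum]
      apply Finset.sum_congr rfl
      intro i _
      rw [Finset.sum_range_succ', if_neg (by omega), add_zero, Finset.mul_sum]
      apply Finset.sum_congr rfl
      intro j _
      have hcond : (1 ≤ i + 1 ∧ 1 ≤ j + 1 ∧ i + 1 + (j + 1) ≤ a) ↔ (i + j + 1 ≤ a - 1) := by omega
      have hidx : i + 1 + (j + 1) = i + j + 1 + 1 := by ring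
      by_cases hc : i + j + 1 ≤ a - 1
      · rw [if_pos (hcond.mpr hc), if_pos hc, hidx]; ring
      · rw [if_neg (fun h => hc (hcond.mp h)), if_neg hc, mul_zero]
    have hG := auxG y z (fun m => (a.choose (m + 1) : MvPolynomial (Fin 2) ℤ)) (a-1) a (by omega)
    beta_reduce at hG
    have ha' : a - 1 + 1 = a := by omega
    rw [ha'] at hG
    rw [hQ, mul_add, ← mul_assoc (y - z), mul_comm (y - z) (y * z), mul_assoc (y*z), hG]
    rw [add_comm 1 y, add_comm 1 z, add_pow, add_pow, Finset.sum_range_succ',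
      Finset.sum_range_succ']
    simp only [one_pow, mul_one, pow_zero, Nat.choose_zero_right, Nat.cast_one]
    have hS : y * z * ∑ m ∈ Finset.range a,
          (a.choose (m + 1) : MvPolynomial (Fin 2) ℤ) * (y ^ m - z ^ m) =
        (∑ m ∈ Finset.range a, y ^ (m + 1) * (a.choose (m + 1) : MvPolynomial (Fin 2) ℤ)) * z -
        (∑ m ∈ Finset.range a, z ^ (m + 1) * (a.choose (m + 1) : MvPolynomial (Fin 2) ℤ)) * y := by
      rw [Finset.mul_sum, Finset.sum_mul, Finset.sum_mul, ← Finset.sum_sub_distrib]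
      apply Finset.sum_congr rfl
      intro m _
      ring
    rw [hS]
    ring

end Groth.Agent.S8724
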