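import Groth.Statements.S8731
import Mathlib
import Groth.Agent.Lib.HypConn2_helper9

set_option autoImplicit false
universe u
open CategoryTheory CategoryTheory.Limits AlgebraicGeometry
open LefPen

namespace Groth.Agent.S8731

/-- (iv), the assertions on the structure sheaf: let k be an algebraically closed field, n >= 1, and Q a
quadratic form in n + 2 variables whose zero scheme X = V(Q) ⊂ P^{n+1}_k is smooth over k of
relative dimension n (a smooth quadric of dimension n). Then H^i(X, O_X) = 0 for every i >= 1, and
the structure map identifies k with H^0(X, O_X). (The published item also computes H^1(X, O_X(1)),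
the canonical sheaf and the Picard group, not stated here.) -/
theorem result (k : Type u) [Field k] [IsAlgClosed k] (n : ℕ) (hn : 1 ≤ n)
    (Q : LefPen.Form (n + 1) k 2)
    [SmoothOfRelativeDimension n ((LefPen.hypIdeal Q).subschemeι ≫ CohB1.ProjSpace.toSpec (n + 1) k)] :
    (∀ i : ℕ, 1 ≤ i → Subsingleton (Coh.HH (LefPen.hypIdeal Q).subscheme
        (Coh.structureModule (LefPen.hypIdeal Q).subscheme) i)) ∧
      Function.Bijective ((LefPen.hypIdeal Q).subschemeι ≫ CohB1.ProjSpace.toSpec (n + 1) k).appTop.hom := by
  letI inst : (LefPen.hypIdeal Q).subscheme.Over (Spec (CommRingCat.of k)) :=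
    ⟨(LefPen.hypIdeal Q).subschemeι ≫ CohB1.ProjSpace.toSpec (n + 1) k⟩
  have hinst : (LefPen.hypIdeal Q).subscheme ↘ Spec (CommRingCat.of k) =
      (LefPen.hypIdeal Q).subschemeι ≫ (CohB1.ProjSpace (n + 1) k ↘ Spec (CommRingCat.of k)) := rfl
  obtain ⟨hv, h0⟩ := Groth.Agent.HypConn.hyp_low k (n + 1) n rfl hn 2 (by omega) (by omega) Q
  have E := fun i => Groth.Agent.HypConn.nonempty_linearEquiv_quotMod (LefPen.hypIdeal Q) hinst i
  constructor
  · intro i hi
    obtain ⟨e⟩ := E i
    haveI := hv i hi
    exact e.symm.injective.subsingleton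
  · obtain ⟨e⟩ := E 0
    have h1 : Module.finrank k (Coh.HH (LefPen.hypIdeal Q).subscheme
        (Coh.structureModule (LefPen.hypIdeal Q).subscheme) 0) = 1 := by
      rw [← e.finrank_eq]
      exact h0
    have hb := Groth.Agent.HypConn.bijective_cc_of_finrank_h0 h1
    have hg : Function.Bijective (Scheme.ΓSpecIso (CommRingCat.of k)).inv.hom :=
      ConcreteCategory.bijective_of_isIso (Scheme.ΓSpecIso (CommRingCat.of k)).inv
    exact (Function.Bijective.of_comp_iff _ hg).mp hb

end Groth.Agent.S8731
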