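import Groth.Statements.S8738
import Groth.Agent.Lib.Seidenberg_helper3
-- import your own Groth.Agent.* helpers here

set_option autoImplicit false
universe u
open SGA7II


namespace Groth.Agent.S8738

/-- Let k be a field of characteristic zero and A a reduced Noetherian local k-algebra of Krull
dimension one, essentially of finite type over k (the local ring of a reduced curve over k at one of
its points), and let A' be the integral closure of A in its total ring of fractions (the
normalization). Then every k-derivation D of A extends to a k-derivation D' of A', i.e. D' agrees
with D on the image of A. -/
theorem result (k : Type u) [Field k] [CharZero k] (A : Type u) [CommRing A]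
    [Algebra k A] [IsReduced A] [IsNoetherianRing A] [IsLocalRing A] [Algebra.EssFiniteType k A]
    (hdim : ringKrullDim A = 1) (D : Derivation k A A) :
    ∃ D' : Derivation k ↥(integralClosure A (FractionRing A)) ↥(integralClosure A (FractionRing A)),
      ∀ a : A, (D' (algebraMap A ↥(integralClosure A (FractionRing A)) a) : FractionRing A) =
        algebraMap A (FractionRing A) (D a) := by
  obtain ⟨δ, hδ, hint⟩ := Groth.Agent.Lib.SeidenbergH3.seidenberg k A (FractionRing A) D
  let f : ↥(integralClosure A (FractionRing A)) →ₗ[k] ↥(integralClosure A (FractionRing A)) :=
    { toFun := fun x => ⟨δ x, hint x x.2⟩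
      map_add' := fun x y => by
        apply Subtype.ext
        show δ ((x : FractionRing A) + (y : FractionRing A)) = δ x + δ y
        rw [map_add]
      map_smul' := fun r x => by
        apply Subtype.ext
        show δ (r • (x : FractionRing A)) = r • δ x
        rw [Derivation.map_smul] }
  refine ⟨Derivation.mk' f ?_, ?_⟩
  · intro a b
    apply Subtype.ext
    show δ ((a : FractionRing A) * (b : FractionRing A)) =
      (a : FractionRing A) * δ b + (b : FractionRing A) * δ a
    rw [Derivation.leibniz, smul_eq_mul, smul_eq_mul]
  · intro a
    show δ (algebraMap A (FractionRing A) a) = _
    rw [hδ]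

end Groth.Agent.S8738
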