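import Groth.Statements.S8746
import Mathlib

set_option autoImplicit false
universe u
open CategoryTheory Limits
open Adeq

namespace Groth.Agent.S8746

open ChangeOfRings in
lemma map_injective_of_retraction {A : Type u} [CommRing A] (G : Adeq.MVF A) {B B' : Adeq.Alg A}
    (f : B ⟶ B') (hiso : IsIso (G.bc f))
    (ρ : (B' : Type u) →+ (B : Type u))
    (hρ : ∀ (r : B) (s : B'), ρ (f.hom r * s) = r * ρ s) (hρ1 : ρ 1 = 1) :
    Function.Injective (G.map (Adeq.ptHom f)) := by
  have h2 : (ModuleCat.extendRestrictScalarsAdj.{u+1,u,u} f.hom.toRingHom).homEquiv _ _ (G.bc f) =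
      G.map (Adeq.ptHom f) := by
    unfold Adeq.MVF.bc
    rw [Equiv.apply_symm_apply]
  have key : ∀ m : G.obj (Adeq.pt B),
      G.map (Adeq.ptHom f) m = (G.bc f) (((1 : B') : ((ModuleCat.restrictScalars f.hom.toRingHom).obj
      (ModuleCat.of (B' : Type u) (B' : Type u)))) ⊗ₜ[(B : Type u)] m) := by
    intro m
    show _ = ((ModuleCat.extendRestrictScalarsAdj.{u+1,u,u} f.hom.toRingHom).homEquiv _ _ (G.bc f)) m
    rw [h2]
  have hinj : Function.Injective (G.bc f) := by
    have : Mono (G.bc f) := inferInstance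
    exact (ModuleCat.mono_iff_injective _).mp this
  let ρL : ((ModuleCat.restrictScalars f.hom.toRingHom).obj
      (ModuleCat.of (B' : Type u) (B' : Type u))) →ₗ[(B : Type u)] (B : Type u) :=
    { toFun := ρ, map_add' := map_add ρ, map_smul' := fun r s => hρ r s }
  let T : TensorProduct (B : Type u) ((ModuleCat.restrictScalars f.hom.toRingHom).obj
      (ModuleCat.of (B' : Type u) (B' : Type u))) (G.obj (Adeq.pt B)) →ₗ[(B : Type u)]
        G.obj (Adeq.pt B) :=
    (TensorProduct.lid (B : Type u) (G.obj (Adeq.pt B))).toLinearMap ∘ₗ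
      LinearMap.rTensor (G.obj (Adeq.pt B)) ρL
  have hT : ∀ m : G.obj (Adeq.pt B),
      T (((1 : B') : ((ModuleCat.restrictScalars f.hom.toRingHom).obj
      (ModuleCat.of (B' : Type u) (B' : Type u)))) ⊗ₜ[(B : Type u)] m) = m := by
    intro m
    show (TensorProduct.lid _ _) (LinearMap.rTensor _ ρL (_ ⊗ₜ m)) = m
    rw [LinearMap.rTensor_tmul, TensorProduct.lid_tmul]
    show ρ 1 • m = m
    rw [hρ1, one_smul]
  intro x y hxy
  rw [key, key] at hxy
  have := hinj hxy
  rw [← hT x, ← hT y, this]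


/-- Let `F`, `G` be module-valued functors on `A`-algebras and `φ` a transformation of the underlying
set-valued functors which is additive and satisfies `φ(uξ) = uφ(ξ)` for units `u`. If `B' ⊗_B G(B) →
G(B')` is an isomorphism for every flat `B → B'`, then `φ` is `B`-linear for every `B`, i.e. a
morphism of module-valued functors. -/
theorem result (A : Type u) [CommRing A] (F G : Adeq.MVF A)
    (φ : ∀ B : Adeq.Alg A, F.obj (Adeq.pt B) → G.obj (Adeq.pt B))
    (hnat : ∀ ⦃B B' : Adeq.Alg A⦄ (f : B ⟶ B') (x : F.obj (Adeq.pt B)),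
      φ B' (F.map (Adeq.ptHom f) x) = G.map (Adeq.ptHom f) (φ B x))
    (hadd : ∀ (B : Adeq.Alg A) (x y : F.obj (Adeq.pt B)), φ B (x + y) = φ B x + φ B y)
    (hunit : ∀ (B : Adeq.Alg A) (v : (B : Type u)ˣ) (x : F.obj (Adeq.pt B)), φ B ((v : B) • x) = (v : B) • φ B x)
    (hG : ∀ ⦃B B' : Adeq.Alg A⦄ (f : B ⟶ B'), f.hom.toRingHom.Flat → IsIso (G.bc f))
    (B : Adeq.Alg A) (b : B) (x : F.obj (Adeq.pt B)) : φ B (b • x) = b • φ B x := by
  classical
  rcases subsingleton_or_nontrivial (B : Type u) with hsub | hnt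
  · have : Subsingleton (G.obj (Adeq.pt B)) := Module.subsingleton (B : Type u) _
    exact Subsingleton.elim _ _
  have h0 : ∀ B' : Adeq.Alg A, φ B' 0 = 0 := fun B' => by
    have h := hadd B' 0 0
    rw [add_zero] at h
    exact left_eq_add.mp h
  have hneg : ∀ (B' : Adeq.Alg A) (y : F.obj (Adeq.pt B')), φ B' (-y) = - φ B' y := fun B' y => by
    have h := hadd B' y (-y)
    rw [add_neg_cancel, h0] at h
    exact eq_neg_of_add_eq_zero_right h.symm
  have hsub' : ∀ (B' : Adeq.Alg A) (y z : F.obj (Adeq.pt B')),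
      φ B' (y - z) = φ B' y - φ B' z := fun B' y z => by
    rw [sub_eq_add_neg, hadd, hneg, ← sub_eq_add_neg]
  obtain ⟨p, hp⟩ : ∃ p : Polynomial (B : Type u),
      p = Polynomial.X ^ 2 - (Polynomial.C b * Polynomial.X + 1) := ⟨_, rfl⟩
  have hpm : p.Monic := by
    rw [hp]
    apply Polynomial.Monic.sub_of_left (Polynomial.monic_X_pow 2)
    rw [Polynomial.degree_X_pow]
    refine lt_of_le_of_lt (b := (1 : WithBot ℕ)) (by compute_degree) ?_
    exact_mod_cast (by norm_num : (1:ℕ) < 2)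
  have hdeg : p.natDegree = 2 := by
    rw [hp, Polynomial.natDegree_sub_eq_left_of_natDegree_lt, Polynomial.natDegree_X_pow]
    rw [Polynomial.natDegree_X_pow]
    exact lt_of_le_of_lt (b := 1) (by compute_degree) (by norm_num)
  let B' : Adeq.Alg A := Adeq.algOf A (AdjoinRoot p)
  let f : B ⟶ B' := CommAlgCat.ofHom (IsScalarTower.toAlgHom A (B : Type u) (AdjoinRoot p))
  have hflat : f.hom.toRingHom.Flat := by
    have : Module.Free (B : Type u) (AdjoinRoot p) := hpm.free_adjoinRoot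
    show (algebraMap (B : Type u) (AdjoinRoot p)).Flat
    rw [RingHom.flat_algebraMap_iff]
    infer_instance
  have hiso := hG f hflat
  let pb := AdjoinRoot.powerBasis' hpm
  have hdim : 0 < pb.dim := by rw [AdjoinRoot.powerBasis'_dim, hdeg]; norm_num
  let ρ : AdjoinRoot p →+ (B : Type u) := (pb.basis.coord ⟨0, hdim⟩).toAddMonoidHom
  have hρ : ∀ (r : B) (s : AdjoinRoot p), ρ (AdjoinRoot.of p r * s) = r * ρ s := by
    intro r s
    show pb.basis.coord ⟨0, hdim⟩ (AdjoinRoot.of p r * s) = r * pb.basis.coord ⟨0, hdim⟩ s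
    rw [← AdjoinRoot.algebraMap_eq, ← Algebra.smul_def, map_smul, smul_eq_mul]
  have hρ1 : ρ 1 = 1 := by
    show pb.basis.coord ⟨0, hdim⟩ 1 = 1
    have h1 : (1 : AdjoinRoot p) = pb.basis ⟨0, hdim⟩ := by rw [pb.basis_eq_pow]; simp
    rw [h1, Module.Basis.coord_apply, Module.Basis.repr_self, Finsupp.single_eq_same]
  have hinj := map_injective_of_retraction G f hiso ρ (fun r s => hρ r s) hρ1
  have hroot : AdjoinRoot.root p * (AdjoinRoot.root p - AdjoinRoot.of p b) = 1 := by
    have h : Polynomial.eval₂ (AdjoinRoot.of p) (AdjoinRoot.root p)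
        (Polynomial.X ^ 2 - (Polynomial.C b * Polynomial.X + 1)) = 0 := by
      rw [← hp]; exact AdjoinRoot.eval₂_root p
    simp only [Polynomial.eval₂_sub, Polynomial.eval₂_add, Polynomial.eval₂_mul,
      Polynomial.eval₂_pow, Polynomial.eval₂_X, Polynomial.eval₂_C, Polynomial.eval₂_one] at h
    linear_combination h
  obtain ⟨u, v, hb⟩ : ∃ u v : (B' : Type u)ˣ, f.hom b = (u : B') - (v : B') :=
    ⟨⟨AdjoinRoot.root p, AdjoinRoot.root p - AdjoinRoot.of p b, hroot,
      by rw [mul_comm]; exact hroot⟩,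
     ⟨AdjoinRoot.root p - AdjoinRoot.of p b, AdjoinRoot.root p,
      by rw [mul_comm]; exact hroot, hroot⟩, by
      show AdjoinRoot.of p b = AdjoinRoot.root p - (AdjoinRoot.root p - AdjoinRoot.of p b)
      ring⟩
  apply hinj
  obtain ⟨x', hx'⟩ : ∃ x' : F.obj (Adeq.pt B'), x' = F.map (Adeq.ptHom f) x := ⟨_, rfl⟩
  have e1 : F.map (Adeq.ptHom f) (b • x) = (f.hom b) • x' := by
    rw [hx']; exact F.map_smul (Adeq.ptHom f) b x
  have e2 : G.map (Adeq.ptHom f) (b • φ B x) = (f.hom b) • φ B' x' := by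
    rw [hx', hnat f x]; exact G.map_smul (Adeq.ptHom f) b (φ B x)
  rw [← hnat f (b • x), e1, e2, hb, sub_smul, sub_smul, hsub', hunit B' u, hunit B' v]

end Groth.Agent.S8746
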