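import Groth.Statements.S8780
import Groth.Agent.Lib.PshModInjSurj_helper3
-- import your own Groth.Agent.* helpers here

set_option autoImplicit false
universe u
open CategoryTheory Limits

open AdeqTF

namespace Groth.Agent.S8780

/-- Take `I` injective in the category of module-valued functors on `A`-algebras. For every `A`-algebra
`B` and every short exact sequence `0 → N₁ → N → N₂ → 0` of `B`-modules, the induced map of tangent
modules `TI(B, N) → TI(B, N₂)` is surjective (`TI(B, N)` is the kernel of `I(B[N]) → I(B)`, `B[N]`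
the trivial square-zero extension). (The published statement asserts that `TI(B, N₁) → TI(B, N) →
TI(B, N₂) → 0` is exact; exactness at the middle term is false: for `A = B = ℚ`, the split sequence
`0 → ℚ → ℚ² → ℚ → 0` and the injective functor `D ↦ Map(Hom(D, ℚ[ε]/(ε²)), E)` with `E` an injective
hull of `ℚ[ε]/(ε²)`, the indicator function of the first coordinate form lies in the kernel of
`TI(B, ℚ²) → TI(B, ℚ)` and not in the image of `TI(B, ℚ) → TI(B, ℚ²)`. This row keeps the
surjectivity, which the published argument does establish.) -/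
theorem result (A : Type u) [CommRing A] (I : Adeq.MVF A) [Injective I]
    (B : Adeq.Alg A) (S : ShortComplex (ModuleCat.{u} B)) (hS : S.ShortExact) :
    Function.Surjective (AdeqTF.tangentMap B I S.g) := by
  rintro ⟨y, hy⟩
  have hsurj : Function.Surjective S.g.hom := (ModuleCat.epi_iff_surjective S.g).mp hS.epi_g
  have hepi : ∀ (X : (Adeq.Alg A)ᵒᵖᵒᵖ) (f₁ f₂ : Adeq.pt (ext B S.X₃) ⟶ X),
      Adeq.ptHom (map B S.g) ≫ f₁ = Adeq.ptHom (map B S.g) ≫ f₂ → f₁ = f₂ := by
    intro X f₁ f₂ h
    have h' : map B S.g ≫ f₁.unop.unop = map B S.g ≫ f₂.unop.unop :=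
      congrArg (fun t => t.unop.unop) h
    have h2 : f₁.unop.unop = f₂.unop.unop := by
      apply CommAlgCat.hom_ext
      refine AlgHom.ext fun z => ?_
      obtain ⟨n, hn⟩ := hsurj z.snd
      have hz : TrivSqZeroExt.map S.g.hom (TrivSqZeroExt.inl z.fst + TrivSqZeroExt.inr n) = z := by
        apply TrivSqZeroExt.ext
        · simp
        · simp [hn]
      rw [← hz]
      exact congr(($h').hom (TrivSqZeroExt.inl z.fst + TrivSqZeroExt.inr n))
    exact Quiver.Hom.unop_inj (Quiver.Hom.unop_inj h2)
  obtain ⟨x, hx⟩ := Groth.Agent.Lib.PshModInjH3.map_surjective_of_injective I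
    (Adeq.ptHom (map B S.g)) hepi y
  have hx' : I.map (Adeq.ptHom (map B S.g)) x = y := hx
  have hx0 : I.map (Adeq.ptHom (fst B S.X₂)) x = 0 := by
    have e : Adeq.ptHom (map B S.g) ≫ Adeq.ptHom (fst B S.X₃) = Adeq.ptHom (fst B S.X₂) :=
      congrArg Adeq.ptHom (map_fst B S.g)
    have hy0 : I.map (Adeq.ptHom (fst B S.X₃)) y = 0 := hy
    rw [← I.congr_map_apply e, I.map_comp_apply, hx']
    exact hy0
  exact ⟨⟨x, hx0⟩, Subtype.ext hx'⟩

end Groth.Agent.S8780
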