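import Groth.Statements.S8781
import Mathlib
import Groth.Agent.Lib.AdeqTF_helper1

set_option autoImplicit false
universe u
open CategoryTheory Limits
open AdeqTF

namespace Groth.Agent.S8781

/-- Say a module-valued functor `F` on `A`-algebras has right exact tangent functors if for every
`A`-algebra `B` and every short exact sequence `0 → N₁ → N → N₂ → 0` of `B`-modules the sequence
`TF(B, N₁) → TF(B, N) → TF(B, N₂) → 0` is exact. If `0 → F → G → H → 0` is a short exact sequence of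
module-valued functors and `F`, `G` have right exact tangent functors, so does `H`. -/
theorem result (A : Type u) [CommRing A] (C : ShortComplex (Adeq.MVF A))
    (hC : C.ShortExact)
    (h₁ : (∀ (B : Adeq.Alg A) (S : ShortComplex (ModuleCat.{u} B)), S.ShortExact →
        Function.Surjective (AdeqTF.tangentMap B C.X₁ S.g) ∧
          (AdeqTF.tangentMap B C.X₁ S.g).ker = (AdeqTF.tangentMap B C.X₁ S.f).range))
    (h₂ : (∀ (B : Adeq.Alg A) (S : ShortComplex (ModuleCat.{u} B)), S.ShortExact →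
        Function.Surjective (AdeqTF.tangentMap B C.X₂ S.g) ∧
          (AdeqTF.tangentMap B C.X₂ S.g).ker = (AdeqTF.tangentMap B C.X₂ S.f).range)) :
    (∀ (B : Adeq.Alg A) (S : ShortComplex (ModuleCat.{u} B)), S.ShortExact →
        Function.Surjective (AdeqTF.tangentMap B C.X₃ S.g) ∧
          (AdeqTF.tangentMap B C.X₃ S.g).ker = (AdeqTF.tangentMap B C.X₃ S.f).range) := by
  intro B S hS
  have zrow : ∀ (F : Adeq.MVF A) (x : AdeqTF.tangent B S.X₁ F),
      AdeqTF.tangentMap B F S.g (AdeqTF.tangentMap B F S.f x) = 0 := by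
    intro F x
    rw [← S8783.tangentMap_comp, S.zero, S8783.tangentMap_zero]
  exact Lib.AdeqTFH1.bottom_row
    (AdeqTF.tangentMap B C.X₁ S.f) (AdeqTF.tangentMap B C.X₁ S.g)
    (AdeqTF.tangentMap B C.X₂ S.f) (AdeqTF.tangentMap B C.X₂ S.g)
    (AdeqTF.tangentMap B C.X₃ S.f) (AdeqTF.tangentMap B C.X₃ S.g)
    (Lib.AdeqTFH1.col B C.f S.X₂) (Lib.AdeqTFH1.col B C.f S.X₃)
    (Lib.AdeqTFH1.col B C.g S.X₁) (Lib.AdeqTFH1.col B C.g S.X₂) (Lib.AdeqTFH1.col B C.g S.X₃)
    (fun x => Lib.AdeqTFH1.col_natural B C.f S.g x)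
    (fun x => Lib.AdeqTFH1.col_natural B C.g S.f x)
    (fun x => Lib.AdeqTFH1.col_natural B C.g S.g x)
    (Lib.AdeqTFH1.col_surjective B C hC S.X₂) (Lib.AdeqTFH1.col_surjective B C hC S.X₃)
    (fun x => Lib.AdeqTFH1.col_zero B C S.X₂ x)
    (fun x hx => Lib.AdeqTFH1.col_exact B C hC S.X₃ x hx)
    (zrow C.X₃)
    (h₁ B S hS) (h₂ B S hS)

end Groth.Agent.S8781
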