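import Groth.Statements.S8792
import Groth.Agent.Lib.Ann5_helper1

set_option autoImplicit false
universe u
open CategoryTheory
attribute [local instance] HasDerivedCategory.standard
open LocCoh

namespace Groth.Agent.S8792

/-- Let A be a Noetherian ring with a dualizing complex, I and J ideals, M a finite A-module, s and d
naturals, and T the set of primes p with V(p) ∩ V(I) ⊆ V(J). Assume: (3) every prime p ∉ V(I) lying
in T admits some q ∈ V(p) ∩ V(J) ∩ V(I) with dim((A/p)_q) ≤ d; (4) every prime p ∉ V(I) not in T has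
depth(M_p) ≥ s or depth(M_p) + dim((A/p)_q) > d + s for all q ∈ V(p) ∩ V(J) ∩ V(I); (6) every prime
p ∉ V(I) lying in T has depth(M_p) > s. Then there is an ideal J₀ ⊆ J with V(J₀) ∩ V(I) = V(J) ∩
V(I) such that for every J' ⊆ J₀ with V(J') ∩ V(I) = V(J) ∩ V(I) and every i ≤ s the comparison map
H^i_{J₀}(M) → H^i_{J'}(M) is bijective and H^i_{J₀}(M) is annihilated by a power of J₀I for i ≤ s;
moreover for i ≤ s the comparison maps H^i_J(M) → H^i_{J₀}(M) and H^i_{J+I}(M) → H^i_J(M) are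
bijective and H^i_J(M) is annihilated by a power of I. -/
theorem result (A : Type u) [CommRing A] [IsNoetherianRing A] (hdc : ∃ ω : Dual.D A, Dual.IsDualizing A ω) (I J : Ideal A) (M : Type u) [AddCommGroup M] [Module A M] [Module.Finite A M] (s d : ℕ) (T : Set (PrimeSpectrum A)) (hT : ∀ p : PrimeSpectrum A, p ∈ T ↔ ∀ q : PrimeSpectrum A, p ≤ q → I ≤ q.asIdeal → J ≤ q.asIdeal) (h3 : ∀ p : PrimeSpectrum A, ¬ I ≤ p.asIdeal → p ∈ T → ∃ q : PrimeSpectrum A, p ≤ q ∧ J ≤ q.asIdeal ∧ I ≤ q.asIdeal ∧ Formal2.dimBetween A p.asIdeal q.asIdeal ≤ ((d : ℕ∞) : WithBot ℕ∞)) (h4 : ∀ p : PrimeSpectrum A, ¬ I ≤ p.asIdeal → p ∉ T → ∀ q : PrimeSpectrum A, p ≤ q → J ≤ q.asIdeal → I ≤ q.asIdeal → (s : ℕ∞) ≤ LocCoh.depth (Localization.AtPrime p.asIdeal) (LocalizedModule p.asIdeal.primeCompl M) ∨ (((d + s : ℕ) : ℕ∞) : WithBot ℕ∞) < ((LocCoh.depth (Localization.AtPrime p.asIdeal) (LocalizedModule p.asIdeal.primeCompl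 M) : ℕ∞) : WithBot ℕ∞) + Formal2.dimBetween A p.asIdeal q.asIdeal) (h6 : ∀ p : PrimeSpectrum A, ¬ I ≤ p.asIdeal → p ∈ T → (s : ℕ∞) < LocCoh.depth (Localization.AtPrime p.asIdeal) (LocalizedModule p.asIdeal.primeCompl M)) : ∃ (J₀ : Ideal A) (hJ₀ : J₀ ≤ J), (J₀ ≤ J ∧ PrimeSpectrum.zeroLocus ((J₀ : Ideal A) : Set A) ∩ PrimeSpectrum.zeroLocus ((I : Ideal A) : Set A) = PrimeSpectrum.zeroLocus ((J : Ideal A) : Set A) ∩ PrimeSpectrum.zeroLocus ((I : Ideal A) : Set A) ∧ (∀ (J' : Ideal A) (hJ' : J' ≤ J₀), PrimeSpectrum.zeroLocus ((J' : Ideal A) : Set A) ∩ PrimeSpectrum.zeroLocus ((I : Ideal A) : Set A) = PrimeSpectrum.zeroLocus ((J : Ideal A) : Set A) ∩ PrimeSpectrum.zeroLocus ((I : Ideal A) : Set A) → ∀ i : ℕ, i ≤ s → Function.Bijective ((Dual2.HmapOfLE hJ' i).app (ModuleCat.of A M)).hom) ∧ (∃ n : ℕ, ∀ a ∈ (J₀ * I) ^ n, ∀ i : ℕ, i ≤ s → ∀ x : LocCoh.H J₀ i M, a • x = 0)) ∧ (∀ i : ℕ, i ≤ s → Function.Bijective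 ((Dual2.HmapOfLE hJ₀ i).app (ModuleCat.of A M)).hom ∧ Function.Bijective ((Dual2.HmapOfLE (le_sup_left : J ≤ J ⊔ I) i).app (ModuleCat.of A M)).hom) ∧ ∃ n : ℕ, ∀ a ∈ I ^ n, ∀ i : ℕ, i ≤ s → ∀ x : LocCoh.H J i M, a • x = 0 := by
  obtain ⟨c⟩ := Groth.Agent.Lib.AnnH1.nonempty_ctx hdc I J M s d T hT h3 h4
  have hgood : Groth.Agent.Lib.AnnH1.Good M I J s T J :=
    ⟨le_rfl, rfl, fun p hpT hpI _ => h6 p hpI hpT⟩
  refine ⟨J, le_rfl, ⟨le_rfl, rfl,
    fun J' hJ' hint i hi => hgood.bijective c hJ' hint i hi, hgood.ann c⟩,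
    fun i hi => ⟨?_, ?_⟩, ?_⟩
  · have h1806 := Groth.Agent.S1806.result A J J le_rfl M i
    exact ⟨h1806.2 (fun P h1 h2 => absurd h1 h2), h1806.1 (fun P h1 h2 => absurd h1 h2)⟩
  · have hvan : ∀ P : PrimeSpectrum A, J ≤ P.asIdeal → ¬ J ⊔ I ≤ P.asIdeal → ∀ j : ℕ, j ≤ s →
        Subsingleton (LocCoh.H (IsLocalRing.maximalIdeal (Localization.AtPrime P.asIdeal)) j
          (LocalizedModule P.asIdeal.primeCompl M)) := by
      intro P hP1 hP2 j hj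
      have hPI : ¬ I ≤ P.asIdeal := fun hI => hP2 (sup_le hP1 hI)
      have hPT : P ∈ T := by
        rw [hT]
        intro q hPq _
        exact fun x hx => hPq (hP1 hx)
      apply Groth.Agent.Lib.AnnH1.subsingleton_H_of_lt_depth
      exact lt_of_le_of_lt (by exact_mod_cast hj) (h6 P hPI hPT)
    have h1806 := Groth.Agent.S1806.result A J (J ⊔ I) le_sup_left M i
    exact ⟨h1806.2 (fun P h1 h2 j hj => hvan P h1 h2 j (by omega)),
      h1806.1 (fun P h1 h2 => hvan P h1 h2 i hi)⟩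
  · refine c.exists_pow_kills J I (fun p q hp hq hpq => ?_)
    have hqT : q ∈ T := by
      rw [hT]
      intro q' hqq' _
      exact fun x hx => hqq' (hq hx)
    exact c.keyIneq p q hpq hp hqT (fun hpT => h6 p hp hpT)

end Groth.Agent.S8792
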