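import Groth.Statements.S8800
import Groth.Agent.Lib.CompleteNoeth_lead
-- import your own Groth.Agent.* helpers here

set_option autoImplicit false
universe u v
open AdicRing


namespace Groth.Agent.S8800

/-- Let A be a Noetherian ring and I an ideal of A. Let B be an A-algebra which is complete for the
IB-adic topology and such that B/IB is an A-algebra of finite type. Then B is a Noetherian ring. -/
theorem result (A : Type u) [CommRing A] [IsNoetherianRing A] (I : Ideal A) (B : Type v) [CommRing B] [Algebra A B] [IsAdicComplete (I.map (algebraMap A B)) B] (hB : Algebra.FiniteType A (B ⧸ I.map (algebraMap A B))) : IsNoetherianRing B := by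
  classical
  have hI : I.FG := IsNoetherian.noetherian I
  obtain ⟨n, a, ha⟩ := Submodule.fg_iff_exists_fin_generating_family.1 hI
  haveI : IsNoetherianRing (B ⧸ I.map (algebraMap A B)) := Algebra.FiniteType.isNoetherianRing A _
  have ha' : Ideal.span (Set.range a) = I := ha
  refine Groth.Agent.Lib.CompleteNoethLead.isNoetherianRing_of_isAdicComplete
    (I.map (algebraMap A B)) (fun i => algebraMap A B (a i)) ?_ ?_
  · intro i
    exact Ideal.mem_map_of_mem _ (ha' ▸ Ideal.subset_span ⟨i, rfl⟩)
  · refine le_sup_of_le_left ?_
    rw [← ha', Ideal.map_span, ← Set.range_comp]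
    exact le_of_eq rfl

end Groth.Agent.S8800
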