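import Groth.Statements.S8804
import Groth.Agent.Lib.RigClosed0_helper3
-- import your own Groth.Agent.* helpers here

set_option autoImplicit false
universe u
open AdicRing
set_option maxSynthPendingDepth 3

namespace Groth.Agent.S8804

/-- Let A be a Noetherian ring which is complete for the adic topology of an ideal I, and let q be a
prime ideal of A. The following are equivalent: (1) I ⊄ q and q is maximal among the primes not
containing I; (5) dim(A/q) = 1 and I ⊄ q; (8) A/q is a one-dimensional complete local ring whose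
maximal ideal is the radical of the image of I (stated as: the Krull dimension of A/q is 1, every
maximal ideal of A/q equals the radical of I(A/q), and A/q is adically complete for that radical).
(The other equivalent forms, for other ideals of definition or for the induced topology, are not
stated.) -/
theorem result (A : Type u) [CommRing A] [IsNoetherianRing A] (I : Ideal A) [IsAdicComplete I A] (q : PrimeSpectrum A) : List.TFAE [¬ I ≤ q.asIdeal ∧ ∀ q' : PrimeSpectrum A, q ≤ q' → ¬ I ≤ q'.asIdeal → q' = q, ringKrullDim (A ⧸ q.asIdeal) = 1 ∧ ¬ I ≤ q.asIdeal, ringKrullDim (A ⧸ q.asIdeal) = 1 ∧ (∀ m : Ideal (A ⧸ q.asIdeal), m.IsMaximal → m = (I.map (Ideal.Quotient.mk q.asIdeal)).radical) ∧ IsAdicComplete (I.map (Ideal.Quotient.mk q.asIdeal)).radical (A ⧸ q.asIdeal)] := by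
  classical
  haveI := q.isPrime
  have hmk_surj : Function.Surjective (Ideal.Quotient.mk q.asIdeal) := Ideal.Quotient.mk_surjective
  have hjac : I ≤ (⊥ : Ideal A).jacobson := IsAdicComplete.le_jacobson_bot I
  have hImax : ∀ M : Ideal A, M.IsMaximal → I ≤ M := fun M hM =>
    hjac.trans (sInf_le ⟨bot_le, hM⟩)
  tfae_have 2 → 1 := by
    rintro ⟨hdim, hIq⟩
    refine ⟨hIq, fun q' hqq' hIq' => ?_⟩
    by_contra hne
    have hlt : q.asIdeal < q'.asIdeal :=
      lt_of_le_of_ne hqq' (fun h => hne (PrimeSpectrum.ext h.symm))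
    obtain ⟨M, hM, hq'M⟩ := Ideal.exists_le_maximal q'.asIdeal q'.isPrime.ne_top
    haveI := hM.isPrime
    haveI := q'.isPrime
    have hlt' : q'.asIdeal < M := lt_of_le_of_ne hq'M (fun h => hIq' (h ▸ hImax M hM))
    have h2 := Groth.Agent.Lib.RigClosedH3.two_le_ringKrullDim_quotient q.asIdeal q'.asIdeal M
      hlt hlt'
    rw [hdim] at h2
    exact absurd h2 (by decide)
  tfae_have 3 → 2 := by
    rintro ⟨hdim, hmax, -⟩
    refine ⟨hdim, fun hIq => ?_⟩
    have hI'0 : I.map (Ideal.Quotient.mk q.asIdeal) = ⊥ := Ideal.map_mk_eq_bot_of_le hIq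
    rw [hI'0, Ideal.radical_bot_of_noZeroDivisors] at hmax
    have h1 : (1 : WithBot ℕ∞) ≤ ringKrullDim (A ⧸ q.asIdeal) := by rw [hdim]
    obtain ⟨x, y, hxy⟩ := Order.one_le_krullDim_iff.1 h1
    obtain ⟨M, hM, hyM⟩ := Ideal.exists_le_maximal y.asIdeal y.isPrime.ne_top
    have hM0 := hmax M hM
    rw [hM0, le_bot_iff] at hyM
    have : x.asIdeal < y.asIdeal := hxy
    rw [hyM] at this
    exact not_lt_bot this
  tfae_have 1 → 3 := by
    rintro ⟨hIq, hmaxq⟩
    set I' : Ideal (A ⧸ q.asIdeal) := I.map (Ideal.Quotient.mk q.asIdeal) with hI'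
    have hI'0 : I' ≠ ⊥ := by
      intro h
      rw [hI', Ideal.map_eq_bot_iff_le_ker, Ideal.mk_ker] at h
      exact hIq h
    -- nonzero primes contain `I'`
    have hallI : ∀ P : Ideal (A ⧸ q.asIdeal), P.IsPrime → P ≠ ⊥ → I' ≤ P := by
      intro P hP hP0
      haveI := hP
      let q' : PrimeSpectrum A := ⟨P.comap (Ideal.Quotient.mk q.asIdeal), inferInstance⟩
      have hqq' : q ≤ q' := by
        show q.asIdeal ≤ P.comap (Ideal.Quotient.mk q.asIdeal)
        conv_lhs => rw [← Ideal.mk_ker (I := q.asIdeal)]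
        exact Ideal.comap_mono bot_le
      by_contra hnot
      have hIq' : ¬ I ≤ q'.asIdeal := by
        intro h
        apply hnot
        rw [hI', Ideal.map_le_iff_le_comap]
        exact h
      have := hmaxq q' hqq' hIq'
      apply hP0
      have h2 : P.comap (Ideal.Quotient.mk q.asIdeal) = q.asIdeal := congrArg PrimeSpectrum.asIdeal this
      rw [← Ideal.map_comap_of_surjective _ hmk_surj P, h2, Ideal.map_mk_eq_bot_of_le le_rfl]
    obtain ⟨f, hfI', hf0⟩ := Submodule.exists_mem_ne_zero_of_ne_bot hI'0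
    have hmaxD : ∀ P : Ideal (A ⧸ q.asIdeal), P.IsPrime → P ≠ ⊥ → P.IsMaximal :=
      Groth.Agent.Lib.RigClosedH3.isMaximal_of_forall_mem f hf0
        (fun P hP hP0 => hallI P hP hP0 hfI')
    -- `I' ≠ ⊤`
    have hI'top : I' ≠ ⊤ := by
      intro h
      obtain ⟨M, hM, hqM⟩ := Ideal.exists_le_maximal q.asIdeal q.isPrime.ne_top
      have h1 : (I'.comap (Ideal.Quotient.mk q.asIdeal)) = ⊤ := by rw [h, Ideal.comap_top]
      rw [hI', Ideal.comap_map_of_surjective _ hmk_surj, ← RingHom.ker_eq_comap_bot,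
        Ideal.mk_ker] at h1
      exact hM.ne_top (top_le_iff.1 (h1 ▸ sup_le (hImax M hM) hqM))
    -- completeness of `A/q`
    haveI hcompl : IsAdicComplete I' (A ⧸ q.asIdeal) := by
      haveI : IsPrecomplete I A := inferInstance
      have h1 : IsPrecomplete I (A ⧸ q.asIdeal) := by
        rw [← AdicCompletion.of_surjective_iff]
        intro y
        obtain ⟨x, rfl⟩ := AdicCompletion.map_surjective I
          (f := Submodule.mkQ q.asIdeal) (Submodule.mkQ_surjective q.asIdeal) y
        obtain ⟨s, rfl⟩ := AdicCompletion.of_surjective I A x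
        exact ⟨Submodule.mkQ q.asIdeal s, (AdicCompletion.map_of _ _ _).symm⟩
      have h2 : IsPrecomplete (I.map (algebraMap A (A ⧸ q.asIdeal))) (A ⧸ q.asIdeal) :=
        IsPrecomplete.map_algebraMap_iff.2 h1
      haveI : IsHausdorff I' (A ⧸ q.asIdeal) := IsHausdorff.of_isDomain I' hI'top
      exact { toIsHausdorff := inferInstance, toIsPrecomplete := h2 }
    -- a nonzero maximal ideal exists
    obtain ⟨M₀, hM₀, hI'M₀⟩ := Ideal.exists_le_maximal I' hI'top
    have hM₀0 : M₀ ≠ ⊥ := fun h => hI'0 (le_bot_iff.1 (h ▸ hI'M₀))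
    -- dimension one
    have hdim : ringKrullDim (A ⧸ q.asIdeal) = 1 := by
      apply le_antisymm
      · have : Ring.KrullDimLE 1 (A ⧸ q.asIdeal) :=
          Ring.KrullDimLE.mk₁' (fun P hP0 hP => hmaxD P hP hP0)
        exact_mod_cast Ring.krullDimLE_iff.1 this
      · apply Order.one_le_krullDim_iff.2
        refine ⟨⟨⊥, Ideal.isPrime_bot⟩, ⟨M₀, hM₀.isPrime⟩, ?_⟩
        show (⊥ : Ideal (A ⧸ q.asIdeal)) < M₀
        exact bot_lt_iff_ne_bot.2 hM₀0
    -- radical completeness
    set N := I'.radical with hN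
    obtain ⟨n, hn⟩ := Ideal.exists_radical_pow_le_of_fg I' (IsNoetherian.noetherian _)
    haveI : IsAdicComplete N (A ⧸ q.asIdeal) :=
      Groth.Agent.Lib.CompleteFiniteH3.isAdicComplete_of_pow_le I' N n Ideal.le_radical hn
    refine ⟨hdim, ?_, inferInstance⟩
    intro m hm
    have hm0 : m ≠ ⊥ := by
      intro h
      have := hm.eq_of_le hM₀.ne_top (h ▸ bot_le : m ≤ M₀)
      exact hM₀0 (this ▸ h)
    have hmI' : I' ≤ m := hallI m hm.isPrime hm0
    set T := I'.minimalPrimes with hT
    have hTmax : ∀ P ∈ T, P.IsMaximal := fun P hP =>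
      hmaxD P hP.1.1 (fun h => hI'0 (le_bot_iff.1 (h ▸ hP.1.2)))
    have hmT : m ∈ T := by
      refine ⟨⟨hm.isPrime, hmI'⟩, fun P hP hPm => ?_⟩
      have hPmax := hmaxD P hP.1 (fun h => hI'0 (le_bot_iff.1 (h ▸ hP.2)))
      exact (hPmax.eq_of_le hm.ne_top hPm).ge
    have hTfin : T.Finite := Ideal.finite_minimalPrimes_of_isNoetherianRing _ I'
    let K : Ideal (A ⧸ q.asIdeal) := sInf (T \ {m})
    have hNK : m ⊓ K = N := by
      rw [hN, ← Ideal.sInf_minimalPrimes, ← hT]
      conv_rhs => rw [← Set.insert_diff_self_of_mem hmT]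
      rw [sInf_insert]
    have hsup : m ⊔ K = ⊤ := by
      by_contra hne
      have hKm : K ≤ m := by
        have := hm.eq_of_le hne le_sup_left
        rw [this]; exact le_sup_right
      have hfin' : (T \ {m}).Finite := hTfin.subset Set.diff_subset
      have h1 : hfin'.toFinset.inf id ≤ m := by
        rw [Finset.inf_id_eq_sInf, Set.Finite.coe_toFinset]
        exact hKm
      obtain ⟨P, hP, hPm⟩ := (Ideal.IsPrime.inf_le' hm.isPrime).1 h1
      rw [Set.Finite.mem_toFinset] at hP
      have := (hTmax P hP.1).eq_of_le hm.ne_top hPm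
      exact hP.2 this
    have hK := Groth.Agent.Lib.RigClosedH3.eq_top_of_inf_eq N m K hm.ne_top hNK hsup
    rw [← hNK, hK, inf_top_eq]
  tfae_finish

end Groth.Agent.S8804
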