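import Groth.Statements.S8813
import Groth.Agent.Lib.DeltaZ_helper8

set_option autoImplicit false
universe u
open CategoryTheory AlgebraicGeometry
open Algz

namespace Groth.Agent.S8813

/-- Let Y be a Noetherian scheme, Z ⊆ Y a closed subset, y a point of Y and z a point of Z lying in the
closure of y. Then δ_Z(y) is at most the dimension of the local ring at z of the closure of y with
its reduced structure, that is, the Krull dimension of O_{Y,z}/𝔭 where 𝔭 is the prime ideal of the
local ring O_{Y,z} given by the point of Spec O_{Y,z} that maps to y. -/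
theorem result (Y : Scheme.{u}) [IsNoetherian Y] (Z : Set Y) (hZ : IsClosed Z) (y z : Y) (h : y ⤳ z) (hz : z ∈ Z) (P : PrimeSpectrum (Y.presheaf.stalk z)) (hP : (Y.fromSpecStalk z).base P = y) : ((Algz.deltaZ Z y : ℕ∞) : WithBot ℕ∞) ≤ ringKrullDim (↥(Y.presheaf.stalk z) ⧸ P.asIdeal) := by
  classical
  subst hP
  have h1 := Groth.Agent.DeltaZH8.deltaZ_le_codimPt Z _ z h hz
  have h2 := Groth.Agent.DeltaZH8.codimPt_le_coheight Y z P h
  haveI := P.2
  have h3 : ringKrullDim (↥(Y.presheaf.stalk z) ⧸ P.asIdeal) =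
      ((Order.coheight P : ℕ∞) : WithBot ℕ∞) :=
    Groth.Agent.DimFT3H8.ringKrullDim_quotient_eq_coheight P.asIdeal
  rw [h3]
  exact_mod_cast h1.trans h2

end Groth.Agent.S8813
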