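import Groth.Statements.S8814
import Groth.Agent.Lib.CodimPt_helper8

set_option autoImplicit false
universe u
open CategoryTheory AlgebraicGeometry
open Algz

namespace Groth.Agent.S8814

/-- Let Y be a Noetherian scheme, Z ⊆ Y a closed subset and δ a dimension function on Y. If δ_Z(y) is a
natural number n, then δ(y) ≤ n + δ(z) for some z ∈ Z; in other words δ(y) ≤ δ_Z(y) + δ_max with
δ_max the maximum of δ on Z. -/
theorem result (Y : Scheme.{u}) [IsNoetherian Y] (Z : Set Y) (hZ : IsClosed Z) (δ : Y → ℤ) (hδ : Cyc.IsDimFun Y δ) (y : Y) (n : ℕ) (hn : Algz.deltaZ Z y = n) : ∃ z ∈ Z, δ y ≤ n + δ z := by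
  classical
  have hδ' : ∀ x y : Y, x ⤳ y → x ≠ y → δ y < δ x ∧
      ((∀ z : Y, x ⤳ z → z ⤳ y → z = x ∨ z = y) → δ x = δ y + 1) := hδ
  have hlt : Algz.deltaZ Z y < ((n + 1 : ℕ) : ℕ∞) := by
    rw [hn]
    exact_mod_cast Nat.lt_succ_self n
  unfold Algz.deltaZ at hlt
  rw [iInf_lt_iff] at hlt
  obtain ⟨k, hk⟩ := hlt
  rw [iInf_lt_iff] at hk
  obtain ⟨S, hS⟩ := hk
  refine ⟨S.v 0, S.start_mem, ?_⟩
  have hc : ∀ j, (((δ (S.w j) - δ (S.v j)).toNat : ℕ) : ℕ∞) ≤ S.c j := fun j =>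
    Groth.Agent.CodimPtH8.le_codimPt δ hδ' _ _ (S.spec j)
  have hb : ∀ j, S.b j ≤ (((δ (S.w j.castSucc) - δ (S.v j.succ)).toNat : ℕ) : ℕ∞) := fun j =>
    Groth.Agent.CodimPtH8.codimPt_le δ hδ' _ _ (S.spec_succ j)
  have h1 : (∑ j : Fin (k + 1), S.c j) - ∑ j : Fin k, S.b j ≤ S.delta := by
    unfold Algz.DSystem.delta
    refine le_trans ?_ le_add_self
    refine le_trans ?_ (Finset.le_sup (Finset.mem_univ (0 : Fin (k + 1))))
    simp
  have hcnn : ∀ j, 0 ≤ δ (S.w j) - δ (S.v j) := fun j =>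
    sub_nonneg.mpr (Groth.Agent.CodimPtH8.le_of_specializes δ hδ' _ _ (S.spec j))
  have hbnn : ∀ j : Fin k, 0 ≤ δ (S.w j.castSucc) - δ (S.v j.succ) := fun j =>
    sub_nonneg.mpr (Groth.Agent.CodimPtH8.le_of_specializes δ hδ' _ _ (S.spec_succ j))
  set C : ℕ := ∑ j : Fin (k + 1), (δ (S.w j) - δ (S.v j)).toNat with hCdef
  set B : ℕ := ∑ j : Fin k, (δ (S.w j.castSucc) - δ (S.v j.succ)).toNat with hBdef
  have h2 : ((C - B : ℕ) : ℕ∞) ≤ (∑ j : Fin (k + 1), S.c j) - ∑ j : Fin k, S.b j := by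
    have hC' : ((C : ℕ) : ℕ∞) ≤ ∑ j : Fin (k + 1), S.c j := by
      rw [hCdef]
      push_cast
      exact Finset.sum_le_sum fun j _ => hc j
    have hB' : (∑ j : Fin k, S.b j) ≤ ((B : ℕ) : ℕ∞) := by
      rw [hBdef]
      push_cast
      exact Finset.sum_le_sum fun j _ => hb j
    calc ((C - B : ℕ) : ℕ∞) = (C : ℕ∞) - (B : ℕ∞) := by push_cast; rfl
      _ ≤ _ := tsub_le_tsub hC' hB'
  have hCB : C - B ≤ n := by
    have h3 : ((C - B : ℕ) : ℕ∞) < ((n + 1 : ℕ) : ℕ∞) := lt_of_le_of_lt (h2.trans h1) hS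
    have h4 : C - B < n + 1 := by exact_mod_cast h3
    omega
  have hC : (C : ℤ) = ∑ j : Fin (k + 1), (δ (S.w j) - δ (S.v j)) := by
    rw [hCdef]
    push_cast
    exact Finset.sum_congr rfl fun j _ => Int.toNat_of_nonneg (hcnn j)
  have hB : (B : ℤ) = ∑ j : Fin k, (δ (S.w j.castSucc) - δ (S.v j.succ)) := by
    rw [hBdef]
    push_cast
    exact Finset.sum_congr rfl fun j _ => Int.toNat_of_nonneg (hbnn j)
  have htel : (∑ j : Fin (k + 1), (δ (S.w j) - δ (S.v j))) -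
      ∑ j : Fin k, (δ (S.w j.castSucc) - δ (S.v j.succ)) = δ (S.w (Fin.last k)) - δ (S.v 0) := by
    rw [Finset.sum_sub_distrib, Finset.sum_sub_distrib,
      Fin.sum_univ_castSucc (fun j => δ (S.w j)), Fin.sum_univ_succ (fun j => δ (S.v j))]
    ring
  rw [S.last_eq] at htel
  omega

end Groth.Agent.S8814
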