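import Groth.Statements.S8815
import Groth.Agent.Lib.DeltaZ_helper8
import Groth.Agent.Lib.CatDim_helper8
import Groth.Agent.S8814

set_option autoImplicit false
universe u
open CategoryTheory AlgebraicGeometry
open Algz

namespace Groth.Agent.S8815

/-- Let A be a catenary Noetherian local ring, Y = Spec A and Z the closed point. Then δ_Z(y) equals the
dimension of the closure of y, i.e. dim(A/p_y), for every point y. -/
theorem result (A : Type u) [CommRing A] [IsNoetherianRing A] [IsLocalRing A] (hA : CAlg.IsCatenary A) (y : Spec (CommRingCat.of A)) : ((Algz.deltaZ ({IsLocalRing.closedPoint A} : Set (Spec (CommRingCat.of A))) y : ℕ∞) : WithBot ℕ∞) = ringKrullDim (A ⧸ y.asIdeal) := by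
  classical
  let yP : PrimeSpectrum A := y
  haveI : yP.asIdeal.IsPrime := yP.2
  have h3 : ringKrullDim (A ⧸ yP.asIdeal) = ((Order.coheight yP : ℕ∞) : WithBot ℕ∞) :=
    Groth.Agent.DimFT3H8.ringKrullDim_quotient_eq_coheight yP.asIdeal
  change _ = ringKrullDim (A ⧸ yP.asIdeal)
  rw [h3]
  have hfin : ∀ p : PrimeSpectrum A, Order.coheight p < ⊤ := by
    intro p
    have h1 : ((Order.coheight p : ℕ∞) : WithBot ℕ∞) ≤ ringKrullDim A := Order.coheight_le_krullDim p
    have h2 : ringKrullDim A < ⊤ := ringKrullDim_lt_top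
    have h4 : ((Order.coheight p : ℕ∞) : WithBot ℕ∞) < ⊤ := lt_of_le_of_lt h1 h2
    by_contra hc
    rw [not_lt, top_le_iff] at hc
    rw [hc] at h4
    exact lt_irrefl _ h4
  let m : Spec (CommRingCat.of A) := IsLocalRing.closedPoint A
  have hym : y ⤳ m := IsLocalRing.specializes_closedPoint yP
  have hcl0 : IsClosed ({IsLocalRing.closedPoint A} : Set (Spec (CommRingCat.of A))) :=
    IsLocalRing.isClosed_singleton_closedPoint A
  have hmem0 : m ∈ ({IsLocalRing.closedPoint A} : Set (Spec (CommRingCat.of A))) := rfl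
  have hsub0 : ∀ z ∈ ({IsLocalRing.closedPoint A} : Set (Spec (CommRingCat.of A))), z = m :=
    fun z hz => hz
  generalize ({IsLocalRing.closedPoint A} : Set (Spec (CommRingCat.of A))) = Z at hcl0 hmem0 hsub0 ⊢
  -- upper bound
  have hle : Algz.deltaZ Z y ≤ Order.coheight yP := by
    refine (Groth.Agent.DeltaZH8.deltaZ_le_codimPt Z y m hym hmem0).trans ?_
    unfold Algz.codimPt
    let ψ : Set.Ici (Specialization.toEquiv m) → (PrimeSpectrum A)ᵒᵈ :=
      fun a => OrderDual.toDual (Specialization.ofEquiv a.1 : PrimeSpectrum A)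
    have hψ : StrictMono ψ := by
      intro a b hab
      change (Specialization.ofEquiv b.1 : PrimeSpectrum A) < (Specialization.ofEquiv a.1 : PrimeSpectrum A)
      have h1 : Specialization.ofEquiv b.1 ⤳ Specialization.ofEquiv a.1 :=
        Specialization.ofEquiv_specializes_ofEquiv.mpr hab.le
      have h2 : (Specialization.ofEquiv b.1 : PrimeSpectrum A) ≤ (Specialization.ofEquiv a.1 : PrimeSpectrum A) :=
        (PrimeSpectrum.le_iff_specializes _ _).mpr h1
      refine lt_of_le_of_ne h2 ?_
      intro e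
      exact hab.ne (Subtype.ext (Specialization.ofEquiv_inj.mp e)).symm
    have h5 := Order.height_le_height_apply_of_strictMono ψ hψ
      (⟨Specialization.toEquiv y, Specialization.toEquiv_le_toEquiv.mpr hym⟩ :
        Set.Ici (Specialization.toEquiv m))
    refine h5.trans ?_
    change Order.height (OrderDual.toDual yP) ≤ _
    rw [Order.height_toDual]
  -- the dimension function
  let δ : Spec (CommRingCat.of A) → ℤ :=
    fun p => ((Order.coheight (α := PrimeSpectrum A) p).toNat : ℤ)
  have hδ : Cyc.IsDimFun (Spec (CommRingCat.of A)) δ := by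
    intro x y' hxy hne
    let xP : PrimeSpectrum A := x
    let yP' : PrimeSpectrum A := y'
    have hle' : xP ≤ yP' := (PrimeSpectrum.le_iff_specializes _ _).mpr hxy
    have hlt : xP < yP' := lt_of_le_of_ne hle' hne
    refine ⟨?_, ?_⟩
    · have := Groth.Agent.CatDimH8.toNat_coheight_succ_le hlt (hfin xP)
      change ((Order.coheight yP').toNat : ℤ) < ((Order.coheight xP).toNat : ℤ)
      omega
    · intro himm
      have hcov : xP ⋖ yP' := by
        refine ⟨hlt, ?_⟩
        intro c hxc hcy
        have h1 : x ⤳ (c : Spec (CommRingCat.of A)) := (PrimeSpectrum.le_iff_specializes _ _).mp hxc.le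
        have h2 : (c : Spec (CommRingCat.of A)) ⤳ y' := (PrimeSpectrum.le_iff_specializes _ _).mp hcy.le
        rcases himm c h1 h2 with e | e
        · exact hxc.ne e.symm
        · exact hcy.ne e
      have := Groth.Agent.CatDimH8.coheight_eq_of_covBy hA xP yP' hcov (hfin xP)
      change ((Order.coheight xP).toNat : ℤ) = ((Order.coheight yP').toNat : ℤ) + 1
      omega
  -- deltaZ is finite
  have hdfin : Algz.deltaZ Z y ≠ ⊤ :=
    (lt_of_le_of_lt hle (hfin yP)).ne
  obtain ⟨n, hn⟩ := ENat.ne_top_iff_exists.mp hdfin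
  obtain ⟨z, hz, hzle⟩ := Groth.Agent.S8814.result (Spec (CommRingCat.of A)) Z hcl0 δ hδ y n hn.symm
  have hzm : z = m := hsub0 z hz
  have hδm : δ m = 0 := by
    have : Order.coheight (α := PrimeSpectrum A) (IsLocalRing.closedPoint A) = 0 := by
      rw [Order.coheight_eq_zero]
      intro b _
      exact IsLocalRing.le_maximalIdeal b.2.ne_top
    change ((Order.coheight (α := PrimeSpectrum A) (IsLocalRing.closedPoint A)).toNat : ℤ) = 0
    rw [this]
    rfl
  rw [hzm, hδm] at hzle
  have h6 : (Order.coheight yP).toNat ≤ n := by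
    have : ((Order.coheight yP).toNat : ℤ) ≤ n + 0 := hzle
    omega
  obtain ⟨c, hc⟩ := ENat.ne_top_iff_exists.mp (hfin yP).ne
  rw [← hn] at hle ⊢
  rw [← hc] at hle h6 ⊢
  simp only [ENat.toNat_natCast] at h6
  have h7 : n ≤ c := by exact_mod_cast hle
  have : n = c := le_antisymm h7 h6
  rw [this]

end Groth.Agent.S8815
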