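import Groth.Statements.S8817
import Groth.Agent.Lib.DeltaZ3_helper8

set_option autoImplicit false
universe u
open CategoryTheory AlgebraicGeometry
open Algz

namespace Groth.Agent.S8817

/-- Let Y be a Noetherian scheme, Z ⊆ Y a closed subset and Y' ⊆ Y an open subscheme. For a point y' of
Y' the distance function of Y' relative to Y' ∩ Z at y' is at least the distance function of Y
relative to Z at y'. -/
theorem result (Y : Scheme.{u}) [IsNoetherian Y] (Z : Set Y) (hZ : IsClosed Z) (Y' : Y.Opens) (y' : (↑Y' : Scheme.{u})) : Algz.deltaZ Z (Y'.ι.base y') ≤ Algz.deltaZ ((fun x : (↑Y' : Scheme.{u}) => Y'.ι.base x) ⁻¹' Z) y' := by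
  classical
  unfold Algz.deltaZ
  refine le_iInf fun k => le_iInf fun S' => ?_
  have hemb : Topology.IsOpenEmbedding (fun x : (↑Y' : Scheme.{u}) => Y'.ι.base x) :=
    Y'.ι.isOpenEmbedding
  let S : Algz.DSystem Z (Y'.ι.base y') k :=
    { v := fun j => Y'.ι.base (S'.v j)
      w := fun j => Y'.ι.base (S'.w j)
      spec := fun j => (S'.spec j).map hemb.continuous
      spec_succ := fun j => (S'.spec_succ j).map hemb.continuous
      start_mem := S'.start_mem
      last_eq := by rw [S'.last_eq] }
  refine iInf_le_of_le k (iInf_le_of_le S ?_)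
  have hc : ∀ j, S.c j = S'.c j := fun j =>
    Groth.Agent.DeltaZ3H8.codimPt_map _ hemb _ _ (S'.spec j) _
  have hb : ∀ j, S.b j = S'.b j := fun j =>
    Groth.Agent.DeltaZ3H8.codimPt_map _ hemb _ _ (S'.spec_succ j) _
  unfold Algz.DSystem.delta
  simp only [hc, hb]
  exact le_rfl

end Groth.Agent.S8817
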