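import Groth.Statements.S8834
import Mathlib
-- import your own Groth.Agent.* helpers here

set_option autoImplicit false
universe u
open AdicRing


namespace Groth.Agent.S8834

/-- Let A be a Noetherian ring complete for the adic topology of an ideal I and B a Noetherian ring
complete for the adic topology of an ideal J, with an algebra map A → B sending I into the radical
of J (a continuous homomorphism of adic Noetherian topological rings; the radicals of I and J are
the ideals of topologically nilpotent elements). Assume B/√J is of finite type over A, equivalently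
over A/√I. Then B is topologically of finite type over A: there are b_1, …, b_s ∈ B such that the
A-algebra map A[x_1, …, x_s] → B with x_i ↦ b_i has dense image for the J-adic topology, that is,
for every y ∈ B and every n there is a polynomial whose value at b differs from y by an element of
J^n. -/
theorem result (A : Type u) [CommRing A] [IsNoetherianRing A] (I : Ideal A) [IsAdicComplete I A] (B : Type u) [CommRing B] [Algebra A B] [IsNoetherianRing B] (J : Ideal B) [IsAdicComplete J B] (hIJ : I.map (algebraMap A B) ≤ J.radical) (hft : Algebra.FiniteType A (B ⧸ J.radical)) : ∃ s : ℕ, ∃ b : Fin s → B, ∀ (y : B) (n : ℕ), ∃ p : MvPolynomial (Fin s) A, y - MvPolynomial.aeval b p ∈ J ^ n := by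
  classical
  set K : Ideal B := J.radical with hKdef
  have hKfg : K.FG := IsNoetherian.noetherian K
  obtain ⟨N, hN⟩ := Ideal.exists_radical_pow_le_of_fg J hKfg
  obtain ⟨r, f, hf⟩ := Algebra.FiniteType.iff_quotient_mvPolynomial''.1 hft
  have hc : ∀ i : Fin r, ∃ c : B, Ideal.Quotient.mk K c = f (MvPolynomial.X i) :=
    fun i => Ideal.Quotient.mk_surjective _
  choose c hc using hc
  obtain ⟨d, g, hg⟩ := Submodule.fg_iff_exists_fin_generating_family.1 hKfg
  have hg' : Ideal.span (Set.range g) = K := hg
  let b : Fin (r + d) → B := Fin.append c g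
  have hbc : ∀ i, b (Fin.castAdd d i) = c i := fun i => Fin.append_left c g i
  have hbg : ∀ j, b (Fin.natAdd r j) = g j := fun j => Fin.append_right c g j
  refine ⟨r + d, b, ?_⟩
  let C : Subalgebra A B := (MvPolynomial.aeval b).range
  have hbC : ∀ i, b i ∈ C := fun i => ⟨MvPolynomial.X i, MvPolynomial.aeval_X b i⟩
  -- step 1
  have H1 : ∀ y : B, ∃ z ∈ C, y - z ∈ K := by
    intro y
    obtain ⟨p, hp⟩ := hf (Ideal.Quotient.mk K y)
    refine ⟨MvPolynomial.aeval b (MvPolynomial.rename (Fin.castAdd d) p), ⟨_, rfl⟩, ?_⟩
    rw [← Ideal.Quotient.eq, ← hp, MvPolynomial.aeval_rename]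
    have hcomp : ((Ideal.Quotient.mkₐ A K).comp (MvPolynomial.aeval (b ∘ Fin.castAdd d))) = f := by
      apply MvPolynomial.algHom_ext
      intro i
      rw [AlgHom.comp_apply, MvPolynomial.aeval_X, Function.comp_apply, hbc]
      exact hc i
    have := congrArg (fun φ => φ p) hcomp
    simp only [AlgHom.comp_apply] at this
    exact this.symm
  have H : ∀ n : ℕ, ∀ y : B, ∃ z ∈ C, y - z ∈ K ^ n := by
    intro n
    induction n with
    | zero =>
      intro y
      exact ⟨0, C.zero_mem, by rw [pow_zero, Ideal.one_eq_top]; exact Submodule.mem_top⟩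
    | succ n ih =>
      intro y
      obtain ⟨z0, hz0, hy0⟩ := H1 y
      rw [← hg'] at hy0
      obtain ⟨u, hu⟩ := (Ideal.mem_span_range_iff_exists_fun).1 hy0
      choose z hz hk using fun j => ih (u j)
      refine ⟨z0 + ∑ j, z j * g j, ?_, ?_⟩
      · refine C.add_mem hz0 (C.sum_mem fun j _ => C.mul_mem (hz j) ?_)
        rw [← hbg]
        exact hbC _
      · have e : y - (z0 + ∑ j, z j * g j) = ∑ j, (u j - z j) * g j := by
          have : y = z0 + ∑ j, u j * g j := by rw [hu]; ring
          rw [this]
          simp only [sub_mul, Finset.sum_sub_distrib]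
          ring
        rw [e]
        refine Ideal.sum_mem _ fun j _ => ?_
        rw [pow_succ]
        refine Ideal.mul_mem_mul (hk j) ?_
        rw [← hg']
        exact Ideal.subset_span ⟨j, rfl⟩
  intro y n
  obtain ⟨z, ⟨p, hp⟩, hz⟩ := H (N * n) y
  refine ⟨p, ?_⟩
  have hp' : MvPolynomial.aeval b p = z := hp
  rw [hp']
  have : K ^ (N * n) ≤ J ^ n := by
    rw [pow_mul]
    exact Ideal.pow_right_mono hN n
  exact this hz

end Groth.Agent.S8834
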