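import Groth.Statements.S8836
import Groth.Agent.Lib.RigClosed3_helper3
-- import your own Groth.Agent.* helpers here

set_option autoImplicit false
universe u
open AdicRing


namespace Groth.Agent.S8836

/-- Let A be a Noetherian ring complete for the adic topology of an ideal I, and B a Noetherian
A-algebra complete for the IB-adic topology, flat over A, with B/IB of finite type over A (a flat
adic morphism, topologically of finite type, of adic Noetherian topological rings). Let p be a prime
of A which is rig-closed (I ⊄ p and p maximal among the primes not containing I). The following are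
equivalent: (1) the maximal ideal of the local ring A/p lies in the image of Spec(B/√(IB)) →
Spec(A/√I), stated as: some prime Q of B containing IB lies over a maximal ideal of A containing p;
(2) there is a rig-closed prime q of B (IB ⊄ q, q maximal among the primes not containing IB) whose
inverse image in A is p. (The published statement adds that, when these hold, A/p ⊆ B/q is a finite
extension of rings and the residue field of the local ring B/q is finite over A/√I; this is not
restated here.) -/
theorem result (A : Type u) [CommRing A] [IsNoetherianRing A] (I : Ideal A) [IsAdicComplete I A] (B : Type u) [CommRing B] [Algebra A B] [IsNoetherianRing B] [IsAdicComplete (I.map (algebraMap A B)) B] (hft : Algebra.FiniteType A (B ⧸ (I.map (algebraMap A B)))) [Module.Flat A B] (p : PrimeSpectrum A) (hp : (¬ I ≤ p.asIdeal ∧ ∀ y : PrimeSpectrum A, p ≤ y → ¬ I ≤ y.asIdeal → y = p)) : (∃ Q : PrimeSpectrum B, (I.map (algebraMap A B)) ≤ Q.asIdeal ∧ p.asIdeal ≤ (PrimeSpectrum.comap (algebraMap A B) Q).asIdeal ∧ (PrimeSpectrum.comap (algebraMap A B) Q).asIdeal.IsMaximal)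 ↔ (∃ q : PrimeSpectrum B, (¬ (I.map (algebraMap A B)) ≤ q.asIdeal ∧ ∀ y : PrimeSpectrum B, q ≤ y → ¬ (I.map (algebraMap A B)) ≤ y.asIdeal → y = q) ∧ PrimeSpectrum.comap (algebraMap A B) q = p) := by
  have hp' : Groth.Agent.Lib.RigClosedH3.IsRigClosed I p := hp
  haveI := p.isPrime
  constructor
  · rintro ⟨Q, hKQ, hpQ, -⟩
    have hne : p.asIdeal.map (algebraMap A B) ≠ ⊤ := by
      intro e
      have h1 : p.asIdeal.map (algebraMap A B) ≤ Q.asIdeal := Ideal.map_le_iff_le_comap.2 hpQ
      rw [e] at h1
      exact Q.isPrime.ne_top (top_le_iff.1 h1)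
    obtain ⟨q, hq, hqp⟩ := Groth.Agent.Lib.RigClosedH3.exists_rigClosed_over I p hp' hne
    exact ⟨q, hq, hqp⟩
  · rintro ⟨q, hq, hqp⟩
    obtain ⟨M, hM, hqM⟩ := Ideal.exists_le_maximal q.asIdeal q.isPrime.ne_top
    haveI : M.IsPrime := hM.isPrime
    have hKM : I.map (algebraMap A B) ≤ M :=
      (IsAdicComplete.le_jacobson_bot _).trans (sInf_le ⟨bot_le, hM⟩)
    have hpM : p.asIdeal ≤ M.comap (algebraMap A B) := by
      rw [← hqp]
      exact Ideal.comap_mono hqM
    refine ⟨⟨M, inferInstance⟩, hKM, hpM, ?_⟩
    haveI : (M.comap (algebraMap A B)).IsPrime := Ideal.comap_isPrime _ M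
    have hlt : p.asIdeal < M.comap (algebraMap A B) := by
      refine lt_of_le_of_ne hpM ?_
      intro e
      apply hp.1
      rw [e]
      exact Ideal.map_le_iff_le_comap.1 hKM
    exact Groth.Agent.Lib.RigClosedH3.isMaximal_of_lt hp' _ hlt

end Groth.Agent.S8836
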