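import Groth.Statements.S8849
import Mathlib
import Groth.Agent.Lib.CartierFlat3_helper9

set_option autoImplicit false
universe u
open CategoryTheory CategoryTheory.Limits AlgebraicGeometry TopologicalSpace
open SDiv

namespace Groth.Agent.S8849

/-- Let f : X ⟶ S be a morphism of schemes and 𝓘 the ideal sheaf of an effective Cartier divisor D ⊆ X
with D flat over S (a relative effective Cartier divisor). If f is flat at every point of X not in
D, then f is flat. -/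
theorem result {X S : Scheme.{u}} (f : X ⟶ S) (𝓘 : X.IdealSheafData)
    (hD : BlowUp.IsEffCartierIdeal 𝓘 ∧ Flat (𝓘.subschemeι ≫ f))
    (hflat : ∀ x : ↥X, x ∉ 𝓘.support → (f.stalkMap x).hom.Flat) : Flat f := by
  obtain ⟨hC, hF⟩ := hD
  rw [Flat.iff_flat_stalkMap]
  intro x
  by_cases hx : x ∈ 𝓘.support
  swap
  · exact hflat x hx
  obtain ⟨V, hxV, -⟩ := Groth.Agent.Lib.CartierFlat.exists_affine_le (f x) ⊤ trivial
  obtain ⟨U₁, hx₁, H₁⟩ := Groth.Agent.Lib.CartierFlat.exists_affine_principal 𝓘 hC x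
  obtain ⟨W, hxW, hW⟩ := Groth.Agent.Lib.CartierFlat.exists_affine_le x
    (U₁.1 ⊓ f ⁻¹ᵁ V.1) ⟨hx₁, hxV⟩
  obtain ⟨g, hg, e₁⟩ := H₁ W (fun y hy => (hW hy).1)
  have hWV : W.1 ≤ f ⁻¹ᵁ V.1 := fun y hy => (hW hy).2
  have k := Groth.Agent.Lib.CartierFlat.flat_quot_of_flat 𝓘 f hF V W hWV
  rw [e₁, Groth.Agent.Lib.CartierFlat.flat_comp_mk_iff] at k
  apply Groth.Agent.Lib.LocFlatSch.flat_stalkMap_of_flat_localizedModule f V.2 W.2 hWV hxW
  letI := (f.appLE V.1 W.1 hWV).hom.toAlgebra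
  haveI : Module.Flat Γ(S, V.1) (Γ(X, W.1) ⧸ Ideal.span {g}) := k
  haveI : Module.Flat Γ(S, V.1) Γ(X, W.1) := by
    refine Groth.Agent.Lib.CartierFlat3.flat_of_flat_away g hg ?_
    intro P hP hgP
    have hyW := Groth.Agent.Lib.CartierFlat3.fromSpec_mem W.2 ⟨P, hP⟩
    have hPy := Groth.Agent.Lib.CartierFlat3.primeIdealOf_fromSpec W.2 ⟨P, hP⟩ hyW
    have hy : W.2.fromSpec ⟨P, hP⟩ ∉ 𝓘.support := by
      intro hsupp
      have hz := (Scheme.IdealSheafData.mem_support_iff_of_mem (I := 𝓘) (U := W) hyW).mp hsupp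
      rw [Scheme.mem_zeroLocus_iff] at hz
      apply hz g (e₁ ▸ Ideal.mem_span_singleton_self g)
      rw [← Groth.Agent.Lib.LocFlatSch.notMem_primeIdealOf_iff W.2 hyW, hPy]
      exact hgP
    have h1 := Groth.Agent.Lib.CartierFlat3.flat_localizedModule_of_flat_stalkMap f V.2 W.2 hWV hyW
      (hflat _ hy)
    rw [hPy] at h1
    exact h1
  exact Groth.Agent.Lib.CartierFlat2.flat_localizedModule _ _

end Groth.Agent.S8849
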