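import Groth.Statements.S8853
-- (no extra imports)

set_option autoImplicit false
universe u
open CategoryTheory CategoryTheory.Limits AlgebraicGeometry TopologicalSpace
open SDiv

namespace Groth.Agent.S8853

/-- Let Z be a locally principal closed subscheme of a scheme S, with ideal sheaf 𝓘 generated by a
single section on some affine open neighbourhood of each point of its support, and let U be the open
complement of Z. Then the inclusion U ⟶ S is an affine morphism. -/
theorem result {S : Scheme.{u}} (𝓘 : S.IdealSheafData) (h : Curv2.IsLocPrincipal 𝓘) :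
    IsAffineHom (Scheme.Opens.ι 𝓘.support.compl) := by
  apply isAffineHom_of_forall_exists_isAffineOpen
  intro x
  have key : ∀ U : S.Opens, IsAffineOpen (𝓘.support.compl ⊓ U) →
      IsAffineOpen ((Scheme.Opens.ι 𝓘.support.compl) ⁻¹ᵁ U) := by
    intro U hU
    rw [← Scheme.Hom.isAffineOpen_iff_of_isOpenImmersion (Scheme.Opens.ι 𝓘.support.compl),
      Scheme.Hom.image_preimage_eq_opensRange_inf, Scheme.Opens.opensRange_ι]
    exact hU
  by_cases hx : x ∈ 𝓘.support
  · obtain ⟨U, hxU, f, hf⟩ := h x hx
    refine ⟨U.1, hxU, U.2, key U.1 ?_⟩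
    have hmem : ∀ y, y ∈ U.1 → (y ∈ 𝓘.support ↔ y ∉ S.basicOpen f) := by
      intro y hyU
      rw [Scheme.IdealSheafData.mem_support_iff_of_mem hyU, hf, Scheme.zeroLocus_span,
        Scheme.zeroLocus_singleton]
      rfl
    have : 𝓘.support.compl ⊓ U.1 = S.basicOpen f := by
      refine le_antisymm ?_ ?_
      · intro y hy
        have hyW : y ∉ 𝓘.support := (Opens.mem_inf.mp hy).1
        have hyU : y ∈ U.1 := (Opens.mem_inf.mp hy).2
        by_contra hyf
        exact hyW ((hmem y hyU).mpr hyf)
      · intro y hyf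
        have hyU : y ∈ U.1 := S.basicOpen_le f hyf
        refine Opens.mem_inf.mpr ⟨?_, hyU⟩
        show y ∉ 𝓘.support
        intro hys
        exact (hmem y hyU).mp hys hyf
    rw [this]
    exact U.2.basicOpen f
  · obtain ⟨U, hU, hxU, hUW⟩ := Opens.isBasis_iff_nbhd.mp S.isBasis_affineOpens
      (show x ∈ 𝓘.support.compl from hx)
    refine ⟨U, hxU, hU, key U ?_⟩
    rw [inf_eq_right.mpr hUW]
    exact hU

end Groth.Agent.S8853
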