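import Groth.Statements.S8854
import Mathlib

set_option autoImplicit false
universe u
open SDiv

namespace Groth.Agent.S8854

theorem exists_finset_gcd {R : Type*} [CommRing R] [IsDomain R] [UniqueFactorizationMonoid R]
    (s : Finset R) : ∃ d : R, (∀ a ∈ s, d ∣ a) ∧ ∀ e : R, (∀ a ∈ s, e ∣ a) → e ∣ d := by
  classical
  letI : GCDMonoid R := UniqueFactorizationMonoid.toGCDMonoid R
  induction s using Finset.induction_on with
  | empty => exact ⟨0, fun a ha => absurd ha (Finset.notMem_empty a), fun e _ => dvd_zero e⟩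
  | insert a s ha ih =>
    obtain ⟨d, hd1, hd2⟩ := ih
    refine ⟨gcd a d, ?_, ?_⟩
    · intro b hb
      rcases Finset.mem_insert.mp hb with rfl | hb
      · exact gcd_dvd_left _ _
      · exact (gcd_dvd_right _ _).trans (hd1 b hb)
    · intro e he
      exact dvd_gcd (he a (Finset.mem_insert_self a s))
        (hd2 e fun b hb => he b (Finset.mem_insert_of_mem hb))

/-- Let R be a Noetherian unique factorisation domain and I ⊆ R an ideal such that every associated
prime of R/I is minimal over I (R/I has no embedded primes) and every prime minimal over I has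
height 1. Then I is principal: it is generated by one element. -/
theorem result (R : Type u) [CommRing R] [IsDomain R] [IsNoetherianRing R]
    [UniqueFactorizationMonoid R] (I : Ideal R)
    (h1 : ∀ p : Ideal R, p ∈ associatedPrimes R (R ⧸ I) → p ∈ I.minimalPrimes)
    (h2 : ∀ p : Ideal R, p ∈ I.minimalPrimes → p.height = 1) :
    ∃ f : R, I = Ideal.span {f} := by
  classical
  obtain ⟨s, hs⟩ : I.FG := IsNoetherian.noetherian I
  obtain ⟨f, hfd, hfu⟩ := exists_finset_gcd s
  have hIle : I ≤ Ideal.span {f} := by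
    rw [← hs, Submodule.span_le]
    intro a ha
    exact Ideal.mem_span_singleton.mpr (hfd a ha)
  by_cases hf0 : f = 0
  · refine ⟨0, le_antisymm ?_ ?_⟩
    · rw [← hf0]; exact hIle
    · rw [Ideal.span_singleton_eq_bot.mpr rfl]; exact bot_le
  set J : Ideal R := Submodule.comap (LinearMap.mul R R f) I with hJdef
  have hJmem : ∀ r : R, r ∈ J ↔ f * r ∈ I := fun r => Iff.rfl
  by_cases hJ : J = ⊤
  · refine ⟨f, le_antisymm hIle ?_⟩
    rw [Ideal.span_le, Set.singleton_subset_iff]
    have h1J : (1 : R) ∈ J := by rw [hJ]; exact Submodule.mem_top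
    have h1' := (hJmem 1).mp h1J
    rwa [mul_one] at h1'
  exfalso
  haveI : Nontrivial (R ⧸ J) := Ideal.Quotient.nontrivial_iff.mpr hJ
  obtain ⟨p, hp⟩ := associatedPrimes.nonempty R (R ⧸ J)
  have hθ : Function.Injective
      (Submodule.mapQ J I (LinearMap.mul R R f) (le_refl _)) := by
    rw [injective_iff_map_eq_zero]
    intro x hx
    obtain ⟨r, rfl⟩ := Submodule.Quotient.mk_surjective J x
    rw [Submodule.mapQ_apply, Submodule.Quotient.mk_eq_zero] at hx
    rw [Submodule.Quotient.mk_eq_zero]
    exact hx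
  have hpI : p ∈ associatedPrimes R (R ⧸ I) := associatedPrimes.subset_of_injective hθ hp
  have hpmin := h1 p hpI
  have hph := h2 p hpmin
  haveI hpp : p.IsPrime := hpmin.1.1
  obtain ⟨π, hπp, hπ⟩ :=
    Ideal.IsPrime.exists_mem_prime_of_ne_bot hpp (Ideal.ne_bot_of_height_eq_one hph)
  have hpeq : p = Ideal.span {π} := Ideal.eq_span_singleton_of_height_eq_one hph hπp hπ
  have hJp : J ≤ p := by
    obtain ⟨-, x, hx⟩ := isAssociatedPrime_iff.mp hp
    intro j hj
    rw [hx, Submodule.mem_colon_singleton, Submodule.mem_bot]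
    obtain ⟨r, rfl⟩ := Submodule.Quotient.mk_surjective J x
    rw [← Submodule.Quotient.mk_smul, Submodule.Quotient.mk_eq_zero, smul_eq_mul]
    exact J.mul_mem_right r hj
  have hdvd : ∀ a ∈ s, f * π ∣ a := by
    intro a ha
    obtain ⟨c, rfl⟩ := hfd a ha
    have haI : f * c ∈ I := by rw [← hs]; exact Ideal.subset_span ha
    have hcp : c ∈ p := hJp ((hJmem c).mpr haI)
    rw [hpeq, Ideal.mem_span_singleton] at hcp
    exact mul_dvd_mul_left f hcp
  have h3 : f * π ∣ f * 1 := by rw [mul_one]; exact hfu _ hdvd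
  have h4 : π ∣ 1 := (mul_dvd_mul_iff_left hf0).mp h3
  exact hπ.not_unit (isUnit_of_dvd_one h4)

end Groth.Agent.S8854
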