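import Groth.Statements.S8863
import Groth.Agent.Lib.WeakAssSch_helper4

set_option autoImplicit false
universe u
open CategoryTheory CategoryTheory.Limits AlgebraicGeometry TopologicalSpace
open SDiv

namespace Groth.Agent.S8863

open Groth.Agent.Lib.WeakAssSch_helper4

theorem exists_kill_ann {A B : Type*} [CommRing A] [IsNoetherianRing A] [CommRing B] [Algebra A B]
    (p : Ideal A) [hp : p.IsPrime] [IsLocalization.AtPrime B p] (a : A)
    (ha : algebraMap A B a ∈ nonZeroDivisors B) :
    ∃ h : A, h ∉ p ∧ ∀ y : A, y * a = 0 → h * y = 0 := by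
  classical
  set K : Ideal A := (Submodule.span A ({a} : Set A)).annihilator with hK
  have hKmem : ∀ y, y ∈ K ↔ y * a = 0 := fun y => by
    rw [hK, Submodule.mem_annihilator_span_singleton, smul_eq_mul]
  obtain ⟨s, hs⟩ : K.FG := IsNoetherian.noetherian K
  have key : ∀ y : A, ∃ t : A, t ∉ p ∧ (y ∈ K → t * y = 0) := by
    intro y
    by_cases hy : y ∈ K
    · have h1 : algebraMap A B y * algebraMap A B a = 0 := by
        rw [← map_mul, (hKmem y).mp hy, map_zero]
      have h2 : algebraMap A B y = 0 := (mem_nonZeroDivisors_iff_right.mp ha) _ h1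
      obtain ⟨t, ht⟩ := (IsLocalization.map_eq_zero_iff p.primeCompl B y).mp h2
      exact ⟨t.1, t.2, fun _ => ht⟩
    · exact ⟨1, fun h1 => hp.ne_top ((Ideal.eq_top_iff_one _).mpr h1), fun h => absurd h hy⟩
  choose t ht1 ht2 using key
  refine ⟨∏ y ∈ s, t y, ?_, ?_⟩
  · intro hmem
    obtain ⟨y, _, hy⟩ := Ideal.IsPrime.prod_mem_iff.mp hmem
    exact ht1 y hy
  · intro y hy
    have hyK : y ∈ K := (hKmem y).mpr hy
    have hle : K ≤ (Submodule.span A ({∏ y ∈ s, t y} : Set A)).annihilator := by
      rw [← hs, Submodule.span_le]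
      intro z hz
      have hzK : z ∈ K := hs ▸ Submodule.subset_span hz
      rw [SetLike.mem_coe, Submodule.mem_annihilator_span_singleton, smul_eq_mul]
      obtain ⟨r, hr⟩ := Finset.dvd_prod_of_mem t (Finset.mem_coe.mp hz)
      rw [hr]
      calc z * (t z * r) = r * (t z * z) := by ring
        _ = 0 := by rw [ht2 z hzK, mul_zero]
    have h3 := hle hyK
    rw [Submodule.mem_annihilator_span_singleton, smul_eq_mul] at h3
    rw [mul_comm]
    exact h3

theorem map_mem_nzd_of_kill {A B : Type*} [CommRing A] [CommRing B] [Algebra A B]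
    (q : Ideal A) [q.IsPrime] [IsLocalization.AtPrime B q] (a h : A) (hq : h ∉ q)
    (hkill : ∀ y : A, y * a = 0 → h * y = 0) : algebraMap A B a ∈ nonZeroDivisors B := by
  rw [mem_nonZeroDivisors_iff_right]
  intro z hz
  obtain ⟨⟨y, s⟩, hys⟩ := IsLocalization.surj q.primeCompl z
  have hys' : z * algebraMap A B ↑s = algebraMap A B y := hys
  have h1 : algebraMap A B (y * a) = 0 := by
    rw [map_mul, ← hys']
    calc z * algebraMap A B ↑s * algebraMap A B a
        = (z * algebraMap A B a) * algebraMap A B ↑s := by ring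
      _ = 0 := by rw [hz, zero_mul]
  obtain ⟨t, ht⟩ := (IsLocalization.map_eq_zero_iff q.primeCompl B _).mp h1
  have h2 : h * (↑t * y) = 0 := hkill (↑t * y) (by rw [mul_assoc]; exact ht)
  have h3 : algebraMap A B y = 0 := by
    have hu : IsUnit (algebraMap A B (h * ↑t)) :=
      IsLocalization.map_units B (⟨h * ↑t, q.primeCompl.mul_mem hq t.2⟩ : q.primeCompl)
    have h4 : algebraMap A B (h * ↑t) * algebraMap A B y = 0 := by
      rw [← map_mul, mul_assoc, h2, map_zero]
    exact (hu.mul_right_eq_zero).mp h4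
  have hus : IsUnit (algebraMap A B ↑s) := IsLocalization.map_units B s
  rw [h3] at hys'
  exact (hus.mul_left_eq_zero).mp hys'

/-- Let X be a locally Noetherian scheme and x a point of X. Then the monoid S_x of germs at x of
regular sections of O_X (sections whose germ at every point of their open of definition is a
nonzerodivisor) is the whole monoid of nonzerodivisors of O_{X,x}; consequently K_{X,x} is the total
ring of fractions of O_{X,x}. -/
theorem result (X : Scheme.{u}) [IsLocallyNoetherian X] (x : ↥X) :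
    Mero.regStalk X x = nonZeroDivisors ↑(X.presheaf.stalk x) := by
  refine le_antisymm (Mero.regStalk_le_nonZeroDivisors x) ?_
  intro g hg
  obtain ⟨U₀, hxU₀, s, rfl⟩ := X.presheaf.exists_germ_eq g
  obtain ⟨U, hU, hxU, hUU₀⟩ := Opens.isBasis_iff_nbhd.mp X.isBasis_affineOpens hxU₀
  have hU : IsAffineOpen U := hU
  set a : Γ(X, U) := X.presheaf.map (homOfLE hUU₀).op s with ha
  have hga : X.presheaf.germ U x hxU a = X.presheaf.germ U₀ x hxU₀ s :=
    TopCat.Presheaf.germ_res_apply _ _ _ _ _
  haveI : IsNoetherianRing Γ(X, U) := IsLocallyNoetherian.component_noetherian ⟨U, hU⟩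
  obtain ⟨h, hh, hkill⟩ :
      ∃ h : Γ(X, U), x ∈ X.basicOpen h ∧ ∀ y : Γ(X, U), y * a = 0 → h * y = 0 := by
    letI := X.presheaf.algebra_section_stalk (⟨x, hxU⟩ : U)
    haveI := hU.isLocalization_stalk ⟨x, hxU⟩
    obtain ⟨h, hh, hkill⟩ := exists_kill_ann (B := X.presheaf.stalk x)
      (hU.primeIdealOf ⟨x, hxU⟩).asIdeal a (by
        change X.presheaf.germ U x hxU a ∈ _
        rw [hga]; exact hg)
    exact ⟨h, (notMem_primeIdealOf_iff hU hxU h).mp hh, hkill⟩
  refine ⟨X.basicOpen h, hh, X.presheaf.map (homOfLE (X.basicOpen_le h)).op a, ?_, ?_⟩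
  · intro v
    have hvU : v.1 ∈ U := X.basicOpen_le h v.2
    change X.presheaf.germ (X.basicOpen h) v.1 v.2
      (X.presheaf.map (homOfLE (X.basicOpen_le h)).op a) ∈ _
    rw [TopCat.Presheaf.germ_res_apply]
    letI := X.presheaf.algebra_section_stalk (⟨v.1, hvU⟩ : U)
    haveI := hU.isLocalization_stalk ⟨v.1, hvU⟩
    exact map_mem_nzd_of_kill (B := X.presheaf.stalk v.1) (hU.primeIdealOf ⟨v.1, hvU⟩).asIdeal a h
      ((notMem_primeIdealOf_iff hU hvU h).mpr v.2) hkill
  · rw [TopCat.Presheaf.germ_res_apply, hga]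

end Groth.Agent.S8863
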