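import Groth.Statements.S8865
import Mathlib

set_option autoImplicit false
universe u
open CategoryTheory CategoryTheory.Limits AlgebraicGeometry TopologicalSpace
open SDiv

namespace Groth.Agent.S8865

theorem mk_eq_mk' {X : Scheme.{u}} (y : X) (r : X.presheaf.stalk y) (s : Mero.regStalk X y) :
    (LocalizedModule.mk r s : Mero.KStalk X y) = IsLocalization.mk' (Mero.KStalk X y) r s := by
  rw [← Localization.mk_eq_mk']; rfl

theorem mk_one_eq_algebraMap {X : Scheme.{u}} (y : X) (r : X.presheaf.stalk y) :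
    (LocalizedModule.mk r 1 : Mero.KStalk X y) = algebraMap _ (Mero.KStalk X y) r := by
  rw [← Localization.mk_one_eq_algebraMap]; rfl

theorem mk_eq_zero_iff {X : Scheme.{u}} (y : X) (r : X.presheaf.stalk y) (s : Mero.regStalk X y) :
    (LocalizedModule.mk r s : Mero.KStalk X y) = 0 ↔ r = 0 := by
  rw [mk_eq_mk', IsLocalization.mk'_eq_zero_iff]
  constructor
  · rintro ⟨m, hm⟩
    have hm' := Mero.regStalk_le_nonZeroDivisors y m.2
    exact (mem_nonZeroDivisors_iff_right.mp hm') r (by rw [mul_comm]; exact hm)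
  · rintro rfl
    exact ⟨1, mul_zero _⟩

theorem mk_pow_mul_mk_eq_zero {X : Scheme.{u}} (y : X) (r a : X.presheaf.stalk y)
    (s : Mero.regStalk X y) (n : ℕ) (e : r ^ n * a = 0) :
    (LocalizedModule.mk r 1 : Mero.KStalk X y) ^ n * LocalizedModule.mk a s = 0 := by
  rw [mk_one_eq_algebraMap, mk_eq_mk', ← map_pow, IsLocalization.mul_mk'_eq_mk'_of_mul, e,
    IsLocalization.mk'_zero]

theorem exists_pow_mul_eq_zero_of_germ {X : Scheme.{u}} {W : X.Opens} (hW : IsAffineOpen W)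
    (h' a : Γ(X, W))
    (H : ∀ (y : X) (hy : y ∈ X.basicOpen h'),
      X.presheaf.germ W y (X.basicOpen_le h' hy) a = 0) :
    ∃ n : ℕ, h' ^ n * a = 0 := by
  apply exists_pow_mul_eq_zero_of_res_basicOpen_eq_zero_of_isAffineOpen X hW a h'
  apply TopCat.Presheaf.section_ext X.sheaf (X.basicOpen h')
  intro y hy
  have h0 : X.presheaf.germ (X.basicOpen h') y hy (0 : Γ(X, X.basicOpen h')) = 0 := map_zero _
  exact ((TopCat.Presheaf.germ_res_apply X.presheaf (homOfLE (X.basicOpen_le h')) y hy a).trans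
    (H y hy)).trans h0.symm

/-- Let X be a quasi-compact scheme, h a global section of O_X and f a global section of the sheaf of
meromorphic functions K_X whose restriction to the open X_h where h is invertible vanishes. Then h^n
f = 0 in K_X(X) for some natural number n. -/
theorem result (X : Scheme.{u}) [CompactSpace ↥X] (h : Γ(X, ⊤))
    (f : Γ(Mero.kmod X, ⊤)) (hf : (Mero.kmod X).presheaf.map (homOfLE (le_top : X.basicOpen h ≤ ⊤)).op f = 0) :
    ∃ n : ℕ, Mero.toK X ⊤ h ^ n * f = 0 := by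
  classical
  have hloc : ∀ x : X, ∃ W : X.Opens, x ∈ W ∧ ∃ n : ℕ, ∀ (y : X) (_ : y ∈ W),
      (LocalizedModule.mk (X.presheaf.germ ⊤ y trivial h) 1 : Mero.KStalk X y) ^ n *
        f.1 ⟨y, trivial⟩ = 0 := by
    intro x
    obtain ⟨V, hxV, i, a, b, hab⟩ := f.2 ⟨x, trivial⟩
    obtain ⟨W, hW, hxW, hWV⟩ := (Opens.isBasis_iff_nbhd.mp X.isBasis_affineOpens) hxV
    obtain ⟨n, hn⟩ := exists_pow_mul_eq_zero_of_germ hW
      (X.presheaf.map (homOfLE (le_top : W ≤ ⊤)).op h)
      (X.presheaf.map (homOfLE hWV).op a) (by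
        intro y hy
        have hy2 : y ∈ W ⊓ X.basicOpen h :=
          (X.basicOpen_res h (homOfLE (le_top : W ≤ ⊤)).op).le hy
        have hyW : y ∈ W := (Opens.mem_inf.mp hy2).1
        have hyh : y ∈ X.basicOpen h := (Opens.mem_inf.mp hy2).2
        have hyV : y ∈ V := hWV hyW
        refine (TopCat.Presheaf.germ_res_apply X.presheaf (homOfLE hWV) y _ a).trans ?_
        have h1 : f.1 ⟨y, trivial⟩ = LocalizedModule.mk (X.presheaf.germ V y hyV a)
            (Mero.regGerm ⟨y, hyV⟩ b) := hab ⟨y, hyV⟩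
        have h2 : f.1 ⟨y, trivial⟩ = 0 :=
          congrArg (fun g : Γ(Mero.kmod X, X.basicOpen h) => g.1 ⟨y, hyh⟩) hf
        have h3 : (LocalizedModule.mk (X.presheaf.germ V y hyV a)
            (Mero.regGerm ⟨y, hyV⟩ b) : Mero.KStalk X y) = 0 := by
          rw [← h1]; exact h2
        exact (mk_eq_zero_iff y _ _).mp h3)
    refine ⟨W, hxW, n, fun y hy => ?_⟩
    have hyV : y ∈ V := hWV hy
    have h1 : f.1 ⟨y, trivial⟩ = LocalizedModule.mk (X.presheaf.germ V y hyV a)
        (Mero.regGerm ⟨y, hyV⟩ b) := hab ⟨y, hyV⟩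
    rw [h1]
    have e1 : X.presheaf.germ ⊤ y trivial h =
        X.presheaf.germ W y hy (X.presheaf.map (homOfLE (le_top : W ≤ ⊤)).op h) :=
      (TopCat.Presheaf.germ_res_apply X.presheaf (homOfLE (le_top : W ≤ ⊤)) y hy h).symm
    have e2 : X.presheaf.germ V y hyV a =
        X.presheaf.germ W y hy (X.presheaf.map (homOfLE hWV).op a) :=
      (TopCat.Presheaf.germ_res_apply X.presheaf (homOfLE hWV) y hy a).symm
    have e3 : X.presheaf.germ ⊤ y trivial h ^ n * X.presheaf.germ V y hyV a = 0 := by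
      rw [e1, e2, ← map_pow, ← map_mul, hn, map_zero]
    exact mk_pow_mul_mk_eq_zero y _ _ _ n e3
  choose W hxW n hn using hloc
  obtain ⟨t, ht⟩ := isCompact_univ.elim_nhds_subcover (fun x => (W x : Set X))
    (fun x _ => (W x).2.mem_nhds (hxW x))
  refine ⟨t.sup n, ?_⟩
  apply Subtype.ext
  funext y
  obtain ⟨y, hy⟩ := y
  have hy' := ht.2 (Set.mem_univ y)
  rw [Set.mem_iUnion₂] at hy'
  obtain ⟨x, hxt, hyx⟩ := hy'
  have hle : n x ≤ t.sup n := Finset.le_sup hxt
  show Mero.evalK X ⊤ ⟨y, hy⟩ (Mero.toK X ⊤ h ^ t.sup n * f) = 0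
  rw [map_mul, map_pow]
  have hk := hn x y hyx
  have hz : Mero.evalK X ⊤ ⟨y, hy⟩ (Mero.toK X ⊤ h) =
      (LocalizedModule.mk (X.presheaf.germ ⊤ y trivial h) 1 : Mero.KStalk X y) := rfl
  have hfy : Mero.evalK X ⊤ ⟨y, hy⟩ f = f.1 ⟨y, trivial⟩ := rfl
  rw [hz, hfy, ← Nat.sub_add_cancel hle, pow_add, mul_assoc, hk, mul_zero]

end Groth.Agent.S8865
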