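import Groth.Statements.S9582
import Groth.Agent.Lib.WeakAss_helper4

set_option autoImplicit false
universe u
open CAlg

namespace Groth.Agent.S9582

/-- For a reduced ring R, the primes weakly associated to the R-module R (primes minimal over the
annihilator of some element) are exactly the minimal primes of R. -/
theorem result {R : Type u} [CommRing R] [IsReduced R] :
    FlatCA.weakAss R R = minimalPrimes R := by
  open Groth.Agent.Lib.WeakAss_helper4 in
  ext p
  constructor
  · rintro ⟨x, hx⟩
    have hpp : p.IsPrime := hx.1.1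
    have key : ∀ t ∈ p, ∃ s ∉ p, s * t * x = 0 := by
      intro t ht
      obtain ⟨s, hs, n, hn⟩ := exists_mul_pow_mem hx ht
      refine ⟨s, hs, ?_⟩
      rw [mem_ann, smul_eq_mul] at hn
      have h1 : (s * t * x) ^ (n + 1) = 0 := by
        calc (s * t * x) ^ (n + 1) = (s * t ^ n * x) * (s ^ n * t * x ^ n) := by ring
          _ = 0 := by rw [hn, zero_mul]
      exact IsReduced.eq_zero _ ⟨_, h1⟩
    refine ⟨⟨hpp, bot_le⟩, fun q hq hqp t ht => ?_⟩
    by_contra htq
    obtain ⟨s, hs, hst⟩ := key t ht
    have hxq : x ∈ q := by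
      have : s * t * x ∈ q := hst ▸ q.zero_mem
      rcases hq.1.mem_or_mem this with h | h
      · rcases hq.1.mem_or_mem h with h | h
        · exact absurd (hqp h) hs
        · exact absurd h htq
      · exact h
    obtain ⟨s', hs', hs'x⟩ := key x (hqp hxq)
    have h2 : (s' * x) ^ 2 = 0 := by
      calc (s' * x) ^ 2 = s' * (s' * x * x) := by ring
        _ = 0 := by rw [hs'x, mul_zero]
    have h0 : s' * x = 0 := IsReduced.eq_zero _ ⟨2, h2⟩
    exact hs' (hx.1.2 (mem_ann.mpr h0))
  · intro hp
    refine ⟨1, ?_⟩
    have : ann R (1 : R) = ⊥ := by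
      ext r
      rw [mem_ann]
      simp
    show p ∈ (ann R (1 : R)).minimalPrimes
    rw [this]
    exact hp

end Groth.Agent.S9582
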