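import Groth.Statements.S8869
import Mathlib
import Groth.Agent.Lib.WeakAssSch3_helper4
import Groth.Agent.S9582

set_option autoImplicit false
universe u
open CategoryTheory CategoryTheory.Limits AlgebraicGeometry TopologicalSpace
open SDiv

namespace Groth.Agent.S8869

open AlgebraicGeometry CategoryTheory TopologicalSpace Opposite FlatCA
open Groth.Agent.Lib.WeakAssSch_helper4 Groth.Agent.Lib.WeakAssSch3_helper4

/-- Assume X is a reduced scheme and x is a point of X. Then x is weakly associated to the structure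
sheaf O_X exactly when every generization of x equals x itself; equivalently, x is a generic point
of some irreducible component of X. -/
theorem result (X : Scheme.{u}) [IsReduced X] (x : ↥X) :
    Curv2.IsWeakAssPoint (Coh.structureModule X) x ↔ ∀ y : ↥X, y ⤳ x → y = x := by
  obtain ⟨U, hU, hxU, -⟩ := (Opens.isBasis_iff_nbhd.mp X.isBasis_affineOpens)
    (show x ∈ (⊤ : X.Opens) from trivial)
  rw [isWeakAssPoint_structureModule_iff hU hxU, Groth.Agent.S9582.result]
  constructor
  · intro hmin y hyx
    have hyU : y ∈ U := hyx.mem_open U.isOpen hxU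
    have hle := (specializes_iff_primeIdealOf_le hU hxU hyU).mp hyx
    have hge : (hU.primeIdealOf ⟨x, hxU⟩).asIdeal ≤ (hU.primeIdealOf ⟨y, hyU⟩).asIdeal :=
      hmin.2 ⟨(hU.primeIdealOf ⟨y, hyU⟩).isPrime, bot_le⟩ hle
    exact primeIdealOf_injective hU hyU hxU (PrimeSpectrum.ext (le_antisymm hle hge))
  · intro h
    refine ⟨⟨(hU.primeIdealOf ⟨x, hxU⟩).isPrime, bot_le⟩, ?_⟩
    rintro q ⟨hq, -⟩ hqp
    obtain ⟨y, hyU, hyq⟩ := exists_point_of_prime hU ⟨q, hq⟩
    have hyx : y ⤳ x := (specializes_iff_primeIdealOf_le hU hxU hyU).mpr (by rw [hyq]; exact hqp)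
    have hxy : x ⤳ y := by rw [h y hyx]
    have := (specializes_iff_primeIdealOf_le hU hyU hxU).mp hxy
    rwa [hyq] at this

end Groth.Agent.S8869
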