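import Groth.Statements.S8886
import Mathlib

set_option autoImplicit false
universe u
open CategoryTheory CategoryTheory.Limits AlgebraicGeometry TopologicalSpace
open SDiv

namespace Groth.Agent.S8886

/-- Let f : X ⟶ Y be a flat morphism of schemes with Y integral. If the scheme-theoretic fibre of f over
the generic point of Y is integral, then X is integral. -/
theorem result {X Y : Scheme.{u}} (f : X ⟶ Y) [Flat f] [IsIntegral Y]
    (h : IsIntegral (f.fiber (genericPoint ↥Y))) : IsIntegral X := by
  set η := genericPoint Y with hη
  let g : Spec (Y.residueField η) ⟶ Y := Y.fromSpecResidueField η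
  have hfin : Finite (Spec (Y.residueField η)) := inferInstance
  have hqc : QuasiCompact g := ⟨fun _ _ _ ↦ (Set.toFinite _).isCompact⟩
  have H : IsSchemeTheoreticallyDominant g := by
    rw [isSchemeTheoreticallyDominant_iff_isDominant, isDominant_iff, denseRange_iff_closure_range,
      Set.eq_univ_iff_forall]
    intro y
    have hr : Set.range g = {η} := Scheme.range_fromSpecResidueField η
    rw [hr]
    exact (genericPoint_specializes y).mem_closed isClosed_closure (subset_closure rfl)
  have hd : IsSchemeTheoreticallyDominant (f.fiberι η) :=
    IsSchemeTheoreticallyDominant.pullbackFst f g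
  have hqc' : QuasiCompact (f.fiberι η) := by
    unfold Scheme.Hom.fiberι
    exact MorphismProperty.pullback_fst (P := @QuasiCompact) f g hqc
  have hred : IsReduced X := IsSchemeTheoreticallyDominant.isReduced (f.fiberι η)
  have hdom : IsDominant (f.fiberι η) := inferInstance
  have hirr : IrreducibleSpace X := by
    have h1 : IsIrreducible (Set.univ : Set (f.fiber η)) := IrreducibleSpace.isIrreducible_univ _
    have h2 := (h1.image (f.fiberι η) (f.fiberι η).continuous.continuousOn).closure
    rw [Set.image_univ, (f.fiberι η).denseRange.closure_range] at h2
    exact irreducibleSpace_def X |>.mpr h2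
  exact isIntegral_of_irreducibleSpace_of_isReduced X

end Groth.Agent.S8886
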