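import Groth.Statements.S8887
import Groth.Agent.Lib.FLF2_helper8

set_option autoImplicit false
universe u
open CategoryTheory CategoryTheory.Limits AlgebraicGeometry TopologicalSpace
open SDiv

namespace Groth.Agent.S8887

/-- Let X be an integral scheme and F a quasi-coherent O_X-module of finite type, of rank r (r being the
finite dimension of the generic stalk of F as a vector space over the function field of X). Then one
can find an open subset U of X, not empty, on which the restriction of F is isomorphic to the free
module of rank r. -/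
theorem result (X : Scheme.{u}) [IsIntegral X] (F : X.Modules) (hF : Coh.IsQCoh F)
    (hft : CohB1.IsFT F) :
    ∃ U : X.Opens, (U : Set ↥X).Nonempty ∧
      Nonempty (F.restrict U.ι ≅ FlatMod.freeMod (↑U)
        (Module.finrank ↑(X.presheaf.stalk (genericPoint ↥X)) ↑(F.presheaf.stalk (genericPoint ↥X)))) := by
  haveI : F.IsQuasicoherent := hF
  haveI : SheafOfModules.IsFiniteType (R := X.ringCatSheaf) F := hft
  set η := genericPoint X with hη
  obtain ⟨_, ⟨U, hU : IsAffineOpen U, rfl⟩, hxU, -⟩ :=
    (X.isBasis_affineOpens).exists_subset_of_mem_open (Set.mem_univ η) isOpen_univ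
  have hx : η ∈ U := hxU
  haveI : Module.Finite (X.presheaf.stalk η) (F.presheaf.stalk η) := FLFH8.finite_stalk F η
  let b := Module.finBasis (X.presheaf.stalk η) (F.presheaf.stalk η)
  obtain ⟨d, hxd, g, hg⟩ := FLFH8.exists_span_basicOpen_of_stalk F hU hx (⇑b) b.span_eq
  have hW : IsAffineOpen (X.basicOpen d) := hU.basicOpen d
  have hli : LinearIndependent Γ(X, X.basicOpen d) g := by
    rw [Fintype.linearIndependent_iff]
    intro c hc i
    apply germ_injective_of_isIntegral X η hxd
    refine (FLFH8.germ_coeff_eq_zero F hW hxd g hg le_rfl c hc i).trans ?_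
    exact (map_zero (X.presheaf.germ (X.basicOpen d) η hxd).hom).symm
  exact ⟨X.basicOpen d, ⟨η, hxd⟩, FLFH8.iso_of_basis F hW g hg hli⟩

end Groth.Agent.S8887
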