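import Groth.Statements.S8889
import Mathlib
import Groth.Agent.Lib.WeakAssSch_helper4

set_option autoImplicit false
universe u
open CategoryTheory CategoryTheory.Limits AlgebraicGeometry TopologicalSpace
open SDiv

namespace Groth.Agent.S8889

open AlgebraicGeometry CategoryTheory TopologicalSpace Opposite FlatCA
open Groth.Agent.Lib.WeakAss_helper4 Groth.Agent.Lib.QCohLoc_helper4 Groth.Agent.Lib.WeakAssSch_helper4

/-- Let X be a scheme and φ : F ⟶ G a morphism of quasi-coherent O_X-modules. Assume that for every
point x of X either the stalk map F_x → G_x is injective or x is not a weakly associated point of F.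
Then φ is injective. -/
theorem result (X : Scheme.{u}) {F G : X.Modules} (φ : F ⟶ G) (hF : Coh.IsQCoh F)
    (hG : Coh.IsQCoh G)
    (h : ∀ x : ↥X, Function.Injective ((TopCat.Presheaf.stalkFunctor AddCommGrpCat.{u} x).map (Scheme.Modules.Hom.mapPresheaf φ)) ∨ ¬ Curv2.IsWeakAssPoint F x) :
    Mono φ := by
  haveI : F.IsQuasicoherent := hF
  apply mono_of_injective_affine
  intro U hU
  rw [injective_iff_map_eq_zero]
  intro m hm
  by_contra hm0
  obtain ⟨p, hp, hle⟩ := exists_mem_weakAss_of_ne_zero (R := Γ(X, U)) hm0
  haveI := isPrime_of_mem_weakAss hp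
  obtain ⟨x, hxU, hxp⟩ := exists_point_of_prime hU ⟨p, inferInstance⟩
  have hloc := locOn_of_isQuasicoherent F hU
  have hwx : Curv2.IsWeakAssPoint F x :=
    (isWeakAssPoint_iff hloc hU hxU).mpr (by rw [hxp]; exact hp)
  rcases h x with hinj | hno
  · have h1 : (TopCat.Presheaf.stalkFunctor AddCommGrpCat.{u} x).map
        (Scheme.Modules.Hom.mapPresheaf φ) (F.presheaf.germ U x hxU m) = 0 := by
      rw [TopCat.Presheaf.stalkFunctor_map_germ_apply]
      have : (Scheme.Modules.Hom.mapPresheaf φ).app (op U) m = 0 := hm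
      rw [this]
      exact map_zero _
    have h2 : F.presheaf.germ U x hxU m = 0 := by
      apply hinj
      exact h1.trans (map_zero _).symm
    obtain ⟨g, hg, hgm⟩ := hloc.exists_smul_eq_zero_of_germ_eq_zero hU hxU m h2
    have hgp : g ∉ p := by
      have := (notMem_primeIdealOf_iff hU hxU g).mpr hg
      rwa [hxp] at this
    exact hgp (hle (mem_ann.mpr hgm))
  · exact hno hwx

end Groth.Agent.S8889
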