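import Groth.Statements.S8901
import Mathlib
import Groth.Agent.Lib.WeakAssSch3_helper4

set_option autoImplicit false
universe u
open CategoryTheory CategoryTheory.Limits AlgebraicGeometry TopologicalSpace
open SDiv

namespace Groth.Agent.S8901

open AlgebraicGeometry CategoryTheory TopologicalSpace Opposite FlatCA
open Groth.Agent.Lib.WeakAss_helper4 Groth.Agent.Lib.WeakAssSch_helper4 Groth.Agent.Lib.WeakAssSch3_helper4

/-- Let f : X ⟶ Y be a morphism of schemes under which each weakly associated point of X (of O_X) goes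
to a point of Y with no proper generization (the generic point of some irreducible component of Y).
Then pullbacks of meromorphic functions are defined for f: for every open U ⊆ Y and every regular
section s of O_Y over U, the pulled-back section of O_X over f⁻¹U is regular. -/
theorem result {X Y : Scheme.{u}} (f : X ⟶ Y)
    (h : ∀ x : ↥X, Curv2.IsWeakAssPoint (Coh.structureModule X) x → ∀ y : ↥Y, y ⤳ f x → y = f x)
    (U : Y.Opens) (s : Γ(Y, U)) (hs : s ∈ Mero.regSub Y U) : f.app U s ∈ Mero.regSub X (f ⁻¹ᵁ U) := by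
  rintro ⟨x', hx'⟩
  show X.presheaf.germ (f ⁻¹ᵁ U) x' hx' (f.app U s) ∈ nonZeroDivisors (X.presheaf.stalk x')
  rw [mem_nonZeroDivisors_iff_right]
  intro b hb
  by_contra hb0
  obtain ⟨W, hW, hx'W, hWU⟩ := (Opens.isBasis_iff_nbhd.mp X.isBasis_affineOpens) hx'
  have hga : X.presheaf.germ W x' hx'W (X.presheaf.map (homOfLE hWU).op (f.app U s)) =
      X.presheaf.germ (f ⁻¹ᵁ U) x' hx' (f.app U s) :=
    TopCat.Presheaf.germ_res_apply _ _ _ _ _
  let _ := TopCat.Presheaf.algebra_section_stalk X.presheaf (⟨x', hx'W⟩ : W)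
  have hloc := hW.isLocalization_stalk ⟨x', hx'W⟩
  have hunit : ∀ d : Γ(X, W), d ∉ (hW.primeIdealOf ⟨x', hx'W⟩).asIdeal →
      IsUnit (X.presheaf.germ W x' hx'W d) := fun d hd =>
    (Scheme.mem_basicOpen _ _ _ hx'W).mp ((notMem_primeIdealOf_iff hW hx'W d).mp hd)
  obtain ⟨⟨b₀, g⟩, hg⟩ := IsLocalization.surj (hW.primeIdealOf ⟨x', hx'W⟩).asIdeal.primeCompl b
  have hgu : IsUnit (X.presheaf.germ W x' hx'W g.1) := hunit g.1 g.2
  have hg' : b * X.presheaf.germ W x' hx'W g.1 = X.presheaf.germ W x' hx'W b₀ := hg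
  have hb₀ : X.presheaf.germ W x' hx'W b₀ ≠ 0 := by
    rw [← hg']; intro h0; exact hb0 (hgu.mul_left_eq_zero.mp h0)
  have h0 : X.presheaf.germ W x' hx'W (b₀ * X.presheaf.map (homOfLE hWU).op (f.app U s)) = 0 := by
    rw [map_mul, ← hg', hga, mul_right_comm, hb, zero_mul]
  have h0' : algebraMap Γ(X, W) (X.presheaf.stalk x')
      (b₀ * X.presheaf.map (homOfLE hWU).op (f.app U s)) = 0 := h0
  obtain ⟨c, hc⟩ := (IsLocalization.map_eq_zero_iff
    (hW.primeIdealOf ⟨x', hx'W⟩).asIdeal.primeCompl _ _).mp h0'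
  have hcu : IsUnit (X.presheaf.germ W x' hx'W c.1) := hunit c.1 c.2
  have hab' : X.presheaf.map (homOfLE hWU).op (f.app U s) * (c.1 * b₀) = 0 := by
    rw [← hc]; ring
  have hle : ann Γ(X, W) (c.1 * b₀) ≤ (hW.primeIdealOf ⟨x', hx'W⟩).asIdeal := by
    intro d hd
    by_contra hdp
    have hdu := hunit d hdp
    rw [mem_ann, smul_eq_mul] at hd
    have h3 : X.presheaf.germ W x' hx'W d *
        (X.presheaf.germ W x' hx'W c.1 * X.presheaf.germ W x' hx'W b₀) = 0 := by
      rw [← map_mul, ← map_mul, hd, map_zero]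
    exact hb₀ (hcu.mul_right_eq_zero.mp (hdu.mul_right_eq_zero.mp h3))
  obtain ⟨q, hq, hqp⟩ := Ideal.exists_minimalPrimes_le hle
  haveI : q.IsPrime := hq.1.1
  obtain ⟨x, hxW, hxq⟩ := exists_point_of_prime hW ⟨q, inferInstance⟩
  have hwx : Curv2.IsWeakAssPoint (Coh.structureModule X) x :=
    (isWeakAssPoint_structureModule_iff hW hxW).mpr (by rw [hxq]; exact ⟨c.1 * b₀, hq⟩)
  have hgen := h x hwx
  have haq : X.presheaf.map (homOfLE hWU).op (f.app U s) ∈ q :=
    hq.1.2 (mem_ann.mpr (by rw [smul_eq_mul]; exact hab'))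
  have hxU : x ∈ f ⁻¹ᵁ U := hWU hxW
  have h1 : X.presheaf.germ W x hxW (X.presheaf.map (homOfLE hWU).op (f.app U s)) ∈
      IsLocalRing.maximalIdeal (X.presheaf.stalk x) :=
    (mem_primeIdealOf_iff hW hxW _).mp (by rw [hxq]; exact haq)
  have h2 : X.presheaf.germ W x hxW (X.presheaf.map (homOfLE hWU).op (f.app U s)) =
      f.stalkMap x (Y.presheaf.germ U (f x) hxU s) := by
    rw [Scheme.Hom.germ_stalkMap_apply]
    exact TopCat.Presheaf.germ_res_apply _ _ _ _ _
  have hσm : Y.presheaf.germ U (f x) hxU s ∈ IsLocalRing.maximalIdeal (Y.presheaf.stalk (f x)) := by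
    rw [IsLocalRing.mem_maximalIdeal, mem_nonunits_iff]
    intro hu
    have h4 : IsUnit (f.stalkMap x (Y.presheaf.germ U (f x) hxU s)) := hu.map (f.stalkMap x).hom
    rw [← h2] at h4
    exact (IsLocalRing.mem_maximalIdeal _).mp h1 h4
  obtain ⟨n, hn⟩ := isNilpotent_of_mem_maximalIdeal (f x) hgen _ hσm
  have hσnz : Y.presheaf.germ U (f x) hxU s ∈ nonZeroDivisors (Y.presheaf.stalk (f x)) :=
    hs ⟨f x, hxU⟩
  have h5 : (0 : Y.presheaf.stalk (f x)) ∈ nonZeroDivisors (Y.presheaf.stalk (f x)) :=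
    hn ▸ pow_mem hσnz n
  exact zero_notMem_nonZeroDivisors h5

end Groth.Agent.S8901
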