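import Groth.Statements.S8902
-- (no extra imports)

set_option autoImplicit false
universe u
open CategoryTheory CategoryTheory.Limits AlgebraicGeometry TopologicalSpace
open SDiv

namespace Groth.Agent.S8902

theorem map_mem_nonZeroDivisors_of_flat {A B : Type*} [CommRing A] [CommRing B] (φ : A →+* B)
    (hφ : φ.Flat) {a : A} (ha : a ∈ nonZeroDivisors A) : φ a ∈ nonZeroDivisors B := by
  algebraize [φ]
  have h1 : IsSMulRegular A a :=
    isSMulRegular_iff_right_eq_zero_of_smul.mpr fun x hx =>
      (mem_nonZeroDivisors_iff_left.mp ha) x hx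
  have h2 : IsSMulRegular B (algebraMap A B a) := h1.of_flat
  rw [mem_nonZeroDivisors_iff_left]
  intro x hx
  exact isSMulRegular_iff_right_eq_zero_of_smul.mp h2 x hx

/-- Let f : X ⟶ Y be a flat morphism of schemes. Then pullbacks of meromorphic functions are defined for
f: for every open U ⊆ Y and every regular section s of O_Y over U, the pulled-back section of O_X
over f⁻¹U is regular. -/
theorem result {X Y : Scheme.{u}} (f : X ⟶ Y) [Flat f] (U : Y.Opens) (s : Γ(Y, U))
    (hs : s ∈ Mero.regSub Y U) : f.app U s ∈ Mero.regSub X (f ⁻¹ᵁ U) := by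
  intro x
  have hx : f x.1 ∈ U := x.2
  have h1 := hs ⟨f x.1, hx⟩
  have h2 := map_mem_nonZeroDivisors_of_flat (f.stalkMap x.1).hom (Flat.stalkMap f x.1) h1
  have h3 := Scheme.Hom.germ_stalkMap_apply f U x.1 hx s
  change X.presheaf.germ (f ⁻¹ᵁ U) x.1 x.2 (f.app U s) ∈ _
  rw [← h3]
  exact h2

end Groth.Agent.S8902
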