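import Groth.Statements.S8923
import Groth.Agent.Lib.SecOrd2_helper8
import Groth.Agent.Lib.OrdFin_helper5

set_option autoImplicit false
universe u
open CategoryTheory CategoryTheory.Limits AlgebraicGeometry TopologicalSpace
open SDiv

namespace Groth.Agent.S8923

/-- Let X be an integral scheme that is locally Noetherian, L an invertible O_X-module and s a nonzero
rational (regular meromorphic) section of L, viewed as a nonzero element of the stalk of L at the
generic point. Then the collection of prime divisors Z ⊆ X with ord_{Z,L}(s) ≠ 0, i.e. the closures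
of the codimension-1 points x (dim O_{X,x} = 1) along which s has nonzero order, is locally finite
in X. -/
theorem result (X : Scheme.{u}) [IsIntegral X] [IsLocallyNoetherian X] (L : X.Modules)
    (hL : PicF.IsInvertible L) (s : Cyc.secFibre L (genericPoint ↥X)) (hs : s ≠ 0) :
    LocallyFinite (fun x : {x : ↥X // ringKrullDim ↑(X.presheaf.stalk x) = 1 ∧
        Cyc.secOrdAt L (genericPoint ↥X) x ((genericPoint_spec ↥X).specializes (Set.mem_univ x)) s ≠ 0} => closure ({x.1} : Set ↥X)) := by
  classical
  intro y
  obtain ⟨W, hW, hyW, e, he⟩ := GenLocH8.exists_isGen hL y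
  refine ⟨W, W.isOpen.mem_nhds hyW, ?_⟩
  have hηW : genericPoint X ∈ W :=
    ((genericPoint_spec X).specializes (Set.mem_univ y)).mem_open W.isOpen hyW
  haveI hne : Nonempty W := ⟨⟨y, hyW⟩⟩
  haveI : IsNoetherianRing Γ(X, W) := IsLocallyNoetherian.component_noetherian ⟨W, hW⟩
  haveI : IsFractionRing Γ(X, W) X.functionField :=
    functionField_isFractionRing_of_isAffineOpen X W hW
  have gη : SecOrdH8.IsFreeGen L (genericPoint X) (L.presheaf.germ W (genericPoint X) hηW e) :=
    SecOrdH8.stalk_gen he hηW
  obtain ⟨φ, hφ⟩ := gη.fibre_surj s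
  obtain ⟨a, b, hb, hab⟩ := IsFractionRing.div_surjective (A := Γ(X, W)) (φ : X.functionField)
  have hb0 : b ≠ 0 := nonZeroDivisors.ne_zero hb
  have hφ0 : (φ : X.functionField) ≠ 0 := by
    rintro h0
    apply hs
    rw [hφ, h0, zero_smul]
  have ha0 : a ≠ 0 := by
    rintro rfl
    apply hφ0
    rw [← hab, map_zero, zero_div]
  have hab0 : a * b ≠ 0 := mul_ne_zero ha0 hb0
  have hfin := Ideal.finite_minimalPrimes_of_isNoetherianRing Γ(X, W) (Ideal.span {a * b})
  -- the finite set of bad points of `W`
  have key : {x : X | x ∈ W ∧ ringKrullDim (X.presheaf.stalk x) = 1 ∧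
      Cyc.secOrdAt L (genericPoint X) x ((genericPoint_spec X).specializes (Set.mem_univ x)) s ≠ 0}.Finite := by
    let ψ : X → Ideal Γ(X, W) := fun ξ =>
      if h : ξ ∈ W then (hW.primeIdealOf ⟨ξ, h⟩).asIdeal else ⊤
    have hψ : ∀ (ξ : X) (h : ξ ∈ W), ψ ξ = (hW.primeIdealOf ⟨ξ, h⟩).asIdeal := by
      intro ξ h
      exact dif_pos h
    refine Set.Finite.of_injOn (f := ψ) ?_ ?_ hfin
    · rintro x ⟨hxW, hdim, hord⟩
      rw [hψ x hxW]
      have hηx : genericPoint X ⤳ x := (genericPoint_spec X).specializes (Set.mem_univ x)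
      letI := TopCat.Presheaf.algebra_section_stalk X.presheaf (⟨x, hxW⟩ : W)
      haveI : IsLocalization.AtPrime (X.presheaf.stalk x) (hW.primeIdealOf ⟨x, hxW⟩).asIdeal :=
        hW.isLocalization_stalk ⟨x, hxW⟩
      have habq : a * b ∈ (hW.primeIdealOf ⟨x, hxW⟩).asIdeal := by
        by_contra hnot
        apply hord
        have ha : a ∉ (hW.primeIdealOf ⟨x, hxW⟩).asIdeal :=
          fun h => hnot (Ideal.mul_mem_right _ _ h)
        have hb' : b ∉ (hW.primeIdealOf ⟨x, hxW⟩).asIdeal :=
          fun h => hnot (Ideal.mul_mem_left _ _ h)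
        have hua : IsUnit (X.presheaf.germ W x hxW a) :=
          IsLocalization.map_units (X.presheaf.stalk x)
            (⟨a, ha⟩ : (hW.primeIdealOf ⟨x, hxW⟩).asIdeal.primeCompl)
        have hub : IsUnit (X.presheaf.germ W x hxW b) :=
          IsLocalization.map_units (X.presheaf.stalk x)
            (⟨b, hb'⟩ : (hW.primeIdealOf ⟨x, hxW⟩).asIdeal.primeCompl)
        set v : X.presheaf.stalk x := X.presheaf.germ W x hxW a * ↑hub.unit⁻¹ with hv
        have hvu : IsUnit v := hua.mul (Units.isUnit _)
        have hφv : φ = X.presheaf.stalkSpecializes hηx v := by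
          have h1 : X.presheaf.stalkSpecializes hηx v * X.presheaf.germ W (genericPoint X) hηW b =
              X.presheaf.germ W (genericPoint X) hηW a := by
            rw [← SecOrdH8.stalkSpecializes_germX hηx W hxW b,
              ← SecOrdH8.stalkSpecializes_germX hηx W hxW a, ← map_mul, hv, mul_assoc]
            congr 1
            have : (↑hub.unit⁻¹ : X.presheaf.stalk x) * X.presheaf.germ W x hxW b = 1 :=
              hub.val_inv_mul
            rw [this, mul_one]
          have hbη : (X.presheaf.germ W (genericPoint X) hηW b : X.functionField) ≠ 0 := by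
            intro h0
            exact hb0 ((map_eq_zero_iff _ (IsFractionRing.injective Γ(X, W) X.functionField)).mp h0)
          have h2 : (φ : X.functionField) * X.presheaf.germ W (genericPoint X) hηW b =
              X.presheaf.germ W (genericPoint X) hηW a := by
            rw [← hab]
            exact div_mul_cancel₀ _ hbη
          exact mul_right_cancel₀ hbη (h2.trans h1.symm)
        have e1 : s = X.presheaf.stalkSpecializes hηx v • SecOrdH8.fmk L (genericPoint X)
            (L.presheaf.stalkSpecializes hηx (L.presheaf.germ W x hxW e)) := by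
          rw [SecOrdH8.stalkSpecializes_germ, ← hφv]
          exact hφ
        rw [SecOrdH8.secOrdAt_eq hL hηx s (SecOrdH8.stalk_gen he hxW) _ e1]
        unfold Cyc.ordAt
        have h3 : X.residue (genericPoint X) (X.presheaf.stalkSpecializes hηx v) =
            1 * algebraMap (Cyc.LocQuot x (genericPoint X) hηx) (X.residueField (genericPoint X))
              (Ideal.Quotient.mk (RingHom.ker (Cyc.specMap x (genericPoint X) hηx)) v) := by
          rw [OrdFlatH8.algebraMap_locQuot_mk, one_mul]
          rfl
        rw [h3, SecOrdH8.ordFrac_mul_unit _ _ _ (hvu.map (Ideal.Quotient.mk _))]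
        exact SecOrdH8.ordAt_one x (genericPoint X) hηx
      obtain ⟨P, hPmin, hPle⟩ := Ideal.exists_minimalPrimes_le
        (show Ideal.span {a * b} ≤ (hW.primeIdealOf ⟨x, hxW⟩).asIdeal by
          rw [Ideal.span_singleton_le_iff_mem]
          exact habq)
      haveI hPp : P.IsPrime := hPmin.1.1
      have hP0 : P ≠ ⊥ := by
        intro h
        have : a * b ∈ P := hPmin.1.2 (Ideal.mem_span_singleton_self _)
        rw [h] at this
        exact hab0 this
      haveI : Ring.KrullDimLE 1 (X.presheaf.stalk x) := by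
        rw [Ring.krullDimLE_iff, hdim]
        rfl
      have hPq := Groth.Agent.OrdFin.eq_of_le_of_krullDimLE
        (hW.primeIdealOf ⟨x, hxW⟩).asIdeal (X.presheaf.stalk x) P hP0 hPle
      rw [← hPq]
      exact hPmin
    · rintro ξ ⟨hξ, -⟩ ξ' ⟨hξ', -⟩ heq
      rw [hψ ξ hξ, hψ ξ' hξ'] at heq
      have h1 : hW.primeIdealOf ⟨ξ, hξ⟩ = hW.primeIdealOf ⟨ξ', hξ'⟩ := PrimeSpectrum.ext heq
      have h4 := congrArg (fun P => hW.fromSpec P) h1
      simp only [hW.fromSpec_primeIdealOf] at h4
      exact h4
  have hpre := Set.Finite.preimage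
    (f := (Subtype.val : {x : ↥X // ringKrullDim ↑(X.presheaf.stalk x) = 1 ∧
        Cyc.secOrdAt L (genericPoint ↥X) x ((genericPoint_spec ↥X).specializes (Set.mem_univ x)) s ≠ 0} → X))
    Subtype.val_injective.injOn key
  apply hpre.subset
  rintro ⟨ξ, hco, hord⟩ ⟨z, hz, hzW⟩
  have hspec : ξ ⤳ z := specializes_iff_mem_closure.mpr hz
  exact ⟨hspec.mem_open W.isOpen hzW, hco, hord⟩

end Groth.Agent.S8923
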