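import Groth.Statements.S8925
import Mathlib

set_option autoImplicit false
universe u
open InjHull

namespace Groth.Agent.S8925

/-- If S is a flat R-algebra and E is an injective S-module, then E, viewed as an R-module by
restriction of scalars, is an injective R-module. -/
theorem result (R S : Type u) [CommRing R] [CommRing S] [Algebra R S] [Module.Flat R S] (E : Type u) [AddCommGroup E] [Module S E] [Module R E] [IsScalarTower R S E] [Module.Injective S E] : Module.Injective R E := by
  apply Module.Baer.injective
  intro I f
  have h1 : Function.Injective (I.subtype.lTensor S) :=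
    Module.Flat.lTensor_preserves_injective_linearMap _ Subtype.val_injective
  have hjfun : ∀ x : TensorProduct R S I,
      (LinearMap.liftBaseChange S ((Algebra.linearMap R S) ∘ₗ I.subtype)) x
        = (TensorProduct.rid R S) ((I.subtype.lTensor S) x) := by
    intro x
    induction x using TensorProduct.induction_on with
    | zero => simp
    | tmul s i =>
      simp only [LinearMap.liftBaseChange_tmul, LinearMap.coe_comp, Function.comp_apply,
        Submodule.coe_subtype, Algebra.linearMap_apply, LinearMap.lTensor_tmul,
        TensorProduct.rid_tmul, smul_eq_mul, Algebra.smul_def]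
      ring
    | add x y hx hy => rw [map_add, map_add, map_add, hx, hy]
  have hj : Function.Injective
      (LinearMap.liftBaseChange S ((Algebra.linearMap R S) ∘ₗ I.subtype)) := by
    intro x y hxy
    rw [hjfun, hjfun] at hxy
    exact h1 ((TensorProduct.rid R S).injective hxy)
  obtain ⟨g, hg⟩ := Module.Injective.out
    (LinearMap.liftBaseChange S ((Algebra.linearMap R S) ∘ₗ I.subtype)) hj
    (LinearMap.liftBaseChange S f)
  refine ⟨(g.restrictScalars R) ∘ₗ (Algebra.linearMap R S), ?_⟩
  intro x hx
  have h2 := hg ((1 : S) ⊗ₜ[R] (⟨x, hx⟩ : I))
  simpa using h2

end Groth.Agent.S8925
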