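import Groth.Statements.S8927
import Mathlib

set_option autoImplicit false
universe u
open Disc

namespace Groth.Agent.S8927

/-- For a map A → B of Noetherian rings such that the localization B_q is flat over A for every
associated prime q of B, every nonzerodivisor of A maps to a nonzerodivisor of B. -/
theorem result (A B : Type u) [CommRing A] [CommRing B] [IsNoetherianRing A] [IsNoetherianRing B] [Algebra A B] (h3 : ∀ (q : Ideal B) [q.IsPrime], IsAssociatedPrime q B → Module.Flat A (Localization.AtPrime q)) : nonZeroDivisors A ≤ (nonZeroDivisors B).comap (algebraMap A B) := by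
  intro a ha
  rw [Submonoid.mem_comap]
  by_contra hnz
  have hmem : algebraMap A B a ∈ ((nonZeroDivisors B : Set B))ᶜ := hnz
  rw [← biUnion_associatedPrimes_eq_compl_nonZeroDivisors B] at hmem
  rw [Set.mem_iUnion₂] at hmem
  obtain ⟨q, hq, haq⟩ := hmem
  have hq' : IsAssociatedPrime q B := hq
  haveI : q.IsPrime := hq'.isPrime
  haveI := h3 q hq'
  obtain ⟨-, c, hqc⟩ := isAssociatedPrime_iff.mp hq'
  have hc0 : algebraMap B (Localization.AtPrime q) c ≠ 0 := by
    intro h0
    obtain ⟨⟨t, ht⟩, htc⟩ :=
      (IsLocalization.map_eq_zero_iff q.primeCompl (Localization.AtPrime q) c).mp h0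
    apply ht
    show t ∈ q
    rw [hqc, Submodule.mem_colon_singleton, Submodule.mem_bot, smul_eq_mul]; exact htc
  have hacB : algebraMap A B a * c = 0 := by
    have h1 : algebraMap A B a ∈ q := haq
    rw [hqc, Submodule.mem_colon_singleton, Submodule.mem_bot, smul_eq_mul] at h1
    exact h1
  have hregA : IsSMulRegular A a := by
    intro x y hxy
    have h0 : a * x = a * y := hxy
    have h1 : (x - y) * a = 0 := by
      rw [sub_mul, mul_comm x, mul_comm y, h0, sub_self]
    exact sub_eq_zero.mp (mem_nonZeroDivisors_iff_right.mp ha _ h1)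
  have hreg : IsSMulRegular (Localization.AtPrime q) (algebraMap A (Localization.AtPrime q) a) :=
    IsSMulRegular.of_flat hregA
  have hac : algebraMap A (Localization.AtPrime q) a • algebraMap B (Localization.AtPrime q) c =
      algebraMap A (Localization.AtPrime q) a • (0 : Localization.AtPrime q) := by
    rw [smul_zero, smul_eq_mul, IsScalarTower.algebraMap_apply A B (Localization.AtPrime q),
      ← map_mul, hacB, map_zero]
  exact hc0 (hreg hac)

end Groth.Agent.S8927
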