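import Groth.Statements.S8930
import Groth.Agent.Lib.FinSubOI_helper4

set_option autoImplicit false
universe u
open AlgebraicGeometry
open Disc

namespace Groth.Agent.S8930

/-- Given two factorizations A → B' → B and A → B'' → B of a ring map with A → B' and A → B'' finite and
Spec(B) → Spec(B'), Spec(B) → Spec(B'') open immersions, there is an A-subalgebra C of B which is
finite over A, contains the images of B' and B'', and is such that Spec(B) → Spec(C) is an open
immersion. (Such an A → B is quasi-finite; that hypothesis of the published statement is implied by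
the factorizations and is not repeated.) -/
theorem result (A B B' B'' : Type u) [CommRing A] [CommRing B] [CommRing B'] [CommRing B''] [Algebra A B] [Algebra A B'] [Algebra A B''] [Algebra B' B] [Algebra B'' B] [IsScalarTower A B' B] [IsScalarTower A B'' B] [Module.Finite A B'] [Module.Finite A B''] (h' : IsOpenImmersion (Spec.map (CommRingCat.ofHom (algebraMap B' B)))) (h'' : IsOpenImmersion (Spec.map (CommRingCat.ofHom (algebraMap B'' B)))) : ∃ C : Subalgebra A B, Module.Finite A C ∧ Set.range (algebraMap B' B) ⊆ (C : Set B) ∧ Set.range (algebraMap B'' B) ⊆ (C : Set B) ∧ IsOpenImmersion (Spec.map (CommRingCat.ofHom C.val.toRingHom)) := by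
  classical
  let pm : TensorProduct A B' B'' →ₐ[A] B :=
    Algebra.TensorProduct.productMap (IsScalarTower.toAlgHom A B' B) (IsScalarTower.toAlgHom A B'' B)
  have h1 : ∀ x : B', algebraMap B' B x ∈ pm.range := fun x =>
    (AlgHom.mem_range pm).mpr ⟨TensorProduct.tmul A x (1 : B''), by
      show (IsScalarTower.toAlgHom A B' B) x * (IsScalarTower.toAlgHom A B'' B) 1 = _
      rw [map_one, mul_one]; rfl⟩
  have h2 : ∀ x : B'', algebraMap B'' B x ∈ pm.range := fun x =>
    (AlgHom.mem_range pm).mpr ⟨TensorProduct.tmul A (1 : B') x, by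
      show (IsScalarTower.toAlgHom A B' B) 1 * (IsScalarTower.toAlgHom A B'' B) x = _
      rw [map_one, one_mul]; rfl⟩
  refine ⟨pm.range, ?_, ?_, ?_, ?_⟩
  · exact Module.Finite.of_surjective pm.rangeRestrict.toLinearMap
      (AlgHom.rangeRestrict_surjective pm)
  · rintro _ ⟨x, rfl⟩; exact h1 x
  · rintro _ ⟨x, rfl⟩; exact h2 x
  · let ψ : B' →+* pm.range := (algebraMap B' B).codRestrict pm.range h1
    letI : Algebra B' pm.range := ψ.toAlgebra
    haveI : IsScalarTower B' pm.range B := IsScalarTower.of_algebraMap_eq (fun x => rfl)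
    have := Groth.Agent.Lib.FinSubOIH4.oi_mid B' B pm.range h' (fun x y h => Subtype.ext h)
    have hEq : (algebraMap pm.range B) = pm.range.val.toRingHom := RingHom.ext fun _ => rfl
    rw [← hEq]; exact this

end Groth.Agent.S8930
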