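import Groth.Statements.S8936
import Mathlib

set_option autoImplicit false
universe u v
open InjHull

namespace Groth.Agent.S8936

/-- For a directed system (E_i) of R-modules over a nonempty directed preorder and a compatible family
of essential injections M → E_i, the induced map from M to the direct limit of the E_i is an
essential injection. -/
theorem result (R : Type u) [CommRing R] (ι : Type v) [Preorder ι] [IsDirectedOrder ι] [DecidableEq ι] (i₀ : ι) (E : ι → Type v) [∀ i, AddCommGroup (E i)] [∀ i, Module R (E i)] (f : ∀ i j, i ≤ j → E i →ₗ[R] E j) [DirectedSystem E fun i j h => f i j h] (M : Type v) [AddCommGroup M] [Module R M] (g : ∀ i, M →ₗ[R] E i) (hg : ∀ i j (h : i ≤ j), f i j h ∘ₗ g i = g j) (he : ∀ i, InjHull.IsEssentialInj (g i)) : InjHull.IsEssentialInj (Module.DirectLimit.of R ι E f i₀ ∘ₗ g i₀) := by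
  classical
  haveI : Nonempty ι := ⟨i₀⟩
  have hcompat : ∀ i (m : M), Module.DirectLimit.of R ι E f i (g i m) =
      Module.DirectLimit.of R ι E f i₀ (g i₀ m) := by
    intro i m
    obtain ⟨k, hik, hi₀k⟩ := exists_ge_ge i i₀
    have h1 : f i k hik (g i m) = g k m := LinearMap.congr_fun (hg i k hik) m
    have h2 : f i₀ k hi₀k (g i₀ m) = g k m := LinearMap.congr_fun (hg i₀ k hi₀k) m
    rw [← Module.DirectLimit.of_f (hij := hik), h1, ← h2, Module.DirectLimit.of_f]
  have hinj : Function.Injective (Module.DirectLimit.of R ι E f i₀ ∘ₗ g i₀) := by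
    rw [injective_iff_map_eq_zero]
    intro m hm
    have hm' : Module.DirectLimit.of R ι E f i₀ (g i₀ m) = 0 := hm
    obtain ⟨k, hik, hk⟩ := Module.DirectLimit.of.zero_exact hm'
    have h2 : f i₀ k hik (g i₀ m) = g k m := LinearMap.congr_fun (hg i₀ k hik) m
    rw [h2] at hk
    exact (injective_iff_map_eq_zero (g k)).mp (he k).injective m hk
  refine ⟨hinj, ?_⟩
  intro N hN
  obtain ⟨z, hzN, hz0⟩ := Submodule.exists_mem_ne_zero_of_ne_bot hN
  obtain ⟨i, x, rfl⟩ := Module.DirectLimit.exists_of z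
  have hx0 : x ≠ 0 := by rintro rfl; exact hz0 (map_zero _)
  have hspan : Submodule.span R {x} ≠ ⊥ := by
    rw [Ne, Submodule.span_singleton_eq_bot]; exact hx0
  obtain ⟨y, hy, hy0⟩ := Submodule.exists_mem_ne_zero_of_ne_bot ((he i).essential _ hspan)
  rw [Submodule.mem_inf] at hy
  obtain ⟨r, rfl⟩ := Submodule.mem_span_singleton.mp hy.1
  obtain ⟨m, hm⟩ := hy.2
  have hm0 : m ≠ 0 := by rintro rfl; exact hy0 (by rw [← hm, map_zero])
  intro hbot
  have hmem : (Module.DirectLimit.of R ι E f i₀ ∘ₗ g i₀) m ∈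
      N ⊓ LinearMap.range (Module.DirectLimit.of R ι E f i₀ ∘ₗ g i₀) := by
    refine ⟨?_, ⟨m, rfl⟩⟩
    show Module.DirectLimit.of R ι E f i₀ (g i₀ m) ∈ N
    rw [← hcompat i m, hm, map_smul]
    exact N.smul_mem r hzN
  rw [hbot, Submodule.mem_bot] at hmem
  exact hm0 ((injective_iff_map_eq_zero _).mp hinj m hmem)

end Groth.Agent.S8936
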