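import Groth.Statements.S8954
import Mathlib
import Groth.Agent.Lib.SqPres3_helper5
import Groth.Agent.Lib.SqPres4_helper5
import Groth.Agent.Lib.RelGCI6_helper2
import Groth.Agent.Lib.SyntCover_lead

set_option autoImplicit false
universe u
open Synt

namespace Groth.Agent.S8954

/-- a nonzero finite algebra over a field has Krull dimension zero. -/
private lemma dim_zero_of_finite_field (k C : Type u) [Field k] [CommRing C] [Algebra k C]
    [Module.Finite k C] [Nontrivial C] : ringKrullDim C = 0 := by
  haveI : IsArtinianRing C := IsArtinianRing.of_finite k C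
  exact ringKrullDimZero_iff_ringKrullDim_eq_zero.mp inferInstance

/-- The equivalence of being finite syntomic with having a square presentation, stated over a local
base. For a local ring A and a finite A-algebra B, the map A → B is syntomic if and only if B ≅
A[x_1, …, x_n]/(f_1, …, f_n) as A-algebras for some n and f_1, …, f_n ∈ A[x_1, …, x_n]. (The
published statement is for a finite morphism of schemes and asserts such a presentation over some
affine open neighbourhood of each point of the base; over a local base that neighbourhood is the
whole spectrum.) -/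
theorem result (A B : Type u) [CommRing A] [IsLocalRing A] [CommRing B] [Algebra A B] [Module.Finite A B] : Synt.IsSyntomic A B ↔ ∃ (n : ℕ) (F : Fin n → MvPolynomial (Fin n) A), Nonempty (B ≃ₐ[A] Synt.RelGCIRing A n n F) := by
  constructor
  · intro h
    obtain ⟨hfl, hfp, hfib⟩ := h
    haveI := hfl
    haveI := hfp
    let p : PrimeSpectrum A := IsLocalRing.closedPoint A
    haveI hmax : p.asIdeal.IsMaximal := IsLocalRing.maximalIdeal.isMaximal A
    have hsurj : Function.Surjective (algebraMap A p.asIdeal.ResidueField) :=
      Ideal.algebraMap_residueField_surjective _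
    have h1 : Groth.Agent.Lib.SqPres.SqP p.asIdeal.ResidueField (p.asIdeal.Fiber B) :=
      Groth.Agent.Lib.SqPres.sqP_of_finite_of_isLCIOver p.asIdeal.ResidueField _
        (p.asIdeal.Fiber B) le_rfl (hfib p)
    exact Groth.Agent.Lib.SqPres.sqP_lift A B p.asIdeal.ResidueField hsurj h1
  · rintro ⟨n, F, ⟨e⟩⟩
    have hrel : Synt.IsRelGCI A n n F := by
      intro p hnt
      refine ⟨le_rfl, ?_⟩
      haveI := hnt
      haveI : Module.Finite A (Synt.RelGCIRing A n n F) := Module.Finite.equiv e.toLinearEquiv
      rw [Nat.sub_self]
      exact dim_zero_of_finite_field p.asIdeal.ResidueField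
        (p.asIdeal.Fiber (Synt.RelGCIRing A n n F))
    exact Groth.Agent.Lib.SyntCover_lead.isSyntomic_of_algEquiv e.symm
      (Groth.Agent.Lib.RelGCI.main9147 A n n F hrel)

end Groth.Agent.S8954
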