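import Groth.Statements.S8974
import Mathlib

set_option autoImplicit false
universe u
open Synt

namespace Groth.Agent.S8974

/-- Let R be a ring, n, d ≥ 1 and g_1, …, g_n ∈ R[y_1, …, y_n] of total degree at most d. Then there is
a ring map φ : A = ℤ[a_{i,E}] → R (E running over exponent vectors with |E| ≤ d) such that applying
φ to the coefficients of the universal polynomial f_i = Σ_E a_{i,E} x^E gives g_i for each i. (The
published statement is for a locally quasi-finite syntomic morphism of schemes and asserts, locally,
a cartesian square with the universal family; this row is its affine core: the coefficient map.) -/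
theorem result (R : Type u) [CommRing R] (n d : ℕ) (hn : 1 ≤ n) (hd : 1 ≤ d) (g : Fin n → MvPolynomial (Fin n) R) (hg : ∀ i, (g i).totalDegree ≤ d) : ∃ φ : Synt.UnivBase n d →+* R, ∀ i, MvPolynomial.map φ (Synt.univPoly n d i) = g i := by
  classical
  refine ⟨MvPolynomial.eval₂Hom (Int.castRingHom R)
    (fun p : Fin n × Synt.UnivIdx n d => (g p.1).coeff p.2.exponent), fun i => ?_⟩
  ext m
  rw [Synt.univPoly, map_sum, MvPolynomial.coeff_sum]
  simp only [MvPolynomial.map_monomial, MvPolynomial.coeff_monomial, MvPolynomial.coe_eval₂Hom,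
    MvPolynomial.eval₂_X]
  have hsum : ∀ m' : Fin n →₀ ℕ, (m'.sum fun _ e => e) = ∑ j, m' j := fun m' =>
    Finsupp.sum_fintype _ _ (fun _ => rfl)
  by_cases hm : (m.sum fun _ e => e) ≤ d
  · have hle : ∀ j, m j < d + 1 := by
      intro j
      have h1 : m j ≤ ∑ j, m j :=
        Finset.single_le_sum (f := fun j => m j) (fun _ _ => Nat.zero_le _) (Finset.mem_univ j)
      rw [hsum] at hm
      omega
    have hE0' : ∑ j, ((⟨m j, hle j⟩ : Fin (d + 1)) : ℕ) ≤ d := by
      rw [hsum] at hm
      exact hm
    let E0 : Synt.UnivIdx n d := ⟨fun j => ⟨m j, hle j⟩, hE0'⟩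
    have hE0 : E0.exponent = m := by
      ext j
      simp [Synt.UnivIdx.exponent, E0]
    rw [Finset.sum_eq_single E0]
    · rw [if_pos hE0, hE0]
    · intro E _ hE
      rw [if_neg]
      intro h
      apply hE
      apply Subtype.ext
      funext j
      apply Fin.ext
      have h2 := DFunLike.congr_fun h j
      simpa [Synt.UnivIdx.exponent, E0] using h2
    · intro h
      exact absurd (Finset.mem_univ _) h
  · have h0 : (g i).coeff m = 0 := by
      by_contra hne
      exact hm ((MvPolynomial.le_totalDegree (MvPolynomial.mem_support_iff.mpr hne)).trans (hg i))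
    rw [h0]
    apply Finset.sum_eq_zero
    intro E _
    rw [if_neg]
    intro h
    apply hm
    rw [← h, hsum]
    have h3 := E.2
    simpa [Synt.UnivIdx.exponent] using h3

end Groth.Agent.S8974
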