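import Groth.Statements.S8980
import Mathlib
import Groth.Agent.Lib.ValLift_helper6
-- import your own Groth.Agent.* helpers here

set_option autoImplicit false
universe u
open HTop

namespace Groth.Agent.S8980

open CategoryTheory CategoryTheory.Limits AlgebraicGeometry in
/-- A family of morphisms T_i → T, indexed by a type in the universe of T and all locally of finite
presentation, is an h covering if and only if the one-member family given by the induced morphism
from the coproduct of the T_i to T is an h covering. (The published statement also lists, as a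
further equivalent condition, that some h covering refines the family; that equivalence is immediate
from the definitions and is not restated here.) -/
theorem result {T : Scheme.{u}} (E : PreZeroHypercover.{u} T) (hE : ∀ i, LocallyOfFinitePresentation (E.f i)) : HTop.IsHCover E ↔ HTop.IsHCover (PreZeroHypercover.singleton.{0} (Sigma.desc E.f)) := by

  have hσ : LocallyOfFinitePresentation (Sigma.desc E.f) := IsZariskiLocalAtSource.sigmaDesc hE
  constructor
  · rintro ⟨-, hV⟩
    refine ⟨fun _ => hσ, fun U => ?_⟩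
    obtain ⟨G, hG, href⟩ := hV U
    refine ⟨G, hG, fun j => ?_⟩
    obtain ⟨i, h, hh⟩ := href j
    refine ⟨PUnit.unit, h ≫ Sigma.ι E.X i, ?_⟩
    show (h ≫ Sigma.ι E.X i) ≫ Sigma.desc E.f = _
    rw [Category.assoc, Sigma.ι_desc, hh]
  · rintro ⟨-, hV⟩
    refine ⟨hE, fun U => ?_⟩
    classical
    obtain ⟨G, hG, href⟩ := hV U
    haveI := hG.finite_index
    haveI : ∀ j, IsAffine (G.X j) := hG.isAffine_obj
    have href' : ∀ j, ∃ h : G.X j ⟶ ∐ E.X, h ≫ Sigma.desc E.f = G.f j ≫ (U : T.Opens).ι := by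
      intro j
      obtain ⟨_, h, hh⟩ := href j
      exact ⟨h, hh⟩
    choose h hh using href'
    have h1 : ∀ (j : G.I₀) (p : G.X j), ∃ i : E.I₀, h j p ∈ Set.range (Sigma.ι E.X i) := by
      intro j p
      obtain ⟨i, x, hx⟩ := (sigmaOpenCover E.X).exists_eq (h j p)
      exact ⟨i, x, hx⟩
    choose i hi using h1
    have h2 : ∀ (j : G.I₀) (p : G.X j), ∃ A : (G.X j).affineOpens,
        p ∈ A.1 ∧ A.1 ≤ (h j) ⁻¹ᵁ (Sigma.ι E.X (i j p)).opensRange := by
      intro j p
      obtain ⟨A, hA, hpA, hle⟩ := TopologicalSpace.Opens.isBasis_iff_nbhd.mp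
        (G.X j).isBasis_affineOpens
        (show p ∈ (h j) ⁻¹ᵁ (Sigma.ι E.X (i j p)).opensRange from hi j p)
      exact ⟨⟨A, hA⟩, hpA, hle⟩
    choose A hpA hAle using h2
    have h3 : ∀ j : G.I₀, ∃ t : Finset (G.X j), ∀ p : G.X j, ∃ q ∈ t, p ∈ (A j q).1 := by
      intro j
      obtain ⟨t, ht⟩ := isCompact_univ.elim_finite_subcover
        (fun p : G.X j => ((A j p).1 : Set (G.X j))) (fun p => (A j p).1.isOpen)
        (fun p _ => Set.mem_iUnion.mpr ⟨p, hpA j p⟩)
      refine ⟨t, fun p => ?_⟩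
      have := ht (Set.mem_univ p)
      simp only [Set.mem_iUnion] at this
      obtain ⟨q, hq, hp⟩ := this
      exact ⟨q, hq, hp⟩
    choose t ht using h3
    let pt : ∀ j : G.I₀, Fin (t j).card → G.X j := fun j k => ((t j).equivFin.symm k).1
    have hcov : ∀ (j : G.I₀) (p : G.X j), ∃ k : Fin (t j).card, p ∈ (A j (pt j k)).1 := by
      intro j p
      obtain ⟨q, hq, hp⟩ := ht j p
      refine ⟨(t j).equivFin ⟨q, hq⟩, ?_⟩
      have : pt j ((t j).equivFin ⟨q, hq⟩) = q := by simp [pt]
      rw [this]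
      exact hp
    let G' : PreZeroHypercover.{0} ((U : T.Opens) : Scheme.{u}) :=
      { I₀ := Σ j : G.I₀, Fin (t j).card
        X := fun jk => ((A jk.1 (pt jk.1 jk.2)).1 : Scheme.{u})
        f := fun jk => (A jk.1 (pt jk.1 jk.2)).1.ι ≫ G.f jk.1 }
    refine ⟨G', ⟨hG.isAffine, inferInstanceAs (Finite (Σ j : G.I₀, Fin (t j).card)),
      fun jk => (A jk.1 (pt jk.1 jk.2)).2, ?_⟩, ?_⟩
    · intro V _ _ g
      obtain ⟨W, iD, iV, φ, hext, j, g', hg'⟩ := hG.lift V g
      obtain ⟨k, hk⟩ := hcov j (g' (IsLocalRing.closedPoint W))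
      obtain ⟨l, hl⟩ := Groth.Agent.Lib.ValLift.exists_lift_of_closedPoint_mem g'
        (A j (pt j k)).1.ι (by rw [Scheme.Opens.range_ι]; exact hk)
      refine ⟨W, iD, iV, φ, hext, ⟨j, k⟩, l, ?_⟩
      show l ≫ (A j (pt j k)).1.ι ≫ G.f j = _
      rw [← Category.assoc, hl, hg']
    · rintro ⟨j, k⟩
      have hsub : Set.range ((A j (pt j k)).1.ι ≫ h j) ⊆
          Set.range (Sigma.ι E.X (i j (pt j k))) := by
        rintro _ ⟨y, rfl⟩
        exact hAle j (pt j k) y.2
      refine ⟨i j (pt j k), IsOpenImmersion.lift (Sigma.ι E.X (i j (pt j k)))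
        ((A j (pt j k)).1.ι ≫ h j) hsub, ?_⟩
      show _ = ((A j (pt j k)).1.ι ≫ G.f j) ≫ (U : T.Opens).ι
      rw [← Sigma.ι_desc E.f (i j (pt j k)), ← Category.assoc, IsOpenImmersion.lift_fac,
        Category.assoc, hh j, Category.assoc]

end Groth.Agent.S8980
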