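import Groth.Statements.S9056
import Groth.Agent.Lib.BifCone_helper2

set_option autoImplicit false
universe u
open CategoryTheory CategoryTheory.Limits Opposite
attribute [local instance] HasDerivedCategory.standard
open ModSite

namespace Groth.Agent.S9056

/-- On a ringed site (C, O), in a distinguished triangle of K(Mod(O)), if two of the three complexes are
K-flat then so is the third. Distinguished triangles are represented here by mapping cones: for a
morphism φ : K₁ → K₂ of complexes of O-modules with mapping cone C(φ), each of the three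
two-out-of-three implications among K₁, K₂, C(φ) holds. -/
theorem result
    {C : Type u} [SmallCategory C] {J : GrothendieckTopology C} (O : Sheaf J CommRingCat.{u})
    {K₁ K₂ : CochainComplex (ModSite.Mod O) ℤ} (φ : K₁ ⟶ K₂) :
    (ModSite.IsKFlat K₁ → ModSite.IsKFlat K₂ → ModSite.IsKFlat (CochainComplex.mappingCone φ)) ∧
    (ModSite.IsKFlat K₁ → ModSite.IsKFlat (CochainComplex.mappingCone φ) → ModSite.IsKFlat K₂) ∧
    (ModSite.IsKFlat K₂ → ModSite.IsKFlat (CochainComplex.mappingCone φ) → ModSite.IsKFlat K₁) := by
  have key : ∀ (E : CochainComplex (ModSite.Mod O) ℤ),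
      ModSite.IsKFlat E ↔ ∀ L : CochainComplex (ModSite.Mod O) ℤ, L.Acyclic →
        (HomologicalComplex.mapBifunctor L E (ModSite.tensorBi O) (ComplexShape.up ℤ)).Acyclic := by
    intro E
    constructor
    · intro hE L hL i
      rw [HomologicalComplex.exactAt_iff_isZero_homology]
      exact hE L (fun j => (HomologicalComplex.exactAt_iff_isZero_homology _ _).1 (hL j)) i
    · intro hE L hL i
      have hL' : L.Acyclic := fun j => (HomologicalComplex.exactAt_iff_isZero_homology _ _).2 (hL j)
      exact (HomologicalComplex.exactAt_iff_isZero_homology _ _).1 (hE L hL' i)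
  have iso : ∀ L : CochainComplex (ModSite.Mod O) ℤ,
      HomologicalComplex.mapBifunctor L (CochainComplex.mappingCone φ) (ModSite.tensorBi O)
        (ComplexShape.up ℤ) ≅
      CochainComplex.mappingCone (HomologicalComplex.mapBifunctorMap (𝟙 L) φ (ModSite.tensorBi O)
        (ComplexShape.up ℤ)) :=
    fun L => Groth.Agent.Lib.BifCone.mapBifunctorConeIso₂ (ModSite.tensorBi O) L φ
  refine ⟨?_, ?_, ?_⟩
  · intro h1 h2
    rw [key] at h1 h2 ⊢
    intro L hL
    exact Groth.Agent.Lib.BifCone.acyclic_of_iso (iso L).symm
      (Groth.Agent.Lib.BifCone.acyclic_mappingCone_of_acyclic _ (h1 L hL) (h2 L hL))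
  · intro h1 h3
    rw [key] at h1 h3 ⊢
    intro L hL
    exact Groth.Agent.Lib.BifCone.acyclic_tgt_of_acyclic_mappingCone _ (h1 L hL)
      (Groth.Agent.Lib.BifCone.acyclic_of_iso (iso L) (h3 L hL))
  · intro h2 h3
    rw [key] at h2 h3 ⊢
    intro L hL
    exact Groth.Agent.Lib.BifCone.acyclic_src_of_acyclic_mappingCone _ (h2 L hL)
      (Groth.Agent.Lib.BifCone.acyclic_of_iso (iso L) (h3 L hL))

end Groth.Agent.S9056
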