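import Groth.Statements.S9089
import Mathlib

set_option autoImplicit false
universe u
open CategoryTheory Opposite
open ModSite

namespace Groth.Agent.S9089

theorem restrict_comp {C : Type u} [SmallCategory C] {J : GrothendieckTopology C}
    (O : Sheaf J CommRingCat.{u}) {U V W : C} (g : V ⟶ U) (h : W ⟶ V) (x : O.obj.obj (op U)) :
    (O.obj.map (h ≫ g).op).hom x = (O.obj.map h.op).hom ((O.obj.map g.op).hom x) := by
  rw [op_comp, Functor.map_comp, CommRingCat.hom_comp, RingHom.comp_apply]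

theorem key {C : Type u} [SmallCategory C] (J : GrothendieckTopology C)
    (O : Sheaf J CommRingCat.{u})
    (h1 : ∀ (U : C) (f : O.obj.obj (op U)), ∃ S ∈ J U, ∀ ⦃V : C⦄ (g : V ⟶ U), S g →
        IsUnit ((O.obj.map g.op).hom f) ∨ IsUnit ((O.obj.map g.op).hom (1 - f))) :
    ∀ (n : ℕ) (U : C) (f a : Fin (n + 1) → O.obj.obj (op U)), IsUnit (∑ i, a i * f i) →
      ∃ S ∈ J U, ∀ ⦃V : C⦄ (g : V ⟶ U), S g → ∃ i, IsUnit ((O.obj.map g.op).hom (f i)) := by
  intro n
  induction n with
  | zero =>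
    intro U f a hu
    refine ⟨⊤, J.top_mem U, fun V g _ => ⟨Fin.last 0, ?_⟩⟩
    have h0 : IsUnit (f (Fin.last 0)) := by
      rw [Fin.sum_univ_castSucc, Fin.sum_univ_zero, zero_add] at hu
      exact isUnit_of_mul_isUnit_right hu
    exact h0.map _
  | succ n ih =>
    intro U f a hu
    obtain ⟨w, hw⟩ := hu
    obtain ⟨v, hv⟩ : ∃ v : O.obj.obj (op U), v * ↑w = 1 := ⟨↑w⁻¹, Units.inv_mul w⟩
    have hsum : ∑ i, (v * a i) * f i = 1 := by
      have e : ∑ i, (v * a i) * f i = v * ∑ i, a i * f i := by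
        rw [Finset.mul_sum]
        exact Finset.sum_congr rfl (fun i _ => mul_assoc _ _ _)
      rw [e, ← hw]
      exact hv
    rw [Fin.sum_univ_castSucc] at hsum
    obtain ⟨u, hu'⟩ : ∃ u, u = (v * a (Fin.last (n + 1))) * f (Fin.last (n + 1)) := ⟨_, rfl⟩
    have h1u : 1 - u = ∑ i : Fin (n + 1), (v * a i.castSucc) * f i.castSucc := by
      rw [hu', ← hsum]
      ring
    obtain ⟨S, hS, hSu⟩ := h1 U u
    have hR : ∀ ⦃V : C⦄ (g : V ⟶ U), S g → ∃ T ∈ J V, ∀ ⦃W : C⦄ (h : W ⟶ V), T h →
        ∃ i, IsUnit ((O.obj.map (h ≫ g).op).hom (f i)) := by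
      intro V g hg
      rcases hSu g hg with hcase | hcase
      · refine ⟨⊤, J.top_mem V, fun W h _ => ⟨Fin.last (n + 1), ?_⟩⟩
        rw [restrict_comp]
        have h0 : IsUnit ((O.obj.map g.op).hom (f (Fin.last (n + 1)))) := by
          rw [hu', map_mul] at hcase
          exact isUnit_of_mul_isUnit_right hcase
        exact h0.map _
      · rw [h1u, map_sum] at hcase
        obtain ⟨T, hT, hTi⟩ := ih V (fun i => (O.obj.map g.op).hom (f i.castSucc))
          (fun i => (O.obj.map g.op).hom (v * a i.castSucc)) (by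
            simpa only [map_mul] using hcase)
        refine ⟨T, hT, fun W h hh => ?_⟩
        obtain ⟨i, hi⟩ := hTi h hh
        exact ⟨i.castSucc, by rw [restrict_comp]; exact hi⟩
    choose R hRJ hRi using hR
    refine ⟨Sieve.bind S (fun _ g hg => R g hg), J.bind_covering hS (fun _ g hg => hRJ g hg), ?_⟩
    intro W k hk
    obtain ⟨V, h, g, hg, hh, rfl⟩ := hk
    exact hRi g hg h hh


/-- Part (1): ⇔ (2), for a ringed site (C, O) with C small and O a sheaf of commutative rings: the
following are equivalent. (1) For every object U and every section f of O over U there is a covering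
sieve on U on each of whose arrows either f or 1 - f restricts to a unit. (2) For every object U,
every n ≥ 1 and all sections f₁, …, fₙ of O over U generating the unit ideal of O(U), there is a
covering sieve on U on each of whose arrows some fᵢ restricts to a unit. -/
theorem result {C : Type u} [SmallCategory C] (J : GrothendieckTopology C)
    (O : Sheaf J CommRingCat.{u}) :
    (∀ (U : C) (f : O.obj.obj (op U)), ∃ S ∈ J U, ∀ ⦃V : C⦄ (g : V ⟶ U), S g →
        IsUnit ((O.obj.map g.op).hom f) ∨ IsUnit ((O.obj.map g.op).hom (1 - f))) ↔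
    (∀ (U : C) (n : ℕ) (f : Fin n → O.obj.obj (op U)), 1 ≤ n → Ideal.span (Set.range f) = ⊤ →
        ∃ S ∈ J U, ∀ ⦃V : C⦄ (g : V ⟶ U), S g → ∃ i, IsUnit ((O.obj.map g.op).hom (f i))) := by
  constructor
  · intro h1 U n f hn hspan
    obtain ⟨m, rfl⟩ : ∃ m, n = m + 1 := ⟨n - 1, by omega⟩
    have h1mem : (1 : O.obj.obj (op U)) ∈ Ideal.span (Set.range f) := by
      rw [hspan]; trivial
    obtain ⟨a, ha⟩ := Ideal.mem_span_range_iff_exists_fun.1 h1mem
    exact key J O h1 m U f a (by rw [ha]; exact isUnit_one)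
  · intro h2 U f
    obtain ⟨S, hS, hSi⟩ := h2 U 2 ![f, 1 - f] (by norm_num) (by
      rw [Ideal.eq_top_iff_one]
      have h3 : f + (1 - f) ∈ Ideal.span (Set.range ![f, 1 - f]) :=
        Ideal.add_mem _ (Ideal.subset_span ⟨0, rfl⟩) (Ideal.subset_span ⟨1, rfl⟩)
      have e : f + (1 - f) = 1 := by ring
      rwa [e] at h3)
    refine ⟨S, hS, fun V g hg => ?_⟩
    obtain ⟨i, hi⟩ := hSi g hg
    fin_cases i
    · left; simpa using hi
    · right; simpa using hi

end Groth.Agent.S9089
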