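import Groth.Statements.S9094
import Mathlib
import Groth.Agent.Lib.ModSite9_helper8

set_option autoImplicit false
universe u
open CategoryTheory
open ModSite

namespace Groth.Agent.S9094

/-- Part (4): on a small ringed site (C, O) with O commutative: every O-module is a quotient of a flat
O-module; there exist a flat O-module G (tensoring with G is exact) and an epimorphism G → F. -/
theorem result {C : Type u} [SmallCategory C] {J : GrothendieckTopology C}
    (O : Sheaf J CommRingCat.{u}) (F : ModSite.Mod O) :
    ∃ (G : ModSite.Mod O) (π : G ⟶ F), ModSite.IsFlat G ∧ Epi π := by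
  obtain ⟨P, p, hp, hP⟩ := Groth.Agent.Lib.ModSiteH8.exists_flat_cover O F
  exact ⟨P, p, (Groth.Agent.Lib.ModSiteH8.isFlat_iff P).2 hP, hp⟩

end Groth.Agent.S9094
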