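import Groth.Statements.S9105
-- (no extra imports)

set_option autoImplicit false
universe u
open CategoryTheory
open ModSite

namespace Groth.Agent.S9105

/-- If (C, O) is a locally ringed site (C small, O a sheaf of commutative rings) and U is an object of
C, then the localised ringed site (C/U, O_U) is again locally ringed. -/
theorem result {C : Type u} [SmallCategory C] {J : GrothendieckTopology C} (O : Sheaf J CommRingCat.{u})
    (hO : ModSite.IsLocallyRinged J O) (U : C) : ModSite.IsLocallyRinged (J.over U) (O.over U) := by
  refine ⟨?_, ?_⟩
  · intro Y f
    obtain ⟨S, hS, hS'⟩ := hO.1 Y.left f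
    refine ⟨(Sieve.overEquiv Y).symm S, J.overEquiv_symm_mem_over Y S hS, ?_⟩
    intro Z g hg
    exact hS' g.left hg
  · intro Y h01
    have := hO.2 Y.left h01
    rw [GrothendieckTopology.mem_over_iff, map_bot]
    exact this

end Groth.Agent.S9105
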