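import Groth.Statements.S9129
import Mathlib
import Groth.Agent.Lib.DepthFlat_helper5
import Groth.Agent.Lib.DepthLoc_helper5

set_option autoImplicit false
universe u
open CAlg

namespace Groth.Agent.S9129

theorem isCM_iff (R : Type u) [CommRing R] [IsLocalRing R] [IsNoetherianRing R] :
    LocCoh.IsCohenMacaulayLocalRing R ↔
      ringKrullDim R = ((LocCoh.depth R R : ℕ∞) : WithBot ℕ∞) := by
  rw [← Module.supportDim_self_eq_ringKrullDim]
  exact ⟨fun h => h.supportDim_eq_depth, fun h => { supportDim_eq_depth := h }⟩

theorem idealDepth_mono {A : Type u} [CommRing A] (M : Type u) [AddCommGroup M] [Module A M]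
    {I J : Ideal A} (h : I ≤ J) : LocCoh.idealDepth I M ≤ LocCoh.idealDepth J M := by
  rw [← ENat.forall_natCast_le_iff_le]
  intro n hn
  rw [Groth.Agent.DepthLib.le_idealDepth_iff] at hn ⊢
  rcases hn with h1 | ⟨rs, h1, h2, h3⟩
  · left
    have h2 : I • (⊤ : Submodule A M) ≤ J • (⊤ : Submodule A M) := Submodule.smul_mono h le_rfl
    rw [h1] at h2
    exact top_le_iff.mp h2
  · right
    exact ⟨rs, h1, fun r hr => h (h2 r hr), h3⟩

/-- Suppose R → S is a flat local homomorphism between Noetherian local rings, with R Cohen–Macaulay.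
Assume either that S is finite over R or that the Krull dimension of S is at most that of R. Then
the two rings have equal dimension and S is itself Cohen–Macaulay. -/
theorem result (R S : Type u) [CommRing R] [CommRing S]
    [LocCoh.IsCohenMacaulayLocalRing R] [IsNoetherianRing S] [IsLocalRing S] [Algebra R S]
    [IsLocalHom (algebraMap R S)] [Module.Flat R S]
    (h : Module.Finite R S ∨ ringKrullDim S ≤ ringKrullDim R) :
    LocCoh.IsCohenMacaulayLocalRing S ∧ ringKrullDim R = ringKrullDim S := by
  have hR := (isCM_iff R).mp inferInstance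
  have hmap : (IsLocalRing.maximalIdeal R).map (algebraMap R S) ≤ IsLocalRing.maximalIdeal S :=
    IsLocalRing.map_maximalIdeal_le (algebraMap R S)
  have hdepth : LocCoh.depth R R ≤ LocCoh.depth S S := by
    unfold LocCoh.depth
    calc LocCoh.idealDepth (IsLocalRing.maximalIdeal R) R
        ≤ LocCoh.idealDepth ((IsLocalRing.maximalIdeal R).map (algebraMap R S))
            (TensorProduct R S R) :=
          Groth.Agent.DepthLib.idealDepth_le_baseChange R S _ R
      _ = LocCoh.idealDepth ((IsLocalRing.maximalIdeal R).map (algebraMap R S)) S :=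
          Groth.Agent.DepthLib.idealDepth_congr _ _ (TensorProduct.AlgebraTensorModule.rid R S S)
      _ ≤ _ := idealDepth_mono S hmap
  have hdimle : ringKrullDim R ≤ ringKrullDim S := by
    haveI : (IsLocalRing.maximalIdeal S).LiesOver (IsLocalRing.maximalIdeal R) :=
      ⟨(IsLocalRing.maximalIdeal_comap (algebraMap R S)).symm⟩
    have h1 := Ideal.height_eq_height_add_of_liesOver_of_hasGoingDown
      (IsLocalRing.maximalIdeal R) (IsLocalRing.maximalIdeal S)
    rw [← IsLocalRing.maximalIdeal_height_eq_ringKrullDim,
      ← IsLocalRing.maximalIdeal_height_eq_ringKrullDim, h1]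
    exact_mod_cast le_self_add
  have hdimge : ringKrullDim S ≤ ringKrullDim R := by
    rcases h with hfin | hle
    · haveI : Algebra.IsIntegral R S := Algebra.IsIntegral.of_finite R S
      refine Order.krullDim_le_of_strictMono
        (fun p : PrimeSpectrum S => PrimeSpectrum.comap (algebraMap R S) p) ?_
      intro p q hpq
      haveI := p.2
      exact Ideal.IsIntegral.comap_lt_comap (R := R) hpq
    · exact hle
  have hdim := le_antisymm hdimle hdimge
  refine ⟨(isCM_iff S).mpr ?_, hdim⟩
  apply le_antisymm
  · rw [← hdim, hR]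
    exact_mod_cast hdepth
  · rw [← Module.supportDim_self_eq_ringKrullDim]
    exact Groth.Agent.DepthLib.depth_le_supportDim S S

end Groth.Agent.S9129
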