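import Groth.Statements.S9130
import Groth.Agent.Lib.DimIneq_helper8

set_option autoImplicit false
universe u
open CAlg

namespace Groth.Agent.S9130

/-- Let A ⊆ B be domains with B of finite type over A and A Noetherian, and assume every element of B is
algebraic over A. For a height-one prime p of A, only finitely many primes of B lie over p and each
of them has height one. (The published statement assumes that Frac(B) is finite over Frac(A); this
row assumes B algebraic over A, which is equivalent for a finite type extension of domains.) -/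
theorem result (A B : Type u) [CommRing A] [IsDomain A]
    [IsNoetherianRing A] [CommRing B] [IsDomain B] [Algebra A B] [FaithfulSMul A B]
    [Algebra.FiniteType A B] [Algebra.IsAlgebraic A B] (p : Ideal A) [p.IsPrime]
    (hp : p.height = 1) :
    (p.primesOver B).Finite ∧ ∀ q ∈ p.primesOver B, q.height = 1 := by
  classical
  haveI : IsNoetherianRing B := Algebra.FiniteType.isNoetherianRing A B
  have hpne : p ≠ ⊥ := Ideal.ne_bot_of_height_eq_one hp
  have hinj : Function.Injective (algebraMap A B) := FaithfulSMul.algebraMap_injective A B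
  have hheight : ∀ q ∈ p.primesOver B, q.height = 1 := by
    rintro q ⟨hqp, hlo⟩
    obtain ⟨a, b, rq, rS, ha, hb, hrq, hrS, hle⟩ :=
      Groth.Agent.DimIneqH8.height_add_trdeg_le A B p q
    have hrS0 : rS = 0 := by
      have h0 : Algebra.trdeg A B = 0 := _root_.trdeg_eq_zero
      rw [h0] at hrS
      exact_mod_cast hrS.symm
    have hb1 : b = 1 := by
      rw [hp] at hb
      exact_mod_cast hb.symm
    have hqne : q ≠ ⊥ := by
      intro hq
      apply hpne
      have h1 : p = q.under A := hlo.over
      rw [h1, hq]
      ext x
      simp only [Ideal.under, Ideal.mem_comap, Ideal.mem_bot]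
      exact ⟨fun h => hinj (by rw [h, map_zero]), fun h => by rw [h, map_zero]⟩
    have ha1 : 1 ≤ a := by
      by_contra hlt
      have ha0 : a = 0 := by omega
      rw [ha0] at ha
      exact hqne (Ideal.height_eq_zero_iff_eq_bot.mp (by exact_mod_cast ha))
    have : a = 1 := by omega
    rw [ha, this]
    rfl
  refine ⟨?_, hheight⟩
  refine ((p.map (algebraMap A B)).finite_minimalPrimes_of_isNoetherianRing B).subset ?_
  intro q hq
  have hq1 := hheight q hq
  obtain ⟨hqp, hlo⟩ := hq
  have hle : p.map (algebraMap A B) ≤ q := by
    rw [Ideal.map_le_iff_le_comap]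
    exact le_of_eq hlo.over
  refine ⟨⟨hqp, hle⟩, ?_⟩
  rintro q' ⟨hq'p, hq'le⟩ hq'q
  by_contra hnot
  have hlt : q' < q := lt_of_le_of_ne hq'q (fun h => hnot (h ▸ le_rfl))
  haveI := hq'p
  have h1 := Ideal.height_strict_mono_of_isPrime hlt
  rw [hq1] at h1
  have h0 : q'.height = 0 := by
    exact Order.lt_one_iff.mp h1
  have hbot : q' = ⊥ := Ideal.height_eq_zero_iff_eq_bot.mp h0
  apply hpne
  rw [hbot, Ideal.map_le_iff_le_comap] at hq'le
  apply le_bot_iff.mp
  intro x hx
  have := hq'le hx
  simp only [Ideal.mem_comap, Ideal.mem_bot] at this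
  exact (Ideal.mem_bot).mpr (hinj (by rw [this, map_zero]))

end Groth.Agent.S9130
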