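import Groth.Statements.S9132
import Mathlib
import Groth.Agent.Lib.DomDimOne2_helper6
-- import your own Groth.Agent.* helpers here

set_option autoImplicit false
universe u
open CAlg

namespace Groth.Agent.S9132

/-- A Noetherian local domain R that is not a field is dominated by a Noetherian local ring R' of
dimension one lying between R and its fraction field, with R' essentially of finite type over R. -/
theorem result (R : Type u) [CommRing R] [IsDomain R]
    [IsNoetherianRing R] [IsLocalRing R] (hR : ¬ IsField R) :
    ∃ R' : Subalgebra R (FractionRing R), ∃ _ : IsLocalRing R',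
      IsNoetherianRing R' ∧ ringKrullDim R' = 1 ∧ IsLocalHom (algebraMap R R') ∧
        Algebra.EssFiniteType R R' := by

  classical
  obtain ⟨S, q, hq, hfg, hht, hcomap⟩ :=
    Groth.Agent.Lib.DomDimOne.exists_finiteType_height_one R hR (FractionRing R)
  haveI := hq
  haveI hFT : Algebra.FiniteType R S := (Subalgebra.fg_iff_finiteType S).1 hfg
  haveI hSN : IsNoetherianRing S := Algebra.FiniteType.isNoetherianRing R S
  refine ⟨(Groth.Agent.Lib.DomDimOne.locAt (FractionRing R) S q).restrictScalars R,
    inferInstanceAs (IsLocalRing (Groth.Agent.Lib.DomDimOne.locAt (FractionRing R) S q)), ?_, ?_, ?_, ?_⟩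
  · exact Groth.Agent.Lib.DomDimOne.isNoetherianRing_locAt (FractionRing R) S q
  · have := Groth.Agent.Lib.DomDimOne.ringKrullDim_locAt (FractionRing R) S q
    rw [hht] at this
    exact this
  · constructor
    intro a ha
    by_contra hnu
    have ham : a ∈ IsLocalRing.maximalIdeal R := (IsLocalRing.mem_maximalIdeal a).2 hnu
    rw [← hcomap, Ideal.mem_comap] at ham
    have h1 := (Groth.Agent.Lib.DomDimOne.isUnit_algebraMap_locAt_iff (FractionRing R) S q
      (algebraMap R S a)).1 ha
    exact h1 ham
  · haveI : Algebra.EssFiniteType S (Groth.Agent.Lib.DomDimOne.locAt (FractionRing R) S q) :=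
      Algebra.EssFiniteType.of_isLocalization _ q.primeCompl
    exact Algebra.EssFiniteType.comp R S (Groth.Agent.Lib.DomDimOne.locAt (FractionRing R) S q)

end Groth.Agent.S9132
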