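import Groth.Statements.S9139
import Mathlib

set_option autoImplicit false
universe u
open CAlg

namespace Groth.Agent.S9139

section aux

variable {R S' : Type u} [CommRing R] [CommRing S'] [Algebra R S']

theorem exists_fg_le_of_mem_map (I : Ideal R) (x : S') (hx : x ∈ I.map (algebraMap R S')) :
    ∃ J : Ideal R, J.FG ∧ J ≤ I ∧ x ∈ J.map (algebraMap R S') := by
  induction hx using Submodule.span_induction with
  | mem x hx =>
    obtain ⟨a, ha, rfl⟩ := hx
    refine ⟨Ideal.span {a}, Submodule.fg_span_singleton a, ?_, ?_⟩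
    · rw [Ideal.span_le]; simpa using ha
    · exact Ideal.mem_map_of_mem _ (Ideal.subset_span rfl)
  | zero => exact ⟨⊥, Submodule.fg_bot, bot_le, zero_mem _⟩
  | add x y _ _ hx hy =>
    obtain ⟨J₁, h1, h1', h1''⟩ := hx
    obtain ⟨J₂, h2, h2', h2''⟩ := hy
    exact ⟨J₁ ⊔ J₂, Submodule.FG.sup h1 h2, sup_le h1' h2',
      add_mem (Ideal.map_mono le_sup_left h1'') (Ideal.map_mono le_sup_right h2'')⟩
  | smul a x _ hx =>
    obtain ⟨J, h1, h2, h3⟩ := hx
    exact ⟨J, h1, h2, Ideal.mul_mem_left _ a h3⟩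

theorem exists_fg_le_of_finset (I : Ideal R) (T : Subalgebra R S') (G : Finset S')
    (hG : ∀ x ∈ G, ∃ t ∈ T, x - t ∈ I.map (algebraMap R S')) :
    ∃ J : Ideal R, J.FG ∧ J ≤ I ∧ ∀ x ∈ G, ∃ t ∈ T, x - t ∈ J.map (algebraMap R S') := by
  classical
  induction G using Finset.induction_on with
  | empty => exact ⟨⊥, Submodule.fg_bot, bot_le, by simp⟩
  | insert a G _ ih =>
    obtain ⟨J₁, h1, h1', h1''⟩ := ih (fun x hx => hG x (Finset.mem_insert_of_mem hx))
    obtain ⟨t, ht, hat⟩ := hG a (Finset.mem_insert_self a G)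
    obtain ⟨J₂, h2, h2', h2''⟩ := exists_fg_le_of_mem_map I _ hat
    refine ⟨J₁ ⊔ J₂, Submodule.FG.sup h1 h2, sup_le h1' h2', ?_⟩
    intro x hx
    rcases Finset.mem_insert.mp hx with rfl | hx
    · exact ⟨t, ht, Ideal.map_mono le_sup_right h2''⟩
    · obtain ⟨t', ht', h⟩ := h1'' x hx
      exact ⟨t', ht', Ideal.map_mono le_sup_left h⟩

theorem key2 (J : Ideal R) (T : Subalgebra R S')
    (h1 : Subalgebra.toSubmodule T ⊔ (J.map (algebraMap R S')).restrictScalars R = ⊤) (k : ℕ)
    (w : S') (hw' : w ∈ (J ^ k).map (algebraMap R S')) :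
    ∀ y : S', y * w ∈ Subalgebra.toSubmodule T ⊔
        ((J.map (algebraMap R S')) ^ (k + 1)).restrictScalars R := by
  induction hw' using Submodule.span_induction with
  | mem g hg =>
    obtain ⟨a, ha, rfl⟩ := hg
    intro y
    have hy : y ∈ Subalgebra.toSubmodule T ⊔ (J.map (algebraMap R S')).restrictScalars R := by
      rw [h1]; trivial
    obtain ⟨t', ht', z, hz, rfl⟩ := Submodule.mem_sup.mp hy
    rw [add_mul]
    refine add_mem (Submodule.mem_sup_left ?_) (Submodule.mem_sup_right ?_)
    · rw [mul_comm, ← Algebra.smul_def]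
      exact (Subalgebra.toSubmodule T).smul_mem a ht'
    · change z * algebraMap R S' a ∈ (J.map (algebraMap R S')) ^ (k + 1)
      rw [pow_succ, mul_comm z]
      refine Ideal.mul_mem_mul ?_ hz
      rw [← Ideal.map_pow]
      exact Ideal.mem_map_of_mem _ ha
  | zero => intro y; rw [mul_zero]; exact zero_mem _
  | add u v _ _ hu hv => intro y; rw [mul_add]; exact add_mem (hu y) (hv y)
  | smul a u _ hu =>
    intro y
    rw [smul_eq_mul, ← mul_assoc]
    exact hu (y * a)

/-- the key step: `T + J^k S' = S'` for all `k`. -/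
theorem sup_pow_eq_top (J : Ideal R) (T : Subalgebra R S')
    (h1 : Subalgebra.toSubmodule T ⊔ (J.map (algebraMap R S')).restrictScalars R = ⊤) (k : ℕ) :
    Subalgebra.toSubmodule T ⊔ ((J.map (algebraMap R S')) ^ k).restrictScalars R = ⊤ := by
  induction k with
  | zero =>
    rw [pow_zero, Ideal.one_eq_top]
    rw [eq_top_iff]
    exact le_trans (by intro x _; trivial) le_sup_right
  | succ k ih =>
    rw [eq_top_iff]
    intro x _
    have hx : x ∈ Subalgebra.toSubmodule T ⊔ ((J.map (algebraMap R S')) ^ k).restrictScalars R := by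
      rw [ih]; trivial
    obtain ⟨t, ht, w, hw, rfl⟩ := Submodule.mem_sup.mp hx
    refine add_mem (Submodule.mem_sup_left ht) ?_
    have hw' : w ∈ (J ^ k).map (algebraMap R S') := by
      rw [Ideal.map_pow]; exact hw
    simpa using key2 J T h1 k w hw' 1

end aux

/-- Let I be a locally nilpotent ideal of a ring R (every element of I is nilpotent) and S → S' a map of
R-algebras with S' of finite type over R. If S → S'/IS' is surjective then so is S → S'. -/
theorem result (R S S' : Type u) [CommRing R] [CommRing S]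
    [CommRing S'] [Algebra R S] [Algebra R S'] [Algebra.FiniteType R S'] (I : Ideal R)
    (hI : ∀ x ∈ I, IsNilpotent x) (f : S →ₐ[R] S')
    (hf : Function.Surjective ((Ideal.Quotient.mk (I.map (algebraMap R S'))).comp f.toRingHom)) :
    Function.Surjective f := by
  classical
  let T : Subalgebra R S' := f.range
  obtain ⟨G, hG⟩ := (Algebra.FiniteType.out : (⊤ : Subalgebra R S').FG)
  have hG' : ∀ x ∈ G, ∃ t ∈ T, x - t ∈ I.map (algebraMap R S') := by
    intro x _
    obtain ⟨s, hs⟩ := hf (Ideal.Quotient.mk _ x)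
    refine ⟨f s, ⟨s, rfl⟩, ?_⟩
    rw [← Ideal.Quotient.eq]
    exact hs.symm
  obtain ⟨J, hJfg, hJI, hJ⟩ := exists_fg_le_of_finset I T G hG'
  -- `T + J S'` is a subalgebra containing the generators
  have h1 : Subalgebra.toSubmodule T ⊔ (J.map (algebraMap R S')).restrictScalars R = ⊤ := by
    let U : Subalgebra R S' := Submodule.toSubalgebra
      (Subalgebra.toSubmodule T ⊔ (J.map (algebraMap R S')).restrictScalars R)
      (Submodule.mem_sup_left (one_mem T))
      (by
        intro x y hx hy
        obtain ⟨t, ht, z, hz, rfl⟩ := Submodule.mem_sup.mp hx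
        obtain ⟨t', ht', z', hz', rfl⟩ := Submodule.mem_sup.mp hy
        have : (t + z) * (t' + z') = t * t' + (t * z' + z * (t' + z')) := by ring
        rw [this]
        refine add_mem (Submodule.mem_sup_left (T.mul_mem ht ht')) (Submodule.mem_sup_right ?_)
        exact add_mem (Ideal.mul_mem_left _ t hz') (Ideal.mul_mem_right _ _ hz))
    have hU : (⊤ : Subalgebra R S') ≤ U := by
      rw [← hG, Algebra.adjoin_le_iff]
      intro x hx
      obtain ⟨t, ht, hxt⟩ := hJ x hx
      have : x = t + (x - t) := by ring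
      rw [this]
      exact add_mem (Submodule.mem_sup_left ht) (Submodule.mem_sup_right hxt)
    rw [eq_top_iff]
    intro x _
    exact hU (Algebra.mem_top : x ∈ (⊤ : Subalgebra R S'))
  have hnil : IsNilpotent J := by
    rw [hJfg.isNilpotent_iff_le_nilradical]
    intro a ha
    exact hI a (hJI ha)
  obtain ⟨k, hk⟩ := hnil
  have h2 := sup_pow_eq_top J T h1 k
  rw [← Ideal.map_pow, hk, Ideal.zero_eq_bot, Ideal.map_bot] at h2
  have h3 : Subalgebra.toSubmodule T = ⊤ := by
    rw [← h2]
    simp
  intro y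
  have : y ∈ Subalgebra.toSubmodule T := by rw [h3]; trivial
  exact this

end Groth.Agent.S9139
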