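import Groth.Statements.S9140
import Groth.Agent.S9139
import Groth.Agent.S4613

set_option autoImplicit false
universe u
open CAlg

namespace Groth.Agent.S9140

/-- Let I be a locally nilpotent ideal of a ring R and S → S' a map of R-algebras with S of finite type
over R and S' of finite presentation and flat over R. If the induced map S/IS → S'/IS' is bijective
(stated as: S → S'/IS' is surjective with kernel IS), then S → S' is bijective. -/
theorem result (R S S' : Type u)
    [CommRing R] [CommRing S] [CommRing S'] [Algebra R S] [Algebra R S'] [Algebra.FiniteType R S]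
    [Algebra.FinitePresentation R S'] [Module.Flat R S'] (I : Ideal R) (hI : ∀ x ∈ I, IsNilpotent x)
    (f : S →ₐ[R] S')
    (hsurj : Function.Surjective ((Ideal.Quotient.mk (I.map (algebraMap R S'))).comp f.toRingHom))
    (hker : ∀ s : S, f s ∈ I.map (algebraMap R S') → s ∈ I.map (algebraMap R S)) :
    Function.Bijective f := by
  have hsurjf : Function.Surjective f := Groth.Agent.S9139.result R S S' I hI f hsurj
  refine ⟨?_, hsurjf⟩
  have hfp : f.toRingHom.FinitePresentation := by
    apply RingHom.FinitePresentation.of_comp_finiteType (algebraMap R S)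
    · have : f.toRingHom.comp (algebraMap R S) = algebraMap R S' := f.comp_algebraMap
      rw [this, RingHom.finitePresentation_algebraMap]
      infer_instance
    · rw [RingHom.finiteType_algebraMap]
      infer_instance
  have hKfg : (RingHom.ker f.toRingHom).FG := Groth.Agent.S4613.ker_fg_of_fp _ hsurjf hfp
  have hK : RingHom.ker f.toRingHom ≤ (I.map (algebraMap R S)) • (RingHom.ker f.toRingHom) := by
    intro k hk
    have h1 : k ∈ LinearMap.ker f.toLinearMap ⊓ I • (⊤ : Submodule R S) := by
      refine ⟨hk, ?_⟩
      rw [Ideal.smul_top_eq_map]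
      apply hker
      have : f k = 0 := hk
      rw [this]; exact zero_mem _
    rw [LinearMap.ker_inf_smul_top_eq_smul_of_flat I f.toLinearMap hsurjf] at h1
    refine Submodule.smul_induction_on h1 ?_ ?_
    · intro a ha x hx
      have hax : a • x = algebraMap R S a • x := by rw [Algebra.smul_def, smul_eq_mul]
      rw [hax]
      have hx' : x ∈ RingHom.ker f.toRingHom := hx
      exact Submodule.smul_mem_smul (Ideal.mem_map_of_mem (algebraMap R S) ha) hx'
    · intro x y hx hy; exact add_mem hx hy
  have hjac : I.map (algebraMap R S) ≤ Ideal.jacobson ⊥ := by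
    refine le_trans ?_ (Ideal.radical_le_jacobson (I := (⊥ : Ideal S)))
    rw [Ideal.map_le_iff_le_comap]
    intro a ha
    exact (hI a ha).map (algebraMap R S)
  have hbot := Submodule.eq_bot_of_le_smul_of_le_jacobson_bot (I.map (algebraMap R S))
    (RingHom.ker f.toRingHom) hKfg hK hjac
  exact (RingHom.injective_iff_ker_eq_bot f.toRingHom).mpr hbot

end Groth.Agent.S9140
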