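import Groth.Statements.S9156
import Mathlib
import Groth.Agent.Lib.CMDecomp6_helper8

set_option autoImplicit false
universe u
open CAlg

namespace Groth.Agent.S9156

/-- A Cohen–Macaulay finite type algebra S over a field k decomposes as a finite product of k-algebras
S_0 × ⋯ × S_N in which every maximal ideal of the factor S_d has height d (so Spec S is a finite
disjoint union of equidimensional open and closed pieces). -/
theorem result (k S : Type u) [Field k] [CommRing S]
    [Algebra k S] [Algebra.FiniteType k S] [LocCoh.IsCohenMacaulayRing S] :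
    ∃ (N : ℕ) (T : Fin (N + 1) → Type u) (_ : ∀ d, CommRing (T d)) (_ : ∀ d, Algebra k (T d)),
      Nonempty (S ≃ₐ[k] ((d : Fin (N + 1)) → T d)) ∧
        ∀ (d : Fin (N + 1)) (m : Ideal (T d)), m.IsMaximal → m.height = (d : ℕ) := by
  haveI : Algebra.FinitePresentation k S := Algebra.FinitePresentation.of_finiteType.mp inferInstance
  have hCM := fun p => Groth.Agent.Lib.CMDecompH8.cm_fibres_of_field k S p
  obtain ⟨N, e, he, hdim⟩ := Groth.Agent.Lib.CMDecompH8.exists_idempotents k S hCM
  refine ⟨N, fun d => S ⧸ Ideal.span {1 - e d}, fun d => inferInstance, fun d => inferInstance,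
    ?_, ?_⟩
  · let φ : S →ₐ[k] ((d : Fin (N + 1)) → S ⧸ Ideal.span {1 - e d}) :=
      AlgHom.pi (fun d => Ideal.Quotient.mkₐ k (Ideal.span {1 - e d}))
    have hbij : Function.Bijective φ := he.bijective_pi
    exact ⟨AlgEquiv.ofBijective φ hbij⟩
  · intro d m hm
    set Q := m.comap (algebraMap S (S ⧸ Ideal.span {1 - e d})) with hQ
    haveI hQm : Q.IsMaximal :=
      Ideal.comap_isMaximal_of_surjective _ Ideal.Quotient.mk_surjective
    have hmemQ : (1 - e d) ∈ Q := by
      rw [hQ, Ideal.mem_comap]
      have : algebraMap S (S ⧸ Ideal.span {1 - e d}) (1 - e d) = 0 := by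
        rw [Ideal.Quotient.algebraMap_eq, Ideal.Quotient.eq_zero_iff_mem]
        exact Ideal.subset_span rfl
      rw [this]
      exact zero_mem _
    have heQ : e d ∉ Q := by
      intro h
      apply hQm.ne_top
      rw [Ideal.eq_top_iff_one]
      have := Q.add_mem hmemQ h
      simpa using this
    have h1 := hdim d ⟨Q, hQm.isPrime⟩ heQ
    have h2 := Groth.Agent.Lib.CMDecompH8.height_maximal_of_fibreDimAt k S Q d h1
    haveI := Groth.Agent.Lib.CMDecompH8.isLocalization_away_quot (e d) (he.idem d)
    rw [← IsLocalization.height_under (Submonoid.powers (e d)) m]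
    exact h2

end Groth.Agent.S9156
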