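import Groth.Statements.S9157
import Mathlib

set_option autoImplicit false
universe u
open CAlg

namespace Groth.Agent.S9157

section aux
variable {R : Type u} [CommRing R] (S : Submonoid R)

theorem mem_span_of_smul_eq {N : Type u} [AddCommGroup N] [Module R N]
    (y : LocalizedModule S N) (k : N) (s : S)
    (h : s • y = LocalizedModule.mkLinearMap S N k) (A : Set N) (hk : k ∈ A) :
    y ∈ Submodule.span (Localization S) ((LocalizedModule.mkLinearMap S N) '' A) := by
  have h1 : y = (IsLocalization.mk' (Localization S) (1 : R) s) • (s • y) := by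
    rw [Submonoid.smul_def, ← algebraMap_smul (Localization S) (s : R) y, smul_smul,
      IsLocalization.mk'_spec, map_one, one_smul]
  rw [h1, h]
  exact Submodule.smul_mem _ _ (Submodule.subset_span ⟨k, hk, rfl⟩)

theorem exists_finset_span {N : Type u} [AddCommGroup N] [Module R N]
    (P : Submodule (Localization S) (LocalizedModule S N)) (hP : P.FG)
    (K : Submodule R N)
    (hK : ∀ y ∈ P, ∃ k ∈ K, ∃ s : S, s • y = LocalizedModule.mkLinearMap S N k) :
    ∃ t : Finset N, (↑t ⊆ (K : Set N)) ∧
      P ≤ Submodule.span (Localization S) ((LocalizedModule.mkLinearMap S N) '' (t : Set N)) := by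
  classical
  obtain ⟨σ, hσ⟩ := hP
  have hσP : ∀ y ∈ σ, y ∈ P := fun y hy => hσ ▸ Submodule.subset_span hy
  choose! k hkK s hs using hK
  refine ⟨σ.image k, ?_, ?_⟩
  · intro x hx
    rw [Finset.coe_image] at hx
    obtain ⟨y, hy, rfl⟩ := hx
    exact hkK y (hσP y hy)
  · rw [← hσ, Submodule.span_le]
    intro y hy
    exact mem_span_of_smul_eq S y (k y) (s y) (hs y (hσP y hy)) _
      (by rw [Finset.coe_image]; exact ⟨y, hy, rfl⟩)

end aux

/-- If the localization S⁻¹M of an R-module M is finitely presented over S⁻¹R, then some finitely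
presented R-module M' maps to M inducing an isomorphism S⁻¹M' → S⁻¹M. -/
theorem result (R : Type u) [CommRing R] (S : Submonoid R)
    (M : Type u) [AddCommGroup M] [Module R M]
    [Module.FinitePresentation (Localization S) (LocalizedModule S M)] :
    ∃ (M' : Type u) (_ : AddCommGroup M') (_ : Module R M') (φ : M' →ₗ[R] M),
      Module.FinitePresentation R M' ∧ Function.Bijective (LocalizedModule.map S φ) := by
  classical
  -- Step 1: a finite free module mapping onto `M` after localization
  obtain ⟨t, -, ht⟩ := exists_finset_span S (N := M) ⊤ Module.Finite.fg_top ⊤ (fun y _ => by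
    obtain ⟨⟨m, s⟩, h⟩ := IsLocalizedModule.surj S (LocalizedModule.mkLinearMap S M) y
    exact ⟨m, trivial, s, h⟩)
  let φ₀ : (t → R) →ₗ[R] M := Fintype.linearCombination R (fun i : t => (i : M))
  have hφ₀surj : Function.Surjective (LocalizedModule.map S φ₀) := by
    rw [← LinearMap.range_eq_top, eq_top_iff]
    refine le_trans ht ?_
    rw [Submodule.span_le]
    rintro _ ⟨m, hm, rfl⟩
    refine ⟨LocalizedModule.mkLinearMap S (t → R) (Pi.single ⟨m, hm⟩ 1), ?_⟩
    rw [LocalizedModule.mkLinearMap_apply, LocalizedModule.map_mk]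
    simp [φ₀]
  -- Step 2: the kernel of the localized map is finitely generated
  have hfgker : (LinearMap.ker (LocalizedModule.map S φ₀)).FG :=
    Module.FinitePresentation.fg_ker _ hφ₀surj
  obtain ⟨t', ht'K, ht'⟩ := exists_finset_span S (N := (t → R))
    (LinearMap.ker (LocalizedModule.map S φ₀)) hfgker (LinearMap.ker φ₀) (by
      intro y hy
      obtain ⟨⟨r, s⟩, h⟩ := IsLocalizedModule.surj S (LocalizedModule.mkLinearMap S (t → R)) y
      have h0 : LocalizedModule.mkLinearMap S M (φ₀ r) = 0 := by
        have := congrArg (LocalizedModule.map S φ₀) h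
        rw [LocalizedModule.mkLinearMap_apply, LocalizedModule.map_mk] at this
        rw [LocalizedModule.mkLinearMap_apply, ← this]
        have hy' : LocalizedModule.map S φ₀ y = 0 := hy
        change LocalizedModule.map S φ₀ ((s : R) • y) = 0
        rw [← algebraMap_smul (Localization S) (s : R) y, map_smul, hy', smul_zero]
      obtain ⟨c, hc⟩ := (IsLocalizedModule.eq_zero_iff S (LocalizedModule.mkLinearMap S M)).mp h0
      refine ⟨c • r, ?_, c * s, ?_⟩
      · rw [LinearMap.mem_ker, LinearMap.map_smul_of_tower]
        exact hc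
      · rw [mul_smul, h, LinearMap.map_smul_of_tower])
  -- Step 3
  let K' : Submodule R (t → R) := Submodule.span R (t' : Set (t → R))
  have hK' : K' ≤ LinearMap.ker φ₀ := Submodule.span_le.mpr ht'K
  let φ : ((t → R) ⧸ K') →ₗ[R] M := K'.liftQ φ₀ hK'
  have hcomp : LocalizedModule.map S φ₀ =
      (LocalizedModule.map S φ) ∘ₗ (LocalizedModule.map S K'.mkQ) := by
    ext x
    induction x using LocalizedModule.induction_on with
    | h m s =>
      simp [LocalizedModule.map_mk, φ]
  have hmkQsurj : Function.Surjective (LocalizedModule.map S K'.mkQ) :=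
    LocalizedModule.map_surjective S _ (Submodule.mkQ_surjective _)
  have hkerle : LinearMap.ker (LocalizedModule.map S φ₀) ≤
      LinearMap.ker (LocalizedModule.map S K'.mkQ) := by
    refine le_trans ht' ?_
    rw [Submodule.span_le]
    rintro _ ⟨k, hk, rfl⟩
    rw [SetLike.mem_coe, LinearMap.mem_ker, LocalizedModule.mkLinearMap_apply,
      LocalizedModule.map_mk]
    have : K'.mkQ k = 0 := by
      rw [Submodule.mkQ_apply, Submodule.Quotient.mk_eq_zero]
      exact Submodule.subset_span hk
    rw [this, LocalizedModule.zero_mk]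
  refine ⟨(t → R) ⧸ K', inferInstance, inferInstance, φ, ?_, ?_, ?_⟩
  · exact Module.finitePresentation_of_surjective K'.mkQ (Submodule.mkQ_surjective _)
      (by rw [Submodule.ker_mkQ]; exact Submodule.fg_span t'.finite_toSet)
  · rw [← LinearMap.ker_eq_bot, eq_bot_iff]
    intro x hx
    obtain ⟨z, rfl⟩ := hmkQsurj x
    have hz : z ∈ LinearMap.ker (LocalizedModule.map S φ₀) := by
      rw [LinearMap.mem_ker, hcomp]
      exact hx
    exact hkerle hz
  · intro y
    obtain ⟨z, hz⟩ := hφ₀surj y
    refine ⟨LocalizedModule.map S K'.mkQ z, ?_⟩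
    rw [← hz, hcomp]
    rfl

end Groth.Agent.S9157
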