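import Groth.Statements.S9158
import Groth.Agent.Lib.GenFreeR4_helper8

set_option autoImplicit false
universe u
open CAlg

namespace Groth.Agent.S9158

/-- Generic freeness over a reduced ring: let R → S be of finite type with R reduced and M a finite
S-module. There is a dense open subset U of Spec R such that each point of U lies in a basic open
D(f) ⊆ U with M_f and S_f free over R_f, S_f of finite presentation over R_f, and M_f of finite
presentation over S_f. -/
theorem result (R S : Type u) [CommRing R] [IsReduced R] [CommRing S]
    [Algebra R S] [Algebra.FiniteType R S] (M : Type u) [AddCommGroup M] [Module S M] [Module R M]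
    [IsScalarTower R S M] [Module.Finite S M] :
    ∃ U : Set (PrimeSpectrum R), IsOpen U ∧ Dense U ∧ ∀ u ∈ U, ∃ f : R, f ∉ u.asIdeal ∧
      (PrimeSpectrum.basicOpen f : Set (PrimeSpectrum R)) ⊆ U ∧
      Module.Free (Localization.Away f) (LocalizedModule (Submonoid.powers f) M) ∧
      Module.Free (Localization.Away f) (LocalizedModule (Submonoid.powers f) S) ∧
      (Localization.awayMap (algebraMap R S) f).FinitePresentation ∧
      Module.FinitePresentation (Localization.Away (algebraMap R S f))
        (LocalizedModule (Submonoid.powers (algebraMap R S f)) M) := by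
  classical
  set Good : R → Prop := fun f =>
    Module.Free (Localization.Away f) (LocalizedModule (Submonoid.powers f) M) ∧
    Module.Free (Localization.Away f) (LocalizedModule (Submonoid.powers f) S) ∧
    (Localization.awayMap (algebraMap R S) f).FinitePresentation ∧
    Module.FinitePresentation (Localization.Away (algebraMap R S f))
      (LocalizedModule (Submonoid.powers (algebraMap R S f)) M) with hGood
  refine ⟨⋃ f ∈ {f : R | Good f}, (PrimeSpectrum.basicOpen f : Set (PrimeSpectrum R)), ?_, ?_, ?_⟩
  · exact isOpen_biUnion fun f _ => (PrimeSpectrum.basicOpen f).isOpen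
  · rw [PrimeSpectrum.isTopologicalBasis_basic_opens.dense_iff]
    rintro _ ⟨g₀, rfl⟩ ⟨p, hp⟩
    have hg₀ : g₀ ≠ 0 := by
      rintro rfl
      exact hp (Ideal.zero_mem _)
    obtain ⟨c, hgc, hc0, hc⟩ := GenFreeH8.generic_freeness' (R := R) (S := S) M g₀ hg₀
    have hne : (PrimeSpectrum.basicOpen c : Set (PrimeSpectrum R)).Nonempty := by
      rw [Set.nonempty_iff_ne_empty]
      intro h
      have h' : PrimeSpectrum.basicOpen c = ⊥ := TopologicalSpace.Opens.ext h
      rw [PrimeSpectrum.basicOpen_eq_bot_iff] at h'
      exact hc0 (IsReduced.eq_zero _ h')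
    obtain ⟨q, hq⟩ := hne
    refine ⟨q, ?_, ?_⟩
    · intro hmem
      obtain ⟨b, rfl⟩ := hgc
      exact hq (Ideal.mul_mem_right _ _ hmem)
    · exact Set.mem_biUnion (show c ∈ {f : R | Good f} from hc) hq
  · intro u hu
    simp only [Set.mem_iUnion] at hu
    obtain ⟨f, hf, huf⟩ := hu
    exact ⟨f, huf, Set.subset_biUnion_of_mem (u := fun f => (PrimeSpectrum.basicOpen f : Set (PrimeSpectrum R))) hf, hf⟩

end Groth.Agent.S9158
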