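import Groth.Statements.S9163
import Mathlib

set_option autoImplicit false
universe u
open CAlg

namespace Groth.Agent.S9163

/-- If S is integral over R, then any finitely many elements of R and of S lie in a pair R₀ ⊆ R, S₀ ⊆ S
with R₀ a finite type ℤ-subalgebra, S₀ an R₀-subalgebra of S, and S₀ finite as an R₀-module; so R →
S is the directed colimit of finite maps between finite type ℤ-algebras. -/
theorem result (R S : Type u) [CommRing R] [CommRing S] [Algebra R S]
    [Algebra.IsIntegral R S] (E : Finset R) (F : Finset S) :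
    ∃ (R₀ : Subalgebra ℤ R) (S₀ : Subalgebra R₀ S), Algebra.FiniteType ℤ R₀ ∧ (E : Set R) ⊆ R₀ ∧
      (F : Set S) ⊆ S₀ ∧ Module.Finite R₀ S₀ := by
  classical
  choose T hTfin hTint using fun s : S =>
    isIntegral_iff_isIntegral_closure_finite.mp (Algebra.IsIntegral.isIntegral (R := R) s)
  let G : Set R := (E : Set R) ∪ ⋃ s ∈ F, T s
  have hGfin : G.Finite := by
    refine Set.Finite.union E.finite_toSet ?_
    exact Set.Finite.biUnion F.finite_toSet (fun s _ => hTfin s)
  let R₀ : Subalgebra ℤ R := Algebra.adjoin ℤ G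
  have hR₀ : Algebra.FiniteType ℤ R₀ := by
    rw [← Subalgebra.fg_iff_finiteType]
    exact ⟨hGfin.toFinset, by simp [R₀]⟩
  have hint : ∀ s ∈ F, IsIntegral R₀ s := by
    intro s hs
    have hle : ∀ x : Subring.closure (T s), (x : R) ∈ R₀ := by
      intro x
      have h1 : Subring.closure (T s) ≤ R₀.toSubring := by
        rw [Subring.closure_le]
        intro y hy
        refine Algebra.subset_adjoin (Or.inr ?_)
        exact Set.mem_biUnion hs hy
      exact h1 x.2
    let j : Subring.closure (T s) →+* R₀ := (Subring.subtype _).codRestrict R₀ hle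
    obtain ⟨p, hp, hps⟩ := hTint s
    refine ⟨p.map j, hp.map j, ?_⟩
    rw [Polynomial.eval₂_map]
    exact hps
  refine ⟨R₀, Algebra.adjoin R₀ (F : Set S), hR₀, ?_, Algebra.subset_adjoin, ?_⟩
  · intro x hx
    exact Algebra.subset_adjoin (Or.inl hx)
  · have := fg_adjoin_of_finite (R := R₀) F.finite_toSet hint
    exact Module.Finite.iff_fg.mpr this

end Groth.Agent.S9163
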