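import Groth.Statements.S9165
import Mathlib
import Groth.Agent.Lib.CMDecomp2_helper8
import Groth.Agent.Lib.CMDecomp5_helper8

set_option autoImplicit false
universe u
open CAlg

namespace Groth.Agent.S9165

/-- A flat, finitely presented ring map R → S whose fibre rings κ(p) ⊗ S are Cohen–Macaulay decomposes S
as a finite product of R-algebras S_d (d = 0, …, N), each again flat, finitely presented with
Cohen–Macaulay fibres, and with every irreducible component of every fibre of S_d of dimension d. -/
theorem result (R S : Type u) [CommRing R]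
    [CommRing S] [Algebra R S] [Module.Flat R S] [Algebra.FinitePresentation R S]
    (hCM : ∀ p : PrimeSpectrum R, LocCoh.IsCohenMacaulayRing (p.asIdeal.Fiber S)) :
    ∃ (N : ℕ) (T : Fin (N + 1) → Type u) (_ : ∀ d, CommRing (T d)) (_ : ∀ d, Algebra R (T d)),
      Nonempty (S ≃ₐ[R] ((d : Fin (N + 1)) → T d)) ∧
        ∀ d : Fin (N + 1), Module.Flat R (T d) ∧ Algebra.FinitePresentation R (T d) ∧
          (∀ p : PrimeSpectrum R, LocCoh.IsCohenMacaulayRing (p.asIdeal.Fiber (T d))) ∧
          ∀ (p : PrimeSpectrum R), ∀ P ∈ minimalPrimes (p.asIdeal.Fiber (T d)),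
            ringKrullDim (p.asIdeal.Fiber (T d) ⧸ P) = ((d : ℕ) : WithBot ℕ∞) := by
  obtain ⟨N, e, he, hdim⟩ := Groth.Agent.Lib.CMDecompH8.exists_idempotents R S hCM
  refine ⟨N, fun d => S ⧸ Ideal.span {1 - e d}, fun d => inferInstance, fun d => inferInstance,
    ?_, ?_⟩
  · let φ : S →ₐ[R] ((d : Fin (N + 1)) → S ⧸ Ideal.span {1 - e d}) :=
      AlgHom.pi (fun d => Ideal.Quotient.mkₐ R (Ideal.span {1 - e d}))
    have hbij : Function.Bijective φ := he.bijective_pi
    exact ⟨AlgEquiv.ofBijective φ hbij⟩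
  · intro d
    haveI : Algebra.FiniteType R S := inferInstance
    refine ⟨Groth.Agent.Lib.CMDecompH8.flat_quot R (e d) (he.idem d),
      Groth.Agent.Lib.CMDecompH8.fp_quot R (e d),
      Groth.Agent.Lib.CMDecompH8.cm_fibres_quot R (e d) (he.idem d) hCM, ?_⟩
    intro p P hP
    exact Groth.Agent.Lib.CMDecompH8.dim_component R S (e d) (he.idem d) d
      (fun q hq => hdim d q hq) p P hP

end Groth.Agent.S9165
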