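import Groth.Statements.S9166
import Mathlib
import Groth.Agent.S4613

set_option autoImplicit false
universe u
open CAlg

namespace Groth.Agent.S9166

/-- Let I be an ideal of a ring R, S → S' a surjective homomorphism of R-algebras with S of finite type
and S' of finite presentation over R, and q a prime of S containing IS. Assume S'_q is flat over R
and that S_q/IS_q → S'_q/IS'_q is an isomorphism, which for a surjection says: every element of the
kernel of S → S' maps into I·S_q. Then for some g ∉ q the localized map S_g → S'_g is bijective. -/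
theorem result (R S S' : Type u) [CommRing R] [CommRing S]
    [CommRing S'] [Algebra R S] [Algebra R S'] [Algebra.FiniteType R S] [Algebra.FinitePresentation R S']
    (I : Ideal R) (f : S →ₐ[R] S') (hf : Function.Surjective f) (q : Ideal S) [q.IsPrime]
    (hq : I.map (algebraMap R S) ≤ q)
    (hker : ∀ j : S, f j = 0 →
      algebraMap S (Localization.AtPrime q) j ∈ I.map (algebraMap R (Localization.AtPrime q)))
    (hflat : letI : Module S S' := f.toRingHom.toModule
      Module.Flat R (LocalizedModule q.primeCompl S')) :
    ∃ g : S, g ∉ q ∧ Function.Bijective (Localization.awayMap f.toRingHom g) := by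
  classical
  letI : Module S S' := f.toRingHom.toModule
  have hsmul : ∀ (s : S) (x : S'), s • x = f s * x := fun s x => rfl
  haveI : IsScalarTower R S S' := IsScalarTower.of_algebraMap_smul (fun r x => by
    rw [hsmul, AlgHom.commutes, Algebra.smul_def])
  let fS : S →ₗ[S] S' :=
    { toFun := f, map_add' := map_add f, map_smul' := fun s x => by
        simp only [smul_eq_mul, map_mul, RingHom.id_apply]; rfl }
  let φ : Localization.AtPrime q →ₗ[S] LocalizedModule q.primeCompl S' :=
    LocalizedModule.map q.primeCompl fS
  let φR : Localization.AtPrime q →ₗ[R] LocalizedModule q.primeCompl S' := φ.restrictScalars R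
  have hφsurj : Function.Surjective φR := LocalizedModule.map_surjective q.primeCompl fS hf
  have hφmk : ∀ (a : S) (s : q.primeCompl),
      φ (LocalizedModule.mk a s) = LocalizedModule.mk (f a) s := fun a s =>
    IsLocalizedModule.map_LocalizedModules q.primeCompl fS a s
  set J : Ideal S := RingHom.ker f.toRingHom with hJ
  have hJfg : J.FG := by
    have hfp : f.toRingHom.FinitePresentation := by
      apply RingHom.FinitePresentation.of_comp_finiteType (algebraMap R S)
      · have : f.toRingHom.comp (algebraMap R S) = algebraMap R S' := f.comp_algebraMap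
        rw [this, RingHom.finitePresentation_algebraMap]
        infer_instance
      · rw [RingHom.finiteType_algebraMap]
        infer_instance
    exact Groth.Agent.S4613.ker_fg_of_fp _ hf hfp
  set K : Ideal (Localization.AtPrime q) := J.map (algebraMap S (Localization.AtPrime q)) with hK
  have hKfg : K.FG := hJfg.map _
  have hmk : ∀ (a : S) (s : q.primeCompl), (LocalizedModule.mk a s : Localization.AtPrime q)
      = IsLocalization.mk' (Localization.AtPrime q) a s := by
    intro a s
    rw [← Localization.mk_eq_mk'_apply]; rfl
  -- kernel of φ inside K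
  have hkerK : ∀ x : Localization.AtPrime q, φ x = 0 → x ∈ K := by
    intro x hx
    induction x using LocalizedModule.induction_on with
    | h a s =>
      rw [hφmk, ← LocalizedModule.zero_mk s, LocalizedModule.mk_eq] at hx
      obtain ⟨u, hu⟩ := hx
      have hmem : (u : S) * s * a ∈ J := by
        show f ((u : S) * s * a) = 0
        have h0 : (u : S) • (s : S) • f a = 0 := by
          have := hu
          simp only [smul_zero] at this
          exact this
        rw [hsmul, hsmul] at h0
        rw [map_mul, map_mul, mul_assoc]
        exact h0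
      rw [hmk, hK, IsLocalization.mk'_mem_map_algebraMap_iff q.primeCompl]
      exact ⟨(u : S) * s, (u * s).2, hmem⟩
  have hφK : ∀ x ∈ K, φ x = 0 := by
    let φ' : Localization.AtPrime q →ₗ[Localization.AtPrime q] LocalizedModule q.primeCompl S' :=
      LinearMap.extendScalarsOfIsLocalization q.primeCompl (Localization.AtPrime q) φ
    have hle : K ≤ LinearMap.ker φ' := by
      rw [hK, Ideal.map_le_iff_le_comap]
      intro j hj
      rw [Ideal.mem_comap, LinearMap.mem_ker]
      show φ (algebraMap S (Localization.AtPrime q) j) = 0
      have : algebraMap S (Localization.AtPrime q) j = LocalizedModule.mk j 1 := by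
        rw [hmk, IsLocalization.mk'_one]
      rw [this, hφmk]
      have hj0 : f j = 0 := hj
      rw [hj0, LocalizedModule.zero_mk]
    intro x hx
    exact hle hx
  have hKI : K ≤ I.map (algebraMap R (Localization.AtPrime q)) := by
    rw [hK, Ideal.map_le_iff_le_comap]
    intro j hj
    exact hker j hj
  -- K ≤ IK
  have hflat_eq := LinearMap.ker_inf_smul_top_eq_smul_of_flat I φR hφsurj
  have hKIK : K ≤ I.map (algebraMap R (Localization.AtPrime q)) • K := by
    intro x hx
    have h1 : x ∈ LinearMap.ker φR ⊓ I • (⊤ : Submodule R (Localization.AtPrime q)) := by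
      refine ⟨hφK x hx, ?_⟩
      rw [Ideal.smul_top_eq_map]
      exact hKI hx
    rw [hflat_eq] at h1
    refine Submodule.smul_induction_on h1 ?_ ?_
    · intro a ha k hk
      have hk' : k ∈ K := hkerK k hk
      rw [Algebra.smul_def]
      exact Submodule.smul_mem_smul (Ideal.mem_map_of_mem _ ha) hk'
    · intro x y hx hy
      exact add_mem hx hy
  have hjac : I.map (algebraMap R (Localization.AtPrime q)) ≤ Ideal.jacobson ⊥ := by
    rw [IsLocalRing.jacobson_eq_maximalIdeal ⊥ bot_ne_top,
      ← Localization.AtPrime.map_eq_maximalIdeal,
      IsScalarTower.algebraMap_eq R S (Localization.AtPrime q), ← Ideal.map_map]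
    exact Ideal.map_mono hq
  have hKbot : K = ⊥ :=
    Submodule.eq_bot_of_le_smul_of_le_jacobson_bot _ K hKfg hKIK hjac
  -- spread out
  obtain ⟨T, hT⟩ := hJfg
  have hTs : ∀ j ∈ T, ∃ s : q.primeCompl, (s : S) * j = 0 := by
    intro j hj
    have hjJ : j ∈ J := by rw [← hT]; exact Ideal.subset_span hj
    have : algebraMap S (Localization.AtPrime q) j = 0 := by
      have : algebraMap S (Localization.AtPrime q) j ∈ K := Ideal.mem_map_of_mem _ hjJ
      rw [hKbot] at this
      exact this
    exact (IsLocalization.map_eq_zero_iff q.primeCompl (Localization.AtPrime q) j).mp this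
  choose! s hs using hTs
  let g : q.primeCompl := ∏ j ∈ T, s j
  have hgJ : ∀ j ∈ J, (g : S) * j = 0 := by
    intro j hj
    rw [← hT] at hj
    refine Submodule.span_induction (p := fun j _ => (g : S) * j = 0) ?_ ?_ ?_ ?_ hj
    · intro j hjT
      obtain ⟨c, hc⟩ : (s j : S) ∣ (g : S) := by
        show (s j : S) ∣ ((∏ j ∈ T, s j : q.primeCompl) : S)
        rw [Submonoid.coe_finsetProd]
        exact Finset.dvd_prod_of_mem _ hjT
      rw [hc, mul_comm (s j : S) c, mul_assoc, hs j hjT, mul_zero]
    · simp
    · intro x y _ _ hx hy
      rw [mul_add, hx, hy, add_zero]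
    · intro a x _ hx
      rw [smul_eq_mul, mul_left_comm, hx, mul_zero]
  refine ⟨g, g.2, ?_, ?_⟩
  · rw [Localization.awayMap_injective_iff]
    intro a ha
    exact ⟨1, by rw [pow_one]; exact hgJ a ha⟩
  · rw [Localization.awayMap_surjective_iff]
    intro a
    obtain ⟨b, hb⟩ := hf a
    exact ⟨b, 0, by rw [pow_zero, one_mul]; exact hb⟩

end Groth.Agent.S9166
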