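import Groth.Statements.S9176
import Groth.Agent.Lib.FibSpec_helper8
import Groth.Agent.Lib.Chev4_helper8
import Groth.Agent.Lib.Retro1_helper8

set_option autoImplicit false
universe u
open CAlg

namespace Groth.Agent.S9176

/-- For a ring map R → S of finite presentation and n ≥ 0, the set of primes q of S whose fibre
Spec(κ(p) ⊗ S), p = q ∩ R, has local dimension at most n at the point over q is open and
quasi-compact in Spec S. -/
theorem result (R S : Type u) [CommRing R]
    [CommRing S] [Algebra R S] [Algebra.FinitePresentation R S] (n : ℕ) :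
    IsOpen {q : PrimeSpectrum S | ∀ Q : PrimeSpectrum ((q.asIdeal.under R).Fiber S),
        Q.asIdeal.comap (Algebra.TensorProduct.includeRight.toRingHom) = q.asIdeal →
          FlatMor.localDim (PrimeSpectrum ((q.asIdeal.under R).Fiber S)) Q ≤ (n : WithBot ℕ∞)} ∧
      IsCompact {q : PrimeSpectrum S | ∀ Q : PrimeSpectrum ((q.asIdeal.under R).Fiber S),
        Q.asIdeal.comap (Algebra.TensorProduct.includeRight.toRingHom) = q.asIdeal →
          FlatMor.localDim (PrimeSpectrum ((q.asIdeal.under R).Fiber S)) Q ≤ (n : WithBot ℕ∞)} := by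
  have hset : {q : PrimeSpectrum S | ∀ Q : PrimeSpectrum ((q.asIdeal.under R).Fiber S),
        Q.asIdeal.comap (Algebra.TensorProduct.includeRight.toRingHom) = q.asIdeal →
          FlatMor.localDim (PrimeSpectrum ((q.asIdeal.under R).Fiber S)) Q ≤ (n : WithBot ℕ∞)} =
      {q : ↥(AlgebraicGeometry.Spec (CommRingCat.of S)) |
        FlatMor.fibreDimAt (AlgebraicGeometry.Spec.map (CommRingCat.ofHom (algebraMap R S))) q ≤ (n : WithBot ℕ∞)} := by
    ext q
    have hq : q ∈ PrimeSpectrum.comap (algebraMap R S) ⁻¹'
        {(⟨q.asIdeal.under R, inferInstance⟩ : PrimeSpectrum R)} := by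
      apply PrimeSpectrum.ext
      rfl
    have heq := FibSpecH8.fibreDimAt_spec_eq R S q hq
    set e := PrimeSpectrum.preimageHomeomorphFiber R S ⟨q.asIdeal.under R, inferInstance⟩ with he
    constructor
    · intro h
      show FlatMor.fibreDimAt (AlgebraicGeometry.Spec.map (CommRingCat.ofHom (algebraMap R S))) q ≤ _
      rw [heq]
      apply h
      have h1 : e.symm (e ⟨q, hq⟩) = ⟨q, hq⟩ := e.symm_apply_apply _
      have h2 := congrArg (fun t => t.1.asIdeal) h1
      exact h2
    · intro h Q hQ
      have h1 : e.symm Q = ⟨q, hq⟩ := by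
        apply Subtype.ext
        apply PrimeSpectrum.ext
        exact hQ
      have h2 : Q = e ⟨q, hq⟩ := by rw [← h1, e.apply_symm_apply]
      rw [h2, ← heq]
      exact h
  rw [hset]
  haveI : AlgebraicGeometry.LocallyOfFiniteType (AlgebraicGeometry.Spec.map (CommRingCat.ofHom (algebraMap R S))) := by
    rw [AlgebraicGeometry.HasRingHomProperty.Spec_iff (P := @AlgebraicGeometry.LocallyOfFiniteType)]
    exact RingHom.finiteType_algebraMap.mpr inferInstance
  exact ⟨ChevH8.isOpen_fibreDimAt_le _ n, RetroH8.isCompact_fibreDimAt_le_spec R S n⟩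

end Groth.Agent.S9176
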