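import Groth.Statements.S9180
import Groth.Agent.Lib.FibLoc_helper8
import Groth.Agent.S2141
import Groth.Agent.S2142

set_option autoImplicit false
universe u
open CAlg

namespace Groth.Agent.S9180

open TensorProduct in
/-- Let S be of finite type over a field k, K an extension field of k, S_K = S ⊗_k K, q a prime of S
whose residue field has transcendence degree r over k, and q_K a prime of S_K lying over q whose
residue field has transcendence degree r_K over K. Then the local ring at q_K of the fibre of S →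
S_K over q has dimension dim (S_K)_{q_K} − dim S_q = r − r_K (stated additively), and there is a
prime of S_K over q for which this dimension is zero. -/
theorem result (k S K : Type u) [Field k] [CommRing S] [Algebra k S]
    [Algebra.FiniteType k S] [Field K] [Algebra k K] (q : Ideal S) [q.IsPrime] (r : ℕ)
    (hr : Algebra.trdeg k q.ResidueField = r) (qK : Ideal (S ⊗[k] K)) [qK.IsPrime] [qK.LiesOver q]
    (rK : ℕ)
    (hrK : letI : Algebra K (S ⊗[k] K) := Algebra.TensorProduct.rightAlgebra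
      Algebra.trdeg K qK.ResidueField = rK) :
    ringKrullDim (EGA4.FibLocRing S (S ⊗[k] K) qK) + ringKrullDim (Localization.AtPrime q) =
        ringKrullDim (Localization.AtPrime qK) ∧
      ringKrullDim (EGA4.FibLocRing S (S ⊗[k] K) qK) + (rK : WithBot ℕ∞) = (r : WithBot ℕ∞) ∧
      ∃ (q' : Ideal (S ⊗[k] K)) (_ : q'.IsPrime), q'.LiesOver q ∧
        ringKrullDim (EGA4.FibLocRing S (S ⊗[k] K) q') = 0 := by
  classical
  letI algK : Algebra K (S ⊗[k] K) := Algebra.TensorProduct.rightAlgebra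
  haveI ftK : Algebra.FiniteType K (S ⊗[k] K) :=
    Algebra.FiniteType.equiv (inferInstance : Algebra.FiniteType K (K ⊗[k] S))
      (Algebra.TensorProduct.commRight k K S)
  haveI : IsNoetherianRing S := Algebra.FiniteType.isNoetherianRing k S
  haveI : IsNoetherianRing (S ⊗[k] K) := Algebra.FiniteType.isNoetherianRing K (S ⊗[k] K)
  have hq : q = qK.comap (algebraMap S (S ⊗[k] K)) := Ideal.LiesOver.over
  -- part 1
  have h1 := Groth.Agent.FibLocH8.dim_fibLocRing_add (A := S) (B := S ⊗[k] K) q qK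
  -- local dimensions
  have hL1 := Groth.Agent.S2141.result (k := K) (S := S ⊗[k] K) qK rK hrK
  have hL2 := Groth.Agent.S2141.result (k := k) (S := S) q r hr
  have hL3 : FlatMor.localDim (PrimeSpectrum (S ⊗[k] K)) ⟨qK, inferInstance⟩ =
      FlatMor.localDim (PrimeSpectrum S) ⟨q, inferInstance⟩ := by
    let e : (K ⊗[k] S) ≃+* (S ⊗[k] K) := (Algebra.TensorProduct.comm k K S).toRingEquiv
    let φ := PrimeSpectrum.homeomorphOfRingEquiv e
    have hφ := Groth.Agent.FibLocH8.localDim_homeomorph φ.symm ⟨qK, inferInstance⟩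
    rw [← hφ]
    haveI : (qK.comap (e : (K ⊗[k] S) →+* (S ⊗[k] K))).IsPrime := Ideal.IsPrime.comap _
    have h2142 := Groth.Agent.S2142.result (k := k) (S := S) (K := K) q
      (qK.comap (e : (K ⊗[k] S) →+* (S ⊗[k] K))) (by
        rw [hq, Ideal.comap_comap]
        congr 1)
    exact h2142
  have harith : ∀ (dF : WithBot ℕ∞) (a b : ℕ), dF + (a : WithBot ℕ∞) = (b : WithBot ℕ∞) →
      (b : WithBot ℕ∞) + (rK : WithBot ℕ∞) = (a : WithBot ℕ∞) + (r : WithBot ℕ∞) →
      dF + (rK : WithBot ℕ∞) = (r : WithBot ℕ∞) := by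
    intro dF a b e1 e2
    have hnb : dF ≠ ⊥ := by
      rintro rfl
      rw [WithBot.bot_add] at e1
      exact WithBot.bot_ne_coe (a := (b : ℕ∞)) (by exact_mod_cast e1)
    obtain ⟨m, rfl⟩ := WithBot.ne_bot_iff_exists.mp hnb
    have hmt : m ≠ ⊤ := by
      rintro rfl
      have : ((⊤ : ℕ∞) : WithBot ℕ∞) + (a : WithBot ℕ∞) = ((⊤ : ℕ∞) : WithBot ℕ∞) := by
        have : ((a : ℕ∞) : WithBot ℕ∞) = (a : WithBot ℕ∞) := rfl
        rw [← this, ← WithBot.coe_add, top_add]
      rw [this] at e1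
      have : (⊤ : ℕ∞) = (b : ℕ∞) := by exact_mod_cast e1
      exact ENat.top_ne_natCast b this
    obtain ⟨d, rfl⟩ := ENat.ne_top_iff_exists.mp hmt
    have e1' : d + a = b := by exact_mod_cast e1
    have e2' : b + rK = a + r := by exact_mod_cast e2
    have : d + rK = r := by omega
    exact_mod_cast this
  obtain ⟨a, ha⟩ : ∃ a : ℕ, ringKrullDim (Localization.AtPrime q) = (a : WithBot ℕ∞) := by
    have hnb : ringKrullDim (Localization.AtPrime q) ≠ ⊥ := ringKrullDim_ne_bot
    have hnt : ringKrullDim (Localization.AtPrime q) ≠ ⊤ := ringKrullDim_ne_top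
    obtain ⟨m, hm⟩ := WithBot.ne_bot_iff_exists.mp hnb
    have hmt : m ≠ ⊤ := by
      rintro rfl
      exact hnt hm.symm
    obtain ⟨n, rfl⟩ := ENat.ne_top_iff_exists.mp hmt
    exact ⟨n, hm.symm⟩
  obtain ⟨b, hb⟩ : ∃ b : ℕ, ringKrullDim (Localization.AtPrime qK) = (b : WithBot ℕ∞) := by
    have hnb : ringKrullDim (Localization.AtPrime qK) ≠ ⊥ := ringKrullDim_ne_bot
    have hnt : ringKrullDim (Localization.AtPrime qK) ≠ ⊤ := ringKrullDim_ne_top
    obtain ⟨m, hm⟩ := WithBot.ne_bot_iff_exists.mp hnb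
    have hmt : m ≠ ⊤ := by
      rintro rfl
      exact hnt hm.symm
    obtain ⟨n, rfl⟩ := ENat.ne_top_iff_exists.mp hmt
    exact ⟨n, hm.symm⟩
  refine ⟨h1, ?_, ?_⟩
  · rw [ha, hb] at h1
    refine harith _ a b h1 ?_
    rw [← hb, ← ha, ← hL1, ← hL2, hL3]
  · have hle : q.map (algebraMap S (S ⊗[k] K)) ≤ qK := Ideal.map_le_iff_le_comap.mpr hq.le
    obtain ⟨q', hq', hq'le⟩ := Ideal.exists_minimalPrimes_le hle
    haveI hq'p : q'.IsPrime := hq'.1.1
    have hcomap : q'.comap (algebraMap S (S ⊗[k] K)) = q := by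
      apply le_antisymm
      · rw [hq]; exact Ideal.comap_mono hq'le
      · exact Ideal.map_le_iff_le_comap.mp hq'.1.2
    refine ⟨q', hq'p, ⟨hcomap.symm⟩, ?_⟩
    apply Groth.Agent.FibLocH8.dim_fibLocRing_eq_zero
    rw [hcomap]
    exact hq'

end Groth.Agent.S9180
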