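import Groth.Statements.S9183
import Mathlib
import Groth.Agent.Lib.AlgColim2_helper7

set_option autoImplicit false
universe u
open CategoryTheory CategoryTheory.Limits
open CAlg

namespace Groth.Agent.S9183

/-- Every R-algebra A, with no finiteness assumption, is the colimit of a filtered system of finitely
presented R-algebras. (The published statement asserts that the category of all finitely presented
R-algebras with a map to A is filtered with colimit A; this row states that some small filtered
system of finitely presented R-algebras has colimit A.) -/
theorem result (R A : Type u) [CommRing R] [CommRing A] [Algebra R A] :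
    ∃ (I : Type u) (_ : SmallCategory I) (_ : IsFiltered I) (D : I ⥤ Under (CommRingCat.of R))
      (c : Cocone D) (_ : IsColimit c),
      (∀ i, (D.obj i).hom.hom.FinitePresentation) ∧
      Nonempty (c.pt ≅ Under.mk (CommRingCat.ofHom (algebraMap R A))) := by
  exact ⟨Groth.Agent.Lib.AlgColim2H7.Idx R A, inferInstance, inferInstance,
    Groth.Agent.Lib.AlgColim2H7.D, Groth.Agent.Lib.AlgColim2H7.cocone,
    Groth.Agent.Lib.AlgColim2H7.isColimit,
    fun i => Groth.Agent.Lib.AlgColim2H7.D_fp i,
    ⟨Iso.refl _⟩⟩

end Groth.Agent.S9183
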