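import Groth.Statements.S9199
import Mathlib
import Groth.Agent.Lib.LimSep2_helper7

set_option autoImplicit false
universe u
open CategoryTheory AlgebraicGeometry
open Lim

namespace Groth.Agent.S9199

/-- Let S be a scheme and X = lim X_i a cofiltered limit of S-schemes X_i (a diagram with a compatible
family of structure maps to S) with affine transition morphisms, every X_i quasi-compact and
quasi-separated; the structure map X → S is the composite X → X_{i₀} → S for any index i₀. Assume S
is quasi-separated. If X → S is separated, then X_i → S is separated for all i beyond some index i₁. -/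
theorem result {I : Type u} [SmallCategory I] [IsCofiltered I] (S : Scheme.{u}) [QuasiSeparatedSpace S]
    (D : I ⥤ Scheme.{u}) (t : D ⟶ (Functor.const I).obj S) (c : Limits.Cone D) (hc : Limits.IsLimit c)
    [∀ (i j : I) (a : i ⟶ j), IsAffineHom (D.map a)]
    [∀ i, CompactSpace (D.obj i)] [∀ i, QuasiSeparatedSpace (D.obj i)] (i₀ : I)
    [IsSeparated (c.π.app i₀ ≫ t.app i₀)] :
    ∃ i₁ : I, ∀ (i : I) (_ : i ⟶ i₁), IsSeparated (t.app i) := by
  have hti : ∀ {i j : I} (φ : i ⟶ j), D.map φ ≫ (t.app j : D.obj j ⟶ S) = t.app i := by
    intro i j φ
    have h := t.naturality φ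
    simp only [Functor.const_obj_obj, Functor.const_obj_map, Category.comp_id] at h
    exact h
  exact Groth.Agent.Lib.LimSep2H7.relative S D (fun i => (t.app i : D.obj i ⟶ S)) hti c hc i₀

end Groth.Agent.S9199
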