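import Groth.Statements.S9209
import Mathlib
import Groth.Agent.Lib.RefVal11_helper6
-- import your own Groth.Agent.* helpers here

set_option autoImplicit false
universe u
open CategoryTheory CategoryTheory.Limits AlgebraicGeometry
open Lim

namespace Groth.Agent.S9209

/-- Let S be a locally Noetherian scheme, f : X → S a separated morphism of finite type and h : U → X a
morphism of finite type whose image is dense in X. Suppose that for every discrete valuation ring A
with fraction field K and every commutative square formed by a morphism Spec K → U → X and a
morphism Spec A → S, there is a morphism Spec A → X making the resulting diagram commute. Then f is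
proper. -/
theorem result {X S U : Scheme.{u}} [IsLocallyNoetherian S] (f : X ⟶ S)
    [IsSeparated f] [LocallyOfFiniteType f] [QuasiCompact f] (h : U ⟶ X) [LocallyOfFiniteType h] [QuasiCompact h]
    (hd : DenseRange h.base)
    (H : ∀ (A : Type u) [CommRing A] [IsDomain A] [IsDiscreteValuationRing A]
      (u : Spec (CommRingCat.of (FractionRing A)) ⟶ U) (y : Spec (CommRingCat.of A) ⟶ S),
      u ≫ h ≫ f = Spec.map (CommRingCat.ofHom (algebraMap A (FractionRing A))) ≫ y →
        ∃ l : Spec (CommRingCat.of A) ⟶ X, l ≫ f = y ∧ Spec.map (CommRingCat.ofHom (algebraMap A (FractionRing A))) ≫ l = u ≫ h) :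
    IsProper f := by

  have hU : ValuativeCriterion.Uniqueness f := IsSeparated.valuativeCriterion f
  have hE : ValuativeCriterion.Existence f := by
    apply Groth.Agent.Lib.RefVal.existence_of_refAt h f
    intro x
    obtain ⟨z, hz⟩ :=
      Groth.Agent.Lib.ClosureSpecH7.exists_specializes_of_mem_closure_range h x (hd x)
    exact ⟨z, hz, Groth.Agent.Lib.RefVal.refExistAt_of_dvr f h z
      (Groth.Agent.Lib.RefVal.dvrExistAt_of_abstract h f z H),
      Groth.Agent.Lib.RefVal.refUniqAt_of_uniqueness h f hU z⟩
  have h4 : UniversallyClosed f := UniversallyClosed.of_valuativeCriterion f hE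
  constructor

end Groth.Agent.S9209
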