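import Groth.Statements.S9211
import Mathlib
import Groth.Agent.Lib.RefVal11_helper6
-- import your own Groth.Agent.* helpers here

set_option autoImplicit false
universe u
open CategoryTheory CategoryTheory.Limits AlgebraicGeometry
open Lim

namespace Groth.Agent.S9211

/-- Let S be a locally Noetherian scheme and f : X → S a morphism locally of finite type. Then f is
separated if and only if the following uniqueness holds: for every generic point η of an irreducible
component of X, every discrete valuation ring A contained in the residue field κ(η) with fraction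
field κ(η) (a valuation subring of κ(η) which is a discrete valuation ring), and every pair of
morphisms Spec A → X with the same composite to S and both restricting on Spec κ(η) to the canonical
morphism Spec κ(η) → X, the two morphisms coincide. -/
theorem result {X S : Scheme.{u}} [IsLocallyNoetherian S] (f : X ⟶ S)
    [LocallyOfFiniteType f] :
    IsSeparated f ↔ ∀ (η : X), closure {η} ∈ irreducibleComponents (X : Type u) →
      ∀ (A : ValuationSubring (X.residueField η)), IsDiscreteValuationRing A →
        ∀ l₁ l₂ : Spec (CommRingCat.of A) ⟶ X, l₁ ≫ f = l₂ ≫ f →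
          Spec.map (CommRingCat.ofHom A.subtype) ≫ l₁ = X.fromSpecResidueField η →
          Spec.map (CommRingCat.ofHom A.subtype) ≫ l₂ = X.fromSpecResidueField η → l₁ = l₂ := by

  constructor
  · intro hs η _ A _ l₁ l₂ h12 g₁ g₂
    exact Groth.Agent.Lib.RefVal.refUniq_of_uniqueness (𝟙 X) f (IsSeparated.valuativeCriterion f)
      η A l₁ l₂ (by rw [g₁, Category.comp_id]) (by rw [g₂, Category.comp_id]) h12
  · intro H
    apply Groth.Agent.Lib.RefVal.isSeparated_of_dvrUniqAt f (𝟙 X)
    intro x
    obtain ⟨η, hη, hηx⟩ := Groth.Agent.Lib.RefVal.exists_generic_specializes X x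
    refine ⟨η, hηx, ?_⟩
    intro A hA l₁ l₂ g₁ g₂ h12
    exact H η hη A hA l₁ l₂ h12 (by rw [g₁, Category.comp_id]) (by rw [g₂, Category.comp_id])

end Groth.Agent.S9211
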