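import Groth.Statements.S9212
import Mathlib
import Groth.Agent.Lib.RefVal11_helper6
-- import your own Groth.Agent.* helpers here

set_option autoImplicit false
universe u
open CategoryTheory CategoryTheory.Limits AlgebraicGeometry
open Lim

namespace Groth.Agent.S9212

/-- Let S be a locally Noetherian scheme and f : X → S a morphism of finite type. Then f is proper if
and only if: for every generic point η of an irreducible component of X, every discrete valuation
ring A contained in the residue field κ(η) with fraction field κ(η) (a valuation subring of κ(η)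
which is a discrete valuation ring), and every morphism Spec A → S whose restriction to Spec κ(η) is
the canonical morphism Spec κ(η) → X followed by f, there is exactly one morphism Spec A → X over S
restricting to the canonical morphism on Spec κ(η). -/
theorem result {X S : Scheme.{u}} [IsLocallyNoetherian S] (f : X ⟶ S)
    [LocallyOfFiniteType f] [QuasiCompact f] :
    IsProper f ↔ ∀ (η : X), closure {η} ∈ irreducibleComponents (X : Type u) →
      ∀ (A : ValuationSubring (X.residueField η)), IsDiscreteValuationRing A →
        ∀ y : Spec (CommRingCat.of A) ⟶ S,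
          Spec.map (CommRingCat.ofHom A.subtype) ≫ y = X.fromSpecResidueField η ≫ f →
          ∃! l : Spec (CommRingCat.of A) ⟶ X,
            l ≫ f = y ∧ Spec.map (CommRingCat.ofHom A.subtype) ≫ l = X.fromSpecResidueField η := by

  constructor
  · intro hp η _ A _ y hy
    have hE : ValuativeCriterion.Existence f := by
      have h1 : (ValuativeCriterion.Existence ⊓ @QuasiCompact) f := by
        rw [← UniversallyClosed.eq_valuativeCriterion]
        infer_instance
      exact h1.1
    obtain ⟨l, hl₁, hl₂⟩ := Groth.Agent.Lib.RefVal.refExist_of_existence (𝟙 X) f hE η A y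
      (by rw [hy, Category.id_comp])
    rw [Category.comp_id] at hl₁
    refine ⟨l, ⟨hl₂, hl₁⟩, ?_⟩
    rintro l' ⟨a, b⟩
    exact Groth.Agent.Lib.RefVal.refUniq_of_uniqueness (𝟙 X) f (IsSeparated.valuativeCriterion f)
      η A l' l (by rw [b, Category.comp_id]) (by rw [hl₁, Category.comp_id]) (a.trans hl₂.symm)
  · intro H
    have hcovU : ∀ x : X, ∃ η : X, (𝟙 X : X ⟶ X) η ⤳ x ∧
        Groth.Agent.Lib.RefVal.DvrUniqAt (𝟙 X) f η ∧
        Groth.Agent.Lib.RefVal.DvrExistAt (𝟙 X) f η := by
      intro x
      obtain ⟨η, hη, hηx⟩ := Groth.Agent.Lib.RefVal.exists_generic_specializes X x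
      refine ⟨η, hηx, ?_, ?_⟩
      · intro A hA l₁ l₂ g₁ g₂ h12
        rw [Category.comp_id] at g₁ g₂
        exact (H η hη A hA (l₁ ≫ f) (by rw [← Category.assoc, g₁])).unique ⟨rfl, g₁⟩
          ⟨h12.symm, g₂⟩
      · intro A hA φ hφ
        rw [Category.id_comp] at hφ
        obtain ⟨l, ⟨hl₁, hl₂⟩, -⟩ := H η hη A hA φ hφ
        exact ⟨l, by rw [hl₂, Category.comp_id], hl₁⟩
    have hs : IsSeparated f := by
      apply Groth.Agent.Lib.RefVal.isSeparated_of_dvrUniqAt f (𝟙 X)
      intro x
      obtain ⟨η, h1, h2, -⟩ := hcovU x
      exact ⟨η, h1, h2⟩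
    have hU : ValuativeCriterion.Uniqueness f := IsSeparated.valuativeCriterion f
    have hE : ValuativeCriterion.Existence f := by
      apply Groth.Agent.Lib.RefVal.existence_of_refAt (𝟙 X) f
      intro x
      obtain ⟨η, h1, -, h3⟩ := hcovU x
      exact ⟨η, h1, Groth.Agent.Lib.RefVal.refExistAt_of_dvr f (𝟙 X) η h3,
        Groth.Agent.Lib.RefVal.refUniqAt_of_uniqueness (𝟙 X) f hU η⟩
    have h4 : UniversallyClosed f := UniversallyClosed.of_valuativeCriterion f hE
    constructor

end Groth.Agent.S9212
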