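import Groth.Statements.S9233
import Groth.Agent.Lib.Henselization13_helper3
import Groth.Agent.Lib.DepthFlat_helper5
-- import your own Groth.Agent.* helpers here

set_option autoImplicit false
universe u
open Hensel
set_option maxSynthPendingDepth 3

namespace Groth.Agent.S9233

/-- The henselization S of a Noetherian local ring R has the same depth as R. -/
theorem result (R S : Type u) [CommRing R] [IsLocalRing R] [IsNoetherianRing R]
    [CommRing S] [IsLocalRing S] [Algebra R S] [IsLocalHom (algebraMap R S)]
    [Hensel.IsHenselization R S] : LocCoh.depth S S = LocCoh.depth R R := by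
  haveI hN : IsNoetherianRing S := by
    obtain ⟨e, -⟩ := Groth.Agent.Lib.HenselizationH3.exists_ringEquiv_hens (R := R) S
    exact isNoetherianRing_of_ringEquiv _ e.symm
  haveI := Groth.Agent.Lib.HenselizationH3.faithfullyFlat_of_isHenselization (R := R) S
  have hmap := Groth.Agent.Lib.HenselizationH3.map_maximalIdeal_of_isHenselization (R := R) S
  unfold LocCoh.depth
  rw [← hmap, ← Groth.Agent.DepthLib.idealDepth_baseChange_eq R S (IsLocalRing.maximalIdeal R) R]
  exact Groth.Agent.DepthLib.idealDepth_congr _ _ (TensorProduct.AlgebraTensorModule.rid R S S).symm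

end Groth.Agent.S9233
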