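import Groth.Statements.S9234
import Mathlib
import Groth.Agent.Lib.StrictHens8_lead
import Groth.Agent.Lib.DepthFlat_helper5

set_option autoImplicit false
universe u
open Hensel

namespace Groth.Agent.S9234

/-- A strict henselization S of a Noetherian local ring R has the same depth as R. -/
theorem result (R S : Type u) [CommRing R] [IsLocalRing R]
    [IsNoetherianRing R] [CommRing S] [IsLocalRing S] [Algebra R S] [IsLocalHom (algebraMap R S)]
    [Hensel.IsStrictHenselization R S] : LocCoh.depth S S = LocCoh.depth R R := by
  haveI hN : IsNoetherianRing S :=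
    (Groth.Agent.Lib.StrictHens.isNoetherianRing_iff_of_isStrictHenselization (R := R) S).mp
      inferInstance
  haveI := Groth.Agent.Lib.StrictHens.faithfullyFlat_of_isStrictHenselization (R := R) S
  have hmap := Groth.Agent.Lib.StrictHens.map_maximalIdeal_of_isStrictHenselization (R := R) S
  unfold LocCoh.depth
  rw [← hmap, ← Groth.Agent.DepthLib.idealDepth_baseChange_eq R S (IsLocalRing.maximalIdeal R) R]
  exact Groth.Agent.DepthLib.idealDepth_congr _ _ (TensorProduct.AlgebraTensorModule.rid R S S).symm

end Groth.Agent.S9234
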