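import Groth.Statements.S9239
import Groth.Agent.Lib.HensBranches8_helper3
-- import your own Groth.Agent.* helpers here

set_option autoImplicit false
universe u
open Brnch


namespace Groth.Agent.S9239

/-- For a Noetherian local ring A with completion A^ at its maximal ideal, A^ has at least as many
branches as A, and at least as many geometric branches as A. -/
theorem result (A : Type u) [CommRing A] [IsLocalRing A] [IsNoetherianRing A] :
    Brnch.numBranches A ≤ Brnch.numBranches (AdicCompletion (IsLocalRing.maximalIdeal A) A) ∧
      Brnch.numGeomBranches A ≤
        Brnch.numGeomBranches (AdicCompletion (IsLocalRing.maximalIdeal A) A) := by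
  exact ⟨Groth.Agent.Lib.HensBranchesH3.numBranches_le_completion A,
    Groth.Agent.Lib.HensBranchesH3.numGeomBranches_le_completion A⟩

end Groth.Agent.S9239
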