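import Groth.Statements.S9240
import Groth.Agent.Lib.HensInduction_helper3
import Groth.Agent.Lib.FlatIndEtale_helper3
import Groth.Agent.Lib.Unibranch3_helper3
-- import your own Groth.Agent.* helpers here

set_option autoImplicit false
universe u
open Brnch
set_option maxSynthPendingDepth 3

namespace Groth.Agent.S9240

/-- Let A be a Noetherian local ring, S its henselization and A^ its completion, and let ψ : S → A^ be
the ring map compatible with the structure maps from A (it is unique, A^ being henselian). Then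
contraction along ψ sends every minimal prime of A^ to a minimal prime of S, and every minimal prime
of S arises this way: contraction maps the minimal primes of A^ onto the minimal primes of S. -/
theorem result (A S : Type u) [CommRing A] [IsLocalRing A]
    [IsNoetherianRing A] [CommRing S] [IsLocalRing S] [Algebra A S] [IsLocalHom (algebraMap A S)]
    [Hensel.IsHenselization A S] (ψ : S →+* AdicCompletion (IsLocalRing.maximalIdeal A) A)
    (hψ : ψ.comp (algebraMap A S) = algebraMap A (AdicCompletion (IsLocalRing.maximalIdeal A) A)) :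
    Set.MapsTo (Ideal.comap ψ) (minimalPrimes (AdicCompletion (IsLocalRing.maximalIdeal A) A))
        (minimalPrimes S) ∧
      Set.SurjOn (Ideal.comap ψ) (minimalPrimes (AdicCompletion (IsLocalRing.maximalIdeal A) A))
        (minimalPrimes S) := by
  haveI hloc0 : IsLocalHom (ψ.comp (algebraMap A S)) := by
    rw [hψ]; infer_instance
  haveI : IsLocalHom ψ := Groth.Agent.Lib.HensInductionH3.isLocalHom_of_comp A S ψ hloc0
  letI : Algebra S (AdicCompletion (IsLocalRing.maximalIdeal A) A) := ψ.toAlgebra
  haveI : IsScalarTower A S (AdicCompletion (IsLocalRing.maximalIdeal A) A) :=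
    IsScalarTower.of_algebraMap_eq (fun a => (DFunLike.congr_fun hψ a).symm)
  haveI : Module.Flat S (AdicCompletion (IsLocalRing.maximalIdeal A) A) :=
    Groth.Agent.Lib.IndEtaleH3.flat_of_flat_of_isIndEtale
      (Groth.Agent.Lib.UnibranchH3.isIndEtale_of_isHenselization A S) _
  haveI : IsLocalHom (algebraMap S (AdicCompletion (IsLocalRing.maximalIdeal A) A)) :=
    (inferInstance : IsLocalHom ψ)
  haveI : Module.FaithfullyFlat S (AdicCompletion (IsLocalRing.maximalIdeal A) A) :=
    Module.FaithfullyFlat.of_flat_of_isLocalHom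
  have hmaps : Set.MapsTo (Ideal.comap ψ)
      (minimalPrimes (AdicCompletion (IsLocalRing.maximalIdeal A) A)) (minimalPrimes S) := by
    intro q hq
    haveI hqp : q.IsPrime := hq.1.1
    refine ⟨⟨Ideal.comap_isPrime ψ q, bot_le⟩, ?_⟩
    rintro P ⟨hP, -⟩ hPle
    haveI := hP
    haveI : q.LiesOver (Ideal.comap ψ q) := ⟨rfl⟩
    obtain ⟨Q, hQle, hQp, hQo⟩ := Ideal.exists_ideal_le_liesOver_of_le (p := P)
      (q := Ideal.comap ψ q) q hPle
    have hQq : q ≤ Q := hq.2 ⟨hQp, bot_le⟩ hQle
    have hQeq : Q = q := le_antisymm hQle hQq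
    rw [hQo.over, hQeq]
    exact le_refl _
  refine ⟨hmaps, ?_⟩
  intro P hP
  haveI hPp : P.IsPrime := hP.1.1
  obtain ⟨Q₀, hQ₀p, hQ₀o⟩ := Ideal.exists_isPrime_liesOver_of_faithfullyFlat
    (B := AdicCompletion (IsLocalRing.maximalIdeal A) A) P
  obtain ⟨q, hq, hqle⟩ := Ideal.exists_minimalPrimes_le (I := ⊥) (J := Q₀) bot_le
  refine ⟨q, hq, ?_⟩
  have h1 : Ideal.comap ψ q ≤ P := by
    rw [hQ₀o.over]
    exact Ideal.comap_mono hqle
  have h2 := (hmaps hq)
  exact le_antisymm h1 (hP.2 ⟨h2.1.1, bot_le⟩ h1)

end Groth.Agent.S9240
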