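import Groth.Statements.S9256
import Groth.Agent.Lib.RegHomField_helper3
-- import your own Groth.Agent.* helpers here

set_option autoImplicit false
universe u
open CAlg
set_option maxSynthPendingDepth 3
open TensorProduct

namespace Groth.Agent.S9256

/-- For a field extension K of k, the ring map k → K is regular exactly when K is separable over k, that
is, geometrically reduced over k. -/
theorem result (k K : Type u) [Field k] [Field K]
    [Algebra k K] : CAlg.IsRegularHom k K ↔ Algebra.IsGeometricallyReduced k K := by
  classical
  constructor
  · intro hreg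
    rw [Algebra.isGeometricallyReduced_field_iff]
    suffices h : IsReduced (K ⊗[k] AlgebraicClosure k) from
      isReduced_of_injective (Algebra.TensorProduct.comm k (AlgebraicClosure k) K)
        (AlgEquiv.injective _)
    apply IsReduced.tensorProduct_of_flat_of_forall_fg
    intro B hB
    obtain ⟨s, hs⟩ := hB
    obtain ⟨L, hLdef⟩ : ∃ L : IntermediateField k (AlgebraicClosure k),
        L = IntermediateField.adjoin k (s : Set (AlgebraicClosure k)) := ⟨_, rfl⟩
    haveI hfin : FiniteDimensional k L := by
      rw [hLdef]
      exact IntermediateField.finiteDimensional_adjoin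
        (fun x _ => Algebra.IsIntegral.isIntegral x)
    have hBL : B ≤ L.toSubalgebra := by
      rw [← hs, hLdef]
      exact IntermediateField.algebra_adjoin_le_adjoin k _
    have hι : Function.Injective (Subalgebra.inclusion hBL) := Subalgebra.inclusion_injective hBL
    suffices h : IsReduced (K ⊗[k] L) from
      isReduced_of_injective (Algebra.TensorProduct.map (AlgHom.id k K) (Subalgebra.inclusion hBL))
        (Module.Flat.lTensor_preserves_injective_linearMap (M := K)
          (Subalgebra.inclusion hBL).toLinearMap hι)
    obtain ⟨_, hfib⟩ := hreg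
    obtain ⟨_, hgeo⟩ := hfib ⊥
    letI algκL : Algebra (⊥ : Ideal k).ResidueField L :=
      ((algebraMap k L).comp
        ((⊥ : Ideal k).algEquivResidueFieldOfField.symm : (⊥ : Ideal k).ResidueField →+* k)).toAlgebra
    haveI : IsScalarTower k (⊥ : Ideal k).ResidueField L :=
      IsScalarTower.of_algebraMap_eq (fun x => by
        show algebraMap k L x = algebraMap k L
          ((⊥ : Ideal k).algEquivResidueFieldOfField.symm (algebraMap k _ x))
        rw [← Ideal.algEquivResidueFieldOfField_apply, AlgEquiv.symm_apply_apply])
    haveI : Module.Finite (⊥ : Ideal k).ResidueField L :=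
      Module.Finite.of_restrictScalars_finite k _ _
    have h1 : IsRegularRing (L ⊗[(⊥ : Ideal k).ResidueField] ((⊥ : Ideal k).ResidueField ⊗[k] K)) :=
      hgeo L inferInstance
    haveI := @Groth.Agent.Lib.RegHomFieldH3.isReduced_of_isRegularRing
      (L ⊗[(⊥ : Ideal k).ResidueField] ((⊥ : Ideal k).ResidueField ⊗[k] K)) _ h1
    haveI h2 : IsReduced (L ⊗[k] K) :=
      isReduced_of_injective
        (Algebra.TensorProduct.cancelBaseChange k (⊥ : Ideal k).ResidueField L L K).symm
        (AlgEquiv.injective _)
    exact isReduced_of_injective (Algebra.TensorProduct.comm k K L) (AlgEquiv.injective _)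
  · intro hGR
    refine ⟨inferInstance, fun p hp => ⟨?_, ?_⟩⟩
    · let e₁ : (p.ResidueField ⊗[k] K) ≃ₐ[k] (k ⊗[k] K) :=
        Algebra.TensorProduct.congr p.algEquivResidueFieldOfField.symm AlgEquiv.refl
      let e₂ : (k ⊗[k] K) ≃ₐ[k] K := Algebra.TensorProduct.lid k K
      exact isNoetherianRing_of_ringEquiv K (e₁.trans e₂).symm.toRingEquiv
    · intro k' _ _ hfin
      letI : Algebra k k' := ((algebraMap p.ResidueField k').comp (algebraMap k p.ResidueField)).toAlgebra
      haveI : IsScalarTower k p.ResidueField k' := IsScalarTower.of_algebraMap_eq (fun _ => rfl)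
      haveI : Module.Finite k p.ResidueField :=
        Module.Finite.equiv p.algEquivResidueFieldOfField.toLinearEquiv
      haveI : Module.Finite k k' := Module.Finite.trans p.ResidueField k'
      haveI : Algebra.IsAlgebraic k k' := Algebra.IsAlgebraic.of_finite k k'
      haveI : IsReduced (K ⊗[k] k') :=
        isReduced_of_injective (Algebra.TensorProduct.comm k K k') (AlgEquiv.injective _)
      haveI : IsArtinianRing (K ⊗[k] k') := IsArtinianRing.of_finite K _
      haveI := Groth.Agent.Lib.RegHomFieldH3.isRegularRing_of_isArtinian_of_isReduced (K ⊗[k] k')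
      exact IsRegularRing.of_ringEquiv
        ((Algebra.TensorProduct.comm k K k').toRingEquiv.trans
          (Algebra.TensorProduct.cancelBaseChange k p.ResidueField k' k' K).symm.toRingEquiv)

end Groth.Agent.S9256
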