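import Groth.Statements.S9261
import Mathlib

set_option autoImplicit false
universe u
open CAlg

namespace Groth.Agent.S9261

/-- Let G be a finite group acting on a ring R, S = R^G its ring of invariants (here: S → R injective
with image the invariants) and A a flat S-algebra. Then the map A → A ⊗_S R is injective with image
the invariants of G acting on A ⊗_S R through the second factor; that is, A → (A ⊗_S R)^G is an
isomorphism. -/
theorem result (S R A G : Type u) [CommRing S] [CommRing R] [Algebra S R]
    [FaithfulSMul S R] [Group G] [Finite G] [MulSemiringAction G R] [SMulCommClass G S R]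
    [Algebra.IsInvariant S R G] [CommRing A] [Algebra S A] [Module.Flat S A] :
    Function.Injective (algebraMap A (TensorProduct S A R)) ∧
      ∀ x : TensorProduct S A R,
        (∀ σ : G, Algebra.TensorProduct.map (AlgHom.id S A) (MulSemiringAction.toAlgHom S R σ) x = x) →
          x ∈ Set.range (algebraMap A (TensorProduct S A R)) := by
  classical
  have : Fintype G := Fintype.ofFinite G
  let f : S →ₗ[S] R := Algebra.linearMap S R
  let g : R →ₗ[S] (G → R) :=
    LinearMap.pi (fun σ => (MulSemiringAction.toAlgHom S R σ).toLinearMap - LinearMap.id)
  have hf : Function.Injective f := FaithfulSMul.algebraMap_injective S R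
  have hgapp : ∀ (r : R) (σ : G), g r σ = σ • r - r := fun r σ => rfl
  have hex : Function.Exact f g := by
    intro r
    constructor
    · intro h
      have h' : ∀ σ : G, σ • r = r := by
        intro σ
        have := congrFun h σ
        rw [hgapp] at this
        exact sub_eq_zero.mp this
      obtain ⟨s, hs⟩ := Algebra.IsInvariant.isInvariant (A := S) (G := G) r h'
      exact ⟨s, hs⟩
    · rintro ⟨s, rfl⟩
      funext σ
      rw [hgapp]
      show σ • algebraMap S R s - algebraMap S R s = 0
      rw [Algebra.algebraMap_eq_smul_one, smul_comm, smul_one, sub_self]
  have hex' := Module.Flat.lTensor_exact A hex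
  have hfA : ∀ y : TensorProduct S A S,
      f.lTensor A y = algebraMap A (TensorProduct S A R) (TensorProduct.rid S A y) := by
    intro y
    induction y using TensorProduct.induction_on with
    | zero => simp
    | tmul a s =>
      rw [LinearMap.lTensor_tmul, TensorProduct.rid_tmul, Algebra.TensorProduct.algebraMap_apply]
      show a ⊗ₜ[S] (algebraMap S R s) = (algebraMap A A (s • a)) ⊗ₜ[S] (1 : R)
      rw [Algebra.algebraMap_eq_smul_one, TensorProduct.tmul_smul, TensorProduct.smul_tmul']
      rfl
    | add x y hx hy => rw [map_add, map_add, map_add, hx, hy]
  constructor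
  · intro a a' h
    have hinj := Module.Flat.lTensor_preserves_injective_linearMap (M := A) f hf
    have e1 : ∀ a : A, algebraMap A (TensorProduct S A R) a =
        f.lTensor A ((TensorProduct.rid S A).symm a) := by
      intro a; rw [hfA, LinearEquiv.apply_symm_apply]
    rw [e1, e1] at h
    exact (TensorProduct.rid S A).symm.injective (hinj h)
  · intro x hx
    have hgx : g.lTensor A x = 0 := by
      apply (TensorProduct.piRight S S A (fun _ : G => R)).injective
      rw [map_zero]
      funext σ
      have key : ∀ z : TensorProduct S A R,
          TensorProduct.piRight S S A (fun _ : G => R) (g.lTensor A z) σ =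
            Algebra.TensorProduct.map (AlgHom.id S A) (MulSemiringAction.toAlgHom S R σ) z - z := by
        intro z
        induction z using TensorProduct.induction_on with
        | zero => simp
        | tmul a r =>
          rw [LinearMap.lTensor_tmul, TensorProduct.piRight_apply, TensorProduct.piRightHom_tmul,
            Algebra.TensorProduct.map_tmul]
          show a ⊗ₜ[S] g r σ = _
          rw [hgapp, TensorProduct.tmul_sub]
          rfl
        | add x y hx hy =>
          rw [map_add, map_add, map_add, Pi.add_apply, hx, hy]; abel
      rw [key, hx σ, sub_self]; rfl
    obtain ⟨y, hy⟩ := (hex' x).mp hgx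
    exact ⟨TensorProduct.rid S A y, by rw [← hy, hfA]⟩

end Groth.Agent.S9261
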