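import Groth.Statements.S9262
import Groth.Agent.Lib.Henselization13_helper3
import Groth.Agent.Lib.StrictHens8_helper3
import Groth.Agent.Lib.IndEtaleLoc2_helper3
import Groth.Agent.Lib.Regular5_helper5
-- import your own Groth.Agent.* helpers here

set_option autoImplicit false
universe u
open Hensel
set_option maxSynthPendingDepth 3

namespace Groth.Agent.S9262

/-- Let R be a Noetherian local ring with henselization S and strict henselization T. Then R is a
discrete valuation ring exactly when S is one, and exactly when T is one. -/
theorem result (R S T : Type u)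
    [CommRing R] [IsLocalRing R] [IsNoetherianRing R] [CommRing S] [IsLocalRing S] [Algebra R S]
    [IsLocalHom (algebraMap R S)] [Hensel.IsHenselization R S] [CommRing T] [IsLocalRing T]
    [Algebra R T] [IsLocalHom (algebraMap R T)] [Hensel.IsStrictHenselization R T] :
    ((∃ _ : IsDomain R, IsDiscreteValuationRing R) ↔ (∃ _ : IsDomain S, IsDiscreteValuationRing S)) ∧
      ((∃ _ : IsDomain R, IsDiscreteValuationRing R) ↔
        (∃ _ : IsDomain T, IsDiscreteValuationRing T)) := by
  haveI hNS : IsNoetherianRing S := by
    obtain ⟨e, -⟩ := Groth.Agent.Lib.HenselizationH3.exists_ringEquiv_hens (R := R) S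
    exact isNoetherianRing_of_ringEquiv _ e.symm
  haveI hNT : IsNoetherianRing T :=
    (Groth.Agent.Lib.StrictHens.isNoetherianRing_iff_of_isStrictHenselization (R := R) T).mp
      inferInstance
  haveI := Groth.Agent.Lib.HenselizationH3.faithfullyFlat_of_isHenselization (R := R) S
  haveI := Groth.Agent.Lib.StrictHens.faithfullyFlat_of_isStrictHenselization (R := R) T
  have hmapS := Groth.Agent.Lib.HenselizationH3.map_maximalIdeal_of_isHenselization (R := R) S
  have hmapT := Groth.Agent.Lib.StrictHens.map_maximalIdeal_of_isStrictHenselization (R := R) T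
  have hdimS := Groth.Agent.Lib.HenselizationH3.ringKrullDim_of_isHenselization (R := R) S
  have hdimT := Groth.Agent.Lib.StrictHens.ringKrullDim_of_isStrictHenselization (R := R) T
  have hregS : IsRegularLocalRing S ↔ IsRegularLocalRing R :=
    Groth.Agent.Lib.IndEtaleH3.isRegularLocalRing_iff_of_map_eq R S hmapS hdimS
  have hregT : IsRegularLocalRing T ↔ IsRegularLocalRing R :=
    Groth.Agent.Lib.IndEtaleH3.isRegularLocalRing_iff_of_map_eq R T hmapT hdimT
  refine ⟨?_, ?_⟩
  · rw [Groth.Agent.RegularLib.dvr_iff R, Groth.Agent.RegularLib.dvr_iff S, hregS, hdimS]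
  · rw [Groth.Agent.RegularLib.dvr_iff R, Groth.Agent.RegularLib.dvr_iff T, hregT, hdimT]

end Groth.Agent.S9262
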