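import Groth.Statements.S9268
import Groth.Agent.Lib.SmoothReg_helper3
-- import your own Groth.Agent.* helpers here

set_option autoImplicit false
universe u
open CAlg
set_option maxSynthPendingDepth 3

namespace Groth.Agent.S9268

/-- Suppose A is a Noetherian ring and B is a finitely generated A-algebra, and consider a prime q of B
lying over p in A. Then A → B is smooth at q (meaning some g not in q makes A → B_g smooth) exactly
when the induced map A_p → B_q is formally smooth with respect to the adic topology defined by the
maximal ideal of B_q. -/
theorem result (A B : Type u) [CommRing A] [IsNoetherianRing A]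
    [CommRing B] [Algebra A B] [Algebra.FiniteType A B] (q : Ideal B) [q.IsPrime] :
    (∃ g : B, g ∉ q ∧ Algebra.Smooth A (Localization.Away g)) ↔
      letI := (Localization.localRingHom (Ideal.comap (algebraMap A B) q) q (algebraMap A B) rfl).toAlgebra
      CAlgX.IsAdicFormallySmooth (Localization.AtPrime (Ideal.comap (algebraMap A B) q))
        (Localization.AtPrime q) (IsLocalRing.maximalIdeal (Localization.AtPrime q)) := by
  classical
  letI alg : Algebra (Localization.AtPrime (Ideal.comap (algebraMap A B) q)) (Localization.AtPrime q) :=
    (Localization.localRingHom (Ideal.comap (algebraMap A B) q) q (algebraMap A B) rfl).toAlgebra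
  show _ ↔ CAlgX.IsAdicFormallySmooth (Localization.AtPrime (Ideal.comap (algebraMap A B) q))
    (Localization.AtPrime q) (IsLocalRing.maximalIdeal (Localization.AtPrime q))
  have halg : ∀ x, algebraMap (Localization.AtPrime (Ideal.comap (algebraMap A B) q))
      (Localization.AtPrime q) x =
      Localization.localRingHom (Ideal.comap (algebraMap A B) q) q (algebraMap A B) rfl x :=
    fun x => rfl
  haveI tower : IsScalarTower A (Localization.AtPrime (Ideal.comap (algebraMap A B) q))
      (Localization.AtPrime q) := by
    apply IsScalarTower.of_algebraMap_eq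
    intro a
    rw [halg, Localization.localRingHom_to_map, ← IsScalarTower.algebraMap_apply]
  haveI : Algebra.FinitePresentation A B := Algebra.FinitePresentation.of_finiteType.1 inferInstance
  haveI : IsNoetherianRing (Localization.AtPrime (Ideal.comap (algebraMap A B) q)) :=
    IsLocalization.isNoetherianRing (Ideal.comap (algebraMap A B) q).primeCompl _ inferInstance
  constructor
  · rintro ⟨g, hgq, hsm⟩
    haveI : Algebra.FormallySmooth A (Localization.Away g) := hsm.1
    have h1 : ↑(PrimeSpectrum.basicOpen g) ⊆ Algebra.smoothLocus A B :=
      Algebra.basicOpen_subset_smoothLocus_iff.2 inferInstance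
    have h2 : (⟨q, inferInstance⟩ : PrimeSpectrum B) ∈ Algebra.smoothLocus A B := h1 hgq
    haveI : Algebra.FormallySmooth A (Localization.AtPrime q) := h2
    haveI : Algebra.FormallySmooth (Localization.AtPrime (Ideal.comap (algebraMap A B) q))
        (Localization.AtPrime q) :=
      Algebra.FormallySmooth.localization_base (Ideal.comap (algebraMap A B) q).primeCompl
    exact Groth.Agent.Lib.SmoothRegH3.adic_of_formallySmooth _
  · intro hadic
    obtain ⟨n, f, hf⟩ := Algebra.FiniteType.iff_quotient_mvPolynomial''.1
      (inferInstance : Algebra.FiniteType A B)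
    obtain ⟨g, hgdef⟩ : ∃ g : MvPolynomial (Fin n) (Localization.AtPrime (Ideal.comap (algebraMap A B) q))
        →ₐ[Localization.AtPrime (Ideal.comap (algebraMap A B) q)] Localization.AtPrime q,
        g = MvPolynomial.aeval (fun i => algebraMap B (Localization.AtPrime q) (f (MvPolynomial.X i))) :=
      ⟨_, rfl⟩
    have hgmap : ∀ F : MvPolynomial (Fin n) A,
        g (MvPolynomial.map (algebraMap A (Localization.AtPrime (Ideal.comap (algebraMap A B) q))) F) =
          algebraMap B (Localization.AtPrime q) (f F) := by
      have : (g.toRingHom.comp (MvPolynomial.map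
          (algebraMap A (Localization.AtPrime (Ideal.comap (algebraMap A B) q))))) =
          (algebraMap B (Localization.AtPrime q)).comp f.toRingHom := by
        apply MvPolynomial.ringHom_ext
        · intro r
          show g (MvPolynomial.map _ (MvPolynomial.C r)) = algebraMap B _ (f (MvPolynomial.C r))
          rw [MvPolynomial.map_C, hgdef, MvPolynomial.aeval_C, ← MvPolynomial.algebraMap_eq,
            f.commutes, ← IsScalarTower.algebraMap_apply, ← IsScalarTower.algebraMap_apply]
        · intro i
          show g (MvPolynomial.map _ (MvPolynomial.X i)) = algebraMap B _ (f (MvPolynomial.X i))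
          rw [MvPolynomial.map_X, hgdef, MvPolynomial.aeval_X]
      intro F
      exact RingHom.congr_fun this F
    haveI : Algebra.FormallySmooth (Localization.AtPrime (Ideal.comap (algebraMap A B) q))
        (Localization.AtPrime q) := by
      refine Groth.Agent.Lib.SmoothRegH3.formallySmooth_of_adic_of_poly n g ?_ hadic
      intro s
      obtain ⟨a, t, rfl⟩ := IsLocalization.exists_mk'_eq q.primeCompl s
      obtain ⟨F, rfl⟩ := hf a
      obtain ⟨G, hG⟩ := hf t.1
      refine ⟨MvPolynomial.map (algebraMap A (Localization.AtPrime (Ideal.comap (algebraMap A B) q))) F,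
        MvPolynomial.map (algebraMap A (Localization.AtPrime (Ideal.comap (algebraMap A B) q))) G, ?_, ?_⟩
      · rw [hgmap, hG]
        exact IsLocalization.map_units _ t
      · rw [hgmap, hgmap, hG]
        exact IsLocalization.mk'_spec _ _ _
    haveI : Algebra.FormallySmooth A (Localization.AtPrime (Ideal.comap (algebraMap A B) q)) :=
      Algebra.FormallySmooth.of_isLocalization (Ideal.comap (algebraMap A B) q).primeCompl
    haveI : Algebra.FormallySmooth A (Localization.AtPrime q) :=
      Algebra.FormallySmooth.comp A (Localization.AtPrime (Ideal.comap (algebraMap A B) q)) _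
    haveI : Algebra.IsSmoothAt A q := ‹_›
    obtain ⟨g', hg', hsm⟩ := Algebra.IsSmoothAt.exists_notMem_smooth A q
    exact ⟨g', hg', hsm⟩

end Groth.Agent.S9268
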