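import Groth.Statements.S9275
import Mathlib.Tactic
import Mathlib.RingTheory.Etale.Locus
import Mathlib.RingTheory.Finiteness.FinitePresentationLocal

set_option autoImplicit false
universe u
open EtAlg

namespace Groth.Agent.S9275

/-- Let A → B be a ring map and J an ideal of B such that A → B is étale at every prime of V(J), in the
sense that every prime q ⊇ J has some h ∉ q with A → B_h étale. Then there is g ∈ B mapping to a
unit of B/J such that A → B_g is étale. -/
theorem result (A B : Type u) [CommRing A] [CommRing B]
    [Algebra A B] (J : Ideal B)
    (h : ∀ (q : Ideal B) [q.IsPrime], J ≤ q → ∃ h : B, h ∉ q ∧ Algebra.Etale A (Localization.Away h)) :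
    ∃ g : B, IsUnit (Ideal.Quotient.mk J g) ∧ Algebra.Etale A (Localization.Away g) := by
  classical
  let K : Ideal B := Ideal.span {h' | Algebra.Etale A (Localization.Away h')}
  have hKJ : K ⊔ J = ⊤ := by
    by_contra hne
    obtain ⟨q, hq, hle⟩ := Ideal.exists_le_maximal _ hne
    haveI := hq.isPrime
    obtain ⟨h', hh'q, het⟩ := h q (le_sup_right.trans hle)
    exact hh'q (hle (Ideal.mem_sup_left (Ideal.subset_span het)))
  obtain ⟨k, hk, j, hj, hkj⟩ := Submodule.mem_sup.mp ((Ideal.eq_top_iff_one _).mp hKJ)
  refine ⟨k, ?_, ?_⟩
  · have h1 : Ideal.Quotient.mk J k = 1 := by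
      have := congrArg (Ideal.Quotient.mk J) hkj
      rw [map_add, Ideal.Quotient.eq_zero_iff_mem.mpr hj, add_zero, map_one] at this
      exact this
    rw [h1]; exact isUnit_one
  · have hfe : Algebra.FormallyEtale A (Localization.Away k) := by
      rw [← Algebra.basicOpen_subset_etaleLocus_iff]
      intro p hp
      have hex : ∃ h', Algebra.Etale A (Localization.Away h') ∧ h' ∉ p.asIdeal := by
        by_contra hno
        push Not at hno
        apply hp
        have hle : K ≤ p.asIdeal := Ideal.span_le.mpr (fun h' hh' => hno h' hh')
        exact hle hk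
      obtain ⟨h', het, hh'p⟩ := hex
      exact (Algebra.basicOpen_subset_etaleLocus_iff.mpr het.formallyEtale) hh'p
    have hfp : Algebra.FinitePresentation A (Localization.Away k) := by
      apply Algebra.FinitePresentation.of_span_eq_top_target
        (s := (algebraMap B (Localization.Away k)) '' {h' | Algebra.Etale A (Localization.Away h')})
      · rw [← Ideal.map_span]
        exact Ideal.eq_top_of_isUnit_mem _ (Ideal.mem_map_of_mem _ hk)
          (IsLocalization.Away.algebraMap_isUnit k)
      · rintro _ ⟨h', het, rfl⟩
        haveI : Algebra.Etale A (Localization.Away h') := het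
        exact Algebra.FinitePresentation.equiv
          ((IsLocalization.algEquiv (Submonoid.powers (h' * k))
            (Localization.Away (algebraMap B (Localization.Away h') k))
            (Localization.Away (algebraMap B (Localization.Away k) h'))).restrictScalars A)
    exact ⟨hfe, hfp⟩

end Groth.Agent.S9275
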