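import Groth.Statements.S9282
import Groth.Agent.Lib.JZInj_helper3
-- import your own Groth.Agent.* helpers here

set_option autoImplicit false
universe u
open CAlg
set_option maxSynthPendingDepth 3

namespace Groth.Agent.S9282

/-- Let A → B be a local ring map between Noetherian local rings that is formally smooth for the adic
topology of the maximal ideal of B, and write K for the residue field of B. In the Jacobi–Zariski
sequence attached to A → B → K, the map from H_1(NL_{K/A}) to H_1(NL_{K/B}), which is m_B/m_B^2, is
injective; the remaining terms are exact in general, so that sequence starts with a zero. -/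
theorem result (A B : Type u) [CommRing A]
    [CommRing B] [IsLocalRing A] [IsLocalRing B] [IsNoetherianRing A] [IsNoetherianRing B]
    [Algebra A B] [IsLocalHom (algebraMap A B)]
    (hfs : CAlgX.IsAdicFormallySmooth A B (IsLocalRing.maximalIdeal B)) :
    Function.Injective
      (Algebra.H1Cotangent.map A B (IsLocalRing.ResidueField B) (IsLocalRing.ResidueField B)) := by
  classical
  rw [injective_iff_map_eq_zero]
  intro x hx
  apply Algebra.Extension.h1Cotangentι_ext
  obtain ⟨y, hy⟩ := Algebra.Extension.Cotangent.mk_surjective x.1
  have h1 : (Algebra.H1Cotangent.map A B (IsLocalRing.ResidueField B) (IsLocalRing.ResidueField B) x).1 = 0 := by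
    rw [hx]; rfl
  change Algebra.Extension.Cotangent.map _ x.1 = 0 at h1
  rw [← hy, Algebra.Extension.Cotangent.map_mk, Algebra.Extension.Cotangent.mk_eq_zero_iff] at h1
  show x.1 = 0
  rw [← hy, Algebra.Extension.Cotangent.mk_eq_zero_iff]
  refine Groth.Agent.Lib.JZInjH3.core (A := A) (B := B) (K := IsLocalRing.ResidueField B)
    (IsLocalRing.maximalIdeal B) (fun x hx => (IsLocalRing.residue_eq_zero_iff x).2 hx) hfs
    ((Algebra.Generators.defaultHom (Algebra.Generators.self A (IsLocalRing.ResidueField B))
      (Algebra.Generators.self B (IsLocalRing.ResidueField B))).toExtensionHom.toRingHom)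
    (fun a => ?_) (fun k => ?_) y.1 h1
  · simp [Algebra.Generators.Hom.toExtensionHom, Algebra.Generators.Hom.toAlgHom]
  · simp [Algebra.Generators.Hom.toExtensionHom, Algebra.Generators.Hom.toAlgHom]

end Groth.Agent.S9282
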