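import Groth.Statements.S9283
import Mathlib.Tactic
import Mathlib.RingTheory.Ideal.Span
import Mathlib.RingTheory.Finiteness.Ideal

set_option autoImplicit false
universe u
open CAlg

namespace Groth.Agent.S9283

/-- Let R be an auto-associated ring, that is, a local ring whose maximal ideal is weakly associated to
R: some nonzero x ∈ R is killed by a power of every element of the maximal ideal. Then every proper
finitely generated ideal of R has a nonzero annihilator. -/
theorem result (R : Type u) [CommRing R] [IsLocalRing R]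
    (h : ∃ x : R, x ≠ 0 ∧ ∀ f ∈ IsLocalRing.maximalIdeal R, ∃ n : ℕ, f ^ n * x = 0)
    (I : Ideal R) (hI : I.FG) (hI' : I ≠ ⊤) : I.annihilator ≠ ⊥ := by
  classical
  obtain ⟨x, hx0, hx⟩ := h
  obtain ⟨s, rfl⟩ := hI
  have hsm : ∀ f ∈ s, f ∈ IsLocalRing.maximalIdeal R := by
    intro f hf
    have hfI : f ∈ Ideal.span (s : Set R) := Ideal.subset_span hf
    rw [IsLocalRing.mem_maximalIdeal, mem_nonunits_iff]
    intro hu
    exact hI' (Ideal.eq_top_of_isUnit_mem _ hfI hu)
  -- key claim by induction on the finset
  have key : ∀ t : Finset R, (∀ f ∈ t, f ∈ IsLocalRing.maximalIdeal R) →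
      ∃ y : R, y ≠ 0 ∧ (∃ c : R, y = c * x) ∧ ∀ f ∈ t, f * y = 0 := by
    intro t
    induction t using Finset.induction_on with
    | empty => intro _; exact ⟨x, hx0, ⟨1, by ring⟩, by simp⟩
    | insert g t hg ih =>
      intro ht
      obtain ⟨y, hy0, ⟨c, hc⟩, hy⟩ := ih (fun f hf => ht f (Finset.mem_insert_of_mem hf))
      obtain ⟨n, hn⟩ := hx g (ht g (Finset.mem_insert_self g t))
      have hex : ∃ n : ℕ, g ^ n * y = 0 := ⟨n, by rw [hc]; linear_combination c * hn⟩
      -- least such n
      let n0 := Nat.find hex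
      have hn0 : g ^ n0 * y = 0 := Nat.find_spec hex
      have hn0pos : n0 ≠ 0 := by
        intro h0
        rw [h0, pow_zero, one_mul] at hn0
        exact hy0 hn0
      obtain ⟨m, hm⟩ := Nat.exists_eq_succ_of_ne_zero hn0pos
      have hmin : g ^ m * y ≠ 0 := by
        intro hz
        have := Nat.find_min' hex hz
        omega
      refine ⟨g ^ m * y, hmin, ⟨g ^ m * c, by rw [hc]; ring⟩, ?_⟩
      intro f hf
      rcases Finset.mem_insert.mp hf with rfl | hft
      · have : f * (f ^ m * y) = f ^ n0 * y := by rw [hm, pow_succ]; ring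
        rw [this, hn0]
      · have := hy f hft
        linear_combination g ^ m * this
  obtain ⟨y, hy0, _, hy⟩ := key s hsm
  intro hbot
  apply hy0
  have hmem : y ∈ (Ideal.span (s : Set R)).annihilator := by
    rw [Submodule.mem_annihilator_span]
    intro ⟨f, hf⟩
    simp only [smul_eq_mul]
    rw [mul_comm]
    exact hy f hf
  rw [hbot] at hmem
  simpa using hmem

end Groth.Agent.S9283
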