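import Groth.Statements.S9285
import Mathlib.Tactic
import Mathlib.RingTheory.Ideal.Span
import Mathlib.RingTheory.Finiteness.Ideal
import Mathlib.LinearAlgebra.Pi

set_option autoImplicit false
universe u
open CAlg

namespace Groth.Agent.S9285

/-- A ring R has the property that every proper finitely generated ideal has a nonzero annihilator if
and only if every injective linear map R → R^n admits a retraction. -/
theorem result (R : Type u) [CommRing R] :
    (∀ I : Ideal R, I.FG → I ≠ ⊤ → I.annihilator ≠ ⊥) ↔
      ∀ (n : ℕ) (u : R →ₗ[R] (Fin n → R)), Function.Injective u →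
        ∃ v : (Fin n → R) →ₗ[R] R, v.comp u = LinearMap.id := by
  classical
  constructor
  · intro hP n u hu
    -- a i = u 1 i
    set a : Fin n → R := u 1 with ha
    have hspan : Ideal.span (Set.range a) = ⊤ := by
      by_contra hne
      have hfg : (Ideal.span (Set.range a)).FG := ⟨Finset.univ.image a, by simp⟩
      have := hP _ hfg hne
      apply this
      rw [eq_bot_iff]
      intro r hr
      rw [Submodule.mem_annihilator_span] at hr
      have : u r = 0 := by
        have h1 : u r = r • u 1 := by rw [← map_smul]; simp
        rw [h1]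
        ext i
        have := hr ⟨a i, Set.mem_range_self i⟩
        simpa using this
      have : r = 0 := hu (by rw [this, map_zero])
      simp [this]
    have h1 : (1 : R) ∈ Ideal.span (Set.range a) := by rw [hspan]; trivial
    obtain ⟨b, hb⟩ := (Ideal.mem_span_range_iff_exists_fun).mp h1
    refine ⟨(Fintype.linearCombination R (fun i => b i) : (Fin n → R) →ₗ[R] R) ∘ₗ LinearMap.id, ?_⟩
    apply LinearMap.ext_ring
    simp only [LinearMap.comp_apply, LinearMap.id_coe, id_eq]
    rw [Fintype.linearCombination_apply]
    simp only [smul_eq_mul]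
    have : ∑ i, u 1 i * b i = ∑ i, b i * a i := by
      apply Finset.sum_congr rfl
      intro i _
      rw [mul_comm]
    rw [this, hb]
  · intro hS I hI hne hann
    obtain ⟨s, rfl⟩ := hI
    -- enumerate s
    obtain ⟨n, ⟨e⟩⟩ : ∃ n, Nonempty (Fin n ≃ s) := ⟨s.card, ⟨(s.equivFin).symm⟩⟩
    let a : Fin n → R := fun i => (e i : R)
    let u : R →ₗ[R] (Fin n → R) := LinearMap.toSpanSingleton R (Fin n → R) a
    have hu : Function.Injective u := by
      rw [← LinearMap.ker_eq_bot, eq_bot_iff]
      intro r hr
      rw [LinearMap.mem_ker] at hr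
      have hmem : r ∈ (Ideal.span (s : Set R)).annihilator := by
        rw [Submodule.mem_annihilator_span]
        intro ⟨f, hf⟩
        have := congrFun hr (e.symm ⟨f, hf⟩)
        simpa [u, a] using this
      rw [hann] at hmem
      simpa using hmem
    obtain ⟨v, hv⟩ := hS n u hu
    apply hne
    rw [Ideal.eq_top_iff_one]
    have h1 : v (u 1) = 1 := by
      have := LinearMap.congr_fun hv 1
      simpa using this
    have hu1 : u 1 = ∑ i, a i • (Pi.single i (1 : R) : Fin n → R) := by
      ext j
      simp [u, Finset.sum_apply, Pi.single_apply]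
    rw [hu1, map_sum] at h1
    rw [← h1]
    apply Ideal.sum_mem
    intro i _
    rw [map_smul, smul_eq_mul]
    exact Ideal.mul_mem_right _ _ (Ideal.subset_span (e i).2)

end Groth.Agent.S9285
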