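import Groth.Statements.S9291
import Mathlib.Tactic
import Mathlib.RingTheory.Etale.Basic
import Mathlib.RingTheory.Localization.Ideal

set_option autoImplicit false
universe u
open EtAlg

namespace Groth.Agent.S9291

/-- Let A be a ring, I an ideal and u a unit of A/I. Then there is an étale ring map A → A' such that
A/I → A'/IA' is an isomorphism, together with a unit of A' mapping to the image of u. -/
theorem result (A : Type u) [CommRing A] (I : Ideal A) (u : (A ⧸ I)ˣ) :
    ∃ (A' : Type u) (_ : CommRing A') (_ : Algebra A A'), Algebra.Etale A A' ∧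
      Function.Bijective (Ideal.quotientMap (Ideal.map (algebraMap A A') I) (algebraMap A A')
        Ideal.le_comap_map) ∧
      ∃ u' : A'ˣ, Ideal.Quotient.mk (Ideal.map (algebraMap A A') I) (u' : A') =
        Ideal.quotientMap (Ideal.map (algebraMap A A') I) (algebraMap A A') Ideal.le_comap_map
          (u : A ⧸ I) := by
  classical
  obtain ⟨a, ha⟩ := Ideal.Quotient.mk_surjective (u : A ⧸ I)
  obtain ⟨b, hb⟩ := Ideal.Quotient.mk_surjective ((u⁻¹ : (A ⧸ I)ˣ) : A ⧸ I)
  have hab : a * b - 1 ∈ I := by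
    rw [← Ideal.Quotient.eq_zero_iff_mem, map_sub, map_mul, ha, hb, map_one]
    simp
  let A' := Localization.Away a
  let f : A →+* A' := algebraMap A A'
  have hfab : Ideal.Quotient.mk (Ideal.map f I) (f a) * Ideal.Quotient.mk (Ideal.map f I) (f b) = 1 := by
    rw [← map_mul, ← map_mul, ← sub_eq_zero, ← map_one (Ideal.Quotient.mk (Ideal.map f I)),
      ← map_one f, ← map_sub, ← map_sub, Ideal.Quotient.eq_zero_iff_mem]
    exact Ideal.mem_map_of_mem f hab
  refine ⟨A', inferInstance, inferInstance, Algebra.Etale.of_isLocalizationAway a, ⟨?_, ?_⟩, ?_⟩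
  · -- injective
    apply Ideal.quotientMap_injective'
    intro x hx
    rw [Ideal.mem_comap] at hx
    rw [IsLocalization.mem_map_algebraMap_iff (Submonoid.powers a)] at hx
    obtain ⟨⟨i, m⟩, hm⟩ := hx
    obtain ⟨n, hn⟩ := m.2
    simp only at hm
    rw [← map_mul] at hm
    obtain ⟨c, hc⟩ := (IsLocalization.eq_iff_exists (Submonoid.powers a) A').mp hm
    obtain ⟨k, hk⟩ := c.2
    rw [← Ideal.Quotient.eq_zero_iff_mem]
    have hk' : a ^ k = (c : A) := hk
    have hn' : a ^ n = (m : A) := hn
    have h1 : a ^ k * (x * a ^ n) = a ^ k * i := by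
      rw [hk', hn']; exact hc
    have h2 := congrArg (Ideal.Quotient.mk I) h1
    simp only [map_mul, map_pow, ha] at h2
    have hi : Ideal.Quotient.mk I (i : A) = 0 := Ideal.Quotient.eq_zero_iff_mem.mpr i.2
    rw [hi, mul_zero] at h2
    have hu : IsUnit ((u : A ⧸ I) ^ k) := (u.isUnit).pow k
    have hu' : IsUnit ((u : A ⧸ I) ^ n) := (u.isUnit).pow n
    have h3 := (hu.mul_right_eq_zero).mp h2
    exact (hu'.mul_left_eq_zero).mp h3
  · -- surjective
    intro y
    obtain ⟨y, rfl⟩ := Ideal.Quotient.mk_surjective y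
    obtain ⟨⟨x, m⟩, hm⟩ := IsLocalization.surj (Submonoid.powers a) y
    obtain ⟨n, hn⟩ := m.2
    have hn' : a ^ n = (m : A) := hn
    simp only at hm
    refine ⟨Ideal.Quotient.mk I (x * b ^ n), ?_⟩
    rw [Ideal.quotientMap_mk]
    show Ideal.Quotient.mk (Ideal.map f I) (f (x * b ^ n)) = _
    rw [map_mul, ← hm, ← hn', map_pow, map_pow, map_mul, map_mul, map_pow, map_pow, mul_assoc, ← mul_pow, hfab,
      one_pow, mul_one]
  · have hunit : IsUnit (f a) := IsLocalization.Away.algebraMap_isUnit a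
    refine ⟨hunit.unit, ?_⟩
    rw [IsUnit.unit_spec, ← ha, Ideal.quotientMap_mk]

end Groth.Agent.S9291
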