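import Groth.Statements.S9293
import Groth.Agent.Lib.RegHomBC_helper3
-- import your own Groth.Agent.* helpers here

set_option autoImplicit false
universe u
open CAlg
set_option maxSynthPendingDepth 3
open TensorProduct

namespace Groth.Agent.S9293

/-- If R → Λ is a regular ring map and R' is an R-algebra of finite type, then R' → R' ⊗_R Λ is again
regular. -/
theorem result (R Λ R' : Type u) [CommRing R] [CommRing Λ] [CommRing R']
    [Algebra R Λ] [Algebra R R'] [Algebra.FiniteType R R'] (h : CAlg.IsRegularHom R Λ) :
    CAlg.IsRegularHom R' (TensorProduct R R' Λ) := by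
  letI : Algebra Λ (R' ⊗[R] Λ) := Algebra.TensorProduct.rightAlgebra
  haveI : Algebra.IsPushout R Λ R' (R' ⊗[R] Λ) := TensorProduct.isPushout'
  apply Groth.Agent.Lib.RegHomBCH3.isRegularHom_of_isPushout R Λ R' (R' ⊗[R] Λ) h
  intro p' hp'
  haveI : Algebra.EssFiniteType R p'.ResidueField := Algebra.EssFiniteType.comp R R' _
  haveI : IsNoetherianRing (p'.ResidueField ⊗[R] Λ) :=
    Groth.Agent.Lib.RegHomBCH3.isNoetherianRing_tensor_of_essFiniteType_field R Λ
      (fun p _ => (h.2 p).1) p'.ResidueField
  exact isNoetherianRing_of_ringEquiv _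
    (Algebra.TensorProduct.cancelBaseChange R R' p'.ResidueField p'.ResidueField Λ).symm.toRingEquiv

end Groth.Agent.S9293
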