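import Groth.Statements.S9296
import Groth.Agent.Lib.NagataCrit_helper3
-- import your own Groth.Agent.* helpers here

set_option autoImplicit false
universe u
open EGA4


namespace Groth.Agent.S9296

/-- For a Noetherian ring R, the set of primes at which R is regular is open in Spec R (R is J-1)
exactly when, for each such prime p, some nonempty open part of the closed set V(p) consists of
primes at which R is regular. Stated with an open U of Spec R whose trace on V(p) is nonempty and
contained in the regular locus. -/
theorem result (R : Type u) [CommRing R] [IsNoetherianRing R] :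
    IsOpen (EGA4.regLocus R) ↔
      ∀ p ∈ EGA4.regLocus R, ∃ U : Set (PrimeSpectrum R), IsOpen U ∧
        (U ∩ PrimeSpectrum.zeroLocus (p.asIdeal : Set R)).Nonempty ∧
        U ∩ PrimeSpectrum.zeroLocus (p.asIdeal : Set R) ⊆ EGA4.regLocus R := by
  constructor
  · intro hopen p hp
    exact ⟨EGA4.regLocus R, hopen, ⟨p, hp, le_refl p.asIdeal⟩, Set.inter_subset_left⟩
  · intro h
    exact Groth.Agent.Lib.NagataCritH3.isOpen_of_nagata _
      (Groth.Agent.Lib.NagataCritH3.stableUnderGeneralization_regLocus R) h

end Groth.Agent.S9296
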