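import Groth.Statements.S9297
import Mathlib
import Groth.Agent.Lib.EquidimCat_helper5

set_option autoImplicit false
universe u
open EGA4

namespace Groth.Agent.S9297

/-- Let A → B be a flat local homomorphism of Noetherian local rings with B catenary and Spec(B)
equidimensional. Then Spec(B/pB) is equidimensional for every prime p of A. -/
theorem result (A B : Type u) [CommRing A] [CommRing B]
    [IsNoetherianRing A] [IsNoetherianRing B] [IsLocalRing A] [IsLocalRing B] [Algebra A B]
    [IsLocalHom (algebraMap A B)] [Module.Flat A B] (hcat : CAlg.IsCatenary B) (heq : EGA4.IsEquidim B)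
    (p : Ideal A) [p.IsPrime] : EGA4.IsEquidim (B ⧸ Ideal.map (algebraMap A B) p) := by
  classical
  have hpfin : p.height ≠ ⊤ := Ideal.height_ne_top_of_isPrime
  have key : ∀ (q : Ideal B) (hq : q.IsPrime), q ∈ (p.map (algebraMap A B)).minimalPrimes →
      ((p.height + Order.coheight (⟨q, hq⟩ : PrimeSpectrum B) : ℕ∞) : WithBot ℕ∞) =
        ringKrullDim B := by
    intro q hq hqmin
    have hIq : p.map (algebraMap A B) ≤ q := hqmin.1.2
    have hpq : p ≤ q.under A := fun x hx => hIq (Ideal.mem_map_of_mem _ hx)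
    haveI : q.LiesOver (q.under A) := ⟨rfl⟩
    obtain ⟨q', hq'le, hq'prime, hq'over⟩ :=
      Ideal.exists_ideal_le_liesOver_of_le (p := p) (q := q.under A) q hpq
    have hIq' : p.map (algebraMap A B) ≤ q' := by
      rw [Ideal.map_le_iff_le_comap]
      intro x hx
      rw [hq'over.over] at hx
      exact hx
    have hq'eq : q' = q := le_antisymm hq'le (hqmin.2 ⟨hq'prime, hIq'⟩ hq'le)
    rw [hq'eq] at hq'over
    haveI : q.LiesOver p := hq'over
    have hht := Ideal.height_eq_height_add_of_liesOver_of_hasGoingDown p q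
    have hzero : (q.map (Ideal.Quotient.mk (p.map (algebraMap A B)))).height = 0 := by
      have hqmin' := hqmin
      rw [Ideal.minimalPrimes_eq_comap] at hqmin'
      obtain ⟨Q, hQ, hQq⟩ := hqmin'
      rw [← hQq, Ideal.map_comap_of_surjective _ Ideal.Quotient.mk_surjective]
      haveI : Q.IsPrime := hQ.1.1
      exact Ideal.height_eq_zero_iff.mpr hQ
    rw [hzero, add_zero] at hht
    rw [← hht]
    exact Groth.Agent.EquidimCat.height_add_coheight hcat heq ⟨q, hq⟩
  have hcommon : ∀ (q q' : Ideal B) (hq : q.IsPrime) (hq' : q'.IsPrime),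
      q ∈ (p.map (algebraMap A B)).minimalPrimes → q' ∈ (p.map (algebraMap A B)).minimalPrimes →
      Order.coheight (⟨q, hq⟩ : PrimeSpectrum B) = Order.coheight (⟨q', hq'⟩ : PrimeSpectrum B) := by
    intro q q' hq hq' hqm hq'm
    have h1 := key q hq hqm
    have h2 := key q' hq' hq'm
    rw [← h2] at h1
    have h3 : p.height + Order.coheight (⟨q, hq⟩ : PrimeSpectrum B) =
        p.height + Order.coheight (⟨q', hq'⟩ : PrimeSpectrum B) := WithBot.coe_injective h1
    exact ENat.add_right_injective_of_ne_top hpfin h3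
  intro Q hQ
  haveI hQp : Q.IsPrime := hQ.1.1
  have hq : Q.comap (Ideal.Quotient.mk (p.map (algebraMap A B))) ∈
      (p.map (algebraMap A B)).minimalPrimes := by
    rw [Ideal.minimalPrimes_eq_comap]; exact ⟨Q, hQ, rfl⟩
  haveI hqp : (Q.comap (Ideal.Quotient.mk (p.map (algebraMap A B)))).IsPrime := hq.1.1
  have hQq : (Q.comap (Ideal.Quotient.mk (p.map (algebraMap A B)))).map
      (Ideal.Quotient.mk (p.map (algebraMap A B))) = Q :=
    Ideal.map_comap_of_surjective _ Ideal.Quotient.mk_surjective Q
  have h1 := ringKrullDim_eq_of_ringEquiv (DoubleQuot.quotQuotEquivQuotOfLE hq.1.2)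
  rw [hQq] at h1
  rw [h1, Groth.Agent.EquidimCat.ringKrullDim_quotient_eq_coheight']
  apply le_antisymm
  · rw [← Groth.Agent.EquidimCat.ringKrullDim_quotient_eq_coheight', ← h1]
    exact ringKrullDim_quotient_le Q
  · rw [ringKrullDim_quotient]
    unfold Order.krullDim
    apply iSup_le
    intro l
    have hl : p.map (algebraMap A B) ≤ l.head.1.asIdeal :=
      SetLike.coe_subset_coe.mp ((PrimeSpectrum.mem_zeroLocus _ _).mp l.head.2)
    obtain ⟨q', hq'min, hq'le⟩ := Ideal.exists_minimalPrimes_le hl
    haveI hq'p : q'.IsPrime := hq'min.1.1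
    have h2 : (l.length : ℕ∞) ≤ Order.coheight (⟨q', hq'p⟩ : PrimeSpectrum B) := by
      have := Order.length_le_coheight (x := (⟨q', hq'p⟩ : PrimeSpectrum B))
        (p := l.map Subtype.val (Subtype.strictMono_coe _))
        (by rw [LTSeries.head_map]; exact hq'le)
      simpa using this
    rw [hcommon _ _ hq'p hqp hq'min hq] at h2
    exact_mod_cast h2

end Groth.Agent.S9297
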