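import Groth.Statements.S9300
-- (no extra imports)

set_option autoImplicit false
universe u
open CAlg

namespace Groth.Agent.S9300

/-- Let A and B be domains and A → B a ring map for which the generic point of Spec(A) has a unique
preimage in Spec(B). Then every nonzero ideal of B has nonzero preimage in A. -/
theorem result (A B : Type u) [CommRing A] [IsDomain A]
    [CommRing B] [IsDomain B] (φ : A →+* B)
    (h : ∃! q : PrimeSpectrum B, Ideal.comap φ q.asIdeal = ⊥) (J : Ideal B) (hJ : J ≠ ⊥) :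
    Ideal.comap φ J ≠ ⊥ := by
  obtain ⟨q, hq, huniq⟩ := h
  -- φ is injective
  have hinj : Function.Injective φ := by
    rw [injective_iff_map_eq_zero]
    intro a ha
    have : a ∈ Ideal.comap φ q.asIdeal := by
      rw [Ideal.mem_comap, ha]; exact zero_mem _
    rw [hq] at this
    simpa using this
  have hbot : Ideal.comap φ (⊥ : Ideal B) = ⊥ := by
    rw [Ideal.comap_bot_of_injective φ hinj]
  have hq0 : q = ⟨⊥, Ideal.isPrime_bot⟩ := (huniq ⟨⊥, Ideal.isPrime_bot⟩ hbot).symm
  intro hJ0
  -- a prime containing J lying over zero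
  have hbotle : Ideal.comap φ J ≤ (⊥ : Ideal A) := hJ0.le
  obtain ⟨Q, hJQ, hQ, hQle⟩ := Ideal.exists_ideal_comap_le_prime (⊥ : Ideal A) J hbotle
  have hQ0 : Ideal.comap φ Q = ⊥ := le_bot_iff.mp hQle
  have := huniq ⟨Q, hQ⟩ hQ0
  rw [hq0] at this
  have hQbot : Q = ⊥ := congrArg PrimeSpectrum.asIdeal this
  exact hJ (le_bot_iff.mp (hQbot ▸ hJQ))

end Groth.Agent.S9300
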