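import Groth.Statements.S9301
import Mathlib

set_option autoImplicit false
universe u
open CAlg

namespace Groth.Agent.S9301

/-- Let A and B be domains and A → B a flat ring map which is the localization of a quasi-finite ring
map A → B₀ (of finite type with finite fibres). Then every nonzero ideal of B has nonzero preimage
in A. -/
theorem result (A B₀ B : Type u) [CommRing A] [IsDomain A]
    [CommRing B₀] [CommRing B] [IsDomain B] [Algebra A B₀] [Algebra.FiniteType A B₀]
    [Algebra.QuasiFinite A B₀] (S : Submonoid B₀) [Algebra B₀ B] [IsLocalization S B] [Algebra A B]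
    [IsScalarTower A B₀ B] [Module.Flat A B] (J : Ideal B) (hJ : J ≠ ⊥) :
    Ideal.comap (algebraMap A B) J ≠ ⊥ := by
  classical
  haveI : Algebra.QuasiFinite A B := Algebra.QuasiFinite.of_isLocalization (R := A) (S := B₀) (T := B) S
  haveI : Algebra.QuasiFinite (FractionRing A) (TensorProduct A (FractionRing A) B) := inferInstance
  haveI : Module.Finite (FractionRing A) (TensorProduct A (FractionRing A) B) :=
    Module.Finite.of_quasiFinite
  obtain ⟨b, hbJ, hb0⟩ : ∃ b ∈ J, b ≠ 0 := Submodule.exists_mem_ne_zero_of_ne_bot hJ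
  have h1 : IsAlgebraic (FractionRing A) ((1 : FractionRing A) ⊗ₜ[A] b) :=
    (Algebra.IsAlgebraic.of_finite (FractionRing A) (TensorProduct A (FractionRing A) B)).isAlgebraic _
  have h2 : IsAlgebraic A ((1 : FractionRing A) ⊗ₜ[A] b) :=
    (IsFractionRing.isAlgebraic_iff A (FractionRing A) _).mpr h1
  have hinj : Function.Injective
      (Algebra.TensorProduct.includeRight : B →ₐ[A] TensorProduct A (FractionRing A) B) :=
    Algebra.TensorProduct.includeRight_injective (IsFractionRing.injective A (FractionRing A))
  obtain ⟨p, hp0, hp⟩ := h2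
  have hpb : Polynomial.aeval b p = 0 := by
    apply hinj
    rw [map_zero, ← Polynomial.aeval_algHom_apply]
    exact hp
  have hb : IsAlgebraic A b := ⟨p, hp0, hpb⟩
  obtain ⟨r, hr0, hdvd⟩ := hb.exists_nonzero_dvd (mem_nonZeroDivisors_of_ne_zero hb0)
  intro hbot
  apply hr0
  have hmem : r ∈ Ideal.comap (algebraMap A B) J := by
    rw [Ideal.mem_comap]
    obtain ⟨c, hc⟩ := hdvd
    rw [hc]
    exact J.mul_mem_right _ hbJ
  rw [hbot] at hmem
  simpa using hmem

end Groth.Agent.S9301
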