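import Groth.Statements.S9302
import Groth.Agent.Lib.HenselLimit_lead

set_option autoImplicit false
universe u
open CategoryTheory
open EtAlg

namespace Groth.Agent.S9302

/-- Henselian pairs are preserved under limits: for an inverse system (A_j, I_j) of henselian pairs over
a preordered set J, the limit A = lim A_j with the ideal I = lim I_j (elements all of whose
projections lie in the I_j) is a henselian pair. -/
theorem result (J : Type u) [Preorder J] (F : J ⥤ CommRingCat.{u})
    (I : ∀ j : J, Ideal (F.obj j))
    (hI : ∀ (i j : J) (φ : i ⟶ j), Ideal.map (F.map φ).hom (I i) ≤ I j)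
    (h : ∀ j : J, HenselianRing (F.obj j) (I j)) :
    HenselianRing ((Limits.limit F : CommRingCat.{u}) : Type u)
      (⨅ j : J, Ideal.comap (Limits.limit.π F j).hom (I j)) := by
  have hπ : ∀ (t : Σ (i j : J), (i ⟶ j)) (x : (Limits.limit F : CommRingCat.{u})),
      (F.map t.2.2).hom ((Limits.limit.π F t.1).hom x) = (Limits.limit.π F t.2.1).hom x := by
    rintro ⟨i, j, φ⟩ x
    have h2 : (Limits.limit.π F i ≫ F.map φ).hom x = (Limits.limit.π F j).hom x := by
      rw [Limits.limit.w F φ]
    rw [CommRingCat.hom_comp, RingHom.comp_apply] at h2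
    exact h2
  refine Groth.Agent.Lib.HenselLimit.henselian_of_limit (fun j => (Limits.limit.π F j).hom) I h
    (tr := Σ (i j : J), (i ⟶ j)) (fun t => t.1) (fun t => t.2.1) (fun t => (F.map t.2.2).hom) hπ
    (fun t => hI _ _ t.2.2) ?_ ?_
  · intro x y hxy
    exact Limits.Concrete.limit_ext F x y hxy
  · intro s hs
    let E := (forget CommRingCat).mapCone (Limits.limit.cone F)
    have hE : Limits.IsLimit E := Limits.isLimitOfPreserves _ (Limits.limit.isLimit F)
    let sec : (F ⋙ forget CommRingCat).sections := ⟨fun j => s j, fun {i j} φ => hs ⟨i, j, φ⟩⟩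
    refine ⟨(Limits.Types.isLimitEquivSections hE).symm sec, fun j => ?_⟩
    exact Limits.Types.isLimitEquivSections_symm_apply hE sec j

end Groth.Agent.S9302
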