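import Groth.Statements.S9310
import Groth.Agent.Lib.RegPS_helper3
-- import your own Groth.Agent.* helpers here

set_option autoImplicit false
universe u
open CAlg
set_option maxSynthPendingDepth 3

namespace Groth.Agent.S9310

/-- Let K be a field, A = K[[x_1, ..., x_n]], and y_1, ..., y_n ∈ A a regular system of parameters (n
elements generating the maximal ideal). Then the substitution map K[[y_1, ..., y_n]] → A is an
isomorphism: f ↦ f(y_1, ..., y_n) is a bijection of K[[x_1, ..., x_n]] onto itself. -/
theorem result (K : Type u) [Field K] (n : ℕ)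
    (y : Fin n → MvPowerSeries (Fin n) K)
    (hy : Ideal.span (Set.range y) = IsLocalRing.maximalIdeal (MvPowerSeries (Fin n) K)) :
    Function.Bijective (MvPowerSeries.subst y : MvPowerSeries (Fin n) K → MvPowerSeries (Fin n) K) := by
  open MvPowerSeries in
  have hym : ∀ i, y i ∈ IsLocalRing.maximalIdeal (MvPowerSeries (Fin n) K) :=
    fun i => hy ▸ Ideal.subset_span ⟨i, rfl⟩
  have hy0 : ∀ i, constantCoeff (y i) = 0 := fun i => by
    have := (Groth.Agent.Lib.PSCompleteH1.mem_maximalIdeal_iff (y i)).1 (hym i)
    rwa [IsLocalRing.maximalIdeal_eq_bot, Ideal.mem_bot] at this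
  have ha : HasSubst y := hasSubst_of_constantCoeff_zero hy0
  haveI : IsAdicComplete (IsLocalRing.maximalIdeal K) K := by
    rw [IsLocalRing.maximalIdeal_eq_bot]
    infer_instance
  have hge : Ideal.span (Set.range y) ≤
      (IsLocalRing.maximalIdeal (MvPowerSeries (Fin n) K)).map
        (substAlgHom (R := K) ha).toRingHom := by
    rw [Ideal.span_le]
    rintro _ ⟨i, rfl⟩
    rw [← substAlgHom_X (R := K) ha i]
    refine Ideal.mem_map_of_mem _ ?_
    rw [Groth.Agent.Lib.PSCompleteH1.mem_maximalIdeal_iff, constantCoeff_X]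
    exact Ideal.zero_mem _
  have hb := Groth.Agent.Lib.RegPSH3.bijective_of_le_map K n (substAlgHom (R := K) ha)
    (hy.symm.le.trans hge) (by
      intro i
      rw [substAlgHom_X]
      exact hym i)
  rwa [coe_substAlgHom] at hb

end Groth.Agent.S9310
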