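import Groth.Statements.S9311
import Groth.Agent.Lib.RegPS_helper3
-- import your own Groth.Agent.* helpers here

set_option autoImplicit false
universe u
open CAlg
set_option maxSynthPendingDepth 3

namespace Groth.Agent.S9311

/-- Let Λ be a Cohen ring (a complete discrete valuation ring whose maximal ideal is generated by a
prime number p), B = Λ[[x_1, ..., x_n]], and y_1, ..., y_n ∈ B with zero constant terms such that p,
y_1, ..., y_n is a regular system of parameters of B (these n + 1 elements generate the maximal
ideal). Then the substitution map Λ[[y_1, ..., y_n]] → B is an isomorphism: f ↦ f(y_1, ..., y_n) is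
a bijection of Λ[[x_1, ..., x_n]] onto itself. (The published statement allows the y_i to have
constant terms in pΛ, the substitution being defined through the (p, x)-adic topology of B; this row
asks the constant terms to vanish, the case in which substitution is defined coefficientwise with no
topology on Λ.) -/
theorem result (Λ : Type u) [CommRing Λ] [IsDomain Λ]
    [IsDiscreteValuationRing Λ] [IsAdicComplete (IsLocalRing.maximalIdeal Λ) Λ] (p : ℕ) (hp : p.Prime)
    (hm : IsLocalRing.maximalIdeal Λ = Ideal.span {(p : Λ)}) (n : ℕ)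
    (y : Fin n → MvPowerSeries (Fin n) Λ) (hy0 : ∀ i, MvPowerSeries.constantCoeff (y i) = 0)
    (hy : Ideal.span (insert (p : MvPowerSeries (Fin n) Λ) (Set.range y)) =
      IsLocalRing.maximalIdeal (MvPowerSeries (Fin n) Λ)) :
    Function.Bijective (MvPowerSeries.subst y : MvPowerSeries (Fin n) Λ → MvPowerSeries (Fin n) Λ) := by
  open MvPowerSeries in
  have hym : ∀ i, y i ∈ IsLocalRing.maximalIdeal (MvPowerSeries (Fin n) Λ) :=
    fun i => hy ▸ Ideal.subset_span (Set.mem_insert_of_mem _ ⟨i, rfl⟩)
  have ha : HasSubst y := hasSubst_of_constantCoeff_zero hy0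
  have hpΛ : (p : Λ) ∈ IsLocalRing.maximalIdeal Λ := by
    rw [hm]
    exact Ideal.subset_span (Set.mem_singleton _)
  have hge : Ideal.span (insert (p : MvPowerSeries (Fin n) Λ) (Set.range y)) ≤
      (IsLocalRing.maximalIdeal (MvPowerSeries (Fin n) Λ)).map
        (substAlgHom (R := Λ) ha).toRingHom := by
    rw [Ideal.span_le]
    rintro _ (rfl | ⟨i, rfl⟩)
    · have h1 : ((p : ℕ) : MvPowerSeries (Fin n) Λ) =
          (substAlgHom (R := Λ) ha).toRingHom ((p : ℕ) : MvPowerSeries (Fin n) Λ) :=
        (map_natCast _ p).symm
      rw [SetLike.mem_coe, h1]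
      refine Ideal.mem_map_of_mem _ ?_
      rw [Groth.Agent.Lib.PSCompleteH1.mem_maximalIdeal_iff, map_natCast]
      exact hpΛ
    · rw [← substAlgHom_X (R := Λ) ha i]
      refine Ideal.mem_map_of_mem _ ?_
      rw [Groth.Agent.Lib.PSCompleteH1.mem_maximalIdeal_iff, constantCoeff_X]
      exact Ideal.zero_mem _
  have hb := Groth.Agent.Lib.RegPSH3.bijective_of_le_map Λ n (substAlgHom (R := Λ) ha)
    (hy.symm.le.trans hge) (by
      intro i
      rw [substAlgHom_X]
      exact hym i)
  rwa [coe_substAlgHom] at hb

end Groth.Agent.S9311
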