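import Groth.Statements.S9321
import Groth.Agent.Lib.PSComplete_helper1

set_option autoImplicit false
open CAlg

namespace Groth.Agent.S9321

/-- Let `K` be a field of characteristic zero and `n ≥ 0`. Then `ℚ → K[[x_1, …, x_n]]` is formally
smooth for the adic topology of the maximal ideal of the power series ring. (`K` is taken in the
lowest universe, where `ℚ` lives.) -/
theorem result (K : Type) [Field K] [CharZero K] (n : ℕ) :
    CAlgX.IsAdicFormallySmooth ℚ (MvPowerSeries (Fin n) K)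
      (IsLocalRing.maximalIdeal (MvPowerSeries (Fin n) K)) := by
  open Groth.Agent.Lib.PSEvalH1 MvPowerSeries in
  have hsm : Algebra.FormallySmooth ℚ K := by
    obtain ⟨s, hs⟩ := exists_isTranscendenceBasis ℚ K
    haveI : Algebra.IsAlgebraic (IntermediateField.adjoin ℚ (Set.range ((↑) : s → K))) K :=
      hs.isAlgebraic_field
    exact Algebra.FormallySmooth.of_algebraicIndependent_of_isSeparable hs.1
  intro A _ _ J hJ ψ hψ
  obtain ⟨m, hm⟩ := hψ
  let ψ₀ : K →ₐ[ℚ] A ⧸ J :=
    ψ.comp ((Algebra.ofId K (MvPowerSeries (Fin n) K)).restrictScalars ℚ)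
  have hJn : IsNilpotent J := ⟨2, by rw [hJ]; rfl⟩
  let σ : K →ₐ[ℚ] A := Algebra.FormallySmooth.lift J hJn ψ₀
  have hσ : ∀ c, Ideal.Quotient.mk J (σ c) = ψ₀ c := Algebra.FormallySmooth.mk_lift J hJn ψ₀
  letI : Algebra K A := σ.toRingHom.toAlgebra
  have halg : ∀ c : K, algebraMap K A c = σ c := fun c => rfl
  have hsurj := Ideal.Quotient.mk_surjective (I := J)
  choose a ha using fun i : Fin n => hsurj (ψ (MvPowerSeries.X i))
  have hXmem : ∀ i : Fin n, (X i : MvPowerSeries (Fin n) K) ∈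
      IsLocalRing.maximalIdeal (MvPowerSeries (Fin n) K) := by
    intro i
    rw [Groth.Agent.Lib.PSCompleteH1.mem_maximalIdeal_iff, constantCoeff_X]
    exact Ideal.zero_mem _
  have hnil : ∀ i, IsNilpotent (a i) := by
    intro i
    refine ⟨m * 2, ?_⟩
    have h1 : a i ^ m ∈ J := by
      rw [← Ideal.Quotient.eq_zero_iff_mem, map_pow, ha, ← map_pow]
      exact hm _ (Ideal.pow_mem_pow (hXmem i) m)
    have h2 : a i ^ m * a i ^ m ∈ J ^ 2 := by
      rw [pow_two]
      exact Ideal.mul_mem_mul h1 h1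
    rw [hJ, Ideal.mem_bot] at h2
    rw [pow_mul, pow_two]
    exact h2
  let χ₀ : MvPowerSeries (Fin n) K →ₐ[K] A := evalNil a hnil
  haveI : IsScalarTower ℚ K A := IsScalarTower.of_algebraMap_eq (fun q => (σ.commutes q).symm)
  refine ⟨χ₀.restrictScalars ℚ, ?_⟩
  let ε₁ : MvPowerSeries (Fin n) K →ₐ[K] A ⧸ J := (Ideal.Quotient.mkₐ K J).comp χ₀
  let ε₂ : MvPowerSeries (Fin n) K →ₐ[K] A ⧸ J :=
    { toRingHom := ψ.toRingHom
      commutes' := fun c => by
        show ψ (algebraMap K _ c) = Ideal.Quotient.mk J (algebraMap K A c)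
        rw [halg, hσ]
        rfl }
  have h12 : ε₁ = ε₂ := by
    apply algHom_ext_of_nilpotent
    · intro i
      show Ideal.Quotient.mk J (χ₀ (X i)) = ψ (X i)
      rw [evalNil_X, ha]
    · intro i
      show IsNilpotent (Ideal.Quotient.mk J (χ₀ (X i)))
      rw [evalNil_X]
      exact (hnil i).map _
  apply AlgHom.ext
  intro s
  exact AlgHom.congr_fun h12 s

end Groth.Agent.S9321
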