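import Groth.Statements.S9322
import Groth.Agent.Lib.PSComplete_helper1
import Groth.Agent.Lib.SepSmooth_helper3
import Groth.Agent.Lib.PerfectGR_helper3
-- import your own Groth.Agent.* helpers here

set_option autoImplicit false
open CAlg
set_option maxSynthPendingDepth 3

namespace Groth.Agent.S9322

/-- Let `p` be a prime, `L` a field of characteristic `p` (given as an algebra over `ℤ/p`) and `n ≥ 0`.
Then `𝔽_p → L[[x_1, …, x_n]]` is formally smooth for the adic topology of the maximal ideal of the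
power series ring. (`L` is taken in the lowest universe, where `ℤ/p` lives.) -/
theorem result (p : ℕ) [Fact p.Prime] (L : Type) [Field L]
    [Algebra (ZMod p) L] (n : ℕ) :
    CAlgX.IsAdicFormallySmooth (ZMod p) (MvPowerSeries (Fin n) L)
      (IsLocalRing.maximalIdeal (MvPowerSeries (Fin n) L)) := by
  open Groth.Agent.Lib.PSEvalH1 MvPowerSeries in
  have hsm : Algebra.FormallySmooth (ZMod p) L := by
    haveI : Algebra.IsGeometricallyReduced (ZMod p) L :=
      Groth.Agent.Lib.PerfectGRH3.isGeometricallyReduced_of_perfectField (ZMod p) L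
    exact Groth.Agent.Lib.SepSmoothH3.formallySmooth_of_isGeometricallyReduced (ZMod p) L
  intro A _ _ J hJ ψ hψ
  obtain ⟨m, hm⟩ := hψ
  let ψ₀ : L →ₐ[ZMod p] A ⧸ J :=
    ψ.comp ((Algebra.ofId L (MvPowerSeries (Fin n) L)).restrictScalars (ZMod p))
  have hJn : IsNilpotent J := ⟨2, by rw [hJ]; rfl⟩
  let σ : L →ₐ[ZMod p] A := Algebra.FormallySmooth.lift J hJn ψ₀
  have hσ : ∀ c, Ideal.Quotient.mk J (σ c) = ψ₀ c := Algebra.FormallySmooth.mk_lift J hJn ψ₀
  letI : Algebra L A := σ.toRingHom.toAlgebra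
  have halg : ∀ c : L, algebraMap L A c = σ c := fun c => rfl
  have hsurj := Ideal.Quotient.mk_surjective (I := J)
  choose a ha using fun i : Fin n => hsurj (ψ (MvPowerSeries.X i))
  have hXmem : ∀ i : Fin n, (X i : MvPowerSeries (Fin n) L) ∈
      IsLocalRing.maximalIdeal (MvPowerSeries (Fin n) L) := by
    intro i
    rw [Groth.Agent.Lib.PSCompleteH1.mem_maximalIdeal_iff, constantCoeff_X]
    exact Ideal.zero_mem _
  have hnil : ∀ i, IsNilpotent (a i) := by
    intro i
    refine ⟨m * 2, ?_⟩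
    have h1 : a i ^ m ∈ J := by
      rw [← Ideal.Quotient.eq_zero_iff_mem, map_pow, ha, ← map_pow]
      exact hm _ (Ideal.pow_mem_pow (hXmem i) m)
    have h2 : a i ^ m * a i ^ m ∈ J ^ 2 := by
      rw [pow_two]
      exact Ideal.mul_mem_mul h1 h1
    rw [hJ, Ideal.mem_bot] at h2
    rw [pow_mul, pow_two]
    exact h2
  let χ₀ : MvPowerSeries (Fin n) L →ₐ[L] A := evalNil a hnil
  haveI : IsScalarTower (ZMod p) L A := IsScalarTower.of_algebraMap_eq (fun q => (σ.commutes q).symm)
  refine ⟨χ₀.restrictScalars (ZMod p), ?_⟩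
  let ε₁ : MvPowerSeries (Fin n) L →ₐ[L] A ⧸ J := (Ideal.Quotient.mkₐ L J).comp χ₀
  let ε₂ : MvPowerSeries (Fin n) L →ₐ[L] A ⧸ J :=
    { toRingHom := ψ.toRingHom
      commutes' := fun c => by
        show ψ (algebraMap L _ c) = Ideal.Quotient.mk J (algebraMap L A c)
        rw [halg, hσ]
        rfl }
  have h12 : ε₁ = ε₂ := by
    apply algHom_ext_of_nilpotent
    · intro i
      show Ideal.Quotient.mk J (χ₀ (X i)) = ψ (X i)
      rw [evalNil_X, ha]
    · intro i
      show IsNilpotent (Ideal.Quotient.mk J (χ₀ (X i)))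
      rw [evalNil_X]
      exact (hnil i).map _
  apply AlgHom.ext
  intro s
  exact AlgHom.congr_fun h12 s

end Groth.Agent.S9322
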