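import Groth.Statements.S9323
import Groth.Agent.Lib.PSComplete_helper1
import Groth.Agent.Lib.CohenLift_helper3
import Groth.Agent.Lib.CoeffField_helper3
-- import your own Groth.Agent.* helpers here

set_option autoImplicit false
open CAlg
set_option maxSynthPendingDepth 3

namespace Groth.Agent.S9323

/-- Let `Λ` be a Cohen ring (a complete discrete valuation ring whose maximal ideal is generated by a
prime number) and `n ≥ 0`. Then `ℤ → Λ[[x_1, …, x_n]]` is formally smooth for the adic topology of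
the maximal ideal of the power series ring. (`Λ` is taken in the lowest universe, where `ℤ` lives.) -/
theorem result (Λ : Type) [CommRing Λ] [IsLocalRing Λ]
    (hΛ : CAlg.IsCohenRing Λ) (n : ℕ) :
    CAlgX.IsAdicFormallySmooth ℤ (MvPowerSeries (Fin n) Λ)
      (IsLocalRing.maximalIdeal (MvPowerSeries (Fin n) Λ)) := by
  open Groth.Agent.Lib.PSEvalH1 MvPowerSeries in
  intro A _ _ J hJ ψ hψ
  obtain ⟨m, hm⟩ := hψ
  obtain ⟨p, hp⟩ := CharP.exists (IsLocalRing.ResidueField Λ)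
  haveI := hp
  have hJn : IsNilpotent J := ⟨2, by rw [hJ]; rfl⟩
  have hpΛ : (p : Λ) ∈ IsLocalRing.maximalIdeal Λ := by
    rw [← IsLocalRing.residue_eq_zero_iff, map_natCast]
    exact CharP.cast_eq_zero _ p
  have hpmem : ((p : ℕ) : MvPowerSeries (Fin n) Λ) ∈
      IsLocalRing.maximalIdeal (MvPowerSeries (Fin n) Λ) := by
    rw [Groth.Agent.Lib.PSCompleteH1.mem_maximalIdeal_iff, map_natCast]
    exact hpΛ
  have hpA : ((p : ℕ) : A) ^ (m * 2) = 0 := by
    have h1 : ((p : ℕ) : A) ^ m ∈ J := by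
      rw [← Ideal.Quotient.eq_zero_iff_mem, map_pow, map_natCast, ← map_natCast ψ, ← map_pow]
      exact hm _ (Ideal.pow_mem_pow hpmem m)
    have h2 : ((p : ℕ) : A) ^ m * ((p : ℕ) : A) ^ m ∈ J ^ 2 := by
      rw [pow_two]
      exact Ideal.mul_mem_mul h1 h1
    rw [hJ, Ideal.mem_bot] at h2
    rw [pow_mul, pow_two]
    exact h2
  let ψ₀ : Λ →+* A ⧸ J := ψ.toRingHom.comp (C : Λ →+* MvPowerSeries (Fin n) Λ)
  obtain ⟨σ, hσ'⟩ := Groth.Agent.Lib.CohenLiftH3.exists_lift_ringHom (Or.inr hΛ) p A J hJn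
    (m * 2) hpA ψ₀
  have hσ : ∀ c, Ideal.Quotient.mk J (σ c) = ψ₀ c := fun c => RingHom.congr_fun hσ' c
  letI : Algebra Λ A := σ.toAlgebra
  have halg : ∀ c : Λ, algebraMap Λ A c = σ c := fun c => rfl
  have hsurj := Ideal.Quotient.mk_surjective (I := J)
  choose a ha using fun i : Fin n => hsurj (ψ (MvPowerSeries.X i))
  have hXmem : ∀ i : Fin n, (X i : MvPowerSeries (Fin n) Λ) ∈
      IsLocalRing.maximalIdeal (MvPowerSeries (Fin n) Λ) := by
    intro i
    rw [Groth.Agent.Lib.PSCompleteH1.mem_maximalIdeal_iff, constantCoeff_X]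
    exact Ideal.zero_mem _
  have hnil : ∀ i, IsNilpotent (a i) := by
    intro i
    refine ⟨m * 2, ?_⟩
    have h1 : a i ^ m ∈ J := by
      rw [← Ideal.Quotient.eq_zero_iff_mem, map_pow, ha, ← map_pow]
      exact hm _ (Ideal.pow_mem_pow (hXmem i) m)
    have h2 : a i ^ m * a i ^ m ∈ J ^ 2 := by
      rw [pow_two]
      exact Ideal.mul_mem_mul h1 h1
    rw [hJ, Ideal.mem_bot] at h2
    rw [pow_mul, pow_two]
    exact h2
  let χ₀ : MvPowerSeries (Fin n) Λ →ₐ[Λ] A := evalNil a hnil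
  refine ⟨Groth.Agent.Lib.CoeffFieldH3.toIntAlgHom' χ₀.toRingHom, ?_⟩
  let ε₁ : MvPowerSeries (Fin n) Λ →ₐ[Λ] A ⧸ J := (Ideal.Quotient.mkₐ Λ J).comp χ₀
  let ε₂ : MvPowerSeries (Fin n) Λ →ₐ[Λ] A ⧸ J :=
    { toRingHom := ψ.toRingHom
      commutes' := fun c => by
        show ψ (algebraMap Λ _ c) = Ideal.Quotient.mk J (algebraMap Λ A c)
        rw [halg, hσ]
        rfl }
  have h12 : ε₁ = ε₂ := by
    apply algHom_ext_of_nilpotent
    · intro i
      show Ideal.Quotient.mk J (χ₀ (X i)) = ψ (X i)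
      rw [evalNil_X, ha]
    · intro i
      show IsNilpotent (Ideal.Quotient.mk J (χ₀ (X i)))
      rw [evalNil_X]
      exact (hnil i).map _
  apply AlgHom.ext
  intro s
  exact AlgHom.congr_fun h12 s

end Groth.Agent.S9323
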