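import Groth.Statements.S9324
import Mathlib
import Groth.Agent.Lib.GabberIdem_lead
import Groth.Agent.Lib.HenselPairOps_lead

set_option autoImplicit false
universe u
open Hensel

namespace Groth.Agent.S9324

open TensorProduct in
/-- Let `(A, I) → (B, J)` be a map of pairs, i.e. `I B ⊆ J`, such that `J` and `I B` have the same
radical, and suppose `A → B` is integral. Let `A^h` be a henselization of the pair `(A, I)`, `B^h` a
henselization of the pair `(B, J)`, and `φ : A^h → B^h` an `A`-algebra homomorphism (there is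
exactly one, by the universal property of `A^h`). Then the induced map `A^h ⊗_A B → B^h` is
bijective: henselization commutes with integral base change. -/
theorem result {A B Ah Bh : Type u} [CommRing A]
    [CommRing B] [CommRing Ah] [CommRing Bh] [Algebra A B] (I : Ideal A) (J : Ideal B)
    (hIJ : I.map (algebraMap A B) ≤ J) (hrad : J.radical = (I.map (algebraMap A B)).radical)
    [Algebra.IsIntegral A B] [Algebra A Ah] (hA : Hens2.IsPairHenselization A I Ah)
    [Algebra B Bh] [Algebra A Bh] [IsScalarTower A B Bh] (hB : Hens2.IsPairHenselization B J Bh)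
    (φ : Ah →ₐ[A] Bh) :
    Function.Bijective (Algebra.TensorProduct.productMap φ (IsScalarTower.toAlgHom A B Bh)) := by
  classical
  obtain ⟨hAh, hAu⟩ := hA
  obtain ⟨hBh, hBu⟩ := hB
  haveI : Algebra.IsIntegral Ah (Ah ⊗[A] B) := inferInstance
  have hT1' : HenselianRing (Ah ⊗[A] B)
      (Ideal.map (algebraMap Ah (Ah ⊗[A] B)) (I.map (algebraMap A Ah))) :=
    Groth.Agent.Lib.GabberIdem.henselian_of_integral hAh (Ah ⊗[A] B)
  have hmapI : Ideal.map (algebraMap Ah (Ah ⊗[A] B)) (I.map (algebraMap A Ah)) =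
      I.map (algebraMap A (Ah ⊗[A] B)) := by
    rw [Ideal.map_map, ← IsScalarTower.algebraMap_eq]
  have hT1 : HenselianRing (Ah ⊗[A] B) (I.map (algebraMap A (Ah ⊗[A] B))) := hmapI ▸ hT1'
  let fB : B →+* Ah ⊗[A] B :=
    (Algebra.TensorProduct.includeRight : B →ₐ[A] Ah ⊗[A] B).toRingHom
  have hfBA : fB.comp (algebraMap A B) = algebraMap A (Ah ⊗[A] B) := by
    ext a
    exact (Algebra.TensorProduct.includeRight : B →ₐ[A] Ah ⊗[A] B).commutes a
  have hJT : J.map fB ≤ (I.map (algebraMap A (Ah ⊗[A] B))).radical := by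
    have h1 : J ≤ (I.map (algebraMap A B)).radical := hrad ▸ Ideal.le_radical
    refine (Ideal.map_mono h1).trans ?_
    refine (Ideal.map_radical_le fB).trans ?_
    rw [Ideal.map_map, hfBA]
  have hT2 : HenselianRing (Ah ⊗[A] B) (J.map fB) :=
    Groth.Agent.Lib.HenselPairOpsLead.henselian_of_le hJT
      (Groth.Agent.Lib.HenselPairOpsLead.henselian_radical hT1)
  obtain ⟨g, hg, -⟩ := hBu (Ah ⊗[A] B) (J.map fB) fB hT2 le_rfl
  obtain ⟨ψ, hψ⟩ : ∃ ψ : Ah ⊗[A] B →ₐ[A] Bh,
      ψ = Algebra.TensorProduct.productMap φ (IsScalarTower.toAlgHom A B Bh) := ⟨_, rfl⟩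
  rw [← hψ]
  have hψ1 : ∀ b : B, ψ ((1 : Ah) ⊗ₜ[A] b) = algebraMap B Bh b := by
    intro b
    rw [hψ, Algebra.TensorProduct.productMap_apply_tmul, map_one, one_mul]
    rfl
  have hψ2 : ∀ x : Ah, ψ (x ⊗ₜ[A] (1 : B)) = φ x := by
    intro x
    rw [hψ, Algebra.TensorProduct.productMap_apply_tmul, map_one, mul_one]
  have h1 : (ψ.toRingHom).comp g = RingHom.id Bh := by
    obtain ⟨g₀, -, hg₀⟩ := hBu Bh (J.map (algebraMap B Bh)) (algebraMap B Bh) hBh le_rfl
    have e1 : (ψ.toRingHom).comp g = g₀ := hg₀ _ (by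
      show ((ψ.toRingHom).comp g).comp (algebraMap B Bh) = algebraMap B Bh
      rw [RingHom.comp_assoc, hg]
      ext b
      exact hψ1 b)
    have e2 : RingHom.id Bh = g₀ := hg₀ _ (by
      show (RingHom.id Bh).comp (algebraMap B Bh) = algebraMap B Bh
      exact RingHom.id_comp _)
    rw [e1, e2]
  have h2 : ∀ z : Ah ⊗[A] B, g (ψ z) = z := by
    have hleft : ∀ x : Ah, g (φ x) = x ⊗ₜ[A] (1 : B) := by
      obtain ⟨k₀, -, hk₀⟩ := hAu (Ah ⊗[A] B) (I.map (algebraMap A (Ah ⊗[A] B)))
        (algebraMap A (Ah ⊗[A] B)) hT1 le_rfl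
      have e1 : (g.comp φ.toRingHom) = k₀ := hk₀ _ (by
        show (g.comp φ.toRingHom).comp (algebraMap A Ah) = algebraMap A (Ah ⊗[A] B)
        ext a
        show g (φ (algebraMap A Ah a)) = algebraMap A (Ah ⊗[A] B) a
        rw [φ.commutes, IsScalarTower.algebraMap_apply A B Bh]
        have h3 := RingHom.congr_fun hg (algebraMap A B a)
        rw [RingHom.comp_apply] at h3
        rw [h3]
        exact RingHom.congr_fun hfBA a)
      have e2 : (Algebra.TensorProduct.includeLeft : Ah →ₐ[A] Ah ⊗[A] B).toRingHom = k₀ :=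
        hk₀ _ (by
          show ((Algebra.TensorProduct.includeLeft : Ah →ₐ[A] Ah ⊗[A] B).toRingHom).comp
            (algebraMap A Ah) = algebraMap A (Ah ⊗[A] B)
          ext a
          exact (Algebra.TensorProduct.includeLeft : Ah →ₐ[A] Ah ⊗[A] B).commutes a)
      intro x
      have h4 := RingHom.congr_fun (e1.trans e2.symm) x
      exact h4
    have hright : ∀ b : B, g (algebraMap B Bh b) = (1 : Ah) ⊗ₜ[A] b := by
      intro b
      exact RingHom.congr_fun hg b
    intro z
    induction z using TensorProduct.induction_on with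
    | zero => rw [map_zero, map_zero]
    | tmul x b =>
      have h3 : x ⊗ₜ[A] b = (x ⊗ₜ[A] (1 : B)) * ((1 : Ah) ⊗ₜ[A] b) := by
        rw [Algebra.TensorProduct.tmul_mul_tmul, mul_one, one_mul]
      rw [h3, map_mul, map_mul, hψ1, hψ2, hleft, hright]
    | add x y hx hy => rw [map_add, map_add, hx, hy]
  refine ⟨?_, ?_⟩
  · intro z z' hzz'
    rw [← h2 z, ← h2 z', hzz']
  · intro y
    exact ⟨g y, RingHom.congr_fun h1 y⟩

end Groth.Agent.S9324
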