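import Groth.Statements.S9330
import Mathlib
import Groth.Agent.Lib.HenselDirLim_lead

set_option autoImplicit false
universe u
open Hensel

namespace Groth.Agent.S9330

/-- Let `(A_i, I_i)` be a directed system of pairs (rings `A_i` with ideals `I_i`, the transition maps
sending `I_i` into `I_j`), with colimit ring `A` and `I ⊆ A` the ideal generated by (equivalently,
the union of) the images of the `I_i`. For each `i` let `B_i` be a henselization of the pair `(A_i,
I_i)`, with the compatible transition maps `B_i → B_j` over `A_i → A_j` (these are the induced ones,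
being unique), and give the colimit of the `B_i` the `A`-algebra structure induced by the maps `A_i
→ B_i`. Then `colim B_i`, with the extension of `I`, is a henselization of the pair `(A, I)`. (The
index set is taken in the universe of the rings; the statement fails for non-filtered colimits.) -/
theorem result {ι : Type u} [Preorder ι] [IsDirectedOrder ι] [Nonempty ι]
    (G : ι → Type u) [∀ i, CommRing (G i)] (f : ∀ i j : ι, i ≤ j → (G i →+* G j))
    [DirectedSystem G (fun i j h => f i j h)] (I : ∀ i, Ideal (G i))
    (hI : ∀ (i j : ι) (h : i ≤ j), (I i).map (f i j h) ≤ I j)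
    (B : ι → Type u) [∀ i, CommRing (B i)] [∀ i, Algebra (G i) (B i)]
    (hB : ∀ i, Hens2.IsPairHenselization (G i) (I i) (B i))
    (g : ∀ i j : ι, i ≤ j → (B i →+* B j)) [DirectedSystem B (fun i j h => g i j h)]
    (hg : ∀ (i j : ι) (h : i ≤ j), (g i j h).comp (algebraMap (G i) (B i)) = (algebraMap (G j) (B j)).comp (f i j h))
    [Algebra (DirectLimit G f) (DirectLimit B g)]
    (halg : ∀ (i : ι) (x : G i), algebraMap (DirectLimit G f) (DirectLimit B g) (DirectLimit.Ring.of G f i x) =
      DirectLimit.Ring.of B g i (algebraMap (G i) (B i) x)) :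
    Hens2.IsPairHenselization (DirectLimit G f) (⨆ i, (I i).map (DirectLimit.Ring.of G f i))
      (DirectLimit B g) := by
  classical
  have hB' : ∀ i, HenselianRing (B i) ((I i).map (algebraMap (G i) (B i))) ∧
      ∀ (C : Type u) [CommRing C] (J : Ideal C) (φ : G i →+* C), HenselianRing C J →
        (I i).map φ ≤ J → ∃! ψ : B i →+* C, ψ.comp (algebraMap (G i) (B i)) = φ := fun i => hB i
  have halg' : ∀ i, (algebraMap (DirectLimit G f) (DirectLimit B g)).comp
      (DirectLimit.Ring.of G f i) =
      (DirectLimit.Ring.of B g i).comp (algebraMap (G i) (B i)) := fun i => RingHom.ext (halg i)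
  have hK : ∀ i j (h : i ≤ j), ((I i).map (algebraMap (G i) (B i))).map (g i j h) ≤
      (I j).map (algebraMap (G j) (B j)) := by
    intro i j h
    rw [Ideal.map_map, hg i j h, ← Ideal.map_map]
    exact Ideal.map_mono (hI i j h)
  have hideal : Ideal.map (algebraMap (DirectLimit G f) (DirectLimit B g))
      (⨆ i, (I i).map (DirectLimit.Ring.of G f i)) =
      ⨆ i, ((I i).map (algebraMap (G i) (B i))).map (DirectLimit.Ring.of B g i) := by
    rw [Ideal.map_iSup]
    refine iSup_congr fun i => ?_
    rw [Ideal.map_map, Ideal.map_map, halg' i]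
  unfold Hens2.IsPairHenselization
  refine ⟨?_, ?_⟩
  · rw [hideal]
    exact Groth.Agent.Lib.HenselDirLim.henselian_of_directed (fun i j h => g i j h)
      (fun i j k h₁ h₂ x => DirectedSystem.map_map' (f := g) h₁ h₂ x)
      (fun i => (I i).map (algebraMap (G i) (B i))) hK
      (fun i => DirectLimit.Ring.of B g i) (fun i j h x => DirectLimit.Ring.of_f h x)
      (fun r => by
        obtain ⟨i, x, rfl⟩ := DirectLimit.exists_eq_mk _ r
        exact ⟨i, x, rfl⟩)
      (fun i x hx => (DirectLimit.exists_eq_zero ⟨i, x⟩).mp hx)
      (fun i => (hB' i).1)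
  · intro C _ J φ hCJ hIJ
    have hlevel : ∀ i, ∃! h : B i →+* C,
        h.comp (algebraMap (G i) (B i)) = φ.comp (DirectLimit.Ring.of G f i) := by
      intro i
      refine (hB' i).2 C J (φ.comp (DirectLimit.Ring.of G f i)) hCJ ?_
      rw [← Ideal.map_map]
      exact (Ideal.map_mono (le_iSup (fun i => (I i).map (DirectLimit.Ring.of G f i)) i)).trans hIJ
    choose h hh using hlevel
    have hh1 : ∀ i, (h i).comp (algebraMap (G i) (B i)) = φ.comp (DirectLimit.Ring.of G f i) :=
      fun i => (hh i).1
    have hh2 : ∀ i (y : B i →+* C),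
        y.comp (algebraMap (G i) (B i)) = φ.comp (DirectLimit.Ring.of G f i) → y = h i :=
      fun i y hy => (hh i).2 y hy
    have hcompat : ∀ i j (hij : i ≤ j) (x : B i), h j (g i j hij x) = h i x := by
      intro i j hij x
      have h1 : (h j).comp (g i j hij) = h i := hh2 i _ (by
        rw [RingHom.comp_assoc, hg i j hij, ← RingHom.comp_assoc, hh1 j, RingHom.comp_assoc]
        congr 1
        exact RingHom.ext (fun x => DirectLimit.Ring.of_f hij x))
      exact RingHom.congr_fun h1 x
    refine ⟨DirectLimit.Ring.lift B g C h hcompat, ?_, ?_⟩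
    · show (DirectLimit.Ring.lift B g C h hcompat).comp
        (algebraMap (DirectLimit G f) (DirectLimit B g)) = φ
      apply DirectLimit.Ring.hom_ext
      intro i
      rw [RingHom.comp_assoc, halg' i, ← RingHom.comp_assoc, DirectLimit.Ring.lift_comp_of, hh1 i]
    · intro ψ hψ
      have hψ' : ψ.comp (algebraMap (DirectLimit G f) (DirectLimit B g)) = φ := hψ
      apply DirectLimit.Ring.hom_ext
      intro i
      rw [DirectLimit.Ring.lift_comp_of]
      apply hh2 i
      rw [RingHom.comp_assoc, ← halg' i, ← RingHom.comp_assoc, hψ']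

end Groth.Agent.S9330
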