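import Groth.Statements.S9335
import Mathlib

set_option autoImplicit false
universe u
open QFin

namespace Groth.Agent.S9335

open AlgebraicGeometry CategoryTheory in
/-- If f : X → S is of finite type and s ∈ S, then f is quasi-finite at only finitely many points of the
fibre over s. -/
theorem result {X S : Scheme.{u}} (f : X ⟶ S) [LocallyOfFiniteType f] [QuasiCompact f] (s : S) :
    {x : ↑X | f.base x = s ∧ f.QuasiFiniteAt x}.Finite := by
  -- the fibre is a Noetherian space
  have hft : LocallyOfFiniteType (f.fiberToSpecResidueField s) :=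
    MorphismProperty.pullback_snd (P := @LocallyOfFiniteType) _ _ inferInstance
  have hLN : IsLocallyNoetherian (f.fiber s) :=
    LocallyOfFiniteType.isLocallyNoetherian (f.fiberToSpecResidueField s)
  have hC : CompactSpace (f.fiber s) := inferInstance
  have hN : IsNoetherian (f.fiber s) := {}
  have hNS : TopologicalSpace.NoetherianSpace (f.fiber s) := inferInstance
  have hNT : TopologicalSpace.NoetherianSpace (f.base ⁻¹' {s}) :=
    (TopologicalSpace.noetherianSpace_iff_of_homeomorph (f.fiberHomeo s)).mp hNS
  let A : Set (f.base ⁻¹' {s}) := {t | IsOpen ({t} : Set (f.base ⁻¹' {s}))}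
  have hAfin : A.Finite := by
    apply (TopologicalSpace.NoetherianSpace.isCompact A).finite
    rw [isDiscrete_iff_discreteTopology, discreteTopology_iff_isOpen_singleton]
    intro a
    have h1 : IsOpen ((Subtype.val : A → (f.base ⁻¹' {s})) ⁻¹' {a.1}) :=
      IsOpen.preimage continuous_subtype_val (a.2 : IsOpen ({a.1} : Set (f.base ⁻¹' {s})))
    convert h1 using 1
    ext b
    simp [Subtype.ext_iff]
  apply (hAfin.image Subtype.val).subset
  rintro x ⟨rfl, hq⟩
  refine ⟨⟨x, rfl⟩, ?_, rfl⟩
  show IsOpen ({(⟨x, rfl⟩ : f.base ⁻¹' {f.base x})} : Set (f.base ⁻¹' {f.base x}))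
  have h2 := Scheme.Hom.quasiFiniteAt_iff_isOpen_singleton_asFiber.mp hq
  rw [← (f.fiberHomeo (f.base x)).isOpen_image] at h2
  simpa only [Set.image_singleton, Scheme.Hom.asFiber, Homeomorph.apply_symm_apply] using h2

end Groth.Agent.S9335
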