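import Groth.Statements.S9337
import Mathlib
import Groth.Agent.Lib.FtPts_helper9

set_option autoImplicit false
universe u
open FtPts

namespace Groth.Agent.S9337

open AlgebraicGeometry CategoryTheory in
/-- Let k be a field and f : Spec k → S a morphism of schemes with image point u. Then f is locally of
finite type if and only if some affine open U ∋ u of S has u as a closed point and the residue field
of Spec k (that is, k) is finite over κ(u). -/
theorem result (S : Scheme.{u}) (k : Type u) [Field k] (f : Spec (CommRingCat.of k) ⟶ S) :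
    LocallyOfFiniteType f ↔
      ∃ U : S.Opens, IsAffineOpen U ∧ ∃ hu : f.base (IsLocalRing.closedPoint k) ∈ U,
        IsClosed ({⟨f.base (IsLocalRing.closedPoint k), hu⟩} : Set ↥U) ∧
          (f.residueFieldMap (IsLocalRing.closedPoint k)).hom.Finite := by
  set x₀ : Spec (CommRingCat.of k) := IsLocalRing.closedPoint k with hx₀
  have hrel := Scheme.Hom.SpecMap_residueFieldMap_fromSpecResidueField f x₀
  haveI hiso : IsIso ((Spec (CommRingCat.of k)).fromSpecResidueField x₀) :=
    Groth.Agent.Lib.FtPts.isIso_fromSpecResidueField_of_isField (CommRingCat.of k)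
      (Field.toIsField k) x₀
  constructor
  · intro h
    obtain ⟨U, hU, hs, hcl⟩ := Groth.Agent.Lib.FtPts.exists_affine_isClosed_of_loft
      (CommRingCat.of k) (Field.toIsField k) f x₀
    refine ⟨U, hU, hs, hcl, ?_⟩
    have h1 : LocallyOfFiniteType
        (Spec.map (f.residueFieldMap x₀) ≫ S.fromSpecResidueField (f x₀)) := by
      rw [hrel]; infer_instance
    have h2 : LocallyOfFiniteType (Spec.map (f.residueFieldMap x₀)) :=
      locallyOfFiniteType_of_comp _ (S.fromSpecResidueField (f x₀))
    have h3 : (f.residueFieldMap x₀).hom.FiniteType :=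
      (HasRingHomProperty.Spec_iff (P := @LocallyOfFiniteType)).mp h2
    letI := (f.residueFieldMap x₀).hom.toAlgebra
    haveI : Algebra.FiniteType (S.residueField (f x₀))
      ((Spec (CommRingCat.of k)).residueField x₀) := h3
    exact finite_of_finite_type_of_isJacobsonRing _ _
  · rintro ⟨U, hU, hs, hcl, hfin⟩
    have h1 : LocallyOfFiniteType (S.fromSpecResidueField (f x₀)) :=
      Groth.Agent.Lib.FtPts.loft_of_isClosed _ U hs hcl
    have h2 : LocallyOfFiniteType (Spec.map (f.residueFieldMap x₀)) :=
      (HasRingHomProperty.Spec_iff (P := @LocallyOfFiniteType)).mpr hfin.finiteType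
    have h3 : LocallyOfFiniteType ((Spec (CommRingCat.of k)).fromSpecResidueField x₀ ≫ f) := by
      rw [← hrel]; infer_instance
    have : f = inv ((Spec (CommRingCat.of k)).fromSpecResidueField x₀) ≫
        ((Spec (CommRingCat.of k)).fromSpecResidueField x₀ ≫ f) := by simp
    rw [this]
    infer_instance

end Groth.Agent.S9337
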