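import Groth.Statements.S9338
import Mathlib
import Groth.Agent.Lib.FtPts2_helper9

set_option autoImplicit false
universe u
open FtPts

namespace Groth.Agent.S9338

open AlgebraicGeometry CategoryTheory in
/-- For an Artinian local ring A with residue field κ, a morphism f : Spec A → S is (locally) of finite
type exactly when the composite Spec κ → Spec A → S is. -/
theorem result (S : Scheme.{u}) (A : Type u) [CommRing A] [IsArtinianRing A] [IsLocalRing A]
    (f : Spec (CommRingCat.of A) ⟶ S) :
    LocallyOfFiniteType f ↔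
      LocallyOfFiniteType (Spec.map (CommRingCat.ofHom (IsLocalRing.residue A)) ≫ f) := by
  set j := Spec.map (CommRingCat.ofHom (IsLocalRing.residue A)) with hj
  haveI hjft : LocallyOfFiniteType j :=
    (HasRingHomProperty.Spec_iff (P := @LocallyOfFiniteType)).mpr
      (RingHom.FiniteType.of_surjective _ IsLocalRing.residue_surjective)
  constructor
  · intro h; infer_instance
  · intro h
    haveI : Subsingleton (Spec (CommRingCat.of A)) := by
      refine ⟨fun p q => PrimeSpectrum.ext ?_⟩
      have hp : p.asIdeal.IsMaximal := IsArtinianRing.isMaximal_of_isPrime p.asIdeal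
      have hq : q.asIdeal.IsMaximal := IsArtinianRing.isMaximal_of_isPrime q.asIdeal
      rw [IsLocalRing.eq_maximalIdeal hp, IsLocalRing.eq_maximalIdeal hq]
    have hQ : RingHom.StableUnderCompositionWithLocalizationAwaySource @RingHom.FiniteType :=
      (RingHom.finiteType_stableUnderComposition.stableUnderCompositionWithLocalizationAway
        RingHom.finiteType_holdsForLocalizationAway).1
    rw [HasRingHomProperty.iff_exists_appLE (P := @LocallyOfFiniteType) hQ]
    intro x
    obtain ⟨_, ⟨U, hU : IsAffineOpen U, rfl⟩, hxU, -⟩ :=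
      S.isBasis_affineOpens.exists_subset_of_mem_open (Set.mem_univ (f x)) isOpen_univ
    have e : (⊤ : (Spec (CommRingCat.of A)).Opens) ≤ f ⁻¹ᵁ U := fun z _ => by
      show f z ∈ U
      rw [Subsingleton.elim z x]; exact hxU
    refine ⟨⟨U, hU⟩, ⟨⊤, isAffineOpen_top _⟩, trivial, e, ?_⟩
    have e' : (⊤ : (Spec (CommRingCat.of (IsLocalRing.ResidueField A))).Opens) ≤ (j ≫ f) ⁻¹ᵁ U :=
      fun z _ => e (x := j z) trivial
    have h1 : ((j ≫ f).appLE U ⊤ e').hom.FiniteType :=
      (j ≫ f).finiteType_appLE hU (isAffineOpen_top _) e'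
    have h2' : j.appLE ⊤ ⊤ le_top = j.appTop := by
      simp [Scheme.Hom.appLE]
    have h2 : (j ≫ f).appLE U ⊤ e' = f.appLE U ⊤ e ≫ j.appTop := by
      rw [← h2', Scheme.Hom.appLE_comp_appLE]
    have h3 : ((f.appLE U ⊤ e ≫ (Scheme.ΓSpecIso (CommRingCat.of A)).hom) ≫
        CommRingCat.ofHom (IsLocalRing.residue A)).hom.FiniteType := by
      have : (f.appLE U ⊤ e ≫ (Scheme.ΓSpecIso (CommRingCat.of A)).hom) ≫
          CommRingCat.ofHom (IsLocalRing.residue A) =
          (j ≫ f).appLE U ⊤ e' ≫
            (Scheme.ΓSpecIso (CommRingCat.of (IsLocalRing.ResidueField A))).hom := by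
        rw [h2, Category.assoc, Category.assoc, Scheme.ΓSpecIso_naturality]
      rw [this]
      exact (RingHom.finiteType_respectsIso.cancel_right_isIso _ _).mpr h1
    have h4 := Groth.Agent.Lib.FtPts2.finiteType_of_artinian_local
      (f.appLE U ⊤ e ≫ (Scheme.ΓSpecIso (CommRingCat.of A)).hom).hom (IsLocalRing.residue A)
      IsLocalRing.residue_surjective h3
    exact (RingHom.finiteType_respectsIso.cancel_right_isIso _
      (Scheme.ΓSpecIso (CommRingCat.of A)).hom).mp h4

end Groth.Agent.S9338
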