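import Groth.Statements.S9340
import Mathlib
import Groth.Agent.Lib.FtPts_helper9

set_option autoImplicit false
universe u
open FtPts

namespace Groth.Agent.S9340

open AlgebraicGeometry CategoryTheory in
/-- A surjective morphism locally of finite type maps the set of finite type points of the source onto
the set of finite type points of the target. -/
theorem result {T S : Scheme.{u}} (f : T ⟶ S) [LocallyOfFiniteType f] [Surjective f] :
    f.base '' {t : ↑T | LocallyOfFiniteType (T.fromSpecResidueField t)} =
      {s : ↑S | LocallyOfFiniteType (S.fromSpecResidueField s)} := by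
  apply Set.Subset.antisymm
  · rintro _ ⟨t, ht, rfl⟩
    have ht' : LocallyOfFiniteType (T.fromSpecResidueField t) := ht
    obtain ⟨x⟩ : Nonempty (Spec (T.residueField t)) := inferInstance
    have hx : (T.fromSpecResidueField t ≫ f) x = f t := by
      rw [Scheme.Hom.comp_apply, Scheme.fromSpecResidueField_apply]
    have := Groth.Agent.Lib.FtPts.exists_affine_isClosed_of_loft (T.residueField t)
      (Field.toIsField _) (T.fromSpecResidueField t ≫ f) x
    rw [hx] at this
    obtain ⟨U, -, hs, hcl⟩ := this
    exact Groth.Agent.Lib.FtPts.loft_of_isClosed (f t) U hs hcl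
  · intro s hs
    have hs' : LocallyOfFiniteType (S.fromSpecResidueField s) := hs
    obtain ⟨t₀, ht₀⟩ := f.surjective s
    obtain ⟨x⟩ : Nonempty (Spec (S.residueField s)) := inferInstance
    have hx : S.fromSpecResidueField s x = s := Scheme.fromSpecResidueField_apply _ _
    obtain ⟨w₀, -, -⟩ := Scheme.Pullback.exists_preimage_pullback (f := f)
      (g := S.fromSpecResidueField s) t₀ x (ht₀.trans hx.symm)
    obtain ⟨w, -, hw⟩ := Groth.Agent.Lib.FtPts.exists_ft_point_of_isLocallyClosed
      (Limits.pullback f (S.fromSpecResidueField s)) Set.univ isOpen_univ.isLocallyClosed ⟨w₀, trivial⟩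
    have hw' : LocallyOfFiniteType
      ((Limits.pullback f (S.fromSpecResidueField s)).fromSpecResidueField w) := hw
    obtain ⟨z⟩ : Nonempty (Spec ((Limits.pullback f (S.fromSpecResidueField s)).residueField w)) :=
      inferInstance
    have hz : ((Limits.pullback f (S.fromSpecResidueField s)).fromSpecResidueField w ≫
        Limits.pullback.fst f (S.fromSpecResidueField s)) z = Limits.pullback.fst f (S.fromSpecResidueField s) w := by
      rw [Scheme.Hom.comp_apply, Scheme.fromSpecResidueField_apply]
    have := Groth.Agent.Lib.FtPts.exists_affine_isClosed_of_loft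
      ((Limits.pullback f (S.fromSpecResidueField s)).residueField w) (Field.toIsField _)
      ((Limits.pullback f (S.fromSpecResidueField s)).fromSpecResidueField w ≫
        Limits.pullback.fst f (S.fromSpecResidueField s)) z
    rw [hz] at this
    obtain ⟨U, -, hU, hcl⟩ := this
    refine ⟨Limits.pullback.fst f (S.fromSpecResidueField s) w,
      Groth.Agent.Lib.FtPts.loft_of_isClosed _ U hU hcl, ?_⟩
    rw [← Scheme.Hom.comp_apply, Limits.pullback.condition, Scheme.Hom.comp_apply,
      Scheme.fromSpecResidueField_apply]

end Groth.Agent.S9340
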