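import Groth.Statements.S9341
import Mathlib
import Groth.Agent.Lib.FtPts_helper9

set_option autoImplicit false
universe u
open FtPts

namespace Groth.Agent.S9341

open AlgebraicGeometry CategoryTheory in
/-- Every nonempty locally closed subset of a scheme S contains a finite type point of S; in particular
for a closed subset Z the finite type points lying in Z are dense in Z. -/
theorem result (S : Scheme.{u}) :
    (∀ Z : Set ↑S, IsLocallyClosed Z → Z.Nonempty →
        (Z ∩ {s : ↑S | LocallyOfFiniteType (S.fromSpecResidueField s)}).Nonempty) ∧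
      ∀ Z : Set ↑S, IsClosed Z →
        Z ⊆ closure (Z ∩ {s : ↑S | LocallyOfFiniteType (S.fromSpecResidueField s)}) := by
  have h1 := Groth.Agent.Lib.FtPts.exists_ft_point_of_isLocallyClosed S
  refine ⟨h1, fun Z hZ z hz => ?_⟩
  rw [mem_closure_iff]
  intro O hO hzO
  obtain ⟨w, ⟨hwO, hwZ⟩, hw⟩ := h1 (O ∩ Z) ⟨O, Z, hO, hZ, rfl⟩ ⟨z, hzO, hz⟩
  exact ⟨w, hwO, hwZ, hw⟩

end Groth.Agent.S9341
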