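import Groth.Statements.S9347
import Mathlib

set_option autoImplicit false
universe u
open Dom

namespace Groth.Agent.S9347

open AlgebraicGeometry CategoryTheory in
/-- For a quasi-compact morphism, a point of an affine open `W` of the target that is not a
specialization of a point in the image has an open neighbourhood missing the image. -/
theorem exists_opens_of_forall_not_specializes {X S : Scheme.{u}} (f : X ⟶ S) [QuasiCompact f]
    (η : ↑S) (hnot : ∀ x : ↑X, ¬ f.base x ⤳ η) :
    ∃ V : S.Opens, η ∈ V ∧ f ⁻¹ᵁ V = ⊥ := by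
  obtain ⟨W, hW, hηW, -⟩ := TopologicalSpace.Opens.isBasis_iff_nbhd.mp S.isBasis_affineOpens
    (show η ∈ (⊤ : S.Opens) from trivial)
  have hW : IsAffineOpen W := hW
  have hc : IsCompact (f ⁻¹ᵁ W : Set ↑X) := f.isCompact_preimage hW.isCompact
  obtain ⟨R, h, hh⟩ := isCompact_iff_exists.mp hc
  have hrange : Set.range (h ≫ f).base ⊆ Set.range hW.fromSpec.base := by
    rw [hW.range_fromSpec]
    rintro _ ⟨r, rfl⟩
    have : h.base r ∈ (f ⁻¹ᵁ W : Set ↑X) := by rw [← hh]; exact ⟨r, rfl⟩
    simpa using this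
  let k := IsOpenImmersion.lift hW.fromSpec (h ≫ f) hrange
  have hk : k ≫ hW.fromSpec = h ≫ f := IsOpenImmersion.lift_fac _ _ _
  obtain ⟨φ, hφ⟩ := Spec.homEquiv.symm.surjective k
  have hηr : η ∈ Set.range hW.fromSpec.base := by rw [hW.range_fromSpec]; exact hηW
  obtain ⟨η', rfl⟩ := hηr
  -- η' is not in the closure of the range of k
  have hcl : η' ∉ closure (Set.range k.base) := by
    intro hmem
    have hk' : ⇑k.base = PrimeSpectrum.comap φ.hom := by
      rw [← hφ]; rfl
    replace hmem : RingHom.ker φ.hom ≤ PrimeSpectrum.asIdeal η' := by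
      have h1 : η' ∈ PrimeSpectrum.zeroLocus (RingHom.ker φ.hom : Set _) := by
        have h0 := PrimeSpectrum.closure_range_comap φ.hom
        rw [← hφ] at hmem
        exact h0 ▸ hmem
      exact SetLike.coe_subset_coe.mp ((PrimeSpectrum.mem_zeroLocus _ _).mp h1)
    obtain ⟨q, hq, hqle⟩ := Ideal.exists_minimalPrimes_le hmem
    have hq' : q ∈ (Ideal.comap φ.hom ⊥).minimalPrimes := by
      rwa [← RingHom.ker_eq_comap_bot]
    obtain ⟨p, hp, -, hpq⟩ := Ideal.exists_comap_eq_of_mem_minimalPrimes φ.hom q hq'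
    have hspec : (⟨q, hq.1.1⟩ : PrimeSpectrum _) ⤳ η' :=
      (PrimeSpectrum.le_iff_specializes _ _).mp hqle
    have hspec' := hspec.map hW.fromSpec.base.hom.continuous
    apply hnot (h.base ⟨p, hp⟩)
    have e1 : f.base (h.base ⟨p, hp⟩) = hW.fromSpec.base (k.base ⟨p, hp⟩) := by
      rw [← Scheme.Hom.comp_apply, ← Scheme.Hom.comp_apply, hk]
    have e2 : PrimeSpectrum.comap φ.hom ⟨p, hp⟩ = ⟨q, hq.1.1⟩ := PrimeSpectrum.ext hpq
    rw [e1, hk', e2]
    exact hspec'
  let V' : (Spec Γ(S, W)).Opens := ⟨(closure (Set.range k.base))ᶜ, isClosed_closure.isOpen_compl⟩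
  refine ⟨hW.fromSpec ''ᵁ V', ⟨η', hcl, rfl⟩, ?_⟩
  ext x
  simp only [Scheme.Hom.mem_preimage, TopologicalSpace.Opens.coe_bot, Set.mem_empty_iff_false,
    iff_false, SetLike.mem_coe]
  rintro ⟨v, hv, hvx⟩
  have hxW : x ∈ (f ⁻¹ᵁ W : Set ↑X) := by
    change f.base x ∈ (W : Set ↑S)
    rw [← hW.range_fromSpec, ← hvx]; exact ⟨v, rfl⟩
  rw [← hh] at hxW
  obtain ⟨r, rfl⟩ := hxW
  have e1 : f.base (h.base r) = hW.fromSpec.base (k.base r) := by
    rw [← Scheme.Hom.comp_apply, ← Scheme.Hom.comp_apply, hk]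
  rw [e1] at hvx
  have := hW.fromSpec.isOpenEmbedding.injective hvx
  apply hv
  rw [this]
  exact subset_closure ⟨r, rfl⟩

/-- A point whose closure is an irreducible component has no proper generalizations. -/
theorem eq_of_specializes_of_mem_irreducibleComponents {T : Type*} [TopologicalSpace T] [T0Space T]
    {η ξ : T} (hη : closure {η} ∈ irreducibleComponents T) (h : ξ ⤳ η) : ξ = η := by
  have h1 : closure {η} ⊆ closure {ξ} := by
    rw [← specializes_iff_closure_subset]; exact h
  have h2 : closure {ξ} ⊆ closure {η} := hη.2 isIrreducible_singleton.closure h1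
  have h3 : η ⤳ ξ := specializes_iff_closure_subset.mpr h2
  exact (h.antisymm h3).eq

open AlgebraicGeometry CategoryTheory in
/-- Let f : X → S be quasi-compact and let η ∈ S be a point whose closure is an irreducible component of
S (a maximal point of S). If η is not in the image of f, then η has an open neighbourhood V with
f⁻¹(V) empty. -/
theorem result {X S : Scheme.{u}} (f : X ⟶ S) [QuasiCompact f]
    (η : ↑S) (hη : closure {η} ∈ irreducibleComponents (↑S : Type u)) (hnot : η ∉ Set.range f.base) :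
    ∃ V : S.Opens, η ∈ V ∧ f ⁻¹ᵁ V = ⊥ := by
  apply exists_opens_of_forall_not_specializes
  intro x hx
  exact hnot ⟨x, eq_of_specializes_of_mem_irreducibleComponents hη hx⟩

end Groth.Agent.S9347
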