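import Groth.Statements.S9343
import Mathlib
import Groth.Agent.S9347

set_option autoImplicit false
universe u
open Dom

namespace Groth.Agent.S9343

open AlgebraicGeometry CategoryTheory in
/-- A quasi-compact dominant morphism hits every point all of whose generalizations in the image
coincide with it. -/
theorem mem_range_of_forall_specializes {X S : Scheme.{u}} (f : X ⟶ S) [QuasiCompact f]
    [IsDominant f] (ξ : ↑S) (h : ∀ x : ↑X, f.base x ⤳ ξ → f.base x = ξ) :
    ξ ∈ Set.range f.base := by
  by_contra hnot
  obtain ⟨V, hξV, hV⟩ := Groth.Agent.S9347.exists_opens_of_forall_not_specializes f ξ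
    (fun x hx => hnot ⟨x, h x hx⟩)
  obtain ⟨_, hmem, ⟨x, rfl⟩⟩ := (f.denseRange).inter_open_nonempty _ V.isOpen ⟨ξ, hξV⟩
  have : x ∈ f ⁻¹ᵁ V := hmem
  rw [hV] at this
  exact this

open AlgebraicGeometry CategoryTheory in
/-- Every point of a scheme is a specialization of a point whose closure is an irreducible
component. -/
theorem exists_maximal_point_specializes (T : Scheme.{u}) (t : ↑T) :
    ∃ ξ : ↑T, closure {ξ} ∈ irreducibleComponents (↑T : Type u) ∧ ξ ⤳ t := by
  have hirr : IsIrreducible (irreducibleComponent t) := isIrreducible_irreducibleComponent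
  have hgen := hirr.isGenericPoint_genericPoint isClosed_irreducibleComponent
  refine ⟨hirr.genericPoint, ?_, ?_⟩
  · rw [hgen.def]; exact irreducibleComponent_mem_irreducibleComponents t
  · exact hgen.specializes mem_irreducibleComponent

open AlgebraicGeometry CategoryTheory in
/-- The base change of a quasi-compact dominant morphism f : X → S along a morphism g : S' → S along
which generalizations lift is dominant. -/
theorem result {X S X' S' : Scheme.{u}} (f : X ⟶ S) [QuasiCompact f] [IsDominant f]
    (g : S' ⟶ S) (g' : X' ⟶ X) (f' : X' ⟶ S') (hsq : IsPullback g' f' f g) (hg : GeneralizingMap g.base) :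
    IsDominant f' := by
  have hqc : QuasiCompact f' := MorphismProperty.of_isPullback hsq (inferInstance : QuasiCompact f)
  constructor
  rw [denseRange_iff_closure_range, ← Set.univ_subset_iff]
  intro s' _
  obtain ⟨ξ', hξ', hspec⟩ := exists_maximal_point_specializes S' s'
  have hmem : g.base ξ' ∈ Set.range f.base := by
    apply mem_range_of_forall_specializes
    intro x hx
    obtain ⟨ζ', hζ', hgζ⟩ := hg hx
    have := Groth.Agent.S9347.eq_of_specializes_of_mem_irreducibleComponents hξ' hζ'
    rw [← hgζ, this]
  obtain ⟨x, hx⟩ := hmem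
  obtain ⟨p, hp1, hp2⟩ := Scheme.exists_preimage_of_isPullback hsq x ξ' hx
  exact hspec.mem_closed isClosed_closure (subset_closure ⟨p, hp2⟩)

end Groth.Agent.S9343
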