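import Groth.Statements.S9344
import Mathlib

set_option autoImplicit false
universe u
open Dom

namespace Groth.Agent.S9344

open AlgebraicGeometry CategoryTheory in
/-- The base change of a dominant morphism f : X → S along an open morphism g : S' → S is dominant. -/
theorem result {X S X' S' : Scheme.{u}} (f : X ⟶ S) [IsDominant f]
    (g : S' ⟶ S) (g' : X' ⟶ X) (f' : X' ⟶ S') (hsq : IsPullback g' f' f g) (hg : IsOpenMap g.base) :
    IsDominant f' := by
  constructor
  rw [denseRange_iff_closure_range, ← Set.univ_subset_iff]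
  intro s' _
  rw [mem_closure_iff]
  intro U' hU' hs'
  -- g(U') is a nonempty open of S
  have hopen : IsOpen (g.base '' U') := hg _ hU'
  have hne : (g.base '' U').Nonempty := ⟨g.base s', s', hs', rfl⟩
  obtain ⟨_, ⟨t, ht, rfl⟩, ⟨x, hx⟩⟩ := (f.denseRange).inter_open_nonempty _ hopen hne
  obtain ⟨p, hp1, hp2⟩ := Scheme.exists_preimage_of_isPullback hsq x t hx
  exact ⟨t, ht, p, hp2⟩

end Groth.Agent.S9344
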