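import Groth.Statements.S9345
import Mathlib
import Groth.Agent.S9343

set_option autoImplicit false
universe u
open Dom

namespace Groth.Agent.S9345

open AlgebraicGeometry CategoryTheory in
/-- For a morphism f : X → S whose source has only finitely many irreducible components, the image of f
is dense exactly when it contains the generic point of each irreducible component of S, and then S
too has finitely many. -/
theorem result {X S : Scheme.{u}} (f : X ⟶ S)
    (hX : (irreducibleComponents (↑X : Type u)).Finite) :
    (IsDominant f ↔ ∀ s : ↑S, closure {s} ∈ irreducibleComponents (↑S : Type u) → s ∈ Set.range f.base) ∧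
      (IsDominant f → (irreducibleComponents (↑S : Type u)).Finite) := by
  have hgen : ∀ Z : irreducibleComponents (↑X : Type u), ∃ x : ↑X, IsGenericPoint x Z.1 :=
    fun Z => QuasiSober.sober Z.2.1 (isClosed_of_mem_irreducibleComponents Z.1 Z.2)
  choose η hη using hgen
  have hfin : Finite (irreducibleComponents (↑X : Type u)) := hX.to_subtype
  -- key: under dominance every point is a specialization of some `f (η Z)`
  have key : IsDominant f → ∀ s : ↑S, ∃ Z : irreducibleComponents (↑X : Type u),
      f.base (η Z) ⤳ s := by
    intro hdom s
    set T : Set ↑S := ⋃ Z : irreducibleComponents (↑X : Type u), closure {f.base (η Z)} with hT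
    have hTc : IsClosed T := isClosed_iUnion_of_finite fun _ => isClosed_closure
    have hsub : Set.range f.base ⊆ T := by
      rintro _ ⟨x, rfl⟩
      have hZ := irreducibleComponent_mem_irreducibleComponents x
      have h1 : η ⟨_, hZ⟩ ⤳ x :=
        (hη ⟨_, hZ⟩).specializes mem_irreducibleComponent
      have h2 := h1.map f.base.hom.continuous
      exact Set.mem_iUnion.mpr ⟨⟨_, hZ⟩, specializes_iff_mem_closure.mp h2⟩
    have hs : s ∈ T := by
      have := (hTc.closure_subset_iff.mpr hsub)
      exact this (hdom.denseRange s)
    obtain ⟨Z, hsZ⟩ := Set.mem_iUnion.mp hs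
    exact ⟨Z, specializes_iff_mem_closure.mpr hsZ⟩
  refine ⟨⟨fun hdom s hs => ?_, fun h => ?_⟩, fun hdom => ?_⟩
  · obtain ⟨Z, hspec⟩ := key hdom s
    exact ⟨η Z, Groth.Agent.S9347.eq_of_specializes_of_mem_irreducibleComponents hs hspec⟩
  · constructor
    rw [denseRange_iff_closure_range, ← Set.univ_subset_iff]
    intro s _
    obtain ⟨ξ, hξ, hspec⟩ := Groth.Agent.S9343.exists_maximal_point_specializes S s
    exact hspec.mem_closed isClosed_closure (subset_closure (h ξ hξ))
  · apply (Set.finite_range (fun Z : irreducibleComponents (↑X : Type u) =>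
      closure {f.base (η Z)})).subset
    intro C hC
    obtain ⟨s, hs⟩ := QuasiSober.sober hC.1 (isClosed_of_mem_irreducibleComponents C hC)
    have hs' : closure {s} ∈ irreducibleComponents (↑S : Type u) := by rw [hs.def]; exact hC
    obtain ⟨Z, hspec⟩ := key hdom s
    have := Groth.Agent.S9347.eq_of_specializes_of_mem_irreducibleComponents hs' hspec
    exact ⟨Z, by simp only [this, hs.def]⟩

end Groth.Agent.S9345
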