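import Groth.Statements.S9356
import Mathlib

set_option autoImplicit false
universe u
open FibDim

namespace Groth.Agent.S9356

open AlgebraicGeometry CategoryTheory in
/-- Let f : X → S be locally of finite type and x ⤳ x' a nontrivial specialization of points of the
fibre X_s. Then dim_x(X_s) ≤ dim_{x'}(X_s) and dim O_{X_s,x} < dim O_{X_s,x'}. (The assertion on
transcendence degrees of residue fields is a separate statement.) -/
theorem result {X S : Scheme.{u}} (f : X ⟶ S) [LocallyOfFiniteType f] (s : S)
    (x x' : ↑(f.fiber s)) (hsp : x ⤳ x') (hne : x ≠ x') :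
    FlatMor.localDim ↑(f.fiber s) x ≤ FlatMor.localDim ↑(f.fiber s) x' ∧
      ringKrullDim ((f.fiber s).presheaf.stalk x) < ringKrullDim ((f.fiber s).presheaf.stalk x') := by
  classical
  constructor
  · unfold FlatMor.localDim
    apply le_iInf
    rintro ⟨U, hx'U⟩
    exact iInf_le_of_le ⟨U, hsp.mem_open U.2 hx'U⟩ le_rfl
  · haveI : LocallyOfFiniteType (f.fiberToSpecResidueField s) := by
      unfold Scheme.Hom.fiberToSpecResidueField
      exact MorphismProperty.pullback_snd _ _ inferInstance
    haveI : IsLocallyNoetherian (f.fiber s) :=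
      LocallyOfFiniteType.isLocallyNoetherian (f.fiberToSpecResidueField s)
    rw [AlgebraicGeometry.ringKrullDim_stalk_eq_coheight,
      AlgebraicGeometry.ringKrullDim_stalk_eq_coheight]
    have hlt : x' < x := by
      rw [lt_iff_le_not_ge]
      refine ⟨hsp, fun h => hne ?_⟩
      have h' : x' ⤳ x := h
      exact (hsp.antisymm h').eq
    have hfin : Order.coheight x < ⊤ := by
      have h1 : ringKrullDim ((f.fiber s).presheaf.stalk x) ≠ ⊤ := ringKrullDim_ne_top
      rw [AlgebraicGeometry.ringKrullDim_stalk_eq_coheight] at h1
      rw [lt_top_iff_ne_top]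
      intro h
      rw [h] at h1
      exact h1 rfl
    exact_mod_cast Order.coheight_strictAnti hlt hfin

end Groth.Agent.S9356
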