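import Groth.Statements.S9357
import Groth.Agent.Lib.FibCoh7_helper8
import Groth.Agent.Lib.FibCoh4_helper8
import Groth.Agent.Lib.RelDim2Old_helper8

set_option autoImplicit false
universe u
open FibDim

namespace Groth.Agent.S9357

open AlgebraicGeometry CategoryTheory in
/-- Suppose both f : X → Y and g : Y → Z are morphisms locally of finite type. When the relative
dimension of f is at most d and that of g is at most e, the composite g ∘ f has relative dimension
at most d + e. Moreover, when f is flat of relative dimension exactly d and g is of relative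
dimension exactly e, the composite g ∘ f is of relative dimension exactly d + e (every nonempty
fibre equidimensional of that dimension). -/
theorem result {X Y Z : Scheme.{u}} (f : X ⟶ Y) (g : Y ⟶ Z) [LocallyOfFiniteType f] [LocallyOfFiniteType g] (d e : ℕ) :
    ((∀ x : ↑X, FlatMor.fibreDimAt f x ≤ d) → (∀ y : ↑Y, FlatMor.fibreDimAt g y ≤ e) →
        ∀ x : ↑X, FlatMor.fibreDimAt (f ≫ g) x ≤ (d + e : ℕ)) ∧
      (Cyc.HasRelDim f d → Cyc.HasRelDim g e → Flat f → Cyc.HasRelDim (f ≫ g) (d + e)) := by
  haveI : LocallyOfFiniteType (f ≫ g) := inferInstance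
  constructor
  · intro hd he x
    refine (FibCohH8.fibreDimAt_comp f g x).1.trans ?_
    push_cast
    exact add_le_add (hd x) (he (f x))
  · intro hd he hfl
    apply FibCohH8.hasRelDim_of_forall_fibreDimAt
    intro x
    rw [(FibCohH8.fibreDimAt_comp f g x).2 (Flat.stalkMap f x)]
    have h1 : FlatMor.fibreDimAt f x = d :=
      RelDimLocH8.localDim_fiber_eq f (f x) d (hd (f x)) (f.asFiber x)
    have h2 : FlatMor.fibreDimAt g (f x) = e :=
      RelDimLocH8.localDim_fiber_eq g (g (f x)) e (he (g (f x))) (g.asFiber (f x))
    rw [h1, h2]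
    push_cast
    rfl

end Groth.Agent.S9357
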