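import Groth.Statements.S9361
import Mathlib

set_option autoImplicit false
universe u
open SchImage

namespace Groth.Agent.S9361

open AlgebraicGeometry CategoryTheory in
/-- Let f : X → Y be separated, V ⊆ Y a retrocompact open and s : V → X a section of f over V. If Y' ⊆ X
is the scheme-theoretic image of s, then Y' → Y is an isomorphism over V. -/
theorem result {X Y : Scheme.{u}} (f : X ⟶ Y) [IsSeparated f] (V : Y.Opens) [QuasiCompact V.ι]
    (s : (↑V : Scheme.{u}) ⟶ X) (hs : s ≫ f = V.ι) :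
    IsIso ((s.imageι ≫ f) ∣_ V) := by
  -- the section restricted to `f⁻¹ V`
  have hrange : Set.range s ⊆ Set.range (f ⁻¹ᵁ V).ι := by
    rintro _ ⟨v, rfl⟩
    rw [Scheme.Opens.range_ι]
    show f (s v) ∈ V
    rw [← Scheme.Hom.comp_apply, hs]
    exact v.2
  obtain ⟨s', hs'⟩ : ∃ s' : (V : Scheme.{u}) ⟶ (f ⁻¹ᵁ V : Scheme.{u}), s' ≫ (f ⁻¹ᵁ V).ι = s :=
    ⟨IsOpenImmersion.lift (f ⁻¹ᵁ V).ι s hrange, IsOpenImmersion.lift_fac _ _ _⟩
  have hs'id : s' ≫ (f ∣_ V) = 𝟙 _ := by
    rw [← cancel_mono V.ι, Category.assoc, morphismRestrict_ι, ← Category.assoc, hs', hs,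
      Category.id_comp]
  haveI : IsClosedImmersion (s' ≫ (f ∣_ V)) := by rw [hs'id]; infer_instance
  haveI : IsClosedImmersion s' := IsClosedImmersion.of_comp s' (f ∣_ V)
  haveI : QuasiCompact (s ≫ f) := by rw [hs]; infer_instance
  haveI : QuasiCompact s := QuasiCompact.of_comp s f
  haveI : IsImmersion s := by rw [← hs']; infer_instance
  -- the open immersion `V ⟶ image`
  obtain ⟨t, ht⟩ : ∃ t : (V : Scheme.{u}) ⟶ s.image, t = s.toImage := ⟨_, rfl⟩
  haveI : IsOpenImmersion t := by rw [ht]; infer_instance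
  have htι : t ≫ s.imageι = s := by rw [ht]; exact s.toImage_imageι
  obtain ⟨g, hg⟩ : ∃ g : s.image ⟶ Y, g = s.imageι ≫ f := ⟨_, rfl⟩
  have htg : t ≫ g = V.ι := by rw [hg, ← Category.assoc, htι, hs]
  have hrange_t : Set.range t = ((g ⁻¹ᵁ V : s.image.Opens) : Set s.image) := by
    apply Set.Subset.antisymm
    · rintro _ ⟨v, rfl⟩
      show g (t v) ∈ V
      rw [← Scheme.Hom.comp_apply, htg]
      exact v.2
    · intro z hz
      have hz' : f (s.imageι z) ∈ V := by
        have : g z ∈ V := hz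
        rw [hg, Scheme.Hom.comp_apply] at this
        exact this
      have h1 : s.imageι z ∈ closure (Set.range s) := by
        have h2 : s.imageι z ∈ Set.range s.imageι := ⟨z, rfl⟩
        rw [Scheme.Hom.imageι, Scheme.IdealSheafData.range_subschemeι,
          Scheme.Hom.support_ker] at h2
        exact h2
      -- `range s` is closed in `f⁻¹ V`
      have h3 : IsClosed (Set.range s') := s'.isClosedEmbedding.isClosed_range
      obtain ⟨C, hC, hCeq⟩ := isClosed_induced_iff.mp h3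
      have h4 : Set.range s ⊆ C := by
        rintro _ ⟨v, rfl⟩
        have h5 : s' v ∈ Set.range s' := ⟨v, rfl⟩
        rw [← hCeq] at h5
        have h7 : s v = (f ⁻¹ᵁ V).ι (s' v) := by rw [← Scheme.Hom.comp_apply, hs']
        rw [h7]
        exact h5
      have h5 : s.imageι z ∈ C := (closure_minimal h4 hC) h1
      have h6 : (⟨s.imageι z, hz'⟩ : (f ⁻¹ᵁ V : Scheme.{u})) ∈ Set.range s' := by
        rw [← hCeq]
        exact h5
      obtain ⟨v, hv⟩ := h6
      refine ⟨v, ?_⟩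
      apply s.imageι.isClosedEmbedding.injective
      have h8 : s.imageι (t v) = s v := by rw [← Scheme.Hom.comp_apply, htι]
      have h9 : s v = (f ⁻¹ᵁ V).ι (s' v) := by rw [← Scheme.Hom.comp_apply, hs']
      rw [h8, h9, hv]
      rfl
  have hrange_t' : Set.range t ⊆ Set.range (g ⁻¹ᵁ V).ι := by
    rw [Scheme.Opens.range_ι, hrange_t]
  obtain ⟨t', ht'⟩ : ∃ t' : (V : Scheme.{u}) ⟶ (g ⁻¹ᵁ V : Scheme.{u}), t' ≫ (g ⁻¹ᵁ V).ι = t :=
    ⟨IsOpenImmersion.lift (g ⁻¹ᵁ V).ι t hrange_t', IsOpenImmersion.lift_fac _ _ _⟩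
  haveI : IsOpenImmersion (t' ≫ (g ⁻¹ᵁ V).ι) := by rw [ht']; infer_instance
  haveI : IsOpenImmersion t' := IsOpenImmersion.of_comp t' (g ⁻¹ᵁ V).ι
  have ht'surj : t'.opensRange = ⊤ := by
    rw [eq_top_iff]
    intro z _
    have hz : (g ⁻¹ᵁ V).ι z ∈ Set.range t := by
      rw [hrange_t]
      exact z.2
    obtain ⟨v, hv⟩ := hz
    refine ⟨v, ?_⟩
    apply (g ⁻¹ᵁ V).ι.isOpenEmbedding.injective
    rw [← Scheme.Hom.comp_apply, ht', hv]
  haveI : IsIso t' := isIso_of_isOpenImmersion_of_opensRange_eq_top t' ht'surj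
  have hfin : t' ≫ (g ∣_ V) = 𝟙 _ := by
    rw [← cancel_mono V.ι, Category.assoc, morphismRestrict_ι, ← Category.assoc, ht', htg,
      Category.id_comp]
  have hgV : g ∣_ V = inv t' := by
    rw [← cancel_epi t', hfin, IsIso.hom_inv_id]
  have hgiso : IsIso (g ∣_ V) := by rw [hgV]; infer_instance
  have hgoal : IsIso ((s.imageι ≫ f) ∣_ V) := by
    rw [← hg]
    exact hgiso
  exact hgoal

end Groth.Agent.S9361
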