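import Groth.Statements.S9362
import Mathlib
import Groth.Agent.Lib.BMod1_helper6
import Groth.Agent.Lib.SubExt_helper9

set_option autoImplicit false
universe u
open QCohSub

namespace Groth.Agent.S9362

open AlgebraicGeometry CategoryTheory in
/-- Let F be a quasi-coherent O_X-module and G ⊆ F an O_X-submodule. There is a quasi-coherent submodule
G' ⊆ G such that Hom(H, G') → Hom(H, G) is bijective for every quasi-coherent O_X-module H; in
particular G' is the largest quasi-coherent submodule of F contained in G (it is unique up to unique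
isomorphism over G). -/
theorem result (X : Scheme.{u}) (F G : X.Modules) (hF : Coh.IsQCoh F) (j : G ⟶ F) [Mono j] :
    ∃ (G' : X.Modules) (k : G' ⟶ G), Coh.IsQCoh G' ∧ Mono k ∧
      ∀ H : X.Modules, Coh.IsQCoh H → Function.Bijective (fun φ : H ⟶ G' => φ ≫ k) := by
  classical
  haveI : F.IsQuasicoherent := hF
  -- key lifting lemma: a morphism whose sections land in the sectionwise range of a mono factors
  have lift : ∀ {K H : X.Modules} (k : K ⟶ F) [Mono k] (φ : H ⟶ F),
      (∀ (W : X.Opens) (s : Γ(H, W)), ∃ t : Γ(K, W), (k.app W).hom t = (φ.app W).hom s) →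
      ∃ ν : H ⟶ K, ν ≫ k = φ := by
    intro K H k _ φ h
    have hz : φ ≫ Limits.cokernel.π k = 0 := by
      apply Scheme.Modules.hom_ext
      intro W
      ext s
      obtain ⟨t, ht⟩ := h W s
      rw [Scheme.Modules.Hom.comp_app, Scheme.Modules.Hom.zero_app]
      show ((Limits.cokernel.π k).app W).hom ((φ.app W).hom s) = 0
      rw [← ht]
      have h0 : k ≫ Limits.cokernel.π k = 0 := Limits.cokernel.condition k
      have h1 : ((k ≫ Limits.cokernel.π k).app W).hom t = 0 := by
        rw [h0]; rfl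
      exact h1
    exact ⟨Abelian.monoLift k φ hz, Abelian.monoLift_comp k φ hz⟩
  -- the small index type: sectionwise ranges of quasi-coherent subobjects of `F` contained in `G`
  let Good : (∀ W : X.Opens, Set Γ(F, W)) → Prop := fun T =>
    ∃ (K : X.Modules) (k : K ⟶ F) (k' : K ⟶ G), Mono k ∧ K.IsQuasicoherent ∧ k' ≫ j = k ∧
      ∀ W, T W = Set.range (k.app W).hom
  let I : Type u := {T : ∀ W : X.Opens, Set Γ(F, W) // Good T}
  let K : I → X.Modules := fun i => i.2.choose
  let k : ∀ i : I, K i ⟶ F := fun i => i.2.choose_spec.choose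
  let k' : ∀ i : I, K i ⟶ G := fun i => i.2.choose_spec.choose_spec.choose
  have hk : ∀ i : I, Mono (k i) ∧ (K i).IsQuasicoherent ∧ k' i ≫ j = k i ∧
      ∀ W, i.1 W = Set.range ((k i).app W).hom := fun i => i.2.choose_spec.choose_spec.choose_spec
  haveI : ∀ i, (K i).IsQuasicoherent := fun i => (hk i).2.1
  haveI : (∐ K).IsQuasicoherent := Groth.Agent.Lib.BModH6.isQuasicoherent_sigma K
  let σ' : ∐ K ⟶ G := Limits.Sigma.desc k'
  let σ : ∐ K ⟶ F := σ' ≫ j
  have himg : ∀ {A B : X.Modules} [A.IsQuasicoherent] [B.IsQuasicoherent] (f : A ⟶ B),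
      (Limits.image f).IsQuasicoherent := by
    intro A B _ _ f
    haveI h1 : (Abelian.coimage f).IsQuasicoherent := SubExt.isQuasicoherent_coimage f
    haveI h2 : (Abelian.image f).IsQuasicoherent :=
      (SheafOfModules.isQuasicoherent X.ringCatSheaf).prop_of_iso (Abelian.coimageIsoImage f) h1
    exact (SheafOfModules.isQuasicoherent X.ringCatSheaf).prop_of_iso (Abelian.imageIsoImage f) h2
  let MF : Limits.MonoFactorisation σ := ⟨G, j, σ', rfl⟩
  let κ : Limits.image σ ⟶ G := Limits.image.lift MF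
  have hκ : κ ≫ j = Limits.image.ι σ := Limits.image.lift_fac MF
  haveI : Mono (κ ≫ j) := by rw [hκ]; infer_instance
  haveI : Mono κ := mono_of_mono κ j
  refine ⟨Limits.image σ, κ, himg σ, inferInstance, fun H hH => ⟨fun a b hab => ?_, fun ψ => ?_⟩⟩
  · exact (cancel_mono κ).mp hab
  · haveI : H.IsQuasicoherent := hH
    -- the image of `ψ ≫ j`
    let N := Limits.image (ψ ≫ j)
    haveI : N.IsQuasicoherent := himg (ψ ≫ j)
    let ιN : N ⟶ F := Limits.image.ι (ψ ≫ j)
    let MFN : Limits.MonoFactorisation (ψ ≫ j) := ⟨G, j, ψ, rfl⟩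
    let i : I := ⟨fun W => Set.range (ιN.app W).hom,
      N, ιN, Limits.image.lift MFN, inferInstance, inferInstance, Limits.image.lift_fac MFN,
      fun W => rfl⟩
    haveI : Mono (k i) := (hk i).1
    obtain ⟨ν, hν⟩ := lift (k i) ιN (fun W s => by
      have h1 : (ιN.app W).hom s ∈ Set.range ((k i).app W).hom := by
        rw [← (hk i).2.2.2 W]
        exact ⟨s, rfl⟩
      exact h1)
    refine ⟨Limits.factorThruImage (ψ ≫ j) ≫ ν ≫ Limits.Sigma.ι K i ≫ Limits.factorThruImage σ, ?_⟩
    apply (cancel_mono j).mp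
    show (Limits.factorThruImage (ψ ≫ j) ≫ ν ≫ Limits.Sigma.ι K i ≫ Limits.factorThruImage σ) ≫ κ ≫ j
      = ψ ≫ j
    rw [hκ]
    simp only [Category.assoc, Limits.image.fac]
    show Limits.factorThruImage (ψ ≫ j) ≫ ν ≫ Limits.Sigma.ι K i ≫ Limits.Sigma.desc k' ≫ j = ψ ≫ j
    rw [Limits.Sigma.ι_desc_assoc, (hk i).2.2.1, hν]
    exact Limits.image.fac (ψ ≫ j)

end Groth.Agent.S9362
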