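import Groth.Statements.S9397
import Mathlib
import Groth.Agent.Lib.Japanese3_helper9

set_option autoImplicit false
universe u
open CAlg

namespace Groth.Agent.S9397

/-- A ring R is universally Japanese provided that each R-algebra of finite type which is a domain is
N-1. -/
theorem result (R : Type u) [CommRing R]
    (h : ∀ (S : Type u) [CommRing S] [IsDomain S] [Algebra R S], Algebra.FiniteType R S → CAlg.IsN1 S) :
    CAlg.IsUniversallyJapanese R := by
  exact Groth.Agent.Lib.Japanese.isUniversallyJapanese_of_forall_isN1 R h

end Groth.Agent.S9397
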