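import Groth.Statements.S9400
import Mathlib
import Groth.Agent.Lib.Japanese4_helper9

set_option autoImplicit false
universe u
open CAlg

namespace Groth.Agent.S9400

/-- Being a Nagata ring can be checked on a finite cover of Spec R by principal opens. -/
theorem result (R : Type u) [CommRing R]
    {ι : Type u} [Finite ι] (f : ι → R) (hf : Ideal.span (Set.range f) = ⊤)
    (h : ∀ i, CAlg.IsNagata (Localization.Away (f i))) : CAlg.IsNagata R := by
  exact Groth.Agent.Lib.Japanese.isNagata_of_span_eq_top R f hf
    (fun i => Localization.Away (f i)) h

end Groth.Agent.S9400
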