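import Groth.Statements.S9402
import Mathlib.Tactic

set_option autoImplicit false
universe u
open CAlg

namespace Groth.Agent.S9402

/-- Let R → S be a ring map with S a nonzero algebra over the rationals and f ∈ S such that some
S-linear form on the module of differentials of S over R sends df to 1 (that is, df spans a free
direct summand of rank one). Then f is not nilpotent. (The published statement asks only that S·df
be a direct summand of the module of differentials, which also holds for the rationals with a
square-zero element adjoined and for the zero ring, where f is nilpotent; this row asks for an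
S-linear form on the differentials sending df to 1, as the published proof uses, and S nonzero.) -/
theorem result (R : Type u) [CommRing R] (S : Type u)
    [CommRing S] [Nontrivial S] [Algebra R S] [Algebra ℚ S] (f : S)
    (θ : Ω[S⁄R] →ₗ[S] S) (hθ : θ (KaehlerDifferential.D R S f) = 1) : ¬ IsNilpotent f := by
  rintro ⟨n, hn⟩
  -- take the minimal exponent
  classical
  have hex : ∃ n : ℕ, f ^ n = 0 := ⟨n, hn⟩
  let m := Nat.find hex
  have hm : f ^ m = 0 := Nat.find_spec hex
  have hm0 : m ≠ 0 := by
    intro h0
    rw [h0, pow_zero] at hm
    exact one_ne_zero hm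
  obtain ⟨k, hk⟩ : ∃ k, m = k + 1 := ⟨m - 1, by omega⟩
  have hD : KaehlerDifferential.D R S (f ^ m) = 0 := by rw [hm, map_zero]
  rw [hk, Derivation.leibniz_pow, Nat.add_sub_cancel] at hD
  have h2 := congrArg θ hD
  rw [map_zero, map_nsmul, map_smul, hθ, smul_eq_mul, mul_one] at h2
  -- (k+1) • f^k = 0 and k+1 invertible
  have h3 : f ^ k = 0 := by
    have hq : ((k + 1 : ℕ) : S) * f ^ k = 0 := by rw [← nsmul_eq_mul]; exact h2
    have hu : IsUnit ((k + 1 : ℕ) : S) := by
      have : ((k + 1 : ℕ) : S) = algebraMap ℚ S ((k + 1 : ℕ) : ℚ) := by simp
      rw [this]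
      exact (IsUnit.mk0 _ (by exact_mod_cast Nat.succ_ne_zero k)).map _
    exact (hu.mul_right_eq_zero).mp hq
  have := Nat.find_min hex (m := k) (by omega)
  exact this h3

end Groth.Agent.S9402
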