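import Groth.Statements.S9403
import Mathlib.Tactic
import Mathlib.RingTheory.Nakayama
import Mathlib.RingTheory.Kaehler.Basic

set_option autoImplicit false
universe u
open CAlg

namespace Groth.Agent.S9403

/-- Let R → S be a ring map with S a Noetherian local ring which is an algebra over the rationals, and f
∈ S such that some S-linear form on the module of differentials of S over R sends df to 1 (df spans
a free direct summand of rank one). Then f is a nonzerodivisor of S. (The published statement asks
only that S·df be a direct summand of the module of differentials, which also holds for the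
rationals with a square-zero element adjoined, where f is a zero divisor; this row asks for an
S-linear form on the differentials sending df to 1, as the published proof uses.) -/
theorem result (R : Type u) [CommRing R]
    (S : Type u) [CommRing S] [IsLocalRing S] [IsNoetherianRing S] [Algebra R S] [Algebra ℚ S]
    (f : S) (θ : Ω[S⁄R] →ₗ[S] S) (hθ : θ (KaehlerDifferential.D R S f) = 1) : f ∈ nonZeroDivisors S := by
  classical
  -- the derivation `D = θ ∘ d`
  let D : Derivation R S S := θ.compDer (KaehlerDifferential.D R S)
  have hD : D f = 1 := hθ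
  by_cases hfu : IsUnit f
  · exact hfu.mem_nonZeroDivisors
  have hfm : f ∈ IsLocalRing.maximalIdeal S := (IsLocalRing.mem_maximalIdeal f).2 hfu
  -- `J` = the `f`-power torsion ideal
  let J : Ideal S :=
    { carrier := {g | ∃ n : ℕ, g * f ^ n = 0}
      add_mem' := by
        rintro a b ⟨n, hn⟩ ⟨m, hm⟩
        refine ⟨n + m, ?_⟩
        rw [add_mul, pow_add, ← mul_assoc, hn, zero_mul, zero_add, mul_comm (f ^ n), ← mul_assoc, hm,
          zero_mul]
      zero_mem' := ⟨0, by simp⟩
      smul_mem' := by
        rintro c a ⟨n, hn⟩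
        exact ⟨n, by rw [smul_eq_mul, mul_assoc, hn, mul_zero]⟩ }
  have hJmem : ∀ g, g ∈ J ↔ ∃ n : ℕ, g * f ^ n = 0 := fun g => Iff.rfl
  have hDJ : ∀ g n, g * f ^ n = 0 → D g * f ^ (n + 1) = 0 := by
    intro g n hg
    have h1 : D (g * f ^ n) = 0 := by rw [hg, map_zero]
    rw [Derivation.leibniz, Derivation.leibniz_pow, hD] at h1
    simp only [smul_eq_mul, nsmul_eq_mul, mul_one] at h1
    -- g * (n * f^(n-1)) + f^n * D g = 0
    have h2 : (g * (n * f ^ (n - 1)) + f ^ n * D g) * f = 0 := by rw [h1, zero_mul]
    have h3 : g * (n * f ^ (n - 1)) * f = n * (g * f ^ n) := by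
      rcases n with _ | n
      · simp
      · simp only [Nat.add_sub_cancel]; ring
    rw [add_mul, h3, hg, mul_zero, zero_add] at h2
    rw [pow_succ, ← mul_assoc, mul_comm (D g)]; exact h2
  have key : ∀ n : ℕ, ∀ g : S, g * f ^ n = 0 → g ∈ Ideal.span {f} • J := by
    intro n
    induction n with
    | zero => intro g hg; simp only [pow_zero, mul_one] at hg; rw [hg]; exact Submodule.zero_mem _
    | succ n ih =>
      intro g hg
      have hnu : IsUnit ((n + 1 : ℕ) : S) := by
        have : IsUnit ((n + 1 : ℕ) : ℚ) := by
          rw [isUnit_iff_ne_zero]; exact_mod_cast Nat.succ_ne_zero n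
        have := this.map (algebraMap ℚ S)
        rwa [map_natCast] at this
      obtain ⟨u, hu⟩ := hnu
      have h1 : D (g * f ^ (n + 1)) = 0 := by rw [hg, map_zero]
      rw [Derivation.leibniz, Derivation.leibniz_pow, hD] at h1
      simp only [smul_eq_mul, nsmul_eq_mul, mul_one, Nat.add_sub_cancel] at h1
      -- g * ((n+1) * f^n) + f^(n+1) * D g = 0
      have h2 : (g + ↑u⁻¹ * D g * f) * f ^ n = 0 := by
        have : (u : S) * ((g + ↑u⁻¹ * D g * f) * f ^ n) = 0 := by
          have e : (u : S) * ((g + ↑u⁻¹ * D g * f) * f ^ n)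
              = g * (u * f ^ n) + (u * ↑u⁻¹) * (f ^ (n + 1) * D g) := by ring
          rw [e, Units.mul_inv, one_mul, hu]; exact h1
        exact (Units.mul_right_eq_zero u).1 this
      have h3 := ih _ h2
      have h4 : ↑u⁻¹ * D g * f ∈ Ideal.span {f} • J := by
        rw [mul_comm]
        exact Submodule.smul_mem_smul (Ideal.mem_span_singleton_self f)
          (J.mul_mem_left _ ⟨n + 1 + 1, hDJ g (n + 1) hg⟩)
      have := Submodule.sub_mem _ h3 h4
      simpa using this
  have hJle : J ≤ Ideal.span {f} • J := by
    rintro g ⟨n, hn⟩; exact key n g hn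
  have hJbot : J = ⊥ := by
    refine Submodule.eq_bot_of_le_smul_of_le_jacobson_bot (Ideal.span {f}) J
      (IsNoetherian.noetherian J) hJle ?_
    rw [Ideal.span_singleton_le_iff_mem]
    exact (IsLocalRing.maximalIdeal_le_jacobson ⊥) hfm
  rw [mem_nonZeroDivisors_iff]
  have hz : ∀ g, g * f = 0 → g = 0 := by
    intro g hg
    have : g ∈ J := ⟨1, by rwa [pow_one]⟩
    rw [hJbot] at this; exact this
  refine ⟨fun g hg => hz g (by rwa [mul_comm]), fun g hg => hz g hg⟩

end Groth.Agent.S9403
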