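import Groth.Statements.S9412
import Mathlib

set_option autoImplicit false
universe u
open EGA4

namespace Groth.Agent.S9412

open scoped TensorProduct

theorem normal_of_isLocalization {R : Type u} [CommRing R] (M : Submonoid R) (R' : Type u)
    [CommRing R'] [Algebra R R'] [IsLocalization M R'] (h : EGA4.IsNormalRing R) :
    EGA4.IsNormalRing R' := by
  intro q hq
  haveI hp : (q.comap (algebraMap R R')).IsPrime := inferInstance
  haveI : IsLocalization.AtPrime (Localization.AtPrime q) (q.comap (algebraMap R R')) :=
    IsLocalization.isLocalization_isLocalization_atPrime_isLocalization M (Localization.AtPrime q) q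
  let e : Localization.AtPrime (q.comap (algebraMap R R')) ≃ₐ[R] Localization.AtPrime q :=
    IsLocalization.algEquiv (q.comap (algebraMap R R')).primeCompl _ _
  obtain ⟨hdom, hic⟩ := h (q.comap (algebraMap R R'))
  exact ⟨e.symm.injective.isDomain e.symm, IsIntegrallyClosed.of_equiv e.toRingEquiv⟩


/-- A localization of a geometrically normal algebra over a field k is geometrically normal over k. -/
theorem result (k : Type u) [Field k] (A : Type u) [CommRing A]
    [Algebra k A] (M : Submonoid A) (B : Type u) [CommRing B] [Algebra A B] [IsLocalization M B]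
    [Algebra k B] [IsScalarTower k A B] (h : EGA4.IsGeomNormal k A) :
    EGA4.IsGeomNormal k B := by
  intro k' _ _ hfin
  have hA := h k' hfin
  let φ : k' ⊗[k] A →ₐ[k'] k' ⊗[k] B :=
    Algebra.TensorProduct.map (AlgHom.id k' k') (IsScalarTower.toAlgHom k A B)
  letI : Algebra (k' ⊗[k] A) (k' ⊗[k] B) := φ.toRingHom.toAlgebra
  haveI : IsScalarTower k' (k' ⊗[k] A) (k' ⊗[k] B) :=
    IsScalarTower.of_algebraMap_eq (fun x => (φ.commutes x).symm)
  have H : (algebraMap (k' ⊗[k] A) (k' ⊗[k] B)).comp
      Algebra.TensorProduct.includeRight.toRingHom =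
      Algebra.TensorProduct.includeRight.toRingHom.comp (algebraMap A B) := by
    ext a; simp [RingHom.algebraMap_toAlgebra, φ]
  haveI := IsLocalization.tensorProduct_tensorProduct_right k k' M B H
  exact normal_of_isLocalization
    (M.map (Algebra.TensorProduct.includeRight (R := k) (A := k'))) (k' ⊗[k] B) hA

end Groth.Agent.S9412
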