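import Groth.Statements.S9425
import Mathlib

set_option autoImplicit false
universe u
open CAlg

namespace Groth.Agent.S9425

/-- A directed colimit of formally étale R-algebras is formally étale over R. The colimit is encoded by
compatible R-algebra maps S_i → S which are jointly surjective and whose kernels die further along
the system. -/
theorem result {ι : Type u} [Preorder ι] [IsDirected ι (· ≤ ·)] [Nonempty ι]
    (R : Type u) [CommRing R] (G : ι → Type u) [∀ i, CommRing (G i)] [∀ i, Algebra R (G i)]
    (f : ∀ i j, i ≤ j → (G i →ₐ[R] G j)) (S : Type u) [CommRing S] [Algebra R S]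
    (g : ∀ i, G i →ₐ[R] S) (hg : ∀ i j (h : i ≤ j), (g j).comp (f i j h) = g i)
    (hsurj : ∀ s : S, ∃ i, ∃ x : G i, g i x = s)
    (hker : ∀ i (x : G i), g i x = 0 → ∃ j, ∃ h : i ≤ j, f i j h x = 0)
    (h : ∀ i, Algebra.FormallyEtale R (G i)) : Algebra.FormallyEtale R S := by
  rw [Algebra.FormallyEtale.iff_comp_bijective]
  intro B _ _ I hI
  constructor
  · intro v v' hvv'
    apply AlgHom.ext; intro s
    obtain ⟨i, x, rfl⟩ := hsurj s
    have h1 : (Ideal.Quotient.mkₐ R I).comp (v.comp (g i)) =
        (Ideal.Quotient.mkₐ R I).comp (v'.comp (g i)) := by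
      rw [← AlgHom.comp_assoc, ← AlgHom.comp_assoc]
      exact congrArg (fun w => w.comp (g i)) hvv'
    have h2 := (Algebra.FormallyEtale.comp_bijective R (G i) I hI).1 h1
    exact AlgHom.congr_fun h2 x
  · intro u
    have hw : ∀ i, ∃ w : G i →ₐ[R] B, (Ideal.Quotient.mkₐ R I).comp w = u.comp (g i) := fun i =>
      (Algebra.FormallyEtale.comp_bijective R (G i) I hI).2 _
    choose w hw using hw
    have hwf : ∀ i j (hij : i ≤ j), (w j).comp (f i j hij) = w i := by
      intro i j hij
      apply (Algebra.FormallyEtale.comp_bijective R (G i) I hI).1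
      show (Ideal.Quotient.mkₐ R I).comp ((w j).comp (f i j hij)) =
        (Ideal.Quotient.mkₐ R I).comp (w i)
      rw [← AlgHom.comp_assoc, hw, hw, AlgHom.comp_assoc, hg]
    have hwf' : ∀ i j (hij : i ≤ j) (x : G i), w j (f i j hij x) = w i x := fun i j hij x =>
      AlgHom.congr_fun (hwf i j hij) x
    have hgf' : ∀ i j (hij : i ≤ j) (x : G i), g j (f i j hij x) = g i x := fun i j hij x =>
      AlgHom.congr_fun (hg i j hij) x
    have hwd : ∀ i j (x : G i) (y : G j), g i x = g j y → w i x = w j y := by
      intro i j x y hxy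
      obtain ⟨k, hik, hjk⟩ := directed_of (· ≤ ·) i j
      have h0 : g k (f i k hik x - f j k hjk y) = 0 := by
        rw [map_sub, hgf', hgf', hxy, sub_self]
      obtain ⟨l, hkl, hl⟩ := hker k _ h0
      rw [map_sub, sub_eq_zero] at hl
      rw [← hwf' i k hik, ← hwf' j k hjk, ← hwf' k l hkl, ← hwf' k l hkl (f j k hjk y), hl]
    choose ix xs hxs using hsurj
    have hv : ∀ i (x : G i), w (ix (g i x)) (xs (g i x)) = w i x := fun i x =>
      hwd _ _ _ _ (hxs _)
    let v : S →ₐ[R] B :=
      { toFun := fun s => w (ix s) (xs s)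
        map_one' := by
          have := hv (Classical.arbitrary ι) 1
          rw [map_one, map_one] at this
          exact this
        map_mul' := fun s t => by
          obtain ⟨k, hik, hjk⟩ := directed_of (· ≤ ·) (ix s) (ix t)
          have h1 : g (ix (s * t)) (xs (s * t)) =
              g k (f _ k hik (xs s) * f _ k hjk (xs t)) := by
            rw [hxs, map_mul, hgf', hgf', hxs, hxs]
          show w (ix (s * t)) (xs (s * t)) = w (ix s) (xs s) * w (ix t) (xs t)
          rw [hwd _ _ _ _ h1, map_mul, hwf', hwf']
        map_zero' := by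
          have := hv (Classical.arbitrary ι) 0
          rw [map_zero, map_zero] at this
          exact this
        map_add' := fun s t => by
          obtain ⟨k, hik, hjk⟩ := directed_of (· ≤ ·) (ix s) (ix t)
          have h1 : g (ix (s + t)) (xs (s + t)) =
              g k (f _ k hik (xs s) + f _ k hjk (xs t)) := by
            rw [hxs, map_add, hgf', hgf', hxs, hxs]
          show w (ix (s + t)) (xs (s + t)) = w (ix s) (xs s) + w (ix t) (xs t)
          rw [hwd _ _ _ _ h1, map_add, hwf', hwf']
        commutes' := fun r => by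
          have := hv (Classical.arbitrary ι) (algebraMap R _ r)
          rw [AlgHom.commutes, AlgHom.commutes] at this
          exact this }
    refine ⟨v, ?_⟩
    apply AlgHom.ext; intro s
    have := AlgHom.congr_fun (hw (ix s)) (xs s)
    simp only [AlgHom.comp_apply] at this
    show Ideal.Quotient.mkₐ R I (w (ix s) (xs s)) = u s
    rw [this, hxs]

end Groth.Agent.S9425
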