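import Groth.Statements.S9431
import Mathlib
import Groth.Agent.Lib.GeomRedSep_helper9

set_option autoImplicit false
universe u
open CAlg

open scoped IntermediateField.algebraAdjoinAdjoin
namespace Groth.Agent.S9431

/-- For a separable (geometrically reduced) field extension K/k, every finite subset of K lies in a
k-subalgebra of K which is smooth over k; in particular K is a filtered colimit of smooth
k-algebras. -/
theorem result (k : Type u) [Field k]
    (K : Type u) [Field K] [Algebra k K] [Algebra.IsGeometricallyReduced k K] (E : Finset K) :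
    ∃ A : Subalgebra k K, (↑E : Set K) ⊆ (A : Set K) ∧ Algebra.Smooth k A := by
  classical
  let L := IntermediateField.adjoin k (E : Set K)
  let B := Algebra.adjoin k (E : Set K)
  haveI : Algebra.FiniteType k B := Algebra.FiniteType.adjoin_of_finite E.finite_toSet
  haveI : Algebra.FinitePresentation k B :=
    Algebra.FinitePresentation.of_finiteType.mp inferInstance
  haveI : Algebra.EssFiniteType k L :=
    IntermediateField.essFiniteType_iff.mpr (IntermediateField.fg_adjoin_finset E)
  haveI : Algebra.IsGeometricallyReduced k L :=
    Algebra.IsGeometricallyReduced.of_injective L.val L.val.injective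
  haveI hL : Algebra.FormallySmooth k L :=
    Groth.Agent.Lib.GeomRedSep.formallySmooth_of_isGeometricallyReduced k L
  haveI : (⊥ : Ideal B).IsPrime := Ideal.isPrime_bot
  haveI : IsFractionRing B (Localization.AtPrime (⊥ : Ideal B)) := by
    simpa [Ideal.primeCompl_bot] using Localization.isLocalization (M := (⊥ : Ideal B).primeCompl)
  let e : L ≃ₐ[k] Localization.AtPrime (⊥ : Ideal B) :=
    (IsLocalization.algEquiv (nonZeroDivisors B) L (Localization.AtPrime (⊥ : Ideal B))).restrictScalars k
  haveI : Algebra.IsSmoothAt k (⊥ : Ideal B) := Algebra.FormallySmooth.of_equiv e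
  obtain ⟨f, hf, hsm⟩ := Algebra.IsSmoothAt.exists_notMem_smooth (R := k) (⊥ : Ideal B)
  have hf0 : f ≠ 0 := fun h => hf (by simp [h])
  have hfK : (f : K) ≠ 0 := fun h => hf0 (Subtype.ext h)
  let φ : Localization.Away f →ₐ[k] K :=
    IsLocalization.liftAlgHom (M := Submonoid.powers f) (f := B.val) (by
      rintro ⟨y, n, rfl⟩
      simpa using (isUnit_iff_ne_zero.mpr hfK).pow n)
  have hφ : ∀ b : B, φ (algebraMap B (Localization.Away f) b) = (b : K) := fun b => by
    simp [φ]
  have hinj : Function.Injective φ := by
    rw [injective_iff_map_eq_zero]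
    intro x hx
    obtain ⟨b, s, rfl⟩ := IsLocalization.exists_mk'_eq (Submonoid.powers f) x
    have h1 : φ (IsLocalization.mk' (Localization.Away f) b s) *
        φ (algebraMap B (Localization.Away f) s) = φ (algebraMap B (Localization.Away f) b) := by
      rw [← map_mul, IsLocalization.mk'_spec]
    rw [hx, zero_mul, hφ] at h1
    have : b = 0 := Subtype.ext h1.symm
    rw [this, IsLocalization.mk'_zero]
  refine ⟨φ.range, ?_, ?_⟩
  · intro x hx
    exact ⟨algebraMap B (Localization.Away f) ⟨x, Algebra.subset_adjoin hx⟩, hφ _⟩
  · exact Algebra.Smooth.of_equiv (AlgEquiv.ofInjective φ hinj)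

end Groth.Agent.S9431
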