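import Groth.Statements.S9433
import Groth.Agent.Lib.LocalEtaleStd_helper3
-- import your own Groth.Agent.* helpers here

set_option autoImplicit false
universe u
open CAlg
set_option maxSynthPendingDepth 3

namespace Groth.Agent.S9433

/-- Let R → S be a local homomorphism of local rings with S the localization of an étale R-algebra at a
prime, inducing an isomorphism of residue fields. Then for some t in the maximal ideal of R the maps
R/t^nR → S/t^nS are bijective for all n ≥ 1. -/
theorem result (R : Type u) [CommRing R] [IsLocalRing R] (T : Type u) [CommRing T] [Algebra R T]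
    [Algebra.Etale R T] (q : Ideal T) [q.IsPrime] (S : Type u) [CommRing S] [IsLocalRing S]
    [Algebra T S] [IsLocalization.AtPrime S q] [Algebra R S] [IsScalarTower R T S]
    [IsLocalHom (algebraMap R S)]
    (hres : Function.Bijective (IsLocalRing.ResidueField.map (algebraMap R S))) :
    ∃ t ∈ IsLocalRing.maximalIdeal R, ∀ n : ℕ, 1 ≤ n →
      Function.Bijective (Ideal.quotientMap ((Ideal.span {t ^ n}).map (algebraMap R S))
        (algebraMap R S) Ideal.le_comap_map) := by
  obtain ⟨f, g, ξ, -, hf0, -, hfu, hgen⟩ :=
    Groth.Agent.Lib.LocalEtaleStdH3.exists_std_data R T q S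
  obtain ⟨y, hy⟩ := hres.2 (IsLocalRing.residue S ξ)
  obtain ⟨a, rfl⟩ := IsLocalRing.residue_surjective y
  rw [IsLocalRing.ResidueField.map_residue] at hy
  have ha : ξ - algebraMap R S a ∈ IsLocalRing.maximalIdeal S := by
    rw [← IsLocalRing.residue_eq_zero_iff, map_sub, hy, sub_self]
  haveI : Module.Flat T S := IsLocalization.flat S q.primeCompl
  haveI : Module.Flat R S := Module.Flat.trans R T S
  exact Groth.Agent.Lib.LocalEtaleStdH3.exists_t_of_std_data f ξ hf0 hfu hgen a ha

end Groth.Agent.S9433
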