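import Groth.Statements.S9434
import Groth.Agent.Lib.SplitAlg_helper3
import Groth.Agent.Lib.StdEtaleKer_helper3
-- import your own Groth.Agent.* helpers here

set_option autoImplicit false
universe u
open CAlg
set_option maxSynthPendingDepth 3
open Polynomial

namespace Groth.Agent.S9434

/-- Let R → S be a local homomorphism of local rings with S the localization of an étale R-algebra at a
prime. Then there is a finite, finitely presented, faithfully flat R-algebra S' such that for every
maximal ideal m' of S' the structure map R → S'_{m'} factors through some R-algebra map S → S'_{m'}. -/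
theorem result (R : Type u) [CommRing R] [IsLocalRing R] (T : Type u) [CommRing T] [Algebra R T]
    [Algebra.Etale R T] (q : Ideal T) [q.IsPrime] (S : Type u) [CommRing S] [IsLocalRing S]
    [Algebra T S] [IsLocalization.AtPrime S q] [Algebra R S] [IsScalarTower R T S]
    [IsLocalHom (algebraMap R S)] :
    ∃ (S' : Type u) (_ : CommRing S') (_ : Algebra R S'),
      Module.Finite R S' ∧ Algebra.FinitePresentation R S' ∧ Module.FaithfullyFlat R S' ∧
        ∀ (m' : Ideal S') [m'.IsMaximal], Nonempty (S →ₐ[R] Localization.AtPrime m') := by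
  classical
  haveI : Algebra.FormallyEtale T (Localization.AtPrime q) :=
    Algebra.FormallyEtale.of_isLocalization q.primeCompl
  haveI : Algebra.IsEtaleAt R q := Algebra.FormallyEtale.comp R T (Localization.AtPrime q)
  obtain ⟨g₀, hg₀, hstd⟩ := Algebra.IsEtaleAt.exists_isStandardEtale (R := R) q
  obtain ⟨𝓟⟩ := hstd.nonempty_standardEtalePresentation
  obtain ⟨S', _, _, hfin, hfree, hff, x, hx⟩ :=
    Groth.Agent.Lib.SplitAlgH3.exists_splitting 𝓟.f.natDegree R 𝓟.f 𝓟.monic_f rfl
  haveI : Module.FinitePresentation R S' := Module.finitePresentation_of_projective R S'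
  refine ⟨S', inferInstance, inferInstance, hfin, inferInstance, hff, ?_⟩
  intro m' _
  -- the map `T_{g₀} → S`
  have hunits : ∀ y : Submonoid.powers g₀, IsUnit ((IsScalarTower.toAlgHom R T S) y) := by
    rintro ⟨_, n, rfl⟩
    rw [map_pow]
    exact (IsLocalization.map_units S (⟨g₀, hg₀⟩ : q.primeCompl)).pow n
  let ι : Localization.Away g₀ →ₐ[R] S :=
    IsLocalization.liftAlgHom (M := Submonoid.powers g₀) (f := IsScalarTower.toAlgHom R T S) hunits
  have hι : ∀ b : T, ι (algebraMap T (Localization.Away g₀) b) = algebraMap T S b :=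
    fun b => IsLocalization.lift_eq _ b
  -- `R → S'_{m'}` is local
  haveI : Algebra.IsIntegral R S' := Algebra.IsIntegral.of_finite R S'
  have hm' : m'.comap (algebraMap R S') = IsLocalRing.maximalIdeal R :=
    IsLocalRing.eq_maximalIdeal (Ideal.isMaximal_comap_of_isIntegral_of_isMaximal m')
  haveI : IsLocalHom (algebraMap R (Localization.AtPrime m')) := by
    constructor
    intro a ha
    by_contra hna
    have h1 : a ∈ IsLocalRing.maximalIdeal R := hna
    rw [← hm', Ideal.mem_comap] at h1
    have h2 : algebraMap S' (Localization.AtPrime m') (algebraMap R S' a) ∈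
        IsLocalRing.maximalIdeal (Localization.AtPrime m') :=
      (IsLocalization.AtPrime.to_map_mem_maximal_iff _ m' _).mpr h1
    rw [← IsScalarTower.algebraMap_apply] at h2
    exact h2 ha
  -- residue data
  have hy₁ : 𝓟.P.HasMap (IsLocalRing.residue S (ι 𝓟.x)) :=
    (𝓟.hasMap.map ι).map (IsScalarTower.toAlgHom R S (IsLocalRing.ResidueField S))
  have hxb : 𝓟.f.map (algebraMap R (IsLocalRing.ResidueField (Localization.AtPrime m'))) =
      ∏ i, (X - C (algebraMap S' (IsLocalRing.ResidueField (Localization.AtPrime m')) (x i))) := by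
    rw [IsScalarTower.algebraMap_eq R S' (IsLocalRing.ResidueField (Localization.AtPrime m')),
      ← Polynomial.map_map, hx, Polynomial.map_prod]
    simp only [Polynomial.map_sub, Polynomial.map_X, Polynomial.map_C]
  obtain ⟨i, hi, hker⟩ := Groth.Agent.Lib.StdEtaleKerH3.exists_root_same_ker 𝓟.P
    (IsLocalRing.ResidueField R) (IsLocalRing.ResidueField S)
    (IsLocalRing.ResidueField (Localization.AtPrime m')) _ hy₁
    (fun i => algebraMap S' (IsLocalRing.ResidueField (Localization.AtPrime m')) (x i)) hxb
  have hres : ∀ s : S', algebraMap S' (IsLocalRing.ResidueField (Localization.AtPrime m')) s =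
      IsLocalRing.residue _ (algebraMap S' (Localization.AtPrime m') s) := fun s => rfl
  have hroot : aeval (x i) 𝓟.f = 0 := by
    rw [aeval_def, eval₂_eq_eval_map, hx, eval_prod]
    exact Finset.prod_eq_zero (Finset.mem_univ i) (by simp)
  have hL : 𝓟.P.HasMap (algebraMap S' (Localization.AtPrime m') (x i)) := by
    constructor
    · rw [aeval_algebraMap_apply, hroot, map_zero]
    · by_contra hnu
      have h1 : aeval (algebraMap S' (Localization.AtPrime m') (x i)) 𝓟.g ∈
          IsLocalRing.maximalIdeal (Localization.AtPrime m') := hnu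
      rw [← IsLocalRing.residue_eq_zero_iff] at h1
      have h2 : IsLocalRing.residue (Localization.AtPrime m')
          (aeval (algebraMap S' (Localization.AtPrime m') (x i)) 𝓟.g) =
          aeval (algebraMap S' (IsLocalRing.ResidueField (Localization.AtPrime m')) (x i)) 𝓟.g := by
        rw [hres]
        exact (aeval_algHom_apply (IsScalarTower.toAlgHom R (Localization.AtPrime m')
          (IsLocalRing.ResidueField (Localization.AtPrime m'))) _ 𝓟.g).symm
      rw [h2] at h1
      exact hi.2.ne_zero h1
  let φ₀ : Localization.Away g₀ →ₐ[R] Localization.AtPrime m' :=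
    (𝓟.P.lift _ hL).comp 𝓟.equivRing.toAlgHom
  have h₁ : (𝓟.P.lift _ hy₁).comp 𝓟.equivRing.toAlgHom =
      (IsScalarTower.toAlgHom R S (IsLocalRing.ResidueField S)).comp ι :=
    𝓟.hom_ext (by simp)
  have h₂ : (IsScalarTower.toAlgHom R (Localization.AtPrime m')
      (IsLocalRing.ResidueField (Localization.AtPrime m'))).comp (𝓟.P.lift _ hL) =
      𝓟.P.lift _ hi :=
    𝓟.P.hom_ext (by simp; rfl)
  have hunits' : ∀ c : q.primeCompl,
      IsUnit ((φ₀.comp (IsScalarTower.toAlgHom R T (Localization.Away g₀))) c) := by
    intro c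
    by_contra hnu
    have h1 : φ₀ (algebraMap T (Localization.Away g₀) (c : T)) ∈
        IsLocalRing.maximalIdeal (Localization.AtPrime m') := hnu
    rw [← IsLocalRing.residue_eq_zero_iff] at h1
    have h3 : (𝓟.P.lift _ hi) (𝓟.equivRing (algebraMap T (Localization.Away g₀) (c : T))) = 0 := by
      rw [← h₂]; exact h1
    rw [← RingHom.mem_ker, hker, RingHom.mem_ker] at h3
    have h4 : IsLocalRing.residue S (ι (algebraMap T (Localization.Away g₀) (c : T))) = 0 := by
      have := DFunLike.congr_fun h₁ (algebraMap T (Localization.Away g₀) (c : T))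
      rw [← h3]
      exact this.symm
    rw [hι, IsLocalRing.residue_eq_zero_iff,
      IsLocalization.AtPrime.to_map_mem_maximal_iff S q] at h4
    exact c.2 h4
  exact ⟨IsLocalization.liftAlgHom (M := q.primeCompl)
    (f := φ₀.comp (IsScalarTower.toAlgHom R T (Localization.Away g₀))) hunits'⟩

end Groth.Agent.S9434
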