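import Groth.Statements.S9435
import Mathlib

set_option autoImplicit false
universe u
open CAlg

namespace Groth.Agent.S9435

/-- Given a prime p of a ring R and a finite separable extension L of κ(p), there is an étale R-algebra
R' with a prime p' over p whose residue field is κ(p)-isomorphic to L. Stated through an R-algebra
map ψ : R' → L whose image generates the field L: its kernel is such a prime p' and the induced
κ(p') → L is then an isomorphism over κ(p). -/
theorem result (R : Type u) [CommRing R]
    (p : Ideal R) [p.IsPrime] (L : Type u) [Field L] [Algebra p.ResidueField L] [Algebra R L]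
    [IsScalarTower R p.ResidueField L] [Module.Finite p.ResidueField L]
    [Algebra.IsSeparable p.ResidueField L] :
    ∃ (R' : Type u) (_ : CommRing R') (_ : Algebra R R') (_ : Algebra.Etale R R') (ψ : R' →ₐ[R] L),
      Subfield.closure (Set.range ψ) = ⊤ := by
  classical
  obtain ⟨α, hα⟩ := Field.exists_primitive_element p.ResidueField L
  have hint : IsIntegral p.ResidueField α := Algebra.IsIntegral.isIntegral α
  have hmonic : (minpoly p.ResidueField α).Monic := minpoly.monic hint
  have hsep : (minpoly p.ResidueField α).Separable :=
    Algebra.IsSeparable.isSeparable p.ResidueField α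
  -- lift to R_p
  have hlift0 : minpoly p.ResidueField α ∈
      Polynomial.lifts (IsLocalRing.residue (Localization.AtPrime p)) := by
    rw [Polynomial.lifts_iff_coeff_lifts]
    intro n
    exact IsLocalRing.residue_surjective _
  obtain ⟨F₀, hF₀map, -, hF₀monic⟩ :=
    Polynomial.lifts_and_degree_eq_and_monic hlift0 hmonic
  -- common denominator
  obtain ⟨b, hb⟩ := IsLocalization.exist_integer_multiples_of_finset p.primeCompl (F₀.coeffs)
  have hdu : IsUnit (algebraMap R (Localization.AtPrime p) (b : R)) :=
    IsLocalization.map_units _ b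
  let ι : Localization.Away (b : R) →+* Localization.AtPrime p :=
    IsLocalization.Away.lift (b : R) hdu
  have hι : ∀ r, ι (algebraMap R _ r) = algebraMap R _ r :=
    IsLocalization.Away.lift_eq (b : R) hdu
  have hlift1 : F₀ ∈ Polynomial.lifts ι := by
    rw [Polynomial.lifts_iff_coeff_lifts]
    intro n
    by_cases h0 : F₀.coeff n = 0
    · exact ⟨0, by rw [map_zero, h0]⟩
    · obtain ⟨r, hr⟩ := hb _ (Polynomial.coeff_mem_coeffs h0)
      refine ⟨IsLocalization.mk' (Localization.Away (b : R)) r
        ⟨(b : R), Submonoid.mem_powers (b : R)⟩, ?_⟩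
      have h1 : ι (IsLocalization.mk' (Localization.Away (b : R)) r
          ⟨(b : R), Submonoid.mem_powers (b : R)⟩) *
          algebraMap R (Localization.AtPrime p) (b : R) =
          algebraMap R (Localization.AtPrime p) r := by
        rw [← hι (b : R), ← map_mul]
        have := IsLocalization.mk'_spec (Localization.Away (b : R)) r
          ⟨(b : R), Submonoid.mem_powers (b : R)⟩
        rw [this, hι]
      have h2 : algebraMap R (Localization.AtPrime p) r =
          F₀.coeff n * algebraMap R (Localization.AtPrime p) (b : R) := by
        rw [hr, Algebra.smul_def, mul_comm]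
      rw [h2] at h1
      exact hdu.mul_left_injective h1
  obtain ⟨F, hFmap, -, hFmonic⟩ := Polynomial.lifts_and_degree_eq_and_monic hlift1 hF₀monic
  -- the map R_b → L
  have hbp : (b : R) ∉ p := b.2
  have hbL : algebraMap R L (b : R) ≠ 0 := by
    rw [IsScalarTower.algebraMap_apply R p.ResidueField L]
    intro h0
    rw [map_eq_zero_iff _ (algebraMap p.ResidueField L).injective,
      Ideal.algebraMap_residueField_eq_zero] at h0
    exact hbp h0
  have hunit : ∀ y : Submonoid.powers (b : R), IsUnit ((Algebra.ofId R L) y) := by
    rintro ⟨_, n, rfl⟩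
    show IsUnit (algebraMap R L ((b : R) ^ n))
    rw [map_pow]
    exact (isUnit_iff_ne_zero.mpr hbL).pow n
  let φ₁ : Localization.Away (b : R) →ₐ[R] L :=
    IsLocalization.liftAlgHom (M := Submonoid.powers (b : R)) (f := Algebra.ofId R L) hunit
  have hφ₁ : φ₁.toRingHom = (algebraMap p.ResidueField L).comp
      ((IsLocalRing.residue (Localization.AtPrime p)).comp ι) := by
    apply IsLocalization.ringHom_ext (Submonoid.powers (b : R))
    ext r
    show φ₁ (algebraMap R _ r) = algebraMap p.ResidueField L
      (IsLocalRing.residue (Localization.AtPrime p) (ι (algebraMap R _ r)))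
    rw [AlgHom.commutes, hι, IsScalarTower.algebraMap_apply R p.ResidueField L,
      IsScalarTower.algebraMap_apply R (Localization.AtPrime p) p.ResidueField]
    rfl
  letI : Algebra (Localization.Away (b : R)) L := φ₁.toRingHom.toAlgebra
  have halg : algebraMap (Localization.Away (b : R)) L = φ₁.toRingHom := rfl
  have hFL : F.map (algebraMap (Localization.Away (b : R)) L) =
      (minpoly p.ResidueField α).map (algebraMap p.ResidueField L) := by
    rw [halg, hφ₁, ← Polynomial.map_map, ← Polynomial.map_map, hFmap, hF₀map]
  have hroot : Polynomial.aeval α F = 0 := by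
    rw [Polynomial.aeval_def, Polynomial.eval₂_eq_eval_map, hFL, Polynomial.eval_map_algebraMap]
    exact minpoly.aeval p.ResidueField α
  have hder : IsUnit (Polynomial.aeval α (Polynomial.derivative F)) := by
    rw [Polynomial.aeval_def, Polynomial.eval₂_eq_eval_map, ← Polynomial.derivative_map, hFL,
      Polynomial.derivative_map, Polynomial.eval_map_algebraMap, isUnit_iff_ne_zero]
    exact hsep.aeval_derivative_ne_zero (minpoly.aeval p.ResidueField α)
  let P : StandardEtalePair (Localization.Away (b : R)) :=
    ⟨F, hFmonic, Polynomial.derivative F, ⟨1, 0, 1, by simp⟩⟩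
  have hmap : P.HasMap α := ⟨hroot, hder⟩
  let ψ₁ : P.Ring →ₐ[Localization.Away (b : R)] L := P.lift α hmap
  have hψ₁X : ψ₁ P.X = α := P.lift_X α hmap
  letI : Algebra R P.Ring :=
    ((algebraMap (Localization.Away (b : R)) P.Ring).comp
      (algebraMap R (Localization.Away (b : R)))).toAlgebra
  haveI : IsScalarTower R (Localization.Away (b : R)) P.Ring :=
    IsScalarTower.of_algebraMap_eq' rfl
  haveI : Algebra.Etale R (Localization.Away (b : R)) :=
    Algebra.Etale.of_isLocalizationAway (b : R)
  haveI : Algebra.Etale R P.Ring := Algebra.Etale.comp R (Localization.Away (b : R)) P.Ring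
  let ψ : P.Ring →ₐ[R] L :=
    { ψ₁.toRingHom with
      commutes' := fun r => by
        show ψ₁ (algebraMap (Localization.Away (b : R)) P.Ring
          (algebraMap R (Localization.Away (b : R)) r)) = algebraMap R L r
        rw [AlgHom.commutes]
        exact φ₁.commutes r }
  have hψX : ψ P.X = α := hψ₁X
  refine ⟨P.Ring, inferInstance, inferInstance, inferInstance, ψ, ?_⟩
  rw [eq_top_iff]
  have hR : ∀ r : R, algebraMap R L r ∈ Subfield.closure (Set.range ψ) := fun r =>
    Subfield.subset_closure ⟨algebraMap R P.Ring r, ψ.commutes r⟩
  have hK : ∀ x : p.ResidueField, algebraMap p.ResidueField L x ∈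
      Subfield.closure (Set.range ψ) := by
    intro x
    obtain ⟨a, c, -, rfl⟩ := IsFractionRing.div_surjective (R ⧸ p) x
    obtain ⟨a, rfl⟩ := Ideal.Quotient.mk_surjective a
    obtain ⟨c, rfl⟩ := Ideal.Quotient.mk_surjective c
    rw [map_div₀, Ideal.algebraMap_quotient_residueField_mk,
      Ideal.algebraMap_quotient_residueField_mk, ← IsScalarTower.algebraMap_apply,
      ← IsScalarTower.algebraMap_apply]
    exact div_mem (hR a) (hR c)
  have hle : (IntermediateField.adjoin p.ResidueField {α}).toSubfield ≤
      Subfield.closure (Set.range ψ) := by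
    show Subfield.closure (Set.range (algebraMap p.ResidueField L) ∪ {α}) ≤ _
    rw [Subfield.closure_le]
    rintro y (⟨x, rfl⟩ | hy)
    · exact hK x
    · rw [Set.mem_singleton_iff] at hy
      rw [hy]
      exact Subfield.subset_closure ⟨P.X, hψX⟩
  rw [hα, IntermediateField.top_toSubfield] at hle
  exact hle

end Groth.Agent.S9435
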