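import Groth.Statements.S9438
import Groth.Agent.Lib.Serre_helper5
import Groth.Agent.Lib.DepthDescent_helper5
-- import your own Groth.Agent.* helpers here

set_option autoImplicit false
universe u
open CAlg


namespace Groth.Agent.S9438

/-- The condition (R_k) descends along faithfully flat ring maps: if S is faithfully flat over R,
Noetherian and (R_k), then R is Noetherian and (R_k). -/
theorem result (k : ℕ) (R : Type u) [CommRing R] (S : Type u) [CommRing S]
    [Algebra R S] [Module.FaithfullyFlat R S] [IsNoetherianRing S] (hS : LocCoh.HasRk k S) :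
    IsNoetherianRing R ∧ LocCoh.HasRk k R := by
  haveI hRN : IsNoetherianRing R := Groth.Agent.DepthLib.isNoetherianRing_of_faithfullyFlat R S
  refine ⟨hRN, ?_⟩
  intro p _ hp
  obtain ⟨q0, hq0⟩ := PrimeSpectrum.comap_surjective_of_faithfullyFlat (A := R) (B := S)
    ⟨p, inferInstance⟩
  have hq0' : q0.asIdeal.comap (algebraMap R S) = p := congrArg PrimeSpectrum.asIdeal hq0
  have hle : p.map (algebraMap R S) ≤ q0.asIdeal := by
    rw [Ideal.map_le_iff_le_comap, hq0']
  obtain ⟨q, hqmin, hqle⟩ := Ideal.exists_minimalPrimes_le hle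
  haveI : q.IsPrime := hqmin.1.1
  have hqp : q.comap (algebraMap R S) = p :=
    le_antisymm ((Ideal.comap_mono hqle).trans hq0'.le) (Ideal.le_comap_of_map_le hqmin.1.2)
  haveI : q.LiesOver p := ⟨hqp.symm⟩
  have hht : q.height ≤ p.height := by
    have h1 := Ideal.height_le_height_add_of_liesOver p q
    have hsurj : Function.Surjective (Ideal.Quotient.mk (p.map (algebraMap R S))) :=
      Ideal.Quotient.mk_surjective
    have hker : RingHom.ker (Ideal.Quotient.mk (p.map (algebraMap R S))) ≤ q := by
      rw [Ideal.mk_ker]; exact hqmin.1.2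
    haveI : (q.map (Ideal.Quotient.mk (p.map (algebraMap R S)))).IsPrime :=
      Ideal.map_isPrime_of_surjective hsurj hker
    have h2 : (q.map (Ideal.Quotient.mk (p.map (algebraMap R S)))).height = 0 := by
      rw [Ideal.height_eq_zero_iff]
      have h3 := Ideal.minimalPrimes_map_of_surjective hsurj (p.map (algebraMap R S))
      rw [Ideal.mk_ker, sup_idem, Ideal.map_quotient_self] at h3
      show _ ∈ (⊥ : Ideal _).minimalPrimes
      rw [h3]
      exact ⟨q, hqmin, rfl⟩
    rwa [h2, add_zero] at h1
  haveI := hS q (hht.trans hp)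
  letI := Localization.AtPrime.algebraOfLiesOver p q
  haveI : IsNoetherianRing (Localization.AtPrime p) :=
    IsLocalization.isNoetherianRing p.primeCompl _ inferInstance
  exact Groth.Agent.Serre.regular_of_flat_local (Localization.AtPrime p) (Localization.AtPrime q)

end Groth.Agent.S9438
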