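import Groth.Statements.S9444
import Groth.Agent.Lib.RegPS_helper3
import Groth.Agent.Lib.CoeffFieldP_helper3
-- import your own Groth.Agent.* helpers here

set_option autoImplicit false
universe u
open CAlg
set_option maxSynthPendingDepth 3

namespace Groth.Agent.S9444

/-- A complete regular local ring containing a field (that is, containing the prime field F_p or ℚ) is
isomorphic to a power series ring in finitely many variables over its residue field (existence of an
isomorphism only). -/
theorem result (R : Type u)
    [CommRing R] [IsRegularLocalRing R] [IsAdicComplete (IsLocalRing.maximalIdeal R) R]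
    (k₀ : Type u) [Field k₀] [Algebra k₀ R] :
    ∃ d : ℕ, Nonempty (R ≃+* MvPowerSeries (Fin d) (IsLocalRing.ResidueField R)) := by
  obtain ⟨s, hs⟩ := Groth.Agent.Lib.CoeffFieldPH3.exists_section_of_field R k₀ (algebraMap k₀ R)
  letI : Algebra (IsLocalRing.ResidueField R) R := s.toAlgebra
  have hk : Function.Surjective ((IsLocalRing.residue R).comp
      (algebraMap (IsLocalRing.ResidueField R) R)) := fun y => ⟨y, RingHom.congr_fun hs y⟩
  obtain ⟨d, -, ⟨e⟩⟩ := Groth.Agent.Lib.RegPSH3.exists_algEquiv_of_regular_complete R
    (IsLocalRing.ResidueField R) hk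
  exact ⟨d, ⟨e.toRingEquiv⟩⟩

end Groth.Agent.S9444
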