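import Groth.Statements.S9448
import Groth.Agent.Lib.EtaleDiffCrit_helper3
-- import your own Groth.Agent.* helpers here

set_option autoImplicit false
universe u
open Unram
open KaehlerDifferential

namespace Groth.Agent.S9448

/-- For a field k and a finite type algebra A over the polynomial ring k[x_1, …, x_n] (the variables
mapping to a_1, …, a_n), the structure map is étale if and only if (a) the local rings of A at all
maximal ideals have dimension n and (b) da_1, …, da_n generate the module of differentials of A over
k. -/
theorem result (k : Type u) [Field k] (n : ℕ)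
    (A : Type u) [CommRing A] [Algebra k A] [Algebra (MvPolynomial (Fin n) k) A]
    [IsScalarTower k (MvPolynomial (Fin n) k) A] [Algebra.FiniteType (MvPolynomial (Fin n) k) A] :
    Algebra.Etale (MvPolynomial (Fin n) k) A ↔
      (∀ (m : Ideal A) [m.IsMaximal], ringKrullDim (Localization.AtPrime m) = n) ∧
        Submodule.span A (Set.range fun i : Fin n =>
          KaehlerDifferential.D k A (algebraMap (MvPolynomial (Fin n) k) A (MvPolynomial.X i))) = ⊤ := by
  constructor
  · intro h
    haveI := h
    exact ⟨fun m _ => Groth.Agent.Lib.EtaleDiffCritH3.ringKrullDim_of_etale k n A m,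
      Groth.Agent.Lib.EtaleDiffCritH3.span_eq_top_of_subsingleton k n A⟩
  · rintro ⟨hdim, hspan⟩
    haveI : Subsingleton (Ω[A⁄MvPolynomial (Fin n) k]) :=
      Groth.Agent.Lib.EtaleDiffCritH3.subsingleton_of_span_eq_top k n A hspan
    haveI : Algebra.FormallyUnramified (MvPolynomial (Fin n) k) A := ⟨this⟩
    haveI : Algebra.FinitePresentation (MvPolynomial (Fin n) k) A :=
      Algebra.FinitePresentation.of_finiteType.mp inferInstance
    exact Groth.Agent.Lib.EtaleDiffCritH3.etale_of_forall_isMaximal k n A
      (fun m _ => Groth.Agent.Lib.EtaleDiffCritH3.isEtaleAt_of_unramified k n A m (hdim m))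

end Groth.Agent.S9448
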