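import Groth.Statements.S9452
import Groth.Agent.Lib.ClopenFactor_lead

set_option autoImplicit false
universe u
open Unram

namespace Groth.Agent.S9452

open TensorProduct in
/-- Let R → S be of finite type and unramified at a prime q lying over p. Then there are an étale
R-algebra R', a prime p' of R' over p and an R'-algebra isomorphism e : R' ⊗_R S ≅ A × B with R' → A
surjective and p'A a prime ideal of A lying over p' whose pull-back along S → R' ⊗_R S ≅ A × B → A
is q. -/
theorem result (R : Type u) [CommRing R]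
    (S : Type u) [CommRing S] [Algebra R S] [Algebra.FiniteType R S] (q : Ideal S) [q.IsPrime]
    [Algebra.IsUnramifiedAt R q] :
    ∃ (R' : Type u) (_ : CommRing R') (_ : Algebra R R') (_ : Algebra.Etale R R') (p' : Ideal R')
      (_ : p'.IsPrime) (_ : p'.LiesOver (q.under R)) (A : Type u) (_ : CommRing A) (_ : Algebra R' A)
      (B : Type u) (_ : CommRing B) (_ : Algebra R' B) (e : (R' ⊗[R] S) ≃ₐ[R'] (A × B)),
      Function.Surjective (algebraMap R' A) ∧ (p'.map (algebraMap R' A)).IsPrime ∧
        (p'.map (algebraMap R' A)).comap (algebraMap R' A) = p' ∧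
        (p'.map (algebraMap R' A)).comap (((RingHom.fst A B).comp e.toRingHom).comp
          (Algebra.TensorProduct.includeRight : S →ₐ[R] R' ⊗[R] S).toRingHom) = q := by
  classical
  obtain ⟨g, hgq, Pr, φ, hφ⟩ :=
    Algebra.IsUnramifiedAt.exists_hasStandardEtaleSurjectionOn (R := R) q
  letI algESg : Algebra Pr.Ring (Localization.Away g) := φ.toRingHom.toAlgebra
  haveI : IsScalarTower R Pr.Ring (Localization.Away g) :=
    IsScalarTower.of_algebraMap_eq' φ.comp_algebraMap.symm
  have hφ' : Function.Surjective (algebraMap Pr.Ring (Localization.Away g)) := hφ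
  obtain ⟨B, _, _, e, he⟩ := Groth.Agent.Lib.ClopenFactor.exists_prod_of_etale_surj (R := R) (S := S)
    (E := Pr.Ring) (Sg := Localization.Away g) g hφ'
  have hdisj : Disjoint (Submonoid.powers g : Set S) (q : Set S) := by
    rw [Ideal.disjoint_powers_iff_notMem_of_isPrime]; exact hgq
  obtain ⟨qg, hqgdef⟩ : ∃ qg : Ideal (Localization.Away g),
      qg = q.map (algebraMap S (Localization.Away g)) := ⟨_, rfl⟩
  haveI hqg : qg.IsPrime := by
    rw [hqgdef]
    exact IsLocalization.isPrime_of_isPrime_disjoint (Submonoid.powers g) _ _ ‹q.IsPrime› hdisj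
  have hqgc : qg.comap (algebraMap S (Localization.Away g)) = q := by
    rw [hqgdef]
    exact IsLocalization.comap_map_of_isPrime_disjoint (Submonoid.powers g) _ ‹q.IsPrime› hdisj
  obtain ⟨p', hp'def⟩ : ∃ p' : Ideal Pr.Ring,
      p' = qg.comap (algebraMap Pr.Ring (Localization.Away g)) := ⟨_, rfl⟩
  haveI hp' : p'.IsPrime := by rw [hp'def]; infer_instance
  have hp'over : p'.LiesOver (q.under R) := ⟨by
    rw [hp'def, Ideal.under_def, Ideal.under_def, Ideal.comap_comap,
      ← IsScalarTower.algebraMap_eq, IsScalarTower.algebraMap_eq R S (Localization.Away g),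
      ← Ideal.comap_comap, hqgc]⟩
  have hmap : p'.map (algebraMap Pr.Ring (Localization.Away g)) = qg := by
    rw [hp'def]; exact Ideal.map_comap_of_surjective _ hφ' _
  refine ⟨Pr.Ring, inferInstance, inferInstance, inferInstance, p', hp', hp'over,
    Localization.Away g, inferInstance, algESg, B, inferInstance, inferInstance, e, hφ', ?_, ?_, ?_⟩
  · rw [hmap]; exact hqg
  · rw [hmap, hp'def]
  · rw [hmap]
    ext s
    rw [Ideal.mem_comap]
    show (e ((1 : Pr.Ring) ⊗ₜ[R] s)).1 ∈ qg ↔ s ∈ q
    rw [he, Algebra.TensorProduct.lift_tmul, map_one, one_mul, ← hqgc, Ideal.mem_comap]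
    rfl

end Groth.Agent.S9452
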