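import Groth.Statements.S9453
import Groth.Agent.Lib.SplitAlg_helper3
import Groth.Agent.Lib.StdEtaleKer_helper3
-- import your own Groth.Agent.* helpers here

set_option autoImplicit false
universe u
open CAlg
set_option maxSynthPendingDepth 3
open Polynomial

namespace Groth.Agent.S9453

/-- For a standard étale R-algebra S there is an R-algebra S' which is finite, finitely presented and
flat over R, with Spec S' → Spec R surjective, and such that for every prime q of S and every prime
q' of S' lying over the same prime of R there are g' ∉ q' and an R-algebra map φ : S → S'_{g'} under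
which the extension of q' pulls back to q. -/
theorem result (R : Type u) [CommRing R] (S : Type u)
    [CommRing S] [Algebra R S] [Algebra.IsStandardEtale R S] :
    ∃ (S' : Type u) (_ : CommRing S') (_ : Algebra R S'),
      Module.Finite R S' ∧ Algebra.FinitePresentation R S' ∧ Module.Flat R S' ∧
        Function.Surjective (PrimeSpectrum.comap (algebraMap R S')) ∧
        ∀ (q : Ideal S) [q.IsPrime] (q' : Ideal S') [q'.IsPrime], q'.under R = q.under R →
          ∃ (g' : S') (_ : g' ∉ q') (φ : S →ₐ[R] Localization.Away g'),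
            (q'.map (algebraMap S' (Localization.Away g'))).comap φ = q := by
  classical
  obtain ⟨𝓟⟩ := Algebra.IsStandardEtale.nonempty_standardEtalePresentation (R := R) (S := S)
  obtain ⟨S', _, _, hfin, hfree, hff, x, hx⟩ :=
    Groth.Agent.Lib.SplitAlgH3.exists_splitting 𝓟.f.natDegree R 𝓟.f 𝓟.monic_f rfl
  haveI : Module.FinitePresentation R S' := Module.finitePresentation_of_projective R S'
  refine ⟨S', inferInstance, inferInstance, hfin, inferInstance, inferInstance,
    PrimeSpectrum.comap_surjective_of_faithfullyFlat, ?_⟩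
  intro q _ q' _ hqq'
  -- residue fields
  have hq : q.under R = q.comap (algebraMap R S) := rfl
  have hq' : q.under R = q'.comap (algebraMap R S') := hqq'.symm
  letI : Algebra (q.under R).ResidueField q.ResidueField :=
    (Ideal.ResidueField.map (q.under R) q (algebraMap R S) hq).toAlgebra
  haveI : IsScalarTower R (q.under R).ResidueField q.ResidueField :=
    IsScalarTower.of_algebraMap_eq (fun r =>
      (Ideal.ResidueField.map_algebraMap (q.under R) q _ hq r).symm)
  letI : Algebra (q.under R).ResidueField q'.ResidueField :=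
    (Ideal.ResidueField.map (q.under R) q' (algebraMap R S') hq').toAlgebra
  haveI : IsScalarTower R (q.under R).ResidueField q'.ResidueField :=
    IsScalarTower.of_algebraMap_eq (fun r =>
      (Ideal.ResidueField.map_algebraMap (q.under R) q' _ hq' r).symm)
  have hy₁ : 𝓟.P.HasMap (algebraMap S q.ResidueField 𝓟.x) :=
    𝓟.hasMap.map (IsScalarTower.toAlgHom R S q.ResidueField)
  have hxb : 𝓟.f.map (algebraMap R q'.ResidueField) =
      ∏ i, (X - C (algebraMap S' q'.ResidueField (x i))) := by
    rw [IsScalarTower.algebraMap_eq R S' q'.ResidueField, ← Polynomial.map_map, hx,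
      Polynomial.map_prod]
    simp only [Polynomial.map_sub, Polynomial.map_X, Polynomial.map_C]
  obtain ⟨i, hi, hker⟩ := Groth.Agent.Lib.StdEtaleKerH3.exists_root_same_ker 𝓟.P
    (q.under R).ResidueField q.ResidueField q'.ResidueField _ hy₁
    (fun i => algebraMap S' q'.ResidueField (x i)) hxb
  have hgi : algebraMap S' q'.ResidueField (aeval (x i) 𝓟.g) =
      aeval (algebraMap S' q'.ResidueField (x i)) 𝓟.g :=
    (aeval_algebraMap_apply q'.ResidueField (x i) 𝓟.g).symm
  have hg' : aeval (x i) 𝓟.g ∉ q' := by
    rw [← Ideal.algebraMap_residueField_eq_zero, hgi]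
    exact hi.2.ne_zero
  have hroot : aeval (x i) 𝓟.f = 0 := by
    rw [aeval_def, eval₂_eq_eval_map, hx, eval_prod]
    exact Finset.prod_eq_zero (Finset.mem_univ i) (by simp)
  have hL : 𝓟.P.HasMap (algebraMap S' (Localization.Away (aeval (x i) 𝓟.g)) (x i)) := by
    constructor
    · rw [aeval_algebraMap_apply, hroot, map_zero]
    · rw [aeval_algebraMap_apply]
      exact IsLocalization.Away.algebraMap_isUnit _
  refine ⟨aeval (x i) 𝓟.g, hg', (𝓟.P.lift _ hL).comp 𝓟.equivRing.toAlgHom, ?_⟩
  -- the residue map on the localization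
  have hunit : ∀ y : Submonoid.powers (aeval (x i) 𝓟.g),
      IsUnit ((IsScalarTower.toAlgHom R S' q'.ResidueField) y) := by
    rintro ⟨_, n, rfl⟩
    rw [map_pow]
    refine IsUnit.pow n ?_
    show IsUnit (algebraMap S' q'.ResidueField (aeval (x i) 𝓟.g))
    rw [hgi]; exact hi.2
  let ρ : Localization.Away (aeval (x i) 𝓟.g) →ₐ[R] q'.ResidueField :=
    IsLocalization.liftAlgHom (M := Submonoid.powers (aeval (x i) 𝓟.g))
      (f := IsScalarTower.toAlgHom R S' q'.ResidueField) hunit
  have hρ : ∀ s, ρ (algebraMap S' _ s) = algebraMap S' q'.ResidueField s :=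
    fun s => IsLocalization.lift_eq _ s
  have hkerρ : RingHom.ker ρ = q'.map (algebraMap S' (Localization.Away (aeval (x i) 𝓟.g))) := by
    rw [← IsLocalization.map_comap (Submonoid.powers (aeval (x i) 𝓟.g)) _ (RingHom.ker ρ)]
    congr 1
    ext s
    rw [Ideal.mem_comap, RingHom.mem_ker, hρ, Ideal.algebraMap_residueField_eq_zero]
  have h₁ : (𝓟.P.lift _ hy₁).comp 𝓟.equivRing.toAlgHom =
      IsScalarTower.toAlgHom R S q.ResidueField :=
    𝓟.hom_ext (by simp)
  have h₂ : ρ.comp (𝓟.P.lift _ hL) = 𝓟.P.lift _ hi :=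
    𝓟.P.hom_ext (by simp [hρ])
  ext b
  rw [Ideal.mem_comap, ← hkerρ, RingHom.mem_ker]
  show ρ ((𝓟.P.lift _ hL) (𝓟.equivRing b)) = 0 ↔ _
  rw [← AlgHom.comp_apply, h₂, ← RingHom.mem_ker, hker, RingHom.mem_ker]
  have h3 : (𝓟.P.lift _ hy₁) (𝓟.equivRing b) = algebraMap S q.ResidueField b :=
    DFunLike.congr_fun h₁ b
  rw [h3, Ideal.algebraMap_residueField_eq_zero]

end Groth.Agent.S9453
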