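import Groth.Statements.S9454
import Groth.Agent.Lib.SplitAlg2_helper3
-- import your own Groth.Agent.* helpers here

set_option autoImplicit false
universe u
open CAlg
set_option maxSynthPendingDepth 3
open Polynomial

namespace Groth.Agent.S9454

/-- For an étale ring map R → S which is surjective on spectra there is a finite, finitely presented,
flat R-algebra S' with Spec S' → Spec R surjective such that, Zariski locally on S', the structure
map factors through S: every prime q' of S' has some g' ∉ q' and an R-algebra map S → S'_{g'}. -/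
theorem result (R : Type u) [CommRing R]
    (S : Type u) [CommRing S] [Algebra R S] [Algebra.Etale R S]
    (hs : Function.Surjective (PrimeSpectrum.comap (algebraMap R S))) :
    ∃ (S' : Type u) (_ : CommRing S') (_ : Algebra R S'),
      Module.Finite R S' ∧ Algebra.FinitePresentation R S' ∧ Module.Flat R S' ∧
        Function.Surjective (PrimeSpectrum.comap (algebraMap R S')) ∧
        ∀ (q' : Ideal S') [q'.IsPrime], ∃ (g' : S') (_ : g' ∉ q'),
          Nonempty (S →ₐ[R] Localization.Away g') := by
  classical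
  -- finite standard étale cover
  have hcover : Ideal.span {g : S | Algebra.IsStandardEtale R (Localization.Away g)} = ⊤ := by
    by_contra hne
    obtain ⟨m, hm, hle⟩ := Ideal.exists_le_maximal _ hne
    haveI := hm.isPrime
    haveI : Algebra.FormallyEtale S (Localization.AtPrime m) :=
      Algebra.FormallyEtale.of_isLocalization m.primeCompl
    haveI : Algebra.IsEtaleAt R m := Algebra.FormallyEtale.comp R S (Localization.AtPrime m)
    obtain ⟨g, hg, hstd⟩ := Algebra.IsEtaleAt.exists_isStandardEtale (R := R) m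
    exact hg (hle (Ideal.subset_span hstd))
  obtain ⟨t, ht, htop⟩ := (Ideal.span_eq_top_iff_finite _).mp hcover
  have hstd : ∀ g : t, Nonempty (StandardEtalePresentation R (Localization.Away (g : S))) :=
    fun g => (ht g.2).nonempty_standardEtalePresentation
  let 𝓟 := fun g : t => Classical.choice (hstd g)
  obtain ⟨S', _, _, hfin, hfree, hff, hsplit⟩ :=
    Groth.Agent.Lib.SplitAlgH3.exists_splitting_finset
      (Finset.univ.image (fun g : t => (𝓟 g).f)) (by
        intro f hf
        obtain ⟨g, -, rfl⟩ := Finset.mem_image.mp hf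
        exact (𝓟 g).monic_f)
  haveI : Module.FinitePresentation R S' := Module.finitePresentation_of_projective R S'
  refine ⟨S', inferInstance, inferInstance, hfin, inferInstance, inferInstance,
    PrimeSpectrum.comap_surjective_of_faithfullyFlat, ?_⟩
  intro q' _
  obtain ⟨⟨q, hqp⟩, hq⟩ := hs ⟨q'.under R, inferInstance⟩
  have hqq : q'.under R = q.comap (algebraMap R S) :=
    (congrArg PrimeSpectrum.asIdeal hq).symm
  obtain ⟨g, hgt, hgq⟩ : ∃ g ∈ t, g ∉ q := by
    by_contra hall
    push_neg at hall
    have : Ideal.span (t : Set S) ≤ q := Ideal.span_le.mpr hall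
    rw [htop] at this
    exact hqp.ne_top (top_le_iff.mp this)
  -- residue fields
  letI : Algebra (q'.under R).ResidueField q.ResidueField :=
    (Ideal.ResidueField.map (q'.under R) q (algebraMap R S) hqq).toAlgebra
  haveI : IsScalarTower R (q'.under R).ResidueField q.ResidueField :=
    IsScalarTower.of_algebraMap_eq (fun r =>
      (Ideal.ResidueField.map_algebraMap (q'.under R) q _ hqq r).symm)
  letI : Algebra (q'.under R).ResidueField q'.ResidueField :=
    (Ideal.ResidueField.map (q'.under R) q' (algebraMap R S') rfl).toAlgebra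
  haveI : IsScalarTower R (q'.under R).ResidueField q'.ResidueField :=
    IsScalarTower.of_algebraMap_eq (fun r =>
      (Ideal.ResidueField.map_algebraMap (q'.under R) q' _ rfl r).symm)
  have hunit : ∀ y : Submonoid.powers g,
      IsUnit ((IsScalarTower.toAlgHom R S q.ResidueField) y) := by
    rintro ⟨_, n, rfl⟩
    rw [map_pow]
    refine IsUnit.pow n ?_
    rw [isUnit_iff_ne_zero]
    show algebraMap S q.ResidueField g ≠ 0
    rw [Ne, Ideal.algebraMap_residueField_eq_zero]
    exact hgq
  let ρ₁ : Localization.Away g →ₐ[R] q.ResidueField :=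
    IsLocalization.liftAlgHom (M := Submonoid.powers g)
      (f := IsScalarTower.toAlgHom R S q.ResidueField) hunit
  have hy₁ : (𝓟 ⟨g, hgt⟩).P.HasMap (ρ₁ (𝓟 ⟨g, hgt⟩).x) := (𝓟 ⟨g, hgt⟩).hasMap.map ρ₁
  obtain ⟨n, x, hx⟩ := hsplit (𝓟 ⟨g, hgt⟩).f
    (Finset.mem_image.mpr ⟨⟨g, hgt⟩, Finset.mem_univ _, rfl⟩)
  have hxb : (𝓟 ⟨g, hgt⟩).f.map (algebraMap R q'.ResidueField) =
      ∏ i, (X - C (algebraMap S' q'.ResidueField (x i))) := by
    rw [IsScalarTower.algebraMap_eq R S' q'.ResidueField, ← Polynomial.map_map, hx,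
      Polynomial.map_prod]
    simp only [Polynomial.map_sub, Polynomial.map_X, Polynomial.map_C]
  obtain ⟨i, hi, -⟩ := Groth.Agent.Lib.StdEtaleKerH3.exists_root_same_ker (𝓟 ⟨g, hgt⟩).P
    (q'.under R).ResidueField q.ResidueField q'.ResidueField _ hy₁
    (fun i => algebraMap S' q'.ResidueField (x i)) hxb
  have hgi : algebraMap S' q'.ResidueField (aeval (x i) (𝓟 ⟨g, hgt⟩).g) =
      aeval (algebraMap S' q'.ResidueField (x i)) (𝓟 ⟨g, hgt⟩).g :=
    (aeval_algebraMap_apply q'.ResidueField (x i) (𝓟 ⟨g, hgt⟩).g).symm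
  have hg' : aeval (x i) (𝓟 ⟨g, hgt⟩).g ∉ q' := by
    rw [← Ideal.algebraMap_residueField_eq_zero, hgi]
    exact hi.2.ne_zero
  have hroot : aeval (x i) (𝓟 ⟨g, hgt⟩).f = 0 := by
    rw [aeval_def, eval₂_eq_eval_map, hx, eval_prod]
    exact Finset.prod_eq_zero (Finset.mem_univ i) (by simp)
  have hL : (𝓟 ⟨g, hgt⟩).P.HasMap
      (algebraMap S' (Localization.Away (aeval (x i) (𝓟 ⟨g, hgt⟩).g)) (x i)) := by
    constructor
    · rw [aeval_algebraMap_apply, hroot, map_zero]
    · rw [aeval_algebraMap_apply]
      exact IsLocalization.Away.algebraMap_isUnit _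
  exact ⟨aeval (x i) (𝓟 ⟨g, hgt⟩).g, hg',
    ⟨(((𝓟 ⟨g, hgt⟩).P.lift _ hL).comp (𝓟 ⟨g, hgt⟩).equivRing.toAlgHom).comp
      (IsScalarTower.toAlgHom R S (Localization.Away g))⟩⟩

end Groth.Agent.S9454
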