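import Groth.Statements.S9455
import Groth.Agent.Lib.CohenLift_helper3
-- import your own Groth.Agent.* helpers here

set_option autoImplicit false
universe u
open CAlg
set_option maxSynthPendingDepth 3

namespace Groth.Agent.S9455

/-- If Λ is a Cohen ring (a complete discrete valuation ring with maximal ideal generated by a prime
number p) then Λ/p^nΛ is formally smooth over ℤ/p^nℤ for every n ≥ 1; the ℤ/p^nℤ-algebra structure
on Λ/p^nΛ is the unique one and is taken as a hypothesis. -/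
theorem result (Λ : Type u) [CommRing Λ] [IsDomain Λ]
    [IsDiscreteValuationRing Λ] [IsAdicComplete (IsLocalRing.maximalIdeal Λ) Λ] (p : ℕ)
    (hp : p.Prime) (hm : IsLocalRing.maximalIdeal Λ = Ideal.span {(p : Λ)}) (n : ℕ) (hn : 1 ≤ n)
    [Algebra (ZMod (p ^ n)) (Λ ⧸ Ideal.span {((p : Λ) ^ n)})] :
    Algebra.FormallySmooth (ZMod (p ^ n)) (Λ ⧸ Ideal.span {((p : Λ) ^ n)}) := by
  classical
  have hW : EGA41.IsCohenRingEGA Λ :=
    Or.inr ⟨inferInstance, inferInstance, inferInstance, p, hp, hm⟩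
  obtain ⟨p', hp'⟩ := CharP.exists (IsLocalRing.ResidueField Λ)
  haveI := hp'
  obtain ⟨hpp, -⟩ := Groth.Agent.Lib.CohenLiftH3.cohen_facts p hp hm p'
  subst hpp
  apply Algebra.FormallySmooth.of_comp_surjective
  intro C _ _ I hI g
  have hpC : (p' : C) ^ n = 0 := by
    have h1 : ((p' ^ n : ℕ) : ZMod (p' ^ n)) = 0 := ZMod.natCast_self _
    have h2 := congrArg (algebraMap (ZMod (p' ^ n)) C) h1
    rw [map_natCast, map_zero, Nat.cast_pow] at h2
    exact h2
  let u : Λ →+* C ⧸ I :=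
    (g : (Λ ⧸ Ideal.span {((p' : Λ) ^ n)}) →+* C ⧸ I).comp (Ideal.Quotient.mk _)
  obtain ⟨v, hv⟩ := Groth.Agent.Lib.CohenLiftH3.exists_lift_ringHom hW p' C I ⟨2, hI⟩ n hpC u
  have hvk : ∀ x ∈ Ideal.span {((p' : Λ) ^ n)}, v x = 0 := by
    intro x hx
    obtain ⟨y, rfl⟩ := Ideal.mem_span_singleton'.1 hx
    rw [map_mul, map_pow, map_natCast, hpC, mul_zero]
  let v' : Λ ⧸ Ideal.span {((p' : Λ) ^ n)} →+* C := Ideal.Quotient.lift _ v hvk
  refine ⟨{ v' with commutes' := fun r => ?_ }, ?_⟩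
  · exact RingHom.congr_fun (Subsingleton.elim (v'.comp (algebraMap _ _)) (algebraMap _ C)) r
  · ext x
    obtain ⟨y, rfl⟩ := Ideal.Quotient.mk_surjective x
    exact RingHom.congr_fun hv y

end Groth.Agent.S9455
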