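import Groth.Statements.S9474
import Groth.Agent.Lib.UnramIntModel_helper3
-- import your own Groth.Agent.* helpers here

set_option autoImplicit false
universe u
open CAlg


namespace Groth.Agent.S9474

open TensorProduct in
/-- If R → S is unramified (of finite type with vanishing module of differentials), then there are a
finite type ℤ-algebra R₀, an unramified R₀-algebra S₀, a ring map R₀ → R, and a surjective R-algebra
map from R ⊗_{R₀} S₀ onto S. -/
theorem result (R : Type u) [CommRing R] (S : Type u)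
    [CommRing S] [Algebra R S] [Algebra.Unramified R S] :
    ∃ (R₀ : Type u) (_ : CommRing R₀) (_ : Algebra.FiniteType ℤ R₀) (S₀ : Type u) (_ : CommRing S₀)
      (_ : Algebra R₀ S₀) (_ : Algebra.Unramified R₀ S₀) (_ : Algebra R₀ R)
      (ψ : R ⊗[R₀] S₀ →ₐ[R] S), Function.Surjective ψ := by
  classical
  haveI hftS : Algebra.FiniteType R S := inferInstance
  obtain ⟨n, f, hf⟩ := Algebra.FiniteType.iff_quotient_mvPolynomial''.mp hftS
  obtain ⟨R₀, I, hft, hIfg, hunr, hle, -⟩ :=
    Groth.Agent.Lib.UnramIntModelH3.main f hf ∅ (fun g hg => absurd hg (Finset.notMem_empty g))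
  haveI : Algebra.FormallyUnramified R₀ (MvPolynomial (Fin n) R₀ ⧸ I) := hunr
  haveI : Algebra.FiniteType R₀ (MvPolynomial (Fin n) R₀ ⧸ I) :=
    Algebra.FiniteType.of_surjective (Ideal.Quotient.mkₐ R₀ I) (Ideal.Quotient.mkₐ_surjective R₀ I)
  refine ⟨R₀, inferInstance, ?_, MvPolynomial (Fin n) R₀ ⧸ I, inferInstance, inferInstance,
    ⟨inferInstance, inferInstance⟩, inferInstance, ?_, ?_⟩
  · convert hft
  · exact ((Ideal.quotientKerAlgEquivOfSurjective hf).toAlgHom.comp
      (Ideal.Quotient.factorₐ R hle)).comp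
      (Groth.Agent.Lib.UnramIntModelH3.tensorQuotEquiv R₀ R I).toAlgHom
  · intro s
    obtain ⟨p, rfl⟩ := hf s
    refine ⟨(Groth.Agent.Lib.UnramIntModelH3.tensorQuotEquiv R₀ R I).symm
      (Ideal.Quotient.mk _ p), ?_⟩
    simp

end Groth.Agent.S9474
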