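import Groth.Statements.S9488
import Mathlib
import Groth.Agent.Lib.NormPt3_helper5

set_option autoImplicit false
universe u
open Pi1

namespace Groth.Agent.S9488

open AlgebraicGeometry CategoryTheory CategoryTheory.Limits in
/-- The criterion by the cardinality of a geometric fibre, in the local form its proof establishes: X is
an integral scheme with integrally closed local rings and function field K; L is a finite field
extension of K and ν : Y ⟶ X the normalization of X in Spec L. Let ξ : Spec Ω ⟶ X be a geometric
point (Ω algebraically closed) such that the fibre of ν over ξ is etale and ν has at least [L : K]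
distinct Ω-points lying over ξ. Then ν is finite etale over some open neighbourhood of the image of
ξ. Consequently ν is finite etale as soon as every scheme-theoretic fibre of ν is etale of degree at
least [L : K]. -/
theorem result {X : Scheme.{u}} [IsIntegral X] (hX : Pi1.IsNormalScheme X)
    (L : Type u) [Field L] [Algebra X.functionField L] [FiniteDimensional X.functionField L]
    [QuasiCompact (Spec.map (CommRingCat.ofHom (algebraMap X.functionField L)) ≫ X.fromSpecStalk (genericPoint X))] [QuasiSeparated (Spec.map (CommRingCat.ofHom (algebraMap X.functionField L)) ≫ X.fromSpecStalk (genericPoint X))]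
    (Ω : Type u) [Field Ω] [IsAlgClosed Ω] (ξ : Spec (CommRingCat.of Ω) ⟶ X)
    (het : Etale (pullback.snd (Spec.map (CommRingCat.ofHom (algebraMap X.functionField L)) ≫ X.fromSpecStalk (genericPoint X)).fromNormalization ξ))
    (hcard : Nonempty (Fin (Module.finrank X.functionField L) ↪
      {η : Spec (CommRingCat.of Ω) ⟶ (Spec.map (CommRingCat.ofHom (algebraMap X.functionField L)) ≫ X.fromSpecStalk (genericPoint X)).normalization // η ≫ (Spec.map (CommRingCat.ofHom (algebraMap X.functionField L)) ≫ X.fromSpecStalk (genericPoint X)).fromNormalization = ξ})) :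
    ∃ U : X.Opens, Set.range ξ.base ⊆ (U : Set X) ∧
      Etale (pullback.snd (Spec.map (CommRingCat.ofHom (algebraMap X.functionField L)) ≫ X.fromSpecStalk (genericPoint X)).fromNormalization U.ι) ∧
      IsFinite (pullback.snd (Spec.map (CommRingCat.ofHom (algebraMap X.functionField L)) ≫ X.fromSpecStalk (genericPoint X)).fromNormalization U.ι) := by
  classical
  open Groth.Agent.Lib.NormEt Groth.Agent.Lib.NormPt TopologicalSpace in
  exact by
    obtain ⟨t₀⟩ : Nonempty (Spec (CommRingCat.of Ω)) := inferInstance
    have hsub : ∀ t : Spec (CommRingCat.of Ω), t = t₀ := fun t =>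
      (inferInstance : Subsingleton (PrimeSpectrum Ω)).elim _ _
    obtain ⟨_, ⟨U, hU, rfl⟩, hxU, -⟩ := X.isBasis_affineOpens.exists_subset_of_mem_open
      (Set.mem_univ (ξ.base t₀)) isOpen_univ
    haveI : Nonempty U := ⟨⟨_, hxU⟩⟩
    have hξ : ⊤ ≤ ξ ⁻¹ᵁ U := by
      intro t _
      rw [hsub t]
      exact hxU
    obtain ⟨hsep, b, d, hb, hd, hne⟩ := exists_discr L hX hU ξ hξ hcard
    have hξ' := le_preimage_basicOpen ξ U hξ d hne
    have hU' : IsAffineOpen (X.basicOpen d) := hU.basicOpen d
    haveI : Nonempty (X.basicOpen d) := ⟨⟨ξ.base t₀, hξ' (by trivial)⟩⟩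
    refine ⟨X.basicOpen d, ?_, ?_⟩
    · rintro _ ⟨t, rfl⟩
      exact hξ' (by trivial)
    · haveI := hsep
      have hle : X.basicOpen d ≤ U := X.basicOpen_le d
      have hres : (algebraMap Γ(X, X.basicOpen d) X.functionField).comp
          (X.presheaf.map (homOfLE hle).op).hom = algebraMap Γ(X, U) X.functionField := by
        ext a
        exact TopCat.Presheaf.germ_res_apply X.presheaf (homOfLE hle) (genericPoint X) _ a
      have hdu : IsUnit (X.presheaf.map (homOfLE hle).op d) :=
        RingedSpace.isUnit_res_basicOpen _ d
      have hd' : algebraMap Γ(X, X.basicOpen d) X.functionField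
          (X.presheaf.map (homOfLE hle).op d) = Algebra.discr X.functionField b := by
        rw [← hd, ← hres]
        rfl
      have hb' : letI := algL L (X.basicOpen d); ∀ i, IsIntegral Γ(X, X.basicOpen d) (b i) := by
        letI := algL L U
        letI := algL L (X.basicOpen d)
        intro i
        have h1 := IsIntegral.map_of_comp_eq (X.presheaf.map (homOfLE hle).op).hom (RingHom.id L)
          (by
            change ((algebraMap X.functionField L).comp
              (algebraMap Γ(X, X.basicOpen d) X.functionField)).comp _ =
              (RingHom.id L).comp ((algebraMap X.functionField L).comp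
                (algebraMap Γ(X, U) X.functionField))
            rw [RingHom.comp_assoc, hres, RingHom.id_comp]) (hb i)
        exact h1
      obtain ⟨hE, hF⟩ := etale_finite_app_of_discr L hX hU' b hb' _ hd' hdu
      exact etale_finite_pullback_of_app _ hU' (hU'.preimage _) hE hF

end Groth.Agent.S9488
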