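import Groth.Statements.S9495
import Mathlib

set_option autoImplicit false
universe u
open SchMor

namespace Groth.Agent.S9495

open AlgebraicGeometry in
open CategoryTheory in
/-- For a quasi-compact morphism of schemes f : X → S, the image f(X) is closed in S if and only if it
is stable under specialization. -/
theorem result
    {X S : Scheme.{u}} (f : X ⟶ S) [QuasiCompact f] :
    IsClosed (Set.range f) ↔ StableUnderSpecialization (Set.range f) := by
  refine ⟨fun h => h.stableUnderSpecialization, fun H => ?_⟩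
  have hcov : TopologicalSpace.IsOpenCover (fun U : S.affineOpens => (U : S.Opens)) :=
    iSup_affineOpens_eq_top S
  rw [hcov.isClosed_iff_coe_preimage]
  intro U
  have hc : IsCompact ((f ⁻¹ᵁ U.1 : X.Opens) : Set X) :=
    QuasiCompact.isCompact_preimage (f := f) _ U.1.2 U.2.isCompact
  obtain ⟨R, g, hg⟩ := isCompact_iff_exists.mp hc
  have hgf : Set.range (g ≫ f) ⊆ Set.range U.1.ι := by
    rintro _ ⟨z, rfl⟩
    have : g z ∈ ((f ⁻¹ᵁ U.1 : X.Opens) : Set X) := hg ▸ ⟨z, rfl⟩
    simpa using this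
  let h : Spec R ⟶ U.1.toScheme := IsOpenImmersion.lift U.1.ι (g ≫ f) hgf
  have hfac : h ≫ U.1.ι = g ≫ f := IsOpenImmersion.lift_fac _ _ _
  have hfac' : ∀ z, (h z).1 = f (g z) := fun z => by
    have := congrArg (fun k => k.base z) hfac
    simpa using this
  have hrange : Set.range h = (Subtype.val ⁻¹' Set.range f : Set U.1) := by
    ext u
    constructor
    · rintro ⟨z, rfl⟩
      exact ⟨g z, (hfac' z).symm⟩
    · rintro ⟨x, hx⟩
      have hxU : x ∈ ((f ⁻¹ᵁ U.1 : X.Opens) : Set X) := by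
        show f x ∈ U.1
        rw [hx]; exact u.2
      rw [← hg] at hxU
      obtain ⟨z, rfl⟩ := hxU
      exact ⟨z, Subtype.ext ((hfac' z).trans hx)⟩
  suffices hsuff : IsClosed (Set.range h) by rw [hrange] at hsuff; exact hsuff
  let e := U.2.isoSpec
  have he : IsClosed (Set.range (h ≫ e.hom)) := by
    obtain ⟨φ, hφ⟩ := Spec.homEquiv.symm.surjective (h ≫ e.hom)
    rw [← hφ]
    refine PrimeSpectrum.isClosed_range_of_stableUnderSpecialization φ.hom ?_
    change StableUnderSpecialization (Set.range (Spec.homEquiv.symm φ))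
    rw [hφ]
    rintro y y' hyy' ⟨z, rfl⟩
    have h1 : e.inv ((h ≫ e.hom) z) ⤳ e.inv y' := hyy'.map e.inv.continuous
    have h2 : e.inv ((h ≫ e.hom) z) = h z := by
      show (h ≫ e.hom ≫ e.inv) z = h z
      rw [e.hom_inv_id, Category.comp_id]
    rw [h2] at h1
    have h3 : (h z).1 ⤳ (e.inv y').1 := h1.map continuous_subtype_val
    rw [hfac' z] at h3
    obtain ⟨x, hx⟩ := H h3 ⟨g z, rfl⟩
    have hxU : x ∈ ((f ⁻¹ᵁ U.1 : X.Opens) : Set X) := by
      show f x ∈ U.1
      rw [hx]; exact (e.inv y').2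
    rw [← hg] at hxU
    obtain ⟨w, rfl⟩ := hxU
    refine ⟨w, ?_⟩
    have h4 : h w = e.inv y' := Subtype.ext ((hfac' w).trans hx)
    rw [Scheme.Hom.comp_apply, h4]
    show (e.inv ≫ e.hom) y' = y'
    rw [e.inv_hom_id]; rfl
  rw [Scheme.Hom.comp_base, TopCat.coe_comp, Set.range_comp] at he
  exact (Scheme.homeoOfIso e).isClosed_image.mp he

end Groth.Agent.S9495
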