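import Groth.Statements.S9498
import Mathlib.Tactic
import Mathlib.AlgebraicGeometry.Modules.Tilde
import Mathlib.Algebra.Homology.ShortComplex.ExactFunctor

set_option autoImplicit false
universe u
open AffSch

namespace Groth.Agent.S9498

open AlgebraicGeometry CategoryTheory Limits

theorem comapFun_injective {R : CommRingCat.{u}} {M N : ModuleCat.{u} R} (f : M ⟶ N)
    (hf : Function.Injective f.hom) (y : PrimeSpectrum.Top R) :
    Function.Injective
      (StructureSheaf.Localizations.comapFun (σ := RingHom.id R) f.hom y) := by
  rw [injective_iff_map_eq_zero]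
  intro x hx
  induction x using LocalizedModule.induction_on with
  | h a b =>
    rw [StructureSheaf.Localizations.comapFun_mk] at hx
    rw [← LocalizedModule.zero_mk 1, LocalizedModule.mk_eq] at hx
    rw [← LocalizedModule.zero_mk 1, LocalizedModule.mk_eq]
    obtain ⟨c, hc⟩ := hx
    refine ⟨c, hf ?_⟩
    simp only [one_smul, smul_zero] at hc ⊢
    rw [map_zero, ← hc]
    exact (map_smul f.hom (c : R) a)

theorem tilde_map_mono {R : CommRingCat.{u}} {M N : ModuleCat.{u} R} (f : M ⟶ N) [Mono f] :
    Mono (tilde.map f) := by
  have hf : Function.Injective f.hom := (ModuleCat.mono_iff_injective f).1 inferInstance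
  apply (modulesSpecToSheaf (R := R)).mono_of_mono_map
  let α : structurePresheafInModuleCat R M ⟶ structurePresheafInModuleCat R N :=
    { app U := ModuleCat.ofHom (StructureSheaf.comapₗ f.hom _ _ .rfl) }
  have e : modulesSpecToSheaf.map (tilde.map f) = ⟨(tilde.modulesSpecToSheafIso M).hom ≫
      α ≫ (tilde.modulesSpecToSheafIso N).inv⟩ := SpecModulesToSheafFullyFaithful.map_preimage _
  rw [e]
  have h2 : Mono α := by
    apply +allowSynthFailures NatTrans.mono_of_mono_app
    intro U
    rw [ModuleCat.mono_iff_injective]
    intro s t hst
    apply Subtype.ext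
    funext y
    have := congrArg (fun s => s.1 y) hst
    exact comapFun_injective f hf y.1 this
  apply +allowSynthFailures Sheaf.Hom.mono_of_presheaf_mono
  have h3 : Mono (α ≫ (tilde.modulesSpecToSheafIso N).inv) := mono_comp _ _
  have h4 : Mono ((tilde.modulesSpecToSheafIso M).hom ≫ α ≫ (tilde.modulesSpecToSheafIso N).inv) :=
    @mono_comp _ _ _ _ _ _ inferInstance _ h3
  exact h4

theorem preserves_tilde (R : CommRingCat.{u}) :
    PreservesFiniteLimits (tilde.functor R) ∧ PreservesFiniteColimits (tilde.functor R) := by
  have hcolim : PreservesFiniteColimits (tilde.functor R) := inferInstance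
  refine ⟨?_, hcolim⟩
  rw [Functor.preservesFiniteLimits_iff_forall_exact_map_and_mono]
  intro S hS
  have h := ((Functor.preservesFiniteColimits_iff_forall_exact_map_and_epi _).1 hcolim S hS).1
  have : Mono S.f := hS.mono_f
  exact ⟨h, tilde_map_mono S.f⟩


open AlgebraicGeometry in
open CategoryTheory Limits in
/-- For a commutative ring A, the functor M ↦ M~ from the category of A-modules to the category of
O-modules on Spec A is exact, i.e. it preserves finite limits and finite colimits. -/
theorem result
    (A : Type u) [CommRing A] :
    PreservesFiniteLimits (tilde.functor (CommRingCat.of A)) ∧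
      PreservesFiniteColimits (tilde.functor (CommRingCat.of A)) := by
  exact preserves_tilde (CommRingCat.of A)

end Groth.Agent.S9498
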