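import Groth.Statements.S9496
import Mathlib.Tactic
import Groth.Agent.S9498

set_option autoImplicit false
universe u
open AffSch

namespace Groth.Agent.S9496

open AlgebraicGeometry CategoryTheory Limits

theorem isQCoh_of_mem_essImage {R : CommRingCat.{u}} (M : (Spec R).Modules)
    (h : (tilde.functor R).essImage M) : M.IsQuasicoherent := by
  rw [essImage_tilde] at h; exact h

theorem mem_essImage_of_isQCoh {R : CommRingCat.{u}} (M : (Spec R).Modules)
    [h : M.IsQuasicoherent] : (tilde.functor R).essImage M := by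
  rw [essImage_tilde]; exact h

theorem kernel_cokernel {R : CommRingCat.{u}} {M N : (Spec R).Modules}
    [hM : M.IsQuasicoherent] [hN : N.IsQuasicoherent] (φ : M ⟶ N) :
    (kernel φ).IsQuasicoherent ∧ (cokernel φ).IsQuasicoherent := by
  obtain ⟨M0, ⟨eM⟩⟩ := mem_essImage_of_isQCoh M
  obtain ⟨N0, ⟨eN⟩⟩ := mem_essImage_of_isQCoh N
  obtain ⟨ψ, hψ⟩ := (tilde.functor R).map_surjective (eM.hom ≫ φ ≫ eN.inv)
  have h1 := (Groth.Agent.S9498.preserves_tilde R).1
  have h2 := (Groth.Agent.S9498.preserves_tilde R).2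
  constructor
  · apply isQCoh_of_mem_essImage
    refine ⟨kernel ψ, ⟨PreservesKernel.iso (tilde.functor R) ψ ≪≫ kernel.mapIso _ _ eM eN ?_⟩⟩
    rw [hψ]; simp
  · apply isQCoh_of_mem_essImage
    refine ⟨cokernel ψ, ⟨PreservesCokernel.iso (tilde.functor R) ψ ≪≫ cokernel.mapIso _ _ eM eN ?_⟩⟩
    rw [hψ]; simp


open AlgebraicGeometry in
open CategoryTheory Limits in
/-- Let X = Spec A be an affine scheme and φ : M → N a morphism of quasi-coherent O_X-modules. Then the
kernel and the cokernel of φ, computed in the category of all O_X-modules, are quasi-coherent. -/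
theorem result
    (A : Type u) [CommRing A] {M N : (Spec (CommRingCat.of A)).Modules}
    [Coh.IsQCoh M] [Coh.IsQCoh N] (φ : M ⟶ N) :
    Coh.IsQCoh (kernel φ) ∧ Coh.IsQCoh (cokernel φ) := by
  exact kernel_cokernel (R := CommRingCat.of A) φ

end Groth.Agent.S9496
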