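import Groth.Statements.S9497
import Mathlib.Tactic
import Groth.Agent.S9496

set_option autoImplicit false
universe u
open AffSch

namespace Groth.Agent.S9497

open AlgebraicGeometry CategoryTheory Limits

theorem isQCoh_colimit {R : CommRingCat.{u}} {J : Type u} [SmallCategory J]
    (F : J ⥤ (Spec R).Modules) (hF : ∀ j, (F.obj j).IsQuasicoherent) :
    (colimit F).IsQuasicoherent := by
  apply Groth.Agent.S9496.isQCoh_of_mem_essImage
  have hiso : ∀ j, IsIso ((Functor.whiskerLeft F (tilde.adjunction (R := R)).counit).app j) := by
    intro j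
    have := hF j
    exact Scheme.Modules.isIso_fromTildeΓ_of_isQuasicoherent (F.obj j)
  have : IsIso (Functor.whiskerLeft F (tilde.adjunction (R := R)).counit) :=
    NatIso.isIso_of_isIso_app _
  let e : (F ⋙ moduleSpecΓFunctor) ⋙ tilde.functor R ≅ F :=
    (Functor.associator _ _ _) ≪≫ asIso (Functor.whiskerLeft F (tilde.adjunction (R := R)).counit)
      ≪≫ F.rightUnitor
  exact ⟨colimit (F ⋙ moduleSpecΓFunctor),
    ⟨preservesColimitIso (tilde.functor R) (F ⋙ moduleSpecΓFunctor) ≪≫
      HasColimit.isoOfNatIso e⟩⟩


open AlgebraicGeometry in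
open CategoryTheory Limits in
/-- Let X = Spec A be an affine scheme and F : J → Mod(O_X) a small diagram of quasi-coherent
O_X-modules. Then the colimit of F, computed in the category of all O_X-modules, is quasi-coherent
(this contains the case of arbitrary direct sums). -/
theorem result
    (A : Type u) [CommRing A] {J : Type u} [SmallCategory J]
    (F : J ⥤ (Spec (CommRingCat.of A)).Modules) (hF : ∀ j, Coh.IsQCoh (F.obj j)) :
    Coh.IsQCoh (colimit F) := by
  exact isQCoh_colimit (R := CommRingCat.of A) F hF

end Groth.Agent.S9497
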