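import Groth.Statements.S9500
import Mathlib

set_option autoImplicit false
universe u
open SchMor

namespace Groth.Agent.S9500

open AlgebraicGeometry in
open CategoryTheory Limits in
/-- Let (k_i)_{i ∈ ι} be a family of fields, X = ∐_i Spec(k_i) the disjoint union, and f : Y → X a
monomorphism of schemes. Then there are a subset J of ι and an isomorphism Y ≅ ∐_{j ∈ J} Spec(k_j)
over X, where ∐_{j ∈ J} Spec(k_j) maps to X by the coproduct inclusions. -/
theorem result
    {ι : Type u} (k : ι → Type u) [∀ i, Field (k i)]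
    {Y : Scheme.{u}} (f : Y ⟶ ∐ fun i => Spec (CommRingCat.of (k i))) [Mono f] :
    ∃ (J : Set ι) (e : Y ≅ ∐ fun j : J => Spec (CommRingCat.of (k j.1))),
      e.hom ≫ Sigma.desc (fun j : J => Sigma.ι (fun i => Spec (CommRingCat.of (k i))) j.1) = f := by
  classical
  let g : ι → Scheme.{u} := fun i => Spec (CommRingCat.of (k i))
  let J : Set ι := {i | ∃ y : Y, f.base y ∈ Set.range (Sigma.ι g i).base}
  have hiso : ∀ j : J, IsIso (pullback.snd f (Sigma.ι g j.1)) := by
    intro j
    obtain ⟨y, z, hz⟩ := j.2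
    have hsurj : Surjective (pullback.snd f (Sigma.ι g j.1)) := by
      constructor
      intro w
      obtain ⟨p, hp1, hp2⟩ := Scheme.Pullback.exists_preimage_pullback y z hz.symm
      exact ⟨p, Subsingleton.elim _ _⟩
    have hinj : Function.Injective (pullback.snd f (Sigma.ι g j.1)).base :=
      (pullback.snd f (Sigma.ι g j.1)).injective
    have hsub : Subsingleton ↑(pullback f (Sigma.ι g j.1)) := hinj.subsingleton
    have hqc : QuasiCompact (pullback.snd f (Sigma.ι g j.1)) := inferInstance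
    exact Flat.isIso_of_surjective_of_mono _
  let α : ∀ j : J, g j.1 ⟶ Y := fun j =>
    inv (pullback.snd f (Sigma.ι g j.1)) ≫ pullback.fst f (Sigma.ι g j.1)
  have hα : ∀ j, α j ≫ f = Sigma.ι g j.1 := by
    intro j
    simp only [α, Category.assoc, pullback.condition]
    rw [IsIso.inv_hom_id_assoc]
  have hαopen : ∀ j, IsOpenImmersion (α j) := fun j => inferInstance
  have hrange : ∀ j : J, (α j).opensRange = f ⁻¹ᵁ (Sigma.ι g j.1).opensRange := by
    intro j
    rw [Scheme.Hom.opensRange_comp_of_isIso, Scheme.Hom.opensRange_pullbackFst]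
  have hcov : ⨆ j, (α j).opensRange = ⊤ := by
    rw [eq_top_iff]
    intro y _
    obtain ⟨i, z, hz⟩ := (sigmaOpenCover g).exists_eq (f.base y)
    have hi : i ∈ J := ⟨y, z, hz⟩
    rw [TopologicalSpace.Opens.mem_iSup]
    refine ⟨⟨i, hi⟩, ?_⟩
    rw [hrange]
    exact ⟨z, hz⟩
  have hdisj : Pairwise (Function.onFun Disjoint (fun j => (α j).opensRange)) := by
    intro j j' hjj'
    simp only [Function.onFun, hrange]
    have hne : j.1 ≠ j'.1 := fun h => hjj' (Subtype.ext h)
    have := disjoint_opensRange_sigmaι g j.1 j'.1 hne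
    rw [disjoint_iff] at this ⊢
    rw [← Scheme.Hom.preimage_inf, this]
    rfl
  obtain ⟨hc⟩ := nonempty_isColimit_cofanMk_of α hcov hdisj
  let e : Y ≅ ∐ fun j : J => Spec (CommRingCat.of (k j.1)) :=
    hc.coconePointUniqueUpToIso (colimit.isColimit _)
  refine ⟨J, e, ?_⟩
  apply Cofan.IsColimit.hom_ext hc
  intro j
  have h1 : α j ≫ e.hom = Sigma.ι (fun j : J => Spec (CommRingCat.of (k j.1))) j :=
    hc.comp_coconePointUniqueUpToIso_hom (colimit.isColimit _) ⟨j⟩
  show α j ≫ e.hom ≫ _ = α j ≫ f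
  rw [reassoc_of% h1, hα]
  simp
  rfl

end Groth.Agent.S9500
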