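import Groth.Statements.S9508
import Mathlib

set_option autoImplicit false
universe u
open SchMor

namespace Groth.Agent.S9508

open AlgebraicGeometry in
open CategoryTheory in
/-- (1) ⇔ (2): A morphism of schemes f : X → S is quasi-separated if and only if, whenever two affine
opens U and V of X both lie in the preimage f⁻¹(W) of one affine open W of S, their intersection U ∩
V is quasi-compact (equivalently, is covered by finitely many affine opens). -/
theorem result
    {X S : Scheme.{u}} (f : X ⟶ S) :
    QuasiSeparated f ↔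
      ∀ (U V : X.affineOpens) (W : S.affineOpens),
        (U : X.Opens) ≤ f ⁻¹ᵁ (W : S.Opens) → (V : X.Opens) ≤ f ⁻¹ᵁ (W : S.Opens) →
          IsCompact ((U : Set X) ∩ (V : Set X)) := by
  constructor
  · intro hf U V W hU hV
    have := f.isQuasiSeparated_preimage (W.2.isQuasiSeparated)
    exact this U V hU U.1.isOpen U.2.isCompact hV V.1.isOpen V.2.isCompact
  · intro H
    rw [HasAffineProperty.iff_of_iSup_eq_top (P := @QuasiSeparated) (fun W : S.affineOpens => W)
      (iSup_affineOpens_eq_top S)]
    intro W
    show QuasiSeparatedSpace ↥(f ⁻¹ᵁ W.1)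
    refine (isQuasiSeparated_iff_quasiSeparatedSpace _ (f ⁻¹ᵁ W.1).isOpen).mp ?_
    intro U V hU hUo hUc hV hVo hVc
    obtain ⟨SU, hSU, rfl⟩ :=
      isCompact_and_isOpen_iff_finite_and_eq_biUnion_affineOpens.mp ⟨hUc, hUo⟩
    obtain ⟨SV, hSV, rfl⟩ :=
      isCompact_and_isOpen_iff_finite_and_eq_biUnion_affineOpens.mp ⟨hVc, hVo⟩
    rw [Set.iUnion₂_inter]
    refine hSU.isCompact_biUnion fun i hi => ?_
    rw [Set.inter_iUnion₂]
    refine hSV.isCompact_biUnion fun j hj => ?_
    refine H i j W ?_ ?_
    · intro x hx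
      exact hU (Set.mem_biUnion hi hx)
    · intro x hx
      exact hV (Set.mem_biUnion hj hx)

end Groth.Agent.S9508
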