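import Groth.Statements.S9509
import Mathlib

set_option autoImplicit false
universe u
open SchMor

namespace Groth.Agent.S9509

open AlgebraicGeometry CategoryTheory TopologicalSpace in
/-- An open subset covered by affine opens with pairwise compact intersections is
quasi-separated. -/
theorem isQuasiSeparated_of_affine_cover {X : Scheme.{u}} (T : X.Opens) {κ : Type*}
    (V : κ → X.affineOpens) (hV : ⨆ j, (V j : X.Opens) = T)
    (hVV : ∀ j j', IsCompact ((V j : Set X) ∩ (V j' : Set X))) :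
    IsQuasiSeparated (T : Set X) := by
  -- good sets: compact opens inside some `V j`
  have step1 : ∀ U : Set X, U ⊆ (T : Set X) → IsOpen U → IsCompact U →
      ∃ (t : Finset X) (A : X → Set X), (∀ x ∈ t, IsOpen (A x) ∧ IsCompact (A x) ∧
        ∃ j, A x ⊆ (V j : Set X)) ∧ U = ⋃ x ∈ t, A x := by
    intro U hUT hUo hUc
    have hx : ∀ x ∈ U, ∃ A : Set X, (IsOpen A ∧ IsCompact A ∧ ∃ j, A ⊆ (V j : Set X)) ∧
        x ∈ A ∧ A ⊆ U := by
      intro x hxU
      have hxT : x ∈ T := hUT hxU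
      rw [← hV, Opens.mem_iSup] at hxT
      obtain ⟨j, hxj⟩ := hxT
      have hmem : x ∈ (⟨U, hUo⟩ : X.Opens) ⊓ (V j : X.Opens) := ⟨hxU, hxj⟩
      obtain ⟨A, hA, hxA, hAle⟩ := Opens.isBasis_iff_nbhd.mp X.isBasis_affineOpens hmem
      exact ⟨A, ⟨A.isOpen, IsAffineOpen.isCompact hA, j, fun y hy => (hAle hy).2⟩, hxA,
        fun y hy => (hAle hy).1⟩
    choose! A hA hxA hAU using hx
    obtain ⟨t, htU, hUt⟩ := hUc.elim_nhds_subcover A (fun x hx => (hA x hx).1.mem_nhds (hxA x hx))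
    refine ⟨t, A, fun x hx => hA x (htU x hx), ?_⟩
    apply subset_antisymm hUt
    exact Set.iUnion₂_subset fun x hx => hAU x (htU x hx)
  have step2 : ∀ (A A' : Set X), (IsOpen A ∧ IsCompact A ∧ ∃ j, A ⊆ (V j : Set X)) →
      (IsOpen A' ∧ IsCompact A' ∧ ∃ j, A' ⊆ (V j : Set X)) → IsCompact (A ∩ A') := by
    rintro A A' ⟨hAo, hAc, j, hAj⟩ ⟨hA'o, hA'c, j', hA'j'⟩
    have hCo : IsOpen ((V j : Set X) ∩ (V j' : Set X)) := (V j).1.isOpen.inter (V j').1.isOpen
    have hqs : IsQuasiSeparated ((V j : X.Opens) : Set X) := (V j).2.isQuasiSeparated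
    have hqs' : IsQuasiSeparated ((V j' : X.Opens) : Set X) := (V j').2.isQuasiSeparated
    have h1 : IsCompact (A ∩ ((V j : Set X) ∩ (V j' : Set X))) :=
      hqs _ _ hAj hAo hAc Set.inter_subset_left hCo (hVV j j')
    have h2 : IsCompact (A' ∩ ((V j : Set X) ∩ (V j' : Set X))) :=
      hqs' _ _ hA'j' hA'o hA'c Set.inter_subset_right hCo (hVV j j')
    have h3 : IsCompact ((A ∩ ((V j : Set X) ∩ (V j' : Set X))) ∩
        (A' ∩ ((V j : Set X) ∩ (V j' : Set X)))) :=
      hqs _ _ (Set.inter_subset_left.trans hAj) (hAo.inter hCo) h1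
        (Set.inter_subset_right.trans Set.inter_subset_left) (hA'o.inter hCo) h2
    convert h3 using 1
    ext y
    simp only [Set.mem_inter_iff]
    constructor
    · rintro ⟨h, h'⟩
      exact ⟨⟨h, hAj h, hA'j' h'⟩, h', hAj h, hA'j' h'⟩
    · rintro ⟨⟨h, -⟩, h', -⟩
      exact ⟨h, h'⟩
  intro U U' hU hUo hUc hU' hU'o hU'c
  obtain ⟨t, A, hA, rfl⟩ := step1 U hU hUo hUc
  obtain ⟨t', A', hA', rfl⟩ := step1 U' hU' hU'o hU'c
  rw [Set.iUnion₂_inter]
  refine t.finite_toSet.isCompact_biUnion fun x hx => ?_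
  rw [Set.inter_iUnion₂]
  refine t'.finite_toSet.isCompact_biUnion fun x' hx' => ?_
  exact step2 _ _ (hA x hx) (hA' x' hx')

open AlgebraicGeometry in
open CategoryTheory in
/-- (3) ⇒ (1): Let f : X → S be a morphism of schemes. Suppose S is covered by affine opens W_i, each
preimage f⁻¹(W_i) is covered by affine opens V_{i,j}, and any two V_{i,j}, V_{i,j'} with the same
index i meet in a quasi-compact open (one covered by finitely many affine opens). Then f is
quasi-separated. -/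
theorem result
    {X S : Scheme.{u}} (f : X ⟶ S) {ι : Type u} (W : ι → S.affineOpens)
    (hW : ⨆ i, (W i : S.Opens) = ⊤) {κ : ι → Type u} (V : ∀ i, κ i → X.affineOpens)
    (hV : ∀ i, ⨆ j, (V i j : X.Opens) = f ⁻¹ᵁ (W i : S.Opens))
    (hVV : ∀ i (j j' : κ i), IsCompact ((V i j : Set X) ∩ (V i j' : Set X))) :
    QuasiSeparated f := by
  rw [HasAffineProperty.iff_of_iSup_eq_top (P := @QuasiSeparated) W hW]
  intro i
  show QuasiSeparatedSpace ↥(f ⁻¹ᵁ (W i).1)
  refine (isQuasiSeparated_iff_quasiSeparatedSpace _ (f ⁻¹ᵁ (W i).1).isOpen).mp ?_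
  exact isQuasiSeparated_of_affine_cover _ (V i) (hV i) (hVV i)

end Groth.Agent.S9509
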