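import Groth.Statements.S9512
import Mathlib

set_option autoImplicit false
universe u
open LRSImm

namespace Groth.Agent.S9512

open AlgebraicGeometry in
open CategoryTheory Opposite in
/-- Let X be a locally ringed space, Y = Spec R an affine scheme and f : X → Y a morphism of locally
ringed spaces. Given a point x of X, the image f(x) is the prime of R obtained as the inverse image
of the maximal ideal of O_{X,x} under the composite R = Γ(Y, O_Y) → Γ(X, O_X) → O_{X,x}. -/
theorem result
    (X : LocallyRingedSpace.{u}) (R : CommRingCat.{u})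
    (f : X ⟶ (Spec R).toLocallyRingedSpace) (x : X.toTopCat) :
    f.base x = PrimeSpectrum.comap
      ((Scheme.ΓSpecIso R).inv ≫ f.c.app (op ⊤) ≫ X.presheaf.germ ⊤ x trivial).hom
      (IsLocalRing.closedPoint (X.presheaf.stalk x)) := by
  have hloc : PrimeSpectrum.comap (f.stalkMap x).hom (IsLocalRing.closedPoint (X.presheaf.stalk x)) =
      IsLocalRing.closedPoint _ := IsLocalRing.comap_closedPoint (f.stalkMap x).hom
  have hgerm : (Spec R).presheaf.germ ⊤ (f.base x) trivial ≫ f.stalkMap x =
      f.c.app (op ⊤) ≫ X.presheaf.germ ⊤ x trivial :=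
    LocallyRingedSpace.stalkMap_germ f ⊤ x trivial
  have h1 : (Scheme.ΓSpecIso R).inv ≫ f.c.app (op ⊤) ≫ X.presheaf.germ ⊤ x trivial =
      ((Scheme.ΓSpecIso R).inv ≫ (Spec R).presheaf.germ ⊤ (f.base x) trivial) ≫ f.stalkMap x := by
    rw [Category.assoc, hgerm]
  rw [h1, CommRingCat.hom_comp, PrimeSpectrum.comap_comp_apply, hloc]
  have h2 : (Scheme.ΓSpecIso R).inv ≫ (Spec R).presheaf.germ ⊤ (f.base x) trivial =
      StructureSheaf.toStalk R (f.base x) := rfl
  rw [h2]
  apply PrimeSpectrum.ext
  exact (IsLocalization.AtPrime.under_maximalIdeal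
    ((Spec.structureSheaf R).presheaf.stalk (f.base x)) (PrimeSpectrum.asIdeal (f.base x))).symm

end Groth.Agent.S9512
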