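import Groth.Statements.S9549
import Mathlib
import Groth.Agent.S2821
import Groth.Agent.Lib.ExtInv8_helper5
import Groth.Agent.Lib.ParaUfd4_helper5
import Groth.Agent.Lib.Tens49_helper8

set_option autoImplicit false
universe u
open CategoryTheory AlgebraicGeometry
open ParaF

namespace Groth.Agent.S9549

/-- For a regular local ring A the Picard group of the punctured spectrum is trivial: every invertible
module on Spec A ∖ {𝔪} is isomorphic to the structure sheaf. -/
theorem result (A : Type u) [CommRing A] [IsRegularLocalRing A] :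
    ParaF.PicTrivial (↑(FEt.puncturedSpec A) : Scheme.{u}) := by
  intro L hL
  obtain ⟨hd, hufd⟩ := Groth.Agent.S2821.result A
  haveI := hd
  haveI := hufd
  haveI : IsNoetherianRing A := inferInstance
  obtain ⟨L', hL', ⟨α⟩⟩ := Groth.Agent.ExtInv.exists_extension (Spec (CommRingCat.of A))
    (FEt.puncturedSpec A) L hL (fun x _ => (Groth.Agent.ParaUfd.ufd_stalk A x).2)
  obtain ⟨β⟩ := TensH8.picTrivial_spec_local A L' hL'
  exact ⟨α.symm ≪≫ (Scheme.Modules.restrictFunctor (FEt.puncturedSpec A).ι).mapIso β ≪≫
    Scheme.Modules.restrictUnitIso (FEt.puncturedSpec A).ι⟩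

end Groth.Agent.S9549
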