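import Groth.Statements.S9562
import Mathlib
import Groth.Agent.Lib.ComplEt_helper8
import Groth.Agent.Lib.ComplMapIso_helper3

set_option autoImplicit false
universe u
open EtLocal

namespace Groth.Agent.S9562

/-- Let A → B be a local homomorphism of Noetherian local rings with B essentially of finite type over
A, and let ψ be the induced map between the completions of A and B at their maximal ideals (a ring
map of the completions whose composite with A → A^ is A → B → B^; such a map is unique). Then A → B
is an étale homomorphism of local rings, i.e. B is flat over A, m_A B = m_B and the residue field of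
B is a finite separable extension of that of A, if and only if ψ is an étale ring map; moreover in
that case the completion of B is, through ψ, a free module of finite positive rank over the
completion of A. (The published statement lists a third equivalent condition, that ψ is itself an
étale homomorphism of local rings; this row keeps the two outer ones.) -/
theorem result (A B : Type u) [CommRing A] [CommRing B]
    [IsLocalRing A] [IsLocalRing B] [IsNoetherianRing A] [IsNoetherianRing B] [Algebra A B]
    [IsLocalHom (algebraMap A B)] [Algebra.EssFiniteType A B]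
    (ψ : AdicCompletion (IsLocalRing.maximalIdeal A) A →+* AdicCompletion (IsLocalRing.maximalIdeal B) B)
    (hψ : ψ.comp (algebraMap A (AdicCompletion (IsLocalRing.maximalIdeal A) A)) =
      (algebraMap B (AdicCompletion (IsLocalRing.maximalIdeal B) B)).comp (algebraMap A B)) :
    ((Module.Flat A B ∧ (IsLocalRing.maximalIdeal A).map (algebraMap A B) = IsLocalRing.maximalIdeal B ∧
        Module.Finite (IsLocalRing.ResidueField A) (IsLocalRing.ResidueField B) ∧
        Algebra.IsSeparable (IsLocalRing.ResidueField A) (IsLocalRing.ResidueField B)) ↔ ψ.Etale) ∧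
      (ψ.Etale →
        letI := ψ.toAlgebra
        ∃ n : ℕ, 0 < n ∧
          Nonempty ((Fin n → AdicCompletion (IsLocalRing.maximalIdeal A) A) ≃ₗ[AdicCompletion (IsLocalRing.maximalIdeal A) A]
            AdicCompletion (IsLocalRing.maximalIdeal B) B)) := by
  have hmain := ComplUnrH8.main A B ψ hψ
  have hflat := Groth.Agent.Lib.ComplMapIsoH3.flat_iff A B ψ hψ
  haveI : IsNoetherianRing (AdicCompletion (IsLocalRing.maximalIdeal A) A) :=
    Groth.Agent.Lib.FFTransferH3.noeth_cpl A
  have hfp : ψ.FiniteType ↔ ψ.FinitePresentation := RingHom.FinitePresentation.of_finiteType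
  have hiff : (Module.Flat A B ∧
      (IsLocalRing.maximalIdeal A).map (algebraMap A B) = IsLocalRing.maximalIdeal B ∧
        Module.Finite (IsLocalRing.ResidueField A) (IsLocalRing.ResidueField B) ∧
        Algebra.IsSeparable (IsLocalRing.ResidueField A) (IsLocalRing.ResidueField B)) ↔
      ψ.Etale := by
    rw [RingHom.Etale.iff_flat_and_formallyUnramified, hflat, RingHom.flat_algebraMap_iff, ← hfp]
    constructor
    · rintro ⟨h0, h123⟩
      obtain ⟨hft, hunr⟩ := hmain.mp h123
      exact ⟨h0, hunr, hft⟩
    · rintro ⟨h0, hunr, hft⟩
      exact ⟨h0, hmain.mpr ⟨hft, hunr⟩⟩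
  refine ⟨hiff, fun het => ?_⟩
  obtain ⟨h0, h1, h2, h3⟩ := hiff.mpr het
  have hfl : ψ.Flat := (RingHom.Etale.iff_flat_and_formallyUnramified.mp het).1
  exact ComplEtH8.free_of_etale A B ψ hψ h1 hfl

end Groth.Agent.S9562
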