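import Groth.Statements.S9580
import Mathlib
import Groth.Agent.Lib.ProjTwUnit_helper5
import Groth.Agent.Lib.WDivSh6_helper8

set_option autoImplicit false
universe u
open CategoryTheory CategoryTheory.Limits AlgebraicGeometry TopologicalSpace Opposite
open Constr

namespace Groth.Agent.S9580

/-- Let S be a graded ring, X = Proj S and Y ⊆ X a quasi-compact open subscheme. Then there is an
integer d ≥ 1 such that Y is contained in the open W_d, the union of the standard opens D_+(ab) over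
homogeneous a, b with deg a = deg b + d, and such that the restriction O_Y(nd) of O_X(nd) to Y is
invertible for every integer n. (The remaining assertions — the multiplication maps among the
O_Y(nd) and M~(nd) are isomorphisms, D_+(f) ∩ Y = Y_s, and the loci Y_s form a basis — are not
stated here.) -/
theorem result {R A : Type u} [CommRing R] [CommRing A] [Algebra R A] (𝒜 : ℕ → Submodule R A) [GradedAlgebra 𝒜]
    (Y : (Proj 𝒜).Opens) (hY : IsCompact (Y : Set (Proj 𝒜))) :
    ∃ d : ℕ, 0 < d ∧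
      (∀ y : Proj 𝒜, y ∈ Y → ∃ (i j : ℕ) (a b : A), a ∈ 𝒜 i ∧ b ∈ 𝒜 j ∧ i = j + d ∧ y ∈ Proj.basicOpen 𝒜 (a * b)) ∧
      ∀ n : ℤ, PicF.IsInvertible ((Twist.twist 𝒜 (n * d)).restrict Y.ι) := by
  obtain ⟨d, hd, hcov⟩ := Groth.Agent.ProjTw.exists_deg_cover 𝒜 Y hY
  refine ⟨d, hd, fun y hy => ?_, fun n => ?_⟩
  · obtain ⟨a, ha, hya, -⟩ := hcov y hy
    refine ⟨d, 0, a, 1, ha, SetLike.GradedOne.one_mem, by omega, ?_⟩
    rw [mul_one]
    exact hya
  · apply TensH8.isInvertible_of_gens
    intro y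
    obtain ⟨a, ha, hya, hle⟩ := hcov y.1 y.2
    refine ⟨Y.ι ⁻¹ᵁ Proj.basicOpen 𝒜 a,
      (Proj.isAffineOpen_basicOpen 𝒜 a ha hd).preimage_of_isOpenImmersion _
        (by rw [Scheme.Opens.opensRange_ι]; exact hle), hya, _,
      WDivShH8.isGen_restrict _ _ (Groth.Agent.ProjTw.isGen_genSec 𝒜 hd ha n) _
        (Scheme.Hom.image_preimage_le _ _)⟩

end Groth.Agent.S9580
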