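import Groth.Statements.S9581
import Groth.Agent.Lib.WeakAssLoc_helper4

set_option autoImplicit false
universe u
open CAlg

namespace Groth.Agent.S9581

/-- (1) ⇔ (3): for a ring R, an R-module M and a prime p of R, the prime p is weakly associated to M
(minimal among the primes containing the annihilator of some element of M) if and only if the
localization M_p contains an element whose annihilator in R_p has radical equal to the maximal ideal
p R_p. -/
theorem result {R : Type u} [CommRing R] (M : Type u) [AddCommGroup M] [Module R M] (p : Ideal R) [p.IsPrime] :
    p ∈ FlatCA.weakAss R M ↔ IsAssociatedPrime (IsLocalRing.maximalIdeal (Localization.AtPrime p)) (LocalizedModule p.primeCompl M) := by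
  open Groth.Agent.Lib.WeakAss_helper4 Groth.Agent.Lib.WeakAssLoc_helper4 in
  have hcolon : ∀ z : LocalizedModule p.primeCompl M,
      Submodule.colon (⊥ : Submodule (Localization.AtPrime p) (LocalizedModule p.primeCompl M)) {z} =
        ann (Localization.AtPrime p) z := by
    intro z
    ext r
    rw [Submodule.mem_colon_singleton, Submodule.mem_bot, mem_ann]
  have hmax : p.map (algebraMap R (Localization.AtPrime p)) =
      IsLocalRing.maximalIdeal (Localization.AtPrime p) :=
    IsLocalization.AtPrime.map_eq_maximalIdeal p _
  constructor
  · rintro ⟨m, hm⟩
    refine ⟨inferInstance, LocalizedModule.mk m 1, ?_⟩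
    rw [hcolon, ann_mk,
      IsLocalization.AtPrime.radical_map_of_mem_minimalPrimes (A := Localization.AtPrime p) p _ hm,
      hmax]
  · rintro ⟨hprime, z, hz⟩
    induction z using LocalizedModule.induction_on with
    | h m s =>
      rw [hcolon, ann_mk] at hz
      refine ⟨m, ?_⟩
      have h1 : IsLocalRing.maximalIdeal (Localization.AtPrime p) ∈
          ((ann R m).map (algebraMap R (Localization.AtPrime p))).minimalPrimes := by
        rw [← Ideal.radical_minimalPrimes, ← hz, Ideal.minimalPrimes_eq_subsingleton_self]
        rfl
      rw [IsLocalization.minimalPrimes_map p.primeCompl, Set.mem_preimage,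
        IsLocalization.AtPrime.under_maximalIdeal _ p] at h1
      exact h1

end Groth.Agent.S9581
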