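import Groth.Statements.S9583
import Groth.Agent.Lib.WeakAss_helper4

set_option autoImplicit false
universe u
open CAlg

namespace Groth.Agent.S9583

/-- For a ring R and a short exact sequence 0 → M' → M → M'' → 0 of R-modules, every prime weakly
associated to M' is weakly associated to M, and every prime weakly associated to M is weakly
associated to M' or to M''. -/
theorem result {R : Type u} [CommRing R] {M' M M'' : Type u} [AddCommGroup M'] [Module R M'] [AddCommGroup M] [Module R M] [AddCommGroup M''] [Module R M''] (f : M' →ₗ[R] M) (g : M →ₗ[R] M'') (hf : Function.Injective f) (hg : Function.Surjective g) (hfg : Function.Exact f g) :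
    FlatCA.weakAss R M' ⊆ FlatCA.weakAss R M ∧ FlatCA.weakAss R M ⊆ FlatCA.weakAss R M' ∪ FlatCA.weakAss R M'' := by
  open Groth.Agent.Lib.WeakAss_helper4 in
  refine ⟨weakAss_subset_of_injective f hf, ?_⟩
  rintro p ⟨m, hm⟩
  have hpp : p.IsPrime := hm.1.1
  by_cases hle : ann R (g m) ≤ p
  · right
    refine ⟨g m, mem_minimalPrimes_of_le hm ?_ hle⟩
    intro r hr
    rw [mem_ann] at hr ⊢
    rw [← map_smul, hr, map_zero]
  · left
    obtain ⟨y, hy, hyp⟩ := SetLike.not_le_iff_exists.mp hle
    rw [mem_ann, ← map_smul] at hy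
    obtain ⟨m', hm'⟩ := (hfg (y • m)).mp hy
    refine ⟨m', ?_⟩
    have heq : ann R m' = ann R (y • m) := by
      ext r
      rw [mem_ann, mem_ann, ← hm', ← map_smul, map_eq_zero_iff f hf]
    show p ∈ (ann R m').minimalPrimes
    rw [heq]
    refine mem_minimalPrimes_of_le hm ?_ ?_
    · intro r hr
      rw [mem_ann] at hr ⊢
      rw [smul_comm, hr, smul_zero]
    · intro x hx
      rw [mem_ann, smul_smul] at hx
      have : x * y ∈ p := hm.1.2 (mem_ann.mpr hx)
      exact (hpp.mem_or_mem this).resolve_right hyp

end Groth.Agent.S9583
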