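import Groth.Statements.S9584
import Groth.Agent.Lib.WeakAss_helper4

set_option autoImplicit false
universe u
open CAlg

namespace Groth.Agent.S9584

/-- For a ring R and an R-module M, M has no weakly associated prime (no prime minimal over the
annihilator of an element) if and only if M = 0. -/
theorem result {R : Type u} [CommRing R] (M : Type u) [AddCommGroup M] [Module R M] :
    FlatCA.weakAss R M = ∅ ↔ Subsingleton M := by
  open Groth.Agent.Lib.WeakAss_helper4 in
  constructor
  · intro h
    by_contra hns
    rw [not_subsingleton_iff_nontrivial] at hns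
    obtain ⟨m, hm⟩ := exists_ne (0 : M)
    obtain ⟨p, hp, -⟩ := exists_mem_weakAss_of_ne_zero (R := R) hm
    rw [h] at hp
    exact hp
  · intro h
    ext p
    simp only [Set.mem_empty_iff_false, iff_false]
    rintro ⟨m, hm⟩
    have : m = 0 := Subsingleton.elim _ _
    subst this
    have h1 : ann R (0 : M) = ⊤ := ann_zero
    have h2 : p ∈ (ann R (0 : M)).minimalPrimes := hm
    rw [h1, Ideal.minimalPrimes_top] at h2
    exact h2

end Groth.Agent.S9584
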