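import Groth.Statements.S9585
import Groth.Agent.Lib.WeakAss_helper4

set_option autoImplicit false
universe u
open CAlg

namespace Groth.Agent.S9585

/-- For a ring R and an R-module M, an element of R lies in some weakly associated prime of M exactly
when multiplication by it on M is not injective; in other words the union of the weakly associated
primes of M equals the set of zerodivisors on M. -/
theorem result {R : Type u} [CommRing R] (M : Type u) [AddCommGroup M] [Module R M] :
    ⋃ q ∈ FlatCA.weakAss R M, (q : Set R) = {f : R | ¬ IsSMulRegular M f} := by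
  open Groth.Agent.Lib.WeakAss_helper4 in
  ext f
  simp only [Set.mem_iUnion, SetLike.mem_coe, exists_prop, Set.mem_ofPred_eq]
  constructor
  · rintro ⟨q, ⟨m, hm⟩, hfq⟩ hreg
    obtain ⟨y, hy, hfy⟩ := exists_smul_eq_zero_of_mem hm hfq
    exact hy (hreg (by show f • (y • m) = f • (0 : M); rw [hfy, smul_zero]))
  · intro hreg
    have : ¬ Function.Injective (fun m : M => f • m) := hreg
    rw [Function.Injective] at this
    push Not at this
    obtain ⟨a, b, hab, hne⟩ := this
    have hm : a - b ≠ 0 := sub_ne_zero.mpr hne
    obtain ⟨p, hp, hle⟩ := exists_mem_weakAss_of_ne_zero (R := R) hm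
    refine ⟨p, hp, hle (mem_ann.mpr ?_)⟩
    rw [smul_sub, hab, sub_self]

end Groth.Agent.S9585
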