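import Groth.Statements.S9586
import Groth.Agent.Lib.WeakAssLoc_helper4

set_option autoImplicit false
universe u
open CAlg

namespace Groth.Agent.S9586

/-- For a ring R, an R-module M and a finitely generated prime ideal p of R, p is associated to M (equal
to the annihilator of an element) if and only if p is weakly associated to M (minimal over the
annihilator of an element). -/
theorem result {R : Type u} [CommRing R] (M : Type u) [AddCommGroup M] [Module R M] (p : Ideal R) [p.IsPrime] (hp : p.FG) :
    p ∈ FlatCA.ass R M ↔ p ∈ FlatCA.weakAss R M := by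
  open Groth.Agent.Lib.WeakAss_helper4 Groth.Agent.Lib.WeakAssLoc_helper4 in
  have hpp : p.IsPrime := inferInstance
  constructor
  · rintro ⟨-, m, hm⟩
    refine ⟨m, ?_⟩
    have hm' : ann R m = p := hm.symm
    show p ∈ (ann R m).minimalPrimes
    rw [hm', Ideal.minimalPrimes_eq_subsingleton_self]
    rfl
  · rintro ⟨m, hm⟩
    -- the ideal of elements killing `x` after multiplying by something outside `p`
    let Ix : M → Ideal R := fun x => ann R (LocalizedModule.mk x (1 : p.primeCompl))
    have hIx : ∀ (x : M) (r : R), r ∈ Ix x ↔ ∃ u : p.primeCompl, ((u : R) * r) • x = 0 :=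
      fun x r => mem_ann_mk_iff p.primeCompl x 1 r
    have h1 : p ≤ (Ix m).radical := by
      intro t ht
      obtain ⟨s, hs, n, hn⟩ := exists_mul_pow_mem hm ht
      exact ⟨n, (hIx _ _).mpr ⟨⟨s, hs⟩, mem_ann.mp hn⟩⟩
    have hIm_le : Ix m ≤ p := by
      intro r hr
      obtain ⟨u, hu⟩ := (hIx _ _).mp hr
      have : (u : R) * r ∈ p := hm.1.2 (mem_ann.mpr hu)
      exact (hpp.mem_or_mem this).resolve_left u.2
    have hex : ∃ k : ℕ, p ^ k ≤ Ix m := Ideal.exists_pow_le_of_le_radical_of_fg h1 hp
    classical
    have hk0 : Nat.find hex ≠ 0 := by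
      intro h0
      have := Nat.find_spec hex
      rw [h0, pow_zero, Ideal.one_eq_top] at this
      exact hpp.ne_top (top_le_iff.mp (this.trans hIm_le))
    obtain ⟨j, hj⟩ := Nat.exists_eq_succ_of_ne_zero hk0
    have hjnot : ¬ p ^ j ≤ Ix m := Nat.find_min hex (by omega)
    have hjsucc : p ^ (j + 1) ≤ Ix m := by
      have := Nat.find_spec hex
      rwa [hj] at this
    obtain ⟨y, hy, hyI⟩ := SetLike.not_le_iff_exists.mp hjnot
    -- properties of `m' = y • m`
    have ha : ∀ r : R, r ∈ p → ∃ u : R, u ∉ p ∧ (u * r) • (y • m) = 0 := by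
      intro r hr
      have : r * y ∈ p ^ (j + 1) := by
        rw [pow_succ']
        exact Ideal.mul_mem_mul hr hy
      obtain ⟨u, hu⟩ := (hIx _ _).mp (hjsucc this)
      refine ⟨u, u.2, ?_⟩
      rw [← mul_smul, mul_assoc]
      exact hu
    have hb : ∀ r u : R, u ∉ p → (u * r) • (y • m) = 0 → r ∈ p := by
      intro r u hu h
      by_contra hr
      apply hyI
      refine (hIx _ _).mpr ⟨⟨u * r, ?_⟩, ?_⟩
      · intro hmem
        rcases hpp.mem_or_mem hmem with h' | h'
        · exact hu h'
        · exact hr h'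
      · rw [← mul_smul] at h
        exact h
    choose! u hu1 hu2 using ha
    obtain ⟨s, hs⟩ := hp
    set U : R := ∏ f ∈ s, u f with hU
    have hsp : ∀ f ∈ s, f ∈ p := fun f hf => hs ▸ Ideal.subset_span hf
    have hUp : U ∉ p := by
      rw [hU, Ideal.IsPrime.prod_mem_iff]
      rintro ⟨f, hf, hfp⟩
      exact hu1 f (hsp f hf) hfp
    refine ⟨hpp, U • (y • m), ?_⟩
    apply le_antisymm
    · rw [← hs, Ideal.span_le]
      intro f hf
      rw [SetLike.mem_coe, mem_ann]
      obtain ⟨c, hc⟩ := Finset.dvd_prod_of_mem u hf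
      rw [← hU] at hc
      rw [hc, ← mul_smul, ← mul_smul]
      have : f * (u f * c) * y = c * (u f * f * y) := by ring
      rw [this, mul_smul c, mul_smul (u f * f), hu2 f (hsp f hf), smul_zero]
    · intro r hr
      rw [mem_ann, ← mul_smul, mul_comm] at hr
      exact hb r U hUp hr

end Groth.Agent.S9586
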