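import Groth.Statements.S9594
import Groth.Agent.Lib.WeakAssLoc_helper4

set_option autoImplicit false
universe u
open CAlg

namespace Groth.Agent.S9594

/-- For a ring R, an R-module M and a multiplicative subset S of R, (1) the primes of R associated to
the R-module S⁻¹M are the inverse images of the primes of S⁻¹R associated to S⁻¹M, and (2) a prime
of R associated to M which does not meet S is associated to the R-module S⁻¹M. Here a prime is
associated to a module when it equals the annihilator of some element. -/
theorem result {R : Type u} [CommRing R] (S : Submonoid R) (M : Type u) [AddCommGroup M] [Module R M] :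
    FlatCA.ass R (LocalizedModule S M) = Ideal.comap (algebraMap R (Localization S)) '' FlatCA.ass (Localization S) (LocalizedModule S M) ∧
      ∀ p ∈ FlatCA.ass R M, Disjoint (S : Set R) (p : Set R) → p ∈ FlatCA.ass R (LocalizedModule S M) := by
  open Groth.Agent.Lib.WeakAss_helper4 Groth.Agent.Lib.WeakAssLoc_helper4 in
  refine ⟨?_, ?_⟩
  · ext p
    constructor
    · rintro ⟨hp, z, hz⟩
      have hz' : p = ann R z := hz
      -- `p` is disjoint from `S`
      have hdisj : Disjoint (S : Set R) (p : Set R) := by
        rw [Set.disjoint_left]
        intro u huS hup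
        apply hp.ne_top
        rw [hz'] at hup ⊢
        have hz0 : z = 0 := by
          induction z using LocalizedModule.induction_on with
          | h m s =>
            rw [SetLike.mem_coe, mem_ann_mk_iff] at hup
            obtain ⟨v, hv⟩ := hup
            rw [mk_eq_zero_iff]
            exact ⟨v * ⟨u, huS⟩, hv⟩
        rw [hz0]
        exact ann_zero
      refine ⟨ann (Localization S) z, ⟨?_, z, rfl⟩, ?_⟩
      · have h1 : ann (Localization S) z = p.map (algebraMap R (Localization S)) := by
          rw [hz', ann_eq_comap, IsLocalization.map_comap S]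
        rw [h1]
        exact IsLocalization.isPrime_of_isPrime_disjoint S _ p hp hdisj
      · rw [hz', ann_eq_comap]
    · rintro ⟨q, ⟨hq, z, hz⟩, rfl⟩
      refine ⟨Ideal.IsPrime.comap _, z, ?_⟩
      show Ideal.comap (algebraMap R (Localization S)) q = ann R z
      rw [ann_eq_comap, hz]
  · rintro p ⟨hp, m, hm⟩ hdisj
    refine ⟨hp, LocalizedModule.mk m 1, ?_⟩
    show p = ann R (LocalizedModule.mk m (1 : S))
    ext r
    rw [mem_ann_mk_iff]
    constructor
    · intro hr
      refine ⟨1, ?_⟩
      rw [hm] at hr
      simpa using mem_ann.mp hr
    · rintro ⟨u, hu⟩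
      have h1 : (u : R) * r ∈ p := by rw [hm]; exact mem_ann.mpr hu
      refine (hp.mem_or_mem h1).resolve_left ?_
      intro hup
      exact Set.disjoint_left.mp hdisj u.2 hup

end Groth.Agent.S9594
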