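import Groth.Statements.S9597
import Mathlib

set_option autoImplicit false
universe u
open CAlg

namespace Groth.Agent.S9597

/-- Let R be a Noetherian ring, M a finite R-module whose associated primes are pairwise incomparable
under inclusion (M has no embedded associated primes), and I the annihilator of M. Then the
associated primes of R/I, viewed as a module over itself, are again pairwise incomparable: R/I has
no embedded primes either. -/
theorem result {R : Type u} [CommRing R] [IsNoetherianRing R] (M : Type u) [AddCommGroup M] [Module R M] [Module.Finite R M] (hM : ∀ p ∈ associatedPrimes R M, ∀ q ∈ associatedPrimes R M, p ≤ q → p = q) :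
    ∀ p ∈ associatedPrimes (R ⧸ Module.annihilator R M) (R ⧸ Module.annihilator R M), ∀ q ∈ associatedPrimes (R ⧸ Module.annihilator R M) (R ⧸ Module.annihilator R M), p ≤ q → p = q := by
  obtain ⟨s, hs⟩ := (Module.finite_def (R := R) (M := M)).mp inferInstance
  have key : ∀ P : Ideal (R ⧸ Module.annihilator R M),
      P ∈ associatedPrimes (R ⧸ Module.annihilator R M) (R ⧸ Module.annihilator R M) →
      P.comap (Ideal.Quotient.mk (Module.annihilator R M)) ∈ associatedPrimes R M := by
    intro P hP
    obtain ⟨hPprime, zbar, hz⟩ := isAssociatedPrime_iff.mp hP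
    obtain ⟨z, rfl⟩ := Ideal.Quotient.mk_surjective zbar
    have hcomap : ∀ r : R, r ∈ P.comap (Ideal.Quotient.mk (Module.annihilator R M)) ↔
        ∀ m ∈ s, (r * z) • m = 0 := by
      intro r
      rw [Ideal.mem_comap, hz, Submodule.mem_colon_singleton, Submodule.mem_bot, smul_eq_mul,
        ← map_mul, Ideal.Quotient.eq_zero_iff_mem, Module.mem_annihilator]
      constructor
      · intro h m _
        exact h m
      · intro h m
        have hm : m ∈ Submodule.span R (s : Set M) := hs ▸ Submodule.mem_top
        induction hm using Submodule.span_induction with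
        | mem x hx => exact h x hx
        | zero => exact smul_zero _
        | add x y _ _ hx hy => rw [smul_add, hx, hy, add_zero]
        | smul a x _ hx => rw [smul_comm, hx, smul_zero]
    have hprime : (P.comap (Ideal.Quotient.mk (Module.annihilator R M))).IsPrime :=
      Ideal.IsPrime.comap _
    have hinf : s.inf (fun m => Submodule.colon (⊥ : Submodule R M) {z • m}) ≤
        P.comap (Ideal.Quotient.mk (Module.annihilator R M)) := by
      intro r hr
      rw [hcomap]
      intro m hm
      have := (Finset.inf_le hm : s.inf (fun m => Submodule.colon (⊥ : Submodule R M) {z • m}) ≤ _) hr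
      rwa [Submodule.mem_colon_singleton, Submodule.mem_bot, smul_smul] at this
    obtain ⟨m₀, hm₀, hle⟩ := (hprime.inf_le').mp hinf
    refine isAssociatedPrime_iff.mpr ⟨hprime, z • m₀, le_antisymm ?_ hle⟩
    intro r hr
    rw [Submodule.mem_colon_singleton, Submodule.mem_bot, smul_smul]
    exact (hcomap r).mp hr m₀ hm₀
  intro p hp q hq hpq
  have := hM _ (key p hp) _ (key q hq) (Ideal.comap_mono hpq)
  exact Ideal.comap_injective_of_surjective _ Ideal.Quotient.mk_surjective this

end Groth.Agent.S9597
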