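import Groth.Statements.S9598
import Mathlib

set_option autoImplicit false
universe u
open CAlg

namespace Groth.Agent.S9598

/-- For a field k and a finite type k-algebra S with dim S > 0, some element of S is a nonzerodivisor
and a nonunit. -/
theorem result {k S : Type u} [Field k] [CommRing S] [Algebra k S] [Algebra.FiniteType k S] (hdim : 0 < ringKrullDim S) :
    ∃ f : S, f ∈ nonZeroDivisors S ∧ ¬ IsUnit f := by
  have hN : IsNoetherianRing S := Algebra.FiniteType.isNoetherianRing k S
  have hJ : IsJacobsonRing S := isJacobsonRing_of_finiteType (A := k)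
  have hfin : (associatedPrimes S S).Finite := associatedPrimes.finite S S
  -- there is a maximal ideal that is not an associated prime
  have hex : ∃ m : Ideal S, m.IsMaximal ∧ m ∉ associatedPrimes S S := by
    by_contra hcon
    push Not at hcon
    have hall : ∀ P : Ideal S, P.IsPrime → P.IsMaximal := by
      intro P hP
      have hjac : P.jacobson = P := IsJacobsonRing.out hJ hP.isRadical
      have hTfin : {J : Ideal S | P ≤ J ∧ J.IsMaximal}.Finite :=
        hfin.subset (fun J hJ => hcon J hJ.2)
      have hle : sInf {J : Ideal S | P ≤ J ∧ J.IsMaximal} ≤ P := hjac.le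
      rw [← hTfin.coe_toFinset, ← Finset.inf_id_eq_sInf] at hle
      obtain ⟨J, hJ, hJP⟩ := (hP.inf_le').mp hle
      have hJT : P ≤ J ∧ J.IsMaximal := hTfin.mem_toFinset.mp hJ
      have hJeq : J = P := le_antisymm hJP hJT.1
      exact hJeq ▸ hJT.2
    have h0 : Ring.KrullDimLE 0 S := Ring.krullDimLE_zero_iff.mpr hall
    have h1 : ringKrullDim S ≤ 0 := by
      have := Ring.krullDimLE_iff.mp h0
      simpa using this
    exact absurd hdim (not_lt.mpr h1)
  obtain ⟨m, hm, hmass⟩ := hex
  -- prime avoidance
  have hnot : ¬ ((m : Set S) ⊆ ⋃ p ∈ associatedPrimes S S, (p : Set S)) := by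
    intro hsub
    have hsub' : (m : Set S) ⊆ ⋃ p ∈ (↑hfin.toFinset : Set (Ideal S)), ((id p : Ideal S) : Set S) := by
      simpa using hsub
    obtain ⟨p, hp, hmp⟩ := (Ideal.subset_union_prime (f := id) ⊥ ⊥ (fun p hp _ _ => by
      have : p ∈ associatedPrimes S S := hfin.mem_toFinset.mp hp
      exact this.isPrime)).mp hsub'
    have hp' : p ∈ associatedPrimes S S := hfin.mem_toFinset.mp hp
    have : m = p := hm.eq_of_le hp'.isPrime.ne_top hmp
    exact hmass (this ▸ hp')
  obtain ⟨f, hfm, hfnot⟩ := Set.not_subset.mp hnot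
  rw [biUnion_associatedPrimes_eq_compl_nonZeroDivisors, Set.mem_compl_iff, not_not] at hfnot
  refine ⟨f, hfnot, fun hu => ?_⟩
  exact hm.ne_top (Ideal.eq_top_of_isUnit_mem _ hfm hu)

end Groth.Agent.S9598
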