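import Groth.Statements.S9599
import Mathlib
import Groth.Agent.Lib.FlatLift_helper9

set_option autoImplicit false
universe u
open CAlg

namespace Groth.Agent.S9599

/-- For a ring R, an ideal I of R and a short exact sequence 0 → K → M → N → 0 of R-modules with N flat
over R, the induced sequence of I-adic completions 0 → K^ → M^ → N^ → 0 is again short exact. -/
theorem result {R : Type u} [CommRing R] (I : Ideal R) {K M N : Type u} [AddCommGroup K] [Module R K] [AddCommGroup M] [Module R M] [AddCommGroup N] [Module R N] [Module.Flat R N] (i : K →ₗ[R] M) (g : M →ₗ[R] N) (hi : Function.Injective i) (hg : Function.Surjective g) (hig : Function.Exact i g) :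
    Function.Injective (AdicCompletion.map I i) ∧ Function.Exact (AdicCompletion.map I i) (AdicCompletion.map I g) ∧ Function.Surjective (AdicCompletion.map I g) := by

  classical
  -- `i(K) ∩ IⁿM = Iⁿ i(K)` by flatness of `N`
  have key : ∀ (n : ℕ) (k : K), i k ∈ (I ^ n • ⊤ : Submodule R M) →
      k ∈ (I ^ n • ⊤ : Submodule R K) := by
    intro n k hk
    have h0 : g (i k) = 0 := hig.apply_apply_eq_zero k
    have h1 := Groth.Agent.Lib.FlatLift.mem_smul_ker_of_flat (I ^ n) g hg hk h0
    have h2 : LinearMap.ker g = Submodule.map i ⊤ := by
      rw [Submodule.map_top, hig.linearMap_ker_eq]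
    rw [h2, ← Submodule.map_smul''] at h1
    obtain ⟨k', hk', hkk'⟩ := h1
    rwa [← hi hkk']
  have hsmod : ∀ (n : ℕ) (X : Type u) [AddCommGroup X] [Module R X] (x : X),
      Submodule.mkQ (I ^ n • ⊤ : Submodule R X) x = 0 ↔ x ∈ (I ^ n • ⊤ : Submodule R X) := by
    intro n X _ _ x
    rw [Submodule.mkQ_apply, Submodule.Quotient.mk_eq_zero]
  refine ⟨?_, ?_, AdicCompletion.map_surjective I hg⟩
  · -- injectivity
    rw [injective_iff_map_eq_zero]
    intro x hx
    induction x using AdicCompletion.induction_on with
    | h a =>
      rw [AdicCompletion.map_mk] at hx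
      ext n
      have h1 := congrArg (fun z => z.val n) hx
      simp only [AdicCompletion.mk_apply_coe, AdicCompletion.val_zero, Pi.zero_apply] at h1
      rw [AdicCompletion.mk_apply_coe, AdicCompletion.val_zero, Pi.zero_apply, hsmod]
      rw [hsmod] at h1
      exact key n (a n) h1
  · -- exactness
    intro y
    constructor
    · intro hy
      induction y using AdicCompletion.induction_on with
      | h m =>
        rw [AdicCompletion.map_mk] at hy
        have h1 : ∀ n, g (m n) ∈ (I ^ n • ⊤ : Submodule R N) := by
          intro n
          have h1 := congrArg (fun z => z.val n) hy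
          simp only [AdicCompletion.mk_apply_coe, AdicCompletion.val_zero, Pi.zero_apply] at h1
          rw [hsmod] at h1
          exact h1
        have h2 : ∀ n, ∃ u ∈ (I ^ n • ⊤ : Submodule R M), g u = g (m n) := by
          intro n
          have h3 : (I ^ n • ⊤ : Submodule R N) = Submodule.map g (I ^ n • ⊤ : Submodule R M) := by
            rw [Submodule.map_smul'', Submodule.map_top, LinearMap.range_eq_top.mpr hg]
          have h4 := h1 n
          rw [h3] at h4
          obtain ⟨u, hu, hgu⟩ := h4
          exact ⟨u, hu, hgu⟩
        choose u hu hgu using h2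
        have h5 : ∀ n, ∃ k : K, i k = m n - u n := by
          intro n
          have : g (m n - u n) = 0 := by rw [map_sub, hgu, sub_self]
          exact (hig _).mp this
        choose k hk using h5
        have hcauchy : ∀ n, k n ≡ k (n + 1) [SMOD (I ^ n • ⊤ : Submodule R K)] := by
          intro n
          rw [SModEq.sub_mem]
          apply key
          rw [map_sub, hk, hk]
          have h6 : m n - m (n + 1) ∈ (I ^ n • ⊤ : Submodule R M) :=
            SModEq.sub_mem.mp (m.property (Nat.le_succ n))
          have h7 : u (n + 1) ∈ (I ^ n • ⊤ : Submodule R M) :=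
            Submodule.smul_mono_left (Ideal.pow_le_pow_right (Nat.le_succ n)) (hu (n + 1))
          have : m n - u n - (m (n + 1) - u (n + 1)) = (m n - m (n + 1)) - u n + u (n + 1) := by
            abel
          rw [this]
          exact add_mem (sub_mem h6 (hu n)) h7
        refine ⟨AdicCompletion.mk I K (AdicCompletion.AdicCauchySequence.mk I K k hcauchy), ?_⟩
        rw [AdicCompletion.map_mk]
        ext n
        simp only [AdicCompletion.mk_apply_coe]
        rw [← sub_eq_zero, ← map_sub, hsmod]
        show i (k n) - m n ∈ _
        rw [hk]
        have : m n - u n - m n = - u n := by abel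
        rw [this]
        exact neg_mem (hu n)
    · rintro ⟨x, rfl⟩
      rw [AdicCompletion.map_comp_apply]
      have : g ∘ₗ i = 0 := LinearMap.ext (fun k => hig.apply_apply_eq_zero k)
      rw [this, AdicCompletion.map_zero]
      rfl

end Groth.Agent.S9599
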