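import Groth.Statements.S9600
import Mathlib

set_option autoImplicit false
universe u
open CAlg

namespace Groth.Agent.S9600

section aux
variable {R : Type u} [CommRing R] (I : Ideal R) {M N Q : Type u} [AddCommGroup M] [Module R M]
  [AddCommGroup N] [Module R N] [AddCommGroup Q] [Module R Q] (i : M →ₗ[R] N) (g : N →ₗ[R] Q)

theorem pow_smul_top_eq_bot (c : ℕ) (hc : ∀ x ∈ I ^ c, ∀ q : Q, x • q = 0) (n : ℕ) (hn : c ≤ n) :
    (I ^ n • ⊤ : Submodule R Q) = ⊥ := by
  rw [eq_bot_iff]
  refine Submodule.smul_le.mpr ?_
  intro r hr q _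
  rw [Submodule.mem_bot]
  exact hc r (Ideal.pow_le_pow_right hn hr) q

theorem key_le (hig : Function.Exact i g) (c : ℕ) (hc : ∀ x ∈ I ^ c, ∀ q : Q, x • q = 0) (n : ℕ) :
    (I ^ (n + c) • ⊤ : Submodule R N) ≤ Submodule.map i (I ^ n • ⊤) := by
  have h1 : (I ^ c • ⊤ : Submodule R N) ≤ LinearMap.range i := by
    refine Submodule.smul_le.mpr ?_
    intro r hr y _
    rw [← hig.linearMap_ker_eq, LinearMap.mem_ker, map_smul]
    exact hc r hr (g y)
  rw [pow_add, Submodule.mul_smul, Submodule.map_smul'', Submodule.map_top]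
  exact Submodule.smul_mono le_rfl h1

theorem map_inj (hi : Function.Injective i) (hig : Function.Exact i g) (c : ℕ)
    (hc : ∀ x ∈ I ^ c, ∀ q : Q, x • q = 0) : Function.Injective (AdicCompletion.map I i) := by
  rw [injective_iff_map_eq_zero]
  intro x hx
  obtain ⟨a, rfl⟩ := AdicCompletion.mk_surjective I M x
  apply AdicCompletion.ext
  intro n
  have h1 : (AdicCompletion.map I i (AdicCompletion.mk I M a)).val (n + c) = 0 := by
    rw [hx]; rfl
  have h2 : i (a (n + c)) ∈ (I ^ (n + c) • ⊤ : Submodule R N) := by
    rw [← Submodule.Quotient.mk_eq_zero]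
    exact h1
  obtain ⟨b, hb, hbe⟩ := key_le I i g hig c hc n h2
  have hba : b = a (n + c) := hi hbe
  rw [hba] at hb
  have h3 := AdicCompletion.AdicCauchySequence.mk_eq_mk (show n ≤ n + c by omega) a
  change Submodule.Quotient.mk (a n) = 0
  rw [← h3, Submodule.Quotient.mk_eq_zero]
  exact hb

theorem map_exact (hi : Function.Injective i) (hig : Function.Exact i g) (c : ℕ)
    (hc : ∀ x ∈ I ^ c, ∀ q : Q, x • q = 0) :
    Function.Exact (AdicCompletion.map I i) (AdicCompletion.map I g) := by
  intro y
  constructor
  · intro hy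
    obtain ⟨b, rfl⟩ := AdicCompletion.mk_surjective I N y
    have hgb : ∀ n, g (b (n + c)) = 0 := by
      intro n
      have h1 : (AdicCompletion.map I g (AdicCompletion.mk I N b)).val (n + c) = 0 := by
        rw [hy]; rfl
      have h2 : g (b (n + c)) ∈ (I ^ (n + c) • ⊤ : Submodule R Q) := by
        rw [← Submodule.Quotient.mk_eq_zero]
        exact h1
      rw [pow_smul_top_eq_bot I c hc (n + c) (by omega), Submodule.mem_bot] at h2
      exact h2
    choose A hA using fun n => (hig (b (n + c))).mp (hgb n)
    have hCauchy : ∀ n, A n ≡ A (n + 1) [SMOD (I ^ n • ⊤ : Submodule R M)] := by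
      intro n
      rw [SModEq.sub_mem]
      have h1 : b (n + c) - b (n + 1 + c) ∈ (I ^ (n + c) • ⊤ : Submodule R N) := by
        rw [← SModEq.sub_mem]
        exact b.property (show n + c ≤ n + 1 + c by omega)
      obtain ⟨d, hd, hde⟩ := key_le I i g hig c hc n h1
      have : d = A n - A (n + 1) := by
        apply hi
        rw [hde, map_sub, hA, hA]
      rw [← this]
      exact hd
    refine ⟨AdicCompletion.mk I M (AdicCompletion.AdicCauchySequence.mk I M A hCauchy), ?_⟩
    apply AdicCompletion.ext
    intro n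
    change Submodule.Quotient.mk (i (A n)) = Submodule.Quotient.mk (b n)
    rw [hA n]
    exact AdicCompletion.AdicCauchySequence.mk_eq_mk (show n ≤ n + c by omega) b
  · rintro ⟨x, rfl⟩
    rw [AdicCompletion.map_comp_apply, hig.linearMap_comp_eq_zero, AdicCompletion.map_zero]
    rfl

theorem complete_of_pow_smul (c : ℕ) (hc : ∀ x ∈ I ^ c, ∀ q : Q, x • q = 0) :
    IsAdicComplete I Q := by
  have hbot := pow_smul_top_eq_bot I (Q := Q) c hc
  refine { haus' := ?_, prec' := ?_ }
  · intro x hx
    have := hx c
    rw [SModEq.zero, hbot c le_rfl, Submodule.mem_bot] at this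
    exact this
  · intro f hf
    refine ⟨f c, fun n => ?_⟩
    rcases le_total n c with h | h
    · exact hf h
    · have := hf h
      rw [hbot c le_rfl, SModEq.bot] at this
      rw [this]

end aux

/-- Let R be a ring, I an ideal of R and 0 → M → N → Q → 0 a short exact sequence of R-modules in which
Q is killed by some power I^c of I. Then on I-adic completions the map M^ → N^ is injective, N^ → Q^
is surjective with kernel equal to the image of M^, and the canonical map Q → Q^ is bijective; so 0
→ M^ → N^ → Q → 0 is again short exact. -/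
theorem result {R : Type u} [CommRing R] (I : Ideal R) {M N Q : Type u} [AddCommGroup M] [Module R M] [AddCommGroup N] [Module R N] [AddCommGroup Q] [Module R Q] (i : M →ₗ[R] N) (g : N →ₗ[R] Q) (hi : Function.Injective i) (hg : Function.Surjective g) (hig : Function.Exact i g) (c : ℕ) (hc : ∀ x ∈ I ^ c, ∀ q : Q, x • q = 0) :
    Function.Injective (AdicCompletion.map I i) ∧ Function.Exact (AdicCompletion.map I i) (AdicCompletion.map I g) ∧ Function.Surjective (AdicCompletion.map I g) ∧ Function.Bijective (AdicCompletion.of I Q) := by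
  refine ⟨map_inj I i g hi hig c hc, map_exact I i g hi hig c hc,
    AdicCompletion.map_surjective I hg, ?_⟩
  rw [AdicCompletion.of_bijective_iff]
  exact complete_of_pow_smul I c hc

end Groth.Agent.S9600
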