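import Groth.Statements.S9602
import Mathlib

set_option autoImplicit false
universe u
open CAlg

namespace Groth.Agent.S9602

section aux
variable {R : Type u} [CommRing R] (I : Ideal R)

theorem evalOne_eq_mk (x : AdicCompletion I R) (n : ℕ) (hn : 1 ≤ n) (r : R)
    (hr : Ideal.Quotient.mk (I ^ n • ⊤ : Ideal R) r = x.val n) :
    AdicCompletion.evalOneₐ I x = Ideal.Quotient.mk I r := by
  have h1 : x.val 1 = Ideal.Quotient.mk (I ^ 1 • ⊤ : Ideal R) r := by
    rw [← x.property hn, ← hr]
    exact AdicCompletion.transitionMap_ideal_mk I hn r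
  have h2 : AdicCompletion.eval I R 1 x = Ideal.Quotient.mk (I ^ 1 • ⊤ : Ideal R) r := h1
  rw [← AdicCompletion.factorₐ_evalₐ_one, ← AdicCompletion.factor_eval_eq_evalₐ I x (by simp), h2]
  rfl

theorem isUnit_val (x : AdicCompletion I R) (hx : IsUnit (AdicCompletion.evalOneₐ I x)) (n : ℕ) :
    IsUnit (x.val n : R ⧸ (I ^ n • ⊤ : Ideal R)) := by
  rcases Nat.eq_zero_or_pos n with rfl | hn
  · have : Subsingleton (R ⧸ (I ^ 0 • ⊤ : Ideal R)) := by
      rw [Ideal.Quotient.subsingleton_iff]
      simp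
    exact isUnit_of_subsingleton _
  · obtain ⟨r, hr⟩ := Ideal.Quotient.mk_surjective (x.val n : R ⧸ (I ^ n • ⊤ : Ideal R))
    rw [evalOne_eq_mk I x n hn r hr] at hx
    obtain ⟨b, hb⟩ := hx.exists_right_inv
    obtain ⟨s, rfl⟩ := Ideal.Quotient.mk_surjective b
    rw [← map_mul, ← map_one (Ideal.Quotient.mk I), Ideal.Quotient.eq] at hb
    have hnil : IsNilpotent (Ideal.Quotient.mk (I ^ n • ⊤ : Ideal R) (r * s - 1)) := by
      refine ⟨n, ?_⟩
      rw [← map_pow, Ideal.Quotient.eq_zero_iff_mem]
      have := Ideal.pow_mem_pow hb n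
      simpa using this
    have hu : IsUnit (Ideal.Quotient.mk (I ^ n • ⊤ : Ideal R) (r * s - 1) + 1) :=
      hnil.isUnit_add_one
    have heq : Ideal.Quotient.mk (I ^ n • ⊤ : Ideal R) (r * s - 1) + 1 =
        (x.val n : R ⧸ (I ^ n • ⊤ : Ideal R)) * Ideal.Quotient.mk (I ^ n • ⊤ : Ideal R) s := by
      rw [← hr, ← map_one (Ideal.Quotient.mk (I ^ n • ⊤ : Ideal R)), ← map_add, ← map_mul]
      congr 1
      ring
    rw [heq] at hu
    exact isUnit_of_mul_isUnit_left hu

theorem isUnit_of_evalOne (x : AdicCompletion I R) (hx : IsUnit (AdicCompletion.evalOneₐ I x)) :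
    IsUnit x := by
  have hu := isUnit_val I x hx
  let u : ∀ n, R ⧸ (I ^ n • ⊤ : Ideal R) := fun n => ↑((hu n).unit⁻¹)
  have hcompat : ∀ {m n} (hmn : m ≤ n), AdicCompletion.transitionMap I R hmn (u n) = u m := by
    intro m n hmn
    apply (hu m).mul_right_cancel
    have h1 : AdicCompletion.transitionMap I R hmn (u n) * (x.val m : R ⧸ (I ^ m • ⊤ : Ideal R)) =
        AdicCompletion.transitionMap I R hmn (u n * x.val n) := by
      rw [AdicCompletion.transitionMap_map_mul, x.property hmn]
    rw [h1]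
    simp only [u, IsUnit.val_inv_mul]
    exact AdicCompletion.transitionMap_map_one I hmn
  let w : AdicCompletion I R := ⟨u, hcompat⟩
  refine IsUnit.of_mul_eq_one w ?_
  apply AdicCompletion.ext
  intro n
  change (x.val n : R ⧸ (I ^ n • ⊤ : Ideal R)) * u n = 1
  simp only [u, IsUnit.mul_val_inv]

end aux

/-- Let R be a ring, I an ideal of R and R^ = lim R/Iⁿ the I-adic completion. An element of R^ whose
image in R/I is invertible is itself invertible in R^; and the kernel of R^ → R/I as well as the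
extended ideal I R^ both lie inside the Jacobson radical of R^. -/
theorem result {R : Type u} [CommRing R] (I : Ideal R) :
    (∀ x : AdicCompletion I R, IsUnit (AdicCompletion.evalOneₐ I x) → IsUnit x) ∧
      RingHom.ker (AdicCompletion.evalOneₐ I).toRingHom ≤ (⊥ : Ideal (AdicCompletion I R)).jacobson ∧
      I.map (algebraMap R (AdicCompletion I R)) ≤ (⊥ : Ideal (AdicCompletion I R)).jacobson := by
  have h1 : ∀ x : AdicCompletion I R, IsUnit (AdicCompletion.evalOneₐ I x) → IsUnit x :=
    isUnit_of_evalOne I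
  have h2 : RingHom.ker (AdicCompletion.evalOneₐ I).toRingHom ≤
      (⊥ : Ideal (AdicCompletion I R)).jacobson := by
    intro z hz
    rw [Ideal.mem_jacobson_bot]
    intro y
    apply h1
    have hz' : AdicCompletion.evalOneₐ I z = 0 := hz
    rw [map_add, map_mul, hz', zero_mul, zero_add, map_one]
    exact isUnit_one
  refine ⟨h1, h2, le_trans ?_ h2⟩
  rw [Ideal.map_le_iff_le_comap]
  intro r hr
  change AdicCompletion.evalOneₐ I (algebraMap R (AdicCompletion I R) r) = 0
  rw [AdicCompletion.algebraMap_apply]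
  simp only [Algebra.algebraMap_self, RingHom.id_apply, AdicCompletion.evalOneₐ_of]
  exact Ideal.Quotient.eq_zero_iff_mem.mpr hr

end Groth.Agent.S9602
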