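import Groth.Statements.S9604
import Mathlib

set_option autoImplicit false
universe u
open CAlg

namespace Groth.Agent.S9604

theorem aux {R : Type u} [CommRing R] (I J : Ideal R) (c d : ℕ) (hc : 0 < c) (hd : 0 < d)
    (hI : I ^ c ≤ J) (hJ : J ^ d ≤ I) (M : Type u) [AddCommGroup M] [Module R M]
    (h : IsAdicComplete J M) : IsAdicComplete I M := by
  have hIJ : ∀ n : ℕ, (I ^ (c * n) • ⊤ : Submodule R M) ≤ J ^ n • ⊤ := by
    intro n
    apply Submodule.smul_mono_left
    rw [pow_mul]
    exact Ideal.pow_right_mono hI n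
  have hJI : ∀ n : ℕ, (J ^ (d * n) • ⊤ : Submodule R M) ≤ I ^ n • ⊤ := by
    intro n
    apply Submodule.smul_mono_left
    rw [pow_mul]
    exact Ideal.pow_right_mono hJ n
  refine { haus' := ?_, prec' := ?_ }
  · intro x hx
    exact h.toIsHausdorff.haus' x (fun n => (hx (c * n)).mono (hIJ n))
  · intro f hf
    obtain ⟨L, hL⟩ := h.toIsPrecomplete.prec' (fun n => f (c * n)) (by
      intro m n hmn
      exact (hf (Nat.mul_le_mul_left c hmn)).mono (hIJ m))
    refine ⟨L, fun n => ?_⟩
    have h1 : n ≤ c * (d * n) := by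
      calc n = 1 * (1 * n) := by ring
        _ ≤ c * (d * n) := Nat.mul_le_mul hc (Nat.mul_le_mul hd le_rfl)
    exact (hf h1).trans ((hL (d * n)).mono (hJI n))

/-- Let R be a ring and I, J ideals of R with I^c ⊆ J and J^d ⊆ I for some integers c, d > 0. Then for
an R-module, being complete in the I-adic topology is equivalent to being complete in the J-adic
topology. -/
theorem result {R : Type u} [CommRing R] (I J : Ideal R) (c d : ℕ) (hc : 0 < c) (hd : 0 < d) (hI : I ^ c ≤ J) (hJ : J ^ d ≤ I) (M : Type u) [AddCommGroup M] [Module R M] :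
    IsAdicComplete I M ↔ IsAdicComplete J M := by
  exact ⟨fun h => aux J I d c hd hc hJ hI M h, fun h => aux I J c d hc hd hI hJ M h⟩

end Groth.Agent.S9604
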