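import Groth.Statements.S9605
import Mathlib

set_option autoImplicit false
universe u
open CAlg

namespace Groth.Agent.S9605

section aux
variable {R : Type u} [CommRing R] (I : Ideal R) {M : Type u} [AddCommGroup M] [Module R M]

theorem mkQ_mem_iff (K : Submodule R M) (n : ℕ) (x : M) :
    K.mkQ x ∈ (I ^ n • ⊤ : Submodule R (M ⧸ K)) ↔ x ∈ K ⊔ I ^ n • (⊤ : Submodule R M) := by
  have h1 : (I ^ n • ⊤ : Submodule R (M ⧸ K)) = Submodule.map K.mkQ (I ^ n • ⊤) := by
    rw [Submodule.map_smul'', Submodule.map_top, Submodule.range_mkQ]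
  rw [h1, ← Submodule.mem_comap, Submodule.comap_map_mkQ]

theorem precomplete_quot [IsPrecomplete I M] (K : Submodule R M) : IsPrecomplete I (M ⧸ K) := by
  rw [← AdicCompletion.of_surjective_iff]
  intro y
  obtain ⟨z, hz⟩ := AdicCompletion.map_surjective I (f := K.mkQ) (Submodule.mkQ_surjective K) y
  obtain ⟨x, hx⟩ := AdicCompletion.of_surjective I M z
  refine ⟨K.mkQ x, ?_⟩
  rw [← AdicCompletion.map_of, hx, hz]

end aux

/-- For a ring R, an ideal I of R, an I-adically complete R-module M and a submodule K of M, the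
quotient M/K is I-adically complete if and only if K = ⋂ₙ (K + IⁿM). -/
theorem result {R : Type u} [CommRing R] (I : Ideal R) (M : Type u) [AddCommGroup M] [Module R M] [IsAdicComplete I M] (K : Submodule R M) :
    IsAdicComplete I (M ⧸ K) ↔ K = ⨅ n : ℕ, K ⊔ I ^ n • (⊤ : Submodule R M) := by
  constructor
  · intro h
    apply le_antisymm
    · exact le_iInf fun n => le_sup_left
    · intro x hx
      rw [Submodule.mem_iInf] at hx
      have : K.mkQ x = 0 := by
        apply h.toIsHausdorff.haus
        intro n
        rw [SModEq.zero, mkQ_mem_iff]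
        exact hx n
      rwa [Submodule.mkQ_apply, Submodule.Quotient.mk_eq_zero] at this
  · intro h
    have hP : IsPrecomplete I (M ⧸ K) := precomplete_quot I K
    have hH : IsHausdorff I (M ⧸ K) := by
      refine ⟨fun y hy => ?_⟩
      obtain ⟨x, rfl⟩ := Submodule.mkQ_surjective K y
      have hx : x ∈ K := by
        rw [h, Submodule.mem_iInf]
        intro n
        rw [← mkQ_mem_iff, ← SModEq.zero]
        exact hy n
      rwa [Submodule.mkQ_apply, Submodule.Quotient.mk_eq_zero]
    exact { toIsHausdorff := hH, toIsPrecomplete := hP }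

end Groth.Agent.S9605
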