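import Groth.Statements.S9606
import Mathlib
import Groth.Agent.Lib.UnivHomeo8_helper6
-- import your own Groth.Agent.* helpers here

set_option autoImplicit false
universe u
open CAlg

namespace Groth.Agent.S9606

/-- Let R → S be a ring map with locally nilpotent kernel such that S is generated over R by elements x
with x² and x³ in the image of R. Then the induced map on spectra is a homeomorphism and every
residue field map κ(p) → κ(q), for q a prime of S with inverse image p, is bijective. -/
theorem result {R S : Type u} [CommRing R] [CommRing S] [Algebra R S]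
    (hgen : Algebra.adjoin R {x : S | x ^ 2 ∈ Set.range (algebraMap R S) ∧ x ^ 3 ∈ Set.range (algebraMap R S)} = ⊤)
    (hker : ∀ r : R, algebraMap R S r = 0 → IsNilpotent r) :
    IsHomeomorph (PrimeSpectrum.comap (algebraMap R S)) ∧
      ∀ (q : Ideal S) [q.IsPrime], Function.Bijective (Ideal.ResidueField.map (q.comap (algebraMap R S)) q (algebraMap R S) rfl) := by

  have htop : ∀ T : Subalgebra R S,
      {x : S | x ^ 2 ∈ Set.range (algebraMap R S) ∧ x ^ 3 ∈ Set.range (algebraMap R S)} ⊆ T →
      T = ⊤ := fun T hT => top_le_iff.mp (hgen ▸ Algebra.adjoin_le hT)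
  have hPU : ∀ (K : Type u) [Field K] (ψ₁ ψ₂ : S →+* K),
      ψ₁.comp (algebraMap R S) = ψ₂.comp (algebraMap R S) → ψ₁ = ψ₂ := by
    intro K _ ψ₁ ψ₂ h
    have h1 := htop (Groth.Agent.Lib.UnivHomeo.eqLocusSubalgebra ψ₁ ψ₂ h) (by
      rintro x ⟨⟨a, ha⟩, ⟨b, hb⟩⟩
      show ψ₁ x = ψ₂ x
      apply Groth.Agent.Lib.UnivHomeo.eq_of_sq_eq_of_cube_eq
      · rw [← map_pow, ← map_pow, ← ha]; exact congr($h a)
      · rw [← map_pow, ← map_pow, ← hb]; exact congr($h b))
    ext s
    have hs : s ∈ Groth.Agent.Lib.UnivHomeo.eqLocusSubalgebra ψ₁ ψ₂ h := by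
      rw [h1]; exact Algebra.mem_top
    exact hs
  have hint : Algebra.IsIntegral R S := by
    have h1 := htop (integralClosure R S) (by
      rintro x ⟨⟨a, ha⟩, -⟩
      refine IsIntegral.of_pow (n := 2) (by norm_num) ?_
      rw [← ha]; exact isIntegral_algebraMap)
    exact ⟨fun s => by
      have hs : s ∈ integralClosure R S := by rw [h1]; exact Algebra.mem_top
      exact hs⟩
  have hres : ∀ (q : Ideal S) [q.IsPrime], Function.Bijective
      (Ideal.ResidueField.map (q.comap (algebraMap R S)) q (algebraMap R S) rfl) := by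
    intro q _
    obtain ⟨m, hm⟩ : ∃ m, m = Ideal.ResidueField.map (q.comap (algebraMap R S)) q
      (algebraMap R S) rfl := ⟨_, rfl⟩
    rw [← hm]
    refine ⟨m.injective, ?_⟩
    have hmalg : ∀ a : R, m (algebraMap R (q.comap (algebraMap R S)).ResidueField a) =
        algebraMap S q.ResidueField (algebraMap R S a) := fun a => by
      rw [hm]; exact Ideal.ResidueField.map_algebraMap _ _ _ _ a
    let T : Subalgebra R S :=
      { carrier := {s | algebraMap S q.ResidueField s ∈ m.fieldRange}
        mul_mem' := fun {a b} ha hb => by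
          show algebraMap S q.ResidueField (a * b) ∈ m.fieldRange
          rw [map_mul]; exact m.fieldRange.mul_mem ha hb
        add_mem' := fun {a b} ha hb => by
          show algebraMap S q.ResidueField (a + b) ∈ m.fieldRange
          rw [map_add]; exact m.fieldRange.add_mem ha hb
        algebraMap_mem' := fun r => by
          show algebraMap S q.ResidueField (algebraMap R S r) ∈ m.fieldRange
          rw [← hmalg]; exact RingHom.mem_fieldRange.mpr ⟨_, rfl⟩ }
    have hT := htop T (by
      rintro x ⟨⟨a, ha⟩, ⟨b, hb⟩⟩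
      show algebraMap S q.ResidueField x ∈ m.fieldRange
      apply Groth.Agent.Lib.UnivHomeo.mem_of_sq_mem_of_cube_mem
      · rw [← map_pow, ← ha, ← hmalg]; exact RingHom.mem_fieldRange.mpr ⟨_, rfl⟩
      · rw [← map_pow, ← hb, ← hmalg]; exact RingHom.mem_fieldRange.mpr ⟨_, rfl⟩)
    have hall : ∀ s : S, algebraMap S q.ResidueField s ∈ m.fieldRange := fun s => by
      have hs : s ∈ T := by rw [hT]; exact Algebra.mem_top
      exact hs
    intro z
    obtain ⟨x, y, -, rfl⟩ := IsFractionRing.div_surjective (S ⧸ q) z
    obtain ⟨s, rfl⟩ := Ideal.Quotient.mk_surjective x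
    obtain ⟨t, rfl⟩ := Ideal.Quotient.mk_surjective y
    rw [Ideal.algebraMap_quotient_residueField_mk, Ideal.algebraMap_quotient_residueField_mk]
    exact RingHom.mem_fieldRange.mp (m.fieldRange.div_mem (hall s) (hall t))
  have hres' : ∀ (p : Ideal R) [p.IsPrime] (q : Ideal S) [q.IsPrime]
      (h : p = q.comap (algebraMap R S)),
      Function.Bijective (Ideal.ResidueField.map p q (algebraMap R S) h) := by
    intro p _ q _ h
    subst h
    exact hres q
  refine ⟨?_, hres⟩
  rw [isHomeomorph_iff_continuous_isClosedMap_bijective]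
  refine ⟨PrimeSpectrum.continuous_comap _,
    PrimeSpectrum.isClosedMap_comap_of_isIntegral _ (algebraMap_isIntegral_iff.mpr hint), ?_, ?_⟩
  · intro q1 q2 h12
    haveI := q1.isPrime
    haveI := q2.isPrime
    obtain ⟨p, hp1⟩ : ∃ p : Ideal R, p = q1.asIdeal.comap (algebraMap R S) := ⟨_, rfl⟩
    haveI : p.IsPrime := by rw [hp1]; infer_instance
    have hp2 : p = q2.asIdeal.comap (algebraMap R S) := by
      rw [hp1]; exact congrArg PrimeSpectrum.asIdeal h12
    let e1 := RingEquiv.ofBijective _ (hres' p q1.asIdeal hp1)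
    let e2 := RingEquiv.ofBijective _ (hres' p q2.asIdeal hp2)
    have he1 : ∀ a : R, e1.symm (algebraMap S q1.asIdeal.ResidueField (algebraMap R S a)) =
        algebraMap R p.ResidueField a := fun a => by
      rw [RingEquiv.symm_apply_eq]
      exact (Ideal.ResidueField.map_algebraMap p q1.asIdeal (algebraMap R S) hp1 a).symm
    have he2 : ∀ a : R, e2.symm (algebraMap S q2.asIdeal.ResidueField (algebraMap R S a)) =
        algebraMap R p.ResidueField a := fun a => by
      rw [RingEquiv.symm_apply_eq]
      exact (Ideal.ResidueField.map_algebraMap p q2.asIdeal (algebraMap R S) hp2 a).symm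
    have hχ := hPU p.ResidueField
      ((e1.symm : q1.asIdeal.ResidueField →+* p.ResidueField).comp
        (algebraMap S q1.asIdeal.ResidueField))
      ((e2.symm : q2.asIdeal.ResidueField →+* p.ResidueField).comp
        (algebraMap S q2.asIdeal.ResidueField)) (by
        ext a
        simp only [RingHom.comp_apply, RingHom.coe_coe]
        rw [he1, he2])
    apply PrimeSpectrum.ext
    ext s
    rw [← Ideal.algebraMap_residueField_eq_zero (I := q1.asIdeal),
      ← Ideal.algebraMap_residueField_eq_zero (I := q2.asIdeal)]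
    have h3 := congr($hχ s)
    simp only [RingHom.comp_apply, RingHom.coe_coe] at h3
    constructor
    · intro h
      rw [h, map_zero] at h3
      exact (EmbeddingLike.map_eq_zero_iff (f := e2.symm)).mp h3.symm
    · intro h
      rw [h, map_zero] at h3
      exact (EmbeddingLike.map_eq_zero_iff (f := e1.symm)).mp h3
  · intro p
    obtain ⟨Q, -, hQ, hQp⟩ := Ideal.exists_ideal_over_prime_of_isIntegral p.asIdeal (⊥ : Ideal S) (by
      intro r hr
      have hr' : algebraMap R S r = 0 := by
        rw [Ideal.mem_comap, Ideal.mem_bot] at hr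
        exact hr
      exact nilradical_le_prime p.asIdeal (hker r hr'))
    exact ⟨⟨Q, hQ⟩, PrimeSpectrum.ext hQp⟩

end Groth.Agent.S9606
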