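import Groth.Statements.S9609
import Mathlib
-- import your own Groth.Agent.* helpers here

set_option autoImplicit false
universe u
open CAlg
set_option maxSynthPendingDepth 3

namespace Groth.Agent.S9609

open TensorProduct in
/-- Let R → S be a ring map which is injective on spectra and whose residue field extensions κ(p) → κ(q)
(q a prime of S with inverse image p) are purely inseparable: every element of κ(q) has a power with
exponent a power of the characteristic exponent lying in the image of κ(p). Then, given an arbitrary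
R-algebra R', the induced map R' → R' ⊗_R S is likewise injective on spectra and has purely
inseparable residue field extensions. -/
theorem result {R S R' : Type u} [CommRing R] [CommRing S] [CommRing R'] [Algebra R S] [Algebra R R']
    (hinj : Function.Injective (PrimeSpectrum.comap (algebraMap R S)))
    (hpi : ∀ (q : Ideal S) [q.IsPrime] (x : q.ResidueField), ∃ n : ℕ, x ^ (ringExpChar (q.comap (algebraMap R S)).ResidueField) ^ n ∈ Set.range (Ideal.ResidueField.map (q.comap (algebraMap R S)) q (algebraMap R S) rfl)) :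
    Function.Injective (PrimeSpectrum.comap (algebraMap R' (R' ⊗[R] S))) ∧
      ∀ (q' : Ideal (R' ⊗[R] S)) [q'.IsPrime] (x : q'.ResidueField), ∃ n : ℕ, x ^ (ringExpChar (q'.comap (algebraMap R' (R' ⊗[R] S))).ResidueField) ^ n ∈ Set.range (Ideal.ResidueField.map (q'.comap (algebraMap R' (R' ⊗[R] S))) q' (algebraMap R' (R' ⊗[R] S)) rfl) := by
  classical
  -- Key claim
  have key : ∀ (p' : Ideal R') [p'.IsPrime] (q₁ q₂ : Ideal (R' ⊗[R] S)) [q₁.IsPrime] [q₂.IsPrime]
      (h₁ : p' = q₁.comap (algebraMap R' (R' ⊗[R] S)))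
      (h₂ : p' = q₂.comap (algebraMap R' (R' ⊗[R] S)))
      (z : R' ⊗[R] S), ∃ (n : ℕ) (y : p'.ResidueField),
        (algebraMap (R' ⊗[R] S) q₁.ResidueField z) ^ (ringExpChar p'.ResidueField) ^ n =
          Ideal.ResidueField.map p' q₁ (algebraMap R' (R' ⊗[R] S)) h₁ y ∧
        (algebraMap (R' ⊗[R] S) q₂.ResidueField z) ^ (ringExpChar p'.ResidueField) ^ n =
          Ideal.ResidueField.map p' q₂ (algebraMap R' (R' ⊗[R] S)) h₂ y := by
    intro p' _ q₁ q₂ _ _ h₁ h₂ z
    obtain ⟨e, he⟩ : ∃ e, e = ringExpChar p'.ResidueField := ⟨_, rfl⟩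
    rw [← he]
    obtain ⟨μ₁, hμ₁⟩ : ∃ μ, μ = Ideal.ResidueField.map p' q₁ (algebraMap R' (R' ⊗[R] S)) h₁ :=
      ⟨_, rfl⟩
    obtain ⟨μ₂, hμ₂⟩ : ∃ μ, μ = Ideal.ResidueField.map p' q₂ (algebraMap R' (R' ⊗[R] S)) h₂ :=
      ⟨_, rfl⟩
    rw [← hμ₁, ← hμ₂]
    haveI hE0 : ExpChar p'.ResidueField e := by
      rw [he]
      exact ringExpChar.expChar _
    haveI hE1 : ExpChar q₁.ResidueField e := expChar_of_injective_ringHom μ₁.injective e
    haveI hE2 : ExpChar q₂.ResidueField e := expChar_of_injective_ringHom μ₂.injective e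
    have hμ₁alg : ∀ r' : R', μ₁ (algebraMap R' p'.ResidueField r') =
        algebraMap (R' ⊗[R] S) q₁.ResidueField (algebraMap R' (R' ⊗[R] S) r') := by
      intro r'
      rw [hμ₁, Ideal.ResidueField.map_algebraMap]
    have hμ₂alg : ∀ r' : R', μ₂ (algebraMap R' p'.ResidueField r') =
        algebraMap (R' ⊗[R] S) q₂.ResidueField (algebraMap R' (R' ⊗[R] S) r') := by
      intro r'
      rw [hμ₂, Ideal.ResidueField.map_algebraMap]
    induction z using TensorProduct.induction_on with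
    | zero =>
      refine ⟨0, 0, ?_, ?_⟩ <;> simp
    | tmul r' s =>
      -- the prime of S
      obtain ⟨ι₂, hι₂⟩ : ∃ ι : S →+* R' ⊗[R] S,
          ι = (Algebra.TensorProduct.includeRight : S →ₐ[R] R' ⊗[R] S).toRingHom := ⟨_, rfl⟩
      have hι₂app : ∀ s : S, ι₂ s = (1 : R') ⊗ₜ[R] s := by
        intro s
        rw [hι₂]
        rfl
      have hι₂R : ∀ r : R, ι₂ (algebraMap R S r) = algebraMap R (R' ⊗[R] S) r := by
        intro r
        rw [hι₂]
        exact (Algebra.TensorProduct.includeRight : S →ₐ[R] R' ⊗[R] S).commutes r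
      have hι₁R : ∀ r : R, algebraMap R' (R' ⊗[R] S) (algebraMap R R' r) =
          algebraMap R (R' ⊗[R] S) r := by
        intro r
        rw [← IsScalarTower.algebraMap_apply]
      have hcomap : ∀ (q' : Ideal (R' ⊗[R] S)),
          (q'.comap ι₂).comap (algebraMap R S) =
            (q'.comap (algebraMap R' (R' ⊗[R] S))).comap (algebraMap R R') := by
        intro q'
        ext r
        simp only [Ideal.mem_comap]
        rw [hι₂R, hι₁R]
      have hq₂ : q₁.comap ι₂ = q₂.comap ι₂ := by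
        have h3 : (⟨q₁.comap ι₂, inferInstance⟩ : PrimeSpectrum S) = ⟨q₂.comap ι₂, inferInstance⟩ := by
          apply hinj
          apply PrimeSpectrum.ext
          change (q₁.comap ι₂).comap (algebraMap R S) = (q₂.comap ι₂).comap (algebraMap R S)
          rw [hcomap, hcomap, ← h₁, ← h₂]
        exact congrArg PrimeSpectrum.asIdeal h3
      have hp₀ : (q₁.comap ι₂).comap (algebraMap R S) = p'.comap (algebraMap R R') := by
        rw [hcomap, ← h₁]
      obtain ⟨n, hn⟩ := hpi (q₁.comap ι₂) (algebraMap S (q₁.comap ι₂).ResidueField s)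
      obtain ⟨y₀, hy₀⟩ := hn
      obtain ⟨ν, hν⟩ : ∃ ν, ν = Ideal.ResidueField.map ((q₁.comap ι₂).comap (algebraMap R S)) p'
          (algebraMap R R') hp₀ := ⟨_, rfl⟩
      have hee : ringExpChar ((q₁.comap ι₂).comap (algebraMap R S)).ResidueField = e := by
        haveI : ExpChar ((q₁.comap ι₂).comap (algebraMap R S)).ResidueField
            (ringExpChar ((q₁.comap ι₂).comap (algebraMap R S)).ResidueField) :=
          ringExpChar.expChar _
        haveI : ExpChar p'.ResidueField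
            (ringExpChar ((q₁.comap ι₂).comap (algebraMap R S)).ResidueField) :=
          expChar_of_injective_ringHom ν.injective _
        rw [he]
        exact (ringExpChar.eq _ _).symm
      rw [hee] at hy₀
      obtain ⟨j₁, hj₁⟩ : ∃ j, j = Ideal.ResidueField.map (q₁.comap ι₂) q₁ ι₂ rfl := ⟨_, rfl⟩
      obtain ⟨j₂, hj₂⟩ : ∃ j, j = Ideal.ResidueField.map (q₁.comap ι₂) q₂ ι₂ hq₂ := ⟨_, rfl⟩
      have hfun₁ : j₁.comp (Ideal.ResidueField.map ((q₁.comap ι₂).comap (algebraMap R S))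
          (q₁.comap ι₂) (algebraMap R S) rfl) = μ₁.comp ν := by
        apply Ideal.ResidueField.ringHom_ext
        ext r
        simp only [RingHom.comp_apply]
        rw [Ideal.ResidueField.map_algebraMap, hj₁, Ideal.ResidueField.map_algebraMap, hν,
          Ideal.ResidueField.map_algebraMap, hμ₁alg, hι₂R, hι₁R]
      have hfun₂ : j₂.comp (Ideal.ResidueField.map ((q₁.comap ι₂).comap (algebraMap R S))
          (q₁.comap ι₂) (algebraMap R S) rfl) = μ₂.comp ν := by
        apply Ideal.ResidueField.ringHom_ext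
        ext r
        simp only [RingHom.comp_apply]
        rw [Ideal.ResidueField.map_algebraMap, hj₂, Ideal.ResidueField.map_algebraMap, hν,
          Ideal.ResidueField.map_algebraMap, hμ₂alg, hι₂R, hι₁R]
      have hdecomp : r' ⊗ₜ[R] s = algebraMap R' (R' ⊗[R] S) r' * ι₂ s := by
        rw [hι₂app, Algebra.TensorProduct.algebraMap_apply, Algebra.TensorProduct.tmul_mul_tmul,
          mul_one, one_mul]
        rfl
      have hπ₁ι₂ : algebraMap (R' ⊗[R] S) q₁.ResidueField (ι₂ s) =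
          j₁ (algebraMap S (q₁.comap ι₂).ResidueField s) := by
        rw [hj₁, Ideal.ResidueField.map_algebraMap]
      have hπ₂ι₂ : algebraMap (R' ⊗[R] S) q₂.ResidueField (ι₂ s) =
          j₂ (algebraMap S (q₁.comap ι₂).ResidueField s) := by
        rw [hj₂, Ideal.ResidueField.map_algebraMap]
      refine ⟨n, (algebraMap R' p'.ResidueField r') ^ e ^ n * ν y₀, ?_, ?_⟩
      · rw [hdecomp, map_mul, mul_pow, hπ₁ι₂, ← map_pow j₁, ← hy₀, ← hμ₁alg, ← map_pow μ₁, map_mul]
        congr 1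
        exact RingHom.congr_fun hfun₁ y₀
      · rw [hdecomp, map_mul, mul_pow, hπ₂ι₂, ← map_pow j₂, ← hy₀, ← hμ₂alg, ← map_pow μ₂, map_mul]
        congr 1
        exact RingHom.congr_fun hfun₂ y₀
    | add z₁ z₂ ih₁ ih₂ =>
      obtain ⟨n₁, y₁, ha₁, hb₁⟩ := ih₁
      obtain ⟨n₂, y₂, ha₂, hb₂⟩ := ih₂
      refine ⟨n₁ + n₂, y₁ ^ e ^ n₂ + y₂ ^ e ^ n₁, ?_, ?_⟩
      · rw [map_add, add_pow_expChar_pow, map_add, map_pow, map_pow, ← ha₁, ← ha₂, ← pow_mul,
          ← pow_mul, ← pow_add, ← pow_add, add_comm n₂ n₁]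
      · rw [map_add, add_pow_expChar_pow, map_add, map_pow, map_pow, ← hb₁, ← hb₂, ← pow_mul,
          ← pow_mul, ← pow_add, ← pow_add, add_comm n₂ n₁]
  -- consequence: containment of primes
  have hsub : ∀ (p' : Ideal R') [p'.IsPrime] (q₁ q₂ : Ideal (R' ⊗[R] S)) [q₁.IsPrime] [q₂.IsPrime]
      (h₁ : p' = q₁.comap (algebraMap R' (R' ⊗[R] S)))
      (h₂ : p' = q₂.comap (algebraMap R' (R' ⊗[R] S))), q₁ ≤ q₂ := by
    intro p' _ q₁ q₂ _ _ h₁ h₂ z hz
    obtain ⟨n, y, e1, e2⟩ := key p' q₁ q₂ h₁ h₂ z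
    haveI hE0 : ExpChar p'.ResidueField (ringExpChar p'.ResidueField) := ringExpChar.expChar _
    have hpos : (ringExpChar p'.ResidueField) ^ n ≠ 0 :=
      pow_ne_zero _ (expChar_pos p'.ResidueField _).ne'
    rw [Ideal.algebraMap_residueField_eq_zero.mpr hz, zero_pow hpos] at e1
    have hy : y = 0 := by
      have := e1.symm
      rwa [map_eq_zero] at this
    rw [hy, map_zero] at e2
    have h3 := pow_eq_zero_iff hpos |>.mp e2
    exact Ideal.algebraMap_residueField_eq_zero.mp h3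
  refine ⟨?_, ?_⟩
  · intro x₁ x₂ hx
    have hx' : x₁.asIdeal.comap (algebraMap R' (R' ⊗[R] S)) =
        x₂.asIdeal.comap (algebraMap R' (R' ⊗[R] S)) := congrArg PrimeSpectrum.asIdeal hx
    apply PrimeSpectrum.ext
    apply le_antisymm
    · exact hsub (x₁.asIdeal.comap (algebraMap R' (R' ⊗[R] S))) x₁.asIdeal x₂.asIdeal rfl hx'
    · exact hsub (x₁.asIdeal.comap (algebraMap R' (R' ⊗[R] S))) x₂.asIdeal x₁.asIdeal hx' rfl
  · intro q' _ x
    obtain ⟨a, b, hb, rfl⟩ := IsFractionRing.div_surjective (A := (R' ⊗[R] S) ⧸ q') x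
    obtain ⟨z, rfl⟩ := Ideal.Quotient.mk_surjective a
    obtain ⟨w, rfl⟩ := Ideal.Quotient.mk_surjective b
    rw [Ideal.algebraMap_quotient_residueField_mk, Ideal.algebraMap_quotient_residueField_mk]
    obtain ⟨n₁, y₁, ha₁, -⟩ := key (q'.comap (algebraMap R' (R' ⊗[R] S))) q' q' rfl rfl z
    obtain ⟨n₂, y₂, ha₂, -⟩ := key (q'.comap (algebraMap R' (R' ⊗[R] S))) q' q' rfl rfl w
    refine ⟨n₁ + n₂, y₁ ^ (ringExpChar (q'.comap (algebraMap R' (R' ⊗[R] S))).ResidueField) ^ n₂ /
      y₂ ^ (ringExpChar (q'.comap (algebraMap R' (R' ⊗[R] S))).ResidueField) ^ n₁, ?_⟩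
    rw [map_div₀, map_pow, map_pow, ← ha₁, ← ha₂, div_pow, ← pow_mul, ← pow_mul, ← pow_add,
      ← pow_add, add_comm n₂ n₁]

end Groth.Agent.S9609
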