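import Groth.Statements.S9610
import Mathlib
-- import your own Groth.Agent.* helpers here

set_option autoImplicit false
universe u
open CAlg

namespace Groth.Agent.S9610

/-- Let k be a field and V a nonzero k-vector space with dim_k V < #k as cardinals. Then every k-linear
endomorphism T of V admits a monic polynomial P over k for which P(T) is not invertible. -/
theorem result {k V : Type u} [Field k] [AddCommGroup V] [Module k V] [Nontrivial V] (hV : Module.rank k V < Cardinal.mk k) (T : Module.End k V) :
    ∃ P : Polynomial k, P.Monic ∧ ¬ IsUnit (Polynomial.aeval T P) := by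

  classical
  by_contra hcon
  push_neg at hcon
  -- every nonzero polynomial acts invertibly
  have hunit : ∀ P : Polynomial k, P ≠ 0 → IsUnit (Polynomial.aeval T P) := by
    intro P hP
    have hlc : P.leadingCoeff ≠ 0 := Polynomial.leadingCoeff_ne_zero.mpr hP
    have hm : (Polynomial.C P.leadingCoeff⁻¹ * P).Monic := Polynomial.monic_C_mul_of_mul_leadingCoeff_eq_one (by rw [inv_mul_cancel₀ hlc])
    have h1 := hcon _ hm
    have e : P = Polynomial.C P.leadingCoeff * (Polynomial.C P.leadingCoeff⁻¹ * P) := by
      rw [← mul_assoc, ← Polynomial.C_mul, mul_inv_cancel₀ hlc, Polynomial.C_1, one_mul]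
    rw [e, map_mul, Polynomial.aeval_C]
    exact ((isUnit_iff_ne_zero.mpr hlc).map (algebraMap k (Module.End k V))).mul h1
  obtain ⟨v, hv⟩ := exists_ne (0 : V)
  have hlin : ∀ a : k, IsUnit (Polynomial.aeval T (Polynomial.X - Polynomial.C a)) :=
    fun a => hunit _ (Polynomial.X_sub_C_ne_zero a)
  obtain ⟨f, hf⟩ : ∃ f : k → V, ∀ a, Polynomial.aeval T (Polynomial.X - Polynomial.C a) (f a) = v := by
    refine ⟨fun a => (↑((hlin a).unit⁻¹) : Module.End k V) v, fun a => ?_⟩
    show (Polynomial.aeval T (Polynomial.X - Polynomial.C a) * (↑((hlin a).unit⁻¹) : Module.End k V)) v = v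
    rw [IsUnit.mul_val_inv]; rfl
  have hli : LinearIndependent k f := by
    rw [linearIndependent_iff']
    intro s g hsum a ha
    obtain ⟨Q, hQ⟩ : ∃ Q : Polynomial k, Q = ∑ c ∈ s, Polynomial.C (g c) *
        ∏ b ∈ s.erase c, (Polynomial.X - Polynomial.C b) := ⟨_, rfl⟩
    have hQv : Polynomial.aeval T Q v = 0 := by
      have h1 := congrArg (Polynomial.aeval T (∏ b ∈ s, (Polynomial.X - Polynomial.C b))) hsum
      rw [map_zero, map_sum] at h1
      rw [hQ, map_sum, LinearMap.sum_apply, ← h1]
      apply Finset.sum_congr rfl
      intro c hc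
      rw [map_smul, map_mul, Polynomial.aeval_C, Module.End.mul_apply, Module.algebraMap_end_apply]
      congr 1
      rw [← Finset.prod_erase_mul s _ hc, map_mul, Module.End.mul_apply, hf c]
    have hQ0 : Q = 0 := by
      by_contra hne
      have hu := hunit Q hne
      have : v = 0 := by
        have h2 := congrArg (↑(hu.unit⁻¹) : Module.End k V) hQv
        rw [map_zero] at h2
        have h3 : ((↑(hu.unit⁻¹) : Module.End k V) * Polynomial.aeval T Q) v = 0 := h2
        rw [IsUnit.val_inv_mul] at h3
        exact h3
      exact hv this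
    have heval : Polynomial.eval a Q = g a * ∏ b ∈ s.erase a, (a - b) := by
      rw [hQ, Polynomial.eval_finset_sum, Finset.sum_eq_single a]
      · rw [Polynomial.eval_mul, Polynomial.eval_C, Polynomial.eval_prod]
        simp
      · intro c hc hca
        rw [Polynomial.eval_mul, Polynomial.eval_prod]
        have : a ∈ s.erase c := Finset.mem_erase.mpr ⟨fun h => hca h.symm, ha⟩
        rw [Finset.prod_eq_zero this (by simp), mul_zero]
      · intro h; exact absurd ha h
    rw [hQ0, Polynomial.eval_zero] at heval
    have hprod : ∏ b ∈ s.erase a, (a - b) ≠ 0 := by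
      rw [Finset.prod_ne_zero_iff]
      intro b hb
      exact sub_ne_zero.mpr (fun h => (Finset.mem_erase.mp hb).1 h.symm)
    exact (mul_eq_zero.mp heval.symm).resolve_right hprod
  have := hli.cardinal_le_rank
  exact absurd (lt_of_le_of_lt this hV) (lt_irrefl _)

end Groth.Agent.S9610
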