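import Groth.Statements.S9611
import Mathlib

set_option autoImplicit false
universe u
open CAlg

namespace Groth.Agent.S9611

/-- Let R be a Jacobson ring, p a prime ideal of R which is not maximal, and f an element of R not in p.
Then the set of primes of R containing p and not containing f is infinite. -/
theorem result {R : Type u} [CommRing R] [IsJacobsonRing R] (p : Ideal R) [p.IsPrime] (hp : ¬ p.IsMaximal) (f : R) (hf : f ∉ p) :
    {q : PrimeSpectrum R | p ≤ q.asIdeal ∧ f ∉ q.asIdeal}.Infinite := by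
  classical
  intro hfin
  set T : Set (PrimeSpectrum R) := {q : PrimeSpectrum R | p ≤ q.asIdeal ∧ f ∉ q.asIdeal} with hT
  let G : PrimeSpectrum R → R := fun q =>
    if h : ∃ x, x ∈ q.asIdeal ∧ x ∉ p then h.choose else 1
  have hGp : ∀ q, G q ∉ p := by
    intro q
    by_cases h : ∃ x, x ∈ q.asIdeal ∧ x ∉ p
    · simp only [G, dif_pos h]
      exact h.choose_spec.2
    · simp only [G, dif_neg h]
      exact fun h1 => ‹p.IsPrime›.ne_top ((Ideal.eq_top_iff_one p).mpr h1)
  have hGq : ∀ q ∈ T, q.asIdeal ≠ p → G q ∈ q.asIdeal := by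
    intro q hq hne
    have hlt : p < q.asIdeal := lt_of_le_of_ne hq.1 (Ne.symm hne)
    have h : ∃ x, x ∈ q.asIdeal ∧ x ∉ p := SetLike.exists_of_lt hlt
    simp only [G, dif_pos h]
    exact h.choose_spec.1
  let g : R := f * ∏ q ∈ hfin.toFinset, G q
  have hgp : g ∉ p := by
    intro h
    rcases ‹p.IsPrime›.mem_or_mem h with h | h
    · exact hf h
    · rw [Ideal.IsPrime.prod_mem_iff] at h
      obtain ⟨q, -, hq⟩ := h
      exact hGp q hq
  have hjac : p.jacobson = p := IsJacobsonRing.out ‹_› ‹p.IsPrime›.isRadical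
  have : ∃ m : Ideal R, p ≤ m ∧ m.IsMaximal ∧ g ∉ m := by
    by_contra hcon
    push Not at hcon
    apply hgp
    rw [← hjac, Ideal.jacobson, Ideal.mem_sInf]
    rintro m ⟨hpm, hm⟩
    exact hcon m hpm hm
  obtain ⟨m, hpm, hm, hgm⟩ := this
  have hfm : f ∉ m := fun h => hgm (Ideal.mul_mem_right _ _ h)
  have hmT : (⟨m, hm.isPrime⟩ : PrimeSpectrum R) ∈ T := ⟨hpm, hfm⟩
  have hmp : m ≠ p := fun h => hp (h ▸ hm)
  have h1 : G ⟨m, hm.isPrime⟩ ∈ m := hGq _ hmT hmp
  apply hgm
  apply Ideal.mul_mem_left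
  exact Ideal.mem_of_dvd _ (Finset.dvd_prod_of_mem G (hfin.mem_toFinset.mpr hmT)) h1

end Groth.Agent.S9611
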