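import Groth.Statements.S9614
import Mathlib
-- import your own Groth.Agent.* helpers here

set_option autoImplicit false
universe u
open CAlg

namespace Groth.Agent.S9614

/-- Let S be an ℕ-graded ring and M a finitely generated graded S-module, graded in nonnegative degrees
(the source allows all integer degrees). If x_1, …, x_n are homogeneous elements of M which generate
M modulo S₊ M (S₊ the irrelevant ideal), then x_1, …, x_n generate M. -/
theorem result {R S : Type u} [CommRing R] [CommRing S] [Algebra R S] (𝒜 : ℕ → Submodule R S) [GradedAlgebra 𝒜]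
    (M : Type u) [AddCommGroup M] [Module R M] [Module S M] [IsScalarTower R S M] [Module.Finite S M] (ℳ : ℕ → Submodule R M) [DirectSum.Decomposition ℳ] [SetLike.GradedSMul 𝒜 ℳ]
    {n : ℕ} (x : Fin n → M) (hx : ∀ i, SetLike.IsHomogeneousElem ℳ (x i))
    (h : Submodule.span S (Set.range x) ⊔ (HomogeneousIdeal.irrelevant 𝒜).toIdeal • (⊤ : Submodule S M) = ⊤) :
    Submodule.span S (Set.range x) = ⊤ := by

  classical
  obtain ⟨N, hN⟩ : ∃ N : Submodule S M, N = Submodule.span S (Set.range x) := ⟨_, rfl⟩
  rw [← hN] at h ⊢
  let proj : ℕ → M → M := fun d y => ((DirectSum.decompose ℳ y) d : M)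
  have proj_add : ∀ d y y', proj d (y + y') = proj d y + proj d y' := by
    intro d y y'
    simp only [proj, DirectSum.decompose_add, DirectSum.add_apply, Submodule.coe_add]
  have proj_zero : ∀ d, proj d 0 = 0 := by
    intro d
    simp only [proj, DirectSum.decompose_zero, DirectSum.zero_apply, Submodule.coe_zero]
  have proj_sum : ∀ d (s : Finset ℕ) (f : ℕ → M), proj d (∑ i ∈ s, f i) = ∑ i ∈ s, proj d (f i) := by
    intro d s f
    induction s using Finset.induction_on with
    | empty => simp only [Finset.sum_empty, proj_zero]
    | insert a s ha ih => rw [Finset.sum_insert ha, Finset.sum_insert ha, proj_add, ih]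
  have proj_hom : ∀ d b (y : M), y ∈ ℳ b → proj d y = if b = d then y else 0 := by
    intro d b y hy
    split_ifs with hbd
    · subst hbd; exact DirectSum.decompose_of_mem_same ℳ hy
    · exact DirectSum.decompose_of_mem_ne ℳ hy hbd
  have proj_mem : ∀ d y, proj d y ∈ ℳ d := fun d y => ((DirectSum.decompose ℳ y) d).2
  have L : ∀ (a : ℕ) (s : S), s ∈ 𝒜 a → ∀ (d : ℕ) (y : M),
      proj d (s • y) = if a ≤ d then s • proj (d - a) y else 0 := by
    intro a s hs d y
    induction y using DirectSum.Decomposition.inductionOn ℳ with
    | zero => simp only [smul_zero, proj_zero, ite_self]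
    | @homogeneous b m =>
      have h1 : s • (m : M) ∈ ℳ (a + b) := SetLike.GradedSMul.smul_mem hs m.2
      rw [proj_hom d (a + b) _ h1, proj_hom (d - a) b _ m.2]
      by_cases had : a ≤ d
      · rw [if_pos had]
        by_cases hb : b = d - a
        · rw [if_pos hb, if_pos (by omega)]
        · rw [if_neg hb, if_neg (by omega), smul_zero]
      · rw [if_neg had, if_neg (by omega)]
    | add m m' h1 h2 =>
      rw [smul_add, proj_add, h1, h2, proj_add]
      split_ifs
      · rw [smul_add]
      · rw [add_zero]
  -- N is stable under the projections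
  have hNhom : ∀ y ∈ N, ∀ d, proj d y ∈ N := by
    intro y hy
    rw [hN] at hy
    refine Submodule.span_induction ?_ ?_ ?_ ?_ hy
    · rintro _ ⟨i, rfl⟩ d
      obtain ⟨e, he⟩ := hx i
      rw [proj_hom d e _ he]
      split_ifs
      · rw [hN]; exact Submodule.subset_span ⟨i, rfl⟩
      · exact N.zero_mem
    · intro d; rw [proj_zero]; exact N.zero_mem
    · intro y y' _ _ h1 h2 d
      rw [proj_add]; exact N.add_mem (h1 d) (h2 d)
    · intro s y _ h1
      induction s using DirectSum.Decomposition.inductionOn 𝒜 with
      | zero => intro d; rw [zero_smul, proj_zero]; exact N.zero_mem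
      | @homogeneous a s =>
        intro d
        rw [L a s s.2 d y]
        split_ifs
        · exact N.smul_mem _ (h1 _)
        · exact N.zero_mem
      | add s s' hs hs' =>
        intro d
        rw [add_smul, proj_add]; exact N.add_mem (hs d) (hs' d)
  -- every homogeneous element lies in N
  have key : ∀ d, ∀ m ∈ ℳ d, m ∈ N := by
    intro d
    induction d using Nat.strong_induction_on with
    | _ d ih =>
      intro m hm
      have hmtop : m ∈ (⊤ : Submodule S M) := trivial
      rw [← h, Submodule.mem_sup] at hmtop
      obtain ⟨y, hy, z, hz, hyz⟩ := hmtop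
      have hz' : proj d z ∈ N := by
        refine Submodule.smul_induction_on hz ?_ ?_
        · intro r hr m' _
          have hr0 : ((DirectSum.decompose 𝒜 r) 0 : S) = 0 := by
            have := (HomogeneousIdeal.mem_irrelevant_iff 𝒜 r).1 hr
            exact this
          have hsum : r • m' = ∑ a ∈ (DirectSum.decompose 𝒜 r).support,
              ((DirectSum.decompose 𝒜 r) a : S) • m' := by
            conv_lhs => rw [← DirectSum.sum_support_decompose 𝒜 r]
            rw [Finset.sum_smul]
          rw [hsum, proj_sum]
          refine N.sum_mem fun a _ => ?_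
          rw [L a _ ((DirectSum.decompose 𝒜 r) a).2 d m']
          split_ifs with had
          · rcases Nat.eq_zero_or_pos a with rfl | ha
            · rw [hr0, zero_smul]; exact N.zero_mem
            · exact N.smul_mem _ (ih (d - a) (by omega) _ (proj_mem _ _))
          · exact N.zero_mem
        · intro z z' h1 h2
          rw [proj_add]; exact N.add_mem h1 h2
      have hmd : m = proj d y + proj d z := by
        rw [← proj_add, hyz, proj_hom d d m hm, if_pos rfl]
      rw [hmd]
      exact N.add_mem (hNhom y hy d) hz'
  rw [eq_top_iff]
  intro m _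
  rw [← DirectSum.sum_support_decompose ℳ m]
  exact N.sum_mem fun d _ => key d _ ((DirectSum.decompose ℳ m) d).2

end Groth.Agent.S9614
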