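import Groth.Statements.S9615
import Mathlib
-- import your own Groth.Agent.* helpers here

set_option autoImplicit false
universe u
open CAlg
set_option maxSynthPendingDepth 3

namespace Groth.Agent.S9615

/-- Let R → S be a homomorphism of ℕ-graded rings, i.e. the structure map carries each graded piece R_i
into S_i. If an element s of S is integral over R, then each homogeneous component of s is integral
over R; so the integral closure of R in S is a graded subring of S. -/
theorem result {R S : Type u} [CommRing R] [CommRing S] [Algebra R S] (ℛ : ℕ → AddSubgroup R) [GradedRing ℛ] (𝒮 : ℕ → AddSubgroup S) [GradedRing 𝒮]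
    (hmap : ∀ i : ℕ, ∀ r ∈ ℛ i, algebraMap R S r ∈ 𝒮 i) (s : S) (hs : IsIntegral R s) (i : ℕ) :
    IsIntegral R ((DirectSum.decompose 𝒮 s i : 𝒮 i) : S) := by
  classical
  -- the "grading" ring homomorphism `a ↦ ∑ aᵢ Xⁱ`
  have Φex : ∀ (A : Type u) [CommRing A] (𝒜 : ℕ → AddSubgroup A) [GradedRing 𝒜],
      ∃ Φ : A →+* Polynomial A, ∀ a i, (Φ a).coeff i = (DirectSum.decompose 𝒜 a i : A) := by
    intro A _ 𝒜 _
    let f : ∀ i, 𝒜 i →+ Polynomial A := fun i =>
      (Polynomial.monomial i).toAddMonoidHom.comp (𝒜 i).subtype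
    obtain ⟨Ψ, hΨ⟩ : ∃ Ψ : (DirectSum ℕ fun i => ↥(𝒜 i)) →+* Polynomial A,
        ∀ (j : ℕ) (m : 𝒜 j), Ψ (DirectSum.of (fun i => ↥(𝒜 i)) j m) =
          Polynomial.monomial j (m : A) := by
      refine ⟨DirectSum.toSemiring f ?_ ?_, ?_⟩
      · change Polynomial.monomial 0 (1 : A) = 1
        exact Polynomial.monomial_zero_one
      · intro i j ai aj
        change Polynomial.monomial (i + j) ((ai : A) * (aj : A)) =
          Polynomial.monomial i (ai : A) * Polynomial.monomial j (aj : A)
        rw [Polynomial.monomial_mul_monomial]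
      · intro j m
        rw [DirectSum.toSemiring_of]
        rfl
    refine ⟨Ψ.comp (DirectSum.decomposeRingEquiv 𝒜).toRingHom, ?_⟩
    intro a i
    change (Ψ (DirectSum.decompose 𝒜 a)).coeff i = _
    induction a using DirectSum.Decomposition.inductionOn 𝒜 with
    | zero => simp
    | @homogeneous j m =>
      rw [DirectSum.decompose_coe, hΨ]
      rw [Polynomial.coeff_monomial]
      by_cases hji : j = i
      · subst hji
        rw [if_pos rfl, DirectSum.of_eq_same]
      · rw [if_neg hji, DirectSum.of_eq_of_ne _ _ _ (Ne.symm hji)]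
        rfl
    | add m m' h h' =>
      rw [DirectSum.decompose_add, map_add, Polynomial.coeff_add, h, h']
      rfl
  obtain ⟨ΦR, hΦR⟩ := Φex R ℛ
  obtain ⟨ΦS, hΦS⟩ := Φex S 𝒮
  -- compatibility of decompositions with the algebra map
  have hdec : ∀ (r : R) (j : ℕ), (DirectSum.decompose 𝒮 (algebraMap R S r) j : S) =
      algebraMap R S (DirectSum.decompose ℛ r j : R) := by
    intro r
    induction r using DirectSum.Decomposition.inductionOn ℛ with
    | zero => intro j; simp
    | @homogeneous i m =>
      intro j
      by_cases hij : i = j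
      · subst hij
        rw [DirectSum.decompose_of_mem_same 𝒮 (hmap i _ m.2),
          DirectSum.decompose_of_mem_same ℛ m.2]
      · rw [DirectSum.decompose_of_mem_ne 𝒮 (hmap i _ m.2) hij,
          DirectSum.decompose_of_mem_ne ℛ m.2 hij, map_zero]
    | add m m' h h' =>
      intro j
      rw [map_add, DirectSum.decompose_add, DirectSum.decompose_add]
      change ((DirectSum.decompose 𝒮 (algebraMap R S m) j : S) +
        (DirectSum.decompose 𝒮 (algebraMap R S m') j : S)) =
        algebraMap R S ((DirectSum.decompose ℛ m j : R) + (DirectSum.decompose ℛ m' j : R))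
      rw [h j, h' j, map_add]
  have hcompat : (Polynomial.mapRingHom (algebraMap R S)).comp ΦR = ΦS.comp (algebraMap R S) := by
    ext r i
    simp only [RingHom.comp_apply, Polynomial.coe_mapRingHom, Polynomial.coeff_map]
    rw [hΦR, hΦS, hdec]
  letI : Algebra (Polynomial R) (Polynomial S) := Polynomial.algebra R S
  obtain ⟨P, hPmonic, hPs⟩ := hs
  have hint : IsIntegral (Polynomial R) (ΦS s) := by
    refine ⟨P.map ΦR, hPmonic.map ΦR, ?_⟩
    rw [Polynomial.eval₂_map]
    change Polynomial.eval₂ ((Polynomial.mapRingHom (algebraMap R S)).comp ΦR) (ΦS s) P = 0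
    rw [hcompat, ← Polynomial.hom_eval₂, hPs, map_zero]
  have h1 := IsIntegral.coeff hint i
  rw [hΦS] at h1
  exact h1

end Groth.Agent.S9615
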