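import Groth.Statements.S9620
import Mathlib

set_option autoImplicit false
universe u
open CAlg

namespace Groth.Agent.S9620

section aux
variable {R : Type u} [CommRing R]

/-- idempotents in `p` -/
def idem (p : PrimeSpectrum R) : Set R := {e : R | IsIdempotentElem e ∧ e ∈ p.asIdeal}

theorem idem_sup (p : PrimeSpectrum R) {e e' : R} (he : e ∈ idem p) (he' : e' ∈ idem p) :
    e + e' - e * e' ∈ idem p := by
  refine ⟨?_, ?_⟩
  · have h1 : e * e = e := he.1
    have h2 : e' * e' = e' := he'.1
    change (e + e' - e * e') * (e + e' - e * e') = e + e' - e * e'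
    have : (e + e' - e * e') * (e + e' - e * e') =
        e * e + e' * e' + 2 * (e * e') - 2 * ((e * e) * e') - 2 * (e * (e' * e'))
          + (e * e) * (e' * e') := by ring
    rw [this, h1, h2]
    ring
  · exact Ideal.sub_mem _ (Ideal.add_mem _ he.2 he'.2) (Ideal.mul_mem_right _ _ he.2)

theorem exists_idem_mul_eq (p : PrimeSpectrum R) (x : R) (hx : x ∈ Ideal.span (idem p)) :
    ∃ e ∈ idem p, x * e = x := by
  induction hx using Submodule.span_induction with
  | mem x hx => exact ⟨x, hx, hx.1⟩
  | zero => exact ⟨0, ⟨IsIdempotentElem.zero, zero_mem _⟩, by simp⟩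
  | add x y _ _ hx hy =>
    obtain ⟨e, he, hxe⟩ := hx
    obtain ⟨e', he', hye'⟩ := hy
    refine ⟨e + e' - e * e', idem_sup p he he', ?_⟩
    have h1 : x * (e + e' - e * e') = x * e + (x - x * e) * e' := by ring
    have h2 : y * (e + e' - e * e') = y * e' + (y - y * e') * e := by ring
    rw [add_mul, h1, h2, hxe, hye']
    ring
  | smul a x _ hx =>
    obtain ⟨e, he, hxe⟩ := hx
    refine ⟨e, he, ?_⟩
    rw [smul_eq_mul, mul_assoc, hxe]

theorem idem_dichotomy (p : PrimeSpectrum R) (e : R) (he : IsIdempotentElem e) :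
    e ∈ Ideal.span (idem p) ∨ 1 - e ∈ Ideal.span (idem p) := by
  have h0 : e * (1 - e) ∈ p.asIdeal := by
    have : e * (1 - e) = 0 := by rw [mul_sub, mul_one, he.eq, sub_self]
    rw [this]; exact zero_mem _
  rcases p.2.mem_or_mem h0 with h | h
  · exact Or.inl (Ideal.subset_span ⟨he, h⟩)
  · exact Or.inr (Ideal.subset_span ⟨he.one_sub, h⟩)

theorem quot_idem (p : PrimeSpectrum R) (b : R ⧸ Ideal.span (idem p)) (hb : IsIdempotentElem b) :
    b = 0 ∨ b = 1 := by
  obtain ⟨a, rfl⟩ := Ideal.Quotient.mk_surjective b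
  have h1 : a * a - a ∈ Ideal.span (idem p) := by
    rw [← Ideal.Quotient.eq, map_mul]
    exact hb
  obtain ⟨e, he, hae⟩ := exists_idem_mul_eq p _ h1
  have hee : e * e = e := he.1
  have hb' : IsIdempotentElem (a * (1 - e)) := by
    change a * (1 - e) * (a * (1 - e)) = a * (1 - e)
    have h2 : a * (1 - e) * (a * (1 - e)) =
        a * (1 - e) + ((a * a - a) - (a * a - a) * e) - (a * a) * (e - e * e) := by ring
    rw [h2, hae, hee]
    ring
  have hmk : Ideal.Quotient.mk (Ideal.span (idem p)) (a * (1 - e)) =
      Ideal.Quotient.mk (Ideal.span (idem p)) a := by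
    rw [Ideal.Quotient.eq]
    have : a * (1 - e) - a = -(a * e) := by ring
    rw [this]
    exact neg_mem (Ideal.mul_mem_left _ _ (Ideal.subset_span he))
  rcases idem_dichotomy p _ hb' with h | h
  · left
    rw [← hmk]
    exact Ideal.Quotient.eq_zero_iff_mem.mpr h
  · right
    rw [← hmk, ← sub_eq_zero, ← neg_eq_zero, neg_sub, ← map_one (Ideal.Quotient.mk _), ← map_sub]
    exact Ideal.Quotient.eq_zero_iff_mem.mpr h

theorem preconnected_quot (p : PrimeSpectrum R) :
    PreconnectedSpace (PrimeSpectrum (R ⧸ Ideal.span (idem p))) := by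
  rw [preconnectedSpace_iff_clopen]
  intro s hs
  obtain ⟨b, hb, rfl⟩ := PrimeSpectrum.isClopen_iff.mp hs
  rcases quot_idem p b hb with rfl | rfl
  · left; simp
  · right; simp

end aux

/-- For a ring R and a point p of Spec R, the connected component of p is the zero locus of the ideal I
generated by the idempotents of R contained in p, and every idempotent e of R satisfies e ∈ I or 1 -
e ∈ I (e maps to 0 or 1 in R/I). -/
theorem result {R : Type u} [CommRing R] (p : PrimeSpectrum R) :
    connectedComponent p = PrimeSpectrum.zeroLocus {e : R | IsIdempotentElem e ∧ e ∈ p.asIdeal} ∧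
      ∀ e : R, IsIdempotentElem e → (e ∈ Ideal.span {e : R | IsIdempotentElem e ∧ e ∈ p.asIdeal} ∨ 1 - e ∈ Ideal.span {e : R | IsIdempotentElem e ∧ e ∈ p.asIdeal}) := by
  refine ⟨?_, fun e he => idem_dichotomy p e he⟩
  change connectedComponent p = PrimeSpectrum.zeroLocus (idem p)
  apply Set.Subset.antisymm
  · intro x hx e he
    -- `V(e)` is clopen and contains `p`
    have hclopen : IsClopen (PrimeSpectrum.zeroLocus ({e} : Set R)) :=
      PrimeSpectrum.isClopen_iff_zeroLocus.mpr ⟨e, he.1, rfl⟩
    have hp : p ∈ PrimeSpectrum.zeroLocus ({e} : Set R) := by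
      simpa using he.2
    have := hclopen.connectedComponent_subset hp hx
    simpa using this
  · have hpre := preconnected_quot p
    have hrange : Set.range (PrimeSpectrum.comap (Ideal.Quotient.mk (Ideal.span (idem p)))) =
        PrimeSpectrum.zeroLocus (idem p) := by
      rw [range_comap_of_surjective _ _ Ideal.Quotient.mk_surjective, Ideal.mk_ker,
        PrimeSpectrum.zeroLocus_span]
    rw [← hrange]
    apply IsPreconnected.subset_connectedComponent
    · exact isPreconnected_range (PrimeSpectrum.continuous_comap _)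
    · rw [hrange]
      intro e he
      exact he.2

end Groth.Agent.S9620
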