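import Groth.Statements.S9618
import Groth.Agent.S9620

set_option autoImplicit false
universe u
open CAlg

namespace Groth.Agent.S9618

theorem isIdempotentElem_finset_prod {R : Type u} [CommRing R] {ι : Type*} (s : Finset ι)
    (f : ι → R) (h : ∀ i ∈ s, IsIdempotentElem (f i)) : IsIdempotentElem (∏ i ∈ s, f i) := by
  classical
  induction s using Finset.induction_on with
  | empty => simpa using IsIdempotentElem.one
  | insert a s ha ih =>
    rw [Finset.prod_insert ha]
    exact (h a (Finset.mem_insert_self a s)).mul
      (ih (fun i hi => h i (Finset.mem_insert_of_mem hi)))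

/-- For a ring R and a subset T of Spec R the following are equivalent: (1) T is closed and contains the
connected component of each of its points; (2) T can be written as an intersection of subsets of
Spec R that are both open and closed; (3) T is the common zero locus of some set of idempotent
elements of R (equivalently, of the ideal they generate). -/
theorem result {R : Type u} [CommRing R] (T : Set (PrimeSpectrum R)) :
    [IsClosed T ∧ ∀ x ∈ T, connectedComponent x ⊆ T,
      ∃ U : Set (Set (PrimeSpectrum R)), (∀ u ∈ U, IsClopen u) ∧ T = ⋂₀ U,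
      ∃ E : Set R, (∀ e ∈ E, IsIdempotentElem e) ∧ T = PrimeSpectrum.zeroLocus E].TFAE := by
  tfae_have 2 → 3 := by
    rintro ⟨U, hU, rfl⟩
    refine ⟨{e | IsIdempotentElem e ∧ PrimeSpectrum.zeroLocus ({e} : Set R) ∈ U},
      fun e he => he.1, ?_⟩
    ext x
    simp only [Set.mem_sInter, PrimeSpectrum.mem_zeroLocus]
    constructor
    · intro hx e he
      have := hx _ he.2
      simpa using this
    · intro hx u hu
      obtain ⟨e, he, rfl⟩ := PrimeSpectrum.isClopen_iff_zeroLocus.mp (hU u hu)
      have : e ∈ x.asIdeal := hx ⟨he, hu⟩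
      simpa using this
  tfae_have 3 → 2 := by
    rintro ⟨E, hE, rfl⟩
    refine ⟨(fun e : R => PrimeSpectrum.zeroLocus ({e} : Set R)) '' E, ?_, ?_⟩
    · rintro _ ⟨e, he, rfl⟩
      exact PrimeSpectrum.isClopen_iff_zeroLocus.mpr ⟨e, hE e he, rfl⟩
    · ext x
      simp only [Set.sInter_image, Set.mem_iInter, PrimeSpectrum.mem_zeroLocus,
        Set.singleton_subset_iff]
      exact ⟨fun hx e he => hx he, fun hx e he => hx e he⟩
  tfae_have 2 → 1 := by
    rintro ⟨U, hU, rfl⟩
    refine ⟨isClosed_sInter fun u hu => (hU u hu).1, ?_⟩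
    intro x hx y hy u hu
    exact (hU u hu).connectedComponent_subset (hx u hu) hy
  tfae_have 1 → 3 := by
    rintro ⟨hTc, hT⟩
    refine ⟨{e | IsIdempotentElem e ∧ T ⊆ PrimeSpectrum.zeroLocus ({e} : Set R)},
      fun e he => he.1, ?_⟩
    apply Set.Subset.antisymm
    · intro t ht e he
      have := he.2 ht
      simpa using this
    · intro x hx
      by_contra hxT
      have key : ∀ t : T, ∃ e : R, IsIdempotentElem e ∧ e ∈ t.1.asIdeal ∧ e ∉ x.asIdeal := by
        intro t
        have hxt : x ∉ connectedComponent t.1 := fun h => hxT (hT t.1 t.2 h)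
        rw [(Groth.Agent.S9620.result t.1).1] at hxt
        by_contra hcon
        push Not at hcon
        apply hxt
        intro e he
        exact hcon e he.1 he.2
      choose e he1 he2 he3 using key
      have hcomp : IsCompact T := hTc.isCompact
      obtain ⟨s, hs⟩ := hcomp.elim_finite_subcover
        (fun t : T => PrimeSpectrum.zeroLocus ({e t} : Set R))
        (fun t => (PrimeSpectrum.isClopen_iff_zeroLocus.mpr ⟨e t, he1 t, rfl⟩).2)
        (fun t ht => Set.mem_iUnion.mpr ⟨⟨t, ht⟩, by simpa using he2 ⟨t, ht⟩⟩)
      have hmem : (∏ t ∈ s, e t) ∈ x.asIdeal := by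
        have h1 : (∏ t ∈ s, e t) ∈ {e | IsIdempotentElem e ∧
            T ⊆ PrimeSpectrum.zeroLocus ({e} : Set R)} := by
          refine ⟨isIdempotentElem_finset_prod s e (fun t _ => he1 t), ?_⟩
          intro t ht
          obtain ⟨i, hi⟩ := Set.mem_iUnion.mp (hs ht)
          obtain ⟨his, hti⟩ := Set.mem_iUnion.mp hi
          have h2 : e i ∈ t.asIdeal := by simpa using hti
          have h3 : (∏ t ∈ s, e t) ∈ t.asIdeal :=
            Ideal.mem_of_dvd _ (Finset.dvd_prod_of_mem e his) h2
          simpa using h3
        exact hx h1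
      rw [Ideal.IsPrime.prod_mem_iff] at hmem
      obtain ⟨t, -, ht⟩ := hmem
      exact he3 t ht
  tfae_finish

end Groth.Agent.S9618
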