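import Groth.Statements.S9621
import Mathlib

set_option autoImplicit false
universe u
open CAlg

namespace Groth.Agent.S9621

theorem exists_nilpotent_mul {R : Type u} [CommRing R] (p : Ideal R) [p.IsPrime]
    (hp : p ∈ minimalPrimes R) (g : R) (hg : g ∈ p) : ∃ f ∉ p, IsNilpotent (f * g) := by
  have h1 : ((⊥ : Ideal R).map (algebraMap R (Localization.AtPrime p))).radical =
      p.map (algebraMap R (Localization.AtPrime p)) :=
    IsLocalization.AtPrime.radical_map_of_mem_minimalPrimes (Localization.AtPrime p) p ⊥ hp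
  have h2 : algebraMap R (Localization.AtPrime p) g ∈
      ((⊥ : Ideal R).map (algebraMap R (Localization.AtPrime p))).radical := by
    rw [h1]; exact Ideal.mem_map_of_mem _ hg
  rw [Ideal.map_bot] at h2
  obtain ⟨n, hn⟩ := h2
  rw [Ideal.mem_bot, ← map_pow, IsLocalization.map_eq_zero_iff p.primeCompl] at hn
  obtain ⟨c, hc⟩ := hn
  refine ⟨c, c.2, n + 1, ?_⟩
  calc ((c : R) * g) ^ (n + 1) = (c : R) ^ n * g * ((c : R) * g ^ n) := by ring
    _ = 0 := by rw [hc, mul_zero]

/-- Let R be a ring, p a minimal prime of R and W a quasi-compact open subset of Spec R not containing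
p. Then there is an f ∈ R, f ∉ p, whose basic open D(f) is disjoint from W. -/
theorem result {R : Type u} [CommRing R] (p : PrimeSpectrum R) (hp : p.asIdeal ∈ minimalPrimes R) (W : Set (PrimeSpectrum R)) (hWo : IsOpen W) (hWc : IsCompact W) (hpW : p ∉ W) :
    ∃ f : R, f ∉ p.asIdeal ∧ Disjoint (PrimeSpectrum.basicOpen f : Set (PrimeSpectrum R)) W := by
  classical
  obtain ⟨t, ht⟩ := PrimeSpectrum.isCompact_isOpen_iff.mp ⟨hWc, hWo⟩
  have htp : ∀ g ∈ t, g ∈ p.asIdeal := by
    intro g hg
    by_contra hgp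
    apply hpW
    rw [← ht]
    intro hmem
    exact hgp (hmem hg)
  have : p.asIdeal.IsPrime := p.2
  choose! F hFp hFn using fun g (hg : g ∈ p.asIdeal) => exists_nilpotent_mul p.asIdeal hp g hg
  refine ⟨∏ g ∈ t, F g, ?_, ?_⟩
  · rw [Ideal.IsPrime.prod_mem_iff]
    rintro ⟨g, hg, h⟩
    exact hFp g (htp g hg) h
  · rw [Set.disjoint_left]
    intro q hq hqW
    rw [← ht] at hqW
    have : ∃ g ∈ t, g ∉ q.asIdeal := by
      by_contra hcon
      push Not at hcon
      exact hqW (fun g hg => hcon g hg)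
    obtain ⟨g, hg, hgq⟩ := this
    have hFq : F g ∉ q.asIdeal := by
      intro h
      exact hq (Ideal.mem_of_dvd _ (Finset.dvd_prod_of_mem F hg) h)
    have hnil : IsNilpotent (F g * g) := hFn g (htp g hg)
    have hmem : F g * g ∈ q.asIdeal := by
      obtain ⟨n, hn⟩ := hnil
      exact q.2.mem_of_pow_mem n (hn ▸ zero_mem _)
    rcases q.2.mem_or_mem hmem with h | h
    · exact hFq h
    · exact hgq h

end Groth.Agent.S9621
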