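import Groth.Statements.S9625
import Mathlib

set_option autoImplicit false
universe u
open CAlg

namespace Groth.Agent.S9625

theorem irreducibleSpace_of_injective {A B : Type u} [CommRing A] [CommRing B] (φ : A →+* B)
    (hφ : Function.Injective φ) [IrreducibleSpace (PrimeSpectrum B)] :
    IrreducibleSpace (PrimeSpectrum A) := by
  have hd : DenseRange (PrimeSpectrum.comap φ) := by
    rw [PrimeSpectrum.denseRange_comap_iff_ker_le_nilRadical,
      (RingHom.injective_iff_ker_eq_bot φ).mp hφ]
    exact bot_le
  rw [irreducibleSpace_def]
  have h1 : IsIrreducible (Set.univ : Set (PrimeSpectrum B)) :=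
    IrreducibleSpace.isIrreducible_univ _
  have h2 : IsIrreducible (Set.range (PrimeSpectrum.comap φ)) := by
    rw [← Set.image_univ]
    exact h1.image _ (PrimeSpectrum.continuous_comap φ).continuousOn
  have h3 := h2.closure
  rw [hd.closure_range] at h3
  exact h3

open TensorProduct in
theorem tensor_subalgebra_injective {k S : Type u} [Field k] [CommRing S] [Algebra k S]
    (S' : Subalgebra k S) (k' : Type u) [Field k'] [Algebra k k'] :
    Function.Injective (Algebra.TensorProduct.map (AlgHom.id k k') S'.val) := by
  have : Function.Injective (LinearMap.lTensor k' S'.val.toLinearMap) :=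
    Module.Flat.lTensor_preserves_injective_linearMap _ Subtype.val_injective
  exact this

open TensorProduct in
/-- Let k be a field and S a k-algebra such that Spec(k' ⊗_k S) is irreducible for every field extension
k'/k. Then every k-subalgebra of S has the same property. Here the test fields range over field
extensions in the universe of k; this is equivalent to the unrestricted notion, since an algebraic
closure of k suffices as a test. -/
theorem result {k S : Type u} [Field k] [CommRing S] [Algebra k S]
    (hS : ∀ (k' : Type u) [Field k'] [Algebra k k'], IrreducibleSpace (PrimeSpectrum (k' ⊗[k] S))) (S' : Subalgebra k S) :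
    ∀ (k' : Type u) [Field k'] [Algebra k k'], IrreducibleSpace (PrimeSpectrum (k' ⊗[k] S')) := by
  intro k' _ _
  have := hS k'
  exact irreducibleSpace_of_injective
    (Algebra.TensorProduct.map (AlgHom.id k k') S'.val).toRingHom
    (tensor_subalgebra_injective S' k')

end Groth.Agent.S9625
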