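import Groth.Statements.S9633
import Groth.Agent.S9621

set_option autoImplicit false
universe u
open CAlg

namespace Groth.Agent.S9633

theorem isClosed_basicOpen_of_minimal {R : Type u} [CommRing R]
    (h : ∀ p : Ideal R, p.IsPrime → p ∈ minimalPrimes R) (f : R) :
    IsClosed (PrimeSpectrum.basicOpen f : Set (PrimeSpectrum R)) := by
  rw [← isOpen_compl_iff, isOpen_iff_forall_mem_open]
  intro p hp
  have hfp : f ∈ p.asIdeal := by
    by_contra hcon
    exact hp hcon
  have := p.2
  obtain ⟨s, hs, hnil⟩ := Groth.Agent.S9621.exists_nilpotent_mul p.asIdeal (h p.asIdeal p.2) f hfp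
  refine ⟨(PrimeSpectrum.basicOpen s : Set (PrimeSpectrum R)), ?_, (PrimeSpectrum.basicOpen s).2, hs⟩
  intro q hq hqf
  have hmem : s * f ∈ q.asIdeal := by
    obtain ⟨n, hn⟩ := hnil
    exact q.2.mem_of_pow_mem n (hn ▸ zero_mem _)
  rcases q.2.mem_or_mem hmem with h1 | h1
  · exact hq h1
  · exact hqf h1

/-- For a ring R with spectrum X the following are equivalent: (1) X is profinite, i.e. compact,
Hausdorff and totally disconnected; (2) X is Hausdorff; (3) X is totally disconnected; (4) every
quasi-compact open subset of X is closed; (5) there are no nontrivial inclusions among prime ideals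
of R; (6) every prime ideal of R is maximal; (7) every prime ideal of R is a minimal prime; (8)
every standard open D(f) is closed. -/
theorem result {R : Type u} [CommRing R] :
    [CompactSpace (PrimeSpectrum R) ∧ T2Space (PrimeSpectrum R) ∧ TotallyDisconnectedSpace (PrimeSpectrum R),
      T2Space (PrimeSpectrum R),
      TotallyDisconnectedSpace (PrimeSpectrum R),
      ∀ W : Set (PrimeSpectrum R), IsOpen W → IsCompact W → IsClosed W,
      ∀ p q : PrimeSpectrum R, p ≤ q → p = q,
      ∀ p : Ideal R, p.IsPrime → p.IsMaximal,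
      ∀ p : Ideal R, p.IsPrime → p ∈ minimalPrimes R,
      ∀ f : R, IsClosed (PrimeSpectrum.basicOpen f : Set (PrimeSpectrum R))].TFAE := by
  tfae_have 1 → 2 := fun h => h.2.1
  tfae_have 1 → 3 := fun h => h.2.2
  tfae_have 2 → 5 := by
    intro h p q hpq
    rw [PrimeSpectrum.le_iff_specializes] at hpq
    exact hpq.eq
  tfae_have 3 → 5 := by
    intro h p q hpq
    rw [PrimeSpectrum.le_iff_specializes, specializes_iff_mem_closure] at hpq
    have hpre : IsPreconnected (closure ({p} : Set (PrimeSpectrum R))) :=
      isPreconnected_singleton.closure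
    exact hpre.subsingleton (subset_closure rfl) hpq
  tfae_have 5 → 6 := by
    intro h p hp
    obtain ⟨m, hm, hpm⟩ := Ideal.exists_le_maximal p hp.ne_top
    have := h ⟨p, hp⟩ ⟨m, hm.isPrime⟩ hpm
    have hpm' : p = m := congrArg PrimeSpectrum.asIdeal this
    rw [hpm']
    exact hm
  tfae_have 6 → 7 := by
    intro h p hp
    obtain ⟨q, hq, hqp⟩ := Ideal.exists_minimalPrimes_le (I := ⊥) (J := p) bot_le
    have hqmax : q.IsMaximal := h q hq.1.1
    have : q = p := hqmax.eq_of_le hp.ne_top hqp
    rw [← this]
    exact hq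
  tfae_have 7 → 8 := isClosed_basicOpen_of_minimal
  tfae_have 8 → 4 := by
    intro h W hWo hWc
    obtain ⟨t, ht⟩ := PrimeSpectrum.isCompact_isOpen_iff.mp ⟨hWc, hWo⟩
    have : W = ⋃ f ∈ t, (PrimeSpectrum.basicOpen f : Set (PrimeSpectrum R)) := by
      rw [← ht]
      ext x
      simp only [Set.mem_compl_iff, PrimeSpectrum.mem_zeroLocus, Set.mem_iUnion,
        SetLike.mem_coe, PrimeSpectrum.mem_basicOpen, exists_prop]
      constructor
      · intro hx
        by_contra hcon
        push Not at hcon
        exact hx (fun f hf => hcon f hf)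
      · rintro ⟨f, hf, hfx⟩ hsub
        exact hfx (hsub hf)
    rw [this]
    exact Set.Finite.isClosed_biUnion t.finite_toSet (fun f _ => h f)
  tfae_have 4 → 8 := by
    intro h f
    exact h _ (PrimeSpectrum.basicOpen f).2 (PrimeSpectrum.isCompact_basicOpen f)
  tfae_have 8 → 1 := by
    intro h
    have hTS : TotallySeparatedSpace (PrimeSpectrum R) := by
      rw [totallySeparatedSpace_iff_exists_isClopen]
      intro p q hpq
      have : ¬ (p.asIdeal ≤ q.asIdeal ∧ q.asIdeal ≤ p.asIdeal) := by
        rintro ⟨h1, h2⟩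
        exact hpq (PrimeSpectrum.ext (le_antisymm h1 h2))
      rw [not_and_or] at this
      rcases this with h1 | h1
      · obtain ⟨f, hfp, hfq⟩ := SetLike.not_le_iff_exists.mp h1
        refine ⟨(PrimeSpectrum.basicOpen f : Set (PrimeSpectrum R))ᶜ,
          ⟨(PrimeSpectrum.basicOpen f).2.isClosed_compl, (h f).isOpen_compl⟩, ?_, ?_⟩
        · exact fun hcon => hcon hfp
        · rw [compl_compl]
          exact hfq
      · obtain ⟨f, hfq, hfp⟩ := SetLike.not_le_iff_exists.mp h1
        refine ⟨(PrimeSpectrum.basicOpen f : Set (PrimeSpectrum R)),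
          ⟨h f, (PrimeSpectrum.basicOpen f).2⟩, hfp, ?_⟩
        exact fun hcon => hcon hfq
    exact ⟨inferInstance, inferInstance, inferInstance⟩
  tfae_finish

end Groth.Agent.S9633
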