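import Groth.Statements.S9636
import Mathlib
-- import your own Groth.Agent.* helpers here

set_option autoImplicit false
universe u
open CAlg

namespace Groth.Agent.S9636

open TensorProduct in
/-- Let k'/k be a separable algebraic field extension. Then for some multiplicative subset S of k' ⊗_k
k' the multiplication map k' ⊗_k k' → k' is a localization at S: there is a ring isomorphism S⁻¹(k'
⊗_k k') ≅ k' carrying the localization map to the multiplication map. -/
theorem result {k k' : Type u} [Field k] [Field k'] [Algebra k k'] [Algebra.IsSeparable k k'] :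
    ∃ (S : Submonoid (k' ⊗[k] k')) (e : Localization S ≃+* k'), ∀ x : k' ⊗[k] k', e (algebraMap (k' ⊗[k] k') (Localization S) x) = Algebra.TensorProduct.lmul' (S := k') k x := by

  classical
  obtain ⟨μ, hμ⟩ : ∃ μ : k' ⊗[k] k' →ₐ[k] k', μ = Algebra.TensorProduct.lmul' (S := k') k :=
    ⟨_, rfl⟩
  have hμt : ∀ a b : k', μ (a ⊗ₜ[k] b) = a * b := by
    intro a b; rw [hμ]; exact Algebra.TensorProduct.lmul'_apply_tmul a b
  -- key: elements of the kernel are killed by an element with μ = 1
  have hgen : ∀ s : k', ∃ c : k' ⊗[k] k', μ c = 1 ∧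
      c * ((1 : k') ⊗ₜ[k] s - s ⊗ₜ[k] (1 : k')) = 0 := by
    intro s
    have hs : IsIntegral k s := (Algebra.IsSeparable.isIntegral k s)
    obtain ⟨F, hF⟩ : ∃ F : IntermediateField k k', F = IntermediateField.adjoin k {s} :=
      ⟨_, rfl⟩
    have hsF : s ∈ F := by rw [hF]; exact IntermediateField.mem_adjoin_simple_self k s
    have hfd : FiniteDimensional k F := by
      rw [hF]; exact IntermediateField.adjoin.finiteDimensional hs
    have hunr : Algebra.FormallyUnramified k F := Algebra.FormallyUnramified.of_isSeparable k F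
    obtain ⟨t, ht⟩ : ∃ t : F ⊗[k] F, t = Algebra.FormallyUnramified.elem k F := ⟨_, rfl⟩
    have h1 : ((1 : F) ⊗ₜ[k] (⟨s, hsF⟩ : F) - (⟨s, hsF⟩ : F) ⊗ₜ[k] (1 : F)) * t = 0 := by
      rw [ht]; exact Algebra.FormallyUnramified.one_tmul_sub_tmul_one_mul_elem _
    have h2 : Algebra.TensorProduct.lmul' k t = (1 : F) := by
      rw [ht]; exact Algebra.FormallyUnramified.lmul_elem
    obtain ⟨φ, hφ⟩ : ∃ φ : F ⊗[k] F →ₐ[k] k' ⊗[k] k', φ =
        Algebra.TensorProduct.map F.val F.val := ⟨_, rfl⟩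
    have hφt : ∀ a b : F, φ (a ⊗ₜ[k] b) = (a : k') ⊗ₜ[k] (b : k') := by
      intro a b; rw [hφ]; simp
    have hμφ : ∀ z : F ⊗[k] F, μ (φ z) = ((Algebra.TensorProduct.lmul' k z : F) : k') := by
      intro z
      induction z using TensorProduct.induction_on with
      | zero => simp
      | tmul a b => rw [hφt, hμt, Algebra.TensorProduct.lmul'_apply_tmul]; rfl
      | add z w hz hw => rw [map_add, map_add, hz, hw, map_add]; rfl
    refine ⟨φ t, ?_, ?_⟩
    · rw [hμφ, h2]; rfl
    · have := congrArg φ h1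
      rw [map_mul, map_sub, hφt, hφt, map_zero] at this
      rw [mul_comm]
      exact this
  have hspan : ∀ w : k' ⊗[k] k',
      w ∈ Ideal.span (Set.range fun s : k' => (1 : k') ⊗ₜ[k] s - s ⊗ₜ[k] (1 : k')) →
      ∃ c : k' ⊗[k] k', μ c = 1 ∧ c * w = 0 := by
    intro w hw'
    induction hw' using Submodule.span_induction with
    | mem x hx =>
      obtain ⟨s, rfl⟩ := hx
      exact hgen s
    | zero => exact ⟨1, map_one μ, by simp⟩
    | add x y _ _ hx hy =>
      obtain ⟨c1, hc1, hc1x⟩ := hx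
      obtain ⟨c2, hc2, hc2y⟩ := hy
      refine ⟨c1 * c2, by rw [map_mul, hc1, hc2, one_mul], ?_⟩
      rw [mul_add, mul_right_comm, hc1x, zero_mul, mul_assoc, hc2y, mul_zero, add_zero]
    | smul a x _ hx =>
      obtain ⟨c, hc, hcx⟩ := hx
      refine ⟨c, hc, ?_⟩
      rw [smul_eq_mul, mul_left_comm, hcx, mul_zero]
  have hker : ∀ w : k' ⊗[k] k', μ w = 0 → ∃ c : k' ⊗[k] k', μ c = 1 ∧ c * w = 0 := by
    intro w hw
    have hw' : w ∈ KaehlerDifferential.ideal k k' := by
      show w ∈ RingHom.ker _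
      rw [RingHom.mem_ker]; rw [hμ] at hw; exact hw
    rw [← KaehlerDifferential.span_range_eq_ideal] at hw'
    exact hspan w hw'
  -- the submonoid
  obtain ⟨S, hS⟩ : ∃ S : Submonoid (k' ⊗[k] k'), ∀ x, x ∈ S ↔ μ x ≠ 0 := by
    refine ⟨{ carrier := {x | μ x ≠ 0}, mul_mem' := ?_, one_mem' := ?_ }, fun x => Iff.rfl⟩
    · intro a b ha hb
      show μ (a * b) ≠ 0
      rw [map_mul]; exact mul_ne_zero ha hb
    · show μ 1 ≠ 0
      rw [map_one]; exact one_ne_zero
  letI : Algebra (k' ⊗[k] k') k' := μ.toRingHom.toAlgebra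
  have halg : ∀ x : k' ⊗[k] k', algebraMap (k' ⊗[k] k') k' x = μ x := fun x => rfl
  have hloc : IsLocalization S k' := by
    rw [isLocalization_iff]
    refine ⟨?_, ?_, ?_⟩
    · rintro ⟨s, hs⟩
      rw [halg]
      exact isUnit_iff_ne_zero.mpr ((hS s).mp hs)
    · intro z
      refine ⟨(z ⊗ₜ[k] (1 : k'), 1), ?_⟩
      rw [halg, halg, hμt, Submonoid.coe_one, map_one, mul_one]
    · intro x y hxy
      rw [halg, halg] at hxy
      have h0 : μ (x - y) = 0 := by rw [map_sub, hxy, sub_self]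
      obtain ⟨c, hc, hcw⟩ := hker _ h0
      refine ⟨⟨c, (hS c).mpr (by rw [hc]; exact one_ne_zero)⟩, ?_⟩
      show c * x = c * y
      rw [mul_sub] at hcw
      exact sub_eq_zero.mp hcw
  refine ⟨S, (IsLocalization.algEquiv S (Localization S) k').toRingEquiv, ?_⟩
  intro x
  rw [← hμ, ← halg]
  exact (IsLocalization.algEquiv S (Localization S) k').commutes x

end Groth.Agent.S9636
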