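import Groth.Statements.S9644
import Mathlib
-- import your own Groth.Agent.* helpers here

set_option autoImplicit false
universe u
open CAlg
set_option maxSynthPendingDepth 3

namespace Groth.Agent.S9644

/-- Let R be a Noetherian ring and M a finite R-module. Among the submodules K' of M whose support is
nowhere dense inside Supp(M) there is a largest one, K. The quotient M' = M/K then satisfies
Supp(M') = Supp(M), its associated primes are pairwise incomparable (no embedded ones), and whenever
f ∈ R belongs to every embedded associated prime of M the localized map M_f → M'_f is bijective. -/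
theorem result {R : Type u} [CommRing R] [IsNoetherianRing R] (M : Type u) [AddCommGroup M] [Module R M] [Module.Finite R M] :
    ∃ K : Submodule R M,
      IsGreatest {K' : Submodule R M | ∀ U : Set (PrimeSpectrum R), IsOpen U → U ∩ Module.support R M ⊆ closure (Module.support R ↥K') → U ∩ Module.support R M = ∅} K ∧
      Module.support R (M ⧸ K) = Module.support R M ∧
      (∀ p ∈ associatedPrimes R (M ⧸ K), ∀ q ∈ associatedPrimes R (M ⧸ K), p ≤ q → p = q) ∧
      ∀ f : R, (∀ p ∈ associatedPrimes R M, ¬ Minimal (fun x => x ∈ associatedPrimes R M) p → f ∈ p) →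
        Function.Bijective (LocalizedModule.map (Submonoid.powers f) K.mkQ) := by
  classical
  haveI hNoeth : IsNoetherian R M := isNoetherian_of_isNoetherianRing_of_finite R M
  set P : Set (Ideal R) := (Module.annihilator R M).minimalPrimes with hP
  have hPfin : P.Finite := Ideal.finite_minimalPrimes_of_isNoetherianRing R _
  have hPprime : ∀ p ∈ P, p.IsPrime := fun p hp => hp.1.1
  have hPann : ∀ p ∈ P, Module.annihilator R M ≤ p := fun p hp => hp.1.2
  have hPmin : ∀ p ∈ P, ∀ q : Ideal R, q.IsPrime → Module.annihilator R M ≤ q → q ≤ p → p ≤ q :=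
    fun p hp q hq hann hle => hp.2 ⟨hq, hann⟩ hle
  have hPex : ∀ q : Ideal R, q.IsPrime → Module.annihilator R M ≤ q → ∃ p ∈ P, p ≤ q := by
    intro q hq hann
    exact Ideal.exists_minimalPrimes_le hann
  have hPass : P ⊆ associatedPrimes R M :=
    Module.associatedPrimes.minimalPrimes_annihilator_subset_associatedPrimes R M
  let K : Submodule R M :=
    { carrier := {x | ∀ p ∈ P, ∃ s : R, s ∉ p ∧ s • x = 0}
      add_mem' := by
        intro x y hx hy p hp
        obtain ⟨s, hs, hsx⟩ := hx p hp
        obtain ⟨t, ht, hty⟩ := hy p hp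
        have hpp := hPprime p hp
        refine ⟨s * t, fun h => (hpp.mem_or_mem h).elim hs ht, ?_⟩
        have e1 : (s * t) • x = t • (s • x) := by rw [mul_comm, mul_smul]
        have e2 : (s * t) • y = s • (t • y) := by rw [mul_smul]
        rw [smul_add, e1, e2, hsx, hty, smul_zero, smul_zero, add_zero]
      zero_mem' := by
        intro p hp
        exact ⟨1, fun h => (hPprime p hp).ne_top ((Ideal.eq_top_iff_one _).mpr h), smul_zero _⟩
      smul_mem' := by
        intro c x hx p hp
        obtain ⟨s, hs, hsx⟩ := hx p hp
        exact ⟨s, hs, by rw [smul_comm, hsx, smul_zero]⟩ }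
  have hK : ∀ x, x ∈ K ↔ ∀ p ∈ P, ∃ s : R, s ∉ p ∧ s • x = 0 := fun x => Iff.rfl
  -- membership in the support of a submodule
  have hsuppsub : ∀ (K' : Submodule R M) (q : PrimeSpectrum R),
      q ∈ Module.support R ↥K' ↔ ∃ x ∈ K', ∀ r : R, r • x = 0 → r ∈ q.asIdeal := by
    intro K' q
    rw [Module.mem_support_iff_exists_annihilator]
    constructor
    · rintro ⟨m, hm⟩
      refine ⟨m.1, m.2, fun r hr => hm ?_⟩
      rw [Submodule.mem_annihilator_span_singleton]
      exact Subtype.ext hr
    · rintro ⟨x, hx, h⟩
      refine ⟨⟨x, hx⟩, fun r hr => h r ?_⟩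
      rw [Submodule.mem_annihilator_span_singleton] at hr
      exact congrArg Subtype.val hr
  have hsuppM : ∀ (q : PrimeSpectrum R),
      q ∈ Module.support R M ↔ Module.annihilator R M ≤ q.asIdeal :=
    fun q => Module.mem_support_iff_of_finite
  have hclosed : ∀ K' : Submodule R M, closure (Module.support R ↥K') = Module.support R ↥K' := by
    intro K'
    rw [Module.support_eq_zeroLocus]
    exact (PrimeSpectrum.isClosed_zeroLocus _).closure_eq
  -- (⟸) direction of the characterization
  have hchar1 : ∀ K' : Submodule R M, K' ≤ K → ∀ U : Set (PrimeSpectrum R), IsOpen U →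
      U ∩ Module.support R M ⊆ closure (Module.support R ↥K') → U ∩ Module.support R M = ∅ := by
    intro K' hK' U hU hsub
    rw [Set.eq_empty_iff_forall_notMem]
    rintro q ⟨hqU, hqS⟩
    obtain ⟨p, hp, hpq⟩ := hPex q.asIdeal q.2 ((hsuppM q).mp hqS)
    set p' : PrimeSpectrum R := ⟨p, hPprime p hp⟩ with hp'
    have hspec : p' ⤳ q := (PrimeSpectrum.le_iff_specializes p' q).mp hpq
    have hp'U : p' ∈ U := hspec.mem_open hU hqU
    have hp'S : p' ∈ Module.support R M := (hsuppM p').mpr (hPann p hp)
    have h1 : p' ∈ Module.support R ↥K' := by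
      rw [← hclosed K']
      exact hsub ⟨hp'U, hp'S⟩
    obtain ⟨x, hx, hxp⟩ := (hsuppsub K' p').mp h1
    obtain ⟨s, hs, hsx⟩ := (hK x).mp (hK' hx) p hp
    exact hs (hxp s hsx)
  -- (⟹) direction
  have hchar2 : ∀ K' : Submodule R M, (∀ U : Set (PrimeSpectrum R), IsOpen U →
      U ∩ Module.support R M ⊆ closure (Module.support R ↥K') → U ∩ Module.support R M = ∅) →
      K' ≤ K := by
    intro K' hcond x hx
    rw [hK]
    intro p hp
    by_contra hcon
    push_neg at hcon
    set p' : PrimeSpectrum R := ⟨p, hPprime p hp⟩ with hp'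
    have hp'K : p' ∈ Module.support R ↥K' := by
      rw [hsuppsub]
      refine ⟨x, hx, fun r hr => ?_⟩
      by_contra hrp
      exact hcon r hrp hr
    set U : Set (PrimeSpectrum R) := (⋃ q ∈ P \ {p}, PrimeSpectrum.zeroLocus (q : Set R))ᶜ with hU
    have hUopen : IsOpen U := by
      rw [hU, isOpen_compl_iff]
      exact (hPfin.subset Set.diff_subset).isClosed_biUnion
        (fun q _ => PrimeSpectrum.isClosed_zeroLocus _)
    have hsub : U ∩ Module.support R M ⊆ closure (Module.support R ↥K') := by
      rintro q ⟨hqU, hqS⟩
      apply subset_closure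
      obtain ⟨p₁, hp₁, hp₁q⟩ := hPex q.asIdeal q.2 ((hsuppM q).mp hqS)
      have hp₁p : p₁ = p := by
        by_contra hne
        apply hqU
        simp only [Set.mem_iUnion]
        exact ⟨p₁, ⟨hp₁, hne⟩, by
          rw [PrimeSpectrum.mem_zeroLocus]
          exact hp₁q⟩
      subst hp₁p
      have hle : p' ≤ q := hp₁q
      exact Module.mem_support_mono hle hp'K
    have hempty := hcond U hUopen hsub
    have hmem : p' ∈ U ∩ Module.support R M := by
      refine ⟨?_, (hsuppM p').mpr (hPann p hp)⟩
      rw [hU, Set.mem_compl_iff]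
      simp only [Set.mem_iUnion]
      rintro ⟨q, ⟨hq, hqne⟩, hqp⟩
      rw [PrimeSpectrum.mem_zeroLocus] at hqp
      have hqp' : q ≤ p := hqp
      apply hqne
      exact le_antisymm hqp' (hPmin p hp q (hPprime q hq) (hPann q hq) hqp')
    rw [hempty] at hmem
    exact hmem
  refine ⟨K, ⟨?_, ?_⟩, ?_, ?_, ?_⟩
  · exact hchar1 K le_rfl
  · intro K' hK'
    exact hchar2 K' hK'
  · -- support of the quotient
    refine Set.Subset.antisymm
      (Module.support_subset_of_surjective K.mkQ (Submodule.mkQ_surjective K)) ?_
    intro q hqS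
    obtain ⟨p, hp, hpq⟩ := hPex q.asIdeal q.2 ((hsuppM q).mp hqS)
    set p' : PrimeSpectrum R := ⟨p, hPprime p hp⟩ with hp'
    have hp'S : p' ∈ Module.support R M := (hsuppM p').mpr (hPann p hp)
    have hle : p' ≤ q := hpq
    refine Module.mem_support_mono hle ?_
    rw [Module.mem_support_iff_exists_annihilator] at hp'S ⊢
    obtain ⟨m, hm⟩ := hp'S
    refine ⟨K.mkQ m, fun r hr => ?_⟩
    rw [Submodule.mem_annihilator_span_singleton, ← map_smul, Submodule.mkQ_apply,
      Submodule.Quotient.mk_eq_zero] at hr
    obtain ⟨s, hs, hsr⟩ := (hK _).mp hr p hp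
    have h1 : s * r ∈ p := by
      apply hm
      rw [Submodule.mem_annihilator_span_singleton, mul_smul]
      exact hsr
    exact ((hPprime p hp).mem_or_mem h1).resolve_left hs
  · -- associated primes of the quotient are minimal
    have hass : ∀ q ∈ associatedPrimes R (M ⧸ K), q ∈ P := by
      intro q hq
      obtain ⟨hqprime, x, hx⟩ := (isAssociatedPrime_iff).mp hq
      obtain ⟨m, rfl⟩ := K.mkQ_surjective x
      have hmem : ∀ r : R, r ∈ q ↔ r • m ∈ K := by
        intro r
        rw [hx, Submodule.mem_colon_singleton, ← map_smul, Submodule.mem_bot, Submodule.mkQ_apply,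
          Submodule.Quotient.mk_eq_zero]
      have hmK : m ∉ K := by
        intro hmK
        apply hqprime.ne_top
        rw [Ideal.eq_top_iff_one, hmem, one_smul]
        exact hmK
      rw [hK] at hmK
      push_neg at hmK
      obtain ⟨p, hp, hpm⟩ := hmK
      have hqp : q ≤ p := by
        intro r hr
        obtain ⟨s, hs, hsr⟩ := (hK _).mp ((hmem r).mp hr) p hp
        have h1 : s * r ∈ p := by
          by_contra h2
          apply hpm (s * r) h2
          rw [mul_smul]
          exact hsr
        exact ((hPprime p hp).mem_or_mem h1).resolve_left hs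
      have hannq : Module.annihilator R M ≤ q := by
        intro r hr
        rw [hmem, Module.mem_annihilator.mp hr m]
        exact K.zero_mem
      have hpq : p ≤ q := hPmin p hp q hqprime hannq hqp
      rw [le_antisymm hqp hpq]
      exact hp
    intro p hp q hq hpq
    have hp' := hass p hp
    have hq' := hass q hq
    exact le_antisymm hpq (hPmin q hq' p (hPprime p hp') (hPann p hp') hpq)
  · -- localization at `f`
    intro f hf
    have hnil : ∀ y ∈ K, ∃ n : ℕ, f ^ n • y = 0 := by
      intro y hy
      have h1 : f ∈ Ideal.radical (Module.annihilator R ↥(Submodule.span R {y})) := by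
        rw [← Ideal.sInf_minimalPrimes, Ideal.mem_sInf]
        intro q hq
        have hqN : q ∈ associatedPrimes R ↥(Submodule.span R {y}) :=
          Module.associatedPrimes.minimalPrimes_annihilator_subset_associatedPrimes R _ hq
        have hqM : q ∈ associatedPrimes R M :=
          associatedPrimes.subset_of_injective (f := (Submodule.span R {y}).subtype)
            (Submodule.span R {y}).injective_subtype hqN
        apply hf q hqM
        intro hmin
        have hqprime : q.IsPrime := hq.1.1
        have hannN : Module.annihilator R ↥(Submodule.span R {y}) ≤ q := hq.1.2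
        have hannM : Module.annihilator R M ≤ q := by
          refine le_trans ?_ hannN
          intro r hr
          rw [Module.mem_annihilator]
          intro z
          exact Subtype.ext (Module.mem_annihilator.mp hr z.1)
        obtain ⟨p, hp, hpq⟩ := hPex q hqprime hannM
        have hqp : q ≤ p := hmin.2 (hPass hp) hpq
        obtain ⟨s, hs, hsy⟩ := (hK y).mp hy p hp
        apply hs
        apply hqp
        apply hannN
        exact (Submodule.mem_annihilator_span_singleton y s).mpr hsy
      obtain ⟨n, hn⟩ := h1
      exact ⟨n, (Submodule.mem_annihilator_span_singleton y _).mp hn⟩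
    refine ⟨?_, LocalizedModule.map_surjective _ _ (Submodule.mkQ_surjective K)⟩
    rw [injective_iff_map_eq_zero]
    intro z hz
    induction z using LocalizedModule.induction_on with
    | h x s =>
      rw [LocalizedModule.map_mk, ← LocalizedModule.zero_mk s, LocalizedModule.mk_eq] at hz
      obtain ⟨⟨u, a, rfl⟩, hu⟩ := hz
      obtain ⟨s, b, rfl⟩ := s
      simp only [Submonoid.smul_def, smul_zero] at hu
      rw [← map_smul, ← map_smul, Submodule.mkQ_apply, Submodule.Quotient.mk_eq_zero] at hu
      obtain ⟨n, hn⟩ := hnil _ hu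
      rw [← LocalizedModule.zero_mk (⟨f ^ b, b, rfl⟩ : Submonoid.powers f), LocalizedModule.mk_eq]
      refine ⟨⟨f ^ (n + a), n + a, rfl⟩, ?_⟩
      simp only [Submonoid.smul_def, smul_zero]
      rw [pow_add, mul_smul]
      exact hn

end Groth.Agent.S9644
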