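import Groth.Statements.S9646
import Mathlib

set_option autoImplicit false
universe u
open CAlg

namespace Groth.Agent.S9646

/-- (2) ⇒ (1): let R → S be a ring map and x ∈ S. If for every prime ideal p of R the image of x in S_p
(the localization of S at the image of R ∖ p) is integral over R_p, then x is integral over R. Here
R_p and S_p are any rings satisfying the localization universal properties. -/
theorem result {R S : Type u} [CommRing R] [CommRing S] [Algebra R S] (x : S)
    (h : ∀ (p : Ideal R) [p.IsPrime] (Rp Sp : Type u) [CommRing Rp] [CommRing Sp] [Algebra R Rp] [Algebra S Sp] [Algebra Rp Sp] [Algebra R Sp] [IsScalarTower R S Sp] [IsScalarTower R Rp Sp] [IsLocalization.AtPrime Rp p] [IsLocalization (Algebra.algebraMapSubmonoid S p.primeCompl) Sp], IsIntegral Rp (algebraMap S Sp x)) :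
    IsIntegral R x := by
  classical
  let I : Ideal R :=
    { carrier := {r | IsIntegral R (r • x)}
      add_mem' := fun {a b} ha hb => by
        rw [Set.mem_ofPred_eq, add_smul]; exact IsIntegral.add ha hb
      zero_mem' := by
        rw [Set.mem_ofPred_eq, zero_smul]; exact isIntegral_zero
      smul_mem' := fun c r hr => by
        rw [Set.mem_ofPred_eq, smul_assoc]; exact IsIntegral.smul c hr }
  by_contra hx
  have hI : I ≠ ⊤ := by
    intro h
    have h1 : (1 : R) ∈ I := h ▸ Submodule.mem_top
    have h2 : IsIntegral R ((1 : R) • x) := h1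
    rw [one_smul] at h2
    exact hx h2
  obtain ⟨m, hm, hIm⟩ := Ideal.exists_le_maximal I hI
  have hmp : m.IsPrime := hm.isPrime
  have h1 := h m (Localization.AtPrime m)
    (Localization (Algebra.algebraMapSubmonoid S m.primeCompl))
  obtain ⟨⟨r, hr⟩, hr1⟩ := IsIntegral.exists_multiple_integral_of_isLocalization m.primeCompl _ h1
  obtain ⟨r', hr', hr2⟩ := IsLocalization.exists_isIntegral_smul_of_isIntegral_map
    (Sₘ := Localization (Algebra.algebraMapSubmonoid S m.primeCompl)) m.primeCompl (x := r • x) (by
      rw [Submonoid.smul_def] at hr1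
      simpa [Algebra.smul_def, ← IsScalarTower.algebraMap_apply] using hr1)
  have hmem : r' * r ∈ I := by
    change IsIntegral R ((r' * r) • x)
    rwa [mul_smul]
  exact (m.primeCompl.mul_mem hr' hr) (hIm hmem)

end Groth.Agent.S9646
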