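import Groth.Statements.S9649
import Groth.Agent.Lib.MacLane_helper3
-- import your own Groth.Agent.* helpers here

set_option autoImplicit false
universe u
open CAlg
set_option maxSynthPendingDepth 3

namespace Groth.Agent.S9649

/-- A separably generated field extension is separable. Precisely: let K/k be a field extension
admitting a transcendence basis x over whose generated subfield k(x) the field K is separable
algebraic; then every finitely generated subextension K' of K/k also admits such a transcendence
basis. -/
theorem result {k K : Type u} [Field k] [Field K] [Algebra k K]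
    (h : ∃ (ι : Type u) (x : ι → K), IsTranscendenceBasis k x ∧ Algebra.IsSeparable (IntermediateField.adjoin k (Set.range x)) K)
    (K' : IntermediateField k K) (hK' : ∃ s : Finset K, IntermediateField.adjoin k (s : Set K) = K') :
    ∃ (ι : Type u) (x : ι → K'), IsTranscendenceBasis k x ∧ Algebra.IsSeparable (IntermediateField.adjoin k (Set.range x)) K' := by
  classical
  obtain ⟨ι, x, hx, hsep⟩ := h
  obtain ⟨s, hs⟩ := hK'
  haveI : Algebra.EssFiniteType k K' := IntermediateField.essFiniteType_iff.2 ⟨s, hs⟩
  obtain ⟨p, hp⟩ := ExpChar.exists k
  have key : ∃ t : Finset K', IsTranscendenceBasis k ((↑) : t → K') ∧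
      Algebra.IsSeparable (IntermediateField.adjoin k (t : Set K')) K' := by
    cases hp with
    | zero =>
      exact exists_isTranscendenceBasis_and_isSeparable_of_perfectField k K'
    | prime hp' =>
      haveI : ExpChar k p := ExpChar.prime hp'
      refine exists_isTranscendenceBasis_and_isSeparable_of_linearIndepOn_pow_of_essFiniteType
        p hp' ?_
      intro t ht
      have ht' : LinearIndependent k (fun a : (t : Set K') => ((a.1 : K') : K)) := by
        have h0 : LinearIndependent k (fun a : (t : Set K') => (a.1 : K')) := ht
        exact h0.map' K'.val.toLinearMap (LinearMap.ker_eq_bot_of_injective K'.val.toRingHom.injective)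
      haveI : Fintype (t : Set K') := Fintype.ofFinite _
      have h1 := Groth.Agent.Lib.MacLaneH3.linearIndependent_pow_of_separablyGenerated p x hx.1 hsep
        (fun a : (t : Set K') => ((a.1 : K') : K)) ht'
      show LinearIndependent k (fun a : (t : Set K') => (a.1 : K') ^ p)
      refine LinearIndependent.of_comp K'.val.toLinearMap ?_
      convert h1 using 1
      ext a
      simp
  obtain ⟨t, ht1, ht2⟩ := key
  have hgen : ∀ (S : Set K'), S = (t : Set K') →
      Algebra.IsSeparable (IntermediateField.adjoin k S) K' := by
    intro S hS
    subst hS
    exact ht2
  exact ⟨t, (↑), ht1, hgen _ Subtype.range_coe⟩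

end Groth.Agent.S9649
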