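import Groth.Statements.S9650
import Groth.Agent.Lib.MacLane_helper3
-- import your own Groth.Agent.* helpers here

set_option autoImplicit false
universe u
open CAlg
set_option maxSynthPendingDepth 3

namespace Groth.Agent.S9650

/-- Let K/k be a finitely generated field extension that is separably generated, i.e. admits a
transcendence basis over whose generated subfield K is separable algebraic. Then K is generated over
k by finitely many elements x_1, …, x_r, y such that the x_i form a transcendence basis of K/k and y
is separable over the subfield k(x_1, …, x_r). -/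
theorem result {k K : Type u} [Field k] [Field K] [Algebra k K]
    (hfg : ∃ s : Finset K, IntermediateField.adjoin k (s : Set K) = ⊤)
    (hsep : ∃ (ι : Type u) (x : ι → K), IsTranscendenceBasis k x ∧ Algebra.IsSeparable (IntermediateField.adjoin k (Set.range x)) K) :
    ∃ (r : ℕ) (x : Fin r → K) (y : K), IsTranscendenceBasis k x ∧ IntermediateField.adjoin k (insert y (Set.range x)) = ⊤ ∧ IsSeparable (IntermediateField.adjoin k (Set.range x)) y := by
  classical
  obtain ⟨ι, x, hx, hsepx⟩ := hsep
  haveI : Algebra.EssFiniteType k K := IntermediateField.fg_top_iff.1 hfg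
  obtain ⟨p, hp⟩ := ExpChar.exists k
  have key : ∃ t : Finset K, IsTranscendenceBasis k ((↑) : t → K) ∧
      Algebra.IsSeparable (IntermediateField.adjoin k (t : Set K)) K := by
    cases hp with
    | zero => exact exists_isTranscendenceBasis_and_isSeparable_of_perfectField k K
    | prime hp' =>
      haveI : ExpChar k p := ExpChar.prime hp'
      refine exists_isTranscendenceBasis_and_isSeparable_of_linearIndepOn_pow_of_essFiniteType
        p hp' ?_
      intro t ht
      haveI : Fintype (t : Set K) := Fintype.ofFinite _
      exact Groth.Agent.Lib.MacLaneH3.linearIndependent_pow_of_separablyGenerated p x hx.1 hsepx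
        (fun a : (t : Set K) => (a.1 : K)) ht
  obtain ⟨t, ht1, ht2⟩ := key
  have hrange : Set.range (fun i : Fin t.card => ((t.equivFin.symm i : t) : K)) = (t : Set K) := by
    ext z
    constructor
    · rintro ⟨i, rfl⟩
      exact (t.equivFin.symm i).2
    · intro hz
      exact ⟨t.equivFin ⟨z, hz⟩, by simp⟩
  haveI := ht2
  haveI : Algebra.EssFiniteType (IntermediateField.adjoin k (t : Set K)) K :=
    Algebra.EssFiniteType.of_comp k _ K
  haveI : Module.Finite (IntermediateField.adjoin k (t : Set K)) K :=
    Algebra.finite_of_essFiniteType_of_isAlgebraic
  obtain ⟨y, hy⟩ := Field.exists_primitive_element (IntermediateField.adjoin k (t : Set K)) K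
  refine ⟨t.card, fun i => ((t.equivFin.symm i : t) : K), y, ?_, ?_, ?_⟩
  · exact ht1.comp_equiv t.equivFin.symm
  · rw [hrange]
    have h1 := IntermediateField.adjoin_adjoin_left k (t : Set K) ({y} : Set K)
    rw [Set.insert_eq, Set.union_comm, ← h1, hy]
    rfl
  · have hgen : ∀ (S : Set K), S = (t : Set K) →
        IsSeparable (IntermediateField.adjoin k S) y := by
      intro S hS
      subst hS
      exact Algebra.IsSeparable.isSeparable _ y
    exact hgen _ hrange

end Groth.Agent.S9650
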