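import Groth.Statements.S9652
import Groth.Agent.Lib.JacCons_helper8

set_option autoImplicit false
universe u
open CAlg

namespace Groth.Agent.S9652

/-- Let R and S be Jacobson rings, R → S a ring map of finite type with induced map f : Spec(S) →
Spec(R), and E ⊆ Spec(S) a constructible subset. Writing T₀ for the set of points of a subspace T
which are closed in T, one has f(E)₀ = f(E₀) = (Spec R)₀ ∩ f(E). -/
theorem result {R S : Type u} [CommRing R] [CommRing S] [Algebra R S] [IsJacobsonRing R] [IsJacobsonRing S] [Algebra.FiniteType R S]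
    (E : Set (PrimeSpectrum S)) (hE : Topology.IsConstructible E) :
    {x | x ∈ PrimeSpectrum.comap (algebraMap R S) '' E ∧ closure {x} ∩ PrimeSpectrum.comap (algebraMap R S) '' E = {x}} =
        PrimeSpectrum.comap (algebraMap R S) '' {y | y ∈ E ∧ closure {y} ∩ E = {y}} ∧
      PrimeSpectrum.comap (algebraMap R S) '' {y | y ∈ E ∧ closure {y} ∩ E = {y}} =
        {x | IsClosed ({x} : Set (PrimeSpectrum R))} ∩ PrimeSpectrum.comap (algebraMap R S) '' E := by
  classical
  set f := PrimeSpectrum.comap (algebraMap R S) with hf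
  have hfc : Continuous f := PrimeSpectrum.continuous_comap _
  -- closed points of E
  have hA : ∀ y, y ∈ E → closure {y} ∩ E = {y} → IsClosed ({y} : Set (PrimeSpectrum S)) := by
    intro y hyE hy
    obtain ⟨y', hy', hcl⟩ := Groth.Agent.JacCons.exists_isClosed_singleton_of_isConstructible E hE
      (closure {y}) isClosed_closure ⟨y, subset_closure rfl, hyE⟩
    rw [hy, Set.mem_singleton_iff] at hy'
    exact hy' ▸ hcl
  have hA' : ∀ y, y ∈ E → IsClosed ({y} : Set (PrimeSpectrum S)) → closure {y} ∩ E = {y} := by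
    intro y hyE hcl
    rw [hcl.closure_eq]
    exact Set.inter_eq_left.mpr (Set.singleton_subset_iff.mpr hyE)
  have hB : ∀ y, IsClosed ({y} : Set (PrimeSpectrum S)) → IsClosed ({f y} : Set (PrimeSpectrum R)) :=
    fun y hy => Groth.Agent.JacCons.isClosed_singleton_comap y hy
  have h2 : f '' {y | y ∈ E ∧ closure {y} ∩ E = {y}} =
      {x | IsClosed ({x} : Set (PrimeSpectrum R))} ∩ f '' E := by
    ext x
    constructor
    · rintro ⟨y, ⟨hyE, hy⟩, rfl⟩
      exact ⟨hB y (hA y hyE hy), y, hyE, rfl⟩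
    · rintro ⟨hx, y, hyE, rfl⟩
      have hC : IsClosed (f ⁻¹' {f y}) := hx.preimage hfc
      obtain ⟨y', ⟨hy'C, hy'E⟩, hcl⟩ :=
        Groth.Agent.JacCons.exists_isClosed_singleton_of_isConstructible E hE _ hC ⟨y, rfl, hyE⟩
      exact ⟨y', ⟨hy'E, hA' y' hy'E hcl⟩, hy'C⟩
  refine ⟨?_, h2⟩
  ext x
  constructor
  · rintro ⟨⟨y, hyE, rfl⟩, hx⟩
    obtain ⟨y', ⟨hy'C, hy'E⟩, hcl⟩ :=
      Groth.Agent.JacCons.exists_isClosed_singleton_of_isConstructible E hE
        (closure {y}) isClosed_closure ⟨y, subset_closure rfl, hyE⟩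
    have h1 : f y' ∈ closure {f y} := by
      have := image_closure_subset_closure_image hfc (s := {y}) ⟨y', hy'C, rfl⟩
      rwa [Set.image_singleton] at this
    have h3 : f y' ∈ closure {f y} ∩ f '' E := ⟨h1, y', hy'E, rfl⟩
    rw [hx, Set.mem_singleton_iff] at h3
    exact ⟨y', ⟨hy'E, hA' y' hy'E hcl⟩, h3⟩
  · rintro ⟨y, ⟨hyE, hy⟩, rfl⟩
    refine ⟨⟨y, hyE, rfl⟩, ?_⟩
    rw [(hB y (hA y hyE hy)).closure_eq]
    exact Set.inter_eq_left.mpr (Set.singleton_subset_iff.mpr ⟨y, hyE, rfl⟩)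

end Groth.Agent.S9652
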