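import Groth.Statements.S9653
import Groth.Agent.Lib.JacCons2_helper8

set_option autoImplicit false
universe u
open CAlg

namespace Groth.Agent.S9653

/-- Let R and S be Jacobson rings, R → S a ring map of finite type with induced map f : Spec(S) →
Spec(R), E ⊆ Spec(S) constructible and E₀ the set of points of E closed in E. Then a point ξ of
Spec(R) lies in f(E) if and only if cl{ξ} ∩ f(E₀) is dense in the closure cl{ξ}. -/
theorem result {R S : Type u} [CommRing R] [CommRing S] [Algebra R S] [IsJacobsonRing R] [IsJacobsonRing S] [Algebra.FiniteType R S]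
    (E : Set (PrimeSpectrum S)) (hE : Topology.IsConstructible E) (ξ : PrimeSpectrum R) :
    ξ ∈ PrimeSpectrum.comap (algebraMap R S) '' E ↔
      closure ({ξ} : Set (PrimeSpectrum R)) ⊆ closure (closure {ξ} ∩ PrimeSpectrum.comap (algebraMap R S) '' {y | y ∈ E ∧ closure {y} ∩ E = {y}}) := by
  classical
  set f := PrimeSpectrum.comap (algebraMap R S) with hf
  have hfc : Continuous f := PrimeSpectrum.continuous_comap _
  have hA' : ∀ y, y ∈ E → IsClosed ({y} : Set (PrimeSpectrum S)) → closure {y} ∩ E = {y} := by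
    intro y hyE hcl
    rw [hcl.closure_eq]
    exact Set.inter_eq_left.mpr (Set.singleton_subset_iff.mpr hyE)
  constructor
  · rintro ⟨y, hyE, rfl⟩
    rw [isClosed_closure.closure_subset_iff, Set.singleton_subset_iff,
      PrimeSpectrum.isTopologicalBasis_basic_opens.mem_closure_iff]
    rintro _ ⟨g, rfl⟩ hyg
    have hE' : Topology.IsConstructible (E ∩ f ⁻¹' (PrimeSpectrum.basicOpen g : Set (PrimeSpectrum R))) := by
      refine hE.inter ?_
      have : f ⁻¹' (PrimeSpectrum.basicOpen g : Set (PrimeSpectrum R)) =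
          (PrimeSpectrum.basicOpen (algebraMap R S g) : Set (PrimeSpectrum S)) := by
        ext z; rfl
      rw [this]
      exact PrimeSpectrum.isConstructible_basicOpen
    obtain ⟨y', ⟨hy'C, hy'E, hy'g⟩, hcl⟩ :=
      Groth.Agent.JacCons.exists_isClosed_singleton_of_isConstructible _ hE'
        (closure {y}) isClosed_closure ⟨y, subset_closure rfl, hyE, hyg⟩
    have h1 : f y' ∈ closure {f y} := by
      have := image_closure_subset_closure_image hfc (s := {y}) ⟨y', hy'C, rfl⟩
      rwa [Set.image_singleton] at this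
    exact ⟨f y', hy'g, h1, y', ⟨hy'E, hA' y' hy'E hcl⟩, rfl⟩
  · intro h
    have hξ : ξ ∈ closure (closure {ξ} ∩ f '' {y | y ∈ E ∧ closure {y} ∩ E = {y}}) :=
      h (subset_closure rfl)
    obtain ⟨D, rfl⟩ := PrimeSpectrum.exists_constructibleSetData_iff.mpr hE
    have hsub : closure {ξ} ∩ f '' {y | y ∈ D.toSet ∧ closure {y} ∩ D.toSet = {y}} ⊆
        ⋃ c ∈ (D : Set (PrimeSpectrum.BasicConstructibleSetData S)),
          (closure {ξ} ∩ f '' c.toSet) := by
      rintro x ⟨hx, y, ⟨hyE, -⟩, rfl⟩
      simp only [PrimeSpectrum.ConstructibleSetData.toSet, Set.mem_iUnion] at hyE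
      obtain ⟨c, hcD, hyc⟩ := hyE
      exact Set.mem_biUnion (Finset.mem_coe.mpr hcD) ⟨hx, y, hyc, rfl⟩
    have hξ2 := closure_mono hsub hξ
    rw [(Finset.finite_toSet D).closure_biUnion, Set.mem_iUnion₂] at hξ2
    obtain ⟨c, hcD, hξc⟩ := hξ2
    have := Groth.Agent.JacCons.mem_image_of_mem_closure (algebraMap R S) (Set.range c.g) c.f ξ hξc
    obtain ⟨y, hy, rfl⟩ := this
    refine ⟨y, ?_, rfl⟩
    simp only [PrimeSpectrum.ConstructibleSetData.toSet, Set.mem_iUnion]
    exact ⟨c, Finset.mem_coe.mp hcD, hy⟩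

end Groth.Agent.S9653
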