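import Groth.Statements.S9655
import Mathlib
-- import your own Groth.Agent.* helpers here

set_option autoImplicit false
universe u
open CAlg


namespace Groth.Agent.S9655

/-- Let R and S be local rings and R → S a ring map, not necessarily local, that is essentially of
finite type. Then for some n there is a maximal ideal m of the polynomial ring R[x_1, …, x_n] lying
over the maximal ideal of R, together with an R-algebra map φ : R[x_1, …, x_n]_m → S making S a
localization of the image of φ; thus S arises from R[x_1, …, x_n]_m by passing to a quotient and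
then localizing. -/
theorem result {R S : Type u} [CommRing R] [CommRing S] [Algebra R S] [IsLocalRing R] [IsLocalRing S] [Algebra.EssFiniteType R S] :
    ∃ (n : ℕ) (m : Ideal (MvPolynomial (Fin n) R)) (_ : m.IsMaximal), m.under R = IsLocalRing.maximalIdeal R ∧
      ∃ (φ : Localization.AtPrime m →ₐ[R] S) (T : Submonoid φ.range), IsLocalization T S := by
  classical
  obtain ⟨σ, hσ⟩ := (Algebra.essFiniteType_iff R S).mp (inferInstance : Algebra.EssFiniteType R S)
  -- residue field and the valuation ring
  let res : S →+* IsLocalRing.ResidueField S := IsLocalRing.residue S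
  let f : R →+* IsLocalRing.ResidueField S := res.comp (algebraMap R S)
  obtain ⟨V, hV, hloc⟩ := IsLocalRing.exists_factor_valuationRing f
  haveI : IsLocalRing V.toSubring := (inferInstance : IsLocalRing V)
  have hres0 : ∀ s : S, res s = 0 ↔ s ∈ IsLocalRing.maximalIdeal S := fun s =>
    IsLocalRing.residue_eq_zero_iff s
  -- the modified generators
  let t : S → S := fun s => if res s ∈ V then s else Ring.inverse s
  have hunit : ∀ s : S, res s ∉ V → IsUnit s := by
    intro s hs
    by_contra hnu
    have : res s = 0 := (hres0 s).mpr ((IsLocalRing.mem_maximalIdeal s).mpr hnu)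
    exact hs (this ▸ V.zero_mem)
  have htV : ∀ s : S, res (t s) ∈ V := by
    intro s
    by_cases hs : res s ∈ V
    · simp only [t, if_pos hs]; exact hs
    · simp only [t, if_neg hs]
      have hu := hunit s hs
      have h1 : res (Ring.inverse s) * res s = 1 := by
        rw [← map_mul, Ring.inverse_mul_cancel s hu, map_one]
      have h2 : res (Ring.inverse s) = (res s)⁻¹ := eq_inv_of_mul_eq_one_left h1
      rw [h2]
      exact (V.mem_or_inv_mem (res s)).resolve_left hs
  -- enumerate
  let n := σ.card
  let e : Fin n ≃ σ := σ.equivFin.symm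
  let tt : Fin n → S := fun i => t (e i).1
  let ev : MvPolynomial (Fin n) R →ₐ[R] S := MvPolynomial.aeval tt
  have hevX : ∀ i, ev (MvPolynomial.X i) = tt i := fun i => MvPolynomial.aeval_X tt i
  have httW : ∀ s ∈ σ, t s ∈ ev.range := by
    intro s hs
    refine ⟨MvPolynomial.X (e.symm ⟨s, hs⟩), ?_⟩
    show ev (MvPolynomial.X (e.symm ⟨s, hs⟩)) = t s
    rw [hevX]
    show t (e (e.symm ⟨s, hs⟩)).1 = t s
    rw [Equiv.apply_symm_apply]
  -- Claim A
  have claimA : ∀ z ∈ Algebra.adjoin R (σ : Set S), ∃ u ∈ ev.range, IsUnit u ∧ z * u ∈ ev.range := by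
    intro z hz
    induction hz using Algebra.adjoin_induction with
    | mem s hs =>
      by_cases hsV : res s ∈ V
      · refine ⟨1, Subalgebra.one_mem _, isUnit_one, ?_⟩
        rw [mul_one]
        have := httW s hs
        simp only [t, if_pos hsV] at this
        exact this
      · have hu := hunit s hsV
        have := httW s hs
        simp only [t, if_neg hsV] at this
        refine ⟨Ring.inverse s, this, ?_, ?_⟩
        · exact ⟨⟨Ring.inverse s, s, Ring.inverse_mul_cancel s hu, Ring.mul_inverse_cancel s hu⟩, rfl⟩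
        · rw [Ring.mul_inverse_cancel s hu]; exact Subalgebra.one_mem _
    | algebraMap r =>
      exact ⟨1, Subalgebra.one_mem _, isUnit_one, by rw [mul_one]; exact Subalgebra.algebraMap_mem _ r⟩
    | add x y _ _ hx hy =>
      obtain ⟨u1, hu1, hu1u, hx1⟩ := hx
      obtain ⟨u2, hu2, hu2u, hy2⟩ := hy
      refine ⟨u1 * u2, Subalgebra.mul_mem _ hu1 hu2, hu1u.mul hu2u, ?_⟩
      have : (x + y) * (u1 * u2) = (x * u1) * u2 + (y * u2) * u1 := by ring
      rw [this]
      exact Subalgebra.add_mem _ (Subalgebra.mul_mem _ hx1 hu2) (Subalgebra.mul_mem _ hy2 hu1)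
    | mul x y _ _ hx hy =>
      obtain ⟨u1, hu1, hu1u, hx1⟩ := hx
      obtain ⟨u2, hu2, hu2u, hy2⟩ := hy
      refine ⟨u1 * u2, Subalgebra.mul_mem _ hu1 hu2, hu1u.mul hu2u, ?_⟩
      have : (x * y) * (u1 * u2) = (x * u1) * (y * u2) := by ring
      rw [this]
      exact Subalgebra.mul_mem _ hx1 hy2
  -- Claim B
  have claimB : ∀ s : S, ∃ u ∈ ev.range, IsUnit u ∧ s * u ∈ ev.range := by
    intro s
    obtain ⟨t0, ht0, ht0u, hst0⟩ := hσ s
    obtain ⟨u1, hu1, hu1u, h1⟩ := claimA t0 ht0
    obtain ⟨u2, hu2, hu2u, h2⟩ := claimA (s * t0) hst0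
    refine ⟨(t0 * u1) * u2, Subalgebra.mul_mem _ h1 hu2, (ht0u.mul hu1u).mul hu2u, ?_⟩
    have : s * (t0 * u1 * u2) = (s * t0 * u2) * u1 := by ring
    rw [this]
    exact Subalgebra.mul_mem _ h2 hu1
  -- the map to V
  let fV : R →+* V.toSubring := f.codRestrict V.toSubring hV
  let ρ' : MvPolynomial (Fin n) R →+* V.toSubring :=
    MvPolynomial.eval₂Hom fV (fun i => ⟨res (tt i), htV _⟩)
  have hρ' : ∀ p, ((ρ' p : V.toSubring) : IsLocalRing.ResidueField S) = res (ev p) := by
    intro p
    have : (V.toSubring.subtype).comp ρ' = res.comp (ev : MvPolynomial (Fin n) R →+* S) := by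
      apply MvPolynomial.ringHom_ext
      · intro r
        show ((ρ' (MvPolynomial.C r) : V.toSubring) : IsLocalRing.ResidueField S) =
          res (ev (MvPolynomial.C r))
        rw [MvPolynomial.eval₂Hom_C]
        show f r = res (MvPolynomial.aeval tt (MvPolynomial.C r))
        rw [← MvPolynomial.algebraMap_eq, AlgHom.commutes]
        rfl
      · intro i
        show ((ρ' (MvPolynomial.X i) : V.toSubring) : IsLocalRing.ResidueField S) =
          res (ev (MvPolynomial.X i))
        rw [MvPolynomial.eval₂Hom_X', hevX]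
    exact RingHom.congr_fun this p
  -- the ideals
  let q : Ideal (MvPolynomial (Fin n) R) := (IsLocalRing.maximalIdeal S).comap ev
  let I : Ideal (MvPolynomial (Fin n) R) :=
    q ⊔ (IsLocalRing.maximalIdeal R).map (MvPolynomial.C : R →+* MvPolynomial (Fin n) R)
  have hI : I ≠ ⊤ := by
    intro htop
    have h1 : (1 : MvPolynomial (Fin n) R) ∈ I := by rw [htop]; trivial
    obtain ⟨a, ha, b, hb, hab⟩ := Submodule.mem_sup.mp h1
    have ha0 : ρ' a = 0 := by
      apply Subtype.ext
      rw [hρ']
      exact (hres0 _).mpr ha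
    have hb0 : ρ' b ∈ IsLocalRing.maximalIdeal V.toSubring := by
      have : (IsLocalRing.maximalIdeal R).map (MvPolynomial.C : R →+* MvPolynomial (Fin n) R) ≤
          (IsLocalRing.maximalIdeal V.toSubring).comap ρ' := by
        rw [Ideal.map_le_iff_le_comap]
        intro r hr
        rw [Ideal.mem_comap, Ideal.mem_comap]
        show ρ' (MvPolynomial.C r) ∈ _
        rw [MvPolynomial.eval₂Hom_C]
        rw [IsLocalRing.mem_maximalIdeal, mem_nonunits_iff]
        intro hu
        exact ((IsLocalRing.mem_maximalIdeal r).mp hr) (hloc.map_nonunit r hu)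
      exact this hb
    have h2 : ρ' (a + b) = 1 := by rw [hab, map_one]
    rw [map_add, ha0, zero_add] at h2
    rw [h2] at hb0
    exact (IsLocalRing.maximalIdeal.isMaximal V.toSubring).ne_top
      ((Ideal.eq_top_iff_one _).mpr hb0)
  obtain ⟨m, hm, hIm⟩ := Ideal.exists_le_maximal I hI
  have hqm : q ≤ m := le_sup_left.trans hIm
  have hmR : (IsLocalRing.maximalIdeal R).map (MvPolynomial.C : R →+* MvPolynomial (Fin n) R) ≤ m :=
    le_sup_right.trans hIm
  refine ⟨n, m, hm, ?_, ?_⟩
  · apply le_antisymm
    · apply IsLocalRing.le_maximalIdeal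
      intro htop
      have : (1 : R) ∈ m.under R := by rw [htop]; trivial
      rw [Ideal.under_def, Ideal.mem_comap, map_one] at this
      exact hm.ne_top ((Ideal.eq_top_iff_one _).mpr this)
    · intro r hr
      rw [Ideal.under_def, Ideal.mem_comap]
      exact hmR (Ideal.mem_map_of_mem _ hr)
  · have hunits : ∀ y : m.primeCompl, IsUnit (ev y) := by
      intro y
      by_contra hnu
      have : (y : MvPolynomial (Fin n) R) ∈ q := (IsLocalRing.mem_maximalIdeal _).mpr hnu
      exact y.2 (hqm this)
    let φ : Localization.AtPrime m →ₐ[R] S := IsLocalization.liftAlgHom (M := m.primeCompl) hunits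
    have hφ : ∀ p, φ (algebraMap _ _ p) = ev p := fun p => IsLocalization.lift_eq hunits p
    have hWle : ∀ z ∈ ev.range, z ∈ φ.range := by
      rintro _ ⟨p, rfl⟩
      exact ⟨algebraMap _ _ p, hφ p⟩
    refine ⟨φ, (IsUnit.submonoid S).comap (algebraMap φ.range S), ?_⟩
    refine ⟨⟨fun y => y.prop, fun s => ?_, ?_⟩⟩
    · obtain ⟨u, hu, huu, hsu⟩ := claimB s
      exact ⟨⟨⟨s * u, hWle _ hsu⟩, ⟨⟨u, hWle _ hu⟩, huu⟩⟩, rfl⟩
    · intro x y hxy
      exact ⟨1, by
        have : x = y := Subtype.ext hxy
        rw [this]⟩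

end Groth.Agent.S9655
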