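import Groth.Statements.S9656
import Mathlib

set_option autoImplicit false
universe u
open CAlg

namespace Groth.Agent.S9656

open Polynomial in
theorem exists_assemble {ι : Type u} [Fintype ι] {R : ι → Type u} [∀ i, CommRing (R i)]
    (n : ℕ) (P : ∀ i, (R i)[X]) (hdeg : ∀ i, (P i).natDegree ≤ n) (hc : ∀ i, (P i).coeff n = 1) :
    ∃ Q : (∀ i, R i)[X], Q.Monic ∧ ∀ i, Q.map (Pi.evalRingHom R i) = P i := by
  classical
  let Q : (∀ i, R i)[X] := ∑ k ∈ Finset.range (n + 1), monomial k (fun j => (P j).coeff k)
  have hcoeff : ∀ k, Q.coeff k = if k < n + 1 then (fun j => (P j).coeff k) else 0 := by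
    intro k
    simp only [Q, finsetSum_coeff, coeff_monomial]
    rw [Finset.sum_ite_eq' (Finset.range (n + 1)) k]
    simp only [Finset.mem_range]
  refine ⟨Q, ?_, ?_⟩
  · apply monic_of_natDegree_le_of_coeff_eq_one n
    · apply natDegree_sum_le_of_forall_le
      intro k hk
      exact (natDegree_monomial_le _).trans (Nat.lt_succ_iff.mp (Finset.mem_range.mp hk))
    · rw [hcoeff, if_pos (Nat.lt_succ_self n)]
      funext j
      exact hc j
  · intro i
    ext k
    rw [coeff_map, hcoeff]
    by_cases hk : k < n + 1
    · rw [if_pos hk]; rfl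
    · rw [if_neg hk]
      simp only [Pi.evalRingHom_apply, Pi.zero_apply]
      symm
      apply coeff_eq_zero_of_natDegree_lt
      have := hdeg i
      omega

/-- Let R_i → S_i be ring maps indexed by a finite type ι, with product map R = Π R_i → S = Π S_i. Then
an element (s_i) of S is integral over R exactly when s_i is integral over R_i for every i; so
integral closure in a finite product is computed factor by factor. -/
theorem result {ι : Type u} [Fintype ι] {R S : ι → Type u} [∀ i, CommRing (R i)] [∀ i, CommRing (S i)] (f : ∀ i, R i →+* S i) (s : ∀ i, S i) :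
    (RingHom.pi fun i => (f i).comp (Pi.evalRingHom R i)).IsIntegralElem s ↔ ∀ i, (f i).IsIntegralElem (s i) := by
  classical
  constructor
  · rintro ⟨p, hp, hps⟩ i
    refine ⟨p.map (Pi.evalRingHom R i), hp.map _, ?_⟩
    rw [Polynomial.eval₂_map]
    have := congrArg (Pi.evalRingHom S i) hps
    rw [Polynomial.hom_eval₂, map_zero] at this
    exact this
  · intro h
    choose p hp hps using h
    let n : ℕ := Finset.univ.sup (fun j => (p j).natDegree)
    have hle : ∀ j, (p j).natDegree ≤ n := fun j => Finset.le_sup (f := fun j => (p j).natDegree)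
      (Finset.mem_univ j)
    let P : ∀ i, Polynomial (R i) := fun i => p i * Polynomial.X ^ (n - (p i).natDegree)
    have hPdeg : ∀ i, (P i).natDegree ≤ n := by
      intro i
      simp only [P]
      refine (Polynomial.natDegree_mul_le).trans ?_
      have h1 := Polynomial.natDegree_X_pow_le (R := R i) (n - (p i).natDegree)
      have h2 := hle i
      omega
    have hPc : ∀ i, (P i).coeff n = 1 := by
      intro i
      simp only [P]
      have h2 := hle i
      have key := Polynomial.coeff_mul_X_pow (p i) (n - (p i).natDegree) (p i).natDegree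
      rw [show (p i).natDegree + (n - (p i).natDegree) = n by omega] at key
      rw [key]
      exact hp i
    obtain ⟨Q, hQ, hQmap⟩ := exists_assemble n P hPdeg hPc
    refine ⟨Q, hQ, ?_⟩
    funext i
    have h1 : (Pi.evalRingHom S i) (Polynomial.eval₂
        (RingHom.pi fun i => (f i).comp (Pi.evalRingHom R i)) s Q) =
        Polynomial.eval₂ (f i) (s i) (P i) := by
      rw [Polynomial.hom_eval₂, ← hQmap i, Polynomial.eval₂_map]
      rfl
    change (Pi.evalRingHom S i) _ = 0
    rw [h1]
    simp only [P]
    rw [Polynomial.eval₂_mul, hps i, zero_mul]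

end Groth.Agent.S9656
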