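import Groth.Statements.S9658
import Mathlib

set_option autoImplicit false
universe u
open CAlg

namespace Groth.Agent.S9658

theorem exists_partition {R : Type u} [CommRing R] {ι : Type u} [Fintype ι] (f : ι → R)
    (hf : Ideal.span (Set.range f) = ⊤) (N : ℕ) : ∃ c : ι → R, ∑ i, c i * f i ^ N = 1 := by
  have h := Ideal.span_pow_eq_top (Set.range f) hf N
  rw [← Set.range_comp] at h
  have h1 : (1 : R) ∈ Ideal.span (Set.range ((fun x => x ^ N) ∘ f)) := by rw [h]; trivial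
  exact Ideal.mem_span_range_iff_exists_fun.mp h1

theorem pow_smul_of_le {R : Type u} [CommRing R] {M : Type u} [AddCommGroup M] [Module R M]
    (a : R) {n N : ℕ} (h : n ≤ N) (x : M) : a ^ N • x = a ^ (N - n) • a ^ n • x := by
  rw [← mul_smul, ← pow_add, Nat.sub_add_cancel h]

/-- Let R be a ring, f_1, …, f_n ∈ R generating the unit ideal and M an R-module. With M_i = M_{f_i},
M_ij = M_{f_i f_j} (any localizations, with the canonical compatible maps M → M_i → M_ij), the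
sequence 0 → M → ⊕ M_i → ⊕ M_ij is exact: an element of M whose image vanishes in every M_i is zero,
and every family (m_i ∈ M_i) such that m_i and m_j have the same image in M_ij for all i, j is the
image of an element of M. -/
theorem result {R : Type u} [CommRing R] {ι : Type u} [Fintype ι] (f : ι → R) (hf : Ideal.span (Set.range f) = ⊤)
    (M : Type u) [AddCommGroup M] [Module R M]
    (Mi : ι → Type u) [∀ i, AddCommGroup (Mi i)] [∀ i, Module R (Mi i)] (g : ∀ i, M →ₗ[R] Mi i) [∀ i, IsLocalizedModule (Submonoid.powers (f i)) (g i)]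
    (Mij : ι → ι → Type u) [∀ i j, AddCommGroup (Mij i j)] [∀ i j, Module R (Mij i j)] (gij : ∀ i j, M →ₗ[R] Mij i j) [∀ i j, IsLocalizedModule (Submonoid.powers (f i * f j)) (gij i j)]
    (ρ₁ : ∀ i j, Mi i →ₗ[R] Mij i j) (hρ₁ : ∀ i j, ρ₁ i j ∘ₗ g i = gij i j) (ρ₂ : ∀ i j, Mi j →ₗ[R] Mij i j) (hρ₂ : ∀ i j, ρ₂ i j ∘ₗ g j = gij i j) :
    (∀ m : M, (∀ i, g i m = 0) → m = 0) ∧
      ∀ s : ∀ i, Mi i, (∀ i j, ρ₁ i j (s i) = ρ₂ i j (s j)) → ∃ m : M, ∀ i, g i m = s i := by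
  classical
  constructor
  · intro m hm
    have h1 : ∀ i, ∃ n : ℕ, f i ^ n • m = 0 := by
      intro i
      obtain ⟨⟨c, n, rfl⟩, hc⟩ :=
        (IsLocalizedModule.eq_zero_iff (Submonoid.powers (f i)) (g i)).mp (hm i)
      exact ⟨n, hc⟩
    choose n hn using h1
    have hN : ∀ i, f i ^ (Finset.univ.sup n) • m = 0 := by
      intro i
      rw [pow_smul_of_le (f i) (Finset.le_sup (f := n) (Finset.mem_univ i)), hn, smul_zero]
    obtain ⟨c, hc⟩ := exists_partition f hf (Finset.univ.sup n)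
    calc m = (1 : R) • m := (one_smul _ _).symm
      _ = (∑ i, c i * f i ^ (Finset.univ.sup n)) • m := by rw [hc]
      _ = ∑ i, (c i * f i ^ (Finset.univ.sup n)) • m := Finset.sum_smul
      _ = 0 := Finset.sum_eq_zero (fun i _ => by rw [mul_smul, hN, smul_zero])
  · intro s hs
    -- Step A
    have hA : ∀ i, ∃ (mi : M) (n : ℕ), f i ^ n • s i = g i mi := by
      intro i
      obtain ⟨⟨mi, ⟨c, n, rfl⟩⟩, h⟩ := IsLocalizedModule.surj (Submonoid.powers (f i)) (g i) (s i)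
      exact ⟨mi, n, h⟩
    choose m₀ n₀ h₀ using hA
    obtain ⟨N₁, m₁, h₁⟩ : ∃ (N₁ : ℕ) (m₁ : ι → M), ∀ i, f i ^ N₁ • s i = g i (m₁ i) := by
      refine ⟨Finset.univ.sup n₀, fun i => f i ^ (Finset.univ.sup n₀ - n₀ i) • m₀ i, fun i => ?_⟩
      rw [pow_smul_of_le (f i) (Finset.le_sup (f := n₀) (Finset.mem_univ i)), h₀ i, map_smul]
    -- Step B
    have hB : ∀ p : ι × ι, ∃ k : ℕ, (f p.1 * f p.2) ^ k •
        (f p.2 ^ N₁ • m₁ p.1 - f p.1 ^ N₁ • m₁ p.2) = 0 := by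
      rintro ⟨i, j⟩
      have hz : gij i j (f j ^ N₁ • m₁ i - f i ^ N₁ • m₁ j) = 0 := by
        have e1 : gij i j (f j ^ N₁ • m₁ i) = f j ^ N₁ • f i ^ N₁ • ρ₁ i j (s i) := by
          rw [map_smul, ← hρ₁ i j, LinearMap.comp_apply, ← h₁ i, map_smul]
        have e2 : gij i j (f i ^ N₁ • m₁ j) = f i ^ N₁ • f j ^ N₁ • ρ₂ i j (s j) := by
          rw [map_smul, ← hρ₂ i j, LinearMap.comp_apply, ← h₁ j, map_smul]
        rw [map_sub, e1, e2, hs i j, smul_comm, sub_self]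
      obtain ⟨⟨c, k, rfl⟩, hc⟩ :=
        (IsLocalizedModule.eq_zero_iff (Submonoid.powers (f i * f j)) (gij i j)).mp hz
      exact ⟨k, hc⟩
    choose k₀ hk₀ using hB
    obtain ⟨K, hK'⟩ : ∃ K : ℕ, ∀ i j,
        (f i * f j) ^ K • (f j ^ N₁ • m₁ i - f i ^ N₁ • m₁ j) = 0 := by
      refine ⟨Finset.univ.sup k₀, fun i j => ?_⟩
      rw [pow_smul_of_le (f i * f j) (Finset.le_sup (f := k₀) (Finset.mem_univ (i, j))),
        hk₀ (i, j), smul_zero]
    -- Step C
    obtain ⟨m₂, h₂, h₂'⟩ : ∃ m₂ : ι → M, (∀ i, f i ^ (N₁ + K) • s i = g i (m₂ i)) ∧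
        ∀ i j, f j ^ (N₁ + K) • m₂ i = f i ^ (N₁ + K) • m₂ j := by
      refine ⟨fun i => f i ^ K • m₁ i, fun i => ?_, fun i j => ?_⟩
      · rw [map_smul, ← h₁ i, ← mul_smul, ← pow_add, add_comm]
      · have := hK' i j
        rw [smul_sub, sub_eq_zero] at this
        calc f j ^ (N₁ + K) • f i ^ K • m₁ i = (f i * f j) ^ K • f j ^ N₁ • m₁ i := by
              rw [← mul_smul, ← mul_smul]; congr 1; ring
          _ = (f i * f j) ^ K • f i ^ N₁ • m₁ j := this
          _ = f i ^ (N₁ + K) • f j ^ K • m₁ j := by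
              rw [← mul_smul, ← mul_smul]; congr 1; ring
    -- Step D
    obtain ⟨c, hc⟩ := exists_partition f hf (N₁ + K)
    refine ⟨∑ j, c j • m₂ j, fun i => ?_⟩
    have h3 : f i ^ (N₁ + K) • (∑ j, c j • m₂ j) = m₂ i := by
      rw [Finset.smul_sum]
      calc ∑ j, f i ^ (N₁ + K) • c j • m₂ j = ∑ j, (c j * f j ^ (N₁ + K)) • m₂ i := by
            refine Finset.sum_congr rfl (fun j _ => ?_)
            rw [smul_comm, ← h₂' i j, mul_smul]
        _ = (∑ j, c j * f j ^ (N₁ + K)) • m₂ i := Finset.sum_smul.symm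
        _ = m₂ i := by rw [hc, one_smul]
    have h4 : f i ^ (N₁ + K) • g i (∑ j, c j • m₂ j) = f i ^ (N₁ + K) • s i := by
      rw [← map_smul, h3, h₂ i]
    exact (IsLocalizedModule.smul_inj (g i)
      (⟨f i ^ (N₁ + K), N₁ + K, rfl⟩ : Submonoid.powers (f i)) _ _).mp h4

end Groth.Agent.S9658
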