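import Groth.Statements.S9660
import Mathlib

set_option autoImplicit false
universe u
open CAlg

namespace Groth.Agent.S9660

/-- Let S be an ℕ-graded ring and I a homogeneous ideal of S. Then V₊(I) ⊆ Proj(S) is empty if and only
if S₊ ⊆ √I. -/
theorem result {R S : Type u} [CommRing R] [CommRing S] [Algebra R S] (𝒜 : ℕ → Submodule R S) [GradedAlgebra 𝒜] (I : HomogeneousIdeal 𝒜) :
    ProjectiveSpectrum.zeroLocus 𝒜 (I : Set S) = ∅ ↔ (HomogeneousIdeal.irrelevant 𝒜).toIdeal ≤ I.toIdeal.radical := by
  constructor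
  · intro h
    rw [Ideal.IsHomogeneous.radical_eq I.isHomogeneous]
    apply le_sInf
    rintro J ⟨hJh, hIJ, hJp⟩
    by_contra hcon
    let x : ProjectiveSpectrum 𝒜 :=
      { asHomogeneousIdeal := ⟨J, hJh⟩
        isPrime := hJp
        not_irrelevant_le := fun hle => hcon hle }
    have hx : x ∈ ProjectiveSpectrum.zeroLocus 𝒜 (I : Set S) := by
      rw [ProjectiveSpectrum.mem_zeroLocus]
      exact hIJ
    rw [h] at hx
    exact hx
  · intro h
    rw [Set.eq_empty_iff_forall_notMem]
    intro x hx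
    rw [ProjectiveSpectrum.mem_zeroLocus] at hx
    apply x.not_irrelevant_le
    have h1 : I.toIdeal.radical ≤ x.asHomogeneousIdeal.toIdeal :=
      (Ideal.IsPrime.radical_le_iff x.isPrime).mpr hx
    exact fun a ha => h1 (h ha)

end Groth.Agent.S9660
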