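import Groth.Statements.S9662
import Mathlib
import Groth.Agent.Lib.GH2_helper9

set_option autoImplicit false
universe u
open CategoryTheory
open CAlg

namespace Groth.Agent.S9662

/-- Let S be a Noetherian ℕ-graded ring, presented as a graded algebra over a ring A mapping onto S₀,
whose irrelevant ideal S₊ is generated as an ideal by the degree-1 part S₁, and let M be a finitely
generated graded S-module, graded in nonnegative degrees. (The published statement allows modules
graded in all integer degrees; this row takes modules graded in degrees ≥ 0, which loses nothing for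
large n.) Write K'₀(A) for the Grothendieck group of finite A-modules (the free abelian group on the
finite A-modules modulo the relations given by short exact sequences) and [M_n] for the class of the
finite A-module M_n. Then n ↦ [M_n] is a numerical polynomial: there are a_0, …, a_{r-1} in K'₀(A)
with [M_n] = Σ_i C(n, i) · a_i for all large n. (When A → S₀ is bijective K'₀(A) is K'₀(S₀), the
group of the published statement; in general the classes are taken after restricting scalars along A
→ S₀.) -/
theorem result {A S : Type u} [CommRing A] [CommRing S] [Algebra A S] [IsNoetherianRing S] (𝒜 : ℕ → Submodule A S) [GradedAlgebra 𝒜]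
    (h0 : ∀ s ∈ 𝒜 0, s ∈ Set.range (algebraMap A S))
    (h1 : (HomogeneousIdeal.irrelevant 𝒜).toIdeal = Ideal.span (𝒜 1 : Set S))
    (M : Type u) [AddCommGroup M] [Module A M] [Module S M] [IsScalarTower A S M] [Module.Finite S M] (ℳ : ℕ → Submodule A M) [DirectSum.Decomposition ℳ] [SetLike.GradedSMul 𝒜 ℳ] :
    ∃ (r : ℕ) (a : Fin r → KZero.K0sub (fun X : ModuleCat.{u} A => Module.Finite A X)) (N : ℕ), ∀ n : ℕ, N ≤ n →
      KZero.clSub (fun X : ModuleCat.{u} A => Module.Finite A X) (ModuleCat.of A ↥(ℳ n)) = ∑ i : Fin r, ((n.choose (i : ℕ) : ℕ) : ℤ) • a i := by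
  classical
  have hfg : ((HomogeneousIdeal.irrelevant 𝒜).toIdeal).FG := IsNoetherian.noetherian _
  rw [h1] at hfg
  obtain ⟨s', hs's, hspan⟩ := (Submodule.fg_span_iff_fg_span_finset_subset (𝒜 1 : Set S)).mp hfg
  have h1' : (HomogeneousIdeal.irrelevant 𝒜).toIdeal = Ideal.span (s' : Set S) := h1.trans hspan
  have hgen0 := Groth.Agent.GH9.adjoin_eq_top_of_irrelevant 𝒜 h0 s' hs's h1'
  obtain ⟨d, x, hx1, hx2⟩ : ∃ (d : ℕ) (x : ℕ → S), (∀ j, j < d → x j ∈ 𝒜 1) ∧
      (s' : Set S) ⊆ x '' Set.Iio d := by
    refine ⟨s'.card, fun j => if h : j < s'.card then (s'.equivFin.symm ⟨j, h⟩ : S) else 0, ?_, ?_⟩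
    · intro j hj
      simp only [dif_pos hj]
      exact hs's (s'.equivFin.symm ⟨j, hj⟩).2
    · intro y hy
      refine ⟨(s'.equivFin ⟨y, hy⟩ : ℕ), (s'.equivFin ⟨y, hy⟩).2, ?_⟩
      simp
  have hgen : Algebra.adjoin A (x '' Set.Iio d) = ⊤ := by
    rw [eq_top_iff, ← hgen0]; exact Algebra.adjoin_mono hx2
  have hℳ : Groth.Agent.GH9.IsFam ℳ x d ℳ := by
    constructor
    · intro i; exact le_rfl
    · intro j hj i m hm
      have := SetLike.GradedSMul.smul_mem (hx1 j hj) hm
      rwa [vadd_eq_add, add_comm] at this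
  haveI : IsNoetherian S M := isNoetherian_of_isNoetherianRing_of_finite _ _
  have hacc := Groth.Agent.GH9.acc_of_noetherian ℳ x d hgen
  obtain ⟨hnoeth, c, n₀, hc⟩ := Groth.Agent.GH9.main (Groth.Agent.GH9.isAdd_clSub A) hℳ hacc
  obtain ⟨a, ha⟩ := Groth.Agent.GH9.binomial_convert c d
  refine ⟨d, fun i => a i, n₀, fun n hn => ?_⟩
  have h2 := hc n hn
  rw [h2, ha n, Fin.sum_univ_eq_sum_range (fun i => ((n.choose i : ℕ) : ℤ) • a i) d]
  refine Finset.sum_congr rfl fun i _ => ?_
  rw [natCast_zsmul]

end Groth.Agent.S9662
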