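import Groth.Statements.S9663
import Mathlib
-- import your own Groth.Agent.* helpers here

set_option autoImplicit false
universe u
open CAlg
set_option maxSynthPendingDepth 3

namespace Groth.Agent.S9663

/-- Let R be a ring and f_i, i in a finite index set, elements of R (no condition on the ideal they
generate). Suppose given for each i an R-module M_i on which f_i acts invertibly, for each pair (i,
j) an R-linear isomorphism ψ_ij : (M_i)_{f_j} → (M_j)_{f_i}, and suppose the cocycle condition ψ_jk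
∘ ψ_ij = ψ_ik holds as maps (M_i)_{f_j f_k} → (M_k)_{f_i f_j} for all triples (i, j, k). All
localizations are given through their universal properties: (M_i)_{f_j} with its map g from M_i;
(M_i)_{f_j f_k} with its map t from M_i and the compatible maps u from (M_i)_{f_j} and v from
(M_i)_{f_k}; and the three localized isomorphisms Ψ₁ (ψ_ij on (M_i)_{f_j f_k}), Ψ₂ (ψ_jk on
(M_j)_{f_i f_k}) and Ψ₃ (ψ_ik on (M_i)_{f_j f_k}) are given as maps compatible with the ψ's. Let M ⊆
Π_i M_i be the submodule of families (m_i) with m_i/1 = ψ_ji(m_j/1) in (M_i)_{f_j} for all i, j.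
Then for each i the projection M → M_i exhibits M_i as the localization of M at f_i. -/
theorem result {R : Type u} [CommRing R] {ι : Type u} [Finite ι] (f : ι → R)
    (Mi : ι → Type u) [∀ i, AddCommGroup (Mi i)] [∀ i, Module R (Mi i)]
    (hMi : ∀ i, IsUnit (algebraMap R (Module.End R (Mi i)) (f i)))
    (Mij : ι → ι → Type u) [∀ i j, AddCommGroup (Mij i j)] [∀ i j, Module R (Mij i j)]
    (g : ∀ i j, Mi i →ₗ[R] Mij i j) [∀ i j, IsLocalizedModule (Submonoid.powers (f j)) (g i j)]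
    (ψ : ∀ i j, Mij i j ≃ₗ[R] Mij j i)
    (T : ι → ι → ι → Type u) [∀ i j k, AddCommGroup (T i j k)] [∀ i j k, Module R (T i j k)]
    (t : ∀ i j k, Mi i →ₗ[R] T i j k) [∀ i j k, IsLocalizedModule (Submonoid.powers (f j * f k)) (t i j k)]
    (u : ∀ i j k, Mij i j →ₗ[R] T i j k) (hu : ∀ i j k, u i j k ∘ₗ g i j = t i j k)
    (v : ∀ i j k, Mij i k →ₗ[R] T i j k) (hv : ∀ i j k, v i j k ∘ₗ g i k = t i j k)
    (Ψ₁ : ∀ i j k, T i j k →ₗ[R] T j i k) (hΨ₁ : ∀ i j k, Ψ₁ i j k ∘ₗ u i j k = u j i k ∘ₗ (ψ i j).toLinearMap)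
    (Ψ₂ : ∀ i j k, T j i k →ₗ[R] T k i j) (hΨ₂ : ∀ i j k, Ψ₂ i j k ∘ₗ v j i k = v k i j ∘ₗ (ψ j k).toLinearMap)
    (Ψ₃ : ∀ i j k, T i j k →ₗ[R] T k i j) (hΨ₃ : ∀ i j k, Ψ₃ i j k ∘ₗ v i j k = u k i j ∘ₗ (ψ i k).toLinearMap)
    (hcoc : ∀ i j k, Ψ₂ i j k ∘ₗ Ψ₁ i j k = Ψ₃ i j k)
    (M : Submodule R (∀ i, Mi i)) (hM : ∀ m : ∀ i, Mi i, m ∈ M ↔ ∀ i j, g i j (m i) = ψ j i (g j i (m j))) (i : ι) :
    IsLocalizedModule (Submonoid.powers (f i)) ((LinearMap.proj i).comp M.subtype : ↥M →ₗ[R] Mi i) := by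
  classical
  haveI := Fintype.ofFinite ι
  -- (A) `f j` acts injectively on `Mij i j`
  have hA : ∀ (i j : ι) (z : Mij i j) (a : ℕ), f j ^ a • z = 0 → z = 0 := by
    intro i j z a hz
    have hu := IsLocalizedModule.map_units (g i j) (⟨f j ^ a, a, rfl⟩ : Submonoid.powers (f j))
    have hinj := ((Module.End.isUnit_iff _).mp hu).injective
    apply hinj
    rw [map_zero]
    exact hz
  -- (B) `f i` acts bijectively on `Mi i`
  have hBu : ∀ (i : ι) (a : ℕ), IsUnit (algebraMap R (Module.End R (Mi i)) (f i ^ a)) := by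
    intro i a
    rw [map_pow]
    exact (hMi i).pow a
  have hBinj : ∀ (i : ι) (a : ℕ) (x : Mi i), f i ^ a • x = 0 → x = 0 := by
    intro i a x hx
    have hinj := ((Module.End.isUnit_iff _).mp (hBu i a)).injective
    apply hinj
    rw [map_zero]
    exact hx
  have hBsurj : ∀ (i : ι) (a : ℕ) (x : Mi i), ∃ x', f i ^ a • x' = x := by
    intro i a x
    have hsurj := ((Module.End.isUnit_iff _).mp (hBu i a)).surjective
    obtain ⟨x', hx'⟩ := hsurj x
    exact ⟨x', hx'⟩
  -- (C) kernel of `g i j`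
  have hC : ∀ (i j : ι) (x : Mi i), g i j x = 0 → ∃ c : ℕ, f j ^ c • x = 0 := by
    intro i j x hx
    obtain ⟨⟨s, c, rfl⟩, hs⟩ := (IsLocalizedModule.eq_zero_iff (Submonoid.powers (f j)) (g i j)).mp hx
    exact ⟨c, hs⟩
  have hCt : ∀ (i j k : ι) (x : Mi i), t i j k x = 0 → ∃ c : ℕ, (f j * f k) ^ c • x = 0 := by
    intro i j k x hx
    obtain ⟨⟨s, c, rfl⟩, hs⟩ :=
      (IsLocalizedModule.eq_zero_iff (Submonoid.powers (f j * f k)) (t i j k)).mp hx
    exact ⟨c, hs⟩
  -- (D) surjectivity up to powers for `g i j`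
  have hD : ∀ (i j : ι) (z : Mij i j), ∃ (a : ℕ) (w : Mi i), f j ^ a • z = g i j w := by
    intro i j z
    obtain ⟨⟨w, ⟨s, a, rfl⟩⟩, hw⟩ := IsLocalizedModule.surj (Submonoid.powers (f j)) (g i j) z
    exact ⟨a, w, hw⟩
  -- elementwise forms of the compatibilities
  have eu : ∀ i j k (x : Mi i), u i j k (g i j x) = t i j k x :=
    fun i j k x => LinearMap.congr_fun (hu i j k) x
  have ev : ∀ i j k (x : Mi i), v i j k (g i k x) = t i j k x :=
    fun i j k x => LinearMap.congr_fun (hv i j k) x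
  have e1 : ∀ i j k (z : Mij i j), Ψ₁ i j k (u i j k z) = u j i k (ψ i j z) :=
    fun i j k z => LinearMap.congr_fun (hΨ₁ i j k) z
  have e2 : ∀ i j k (z : Mij j k), Ψ₂ i j k (v j i k z) = v k i j (ψ j k z) :=
    fun i j k z => LinearMap.congr_fun (hΨ₂ i j k) z
  have e3 : ∀ i j k (z : Mij i k), Ψ₃ i j k (v i j k z) = u k i j (ψ i k z) :=
    fun i j k z => LinearMap.congr_fun (hΨ₃ i j k) z
  have ec : ∀ i j k (z : T i j k), Ψ₂ i j k (Ψ₁ i j k z) = Ψ₃ i j k z :=
    fun i j k z => LinearMap.congr_fun (hcoc i j k) z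
  -- (a) kernel of `v a b c`
  have hV : ∀ (a b c : ι) (z : Mij a c), v a b c z = 0 → ∃ N : ℕ, f b ^ N • z = 0 := by
    intro a b c z hz
    obtain ⟨e, w, hw⟩ := hD a c z
    have h1 : t a b c w = 0 := by
      rw [← ev, ← hw, map_smul, hz, smul_zero]
    obtain ⟨n, hn⟩ := hCt a b c w h1
    refine ⟨n, hA a c _ (n + e) ?_⟩
    have h2 : g a c ((f b * f c) ^ n • w) = 0 := by rw [hn, map_zero]
    rw [map_smul, ← hw] at h2
    rw [← h2, smul_smul, smul_smul]
    congr 1
    ring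
  -- injectivity of `g i i`
  have hgii : ∀ (i : ι) (x : Mi i), g i i x = 0 → x = 0 := by
    intro i x hx
    obtain ⟨c, hc⟩ := hC i i x hx
    exact hBinj i c x hc
  -- surjectivity of `g i i`
  have hgii_surj : ∀ (i : ι) (z : Mij i i), ∃ x : Mi i, g i i x = z := by
    intro i z
    obtain ⟨a, w, hw⟩ := hD i i z
    obtain ⟨w', hw'⟩ := hBsurj i a w
    refine ⟨w', sub_eq_zero.mp (hA i i (g i i w' - z) a ?_)⟩
    rw [smul_sub, hw, ← hw', map_smul, sub_self]
  -- `ψ i i = id`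
  have hψii : ∀ (i : ι) (z : Mij i i), ψ i i z = z := by
    intro i z
    have huv : ∀ z' : Mij i i, u i i i z' = v i i i z' := by
      intro z'
      obtain ⟨x, rfl⟩ := hgii_surj i z'
      rw [eu, ev]
    have hwinj : ∀ z' : Mij i i, u i i i z' = 0 → z' = 0 := by
      intro z' hz'
      obtain ⟨x, rfl⟩ := hgii_surj i z'
      rw [eu] at hz'
      obtain ⟨c, hc⟩ := hCt i i i x hz'
      rw [← pow_two, ← pow_mul] at hc
      rw [hBinj i _ x hc, map_zero]
    have h1 : u i i i (ψ i i (ψ i i z)) = u i i i (ψ i i z) := by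
      calc u i i i (ψ i i (ψ i i z)) = v i i i (ψ i i (ψ i i z)) := huv _
        _ = Ψ₂ i i i (v i i i (ψ i i z)) := (e2 i i i _).symm
        _ = Ψ₂ i i i (u i i i (ψ i i z)) := by rw [huv]
        _ = Ψ₂ i i i (Ψ₁ i i i (u i i i z)) := by rw [e1]
        _ = Ψ₃ i i i (u i i i z) := ec i i i _
        _ = Ψ₃ i i i (v i i i z) := by rw [huv]
        _ = u i i i (ψ i i z) := e3 i i i z
    have h2 : ψ i i (ψ i i z) - ψ i i z = 0 := by
      apply hwinj
      rw [map_sub, h1, sub_self]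
    exact (ψ i i).injective (sub_eq_zero.mp h2)
  refine ⟨?_, ?_, ?_⟩
  · -- map_units
    rintro ⟨s, a, rfl⟩
    exact hBu i a
  · -- surj
    intro x
    have h1 : ∀ j, ∃ (n : ℕ) (y : Mi j), g j i y = f i ^ n • ψ i j (g i j x) := by
      intro j
      obtain ⟨n, y, hy⟩ := hD j i (ψ i j (g i j x))
      exact ⟨n, y, hy.symm⟩
    choose n0 y0 hy0 using h1
    set n := Finset.univ.sup n0 with hn
    set y : ∀ j, Mi j := fun j => f i ^ (n - n0 j) • y0 j with hydef
    have hy : ∀ j, g j i (y j) = f i ^ n • ψ i j (g i j x) := by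
      intro j
      have hle : n0 j ≤ n := Finset.le_sup (f := n0) (Finset.mem_univ j)
      rw [hydef]
      simp only [map_smul]
      rw [hy0 j, smul_smul, ← pow_add, Nat.sub_add_cancel hle]
    have hyi : y i = f i ^ n • x := by
      have h2 : g i i (y i - f i ^ n • x) = 0 := by
        rw [map_sub, hy i, hψii, map_smul, sub_self]
      exact sub_eq_zero.mp (hgii i _ h2)
    have h3 : ∀ j k, ∃ N : ℕ, f i ^ N • (g j k (y j) - ψ k j (g k j (y k))) = 0 := by
      intro j k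
      apply hV j i k
      rw [map_sub, sub_eq_zero]
      have hL : v j i k (g j k (y j)) = f i ^ n • u j i k (ψ i j (g i j x)) := by
        rw [ev, ← eu, hy j, map_smul]
      have hR : v j i k (ψ k j (g k j (y k))) = f i ^ n • u j i k (ψ i j (g i j x)) := by
        calc v j i k (ψ k j (g k j (y k)))
            = Ψ₂ i k j (v k i j (g k j (y k))) := (e2 i k j _).symm
          _ = Ψ₂ i k j (u k i j (g k i (y k))) := by rw [ev, ← eu]
          _ = f i ^ n • Ψ₂ i k j (u k i j (ψ i k (g i k x))) := by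
              rw [hy k, map_smul, map_smul]
          _ = f i ^ n • Ψ₂ i k j (Ψ₁ i k j (u i k j (g i k x))) := by rw [e1]
          _ = f i ^ n • Ψ₃ i k j (u i k j (g i k x)) := by rw [ec]
          _ = f i ^ n • Ψ₃ i k j (v i k j (g i j x)) := by rw [eu, ← ev]
          _ = f i ^ n • u j i k (ψ i j (g i j x)) := by rw [e3]
      rw [hL, hR]
    choose N0 hN0 using h3
    set N := Finset.univ.sup (fun j => Finset.univ.sup (fun k => N0 j k)) with hN
    have hNle : ∀ j k, N0 j k ≤ N := by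
      intro j k
      have h4 : N0 j k ≤ Finset.univ.sup (fun k => N0 j k) :=
        Finset.le_sup (f := fun k => N0 j k) (Finset.mem_univ k)
      have h5 : Finset.univ.sup (fun k => N0 j k) ≤ N :=
        Finset.le_sup (f := fun j => Finset.univ.sup (fun k => N0 j k)) (Finset.mem_univ j)
      exact h4.trans h5
    have hm : (fun j => f i ^ N • y j) ∈ M := by
      rw [hM]
      intro j k
      simp only [map_smul]
      rw [← sub_eq_zero, ← smul_sub, ← Nat.sub_add_cancel (hNle j k), pow_add, mul_smul, hN0 j k,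
        smul_zero]
    refine ⟨(⟨fun j => f i ^ N • y j, hm⟩, ⟨f i ^ (N + n), N + n, rfl⟩), ?_⟩
    change f i ^ (N + n) • x = f i ^ N • y i
    rw [hyi, smul_smul, pow_add]
  · -- exists_of_eq
    intro x₁ x₂ hx
    have hx' : (x₁ : ∀ j, Mi j) i = (x₂ : ∀ j, Mi j) i := hx
    have hd : ((x₁ - x₂ : ↥M) : ∀ j, Mi j) ∈ M := (x₁ - x₂).2
    rw [hM] at hd
    have h1 : ∀ j, ∃ c : ℕ, f i ^ c • ((x₁ - x₂ : ↥M) : ∀ j, Mi j) j = 0 := by
      intro j
      apply hC j i
      rw [hd j i]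
      have h0 : ((x₁ - x₂ : ↥M) : ∀ j, Mi j) i = 0 := by
        change (x₁ : ∀ j, Mi j) i - (x₂ : ∀ j, Mi j) i = 0
        rw [hx', sub_self]
      rw [h0, map_zero, map_zero]
    choose c0 hc0 using h1
    set c := Finset.univ.sup c0 with hc
    refine ⟨⟨f i ^ c, c, rfl⟩, ?_⟩
    rw [← sub_eq_zero, ← smul_sub]
    apply Subtype.ext
    funext j
    have hle : c0 j ≤ c := Finset.le_sup (f := c0) (Finset.mem_univ j)
    change f i ^ c • ((x₁ - x₂ : ↥M) : ∀ j, Mi j) j = 0
    rw [← Nat.sub_add_cancel hle, pow_add, mul_smul, hc0 j, smul_zero]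

end Groth.Agent.S9663
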