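import Groth.Statements.S9667
import Mathlib
import Groth.Agent.Lib.AssFibre_helper9

set_option autoImplicit false
universe u
open CAlg

namespace Groth.Agent.S9667

open TensorProduct in
/-- Part (3): (B = B_fin): let R → S be a ring map with S Noetherian, N an S-module, M an R-module and q
a prime of S; an associated prime of a module is a prime ideal equal to the annihilator of some
element. If q is an associated prime of the S-module N ⊗_R M, then there is a finitely generated
R-submodule M' ⊆ M such that q is an associated prime of the S-module N ⊗_R M'. -/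
theorem result {R S : Type u} [CommRing R] [CommRing S] [Algebra R S] (N : Type u) [AddCommGroup N] [Module S N] [Module R N] [IsScalarTower R S N] [IsNoetherianRing S]
    (M : Type u) [AddCommGroup M] [Module R M] (q : Ideal S) [q.IsPrime] (h : q ∈ FlatCA.ass S (N ⊗[R] M)) :
    ∃ M' : Submodule R M, M'.FG ∧ q ∈ FlatCA.ass S (N ⊗[R] ↥M') := by
  classical
  obtain ⟨hqp, z, hz⟩ := h
  obtain ⟨M0, hM0, hsub⟩ := TensorProduct.exists_finite_submodule_right_of_setFinite
    ({z} : Set (N ⊗[R] M)) (Set.finite_singleton z)
  obtain ⟨z0, rfl⟩ := hsub (Set.mem_singleton z)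
  have hM0' : M0.FG := Module.Finite.iff_fg.mp hM0
  obtain ⟨gs, hgs⟩ : q.FG := IsNoetherian.noetherian q
  have hann : ∀ g ∈ q, g • (M0.subtype.lTensor N) z0 = 0 := by
    intro g hg
    rw [hz, Submodule.mem_annihilator_span_singleton] at hg
    exact hg
  have key : ∀ (T : Finset S), (∀ g ∈ T, g ∈ q) → ∃ (M' : Submodule R M) (h0 : M0 ≤ M'), M'.FG ∧
      ∀ g ∈ T, g • ((Submodule.inclusion h0).lTensor N) z0 = 0 := by
    intro T
    induction T using Finset.induction_on with
    | empty =>
      intro _
      exact ⟨M0, le_rfl, hM0', by simp⟩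
    | insert g T hgT ih =>
      intro hT
      obtain ⟨M', h0, hM', hk⟩ := ih (fun g' hg' => hT g' (Finset.mem_insert_of_mem hg'))
      have hg : g ∈ q := hT g (Finset.mem_insert_self g T)
      have h1 : (M'.subtype.lTensor N) (g • ((Submodule.inclusion h0).lTensor N) z0) = 0 := by
        rw [Groth.Agent.Lib.AssFibre.lTensor_smul' N, ← LinearMap.comp_apply, ← LinearMap.lTensor_comp,
          Submodule.subtype_comp_inclusion]
        exact hann g hg
      obtain ⟨Q, hPQ, hQ, h2⟩ := Groth.Agent.Lib.AssFibre.lTensor_eq_zero_of_fg N hM' _ h1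
      refine ⟨Q, h0.trans hPQ, hQ, ?_⟩
      have hcomp : ((Submodule.inclusion (h0.trans hPQ)).lTensor N) z0 =
          ((Submodule.inclusion hPQ).lTensor N) (((Submodule.inclusion h0).lTensor N) z0) := by
        rw [← LinearMap.comp_apply, ← LinearMap.lTensor_comp]
        rfl
      intro g' hg'
      rw [hcomp, ← Groth.Agent.Lib.AssFibre.lTensor_smul' N]
      rcases Finset.mem_insert.mp hg' with rfl | hg'
      · exact h2
      · rw [hk g' hg', map_zero]
  obtain ⟨M', h0, hM', hk⟩ := key gs (fun g hg => by rw [← hgs]; exact Ideal.subset_span hg)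
  refine ⟨M', hM', hqp, ((Submodule.inclusion h0).lTensor N) z0, ?_⟩
  apply le_antisymm
  · rw [← hgs, Ideal.span_le]
    intro g hg
    simp only [SetLike.mem_coe, Submodule.mem_annihilator_span_singleton]
    exact hk g hg
  · intro s hs
    rw [Submodule.mem_annihilator_span_singleton] at hs
    rw [hz, Submodule.mem_annihilator_span_singleton]
    have : (M0.subtype.lTensor N) z0 = (M'.subtype.lTensor N) (((Submodule.inclusion h0).lTensor N) z0) := by
      rw [← LinearMap.comp_apply, ← LinearMap.lTensor_comp, Submodule.subtype_comp_inclusion]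
    rw [this, ← Groth.Agent.Lib.AssFibre.lTensor_smul' N, hs, map_zero]

end Groth.Agent.S9667
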