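import Groth.Statements.S9680
import Mathlib
import Groth.Agent.S10854
import Groth.Agent.Lib.BiratStalk_helper7

set_option autoImplicit false
universe u
open CategoryTheory CategoryTheory.Limits AlgebraicGeometry
open Mor

namespace Groth.Agent.S9680

/-- Suppose X and Y are irreducible S-schemes, each locally of finite presentation over S, with generic
points x and y. Then X and Y are S-birational (they admit S-isomorphic nonempty opens) if and only
if x and y map to the same point s of S and the local rings of X at x and of Y at y are isomorphic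
as algebras over the local ring of S at s. -/
theorem result {S X Y : Scheme.{u}}
    [IrreducibleSpace ↥X] [IrreducibleSpace ↥Y] (sX : X ⟶ S) (sY : Y ⟶ S)
    [LocallyOfFinitePresentation sX] [LocallyOfFinitePresentation sY] :
    Scheme.BirationalOver sX sY ↔
      ∃ (hs : sX.base (genericPoint ↥X) = sY.base (genericPoint ↥Y))
        (e : X.presheaf.stalk (genericPoint ↥X) ≅ Y.presheaf.stalk (genericPoint ↥Y)),
        sX.stalkMap (genericPoint ↥X) ≫ e.hom =
          eqToHom (congrArg S.presheaf.stalk hs) ≫ sY.stalkMap (genericPoint ↥Y) := by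
  constructor
  · rintro ⟨p, hp⟩
    exact Groth.Agent.Lib.BiratStalkH7.exists_stalkIso_of_partialIso sX sY p hp
  · rintro ⟨hs, e, he⟩
    have he' : sX.stalkMap (genericPoint ↥X) ≫ e.hom =
        S.presheaf.stalkSpecializes (Inseparable.of_eq (Eq.symm hs)).specializes ≫
          sY.stalkMap (genericPoint ↥Y) := by
      rw [he, Groth.Agent.Lib.BiratStalkH7.eqToHom_eq_stalkSpecializes hs]
    obtain ⟨U, hxU, V, f, hiso, -, h2⟩ :=
      Groth.Agent.S10854.result sY sX (x := genericPoint ↥Y) (y := genericPoint ↥X)
        (Eq.symm hs) e.hom he'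
    haveI := hiso
    refine ⟨⟨V, V.2.dense ⟨(f ⟨genericPoint ↥Y, hxU⟩).1, (f ⟨genericPoint ↥Y, hxU⟩).2⟩, U,
      U.2.dense ⟨_, hxU⟩, (asIso f).symm⟩, ?_⟩
    show inv f ≫ U.ι ≫ sY = V.ι ≫ sX
    rw [IsIso.inv_comp_eq]
    exact h2.symm

end Groth.Agent.S9680
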