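import Groth.Statements.S9681
import Mathlib
import Groth.Agent.Lib.SpreadIsoInt_helper7
import Groth.Agent.Lib.BiratStalk_helper7

set_option autoImplicit false
universe u
open CategoryTheory CategoryTheory.Limits AlgebraicGeometry
open Mor

namespace Groth.Agent.S9681

/-- Suppose X and Y are integral S-schemes, each locally of finite type over S, with generic points x
and y. Then X and Y are S-birational (they admit S-isomorphic nonempty opens) if and only if x and y
map to the same point s of S and the residue fields of x and y are isomorphic as extensions of the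
residue field of s. -/
theorem result {S X Y : Scheme.{u}}
    [IsIntegral X] [IsIntegral Y] (sX : X ⟶ S) (sY : Y ⟶ S)
    [LocallyOfFiniteType sX] [LocallyOfFiniteType sY] :
    Scheme.BirationalOver sX sY ↔
      ∃ (hs : sX.base (genericPoint ↥X) = sY.base (genericPoint ↥Y))
        (e : X.residueField (genericPoint ↥X) ≅ Y.residueField (genericPoint ↥Y)),
        sX.residueFieldMap (genericPoint ↥X) ≫ e.hom =
          eqToHom (congrArg S.residueField hs) ≫ sY.residueFieldMap (genericPoint ↥Y) := by
  haveI hX := Groth.Agent.Lib.SpreadIsoIntH7.isIso_residue_genericPoint X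
  haveI hY := Groth.Agent.Lib.SpreadIsoIntH7.isIso_residue_genericPoint Y
  constructor
  · rintro ⟨p, hp⟩
    obtain ⟨hs, e, he⟩ := Groth.Agent.Lib.BiratStalkH7.exists_stalkIso_of_partialIso sX sY p hp
    refine ⟨hs, (asIso (X.residue (genericPoint ↥X))).symm ≪≫ e ≪≫
      asIso (Y.residue (genericPoint ↥Y)), ?_⟩
    rw [← cancel_epi (S.residue (sX (genericPoint ↥X)))]
    simp only [Iso.trans_hom, Iso.symm_hom, asIso_inv, asIso_hom]
    rw [Scheme.residue_residueFieldMap_assoc, IsIso.hom_inv_id_assoc, reassoc_of% he,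
      reassoc_of% (Groth.Agent.Lib.SpreadIsoIntH7.residue_eqToHom hs),
      Scheme.residue_residueFieldMap]
  · rintro ⟨hs, e, he⟩
    have he' : sX.stalkMap (genericPoint ↥X) ≫
        (X.residue (genericPoint ↥X) ≫ e.hom ≫ inv (Y.residue (genericPoint ↥Y))) =
        S.presheaf.stalkSpecializes (Inseparable.of_eq (Eq.symm hs)).specializes ≫
          sY.stalkMap (genericPoint ↥Y) := by
      rw [← Groth.Agent.Lib.BiratStalkH7.eqToHom_eq_stalkSpecializes hs,
        ← Scheme.residue_residueFieldMap_assoc, reassoc_of% he,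
        reassoc_of% (Groth.Agent.Lib.SpreadIsoIntH7.residue_eqToHom hs),
        Scheme.residue_residueFieldMap_assoc, IsIso.hom_inv_id, Category.comp_id]
    haveI : IsIso (X.residue (genericPoint ↥X) ≫ e.hom ≫ inv (Y.residue (genericPoint ↥Y))) :=
      inferInstance
    obtain ⟨U, hxU, V, -, f, hiso, -, h2⟩ :=
      Groth.Agent.Lib.SpreadIsoIntH7.iso_spread_of_isIntegral sY sX
        (x := genericPoint ↥Y) (y := genericPoint ↥X) (Eq.symm hs)
        (X.residue (genericPoint ↥X) ≫ e.hom ≫ inv (Y.residue (genericPoint ↥Y))) he'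
    haveI := hiso
    refine ⟨⟨V, V.2.dense ⟨(f ⟨genericPoint ↥Y, hxU⟩).1, (f ⟨genericPoint ↥Y, hxU⟩).2⟩, U,
      U.2.dense ⟨_, hxU⟩, (asIso f).symm⟩, ?_⟩
    show inv f ≫ U.ι ≫ sY = V.ι ≫ sX
    rw [IsIso.inv_comp_eq]
    exact h2.symm

end Groth.Agent.S9681
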