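import Groth.Statements.S9682
import Groth.Agent.Lib.SchFT_helper8

set_option autoImplicit false
universe u
open CategoryTheory CategoryTheory.Limits AlgebraicGeometry
open Mor

namespace Groth.Agent.S9682

theorem qf_iff {X Y : Scheme.{u}} (f : X ⟶ Y) [LocallyOfFiniteType f] (x : X) :
    f.QuasiFiniteAt x ↔ IsOpen ({⟨x, rfl⟩} : Set (f.base ⁻¹' {f.base x})) := by
  rw [Scheme.Hom.quasiFiniteAt_iff_isOpen_singleton_asFiber,
    ← (f.fiberHomeo (f.base x)).isOpen_image]
  simp only [Set.image_singleton, Scheme.Hom.asFiber, Homeomorph.apply_symm_apply]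

theorem generic_of_qf {X Y : Scheme.{u}} (f : X ⟶ Y) [LocallyOfFiniteType f] (x : X)
    (hη : ∀ w : Y, w ⤳ f.base x → w = f.base x) (hqf : f.QuasiFiniteAt x) :
    ∀ z : X, z ⤳ x → z = x := by
  intro z hz
  rw [qf_iff, isOpen_induced_iff] at hqf
  obtain ⟨W, hWo, hW⟩ := hqf
  have hxW : x ∈ W := by
    have : (⟨x, rfl⟩ : f.base ⁻¹' {f.base x}) ∈ Subtype.val ⁻¹' W := by rw [hW]; rfl
    exact this
  have hzW : z ∈ W := hz.mem_open hWo hxW
  have hfz : f.base z = f.base x := hη _ (hz.map f.continuous)
  have : (⟨z, hfz⟩ : f.base ⁻¹' {f.base x}) ∈ Subtype.val ⁻¹' W := hzW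
  rw [hW] at this
  exact congrArg Subtype.val this

theorem eq_of_qf_of_specializes {X Y : Scheme.{u}} (f : X ⟶ Y) [LocallyOfFiniteType f] (ξ x : X)
    (hξx : ξ ⤳ x) (hf : f.base x = f.base ξ) (hqf : f.QuasiFiniteAt ξ) : x = ξ := by
  have hcl : IsClosed ({f.asFiber ξ} : Set (f.fiber (f.base ξ))) :=
    hqf.isClopen_singleton_asFiber.1
  rw [← (f.fiberHomeo (f.base ξ)).isClosed_image] at hcl
  simp only [Set.image_singleton, Scheme.Hom.asFiber, Homeomorph.apply_symm_apply] at hcl
  have hsp : (⟨ξ, rfl⟩ : f.base ⁻¹' {f.base ξ}) ⤳ ⟨x, hf⟩ :=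
    (subtype_specializes_iff _ _).mpr hξx
  have := hsp.mem_closed hcl rfl
  exact congrArg Subtype.val this

theorem qf_of_generic {X Y : Scheme.{u}} (f : X ⟶ Y) [LocallyOfFiniteType f] (x : X)
    (h1 : ∀ x' : X, f.base x' = f.base x → ∀ z : X, z ⤳ x' → z = x') : f.QuasiFiniteAt x := by
  haveI : LocallyOfFiniteType (f.fiberToSpecResidueField (f.base x)) :=
    MorphismProperty.pullback_snd _ _ inferInstance
  haveI : IsLocallyNoetherian (f.fiber (f.base x)) :=
    LocallyOfFiniteType.isLocallyNoetherian (f.fiberToSpecResidueField (f.base x))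
  have hdim : topologicalKrullDim (f.fiber (f.base x)) ≤ 0 := by
    have hd : topologicalKrullDim (f.fiber (f.base x)) = Order.krullDim (f.fiber (f.base x)) := by
      unfold topologicalKrullDim
      exact Order.krullDim_eq_of_orderIso (irreducibleSetEquivPoints (α := f.fiber (f.base x)))
    rw [hd, Order.krullDim_nonpos_iff_forall_isMax]
    intro a b hab
    have hab' : b ⤳ a := hab
    have h2 := hab'.map (f.fiberι (f.base x)).continuous
    have h3 : (f.fiberι (f.base x)).base a ∈ Set.range (f.fiberι (f.base x)).base := ⟨a, rfl⟩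
    rw [f.range_fiberι] at h3
    have h4 := h1 _ h3 _ h2
    have h5 := (f.fiberι (f.base x)).isEmbedding.injective h4
    rw [h5]
  haveI : IsLocallyArtinian (f.fiber (f.base x)) :=
    IsLocallyArtinian.of_topologicalKrullDim_le_zero hdim
  rw [Scheme.Hom.quasiFiniteAt_iff_isOpen_singleton_asFiber]
  exact isOpen_discrete _

/-- Take f : X ⟶ Y locally of finite type and η the generic point of some irreducible component of Y.
Three conditions turn out to coincide: (1) each point of X mapping to η is the generic point of some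
irreducible component of X; (2) f is quasi-finite at every point over η; (3) f is quasi-finite at
each point over η that is generic in some irreducible component of X. Stated as (1) iff (2) together
with (1) iff (3). -/
theorem result {X Y : Scheme.{u}} (f : X ⟶ Y)
    [LocallyOfFiniteType f] (η : Y) (hη : closure {η} ∈ irreducibleComponents ↥Y) :
    ((∀ x : X, f.base x = η → closure {x} ∈ irreducibleComponents ↥X) ↔
      (∀ x : X, f.base x = η → f.QuasiFiniteAt x)) ∧
    ((∀ x : X, f.base x = η → closure {x} ∈ irreducibleComponents ↥X) ↔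
      (∀ x : X, f.base x = η → closure {x} ∈ irreducibleComponents ↥X → f.QuasiFiniteAt x)) := by
  classical
  have hηg : ∀ w : Y, w ⤳ η → w = η :=
    (Groth.Agent.SchFTH8.closure_mem_irreducibleComponents_iff η).mp hη
  have h12 : (∀ x : X, f.base x = η → closure {x} ∈ irreducibleComponents ↥X) →
      (∀ x : X, f.base x = η → f.QuasiFiniteAt x) := by
    intro h1 x hx
    subst hx
    apply qf_of_generic f x
    intro x' hx' z hz
    exact (Groth.Agent.SchFTH8.closure_mem_irreducibleComponents_iff x').mp (h1 x' hx') z hz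
  have h21 : (∀ x : X, f.base x = η → f.QuasiFiniteAt x) →
      (∀ x : X, f.base x = η → closure {x} ∈ irreducibleComponents ↥X) := by
    intro h2 x hx
    subst hx
    rw [Groth.Agent.SchFTH8.closure_mem_irreducibleComponents_iff]
    exact generic_of_qf f x hηg (h2 x rfl)
  have h31 : (∀ x : X, f.base x = η → closure {x} ∈ irreducibleComponents ↥X → f.QuasiFiniteAt x) →
      (∀ x : X, f.base x = η → closure {x} ∈ irreducibleComponents ↥X) := by
    intro h3 x hx
    obtain ⟨ξ, hξ⟩ := QuasiSober.sober (isIrreducible_irreducibleComponent (x := x))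
      isClosed_irreducibleComponent
    have hξc : closure ({ξ} : Set X) ∈ irreducibleComponents ↥X := by
      rw [hξ.def]
      exact irreducibleComponent_mem_irreducibleComponents x
    have hξx : ξ ⤳ x := by
      rw [specializes_iff_mem_closure, hξ.def]
      exact mem_irreducibleComponent
    have hfξ : f.base ξ = η := by
      apply hηg
      rw [← hx]
      exact hξx.map f.continuous
    have hqf := h3 ξ hfξ hξc
    have : x = ξ := eq_of_qf_of_specializes f ξ x hξx (by rw [hx, hfξ]) hqf
    rw [this]
    exact hξc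
  exact ⟨⟨h12, h21⟩, ⟨fun h1 x hx _ => h12 h1 x hx, h31⟩⟩

end Groth.Agent.S9682
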