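import Groth.Statements.S9683
import Groth.Agent.Lib.LiftChain_helper8
import Groth.Agent.Lib.ResQuot_helper8
import Groth.Agent.Lib.BCDimSch_helper8
import Groth.Agent.Lib.IntegralHeight_helper5

set_option autoImplicit false
universe u
open CategoryTheory CategoryTheory.Limits AlgebraicGeometry
open Mor

namespace Groth.Agent.S9683

/-- For any integral morphism of schemes f : X ⟶ Y, the dimension of X is at most that of Y, and if f is
surjective then dim X = dim Y (dimensions of the underlying topological spaces). -/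
theorem result {X Y : Scheme.{u}} (f : X ⟶ Y) [IsIntegralHom f] :
    topologicalKrullDim ↥X ≤ topologicalKrullDim ↥Y ∧
      (Surjective f → topologicalKrullDim ↥X = topologicalKrullDim ↥Y) := by
  classical
  refine ⟨?_, fun hs => ?_⟩
  · rw [Groth.Agent.BCDimSchH8.dim_eq_iSup_coheight X, Groth.Agent.BCDimSchH8.dim_eq_iSup_coheight Y]
    apply iSup_le
    intro x
    refine le_trans ?_ (le_iSup (fun y : Y => ((Order.coheight y : ℕ∞) : WithBot ℕ∞)) (f.base x))
    rw [← AlgebraicGeometry.ringKrullDim_stalk_eq_coheight,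
      ← AlgebraicGeometry.ringKrullDim_stalk_eq_coheight]
    obtain ⟨_, ⟨V, hV, rfl⟩, hfxV, -⟩ :=
      Y.isBasis_affineOpens.exists_subset_of_mem_open (Set.mem_univ (f.base x)) isOpen_univ
    have hU : IsAffineOpen (f ⁻¹ᵁ V) := IsAffineHom.isAffine_preimage V hV
    have hxU : x ∈ f ⁻¹ᵁ V := hfxV
    have e : f ⁻¹ᵁ V ≤ f ⁻¹ᵁ V := le_rfl
    rw [Groth.Agent.SchFTH8.ringKrullDim_stalk_eq_height hU x hxU,
      Groth.Agent.SchFTH8.ringKrullDim_stalk_eq_height hV (f.base x) (e hxU),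
      Groth.Agent.ResQuotH8.primeIdealOf_map f hU hV e x hxU]
    have hint : (f.appLE V (f ⁻¹ᵁ V) e).hom.IsIntegral := by
      rw [← Scheme.Hom.app_eq_appLE]
      exact IsIntegralHom.isIntegral_app f V hV
    letI := (f.appLE V (f ⁻¹ᵁ V) e).hom.toAlgebra
    haveI : Algebra.IsIntegral Γ(Y, V) Γ(X, f ⁻¹ᵁ V) := ⟨hint⟩
    haveI : (hU.primeIdealOf ⟨x, hxU⟩).asIdeal.IsPrime := (hU.primeIdealOf ⟨x, hxU⟩).2
    have := Groth.Agent.IntegralHeight.height_le_height_comap_of_isIntegral Γ(Y, V)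
      (hU.primeIdealOf ⟨x, hxU⟩).asIdeal
    exact_mod_cast this
  · apply le_antisymm
    · rw [Groth.Agent.BCDimSchH8.dim_eq_iSup_coheight X,
        Groth.Agent.BCDimSchH8.dim_eq_iSup_coheight Y]
      apply iSup_le
      intro x
      refine le_trans ?_ (le_iSup (fun y : Y => ((Order.coheight y : ℕ∞) : WithBot ℕ∞)) (f.base x))
      rw [← AlgebraicGeometry.ringKrullDim_stalk_eq_coheight,
        ← AlgebraicGeometry.ringKrullDim_stalk_eq_coheight]
      obtain ⟨_, ⟨V, hV, rfl⟩, hfxV, -⟩ :=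
        Y.isBasis_affineOpens.exists_subset_of_mem_open (Set.mem_univ (f.base x)) isOpen_univ
      have hU : IsAffineOpen (f ⁻¹ᵁ V) := IsAffineHom.isAffine_preimage V hV
      have hxU : x ∈ f ⁻¹ᵁ V := hfxV
      have e : f ⁻¹ᵁ V ≤ f ⁻¹ᵁ V := le_rfl
      rw [Groth.Agent.SchFTH8.ringKrullDim_stalk_eq_height hU x hxU,
        Groth.Agent.SchFTH8.ringKrullDim_stalk_eq_height hV (f.base x) (e hxU),
        Groth.Agent.ResQuotH8.primeIdealOf_map f hU hV e x hxU]
      have hint : (f.appLE V (f ⁻¹ᵁ V) e).hom.IsIntegral := by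
        rw [← Scheme.Hom.app_eq_appLE]
        exact IsIntegralHom.isIntegral_app f V hV
      letI := (f.appLE V (f ⁻¹ᵁ V) e).hom.toAlgebra
      haveI : Algebra.IsIntegral Γ(Y, V) Γ(X, f ⁻¹ᵁ V) := ⟨hint⟩
      haveI : (hU.primeIdealOf ⟨x, hxU⟩).asIdeal.IsPrime := (hU.primeIdealOf ⟨x, hxU⟩).2
      have := Groth.Agent.IntegralHeight.height_le_height_comap_of_isIntegral Γ(Y, V)
        (hU.primeIdealOf ⟨x, hxU⟩).asIdeal
      exact_mod_cast this
    · exact Groth.Agent.LiftChainH8.krullDim_le_of_surjective_specializing f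
        (f.isClosedMap).specializingMap hs.surj

end Groth.Agent.S9683
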