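import Groth.Statements.S9686
import Groth.Agent.S9687
import Groth.Agent.Lib.ResQuot2_helper8

set_option autoImplicit false
universe u
open CategoryTheory CategoryTheory.Limits AlgebraicGeometry
open Mor

namespace Groth.Agent.S9686

/-- Let Y be locally Noetherian and f : X ⟶ Y locally of finite type. If E bounds the transcendence
degree of κ(ξ) over κ(f ξ) for every generic point ξ of an irreducible component of X, then dim X ≤
dim Y + E. (The published bound is the supremum of these transcendence degrees; the statement with
any upper bound E is equivalent.) -/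
theorem result {X Y : Scheme.{u}} [IsLocallyNoetherian Y]
    (f : X ⟶ Y) [LocallyOfFiniteType f] (E : ℕ)
    (hE : ∀ ξ : X, closure {ξ} ∈ irreducibleComponents ↥X →
      letI := (f.residueFieldMap ξ).hom.toAlgebra
      Algebra.trdeg (Y.residueField (f.base ξ)) (X.residueField ξ) ≤ E) :
    topologicalKrullDim ↥X ≤ topologicalKrullDim ↥Y + E := by
  classical
  have hdimX : topologicalKrullDim X = Order.krullDim X := by
    unfold topologicalKrullDim
    exact Order.krullDim_eq_of_orderIso (irreducibleSetEquivPoints (α := X))
  have hdimY : topologicalKrullDim Y = Order.krullDim Y := by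
    unfold topologicalKrullDim
    exact Order.krullDim_eq_of_orderIso (irreducibleSetEquivPoints (α := Y))
  rw [hdimX, Order.krullDim_eq_iSup_coheight]
  apply iSup_le
  intro x
  obtain ⟨n, hn⟩ := Groth.Agent.ResQuot2H8.exists_trdeg_nat f x
  have h := Groth.Agent.S9687.result f x n E hn (fun ξ hξ _ => hE ξ hξ)
  rw [AlgebraicGeometry.ringKrullDim_stalk_eq_coheight,
    AlgebraicGeometry.ringKrullDim_stalk_eq_coheight] at h
  have h0 : ((Order.coheight x : ℕ∞) : WithBot ℕ∞) ≤
      (Order.coheight x : ℕ∞) + (n : WithBot ℕ∞) := by
    have : (Order.coheight x : ℕ∞) ≤ Order.coheight x + (n : ℕ∞) := le_self_add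
    exact_mod_cast WithBot.coe_le_coe.mpr this
  calc ((Order.coheight x : ℕ∞) : WithBot ℕ∞) ≤ (Order.coheight x : ℕ∞) + (n : WithBot ℕ∞) := h0
    _ ≤ (Order.coheight (f.base x) : ℕ∞) + (E : WithBot ℕ∞) := h
    _ ≤ topologicalKrullDim Y + E := by
        gcongr
        rw [hdimY]
        exact Order.coheight_le_krullDim _

end Groth.Agent.S9686
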