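import Groth.Statements.S9693
import Mathlib

set_option autoImplicit false
universe u
open CategoryTheory CategoryTheory.Limits AlgebraicGeometry
open Mor

namespace Groth.Agent.S9693

theorem key {C : Type*} [Category C] [HasPullbacks C] {P T S S' X : C} (πP : P ⟶ T) (tS : S ⟶ T)
    (tS' : S' ⟶ T) (g : S' ⟶ S) (hg : g ≫ tS = tS') (f : X ⟶ S) (i : X ⟶ pullback πP tS)
    (hif : i ≫ pullback.snd πP tS = f) :
    ∃ (i' : pullback f g ⟶ pullback πP tS') (γ : pullback πP tS' ⟶ pullback πP tS),
      i' ≫ pullback.snd πP tS' = pullback.snd f g ∧ IsPullback i' (pullback.fst f g) γ i := by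
  let γ : pullback πP tS' ⟶ pullback πP tS :=
    pullback.lift (pullback.fst _ _) (pullback.snd _ _ ≫ g)
      (by rw [pullback.condition, Category.assoc, hg])
  have hγ1 : γ ≫ pullback.fst πP tS = pullback.fst πP tS' := pullback.lift_fst _ _ _
  have hγ2 : γ ≫ pullback.snd πP tS = pullback.snd πP tS' ≫ g := pullback.lift_snd _ _ _
  have hright : IsPullback (pullback.fst πP tS) (pullback.snd πP tS) πP tS :=
    IsPullback.of_hasPullback _ _
  have houter : IsPullback (γ ≫ pullback.fst πP tS) (pullback.snd πP tS') πP (g ≫ tS) := by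
    rw [hγ1, hg]
    exact IsPullback.of_hasPullback _ _
  have hsq : IsPullback γ (pullback.snd πP tS') (pullback.snd πP tS) g :=
    IsPullback.of_right houter hγ2 hright
  let i' : pullback f g ⟶ pullback πP tS' :=
    hsq.lift (pullback.fst f g ≫ i) (pullback.snd f g)
      (by rw [Category.assoc, hif, pullback.condition])
  have hi'1 : i' ≫ γ = pullback.fst f g ≫ i := hsq.lift_fst _ _ _
  have hi'2 : i' ≫ pullback.snd πP tS' = pullback.snd f g := hsq.lift_snd _ _ _
  refine ⟨i', γ, hi'2, ?_⟩
  have houter2 : IsPullback (i' ≫ pullback.snd πP tS') (pullback.fst f g) g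
      (i ≫ pullback.snd πP tS) := by
    rw [hi'2, hif]
    exact (IsPullback.of_hasPullback f g).flip
  exact IsPullback.of_right houter2 hi'1 hsq.flip

/-- A base change of an H-projective morphism (a closed immersion into some P^n over the base followed
by the projection) is H-projective. -/
theorem result {X S S' : Scheme.{u}} (f : X ⟶ S) (hf : RelProj.IsHProjective f)
    (g : S' ⟶ S) : RelProj.IsHProjective (pullback.snd f g) := by
  obtain ⟨n, i, hi, hif⟩ := hf
  obtain ⟨i', γ, h1, h2⟩ := key (CohB1.ProjSpace.toSpec n (ULift.{u} ℤ))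
    (specULiftZIsTerminal.from S) (specULiftZIsTerminal.from S') g
    (specULiftZIsTerminal.hom_ext _ _) f i hif
  exact ⟨n, i', MorphismProperty.of_isPullback h2.flip hi, h1⟩

end Groth.Agent.S9693
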