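import Groth.Statements.S9695
import Mathlib
import Groth.Agent.Lib.VAmpPn9_helper5

set_option autoImplicit false
universe u
open CategoryTheory CategoryTheory.Limits AlgebraicGeometry
open Mor

namespace Groth.Agent.S9695

/-- Suppose f : X ⟶ S is a morphism of finite type and L is an invertible O_X-module. Then L is
f-relatively ample exactly when S can be covered by open subsets V with the following property: for
every such V there is an integer d ≥ 1 for which the tensor power L^{⊗d}, restricted to f⁻¹(V), is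
isomorphic to the pullback of O(1) under some V-immersion of f⁻¹(V) into a projective space P^n_V. -/
theorem result {X S : Scheme.{u}} (f : X ⟶ S)
    [LocallyOfFiniteType f] [QuasiCompact f] (L : X.Modules) (hLinv : PicF.IsInvertible L) :
    RelAmple.IsRelAmple f L ↔
      ∃ (ι : Type u) (V : ι → S.Opens), (⨆ j, V j) = ⊤ ∧
        ∀ j, ∃ d : ℕ, 0 < d ∧
          RelAmple.IsRelVeryAmplePn (f ∣_ V j) ((CohB1.tensorPow L d).restrict (f ⁻¹ᵁ V j).ι) := by
  constructor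
  · intro hL
    refine ⟨S.affineOpens, fun V => V.1, ?_, fun V => ?_⟩
    · rw [eq_top_iff]
      intro s _
      obtain ⟨_, ⟨V, hV, rfl⟩, hsV, -⟩ :=
        (S.isBasis_affineOpens).exists_subset_of_mem_open (Set.mem_univ s) isOpen_univ
      exact TopologicalSpace.Opens.mem_iSup.mpr ⟨⟨V, hV⟩, hsV⟩
    · have hamp : CohB1.IsAmple (L.restrict (f ⁻¹ᵁ V.1).ι) := hL.2 V
      obtain ⟨n₀, h⟩ := Groth.Agent.VAmpPn.isRelVeryAmplePn_of_frame (f ∣_ V.1) hamp
      exact ⟨n₀ + 1, Nat.succ_pos _, h (n₀ + 1) (Nat.le_succ _) _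
        ((TensH8.Frame.pow L (n₀ + 1)).restrict (f ⁻¹ᵁ V.1).ι)⟩
  · rintro ⟨ι, V, hV, h⟩
    apply TensH8.isRelAmple_of_local f hLinv
    intro s
    have hs : s ∈ (⨆ j, V j) := hV ▸ trivial
    obtain ⟨j, hj⟩ := TopologicalSpace.Opens.mem_iSup.mp hs
    refine ⟨V j, hj, fun V' hV' => ?_⟩
    obtain ⟨d, hd, hva⟩ := h j
    have h1 := Groth.Agent.VAmpPn.isRelAmple_of_isRelVeryAmplePn _ hva
    have hLr := TensH8.isInvertible_restrict (f ⁻¹ᵁ V j).ι hLinv
    have h2 : RelAmple.IsRelAmple (f ∣_ V j) (L.restrict (f ⁻¹ᵁ V j).ι) :=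
      (TensH8.isRelAmple_iff_of_frame _ hLr hd
        ((TensH8.Frame.pow L d).restrict (f ⁻¹ᵁ V j).ι)).mpr h1
    have e0 : (V j).ι ''ᵁ ((V j).ι ⁻¹ᵁ V'.1) = V'.1 := by
      rw [Scheme.Hom.image_preimage_eq_opensRange_inf, Scheme.Opens.opensRange_ι]
      exact inf_eq_right.mpr hV'
    have hW : IsAffineOpen ((V j).ι ⁻¹ᵁ V'.1) := by
      rw [← Scheme.Hom.isAffineOpen_iff_of_isOpenImmersion (V j).ι, e0]
      exact V'.2
    have h3 := ((TensH8.isRelAmple_iff (f ∣_ V j) hLr).mp h2).2 ⟨_, hW⟩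
    have h4 := (TensH8.isAmpleOn_restrict_iff (f ⁻¹ᵁ V j).ι hLinv _).mp h3
    have e : (f ⁻¹ᵁ V j).ι ''ᵁ ((f ∣_ V j) ⁻¹ᵁ ((V j).ι ⁻¹ᵁ V'.1)) = f ⁻¹ᵁ V'.1 := by
      rw [image_morphismRestrict_preimage, e0]
    rwa [e] at h4

end Groth.Agent.S9695
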