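import Groth.Statements.S9700
import Mathlib
import Groth.Agent.Lib.RefVal7_helper6
-- import your own Groth.Agent.* helpers here

set_option autoImplicit false
universe u
open CategoryTheory CategoryTheory.Limits AlgebraicGeometry
open Mor

namespace Groth.Agent.S9700

/-- Let f : X ⟶ S and h : U ⟶ X be quasi-compact with h(U) dense in X. Suppose each valuative square
over f, whose map Spec K ⟶ X factors through h, has a unique diagonal lift. Then f is universally
closed, and f is also separated provided it is quasi-separated. -/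
theorem result {U X S : Scheme.{u}} (f : X ⟶ S) (h : U ⟶ X)
    [QuasiCompact f] [QuasiCompact h] (hd : DenseRange h.base)
    (H : ∀ sq : ValuativeCommSq f, (∃ i : Spec (.of sq.K) ⟶ U, i ≫ h = sq.i₁) →
      Nonempty (Unique sq.commSq.LiftStruct)) :
    UniversallyClosed f ∧ (QuasiSeparated f → IsSeparated f) := by

  have hU : Groth.Agent.Lib.RefVal.RefUniq h f := fun z R φ₁ φ₂ a1 a2 h12 => by
    have hφ : Spec.map (CommRingCat.ofHom R.subtype) ≫ (φ₁ ≫ f) =
        U.fromSpecResidueField z ≫ h ≫ f := by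
      rw [← Category.assoc, a1, Category.assoc]
    obtain ⟨u⟩ := H (Groth.Agent.Lib.RefVal.sqOf h f z R (φ₁ ≫ f) hφ)
      ⟨U.fromSpecResidueField z, rfl⟩
    let L₁ : (Groth.Agent.Lib.RefVal.sqOf h f z R (φ₁ ≫ f) hφ).commSq.LiftStruct := ⟨φ₁, a1, rfl⟩
    let L₂ : (Groth.Agent.Lib.RefVal.sqOf h f z R (φ₁ ≫ f) hφ).commSq.LiftStruct :=
      ⟨φ₂, a2, h12.symm⟩
    exact congrArg CommSq.LiftStruct.l (Subsingleton.elim L₁ L₂)
  have hE : Groth.Agent.Lib.RefVal.RefExist h f := fun z R φ hφ => by
    obtain ⟨u⟩ := H (Groth.Agent.Lib.RefVal.sqOf h f z R φ hφ) ⟨U.fromSpecResidueField z, rfl⟩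
    exact ⟨u.default.l, u.default.fac_left, u.default.fac_right⟩
  have h1 := Groth.Agent.Lib.RefVal.uniqueness_of_refUniq h f hd hU
  have h2 := Groth.Agent.Lib.RefVal.existence_of_ref h f hd hE hU
  exact ⟨UniversallyClosed.of_valuativeCriterion f h2,
    fun _ => IsSeparated.of_valuativeCriterion f h1⟩

end Groth.Agent.S9700
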