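import Groth.Statements.S9709
import Groth.Agent.Lib.GDomainSch_helper6
-- import your own Groth.Agent.* helpers here

set_option autoImplicit false
universe u
open CategoryTheory CategoryTheory.Limits AlgebraicGeometry
open Mor

namespace Groth.Agent.S9709

/-- Let f : X ⟶ S be an integral morphism. Then every point x of X is closed in its fibre: a point of
f⁻¹(f x) specialising from x equals x. -/
theorem result {X S : Scheme.{u}} (f : X ⟶ S) [IsIntegralHom f] (x : X) :
    closure {x} ∩ f.base ⁻¹' {f.base x} = {x} := by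
  apply Set.Subset.antisymm
  · rintro y ⟨hy1, hy2⟩
    rw [Set.mem_singleton_iff]
    have hxy : x ⤳ y := specializes_iff_mem_closure.mpr hy1
    have hfy : f.base y = f.base x := hy2
    obtain ⟨V, hV, hxV, -⟩ :=
      TopologicalSpace.Opens.isBasis_iff_nbhd.mp S.isBasis_affineOpens
        (TopologicalSpace.Opens.mem_top (f.base x))
    have hU : IsAffineOpen (f ⁻¹ᵁ V) := hV.preimage f
    have hxU : x ∈ f ⁻¹ᵁ V := hxV
    have hyU : y ∈ f ⁻¹ᵁ V := by
      show f.base y ∈ V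
      rw [hfy]; exact hxV
    have hle : (hU.primeIdealOf ⟨x, hxU⟩).asIdeal ≤ (hU.primeIdealOf ⟨y, hyU⟩).asIdeal :=
      (Groth.Agent.Lib.GDomain.primeIdealOf_le_iff hU hxU hyU).mpr hxy
    have hcx := IsAffineOpen.comap_primeIdealOf_appLE (f := f) V hV (f ⁻¹ᵁ V) hU le_rfl hxU
    have hcy := IsAffineOpen.comap_primeIdealOf_appLE (f := f) V hV (f ⁻¹ᵁ V) hU le_rfl hyU
    have hpp : hV.primeIdealOf ⟨f.base x, le_rfl (a := f ⁻¹ᵁ V) hxU⟩ =
        hV.primeIdealOf ⟨f.base y, le_rfl (a := f ⁻¹ᵁ V) hyU⟩ := by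
      congr 1
      exact Subtype.ext hfy.symm
    have hcomap : (hU.primeIdealOf ⟨x, hxU⟩).comap (f.appLE V (f ⁻¹ᵁ V) le_rfl).hom =
        (hU.primeIdealOf ⟨y, hyU⟩).comap (f.appLE V (f ⁻¹ᵁ V) le_rfl).hom := by
      rw [hcx, hcy, hpp]
    have hint : (f.appLE V (f ⁻¹ᵁ V) le_rfl).hom.IsIntegral := by
      rw [Scheme.Hom.appLE, ]
      have h1 := IsIntegralHom.isIntegral_app f V hV
      simpa using h1
    by_contra hne
    have hlt : (hU.primeIdealOf ⟨x, hxU⟩).asIdeal < (hU.primeIdealOf ⟨y, hyU⟩).asIdeal := by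
      refine lt_of_le_of_ne hle (fun heq => hne ?_)
      have h3 : hU.primeIdealOf ⟨x, hxU⟩ = hU.primeIdealOf ⟨y, hyU⟩ := PrimeSpectrum.ext heq
      have h4 := congrArg (fun p => hU.fromSpec p) h3
      simp only [hU.fromSpec_primeIdealOf] at h4
      exact h4.symm
    obtain ⟨b, hbJ, hbI⟩ := Set.exists_of_ssubset hlt
    letI := (f.appLE V (f ⁻¹ᵁ V) le_rfl).hom.toAlgebra
    haveI := (hU.primeIdealOf ⟨x, hxU⟩).isPrime
    have h5 := Ideal.comap_lt_comap_of_integral_mem_sdiff (R := Γ(S, V)) hle ⟨hbJ, hbI⟩ (hint b)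
    have h6 := congrArg PrimeSpectrum.asIdeal hcomap
    exact absurd h6 (ne_of_lt h5)
  · rintro y hy
    rw [Set.mem_singleton_iff] at hy
    subst hy
    exact ⟨subset_closure rfl, rfl⟩


end Groth.Agent.S9709
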