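import Groth.Statements.S9712
import Mathlib
import Groth.Agent.Lib.VAmpPn10_helper5

set_option autoImplicit false
universe u
open CategoryTheory CategoryTheory.Limits AlgebraicGeometry
open Mor

namespace Groth.Agent.S9712

/-- A morphism f : X ⟶ S is locally quasi-projective (S is covered by opens U with f⁻¹(U) ⟶ U
quasi-projective) if and only if S is covered by opens U such that f⁻¹(U) ⟶ U is H-quasi-projective
(a quasi-compact immersion into some P^n_U followed by the projection). -/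
theorem result {X S : Scheme.{u}} (f : X ⟶ S) :
    (∀ s : S, ∃ U : S.Opens, s ∈ U ∧ RelProj.IsQuasiProjective (f ∣_ U)) ↔
      (∀ s : S, ∃ U : S.Opens, s ∈ U ∧ RelProj.IsHQuasiProjective (f ∣_ U)) := by
  constructor
  · intro h s
    obtain ⟨U, hsU, hU⟩ := h s
    obtain ⟨_, ⟨W, hW, rfl⟩, hsW, -⟩ :=
      ((U : Scheme.{u}).isBasis_affineOpens).exists_subset_of_mem_open
        (Set.mem_univ (⟨s, hsU⟩ : (U : Scheme.{u}))) isOpen_univ
    exact ⟨U.ι ''ᵁ W, ⟨⟨s, hsU⟩, hsW, rfl⟩,
      Groth.Agent.VAmpPn.isHQuasiProjective_of_arrow_iso (morphismRestrictRestrict f U W)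
        (Groth.Agent.VAmpPn.isHQuasiProjective_restrict (f ∣_ U) hU W hW)⟩
  · intro h s
    obtain ⟨U, hsU, hU⟩ := h s
    exact ⟨U, hsU, Groth.Agent.VAmpPn.isQuasiProjective_of_isHQuasiProjective _ hU⟩

end Groth.Agent.S9712
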