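import Groth.Statements.S9719
import Mathlib
import Groth.Agent.S9707
import Groth.Agent.S12474
import Groth.Agent.Lib.Tens45_helper8
import Groth.Agent.Lib.Tens18_helper8

set_option autoImplicit false
universe u
open CategoryTheory CategoryTheory.Limits AlgebraicGeometry
open Mor

namespace Groth.Agent.S9719

/-- (1) ⇒ (2): let f : X ⟶ S be of finite type and L an invertible O_X-module which is very ample
relative to f (isomorphic to the inverse image of O(1) along an S-immersion into the projective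
bundle of a quasi-coherent O_S-module). Then there is an open covering of S by opens V such that,
for each V, the restriction of L to f⁻¹(V) is isomorphic to the inverse image of O(1) along some
immersion of f⁻¹(V) into a projective space P^n_V over V. (The converse implication of the published
statement is not stated here.) -/
theorem result {X S : Scheme.{u}} (f : X ⟶ S)
    [LocallyOfFiniteType f] [QuasiCompact f] (L : X.Modules) (hLinv : PicF.IsInvertible L)
    (hL : RelProj.IsRelVeryAmple f L) :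
    ∃ (ι : Type u) (V : ι → S.Opens), (⨆ j, V j) = ⊤ ∧
      ∀ j, RelAmple.IsRelVeryAmplePn (f ∣_ V j) (L.restrict (f ⁻¹ᵁ V j).ι) := by
  refine ⟨S.affineOpens, fun V => V.1, iSup_affineOpens_eq_top S, fun V => ?_⟩
  haveI : IsAffine ((V.1 : S.Opens) : Scheme.{u}) := V.2
  have h1 : RelProj.IsRelVeryAmple (f ∣_ V.1)
      ((Scheme.Modules.pullback (f ⁻¹ᵁ V.1).ι).obj L) :=
    Groth.Agent.S12474.result f V.1.ι (f ⁻¹ᵁ V.1).ι (f ∣_ V.1)
      (isPullback_morphismRestrict f V.1).flip L hLinv hL
  have e : (Scheme.Modules.pullback (f ⁻¹ᵁ V.1).ι).obj L ≅ L.restrict (f ⁻¹ᵁ V.1).ι :=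
    ((Scheme.Modules.restrictFunctorIsoPullback (f ⁻¹ᵁ V.1).ι).app L).symm
  have h2 : RelProj.IsRelVeryAmple (f ∣_ V.1) (L.restrict (f ⁻¹ᵁ V.1).ι) := by
    obtain ⟨E, hE, 𝒮, j, hj, P, p, chart, hP, O1, lam, hO1, i, hi, hip, ⟨eL⟩⟩ := h1
    exact ⟨E, hE, 𝒮, j, hj, P, p, chart, hP, O1, lam, hO1, i, hi, hip, ⟨e.symm ≪≫ eL⟩⟩
  have hinv : PicF.IsInvertible (L.restrict (f ⁻¹ᵁ V.1).ι) :=
    TensH8.isInvertible_of_iso' e (TensH8.isInvertible_pullback _ hLinv)
  exact Groth.Agent.S9707.result (f ∣_ V.1) _ hinv h2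

end Groth.Agent.S9719
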