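import Groth.Statements.S9721
import Mathlib

set_option autoImplicit false
universe u
open CategoryTheory AlgebraicGeometry
open Mor

namespace Groth.Agent.S9721

/-- Let f : X ⟶ S be a morphism, x a point of X and V an affine open neighbourhood of f(x) in S. Then f
is smooth on some open neighbourhood of x if and only if there is an affine open neighbourhood U of
x with f(U) ⊆ V such that the induced ring map Γ(S, V) ⟶ Γ(X, U) is standard smooth. -/
theorem result {X S : Scheme.{u}} (f : X ⟶ S) (x : X)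
    (V : S.Opens) (hV : IsAffineOpen V) (hxV : f x ∈ V) :
    (∃ W : X.Opens, x ∈ W ∧ Smooth (W.ι ≫ f)) ↔
      ∃ (U : X.Opens) (_ : IsAffineOpen U) (_ : x ∈ U) (e : U ≤ f ⁻¹ᵁ V),
        (f.appLE V U e).hom.IsStandardSmooth := by
  constructor
  · rintro ⟨W, hxW, hsm⟩
    have inst : HasRingHomProperty @Smooth.{u} (RingHom.Locally RingHom.IsStandardSmooth) := by
      convert! (inferInstance : HasRingHomProperty (@Smooth.{u}) RingHom.Smooth)
      ext f
      rw [RingHom.smooth_iff_locally_isStandardSmooth]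
    let x' : W.toScheme := ⟨x, hxW⟩
    have hx'V : x' ∈ (W.ι ≫ f) ⁻¹ᵁ V := hxV
    obtain ⟨V₁, hV₁, hx₁, e₁⟩ :=
      TopologicalSpace.Opens.isBasis_iff_nbhd.mp W.toScheme.isBasis_affineOpens hx'V
    have hloc := (HasRingHomProperty.iff_appLE (P := @Smooth)
      (Q := RingHom.Locally RingHom.IsStandardSmooth)).mp hsm ⟨V, hV⟩ ⟨V₁, hV₁⟩ e₁
    rw [RingHom.locally_iff_isLocalization RingHom.isStandardSmooth_respectsIso] at hloc
    obtain ⟨s, hs, hfs⟩ := hloc
    have hs' := iSup_basicOpen_of_span_eq_top V₁ (s : Set Γ(W.toScheme, V₁)) hs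
    have hxs : x' ∈ (⨆ i ∈ (s : Set Γ(W.toScheme, V₁)), W.toScheme.basicOpen i) := hs'.symm ▸ hx₁
    obtain ⟨r, hr, hrs⟩ : ∃ r ∈ s, x' ∈ W.toScheme.basicOpen r := by simpa using hxs
    have hD : IsAffineOpen (W.toScheme.basicOpen r) := hV₁.basicOpen r
    have hDle : W.toScheme.basicOpen r ≤ (W.ι ≫ f) ⁻¹ᵁ V := (W.toScheme.basicOpen_le r).trans e₁
    have hstd : ((W.ι ≫ f).appLE V (W.toScheme.basicOpen r) hDle).hom.IsStandardSmooth := by
      rw [← (W.ι ≫ f).appLE_map e₁ (homOfLE (W.toScheme.basicOpen_le r)).op]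
      have : IsLocalization.Away r Γ(W.toScheme, W.toScheme.basicOpen r) :=
        hV₁.isLocalization_basicOpen r
      exact hfs r hr _
    have hle : W.ι ''ᵁ (W.toScheme.basicOpen r) ≤ f ⁻¹ᵁ V := by
      rintro _ ⟨y, hy, rfl⟩
      exact hDle hy
    refine ⟨W.ι ''ᵁ (W.toScheme.basicOpen r), hD.image_of_isOpenImmersion W.ι,
      ⟨x', hrs, rfl⟩, hle, ?_⟩
    have hkey : (W.ι ≫ f).appLE V (W.toScheme.basicOpen r) hDle =
        f.appLE V (W.ι ''ᵁ (W.toScheme.basicOpen r)) hle := by
      rw [Scheme.Hom.comp_appLE, Scheme.Opens.ι_appLE]; rfl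
    rw [← hkey]; exact hstd
  · rintro ⟨U, hU, hxU, e, hstd⟩
    refine ⟨U, hxU, ?_⟩
    haveI : IsAffine U := hU
    haveI : IsAffine V := hV
    have h1 : Smooth (f.resLE V U e) := by
      rw [HasRingHomProperty.iff_of_isAffine (P := @Smooth)]
      have hsm : RingHom.Smooth (f.appLE V U e).hom := hstd.smooth
      have : (RingHom.toMorphismProperty RingHom.Smooth).RespectsIso :=
        RingHom.toMorphismProperty_respectsIso_iff.mp RingHom.Smooth.respectsIso
      exact ((RingHom.toMorphismProperty RingHom.Smooth).arrow_mk_iso_iff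
        (arrowResLEAppIso f V U e)).mpr hsm
    rw [← Scheme.Hom.resLE_comp_ι f e]
    infer_instance

end Groth.Agent.S9721
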