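import Groth.Statements.S9722
import Mathlib

set_option autoImplicit false
universe u
open CategoryTheory AlgebraicGeometry
open Mor

namespace Groth.Agent.S9722

/-- Let f : X ⟶ S be a morphism, x a point of X and V an affine open neighbourhood of f(x) in S. Then f
is étale on some open neighbourhood of x if and only if there is an affine open neighbourhood U of x
with f(U) ⊆ V such that Γ(X, U) is a standard étale algebra over Γ(S, V) through the induced ring
map. -/
theorem result {X S : Scheme.{u}} (f : X ⟶ S) (x : X)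
    (V : S.Opens) (hV : IsAffineOpen V) (hxV : f x ∈ V) :
    (∃ W : X.Opens, x ∈ W ∧ Etale (W.ι ≫ f)) ↔
      ∃ (U : X.Opens) (_ : IsAffineOpen U) (_ : x ∈ U) (e : U ≤ f ⁻¹ᵁ V),
        letI := (f.appLE V U e).hom.toAlgebra
        Algebra.IsStandardEtale Γ(S, V) Γ(X, U) := by
  constructor
  · rintro ⟨W, hxW, het⟩
    let x' : W.toScheme := ⟨x, hxW⟩
    have hx'V : x' ∈ (W.ι ≫ f) ⁻¹ᵁ V := hxV
    obtain ⟨V₁, hV₁, hx₁, e₁⟩ :=
      TopologicalSpace.Opens.isBasis_iff_nbhd.mp W.toScheme.isBasis_affineOpens hx'V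
    have hφ : RingHom.Etale ((W.ι ≫ f).appLE V V₁ e₁).hom :=
      (HasRingHomProperty.iff_appLE (P := @Etale)).mp het ⟨V, hV⟩ ⟨V₁, hV₁⟩ e₁
    letI algAB : Algebra Γ(S, V) Γ(W.toScheme, V₁) := ((W.ι ≫ f).appLE V V₁ e₁).hom.toAlgebra
    haveI : Algebra.Etale Γ(S, V) Γ(W.toScheme, V₁) := hφ
    let Q : Ideal Γ(W.toScheme, V₁) :=
      (IsLocalRing.maximalIdeal (W.toScheme.presheaf.stalk x')).comap
        (W.toScheme.presheaf.germ V₁ x' hx₁).hom
    haveI : Q.IsPrime := Ideal.comap_isPrime _ _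
    haveI : Algebra.IsEtaleAt Γ(S, V) Q := by
      show Algebra.FormallyEtale Γ(S, V) (Localization.AtPrime Q)
      exact Algebra.FormallyEtale.comp Γ(S, V) Γ(W.toScheme, V₁) _
    obtain ⟨r, hrQ, hrstd⟩ := Algebra.IsEtaleAt.exists_isStandardEtale (R := Γ(S, V)) Q
    have hrs : x' ∈ W.toScheme.basicOpen r := by
      exact (Scheme.mem_basicOpen _ r x' hx₁).mpr (IsLocalRing.notMem_maximalIdeal.mp hrQ)
    have hD : IsAffineOpen (W.toScheme.basicOpen r) := hV₁.basicOpen r
    have hDle : W.toScheme.basicOpen r ≤ (W.ι ≫ f) ⁻¹ᵁ V := (W.toScheme.basicOpen_le r).trans e₁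
    haveI hloc : IsLocalization.Away r Γ(W.toScheme, W.toScheme.basicOpen r) :=
      hV₁.isLocalization_basicOpen r
    letI algAD : Algebra Γ(S, V) Γ(W.toScheme, W.toScheme.basicOpen r) :=
      ((W.ι ≫ f).appLE V (W.toScheme.basicOpen r) hDle).hom.toAlgebra
    haveI : IsScalarTower Γ(S, V) Γ(W.toScheme, V₁) Γ(W.toScheme, W.toScheme.basicOpen r) := by
      apply IsScalarTower.of_algebraMap_eq'
      simp only [RingHom.algebraMap_toAlgebra]
      rw [← CommRingCat.hom_comp, Scheme.Hom.appLE_map]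
    have hstdD : Algebra.IsStandardEtale Γ(S, V) Γ(W.toScheme, W.toScheme.basicOpen r) :=
      Algebra.IsStandardEtale.of_equiv ((IsLocalization.algEquiv (Submonoid.powers r)
        (Localization.Away r) Γ(W.toScheme, W.toScheme.basicOpen r)).restrictScalars Γ(S, V))
    have hle : W.ι ''ᵁ (W.toScheme.basicOpen r) ≤ f ⁻¹ᵁ V := by
      rintro _ ⟨y, hy, rfl⟩
      exact hDle hy
    refine ⟨W.ι ''ᵁ (W.toScheme.basicOpen r), hD.image_of_isOpenImmersion W.ι,
      ⟨x', hrs, rfl⟩, hle, ?_⟩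
    have hkey : (W.ι ≫ f).appLE V (W.toScheme.basicOpen r) hDle =
        f.appLE V (W.ι ''ᵁ (W.toScheme.basicOpen r)) hle := by
      rw [Scheme.Hom.comp_appLE, Scheme.Opens.ι_appLE]; rfl
    show @Algebra.IsStandardEtale Γ(S, V) Γ(X, W.ι ''ᵁ (W.toScheme.basicOpen r)) _ _
      (f.appLE V _ hle).hom.toAlgebra
    rw [← hkey]
    exact hstdD
  · rintro ⟨U, hU, hxU, e, hstd⟩
    refine ⟨U, hxU, ?_⟩
    haveI : IsAffine U := hU
    haveI : IsAffine V := hV
    have h1 : Etale (f.resLE V U e) := by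
      rw [HasRingHomProperty.iff_of_isAffine (P := @Etale)]
      have hsm : RingHom.Etale (f.appLE V U e).hom := by
        letI := (f.appLE V U e).hom.toAlgebra
        haveI hstd' : Algebra.IsStandardEtale Γ(S, V) Γ(X, U) := hstd
        show Algebra.Etale Γ(S, V) Γ(X, U)
        infer_instance
      have : (RingHom.toMorphismProperty RingHom.Etale).RespectsIso :=
        RingHom.toMorphismProperty_respectsIso_iff.mp RingHom.Etale.respectsIso
      exact ((RingHom.toMorphismProperty RingHom.Etale).arrow_mk_iso_iff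
        (arrowResLEAppIso f V U e)).mpr hsm
    rw [← Scheme.Hom.resLE_comp_ι f e]
    infer_instance

end Groth.Agent.S9722
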