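import Groth.Statements.S9723
import Groth.Agent.Lib.FormalLift_helper5

set_option autoImplicit false
universe u
open FlatMor

namespace Groth.Agent.S9723

open AlgebraicGeometry CategoryTheory in
/-- Let f : X ⟶ S be formally étale (unique infinitesimal lifting against square-zero thickenings of
affine schemes), and let U be an open subscheme of X and V an open subscheme of S such that f maps U
into V. Then the restricted morphism U ⟶ V is formally étale. -/
theorem result {X S : Scheme.{u}} (f : X ⟶ S) (hf : MoreMor.IsFormallyEtaleHom f)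
    (U : X.Opens) (V : S.Opens) (h : U ≤ f ⁻¹ᵁ V) : MoreMor.IsFormallyEtaleHom (f.resLE V U h) := by
  intro A _ I hI a b hab
  have hres : f.resLE V U h ≫ V.ι = U.ι ≫ f := Scheme.Hom.resLE_comp_ι f h
  obtain ⟨l0, ⟨hl0a, hl0b⟩, hl0u⟩ := hf A I hI (a ≫ U.ι) (b ≫ V.ι) (by
    rw [← Category.assoc, hab, Category.assoc, Category.assoc, hres])
  obtain ⟨l, hl⟩ := Groth.Agent.Lib.FormalLift_helper5.exists_lift_open U A I hI a l0 hl0a
  refine ⟨l, ⟨?_, ?_⟩, ?_⟩
  · rw [← cancel_mono U.ι, Category.assoc, hl, hl0a]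
  · rw [← cancel_mono V.ι, Category.assoc, hres, ← Category.assoc, hl, hl0b]
  · rintro l' ⟨hl'a, hl'b⟩
    rw [← cancel_mono U.ι, hl]
    apply hl0u
    refine ⟨?_, ?_⟩
    · rw [← Category.assoc, hl'a]
    · rw [Category.assoc, ← hres, ← Category.assoc, hl'b]

end Groth.Agent.S9723
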