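import Groth.Statements.S9733
import Groth.Agent.Lib.Thickening3_helper7

set_option autoImplicit false
universe u
open OmegaSh

namespace Groth.Agent.S9733

open AlgebraicGeometry CategoryTheory Limits in
/-- Let h : Z ⟶ X and f : Z ⟶ W make Z the fibre product of g : X ⟶ Y and a formally unramified h' : W ⟶
Y, and let (j : W ⟶ W', k : W' ⟶ Y) be universal first-order thickening data for h'. Then the map Z
⟶ X ×_Y W' with components h and f ≫ j, together with the first projection X ×_Y W' ⟶ X, is a
universal first-order thickening for h. The published statement also asserts that h is formally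
unramified and that the pullback along f of the conormal sheaf of W relative to Y surjects onto the
conormal sheaf of Z relative to X; this row states neither. -/
theorem result {Z X W Y W' : Scheme.{u}} (h : Z ⟶ X) (f : Z ⟶ W) (g : X ⟶ Y) (h' : W ⟶ Y)
    [FormallyUnramified h'] (hc : IsPullback h f g h') (j : W ⟶ W') (k : W' ⟶ Y) (hu : OmegaSh.IsUnivThickening h' j k) :
    OmegaSh.IsUnivThickening h (pullback.lift h (f ≫ j) (hc.w.trans (congrArg (f ≫ ·) hu.2.1).symm)) (pullback.fst g k) := by
  obtain ⟨hj, hjk, hu3⟩ := hu
  have hlw : h ≫ g = (f ≫ j) ≫ k := by rw [Category.assoc, hjk]; exact hc.w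
  have hl1 : pullback.lift h (f ≫ j) hlw ≫ pullback.fst g k = h := pullback.lift_fst _ _ _
  have hl2 : pullback.lift h (f ≫ j) hlw ≫ pullback.snd g k = f ≫ j := pullback.lift_snd _ _ _
  refine ⟨?_, hl1, ?_⟩
  · have s : IsPullback f (pullback.lift h (f ≫ j) hlw ≫ pullback.fst g k) (j ≫ k) g := by
      rw [hl1, hjk]
      exact hc.flip
    have top : IsPullback f (pullback.lift h (f ≫ j) hlw) j (pullback.snd g k) :=
      IsPullback.of_bot s hl2.symm (IsPullback.of_hasPullback g k).flip
    exact Groth.Agent.Lib.Thickening3_helper7.fot_of_isPullback j (pullback.snd g k) _ f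
      top.flip hj
  · intro T T' t β α ht hw
    have hw' : t ≫ (β ≫ g) = (α ≫ f) ≫ h' := by
      rw [← Category.assoc, hw, Category.assoc, hc.w, Category.assoc]
    obtain ⟨γ, ⟨hγ1, hγ2⟩, hγu⟩ := hu3 T T' t (β ≫ g) (α ≫ f) ht hw'
    refine ⟨pullback.lift β γ hγ2.symm, ⟨?_, pullback.lift_fst _ _ _⟩, ?_⟩
    · apply pullback.hom_ext
      · rw [Category.assoc, Category.assoc, pullback.lift_fst, hl1, hw]
      · rw [Category.assoc, Category.assoc, pullback.lift_snd, hl2, hγ1, Category.assoc]
    · rintro α' ⟨h1, h2⟩
      apply pullback.hom_ext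
      · rw [h2, pullback.lift_fst]
      · rw [pullback.lift_snd]
        apply hγu
        refine ⟨?_, ?_⟩
        · rw [← Category.assoc, h1, Category.assoc, hl2, Category.assoc]
        · rw [Category.assoc, ← pullback.condition, ← Category.assoc, h2]

end Groth.Agent.S9733
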