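import Groth.Statements.S9734
import Mathlib
import Groth.Agent.Lib.EtRes_helper4

set_option autoImplicit false
universe u
open FlatMor

namespace Groth.Agent.S9734

open AlgebraicGeometry CategoryTheory Limits in
/-- Let S be a scheme, s a point of S and k a finite separable field extension of the residue field
κ(s). Then there is an étale neighbourhood (U, u) ⟶ (S, s) whose residue field extension κ(u)/κ(s)
is isomorphic to k/κ(s). -/
theorem result (S : Scheme.{u}) (s : S) (k : Type u) [Field k]
    [Algebra (S.residueField s) k] [FiniteDimensional (S.residueField s) k] [Algebra.IsSeparable (S.residueField s) k] :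
    ∃ (U : Scheme.{u}) (g : U ⟶ S) (u : U) (hu : g u = s), Etale g ∧
      letI := ((S.residueFieldCongr hu).inv ≫ g.residueFieldMap u).hom.toAlgebra
      Nonempty (k ≃ₐ[S.residueField s] U.residueField u) := by
  obtain ⟨U, g, u, hu, hg, ψ, hbij, hcompat⟩ := Groth.Agent.Lib.EtResH4.main9734 S s k
  refine ⟨U, g, u, hu, hg, ?_⟩
  letI := ((S.residueFieldCongr hu).inv ≫ g.residueFieldMap u).hom.toAlgebra
  have hcomm : ∀ r : S.residueField s,
      ψ.hom (algebraMap (S.residueField s) (U.residueField u) r) =
        algebraMap (S.residueField s) k r := by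
    intro r
    have := congrArg (fun ψ' => ψ'.hom r) hcompat
    exact this
  exact ⟨(AlgEquiv.ofBijective { toRingHom := ψ.hom, commutes' := hcomm } hbij).symm⟩

end Groth.Agent.S9734
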